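import Mathlib
import Groth.Agent.S9932
import Groth.Agent.S9927
import Groth.Agent.Lib.Helper12OpenSub
import Groth.Agent.Lib.Helper12MonoFactor

/-!
# Closed subspaces of an algebraic space from invariant closed subschemes of a chart (helper1)

Given an algebraic space `X` with an étale surjective chart `c : h_U ⟶ X` and a closed subscheme
`i : C ⟶ U` which is invariant under the equivalence relation `U ×_X U` (expressed on functors of
points), we construct the closed subspace `Zbar ⟶ X` with `Zbar ×_X h_U = h_C`.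
-/

set_option autoImplicit false
universe u
open CategoryTheory CategoryTheory.Limits AlgebraicGeometry Opposite
open AlgSp

namespace Groth.Agent.Lib.Helper1.ClosedSub

open Groth.Agent.S13210 Groth.Agent.Lib.Helper12.OpenSub Groth.Agent.Lib.Helper12.ZarGlue

variable {S : Scheme.{u}}

/-- factorizations through a monomorphism of sheaves glue along covering sieves of the source. -/
theorem exists_factor_of_sieve {G H : AlgSp.Sp S} (i : G ⟶ H) [Mono i] {W : Over S}
    (φ : (AlgSp.yon S).obj W ⟶ H) (R : Sieve W) (hR : R ∈ AlgSp.J S W)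
    (h : ∀ ⦃V : Over S⦄ (ψ : V ⟶ W), R ψ →
      ∃ d : (AlgSp.yon S).obj V ⟶ G, d ≫ i = (AlgSp.yon S).map ψ ≫ φ) :
    ∃ d : (AlgSp.yon S).obj W ⟶ G, d ≫ i = φ := by
  have hshG : Presieve.IsSheaf (AlgSp.J S) G.obj := (isSheaf_iff_isSheaf_of_type _ _).1 G.property
  have hshH : Presieve.IsSheaf (AlgSp.J S) H.obj := (isSheaf_iff_isSheaf_of_type _ _).1 H.property
  choose d hd using h
  let x : Presieve.FamilyOfElements G.obj R.arrows := fun V ψ hψ => yEquiv V G (d ψ hψ)
  have hx : x.Compatible := by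
    intro V₁ V₂ Z g₁ g₂ ψ₁ ψ₂ h₁ h₂ hg
    show G.obj.map g₁.op (yEquiv _ G (d ψ₁ h₁)) = G.obj.map g₂.op (yEquiv _ G (d ψ₂ h₂))
    rw [map_yEquiv, map_yEquiv]
    congr 1
    rw [← cancel_mono i, Category.assoc, Category.assoc, hd, hd, ← Functor.map_comp_assoc,
      ← Functor.map_comp_assoc, hg]
  obtain ⟨t, ht, -⟩ := hshG R hR x hx
  refine ⟨(yEquiv _ G).symm t, ?_⟩
  apply (yEquiv _ H).injective
  refine (hshH R hR).isSeparatedFor.ext ?_
  intro V ψ hψ
  rw [map_yEquiv, map_yEquiv, ← hd ψ hψ, ← Category.assoc]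
  congr 2
  apply (yEquiv _ G).injective
  rw [← map_yEquiv, Equiv.apply_symm_apply]
  exact ht ψ hψ

section Construction

variable {X : AlgSp.Sp S} {U C : Over S} (c : (AlgSp.yon S).obj U ⟶ X) (i : C ⟶ U)

/-- invariance of the closed subscheme `C` of the chart `U` under the equivalence relation
`U ×_X U`, on functors of points. -/
def Invariant : Prop :=
  ∀ (T : Over S) (a b : T ⟶ U), (AlgSp.yon S).map a ≫ c = (AlgSp.yon S).map b ≫ c →
    (∃ l : T ⟶ C, l ≫ i = a) → ∃ l : T ⟶ C, l ≫ i = b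

/-- the subfunctor of sections whose pullback to the chart factors through `C`. -/
def sub : Subfunctor X.obj where
  obj T := {ξ | ∀ (T' : Over S) (φ : T' ⟶ T.unop) (a : T' ⟶ U),
    (AlgSp.yon S).map a ≫ c = (AlgSp.yon S).map φ ≫ (yEquiv T.unop X).symm ξ →
      ∃ l : T' ⟶ C, l ≫ i = a}
  map := by
    intro T T₁ g ξ hξ T' φ a h
    have h0 : X.obj.map g ξ = X.obj.map g.unop.op ξ := rfl
    rw [h0, yEquiv_symm_map, ← Category.assoc, ← Functor.map_comp] at h
    exact hξ T' (φ ≫ g.unop) a h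

lemma mem_sub_iff {T : Over S} (ξ : (AlgSp.yon S).obj T ⟶ X) :
    yEquiv T X ξ ∈ (sub c i).obj (op T) ↔
      ∀ (T' : Over S) (φ : T' ⟶ T) (a : T' ⟶ U),
        (AlgSp.yon S).map a ≫ c = (AlgSp.yon S).map φ ≫ ξ → ∃ l : T' ⟶ C, l ≫ i = a := by
  show (∀ (T' : Over S) (φ : T' ⟶ T) (a : T' ⟶ U),
    (AlgSp.yon S).map a ≫ c = (AlgSp.yon S).map φ ≫ (yEquiv T X).symm (yEquiv T X ξ) → _) ↔ _
  rw [Equiv.symm_apply_apply]

lemma sub_isSheaf [Mono i] : Presheaf.IsSheaf (AlgSp.J S) (sub c i).toFunctor := by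
  have hsh : Presieve.IsSheaf (AlgSp.J S) X.obj := (isSheaf_iff_isSheaf_of_type _ _).1 X.property
  rw [isSheaf_iff_isSheaf_of_type, Subfunctor.isSheaf_iff _ hsh]
  rintro ⟨T⟩ s hmem T' φ a h
  have hR := (AlgSp.J S).pullback_stable φ hmem
  haveI : Mono ((AlgSp.yon S).map i) := inferInstance
  obtain ⟨d, hd⟩ := exists_factor_of_sieve ((AlgSp.yon S).map i) ((AlgSp.yon S).map a) _ hR
    (by
      intro V ψ hψ
      have h1 : X.obj.map (ψ ≫ φ).op s ∈ (sub c i).obj (op V) := hψ
      obtain ⟨l, hl⟩ := h1 V (𝟙 V) (ψ ≫ a) (by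
        rw [yEquiv_symm_map, Functor.map_comp, Category.assoc, h, Functor.map_comp,
          Category.assoc, CategoryTheory.Functor.map_id, Category.id_comp])
      exact ⟨(AlgSp.yon S).map l, by rw [← Functor.map_comp, ← Functor.map_comp, hl]⟩)
  obtain ⟨l, rfl⟩ := (AlgSp.yon S).map_surjective d
  refine ⟨l, ?_⟩
  apply (AlgSp.yon S).map_injective
  rw [Functor.map_comp]
  exact hd

variable [Mono i]

/-- the closed subsheaf. -/
noncomputable def obj : AlgSp.Sp S := ⟨(sub c i).toFunctor, sub_isSheaf c i⟩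

/-- the inclusion. -/
noncomputable def incl : obj c i ⟶ X := ObjectProperty.homMk (sub c i).ι

instance : Mono (incl c i) := by
  haveI : Mono (incl c i).hom := inferInstanceAs (Mono (sub c i).ι)
  exact Sheaf.Hom.mono_of_presheaf_mono _ _ _

lemma factor_iff {T : Over S} (ξ : (AlgSp.yon S).obj T ⟶ X) :
    (∃ ξ' : (AlgSp.yon S).obj T ⟶ obj c i, ξ' ≫ incl c i = ξ) ↔
      ∀ (T' : Over S) (φ : T' ⟶ T) (a : T' ⟶ U),
        (AlgSp.yon S).map a ≫ c = (AlgSp.yon S).map φ ≫ ξ → ∃ l : T' ⟶ C, l ≫ i = a := by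
  rw [← mem_sub_iff]
  constructor
  · rintro ⟨a', rfl⟩
    rw [yEquiv_comp]
    exact (yEquiv T (obj c i) a').2
  · intro h
    refine ⟨(yEquiv T (obj c i)).symm ⟨yEquiv T X ξ, h⟩, ?_⟩
    rw [yEquiv_symm_comp]
    apply (yEquiv T X).injective
    rw [Equiv.apply_symm_apply]
    rfl

/-- cancelling a monomorphism in a pullback square. -/
lemma isPullback_of_comp_mono {D : Type*} [Category D] {P A B Y Y' : D} {fst : P ⟶ A}
    {snd : P ⟶ B} {f : A ⟶ Y} {g : B ⟶ Y} (m : Y ⟶ Y') [Mono m]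
    (big : IsPullback fst snd (f ≫ m) (g ≫ m)) : IsPullback fst snd f g := by
  have w : fst ≫ f = snd ≫ g := by
    rw [← cancel_mono m, Category.assoc, Category.assoc]
    exact big.w
  refine IsPullback.of_isLimit' ⟨w⟩ (PullbackCone.IsLimit.mk _
    (fun s => big.lift s.fst s.snd (by
      rw [← Category.assoc, ← Category.assoc, s.condition]))
    (fun s => big.lift_fst _ _ _) (fun s => big.lift_snd _ _ _)
    (fun s l h1 h2 => big.hom_ext (by rw [h1, big.lift_fst]) (by rw [h2, big.lift_snd])))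

/-- the chart of the closed subsheaf. -/
theorem exists_chart (hinv : Invariant c i) :
    ∃ a' : (AlgSp.yon S).obj C ⟶ obj c i,
      IsPullback a' ((AlgSp.yon S).map i) (incl c i) c := by
  obtain ⟨a', ha'⟩ := (factor_iff c i ((AlgSp.yon S).map i ≫ c)).2 (by
    intro T' φ a h
    exact hinv T' (φ ≫ i) a (by rw [Functor.map_comp, Category.assoc, h]) ⟨φ, rfl⟩)
  refine ⟨a', isPullback_of_yon ha' ?_⟩
  intro T b e hbe
  obtain ⟨e₀, rfl⟩ := (AlgSp.yon S).map_surjective e
  obtain ⟨l, hl⟩ := (factor_iff c i (b ≫ incl c i)).1 ⟨b, rfl⟩ T (𝟙 T) e₀ (by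
    rw [CategoryTheory.Functor.map_id, Category.id_comp, hbe])
  haveI : Mono ((AlgSp.yon S).map i) := inferInstance
  refine ⟨(AlgSp.yon S).map l, ⟨?_, ?_⟩, ?_⟩
  · rw [← cancel_mono (incl c i), Category.assoc, ha', ← Category.assoc, ← Functor.map_comp, hl,
      hbe]
  · rw [← Functor.map_comp, hl]
  · rintro a ⟨-, ha2⟩
    rw [← cancel_mono ((AlgSp.yon S).map i), ha2, ← Functor.map_comp, hl]

/-- the closed subsheaf is an algebraic space. -/
theorem isAlgSpace_obj (hX : AlgSp.IsAlgSpace X) (hce : AlgSp.RepWith @Etale c)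
    (hcs : AlgSp.RepWith @Surjective c) (hinv : Invariant c i) :
    AlgSp.IsAlgSpace (obj c i) := by
  obtain ⟨a', sq⟩ := exists_chart c i hinv
  refine ⟨?_, C, a', ?_, ?_⟩
  · refine (Functor.relativelyRepresentable.diag_iff (F := AlgSp.yon S)).2 ?_
    intro T g T' g'
    obtain ⟨V, snd, fst, sq'⟩ := hX.representable_from_yon (g ≫ incl c i) (g' ≫ incl c i)
    exact ⟨V, snd, fst, isPullback_of_comp_mono (incl c i) sq'⟩
  · exact MorphismProperty.of_isPullback (P := AlgSp.RepWith @Etale) sq.flip hce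
  · exact MorphismProperty.of_isPullback (P := AlgSp.RepWith @Surjective) sq.flip hcs

/-- the inclusion of the closed subsheaf is a closed immersion. -/
theorem repWith_incl (hX : AlgSp.IsAlgSpace X) (hce : AlgSp.RepWith @Etale c)
    (hcs : AlgSp.RepWith @Surjective c) (hinv : Invariant c i) (hi : IsClosedImmersion i.left) :
    AlgSp.RepWith @IsClosedImmersion (incl c i) := by
  obtain ⟨a', sq⟩ := exists_chart c i hinv
  exact Groth.Agent.S9932.result (X := ⟨obj c i, isAlgSpace_obj c i hX hce hcs hinv⟩) (Y := ⟨X, hX⟩)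
    @IsClosedImmersion (Or.inl rfl) (ObjectProperty.homMk (incl c i)) U c hce hcs a'
    ((AlgSp.yon S).map i) sq ((AlgSp.repWith_yon_map_iff @IsClosedImmersion i).2 hi)

/-- factoring a morphism of sheaves through the closed subsheaf, on functors of points. -/
theorem exists_factor_iff {F : AlgSp.Sp S} (f : F ⟶ X) :
    (∃ f' : F ⟶ obj c i, f' ≫ incl c i = f) ↔
      ∀ (T : Over S) (ξ : (AlgSp.yon S).obj T ⟶ F) (a : T ⟶ U),
        (AlgSp.yon S).map a ≫ c = ξ ≫ f → ∃ l : T ⟶ C, l ≫ i = a := by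
  constructor
  · rintro ⟨f', rfl⟩ T ξ a h
    exact (factor_iff c i (ξ ≫ f' ≫ incl c i)).1 ⟨ξ ≫ f', by rw [Category.assoc]⟩ T (𝟙 T) a (by
      rw [CategoryTheory.Functor.map_id, Category.id_comp, h])
  · intro h
    have hf : Subfunctor.range f.hom ≤ sub c i := by
      rintro ⟨T⟩ _ ⟨x, rfl⟩
      have h1 : f.hom.app (op T) x = yEquiv T X ((yEquiv T F).symm x ≫ f) := by
        rw [yEquiv_comp, Equiv.apply_symm_apply]
      rw [h1, mem_sub_iff]
      intro T' φ a ha
      exact h T' ((AlgSp.yon S).map φ ≫ (yEquiv T F).symm x) a (by rw [ha, Category.assoc])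
    refine ⟨ObjectProperty.homMk (Subfunctor.lift f.hom hf), ?_⟩
    apply ObjectProperty.hom_ext
    exact Subfunctor.lift_ι f.hom hf

end Construction

end Groth.Agent.Lib.Helper1.ClosedSub
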