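import Mathlib
import Groth.Agent.Lib.Helper1ClosedSub
import Groth.Agent.S9928

/-!
# Closed subspaces and invariant ideal sheaves on a chart (helper1)
-/

set_option autoImplicit false
universe u
open CategoryTheory CategoryTheory.Limits AlgebraicGeometry Opposite
open AlgSp

namespace Groth.Agent.Lib.Helper1.ClosedSub

open Groth.Agent.S13210

variable {S : Scheme.{u}}

/-- a morphism factors through a monomorphism as soon as its composite with an epimorphism
does (in a balanced category with pullbacks). -/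
lemma exists_factor_of_epi {D : Type*} [Category D] [HasPullbacks D] [Balanced D] {W F X Z : D}
    (p : W ⟶ F) [Epi p] (m : Z ⟶ X) [Mono m] (f : F ⟶ X) (g : W ⟶ Z) (hg : g ≫ m = p ≫ f) :
    ∃ f' : F ⟶ Z, f' ≫ m = f := by
  haveI : Mono (pullback.fst f m) := inferInstance
  have hfac : pullback.lift p g hg.symm ≫ pullback.fst f m = p := pullback.lift_fst _ _ _
  haveI : Epi (pullback.fst f m) := epi_of_epi_fac hfac
  haveI : IsIso (pullback.fst f m) := isIso_of_mono_of_epi _
  refine ⟨inv (pullback.fst f m) ≫ pullback.snd f m, ?_⟩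
  rw [Category.assoc, ← pullback.condition, IsIso.inv_hom_id_assoc]

section

variable {X : AlgSp.Sp S} {U C : Over S} (c : (AlgSp.yon S).obj U ⟶ X) (i : C ⟶ U)

/-- invariance of a closed subscheme of the chart in terms of its ideal sheaf. -/
theorem invariant_of_comap_eq {R : Over S} (p₁ p₂ : R ⟶ U)
    (sqR : IsPullback ((AlgSp.yon S).map p₁) ((AlgSp.yon S).map p₂) c c)
    [IsClosedImmersion i.left]
    (stab : i.left.ker.comap p₁.left = i.left.ker.comap p₂.left) : Invariant c i := by
  intro T a b hab ⟨l, hl⟩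
  obtain ⟨r, hr⟩ := (AlgSp.yon S).map_surjective (sqR.lift _ _ hab)
  have hr1 : r ≫ p₁ = a := by
    apply (AlgSp.yon S).map_injective
    rw [Functor.map_comp, hr, sqR.lift_fst]
  have hr2 : r ≫ p₂ = b := by
    apply (AlgSp.yon S).map_injective
    rw [Functor.map_comp, hr, sqR.lift_snd]
  have ha : i.left.ker ≤ a.left.ker := by
    have : a.left = l.left ≫ i.left := (congrArg (fun x => x.left) hl).symm
    rw [this]
    exact Scheme.Hom.le_ker_comp _ _
  have ha' : a.left.ker = r.left.ker.map p₁.left := by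
    have : a.left = r.left ≫ p₁.left := (congrArg (fun x => x.left) hr1).symm
    rw [this, Scheme.Hom.ker_comp]
  have hb' : b.left.ker = r.left.ker.map p₂.left := by
    have : b.left = r.left ≫ p₂.left := (congrArg (fun x => x.left) hr2).symm
    rw [this, Scheme.Hom.ker_comp]
  have hb : i.left.ker ≤ b.left.ker := by
    rw [hb', Scheme.IdealSheafData.le_map_iff_comap_le, ← stab,
      ← Scheme.IdealSheafData.le_map_iff_comap_le, ← ha']
    exact ha
  refine ⟨Over.homMk (IsClosedImmersion.lift i.left b.left hb) ?_, ?_⟩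
  · rw [← Over.w i, ← Category.assoc, IsClosedImmersion.lift_fac, Over.w b]
  · ext
    exact IsClosedImmersion.lift_fac _ _ _

/-- conversely, an invariant closed subscheme has an invariant ideal sheaf. -/
theorem comap_eq_of_invariant {R : Over S} (p₁ p₂ : R ⟶ U)
    (hR : (AlgSp.yon S).map p₁ ≫ c = (AlgSp.yon S).map p₂ ≫ c)
    [IsClosedImmersion i.left]
    (hinv : ∀ (T : Over S) (a b : T ⟶ U), (AlgSp.yon S).map a ≫ c = (AlgSp.yon S).map b ≫ c →
      (∃ l : T ⟶ C, l ≫ i = a) → ∃ l : T ⟶ C, l ≫ i = b) :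
    i.left.ker.comap p₁.left = i.left.ker.comap p₂.left := by
  have hle : ∀ (p q : R ⟶ U), (AlgSp.yon S).map p ≫ c = (AlgSp.yon S).map q ≫ c →
      i.left.ker.comap q.left ≤ i.left.ker.comap p.left := by
    intro p q hpq
    let T' : Over S := Over.mk (pullback.fst p.left i.left ≫ R.hom)
    let f₁ : T' ⟶ R := Over.homMk (pullback.fst p.left i.left) rfl
    let f₂ : T' ⟶ C := Over.homMk (pullback.snd p.left i.left) (by
      show pullback.snd p.left i.left ≫ C.hom = pullback.fst p.left i.left ≫ R.hom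
      rw [← Over.w i, ← Category.assoc, ← pullback.condition, Category.assoc, Over.w p])
    have hf : f₂ ≫ i = f₁ ≫ p := by
      ext
      exact pullback.condition.symm
    obtain ⟨l, hl⟩ := hinv T' (f₁ ≫ p) (f₁ ≫ q)
      (by rw [Functor.map_comp, Functor.map_comp, Category.assoc, Category.assoc, hpq])
      ⟨f₂, hf⟩
    have hl' : l.left ≫ i.left = pullback.fst p.left i.left ≫ q.left :=
      congrArg (fun x => x.left) hl
    rw [← Scheme.IdealSheafData.ker_fst_of_isClosedImmersion,
      ← Scheme.IdealSheafData.ker_fst_of_isClosedImmersion]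
    have : pullback.lift (pullback.fst p.left i.left) l.left hl'.symm ≫
        pullback.fst q.left i.left = pullback.fst p.left i.left := pullback.lift_fst _ _ _
    rw [← this]
    exact Scheme.Hom.le_ker_comp _ _
  exact le_antisymm (hle p₂ p₁ hR.symm) (hle p₁ p₂ hR)

variable [Mono i]

/-- factoring a map from a scheme through the closed subsheaf, in terms of the base change of the
map to the chart. -/
theorem factor_iff_of_isPullback {W₀ W : Over S} (ξ : (AlgSp.yon S).obj W₀ ⟶ X) (w₀ : W ⟶ W₀)
    (w : W ⟶ U) (sq : IsPullback ((AlgSp.yon S).map w₀) ((AlgSp.yon S).map w) ξ c) :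
    (∃ ξ' : (AlgSp.yon S).obj W₀ ⟶ obj c i, ξ' ≫ incl c i = ξ) ↔ ∃ l : W ⟶ C, l ≫ i = w := by
  rw [factor_iff]
  constructor
  · intro h
    exact h W w₀ w sq.w.symm
  · rintro ⟨l, hl⟩ T' φ a ha
    obtain ⟨t, ht⟩ := (AlgSp.yon S).map_surjective (sq.lift _ _ ha.symm)
    have ht2 : t ≫ w = a := by
      apply (AlgSp.yon S).map_injective
      rw [Functor.map_comp, ht, sq.lift_snd]
    exact ⟨t ≫ l, by rw [Category.assoc, hl, ht2]⟩

/-- factoring a map from an algebraic space through the closed subsheaf, in terms of an atlas. -/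
theorem exists_factor_iff_of_atlas {F : AlgSp.Sp S} (f : F ⟶ X) {W₀ W : Over S}
    (p : (AlgSp.yon S).obj W₀ ⟶ F) (hpe : AlgSp.RepWith @Etale p)
    (hps : AlgSp.RepWith @Surjective p) (w₀ : W ⟶ W₀) (w : W ⟶ U)
    (sq : IsPullback ((AlgSp.yon S).map w₀) ((AlgSp.yon S).map w) (p ≫ f) c) :
    (∃ f' : F ⟶ obj c i, f' ≫ incl c i = f) ↔ ∃ l : W ⟶ C, l ≫ i = w := by
  rw [← factor_iff_of_isPullback c i (p ≫ f) w₀ w sq]
  constructor
  · rintro ⟨f', rfl⟩
    exact ⟨p ≫ f', by rw [Category.assoc]⟩
  · rintro ⟨g, hg⟩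
    haveI : Epi p := Groth.Agent.S9927.epi_of_repWith p hpe hps
    exact exists_factor_of_epi p (incl c i) f g hg

end

end Groth.Agent.Lib.Helper1.ClosedSub
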