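import Mathlib
import Groth.Agent.S10509
import Groth.Agent.S10176
import Groth.Agent.Lib.Helper12OpenSub2
import Groth.Agent.Lib.Helper12Reduced

/-!
# Helpers for immersions into scheme theoretic images (helper1)
-/

set_option autoImplicit false
universe u
open CategoryTheory CategoryTheory.Limits AlgebraicGeometry TopologicalSpace
open AlgSp

namespace Groth.Agent.Lib.Helper1.ImmImage

/-- an immersion into a reduced scheme with open range is an open immersion. -/
lemma isOpenImmersion_of_isOpen_range {X Y : Scheme.{u}} (f : X ⟶ Y) [IsImmersion f]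
    [IsReduced Y] (h : IsOpen (Set.range f)) : IsOpenImmersion f := by
  let R : Y.Opens := ⟨Set.range f, h⟩
  have hsub : Set.range f ⊆ Set.range R.ι := by
    rw [Scheme.Opens.range_ι]
    rfl
  let f' : X ⟶ R := IsOpenImmersion.lift R.ι f hsub
  have hf' : f' ≫ R.ι = f := IsOpenImmersion.lift_fac _ _ _
  haveI : IsImmersion (f' ≫ R.ι) := by
    rw [hf']
    infer_instance
  haveI : IsImmersion f' := IsImmersion.of_comp f' R.ι
  have hsurj : Function.Surjective f' := by
    rintro ⟨y, x, rfl⟩
    refine ⟨x, ?_⟩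
    apply Subtype.ext
    change R.ι (f' x) = f x
    rw [← Scheme.Hom.comp_apply, hf']
  haveI : Surjective f' := ⟨hsurj⟩
  haveI : IsClosedImmersion f' := IsClosedImmersion.of_isPreimmersion f' (by
    rw [hsurj.range_eq]
    exact isClosed_univ)
  haveI : IsIso f' := isIso_of_isClosedImmersion_of_surjective f'
  rw [← hf']
  infer_instance

/-- a dense open subscheme of a reduced scheme is schematically dense. -/
lemma isSchematicallyDense_of_dense {X : Scheme.{u}} [IsReduced X] (W : X.Opens)
    (hW : Dense (W : Set X)) : CInt.IsSchematicallyDense W := by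
  intro V'
  rw [injective_iff_map_eq_zero]
  intro s hs
  rw [← AlgebraicGeometry.basicOpen_eq_bot_iff]
  have h1 : X.basicOpen (X.presheaf.map (homOfLE (inf_le_left : V' ⊓ W ≤ V')).op s) = ⊥ := by
    rw [hs]
    simp
  rw [Scheme.basicOpen_res] at h1
  by_contra hne
  have hne' : ((X.basicOpen s : X.Opens) : Set X).Nonempty := by
    rw [Set.nonempty_iff_ne_empty]
    intro h0
    exact hne (SetLike.coe_injective (by rw [h0]; rfl))
  obtain ⟨x, hx, hxW⟩ := hW.inter_open_nonempty _ (X.basicOpen s).2 hne'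
  have hmem : x ∈ ((V' ⊓ W) ⊓ X.basicOpen s : X.Opens) :=
    ⟨⟨X.basicOpen_le s hx, hxW⟩, hx⟩
  rw [h1] at hmem
  exact hmem

variable {S : Scheme.{u}}

/-- the range of the scheme morphism in a pullback square against a chart. -/
lemma range_left_of_isPullback {G X : AlgSp.Sp S} {C U : Over S} {g : G ⟶ X}
    {cU : (AlgSp.yon S).obj U ⟶ X} {fst : (AlgSp.yon S).obj C ⟶ G} {v : C ⟶ U}
    (sq : IsPullback fst ((AlgSp.yon S).map v) g cU) :
    Set.range v.left = AlgSp.Points.ofPt cU ⁻¹' Set.range (AlgSp.Points.map g) := by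
  ext u
  constructor
  · rintro ⟨c₀, rfl⟩
    refine ⟨AlgSp.Points.ofPt fst c₀, ?_⟩
    rw [AlgSp.Points.map_ofPt, sq.w, Groth.Agent.S10509.ofPt_yon_map_comp]
  · intro hu
    have hu' : AlgSp.Points.map cU (AlgSp.Points.ofScheme U u) ∈
        Set.range (AlgSp.Points.map g) := by
      rw [← AlgSp.Points.ofPt_eq_map_ofScheme]
      exact hu
    have h2 : AlgSp.Points.ofScheme U u ∈ Set.range (AlgSp.Points.map ((AlgSp.yon S).map v)) := by
      rw [Groth.Agent.Lib.Helper12.OpenSub.range_map_fst_of_isPullback sq.flip]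
      exact hu'
    obtain ⟨p, hp⟩ := h2
    obtain ⟨c₀, rfl⟩ := (AlgSp.Points.schemeEquiv C).surjective p
    refine ⟨c₀, ?_⟩
    have h3 := congrArg (AlgSp.Points.toScheme U) hp
    rw [AlgSp.Points.toScheme_ofScheme] at h3
    rw [← h3]
    change _ = AlgSp.Points.toScheme U (AlgSp.Points.map _ (AlgSp.Points.ofScheme C c₀))
    rw [AlgSp.Points.map_ofPt, Category.id_comp, AlgSp.Points.toScheme_ofPt]

/-- an étale chart of a reduced sheaf is a reduced scheme. -/
lemma isReduced_of_etale_chart {Z : AlgSp.Sp S} (hZ : AlgSp.IsReducedSp Z) {V : Over S}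
    (a : (AlgSp.yon S).obj V ⟶ Z) (ha : AlgSp.RepWith @Etale a) : IsReduced V.left := by
  obtain ⟨U₀, p, hpe, hps, hred⟩ := hZ
  haveI : IsReduced U₀.left := hred
  obtain ⟨U', q, pr', sq⟩ := hpe.1 a
  obtain ⟨pr, rfl⟩ := (AlgSp.yon S).map_surjective pr'
  -- sq : IsPullback (yon.map pr) (yon.map q) p a
  haveI : Etale q.left := hpe.2 a _ q sq
  haveI : Surjective q.left := hps.2 a _ q sq
  haveI : Etale pr.left := ha.2 p _ pr sq.flip
  haveI : IsReduced U'.left := Groth.Agent.Lib.Helper12.Reduced.isReduced_of_smooth pr.left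
  exact Groth.Agent.Lib.Helper12.Reduced.isReduced_of_flat_of_surjective q.left

end Groth.Agent.Lib.Helper1.ImmImage
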