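import Mathlib

/-!
# Kernels of flat surjective morphisms of schemes (helper1)
-/

set_option autoImplicit false
universe u
open CategoryTheory CategoryTheory.Limits AlgebraicGeometry Opposite

namespace Groth.Agent.Lib.Helper1.KerFlat

variable {X Y Z : Scheme.{u}}

/-- the stalk maps of a flat morphism are injective. -/
lemma stalkMap_injective (f : X ⟶ Y) [Flat f] (x : X) : Function.Injective (f.stalkMap x).hom := by
  algebraize [(f.stalkMap x).hom]
  have : Module.FaithfullyFlat (Y.presheaf.stalk (f x)) (X.presheaf.stalk x) :=
    @Module.FaithfullyFlat.of_flat_of_isLocalHom _ _ _ _ _ _ _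
      (Flat.stalkMap f x) (f.toLRSHom.prop x)
  exact ‹RingHom.FaithfullyFlat _›.injective

/-- functions inject along a flat surjective morphism. -/
lemma app_injective (f : X ⟶ Y) [Flat f] [Surjective f] (U : Y.Opens) :
    Function.Injective (f.app U).hom := by
  rw [injective_iff_map_eq_zero]
  intro s hs
  refine TopCat.Presheaf.section_ext Y.sheaf U s 0 fun y hy => ?_
  obtain ⟨x, rfl⟩ := f.surjective y
  apply stalkMap_injective f x
  have h0 : (Y.sheaf.presheaf.germ U (f x) hy).hom 0 = 0 := map_zero _
  have := Scheme.Hom.germ_stalkMap_apply f U x hy s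
  rw [hs, map_zero] at this
  exact this.trans ((map_zero _).symm.trans (congrArg _ h0.symm))

/-- the kernel of a flat surjective morphism vanishes. -/
lemma ker_eq_bot (f : X ⟶ Y) [Flat f] [Surjective f] : f.ker = ⊥ := by
  rw [eq_bot_iff]
  intro U
  refine (f.ideal_ker_le U).trans ?_
  intro s hs
  rw [RingHom.mem_ker] at hs
  have := app_injective f U.1 (hs.trans (map_zero _).symm)
  simp [this]

/-- precomposing with a flat surjective morphism does not change the kernel. -/
lemma ker_comp (f : X ⟶ Y) [Flat f] [Surjective f] (g : Y ⟶ Z) : (f ≫ g).ker = g.ker := by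
  rw [← Scheme.IdealSheafData.map_ker, ker_eq_bot, Scheme.IdealSheafData.map_bot]

end Groth.Agent.Lib.Helper1.KerFlat
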