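import Mathlib
import Groth.Prelude.Def_AlgSp
import Groth.Agent.S13210
import Groth.Agent.Lib.Helper12ZarGlue
import Groth.Agent.Lib.Helper12MonoFactor

/-!
# Coproducts of schemes over `S` and maps to fppf sheaves (helper1)
-/

set_option autoImplicit false
universe u
open CategoryTheory CategoryTheory.Limits AlgebraicGeometry Opposite
open AlgSp

namespace Groth.Agent.Lib.Helper1.Sig

open Groth.Agent.S13210 Groth.Agent.Lib.Helper12.ZarGlue

variable {S : Scheme.{u}} {K : Type u} (A : K → Over S)

/-- the coproduct of a family of schemes over `S`. -/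
noncomputable def sig : Over S := Over.mk (Sigma.desc fun k => (A k).hom)

/-- the inclusion of a summand. -/
noncomputable def inj (k : K) : A k ⟶ sig A :=
  Over.homMk (Sigma.ι (fun k => (A k).left) k) (by simp [sig])

instance (k : K) : IsOpenImmersion (inj A k).left :=
  inferInstanceAs (IsOpenImmersion (Sigma.ι (fun k => (A k).left) k))

lemma inj_jointly_surjective (x : (sig A).left) : ∃ (k : K) (y : (A k).left), (inj A k).left y = x := by
  obtain ⟨k, y, hy⟩ := (sigmaOpenCover (fun k => (A k).left)).exists_eq x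
  exact ⟨k, y, hy⟩

lemma inj_mem : Sieve.ofArrows A (inj A) ∈ AlgSp.J S (sig A) := by
  rw [GrothendieckTopology.mem_over_iff, Sieve.overEquiv_ofArrows]
  apply Precoverage.generate_mem_toGrothendieck
  rw [Scheme.fppfPrecoverage, Scheme.ofArrows_mem_precoverage_iff]
  refine ⟨fun x => ?_, fun k => ⟨?_, ?_⟩⟩
  · obtain ⟨k, y, hy⟩ := inj_jointly_surjective A x
    exact ⟨k, y, hy⟩
  · exact (inferInstance : Flat (inj A k).left)
  · exact (inferInstance : LocallyOfFinitePresentation (inj A k).left)

lemma hom_ext {B : Over S} (f g : sig A ⟶ B) (h : ∀ k, inj A k ≫ f = inj A k ≫ g) : f = g := by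
  ext1
  apply Sigma.hom_ext
  intro k
  exact congrArg (fun m => m.left) (h k)

/-- the map out of the coproduct. -/
noncomputable def desc {B : Over S} (f : ∀ k, A k ⟶ B) : sig A ⟶ B :=
  Over.homMk (Sigma.desc fun k => (f k).left) (by
    apply Sigma.hom_ext
    intro k
    simp [sig])

@[simp]
lemma inj_desc {B : Over S} (f : ∀ k, A k ⟶ B) (k : K) : inj A k ≫ desc A f = f k := by
  ext1
  exact Sigma.ι_desc _ _

/-- sections of a sheaf over an empty scheme are unique. -/
lemma eq_of_isEmpty {G : AlgSp.Sp S} {Z : Over S} [IsEmpty Z.left] (x y : G.obj.obj (op Z)) :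
    x = y := by
  have hsh : Presieve.IsSheaf (AlgSp.J S) G.obj := (isSheaf_iff_isSheaf_of_type _ _).1 G.property
  have hmem := Groth.Agent.Lib.Helper12.MonoFactor.ofArrows_opens_mem (W := Z) (κ := PEmpty.{u+1})
    (fun k => k.elim) (fun w => (IsEmpty.false w).elim)
  refine (hsh.isSheafFor _ hmem).isSeparatedFor.ext ?_
  rintro Y f ⟨_, _, _, ⟨k⟩, _⟩

/-- maps from the summands of a coproduct to a sheaf glue. -/
theorem exists_desc_sheaf {G : AlgSp.Sp S} (α : ∀ k, (AlgSp.yon S).obj (A k) ⟶ G) :
    ∃ a : (AlgSp.yon S).obj (sig A) ⟶ G, ∀ k, (AlgSp.yon S).map (inj A k) ≫ a = α k := by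
  have hsh : Presieve.IsSheaf (AlgSp.J S) G.obj := (isSheaf_iff_isSheaf_of_type _ _).1 G.property
  have h1 := hsh.isSheafFor _ (inj_mem A)
  rw [Presieve.isSheafFor_arrows_iff] at h1
  obtain ⟨t, ht, -⟩ := h1 (fun k => yEquiv (A k) G (α k)) (by
    intro i j Z gi gj hg
    by_cases hij : i = j
    · subst hij
      haveI : Mono (inj A i).left := inferInstance
      haveI : Mono (inj A i) := (Over.forget S).mono_of_mono_map ‹_›
      rw [(cancel_mono (inj A i)).1 hg]
    · haveI : IsEmpty Z.left := isEmpty_of_commSq_sigmaι_of_ne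
        (g := fun k => (A k).left) (a := gi.left) (b := gj.left)
        ⟨congrArg (fun m => m.left) hg⟩ hij
      exact eq_of_isEmpty _ _)
  refine ⟨(yEquiv _ G).symm t, fun k => ?_⟩
  apply (yEquiv _ G).injective
  rw [← map_yEquiv, Equiv.apply_symm_apply]
  exact ht k

/-- maps from a coproduct to a sheaf are determined by their restrictions to the summands. -/
theorem sheaf_hom_ext {G : AlgSp.Sp S} (a b : (AlgSp.yon S).obj (sig A) ⟶ G)
    (h : ∀ k, (AlgSp.yon S).map (inj A k) ≫ a = (AlgSp.yon S).map (inj A k) ≫ b) : a = b := by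
  have hsh : Presieve.IsSheaf (AlgSp.J S) G.obj := (isSheaf_iff_isSheaf_of_type _ _).1 G.property
  apply (yEquiv _ G).injective
  refine (hsh.isSheafFor _ (inj_mem A)).isSeparatedFor.ext ?_
  intro Y f hf
  obtain ⟨k⟩ := hf
  rw [map_yEquiv, map_yEquiv, h k]

end Groth.Agent.Lib.Helper1.Sig
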