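import Mathlib
import Groth.Prelude.Def_AlgSp4
import Groth.Agent.Lib.Helper1Sigma
import Groth.Agent.S10180
import Groth.Agent.S10175
import Groth.Agent.S10177
import Groth.Agent.S9874
import Groth.Agent.S9906

/-!
# Quasi-compact atlases of quasi-compact morphisms of algebraic spaces (helper1)
-/

set_option autoImplicit false
universe u
open CategoryTheory CategoryTheory.Limits AlgebraicGeometry Opposite
open AlgSp

namespace Groth.Agent.Lib.Helper1.QcAtlas

open Groth.Agent.Lib.Helper1

variable {S : Scheme.{u}}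

/-- a property local on the source can be checked on the summands of a coproduct. -/
theorem repWith_of_sigma (P : MorphismProperty Scheme.{u}) [IsZariskiLocalAtSource P]
    {K : Type u} (A : K → Over S) {G : AlgSp.Sp S} (a : (AlgSp.yon S).obj (Sig.sig A) ⟶ G)
    (hrep : AlgSp.Representable a)
    (h : ∀ k, AlgSp.RepWith P ((AlgSp.yon S).map (Sig.inj A k) ≫ a)) : AlgSp.RepWith P a := by
  refine ⟨hrep, fun T V ξ pr v sq => ?_⟩
  obtain ⟨p, rfl⟩ := (AlgSp.yon S).map_surjective pr
  change P v.left
  let 𝒱 := (sigmaOpenCover (fun k => (A k).left)).pullback₁ p.left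
  rw [IsZariskiLocalAtSource.iff_of_openCover (P := P) 𝒱]
  intro k
  let Vk : Over S := Over.mk (pullback.fst p.left (Sigma.ι (fun k => (A k).left) k) ≫ V.hom)
  let φk : Vk ⟶ V := Over.homMk (pullback.fst p.left (Sigma.ι (fun k => (A k).left) k)) rfl
  let ψk : Vk ⟶ A k := Over.homMk (pullback.snd p.left (Sigma.ι (fun k => (A k).left) k)) (by
    show pullback.snd p.left (Sigma.ι (fun k => (A k).left) k) ≫ (A k).hom =
      pullback.fst p.left (Sigma.ι (fun k => (A k).left) k) ≫ V.hom
    rw [← Over.w (Sig.inj A k), ← Over.w p]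
    exact (pullback.condition_assoc _).symm)
  have sqL : IsPullback φk.left ψk.left p.left (Sig.inj A k).left :=
    IsPullback.of_hasPullback p.left (Sigma.ι (fun k => (A k).left) k)
  have sqO : IsPullback φk ψk p (Sig.inj A k) :=
    IsPullback.of_map (Over.forget S) (by ext; exact pullback.condition) sqL
  have sqA := sqO.map (AlgSp.yon S)
  have big := sqA.paste_horiz sq.flip
  rw [← Functor.map_comp] at big
  exact (h k).2 ξ ((AlgSp.yon S).map ψk) (φk ≫ v) big.flip

/-- a quasi-compact morphism of algebraic spaces has an atlas, over an atlas of the target, which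
is quasi-compact over it. -/
theorem exists_qc_atlas {Y V : AlgSp.Sp S} (hY : AlgSp.IsAlgSpace Y) (hV : AlgSp.IsAlgSpace V)
    (g : V ⟶ Y) (hg : AlgSp.IsQuasiCompactMor g) :
    ∃ (U : Over S) (c : (AlgSp.yon S).obj U ⟶ Y) (W : Over S)
      (a : (AlgSp.yon S).obj W ⟶ pullback g c) (w : W ⟶ U),
      AlgSp.RepWith @Etale c ∧ AlgSp.RepWith @Surjective c ∧ AlgSp.RepWith @Etale a ∧
      AlgSp.RepWith @Surjective a ∧ (AlgSp.yon S).map w = a ≫ pullback.snd g c ∧
      QuasiCompact w.left := by
  obtain ⟨U₀, c₀, hce₀, hcs₀⟩ := hY.atlas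
  let 𝒰 := U₀.left.affineCover
  let T : 𝒰.I₀ → Over S := fun k => Over.mk (𝒰.f k ≫ U₀.hom)
  let t : ∀ k, T k ⟶ U₀ := fun k => Over.homMk (𝒰.f k) rfl
  haveI hTaff : ∀ k, IsAffine (T k).left := fun k => by
    change IsAffine (𝒰.X k)
    infer_instance
  let U : Over S := Sig.sig T
  let e : U ⟶ U₀ := Sig.desc T t
  haveI : Etale e.left := by
    change Etale (Sigma.desc fun k => (t k).left)
    exact IsZariskiLocalAtSource.sigmaDesc (fun k => (inferInstance : Etale (𝒰.f k)))
  haveI : Surjective e.left := by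
    constructor
    intro u
    obtain ⟨k, y, hy⟩ := 𝒰.exists_eq u
    refine ⟨(Sig.inj T k).left y, ?_⟩
    have : (Sig.inj T k).left ≫ e.left = (t k).left := congrArg (fun m => m.left) (Sig.inj_desc T t k)
    rw [← Scheme.Hom.comp_apply, this]
    exact hy
  let c : (AlgSp.yon S).obj U ⟶ Y := (AlgSp.yon S).map e ≫ c₀
  have hce : AlgSp.RepWith @Etale c := MorphismProperty.comp_mem _ _ _
    ((AlgSp.repWith_yon_map_iff _ _).2 (inferInstance : Etale e.left)) hce₀
  have hcs : AlgSp.RepWith @Surjective c := MorphismProperty.comp_mem _ _ _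
    ((AlgSp.repWith_yon_map_iff _ _).2 (inferInstance : Surjective e.left)) hcs₀
  -- the affine pieces
  let b : ∀ k, (AlgSp.yon S).obj (T k) ⟶ Y := fun k => (AlgSp.yon S).map (Sig.inj T k) ≫ c
  have hXk : ∀ k, AlgSp.IsQuasiCompactSp (pullback g (b k)) := fun k => by
    have hTk : AlgSp.IsAlgSpace ((AlgSp.yon S).obj (T k)) := AlgSp.IsAlgSpace.yon_obj _
    have hTq : AlgSp.IsQuasiCompactSp ((AlgSp.yon S).obj (T k)) := by
      refine ⟨T k, 𝟙 _, ?_, ?_, inferInstance⟩
      · rw [← (AlgSp.yon S).map_id]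
        exact (AlgSp.repWith_yon_map_iff _ _).2 (by dsimp; infer_instance)
      · rw [← (AlgSp.yon S).map_id]
        exact (AlgSp.repWith_yon_map_iff _ _).2 (by dsimp; infer_instance)
    exact hg hTk hTq (b k) _ _ (IsPullback.of_hasPullback g (b k))
  choose Wk ak hWaff hake haks using fun k => Groth.Agent.S10180.exists_affine_chart (hXk k)
  choose wk hwk using fun k => (AlgSp.yon S).map_surjective (ak k ≫ pullback.snd g (b k))
  let W : Over S := Sig.sig Wk
  let w : W ⟶ U := Sig.desc Wk (fun k => wk k ≫ Sig.inj T k)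
  -- the open pieces of the fibre product
  let o : ∀ k, pullback g (b k) ⟶ pullback g c := fun k =>
    pullback.lift (pullback.fst g (b k)) (pullback.snd g (b k) ≫ (AlgSp.yon S).map (Sig.inj T k))
      (by rw [Category.assoc]; exact pullback.condition)
  have ho1 : ∀ k, o k ≫ pullback.fst g c = pullback.fst g (b k) := fun k => pullback.lift_fst _ _ _
  have ho2 : ∀ k, o k ≫ pullback.snd g c =
      pullback.snd g (b k) ≫ (AlgSp.yon S).map (Sig.inj T k) := fun k => pullback.lift_snd _ _ _
  have sqo : ∀ k, IsPullback (o k) (pullback.snd g (b k)) (pullback.snd g c)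
      ((AlgSp.yon S).map (Sig.inj T k)) := fun k => by
    refine IsPullback.of_right (h₁₂ := pullback.fst g c) (v₁₃ := g) (h₂₂ := c) ?_ (ho2 k)
      (IsPullback.of_hasPullback g c)
    rw [ho1 k]
    exact IsPullback.of_hasPullback g (b k)
  have hoe : ∀ k, AlgSp.RepWith @Etale (o k) := fun k =>
    MorphismProperty.of_isPullback (P := AlgSp.RepWith @Etale) (sqo k).flip
      ((AlgSp.repWith_yon_map_iff _ _).2 (inferInstance : Etale (Sig.inj T k).left))
  -- the glued atlas
  obtain ⟨a, ha⟩ := Sig.exists_desc_sheaf Wk (fun k => ak k ≫ o k)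
  have haw : (AlgSp.yon S).map w = a ≫ pullback.snd g c := by
    apply Sig.sheaf_hom_ext
    intro k
    rw [← Functor.map_comp, Sig.inj_desc, ← Category.assoc, ha k, Category.assoc, ho2 k,
      ← Category.assoc, ← hwk k, Functor.map_comp]
  have hP : AlgSp.IsAlgSpace (pullback g c) :=
    Groth.Agent.S9874.result S Y hY.diag ⟨V, hV⟩ ⟨_, AlgSp.IsAlgSpace.yon_obj U⟩ g c _ _ _
      (IsPullback.of_hasPullback g c)
  have harep : AlgSp.Representable a := hP.representable_from_yon a
  have hae : AlgSp.RepWith @Etale a := by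
    refine repWith_of_sigma @Etale Wk a harep fun k => ?_
    rw [ha k]
    exact MorphismProperty.comp_mem _ _ _ (hake k) (hoe k)
  have has : AlgSp.RepWith @Surjective a := by
    rw [Groth.Agent.S9906.repWith_surjective_iff a harep]
    intro x'
    obtain ⟨u₀, hu₀⟩ := (AlgSp.Points.schemeHomeo U).surjective
      (AlgSp.Points.map (pullback.snd g c) x')
    obtain ⟨k, y, hy⟩ := Sig.inj_jointly_surjective T u₀
    obtain ⟨xk, hxk, -⟩ := Groth.Agent.S10175.exists_point_of_isPullback (sqo k)
      x' (AlgSp.Points.ofScheme (T k) y) (by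
        rw [← hu₀, ← hy]
        show _ = AlgSp.Points.map _ (AlgSp.Points.ofPt (𝟙 _) y)
        rw [AlgSp.Points.map_ofPt, Category.id_comp]
        exact (Groth.Agent.S10288.ofPt_yon_map (Sig.inj T k) y).symm)
    obtain ⟨ω, rfl⟩ := Groth.Agent.S10177.surjective_ofPt (ak k) (haks k) xk
    refine ⟨AlgSp.Points.ofPt ((AlgSp.yon S).map (Sig.inj Wk k)) ω, ?_⟩
    rw [AlgSp.Points.map_ofPt, ha k, ← hxk, AlgSp.Points.map_ofPt]
  refine ⟨U, c, W, a, w, hce, hcs, hae, has, haw, ?_⟩
  -- quasi-compactness
  have hUl : U.left = ∐ fun k => (T k).left := rfl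
  refine (IsZariskiLocalAtTarget.iff_of_openCover (P := @QuasiCompact) (f := w.left)
    (hUl ▸ sigmaOpenCover (fun k => (T k).left))).2 ?_
  intro k
  haveI : IsAffine ((sigmaOpenCover (fun k => (T k).left)).X k) := hTaff k
  change QuasiCompact (pullback.snd w.left (Sigma.ι (fun k => (T k).left) k))
  rw [quasiCompact_iff_compactSpace]
  have hwk' : (Sig.inj Wk k).left ≫ w.left = (wk k).left ≫ (Sig.inj T k).left :=
    congrArg (fun m => m.left) (Sig.inj_desc Wk (fun k => wk k ≫ Sig.inj T k) k)
  let m : (Wk k).left ⟶ pullback w.left (Sigma.ι (fun k => (T k).left) k) :=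
    pullback.lift (Sig.inj Wk k).left (wk k).left hwk'
  have hm : Function.Surjective m := by
    intro z
    obtain ⟨j, x', hx'⟩ := Sig.inj_jointly_surjective Wk
      (pullback.fst w.left (Sigma.ι (fun k => (T k).left) k) z)
    have hjk : j = k := by
      have h1 : (Sig.inj T j).left ((wk j).left x') =
          (Sig.inj T k).left (pullback.snd w.left (Sigma.ι (fun k => (T k).left) k) z) := by
        have hwj : (Sig.inj Wk j).left ≫ w.left = (wk j).left ≫ (Sig.inj T j).left :=
          congrArg (fun m => m.left) (Sig.inj_desc Wk (fun k => wk k ≫ Sig.inj T k) j)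
        rw [← Scheme.Hom.comp_apply, ← hwj, Scheme.Hom.comp_apply, hx', ← Scheme.Hom.comp_apply,
          pullback.condition, Scheme.Hom.comp_apply]
        rfl
      have h2 := (sigmaι_eq_iff (fun k => (T k).left) j k _ _).1 h1
      exact congrArg Sigma.fst h2
    subst hjk
    refine ⟨x', ?_⟩
    haveI : IsOpenImmersion (pullback.fst w.left (Sigma.ι (fun k => (T k).left) j)) :=
      MorphismProperty.pullback_fst (P := @IsOpenImmersion) _ _
        (inferInstance : IsOpenImmersion (Sigma.ι (fun k => (T k).left) j))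
    apply (pullback.fst w.left (Sigma.ι (fun k => (T k).left) j)).isOpenEmbedding.injective
    rw [← Scheme.Hom.comp_apply, pullback.lift_fst]
    exact hx'
  constructor
  rw [← Set.range_eq_univ.2 hm]
  haveI : CompactSpace (Wk k).left := inferInstance
  exact isCompact_range m.continuous

end Groth.Agent.Lib.Helper1.QcAtlas
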