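import Mathlib
import Groth.Prelude.Def_AlgSpSub

/-!
# Scheme theoretically dense opens and kernels (helper1)
-/

set_option autoImplicit false
universe u
open CategoryTheory CategoryTheory.Limits AlgebraicGeometry Opposite
open AlgSp

namespace Groth.Agent.Lib.Helper1.SchDense

/-- the restriction maps computing `W.ι.app`. -/
lemma injective_app_iff {V : Scheme.{u}} (W : V.Opens) (A : V.Opens) :
    Function.Injective (W.ι.app A).hom ↔
      Function.Injective (V.presheaf.map (homOfLE (inf_le_left : A ⊓ W ≤ A)).op).hom := by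
  rw [Scheme.Opens.ι_app]
  have key : ∀ (O : V.Opens) (_ : O = A ⊓ W) (hle : O ≤ A),
      (Function.Injective (V.presheaf.map (homOfLE hle).op).hom ↔
        Function.Injective (V.presheaf.map (homOfLE (inf_le_left : A ⊓ W ≤ A)).op).hom) := by
    rintro O rfl hle
    rfl
  refine key _ ?_ _
  rw [Scheme.Hom.image_preimage_eq_opensRange_inf, Scheme.Opens.opensRange_ι, inf_comm]

/-- a scheme theoretically dense open has trivial kernel. -/
lemma ker_ι_eq_bot_of_dense {V : Scheme.{u}} (W : V.Opens) (h : CInt.IsSchematicallyDense W) :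
    W.ι.ker = ⊥ := by
  rw [eq_bot_iff]
  intro A
  refine (W.ι.ideal_ker_le A).trans ?_
  intro s hs
  rw [RingHom.mem_ker] at hs
  have hinj := (injective_app_iff W A.1).2 (h A.1)
  have := hinj (hs.trans (map_zero _).symm)
  simp [this]

/-- a quasi-compact open with trivial kernel is scheme theoretically dense. -/
lemma dense_of_ker_ι_eq_bot {V : Scheme.{u}} (W : V.Opens) [QuasiCompact W.ι] (h : W.ι.ker = ⊥) :
    CInt.IsSchematicallyDense W := by
  intro V'
  rw [injective_iff_map_eq_zero]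
  intro s hs
  refine V.IsSheaf.section_ext (U := op V') (s := s) (t := 0) fun x hx => ?_
  have hx' : x ∈ V' := hx
  obtain ⟨_, ⟨A, hA, rfl⟩, hxA, hAV⟩ :=
    V.isBasis_affineOpens.exists_subset_of_mem_open hx' V'.2
  have hAV' : A ≤ V' := hAV
  refine ⟨A, hAV', hxA, ?_⟩
  rw [map_zero]
  have hle : W.ι ''ᵁ W.ι ⁻¹ᵁ A ≤ V' ⊓ W := by
    rw [Scheme.Hom.image_preimage_eq_opensRange_inf, Scheme.Opens.opensRange_ι, inf_comm]
    exact inf_le_inf_right _ hAV'
  have e2 : (W.ι.app A).hom ((V.presheaf.map (homOfLE hAV').op).hom s) = 0 := by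
    change (V.presheaf.map (homOfLE (W.ι.image_preimage_le A)).op).hom
      ((V.presheaf.map (homOfLE hAV').op).hom s) = 0
    rw [← CommRingCat.comp_apply, ← V.presheaf.map_comp]
    have e0 : (homOfLE hAV').op ≫ (homOfLE (W.ι.image_preimage_le A)).op =
        (homOfLE (inf_le_left : V' ⊓ W ≤ V')).op ≫ (homOfLE hle).op := Subsingleton.elim _ _
    rw [e0, V.presheaf.map_comp, CommRingCat.comp_apply]
    have hs' : (V.presheaf.map (homOfLE (inf_le_left : V' ⊓ W ≤ V')).op).hom s = 0 := hs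
    rw [hs', map_zero]
  have hmem : (V.presheaf.map (homOfLE hAV').op).hom s ∈ (W.ι.ker).ideal ⟨A, hA⟩ := by
    rw [Scheme.Hom.ker_apply, RingHom.mem_ker]
    exact e2
  rw [h] at hmem
  exact hmem

variable {S : Scheme.{u}}

/-- the base change of a representable open immersion to a scheme is an open subscheme. -/
theorem exists_opens_pullback {F G : AlgSp.Sp S} (j : G ⟶ F)
    (hj : AlgSp.RepWith @IsOpenImmersion j) {V : Over S} (φ : (AlgSp.yon S).obj V ⟶ F) :
    ∃ (W : V.left.Opens) (fst : (AlgSp.yon S).obj (Over.mk (W.ι ≫ V.hom)) ⟶ G),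
      IsPullback fst ((AlgSp.yon S).map (Over.homMk W.ι rfl : Over.mk (W.ι ≫ V.hom) ⟶ V)) j φ := by
  obtain ⟨W', w', fst', sq⟩ := hj.1 φ
  haveI : IsOpenImmersion w'.left := hj.2 φ fst' w' sq
  let W : V.left.Opens := w'.left.opensRange
  let el : W.toScheme ≅ W'.left := IsOpenImmersion.isoOfRangeEq W.ι w'.left (by
    rw [Scheme.Opens.range_ι]
    rfl)
  have hel : el.hom ≫ w'.left = W.ι := IsOpenImmersion.isoOfRangeEq_hom_fac _ _ _
  let ε : Over.mk (W.ι ≫ V.hom) ≅ W' := Over.isoMk el (by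
    show el.hom ≫ W'.hom = W.ι ≫ V.hom
    rw [← Over.w w', ← Category.assoc, hel])
  have hε : ε.hom ≫ w' = (Over.homMk W.ι rfl : Over.mk (W.ι ≫ V.hom) ⟶ V) := by
    ext
    exact hel
  refine ⟨W, (AlgSp.yon S).map ε.hom ≫ fst', ?_⟩
  refine IsPullback.of_iso sq ((AlgSp.yon S).mapIso ε).symm (Iso.refl _) (Iso.refl _) (Iso.refl _)
    ?_ ?_ ?_ ?_
  · simp [← Category.assoc, ← Functor.map_comp]
  · rw [Iso.refl_hom, Category.comp_id, Iso.symm_hom, Functor.mapIso_inv, ← Functor.map_comp,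
      ← hε, Iso.inv_hom_id_assoc]
  · simp
  · simp

end Groth.Agent.Lib.Helper1.SchDense
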