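import Mathlib
import Groth.Prelude.Def_AlgSpSub
import Groth.Agent.Lib.Helper1ClosedSub2
import Groth.Agent.Lib.Helper1KerFlat
import Groth.Agent.S10538
import Groth.Agent.S9927
import Groth.Agent.S9928

/-!
# Scheme theoretic images of morphisms of algebraic spaces, on a chart (helper1)
-/

set_option autoImplicit false
universe u
open CategoryTheory CategoryTheory.Limits AlgebraicGeometry Opposite
open AlgSp

namespace Groth.Agent.Lib.Helper1.SchImage

open Groth.Agent.Lib.Helper1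

variable {S : Scheme.{u}}

lemma mono_of_closed {Z Y : AlgSp.Sp S} (i : Z ⟶ Y) (hi : AlgSp.RepWith @IsClosedImmersion i) :
    Mono i :=
  Groth.Agent.S9928.mono_of_repWith @IsClosedImmersion
    (fun _ _ g hg => by haveI : IsClosedImmersion g := hg; infer_instance) i hi

/-- a closed immersion of schemes over `S` through which another one factors, given by ideals. -/
lemma exists_lift_of_ker_le {A C' U : Over S} (w : A ⟶ U) (v' : C' ⟶ U)
    [IsClosedImmersion v'.left] (h : v'.left.ker ≤ w.left.ker) : ∃ l : A ⟶ C', l ≫ v' = w := by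
  refine ⟨Over.homMk (IsClosedImmersion.lift v'.left w.left h) ?_, ?_⟩
  · rw [← Over.w v', ← Category.assoc, IsClosedImmersion.lift_fac, Over.w w]
  · ext
    exact IsClosedImmersion.lift_fac _ _ _

lemma ker_le_of_fac {A C' U : Over S} (w : A ⟶ U) (v' : C' ⟶ U) (l : A ⟶ C') (hl : l ≫ v' = w) :
    v'.left.ker ≤ w.left.ker := by
  have : w.left = l.left ≫ v'.left := (congrArg (fun x => x.left) hl).symm
  rw [this]
  exact Scheme.Hom.le_ker_comp _ _

section

variable {Y : AlgSp.Sp S} {U : Over S} (c : (AlgSp.yon S).obj U ⟶ Y)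

/-- factoring a morphism through a closed subspace, in terms of an epimorphism from a scheme. -/
theorem exists_factor_iff_ker_le {F Z' : AlgSp.Sp S} (f : F ⟶ Y) (i' : Z' ⟶ Y)
    (hi' : AlgSp.RepWith @IsClosedImmersion i') {W : Over S} (q : (AlgSp.yon S).obj W ⟶ F) [Epi q]
    (w : W ⟶ U) (hw : (AlgSp.yon S).map w ≫ c = q ≫ f) {C' : Over S} (v' : C' ⟶ U)
    (pr' : (AlgSp.yon S).obj C' ⟶ Z') (sq' : IsPullback pr' ((AlgSp.yon S).map v') i' c) :
    (∃ f' : F ⟶ Z', f' ≫ i' = f) ↔ v'.left.ker ≤ w.left.ker := by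
  haveI : IsClosedImmersion v'.left := hi'.2 c pr' v' sq'
  haveI := mono_of_closed i' hi'
  constructor
  · rintro ⟨f', hf'⟩
    obtain ⟨l, hl⟩ := (AlgSp.yon S).map_surjective (sq'.lift (q ≫ f') ((AlgSp.yon S).map w)
      (by rw [Category.assoc, hf', hw]))
    refine ker_le_of_fac w v' l ?_
    apply (AlgSp.yon S).map_injective
    rw [Functor.map_comp, hl, sq'.lift_snd]
  · intro h
    obtain ⟨l, hl⟩ := exists_lift_of_ker_le w v' h
    refine ClosedSub.exists_factor_of_epi q i' f ((AlgSp.yon S).map l ≫ pr') ?_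
    rw [Category.assoc, sq'.w, ← Category.assoc, ← Functor.map_comp, hl, hw]

variable (hce : AlgSp.RepWith @Etale c) (hcs : AlgSp.RepWith @Surjective c)

include hce hcs in
/-- comparing two closed subspaces on a chart. -/
theorem factor_iff_ker_le {Z Z' : AlgSp.Sp S} (i : Z ⟶ Y) (i' : Z' ⟶ Y)
    (hi' : AlgSp.RepWith @IsClosedImmersion i')
    {C C' : Over S} (v : C ⟶ U) (pr : (AlgSp.yon S).obj C ⟶ Z)
    (sq : IsPullback pr ((AlgSp.yon S).map v) i c) (v' : C' ⟶ U)
    (pr' : (AlgSp.yon S).obj C' ⟶ Z') (sq' : IsPullback pr' ((AlgSp.yon S).map v') i' c) :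
    (∃ k : Z ⟶ Z', k ≫ i' = i) ↔ v'.left.ker ≤ v.left.ker := by
  have hpe : AlgSp.RepWith @Etale pr :=
    MorphismProperty.of_isPullback (P := AlgSp.RepWith @Etale) sq.flip hce
  have hps : AlgSp.RepWith @Surjective pr :=
    MorphismProperty.of_isPullback (P := AlgSp.RepWith @Surjective) sq.flip hcs
  haveI : Epi pr := Groth.Agent.S9927.epi_of_repWith pr hpe hps
  exact exists_factor_iff_ker_le c i i' hi' pr v sq.w.symm v' pr' sq'

include hce hcs in
/-- a closed subspace whose ideal on a chart is the kernel of an atlas of the source is the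
scheme theoretic image. -/
theorem isSchImage_of_ker_eq {F Z : AlgSp.Sp S} (f : F ⟶ Y) (i : Z ⟶ Y)
    (hi : AlgSp.RepWith @IsClosedImmersion i) {W : Over S} (q : (AlgSp.yon S).obj W ⟶ F) [Epi q]
    (w : W ⟶ U) (hw : (AlgSp.yon S).map w ≫ c = q ≫ f) {C : Over S} (v : C ⟶ U)
    (pr : (AlgSp.yon S).obj C ⟶ Z) (sq : IsPullback pr ((AlgSp.yon S).map v) i c)
    (h : v.left.ker = w.left.ker) : AlgSp.IsSchImage f i := by
  refine ⟨hi, (exists_factor_iff_ker_le c f i hi q w hw v pr sq).2 (le_of_eq h), ?_⟩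
  intro Z' i' _ hi' hfac
  obtain ⟨C', v', pr', sq'⟩ := hi'.1 c
  refine (factor_iff_ker_le c hce hcs i i' hi' v pr sq v' pr' sq').2 ?_
  rw [h]
  exact (exists_factor_iff_ker_le c f i' hi' q w hw v' pr' sq').1 hfac

include hce hcs in
/-- the ideal of the scheme theoretic image on a chart is the kernel of an atlas of the source, as
soon as that kernel is invariant. -/
theorem ker_eq_of_isSchImage (hY : AlgSp.IsAlgSpace Y) {F Z : AlgSp.Sp S} (f : F ⟶ Y) (i : Z ⟶ Y)
    (hZ : AlgSp.IsSchImage f i) {W : Over S} (q : (AlgSp.yon S).obj W ⟶ F) [Epi q]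
    (w : W ⟶ U) (hw : (AlgSp.yon S).map w ≫ c = q ≫ f) {C : Over S} (v : C ⟶ U)
    (pr : (AlgSp.yon S).obj C ⟶ Z) (sq : IsPullback pr ((AlgSp.yon S).map v) i c)
    {R : Over S} (p₁ p₂ : R ⟶ U)
    (sqR : IsPullback ((AlgSp.yon S).map p₁) ((AlgSp.yon S).map p₂) c c)
    (hinv : w.left.ker.comap p₁.left = w.left.ker.comap p₂.left) :
    v.left.ker = w.left.ker := by
  obtain ⟨hi, hfac, hmin⟩ := hZ
  apply le_antisymm
  · exact (exists_factor_iff_ker_le c f i hi q w hw v pr sq).1 hfac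
  · -- the closed subspace defined by the kernel
    obtain ⟨I, hI⟩ : ∃ I, I = w.left.ker := ⟨_, rfl⟩
    let C₀ : Over S := Over.mk (I.subschemeι ≫ U.hom)
    let iC : C₀ ⟶ U := Over.homMk I.subschemeι rfl
    haveI : IsClosedImmersion iC.left := inferInstanceAs (IsClosedImmersion I.subschemeι)
    haveI : Mono iC.left := inferInstance
    haveI : Mono iC := (Over.forget S).mono_of_mono_map ‹_›
    have hkerC : iC.left.ker = I := Scheme.IdealSheafData.ker_subschemeι I
    have hinv' : ClosedSub.Invariant c iC :=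
      ClosedSub.invariant_of_comap_eq c iC p₁ p₂ sqR (by rw [hkerC, hI]; exact hinv)
    have hZbar := ClosedSub.isAlgSpace_obj c iC hY hce hcs hinv'
    have hincl := ClosedSub.repWith_incl c iC hY hce hcs hinv' inferInstance
    obtain ⟨a', sqC⟩ := ClosedSub.exists_chart c iC hinv'
    have h1 : ∃ f' : F ⟶ ClosedSub.obj c iC, f' ≫ ClosedSub.incl c iC = f :=
      (exists_factor_iff_ker_le c f _ hincl q w hw iC a' sqC).2 (by rw [hkerC, hI])
    obtain ⟨k, hk⟩ := hmin (ClosedSub.incl c iC) hZbar hincl h1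
    have h2 := (factor_iff_ker_le c hce hcs i _ hincl v pr sq iC a' sqC).1 ⟨k, hk⟩
    rw [hkerC, hI] at h2
    exact h2

end

/-- the kernel of a quasi-compact atlas of the base change of a morphism to a chart is invariant
under the equivalence relation of the chart. -/
theorem comap_ker_eq_of_qc {Y F P : AlgSp.Sp S} {U : Over S} (c : (AlgSp.yon S).obj U ⟶ Y)
    (f : F ⟶ Y) (fst : P ⟶ F) (snd : P ⟶ (AlgSp.yon S).obj U) (sqP : IsPullback fst snd f c)
    {W : Over S} (a : (AlgSp.yon S).obj W ⟶ P) (hae : AlgSp.RepWith @Etale a)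
    (has : AlgSp.RepWith @Surjective a) (w : W ⟶ U) (hw : (AlgSp.yon S).map w = a ≫ snd)
    [QuasiCompact w.left] {R : Over S} (p₁ p₂ : R ⟶ U)
    (hp : (AlgSp.yon S).map p₁ ≫ c = (AlgSp.yon S).map p₂ ≫ c) [Flat p₁.left] [Flat p₂.left] :
    w.left.ker.comap p₁.left = w.left.ker.comap p₂.left := by
  suffices hle : ∀ (p q : R ⟶ U) [Flat p.left] [Flat q.left],
      (AlgSp.yon S).map p ≫ c = (AlgSp.yon S).map q ≫ c →
      w.left.ker.comap p.left ≤ w.left.ker.comap q.left from
    le_antisymm (hle p₁ p₂ hp) (hle p₂ p₁ hp.symm)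
  intro p q _ _ hpq
  -- the base change of `f` to `R`
  let cR : (AlgSp.yon S).obj R ⟶ Y := (AlgSp.yon S).map p ≫ c
  -- the base changes of the atlas
  have key : ∀ (r : R ⟶ U) [Flat r.left], (AlgSp.yon S).map r ≫ c = cR →
      ∃ (A : Over S) (π : A ⟶ R) (β : (AlgSp.yon S).obj A ⟶ pullback f cR),
        π.left.ker = w.left.ker.comap r.left ∧ AlgSp.RepWith @Etale β ∧
        AlgSp.RepWith @Surjective β ∧ β ≫ pullback.snd f cR = (AlgSp.yon S).map π := by
    intro r _ hr
    let A : Over S := Over.mk (pullback.fst r.left w.left ≫ R.hom)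
    let π : A ⟶ R := Over.homMk (pullback.fst r.left w.left) rfl
    let ω : A ⟶ W := Over.homMk (pullback.snd r.left w.left) (by
      show pullback.snd r.left w.left ≫ W.hom = pullback.fst r.left w.left ≫ R.hom
      rw [← Over.w w, ← Category.assoc, ← pullback.condition, Category.assoc, Over.w r])
    have sqL : IsPullback π.left ω.left r.left w.left := IsPullback.of_hasPullback r.left w.left
    have sqO : IsPullback π ω r w :=
      IsPullback.of_map (Over.forget S) (by ext; exact pullback.condition) sqL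
    have sqA := sqO.map (AlgSp.yon S)
    -- the map to `P ×_{h_U} h_R`
    let ρ : pullback f cR ⟶ P := sqP.lift (pullback.fst f cR)
      (pullback.snd f cR ≫ (AlgSp.yon S).map r) (by rw [Category.assoc, hr, pullback.condition])
    have hρ1 : ρ ≫ fst = pullback.fst f cR := sqP.lift_fst _ _ _
    have hρ2 : ρ ≫ snd = pullback.snd f cR ≫ (AlgSp.yon S).map r := sqP.lift_snd _ _ _
    have sqρ : IsPullback ρ (pullback.snd f cR) snd ((AlgSp.yon S).map r) := by
      refine IsPullback.of_right (h₁₂ := fst) (v₁₃ := f) (h₂₂ := c) ?_ hρ2 sqP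
      rw [hρ1, hr]
      exact IsPullback.of_hasPullback f cR
    let β : (AlgSp.yon S).obj A ⟶ pullback f cR :=
      pullback.lift ((AlgSp.yon S).map ω ≫ a ≫ fst) ((AlgSp.yon S).map π) (by
        rw [Category.assoc, Category.assoc, sqP.w, ← Category.assoc a, ← hw, ← Category.assoc,
          ← sqA.w, Category.assoc, hr])
    have hβ2 : β ≫ pullback.snd f cR = (AlgSp.yon S).map π := pullback.lift_snd _ _ _
    have hβρ : β ≫ ρ = (AlgSp.yon S).map ω ≫ a := by
      apply sqP.hom_ext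
      · rw [Category.assoc, hρ1, Category.assoc]
        exact pullback.lift_fst _ _ _
      · rw [Category.assoc, hρ2, ← Category.assoc, hβ2, Category.assoc, ← hw]
        exact sqA.w
    have sqβ : IsPullback β ((AlgSp.yon S).map ω) ρ a := by
      refine IsPullback.of_right (h₁₂ := pullback.snd f cR) (v₁₃ := (AlgSp.yon S).map r)
        (h₂₂ := snd) ?_ hβρ sqρ.flip
      rw [hβ2, ← hw]
      exact sqA
    refine ⟨A, π, β, Groth.Agent.S10538.ker_pullback_fst_of_flat r.left w.left, ?_, ?_, hβ2⟩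
    · exact MorphismProperty.of_isPullback (P := AlgSp.RepWith @Etale) sqβ.flip hae
    · exact MorphismProperty.of_isPullback (P := AlgSp.RepWith @Surjective) sqβ.flip has
  obtain ⟨A₁, π₁, β₁, hπ₁, hβ₁e, hβ₁s, hβ₁⟩ := key p rfl
  obtain ⟨A₂, π₂, β₂, hπ₂, hβ₂e, hβ₂s, hβ₂⟩ := key q hpq.symm
  obtain ⟨Q, q₂, q₁', sqQ⟩ := hβ₁e.1 β₂
  obtain ⟨q₁, rfl⟩ := (AlgSp.yon S).map_surjective q₁'
  haveI : Etale q₂.left := hβ₁e.2 _ _ _ sqQ
  haveI : Surjective q₂.left := hβ₁s.2 _ _ _ sqQ
  have hq : q₁ ≫ π₁ = q₂ ≫ π₂ := by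
    apply (AlgSp.yon S).map_injective
    rw [Functor.map_comp, Functor.map_comp, ← hβ₁, ← hβ₂, ← Category.assoc, sqQ.w, Category.assoc]
  have hq' : q₁.left ≫ π₁.left = q₂.left ≫ π₂.left := congrArg (fun m => m.left) hq
  rw [← hπ₁, ← hπ₂, ← KerFlat.ker_comp q₂.left π₂.left, ← hq']
  exact Scheme.Hom.le_ker_comp _ _

end Groth.Agent.Lib.Helper1.SchImage
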