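import Mathlib
import Groth.Agent.Lib.Helper1SchImage
import Groth.Agent.Lib.Helper1QcAtlas

/-!
# Flat base change of scheme theoretic images of quasi-compact morphisms (helper1)
-/

set_option autoImplicit false
universe u
open CategoryTheory CategoryTheory.Limits AlgebraicGeometry Opposite
open AlgSp

namespace Groth.Agent.Lib.Helper1.SchImage

open Groth.Agent.Lib.Helper1

variable {S : Scheme.{u}}

/-- chart data computing the scheme theoretic image of a quasi-compact morphism. -/
theorem exists_chart_data {Y V Z : AlgSp.Sp S} (hY : AlgSp.IsAlgSpace Y) (hV : AlgSp.IsAlgSpace V)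
    (g : V ⟶ Y) (hg : AlgSp.IsQuasiCompactMor g) (i : Z ⟶ Y) (hZ : AlgSp.IsSchImage g i) :
    ∃ (U : Over S) (c : (AlgSp.yon S).obj U ⟶ Y) (W : Over S)
      (a : (AlgSp.yon S).obj W ⟶ pullback g c) (w : W ⟶ U) (C : Over S) (v : C ⟶ U)
      (pr : (AlgSp.yon S).obj C ⟶ Z),
      AlgSp.RepWith @Etale c ∧ AlgSp.RepWith @Surjective c ∧ AlgSp.RepWith @Etale a ∧
      AlgSp.RepWith @Surjective a ∧ (AlgSp.yon S).map w = a ≫ pullback.snd g c ∧
      QuasiCompact w.left ∧ IsPullback pr ((AlgSp.yon S).map v) i c ∧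
      IsClosedImmersion v.left ∧ v.left.ker = w.left.ker := by
  obtain ⟨U, c, W, a, w, hce, hcs, hae, has, hw, hwqc⟩ := QcAtlas.exists_qc_atlas hY hV g hg
  haveI := hwqc
  have hfste : AlgSp.RepWith @Etale (pullback.fst g c) :=
    MorphismProperty.of_isPullback (P := AlgSp.RepWith @Etale)
      (IsPullback.of_hasPullback g c).flip hce
  have hfsts : AlgSp.RepWith @Surjective (pullback.fst g c) :=
    MorphismProperty.of_isPullback (P := AlgSp.RepWith @Surjective)
      (IsPullback.of_hasPullback g c).flip hcs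
  haveI : Epi (a ≫ pullback.fst g c) := Groth.Agent.S9927.epi_of_repWith _
    (MorphismProperty.comp_mem _ _ _ hae hfste) (MorphismProperty.comp_mem _ _ _ has hfsts)
  have hwq : (AlgSp.yon S).map w ≫ c = (a ≫ pullback.fst g c) ≫ g := by
    rw [hw, Category.assoc, Category.assoc, pullback.condition]
  obtain ⟨C, v, pr, sq⟩ := hZ.1.1 c
  haveI : IsClosedImmersion v.left := hZ.1.2 c pr v sq
  obtain ⟨R, p₂, p₁', sqR⟩ := hce.1 c
  obtain ⟨p₁, rfl⟩ := (AlgSp.yon S).map_surjective p₁'
  haveI : Etale p₂.left := hce.2 c _ p₂ sqR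
  haveI : Etale p₁.left := hce.2 c _ p₁ sqR.flip
  have hinv := comap_ker_eq_of_qc c g _ _ (IsPullback.of_hasPullback g c) a hae has w hw p₁ p₂
    sqR.w
  have hker := ker_eq_of_isSchImage c hce hcs hY g i hZ (a ≫ pullback.fst g c) w hwq v pr sq
    p₁ p₂ sqR hinv
  exact ⟨U, c, W, a, w, C, v, pr, hce, hcs, hae, has, hw, hwqc, sq, inferInstance, hker⟩

/-- flat base change of the scheme theoretic image of a quasi-compact morphism. -/
theorem isSchImage_base_change {Y X V Z VX ZX : AlgSp.Sp S} (hY : AlgSp.IsAlgSpace Y)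
    (hX : AlgSp.IsAlgSpace X) (hV : AlgSp.IsAlgSpace V)
    (f : X ⟶ Y) (hf : AlgSp.LocP @Flat f) (g : V ⟶ Y) (hg : AlgSp.IsQuasiCompactMor g)
    (i : Z ⟶ Y) (hZ : AlgSp.IsSchImage g i)
    (g₁ : VX ⟶ V) (gX : VX ⟶ X) (sqV : IsPullback g₁ gX g f)
    (i₁ : ZX ⟶ Z) (iX : ZX ⟶ X) (sqZ : IsPullback i₁ iX i f) : AlgSp.IsSchImage gX iX := by
  obtain ⟨U, c, W, a, w, C, v, pr, hce, hcs, hae, has, hw, hwqc, sq, hvcl, hker⟩ :=
    exists_chart_data hY hV g hg i hZ
  haveI := hwqc
  haveI := hvcl
  -- the chart of `X`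
  have hXU : AlgSp.IsAlgSpace (pullback f c) :=
    Groth.Agent.S9874.result S Y hY.diag ⟨X, hX⟩ ⟨_, AlgSp.IsAlgSpace.yon_obj U⟩ f c _ _ _
      (IsPullback.of_hasPullback f c)
  obtain ⟨UX, aX, haXe, haXs⟩ := hXU.atlas
  obtain ⟨φ, hφ⟩ := (AlgSp.yon S).map_surjective (aX ≫ pullback.snd f c)
  have hfste : AlgSp.RepWith @Etale (pullback.fst f c) :=
    MorphismProperty.of_isPullback (P := AlgSp.RepWith @Etale)
      (IsPullback.of_hasPullback f c).flip hce
  have hfsts : AlgSp.RepWith @Surjective (pullback.fst f c) :=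
    MorphismProperty.of_isPullback (P := AlgSp.RepWith @Surjective)
      (IsPullback.of_hasPullback f c).flip hcs
  obtain ⟨cX, hcX⟩ : ∃ cX, cX = aX ≫ pullback.fst f c := ⟨_, rfl⟩
  have hcXe : AlgSp.RepWith @Etale cX := by
    rw [hcX]; exact MorphismProperty.comp_mem _ _ _ haXe hfste
  have hcXs : AlgSp.RepWith @Surjective cX := by
    rw [hcX]; exact MorphismProperty.comp_mem _ _ _ haXs hfsts
  have hφc : (AlgSp.yon S).map φ ≫ c = cX ≫ f := by
    rw [hφ, hcX, Category.assoc, Category.assoc, pullback.condition]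
  haveI : Flat φ.left := hf cX c φ hcXe hce hφc.symm
  -- the base change of the atlas of `V`
  let WX : Over S := Over.mk (pullback.fst φ.left w.left ≫ UX.hom)
  let wX : WX ⟶ UX := Over.homMk (pullback.fst φ.left w.left) rfl
  let ω : WX ⟶ W := Over.homMk (pullback.snd φ.left w.left) (by
    show pullback.snd φ.left w.left ≫ W.hom = pullback.fst φ.left w.left ≫ UX.hom
    rw [← Over.w w, ← Category.assoc, ← pullback.condition, Category.assoc, Over.w φ])
  have sqWL : IsPullback wX.left ω.left φ.left w.left := IsPullback.of_hasPullback φ.left w.left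
  have sqWO : IsPullback wX ω φ w :=
    IsPullback.of_map (Over.forget S) (by ext; exact pullback.condition) sqWL
  have sqWA := sqWO.map (AlgSp.yon S)
  have hkerW : wX.left.ker = w.left.ker.comap φ.left :=
    Groth.Agent.S10538.ker_pullback_fst_of_flat φ.left w.left
  -- the base change of the closed subscheme
  let CX : Over S := Over.mk (pullback.fst φ.left v.left ≫ UX.hom)
  let vX : CX ⟶ UX := Over.homMk (pullback.fst φ.left v.left) rfl
  let κ : CX ⟶ C := Over.homMk (pullback.snd φ.left v.left) (by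
    show pullback.snd φ.left v.left ≫ C.hom = pullback.fst φ.left v.left ≫ UX.hom
    rw [← Over.w v, ← Category.assoc, ← pullback.condition, Category.assoc, Over.w φ])
  have sqCL : IsPullback vX.left κ.left φ.left v.left := IsPullback.of_hasPullback φ.left v.left
  have sqCO : IsPullback vX κ φ v :=
    IsPullback.of_map (Over.forget S) (by ext; exact pullback.condition) sqCL
  have sqCA := sqCO.map (AlgSp.yon S)
  have hkerC : vX.left.ker = v.left.ker.comap φ.left :=
    Scheme.IdealSheafData.ker_fst_of_isClosedImmersion v.left φ.left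
  have hkerX : vX.left.ker = wX.left.ker := by rw [hkerC, hkerW, hker]
  -- the closed subspace on the chart of `X`
  have hprX : ((AlgSp.yon S).map κ ≫ pr) ≫ i = ((AlgSp.yon S).map vX ≫ cX) ≫ f := by
    rw [Category.assoc, sq.w, ← Category.assoc, ← sqCA.w, Category.assoc, Category.assoc, hφc]
  have sqCX : IsPullback (sqZ.lift _ _ hprX) ((AlgSp.yon S).map vX) iX cX := by
    refine IsPullback.of_right ?_ (sqZ.lift_snd _ _ hprX) sqZ
    rw [sqZ.lift_fst, ← hφc]
    exact sqCA.flip.paste_horiz sq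
  -- the atlas of the base change of `V`
  let aX' : (AlgSp.yon S).obj WX ⟶ pullback (pullback.snd g c) ((AlgSp.yon S).map φ) :=
    pullback.lift ((AlgSp.yon S).map ω ≫ a) ((AlgSp.yon S).map wX) (by
      rw [Category.assoc, ← hw]
      exact sqWA.w.symm)
  have haX'1 : aX' ≫ pullback.fst _ _ = (AlgSp.yon S).map ω ≫ a := pullback.lift_fst _ _ _
  have haX'2 : aX' ≫ pullback.snd _ _ = (AlgSp.yon S).map wX := pullback.lift_snd _ _ _
  have sqaX' : IsPullback aX' ((AlgSp.yon S).map ω)
      (pullback.fst (pullback.snd g c) ((AlgSp.yon S).map φ)) a := by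
    refine IsPullback.of_right ?_ haX'1
      (IsPullback.of_hasPullback (pullback.snd g c) ((AlgSp.yon S).map φ)).flip
    rw [haX'2, ← hw]
    exact sqWA
  have haX'e : AlgSp.RepWith @Etale aX' :=
    MorphismProperty.of_isPullback (P := AlgSp.RepWith @Etale) sqaX'.flip hae
  have haX's : AlgSp.RepWith @Surjective aX' :=
    MorphismProperty.of_isPullback (P := AlgSp.RepWith @Surjective) sqaX'.flip has
  have hρ : (pullback.fst (pullback.snd g c) ((AlgSp.yon S).map φ) ≫ pullback.fst g c) ≫ g =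
      (pullback.snd (pullback.snd g c) ((AlgSp.yon S).map φ) ≫ cX) ≫ f := by
    rw [Category.assoc, pullback.condition, ← Category.assoc, pullback.condition, Category.assoc,
      Category.assoc, hφc]
  have sqρ : IsPullback (sqV.lift _ _ hρ)
      (pullback.snd (pullback.snd g c) ((AlgSp.yon S).map φ)) gX cX := by
    refine IsPullback.of_right ?_ (sqV.lift_snd _ _ hρ) sqV
    rw [sqV.lift_fst, ← hφc]
    exact (IsPullback.of_hasPullback (pullback.snd g c) ((AlgSp.yon S).map φ)).paste_horiz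
      (IsPullback.of_hasPullback g c)
  have hρe : AlgSp.RepWith @Etale (sqV.lift _ _ hρ) :=
    MorphismProperty.of_isPullback (P := AlgSp.RepWith @Etale) sqρ.flip hcXe
  have hρs : AlgSp.RepWith @Surjective (sqV.lift _ _ hρ) :=
    MorphismProperty.of_isPullback (P := AlgSp.RepWith @Surjective) sqρ.flip hcXs
  haveI : Epi (aX' ≫ sqV.lift _ _ hρ) := Groth.Agent.S9927.epi_of_repWith _
    (MorphismProperty.comp_mem _ _ _ haX'e hρe) (MorphismProperty.comp_mem _ _ _ haX's hρs)
  have hcomm : (AlgSp.yon S).map wX ≫ cX = (aX' ≫ sqV.lift _ _ hρ) ≫ gX := by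
    rw [Category.assoc, sqV.lift_snd, ← Category.assoc, haX'2]
  have hiX : AlgSp.RepWith @IsClosedImmersion iX :=
    MorphismProperty.of_isPullback (P := AlgSp.RepWith @IsClosedImmersion) sqZ hZ.1
  exact isSchImage_of_ker_eq cX hcXe hcXs gX iX hiX (aX' ≫ sqV.lift _ _ hρ) wX hcomm vX _ sqCX hkerX

end Groth.Agent.Lib.Helper1.SchImage
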