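import Mathlib
import Groth.Agent.Lib.Helper1SchImageBC
import Groth.Agent.Lib.Helper12OpenSub2
import Groth.Agent.Lib.Helper12LocPCases
import Groth.Agent.S9919
import Groth.Agent.S9874
import Groth.Agent.S9917
import Groth.Agent.S10174
import Groth.Agent.S10176
import Groth.Agent.S10177
import Groth.Agent.S10191
import Groth.Agent.Lib.Helper12OpenSub

/-!
# Lifting along dominating extensions for separated morphisms (helper1)
-/

set_option autoImplicit false
universe u
open CategoryTheory CategoryTheory.Limits AlgebraicGeometry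
open AlgSp

namespace Groth.Agent.Lib.Helper1.ValLift

open Groth.Agent.Lib.Helper1

variable {S : Scheme.{u}}

/-- For a separated `f : X ⟶ Y` and a section `s` of `f` over a flat quasi-compact monomorphism
`j : V ⟶ Y`, the scheme theoretic image of `s` restricted to `V` maps isomorphically to `V`
(generalising `S9967`). -/
theorem isIso_snd_of_section {X Y V Y' : AlgSp.Space S} (f : X ⟶ Y) (j : V ⟶ Y)
    [hjm : Mono j.hom] (hjf : AlgSp.LocP @Flat j.hom) (hjq : AlgSp.IsQuasiCompactMor j.hom)
    (hf : AlgSp.IsSeparatedMor f.hom)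
    (s : V ⟶ X) (hs : s ≫ f = j) (c : Y' ⟶ X) (hc : AlgSp.IsSchImage s.hom c.hom)
    {P : AlgSp.Sp S} (fst : P ⟶ Y'.obj) (snd : P ⟶ V.obj)
    (sq : IsPullback fst snd (c ≫ f).hom j.hom) : IsIso snd := by
  have hs' : s.hom ≫ f.hom = j.hom := congrArg (fun m => m.hom) hs
  let π₁ : pullback f.hom j.hom ⟶ X.obj := pullback.fst f.hom j.hom
  let π₂ : pullback f.hom j.hom ⟶ V.obj := pullback.snd f.hom j.hom
  have hXV : AlgSp.IsAlgSpace (pullback f.hom j.hom) :=
    Groth.Agent.S9874.isAlgSpace_of_isPullback Y.property.diag X.property V.property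
      (IsPullback.of_hasPullback f.hom j.hom)
  let σ : V.obj ⟶ pullback f.hom j.hom := pullback.lift s.hom (𝟙 _) (by rw [hs', Category.id_comp])
  have hσ₁ : σ ≫ π₁ = s.hom := pullback.lift_fst _ _ _
  have hσ₂ : σ ≫ π₂ = 𝟙 _ := pullback.lift_snd _ _ _
  have hcond : π₁ ≫ f.hom = π₂ ≫ j.hom := pullback.condition
  have hw : π₁ ≫ f.hom = (π₂ ≫ s.hom) ≫ f.hom := by rw [Category.assoc, hs', hcond]
  have sqσ : IsPullback s.hom σ (pullback.diagonal f.hom) (pullback.lift π₁ (π₂ ≫ s.hom) hw) := by
    refine IsPullback.of_isLimit' ⟨?_⟩ ?_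
    · apply pullback.hom_ext
      · simp only [Category.assoc, pullback.diagonal_fst, pullback.lift_fst, Category.comp_id, hσ₁]
      · simp only [Category.assoc, pullback.diagonal_snd, pullback.lift_snd, Category.comp_id]
        rw [← Category.assoc, hσ₂, Category.id_comp]
    · refine PullbackCone.IsLimit.mk _ (fun t => t.snd ≫ π₂) ?_ ?_ ?_
      · intro t
        have h1 := congrArg (fun m => m ≫ pullback.fst f.hom f.hom) t.condition
        have h2 := congrArg (fun m => m ≫ pullback.snd f.hom f.hom) t.condition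
        simp only [Category.assoc, pullback.diagonal_fst, pullback.diagonal_snd, pullback.lift_fst,
          pullback.lift_snd, Category.comp_id] at h1 h2
        rw [Category.assoc, ← h2]
      · intro t
        have h1 := congrArg (fun m => m ≫ pullback.fst f.hom f.hom) t.condition
        have h2 := congrArg (fun m => m ≫ pullback.snd f.hom f.hom) t.condition
        simp only [Category.assoc, pullback.diagonal_fst, pullback.diagonal_snd, pullback.lift_fst,
          pullback.lift_snd, Category.comp_id] at h1 h2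
        apply pullback.hom_ext
        · rw [Category.assoc]
          change _ ≫ σ ≫ π₁ = _ ≫ π₁
          rw [hσ₁, Category.assoc, ← h2, h1]
        · rw [Category.assoc]
          change _ ≫ σ ≫ π₂ = _ ≫ π₂
          rw [hσ₂, Category.comp_id]
      · intro t m _ hm2
        rw [← hm2, Category.assoc, hσ₂, Category.comp_id]
  have hσcl : AlgSp.RepWith @IsClosedImmersion σ :=
    (AlgSp.RepWith @IsClosedImmersion).of_isPullback sqσ hf
  have hfqs : AlgSp.IsQuasiSeparatedMor f.hom :=
    Groth.Agent.Lib.Helper12.OpenSub.repWith_mono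
      (fun _ _ g hg => by haveI : IsClosedImmersion g := hg; infer_instance) hf
  have hsqc : AlgSp.IsQuasiCompactMor s.hom :=
    Groth.Agent.S9919.result s f (by rw [hs]; exact hjq) hfqs
  have hπ₁f : AlgSp.LocP @Flat π₁ :=
    Groth.Agent.Lib.Helper12.LocPCases.good_flat.locP_baseChange V.property Y.property X.property
      (IsPullback.of_hasPullback f.hom j.hom).flip hjf
  have sqV : IsPullback (𝟙 V.obj) σ s.hom π₁ := by
    refine IsPullback.of_isLimit' ⟨by rw [Category.id_comp, hσ₁]⟩ ?_
    refine PullbackCone.IsLimit.mk _ (fun t => t.fst) ?_ ?_ ?_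
    · intro t
      exact Category.comp_id _
    · intro t
      apply pullback.hom_ext
      · rw [Category.assoc]
        change _ ≫ σ ≫ π₁ = _ ≫ π₁
        rw [hσ₁, t.condition]
      · rw [Category.assoc]
        change _ ≫ σ ≫ π₂ = _ ≫ π₂
        rw [hσ₂, Category.comp_id, ← cancel_mono j.hom, Category.assoc, ← hcond, ← Category.assoc,
          ← t.condition, Category.assoc, hs']
    · intro t m hm1 _
      rw [← hm1, Category.comp_id]
  have hI : AlgSp.IsSchImage σ (pullback.snd c.hom π₁) :=
    SchImage.isSchImage_base_change X.property hXV V.property π₁ hπ₁f s.hom hsqc c.hom hc (𝟙 _) σ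
      sqV (pullback.fst c.hom π₁) (pullback.snd c.hom π₁) (IsPullback.of_hasPullback _ _)
  obtain ⟨k, hk⟩ := hI.2.2 σ V.property hσcl ⟨𝟙 _, Category.id_comp _⟩
  obtain ⟨f', hf'⟩ := hI.2.1
  haveI := SchImage.mono_of_closed _ hI.1
  haveI : Mono σ := mono_of_mono_fac hσ₂
  have hkf : k ≫ f' = 𝟙 _ := by
    rw [← cancel_mono (pullback.snd c.hom π₁), Category.assoc, hf', hk, Category.id_comp]
  have hfk : f' ≫ k = 𝟙 _ := by
    rw [← cancel_mono σ, Category.assoc, hk, hf', Category.id_comp]
  have sqP : IsPullback (pullback.fst c.hom π₁) (pullback.snd c.hom π₁ ≫ π₂) (c.hom ≫ f.hom) j.hom :=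
    ((IsPullback.of_hasPullback c.hom π₁).flip.paste_horiz
      (IsPullback.of_hasPullback f.hom j.hom).flip).flip
  have hsnd : snd = (sq.isoIsPullback _ _ sqP).hom ≫ k := by
    have h1 : pullback.snd c.hom π₁ ≫ π₂ = k := by
      rw [← hk, Category.assoc, hσ₂, Category.comp_id]
    rw [← h1]
    exact (IsPullback.isoIsPullback_hom_snd _ _ sq sqP).symm
  haveI : IsIso k := ⟨⟨f', hkf, hfk⟩⟩
  rw [hsnd]
  infer_instance

/-- Two morphisms to a space separated over `B` that agree after precomposition with a morphism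
whose scheme theoretic image is everything are equal (`S9972` without the open immersion
hypothesis). -/
theorem eq_of_isSchImage_id {U X Y B : AlgSp.Space S} (q : Y ⟶ B)
    (hq : AlgSp.IsSeparatedMor q.hom) (f g : X ⟶ Y) (hfg : f ≫ q = g ≫ q) (j : U ⟶ X)
    (hcl : AlgSp.IsSchImage j.hom (𝟙 X.obj)) (heq : j ≫ f = j ≫ g) : f = g := by
  have hfg' : f.hom ≫ q.hom = g.hom ≫ q.hom := congrArg (fun m => m.hom) hfg
  have heq' : j.hom ≫ f.hom = j.hom ≫ g.hom := congrArg (fun m => m.hom) heq
  have hYY : AlgSp.IsAlgSpace (pullback q.hom q.hom) :=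
    Groth.Agent.S9874.isAlgSpace_of_isPullback B.property.diag Y.property Y.property
      (IsPullback.of_hasPullback q.hom q.hom)
  have hsq := IsPullback.of_hasPullback (pullback.diagonal q.hom)
    (pullback.lift f.hom g.hom hfg')
  have hZ : AlgSp.IsAlgSpace (pullback (pullback.diagonal q.hom)
      (pullback.lift f.hom g.hom hfg')) :=
    Groth.Agent.S9874.isAlgSpace_of_isPullback hYY.diag Y.property X.property hsq
  have hi' : AlgSp.RepWith @IsClosedImmersion (pullback.snd (pullback.diagonal q.hom)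
      (pullback.lift f.hom g.hom hfg')) :=
    (AlgSp.RepWith @IsClosedImmersion).of_isPullback hsq hq
  have hw : (j.hom ≫ f.hom) ≫ pullback.diagonal q.hom =
      j.hom ≫ pullback.lift f.hom g.hom hfg' := by
    apply pullback.hom_ext
    · simp only [Category.assoc, pullback.diagonal_fst, pullback.lift_fst, Category.comp_id]
    · simp only [Category.assoc, pullback.diagonal_snd, pullback.lift_snd, Category.comp_id, heq']
  obtain ⟨k, hk⟩ := hcl.2.2 _ hZ hi' ⟨pullback.lift (j.hom ≫ f.hom) j.hom hw,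
    pullback.lift_snd _ _ _⟩
  have h1 : pullback.snd (pullback.diagonal q.hom) (pullback.lift f.hom g.hom hfg') ≫ f.hom =
      pullback.fst (pullback.diagonal q.hom) (pullback.lift f.hom g.hom hfg') := by
    have := congrArg (fun m => m ≫ pullback.fst q.hom q.hom) hsq.w
    simp only [Category.assoc, pullback.diagonal_fst, pullback.lift_fst, Category.comp_id] at this
    exact this.symm
  have h2 : pullback.snd (pullback.diagonal q.hom) (pullback.lift f.hom g.hom hfg') ≫ g.hom =
      pullback.fst (pullback.diagonal q.hom) (pullback.lift f.hom g.hom hfg') := by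
    have := congrArg (fun m => m ≫ pullback.snd q.hom q.hom) hsq.w
    simp only [Category.assoc, pullback.diagonal_snd, pullback.lift_snd, Category.comp_id] at this
    exact this.symm
  apply ObjectProperty.hom_ext
  calc f.hom = (k ≫ pullback.snd _ _) ≫ f.hom := by rw [hk, Category.id_comp]
    _ = (k ≫ pullback.snd _ _) ≫ g.hom := by rw [Category.assoc, h1, Category.assoc, h2]
    _ = g.hom := by rw [hk, Category.id_comp]

/-- a closed subscheme of an affine scheme through which the spectrum of an injective ring map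
factors is everything. -/
lemma isIso_of_closedImmersion_of_injective {W : Scheme.{u}} {R L : CommRingCat.{u}}
    (w : W ⟶ Spec R) [IsClosedImmersion w] (k : Spec L ⟶ W) (ι : R ⟶ L)
    (hι : Function.Injective ι.hom) (hk : k ≫ w = Spec.map ι) : IsIso w := by
  apply IsClosedImmersion.isIso_of_injective_of_isAffine
  have h1 : Function.Injective (Spec.map ι).appTop.hom := by
    have e := Scheme.ΓSpecIso_naturality ι
    have e' : (Spec.map ι).appTop = (Scheme.ΓSpecIso R).hom ≫ ι ≫ (Scheme.ΓSpecIso L).inv := by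
      rw [← Category.assoc, ← e, Category.assoc, Iso.hom_inv_id, Category.comp_id]
    rw [e']
    simp only [CommRingCat.hom_comp, RingHom.coe_comp]
    exact ((ConcreteCategory.bijective_of_isIso (Scheme.ΓSpecIso L).inv).1.comp hι).comp
      (ConcreteCategory.bijective_of_isIso (Scheme.ΓSpecIso R).hom).1
  rw [← hk, Scheme.Hom.comp_appTop] at h1
  simp only [CommRingCat.hom_comp, RingHom.coe_comp] at h1
  exact Function.Injective.of_comp h1

/-- a closed subsheaf of an affine scheme through which the spectrum of an injective ring map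
factors has a section. -/
lemma exists_section_of_closed {R L : CommRingCat.{u}} (str : Spec R ⟶ S) (str' : Spec L ⟶ S)
    (m : Over.mk str' ⟶ Over.mk str) (ι : R ⟶ L) (hι : Function.Injective ι.hom)
    (hm : m.left = Spec.map ι) {Z' : AlgSp.Sp S} (i' : Z' ⟶ (AlgSp.yon S).obj (Over.mk str))
    (hi' : AlgSp.RepWith @IsClosedImmersion i')
    (k₀ : (AlgSp.yon S).obj (Over.mk str') ⟶ Z') (hk₀ : k₀ ≫ i' = (AlgSp.yon S).map m) :
    ∃ σ : (AlgSp.yon S).obj (Over.mk str) ⟶ Z', σ ≫ i' = 𝟙 _ := by
  obtain ⟨W, w, pr, sq⟩ := hi'.1 (𝟙 _)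
  haveI : IsClosedImmersion w.left := hi'.2 _ _ w sq
  obtain ⟨k, hk⟩ := (AlgSp.yon S).map_surjective (sq.lift k₀ ((AlgSp.yon S).map m)
    (by rw [hk₀, Category.comp_id]))
  have hkw : k ≫ w = m := by
    apply (AlgSp.yon S).map_injective
    rw [Functor.map_comp, hk, sq.lift_snd]
  have hkwL : k.left ≫ w.left = Spec.map ι := by
    rw [← hm, ← hkw]
    rfl
  haveI : IsIso w.left := isIso_of_closedImmersion_of_injective w.left k.left ι hι hkwL
  haveI : IsIso ((Over.forget S).map w) := inferInstanceAs (IsIso w.left)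
  haveI : IsIso w := isIso_of_reflects_iso w (Over.forget S)
  refine ⟨(AlgSp.yon S).map (inv w) ≫ pr, ?_⟩
  rw [Category.assoc, sq.w, Category.comp_id, ← Functor.map_comp, IsIso.inv_hom_id]
  exact (AlgSp.yon S).map_id _

/-- the spectrum of an injective ring map has scheme theoretic image everything. -/
lemma isSchImage_id_of_injective {R L : CommRingCat.{u}} (str : Spec R ⟶ S) (str' : Spec L ⟶ S)
    (m : Over.mk str' ⟶ Over.mk str) (ι : R ⟶ L) (hι : Function.Injective ι.hom)
    (hm : m.left = Spec.map ι) :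
    AlgSp.IsSchImage ((AlgSp.yon S).map m) (𝟙 ((AlgSp.yon S).obj (Over.mk str))) := by
  refine ⟨MorphismProperty.id_mem (AlgSp.RepWith @IsClosedImmersion) _,
    ⟨(AlgSp.yon S).map m, Category.comp_id _⟩, ?_⟩
  intro Z' i' _ hi' ⟨k₀, hk₀⟩
  exact exists_section_of_closed str str' m ι hι hm i' hi' k₀ hk₀

/-- a quasi-compact open subspace containing a given compact set of points. -/
lemma exists_qc_open {Z : AlgSp.Sp S} (hZ : AlgSp.IsAlgSpace Z) (C₀ : Set (AlgSp.Points Z))
    (hC : IsCompact C₀) :
    ∃ O : Set (AlgSp.Points Z), IsOpen O ∧ C₀ ⊆ O ∧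
      AlgSp.IsQuasiCompactSp (Groth.Agent.Lib.Helper12.OpenSub.obj Z O) := by
  obtain ⟨V, a, hae, has⟩ := hZ.atlas
  have hopen : ∀ N : V.left.affineOpens, IsOpen (AlgSp.Points.ofPt a '' (N.1 : Set V.left)) :=
    fun N => Groth.Agent.S10176.isOpenMap_ofPt a hae _ N.1.2
  have hcov : C₀ ⊆ ⋃ N : V.left.affineOpens, AlgSp.Points.ofPt a '' (N.1 : Set V.left) := by
    intro x _
    obtain ⟨v, rfl⟩ := Groth.Agent.S10177.surjective_ofPt a has x
    obtain ⟨_, ⟨N, hN, rfl⟩, hvN, -⟩ :=
      (V.left.isBasis_affineOpens).exists_subset_of_mem_open (Set.mem_univ v) isOpen_univ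
    exact Set.mem_iUnion.2 ⟨⟨N, hN⟩, v, hvN, rfl⟩
  obtain ⟨t, ht⟩ := hC.elim_finite_subcover _ hopen hcov
  let O : Set (AlgSp.Points Z) := ⋃ N ∈ t, AlgSp.Points.ofPt a '' (N.1 : Set V.left)
  have hO : IsOpen O := isOpen_biUnion fun N _ => hopen N
  have hOc : IsCompact O := t.finite_toSet.isCompact_biUnion fun N _ =>
    N.2.isCompact.image (AlgSp.Points.continuous_ofPt a)
  refine ⟨O, hO, ht, ?_⟩
  have hZO := Groth.Agent.Lib.Helper12.OpenSub.isAlgSpace_obj hZ hO
  rw [Groth.Agent.S10174.isQuasiCompactSp_iff hZO]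
  have himm : AlgSp.RepWith @IsImmersion (Groth.Agent.Lib.Helper12.OpenSub.incl Z O) :=
    Groth.Agent.Lib.Helper12.OpenSub.repWith_mono
      (fun _ _ g hg => by haveI : IsOpenImmersion g := hg; infer_instance)
      (Groth.Agent.Lib.Helper12.OpenSub.repWith_incl hO)
  let ZO : AlgSp.Space S := ⟨_, hZO⟩
  let ZS : AlgSp.Space S := ⟨Z, hZ⟩
  let ι : ZO ⟶ ZS := ObjectProperty.homMk (Groth.Agent.Lib.Helper12.OpenSub.incl Z O)
  have hemb := (Groth.Agent.S10191.result ι himm).1
  rw [← isCompact_univ_iff, hemb.isCompact_iff, Set.image_univ]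
  have hr : Set.range (AlgSp.Points.map ι.hom) = O :=
    Groth.Agent.Lib.Helper12.OpenSub.range_map_incl O
  rw [hr]
  exact hOc

/-- a reduced algebra over a Bezout domain all of whose points in a dense set lie over the generic
point is flat. -/
lemma flat_of_dense_over_bot {A R : Type u} [CommRing A] [IsDomain A] [IsBezout A] [CommRing R]
    [IsReduced R] (ρ : A →+* R) (D : Set (PrimeSpectrum R)) (hD : Dense D)
    (hDη : ∀ q ∈ D, q.asIdeal.comap ρ = ⊥) : ρ.Flat := by
  algebraize [ρ]
  show Module.Flat A R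
  rw [Module.Flat.flat_iff_torsion_eq_bot_of_isBezout, eq_bot_iff]
  rintro r ⟨⟨a, ha⟩, har⟩
  rw [Submodule.mem_bot]
  by_contra hr
  have hne : (PrimeSpectrum.basicOpen r : Set (PrimeSpectrum R)).Nonempty := by
    rw [Set.nonempty_iff_ne_empty]
    intro h0
    have : PrimeSpectrum.basicOpen r = ⊥ := SetLike.coe_injective h0
    rw [PrimeSpectrum.basicOpen_eq_bot_iff] at this
    exact hr (IsReduced.eq_zero _ this)
  obtain ⟨q, hq, hqD⟩ := hD.inter_open_nonempty _ (PrimeSpectrum.basicOpen r).2 hne
  have h1 : ρ a * r ∈ q.asIdeal := by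
    have : a • r = 0 := har
    rw [Algebra.smul_def] at this
    change ρ a * r = 0 at this
    rw [this]
    exact q.asIdeal.zero_mem
  have h2 : ρ a ∈ q.asIdeal := (q.isPrime.mem_or_mem h1).resolve_right hq
  have h3 : a ∈ q.asIdeal.comap ρ := h2
  rw [hDη q hqD, Ideal.mem_bot] at h3
  exact (nonZeroDivisors.ne_zero ha) h3

/-- a local injective homomorphism from a valuation ring to a local domain is surjective on
spectra. -/
lemma comap_surjective_of_local {A A' : Type u} [CommRing A] [IsDomain A] [ValuationRing A]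
    [CommRing A'] [IsDomain A'] [IsLocalRing A'] (φ : A →+* A') (hinj : Function.Injective φ)
    [IsLocalHom φ] : Function.Surjective (PrimeSpectrum.comap φ) := by
  algebraize [φ]
  haveI : Module.Flat A A' := by
    rw [Module.Flat.flat_iff_torsion_eq_bot_of_isBezout, eq_bot_iff]
    rintro r ⟨⟨a, ha⟩, har⟩
    rw [Submodule.mem_bot]
    have : a • r = 0 := har
    rw [Algebra.smul_def] at this
    rcases mul_eq_zero.mp this with h | h
    · exfalso
      exact (nonZeroDivisors.ne_zero ha) (hinj (h.trans (map_zero φ).symm))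
    · exact h
  haveI : IsLocalHom (algebraMap A A') := ‹IsLocalHom φ›
  haveI : Module.FaithfullyFlat A A' := Module.FaithfullyFlat.of_flat_of_isLocalHom
  exact PrimeSpectrum.comap_surjective_of_faithfullyFlat

/-- a reduced scheme over a valuation ring with a dense set of points over the generic point is
flat. -/
lemma flat_of_dense_generic {A : Type u} [CommRing A] [IsDomain A] [ValuationRing A]
    {V : Scheme.{u}} [AlgebraicGeometry.IsReduced V] (m : V ⟶ Spec (CommRingCat.of A)) (D : Set V)
    (hD : Dense D) (hDη : ∀ v ∈ D, (m v : PrimeSpectrum A).asIdeal = ⊥) : Flat m := by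
  rw [IsZariskiLocalAtSource.iff_of_openCover (P := @Flat) V.affineCover]
  intro i
  haveI : AlgebraicGeometry.IsReduced (V.affineCover.X i) :=
    isReduced_of_isOpenImmersion (V.affineCover.f i)
  obtain ⟨ρ, hρ⟩ : ∃ ρ : CommRingCat.of A ⟶ Γ(V.affineCover.X i, ⊤),
      (V.affineCover.X i).isoSpec.inv ≫ V.affineCover.f i ≫ m = Spec.map ρ :=
    ⟨Spec.preimage _, (Spec.map_preimage _).symm⟩
  have e : V.affineCover.f i ≫ m = (V.affineCover.X i).isoSpec.hom ≫ Spec.map ρ := by
    rw [← hρ, Iso.hom_inv_id_assoc]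
  rw [e, MorphismProperty.cancel_left_of_respectsIso (P := @Flat),
    HasRingHomProperty.Spec_iff (P := @Flat)]
  haveI : _root_.IsReduced Γ(V.affineCover.X i, ⊤) := inferInstance
  refine flat_of_dense_over_bot ρ.hom
    (((V.affineCover.X i).isoSpec.inv ≫ V.affineCover.f i) ⁻¹' D) ?_ ?_
  · exact hD.preimage
      ((V.affineCover.X i).isoSpec.inv ≫ V.affineCover.f i).isOpenEmbedding.isOpenMap
  · intro q hq
    have h1 := hDη _ hq
    have h2 : m (((V.affineCover.X i).isoSpec.inv ≫ V.affineCover.f i) q) = (Spec.map ρ) q := by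
      rw [← hρ]
      rfl
    rw [h2] at h1
    exact h1

/-- a morphism from a quasi-compact algebraic space to an affine scheme is quasi-compact. -/
lemma isQuasiCompactMor_of_affine_target {Z : AlgSp.Space S} {T : Over S} [IsAffine T.left]
    (g : Z.obj ⟶ (AlgSp.yon S).obj T) (hZ : AlgSp.IsQuasiCompactSp Z.obj) :
    AlgSp.IsQuasiCompactMor g := by
  let TS : AlgSp.Space S := ⟨(AlgSp.yon S).obj T, AlgSp.IsAlgSpace.yon_obj T⟩
  let gS : Z ⟶ TS := ObjectProperty.homMk g
  refine (Groth.Agent.S9917.result gS).2 ?_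
  intro Z₁ hZ₁ g₁ P fst snd sqP
  obtain ⟨W, p, hpe, hps, hW⟩ := hZ
  obtain ⟨γ, rfl⟩ := (AlgSp.yon S).map_surjective g₁
  obtain ⟨β, hβ⟩ := (AlgSp.yon S).map_surjective (p ≫ g)
  have sqQ := (IsPullback.of_hasPullback β γ).map (AlgSp.yon S)
  have hw : ((AlgSp.yon S).map (pullback.fst β γ) ≫ p) ≫ g =
      (AlgSp.yon S).map (pullback.snd β γ) ≫ (AlgSp.yon S).map γ := by
    rw [Category.assoc, ← hβ]
    exact sqQ.w
  let q : (AlgSp.yon S).obj (pullback β γ) ⟶ P := sqP.lift _ _ hw
  have hq1 : q ≫ fst = (AlgSp.yon S).map (pullback.fst β γ) ≫ p := sqP.lift_fst _ _ _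
  have hq2 : q ≫ snd = (AlgSp.yon S).map (pullback.snd β γ) := sqP.lift_snd _ _ _
  have big : IsPullback ((AlgSp.yon S).map (pullback.fst β γ)) (q ≫ snd) (p ≫ g)
      ((AlgSp.yon S).map γ) := by
    rw [hq2, ← hβ]
    exact sqQ
  have left : IsPullback ((AlgSp.yon S).map (pullback.fst β γ)) q p fst :=
    (IsPullback.of_right big.flip hq1 sqP.flip).flip
  have hqe : AlgSp.RepWith @Etale q :=
    MorphismProperty.of_isPullback (P := AlgSp.RepWith @Etale) left hpe
  have hqs : AlgSp.RepWith @Surjective q :=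
    MorphismProperty.of_isPullback (P := AlgSp.RepWith @Surjective) left hps
  refine ⟨pullback β γ, q, hqe, hqs, ?_⟩
  have sqL : IsPullback (pullback.fst β γ).left (pullback.snd β γ).left β.left γ.left :=
    (IsPullback.of_hasPullback β γ).map (Over.forget S)
  haveI : CompactSpace ↥W.left := hW
  haveI : QuasiCompact β.left := (quasiCompact_iff_compactSpace _).2 inferInstance
  haveI : QuasiCompact (pullback.snd β γ).left :=
    MorphismProperty.of_isPullback (P := @QuasiCompact) sqL ‹_›
  haveI : IsAffine Z₁.left := hZ₁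
  exact QuasiCompact.compactSpace_of_compactSpace (pullback.snd β γ).left

end Groth.Agent.Lib.Helper1.ValLift
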