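import Mathlib
import Groth.Agent.Lib.Helper1ValLift
import Groth.Agent.Lib.Helper12Proper
import Groth.Agent.S10582
import Groth.Agent.S9947
import Groth.Agent.Lib.Helper1ImmImage

/-!
# Lifting along dominating extensions, second part (helper1)
-/

set_option autoImplicit false
universe u
open CategoryTheory CategoryTheory.Limits AlgebraicGeometry
open AlgSp

namespace Groth.Agent.Lib.Helper1.ValLift

open Groth.Agent.Lib.Helper1

variable {S : Scheme.{u}}

/-- for a monomorphism `i` the square with identity is cartesian. -/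
lemma isPullback_id_of_mono {C : Type*} [Category C] {A B D : C} (i : B ⟶ D) [Mono i]
    (f' : A ⟶ B) : IsPullback (𝟙 A) f' (f' ≫ i) i := by
  refine IsPullback.of_isLimit' ⟨by rw [Category.id_comp]⟩ ?_
  refine PullbackCone.IsLimit.mk _ (fun t => t.fst) ?_ ?_ ?_
  · intro t
    exact Category.comp_id _
  · intro t
    rw [← cancel_mono i, Category.assoc, t.condition]
  · intro t m hm1 _
    rw [← hm1, Category.comp_id]

/-- the abstract core: a separated flat surjective morphism from a quasi-compact space to an affine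
scheme, with a section over a flat quasi-compact monomorphism `j` that is scheme theoretically
dense in both source and target, is an isomorphism. -/
theorem isIso_of_dense_section {Z₀ : AlgSp.Space S} {ptA ptK : Over S} [IsAffine ptA.left]
    (j : ptK ⟶ ptA) (g : Z₀.obj ⟶ (AlgSp.yon S).obj ptA)
    (x₀ : (AlgSp.yon S).obj ptK ⟶ Z₀.obj) (hx : x₀ ≫ g = (AlgSp.yon S).map j)
    [hjmono : Mono ((AlgSp.yon S).map j)] (hjflat : AlgSp.LocP @Flat ((AlgSp.yon S).map j))
    (hjqc : AlgSp.IsQuasiCompactMor ((AlgSp.yon S).map j))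
    (hjI : AlgSp.IsSchImage ((AlgSp.yon S).map j) (𝟙 ((AlgSp.yon S).obj ptA)))
    (hsep : AlgSp.IsSeparatedMor g) (hqc : AlgSp.IsQuasiCompactSp Z₀.obj)
    (hflat : AlgSp.LocP @Flat g) (hsurj : AlgSp.IsSurjectiveMor g)
    (hI : AlgSp.IsSchImage x₀ (𝟙 Z₀.obj)) : IsIso g := by
  have hA : AlgSp.IsAlgSpace ((AlgSp.yon S).obj ptA) := AlgSp.IsAlgSpace.yon_obj _
  have hK : AlgSp.IsAlgSpace ((AlgSp.yon S).obj ptK) := AlgSp.IsAlgSpace.yon_obj _
  let SA : AlgSp.Space S := ⟨(AlgSp.yon S).obj ptA, hA⟩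
  let SK : AlgSp.Space S := ⟨(AlgSp.yon S).obj ptK, hK⟩
  let gS : Z₀ ⟶ SA := ObjectProperty.homMk g
  let jS : SK ⟶ SA := ObjectProperty.homMk ((AlgSp.yon S).map j)
  let xS : SK ⟶ Z₀ := ObjectProperty.homMk x₀
  have hxS : xS ≫ gS = jS := ObjectProperty.hom_ext _ hx
  -- the generic fibre is a point
  have sqK : IsPullback (pullback.fst g ((AlgSp.yon S).map j)) (pullback.snd g ((AlgSp.yon S).map j))
      (𝟙 Z₀ ≫ gS).hom jS.hom := by
    rw [show (𝟙 Z₀ ≫ gS) = gS from Category.id_comp _]
    exact IsPullback.of_hasPullback _ _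
  haveI : Mono jS.hom := hjmono
  haveI hisoK : IsIso (pullback.snd g ((AlgSp.yon S).map j)) :=
    isIso_snd_of_section gS jS hjflat hjqc hsep xS hxS (𝟙 Z₀) hI _ _ sqK
  -- `g` is a monomorphism
  have hW : AlgSp.IsAlgSpace (pullback g g) :=
    Groth.Agent.S9874.isAlgSpace_of_isPullback hA.diag Z₀.property Z₀.property
      (IsPullback.of_hasPullback g g)
  let WS : AlgSp.Space S := ⟨pullback g g, hW⟩
  let p₁ : WS ⟶ Z₀ := ObjectProperty.homMk (pullback.fst g g)
  let p₂ : WS ⟶ Z₀ := ObjectProperty.homMk (pullback.snd g g)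
  have hp₁f : AlgSp.LocP @Flat (pullback.fst g g) :=
    Groth.Agent.Lib.Helper12.LocPCases.good_flat.locP_baseChange Z₀.property hA Z₀.property
      (IsPullback.of_hasPullback g g).flip hflat
  have hqW : AlgSp.LocP @Flat (pullback.fst g g ≫ g) :=
    Groth.Agent.Lib.Helper12.LocPCases.good_flat.locP_comp Z₀.property hA _ _ hp₁f hflat
  have hWK : AlgSp.IsAlgSpace (pullback ((AlgSp.yon S).map j) (pullback.fst g g ≫ g)) :=
    Groth.Agent.S9874.isAlgSpace_of_isPullback hA.diag hK hW (IsPullback.of_hasPullback _ _)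
  let WK : AlgSp.Space S := ⟨pullback ((AlgSp.yon S).map j) (pullback.fst g g ≫ g), hWK⟩
  let jW : WK ⟶ WS := ObjectProperty.homMk (pullback.snd ((AlgSp.yon S).map j) (pullback.fst g g ≫ g))
  have hIW : AlgSp.IsSchImage jW.hom (𝟙 WS.obj) :=
    SchImage.isSchImage_base_change hA hW hK (pullback.fst g g ≫ g) hqW ((AlgSp.yon S).map j) hjqc
      (𝟙 _) hjI (pullback.fst _ _) (pullback.snd _ _) (IsPullback.of_hasPullback _ _)
      (pullback.fst g g ≫ g) (𝟙 _) IsPullback.of_id_snd
  have h12 : p₁ = p₂ := by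
    refine eq_of_isSchImage_id gS hsep p₁ p₂ (ObjectProperty.hom_ext _ pullback.condition) jW hIW ?_
    apply ObjectProperty.hom_ext
    change pullback.snd ((AlgSp.yon S).map j) (pullback.fst g g ≫ g) ≫ pullback.fst g g =
      pullback.snd ((AlgSp.yon S).map j) (pullback.fst g g ≫ g) ≫ pullback.snd g g
    have hc := pullback.condition (f := (AlgSp.yon S).map j) (g := pullback.fst g g ≫ g)
    have e₁ : (pullback.snd ((AlgSp.yon S).map j) (pullback.fst g g ≫ g) ≫ pullback.fst g g) ≫ g =
        pullback.fst ((AlgSp.yon S).map j) (pullback.fst g g ≫ g) ≫ (AlgSp.yon S).map j := by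
      rw [hc, Category.assoc]
    have e₂ : (pullback.snd ((AlgSp.yon S).map j) (pullback.fst g g ≫ g) ≫ pullback.snd g g) ≫ g =
        pullback.fst ((AlgSp.yon S).map j) (pullback.fst g g ≫ g) ≫ (AlgSp.yon S).map j := by
      rw [hc, Category.assoc]
      exact congrArg (fun m => pullback.snd ((AlgSp.yon S).map j) (pullback.fst g g ≫ g) ≫ m)
        (pullback.condition (f := g) (g := g)).symm
    have e₃ : pullback.lift _ _ e₁ = pullback.lift _ _ e₂ := by
      rw [← cancel_mono (pullback.snd g ((AlgSp.yon S).map j)), pullback.lift_snd,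
        pullback.lift_snd]
    have := congrArg (fun m => m ≫ pullback.fst g ((AlgSp.yon S).map j)) e₃
    simpa only [pullback.lift_fst] using this
  have h12' : pullback.fst g g = pullback.snd g g := congrArg (fun m => m.hom) h12
  haveI : Mono gS.hom := by
    constructor
    intro T a b hab
    change a ≫ g = b ≫ g at hab
    rw [← pullback.lift_fst a b hab, h12', pullback.lift_snd]
  have hgqc : AlgSp.IsQuasiCompactMor gS.hom := isQuasiCompactMor_of_affine_target g hqc
  exact Groth.Agent.S10582.result gS hgqc hflat hsurj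

/-- a reduced algebraic space over a valuation ring with a dense set of points over the generic
point is flat. -/
theorem locP_flat_of_dense {A : Type u} [CommRing A] [IsDomain A] [ValuationRing A]
    (str : Spec (CommRingCat.of A) ⟶ S) {Z₀ : AlgSp.Space S}
    (g : Z₀.obj ⟶ (AlgSp.yon S).obj (Over.mk str)) (hred : AlgSp.IsReducedSp Z₀.obj)
    (D₀ : Set (AlgSp.Points Z₀.obj)) (hD : Dense D₀)
    (hDη : ∀ z ∈ D₀,
      (AlgSp.Points.toScheme (Over.mk str) (AlgSp.Points.map g z) : PrimeSpectrum A).asIdeal = ⊥) :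
    AlgSp.LocP @Flat g := by
  obtain ⟨V, a, hae, has⟩ := Z₀.property.atlas
  obtain ⟨h, hh⟩ := (AlgSp.yon S).map_surjective (a ≫ g)
  let TS : AlgSp.Space S := ⟨(AlgSp.yon S).obj (Over.mk str), AlgSp.IsAlgSpace.yon_obj _⟩
  let gS : Z₀ ⟶ TS := ObjectProperty.homMk g
  refine Groth.Agent.S9947.result @Flat (Or.inr (Or.inr (Or.inl rfl))) gS a (𝟙 _) h hae has
    (AlgSp.repWith_id _ _) (by rw [Category.comp_id]; exact hh.symm) ?_
  haveI : AlgebraicGeometry.IsReduced V.left := ImmImage.isReduced_of_etale_chart hred a hae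
  refine flat_of_dense_generic h.left (AlgSp.Points.ofPt a ⁻¹' D₀)
    (hD.preimage (Groth.Agent.S10176.isOpenMap_ofPt a hae)) ?_
  intro v hv
  have h1 := hDη _ hv
  rw [AlgSp.Points.map_ofPt, ← hh, AlgSp.Points.toScheme_ofPt] at h1
  exact h1

end Groth.Agent.Lib.Helper1.ValLift
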