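import Mathlib
import Groth.Agent.Lib.Helper12OpenSub2
import Groth.Agent.Lib.Helper1ValLift2
import Groth.Agent.S9874
import Groth.Agent.S9928
import Groth.Agent.S10174
import Groth.Prelude.Def_AlgSpInf

/-!
# Morphisms of thickenings of algebraic spaces (helper1)
-/

set_option autoImplicit false
universe u
open CategoryTheory CategoryTheory.Limits AlgebraicGeometry
open AlgSp

namespace Groth.Agent.Lib.Helper1.Thick

open Groth.Agent.Lib.Helper12

variable {S : Scheme.{u}}

/-- the homeomorphism on points induced by a thickening. -/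
noncomputable def homeo {X X' : AlgSp.Sp S} (i : X ⟶ X') (hi : AlgSp.IsThickMor i) :
    AlgSp.Points X ≃ₜ AlgSp.Points X' :=
  (Equiv.ofBijective _ (OpenSub.thick_points i hi).1).toHomeomorphOfContinuousOpen
    (AlgSp.Points.continuous_map i) (OpenSub.thick_points i hi).2

lemma homeo_apply {X X' : AlgSp.Sp S} (i : X ⟶ X') (hi : AlgSp.IsThickMor i)
    (x : AlgSp.Points X) : homeo i hi x = AlgSp.Points.map i x := rfl

/-- a thickening is a monomorphism. -/
lemma mono_of_thick {X X' : AlgSp.Sp S} (i : X ⟶ X') (hi : AlgSp.IsThickMor i) : Mono i :=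
  Groth.Agent.S9928.mono_of_repWith AlgSp.thick
    (fun _ _ g hg => by haveI : IsClosedImmersion g := hg.1; infer_instance) i hi

/-- transfer of topological properties along homeomorphisms of source and target. -/
lemma top_transfer {A A' B B' : Type*} [TopologicalSpace A] [TopologicalSpace A']
    [TopologicalSpace B] [TopologicalSpace B'] (hk : A ≃ₜ A') (hz : B ≃ₜ B') (s : A → B)
    (s' : A' → B') (h : ∀ a, s' (hk a) = hz (s a)) :
    (IsClosedMap s ↔ IsClosedMap s') ∧ (IsOpenMap s ↔ IsOpenMap s') ∧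
      (Function.Injective s ↔ Function.Injective s') ∧
      (Function.Surjective s ↔ Function.Surjective s') := by
  have e1 : s' = hz ∘ s ∘ hk.symm := by
    funext a'
    have := h (hk.symm a')
    rw [Homeomorph.apply_symm_apply] at this
    exact this
  have e2 : s = hz.symm ∘ s' ∘ hk := by
    funext a
    change s a = hz.symm (s' (hk a))
    rw [h, Homeomorph.symm_apply_apply]
  refine ⟨⟨fun hs => ?_, fun hs => ?_⟩, ⟨fun hs => ?_, fun hs => ?_⟩, ⟨fun hs => ?_, fun hs => ?_⟩,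
    ⟨fun hs => ?_, fun hs => ?_⟩⟩
  · rw [e1]
    exact hz.isClosedMap.comp (hs.comp hk.symm.isClosedMap)
  · rw [e2]
    exact hz.symm.isClosedMap.comp (hs.comp hk.isClosedMap)
  · rw [e1]
    exact hz.isOpenMap.comp (hs.comp hk.symm.isOpenMap)
  · rw [e2]
    exact hz.symm.isOpenMap.comp (hs.comp hk.isOpenMap)
  · rw [e1]
    exact hz.injective.comp (hs.comp hk.symm.injective)
  · rw [e2]
    exact hz.symm.injective.comp (hs.comp hk.injective)
  · rw [e1]
    exact hz.surjective.comp (hs.comp hk.symm.surjective)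
  · rw [e2]
    exact hz.symm.surjective.comp (hs.comp hk.surjective)

/-- a test space over the thickened base restricts to a test space over the base. -/
lemma exists_up {X X' Y Y' : AlgSp.Sp S} (i : X ⟶ X') (j : Y ⟶ Y') (f : X ⟶ Y) (f' : X' ⟶ Y')
    (hi : AlgSp.IsThickMor i) (hj : AlgSp.IsThickMor j) (w : i ≫ f' = f ≫ j)
    {Z' P' : AlgSp.Sp S} (g' : Z' ⟶ Y') (fst' : P' ⟶ X') (snd' : P' ⟶ Z')
    (sq' : IsPullback fst' snd' f' g') :
    ∃ (Z P : AlgSp.Sp S) (z₁ : Z ⟶ Z') (g : Z ⟶ Y) (p₁ : P ⟶ X) (p₂ : P ⟶ Z) (k : P ⟶ P'),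
      IsPullback z₁ g g' j ∧ AlgSp.IsThickMor z₁ ∧ IsPullback p₁ p₂ f g ∧ AlgSp.IsThickMor k ∧
        k ≫ snd' = p₂ ≫ z₁ := by
  have sqZ := IsPullback.of_hasPullback g' j
  have sqP := IsPullback.of_hasPullback f (pullback.snd g' j)
  have hz₁ : AlgSp.IsThickMor (pullback.fst g' j) :=
    MorphismProperty.of_isPullback (P := AlgSp.RepWith AlgSp.thick) sqZ.flip hj
  have hw : (pullback.fst f (pullback.snd g' j) ≫ i) ≫ f' =
      (pullback.snd f (pullback.snd g' j) ≫ pullback.fst g' j) ≫ g' := by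
    rw [Category.assoc, w, ← Category.assoc, sqP.w, Category.assoc, ← sqZ.w, Category.assoc]
  have hk1 : sq'.lift _ _ hw ≫ fst' = pullback.fst f (pullback.snd g' j) ≫ i := sq'.lift_fst _ _ _
  have hk2 : sq'.lift _ _ hw ≫ snd' =
      pullback.snd f (pullback.snd g' j) ≫ pullback.fst g' j := sq'.lift_snd _ _ _
  have houter : IsPullback (pullback.fst f (pullback.snd g' j))
      (sq'.lift _ _ hw ≫ snd') (i ≫ f') g' := by
    rw [hk2, w]
    exact sqP.paste_vert sqZ.flip
  have sqk : IsPullback (pullback.fst f (pullback.snd g' j)) (sq'.lift _ _ hw) i fst' :=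
    IsPullback.of_bot houter hk1.symm sq'
  exact ⟨_, _, _, _, _, _, sq'.lift _ _ hw, sqZ, hz₁, sqP,
    MorphismProperty.of_isPullback (P := AlgSp.RepWith AlgSp.thick) sqk hi, hk2⟩

/-- a test space over the base is a thickening-closed subspace of the induced test space over
the thickened base. -/
lemma exists_down {X X' Y Y' : AlgSp.Sp S} (i : X ⟶ X') (j : Y ⟶ Y') (f : X ⟶ Y) (f' : X' ⟶ Y')
    (hi : AlgSp.IsThickMor i) (hj : AlgSp.IsThickMor j) (w : i ≫ f' = f ≫ j)
    {Z P : AlgSp.Sp S} (g : Z ⟶ Y) (fst : P ⟶ X) (snd : P ⟶ Z) (sq : IsPullback fst snd f g) :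
    ∃ (P' : AlgSp.Sp S) (fst' : P' ⟶ X') (snd' : P' ⟶ Z) (k : P ⟶ P'),
      IsPullback fst' snd' f' (g ≫ j) ∧ AlgSp.IsThickMor k ∧ k ≫ snd' = snd := by
  haveI : Mono j := mono_of_thick j hj
  have sq' := IsPullback.of_hasPullback f' (g ≫ j)
  have hw : (fst ≫ i) ≫ f' = snd ≫ g ≫ j := by
    rw [Category.assoc, w, ← Category.assoc, sq.w, Category.assoc]
  have hk1 : pullback.lift _ _ hw ≫ pullback.fst f' (g ≫ j) = fst ≫ i := pullback.lift_fst _ _ _
  have hk2 : pullback.lift _ _ hw ≫ pullback.snd f' (g ≫ j) = snd := pullback.lift_snd _ _ _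
  have houter : IsPullback fst (pullback.lift _ _ hw ≫ pullback.snd f' (g ≫ j)) (i ≫ f')
      (g ≫ j) := by
    rw [hk2, w]
    have := sq.paste_vert (ValLift.isPullback_id_of_mono j g).flip
    rwa [Category.comp_id] at this
  have sqk : IsPullback fst (pullback.lift _ _ hw) i (pullback.fst f' (g ≫ j)) :=
    IsPullback.of_bot houter hk1.symm sq'
  exact ⟨_, _, _, pullback.lift _ _ hw, sq',
    MorphismProperty.of_isPullback (P := AlgSp.RepWith AlgSp.thick) sqk hi, hk2⟩

/-- universal topological properties pass between the two morphisms of a morphism of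
thickenings. -/
theorem univSp_iff {X X' Y Y' : AlgSp.Sp S} (i : X ⟶ X') (j : Y ⟶ Y') (f : X ⟶ Y) (f' : X' ⟶ Y')
    (hY : AlgSp.IsAlgSpace Y) (hY' : AlgSp.IsAlgSpace Y')
    (hi : AlgSp.IsThickMor i) (hj : AlgSp.IsThickMor j) (w : i ≫ f' = f ≫ j)
    (Q : ∀ {A B : Type (u + 1)} [TopologicalSpace A] [TopologicalSpace B], (A → B) → Prop)
    (hQ : ∀ {A A' B B' : Type (u + 1)} [TopologicalSpace A] [TopologicalSpace A']
      [TopologicalSpace B] [TopologicalSpace B'] (hk : A ≃ₜ A') (hz : B ≃ₜ B') (s : A → B)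
      (s' : A' → B'), (∀ a, s' (hk a) = hz (s a)) → (Q s ↔ Q s')) :
    AlgSp.UnivSp (fun _ _ m => Q (AlgSp.Points.map m)) f ↔
      AlgSp.UnivSp (fun _ _ m => Q (AlgSp.Points.map m)) f' := by
  constructor
  · intro h Z' P' hZ' g' fst' snd' sq'
    obtain ⟨Z, P, z₁, g, p₁, p₂, k, sqZ, hz₁, sqP, hk, hkw⟩ :=
      exists_up i j f f' hi hj w g' fst' snd' sq'
    have hZ : AlgSp.IsAlgSpace Z :=
      Groth.Agent.S9874.isAlgSpace_of_isPullback hY'.diag hZ' hY sqZ
    have h1 := h hZ g p₁ p₂ sqP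
    refine (hQ (homeo k hk) (homeo z₁ hz₁) _ _ ?_).1 h1
    intro a
    rw [homeo_apply, homeo_apply, ← AlgSp.Points.map_comp, ← AlgSp.Points.map_comp, hkw]
  · intro h Z P hZ g fst snd sq
    obtain ⟨P', fst', snd', k, sq', hk, hkw⟩ := exists_down i j f f' hi hj w g fst snd sq
    have h1 := h hZ (g ≫ j) fst' snd' sq'
    refine (hQ (homeo k hk) (Homeomorph.refl _) _ _ ?_).2 h1
    intro a
    rw [homeo_apply, ← AlgSp.Points.map_comp, hkw]
    rfl

end Groth.Agent.Lib.Helper1.Thick
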