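import Mathlib

/-!
# Valuation rings reaching points of a scheme theoretic image (helper1)

* `exists_specializes_of_mem_support_ker`: for a quasi-compact morphism of schemes `w : W ⟶ U`,
  every point in the support of the kernel ideal sheaf is a specialization of a point in the
  image of `w`.
* `exists_valuationSubring_of_specializes`: a specialization `f x' ⤳ y` is realised by a valuation
  subring of the residue field of `x'`.
-/

set_option autoImplicit false
universe u
open CategoryTheory CategoryTheory.Limits AlgebraicGeometry TopologicalSpace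

namespace Groth.Agent.Lib.Helper1.ValImage

open IsLocalRing

set_option backward.isDefEq.respectTransparency.types false in
/-- a specialization `f x' ⤳ y` is realised by a valuation subring of the residue field of `x'`
(extracted from the proof of `ValuativeCriterion.Existence.specializingMap` in Mathlib). -/
lemma exists_valuationSubring_of_specializes {X Y : Scheme.{u}} (f : X ⟶ Y) (x' : X) (y : Y)
    (h : f x' ⤳ y) :
    ∃ (A : ValuationSubring (X.residueField x')) (l : Spec (.of A) ⟶ Y),
      l (closedPoint A) = y ∧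
      X.fromSpecResidueField x' ≫ f =
        Spec.map (CommRingCat.ofHom (algebraMap A (X.residueField x'))) ≫ l := by
  let stalk_y_to_residue_x' : Y.presheaf.stalk y ⟶ X.residueField x' :=
    Y.presheaf.stalkSpecializes h ≫ f.stalkMap x' ≫ X.residue x'
  obtain ⟨A, hA, hA_local⟩ := exists_factor_valuationRing stalk_y_to_residue_x'.hom
  let stalk_y_to_A : Y.presheaf.stalk y ⟶ .of A :=
    CommRingCat.ofHom (stalk_y_to_residue_x'.hom.codRestrict _ hA)
  have w : X.fromSpecResidueField x' ≫ f =
      Spec.map (CommRingCat.ofHom (algebraMap A (X.residueField x'))) ≫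
        Spec.map stalk_y_to_A ≫ Y.fromSpecStalk y := by
    rw [Scheme.fromSpecResidueField, Category.assoc, ← Scheme.SpecMap_stalkMap_fromSpecStalk,
      ← Scheme.SpecMap_stalkSpecializes_fromSpecStalk h]
    simp_rw [← Spec.map_comp_assoc]
    rfl
  refine ⟨A, Spec.map stalk_y_to_A ≫ Y.fromSpecStalk y, ?_, w⟩
  simp only [Scheme.Hom.comp_base, TopCat.coe_comp, Function.comp_apply]
  have : Spec.map stalk_y_to_A (closedPoint A) = closedPoint (Y.presheaf.stalk y) :=
    comap_closedPoint (S := A) (stalk_y_to_residue_x'.hom.codRestrict A.toSubring hA)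
  rw [this, Y.fromSpecStalk_closedPoint]

/-- for a quasi-compact morphism `w`, every point of the support of the kernel ideal sheaf is a
specialization of a point in the image of `w`. -/
lemma exists_specializes_of_mem_support_ker {W U : Scheme.{u}} (w : W ⟶ U) [QuasiCompact w]
    (u₀ : U) (h : u₀ ∈ w.ker.support) : ∃ x' : W, w x' ⤳ u₀ := by
  obtain ⟨_, ⟨T, hT, rfl⟩, hu₀T, -⟩ :=
    (U.isBasis_affineOpens).exists_subset_of_mem_open (Set.mem_univ u₀) isOpen_univ
  let p := hT.primeIdealOf ⟨u₀, hu₀T⟩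
  have hp : hT.fromSpec p = u₀ := hT.fromSpec_primeIdealOf ⟨u₀, hu₀T⟩
  have hIp : w.ker.ideal ⟨T, hT⟩ ≤ p.asIdeal := by
    have h1 : u₀ ∈ U.zeroLocus (U := T) (w.ker.ideal ⟨T, hT⟩ : Set Γ(U, T)) :=
      (Scheme.IdealSheafData.mem_support_iff.mp h) ⟨T, hT⟩
    rw [← hp] at h1
    have h2 : p ∈ hT.fromSpec ⁻¹' U.zeroLocus (U := T) (w.ker.ideal ⟨T, hT⟩ : Set Γ(U, T)) := h1
    rw [hT.fromSpec_preimage_zeroLocus] at h2
    exact (PrimeSpectrum.mem_zeroLocus _ _).mp h2
  rw [Scheme.Hom.ker_apply] at hIp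
  have hc : IsCompact (w ⁻¹ᵁ T : Set W) := QuasiCompact.isCompact_preimage _ T.2 hT.isCompact
  obtain ⟨s, hs, hse⟩ := isCompact_iff_finite_and_eq_biUnion_affineOpens.mp hc
  have hle : ∀ V ∈ s, (V : W.Opens) ≤ w ⁻¹ᵁ T := fun V hV => by
    rw [hse]
    exact le_iSup₂ (f := fun (i : W.affineOpens) (_ : i ∈ s) => (i : W.Opens)) V hV
  by_contra hne
  push_neg at hne
  -- on each member of the cover, some element outside `p` dies
  have key : ∀ V : s, ∃ m : Γ(U, T), m ∈ p.asIdeal.primeCompl ∧
      (w.appLE T V.1.1 (hle V.1 V.2)).hom m = 0 := by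
    intro V
    by_contra hV
    push_neg at hV
    have hdis : Disjoint ((⊥ : Ideal Γ(W, V.1.1)) : Set Γ(W, V.1.1))
        (p.asIdeal.primeCompl.map (w.appLE T V.1.1 (hle V.1 V.2)).hom) := by
      rw [Set.disjoint_left]
      rintro x hx ⟨m, hm, rfl⟩
      exact hV m hm hx
    obtain ⟨q, hq, -, hqd⟩ := Ideal.exists_le_prime_disjoint _ _ hdis
    let x' : W := V.1.2.fromSpec ⟨q, hq⟩
    refine hne x' ?_
    have e : w x' = hT.fromSpec (Spec.map (w.appLE T V.1.1 (hle V.1 V.2)) ⟨q, hq⟩) := by
      rw [← Scheme.Hom.comp_apply, ← Scheme.Hom.comp_apply,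
        IsAffineOpen.SpecMap_appLE_fromSpec w hT V.1.2 (hle V.1 V.2)]
    rw [e, ← hp]
    refine Specializes.map ?_ hT.fromSpec.continuous
    have hle' : q.comap (w.appLE T V.1.1 (hle V.1 V.2)).hom ≤ p.asIdeal := by
      intro m hm
      by_contra hmp
      exact Set.disjoint_left.mp hqd
        (show (w.appLE T V.1.1 (hle V.1 V.2)).hom m ∈ q from hm) ⟨m, hmp, rfl⟩
    exact (PrimeSpectrum.le_iff_specializes
      (⟨q.comap (w.appLE T V.1.1 (hle V.1 V.2)).hom, inferInstance⟩ : PrimeSpectrum Γ(U, T)) p).mp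
      hle'
  choose m hm hm0 using key
  haveI : Fintype s := hs.fintype
  have hprod : (∏ V : s, m V) ∈ p.asIdeal.primeCompl :=
    Submonoid.prod_mem _ fun V _ => hm V
  have hzero : (w.app T).hom (∏ V : s, m V) = 0 := by
    refine TopCat.Sheaf.eq_of_locally_eq' W.sheaf (fun V : s => (V.1 : W.Opens)) (w ⁻¹ᵁ T)
      (fun V => homOfLE (hle V.1 V.2)) ?_ _ _ ?_
    · rw [hse]
      exact iSup₂_le fun V hV => le_iSup (fun V : s => (V.1 : W.Opens)) ⟨V, hV⟩
    · intro V
      have e : (w.appLE T V.1.1 (hle V.1 V.2)).hom (∏ V : s, m V) = 0 := by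
        rw [map_prod]
        exact Finset.prod_eq_zero (Finset.mem_univ V) (hm0 V)
      refine Eq.trans ?_ (map_zero _).symm
      exact e
  exact hprod (hIp ((RingHom.mem_ker).mpr hzero))

end Groth.Agent.Lib.Helper1.ValImage
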