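import Mathlib

/-!
# Quotients of polynomial rings by monic one-variable relations (`LeadAS`, part a)

For monic `f i ∈ R[X]` of common degree `m`, the ring
`Q f = R[X_1..X_n] / (f_1(X_1), …, f_n(X_n))` is free over `R` on the monomials with exponents `< m`;
moreover `Q f` is `AdjoinRoot` of `f 0` over `Q (tail f)`.
-/

set_option autoImplicit false
set_option maxHeartbeats 400000
set_option linter.style.haveILetI false
set_option linter.unusedSectionVars false
set_option linter.unusedVariables false

universe u

noncomputable section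

namespace Groth.Agent.Lib.LeadAS

open Polynomial Module

section Span

variable {R : Type u} [CommRing R] {B : Type u} [CommRing B] [Algebra R B]
variable {n m : ℕ}

/-- monomials in `v` with exponents `< m` -/
def monOf (v : Fin n → B) (m : ℕ) (e : Fin n → Fin m) : B := ∏ i, v i ^ (e i : ℕ)

lemma monOf_eq_erase (v : Fin n → B) (e : Fin n → Fin m) (i : Fin n) :
    monOf v m e = (∏ k ∈ Finset.univ.erase i, v k ^ (e k : ℕ)) * v i ^ (e i : ℕ) := by
  unfold monOf
  exact (Finset.prod_erase_mul _ _ (Finset.mem_univ i)).symm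

lemma monOf_update (v : Fin n → B) (e : Fin n → Fin m) (i : Fin n) (j : Fin m) :
    monOf v m (Function.update e i j) =
      (∏ k ∈ Finset.univ.erase i, v k ^ (e k : ℕ)) * v i ^ (j : ℕ) := by
  rw [monOf_eq_erase v _ i, Function.update_self]
  congr 1
  apply Finset.prod_congr rfl
  intro k hk
  rw [Function.update_of_ne (Finset.ne_of_mem_erase hk)]

lemma pow_natDegree_eq {f : R[X]} (hf : f.Monic) (x : B) (hx : Polynomial.aeval x f = 0) :
    x ^ f.natDegree = - ∑ l : Fin f.natDegree, (f.coeff l) • x ^ (l : ℕ) := by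
  have h := congrArg (Polynomial.aeval x) hf.as_sum
  rw [hx] at h
  have h2 : x ^ f.natDegree + ∑ l : Fin f.natDegree, (f.coeff l) • x ^ (l : ℕ) = 0 := by
    rw [h, map_add, map_pow, aeval_X, map_sum, Finset.sum_range]
    congr 1
    apply Finset.sum_congr rfl
    intro l _
    rw [map_mul, aeval_C, map_pow, aeval_X, Algebra.smul_def]
  exact eq_neg_of_add_eq_zero_left h2

theorem span_monOf_eq_top (v : Fin n → B) (f : Fin n → R[X]) (hf : ∀ i, (f i).Monic)
    (hm : ∀ i, (f i).natDegree = m) (hm0 : 0 < m)
    (hv : ∀ i, Polynomial.aeval (v i) (f i) = 0)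
    (hgen : Algebra.adjoin R (Set.range v) = ⊤) :
    Submodule.span R (Set.range (monOf v m)) = ⊤ := by
  set S := Submodule.span R (Set.range (monOf v m)) with hS
  have h1 : (1 : B) ∈ S := by
    apply Submodule.subset_span
    refine ⟨fun _ => ⟨0, hm0⟩, ?_⟩
    simp [monOf]
  have hstep : ∀ i, ∀ s ∈ S, v i * s ∈ S := by
    intro i s hs
    induction hs using Submodule.span_induction with
    | mem x hx =>
      obtain ⟨e, rfl⟩ := hx
      by_cases hlt : (e i : ℕ) + 1 < m
      · have : v i * monOf v m e = monOf v m (Function.update e i ⟨(e i : ℕ) + 1, hlt⟩) := by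
          rw [monOf_update, monOf_eq_erase v e i, pow_succ]; ring
        rw [this]; exact Submodule.subset_span ⟨_, rfl⟩
      · have heq : (e i : ℕ) + 1 = m := by have := (e i).2; omega
        have hpow : v i ^ m = - ∑ l : Fin m, ((f i).coeff l) • v i ^ (l : ℕ) := by
          have := pow_natDegree_eq (hf i) (v i) (hv i)
          have hmi := hm i
          clear_value S
          subst hmi
          exact this
        have : v i * monOf v m e
            = - ∑ l : Fin m, ((f i).coeff l) • monOf v m (Function.update e i l) := by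
          rw [monOf_eq_erase v e i]
          have : v i * ((∏ k ∈ Finset.univ.erase i, v k ^ (e k : ℕ)) * v i ^ (e i : ℕ))
              = (∏ k ∈ Finset.univ.erase i, v k ^ (e k : ℕ)) * v i ^ m := by
            have hvm : v i ^ m = v i ^ (e i : ℕ) * v i := by rw [← pow_succ, heq]
            rw [hvm]; ring
          rw [this, hpow, mul_neg, Finset.mul_sum]
          congr 1
          apply Finset.sum_congr rfl
          intro l _
          rw [monOf_update, mul_smul_comm]
        rw [this]
        apply Submodule.neg_mem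
        apply Submodule.sum_mem
        intro l _
        apply Submodule.smul_mem
        exact Submodule.subset_span ⟨_, rfl⟩
    | zero => simp
    | add x y _ _ hx hy => rw [mul_add]; exact S.add_mem hx hy
    | smul a x _ hx => rw [mul_smul_comm]; exact S.smul_mem a hx
  have hall : ∀ b ∈ Algebra.adjoin R (Set.range v), ∀ s ∈ S, b * s ∈ S := by
    intro b hb
    induction hb using Algebra.adjoin_induction with
    | mem x hx =>
      obtain ⟨i, rfl⟩ := hx
      exact hstep i
    | algebraMap r =>
      intro s hs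
      rw [← Algebra.smul_def]
      exact S.smul_mem r hs
    | add x y _ _ hx hy =>
      intro s hs
      rw [add_mul]
      exact S.add_mem (hx s hs) (hy s hs)
    | mul x y _ _ hx hy =>
      intro s hs
      rw [mul_assoc]
      exact hx _ (hy s hs)
  rw [eq_top_iff]
  intro b _
  have hb : b ∈ Algebra.adjoin R (Set.range v) := by rw [hgen]; trivial
  have := hall b hb 1 h1
  rwa [mul_one] at this

end Span

section Quot

variable {R : Type u} [CommRing R] {n : ℕ}

/-- the `i`-th relation `f i (X i)` -/
def gen (f : Fin n → R[X]) (i : Fin n) : MvPolynomial (Fin n) R :=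
  Polynomial.aeval (MvPolynomial.X i : MvPolynomial (Fin n) R) (f i)

/-- the ideal of relations -/
def I (f : Fin n → R[X]) : Ideal (MvPolynomial (Fin n) R) := Ideal.span (Set.range (gen f))

/-- the quotient ring -/
abbrev Q (f : Fin n → R[X]) : Type u := MvPolynomial (Fin n) R ⧸ I f

/-- the class of the `i`-th variable -/
def u (f : Fin n → R[X]) (i : Fin n) : Q f := Ideal.Quotient.mk (I f) (MvPolynomial.X i)

lemma aeval_u (f : Fin n → R[X]) (i : Fin n) : Polynomial.aeval (u f i) (f i) = 0 := by
  have h := Polynomial.aeval_algHom_apply (Ideal.Quotient.mkₐ R (I f))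
    (MvPolynomial.X i : MvPolynomial (Fin n) R) (f i)
  have h0 : (Ideal.Quotient.mkₐ R (I f)) (gen f i) = 0 :=
    Ideal.Quotient.eq_zero_iff_mem.mpr (Ideal.subset_span ⟨i, rfl⟩)
  change Polynomial.aeval ((Ideal.Quotient.mkₐ R (I f)) (MvPolynomial.X i)) (f i) = 0
  rw [h]
  exact h0

lemma adjoin_u (f : Fin n → R[X]) : Algebra.adjoin R (Set.range (u f)) = ⊤ := by
  have h1 : Set.range (u f) = (Ideal.Quotient.mkₐ R (I f)) '' (Set.range MvPolynomial.X) := by
    rw [← Set.range_comp]; rfl
  rw [h1, ← AlgHom.map_adjoin, MvPolynomial.adjoin_range_X, Algebra.map_top,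
    AlgHom.range_eq_top]
  exact Ideal.Quotient.mkₐ_surjective R (I f)

theorem span_mon {m : ℕ} (f : Fin n → R[X]) (hf : ∀ i, (f i).Monic)
    (hm : ∀ i, (f i).natDegree = m) (hm0 : 0 < m) :
    Submodule.span R (Set.range (monOf (u f) m)) = ⊤ :=
  span_monOf_eq_top (u f) f hf hm hm0 (aeval_u f) (adjoin_u f)

section Lift

variable {B : Type u} [CommRing B] [Algebra R B]

lemma aeval_gen (f : Fin n → R[X]) (v : Fin n → B) (i : Fin n) :
    MvPolynomial.aeval v (gen f i) = Polynomial.aeval (v i) (f i) := by
  unfold gen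
  rw [← Polynomial.aeval_algHom_apply, MvPolynomial.aeval_X]

lemma liftQ_aux (f : Fin n → R[X]) (v : Fin n → B)
    (hv : ∀ i, Polynomial.aeval (v i) (f i) = 0) :
    ∀ a : MvPolynomial (Fin n) R, a ∈ I f →
      (MvPolynomial.aeval v : MvPolynomial (Fin n) R →ₐ[R] B) a = 0 := by
  intro a ha
  have hle : I f ≤ RingHom.ker (MvPolynomial.aeval v : MvPolynomial (Fin n) R →ₐ[R] B) := by
    unfold I
    rw [Ideal.span_le]
    rintro _ ⟨i, rfl⟩
    change MvPolynomial.aeval v (gen f i) = 0
    rw [aeval_gen, hv i]
  exact hle ha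

/-- the map out of `Q f` given by roots of the `f i` -/
def liftQ (f : Fin n → R[X]) (v : Fin n → B) (hv : ∀ i, Polynomial.aeval (v i) (f i) = 0) :
    Q f →ₐ[R] B :=
  Ideal.Quotient.liftₐ (I f) (MvPolynomial.aeval v) (liftQ_aux f v hv)

@[simp] lemma liftQ_u (f : Fin n → R[X]) (v : Fin n → B)
    (hv : ∀ i, Polynomial.aeval (v i) (f i) = 0) (i : Fin n) :
    liftQ f v hv (u f i) = v i := by
  have h := AlgHom.congr_fun
    (Ideal.Quotient.liftₐ_comp (I f) (MvPolynomial.aeval v) (liftQ_aux f v hv))
    (MvPolynomial.X i)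
  rw [MvPolynomial.aeval_X] at h
  exact h

lemma liftQ_monOf {m : ℕ} (f : Fin n → R[X]) (v : Fin n → B)
    (hv : ∀ i, Polynomial.aeval (v i) (f i) = 0) (e : Fin n → Fin m) :
    liftQ f v hv (monOf (u f) m e) = monOf v m e := by
  unfold monOf
  rw [map_prod]
  apply Finset.prod_congr rfl
  intro i _
  rw [map_pow, liftQ_u]

end Lift

lemma algHom_ext_Q {B : Type*} [Semiring B] [Algebra R B] (f : Fin n → R[X])
    (φ ψ : Q f →ₐ[R] B) (h : ∀ i, φ (u f i) = ψ (u f i)) : φ = ψ := by
  apply Ideal.Quotient.algHom_ext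
  apply MvPolynomial.algHom_ext
  intro i
  exact h i

end Quot

end Groth.Agent.Lib.LeadAS
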