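import Groth.Agent.Lib.LeadASa

/-!
# `LeadAS`, part b: the monomial basis and the tower structure
-/

set_option autoImplicit false
set_option maxHeartbeats 400000
set_option linter.style.haveILetI false
set_option linter.unusedSectionVars false
set_option linter.unusedVariables false

universe u

noncomputable section

namespace Groth.Agent.Lib.LeadAS

open Polynomial Module

section Tower

variable {R : Type u} [CommRing R] {n : ℕ}

/-- the tail family -/
abbrev tl (f : Fin (n + 1) → R[X]) : Fin n → R[X] := fun i => f i.succ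

/-- the polynomial `f 0` with coefficients in `Q (tl f)` -/
def gT (f : Fin (n + 1) → R[X]) : (Q (tl f))[X] := (f 0).map (algebraMap R (Q (tl f)))

lemma gT_monic (f : Fin (n + 1) → R[X]) (h0 : (f 0).Monic) : (gT f).Monic := h0.map _

/-- images of the variables in the tower -/
def wT (f : Fin (n + 1) → R[X]) : Fin (n + 1) → AdjoinRoot (gT f) :=
  Fin.cons (AdjoinRoot.root (gT f)) (fun i => AdjoinRoot.of (gT f) (u (tl f) i))

@[simp] lemma wT_zero (f : Fin (n + 1) → R[X]) : wT f 0 = AdjoinRoot.root (gT f) := rfl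

@[simp] lemma wT_succ (f : Fin (n + 1) → R[X]) (i : Fin n) :
    wT f i.succ = AdjoinRoot.of (gT f) (u (tl f) i) := by
  unfold wT
  rw [Fin.cons_succ]

lemma aeval_wT (f : Fin (n + 1) → R[X]) (i : Fin (n + 1)) :
    Polynomial.aeval (wT f i) (f i) = 0 := by
  refine Fin.cases ?_ ?_ i
  · rw [wT_zero, Polynomial.aeval_def,
      IsScalarTower.algebraMap_eq R (Q (tl f)) (AdjoinRoot (gT f)), ← Polynomial.eval₂_map,
      AdjoinRoot.algebraMap_eq]
    exact AdjoinRoot.eval₂_root (gT f)
  · intro j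
    rw [wT_succ]
    have h := Polynomial.aeval_algebraMap_apply (AdjoinRoot (gT f)) (u (tl f) j) (f j.succ)
    rw [AdjoinRoot.algebraMap_eq] at h
    rw [h, aeval_u (tl f) j, map_zero]

/-- the comparison map to the tower -/
def towerHom (f : Fin (n + 1) → R[X]) : Q f →ₐ[R] AdjoinRoot (gT f) :=
  liftQ f (wT f) (aeval_wT f)

@[simp] lemma towerHom_u_zero (f : Fin (n + 1) → R[X]) :
    towerHom f (u f 0) = AdjoinRoot.root (gT f) := by
  unfold towerHom
  rw [liftQ_u, wT_zero]

@[simp] lemma towerHom_u_succ (f : Fin (n + 1) → R[X]) (i : Fin n) :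
    towerHom f (u f i.succ) = AdjoinRoot.of (gT f) (u (tl f) i) := by
  unfold towerHom
  rw [liftQ_u, wT_succ]

/-- the reindexing of exponent vectors -/
def idxEquiv (n m d : ℕ) (h : m = d) : (Fin (n + 1) → Fin m) ≃ (Fin n → Fin m) × Fin d where
  toFun e := (fun i => e i.succ, Fin.cast h (e 0))
  invFun t := Fin.cons (Fin.cast h.symm t.2) t.1
  left_inv e := by
    funext i
    refine Fin.cases ?_ ?_ i
    · simp
    · intro j; simp
  right_inv t := by
    obtain ⟨t1, t2⟩ := t
    simp

lemma towerHom_monOf {m : ℕ} (f : Fin (n + 1) → R[X]) (hg : (gT f).Monic)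
    (hdeg : m = (AdjoinRoot.powerBasis' hg).dim)
    (b' : Basis (Fin n → Fin m) R (Q (tl f))) (hb' : ∀ e, b' e = monOf (u (tl f)) m e)
    (e : Fin (n + 1) → Fin m) :
    towerHom f (monOf (u f) m e) =
      (b'.smulTower (AdjoinRoot.powerBasis' hg).basis) (idxEquiv n m _ hdeg e) := by
  rw [Basis.smulTower_apply, PowerBasis.basis_eq_pow, AdjoinRoot.powerBasis'_gen]
  unfold towerHom
  rw [liftQ_monOf]
  unfold monOf
  rw [Fin.prod_univ_succ, wT_zero]
  change _ = b' (fun i => e i.succ) • AdjoinRoot.root (gT f) ^ ((Fin.cast hdeg (e 0) : Fin _) : ℕ)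
  have hsm : ∀ (a : Q (tl f)) (x : AdjoinRoot (gT f)), a • x = AdjoinRoot.of (gT f) a * x :=
    fun a x => by rw [← AdjoinRoot.algebraMap_eq]; exact Algebra.smul_def a x
  rw [hb', hsm, Fin.val_cast, mul_comm]
  congr 1
  unfold monOf
  rw [map_prod]
  apply Finset.prod_congr rfl
  intro i _
  rw [wT_succ, map_pow]

theorem linearIndependent_mon [Nontrivial R] {m : ℕ} (hm0 : 0 < m) :
    ∀ (n : ℕ) (f : Fin n → R[X]), (∀ i, (f i).Monic) → (∀ i, (f i).natDegree = m) →
      LinearIndependent R (monOf (u f) m) := by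
  intro n
  induction n with
  | zero =>
    intro f _ _
    let ψ : Q f →ₐ[R] R := liftQ f (fun i => i.elim0) (fun i => i.elim0)
    apply LinearIndependent.of_comp ψ.toLinearMap
    have : (ψ.toLinearMap ∘ monOf (u f) m) = ⇑(Basis.singleton (Fin 0 → Fin m) R) := by
      funext e
      rw [Basis.singleton_apply]
      change ψ (monOf (u f) m e) = 1
      rw [liftQ_monOf]
      simp [monOf]
    rw [this]
    exact (Basis.singleton (Fin 0 → Fin m) R).linearIndependent
  | succ n ih =>
    intro f hf hm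
    have hli' := ih (tl f) (fun i => hf i.succ) (fun i => hm i.succ)
    have hsp' : ⊤ ≤ Submodule.span R (Set.range (monOf (u (tl f)) m)) :=
      (span_mon (tl f) (fun i => hf i.succ) (fun i => hm i.succ) hm0).ge
    let b' : Basis (Fin n → Fin m) R (Q (tl f)) := Basis.mk hli' hsp'
    have hb' : ∀ e, b' e = monOf (u (tl f)) m e := fun e => by
      simp only [b', Basis.mk_apply]
    haveI : Nontrivial (Q (tl f)) :=
      ⟨⟨_, 0, hli'.ne_zero (fun _ => ⟨0, hm0⟩)⟩⟩
    have hg : (gT f).Monic := gT_monic f (hf 0)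
    have hdeg : m = (AdjoinRoot.powerBasis' hg).dim := by
      rw [AdjoinRoot.powerBasis'_dim]
      unfold gT
      rw [(hf 0).natDegree_map, hm 0]
    apply LinearIndependent.of_comp (towerHom f).toLinearMap
    have : ((towerHom f).toLinearMap ∘ monOf (u f) m) =
        ⇑(b'.smulTower (AdjoinRoot.powerBasis' hg).basis) ∘ (idxEquiv n m _ hdeg) := by
      funext e
      exact towerHom_monOf f hg hdeg b' hb' e
    rw [this]
    exact (b'.smulTower (AdjoinRoot.powerBasis' hg).basis).linearIndependent.comp _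
      (idxEquiv n m _ hdeg).injective

end Tower

section Basis

variable {R : Type u} [CommRing R] [Nontrivial R] {n m : ℕ}

/-- the monomial basis of `Q f` -/
def basisMon (f : Fin n → R[X]) (hf : ∀ i, (f i).Monic) (hm : ∀ i, (f i).natDegree = m)
    (hm0 : 0 < m) : Basis (Fin n → Fin m) R (Q f) :=
  Basis.mk (linearIndependent_mon hm0 n f hf hm) (span_mon f hf hm hm0).ge

@[simp] lemma basisMon_apply (f : Fin n → R[X]) (hf : ∀ i, (f i).Monic)
    (hm : ∀ i, (f i).natDegree = m) (hm0 : 0 < m) (e : Fin n → Fin m) :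
    basisMon f hf hm hm0 e = monOf (u f) m e := by
  unfold basisMon
  rw [Basis.mk_apply]

theorem free_Q (f : Fin n → R[X]) (hf : ∀ i, (f i).Monic) (hm : ∀ i, (f i).natDegree = m)
    (hm0 : 0 < m) : Module.Free R (Q f) :=
  Module.Free.of_basis (basisMon f hf hm hm0)

theorem finite_Q (f : Fin n → R[X]) (hf : ∀ i, (f i).Monic) (hm : ∀ i, (f i).natDegree = m)
    (hm0 : 0 < m) : Module.Finite R (Q f) :=
  Module.Finite.of_basis (basisMon f hf hm hm0)

theorem finrank_Q (f : Fin n → R[X]) (hf : ∀ i, (f i).Monic) (hm : ∀ i, (f i).natDegree = m)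
    (hm0 : 0 < m) : Module.finrank R (Q f) = m ^ n := by
  rw [Module.finrank_eq_card_basis (basisMon f hf hm hm0)]
  simp

theorem algebraMap_injective_Q (f : Fin n → R[X]) (hf : ∀ i, (f i).Monic)
    (hm : ∀ i, (f i).natDegree = m) (hm0 : 0 < m) :
    Function.Injective (algebraMap R (Q f)) := by
  rw [injective_iff_map_eq_zero]
  intro r hr
  have hli := linearIndependent_mon hm0 n f hf hm
  have h1 : monOf (u f) m (fun _ => ⟨0, hm0⟩) = 1 := by simp [monOf]
  have h2 : r • monOf (u f) m (fun _ => ⟨0, hm0⟩) = 0 := by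
    have h3 : r • (1 : Q f) = algebraMap R (Q f) r := (Algebra.algebraMap_eq_smul_one r).symm
    rw [h1, h3, hr]
  by_contra hr0
  exact hli.ne_zero (fun _ => ⟨0, hm0⟩) ((hli.smul_left_injective _ ).eq_iff.mp (by rw [h2, zero_smul]) |> fun h => absurd h hr0)

theorem nontrivial_Q (f : Fin n → R[X]) (hf : ∀ i, (f i).Monic)
    (hm : ∀ i, (f i).natDegree = m) (hm0 : 0 < m) : Nontrivial (Q f) :=
  ⟨⟨_, 0, (linearIndependent_mon hm0 n f hf hm).ne_zero (fun _ => ⟨0, hm0⟩)⟩⟩

end Basis

section TowerEquiv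

variable {R : Type u} [CommRing R] [Nontrivial R] {n m : ℕ}

theorem towerHom_bijective (f : Fin (n + 1) → R[X]) (hf : ∀ i, (f i).Monic)
    (hm : ∀ i, (f i).natDegree = m) (hm0 : 0 < m) : Function.Bijective (towerHom f) := by
  let b' := basisMon (tl f) (fun i => hf i.succ) (fun i => hm i.succ) hm0
  haveI : Nontrivial (Q (tl f)) := nontrivial_Q (tl f) (fun i => hf i.succ) (fun i => hm i.succ) hm0
  have hg : (gT f).Monic := gT_monic f (hf 0)
  have hdeg : m = (AdjoinRoot.powerBasis' hg).dim := by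
    rw [AdjoinRoot.powerBasis'_dim]
    unfold gT
    rw [(hf 0).natDegree_map, hm 0]
  let bQ := basisMon f hf hm hm0
  let tb := b'.smulTower (AdjoinRoot.powerBasis' hg).basis
  have hlin : (towerHom f).toLinearMap = (bQ.equiv tb (idxEquiv n m _ hdeg)).toLinearMap := by
    apply bQ.ext
    intro e
    rw [LinearEquiv.coe_coe, Basis.equiv_apply]
    change towerHom f (bQ e) = _
    simp only [bQ, basisMon_apply]
    exact towerHom_monOf f hg hdeg b' (fun e => basisMon_apply _ _ _ _ e) e
  have : ⇑(towerHom f) = ⇑(bQ.equiv tb (idxEquiv n m _ hdeg)) := by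
    funext x
    exact LinearMap.congr_fun hlin x
  rw [this]
  exact (bQ.equiv tb (idxEquiv n m _ hdeg)).bijective

/-- `Q f` is `AdjoinRoot (f 0)` over `Q (tl f)` -/
def towerEquiv (f : Fin (n + 1) → R[X]) (hf : ∀ i, (f i).Monic)
    (hm : ∀ i, (f i).natDegree = m) (hm0 : 0 < m) : Q f ≃ₐ[R] AdjoinRoot (gT f) :=
  AlgEquiv.ofBijective (towerHom f) (towerHom_bijective f hf hm hm0)

@[simp] lemma towerEquiv_apply (f : Fin (n + 1) → R[X]) (hf : ∀ i, (f i).Monic)
    (hm : ∀ i, (f i).natDegree = m) (hm0 : 0 < m) (x : Q f) :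
    towerEquiv f hf hm hm0 x = towerHom f x := rfl

/-- the embedding of the tail ring -/
def emb (f : Fin (n + 1) → R[X]) : Q (tl f) →ₐ[R] Q f :=
  liftQ (tl f) (fun i => u f i.succ) (fun i => aeval_u f i.succ)

@[simp] lemma emb_u (f : Fin (n + 1) → R[X]) (i : Fin n) : emb f (u (tl f) i) = u f i.succ := by
  unfold emb
  rw [liftQ_u]

lemma towerHom_emb (f : Fin (n + 1) → R[X]) (x : Q (tl f)) :
    towerHom f (emb f x) = AdjoinRoot.of (gT f) x := by
  have : (towerHom f).comp (emb f) = IsScalarTower.toAlgHom R (Q (tl f)) (AdjoinRoot (gT f)) := by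
    apply algHom_ext_Q
    intro i
    rw [AlgHom.comp_apply, emb_u, towerHom_u_succ, IsScalarTower.coe_toAlgHom',
      AdjoinRoot.algebraMap_eq]
  have h := AlgHom.congr_fun this x
  rw [AlgHom.comp_apply, IsScalarTower.coe_toAlgHom', AdjoinRoot.algebraMap_eq] at h
  exact h

end TowerEquiv

end Groth.Agent.Lib.LeadAS
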