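import Groth.Agent.Lib.LeadASb

/-!
# `LeadAS`, part c: Artin–Schreier type families, translations, fixed points
-/

set_option autoImplicit false
set_option maxHeartbeats 400000
set_option linter.style.haveILetI false
set_option linter.unusedSectionVars false
set_option linter.unusedVariables false

universe u

noncomputable section

namespace Groth.Agent.Lib.LeadAS

open Polynomial Module

section FAS

variable {R : Type u} [CommRing R] (p : ℕ)

/-- the Artin–Schreier type polynomial `X^p - b X - d` -/
def fAS (b d : R) : R[X] := X ^ p - C b * X - C d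

lemma fAS_eq (b d : R) : fAS p b d = X ^ p - (C b * X + C d) := by
  unfold fAS; rw [sub_sub]

lemma fAS_monic (hp : 1 < p) (b d : R) : (fAS p b d).Monic := by
  rw [fAS_eq]
  apply monic_X_pow_sub
  calc degree (C b * X + C d) ≤ 1 := degree_linear_le
    _ < p := by exact_mod_cast hp

lemma fAS_natDegree [Nontrivial R] (hp : 1 < p) (b d : R) : (fAS p b d).natDegree = p := by
  rw [fAS_eq]
  have h1 : (C b * X + C d : R[X]).natDegree < (X ^ p : R[X]).natDegree := by
    rw [natDegree_X_pow]; exact lt_of_le_of_lt natDegree_linear_le hp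
  rw [natDegree_sub_eq_left_of_natDegree_lt h1, natDegree_X_pow]

lemma aeval_fAS {B : Type*} [CommRing B] [Algebra R B] (b d : R) (x : B) :
    Polynomial.aeval x (fAS p b d) = x ^ p - algebraMap R B b * x - algebraMap R B d := by
  unfold fAS
  rw [map_sub, map_sub, map_pow, map_mul, aeval_X, aeval_C, aeval_C]

variable {n : ℕ}

/-- the family of Artin–Schreier type polynomials -/
abbrev fam (b d : Fin n → R) : Fin n → R[X] := fun i => fAS p (b i) (d i)

lemma gen_fam (b d : Fin n → R) (i : Fin n) :
    gen (fam p b d) i = MvPolynomial.X i ^ p - MvPolynomial.C (b i) * MvPolynomial.X i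
      - MvPolynomial.C (d i) := by
  unfold gen
  rw [aeval_fAS]
  rfl

lemma fam_monic (hp : 1 < p) (b d : Fin n → R) (i : Fin n) : (fam p b d i).Monic :=
  fAS_monic p hp _ _

lemma fam_natDegree [Nontrivial R] (hp : 1 < p) (b d : Fin n → R) (i : Fin n) :
    (fam p b d i).natDegree = p := fAS_natDegree p hp _ _

end FAS

section Transl

variable {R : Type u} [CommRing R] (p : ℕ) [hp : Fact p.Prime] [CharP R p] {n : ℕ}

include hp in
lemma one_lt_p : 1 < p := hp.out.one_lt

include hp in
lemma p_pos : 0 < p := hp.out.pos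

lemma nontrivial_R (R : Type u) [CommRing R] (p : ℕ) [hp : Fact p.Prime] [CharP R p] :
    Nontrivial R := CharP.nontrivial_of_char_ne_one (R := R) hp.out.ne_one

lemma algebraMap_injective_fam (b d : Fin n → R) :
    Function.Injective (algebraMap R (Q (fam p b d))) := by
  haveI := nontrivial_R R p
  exact algebraMap_injective_Q _ (fam_monic p (one_lt_p p) b d)
    (fam_natDegree p (one_lt_p p) b d) (p_pos p)

lemma charP_Q (b d : Fin n → R) : CharP (Q (fam p b d)) p :=
  charP_of_injective_algebraMap (algebraMap_injective_fam p b d) p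

lemma u_pow (b d : Fin n → R) (i : Fin n) :
    u (fam p b d) i ^ p = algebraMap R _ (b i) * u (fam p b d) i + algebraMap R _ (d i) := by
  have h0 := aeval_u (fam p b d) i
  rw [aeval_fAS] at h0
  linear_combination h0

/-- the translation `u i ↦ u i + t i` -/
def transl (b d : Fin n → R) (t : Fin n → R) (ht : ∀ i, t i ^ p = b i * t i) :
    Q (fam p b d) →ₐ[R] Q (fam p b d) :=
  liftQ (fam p b d) (fun i => u (fam p b d) i + algebraMap R _ (t i)) (by
    intro i
    haveI := charP_Q p b d
    have h0 := u_pow p b d i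
    rw [aeval_fAS, add_pow_char, ← map_pow, ht i, map_mul]
    linear_combination h0)

@[simp] lemma transl_u (b d : Fin n → R) (t : Fin n → R) (ht : ∀ i, t i ^ p = b i * t i)
    (i : Fin n) :
    transl p b d t ht (u (fam p b d) i) = u (fam p b d) i + algebraMap R _ (t i) := by
  unfold transl
  rw [liftQ_u]

lemma transl_comp (b d : Fin n → R) (t t' : Fin n → R) (ht : ∀ i, t i ^ p = b i * t i)
    (ht' : ∀ i, t' i ^ p = b i * t' i) (htt : ∀ i, (t + t') i ^ p = b i * (t + t') i) :
    (transl p b d t ht).comp (transl p b d t' ht') = transl p b d (t + t') htt := by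
  apply algHom_ext_Q
  intro i
  rw [AlgHom.comp_apply, transl_u, map_add, transl_u, AlgHom.commutes, transl_u, Pi.add_apply,
    map_add]
  ring

lemma transl_zero (b d : Fin n → R) (h0 : ∀ i, (0 : Fin n → R) i ^ p = b i * (0 : Fin n → R) i) :
    transl p b d 0 h0 = AlgHom.id R _ := by
  apply algHom_ext_Q
  intro i
  rw [transl_u, Pi.zero_apply, map_zero, add_zero, AlgHom.id_apply]

end Transl

section Taylor

variable {B : Type u} [CommRing B] (p : ℕ) [hp : Fact p.Prime] [CharP B p]

/-- a polynomial of degree `< p` invariant under `X ↦ X + c`, `c` a nonzerodivisor, is constant -/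
theorem eq_C_of_comp_add_eq (c : B) (hc : ∀ z : B, c * z = 0 → z = 0) (r : B[X])
    (hr : r.natDegree < p) (h : r.comp (X + C c) = r) : r = C (r.coeff 0) := by
  apply eq_C_of_natDegree_eq_zero
  by_contra hne
  obtain ⟨k, hk⟩ : ∃ k, r.natDegree = k + 1 := Nat.exists_eq_succ_of_ne_zero hne
  have hlead : r.coeff (k + 1) ≠ 0 := by
    rw [← hk]
    intro h0
    rw [coeff_natDegree, leadingCoeff_eq_zero] at h0
    rw [h0] at hne
    exact hne natDegree_zero
  have h1 : (taylor c r).coeff k = r.coeff k := by rw [taylor_apply, h]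
  rw [taylor_coeff] at h1
  have hdeg : (hasseDeriv k r).natDegree < 2 := by
    have := natDegree_hasseDeriv_le r k
    omega
  rw [eval_eq_sum_range' hdeg, Finset.sum_range_succ, Finset.sum_range_one, hasseDeriv_coeff,
    hasseDeriv_coeff, zero_add, Nat.choose_self, Nat.cast_one, one_mul, pow_zero, mul_one,
    pow_one, add_comm 1 k, Nat.choose_succ_self_right] at h1
  have h2 : c * (((k + 1 : ℕ) : B) * r.coeff (k + 1)) = 0 := by
    linear_combination h1
  have h3 := hc _ h2
  have hunit : IsUnit (((k + 1 : ℕ) : B)) := by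
    rw [CharP.isUnit_natCast_iff hp.out]
    intro hdvd
    have := Nat.le_of_dvd (Nat.succ_pos k) hdvd
    omega
  exact hlead ((hunit.mul_right_eq_zero).mp h3)

end Taylor

section OneVar

variable {B : Type u} [CommRing B] [Nontrivial B] (p : ℕ) [hp : Fact p.Prime] [CharP B p]

lemma of_injective_of_monic (g : B[X]) (hg : g.Monic) (hd : 0 < g.natDegree) :
    Function.Injective (AdjoinRoot.of g) := by
  rw [injective_iff_map_eq_zero]
  intro b hb
  by_contra hb0
  have h1 : AdjoinRoot.mk g (C b) = 0 := hb
  rw [AdjoinRoot.mk_eq_zero] at h1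
  refine hg.not_dvd_of_natDegree_lt (by rwa [Ne, C_eq_zero]) ?_ h1
  rw [natDegree_C]
  exact hd

/-- fixed points of a translation automorphism of `AdjoinRoot g` come from the base -/
theorem mem_range_of_fixed (g : B[X]) (hg : g.Monic) (hgd : g.natDegree = p) (c : B)
    (hc : ∀ z : B, c * z = 0 → z = 0)
    (S : AdjoinRoot g →+* AdjoinRoot g) (hS1 : ∀ b, S (AdjoinRoot.of g b) = AdjoinRoot.of g b)
    (hS2 : S (AdjoinRoot.root g) = AdjoinRoot.root g + AdjoinRoot.of g c)
    (y : AdjoinRoot g) (hy : S y = y) : y ∈ Set.range (AdjoinRoot.of g) := by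
  obtain ⟨r₀, rfl⟩ := AdjoinRoot.mk_surjective y
  set r := r₀ %ₘ g with hr
  have hmk : AdjoinRoot.mk g r₀ = AdjoinRoot.mk g r := by
    rw [AdjoinRoot.mk_eq_mk, hr, modByMonic_eq_sub_mul_div, sub_sub_cancel]
    exact dvd_mul_right _ _
  have hg1 : g ≠ 1 := by
    intro h1
    rw [h1, natDegree_one] at hgd
    exact (hp.out.pos).ne hgd
  have hrdeg : r.natDegree < p := by
    rw [← hgd]
    exact natDegree_modByMonic_lt r₀ hg hg1
  have hcomp : ∀ q : B[X], S (AdjoinRoot.mk g q) = AdjoinRoot.mk g (q.comp (X + C c)) := by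
    intro q
    have : S.comp (AdjoinRoot.mk g) = (AdjoinRoot.mk g).comp (compRingHom (X + C c)) := by
      apply Polynomial.ringHom_ext
      · intro a
        rw [RingHom.comp_apply, RingHom.comp_apply, coe_compRingHom_apply, C_comp]
        exact hS1 a
      · rw [RingHom.comp_apply, RingHom.comp_apply, coe_compRingHom_apply, X_comp,
          AdjoinRoot.mk_X, hS2, map_add, AdjoinRoot.mk_X, AdjoinRoot.mk_C]
    exact RingHom.congr_fun this q
  rw [hmk, hcomp, AdjoinRoot.mk_eq_mk] at hy
  have hzero : r.comp (X + C c) - r = 0 := by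
    by_contra hne
    refine hg.not_dvd_of_natDegree_lt hne ?_ hy
    rw [hgd]
    refine lt_of_le_of_lt (natDegree_sub_le _ _) (max_lt ?_ hrdeg)
    refine lt_of_le_of_lt natDegree_comp_le ?_
    refine lt_of_le_of_lt (Nat.mul_le_mul_left _ (natDegree_X_add_C c).le) ?_
    rwa [mul_one]
  have hconst := eq_C_of_comp_add_eq p c hc r hrdeg (sub_eq_zero.mp hzero)
  refine ⟨r.coeff 0, ?_⟩
  rw [hmk, hconst, AdjoinRoot.mk_C, coeff_C_zero]

end OneVar

end Groth.Agent.Lib.LeadAS
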