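import Groth.Agent.Lib.LeadASc

/-!
# `LeadAS`, part d: elements fixed by the basic translations come from the base
-/

set_option autoImplicit false
set_option maxHeartbeats 400000
set_option linter.style.haveILetI false
set_option linter.unusedSectionVars false
set_option linter.unusedVariables false

universe u

noncomputable section

namespace Groth.Agent.Lib.LeadAS

open Polynomial Module

section Fixed

variable {R : Type u} [CommRing R] (p : ℕ) [hp : Fact p.Prime] [CharP R p]

lemma single_pow {n : ℕ} (a : Fin n → R) (i j : Fin n) :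
    (Pi.single i (a i) : Fin n → R) j ^ p =
      a j ^ (p - 1) * (Pi.single i (a i) : Fin n → R) j := by
  by_cases h : j = i
  · subst h
    rw [Pi.single_eq_same, ← pow_succ, Nat.sub_add_cancel (one_lt_p p).le]
  · rw [Pi.single_eq_of_ne h, zero_pow (p_pos p).ne', mul_zero]

/-- the `i`-th basic translation `u i ↦ u i + a i` -/
def sig {n : ℕ} (a d : Fin n → R) (i : Fin n) :
    Q (fam p (fun j => a j ^ (p - 1)) d) →ₐ[R] Q (fam p (fun j => a j ^ (p - 1)) d) :=
  transl p (fun j => a j ^ (p - 1)) d (Pi.single i (a i)) (single_pow p a i)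

lemma sig_u {n : ℕ} (a d : Fin n → R) (i j : Fin n) :
    sig p a d i (u _ j) = u _ j + algebraMap R _ ((Pi.single i (a i) : Fin n → R) j) := by
  unfold sig
  rw [transl_u]

variable [IsDomain R]

theorem fixed_mem_range : ∀ (n : ℕ) (a d : Fin n → R), (∀ i, a i ≠ 0) →
    ∀ x : Q (fam p (fun j => a j ^ (p - 1)) d), (∀ i, sig p a d i x = x) →
      x ∈ Set.range (algebraMap R (Q (fam p (fun j => a j ^ (p - 1)) d))) := by
  intro n
  induction n with
  | zero =>
    intro a d _ x _
    have h := adjoin_u (fam p (fun j => a j ^ (p - 1)) d)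
    have hempty : Set.range (u (fam p (fun j => a j ^ (p - 1)) d)) = ∅ := Set.range_eq_empty _
    rw [hempty, Algebra.adjoin_empty] at h
    have hx : x ∈ (⊥ : Subalgebra R (Q (fam p (fun j => a j ^ (p - 1)) d))) := by
      rw [h]; trivial
    exact Algebra.mem_bot.mp hx
  | succ n ih =>
    intro a d ha x hx
    haveI := nontrivial_R R p
    let f : Fin (n + 1) → R[X] := fam p (fun j => a j ^ (p - 1)) d
    have hf : ∀ i, (f i).Monic := fam_monic p (one_lt_p p) _ _
    have hm : ∀ i, (f i).natDegree = p := fam_natDegree p (one_lt_p p) _ _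
    have hm0 : 0 < p := p_pos p
    let a' : Fin n → R := fun j => a j.succ
    let d' : Fin n → R := fun j => d j.succ
    haveI : Nontrivial (Q (tl f)) :=
      nontrivial_Q (tl f) (fun i => hf i.succ) (fun i => hm i.succ) hm0
    haveI : CharP (Q (tl f)) p := charP_Q p (fun j => a' j ^ (p - 1)) d'
    haveI : Module.Free R (Q (tl f)) :=
      free_Q (tl f) (fun i => hf i.succ) (fun i => hm i.succ) hm0
    let TE := towerEquiv f hf hm hm0
    have hg : (gT f).Monic := gT_monic f (hf 0)
    have hgd : (gT f).natDegree = p := by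
      unfold gT
      rw [(hf 0).natDegree_map, hm 0]
    -- the transported translation
    let S : AdjoinRoot (gT f) →+* AdjoinRoot (gT f) :=
      (TE : Q f →+* AdjoinRoot (gT f)).comp
        ((sig p a d 0 : Q f →+* Q f).comp (TE.symm : AdjoinRoot (gT f) →+* Q f))
    have hTEemb : ∀ b' : Q (tl f), TE (emb f b') = AdjoinRoot.of (gT f) b' :=
      fun b' => towerHom_emb f b'
    have hsig0emb : ∀ b' : Q (tl f), sig p a d 0 (emb f b') = emb f b' := by
      intro b'
      have : (sig p a d 0).comp (emb f) = emb f := by
        apply algHom_ext_Q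
        intro i
        rw [AlgHom.comp_apply, emb_u, sig_u, Pi.single_eq_of_ne (Fin.succ_ne_zero i), map_zero,
          add_zero]
      exact AlgHom.congr_fun this b'
    have hS1 : ∀ b', S (AdjoinRoot.of (gT f) b') = AdjoinRoot.of (gT f) b' := by
      intro b'
      change TE (sig p a d 0 (TE.symm (AdjoinRoot.of (gT f) b'))) = _
      have : TE.symm (AdjoinRoot.of (gT f) b') = emb f b' := by
        rw [AlgEquiv.symm_apply_eq, hTEemb]
      rw [this, hsig0emb, hTEemb]
    have hS2 : S (AdjoinRoot.root (gT f)) =
        AdjoinRoot.root (gT f) + AdjoinRoot.of (gT f) (algebraMap R (Q (tl f)) (a 0)) := by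
      change TE (sig p a d 0 (TE.symm (AdjoinRoot.root (gT f)))) = _
      have : TE.symm (AdjoinRoot.root (gT f)) = u f 0 := by
        rw [AlgEquiv.symm_apply_eq]
        exact (towerHom_u_zero f).symm
      have h1 : TE (u f 0) = AdjoinRoot.root (gT f) := towerHom_u_zero f
      rw [this, sig_u, Pi.single_eq_same, map_add, AlgEquiv.commutes, h1,
        IsScalarTower.algebraMap_apply R (Q (tl f)) (AdjoinRoot (gT f)),
        AdjoinRoot.algebraMap_eq]
    have hc : ∀ z : Q (tl f), algebraMap R (Q (tl f)) (a 0) * z = 0 → z = 0 := by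
      intro z hz
      have hz' : a 0 • z = 0 := by
        have := Algebra.smul_def (a 0) z
        rw [this]; exact hz
      exact (smul_eq_zero_iff_right (ha 0)).mp hz'
    have hSy : S (TE x) = TE x := by
      change TE (sig p a d 0 (TE.symm (TE x))) = TE x
      rw [AlgEquiv.symm_apply_apply, hx 0]
    obtain ⟨x', hx'⟩ := mem_range_of_fixed p (gT f) hg hgd _ hc S hS1 hS2 (TE x) hSy
    have hxemb : x = emb f x' := by
      apply TE.injective
      rw [hTEemb, hx']
    have hembinj : Function.Injective (emb f) := by
      intro y z hyz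
      have h1 := congrArg TE hyz
      rw [hTEemb, hTEemb] at h1
      exact of_injective_of_monic (gT f) hg (by rw [hgd]; exact hm0) h1
    have hfix' : ∀ i : Fin n, sig p a' d' i x' = x' := by
      intro i
      have hcomm : (sig p a d i.succ).comp (emb f) = (emb f).comp (sig p a' d' i) := by
        apply algHom_ext_Q
        intro j
        rw [AlgHom.comp_apply, AlgHom.comp_apply, emb_u, sig_u, sig_u, map_add, emb_u,
          AlgHom.commutes]
        congr 2
        by_cases hji : j = i
        · subst hji
          rw [Pi.single_eq_same, Pi.single_eq_same]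
        · rw [Pi.single_eq_of_ne hji, Pi.single_eq_of_ne]
          intro h
          exact hji (Fin.succ_injective _ h)
      apply hembinj
      have h2 := AlgHom.congr_fun hcomm x'
      rw [AlgHom.comp_apply, AlgHom.comp_apply, ← hxemb, hx i.succ] at h2
      rw [← h2, hxemb]
    obtain ⟨r, hr⟩ := ih a' d' (fun i => ha i.succ) x' hfix'
    refine ⟨r, ?_⟩
    rw [hxemb, ← hr, AlgHom.commutes]

end Fixed

end Groth.Agent.Lib.LeadAS
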