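import Groth.Agent.Lib.LeadASd

/-!
# `LeadAS`, part e: the automorphism group of an Artin–Schreier family (when the ring is a domain)
-/

set_option autoImplicit false
set_option maxHeartbeats 400000
set_option linter.style.haveILetI false
set_option linter.unusedSectionVars false
set_option linter.unusedVariables false

universe u

noncomputable section

namespace Groth.Agent.Lib.LeadAS

open Polynomial Module

section Class

variable {R : Type u} [CommRing R] [IsDomain R] (p : ℕ) [hp : Fact p.Prime] [CharP R p] {n : ℕ}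
variable (a d : Fin n → R)

/-- the Artin–Schreier family ring with linear coefficients `a i ^ (p-1)` -/
abbrev QA : Type u := Q (fam p (fun j => a j ^ (p - 1)) d)

/-- the cast `ZMod p → R` -/
def zc : ZMod p →+* R := ZMod.castHom (dvd_refl p) R

lemma zc_injective : Function.Injective (zc p (R := R)) := RingHom.injective _

lemma zc_pow (e : ZMod p) : (zc p e : R) ^ p = zc p e := by
  rw [← map_pow, ZMod.pow_card]

/-- the translation vector attached to `e` -/
def tvec (e : Fin n → ZMod p) : Fin n → R := fun i => zc p (e i) * a i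

lemma tvec_pow (e : Fin n → ZMod p) (i : Fin n) :
    tvec p a e i ^ p = a i ^ (p - 1) * tvec p a e i := by
  unfold tvec
  have h : a i ^ p = a i ^ (p - 1) * a i := by
    rw [← pow_succ, Nat.sub_add_cancel (one_lt_p p).le]
  rw [mul_pow, zc_pow, h]
  ring

/-- the translation endomorphism attached to `e` -/
def translE (e : Fin n → ZMod p) : QA p a d →ₐ[R] QA p a d :=
  transl p (fun j => a j ^ (p - 1)) d (tvec p a e) (tvec_pow p a e)

lemma translE_u (e : Fin n → ZMod p) (i : Fin n) :
    translE p a d e (u _ i) = u _ i + algebraMap R _ (zc p (e i) * a i) := by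
  unfold translE
  rw [transl_u]
  rfl

lemma translE_comp (e e' : Fin n → ZMod p) :
    (translE p a d e).comp (translE p a d e') = translE p a d (e + e') := by
  apply algHom_ext_Q
  intro i
  rw [AlgHom.comp_apply, translE_u, map_add, translE_u, AlgHom.commutes, translE_u, Pi.add_apply,
    map_add, add_mul, map_add]
  ring

lemma translE_zero : translE p a d 0 = AlgHom.id R _ := by
  apply algHom_ext_Q
  intro i
  rw [translE_u, Pi.zero_apply, map_zero, zero_mul, map_zero, add_zero, AlgHom.id_apply]

/-- the translation automorphism attached to `e` -/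
def E (e : Fin n → ZMod p) : QA p a d ≃ₐ[R] QA p a d :=
  AlgEquiv.ofAlgHom (translE p a d e) (translE p a d (-e))
    (by rw [translE_comp, add_neg_cancel, translE_zero])
    (by rw [translE_comp, neg_add_cancel, translE_zero])

lemma E_apply (e : Fin n → ZMod p) (x : QA p a d) : E p a d e x = translE p a d e x := rfl

lemma E_mul (e e' : Fin n → ZMod p) : E p a d e * E p a d e' = E p a d (e + e') := by
  apply AlgEquiv.ext
  intro x
  rw [AlgEquiv.mul_apply, E_apply, E_apply, E_apply, ← translE_comp, AlgHom.comp_apply]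

lemma E_zero : E p a d 0 = 1 := by
  apply AlgEquiv.ext
  intro x
  rw [E_apply, translE_zero, AlgHom.id_apply, AlgEquiv.one_apply]

lemma E_pow (e : Fin n → ZMod p) (k : ℕ) : E p a d e ^ k = E p a d (k • e) := by
  induction k with
  | zero => rw [pow_zero, zero_smul, E_zero]
  | succ k ih => rw [pow_succ, ih, E_mul, succ_nsmul]

lemma E_injective (ha : ∀ i, a i ≠ 0) : Function.Injective (E p a d) := by
  intro e e' h
  funext i
  have h1 := congrArg (fun σ : QA p a d ≃ₐ[R] QA p a d => σ (u _ i)) h
  simp only [E_apply, translE_u] at h1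
  have h2 := algebraMap_injective_fam p (fun j => a j ^ (p - 1)) d (add_left_cancel h1)
  exact zc_injective p (mul_right_cancel₀ (ha i) h2)

/-- an endomorphism moves each `u i` by an integer multiple of `a i` -/
theorem exists_int_of_algHom [IsDomain (QA p a d)] (ha : ∀ i, a i ≠ 0)
    (τ : QA p a d →ₐ[R] QA p a d) (i : Fin n) :
    ∃ m : ℤ, τ (u _ i) = u _ i + algebraMap R (QA p a d) ((m : R) * a i) := by
  haveI : CharP (QA p a d) p := charP_Q p _ d
  set w := τ (u _ i) - u _ i with hw
  set ã := algebraMap R (QA p a d) (a i) with hã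
  have hã0 : ã ≠ 0 := by
    intro h0
    apply ha i
    apply algebraMap_injective_fam p (fun j => a j ^ (p - 1)) d
    rw [map_zero]; exact h0
  have hu := u_pow p (fun j => a j ^ (p - 1)) d i
  have hτu : τ (u _ i) ^ p = algebraMap R _ (a i ^ (p - 1)) * τ (u _ i) + algebraMap R _ (d i) := by
    have := congrArg τ hu
    rwa [map_pow, map_add, map_mul, AlgHom.commutes, AlgHom.commutes] at this
  have hwp : w ^ p = ã ^ (p - 1) * w := by
    rw [hw, sub_pow_char, hτu, hu, hã, ← map_pow]
    ring
  let K := FractionRing (QA p a d)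
  haveI : CharP K p :=
    charP_of_injective_algebraMap (IsFractionRing.injective (QA p a d) K) p
  set W := algebraMap (QA p a d) K w with hW
  set Ã := algebraMap (QA p a d) K ã with hÃ
  have hÃ0 : Ã ≠ 0 := by
    intro h0
    apply hã0
    apply IsFractionRing.injective (QA p a d) K
    rw [map_zero]; exact h0
  have hWp : W ^ p = Ã ^ (p - 1) * W := by
    rw [hW, hÃ, ← map_pow, hwp, map_mul, map_pow]
  have hÃp : Ã ^ p = Ã ^ (p - 1) * Ã := by
    rw [← pow_succ, Nat.sub_add_cancel (one_lt_p p).le]
  have ht : (W / Ã) ^ p = W / Ã := by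
    rw [div_pow, hWp, hÃp, mul_div_mul_left _ _ (pow_ne_zero _ hÃ0)]
  obtain ⟨m, hm⟩ := (mem_bot_iff_intCast p K).mp ((Subfield.mem_bot_iff_pow_eq_self K p).mpr ht)
  refine ⟨m, ?_⟩
  have hWm : W = (m : K) * Ã := by
    rw [hm, div_mul_cancel₀ _ hÃ0]
  have hwm : w = (m : QA p a d) * ã := by
    apply IsFractionRing.injective (QA p a d) K
    rw [map_mul, map_intCast]
    exact hWm
  rw [map_mul, map_intCast, ← hã, ← hwm, hw]
  ring

theorem E_surjective [IsDomain (QA p a d)] (ha : ∀ i, a i ≠ 0) :
    Function.Surjective (E p a d) := by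
  intro τ
  choose m hm using exists_int_of_algHom p a d ha (τ : QA p a d →ₐ[R] QA p a d)
  refine ⟨fun i => ((m i : ℤ) : ZMod p), ?_⟩
  apply AlgEquiv.ext
  intro x
  have : translE p a d (fun i => ((m i : ℤ) : ZMod p)) = (τ : QA p a d →ₐ[R] QA p a d) := by
    apply algHom_ext_Q
    intro i
    rw [translE_u, hm i, map_intCast]
  rw [E_apply, this]
  rfl

theorem card_algEquiv [IsDomain (QA p a d)] (ha : ∀ i, a i ≠ 0) :
    Nat.card (QA p a d ≃ₐ[R] QA p a d) = p ^ n := by
  rw [← Nat.card_congr (Equiv.ofBijective (E p a d) ⟨E_injective p a d ha, E_surjective p a d ha⟩),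
    Nat.card_fun, Nat.card_zmod, Nat.card_fin]

theorem algEquiv_comm [IsDomain (QA p a d)] (ha : ∀ i, a i ≠ 0)
    (σ τ : QA p a d ≃ₐ[R] QA p a d) : σ * τ = τ * σ := by
  obtain ⟨e, rfl⟩ := E_surjective p a d ha σ
  obtain ⟨e', rfl⟩ := E_surjective p a d ha τ
  rw [E_mul, E_mul, add_comm]

theorem algEquiv_pow [IsDomain (QA p a d)] (ha : ∀ i, a i ≠ 0)
    (σ : QA p a d ≃ₐ[R] QA p a d) : σ ^ p = 1 := by
  obtain ⟨e, rfl⟩ := E_surjective p a d ha σ
  rw [E_pow]
  have : p • e = 0 := by
    funext i
    rw [Pi.smul_apply, Pi.zero_apply, nsmul_eq_mul, CharP.cast_eq_zero (ZMod p) p, zero_mul]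
  rw [this, E_zero]

lemma sig_eq_translE (i : Fin n) :
    sig p a d i = translE p a d (Pi.single i 1) := by
  apply algHom_ext_Q
  intro j
  rw [sig_u, translE_u]
  by_cases hji : j = i
  · subst hji
    rw [Pi.single_eq_same, Pi.single_eq_same, map_one, one_mul]
  · rw [Pi.single_eq_of_ne hji, Pi.single_eq_of_ne hji, map_zero, map_zero, zero_mul, map_zero]

theorem fixed_iff (ha : ∀ i, a i ≠ 0) (b : QA p a d) :
    (∀ σ : QA p a d ≃ₐ[R] QA p a d, σ b = b) ↔
      b ∈ Set.range (algebraMap R (QA p a d)) := by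
  constructor
  · intro h
    apply fixed_mem_range p n a d ha b
    intro i
    rw [sig_eq_translE]
    exact h (E p a d (Pi.single i 1))
  · rintro ⟨r, rfl⟩ σ
    exact σ.commutes r

end Class

end Groth.Agent.Lib.LeadAS
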