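import Groth.Agent.Lib.LeadASc
import Groth.Agent.Lib.Helper5RLR
import Groth.Agent.Lib.Helper5IntDim
import Groth.Agent.Lib.Helper18ComplProd

/-!
# `LeadAS`, part f: Artin–Schreier families over a regular local ring whose constant terms
form a regular system of parameters are regular local
-/

set_option autoImplicit false
set_option maxHeartbeats 400000
set_option linter.style.haveILetI false
set_option linter.unusedSectionVars false
set_option linter.unusedVariables false

universe u

noncomputable section

namespace Groth.Agent.Lib.LeadAS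

open Polynomial Module IsLocalRing

section RegLoc

variable {R : Type u} [CommRing R] (p : ℕ) {n : ℕ} (b d : Fin n → R)

/-- the ideal generated by the classes of the variables -/
def uI : Ideal (Q (fam p b d)) := Ideal.span (Set.range (u (fam p b d)))

lemma u_mem_uI (i : Fin n) : u (fam p b d) i ∈ uI p b d := Ideal.subset_span ⟨i, rfl⟩

lemma u_pow' (i : Fin n) :
    u (fam p b d) i ^ p = algebraMap R _ (b i) * u (fam p b d) i + algebraMap R _ (d i) := by
  have h0 := aeval_u (fam p b d) i
  rw [aeval_fAS] at h0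
  linear_combination h0

lemma algebraMap_d_mem (hp : 1 < p) (i : Fin n) : algebraMap R (Q (fam p b d)) (d i) ∈ uI p b d := by
  have h : algebraMap R (Q (fam p b d)) (d i) =
      u (fam p b d) i ^ (p - 1) * u (fam p b d) i - algebraMap R _ (b i) * u (fam p b d) i := by
    rw [← pow_succ, Nat.sub_add_cancel hp.le, u_pow']
    ring
  rw [h]
  exact Ideal.sub_mem _ (Ideal.mul_mem_left _ _ (u_mem_uI p b d i))
    (Ideal.mul_mem_left _ _ (u_mem_uI p b d i))

lemma exists_sub_mem (x : Q (fam p b d)) : ∃ r : R, x - algebraMap R _ r ∈ uI p b d := by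
  have hx : x ∈ Algebra.adjoin R (Set.range (u (fam p b d))) := by
    rw [adjoin_u]; trivial
  induction hx using Algebra.adjoin_induction with
  | mem x hx =>
    obtain ⟨i, rfl⟩ := hx
    exact ⟨0, by rw [map_zero, sub_zero]; exact u_mem_uI p b d i⟩
  | algebraMap r => exact ⟨r, by rw [sub_self]; exact Ideal.zero_mem _⟩
  | add x y _ _ hx hy =>
    obtain ⟨r, hr⟩ := hx
    obtain ⟨s, hs⟩ := hy
    refine ⟨r + s, ?_⟩
    have : x + y - algebraMap R _ (r + s) = (x - algebraMap R _ r) + (y - algebraMap R _ s) := by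
      rw [map_add]; ring
    rw [this]
    exact Ideal.add_mem _ hr hs
  | mul x y _ _ hx hy =>
    obtain ⟨r, hr⟩ := hx
    obtain ⟨s, hs⟩ := hy
    refine ⟨r * s, ?_⟩
    have : x * y - algebraMap R _ (r * s)
        = (x - algebraMap R _ r) * y + algebraMap R _ r * (y - algebraMap R _ s) := by
      rw [map_mul]; ring
    rw [this]
    exact Ideal.add_mem _ (Ideal.mul_mem_right _ _ hr) (Ideal.mul_mem_left _ _ hs)

variable [IsLocalRing R]

lemma map_maximalIdeal_le (hp : 1 < p) (hd : Ideal.span (Set.range d) = maximalIdeal R) :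
    Ideal.map (algebraMap R (Q (fam p b d))) (maximalIdeal R) ≤ uI p b d := by
  rw [← hd, Ideal.map_span, Ideal.span_le]
  rintro _ ⟨_, ⟨i, rfl⟩, rfl⟩
  exact algebraMap_d_mem p b d hp i

/-- the augmentation to the residue field -/
def resMap (hp : 1 < p) (hd : Ideal.span (Set.range d) = maximalIdeal R) :
    Q (fam p b d) →ₐ[R] ResidueField R :=
  liftQ (fam p b d) (fun _ => 0) (by
    intro i
    rw [aeval_fAS, zero_pow (by omega), mul_zero, sub_zero, zero_sub, neg_eq_zero,
      IsLocalRing.ResidueField.algebraMap_eq, IsLocalRing.residue_eq_zero_iff, ← hd]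
    exact Ideal.subset_span ⟨i, rfl⟩)

lemma resMap_u (hp : 1 < p) (hd : Ideal.span (Set.range d) = maximalIdeal R) (i : Fin n) :
    resMap p b d hp hd (u (fam p b d) i) = 0 := by
  unfold resMap
  rw [liftQ_u]

lemma resMap_surjective (hp : 1 < p) (hd : Ideal.span (Set.range d) = maximalIdeal R) :
    Function.Surjective (resMap p b d hp hd) := by
  intro y
  obtain ⟨r, rfl⟩ := IsLocalRing.residue_surjective y
  refine ⟨algebraMap R _ r, ?_⟩
  rw [AlgHom.commutes, IsLocalRing.ResidueField.algebraMap_eq]

lemma ker_resMap (hp : 1 < p) (hd : Ideal.span (Set.range d) = maximalIdeal R) :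
    RingHom.ker (resMap p b d hp hd : Q (fam p b d) →+* ResidueField R) = uI p b d := by
  apply le_antisymm
  · intro x hx
    rw [RingHom.mem_ker] at hx
    obtain ⟨r, hr⟩ := exists_sub_mem p b d x
    have hle : uI p b d ≤ RingHom.ker (resMap p b d hp hd : Q (fam p b d) →+* ResidueField R) := by
      unfold uI
      rw [Ideal.span_le]
      rintro _ ⟨i, rfl⟩
      exact resMap_u p b d hp hd i
    have h1 := hle hr
    rw [RingHom.mem_ker, map_sub, hx, zero_sub, neg_eq_zero] at h1
    have h2 : r ∈ maximalIdeal R := by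
      rw [← IsLocalRing.residue_eq_zero_iff, ← IsLocalRing.ResidueField.algebraMap_eq]
      have := (resMap p b d hp hd).commutes r
      rw [← this]
      exact h1
    have h3 : algebraMap R (Q (fam p b d)) r ∈ uI p b d :=
      map_maximalIdeal_le p b d hp hd (Ideal.mem_map_of_mem _ h2)
    have : x = (x - algebraMap R _ r) + algebraMap R _ r := by ring
    rw [this]
    exact Ideal.add_mem _ hr h3
  · unfold uI
    rw [Ideal.span_le]
    rintro _ ⟨i, rfl⟩
    exact resMap_u p b d hp hd i

theorem uI_isMaximal (hp : 1 < p) (hd : Ideal.span (Set.range d) = maximalIdeal R) :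
    (uI p b d).IsMaximal := by
  rw [← ker_resMap p b d hp hd]
  exact RingHom.ker_isMaximal_of_surjective _ (resMap_surjective p b d hp hd)

theorem isLocalRing_Q (hp : 1 < p) (hb : ∀ i, b i ∈ maximalIdeal R)
    (hd : Ideal.span (Set.range d) = maximalIdeal R) : IsLocalRing (Q (fam p b d)) := by
  haveI : Module.Finite R (Q (fam p b d)) :=
    finite_Q _ (fam_monic p hp b d) (fam_natDegree p hp b d) (by omega)
  haveI : Algebra.IsIntegral R (Q (fam p b d)) := Algebra.IsIntegral.of_finite R _
  apply IsLocalRing.of_unique_max_ideal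
  refine ⟨uI p b d, uI_isMaximal p b d hp hd, ?_⟩
  intro M hM
  haveI := hM
  have h1 : (M.comap (algebraMap R (Q (fam p b d)))).IsMaximal :=
    Ideal.isMaximal_comap_of_isIntegral_of_isMaximal M
  have h2 := IsLocalRing.eq_maximalIdeal h1
  have hmem : ∀ r ∈ maximalIdeal R, algebraMap R (Q (fam p b d)) r ∈ M := by
    intro r hr
    rw [← h2] at hr
    exact hr
  have hle : uI p b d ≤ M := by
    unfold uI
    rw [Ideal.span_le]
    rintro _ ⟨i, rfl⟩
    apply hM.isPrime.mem_of_pow_mem p
    rw [u_pow']
    refine Ideal.add_mem _ (Ideal.mul_mem_right _ _ (hmem _ (hb i))) (hmem _ ?_)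
    rw [← hd]
    exact Ideal.subset_span ⟨i, rfl⟩
  exact ((uI_isMaximal p b d hp hd).eq_of_le hM.ne_top hle).symm

theorem maximalIdeal_Q (hp : 1 < p) (hd : Ideal.span (Set.range d) = maximalIdeal R)
    [IsLocalRing (Q (fam p b d))] : maximalIdeal (Q (fam p b d)) = uI p b d :=
  (IsLocalRing.eq_maximalIdeal (uI_isMaximal p b d hp hd)).symm

end RegLoc

section Reg

variable {R : Type u} [CommRing R] [IsRegularLocalRing R] (p : ℕ) {n : ℕ} (b d : Fin n → R)

theorem isRegularLocalRing_Q (hp : 1 < p) (hb : ∀ i, b i ∈ maximalIdeal R)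
    (hd : Ideal.span (Set.range d) = maximalIdeal R) (hn : ringKrullDim R = n) :
    IsRegularLocalRing (Q (fam p b d)) := by
  haveI := isLocalRing_Q p b d hp hb hd
  haveI : Module.Finite R (Q (fam p b d)) :=
    finite_Q _ (fam_monic p hp b d) (fam_natDegree p hp b d) (by omega)
  haveI : Algebra.IsIntegral R (Q (fam p b d)) := Algebra.IsIntegral.of_finite R _
  haveI : IsNoetherianRing (Q (fam p b d)) := inferInstance
  apply IsRegularLocalRing.of_spanFinrank_maximalIdeal_le
  have hdim : ringKrullDim (Q (fam p b d)) = n := by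
    rw [← hn]
    exact Groth.Agent.Lib.Helper5.ringKrullDim_eq_of_isIntegral_of_injective R _
      (algebraMap_injective_Q _ (fam_monic p hp b d) (fam_natDegree p hp b d) (by omega))
  rw [hdim, maximalIdeal_Q p b d hp hd]
  have : (uI p b d).spanFinrank ≤ n := by
    unfold uI
    calc (Ideal.span (Set.range (u (fam p b d)))).spanFinrank
        ≤ (Set.range (u (fam p b d))).ncard :=
          Submodule.spanFinrank_span_le_ncard_of_finite (Set.finite_range _)
      _ ≤ Nat.card (Fin n) := by
          rw [← Set.ncard_univ, ← Set.image_univ]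
          exact Set.ncard_image_le Set.finite_univ
      _ = n := by simp
  exact_mod_cast this

theorem isDomain_Q (hp : 1 < p) (hb : ∀ i, b i ∈ maximalIdeal R)
    (hd : Ideal.span (Set.range d) = maximalIdeal R) (hn : ringKrullDim R = n) :
    IsDomain (Q (fam p b d)) := by
  haveI := isRegularLocalRing_Q p b d hp hb hd hn
  exact Groth.Agent.Lib.Helper5.isDomain_of_isRegularLocalRing _

theorem isAdicComplete_Q [IsAdicComplete (maximalIdeal R) R] (hp : 1 < p)
    (hb : ∀ i, b i ∈ maximalIdeal R)
    (hd : Ideal.span (Set.range d) = maximalIdeal R) :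
    IsAdicComplete (uI p b d) (Q (fam p b d)) := by
  haveI := isLocalRing_Q p b d hp hb hd
  haveI : Module.Finite R (Q (fam p b d)) :=
    finite_Q _ (fam_monic p hp b d) (fam_natDegree p hp b d) (by omega)
  rw [← maximalIdeal_Q p b d hp hd]
  exact (Groth.Agent.Lib.Helper18ComplProd.isAdicComplete_of_finite R (Q (fam p b d))).2

end Reg

end Groth.Agent.Lib.LeadAS
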