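import Groth.Agent.Lib.LeadASe
import Groth.Agent.Lib.LeadASf
import Groth.Agent.Lib.Helper19PsDim
import Groth.Agent.Lib.Helper19Obs

/-!
# `LeadAS`, part g: Artin–Schreier families over `k[[x_1..x_n]]`
-/

set_option autoImplicit false
set_option maxHeartbeats 400000
set_option linter.style.haveILetI false
set_option linter.unusedSectionVars false
set_option linter.unusedVariables false

universe u

noncomputable section

namespace Groth.Agent.Lib.LeadAS

open Polynomial Module IsLocalRing

section PS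

variable (p : ℕ) [hp : Fact p.Prime] (k : Type u) [Field k] [CharP k p] (n : ℕ)
  (a : Fin n → MvPowerSeries (Fin n) k)

/-- the linear coefficients -/
abbrev bPS : Fin n → MvPowerSeries (Fin n) k := fun i => a i ^ (p - 1)

/-- the constant terms -/
abbrev dPS : Fin n → MvPowerSeries (Fin n) k := fun i => MvPowerSeries.X i

lemma I_eq_PS :
    Ideal.span (Set.range fun i : Fin n =>
      (MvPolynomial.X i : MvPolynomial (Fin n) (MvPowerSeries (Fin n) k)) ^ p
        - MvPolynomial.C (a i ^ (p - 1)) * MvPolynomial.X i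
        - MvPolynomial.C (MvPowerSeries.X i : MvPowerSeries (Fin n) k))
      = I (fam p (bPS p k n a) (dPS k n)) := by
  unfold I
  congr 2
  funext i
  exact (gen_fam p (bPS p k n a) (dPS k n) i).symm

lemma map_span_X_eq :
    Ideal.map (Ideal.Quotient.mk (I (fam p (bPS p k n a) (dPS k n))))
      (Ideal.span (Set.range
        (MvPolynomial.X : Fin n → MvPolynomial (Fin n) (MvPowerSeries (Fin n) k))))
      = uI p (bPS p k n a) (dPS k n) := by
  rw [Ideal.map_span, ← Set.range_comp]
  rfl

lemma span_range_u_eq :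
    Ideal.span (Set.range fun i : Fin n =>
      Ideal.Quotient.mk (I (fam p (bPS p k n a) (dPS k n)))
        (MvPolynomial.X i : MvPolynomial (Fin n) (MvPowerSeries (Fin n) k)))
      = uI p (bPS p k n a) (dPS k n) := rfl

instance charP_PS : CharP (MvPowerSeries (Fin n) k) p :=
  charP_of_injective_algebraMap
    (by rw [← MvPowerSeries.c_eq_algebraMap]; exact MvPowerSeries.C_injective) p

lemma hb_PS (ham : ∀ i, MvPowerSeries.constantCoeff (a i) = 0) (i : Fin n) :
    bPS p k n a i ∈ maximalIdeal (MvPowerSeries (Fin n) k) := by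
  have h1 : a i ∈ maximalIdeal (MvPowerSeries (Fin n) k) := by
    rw [IsLocalRing.mem_maximalIdeal, mem_nonunits_iff, MvPowerSeries.isUnit_iff_constantCoeff,
      ham i]
    exact not_isUnit_zero
  exact Ideal.pow_mem_of_mem _ h1 _ (Nat.sub_pos_of_lt (one_lt_p p))

lemma hd_PS : Ideal.span (Set.range (dPS k n)) = maximalIdeal (MvPowerSeries (Fin n) k) :=
  (Groth.Agent.Lib.Helper19.maximalIdeal_mvPowerSeries_eq k n).symm

lemma hn_PS : ringKrullDim (MvPowerSeries (Fin n) k) = n :=
  Groth.Agent.Lib.Helper19.ringKrullDim_mvPowerSeries k n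

lemma complete_PS :
    IsAdicComplete (maximalIdeal (MvPowerSeries (Fin n) k)) (MvPowerSeries (Fin n) k) := by
  haveI := Groth.Agent.Lib.Helper19.isAdicComplete_field (k := k)
  exact Groth.Agent.Lib.Helper19.isAdicComplete_mvPowerSeries

instance isDomain_PS : IsDomain (MvPowerSeries (Fin n) k) :=
  Groth.Agent.Lib.Helper5.isDomain_of_isRegularLocalRing _

theorem isRegularLocalRing_PS (ham : ∀ i, MvPowerSeries.constantCoeff (a i) = 0) :
    IsRegularLocalRing (Q (fam p (bPS p k n a) (dPS k n))) :=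
  isRegularLocalRing_Q p _ _ (one_lt_p p) (hb_PS p k n a ham) (hd_PS k n) (hn_PS k n)

theorem isDomain_Q_PS (ham : ∀ i, MvPowerSeries.constantCoeff (a i) = 0) :
    IsDomain (Q (fam p (bPS p k n a) (dPS k n))) :=
  isDomain_Q p _ _ (one_lt_p p) (hb_PS p k n a ham) (hd_PS k n) (hn_PS k n)

theorem uI_isMaximal_PS : (uI p (bPS p k n a) (dPS k n)).IsMaximal :=
  uI_isMaximal p _ _ (one_lt_p p) (hd_PS k n)

theorem isAdicComplete_Q_PS (ham : ∀ i, MvPowerSeries.constantCoeff (a i) = 0) :
    IsAdicComplete (uI p (bPS p k n a) (dPS k n)) (Q (fam p (bPS p k n a) (dPS k n))) := by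
  haveI := complete_PS k n
  exact isAdicComplete_Q p _ _ (one_lt_p p) (hb_PS p k n a ham) (hd_PS k n)

theorem free_Q_PS : Module.Free (MvPowerSeries (Fin n) k) (Q (fam p (bPS p k n a) (dPS k n))) :=
  free_Q _ (fam_monic p (one_lt_p p) _ _) (fam_natDegree p (one_lt_p p) _ _) (p_pos p)

theorem finrank_Q_PS :
    Module.finrank (MvPowerSeries (Fin n) k) (Q (fam p (bPS p k n a) (dPS k n))) = p ^ n :=
  finrank_Q _ (fam_monic p (one_lt_p p) _ _) (fam_natDegree p (one_lt_p p) _ _) (p_pos p)

end PS

end Groth.Agent.Lib.LeadAS
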