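import Groth.Agent.Lib.LeadASc

/-!
# `LeadAS`, part h: independence of the powers of an element translated by an automorphism,
over the fixed elements
-/

set_option autoImplicit false
set_option maxHeartbeats 400000
set_option linter.style.haveILetI false
set_option linter.unusedSectionVars false
set_option linter.unusedVariables false

universe u

noncomputable section

namespace Groth.Agent.Lib.LeadAS

open Polynomial Module

section Indep

variable {A : Type u} [CommRing A] [IsDomain A] (p : ℕ) [hp : Fact p.Prime] [CharP A p]

/-- If `σ v = v + c` with `c ≠ 0` fixed, then `1, v, …, v^(p-1)` are independent over the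
`σ`-fixed elements. -/
theorem eq_zero_of_eval_eq_zero_of_fixed (σ : A →+* A) (v c : A) (hc : c ≠ 0)
    (hσv : σ v = v + c) (hσc : σ c = c) :
    ∀ F : A[X], F.map σ = F → F.natDegree < p → F.eval v = 0 → F = 0 := by
  intro F
  induction' hm : F.natDegree using Nat.strong_induction_on with m ih generalizing F
  intro hF hdeg' hev
  have hdeg : F.natDegree < p := by rw [hm]; exact hdeg'
  by_cases h0 : F.natDegree = 0
  · have h1 := eq_C_of_natDegree_eq_zero h0
    rw [h1, eval_C] at hev
    rw [h1, hev, C_0]
  · set G := F.comp (X + C c) - F with hG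
    have hGmap : G.map σ = G := by
      rw [hG, Polynomial.map_sub, Polynomial.map_comp, hF, Polynomial.map_add, map_X, map_C, hσc]
    have hGev : G.eval v = 0 := by
      rw [hG, eval_sub, eval_comp, eval_add, eval_X, eval_C, hev, sub_zero]
      have h1 : σ (F.eval v) = (F.map σ).eval (σ v) := by
        rw [eval_map, eval₂_at_apply]
      rw [hF, hσv, hev, map_zero] at h1
      exact h1.symm
    have hFne : F ≠ 0 := by
      rintro rfl
      exact h0 natDegree_zero
    have hq : (X + C c : A[X]).natDegree = 1 := natDegree_X_add_C c
    have hcompdeg : (F.comp (X + C c)).natDegree = F.natDegree := by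
      rw [natDegree_comp, hq, mul_one]
    have hcompne : F.comp (X + C c) ≠ 0 := by
      intro h
      rw [h, natDegree_zero] at hcompdeg
      exact h0 hcompdeg.symm
    have hGdeg : G.natDegree < F.natDegree := by
      have h1 : (F.comp (X + C c)).degree = F.degree := by
        rw [degree_eq_natDegree hcompne, degree_eq_natDegree hFne, hcompdeg]
      have h2 : (F.comp (X + C c)).leadingCoeff = F.leadingCoeff := by
        rw [leadingCoeff_comp (by rw [hq]; exact one_ne_zero), leadingCoeff_X_add_C, one_pow,
          mul_one]
      have h3 := degree_sub_lt_left h1 hcompne h2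
      by_cases hG0 : G = 0
      · rw [hG0, natDegree_zero]; omega
      · rw [h1] at h3
        exact natDegree_lt_natDegree hG0 h3
    have hGzero : G = 0 :=
      ih G.natDegree (by rw [← hm]; exact hGdeg) G rfl hGmap (lt_trans hGdeg hdeg) hGev
    have hcomp : F.comp (X + C c) = F := sub_eq_zero.mp hGzero
    have hconst := eq_C_of_comp_add_eq p c
      (fun z hz => (mul_eq_zero.mp hz).resolve_left hc) F hdeg hcomp
    rw [hconst, eval_C] at hev
    rw [hconst, hev, C_0]

/-- monomials in elements translated independently by commuting endomorphisms are independent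
over the common fixed elements -/
theorem monOf_indep_fixed :
    ∀ (m : ℕ) (v : Fin m → A) (τ : Fin m → (A →+* A)) (c : Fin m → A),
      (∀ i, c i ≠ 0) → (∀ i j, τ i (v j) = v j + (if i = j then c j else 0)) →
      (∀ i j, τ i (c j) = c j) →
      ∀ q : (Fin m → Fin p) → A, (∀ e i, τ i (q e) = q e) →
        ∑ e, q e * monOf v p e = 0 → ∀ e, q e = 0 := by
  intro m
  induction m with
  | zero =>
    intro v τ c _ _ _ q _ hsum e
    have huniq : ∀ e' : Fin 0 → Fin p, e' = e := fun e' => Subsingleton.elim _ _
    rw [Fintype.sum_eq_single e (fun e' he' => absurd (huniq e') he')] at hsum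
    have : monOf v p e = 1 := by simp [monOf]
    rwa [this, mul_one] at hsum
  | succ m ih =>
    intro v τ c hc hτv hτc q hq hsum
    let v' : Fin m → A := fun j => v j.succ
    let Q : Fin p → A := fun l => ∑ e' : Fin m → Fin p, q (Fin.cons l e') * monOf v' p e'
    have hmon : ∀ (l : Fin p) (e' : Fin m → Fin p),
        monOf v p (Fin.cons l e') = v 0 ^ (l : ℕ) * monOf v' p e' := by
      intro l e'
      unfold monOf
      rw [Fin.prod_univ_succ, Fin.cons_zero]
      congr 1
    -- reindex the sum
    have hsum' : ∑ l : Fin p, Q l * v 0 ^ (l : ℕ) = 0 := by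
      rw [← hsum, ← (idxEquiv m p p rfl).symm.sum_comp, Fintype.sum_prod_type, Finset.sum_comm]
      apply Finset.sum_congr rfl
      intro l _
      rw [Finset.sum_mul]
      apply Finset.sum_congr rfl
      intro e' _
      change _ = q (Fin.cons (Fin.cast rfl l) e') * monOf v p (Fin.cons (Fin.cast rfl l) e')
      rw [Fin.cast_eq_self, hmon]
      ring
    let F : A[X] := ∑ l : Fin p, C (Q l) * X ^ (l : ℕ)
    have hFev : F.eval (v 0) = 0 := by
      rw [← hsum']
      simp only [F, eval_finsetSum, eval_mul, eval_C, eval_pow, eval_X]
    have hτ0v' : ∀ (e' : Fin m → Fin p), τ 0 (monOf v' p e') = monOf v' p e' := by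
      intro e'
      unfold monOf
      rw [map_prod]
      apply Finset.prod_congr rfl
      intro j _
      rw [map_pow, hτv 0 j.succ, if_neg (Fin.succ_ne_zero j).symm, add_zero]
    have hτ0Q : ∀ l, τ 0 (Q l) = Q l := by
      intro l
      simp only [Q, map_sum, map_mul, hq, hτ0v']
    have hFmap : F.map (τ 0) = F := by
      simp only [F, Polynomial.map_sum, Polynomial.map_mul, Polynomial.map_pow, map_C, map_X,
        hτ0Q]
    have hFdeg : F.natDegree < p := by
      by_cases hF0 : F = 0
      · rw [hF0, natDegree_zero]; exact p_pos p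
      · have := degree_sum_fin_lt Q
        exact (natDegree_lt_iff_degree_lt hF0).mpr this
    have hF0 := eq_zero_of_eval_eq_zero_of_fixed p (τ 0) (v 0) (c 0) (hc 0)
      (by rw [hτv 0 0, if_pos rfl]) (hτc 0 0) F hFmap hFdeg hFev
    have hQ : ∀ l, Q l = 0 := by
      intro l
      have h1 : F.coeff (l : ℕ) = Q l := by
        simp only [F, finsetSum_coeff, coeff_C_mul, coeff_X_pow]
        rw [Finset.sum_eq_single l]
        · rw [if_pos rfl, mul_one]
        · intro l' _ hne
          rw [if_neg (fun h => hne (Fin.ext h).symm), mul_zero]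
        · intro h; exact absurd (Finset.mem_univ l) h
      rw [← h1, hF0, coeff_zero]
    intro e
    have hih := ih v' (fun j => τ j.succ) (fun j => c j.succ) (fun j => hc j.succ)
      (fun i j => by
        rw [hτv i.succ j.succ]
        by_cases hij : i = j
        · rw [if_pos hij, if_pos (congrArg Fin.succ hij)]
        · rw [if_neg hij, if_neg (fun h => hij (Fin.succ_injective _ h))])
      (fun i j => hτc i.succ j.succ)
      (fun e' => q (Fin.cons (e 0) e')) (fun e' i => hq _ i.succ) (hQ (e 0)) (fun j => e j.succ)
    have hcons : (Fin.cons (e 0) (fun j => e j.succ) : Fin (m + 1) → Fin p) = e := by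
      funext i
      refine Fin.cases ?_ ?_ i
      · rw [Fin.cons_zero]
      · intro j; rw [Fin.cons_succ]
    rw [hcons] at hih
    exact hih

end Indep

end Groth.Agent.Lib.LeadAS
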