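import Groth.Agent.Lib.LeadASh
import Groth.Agent.Lib.LeadASg

/-!
# `LeadAS`, part i: invariants of a translation are, up to a power of `a i₀`, polynomials in the
minor elements
-/

set_option autoImplicit false
set_option maxHeartbeats 400000
set_option linter.style.haveILetI false
set_option linter.unusedSectionVars false
set_option linter.unusedVariables false

universe u

noncomputable section

namespace Groth.Agent.Lib.LeadAS

open Polynomial Module

section Minor

variable {R A : Type u} [CommRing R] [CommRing A] [Algebra R A] [IsDomain A]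
  (p : ℕ) [hp : Fact p.Prime] [CharP A p]

theorem exists_pow_mul_mem_adjoin {n : ℕ} (uu : Fin n → A)
    (hgen : Algebra.adjoin R (Set.range uu) = ⊤) (al : Fin n → R) (i₀ : Fin n) (b d : R)
    (hrel : uu i₀ ^ p = algebraMap R A b * uu i₀ + algebraMap R A d)
    (σ : A →ₐ[R] A) (c : R) (hc : algebraMap R A c ≠ 0)
    (hσ : σ (uu i₀) = uu i₀ + algebraMap R A c)
    (zz : {j : Fin n // j ≠ i₀} → A)
    (hzz : ∀ j, zz j = algebraMap R A (al i₀) * uu j.1 - algebraMap R A (al j.1) * uu i₀)
    (hσz : ∀ j, σ (zz j) = zz j) (t : A) (ht : σ t = t) :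
    ∃ N : ℕ, algebraMap R A (al i₀) ^ N * t ∈ Algebra.adjoin R (Set.range zz) := by
  set Z : Subalgebra R A := Algebra.adjoin R (Set.range zz) with hZ
  set v := uu i₀ with hv
  let W : Subalgebra Z A := (Polynomial.aeval v : (↥Z)[X] →ₐ[↥Z] A).range
  have hZW : ∀ z : A, z ∈ Z → z ∈ W := by
    intro z hz
    exact (AlgHom.mem_range _).mpr ⟨C ⟨z, hz⟩, by rw [aeval_C]; rfl⟩
  have hvW : v ∈ W := (AlgHom.mem_range _).mpr ⟨X, aeval_X v⟩
  have hRW : ∀ r : R, algebraMap R A r ∈ W := fun r => hZW _ (Subalgebra.algebraMap_mem Z r)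
  -- Step 1
  have step1 : ∀ x : A, ∃ N : ℕ, algebraMap R A (al i₀) ^ N * x ∈ W := by
    intro x
    have hx : x ∈ Algebra.adjoin R (Set.range uu) := by rw [hgen]; trivial
    induction hx using Algebra.adjoin_induction with
    | mem x hx =>
      obtain ⟨j, rfl⟩ := hx
      by_cases hj : j = i₀
      · refine ⟨0, ?_⟩
        rw [pow_zero, one_mul, hj]
        exact hvW
      · refine ⟨1, ?_⟩
        have h1 : algebraMap R A (al i₀) ^ 1 * uu j
            = zz ⟨j, hj⟩ + algebraMap R A (al j) * v := by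
          rw [hzz ⟨j, hj⟩, pow_one]; ring
        rw [h1]
        exact W.add_mem (hZW _ (Algebra.subset_adjoin ⟨_, rfl⟩)) (W.mul_mem (hRW _) hvW)
    | algebraMap r =>
      exact ⟨0, by rw [pow_zero, one_mul]; exact hRW r⟩
    | add x y _ _ hx hy =>
      obtain ⟨N1, h1⟩ := hx
      obtain ⟨N2, h2⟩ := hy
      refine ⟨N1 + N2, ?_⟩
      have : algebraMap R A (al i₀) ^ (N1 + N2) * (x + y)
          = algebraMap R A (al i₀) ^ N2 * (algebraMap R A (al i₀) ^ N1 * x)
            + algebraMap R A (al i₀) ^ N1 * (algebraMap R A (al i₀) ^ N2 * y) := by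
        rw [pow_add]; ring
      rw [this]
      exact W.add_mem (W.mul_mem (W.pow_mem (hRW _) _) h1) (W.mul_mem (W.pow_mem (hRW _) _) h2)
    | mul x y _ _ hx hy =>
      obtain ⟨N1, h1⟩ := hx
      obtain ⟨N2, h2⟩ := hy
      refine ⟨N1 + N2, ?_⟩
      have : algebraMap R A (al i₀) ^ (N1 + N2) * (x * y)
          = (algebraMap R A (al i₀) ^ N1 * x) * (algebraMap R A (al i₀) ^ N2 * y) := by
        rw [pow_add]; ring
      rw [this]
      exact W.mul_mem h1 h2
  obtain ⟨N, hN⟩ := step1 t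
  refine ⟨N, ?_⟩
  set t' := algebraMap R A (al i₀) ^ N * t with ht'
  obtain ⟨F₀, hF₀⟩ := (AlgHom.mem_range _).mp hN
  -- the monic relation over Z
  let g : (↥Z)[X] := fAS p (algebraMap R Z b) (algebraMap R Z d)
  have hgmonic : g.Monic := fAS_monic p (one_lt_p p) _ _
  have hgdeg : g.natDegree = p := fAS_natDegree p (one_lt_p p) _ _
  have hgv : Polynomial.aeval v g = 0 := by
    rw [aeval_fAS, ← IsScalarTower.algebraMap_apply R Z A, ← IsScalarTower.algebraMap_apply R Z A,
      hrel]
    ring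
  set F₁ := F₀ %ₘ g with hF₁
  have hF₁v : Polynomial.aeval v F₁ = t' := by
    rw [hF₁, aeval_modByMonic_eq_self_of_root hgv]
    exact hF₀
  have hg1 : g ≠ 1 := by
    intro h1
    rw [h1, natDegree_one] at hgdeg
    exact (p_pos p).ne hgdeg
  have hF₁deg : F₁.natDegree < p := by
    rw [← hgdeg]
    exact natDegree_modByMonic_lt F₀ hgmonic hg1
  -- σ fixes Z
  have hσZ : ∀ z : A, z ∈ Z → σ z = z := by
    intro z hz
    have hle : Z ≤ AlgHom.equalizer σ (AlgHom.id R A) := by
      rw [hZ]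
      apply Algebra.adjoin_le
      rintro _ ⟨j, rfl⟩
      exact hσz j
    exact hle hz
  have hσt' : σ t' = t' := by
    rw [ht', map_mul, map_pow, AlgHom.commutes, ht]
  set F : A[X] := F₁.map (algebraMap Z A) - C t' with hF
  have hFmap : F.map (σ : A →+* A) = F := by
    rw [hF, Polynomial.map_sub, Polynomial.map_map, map_C]
    congr 1
    · congr 1
      ext z
      exact hσZ _ z.2
    · rw [RingHom.coe_coe, hσt']
  have hFev : F.eval v = 0 := by
    rw [hF, eval_sub, eval_map_algebraMap, hF₁v, eval_C, sub_self]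
  have hFdeg : F.natDegree < p := by
    rw [hF]
    refine lt_of_le_of_lt (natDegree_sub_le _ _) (max_lt ?_ ?_)
    · exact lt_of_le_of_lt natDegree_map_le hF₁deg
    · rw [natDegree_C]; exact p_pos p
  have hF0 := eq_zero_of_eval_eq_zero_of_fixed p (σ : A →+* A) v (algebraMap R A c) hc
    (by rw [RingHom.coe_coe]; exact hσ) (by rw [RingHom.coe_coe, AlgHom.commutes]) F hFmap hFdeg hFev
  have h0 : (F₁.map (algebraMap Z A)).coeff 0 = t' := by
    have := sub_eq_zero.mp (hF ▸ hF0)
    rw [this, coeff_C_zero]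
  rw [coeff_map] at h0
  rw [← h0]
  exact (F₁.coeff 0).2

end Minor

end Groth.Agent.Lib.LeadAS

namespace Groth.Agent.Lib.LeadAS

open Polynomial Module

section MinorPS

variable (p : ℕ) [hp : Fact p.Prime] (k : Type u) [Field k] [CharP k p] (n : ℕ)
  (a : Fin n → MvPowerSeries (Fin n) k) (μ : MvPowerSeries (Fin n) k)

lemma ham_mul (ham : ∀ i, MvPowerSeries.constantCoeff (a i) = 0) (i : Fin n) :
    MvPowerSeries.constantCoeff (μ * a i) = 0 := by
  rw [map_mul, ham i, mul_zero]

theorem minor_PS (ham : ∀ i, MvPowerSeries.constantCoeff (a i) = 0) (hμ : μ ≠ 0) (i₀ : Fin n)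
    (σ : Q (fam p (bPS p k n fun i => μ * a i) (dPS k n)) ≃ₐ[MvPowerSeries (Fin n) k]
      Q (fam p (bPS p k n fun i => μ * a i) (dPS k n)))
    (hσ : ∀ i, σ (u _ i) = u _ i + algebraMap (MvPowerSeries (Fin n) k) _ (μ * a i))
    (t : Q (fam p (bPS p k n fun i => μ * a i) (dPS k n))) (ht : σ t = t) :
    ∃ N : ℕ, algebraMap (MvPowerSeries (Fin n) k)
        (Q (fam p (bPS p k n fun i => μ * a i) (dPS k n))) (μ * a i₀) ^ N * t ∈
      Algebra.adjoin (MvPowerSeries (Fin n) k) (Set.range fun j : {j : Fin n // j ≠ i₀} =>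
        algebraMap (MvPowerSeries (Fin n) k) (Q (fam p (bPS p k n fun i => μ * a i) (dPS k n)))
            (a i₀) * u _ j.1
          - algebraMap (MvPowerSeries (Fin n) k) _ (a j.1) * u _ i₀) := by
  by_cases ha0 : a i₀ = 0
  · refine ⟨1, ?_⟩
    rw [ha0, mul_zero, map_zero, pow_one, zero_mul]
    exact Subalgebra.zero_mem _
  · haveI : IsDomain (Q (fam p (bPS p k n fun i => μ * a i) (dPS k n))) :=
      isDomain_Q_PS p k n (fun i => μ * a i) (ham_mul k n a μ ham)
    haveI : CharP (Q (fam p (bPS p k n fun i => μ * a i) (dPS k n))) p := charP_Q p _ _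
    have hc : algebraMap (MvPowerSeries (Fin n) k)
        (Q (fam p (bPS p k n fun i => μ * a i) (dPS k n))) (μ * a i₀) ≠ 0 := by
      intro h0
      have := algebraMap_injective_fam p (bPS p k n fun i => μ * a i) (dPS k n)
        (h0.trans (map_zero _).symm)
      exact (mul_ne_zero hμ ha0) this
    obtain ⟨N, hN⟩ := exists_pow_mul_mem_adjoin p (u (fam p (bPS p k n fun i => μ * a i) (dPS k n)))
      (adjoin_u _) a i₀ ((μ * a i₀) ^ (p - 1)) (MvPowerSeries.X i₀)
      (u_pow' p (bPS p k n fun i => μ * a i) (dPS k n) i₀)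
      (σ : _ →ₐ[MvPowerSeries (Fin n) k] _) (μ * a i₀) hc (hσ i₀)
      (fun j : {j : Fin n // j ≠ i₀} =>
        algebraMap (MvPowerSeries (Fin n) k) (Q (fam p (bPS p k n fun i => μ * a i) (dPS k n)))
            (a i₀) * u _ j.1
          - algebraMap (MvPowerSeries (Fin n) k) _ (a j.1) * u _ i₀)
      (fun j => rfl)
      (fun j => by
        change σ _ = _
        rw [map_sub, map_mul, map_mul, AlgEquiv.commutes, AlgEquiv.commutes, hσ, hσ, map_mul,
          map_mul]
        ring)
      t ht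
    refine ⟨N, ?_⟩
    rw [map_mul, mul_pow, mul_assoc]
    exact Subalgebra.mul_mem _ (Subalgebra.pow_mem _ (Subalgebra.algebraMap_mem _ μ) N) hN

end MinorPS

end Groth.Agent.Lib.LeadAS
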