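import Groth.Agent.Lib.LeadASh
import Groth.Agent.Lib.LeadASg

/-!
# `LeadAS`, part j: the kernel of the map to a domain sending the variables to Artin–Schreier type
elements translated independently by automorphisms
-/

set_option autoImplicit false
set_option maxHeartbeats 400000
set_option linter.style.haveILetI false
set_option linter.unusedSectionVars false
set_option linter.unusedVariables false

universe u

noncomputable section

namespace Groth.Agent.Lib.LeadAS

open Polynomial Module

section Kernel

variable {R A : Type u} [CommRing R] [CommRing A] [Algebra R A] [IsDomain A]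
  (p : ℕ) [hp : Fact p.Prime] [CharP A p]

lemma liftQ_mk {n : ℕ} (f : Fin n → R[X]) (v : Fin n → A)
    (hv : ∀ i, Polynomial.aeval (v i) (f i) = 0) (x : MvPolynomial (Fin n) R) :
    liftQ f v hv (Ideal.Quotient.mk (I f) x) = MvPolynomial.aeval v x :=
  AlgHom.congr_fun (Ideal.Quotient.liftₐ_comp (I f) (MvPolynomial.aeval v) (liftQ_aux f v hv)) x

theorem ker_aeval_eq_I {m : ℕ} (v : Fin m → A) (b d : Fin m → R)
    (hv : ∀ i, v i ^ p = algebraMap R A (b i) * v i + algebraMap R A (d i))
    (τ : Fin m → (A →ₐ[R] A)) (c : Fin m → A) (hc : ∀ i, c i ≠ 0)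
    (hτv : ∀ i j, τ i (v j) = v j + (if i = j then c j else 0))
    (hτc : ∀ i j, τ i (c j) = c j) (hinj : Function.Injective (algebraMap R A)) :
    RingHom.ker (MvPolynomial.aeval v : MvPolynomial (Fin m) R →ₐ[R] A) = I (fam p b d) := by
  haveI : Nontrivial R := (algebraMap R A).domain_nontrivial
  have hroot : ∀ i, Polynomial.aeval (v i) (fam p b d i) = 0 := by
    intro i
    rw [aeval_fAS, hv]; ring
  apply le_antisymm
  · intro x hx
    rw [RingHom.mem_ker] at hx
    have hy : Ideal.Quotient.mk (I (fam p b d)) x ∈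
        Submodule.span R (Set.range (monOf (u (fam p b d)) p)) := by
      rw [span_mon _ (fam_monic p (one_lt_p p) b d) (fam_natDegree p (one_lt_p p) b d) (p_pos p)]
      trivial
    obtain ⟨cf, hcf⟩ := (Submodule.mem_span_range_iff_exists_fun R).mp hy
    have h1 := congrArg (liftQ (fam p b d) v hroot) hcf
    rw [liftQ_mk, hx, map_sum] at h1
    have h2 : ∑ e, algebraMap R A (cf e) * monOf v p e = 0 := by
      rw [← h1]
      apply Finset.sum_congr rfl
      intro e _
      rw [map_smul, liftQ_monOf, Algebra.smul_def]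
    have h3 := monOf_indep_fixed p m v (fun i => (τ i : A →+* A)) c hc
      (fun i j => by rw [RingHom.coe_coe]; exact hτv i j)
      (fun i j => by rw [RingHom.coe_coe]; exact hτc i j)
      (fun e => algebraMap R A (cf e))
      (fun e i => by rw [RingHom.coe_coe, AlgHom.commutes]) h2
    have h4 : ∀ e, cf e = 0 := fun e => hinj ((h3 e).trans (map_zero _).symm)
    have h5 : Ideal.Quotient.mk (I (fam p b d)) x = 0 := by
      rw [← hcf]
      apply Finset.sum_eq_zero
      intro e _
      rw [h4 e, zero_smul]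
    exact Ideal.Quotient.eq_zero_iff_mem.mp h5
  · intro x hx
    exact liftQ_aux (fam p b d) v hroot x hx

theorem ker_aeval_eq_span {J : Type} [Fintype J] [DecidableEq J] (z : J → A) (b d : J → R)
    (hz : ∀ j, z j ^ p = algebraMap R A (b j) * z j + algebraMap R A (d j))
    (τ : J → (A →ₐ[R] A)) (c : J → A) (hc : ∀ j, c j ≠ 0)
    (hτz : ∀ i j, τ i (z j) = z j + (if i = j then c j else 0))
    (hτc : ∀ i j, τ i (c j) = c j) (hinj : Function.Injective (algebraMap R A)) :
    RingHom.ker (MvPolynomial.aeval z : MvPolynomial J R →ₐ[R] A) =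
      Ideal.span (Set.range fun j : J =>
        (MvPolynomial.X j : MvPolynomial J R) ^ p - MvPolynomial.C (b j) * MvPolynomial.X j
          - MvPolynomial.C (d j)) := by
  classical
  let m := Fintype.card J
  let ε : Fin m ≃ J := (Fintype.equivFin J).symm
  have hK := ker_aeval_eq_I p (fun i => z (ε i)) (fun i => b (ε i)) (fun i => d (ε i))
    (fun i => hz (ε i)) (fun i => τ (ε i)) (fun i => c (ε i)) (fun i => hc (ε i))
    (fun i j => by
      rw [hτz (ε i) (ε j)]
      by_cases hij : i = j
      · rw [if_pos hij, if_pos (congrArg ε hij)]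
      · rw [if_neg hij, if_neg (fun h => hij (ε.injective h))])
    (fun i j => hτc (ε i) (ε j)) hinj
  let ρ := MvPolynomial.renameEquiv R ε
  have hρ : ∀ y, MvPolynomial.aeval z (ρ y) = MvPolynomial.aeval (fun i => z (ε i)) y := by
    intro y
    rw [MvPolynomial.renameEquiv_apply, MvPolynomial.aeval_rename]
    rfl
  have hmap : Ideal.map (ρ : MvPolynomial (Fin m) R →+* MvPolynomial J R)
      (I (fam p (fun i => b (ε i)) (fun i => d (ε i)))) =
      Ideal.span (Set.range fun j : J =>
        (MvPolynomial.X j : MvPolynomial J R) ^ p - MvPolynomial.C (b j) * MvPolynomial.X j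
          - MvPolynomial.C (d j)) := by
    unfold I
    rw [Ideal.map_span, ← Set.range_comp]
    congr 1
    have : ((ρ : MvPolynomial (Fin m) R →+* MvPolynomial J R) ∘
        gen (fam p (fun i => b (ε i)) (fun i => d (ε i)))) =
        (fun j : J => (MvPolynomial.X j : MvPolynomial J R) ^ p
          - MvPolynomial.C (b j) * MvPolynomial.X j - MvPolynomial.C (d j)) ∘ ε := by
      funext i
      rw [Function.comp_apply, Function.comp_apply, gen_fam]
      change ρ _ = _
      rw [MvPolynomial.renameEquiv_apply, map_sub, map_sub, map_mul, map_pow,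
        MvPolynomial.rename_X, MvPolynomial.rename_C, MvPolynomial.rename_C]
    rw [this, ε.surjective.range_comp]
  ext x
  rw [RingHom.mem_ker, ← hmap]
  have hx : x = ρ (ρ.symm x) := (ρ.apply_symm_apply x).symm
  constructor
  · intro h
    rw [hx, hρ] at h
    have h1 : ρ.symm x ∈ I (fam p (fun i => b (ε i)) (fun i => d (ε i))) := by
      rw [← hK, RingHom.mem_ker]; exact h
    rw [hx]
    exact Ideal.mem_map_of_mem _ h1
  · intro h
    rw [hx, hρ]
    have h1 : ρ.symm x ∈ I (fam p (fun i => b (ε i)) (fun i => d (ε i))) := by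
      have := (Ideal.symm_apply_mem_of_equiv_iff (f := ρ.toRingEquiv)
        (I := I (fam p (fun i => b (ε i)) (fun i => d (ε i)))) (y := x)).mpr h
      exact this
    rw [← hK, RingHom.mem_ker] at h1
    exact h1

end Kernel

section MinorRel

variable {A : Type u} [CommRing A] (p : ℕ) [hp : Fact p.Prime] [CharP A p]

/-- the Artin–Schreier type equation satisfied by a minor element -/
lemma minor_pow (U V a₀ a₁ μ x₀ x₁ : A)
    (hU : U ^ p = (μ * a₁) ^ (p - 1) * U + x₁) (hV : V ^ p = (μ * a₀) ^ (p - 1) * V + x₀) :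
    (a₀ * U - a₁ * V) ^ p = (μ * a₀ * a₁) ^ (p - 1) * (a₀ * U - a₁ * V)
      + (a₀ ^ p * x₁ - a₁ ^ p * x₀) := by
  rw [sub_pow_char, mul_pow, mul_pow, hU, hV]
  obtain ⟨P, hP⟩ : ∃ P, p = P + 1 := Nat.exists_eq_succ_of_ne_zero (p_pos p).ne'
  have hP' : p - 1 = P := by omega
  rw [hP']
  have h0 : a₀ ^ p = a₀ ^ P * a₀ := by rw [hP, pow_succ]
  have h1 : a₁ ^ p = a₁ ^ P * a₁ := by rw [hP, pow_succ]
  rw [h0, h1]
  ring

end MinorRel

end Groth.Agent.Lib.LeadAS
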