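import Groth.Agent.Lib.LeadASj
import Groth.Agent.Lib.LeadASe

/-!
# `LeadAS`, part k: the minor elements of an Artin–Schreier family over `k[[x]]`
-/

set_option autoImplicit false
set_option maxHeartbeats 400000
set_option linter.style.haveILetI false
set_option linter.unusedSectionVars false
set_option linter.unusedVariables false

universe u

noncomputable section

namespace Groth.Agent.Lib.LeadAS

open Polynomial Module

section MinorKer

variable (p : ℕ) [hp : Fact p.Prime] (k : Type u) [Field k] [CharP k p] (n : ℕ)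
  (a : Fin n → MvPowerSeries (Fin n) k) (μ : MvPowerSeries (Fin n) k)

lemma a_ne_zero (hn : 2 ≤ n) (ham : ∀ i, MvPowerSeries.constantCoeff (a i) = 0)
    (hcop : ∀ i j, i ≠ j → IsRelPrime (a i) (a j)) (i : Fin n) : a i ≠ 0 := by
  intro h0
  obtain ⟨j, hj⟩ : ∃ j : Fin n, i ≠ j := by
    by_cases hi : (i : ℕ) = 0
    · exact ⟨⟨1, by omega⟩, fun h => by rw [h] at hi; simp at hi⟩
    · exact ⟨⟨0, by omega⟩, fun h => by rw [h] at hi; exact hi rfl⟩
  have h1 := hcop i j hj
  rw [h0, isRelPrime_zero_left, MvPowerSeries.isUnit_iff_constantCoeff, ham j] at h1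
  exact not_isUnit_zero h1

/-- the ring `A` of the family with coefficients `μ a i` -/
abbrev Aμ : Type u := Q (fam p (bPS p k n fun i => μ * a i) (dPS k n))

/-- the minor elements through `u i₀` -/
def zmin (i₀ : Fin n) (j : {j : Fin n // j ≠ i₀}) : Aμ p k n a μ :=
  algebraMap (MvPowerSeries (Fin n) k) (Aμ p k n a μ) (a i₀) * u _ j.1
    - algebraMap (MvPowerSeries (Fin n) k) _ (a j.1) * u _ i₀

lemma zmin_pow (i₀ : Fin n) (j : {j : Fin n // j ≠ i₀}) :
    zmin p k n a μ i₀ j ^ p =
      algebraMap (MvPowerSeries (Fin n) k) (Aμ p k n a μ) ((μ * a i₀ * a j.1) ^ (p - 1))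
          * zmin p k n a μ i₀ j
        + algebraMap (MvPowerSeries (Fin n) k) _
          (a i₀ ^ p * MvPowerSeries.X j.1 - a j.1 ^ p * MvPowerSeries.X i₀) := by
  haveI : CharP (Aμ p k n a μ) p := charP_Q p _ _
  have hU := u_pow' p (bPS p k n fun i => μ * a i) (dPS k n) j.1
  have hV := u_pow' p (bPS p k n fun i => μ * a i) (dPS k n) i₀
  simp only [map_pow, map_mul] at hU hV
  have := minor_pow p (u _ j.1) (u _ i₀)
    (algebraMap (MvPowerSeries (Fin n) k) (Aμ p k n a μ) (a i₀))
    (algebraMap (MvPowerSeries (Fin n) k) (Aμ p k n a μ) (a j.1))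
    (algebraMap (MvPowerSeries (Fin n) k) (Aμ p k n a μ) μ)
    (algebraMap (MvPowerSeries (Fin n) k) (Aμ p k n a μ) (MvPowerSeries.X i₀))
    (algebraMap (MvPowerSeries (Fin n) k) (Aμ p k n a μ) (MvPowerSeries.X j.1)) hU hV
  unfold zmin
  simp only [map_pow, map_mul, map_sub]
  exact this

/-- the translation in direction `j` -/
def tauDir (j : Fin n) : Aμ p k n a μ →ₐ[MvPowerSeries (Fin n) k] Aμ p k n a μ :=
  translE p (fun i => μ * a i) (dPS k n) (Pi.single j 1)

lemma tauDir_u (j i : Fin n) :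
    tauDir p k n a μ j (u _ i) = u _ i + (if j = i then
      algebraMap (MvPowerSeries (Fin n) k) (Aμ p k n a μ) (μ * a i) else 0) := by
  unfold tauDir
  rw [translE_u]
  by_cases hji : j = i
  · subst hji
    rw [Pi.single_eq_same, map_one, one_mul, if_pos rfl]
  · rw [Pi.single_eq_of_ne (fun h => hji h.symm), map_zero, zero_mul, map_zero, if_neg hji]

lemma tauDir_zmin (i₀ : Fin n) (i j : {j : Fin n // j ≠ i₀}) :
    tauDir p k n a μ i.1 (zmin p k n a μ i₀ j) = zmin p k n a μ i₀ j +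
      (if i = j then algebraMap (MvPowerSeries (Fin n) k) (Aμ p k n a μ)
        (a i₀ * (μ * a j.1)) else 0) := by
  unfold zmin
  rw [map_sub, map_mul, map_mul, AlgHom.commutes, AlgHom.commutes, tauDir_u, tauDir_u,
    if_neg i.2]
  by_cases hij : i = j
  · subst hij
    rw [if_pos rfl, if_pos rfl]
    simp only [map_mul]
    ring
  · rw [if_neg hij, if_neg (fun h => hij (Subtype.ext h))]
    ring

theorem ker_minor_PS (hn : 2 ≤ n) (ham : ∀ i, MvPowerSeries.constantCoeff (a i) = 0)
    (hcop : ∀ i j, i ≠ j → IsRelPrime (a i) (a j)) (hμ : μ ≠ 0) (i₀ : Fin n) :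
    RingHom.ker (MvPolynomial.aeval (zmin p k n a μ i₀) :
        MvPolynomial {j : Fin n // j ≠ i₀} (MvPowerSeries (Fin n) k) →ₐ[MvPowerSeries (Fin n) k]
          Aμ p k n a μ) =
      Ideal.span (Set.range fun j : {j : Fin n // j ≠ i₀} =>
        (MvPolynomial.X j : MvPolynomial {j : Fin n // j ≠ i₀} (MvPowerSeries (Fin n) k)) ^ p
          - MvPolynomial.C ((μ * a i₀ * a j.1) ^ (p - 1)) * MvPolynomial.X j
          - MvPolynomial.C (a i₀ ^ p * MvPowerSeries.X j.1 - a j.1 ^ p * MvPowerSeries.X i₀)) := by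
  haveI : IsDomain (Aμ p k n a μ) :=
    isDomain_Q_PS p k n (fun i => μ * a i) (fun i => by rw [map_mul, ham i, mul_zero])
  haveI : CharP (Aμ p k n a μ) p := charP_Q p _ _
  have hinj : Function.Injective (algebraMap (MvPowerSeries (Fin n) k) (Aμ p k n a μ)) :=
    algebraMap_injective_fam p _ _
  exact ker_aeval_eq_span p (zmin p k n a μ i₀)
    (fun j => (μ * a i₀ * a j.1) ^ (p - 1))
    (fun j => a i₀ ^ p * MvPowerSeries.X j.1 - a j.1 ^ p * MvPowerSeries.X i₀)
    (zmin_pow p k n a μ i₀)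
    (fun j => tauDir p k n a μ j.1)
    (fun j => algebraMap (MvPowerSeries (Fin n) k) (Aμ p k n a μ) (a i₀ * (μ * a j.1)))
    (fun j h0 => by
      have := hinj (h0.trans (map_zero _).symm)
      exact mul_ne_zero (a_ne_zero k n a hn ham hcop i₀)
        (mul_ne_zero hμ (a_ne_zero k n a hn ham hcop j.1)) this)
    (tauDir_zmin p k n a μ i₀)
    (fun i j => AlgHom.commutes _ _) hinj

end MinorKer

end Groth.Agent.Lib.LeadAS
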