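import Mathlib

/-!
# `LeadAS`, part l: a localisation `B[1/c]` is integrally closed when `B` sits inside a normal
domain `A` as (up to powers of `c`) the fixed ring of an endomorphism
-/

set_option autoImplicit false
set_option maxHeartbeats 400000
set_option linter.style.haveILetI false
set_option linter.unusedSectionVars false
set_option linter.unusedVariables false

universe u

noncomputable section

namespace Groth.Agent.Lib.LeadAS

theorem isIntegrallyClosed_away_of_fixed {B A : Type u} [CommRing B] [CommRing A] [IsDomain B]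
    [IsDomain A] [IsIntegrallyClosed A] (φ : B →+* A) (hφ : Function.Injective φ) (σ : A →+* A)
    (hσφ : ∀ b, σ (φ b) = φ b) (c : B) (hc : c ≠ 0)
    (H : ∀ t : A, σ t = t → ∃ N : ℕ, ∃ b : B, φ c ^ N * t = φ b) :
    IsIntegrallyClosed (Localization.Away c) := by
  have hle : Submonoid.powers c ≤ nonZeroDivisors B :=
    powers_le_nonZeroDivisors_of_noZeroDivisors hc
  letI : Algebra (Localization.Away c) (FractionRing B) :=
    IsLocalization.localizationAlgebraOfSubmonoidLe (Localization.Away c) (FractionRing B)
      (Submonoid.powers c) (nonZeroDivisors B) hle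
  haveI : IsScalarTower B (Localization.Away c) (FractionRing B) :=
    IsLocalization.localization_isScalarTower_of_submonoid_le (Localization.Away c) (FractionRing B) _ _ hle
  haveI : IsFractionRing (Localization.Away c) (FractionRing B) :=
    IsFractionRing.isFractionRing_of_isLocalization (Submonoid.powers c) _ _ hle
  rw [isIntegrallyClosed_iff (FractionRing B)]
  intro x hx
  obtain ⟨⟨m, ⟨M, rfl⟩⟩, hm⟩ :=
    IsIntegral.exists_multiple_integral_of_isLocalization (Submonoid.powers c) x hx
  have hsm : (⟨c ^ M, ⟨M, rfl⟩⟩ : Submonoid.powers c) • x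
      = algebraMap B (FractionRing B) (c ^ M) * x := by
    rw [Submonoid.smul_def, Algebra.smul_def]
  rw [hsm] at hm
  let g₀ : B →+* FractionRing A := (algebraMap A (FractionRing A)).comp φ
  have hg₀ : Function.Injective g₀ := (IsFractionRing.injective A (FractionRing A)).comp hφ
  let ψ : FractionRing B →+* FractionRing A := IsFractionRing.lift hg₀
  have hψ : ∀ b : B, ψ (algebraMap B (FractionRing B) b) = algebraMap A (FractionRing A) (φ b) :=
    fun b => IsFractionRing.lift_algebraMap hg₀ b
  have hint : IsIntegral A (ψ (algebraMap B (FractionRing B) (c ^ M) * x)) :=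
    hm.map_of_comp_eq φ ψ (by ext b; simp only [RingHom.comp_apply, hψ])
  obtain ⟨t, ht⟩ := (isIntegrallyClosed_iff (FractionRing A)).mp inferInstance hint
  rw [map_mul, hψ] at ht
  obtain ⟨β₁, β₂, hβ₂, hx12⟩ := IsFractionRing.div_surjective (A := B) x
  have hβ₂0 : β₂ ≠ 0 := nonZeroDivisors.ne_zero hβ₂
  have hβ₂K : algebraMap B (FractionRing B) β₂ ≠ 0 := by
    intro h0
    exact hβ₂0 (IsFractionRing.injective B (FractionRing B) (h0.trans (map_zero _).symm))
  have hx' : x * algebraMap B (FractionRing B) β₂ = algebraMap B (FractionRing B) β₁ := by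
    rw [← hx12, div_mul_cancel₀ _ hβ₂K]
  have hψx : ψ x * algebraMap A (FractionRing A) (φ β₂) = algebraMap A (FractionRing A) (φ β₁) := by
    rw [← hψ, ← hψ, ← map_mul, hx']
  have htA : t * φ β₂ = φ (c ^ M * β₁) := by
    apply IsFractionRing.injective A (FractionRing A)
    rw [map_mul, ht, map_mul, map_mul, mul_assoc, hψx]
  have hφβ₂ : φ β₂ ≠ 0 := fun h0 => hβ₂0 (hφ (h0.trans (map_zero _).symm))
  have hσt : σ t = t := by
    have h1 := congrArg σ htA
    rw [map_mul, hσφ, hσφ, ← htA] at h1
    exact mul_right_cancel₀ hφβ₂ h1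
  obtain ⟨N, b, hb⟩ := H t hσt
  have hcK : algebraMap B (FractionRing B) (c ^ (N + M)) ≠ 0 := by
    intro h0
    exact pow_ne_zero _ hc (IsFractionRing.injective B (FractionRing B) (h0.trans (map_zero _).symm))
  have hkey : x * algebraMap B (FractionRing B) (c ^ (N + M)) = algebraMap B (FractionRing B) b := by
    apply ψ.injective
    rw [map_mul, hψ, hψ, ← hb]
    simp only [map_mul, map_pow, pow_add] at ht ⊢
    rw [ht]
    ring
  refine ⟨IsLocalization.mk' (Localization.Away c) b
    (⟨c ^ (N + M), ⟨N + M, rfl⟩⟩ : Submonoid.powers c), ?_⟩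
  have hspec := IsLocalization.mk'_spec (Localization.Away c) b
    (⟨c ^ (N + M), ⟨N + M, rfl⟩⟩ : Submonoid.powers c)
  have h2 := congrArg (algebraMap (Localization.Away c) (FractionRing B)) hspec
  rw [map_mul, ← IsScalarTower.algebraMap_apply, ← IsScalarTower.algebraMap_apply, ← hkey] at h2
  exact mul_right_cancel₀ hcK h2

end Groth.Agent.Lib.LeadAS
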