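import Groth.Agent.Lib.LeadASk
import Groth.Agent.Lib.LeadASi
import Groth.Agent.Lib.LeadASl
import Groth.Agent.Lib.Helper28Catenary

/-!
# `LeadAS`, part m: the complete-intersection ring of the minor elements
-/

set_option autoImplicit false
set_option maxHeartbeats 400000
set_option linter.style.haveILetI false
set_option linter.unusedSectionVars false
set_option linter.unusedVariables false

universe u

noncomputable section

namespace Groth.Agent.Lib.LeadAS

open Polynomial Module

section FreeJ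

variable {R : Type u} [CommRing R] [Nontrivial R] (p : ℕ)

/-- the relations ideal for an arbitrary finite index type -/
def IJ {J : Type} (b d : J → R) : Ideal (MvPolynomial J R) :=
  Ideal.span (Set.range fun j : J =>
    (MvPolynomial.X j : MvPolynomial J R) ^ p - MvPolynomial.C (b j) * MvPolynomial.X j
      - MvPolynomial.C (d j))

lemma map_rename_I {J : Type} {m : ℕ} (ε : Fin m ≃ J) (b d : J → R) :
    IJ p b d = Ideal.map
      ((MvPolynomial.renameEquiv R ε : MvPolynomial (Fin m) R ≃ₐ[R] MvPolynomial J R) :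
        MvPolynomial (Fin m) R →+* MvPolynomial J R)
      (I (fam p (fun i => b (ε i)) (fun i => d (ε i)))) := by
  unfold I IJ
  rw [Ideal.map_span, ← Set.range_comp]
  congr 1
  have : (((MvPolynomial.renameEquiv R ε : MvPolynomial (Fin m) R ≃ₐ[R] MvPolynomial J R) :
        MvPolynomial (Fin m) R →+* MvPolynomial J R) ∘
      gen (fam p (fun i => b (ε i)) (fun i => d (ε i)))) =
      (fun j : J => (MvPolynomial.X j : MvPolynomial J R) ^ p
        - MvPolynomial.C (b j) * MvPolynomial.X j - MvPolynomial.C (d j)) ∘ ε := by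
    funext i
    rw [Function.comp_apply, Function.comp_apply, gen_fam]
    change MvPolynomial.renameEquiv R ε _ = _
    rw [MvPolynomial.renameEquiv_apply, map_sub, map_sub, map_mul, map_pow,
      MvPolynomial.rename_X, MvPolynomial.rename_C, MvPolynomial.rename_C]
  rw [this, ε.surjective.range_comp]

theorem free_finrank_quotJ (hp : 1 < p) {J : Type} [Fintype J] (b d : J → R) :
    Module.Free R (MvPolynomial J R ⧸ IJ p b d) ∧
      Module.finrank R (MvPolynomial J R ⧸ IJ p b d) = p ^ Fintype.card J := by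
  let ε : Fin (Fintype.card J) ≃ J := (Fintype.equivFin J).symm
  let e := Ideal.quotientEquivAlg (I (fam p (fun i => b (ε i)) (fun i => d (ε i)))) (IJ p b d)
    (MvPolynomial.renameEquiv R ε) (map_rename_I p ε b d)
  haveI := free_Q (fam p (fun i => b (ε i)) (fun i => d (ε i))) (fam_monic p hp _ _)
    (fam_natDegree p hp _ _) (by omega)
  refine ⟨Module.Free.of_equiv e.toLinearEquiv, ?_⟩
  rw [← LinearEquiv.finrank_eq e.toLinearEquiv]
  exact finrank_Q _ (fam_monic p hp _ _) (fam_natDegree p hp _ _) (by omega)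

end FreeJ

section CI

variable (p : ℕ) [hp : Fact p.Prime] (k : Type u) [Field k] [CharP k p] (n : ℕ)
  (a : Fin n → MvPowerSeries (Fin n) k) (μ : MvPowerSeries (Fin n) k)

/-- the complete intersection ring of the minor elements -/
abbrev BB (i₀ : Fin n) : Type u :=
  MvPolynomial {j : Fin n // j ≠ i₀} (MvPowerSeries (Fin n) k) ⧸
    IJ p (fun j : {j : Fin n // j ≠ i₀} => (μ * a i₀ * a j.1) ^ (p - 1))
      (fun j : {j : Fin n // j ≠ i₀} =>
        a i₀ ^ p * MvPowerSeries.X j.1 - a j.1 ^ p * MvPowerSeries.X i₀)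

variable (hn : 2 ≤ n) (ham : ∀ i, MvPowerSeries.constantCoeff (a i) = 0)
  (hcop : ∀ i j, i ≠ j → IsRelPrime (a i) (a j)) (hμ : μ ≠ 0) (i₀ : Fin n)

include hn ham hcop hμ

lemma ker_eq_IJ :
    RingHom.ker (MvPolynomial.aeval (zmin p k n a μ i₀) :
        MvPolynomial {j : Fin n // j ≠ i₀} (MvPowerSeries (Fin n) k) →ₐ[MvPowerSeries (Fin n) k]
          Aμ p k n a μ) =
      IJ p (fun j : {j : Fin n // j ≠ i₀} => (μ * a i₀ * a j.1) ^ (p - 1))
        (fun j : {j : Fin n // j ≠ i₀} =>
          a i₀ ^ p * MvPowerSeries.X j.1 - a j.1 ^ p * MvPowerSeries.X i₀) :=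
  ker_minor_PS p k n a μ hn ham hcop hμ i₀

/-- the map from the complete intersection ring to `A` -/
def phiB : BB p k n a μ i₀ →ₐ[MvPowerSeries (Fin n) k] Aμ p k n a μ :=
  Ideal.Quotient.liftₐ _ (MvPolynomial.aeval (zmin p k n a μ i₀)) (fun x hx => by
    rw [← ker_eq_IJ p k n a μ hn ham hcop hμ i₀] at hx
    exact (RingHom.mem_ker).mp hx)

lemma phiB_mk (x : MvPolynomial {j : Fin n // j ≠ i₀} (MvPowerSeries (Fin n) k)) :
    phiB p k n a μ hn ham hcop hμ i₀ (Ideal.Quotient.mk _ x) =
      MvPolynomial.aeval (zmin p k n a μ i₀) x :=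
  rfl

lemma phiB_injective : Function.Injective (phiB p k n a μ hn ham hcop hμ i₀) := by
  rw [injective_iff_map_eq_zero]
  intro x hx
  obtain ⟨y, rfl⟩ := Ideal.Quotient.mk_surjective x
  rw [phiB_mk] at hx
  rw [Ideal.Quotient.eq_zero_iff_mem, ← ker_eq_IJ p k n a μ hn ham hcop hμ i₀, RingHom.mem_ker]
  exact hx

theorem minorCI_PS :
    Module.Free (MvPowerSeries (Fin n) k) (BB p k n a μ i₀) ∧
      Module.finrank (MvPowerSeries (Fin n) k) (BB p k n a μ i₀) = p ^ (n - 1) ∧
      IsDomain (BB p k n a μ i₀) ∧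
      IsIntegrallyClosed (Localization.Away
        (algebraMap (MvPowerSeries (Fin n) k) (BB p k n a μ i₀) (μ * a i₀))) := by
  have hfree := free_finrank_quotJ (R := MvPowerSeries (Fin n) k) p (one_lt_p p)
    (fun j : {j : Fin n // j ≠ i₀} => (μ * a i₀ * a j.1) ^ (p - 1))
    (fun j : {j : Fin n // j ≠ i₀} =>
      a i₀ ^ p * MvPowerSeries.X j.1 - a j.1 ^ p * MvPowerSeries.X i₀)
  have hcard : Fintype.card {j : Fin n // j ≠ i₀} = n - 1 := by simp
  rw [hcard] at hfree
  have ham' : ∀ i, MvPowerSeries.constantCoeff (μ * a i) = 0 :=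
    fun i => by rw [map_mul, ham i, mul_zero]
  haveI : IsDomain (Aμ p k n a μ) := isDomain_Q_PS p k n (fun i => μ * a i) ham'
  haveI : IsRegularLocalRing (Aμ p k n a μ) := isRegularLocalRing_PS p k n (fun i => μ * a i) ham'
  haveI : IsIntegrallyClosed (Aμ p k n a μ) :=
    Groth.Agent.Lib.Helper28.isIntegrallyClosed_of_isRegularLocalRing _
  have hinjφ := phiB_injective p k n a μ hn ham hcop hμ i₀
  haveI hdom : IsDomain (BB p k n a μ i₀) :=
    Function.Injective.isDomain (phiB p k n a μ hn ham hcop hμ i₀).toRingHom hinjφ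
  refine ⟨hfree.1, hfree.2, hdom, ?_⟩
  -- the translation by all `μ a i`
  let σ := E p (fun i => μ * a i) (dPS k n) (fun _ => 1)
  have hσu : ∀ i, σ (u _ i) = u _ i + algebraMap (MvPowerSeries (Fin n) k) _ (μ * a i) := by
    intro i
    change translE p (fun i => μ * a i) (dPS k n) (fun _ => 1) (u _ i) = _
    rw [translE_u, map_one, one_mul]
  have hσz : ∀ j, σ (zmin p k n a μ i₀ j) = zmin p k n a μ i₀ j := by
    intro j
    unfold zmin
    rw [map_sub, map_mul, map_mul, AlgEquiv.commutes, AlgEquiv.commutes, hσu, hσu]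
    simp only [map_mul]
    ring
  have hinjA : Function.Injective (algebraMap (MvPowerSeries (Fin n) k) (Aμ p k n a μ)) :=
    algebraMap_injective_fam p _ _
  have hc0 : algebraMap (MvPowerSeries (Fin n) k) (BB p k n a μ i₀) (μ * a i₀) ≠ 0 := by
    intro h0
    have h1 := congrArg (phiB p k n a μ hn ham hcop hμ i₀) h0
    rw [AlgHom.commutes, map_zero] at h1
    have := hinjA (h1.trans (map_zero _).symm)
    exact mul_ne_zero hμ (a_ne_zero k n a hn ham hcop i₀) this
  apply isIntegrallyClosed_away_of_fixed (phiB p k n a μ hn ham hcop hμ i₀).toRingHom hinjφ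
    (σ : Aμ p k n a μ →+* Aμ p k n a μ) ?_ _ hc0 ?_
  · intro b
    obtain ⟨y, rfl⟩ := Ideal.Quotient.mk_surjective b
    change σ (phiB p k n a μ hn ham hcop hμ i₀ (Ideal.Quotient.mk _ y)) =
      phiB p k n a μ hn ham hcop hμ i₀ (Ideal.Quotient.mk _ y)
    rw [phiB_mk]
    have hcomp : (σ : Aμ p k n a μ →ₐ[MvPowerSeries (Fin n) k] Aμ p k n a μ).comp
        (MvPolynomial.aeval (zmin p k n a μ i₀)) = MvPolynomial.aeval (zmin p k n a μ i₀) := by
      apply MvPolynomial.algHom_ext
      intro j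
      rw [AlgHom.comp_apply, MvPolynomial.aeval_X]
      exact hσz j
    exact AlgHom.congr_fun hcomp y
  · intro t ht
    obtain ⟨N, hN⟩ := minor_PS p k n a μ ham hμ i₀ σ hσu t ht
    have hrange : Algebra.adjoin (MvPowerSeries (Fin n) k) (Set.range (zmin p k n a μ i₀)) =
        (MvPolynomial.aeval (zmin p k n a μ i₀)).range :=
      Algebra.adjoin_range_eq_range_aeval _ _
    have hN' : algebraMap (MvPowerSeries (Fin n) k) (Aμ p k n a μ) (μ * a i₀) ^ N * t ∈
        (MvPolynomial.aeval (zmin p k n a μ i₀) :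
          MvPolynomial {j : Fin n // j ≠ i₀} (MvPowerSeries (Fin n) k) →ₐ[_] _).range := by
      rw [← hrange]; exact hN
    obtain ⟨q, hq⟩ := (AlgHom.mem_range _).mp hN'
    refine ⟨N, Ideal.Quotient.mk _ q, ?_⟩
    change (phiB p k n a μ hn ham hcop hμ i₀) _ ^ N * t = (phiB p k n a μ hn ham hcop hμ i₀) _
    rw [AlgHom.commutes, phiB_mk, hq]

end CI

end Groth.Agent.Lib.LeadAS
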