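import Groth.Agent.Lib.LeadASg
import Mathlib.RingTheory.LocalRing.Length
import Mathlib.RingTheory.Nakayama

/-!
# `LeadAS`, part n: the fixed-point ideal of a translation automorphism and its colength
-/

set_option autoImplicit false
set_option maxHeartbeats 400000
set_option linter.style.haveILetI false
set_option linter.unusedSectionVars false
set_option linter.unusedVariables false

universe u

noncomputable section

namespace Groth.Agent.Lib.LeadAS

open Polynomial Module IsLocalRing TensorProduct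

section FixIdeal

variable {R : Type u} [CommRing R] {n : ℕ} (f : Fin n → R[X])

/-- the ideal generated by all `σ t - t` is generated by the translation amounts -/
theorem span_sub_eq_map (c : Fin n → R) (σ : Q f ≃ₐ[R] Q f)
    (hσ : ∀ i, σ (u f i) = u f i + algebraMap R (Q f) (c i)) :
    Ideal.span (Set.range fun t : Q f => σ t - t) =
      Ideal.map (algebraMap R (Q f)) (Ideal.span (Set.range c)) := by
  apply le_antisymm
  · rw [Ideal.span_le]
    rintro _ ⟨t, rfl⟩
    have ht : t ∈ Algebra.adjoin R (Set.range (u f)) := by rw [adjoin_u]; trivial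
    change σ t - t ∈ Ideal.map (algebraMap R (Q f)) (Ideal.span (Set.range c))
    induction ht using Algebra.adjoin_induction with
    | mem x hx =>
      obtain ⟨i, rfl⟩ := hx
      rw [hσ, add_sub_cancel_left]
      exact Ideal.mem_map_of_mem _ (Ideal.subset_span ⟨i, rfl⟩)
    | algebraMap r => rw [AlgEquiv.commutes, sub_self]; exact Ideal.zero_mem _
    | add x y _ _ hx hy =>
      have : σ (x + y) - (x + y) = (σ x - x) + (σ y - y) := by rw [map_add]; ring
      rw [this]; exact Ideal.add_mem _ hx hy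
    | mul x y _ _ hx hy =>
      have : σ (x * y) - x * y = σ x * (σ y - y) + (σ x - x) * y := by rw [map_mul]; ring
      rw [this]
      exact Ideal.add_mem _ (Ideal.mul_mem_left _ _ hy) (Ideal.mul_mem_right _ _ hx)
  · rw [Ideal.map_span, Ideal.span_le]
    rintro _ ⟨_, ⟨i, rfl⟩, rfl⟩
    apply Ideal.subset_span
    exact ⟨u f i, by change σ (u f i) - u f i = _; rw [hσ, add_sub_cancel_left]⟩

end FixIdeal

section Pow

variable {R : Type u} [CommRing R] [IsLocalRing R] (p : ℕ) {n : ℕ} (b d : Fin n → R)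

/-- `𝔪_R A ⊆ 𝔪_A ^ p` -/
theorem map_maximalIdeal_le_pow (hp : 1 < p) (hb : ∀ i, b i ∈ maximalIdeal R)
    (hd : Ideal.span (Set.range d) = maximalIdeal R) :
    Ideal.map (algebraMap R (Q (fam p b d))) (maximalIdeal R) ≤ uI p b d ^ p := by
  haveI := isLocalRing_Q p b d hp hb hd
  have hmax := maximalIdeal_Q p b d hp hd
  have hMeq : Ideal.map (algebraMap R (Q (fam p b d))) (maximalIdeal R) =
      Ideal.span (Set.range fun i => algebraMap R (Q (fam p b d)) (d i)) := by
    rw [← hd, Ideal.map_span, ← Set.range_comp]; rfl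
  have hfg : (Ideal.map (algebraMap R (Q (fam p b d))) (maximalIdeal R) :
      Submodule (Q (fam p b d)) (Q (fam p b d))).FG := by
    rw [hMeq]
    exact Submodule.fg_span (Set.finite_range _)
  have hjac : uI p b d ≤ Ideal.jacobson ⊥ := by
    rw [← hmax]; exact IsLocalRing.maximalIdeal_le_jacobson ⊥
  refine Submodule.le_of_le_smul_of_le_jacobson_bot hfg hjac ?_
  have hgen : ∀ i, algebraMap R (Q (fam p b d)) (d i) ∈
      uI p b d ^ p ⊔ uI p b d • Ideal.map (algebraMap R (Q (fam p b d))) (maximalIdeal R) := by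
    intro i
    have h : algebraMap R (Q (fam p b d)) (d i) =
        u (fam p b d) i ^ p - u (fam p b d) i • algebraMap R (Q (fam p b d)) (b i) := by
      rw [u_pow', smul_eq_mul]; ring
    rw [h]
    refine Submodule.sub_mem _ (Submodule.mem_sup_left ?_) (Submodule.mem_sup_right ?_)
    · exact Ideal.pow_mem_pow (u_mem_uI p b d i) p
    · exact Submodule.smul_mem_smul (u_mem_uI p b d i) (Ideal.mem_map_of_mem _ (hb i))
  calc Ideal.map (algebraMap R (Q (fam p b d))) (maximalIdeal R)
      = Ideal.span (Set.range fun i => algebraMap R (Q (fam p b d)) (d i)) := hMeq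
    _ ≤ _ := Ideal.span_le.mpr (by rintro _ ⟨i, rfl⟩; exact hgen i)

end Pow

section Len

variable {R A : Type u} [CommRing R] [CommRing A] [IsLocalRing R] [IsLocalRing A] [Algebra R A]
  [IsLocalHom (algebraMap R A)]

/-- trivial residue field extension -/
lemma length_residueField_eq_one
    (hres : ∀ x : A, ∃ r : R, x - algebraMap R A r ∈ maximalIdeal A) :
    Module.length (ResidueField R) (ResidueField A) = 1 := by
  have hsurj : Function.Surjective (algebraMap (ResidueField R) (ResidueField A)) := by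
    intro y
    obtain ⟨x, rfl⟩ := IsLocalRing.residue_surjective y
    obtain ⟨r, hr⟩ := hres x
    refine ⟨IsLocalRing.residue R r, ?_⟩
    have h1 : algebraMap (ResidueField R) (ResidueField A) (IsLocalRing.residue R r) =
        IsLocalRing.residue A (algebraMap R A r) := rfl
    rw [h1]
    symm
    rw [← sub_eq_zero, ← map_sub, IsLocalRing.residue_eq_zero_iff]
    exact hr
  let e : ResidueField R ≃ₗ[ResidueField R] ResidueField A :=
    LinearEquiv.ofBijective (Algebra.linearMap (ResidueField R) (ResidueField A))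
      ⟨(algebraMap (ResidueField R) (ResidueField A)).injective, hsurj⟩
  rw [← e.length_eq]
  exact Module.length_eq_one _ _

theorem length_quot_map [Module.Free R A] [Module.Finite R A]
    (hres : ∀ x : A, ∃ r : R, x - algebraMap R A r ∈ maximalIdeal A)
    (𝔞 : Ideal R) (h𝔞 : 𝔞 ≠ ⊤) :
    Module.length A (A ⧸ 𝔞.map (algebraMap R A)) =
      (Module.finrank R A : ℕ∞) * Module.length R (R ⧸ 𝔞) := by
  have h1 := IsLocalRing.length_restrictScalars R A (A ⧸ 𝔞.map (algebraMap R A))
  rw [length_residueField_eq_one hres, mul_one] at h1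
  rw [← h1]
  let e1 : (A ⧸ 𝔞.map (algebraMap R A)) ≃ₗ[R] A ⧸ (𝔞 • ⊤ : Submodule R A) :=
    ((Submodule.Quotient.restrictScalarsEquiv R (𝔞.map (algebraMap R A))).symm).trans
      (Submodule.quotEquivOfEq _ _ (Ideal.smul_top_eq_map 𝔞).symm)
  let e2 := TensorProduct.quotTensorEquivQuotSMul A 𝔞
  rw [e1.length_eq, ← e2.length_eq]
  rw [Module.length_eq_of_surjective (S := R) (R := R ⧸ 𝔞) (M := (R ⧸ 𝔞) ⊗[R] A)
    Ideal.Quotient.mk_surjective]
  haveI : Nontrivial (R ⧸ 𝔞) := Ideal.Quotient.nontrivial_iff.mpr h𝔞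
  rw [Module.length_of_free_of_finite (R ⧸ 𝔞) ((R ⧸ 𝔞) ⊗[R] A), Module.finrank_baseChange]
  rw [Module.length_eq_of_surjective (S := R) (R := R ⧸ 𝔞) (M := R ⧸ 𝔞)
    Ideal.Quotient.mk_surjective]

end Len

section LocHom

variable {R : Type u} [CommRing R] [IsLocalRing R] (p : ℕ) {n : ℕ} (b d : Fin n → R)

theorem isLocalHom_Q (hp : 1 < p) (hb : ∀ i, b i ∈ maximalIdeal R)
    (hd : Ideal.span (Set.range d) = maximalIdeal R) :
    IsLocalHom (algebraMap R (Q (fam p b d))) := by
  haveI := isLocalRing_Q p b d hp hb hd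
  have hmax := maximalIdeal_Q p b d hp hd
  constructor
  intro r hr
  by_contra hnu
  have h1 : r ∈ maximalIdeal R := hnu
  have h2 : algebraMap R (Q (fam p b d)) r ∈ uI p b d :=
    map_maximalIdeal_le p b d hp hd (Ideal.mem_map_of_mem _ h1)
  rw [← hmax] at h2
  exact h2 hr

end LocHom

section PS

variable (p : ℕ) [hp : Fact p.Prime] (k : Type u) [Field k] [CharP k p] (n : ℕ)
  (a : Fin n → MvPowerSeries (Fin n) k)

theorem fixedIdeal_PS (ham : ∀ i, MvPowerSeries.constantCoeff (a i) = 0)
    (σ : Q (fam p (bPS p k n a) (dPS k n)) ≃ₐ[MvPowerSeries (Fin n) k]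
      Q (fam p (bPS p k n a) (dPS k n)))
    (hσ : ∀ i, σ (u (fam p (bPS p k n a) (dPS k n)) i) =
      u (fam p (bPS p k n a) (dPS k n)) i +
        algebraMap (MvPowerSeries (Fin n) k) (Q (fam p (bPS p k n a) (dPS k n))) (a i)) :
    Ideal.span (Set.range fun t : Q (fam p (bPS p k n a) (dPS k n)) => σ t - t) ≤
        Ideal.span (Set.range (u (fam p (bPS p k n a) (dPS k n)))) ^ p ∧
      Module.length (Q (fam p (bPS p k n a) (dPS k n)))
          (Q (fam p (bPS p k n a) (dPS k n)) ⧸
            Ideal.span (Set.range fun t : Q (fam p (bPS p k n a) (dPS k n)) => σ t - t)) =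
        (p ^ n : ℕ∞) * Module.length (MvPowerSeries (Fin n) k)
          (MvPowerSeries (Fin n) k ⧸ Ideal.span (Set.range a)) := by
  have hp1 := one_lt_p p
  have hb := hb_PS p k n a ham
  have hd := hd_PS k n
  haveI := isLocalRing_Q p (bPS p k n a) (dPS k n) hp1 hb hd
  have hmax := maximalIdeal_Q p (bPS p k n a) (dPS k n) hp1 hd
  have hJ := span_sub_eq_map (fam p (bPS p k n a) (dPS k n)) a σ hσ
  have ha_le : Ideal.span (Set.range a) ≤ maximalIdeal (MvPowerSeries (Fin n) k) := by
    rw [Ideal.span_le]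
    rintro _ ⟨i, rfl⟩
    change a i ∈ maximalIdeal (MvPowerSeries (Fin n) k)
    rw [IsLocalRing.mem_maximalIdeal, mem_nonunits_iff, MvPowerSeries.isUnit_iff_constantCoeff,
      ham i]
    exact not_isUnit_zero
  refine ⟨?_, ?_⟩
  · rw [hJ]
    exact (Ideal.map_mono ha_le).trans (map_maximalIdeal_le_pow p _ _ hp1 hb hd)
  · rw [hJ]
    haveI := isLocalHom_Q p (bPS p k n a) (dPS k n) hp1 hb hd
    haveI := free_Q_PS p k n a
    haveI : Module.Finite (MvPowerSeries (Fin n) k) (Q (fam p (bPS p k n a) (dPS k n))) :=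
      finite_Q _ (fam_monic p hp1 _ _) (fam_natDegree p hp1 _ _) (p_pos p)
    have hres : ∀ x : Q (fam p (bPS p k n a) (dPS k n)), ∃ r : MvPowerSeries (Fin n) k,
        x - algebraMap _ _ r ∈ maximalIdeal (Q (fam p (bPS p k n a) (dPS k n))) := by
      intro x
      rw [hmax]
      exact exists_sub_mem p _ _ x
    have hne : Ideal.span (Set.range a) ≠ ⊤ := by
      intro h
      rw [h] at ha_le
      exact (IsLocalRing.maximalIdeal.isMaximal _).ne_top (top_le_iff.mp ha_le)
    rw [length_quot_map hres _ hne, finrank_Q_PS]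
    push_cast
    rfl

end PS

end Groth.Agent.Lib.LeadAS
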