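import Groth.Agent.Lib.LeadASb
import Mathlib.Order.Extension.Linear
import Mathlib.LinearAlgebra.Matrix.Block

/-!
# `LeadAS`, part o: the top-coefficient Frobenius form on `Q f`
-/

set_option autoImplicit false
set_option maxHeartbeats 400000
set_option linter.style.haveILetI false
set_option linter.unusedSectionVars false
set_option linter.unusedVariables false

universe u

noncomputable section

namespace Groth.Agent.Lib.LeadAS

open Polynomial Module

section DetPO

/-- a matrix that is unitriangular with respect to a partial order has determinant one -/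
theorem det_eq_one_of_partialOrder {E : Type*} [Fintype E] [DecidableEq E] [PartialOrder E]
    {R : Type*} [CommRing R] (M : Matrix E E R) (hdiag : ∀ e, M e e = 1)
    (hle : ∀ e e', M e e' ≠ 0 → e' ≤ e) : M.det = 1 := by
  letI : Fintype (LinearExtension E) := inferInstanceAs (Fintype E)
  letI : DecidableEq (LinearExtension E) := inferInstanceAs (DecidableEq E)
  let M' : Matrix (LinearExtension E) (LinearExtension E) R := M
  have h1 : M'.det = ∏ i, M' i i := by
    apply Matrix.det_of_isLowerTriangular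
    intro i j hij
    by_contra hne
    have hle' : @LE.le E _ j i := hle i j hne
    have h2 : toLinearExtension (α := E) j ≤ toLinearExtension (α := E) i :=
      toLinearExtension.monotone hle'
    have h3 : i < j := OrderDual.toDual_lt_toDual.mp hij
    exact absurd h2 (not_le.mpr h3)
  have h2 : M'.det = M.det := rfl
  rw [← h2, h1]
  exact Finset.prod_eq_one (fun i _ => hdiag i)

end DetPO

section Idx

/-- the top exponent -/
def topE (n : ℕ) {m : ℕ} (hm0 : 0 < m) : Fin n → Fin m := fun _ => ⟨m - 1, by omega⟩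

/-- complementary exponent -/
def barE (n m : ℕ) : (Fin n → Fin m) ≃ (Fin n → Fin m) where
  toFun e := fun i => Fin.rev (e i)
  invFun e := fun i => Fin.rev (e i)
  left_inv e := by funext i; simp
  right_inv e := by funext i; simp

lemma barE_apply_val {n m : ℕ} (e : Fin n → Fin m) (i : Fin n) :
    ((barE n m e i : Fin m) : ℕ) = m - ((e i : ℕ) + 1) := Fin.val_rev _

end Idx

section Frob

variable {R : Type u} [CommRing R] [Nontrivial R] {n m : ℕ} (f : Fin n → R[X])
  (hf : ∀ i, (f i).Monic) (hm : ∀ i, (f i).natDegree = m) (hm0 : 0 < m)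

/-- the top-coefficient form -/
def tauQ : Q f →ₗ[R] R := (basisMon f hf hm hm0).coord (topE n hm0)

lemma prod_aeval_eq (P : Fin n → R[X]) (hP : ∀ i, (P i).natDegree < m) :
    ∏ i, Polynomial.aeval (u f i) (P i) =
      ∑ e : Fin n → Fin m, (∏ i, (P i).coeff (e i : ℕ)) • basisMon f hf hm hm0 e := by
  have h1 : ∀ i, Polynomial.aeval (u f i) (P i) =
      ∑ j : Fin m, algebraMap R (Q f) ((P i).coeff (j : ℕ)) * u f i ^ (j : ℕ) := by
    intro i
    rw [Polynomial.aeval_eq_sum_range' (hP i), Finset.sum_range]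
    apply Finset.sum_congr rfl
    intro j _
    rw [Algebra.smul_def]
  rw [Finset.prod_congr rfl (fun i _ => h1 i), Finset.prod_univ_sum, Fintype.piFinset_univ]
  apply Finset.sum_congr rfl
  intro e _
  rw [Finset.prod_mul_distrib, basisMon_apply, ← map_prod]
  exact (Algebra.smul_def _ _).symm

lemma tauQ_prod_aeval (P : Fin n → R[X]) (hP : ∀ i, (P i).natDegree < m) :
    tauQ f hf hm hm0 (∏ i, Polynomial.aeval (u f i) (P i)) = ∏ i, (P i).coeff (m - 1) := by
  rw [prod_aeval_eq f hf hm hm0 P hP, map_sum, Finset.sum_eq_single (topE n hm0)]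
  · rw [map_smul, tauQ, Basis.coord_apply, Basis.repr_self, Finsupp.single_eq_same, smul_eq_mul,
      mul_one]
    rfl
  · intro e _ hne
    rw [map_smul, tauQ, Basis.coord_apply, Basis.repr_self, Finsupp.single_eq_of_ne hne.symm,
      smul_zero]
  · intro h
    exact absurd (Finset.mem_univ _) h

lemma tauQ_prod_aeval' (P : Fin n → R[X]) :
    tauQ f hf hm hm0 (∏ i, Polynomial.aeval (u f i) (P i)) =
      ∏ i, ((P i) %ₘ (f i)).coeff (m - 1) := by
  have h1 : ∀ i, Polynomial.aeval (u f i) (P i) = Polynomial.aeval (u f i) (P i %ₘ f i) :=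
    fun i => (Polynomial.aeval_modByMonic_eq_self_of_root (aeval_u f i)).symm
  rw [Finset.prod_congr rfl (fun i _ => h1 i)]
  apply tauQ_prod_aeval
  intro i
  have hne : f i ≠ 1 := by
    intro h
    have := hm i
    rw [h, natDegree_one] at this
    omega
  have := natDegree_modByMonic_lt (P i) (hf i) hne
  rw [hm i] at this
  exact this

/-- invariance under translations -/
theorem tauQ_translate (c : Fin n → R) (σ : Q f →ₐ[R] Q f)
    (hσ : ∀ i, σ (u f i) = u f i + algebraMap R (Q f) (c i)) (x : Q f) :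
    tauQ f hf hm hm0 (σ x) = tauQ f hf hm hm0 x := by
  have key : (tauQ f hf hm hm0) ∘ₗ σ.toLinearMap = tauQ f hf hm hm0 := by
    apply (basisMon f hf hm hm0).ext
    intro e
    rw [LinearMap.comp_apply, AlgHom.toLinearMap_apply, basisMon_apply]
    unfold monOf
    rw [map_prod]
    have h1 : ∀ i, σ (u f i ^ (e i : ℕ)) =
        Polynomial.aeval (u f i) ((X + C (c i)) ^ (e i : ℕ)) := by
      intro i
      rw [map_pow, hσ, map_pow, map_add, aeval_X, aeval_C]
    have h2 : ∀ i, u f i ^ (e i : ℕ) = Polynomial.aeval (u f i) (X ^ (e i : ℕ) : R[X]) := by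
      intro i
      rw [map_pow, aeval_X]
    rw [Finset.prod_congr rfl (fun i _ => h1 i), Finset.prod_congr rfl (fun i _ => h2 i),
      tauQ_prod_aeval f hf hm hm0 _ (fun i => by rw [natDegree_pow_X_add_C]; exact (e i).2),
      tauQ_prod_aeval f hf hm hm0 _ (fun i => by rw [natDegree_X_pow]; exact (e i).2)]
    apply Finset.prod_congr rfl
    intro i _
    by_cases hj : (e i : ℕ) = m - 1
    · rw [hj]
      have h3 : ((X + C (c i)) ^ (m - 1)).coeff (m - 1) = 1 := by
        have hmon : ((X + C (c i)) ^ (m - 1)).Monic := (monic_X_add_C (c i)).pow _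
        have := hmon.coeff_natDegree
        rwa [natDegree_pow_X_add_C] at this
      rw [h3, coeff_X_pow, if_pos rfl]
    · have hlt : (e i : ℕ) < m - 1 := by
        have := (e i).2
        omega
      rw [coeff_eq_zero_of_natDegree_lt (by rw [natDegree_pow_X_add_C]; exact hlt),
        coeff_eq_zero_of_natDegree_lt (by rw [natDegree_X_pow]; exact hlt)]
  exact LinearMap.congr_fun key x

lemma tauQ_mul_basis (e e' : Fin n → Fin m) :
    tauQ f hf hm hm0 (basisMon f hf hm hm0 e * basisMon f hf hm hm0 e') =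
      ∏ i, ((X ^ ((e i : ℕ) + (e' i : ℕ)) : R[X]) %ₘ f i).coeff (m - 1) := by
  rw [basisMon_apply, basisMon_apply]
  unfold monOf
  rw [← Finset.prod_mul_distrib]
  have h2 : ∀ i, u f i ^ (e i : ℕ) * u f i ^ (e' i : ℕ) =
      Polynomial.aeval (u f i) (X ^ ((e i : ℕ) + (e' i : ℕ)) : R[X]) := by
    intro i
    rw [map_pow, aeval_X, pow_add]
  rw [Finset.prod_congr rfl (fun i _ => h2 i)]
  exact tauQ_prod_aeval' f hf hm hm0 _

include hf hm in
lemma coeff_X_pow_mod (i : Fin n) (k : ℕ) (hk : k < m) :
    ((X ^ k : R[X]) %ₘ f i).coeff (m - 1) = if k = m - 1 then 1 else 0 := by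
  have h1 : (X ^ k : R[X]) %ₘ f i = X ^ k := by
    rw [modByMonic_eq_self_iff (hf i), degree_X_pow, degree_eq_natDegree (hf i).ne_zero, hm i]
    exact_mod_cast hk
  rw [h1, coeff_X_pow]
  by_cases h : k = m - 1
  · rw [if_pos h, if_pos h.symm]
  · rw [if_neg h, if_neg (fun h' => h h'.symm)]

lemma tauQ_mul_basis_eq_zero (e e' : Fin n → Fin m) (i : Fin n)
    (h : (e i : ℕ) + (e' i : ℕ) < m - 1) :
    tauQ f hf hm hm0 (basisMon f hf hm hm0 e * basisMon f hf hm hm0 e') = 0 := by
  rw [tauQ_mul_basis]
  apply Finset.prod_eq_zero (Finset.mem_univ i)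
  rw [coeff_X_pow_mod f hf hm i _ (by omega), if_neg (by omega)]

lemma tauQ_mul_basis_eq_one (e e' : Fin n → Fin m)
    (h : ∀ i, (e i : ℕ) + (e' i : ℕ) = m - 1) :
    tauQ f hf hm hm0 (basisMon f hf hm hm0 e * basisMon f hf hm hm0 e') = 1 := by
  rw [tauQ_mul_basis]
  apply Finset.prod_eq_one
  intro i _
  rw [coeff_X_pow_mod f hf hm i _ (by rw [h i]; omega), if_pos (h i)]

/-- the Gram matrix against the complementary basis -/
def gramM : Matrix (Fin n → Fin m) (Fin n → Fin m) R :=
  fun e e' => tauQ f hf hm hm0 (basisMon f hf hm hm0 e * basisMon f hf hm hm0 (barE n m e'))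

lemma gramM_det : (gramM f hf hm hm0).det = 1 := by
  apply det_eq_one_of_partialOrder
  · intro e
    apply tauQ_mul_basis_eq_one
    intro i
    rw [barE_apply_val]
    have := (e i).2
    omega
  · intro e e' hne
    by_contra hle
    rw [Pi.le_def, not_forall] at hle
    obtain ⟨i, hi⟩ := hle
    apply hne
    apply tauQ_mul_basis_eq_zero f hf hm hm0 _ _ i
    rw [barE_apply_val]
    have h1 : (e i : ℕ) < (e' i : ℕ) := by
      rw [not_le] at hi
      exact hi
    have := (e' i).2
    omega

lemma gramM_isUnit : IsUnit (gramM f hf hm hm0) := by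
  rw [Matrix.isUnit_iff_isUnit_det, gramM_det]
  exact isUnit_one

lemma tauQ_mul_sum (e : Fin n → Fin m) (c : (Fin n → Fin m) → R) :
    tauQ f hf hm hm0 (basisMon f hf hm hm0 e *
      ∑ e', c e' • basisMon f hf hm hm0 (barE n m e')) =
      (gramM f hf hm hm0).mulVec c e := by
  rw [Finset.mul_sum, map_sum]
  unfold Matrix.mulVec dotProduct
  apply Finset.sum_congr rfl
  intro e' _
  rw [mul_smul_comm, map_smul, smul_eq_mul, mul_comm]
  rfl

theorem tauQ_perfect_surj (ψ : Q f →ₗ[R] R) :
    ∃ y, ∀ x, ψ x = tauQ f hf hm hm0 (x * y) := by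
  obtain ⟨c, hc⟩ := (Matrix.mulVec_surjective_iff_isUnit.mpr (gramM_isUnit f hf hm hm0))
    (fun e => ψ (basisMon f hf hm hm0 e))
  refine ⟨∑ e', c e' • basisMon f hf hm hm0 (barE n m e'), ?_⟩
  intro x
  have key : ψ = (tauQ f hf hm hm0) ∘ₗ
      (LinearMap.mulRight R (∑ e', c e' • basisMon f hf hm hm0 (barE n m e'))) := by
    apply (basisMon f hf hm hm0).ext
    intro e
    rw [LinearMap.comp_apply, LinearMap.mulRight_apply, tauQ_mul_sum, hc]
  rw [key, LinearMap.comp_apply, LinearMap.mulRight_apply]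

theorem tauQ_perfect_inj (y : Q f) (hy : ∀ x, tauQ f hf hm hm0 (x * y) = 0) : y = 0 := by
  set b := basisMon f hf hm hm0 with hb
  have hy' : y = ∑ e', (b.repr y (barE n m e')) • b (barE n m e') := by
    rw [Equiv.sum_comp (barE n m) (fun e'' => b.repr y e'' • b e'')]
    exact (b.sum_repr y).symm
  have h0 : (gramM f hf hm hm0).mulVec (fun e' => b.repr y (barE n m e')) = 0 := by
    funext e
    rw [← tauQ_mul_sum, ← hy', hy]
    rfl
  have h1 : (fun e' => b.repr y (barE n m e')) = 0 := by
    apply Matrix.mulVec_injective_of_isUnit (gramM_isUnit f hf hm hm0)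
    rw [h0, Matrix.mulVec_zero]
  have h2 : b.repr y = 0 := by
    ext e''
    have := congrFun h1 ((barE n m).symm e'')
    simpa using this
  exact b.repr.map_eq_zero_iff.mp h2

end Frob

end Groth.Agent.Lib.LeadAS
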