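import Mathlib

/-!
# `LeadAS`, part p: the skew group ring of an algebra with an invariant Frobenius form is symmetric
-/

set_option autoImplicit false
set_option maxHeartbeats 400000
set_option linter.style.haveILetI false
set_option linter.unusedSectionVars false
set_option linter.unusedVariables false

noncomputable section

namespace Groth.Agent.Lib.LeadAS

section Skew

variable {R : Type*} {A : Type*} {G : Type*} [CommRing R] [CommRing A] [Algebra R A] [Group G]
  [MulSemiringAction G A] [SMulCommClass G R A]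

/-- the form `x ↦ τ (x_1)` on the skew group ring -/
def skewForm (τ : A →ₗ[R] R) : SkewMonoidAlgebra A G →ₗ[R] R :=
  τ ∘ₗ (Finsupp.lapply (1 : G)) ∘ₗ
    (SkewMonoidAlgebra.coeffLinearEquiv : SkewMonoidAlgebra A G ≃ₗ[R] (G →₀ A)).toLinearMap

lemma skewForm_apply (τ : A →ₗ[R] R) (x : SkewMonoidAlgebra A G) :
    skewForm τ x = τ (x.coeff 1) := rfl

theorem skewForm_symm (τ : A →ₗ[R] R) (hinv : ∀ (h : G) (x : A), τ (h • x) = τ x)
    (x y : SkewMonoidAlgebra A G) : skewForm τ (x * y) = skewForm τ (y * x) := by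
  classical
  induction x using SkewMonoidAlgebra.induction_on with
  | zero => simp
  | single g₁ a =>
    induction y using SkewMonoidAlgebra.induction_on with
    | zero => simp
    | single g₂ b =>
      rw [SkewMonoidAlgebra.single_mul_single, SkewMonoidAlgebra.single_mul_single,
        skewForm_apply, skewForm_apply, SkewMonoidAlgebra.coeff_single_apply,
        SkewMonoidAlgebra.coeff_single_apply]
      by_cases h : g₁ * g₂ = 1
      · have h' : g₂ * g₁ = 1 := by
          have := mul_eq_one_iff_eq_inv.mp h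
          rw [this, mul_inv_cancel]
        rw [if_pos h, if_pos h']
        have h2 : b * g₂ • a = g₂ • (a * g₁ • b) := by
          rw [smul_mul', smul_smul, h', one_smul, mul_comm]
        rw [h2, hinv]
      · have h' : ¬ g₂ * g₁ = 1 := by
          intro h'
          apply h
          have := mul_eq_one_iff_eq_inv.mp h'
          rw [this, mul_inv_cancel]
        rw [if_neg h, if_neg h']
    | add y₁ y₂ h₁ h₂ => rw [mul_add, add_mul, map_add, map_add, h₁, h₂]
  | add x₁ x₂ h₁ h₂ => rw [add_mul, mul_add, map_add, map_add, h₁, h₂]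

theorem skewForm_inj (τ : A →ₗ[R] R) (hinj : ∀ y : A, (∀ x, τ (x * y) = 0) → y = 0) :
    Function.Injective (fun y : SkewMonoidAlgebra A G =>
      fun x : SkewMonoidAlgebra A G => skewForm τ (x * y)) := by
  intro y₁ y₂ h
  have h0 : ∀ x, skewForm τ (x * (y₁ - y₂)) = 0 := by
    intro x
    rw [mul_sub, map_sub, sub_eq_zero]
    exact congrFun h x
  rw [← sub_eq_zero]
  apply SkewMonoidAlgebra.ext
  intro g
  have h1 : g⁻¹ • (y₁ - y₂).coeff g = 0 := by
    apply hinj
    intro a
    have := h0 (SkewMonoidAlgebra.single g⁻¹ a)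
    rw [skewForm_apply, SkewMonoidAlgebra.coeff_single_mul, inv_inv, mul_one] at this
    exact this
  have h2 := (smul_eq_zero_iff_eq g⁻¹).mp h1
  rw [h2]
  rfl

theorem skewForm_surj [Finite G] (τ : A →ₗ[R] R)
    (hsurj : ∀ ψ : A →ₗ[R] R, ∃ y, ∀ x, ψ x = τ (x * y))
    (ψ : SkewMonoidAlgebra A G →ₗ[R] R) : ∃ y, ∀ x, ψ x = skewForm τ (x * y) := by
  classical
  choose c hc using fun h : G => hsurj (ψ ∘ₗ SkewMonoidAlgebra.lsingle R h)
  refine ⟨⟨Finsupp.equivFunOnFinite.symm (fun h => h • c h⁻¹)⟩, ?_⟩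
  intro x
  induction x using SkewMonoidAlgebra.induction_on with
  | zero => simp
  | single g a =>
    rw [skewForm_apply, SkewMonoidAlgebra.coeff_single_mul, mul_one]
    have h1 : (⟨Finsupp.equivFunOnFinite.symm (fun h => h • c h⁻¹)⟩ :
        SkewMonoidAlgebra A G).coeff g⁻¹ = g⁻¹ • c g := by
      simp
    rw [h1, smul_inv_smul]
    exact hc g a
  | add x₁ x₂ h₁ h₂ => rw [map_add, add_mul, map_add, h₁, h₂]

theorem skew_symmetric [Finite G] (τ : A →ₗ[R] R) (hinv : ∀ (h : G) (x : A), τ (h • x) = τ x)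
    (hinj : ∀ y : A, (∀ x, τ (x * y) = 0) → y = 0)
    (hsurj : ∀ ψ : A →ₗ[R] R, ∃ y, ∀ x, ψ x = τ (x * y)) :
    ∃ φ : SkewMonoidAlgebra A G →ₗ[R] R,
      (∀ x y : SkewMonoidAlgebra A G, φ (x * y) = φ (y * x)) ∧
      Function.Injective (fun y : SkewMonoidAlgebra A G =>
        fun x : SkewMonoidAlgebra A G => φ (x * y)) ∧
      ∀ ψ : SkewMonoidAlgebra A G →ₗ[R] R, ∃ y : SkewMonoidAlgebra A G, ∀ x, ψ x = φ (x * y) :=
  ⟨skewForm τ, skewForm_symm τ hinv, skewForm_inj τ hinj, skewForm_surj τ hsurj⟩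

end Skew

end Groth.Agent.Lib.LeadAS
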