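import Groth.Agent.Lib.LeadASg
import Groth.Agent.Lib.LeadASo
import Groth.Agent.Lib.LeadASp

/-!
# `LeadAS`, part q: the skew group ring of the Artin–Schreier family is a symmetric algebra
-/

set_option autoImplicit false
set_option maxHeartbeats 400000
set_option linter.style.haveILetI false
set_option linter.unusedSectionVars false
set_option linter.unusedVariables false

universe u

noncomputable section

namespace Groth.Agent.Lib.LeadAS

open Polynomial Module

section SkewPS

variable (p : ℕ) [hp : Fact p.Prime] (k : Type u) [Field k] [CharP k p] (n : ℕ)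
  (a : Fin n → MvPowerSeries (Fin n) k)

theorem skew_symmetric_PS {G : Type*} [Group G] [Finite G]
    [MulSemiringAction G (Q (fam p (bPS p k n a) (dPS k n)))]
    [SMulCommClass G (MvPowerSeries (Fin n) k) (Q (fam p (bPS p k n a) (dPS k n)))]
    (g : G) (hgen : ∀ h : G, h ∈ Subgroup.zpowers g)
    (hg : ∀ i, g • u (fam p (bPS p k n a) (dPS k n)) i =
      u (fam p (bPS p k n a) (dPS k n)) i +
        algebraMap (MvPowerSeries (Fin n) k) (Q (fam p (bPS p k n a) (dPS k n))) (a i)) :
    ∃ φ : SkewMonoidAlgebra (Q (fam p (bPS p k n a) (dPS k n))) G →ₗ[MvPowerSeries (Fin n) k]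
        MvPowerSeries (Fin n) k,
      (∀ x y : SkewMonoidAlgebra (Q (fam p (bPS p k n a) (dPS k n))) G, φ (x * y) = φ (y * x)) ∧
      Function.Injective (fun y : SkewMonoidAlgebra (Q (fam p (bPS p k n a) (dPS k n))) G =>
        fun x : SkewMonoidAlgebra (Q (fam p (bPS p k n a) (dPS k n))) G => φ (x * y)) ∧
      ∀ ψ : SkewMonoidAlgebra (Q (fam p (bPS p k n a) (dPS k n))) G →ₗ[MvPowerSeries (Fin n) k]
          MvPowerSeries (Fin n) k,
        ∃ y : SkewMonoidAlgebra (Q (fam p (bPS p k n a) (dPS k n))) G, ∀ x, ψ x = φ (x * y) := by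
  haveI := nontrivial_R (MvPowerSeries (Fin n) k) p
  have hf := fam_monic p (one_lt_p p) (bPS p k n a) (dPS k n)
  have hm := fam_natDegree p (one_lt_p p) (bPS p k n a) (dPS k n)
  have hg' : ∀ x, tauQ _ hf hm (p_pos p) (g • x) = tauQ _ hf hm (p_pos p) x := fun x =>
    tauQ_translate _ hf hm (p_pos p) a
      (MulSemiringAction.toAlgHom (MvPowerSeries (Fin n) k) _ g) (fun i => hg i) x
  have hinv : ∀ (h : G) x, tauQ _ hf hm (p_pos p) (h • x) = tauQ _ hf hm (p_pos p) x := by
    let S : Subgroup G :=
      { carrier := {h | ∀ x, tauQ _ hf hm (p_pos p) (h • x) = tauQ _ hf hm (p_pos p) x}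
        mul_mem' := by
          intro h₁ h₂ H₁ H₂ x
          rw [mul_smul, H₁, H₂]
        one_mem' := by
          intro x
          rw [one_smul]
        inv_mem' := by
          intro h H x
          have := H (h⁻¹ • x)
          rw [smul_inv_smul] at this
          exact this.symm }
    have hle : Subgroup.zpowers g ≤ S := Subgroup.zpowers_le.mpr hg'
    intro h x
    exact hle (hgen h) x
  exact skew_symmetric _ hinv (tauQ_perfect_inj _ hf hm (p_pos p))
    (tauQ_perfect_surj _ hf hm (p_pos p))

end SkewPS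

end Groth.Agent.Lib.LeadAS
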