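import Groth.Agent.Lib.LeadASb

/-!
# `LeadAS`, part r: monomial coordinates of reduced polynomials; a divisibility lemma in a UFD
-/

set_option autoImplicit false
set_option maxHeartbeats 400000
set_option linter.style.haveILetI false
set_option linter.unusedSectionVars false
set_option linter.unusedVariables false

universe u

noncomputable section

namespace Groth.Agent.Lib.LeadAS

open Polynomial Module

section Coord

variable {R : Type u} [CommRing R] [Nontrivial R] {n m : ℕ}

/-- an exponent vector as a finitely supported function -/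
def fsOf (e : Fin n → Fin m) : Fin n →₀ ℕ := Finsupp.equivFunOnFinite.symm (fun i => (e i : ℕ))

@[simp] lemma fsOf_apply (e : Fin n → Fin m) (i : Fin n) : fsOf e i = (e i : ℕ) := rfl

lemma mk_monomial (f : Fin n → R[X]) (d : Fin n →₀ ℕ) (c : R) :
    Ideal.Quotient.mk (I f) (MvPolynomial.monomial d c) =
      algebraMap R (Q f) c * ∏ i, u f i ^ d i := by
  rw [MvPolynomial.monomial_eq, map_mul, Finsupp.prod_fintype _ _ (fun i => pow_zero _), map_prod]
  congr 1

/-- the monomial coordinates of the class of a polynomial all of whose exponents are `< m` are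
its coefficients. -/
theorem repr_mk_of_reduced (f : Fin n → R[X]) (hf : ∀ i, (f i).Monic)
    (hm : ∀ i, (f i).natDegree = m) (hm0 : 0 < m) (P : MvPolynomial (Fin n) R)
    (hP : ∀ d ∈ P.support, ∀ i, d i < m) (e : Fin n → Fin m) :
    (basisMon f hf hm hm0).repr (Ideal.Quotient.mk (I f) P) e = P.coeff (fsOf e) := by
  have hterm : ∀ d ∈ P.support,
      (basisMon f hf hm hm0).repr
        (Ideal.Quotient.mk (I f) (MvPolynomial.monomial d (P.coeff d))) e =
        if d = fsOf e then P.coeff d else 0 := by
    intro d hd
    have h1 : Ideal.Quotient.mk (I f) (MvPolynomial.monomial d (P.coeff d)) =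
        P.coeff d • basisMon f hf hm hm0 (fun i => ⟨d i, hP d hd i⟩) := by
      have h2 : P.coeff d • monOf (u f) m (fun i => (⟨d i, hP d hd i⟩ : Fin m)) =
          algebraMap R (Q f) (P.coeff d) * monOf (u f) m (fun i => (⟨d i, hP d hd i⟩ : Fin m)) :=
        Algebra.smul_def (P.coeff d) (monOf (u f) m (fun i => (⟨d i, hP d hd i⟩ : Fin m)))
      rw [basisMon_apply, mk_monomial, h2]
      rfl
    rw [h1, map_smul, Basis.repr_self, Finsupp.smul_apply, Finsupp.single_apply, smul_eq_mul,
      mul_ite, mul_one, mul_zero]
    congr 1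
    apply propext
    constructor
    · intro h
      ext i
      rw [← h]
      rfl
    · intro h
      funext i
      apply Fin.ext
      change d i = (e i : ℕ)
      rw [h]
      rfl
  conv_lhs => rw [P.as_sum]
  rw [map_sum, map_sum, Finsupp.finsetSum_apply, Finset.sum_congr rfl hterm, Finset.sum_ite_eq']
  split_ifs with h
  · rfl
  · exact (MvPolynomial.notMem_support_iff.mp h).symm

/-- set all variables but the `i`-th to zero. -/
def evAt (i : Fin n) : MvPolynomial (Fin n) R →ₐ[R] R[X] :=
  MvPolynomial.aeval (fun i' => if i' = i then Polynomial.X else 0)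

lemma evAt_X (i i' : Fin n) :
    evAt (R := R) i (MvPolynomial.X i') = if i' = i then Polynomial.X else 0 := by
  unfold evAt
  rw [MvPolynomial.aeval_X]

lemma coeff_evAt (i : Fin n) (P : MvPolynomial (Fin n) R) (j : ℕ) :
    (evAt i P).coeff j = P.coeff (Finsupp.single i j) := by
  induction P using MvPolynomial.induction_on' with
  | monomial d c =>
    unfold evAt
    rw [MvPolynomial.aeval_monomial, Finsupp.prod_fintype _ _ (fun i => pow_zero _),
      MvPolynomial.coeff_monomial]
    by_cases hd : ∀ i', i' ≠ i → d i' = 0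
    · have hprod : ∏ i', (if i' = i then (Polynomial.X : R[X]) else 0) ^ d i' =
          Polynomial.X ^ d i := by
        rw [Finset.prod_eq_single i]
        · rw [if_pos rfl]
        · intro i' _ hi'
          rw [hd i' hi', pow_zero]
        · intro h
          exact absurd (Finset.mem_univ i) h
      rw [hprod, Polynomial.algebraMap_eq, Polynomial.coeff_C_mul, Polynomial.coeff_X_pow]
      by_cases hj : j = d i
      · rw [if_pos hj, mul_one, if_pos]
        ext i'
        by_cases hi' : i' = i
        · rw [hi', Finsupp.single_eq_same, hj]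
        · rw [Finsupp.single_eq_of_ne hi', hd i' hi']
      · rw [if_neg hj, mul_zero, if_neg]
        intro h
        apply hj
        rw [h, Finsupp.single_eq_same]
    · push Not at hd
      obtain ⟨i', hi', hdi'⟩ := hd
      have hprod : ∏ i', (if i' = i then (Polynomial.X : R[X]) else 0) ^ d i' = 0 := by
        apply Finset.prod_eq_zero (Finset.mem_univ i')
        rw [if_neg hi', zero_pow hdi']
      rw [hprod, mul_zero, Polynomial.coeff_zero, if_neg]
      intro h
      apply hdi'
      rw [h, Finsupp.single_eq_of_ne hi']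
  | add P Q hP hQ =>
    rw [map_add, Polynomial.coeff_add, MvPolynomial.coeff_add, hP, hQ]

end Coord

section UFD

/-- in a UFD, if `D` divides `r * γ i ^ j` for all `i` and no prime divides all `γ i`, then `D`
divides `r`. -/
theorem dvd_of_forall_dvd_mul_pow {R : Type*} [CommRing R] [IsDomain R]
    [UniqueFactorizationMonoid R] {ι : Type*} (γ : ι → R)
    (hcop : ∀ π : R, Prime π → ∃ i, ¬ π ∣ γ i) (j : ℕ) (D : R) :
    D ≠ 0 → ∀ r : R, (∀ i, D ∣ r * γ i ^ j) → D ∣ r := by
  induction D using UniqueFactorizationMonoid.induction_on_prime with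
  | h₁ => intro h; exact absurd rfl h
  | h₂ x hx => intro _ r _; exact hx.dvd
  | h₃ D' π hD' hπ ih =>
    intro _ r hr
    have h1 : D' ∣ r := ih hD' r (fun i => (Dvd.intro_left π rfl).trans (hr i))
    obtain ⟨r', rfl⟩ := h1
    obtain ⟨i, hi⟩ := hcop π hπ
    have h2 : π ∣ r' * γ i ^ j := by
      have h3 := hr i
      rw [mul_comm π D', mul_assoc] at h3
      exact (mul_dvd_mul_iff_left hD').mp h3
    rcases hπ.dvd_or_dvd h2 with h4 | h4
    · rw [mul_comm π D']
      exact mul_dvd_mul_left D' h4
    · exact absurd (hπ.dvd_of_dvd_pow h4) hi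

end UFD

end Groth.Agent.Lib.LeadAS
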