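import Groth.Agent.Lib.LeadASr
import Groth.Agent.Lib.LeadASh
import Groth.Agent.Lib.LeadASe

/-!
# `LeadAS`, part s: the invariants of the subgroup orthogonal to a vector
-/

set_option autoImplicit false
set_option maxHeartbeats 400000
set_option linter.style.haveILetI false
set_option linter.unusedSectionVars false
set_option linter.unusedVariables false

universe u

noncomputable section

namespace Groth.Agent.Lib.LeadAS

open Polynomial Module

section Orth

variable {R : Type u} [CommRing R] [IsDomain R] (p : ℕ) [hp : Fact p.Prime] [CharP R p] {n : ℕ}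
variable (a d : Fin n → R) (γ : Fin n → R) (s : Fin n → ZMod p) (β : R)

/-- the element `z = Σ γ_i u_i` -/
def zS : QA p a d := ∑ i, algebraMap R (QA p a d) (γ i) * u _ i

lemma E_zS (hγ : ∀ i, γ i * a i = zc p (s i) * β) (ν : Fin n → ZMod p) :
    E p a d ν (zS p a d γ) =
      zS p a d γ + algebraMap R (QA p a d) (zc p (∑ i, ν i * s i) * β) := by
  unfold zS
  rw [map_sum]
  have h1 : ∀ i, E p a d ν (algebraMap R (QA p a d) (γ i) * u _ i) =
      algebraMap R (QA p a d) (γ i) * u _ i +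
        algebraMap R (QA p a d) (zc p (ν i * s i) * β) := by
    intro i
    rw [map_mul, AlgEquiv.commutes, E_apply, translE_u, mul_add, ← map_mul]
    congr 2
    rw [map_mul]
    calc γ i * (zc p (ν i) * a i) = zc p (ν i) * (γ i * a i) := by ring
      _ = zc p (ν i) * (zc p (s i) * β) := by rw [hγ i]
      _ = zc p (ν i) * zc p (s i) * β := by ring
  rw [Finset.sum_congr rfl (fun i _ => h1 i), Finset.sum_add_distrib, ← map_sum, map_sum (zc p),
    Finset.sum_mul]

lemma key_pow (ha : ∀ i, a i ≠ 0) (hγ : ∀ i, γ i * a i = zc p (s i) * β) (i : Fin n) :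
    γ i ^ p * a i ^ (p - 1) = β ^ (p - 1) * γ i := by
  have h1 : γ i ^ p = γ i ^ (p - 1) * γ i := by
    rw [← pow_succ, Nat.sub_add_cancel (one_lt_p p).le]
  rw [h1, mul_right_comm, ← mul_pow, hγ i, mul_pow]
  by_cases hs0 : s i = 0
  · have h2 : γ i = 0 := by
      have h3 := hγ i
      rw [hs0, map_zero, zero_mul] at h3
      exact (mul_eq_zero.mp h3).resolve_right (ha i)
    rw [h2, mul_zero, mul_zero]
  · rw [← map_pow, ZMod.pow_card_sub_one_eq_one hs0, map_one, one_mul]

lemma zS_pow (ha : ∀ i, a i ≠ 0) (hγ : ∀ i, γ i * a i = zc p (s i) * β) :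
    zS p a d γ ^ p = algebraMap R (QA p a d) (β ^ (p - 1)) * zS p a d γ +
      algebraMap R (QA p a d) (∑ i, γ i ^ p * d i) := by
  haveI : CharP (QA p a d) p := charP_Q p _ d
  unfold zS
  rw [sum_pow_char, Finset.mul_sum, map_sum, ← Finset.sum_add_distrib]
  apply Finset.sum_congr rfl
  intro i _
  rw [mul_pow, u_pow, ← map_pow, mul_add, ← mul_assoc, ← map_mul, key_pow p a γ s β ha hγ i]
  simp only [map_mul]
  ring

lemma aeval_zS_fAS (ha : ∀ i, a i ≠ 0) (hγ : ∀ i, γ i * a i = zc p (s i) * β) :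
    Polynomial.aeval (zS p a d γ) (fAS p (β ^ (p - 1)) (∑ i, γ i ^ p * d i)) = 0 := by
  rw [aeval_fAS, zS_pow p a d γ s β ha hγ]
  ring

lemma exists_dual (hs : s ≠ 0) : ∃ ν₀ : Fin n → ZMod p, ∑ i, ν₀ i * s i = 1 := by
  have : ∃ i₀, s i₀ ≠ 0 := by
    by_contra hcon
    push Not at hcon
    exact hs (funext hcon)
  obtain ⟨i₀, hi₀⟩ := this
  refine ⟨Pi.single i₀ (s i₀)⁻¹, ?_⟩
  rw [Finset.sum_eq_single i₀]
  · rw [Pi.single_eq_same, inv_mul_cancel₀ hi₀]
  · intro i _ hi
    rw [Pi.single_eq_of_ne hi, zero_mul]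
  · intro h
    exact absurd (Finset.mem_univ i₀) h

/-- polynomials of degree `< p` over `R` vanishing at `z` are zero. -/
lemma eq_zero_of_aeval_zS_eq_zero [IsDomain (QA p a d)]
    (hγ : ∀ i, γ i * a i = zc p (s i) * β) (hβ : β ≠ 0) (hs : s ≠ 0)
    (r : R[X]) (hdeg : r.natDegree < p) (hr : Polynomial.aeval (zS p a d γ) r = 0) : r = 0 := by
  haveI : CharP (QA p a d) p := charP_Q p _ d
  obtain ⟨ν₀, hν₀⟩ := exists_dual p s hs
  have hinj := algebraMap_injective_fam p (fun j => a j ^ (p - 1)) d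
  have hF := eq_zero_of_eval_eq_zero_of_fixed p
    ((E p a d ν₀ : QA p a d ≃ₐ[R] QA p a d) : QA p a d →+* QA p a d)
    (zS p a d γ) (algebraMap R (QA p a d) β)
    (by
      intro h0
      apply hβ
      apply hinj
      rw [h0, map_zero])
    (by
      have := E_zS p a d γ s β hγ ν₀
      rw [hν₀, map_one, one_mul] at this
      exact this)
    (AlgEquiv.commutes (E p a d ν₀) β)
    (r.map (algebraMap R (QA p a d)))
    (by
      rw [Polynomial.map_map]
      congr 1
      apply RingHom.ext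
      intro x
      exact AlgEquiv.commutes (E p a d ν₀) x)
    (lt_of_le_of_lt natDegree_map_le hdeg)
    (by rw [eval_map_algebraMap]; exact hr)
  exact Polynomial.map_injective _ hinj (hF.trans (Polynomial.map_zero _).symm)

theorem ker_aeval_zS [IsDomain (QA p a d)] (ha : ∀ i, a i ≠ 0)
    (hγ : ∀ i, γ i * a i = zc p (s i) * β) (hβ : β ≠ 0) (hs : s ≠ 0) :
    RingHom.ker (Polynomial.aeval (zS p a d γ) : R[X] →ₐ[R] QA p a d) =
      Ideal.span {fAS p (β ^ (p - 1)) (∑ i, γ i ^ p * d i)} := by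
  haveI := nontrivial_R R p
  have hmonic := fAS_monic p (one_lt_p p) (β ^ (p - 1)) (∑ i, γ i ^ p * d i)
  have hnd := fAS_natDegree p (one_lt_p p) (β ^ (p - 1)) (∑ i, γ i ^ p * d i)
  apply le_antisymm
  · intro g hg
    rw [RingHom.mem_ker] at hg
    have hdiv := Polynomial.modByMonic_add_div g (fAS p (β ^ (p - 1)) (∑ i, γ i ^ p * d i))
    have hr : Polynomial.aeval (zS p a d γ)
        (g %ₘ fAS p (β ^ (p - 1)) (∑ i, γ i ^ p * d i)) = 0 := by
      have h1 := congrArg (Polynomial.aeval (zS p a d γ)) hdiv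
      rw [map_add, map_mul, aeval_zS_fAS p a d γ s β ha hγ, zero_mul, add_zero] at h1
      rw [h1]
      exact hg
    have hdeg : (g %ₘ fAS p (β ^ (p - 1)) (∑ i, γ i ^ p * d i)).natDegree < p := by
      have := Polynomial.natDegree_modByMonic_lt g hmonic (by
        intro h1
        have h2 := congrArg Polynomial.natDegree h1
        rw [hnd, natDegree_one] at h2
        exact absurd h2 (p_pos p).ne')
      rwa [hnd] at this
    have h0 := eq_zero_of_aeval_zS_eq_zero p a d γ s β hγ hβ hs _ hdeg hr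
    rw [h0, zero_add] at hdiv
    rw [Ideal.mem_span_singleton]
    exact ⟨_, hdiv.symm⟩
  · rw [Ideal.span_le]
    intro g hg
    rw [Set.mem_singleton_iff] at hg
    rw [hg]
    exact aeval_zS_fAS p a d γ s β ha hγ

end Orth

end Groth.Agent.Lib.LeadAS
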