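import Groth.Agent.Lib.LeadASs

/-!
# `LeadAS`, part t: Lagrange interpolation over the invariants of the orthogonal subgroup
-/

set_option autoImplicit false
set_option maxHeartbeats 400000
set_option linter.style.haveILetI false
set_option linter.unusedSectionVars false
set_option linter.unusedVariables false

universe u

noncomputable section

namespace Groth.Agent.Lib.LeadAS

open Polynomial Module

section Interp

variable {R : Type u} [CommRing R] [IsDomain R] (p : ℕ) [hp : Fact p.Prime] [CharP R p] {n : ℕ}
variable (a d : Fin n → R) (γ : Fin n → R) (s : Fin n → ZMod p) (β : R)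

/-- an element fixed by the subgroup orthogonal to `s` becomes a polynomial in `z` after
multiplication by a nonzero element of `R`. -/
theorem exists_mul_eq_aeval (ha : ∀ i, a i ≠ 0)
    (hγ : ∀ i, γ i * a i = zc p (s i) * β) (hβ : β ≠ 0) (hs : s ≠ 0) (t : QA p a d)
    (ht : ∀ ν : Fin n → ZMod p, ∑ i, ν i * s i = 0 → E p a d ν t = t) :
    ∃ (D : R) (F₀ : R[X]), D ≠ 0 ∧
      Polynomial.aeval (zS p a d γ) F₀ = algebraMap R (QA p a d) D * t := by
  classical
  obtain ⟨ν₀, hν₀⟩ := exists_dual p s hs
  set z := zS p a d γ with hz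
  let tm : ZMod p → QA p a d := fun m => E p a d (m • ν₀) t
  let zm : ZMod p → QA p a d := fun m => z + algebraMap R (QA p a d) (zc p m * β)
  let g : ZMod p → (QA p a d)[X] := fun m =>
    C (tm m) * ∏ m' : ZMod p, (if m' = m then 1 else X - C (zm m'))
  let F : (QA p a d)[X] := ∑ m : ZMod p, g m
  have hdot : ∀ (m : ZMod p), ∑ i, (m • ν₀) i * s i = m := by
    intro m
    simp only [Pi.smul_apply, smul_eq_mul, mul_assoc]
    rw [← Finset.mul_sum, hν₀, mul_one]
  have htm : ∀ (ν : Fin n → ZMod p) (m : ZMod p),
      E p a d ν (tm m) = tm (m + ∑ i, ν i * s i) := by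
    intro ν m
    set c := ∑ i, ν i * s i with hc
    change E p a d ν (E p a d (m • ν₀) t) = E p a d ((m + c) • ν₀) t
    have h1 : E p a d (ν - c • ν₀) t = t := by
      apply ht
      simp only [Pi.sub_apply, sub_mul, Finset.sum_sub_distrib]
      rw [hdot c, ← hc, sub_self]
    have h2 : E p a d ν (E p a d (m • ν₀) t) = (E p a d ν * E p a d (m • ν₀)) t := rfl
    have h3 : E p a d ((m + c) • ν₀) t =
        (E p a d ((m + c) • ν₀) * E p a d (ν - c • ν₀)) t := by
      rw [AlgEquiv.mul_apply, h1]
    rw [h2, h3, E_mul, E_mul]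
    congr 2
    rw [add_smul]
    abel
  have hzm : ∀ (ν : Fin n → ZMod p) (m' : ZMod p),
      E p a d ν (zm m') = zm (m' + ∑ i, ν i * s i) := by
    intro ν m'
    change E p a d ν (z + algebraMap R (QA p a d) (zc p m' * β)) =
      z + algebraMap R (QA p a d) (zc p (m' + ∑ i, ν i * s i) * β)
    rw [map_add, AlgEquiv.commutes, hz, E_zS p a d γ s β hγ ν, map_add (zc p), add_mul, map_add]
    ring
  have hFinv : ∀ ν : Fin n → ZMod p,
      F.map ((E p a d ν : QA p a d ≃ₐ[R] QA p a d) : QA p a d →+* QA p a d) = F := by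
    intro ν
    set c := ∑ i, ν i * s i with hc
    have hg : ∀ m, (g m).map ((E p a d ν : QA p a d ≃ₐ[R] QA p a d) : QA p a d →+* QA p a d) =
        g (m + c) := by
      intro m
      change (C (tm m) * ∏ m' : ZMod p, (if m' = m then 1 else X - C (zm m'))).map _ =
        C (tm (m + c)) * ∏ m' : ZMod p, (if m' = m + c then 1 else X - C (zm m'))
      rw [Polynomial.map_mul, Polynomial.map_C, Polynomial.map_prod]
      have h1 : ((E p a d ν : QA p a d ≃ₐ[R] QA p a d) : QA p a d →+* QA p a d) (tm m) =
          tm (m + c) := htm ν m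
      rw [h1]
      congr 1
      apply Fintype.prod_equiv (Equiv.addRight c)
      intro m'
      change Polynomial.map _ (if m' = m then 1 else X - C (zm m')) =
        if m' + c = m + c then 1 else X - C (zm (m' + c))
      by_cases hm' : m' = m
      · rw [if_pos hm', if_pos (by rw [hm']), Polynomial.map_one]
      · rw [if_neg hm', if_neg (fun h => hm' (add_right_cancel h)), Polynomial.map_sub,
          Polynomial.map_X, Polynomial.map_C]
        congr 2
        exact hzm ν m'
    change (∑ m : ZMod p, g m).map _ = ∑ m : ZMod p, g m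
    rw [Polynomial.map_sum, Finset.sum_congr rfl (fun m _ => hg m)]
    exact Fintype.sum_equiv (Equiv.addRight c) _ _ (fun _ => rfl)
  have hcoef : ∀ j, F.coeff j ∈ Set.range (algebraMap R (QA p a d)) := by
    intro j
    apply fixed_mem_range p n a d ha (F.coeff j)
    intro i
    rw [sig_eq_translE]
    have h1 := congrArg (fun G : (QA p a d)[X] => G.coeff j) (hFinv (Pi.single i 1))
    simp only [Polynomial.coeff_map] at h1
    exact h1
  have hlift : F ∈ Polynomial.lifts (algebraMap R (QA p a d)) :=
    (Polynomial.lifts_iff_coeff_lifts F).mpr hcoef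
  obtain ⟨F₀, hF₀⟩ := (Polynomial.mem_lifts F).mp hlift
  -- evaluation at `z`
  let D : R := ∏ m' : ZMod p, (if m' = 0 then 1 else -(zc p m' * β))
  have hD : D ≠ 0 := by
    rw [Finset.prod_ne_zero_iff]
    intro m' _
    by_cases hm' : m' = 0
    · rw [if_pos hm']; exact one_ne_zero
    · rw [if_neg hm', neg_ne_zero]
      apply mul_ne_zero _ hβ
      intro h0
      apply hm'
      apply zc_injective p (R := R)
      rw [h0, map_zero]
  have hg0 : (g 0).eval z = algebraMap R (QA p a d) D * t := by
    change (C (tm 0) * ∏ m' : ZMod p, (if m' = 0 then 1 else X - C (zm m'))).eval z = _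
    rw [eval_mul, eval_C, eval_prod]
    have h1 : tm 0 = t := by
      change E p a d ((0 : ZMod p) • ν₀) t = t
      rw [zero_smul, E_zero, AlgEquiv.one_apply]
    rw [h1, mul_comm]
    congr 1
    change _ = algebraMap R (QA p a d) (∏ m' : ZMod p, (if m' = 0 then 1 else -(zc p m' * β)))
    rw [map_prod]
    apply Finset.prod_congr rfl
    intro m' _
    by_cases hm' : m' = 0
    · rw [if_pos hm', if_pos hm', eval_one, map_one]
    · rw [if_neg hm', if_neg hm', eval_sub, eval_X, eval_C, map_neg]
      change z - (z + algebraMap R (QA p a d) (zc p m' * β)) = _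
      ring
  have hgm : ∀ m : ZMod p, m ≠ 0 → (g m).eval z = 0 := by
    intro m hm
    change (C (tm m) * ∏ m' : ZMod p, (if m' = m then 1 else X - C (zm m'))).eval z = 0
    rw [eval_mul, eval_prod]
    have h1 : ∏ m' : ZMod p, eval z (if m' = m then 1 else X - C (zm m')) = 0 := by
      apply Finset.prod_eq_zero (Finset.mem_univ (0 : ZMod p))
      rw [if_neg (fun h => hm h.symm), eval_sub, eval_X, eval_C]
      change z - (z + algebraMap R (QA p a d) (zc p 0 * β)) = 0
      rw [map_zero, zero_mul, map_zero, add_zero, sub_self]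
    rw [h1, mul_zero]
  refine ⟨D, F₀, hD, ?_⟩
  rw [← eval_map_algebraMap, hF₀]
  change (∑ m : ZMod p, g m).eval z = _
  rw [eval_finsetSum, Finset.sum_eq_single (0 : ZMod p) (fun m _ hm => hgm m hm)
    (fun h => absurd (Finset.mem_univ _) h), hg0]

end Interp

end Groth.Agent.Lib.LeadAS
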