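import Groth.Agent.Lib.LeadASt

/-!
# `LeadAS`, part u: saturation of `R[z]` in the Artin–Schreier family ring
-/

set_option autoImplicit false
set_option maxHeartbeats 400000
set_option linter.style.haveILetI false
set_option linter.unusedSectionVars false
set_option linter.unusedVariables false

universe u

noncomputable section

namespace Groth.Agent.Lib.LeadAS

open Polynomial Module

section Sat

variable {R : Type u} [CommRing R] [IsDomain R] (p : ℕ) [hp : Fact p.Prime] [CharP R p] {n : ℕ}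
variable (a d : Fin n → R) (γ : Fin n → R) (s : Fin n → ZMod p) (β : R)

/-- the linear form lifting `z`. -/
def Zlin : MvPolynomial (Fin n) R := ∑ i, MvPolynomial.C (γ i) * MvPolynomial.X i

lemma totalDegree_Zlin_le : (Zlin γ).totalDegree ≤ 1 := by
  unfold Zlin
  apply MvPolynomial.totalDegree_finsetSum_le
  intro i _
  calc (MvPolynomial.C (γ i) * MvPolynomial.X i : MvPolynomial (Fin n) R).totalDegree
      ≤ (MvPolynomial.C (γ i) : MvPolynomial (Fin n) R).totalDegree +
        (MvPolynomial.X i : MvPolynomial (Fin n) R).totalDegree := MvPolynomial.totalDegree_mul _ _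
    _ = 1 := by rw [MvPolynomial.totalDegree_C, MvPolynomial.totalDegree_X, zero_add]

lemma totalDegree_aeval_Zlin_le (F : R[X]) :
    (Polynomial.aeval (Zlin γ) F).totalDegree ≤ F.natDegree := by
  rw [Polynomial.aeval_eq_sum_range]
  apply MvPolynomial.totalDegree_finsetSum_le
  intro j hj
  rw [Finset.mem_range] at hj
  calc (F.coeff j • Zlin γ ^ j).totalDegree ≤ (Zlin γ ^ j).totalDegree :=
        MvPolynomial.totalDegree_smul_le _ _
    _ ≤ j * (Zlin γ).totalDegree := MvPolynomial.totalDegree_pow _ _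
    _ ≤ j * 1 := Nat.mul_le_mul_left _ (totalDegree_Zlin_le γ)
    _ ≤ F.natDegree := by omega

lemma evAt_Zlin (i : Fin n) :
    evAt i (Zlin γ) = Polynomial.C (γ i) * Polynomial.X := by
  unfold Zlin
  rw [map_sum, Finset.sum_eq_single i]
  · rw [map_mul, evAt_X, if_pos rfl]
    congr 1
    unfold evAt
    rw [MvPolynomial.aeval_C]
    rfl
  · intro i' _ hi'
    rw [map_mul, evAt_X, if_neg hi', mul_zero]
  · intro h
    exact absurd (Finset.mem_univ i) h

lemma coeff_aeval_Zlin (F : R[X]) (i : Fin n) (j : ℕ) :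
    (Polynomial.aeval (Zlin γ) F).coeff (Finsupp.single i j) = F.coeff j * γ i ^ j := by
  rw [← coeff_evAt, ← Polynomial.aeval_algHom_apply, evAt_Zlin]
  have h1 : Polynomial.aeval (Polynomial.C (γ i) * Polynomial.X : R[X]) F =
      F.comp (Polynomial.C (γ i) * Polynomial.X) := rfl
  rw [h1, Polynomial.comp_C_mul_X_coeff]

lemma mk_Zlin :
    Ideal.Quotient.mk (I (fam p (fun j => a j ^ (p - 1)) d)) (Zlin γ) = zS p a d γ := by
  unfold Zlin zS
  rw [map_sum]
  apply Finset.sum_congr rfl
  intro i _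
  rw [map_mul]
  rfl

lemma mk_aeval_Zlin (F : R[X]) :
    Ideal.Quotient.mk (I (fam p (fun j => a j ^ (p - 1)) d)) (Polynomial.aeval (Zlin γ) F) =
      Polynomial.aeval (zS p a d γ) F := by
  rw [← mk_Zlin p a d γ]
  exact (Polynomial.aeval_algHom_apply
    (Ideal.Quotient.mkₐ R (I (fam p (fun j => a j ^ (p - 1)) d))) (Zlin γ) F).symm

/-- `R[z]` is saturated: if `D t` is a polynomial in `z` with `D ≠ 0` then so is `t`. -/
theorem mem_range_of_mul_eq_aeval [UniqueFactorizationMonoid R] [IsDomain (QA p a d)]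
    (ha : ∀ i, a i ≠ 0) (hγ : ∀ i, γ i * a i = zc p (s i) * β)
    (hcop : ∀ π : R, Prime π → ∃ i, ¬ π ∣ γ i)
    (D : R) (hD : D ≠ 0) (F₀ : R[X]) (t : QA p a d)
    (h : Polynomial.aeval (zS p a d γ) F₀ = algebraMap R (QA p a d) D * t) :
    t ∈ (Polynomial.aeval (zS p a d γ) : R[X] →ₐ[R] QA p a d).range := by
  haveI := nontrivial_R R p
  have hmonic := fAS_monic p (one_lt_p p) (β ^ (p - 1)) (∑ i, γ i ^ p * d i)
  have hnd := fAS_natDegree p (one_lt_p p) (β ^ (p - 1)) (∑ i, γ i ^ p * d i)
  set f := fAS p (β ^ (p - 1)) (∑ i, γ i ^ p * d i) with hf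
  have hdiv := Polynomial.modByMonic_add_div F₀ f
  set F₁ := F₀ %ₘ f with hF₁
  have hF₁z : Polynomial.aeval (zS p a d γ) F₁ = algebraMap R (QA p a d) D * t := by
    have h1 := congrArg (Polynomial.aeval (zS p a d γ)) hdiv
    rw [map_add, map_mul, hf, aeval_zS_fAS p a d γ s β ha hγ, zero_mul, add_zero] at h1
    rw [h1]
    exact h
  have hdeg : F₁.natDegree < p := by
    have := Polynomial.natDegree_modByMonic_lt F₀ hmonic (by
      intro h1
      have h2 := congrArg Polynomial.natDegree h1
      rw [hnd, natDegree_one] at h2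
      exact absurd h2 (p_pos p).ne')
    rwa [hnd] at this
  let P : MvPolynomial (Fin n) R := Polynomial.aeval (Zlin γ) F₁
  have hPred : ∀ dd ∈ P.support, ∀ i, dd i < p := by
    intro dd hdd i
    have h1 : dd i ≤ P.degreeOf i := MvPolynomial.monomial_le_degreeOf i hdd
    have h2 : P.degreeOf i ≤ P.totalDegree := MvPolynomial.degreeOf_le_totalDegree P i
    have h3 : P.totalDegree ≤ F₁.natDegree := totalDegree_aeval_Zlin_le γ F₁
    omega
  have hfm := fam_monic p (one_lt_p p) (fun j => a j ^ (p - 1)) d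
  have hfd := fam_natDegree p (one_lt_p p) (fun j => a j ^ (p - 1)) d
  have hcoeff : ∀ j, D ∣ F₁.coeff j := by
    intro j
    by_cases hj : j < p
    · apply dvd_of_forall_dvd_mul_pow γ hcop j D hD
      intro i
      let e : Fin n → Fin p := Function.update (fun _ => ⟨0, p_pos p⟩) i ⟨j, hj⟩
      have hfs : fsOf e = Finsupp.single i j := by
        ext i'
        rw [fsOf_apply]
        change ((Function.update (fun _ => (⟨0, p_pos p⟩ : Fin p)) i ⟨j, hj⟩ i' : Fin p) : ℕ) = _
        by_cases hi' : i' = i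
        · rw [hi', Function.update_self, Finsupp.single_eq_same]
        · rw [Function.update_of_ne hi', Finsupp.single_eq_of_ne hi']
      have h1 := repr_mk_of_reduced (fam p (fun j => a j ^ (p - 1)) d) hfm hfd (p_pos p) P hPred e
      rw [hfs, coeff_aeval_Zlin, mk_aeval_Zlin, hF₁z] at h1
      have h2 : algebraMap R (QA p a d) D * t = D • t := (Algebra.smul_def D t).symm
      rw [h2, map_smul, Finsupp.smul_apply, smul_eq_mul] at h1
      exact ⟨_, h1.symm⟩
    · rw [Polynomial.coeff_eq_zero_of_natDegree_lt (by omega)]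
      exact dvd_zero D
  obtain ⟨F₂, hF₂⟩ := (Polynomial.C_dvd_iff_dvd_coeff D F₁).mpr hcoeff
  refine ⟨F₂, ?_⟩
  have hD' : algebraMap R (QA p a d) D ≠ 0 := by
    intro h0
    apply hD
    apply algebraMap_injective_fam p (fun j => a j ^ (p - 1)) d
    rw [h0, map_zero]
  apply mul_left_cancel₀ hD'
  rw [← hF₁z, hF₂, map_mul, Polynomial.aeval_C]
  rfl

end Sat

end Groth.Agent.Lib.LeadAS
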