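import Mathlib

/-!
# A local criterion for invertible modules, and constancy of rank on a connected spectrum (helper4)
-/

set_option autoImplicit false
universe u v
open TensorProduct

namespace Groth.Agent.Lib.T2H4.InvCrit


variable {R : Type u} [CommRing R] (M : Type u) [AddCommGroup M] [Module R M]

section Loc

variable (S : Type u) [CommRing S] [Algebra R S] [Module.Flat R S] [Module.FinitePresentation R M]

/-- flat base change for the dual of a finitely presented module. -/
noncomputable def dualBC : S ⊗[R] Module.Dual R M ≃ₗ[S] Module.Dual S (S ⊗[R] M) :=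
  (Module.FinitePresentation.isBaseChange_map R M R S).equiv ≪≫ₗ
    LinearEquiv.congrRight (AlgebraTensorModule.rid R S S)

lemma dualBC_tmul (s : S) (φ : Module.Dual R M) (t : S) (m : M) :
    dualBC M S (s ⊗ₜ φ) (t ⊗ₜ m) = s * t * algebraMap R S (φ m) := by
  unfold dualBC
  simp only [LinearEquiv.trans_apply, IsBaseChange.equiv_tmul, LinearMap.baseChangeHom_apply]
  show (AlgebraTensorModule.rid R S S) ((s • LinearMap.baseChange S φ) (t ⊗ₜ[R] m)) = _
  rw [LinearMap.smul_apply, map_smul, LinearMap.baseChange_tmul, AlgebraTensorModule.rid_tmul,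
    smul_eq_mul, Algebra.smul_def, mul_assoc, mul_comm (algebraMap R S (φ m))]

/-- the localized contraction. -/
noncomputable def cBC : S ⊗[R] (Module.Dual R M ⊗[R] M) →ₗ[S] S :=
  (contractLeft S (S ⊗[R] M)) ∘ₗ
    (TensorProduct.congr (dualBC M S) (LinearEquiv.refl S (S ⊗[R] M))).toLinearMap ∘ₗ
    (AlgebraTensorModule.distribBaseChange R S (Module.Dual R M) M).toLinearMap

lemma cBC_tmul (φ : Module.Dual R M) (m : M) :
    cBC M S (1 ⊗ₜ (φ ⊗ₜ m)) = algebraMap R S (φ m) := by
  unfold cBC
  simp [dualBC_tmul]

lemma cBC_bijective (e : (S ⊗[R] M) ≃ₗ[S] S) : Function.Bijective (cBC (R := R) M S) := by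
  haveI : Module.Invertible S (S ⊗[R] M) := Module.Invertible.congr e.symm
  unfold cBC
  simp only [LinearMap.coe_comp, LinearEquiv.coe_coe]
  exact (Module.Invertible.bijective (R := S) (M := S ⊗[R] M)).comp
    ((LinearEquiv.bijective _).comp (LinearEquiv.bijective _))

end Loc

/-- a finitely presented module which is locally free of rank one is invertible. -/
theorem invertible_of_local [Module.FinitePresentation R M]
    (h : ∀ (p : Ideal R) [p.IsMaximal], Nonempty
      ((Localization.AtPrime p ⊗[R] M) ≃ₗ[Localization.AtPrime p] Localization.AtPrime p)) :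
    Module.Invertible R M := by
  constructor
  apply bijective_of_isLocalized_maximal
    (fun P _ => Localization.AtPrime P ⊗[R] (Module.Dual R M ⊗[R] M))
    (fun P _ => TensorProduct.mk R (Localization.AtPrime P) _ 1)
    (fun P _ => Localization.AtPrime P)
    (fun P _ => Algebra.linearMap R (Localization.AtPrime P))
    (contractLeft R M)
  intro P _
  obtain ⟨e⟩ := h P
  have hb := cBC_bijective M (Localization.AtPrime P) e
  have heq : IsLocalizedModule.map P.primeCompl
      (TensorProduct.mk R (Localization.AtPrime P) (Module.Dual R M ⊗[R] M) 1)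
      (Algebra.linearMap R (Localization.AtPrime P)) (contractLeft R M) =
      (cBC M (Localization.AtPrime P)).restrictScalars R := by
    apply IsLocalizedModule.linearMap_ext P.primeCompl
      (TensorProduct.mk R (Localization.AtPrime P) (Module.Dual R M ⊗[R] M) 1)
      (Algebra.linearMap R (Localization.AtPrime P))
    rw [IsLocalizedModule.map_comp]
    apply TensorProduct.ext'
    intro φ m
    simp only [LinearMap.comp_apply, LinearMap.restrictScalars_apply, TensorProduct.mk_apply,
      contractLeft_apply, Algebra.linearMap_apply]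
    rw [cBC_tmul]
  rw [heq]
  exact hb


section Rank


/-- constancy of the rank on a connected spectrum, for a `ℤ`-indexed family of modules which are
locally either zero or free of rank one, with exactly one nonzero member at each prime. -/
theorem exists_unique_index [ConnectedSpace (PrimeSpectrum R)] (M : ℤ → Type v)
    [∀ n, AddCommGroup (M n)] [∀ n, Module R (M n)] [∀ n, Module.FinitePresentation R (M n)]
    (h : ∀ (p : Ideal R) [p.IsPrime], ∃ m : ℤ, ∀ n : ℤ,
      (n = m → Nonempty ((Localization.AtPrime p ⊗[R] M n) ≃ₗ[Localization.AtPrime p]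
        Localization.AtPrime p)) ∧
      (n ≠ m → Subsingleton (Localization.AtPrime p ⊗[R] M n))) :
    ∃ n₀ : ℤ, (∀ (p : Ideal R) [p.IsPrime], Nonempty
        ((Localization.AtPrime p ⊗[R] M n₀) ≃ₗ[Localization.AtPrime p] Localization.AtPrime p)) ∧
      ∀ n : ℤ, n ≠ n₀ → Subsingleton (M n) := by
  classical
  choose m hm using fun (p : PrimeSpectrum R) => h p.asIdeal
  -- each `M n` is projective
  have hfree : ∀ (n : ℤ) (p : PrimeSpectrum R), Module.Free (Localization.AtPrime p.asIdeal)
      (Localization.AtPrime p.asIdeal ⊗[R] M n) := by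
    intro n p
    by_cases hn : n = m p
    · obtain ⟨e⟩ := (hm p n).1 hn
      exact Module.Free.of_equiv e.symm
    · haveI := (hm p n).2 hn
      exact Module.Free.of_subsingleton _ _
  have hproj : ∀ n : ℤ, Module.Projective R (M n) := by
    intro n
    rw [← Module.freeLocus_eq_univ_iff, Set.eq_univ_iff_forall]
    intro p
    rw [Module.mem_freeLocus_iff_tensor p (Localization.AtPrime p.asIdeal)]
    exact hfree n p
  have hrank : ∀ (n : ℤ) (p : PrimeSpectrum R),
      Module.rankAtStalk (M n) p = if n = m p then 1 else 0 := by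
    intro n p
    rw [Module.rankAtStalk_eq_finrank_tensorProduct]
    by_cases hn : n = m p
    · obtain ⟨e⟩ := (hm p n).1 hn
      rw [if_pos hn, e.finrank_eq, Module.finrank_self]
    · haveI := (hm p n).2 hn
      rw [if_neg hn, Module.finrank_zero_of_subsingleton]
  have hconst : ∀ (n : ℤ) (p q : PrimeSpectrum R),
      Module.rankAtStalk (M n) p = Module.rankAtStalk (M n) q := by
    intro n p q
    haveI := hproj n
    exact (Module.isLocallyConstant_rankAtStalk (R := R) (M := M n)).apply_eq_of_preconnectedSpace p q
  obtain ⟨p₀⟩ : Nonempty (PrimeSpectrum R) := inferInstance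
  have hall : ∀ p : PrimeSpectrum R, m p = m p₀ := by
    intro p
    by_contra hne
    have h1 := hconst (m p₀) p p₀
    rw [hrank, hrank, if_pos rfl, if_neg (fun h => hne h.symm)] at h1
    exact zero_ne_one h1
  refine ⟨m p₀, fun p _ => ?_, fun n hn => ?_⟩
  · have := (hm ⟨p, inferInstance⟩ (m p₀)).1 (hall ⟨p, inferInstance⟩).symm
    exact this
  · haveI := hproj n
    rw [← Module.rankAtStalk_eq_zero_iff_subsingleton (R := R)]
    funext p
    rw [hrank, if_neg (by rw [hall p]; exact hn)]
    rfl

end Rank

end Groth.Agent.Lib.T2H4.InvCrit
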