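import Mathlib
import Groth.Agent.Lib.Helper5FFR
import Groth.Agent.Lib.Helper28RegLoc
import Groth.Agent.Lib.T2H4InvCrit

/-!
# T2H4RegUFD: the Auslander–Buchsbaum theorem: a regular local ring is a unique factorisation domain (helper4)

Proof: induction on the dimension, Nagata's criterion for the localization at an element of `m ∖ m²`, Kaplansky's
criterion, and helper5's triviality of the Picard group of `R_f` (finite free resolutions).

Namespace `Groth.Agent.Lib.T2H4.RegUFD`.
-/

set_option autoImplicit false
set_option linter.style.haveILetI false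
set_option linter.unusedSectionVars false
universe u
open TensorProduct

namespace Groth.Agent.Lib.T2H4.RegUFD

section Nagata

variable {R : Type u} [CommRing R] [IsDomain R]

/-- divisibility in the localization away from a prime element `x` descends for elements prime to `x` -/
theorem dvd_of_dvd_away (x : R) (hx : Prime x) {a b : R} (hxa : ¬ x ∣ a)
    (h : algebraMap R (Localization.Away x) a ∣ algebraMap R (Localization.Away x) b) : a ∣ b := by
  obtain ⟨c, hc⟩ := h
  obtain ⟨⟨e, s⟩, hes⟩ := IsLocalization.surj (Submonoid.powers x) c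
  obtain ⟨n, hn⟩ := s.2
  have hinj : Function.Injective (algebraMap R (Localization.Away x)) :=
    IsLocalization.injective (Localization.Away x)
      (powers_le_nonZeroDivisors_of_noZeroDivisors hx.ne_zero)
  have h1 : x ^ n * b = a * e := by
    apply hinj
    have hs : (s : R) = x ^ n := hn.symm
    rw [map_mul, map_mul, hc, ← hs, ← hes]
    ring
  clear hc hes hn
  induction n generalizing e with
  | zero => exact ⟨e, by rw [← h1, pow_zero, one_mul]⟩
  | succ n ih =>
    have h2 : x ∣ a * e := ⟨x ^ n * b, by rw [← h1, pow_succ]; ring⟩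
    obtain ⟨e', rfl⟩ := (hx.dvd_or_dvd h2).resolve_left hxa
    refine ih e' ?_
    have h3 : x * (x ^ n * b) = x * (a * e') := by rw [← mul_assoc, ← pow_succ', h1]; ring
    exact mul_left_cancel₀ hx.ne_zero h3

variable [IsNoetherianRing R]

/-- **Nagata's criterion.** -/
theorem ufd_of_away (x : R) (hx : Prime x) [UniqueFactorizationMonoid (Localization.Away x)] :
    UniqueFactorizationMonoid R := by
  apply UniqueFactorizationMonoid.iff_exists_prime_mem_of_isPrime.2
  intro I hI0 hIp
  by_cases hxI : x ∈ I
  · exact ⟨x, hxI, hx⟩
  have hinj : Function.Injective (algebraMap R (Localization.Away x)) :=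
    IsLocalization.injective (Localization.Away x)
      (powers_le_nonZeroDivisors_of_noZeroDivisors hx.ne_zero)
  have hdisj : Disjoint (Submonoid.powers x : Set R) (I : Set R) := by
    rw [Set.disjoint_left]
    rintro _ ⟨n, rfl⟩ hn
    exact hxI (hIp.mem_of_pow_mem n hn)
  have hJp : (I.map (algebraMap R (Localization.Away x))).IsPrime :=
    IsLocalization.isPrime_of_isPrime_disjoint (Submonoid.powers x) _ I hIp hdisj
  have hJ0 : I.map (algebraMap R (Localization.Away x)) ≠ ⊥ := by
    intro h
    obtain ⟨a, haI, ha0⟩ := Submodule.exists_mem_ne_zero_of_ne_bot hI0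
    have : algebraMap R (Localization.Away x) a ∈ I.map (algebraMap R (Localization.Away x)) :=
      Ideal.mem_map_of_mem _ haI
    rw [h, Ideal.mem_bot] at this
    exact ha0 (hinj (this.trans (map_zero _).symm))
  obtain ⟨π, hπJ, hπ⟩ := hJp.exists_mem_prime_of_ne_bot hJ0
  obtain ⟨⟨a, s⟩, has⟩ := IsLocalization.surj (Submonoid.powers x) π
  have hsunit : IsUnit (algebraMap R (Localization.Away x) s) := IsLocalization.map_units _ s
  have hpa : Prime (algebraMap R (Localization.Away x) a) := by
    rw [← has]
    exact (Associated.prime ⟨hsunit.unit, rfl⟩ hπ)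
  have ha0 : a ≠ 0 := by
    rintro rfl
    exact hpa.ne_zero (map_zero _)
  obtain ⟨k, a', hxa', rfl⟩ := WfDvdMonoid.max_power_factor ha0 hx.irreducible
  have hxk : IsUnit (algebraMap R (Localization.Away x) (x ^ k)) :=
    IsLocalization.map_units _ (⟨x ^ k, k, rfl⟩ : Submonoid.powers x)
  have hpa' : Prime (algebraMap R (Localization.Away x) a') := by
    rw [map_mul] at hpa
    exact (Associated.prime ⟨hxk.unit⁻¹, by
      rw [mul_comm, ← mul_assoc, IsUnit.val_inv_mul, one_mul]⟩ hpa)
  have ha'J : algebraMap R (Localization.Away x) (x ^ k * a') ∈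
      I.map (algebraMap R (Localization.Away x)) := by
    rw [← has]
    exact Ideal.mul_mem_right _ _ hπJ
  have haI : x ^ k * a' ∈ I := by
    have h1 : x ^ k * a' ∈ (I.map (algebraMap R (Localization.Away x))).under R := ha'J
    rwa [IsLocalization.under_map_of_isPrime_disjoint (Submonoid.powers x) _ hIp hdisj] at h1
  have ha'I : a' ∈ I := (hIp.mem_or_mem haI).resolve_left (fun h => hxI (hIp.mem_of_pow_mem k h))
  refine ⟨a', ha'I, ?_, ?_, ?_⟩
  · rintro rfl
    exact hpa'.ne_zero (map_zero _)
  · intro hu
    exact hpa'.not_isUnit (hu.map _)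
  · intro b c hbc
    have h1 : algebraMap R (Localization.Away x) a' ∣
        algebraMap R (Localization.Away x) b * algebraMap R (Localization.Away x) c := by
      rw [← map_mul]
      exact map_dvd _ hbc
    rcases hpa'.dvd_or_dvd h1 with h | h
    · exact Or.inl (dvd_of_dvd_away x hx hxa' h)
    · exact Or.inr (dvd_of_dvd_away x hx hxa' h)

end Nagata

section Main

open IsLocalRing

/-- a nonzero prime of height at most one in a unique factorisation domain is principal -/
theorem exists_span_singleton_of_height_le_one {T : Type u} [CommRing T] [IsDomain T]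
    [UniqueFactorizationMonoid T] (P : Ideal T) [hPp : P.IsPrime] (hP0 : P ≠ ⊥) (hht : P.height ≤ 1) :
    ∃ π : T, π ≠ 0 ∧ P = Ideal.span {π} := by
  obtain ⟨π, hπP, hπ⟩ := Ideal.IsPrime.exists_mem_prime_of_ne_bot hPp hP0
  refine ⟨π, hπ.ne_zero, ?_⟩
  haveI hsp : (Ideal.span {π}).IsPrime := (Ideal.span_singleton_prime hπ.ne_zero).2 hπ
  have hle : Ideal.span {π} ≤ P := (Ideal.span_singleton_le_iff_mem _).2 hπP
  by_contra hne
  have hlt : Ideal.span {π} < P := lt_of_le_of_ne hle (Ne.symm hne)
  haveI : P.FiniteHeight := ⟨Or.inr (ne_top_of_le_ne_top (by simp) hht)⟩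
  have h1 := Ideal.height_strict_mono_of_isPrime_of_isPrime hlt
  have h0 : (Ideal.span {π}).height = 0 := Order.lt_one_iff.1 (lt_of_lt_of_le h1 hht)
  have h2 := Ideal.height_eq_zero_iff.1 h0
  rw [IsDomain.minimalPrimes_eq_singleton_bot] at h2
  exact hπ.ne_zero (Ideal.span_singleton_eq_bot.1 h2)

/-- the inductive step: the localization of a regular local ring at an element of the maximal ideal is factorial,
provided regular local rings of smaller dimension are -/
theorem ufd_away_of_ih (R : Type u) [CommRing R] [IsRegularLocalRing R] (x : R) (hxm : x ∈ maximalIdeal R)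
    (hx0 : x ≠ 0)
    (ih : ∀ (T : Type u) [CommRing T] [IsRegularLocalRing T], ringKrullDim T < ringKrullDim R →
      UniqueFactorizationMonoid T) :
    UniqueFactorizationMonoid (Localization.Away x) := by
  haveI := Groth.Agent.Lib.Helper5.isDomain_of_isRegularLocalRing R
  haveI : IsDomain (Localization.Away x) :=
    IsLocalization.isDomain_localization (powers_le_nonZeroDivisors_of_noZeroDivisors hx0)
  haveI : IsNoetherianRing (Localization.Away x) :=
    IsLocalization.isNoetherianRing (Submonoid.powers x) _ inferInstance
  apply UniqueFactorizationMonoid.iff_exists_prime_mem_of_isPrime.2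
  intro J hJ0 hJp
  obtain ⟨a, haJ, ha0⟩ := Submodule.exists_mem_ne_zero_of_ne_bot hJ0
  obtain ⟨P, hPmin, hPJ⟩ := Ideal.exists_minimalPrimes_le (I := Ideal.span {a}) (J := J)
    ((Ideal.span_singleton_le_iff_mem _).2 haJ)
  haveI hPp : P.IsPrime := hPmin.1.1
  have hPht : P.height ≤ 1 :=
    Ideal.height_le_one_of_isPrincipal_of_mem_minimalPrimes (Ideal.span {a}) P hPmin
  have haP : a ∈ P := hPmin.1.2 (Ideal.mem_span_singleton_self a)
  have hP0 : P ≠ ⊥ := fun h => ha0 (by rw [h] at haP; exact haP)
  suffices h : ∃ π : Localization.Away x, π ≠ 0 ∧ P = Ideal.span {π} by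
    obtain ⟨π, hπ0, hPπ⟩ := h
    refine ⟨π, hPJ (hPπ ▸ Ideal.mem_span_singleton_self π), ?_⟩
    exact (Ideal.span_singleton_prime hπ0).1 (hPπ ▸ hPp)
  haveI : Module.Finite (Localization.Away x) P := Module.IsNoetherian.finite _ _
  haveI : Module.FinitePresentation (Localization.Away x) P := Module.finitePresentation_of_finite _ _
  haveI : Module.Invertible (Localization.Away x) P := by
    apply Groth.Agent.Lib.T2H4.InvCrit.invertible_of_local
    intro Q hQ
    haveI hQp : Q.IsPrime := hQ.isPrime
    -- the local ring at `Q` is regular of smaller dimension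
    haveI : IsLocalization.AtPrime (Localization.AtPrime Q) (Q.comap (algebraMap R (Localization.Away x))) :=
      IsLocalization.isLocalization_isLocalization_atPrime_isLocalization (Submonoid.powers x)
        (Localization.AtPrime Q) Q
    haveI : IsRegularLocalRing (Localization.AtPrime (Q.comap (algebraMap R (Localization.Away x)))) :=
      Groth.Agent.Lib.Helper28.isRegularLocalRing_localization_of_isRegularLocalRing R _
    haveI : IsRegularLocalRing (Localization.AtPrime Q) :=
      IsRegularLocalRing.of_ringEquiv (IsLocalization.algEquiv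
        (Q.comap (algebraMap R (Localization.Away x))).primeCompl
        (Localization.AtPrime (Q.comap (algebraMap R (Localization.Away x))))
        (Localization.AtPrime Q)).toRingEquiv
    have hdim : ringKrullDim (Localization.AtPrime Q) < ringKrullDim R := by
      rw [IsLocalization.AtPrime.ringKrullDim_eq_height (Q.comap (algebraMap R (Localization.Away x)))
        (Localization.AtPrime Q), ← IsLocalRing.maximalIdeal_height_eq_ringKrullDim]
      refine WithBot.coe_lt_coe.2 (Ideal.height_strict_mono_of_isPrime_of_isPrime ?_)
      refine lt_of_le_of_ne (IsLocalRing.le_maximalIdeal (Ideal.IsPrime.ne_top inferInstance)) ?_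
      intro heq
      have hxq : x ∈ Q.comap (algebraMap R (Localization.Away x)) := heq ▸ hxm
      have hunit : IsUnit (algebraMap R (Localization.Away x) x) :=
        IsLocalization.map_units _ (⟨x, 1, pow_one x⟩ : Submonoid.powers x)
      exact hQp.ne_top (Ideal.eq_top_of_isUnit_mem _ hxq hunit)
    haveI : UniqueFactorizationMonoid (Localization.AtPrime Q) := ih _ hdim
    haveI : IsDomain (Localization.AtPrime Q) :=
      IsLocalization.isDomain_localization Q.primeCompl_le_nonZeroDivisors
    have hinj : Function.Injective (algebraMap (Localization.Away x) (Localization.AtPrime Q)) :=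
      IsLocalization.injective _ Q.primeCompl_le_nonZeroDivisors
    let e1 : (Localization.AtPrime Q ⊗[Localization.Away x] P) ≃ₗ[Localization.AtPrime Q]
        (P.map (algebraMap (Localization.Away x) (Localization.AtPrime Q))) :=
      (IsLocalizedModule.isBaseChange Q.primeCompl (Localization.AtPrime Q)
        (Algebra.idealMap (Localization.AtPrime Q) P)).equiv
    by_cases hPQ : P ≤ Q
    · have hdisj : Disjoint (Q.primeCompl : Set (Localization.Away x)) (P : Set (Localization.Away x)) := by
        rw [Set.disjoint_left]
        intro y hy hyP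
        exact hy (hPQ hyP)
      haveI hP'p : (P.map (algebraMap (Localization.Away x) (Localization.AtPrime Q))).IsPrime :=
        IsLocalization.isPrime_of_isPrime_disjoint Q.primeCompl _ P hPp hdisj
      have hP'ht : (P.map (algebraMap (Localization.Away x) (Localization.AtPrime Q))).height ≤ 1 := by
        rw [IsLocalization.height_map_of_disjoint Q.primeCompl P hdisj]
        exact hPht
      have hP'0 : P.map (algebraMap (Localization.Away x) (Localization.AtPrime Q)) ≠ ⊥ := by
        intro h
        have h1 : algebraMap (Localization.Away x) (Localization.AtPrime Q) a ∈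
            P.map (algebraMap (Localization.Away x) (Localization.AtPrime Q)) :=
          Ideal.mem_map_of_mem _ haP
        rw [h, Ideal.mem_bot] at h1
        exact ha0 (hinj (h1.trans (map_zero _).symm))
      obtain ⟨π, hπ0, hP'π⟩ := exists_span_singleton_of_height_le_one _ hP'0 hP'ht
      exact ⟨e1 ≪≫ₗ LinearEquiv.ofEq _ _ hP'π ≪≫ₗ
        (LinearEquiv.toSpanNonzeroSingleton (Localization.AtPrime Q) (Localization.AtPrime Q) π hπ0).symm⟩
    · have htop : P.map (algebraMap (Localization.Away x) (Localization.AtPrime Q)) = ⊤ := by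
        by_contra hne
        have hdisj := (IsLocalization.map_algebraMap_ne_top_iff_disjoint Q.primeCompl
          (Localization.AtPrime Q) P).1 hne
        apply hPQ
        intro y hyP
        by_contra hyQ
        exact Set.disjoint_left.1 hdisj hyQ hyP
      exact ⟨e1 ≪≫ₗ LinearEquiv.ofEq _ _ htop ≪≫ₗ Submodule.topEquiv⟩
  haveI : Module.Free (Localization.Away x) P := Groth.Agent.Lib.Helper5.FFR.free_of_invertible_away x P
  obtain ⟨e⟩ := Module.Invertible.free_iff_linearEquiv.1 ‹Module.Free (Localization.Away x) P›
  refine ⟨((e.symm 1 : P) : Localization.Away x), ?_, ?_⟩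
  · intro h
    have h1 : e.symm 1 = 0 := Subtype.ext h
    have h2 : (1 : Localization.Away x) = 0 := by
      have := congrArg e h1
      rwa [e.apply_symm_apply, map_zero] at this
    exact one_ne_zero h2
  · apply le_antisymm
    · intro p hp
      have h1 : (⟨p, hp⟩ : P) = (e ⟨p, hp⟩) • e.symm 1 := by
        rw [← map_smul, smul_eq_mul, mul_one, e.symm_apply_apply]
      rw [Ideal.mem_span_singleton']
      exact ⟨e ⟨p, hp⟩, (congrArg Subtype.val h1).symm⟩
    · rw [Ideal.span_singleton_le_iff_mem]
      exact (e.symm 1).2

/-- the induction on the dimension -/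
theorem ufd_aux : ∀ (d : ℕ) (R : Type u) [CommRing R] [IsRegularLocalRing R], ringKrullDim R = d →
    UniqueFactorizationMonoid R := by
  intro d
  induction d using Nat.strong_induction_on with
  | _ d ih =>
    intro R _ _ hd
    haveI := Groth.Agent.Lib.Helper5.isDomain_of_isRegularLocalRing R
    by_cases h0 : ringKrullDim R = 0
    · haveI : Ring.KrullDimLE 0 R := Ring.krullDimLE_iff.2 h0.le
      have hf : IsField R := Ring.KrullDimLE.isField_of_isDomain
      letI := hf.toField
      infer_instance
    · obtain ⟨x, hxm, hx2, -⟩ :=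
        Groth.Agent.Lib.Helper5.exists_mem_maximalIdeal_not_mem_sq_not_mem_minimalPrimes h0
      have hx0 : x ≠ 0 := fun h => hx2 (h ▸ zero_mem _)
      have hne : Ideal.span ({x} : Set R) ≠ ⊤ := by
        intro h
        have : Ideal.span ({x} : Set R) ≤ maximalIdeal R := (Ideal.span_singleton_le_iff_mem _).2 hxm
        rw [h] at this
        exact (IsLocalRing.maximalIdeal.isMaximal R).ne_top (top_le_iff.1 this)
      haveI : IsLocalRing (R ⧸ Ideal.span ({x} : Set R)) := Groth.Agent.Lib.Helper5.isLocalRing_quotient hne
      obtain ⟨hreg, -⟩ := Groth.Agent.Lib.Helper5.isRegularLocalRing_quotient_span_singleton hxm hx2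
      haveI := Groth.Agent.Lib.Helper5.isDomain_of_isRegularLocalRing (R ⧸ Ideal.span ({x} : Set R))
      have hxp : Prime x :=
        (Ideal.span_singleton_prime hx0).1 ((Ideal.Quotient.isDomain_iff_prime _).1 inferInstance)
      haveI : UniqueFactorizationMonoid (Localization.Away x) :=
        ufd_away_of_ih R x hxm hx0 (fun T _ _ hT => by
          obtain ⟨d', hd'⟩ := Groth.Agent.Lib.Helper5.exists_nat_ringKrullDim_eq T
          refine ih d' ?_ T hd'
          rw [hd', hd] at hT
          exact_mod_cast hT)
      exact ufd_of_away x hxp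

/-- **Auslander–Buchsbaum.** A regular local ring is a unique factorisation domain. -/
theorem uniqueFactorizationMonoid_of_isRegularLocalRing (R : Type u) [CommRing R] [IsRegularLocalRing R] :
    UniqueFactorizationMonoid R := by
  obtain ⟨d, hd⟩ := Groth.Agent.Lib.Helper5.exists_nat_ringKrullDim_eq R
  exact ufd_aux d R hd

end Main

end Groth.Agent.Lib.T2H4.RegUFD
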