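import Groth.Agent.Lib.LeadASu
import Groth.Agent.Lib.LeadASk
import Groth.Agent.Lib.T2H4RegUFD

/-!
# `LeadAS`, part v: invariants of the orthogonal subgroup for the family over `k[[x]]`
-/

set_option autoImplicit false
set_option maxHeartbeats 400000
set_option linter.style.haveILetI false
set_option linter.unusedSectionVars false
set_option linter.unusedVariables false

universe u

noncomputable section

namespace Groth.Agent.Lib.LeadAS

open Polynomial Module

section General

variable {R : Type u} [CommRing R] [IsDomain R] (p : ℕ) [hp : Fact p.Prime] [CharP R p] {n : ℕ}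
variable (a d : Fin n → R) (γ : Fin n → R) (s : Fin n → ZMod p) (β : R)

theorem fixed_iff_mem_range_zS [UniqueFactorizationMonoid R] [IsDomain (QA p a d)]
    (ha : ∀ i, a i ≠ 0) (hγ : ∀ i, γ i * a i = zc p (s i) * β) (hβ : β ≠ 0) (hs : s ≠ 0)
    (hcop : ∀ π : R, Prime π → ∃ i, ¬ π ∣ γ i) (t : QA p a d) :
    (∀ ν : Fin n → ZMod p, ∑ i, ν i * s i = 0 → E p a d ν t = t) ↔
      t ∈ (Polynomial.aeval (zS p a d γ) : R[X] →ₐ[R] QA p a d).range := by
  constructor
  · intro ht
    obtain ⟨D, F₀, hD, hF⟩ := exists_mul_eq_aeval p a d γ s β ha hγ hβ hs t ht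
    exact mem_range_of_mul_eq_aeval p a d γ s β ha hγ hcop D hD F₀ t hF
  · rintro ⟨G, rfl⟩ ν hν
    have h1 := Polynomial.aeval_algHom_apply
      ((E p a d ν : QA p a d ≃ₐ[R] QA p a d) : QA p a d →ₐ[R] QA p a d) (zS p a d γ) G
    have h2 : ((E p a d ν : QA p a d ≃ₐ[R] QA p a d) : QA p a d →ₐ[R] QA p a d) (zS p a d γ) =
        zS p a d γ := by
      change E p a d ν (zS p a d γ) = zS p a d γ
      rw [E_zS p a d γ s β hγ ν, hν, map_zero, zero_mul, map_zero, add_zero]
    rw [h2] at h1
    exact h1.symm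

/-- `E` as a monoid homomorphism. -/
def Ehom : Multiplicative (Fin n → ZMod p) →* (QA p a d ≃ₐ[R] QA p a d) where
  toFun e := E p a d (Multiplicative.toAdd e)
  map_one' := E_zero p a d
  map_mul' x y := (E_mul p a d _ _).symm

lemma prod_ofFn_E (g : Fin n → (Fin n → ZMod p)) :
    (List.ofFn (fun i : Fin n => E p a d (g i))).prod = E p a d (∑ i, g i) := by
  have h1 : (List.ofFn (fun i : Fin n => E p a d (g i))) =
      (List.ofFn (fun i : Fin n => Multiplicative.ofAdd (g i))).map (Ehom p a d) := by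
    rw [List.map_ofFn]
    rfl
  rw [h1, ← map_list_prod, List.prod_ofFn, ← ofAdd_sum]
  rfl

lemma prod_ofFn_sig (σ : Fin n → (QA p a d ≃ₐ[R] QA p a d))
    (hσ : ∀ i j, σ i (u _ j) = u _ j + (if i = j then algebraMap R (QA p a d) (a i) else 0))
    (ν : Fin n → ZMod p) :
    (List.ofFn (fun i : Fin n => σ i ^ (ν i).val)).prod = E p a d ν := by
  have hσE : ∀ i, σ i = E p a d (Pi.single i 1) := by
    intro i
    have h1 : ((σ i : QA p a d ≃ₐ[R] QA p a d) : QA p a d →ₐ[R] QA p a d) =
        translE p a d (Pi.single i 1) := by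
      apply algHom_ext_Q
      intro j
      change σ i (u _ j) = _
      rw [hσ i j, translE_u]
      by_cases hij : i = j
      · subst hij
        rw [if_pos rfl, Pi.single_eq_same, map_one, one_mul]
      · rw [if_neg hij, Pi.single_eq_of_ne (Ne.symm hij), map_zero, zero_mul, map_zero]
    apply AlgEquiv.ext
    intro x
    exact AlgHom.congr_fun h1 x
  have h2 : ∀ i, σ i ^ (ν i).val = E p a d (Pi.single i (ν i)) := by
    intro i
    rw [hσE i, E_pow]
    congr 1
    funext j
    rw [Pi.smul_apply]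
    by_cases hji : j = i
    · subst hji
      rw [Pi.single_eq_same, Pi.single_eq_same, nsmul_eq_mul, mul_one, ZMod.natCast_zmod_val]
    · rw [Pi.single_eq_of_ne hji, Pi.single_eq_of_ne hji, smul_zero]
  have h3 : (fun i : Fin n => σ i ^ (ν i).val) = fun i => E p a d (Pi.single i (ν i)) :=
    funext h2
  rw [h3, prod_ofFn_E, Finset.univ_sum_single]

end General

end Groth.Agent.Lib.LeadAS
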