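import Groth.Agent.Lib.LeadASv

/-!
# `LeadAS`, part w: the invariants of `H_s` in the power series case
-/

set_option autoImplicit false
set_option maxHeartbeats 400000
set_option linter.style.haveILetI false
set_option linter.unusedSectionVars false
set_option linter.unusedVariables false

universe u

noncomputable section

namespace Groth.Agent.Lib.LeadAS

open Polynomial Module

section PSOrth

variable (p : ℕ) [hp : Fact p.Prime] (k : Type u) [Field k] [CharP k p] (n : ℕ)
  (a : Fin n → MvPowerSeries (Fin n) k) (μ : MvPowerSeries (Fin n) k)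

lemma castHom_eq_zc (x : ZMod p) :
    algebraMap k (MvPowerSeries (Fin n) k) (ZMod.castHom (dvd_refl p) k x) =
      zc p (R := MvPowerSeries (Fin n) k) x := by
  have h : (algebraMap k (MvPowerSeries (Fin n) k)).comp (ZMod.castHom (dvd_refl p) k) =
      zc p (R := MvPowerSeries (Fin n) k) := Subsingleton.elim _ _
  exact RingHom.congr_fun h x

/-- no prime divides all the `c_i α_i`. -/
lemma exists_not_dvd (hcop : ∀ i j, i ≠ j → IsRelPrime (a i) (a j))
    (s : Fin n → ZMod p) (hs : s ≠ 0) (π : MvPowerSeries (Fin n) k) (hπ : Prime π) :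
    ∃ i, ¬ π ∣ zc p (R := MvPowerSeries (Fin n) k) (s i) *
      ∏ j ∈ (Finset.univ.filter (fun j => s j ≠ 0)).erase i, a j := by
  by_contra hcon
  push Not at hcon
  have hstep : ∀ i, s i ≠ 0 → ∃ j, j ≠ i ∧ s j ≠ 0 ∧ π ∣ a j := by
    intro i hi
    have h1 := hcon i
    have hunit : IsUnit (zc p (R := MvPowerSeries (Fin n) k) (s i)) :=
      (IsUnit.mk0 _ hi).map (zc p)
    have h2 : π ∣ ∏ j ∈ (Finset.univ.filter (fun j => s j ≠ 0)).erase i, a j :=
      (hunit.dvd_mul_left).mp h1
    obtain ⟨j, hj, hdvd⟩ := (Prime.dvd_finsetProd_iff hπ _).mp h2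
    rw [Finset.mem_erase, Finset.mem_filter] at hj
    exact ⟨j, hj.1, hj.2.2, hdvd⟩
  have : ∃ i₀, s i₀ ≠ 0 := by
    by_contra h0
    push Not at h0
    exact hs (funext h0)
  obtain ⟨i₀, hi₀⟩ := this
  obtain ⟨j₁, _, hj₁s, hj₁⟩ := hstep i₀ hi₀
  obtain ⟨j₂, hj₂ne, _, hj₂⟩ := hstep j₁ hj₁s
  exact hπ.not_isUnit (hcop j₂ j₁ hj₂ne hj₂ hj₁)

theorem fixedPoints_orth_PS (hn : 2 ≤ n) (ham : ∀ i, MvPowerSeries.constantCoeff (a i) = 0)
    (hcop : ∀ i j, i ≠ j → IsRelPrime (a i) (a j)) (hμ : μ ≠ 0)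
    (s : Fin n → ZMod p) (hs : s ≠ 0) :
    let R := MvPowerSeries (Fin n) k
    let A := Aμ p k n a μ
    let u : Fin n → A := fun i =>
      Ideal.Quotient.mk (I (fam p (bPS p k n fun i => μ * a i) (dPS k n))) (MvPolynomial.X i)
    let c : Fin n → R := fun i => algebraMap k R (ZMod.castHom (dvd_refl p) k (s i))
    let α : R := ∏ i ∈ Finset.univ.filter (fun i => s i ≠ 0), a i
    let αi : Fin n → R := fun i => ∏ j ∈ (Finset.univ.filter (fun j => s j ≠ 0)).erase i, a j
    let z : A := ∑ i ∈ Finset.univ.filter (fun i => s i ≠ 0), algebraMap R A (c i * αi i) * u i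
    let f : Polynomial R := Polynomial.X ^ p - Polynomial.C ((μ * α) ^ (p - 1)) * Polynomial.X
      - Polynomial.C (∑ i ∈ Finset.univ.filter (fun i => s i ≠ 0),
          c i * αi i ^ p * MvPowerSeries.X i)
    ∀ σ : Fin n → (A ≃ₐ[R] A),
      (∀ i j, σ i (u j) = u j + (if i = j then algebraMap R A (μ * a i) else 0)) →
      (∀ t : A, (∀ ν : Fin n → ZMod p, ∑ i, ν i * s i = 0 →
          (List.ofFn (fun i : Fin n => σ i ^ (ν i).val)).prod t = t) ↔
        t ∈ (Polynomial.aeval z : Polynomial R →ₐ[R] A).range) ∧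
      RingHom.ker (Polynomial.aeval z : Polynomial R →ₐ[R] A) = Ideal.span {f} := by
  intro R A u c α αi z f σ hσ
  haveI : IsDomain A := isDomain_Q_PS p k n (fun i => μ * a i) (fun i => by rw [map_mul, ham i, mul_zero])
  haveI : UniqueFactorizationMonoid R :=
    Groth.Agent.Lib.T2H4.RegUFD.uniqueFactorizationMonoid_of_isRegularLocalRing R
  let a' : Fin n → R := fun i => μ * a i
  let γ : Fin n → R := fun i => c i * αi i
  let β : R := μ * α
  have ha0 : ∀ i, a i ≠ 0 := a_ne_zero k n a hn ham hcop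
  have ha' : ∀ i, a' i ≠ 0 := fun i => mul_ne_zero hμ (ha0 i)
  have hc : ∀ i, c i = zc p (R := R) (s i) := fun i => castHom_eq_zc p k n (s i)
  have hc0 : ∀ i, s i = 0 → c i = 0 := by
    intro i hi
    rw [hc, hi, map_zero]
  have hαi : ∀ i, s i ≠ 0 → αi i * a i = α := by
    intro i hi
    exact Finset.prod_erase_mul _ _ (Finset.mem_filter.mpr ⟨Finset.mem_univ i, hi⟩)
  have hγ : ∀ i, γ i * a' i = zc p (R := R) (s i) * β := by
    intro i
    by_cases hi : s i = 0
    · change c i * αi i * (μ * a i) = _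
      rw [hc0 i hi, hi, map_zero]
      ring
    · change c i * αi i * (μ * a i) = zc p (R := R) (s i) * (μ * α)
      rw [← hαi i hi, hc]
      ring
  have hβ : β ≠ 0 :=
    mul_ne_zero hμ (Finset.prod_ne_zero_iff.mpr (fun i _ => ha0 i))
  have hz : z = zS p a' (dPS k n) γ := by
    unfold zS
    apply Finset.sum_subset (Finset.filter_subset _ _)
    intro i _ hi
    rw [Finset.mem_filter, not_and, not_not] at hi
    have h0 := hi (Finset.mem_univ i)
    change algebraMap R A (c i * αi i) * u i = 0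
    rw [hc0 i h0, zero_mul, map_zero, zero_mul]
  have hf : f = fAS p (β ^ (p - 1)) (∑ i, γ i ^ p * dPS k n i) := by
    have h1 : ∑ i ∈ Finset.univ.filter (fun i => s i ≠ 0), c i * αi i ^ p * MvPowerSeries.X i =
        ∑ i, γ i ^ p * dPS k n i := by
      rw [Finset.sum_subset (Finset.filter_subset _ _) (by
        intro i _ hi
        rw [Finset.mem_filter, not_and, not_not] at hi
        rw [hc0 i (hi (Finset.mem_univ i)), zero_mul, zero_mul])]
      apply Finset.sum_congr rfl
      intro i _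
      change c i * αi i ^ p * MvPowerSeries.X i = (c i * αi i) ^ p * MvPowerSeries.X i
      rw [mul_pow, hc, zc_pow]
    change Polynomial.X ^ p - Polynomial.C ((μ * α) ^ (p - 1)) * Polynomial.X
      - Polynomial.C (∑ i ∈ Finset.univ.filter (fun i => s i ≠ 0),
          c i * αi i ^ p * MvPowerSeries.X i) = _
    rw [h1]
    rfl
  have hcop' : ∀ π : R, Prime π → ∃ i, ¬ π ∣ γ i := by
    intro π hπ
    obtain ⟨i, hi⟩ := exists_not_dvd p k n a hcop s hs π hπ
    refine ⟨i, ?_⟩
    change ¬ π ∣ c i * αi i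
    rw [hc]
    exact hi
  have hσ' : ∀ i j, σ i (LeadAS.u _ j) = LeadAS.u _ j +
      (if i = j then algebraMap R (QA p a' (dPS k n)) (a' i) else 0) := hσ
  have hprod : ∀ ν : Fin n → ZMod p,
      (List.ofFn (fun i : Fin n => σ i ^ (ν i).val)).prod = E p a' (dPS k n) ν :=
    fun ν => prod_ofFn_sig p a' (dPS k n) σ hσ' ν
  refine ⟨fun t => ?_, ?_⟩
  · rw [hz]
    have key := fixed_iff_mem_range_zS p a' (dPS k n) γ s β ha' hγ hβ hs hcop' t
    rw [← key]
    constructor
    · intro h ν hν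
      rw [← hprod ν]
      exact h ν hν
    · intro h ν hν
      rw [hprod ν]
      exact h ν hν
  · rw [hz, hf]
    exact ker_aeval_zS p a' (dPS k n) γ s β ha' hγ hβ hs

end PSOrth

end Groth.Agent.Lib.LeadAS
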