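import Mathlib

set_option autoImplicit false
set_option maxHeartbeats 400000
set_option linter.style.haveILetI false
set_option linter.unusedSectionVars false
set_option linter.unusedVariables false

/-! Coordinates of polynomials over a finite extension `k'/k` with respect to a `k`-basis of `k'`,
and the kernel of the evaluation map into `k' ⊗[k] K`. -/

namespace Groth.Agent.Lib.LeadAbsIrr

open MvPolynomial TensorProduct

section Coord

variable {k k' : Type*} [Field k] [Field k'] [Algebra k k'] {σ : Type*}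
variable {ι : Type*} [Fintype ι] (b : Module.Basis ι k k')

/-- coefficientwise coordinate of a polynomial over `k'` -/
noncomputable def comp (i : ι) (g : MvPolynomial σ k') : MvPolynomial σ k :=
  ∑ m ∈ g.support, monomial m (b.coord i (coeff m g))

lemma coeff_comp (i : ι) (g : MvPolynomial σ k') (m : σ →₀ ℕ) :
    coeff m (comp b i g) = b.coord i (coeff m g) := by
  classical
  rw [comp, coeff_sum]
  simp only [coeff_monomial]
  rw [Finset.sum_ite_eq']
  split_ifs with h
  · rfl
  · rw [notMem_support_iff.mp h, map_zero]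

lemma decomp (g : MvPolynomial σ k') :
    g = ∑ i, C (b i) * map (algebraMap k k') (comp b i g) := by
  ext m
  rw [coeff_sum]
  simp only [coeff_C_mul, coeff_map, coeff_comp]
  conv_lhs => rw [← b.sum_repr (coeff m g)]
  apply Finset.sum_congr rfl
  intro i _
  rw [Algebra.smul_def, mul_comm]
  rfl

variable (K : Type*) [Field K] [Algebra k K]

/-- the `i`-th coordinate `k' ⊗ K → K` -/
noncomputable def phi (i : ι) : k' ⊗[k] K →ₗ[k] K :=
  (TensorProduct.lid k K).toLinearMap ∘ₗ LinearMap.rTensor K (b.coord i)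

lemma phi_tmul (i : ι) (c : k') (z : K) : phi b K i (c ⊗ₜ z) = (b.coord i c) • z := by
  simp [phi]

lemma tensor_decomp (u : k' ⊗[k] K) : u = ∑ i, b i ⊗ₜ[k] phi b K i u := by
  induction u using TensorProduct.induction_on with
  | zero => simp
  | tmul c z =>
    simp only [phi_tmul]
    simp_rw [TensorProduct.tmul_smul, TensorProduct.smul_tmul']
    rw [← TensorProduct.sum_tmul]
    congr 1
    exact (b.sum_repr c).symm
  | add x y hx hy =>
    simp only [map_add, tmul_add, Finset.sum_add_distrib]
    rw [← hx, ← hy]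

end Coord

section Ker

variable {k k' : Type*} [Field k] [Field k'] [Algebra k k'] {σ : Type*}
variable {K : Type*} [Field K] [Algebra k K]

/-- the evaluation map `k'[X] → k' ⊗ K` -/
noncomputable def Psi' (k k' : Type*) [Field k] [Field k'] [Algebra k k'] {σ : Type*}
    {K : Type*} [Field K] [Algebra k K] (v : σ → K) :
    MvPolynomial σ k' →ₐ[k'] k' ⊗[k] K :=
  aeval (fun i => (1 : k') ⊗ₜ[k] v i)

lemma Psi'_map (v : σ → K) (h : MvPolynomial σ k) :
    Psi' k k' v (map (algebraMap k k') h) = (1 : k') ⊗ₜ[k] (aeval v h) := by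
  induction h using MvPolynomial.induction_on with
  | C a =>
    rw [map_C, Psi', aeval_C, aeval_C, Algebra.TensorProduct.algebraMap_apply,
      Algebra.algebraMap_eq_smul_one a (A := K), TensorProduct.tmul_smul,
      Algebra.algebraMap_eq_smul_one a (A := k'), TensorProduct.smul_tmul']
    rfl
  | add p q hp hq => rw [map_add, map_add, hp, hq, map_add, TensorProduct.tmul_add]
  | mul_X p i hp =>
    rw [map_mul, map_mul, hp, map_X, map_mul, aeval_X, Psi', aeval_X,
      Algebra.TensorProduct.tmul_mul_tmul, mul_one]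

lemma Psi'_C_mul_map (v : σ → K) (c : k') (h : MvPolynomial σ k) :
    Psi' k k' v (C c * map (algebraMap k k') h) = c ⊗ₜ[k] (aeval v h) := by
  rw [map_mul, Psi'_map, Psi', aeval_C, Algebra.TensorProduct.algebraMap_apply,
    Algebra.TensorProduct.tmul_mul_tmul, mul_one, one_mul]
  rfl

theorem ker_Psi' [FiniteDimensional k k'] (v : σ → K) {f : MvPolynomial σ k}
    (hker : RingHom.ker (aeval v : MvPolynomial σ k →ₐ[k] K) = Ideal.span {f}) :
    RingHom.ker (Psi' k k' v) = Ideal.span {MvPolynomial.map (algebraMap k k') f} := by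
  classical
  let b := Module.finBasis k k'
  apply le_antisymm
  · intro g hg
    rw [RingHom.mem_ker] at hg
    have hg' : Psi' k k' v g = 0 := hg
    have hdec := decomp b g
    have h1 : ∀ j, aeval v (comp b j g) = 0 := by
      intro j
      have h2 : Psi' k k' v g = ∑ i, b i ⊗ₜ[k] aeval v (comp b i g) := by
        conv_lhs => rw [hdec]
        rw [map_sum]
        apply Finset.sum_congr rfl
        intro i _
        exact Psi'_C_mul_map v (b i) _
      have h3 := congrArg (phi b K j) h2
      rw [hg', map_zero, map_sum] at h3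
      simp only [phi_tmul, Module.Basis.coord_apply, Module.Basis.repr_self,
        Finsupp.single_apply] at h3
      rw [Finset.sum_eq_single j] at h3
      · rw [if_pos rfl, one_smul] at h3
        exact h3.symm
      · intro i _ hij
        rw [if_neg hij, zero_smul]
      · intro hj
        exact absurd (Finset.mem_univ j) hj
    have h4 : ∀ j, ∃ h : MvPolynomial σ k, h * f = comp b j g := by
      intro j
      have : comp b j g ∈ Ideal.span {f} := by
        rw [← hker, RingHom.mem_ker]
        exact h1 j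
      exact Ideal.mem_span_singleton'.mp this
    choose h hh using h4
    rw [Ideal.mem_span_singleton']
    refine ⟨∑ i, C (b i) * MvPolynomial.map (algebraMap k k') (h i), ?_⟩
    conv_rhs => rw [hdec]
    rw [Finset.sum_mul]
    apply Finset.sum_congr rfl
    intro i _
    rw [← hh i, map_mul]
    ring
  · rw [Ideal.span_le, Set.singleton_subset_iff, SetLike.mem_coe, RingHom.mem_ker, Psi'_map]
    have : aeval v f = 0 := by
      rw [← RingHom.mem_ker, hker]
      exact Ideal.mem_span_singleton_self f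
    rw [this, TensorProduct.tmul_zero]

theorem irreducible_map_of_isField [FiniteDimensional k k'] (v : σ → K) {f : MvPolynomial σ k}
    (hker : RingHom.ker (aeval v : MvPolynomial σ k →ₐ[k] K) = Ideal.span {f}) (hf0 : f ≠ 0)
    (hT : IsField (k' ⊗[k] K)) : Irreducible (MvPolynomial.map (algebraMap k k') f) := by
  haveI : IsDomain (k' ⊗[k] K) := hT.isDomain
  have hne : MvPolynomial.map (algebraMap k k') f ≠ 0 := by
    intro h
    apply hf0
    exact MvPolynomial.map_injective _ (algebraMap k k').injective (by rw [h, map_zero])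
  have hprime : (RingHom.ker (Psi' k k' v)).IsPrime := RingHom.ker_isPrime _
  rw [ker_Psi' v hker, Ideal.span_singleton_prime hne] at hprime
  exact hprime.irreducible

lemma exists_common_denom (v : σ → K)
    (hfrac : ∀ z : K, ∃ a r : MvPolynomial σ k, aeval v r ≠ 0 ∧ aeval v a = aeval v r * z)
    {ι : Type*} (s : Finset ι) (u : ι → K) :
    ∃ r : MvPolynomial σ k, aeval v r ≠ 0 ∧
      ∀ i ∈ s, ∃ a : MvPolynomial σ k, aeval v a = aeval v r * u i := by
  classical
  induction s using Finset.induction_on with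
  | empty => exact ⟨1, by rw [map_one]; exact one_ne_zero, fun i hi => absurd hi (Finset.notMem_empty i)⟩
  | insert i₀ s hi₀ ih =>
    obtain ⟨r, hr, ha⟩ := ih
    obtain ⟨a₀, r₀, hr₀, ha₀⟩ := hfrac (u i₀)
    refine ⟨r₀ * r, by rw [map_mul]; exact mul_ne_zero hr₀ hr, ?_⟩
    intro i hi
    rcases Finset.mem_insert.mp hi with rfl | his
    · exact ⟨a₀ * r, by rw [map_mul, map_mul, ha₀]; ring⟩
    · obtain ⟨a, haa⟩ := ha i his
      exact ⟨r₀ * a, by rw [map_mul, map_mul, haa]; ring⟩

lemma exists_lift_mul [FiniteDimensional k k'] (v : σ → K)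
    (hfrac : ∀ z : K, ∃ a r : MvPolynomial σ k, aeval v r ≠ 0 ∧ aeval v a = aeval v r * z)
    (u : k' ⊗[k] K) :
    ∃ (ρ : K) (U : MvPolynomial σ k'), ρ ≠ 0 ∧ Psi' k k' v U = ((1 : k') ⊗ₜ[k] ρ) * u := by
  classical
  let b := Module.finBasis k k'
  obtain ⟨r, hr, ha⟩ := exists_common_denom v hfrac Finset.univ (fun i => phi b K i u)
  have ha' : ∀ i, ∃ a : MvPolynomial σ k, aeval v a = aeval v r * phi b K i u :=
    fun i => ha i (Finset.mem_univ i)
  choose a haa using ha'
  refine ⟨aeval v r, ∑ i, C (b i) * MvPolynomial.map (algebraMap k k') (a i), hr, ?_⟩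
  rw [map_sum]
  conv_rhs => rw [tensor_decomp b K u, Finset.mul_sum]
  apply Finset.sum_congr rfl
  intro i _
  rw [Psi'_C_mul_map, haa i, Algebra.TensorProduct.tmul_mul_tmul, one_mul]

theorem isDomain_tensor [FiniteDimensional k k'] (v : σ → K) {f : MvPolynomial σ k}
    (hker : RingHom.ker (aeval v : MvPolynomial σ k →ₐ[k] K) = Ideal.span {f})
    (hfrac : ∀ z : K, ∃ a r : MvPolynomial σ k, aeval v r ≠ 0 ∧ aeval v a = aeval v r * z)
    (hirr : Irreducible (MvPolynomial.map (algebraMap k k') f)) : IsDomain (k' ⊗[k] K) := by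
  classical
  haveI : Nontrivial (k' ⊗[k] K) :=
    Algebra.TensorProduct.nontrivial_of_algebraMap_injective_of_isDomain k k' K
      (algebraMap k k').injective (algebraMap k K).injective
  have hkerP := ker_Psi' (k' := k') v hker
  have hprime : Prime (MvPolynomial.map (algebraMap k k') f) := hirr.prime
  have hzero : ∀ (ρ : K) (U : MvPolynomial σ k') (u : k' ⊗[k] K), ρ ≠ 0 →
      Psi' k k' v U = ((1 : k') ⊗ₜ[k] ρ) * u →
      MvPolynomial.map (algebraMap k k') f ∣ U → u = 0 := by
    intro ρ U u hρ hU hdvd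
    have h0 : Psi' k k' v U = 0 := by
      rw [← RingHom.mem_ker, hkerP]
      exact Ideal.mem_span_singleton.mpr hdvd
    rw [h0] at hU
    have : ((1 : k') ⊗ₜ[k] ρ⁻¹) * (((1 : k') ⊗ₜ[k] ρ) * u) = u := by
      rw [← mul_assoc, Algebra.TensorProduct.tmul_mul_tmul, one_mul, inv_mul_cancel₀ hρ,
        ← Algebra.TensorProduct.one_def, one_mul]
    rw [← this, ← hU, mul_zero]
  haveI : NoZeroDivisors (k' ⊗[k] K) := by
    refine ⟨?_⟩
    intro u w huw
    obtain ⟨ρ₁, U, hρ₁, hU⟩ := exists_lift_mul (k' := k') v hfrac u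
    obtain ⟨ρ₂, W, hρ₂, hW⟩ := exists_lift_mul (k' := k') v hfrac w
    have hUW : U * W ∈ RingHom.ker (Psi' k k' v) := by
      rw [RingHom.mem_ker, map_mul]
      show Psi' k k' v U * Psi' k k' v W = 0
      rw [hU, hW]
      calc ((1 : k') ⊗ₜ[k] ρ₁) * u * (((1 : k') ⊗ₜ[k] ρ₂) * w)
          = ((1 : k') ⊗ₜ[k] ρ₁) * ((1 : k') ⊗ₜ[k] ρ₂) * (u * w) := by ring
        _ = 0 := by rw [huw, mul_zero]
    rw [hkerP, Ideal.mem_span_singleton] at hUW
    rcases hprime.dvd_or_dvd hUW with h | h
    · exact Or.inl (hzero ρ₁ U u hρ₁ hU h)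
    · exact Or.inr (hzero ρ₂ W w hρ₂ hW h)
  exact ⟨⟩

theorem isField_tensor [FiniteDimensional k k'] (v : σ → K) {f : MvPolynomial σ k}
    (hker : RingHom.ker (aeval v : MvPolynomial σ k →ₐ[k] K) = Ideal.span {f})
    (hfrac : ∀ z : K, ∃ a r : MvPolynomial σ k, aeval v r ≠ 0 ∧ aeval v a = aeval v r * z)
    (hirr : Irreducible (MvPolynomial.map (algebraMap k k') f)) : IsField (k' ⊗[k] K) := by
  haveI := isDomain_tensor (k' := k') v hker hfrac hirr
  let e : k' ⊗[k] K ≃ₐ[k] K ⊗[k] k' := Algebra.TensorProduct.comm k k' K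
  haveI : IsDomain (K ⊗[k] k') := e.symm.toMulEquiv.isDomain (k' ⊗[k] K)
  have hfield : IsField (K ⊗[k] k') :=
    isField_of_isIntegral_of_isField' (R := K) (Field.toIsField K)
  exact e.toMulEquiv.isField hfield

end Ker

end Groth.Agent.Lib.LeadAbsIrr
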