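import Groth.Agent.Lib.LeadAbsIrrA
import Groth.Prelude.Def_W4bk4goldsch23FF

set_option autoImplicit false
set_option maxHeartbeats 400000
set_option linter.style.haveILetI false
set_option linter.unusedSectionVars false
set_option linter.unusedVariables false

/-! Geometric function fields and absolutely irreducible plane models: the direction `⇐`. -/

namespace Groth.Agent.Lib.LeadAbsIrr

open MvPolynomial TensorProduct FunFld

universe u v

section Frac

variable {k K : Type*} [Field k] [Field K] [Algebra k K]

lemma range_pair (x y : K) : Set.range ![x, y] = {x, y} := by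
  ext z
  simp only [Set.mem_range, Set.mem_insert_iff, Set.mem_singleton_iff]
  constructor
  · rintro ⟨i, rfl⟩
    fin_cases i
    · left; rfl
    · right; rfl
  · rintro (rfl | rfl)
    · exact ⟨0, rfl⟩
    · exact ⟨1, rfl⟩

lemma hfrac_of_adjoin_top {x y : K} (hxy : IntermediateField.adjoin k ({x, y} : Set K) = ⊤) :
    ∀ z : K, ∃ a r : MvPolynomial (Fin 2) k, aeval ![x, y] r ≠ 0 ∧
      aeval ![x, y] a = aeval ![x, y] r * z := by
  intro z
  have hz : z ∈ IntermediateField.adjoin k (Set.range ![x, y]) := by
    rw [range_pair, hxy]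
    exact IntermediateField.mem_top
  obtain ⟨r, s, hrs⟩ := (IntermediateField.mem_adjoin_range_iff k ![x, y] z).mp hz
  by_cases hs : aeval ![x, y] s = 0
  · refine ⟨0, 1, by rw [map_one]; exact one_ne_zero, ?_⟩
    rw [hrs, hs, div_zero, mul_zero, map_zero]
  · refine ⟨r, s, hs, ?_⟩
    rw [hrs]
    field_simp

end Frac

section Alg

variable {k : Type u} {K : Type v} [Field k] [Field K] [Algebra k K]

/-- In a geometric extension, every algebraic element lies in the base field. -/
theorem mem_range_of_isAlgebraic (hgeo : IsGeometric k K) {z : K} (hz : IsAlgebraic k z) :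
    z ∈ Set.range (algebraMap k K) := by
  classical
  have hint : IsIntegral k z := hz.isIntegral
  haveI : Fact (Irreducible (minpoly k z)) := ⟨minpoly.irreducible hint⟩
  have hp0 : minpoly k z ≠ 0 := minpoly.ne_zero hint
  haveI : FiniteDimensional k (AdjoinRoot (minpoly k z)) := (AdjoinRoot.powerBasis hp0).finite
  let j : AdjoinRoot (minpoly k z) →ₐ[k] K :=
    AdjoinRoot.liftAlgHom (minpoly k z) (Algebra.ofId k K) z (minpoly.aeval k z)
  have hjroot : j (AdjoinRoot.root (minpoly k z)) = z := AdjoinRoot.liftAlgHom_root _ _ _ _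
  have hT := hgeo (AdjoinRoot (minpoly k z)) inferInstance
  letI : Field (AdjoinRoot (minpoly k z) ⊗[k] K) := hT.toField
  let μ : AdjoinRoot (minpoly k z) ⊗[k] K →ₐ[k] K :=
    Algebra.TensorProduct.productMap j (AlgHom.id k K)
  have hμ : Function.Injective μ := (μ : AdjoinRoot (minpoly k z) ⊗[k] K →+* K).injective
  have heq : (AdjoinRoot.root (minpoly k z)) ⊗ₜ[k] (1 : K) =
      (1 : AdjoinRoot (minpoly k z)) ⊗ₜ[k] z := by
    apply hμ
    rw [Algebra.TensorProduct.productMap_apply_tmul, Algebra.TensorProduct.productMap_apply_tmul,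
      hjroot, map_one, map_one, mul_one, one_mul]
    rfl
  by_contra hnot
  have hroot : AdjoinRoot.root (minpoly k z) ∉
      Submodule.span k {(1 : AdjoinRoot (minpoly k z))} := by
    intro hmem
    obtain ⟨c, hc⟩ := Submodule.mem_span_singleton.mp hmem
    apply hnot
    refine ⟨c, ?_⟩
    rw [← hjroot, ← hc, map_smul, map_one, Algebra.algebraMap_eq_smul_one]
  obtain ⟨l, hl1, hl2⟩ := Submodule.exists_dual_map_eq_bot_of_notMem hroot inferInstance
  have hl0 : l 1 = 0 := by
    have : l 1 ∈ (Submodule.span k {(1 : AdjoinRoot (minpoly k z))}).map l :=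
      Submodule.mem_map_of_mem (Submodule.mem_span_singleton_self _)
    rw [hl2] at this
    exact (Submodule.mem_bot k).mp this
  have h3 := congrArg ((TensorProduct.lid k K).toLinearMap ∘ₗ LinearMap.rTensor K l) heq
  simp only [LinearMap.coe_comp, LinearEquiv.coe_coe, Function.comp_apply,
    LinearMap.rTensor_tmul, TensorProduct.lid_tmul, hl0, zero_smul] at h3
  exact hl1 (by simpa using h3)

end Alg

section Trans

variable {k K : Type*} [Field k] [Field K] [Algebra k K]

/-- `Option Unit ≃ Fin 2` -/
def optEquiv : Option Unit ≃ Fin 2 where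
  toFun o := o.elim 1 (fun _ => 0)
  invFun i := if i = 0 then some () else none
  left_inv o := by cases o <;> simp
  right_inv i := by fin_cases i <;> simp

lemma algInd_pair_iff {x y : K} (hx : Transcendental k x) :
    AlgebraicIndependent k ![x, y] ↔ Transcendental (Algebra.adjoin k ({x} : Set K)) y := by
  have hx' : AlgebraicIndependent k (fun _ : Unit => x) :=
    algebraicIndependent_unique_type_iff.mpr hx
  have h := hx'.option_iff_transcendental y
  rw [Set.range_const] at h
  rw [← h, ← algebraicIndependent_equiv optEquiv]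
  have : (![x, y] ∘ optEquiv) = fun o : Option Unit => o.elim y (fun _ => x) := by
    funext o
    cases o <;> simp [optEquiv]
  rw [this]

lemma finite_of_pair {t s : K} (hts : IntermediateField.adjoin k ({t, s} : Set K) = ⊤)
    (hs : IsAlgebraic (IntermediateField.adjoin k ({t} : Set K)) s) :
    FiniteDimensional (IntermediateField.adjoin k ({t} : Set K)) K := by
  have htop : IntermediateField.adjoin (IntermediateField.adjoin k ({t} : Set K)) ({s} : Set K)
      = ⊤ := by
    rw [← IntermediateField.restrictScalars_eq_top_iff (K := k),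
      IntermediateField.adjoin_adjoin_left, ← hts]
    congr 1
  haveI := IntermediateField.adjoin.finiteDimensional hs.isIntegral
  exact Module.Finite.equiv
    ((IntermediateField.equivOfEq htop).trans IntermediateField.topEquiv).toLinearEquiv

lemma not_algInd {x y : K} {f : MvPolynomial (Fin 2) k}
    (hker : RingHom.ker (aeval ![x, y] : MvPolynomial (Fin 2) k →ₐ[k] K) = Ideal.span {f})
    (hf0 : f ≠ 0) : ¬ AlgebraicIndependent k ![x, y] := by
  intro h
  rw [algebraicIndependent_iff_injective_aeval] at h
  apply hf0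
  apply h
  rw [map_zero, ← RingHom.mem_ker, hker]
  exact Ideal.mem_span_singleton_self f

lemma eq_C_of_degreeOf_eq_zero {f : MvPolynomial (Fin 2) k} (h0 : degreeOf 0 f = 0)
    (h1 : degreeOf 1 f = 0) : f = C (coeff 0 f) := by
  classical
  ext m
  rw [coeff_C]
  split_ifs with hm
  · rw [hm]
  · by_contra hne
    apply hm
    have hmem : m ∈ f.support := mem_support_iff.mpr hne
    have e0 := monomial_le_degreeOf 0 hmem
    have e1 := monomial_le_degreeOf 1 hmem
    ext i
    fin_cases i
    · simp only [Fin.zero_eta, Finsupp.coe_zero, Pi.zero_apply]; omega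
    · simp only [Fin.mk_one, Finsupp.coe_zero, Pi.zero_apply]; omega

lemma degreeOf_eq_zero_of_dvd {f g : MvPolynomial (Fin 2) k} (i : Fin 2) (hg0 : g ≠ 0)
    (hg : degreeOf i g = 0) (hdvd : f ∣ g) : degreeOf i f = 0 := by
  obtain ⟨h, rfl⟩ := hdvd
  have hf0 : f ≠ 0 := left_ne_zero_of_mul hg0
  have hh0 : h ≠ 0 := right_ne_zero_of_mul hg0
  rw [degreeOf_mul_eq hf0 hh0] at hg
  omega

lemma degreeOf_X_sub_C {i j : Fin 2} (hij : i ≠ j) (c : k) :
    degreeOf i (X j - C c : MvPolynomial (Fin 2) k) = 0 := by
  have h := degreeOf_sub_le i (X j : MvPolynomial (Fin 2) k) (C c)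
  rw [degreeOf_X, degreeOf_C, if_neg hij] at h
  simpa using h

lemma X_sub_C_ne_zero (j : Fin 2) (c : k) : (X j - C c : MvPolynomial (Fin 2) k) ≠ 0 := by
  intro h
  have h1 : (X j : MvPolynomial (Fin 2) k) = C c := sub_eq_zero.mp h
  have h2 := congrArg (degreeOf j) h1
  rw [degreeOf_X, degreeOf_C, if_pos rfl] at h2
  exact one_ne_zero h2

theorem exists_transcendental_finite {x y : K}
    (hxy : IntermediateField.adjoin k ({x, y} : Set K) = ⊤) {f : MvPolynomial (Fin 2) k}
    (hker : RingHom.ker (aeval ![x, y] : MvPolynomial (Fin 2) k →ₐ[k] K) = Ideal.span {f})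
    (hf : Irreducible f)
    (hb : ∀ z : K, IsAlgebraic k z → z ∈ Set.range (algebraMap k K)) :
    ∃ t : K, Transcendental k t ∧
      FiniteDimensional (IntermediateField.adjoin k ({t} : Set K)) K := by
  classical
  by_cases hx : Transcendental k x
  · refine ⟨x, hx, finite_of_pair hxy ?_⟩
    have h1 : ¬ Transcendental (Algebra.adjoin k ({x} : Set K)) y := fun h =>
      not_algInd hker hf.ne_zero ((algInd_pair_iff hx).mpr h)
    have h2 : IsAlgebraic (Algebra.adjoin k ({x} : Set K)) y := by
      rw [Transcendental, not_not] at h1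
      exact h1
    exact IsAlgebraic.tower_top_of_subalgebra_le
      (B := (IntermediateField.adjoin k ({x} : Set K)).toSubalgebra)
      (IntermediateField.algebra_adjoin_le_adjoin k _) h2
  · rw [Transcendental, not_not] at hx
    have hy : Transcendental k y := by
      intro hy
      obtain ⟨c0, hc0⟩ := hb x hx
      obtain ⟨c1, hc1⟩ := hb y hy
      have hm0 : (X 0 - C c0 : MvPolynomial (Fin 2) k) ∈ Ideal.span {f} := by
        rw [← hker, RingHom.mem_ker, map_sub, aeval_X, aeval_C, hc0]
        simp
      have hm1 : (X 1 - C c1 : MvPolynomial (Fin 2) k) ∈ Ideal.span {f} := by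
        rw [← hker, RingHom.mem_ker, map_sub, aeval_X, aeval_C, hc1]
        simp
      rw [Ideal.mem_span_singleton] at hm0 hm1
      have d1 : degreeOf 1 f = 0 :=
        degreeOf_eq_zero_of_dvd 1 (X_sub_C_ne_zero 0 c0) (degreeOf_X_sub_C (by decide) c0) hm0
      have d0 : degreeOf 0 f = 0 :=
        degreeOf_eq_zero_of_dvd 0 (X_sub_C_ne_zero 1 c1) (degreeOf_X_sub_C (by decide) c1) hm1
      have hC := eq_C_of_degreeOf_eq_zero d0 d1
      by_cases hc : coeff 0 f = 0
      · apply hf.ne_zero
        rw [hC, hc, map_zero]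
      · apply hf.not_isUnit
        rw [hC]
        exact (IsUnit.mk0 _ hc).map C
    have hyx : IntermediateField.adjoin k ({y, x} : Set K) = ⊤ := by
      rw [Set.pair_comm]
      exact hxy
    exact ⟨y, hy, finite_of_pair hyx (hx.tower_top _)⟩

end Trans

section Assemble

variable {k : Type u} {K : Type v} [Field k] [Field K] [Algebra k K]

theorem isFunctionField_and_isGeometric_of_model
    (x y : K) (f : MvPolynomial (Fin 2) k)
    (hxy : IntermediateField.adjoin k ({x, y} : Set K) = ⊤)
    (habs : ∀ (k' : Type u) [Field k'] [Algebra k k'], FiniteDimensional k k' →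
      Irreducible (MvPolynomial.map (algebraMap k k') f))
    (hker : RingHom.ker (aeval ![x, y] : MvPolynomial (Fin 2) k →ₐ[k] K) = Ideal.span {f}) :
    IsFunctionField k K ∧ IsGeometric k K := by
  have hgeo : IsGeometric k K := by
    intro k' _ _ hfin
    haveI := hfin
    exact isField_tensor ![x, y] hker (hfrac_of_adjoin_top hxy) (habs k' hfin)
  have hf : Irreducible f := by
    have h := habs k inferInstance
    rwa [Algebra.algebraMap_self, MvPolynomial.map_id] at h
  have hb : ∀ z : K, IsAlgebraic k z → z ∈ Set.range (algebraMap k K) :=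
    fun z hz => mem_range_of_isAlgebraic hgeo hz
  exact ⟨⟨exists_transcendental_finite hxy hker hf hb, hb⟩, hgeo⟩

end Assemble

end Groth.Agent.Lib.LeadAbsIrr
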