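import Groth.Agent.Lib.LeadAbsIrrB
import Groth.Agent.Lib.LeadKP1
import Groth.Agent.Lib.LeadFF1
import Groth.Agent.Lib.Helper7FunFldP

set_option autoImplicit false
set_option maxHeartbeats 400000
set_option linter.style.haveILetI false
set_option linter.unusedSectionVars false
set_option linter.unusedVariables false

/-! Geometric function fields and absolutely irreducible plane models: the direction `⇒`. -/

namespace Groth.Agent.Lib.LeadAbsIrr

open MvPolynomial TensorProduct FunFld IntermediateField
open scoped IntermediateField.algebraAdjoinAdjoin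

universe u v

variable {k : Type u} {K : Type v} [Field k] [Field K] [Algebra k K]

instance uniqueNeOne : Unique {i : Fin 2 // i ≠ 1} where
  default := ⟨0, by decide⟩
  uniq := by
    rintro ⟨i, hi⟩
    fin_cases i
    · rfl
    · exact absurd rfl hi

theorem exists_model (hK : IsFunctionField k K) (hg : IsGeometric k K) :
    ∃ (x y : K) (f : MvPolynomial (Fin 2) k),
      IntermediateField.adjoin k ({x, y} : Set K) = ⊤ ∧
      (∀ (k' : Type u) [Field k'] [Algebra k k'], FiniteDimensional k k' →
        Irreducible (MvPolynomial.map (algebraMap k k') f)) ∧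
      RingHom.ker (aeval ![x, y] : MvPolynomial (Fin 2) k →ₐ[k] K) = Ideal.span {f} := by
  classical
  obtain ⟨t, hsep, -, hDt⟩ := Groth.Agent.Lib.Helper7.FunFldP.exists_sep_var k K hK hg
  have ht : Transcendental k t := by
    intro halg
    obtain ⟨c, rfl⟩ := hK.2 t halg
    exact hDt (Derivation.map_algebraMap _ c)
  haveI : FiniteDimensional k⟮t⟯ K := Groth.Agent.Lib.LeadFF.finite_over_adjoin hK ht
  haveI := hsep
  obtain ⟨α, hα⟩ := Field.exists_primitive_element k⟮t⟯ K
  have hxy : IntermediateField.adjoin k ({t, α} : Set K) = ⊤ := by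
    rw [← IntermediateField.restrictScalars_eq_top_iff (K := k),
      IntermediateField.adjoin_adjoin_left] at hα
    rw [← hα]
    congr 1
  -- the kernel is a nonzero prime
  have hαalg : IsAlgebraic k⟮t⟯ α := Algebra.IsAlgebraic.isAlgebraic α
  have hαalg' : IsAlgebraic (Algebra.adjoin k ({t} : Set K)) α :=
    (IsFractionRing.isAlgebraic_iff (Algebra.adjoin k ({t} : Set K)) k⟮t⟯ K).mpr hαalg
  have hnot : ¬ AlgebraicIndependent k ![t, α] := fun h =>
    ((algInd_pair_iff ht).mp h) hαalg'
  have hne : RingHom.ker (aeval ![t, α] : MvPolynomial (Fin 2) k →ₐ[k] K) ≠ ⊥ := by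
    intro hbot
    apply hnot
    rw [algebraicIndependent_iff_injective_aeval]
    exact (RingHom.injective_iff_ker_eq_bot _).mpr hbot
  have hprime : (RingHom.ker (aeval ![t, α] : MvPolynomial (Fin 2) k →ₐ[k] K)).IsPrime :=
    RingHom.ker_isPrime _
  obtain ⟨f, hfmem, hfprime⟩ := hprime.exists_mem_prime_of_ne_bot hne
  have hfirr : Irreducible f := hfprime.irreducible
  have hψf : (aeval ![t, α] : MvPolynomial (Fin 2) k →ₐ[k] K) f = 0 := hfmem
  have hind : AlgebraicIndependent k
      (fun i : {i : Fin 2 // i ≠ 1} => (aeval ![t, α] : MvPolynomial (Fin 2) k →ₐ[k] K) (X i.1)) := by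
    rw [algebraicIndependent_unique_type_iff]
    show Transcendental k ((aeval ![t, α] : MvPolynomial (Fin 2) k →ₐ[k] K) (X 0))
    rw [aeval_X]
    exact ht
  have hker := Groth.Agent.Lib.LeadKP.ker_eq_span_mv (1 : Fin 2) _ hind hfirr hψf
  refine ⟨t, α, f, hxy, ?_, hker⟩
  intro k' _ _ hfin
  haveI := hfin
  exact irreducible_map_of_isField ![t, α] hker hfirr.ne_zero (hg k' hfin)

end Groth.Agent.Lib.LeadAbsIrr
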