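import Mathlib

/-! Objects of a class adapted to an additive functor are acyclic for its right derived functors. -/

set_option autoImplicit false
universe v u v' u'

namespace Groth.Agent.LeadAdapted

open CategoryTheory CategoryTheory.Limits

section Seq

variable {A : Type u} [Category.{v} A] [Abelian A]

/-- a presentation of `Z` as a retract of `Y` -/
structure Retr (Z : A) where
  Y : A
  j : Z ⟶ Y
  q : Y ⟶ Z
  jq : j ≫ q = 𝟙 Z

attribute [reassoc] Retr.jq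

/-- one stage of the construction: `Z` is a retract of `L`, with a complementary idempotent `π` -/
structure Stage (Z : A) where
  L : A
  s : Z ⟶ L
  r : L ⟶ Z
  π : L ⟶ L
  sr : s ≫ r = 𝟙 Z
  ππ : π ≫ π = π
  sπ : s ≫ π = 0
  πr : π ≫ r = 0

attribute [reassoc] Stage.sr Stage.ππ Stage.sπ Stage.πr

def Stage.zero (Z : A) : Stage Z where
  L := Z
  s := 𝟙 Z
  r := 𝟙 Z
  π := 0
  sr := Category.comp_id _
  ππ := comp_zero
  sπ := comp_zero
  πr := zero_comp

lemma idem_compl {X : A} (e : X ⟶ X) (h : e ≫ e = e) : (𝟙 X - e) ≫ (𝟙 X - e) = 𝟙 X - e := by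
  simp only [Preadditive.sub_comp, Preadditive.comp_sub, Category.id_comp, Category.comp_id, h,
    sub_self, sub_zero]

noncomputable def Stage.next {Z Z' : A} (S : Stage Z) (R : Retr Z') : Stage Z' where
  L := R.Y ⊞ S.L
  s := R.j ≫ biprod.inl
  r := biprod.fst ≫ R.q
  π := biprod.map (𝟙 R.Y - R.q ≫ R.j) (𝟙 S.L - S.π)
  sr := by rw [Category.assoc, biprod.inl_fst_assoc, R.jq]
  ππ := by
    apply biprod.hom_ext
    · rw [Category.assoc, biprod.map_fst, biprod.map_fst_assoc,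
        idem_compl _ (by rw [Category.assoc, R.jq_assoc])]
    · rw [Category.assoc, biprod.map_snd, biprod.map_snd_assoc,
        idem_compl _ S.ππ]
  sπ := by
    rw [Category.assoc, biprod.inl_map, ← Category.assoc, Preadditive.comp_sub, Category.comp_id,
      R.jq_assoc, sub_self, zero_comp]
  πr := by
    rw [biprod.map_fst_assoc, Preadditive.sub_comp, Category.id_comp, Category.assoc, R.jq,
      Category.comp_id, sub_self, comp_zero]

variable {Z Z' Z'' : A}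

/-- the differential between two consecutive stages -/
noncomputable def Stage.dNext (S : Stage Z) (R : Retr Z') (δ : Z ⟶ Z') : S.L ⟶ (S.next R).L :=
  biprod.lift (S.r ≫ δ ≫ R.j) S.π

/-- the homotopy between two consecutive stages -/
noncomputable def Stage.hNext (S : Stage Z) (R : Retr Z') : (S.next R).L ⟶ S.L :=
  biprod.snd ≫ S.π

/-- second projection of the next stage -/
noncomputable def Stage.nextSnd (S : Stage Z) (R : Retr Z') : (S.next R).L ⟶ S.L := biprod.snd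

lemma Stage.dNext_snd (S : Stage Z) (R : Retr Z') (δ : Z ⟶ Z') :
    S.dNext R δ ≫ S.nextSnd R = S.π :=
  biprod.lift_snd _ _

@[reassoc]
lemma Stage.dNext_r (S : Stage Z) (R : Retr Z') (δ : Z ⟶ Z') :
    S.dNext R δ ≫ (S.next R).r = S.r ≫ δ := by
  show biprod.lift (S.r ≫ δ ≫ R.j) S.π ≫ biprod.fst ≫ R.q = _
  rw [biprod.lift_fst_assoc, Category.assoc, Category.assoc, R.jq, Category.comp_id]

lemma Stage.s_dNext (S : Stage Z) (R : Retr Z') (δ : Z ⟶ Z') :
    S.s ≫ S.dNext R δ = δ ≫ (S.next R).s := by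
  show S.s ≫ biprod.lift (S.r ≫ δ ≫ R.j) S.π = δ ≫ R.j ≫ biprod.inl
  apply biprod.hom_ext
  · rw [Category.assoc, biprod.lift_fst, S.sr_assoc, Category.assoc, Category.assoc,
      biprod.inl_fst, Category.comp_id]
  · rw [Category.assoc, biprod.lift_snd, S.sπ, Category.assoc, Category.assoc, biprod.inl_snd,
      comp_zero, comp_zero]

lemma Stage.dNext_π (S : Stage Z) (R : Retr Z') (δ : Z ⟶ Z') :
    S.dNext R δ ≫ (S.next R).π = 0 := by
  show biprod.lift (S.r ≫ δ ≫ R.j) S.π ≫ biprod.map (𝟙 R.Y - R.q ≫ R.j) (𝟙 S.L - S.π) = 0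
  apply biprod.hom_ext
  · rw [Category.assoc, biprod.map_fst, biprod.lift_fst_assoc, zero_comp, Preadditive.comp_sub,
      Category.comp_id, Category.assoc, Category.assoc, R.jq_assoc, sub_self]
  · rw [Category.assoc, biprod.map_snd, biprod.lift_snd_assoc, zero_comp, Preadditive.comp_sub,
      Category.comp_id, S.ππ, sub_self]

lemma Stage.dNext_comp (S : Stage Z) (R : Retr Z') (R' : Retr Z'') (δ : Z ⟶ Z') (δ' : Z' ⟶ Z'')
    (w : δ ≫ δ' = 0) : S.dNext R δ ≫ (S.next R).dNext R' δ' = 0 := by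
  show S.dNext R δ ≫ biprod.lift ((S.next R).r ≫ δ' ≫ R'.j) (S.next R).π = 0
  apply biprod.hom_ext
  · rw [Category.assoc, biprod.lift_fst, zero_comp, S.dNext_r_assoc, reassoc_of% w, zero_comp,
      comp_zero]
  · rw [Category.assoc, biprod.lift_snd, zero_comp, S.dNext_π]

lemma decomp_aux {Y L W W' : A} (q : Y ⟶ W') (j : W' ⟶ Y) (π : L ⟶ L) (r : L ⟶ W) (δ : W ⟶ W')
    (hπr : π ≫ r = 0) (hππ : π ≫ π = π) :
    𝟙 (Y ⊞ L) = (biprod.fst ≫ q) ≫ (j ≫ biprod.inl) + biprod.map (𝟙 Y - q ≫ j) (𝟙 L - π) +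
      (biprod.snd ≫ π) ≫ biprod.lift (r ≫ δ ≫ j) π := by
  apply biprod.hom_ext
  · rw [Category.id_comp, Preadditive.add_comp, Preadditive.add_comp, biprod.map_fst]
    simp only [Category.assoc, biprod.inl_fst, biprod.lift_fst, Category.comp_id]
    rw [reassoc_of% hπr, zero_comp, comp_zero, add_zero, Preadditive.comp_sub, Category.comp_id]
    abel
  · rw [Category.id_comp, Preadditive.add_comp, Preadditive.add_comp, biprod.map_snd]
    simp only [Category.assoc, biprod.inl_snd, biprod.lift_snd, comp_zero]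
    rw [hππ, zero_add, Preadditive.comp_sub, Category.comp_id]
    abel

lemma Stage.decomp (S : Stage Z) (R : Retr Z') (δ : Z ⟶ Z') :
    𝟙 (S.next R).L = (S.next R).r ≫ (S.next R).s + (S.next R).π + S.hNext R ≫ S.dNext R δ :=
  decomp_aux R.q R.j S.π S.r δ S.πr S.ππ

lemma Stage.exact_next (S : Stage Z) (R : Retr Z') (R' : Retr Z'') (δ : Z ⟶ Z') (δ' : Z' ⟶ Z'')
    (w : δ ≫ δ' = 0) (hex : (ShortComplex.mk δ δ' w).Exact) :
    (ShortComplex.mk (S.dNext R δ) ((S.next R).dNext R' δ') (S.dNext_comp R R' δ δ' w)).Exact := by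
  rw [ShortComplex.exact_iff_exact_up_to_refinements] at hex ⊢
  intro T x hx
  have hx' : x ≫ (S.next R).dNext R' δ' = 0 := hx
  have h1 : x ≫ (S.next R).π = 0 := by
    rw [← (S.next R).dNext_snd R' δ', reassoc_of% hx', zero_comp]
  have h2 : (x ≫ (S.next R).r) ≫ δ' = 0 := by
    rw [Category.assoc, ← (S.next R).dNext_r R' δ', reassoc_of% hx', zero_comp]
  obtain ⟨T', π₀, hπ₀, y, hy⟩ := hex (x ≫ (S.next R).r) h2
  refine ⟨T', π₀, hπ₀, y ≫ S.s + π₀ ≫ x ≫ S.hNext R, ?_⟩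
  have hy' : π₀ ≫ x ≫ (S.next R).r = y ≫ δ := hy
  show π₀ ≫ x = (y ≫ S.s + π₀ ≫ x ≫ S.hNext R) ≫ S.dNext R δ
  calc π₀ ≫ x = π₀ ≫ x ≫ 𝟙 (S.next R).L := by rw [Category.comp_id]
    _ = π₀ ≫ x ≫ ((S.next R).r ≫ (S.next R).s + (S.next R).π + S.hNext R ≫ S.dNext R δ) := by
        rw [← S.decomp R δ]
    _ = (y ≫ S.s + π₀ ≫ x ≫ S.hNext R) ≫ S.dNext R δ := by
        rw [Preadditive.comp_add, Preadditive.comp_add, Preadditive.comp_add,
          Preadditive.comp_add, h1, comp_zero, add_zero, reassoc_of% hy', ← S.s_dNext R δ,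
          Preadditive.add_comp]
        simp only [Category.assoc]

lemma Stage.mono_dNext_zero (R : Retr Z') (δ : Z ⟶ Z') [Mono δ] :
    Mono ((Stage.zero Z).dNext R δ) := by
  haveI : Mono R.j := mono_of_mono_fac R.jq
  have h : (Stage.zero Z).dNext R δ ≫ biprod.fst = δ ≫ R.j := by
    show biprod.lift (𝟙 Z ≫ δ ≫ R.j) 0 ≫ biprod.fst = _
    rw [biprod.lift_fst, Category.id_comp]
  haveI : Mono ((Stage.zero Z).dNext R δ ≫ biprod.fst) := by rw [h]; exact mono_comp δ R.j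
  exact mono_of_mono _ biprod.fst

variable (K : ℕ → A) (d : ∀ m, K m ⟶ K (m + 1)) (R : ∀ m, Retr (K (m + 1)))

/-- the stages of the construction -/
noncomputable def stage : (m : ℕ) → Stage (K m)
  | 0 => Stage.zero (K 0)
  | (m + 1) => (stage m).next (R m)

/-- the objects of the constructed complex -/
noncomputable abbrev Lx (m : ℕ) : A := (stage K R m).L

/-- the differential of the constructed complex -/
noncomputable def dL (m : ℕ) : Lx K R m ⟶ Lx K R (m + 1) :=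
  (stage K R m).dNext (R m) (d m)

lemma dL_comp (sq : ∀ m, d m ≫ d (m + 1) = 0) (m : ℕ) : dL K d R m ≫ dL K d R (m + 1) = 0 :=
  (stage K R m).dNext_comp (R m) (R (m + 1)) (d m) (d (m + 1)) (sq m)

lemma dL_exact (sq : ∀ m, d m ≫ d (m + 1) = 0)
    (hex : ∀ m, (ShortComplex.mk (d m) (d (m + 1)) (sq m)).Exact) (m : ℕ) :
    (ShortComplex.mk (dL K d R m) (dL K d R (m + 1)) (dL_comp K d R sq m)).Exact :=
  (stage K R m).exact_next (R m) (R (m + 1)) (d m) (d (m + 1)) (sq m) (hex m)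

lemma dL_mono [Mono (d 0)] : Mono (dL K d R 0) :=
  Stage.mono_dNext_zero (R 0) (d 0)

lemma s_dL (m : ℕ) : (stage K R m).s ≫ dL K d R m = d m ≫ (stage K R (m + 1)).s :=
  (stage K R m).s_dNext (R m) (d m)

lemma dL_r (m : ℕ) : dL K d R m ≫ (stage K R (m + 1)).r = (stage K R m).r ≫ d m :=
  (stage K R m).dNext_r (R m) (d m)

lemma Lx_mem (𝒪 : ObjectProperty A) (h0 : ∀ X Y : A, 𝒪 X → 𝒪 Y → 𝒪 (X ⊞ Y)) (hK0 : 𝒪 (K 0))
    (hR : ∀ m, 𝒪 (R m).Y) : ∀ m, 𝒪 (Lx K R m)
  | 0 => hK0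
  | (m + 1) => h0 _ _ (hR m) (Lx_mem 𝒪 h0 hK0 hR m)

end Seq

section Main

variable {A : Type u} [Category.{v} A] [Abelian A] {B : Type u'} [Category.{v'} B] [Abelian B]

lemma exact_mk_congr {C : Type*} [Category C] [Abelian C] {X₁ X₂ X₃ : C} {f f' : X₁ ⟶ X₂}
    {g g' : X₂ ⟶ X₃} (w : f ≫ g = 0)
    (w' : f' ≫ g' = 0) (hf : f = f') (hg : g = g') (h : (ShortComplex.mk f g w).Exact) :
    (ShortComplex.mk f' g' w').Exact := by
  subst hf hg; exact h

lemma exact_mk_iff {X₁ X₂ X₃ : B} (f : X₁ ⟶ X₂) (g : X₂ ⟶ X₃) (w : f ≫ g = 0) :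
    (ShortComplex.mk f g w).Exact ↔ ∀ ⦃T : B⦄ (x₂ : T ⟶ X₂), x₂ ≫ g = 0 →
      ∃ (T' : B) (π : T' ⟶ T) (_ : Epi π) (x₁ : T' ⟶ X₁), π ≫ x₂ = x₁ ≫ f :=
  ShortComplex.exact_iff_exact_up_to_refinements _

variable (K : ℕ → A) (d : ∀ m, K m ⟶ K (m + 1)) (R : ∀ m, Retr (K (m + 1)))
  (sq : ∀ m, d m ≫ d (m + 1) = 0)

/-- the constructed complex -/
noncomputable def Lc : CochainComplex A ℕ :=
  CochainComplex.of (Lx K R) (dL K d R) (dL_comp K d R sq)

lemma Lc_d (m : ℕ) : (Lc K d R sq).d m (m + 1) = dL K d R m := CochainComplex.of_d _ _ m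

lemma Lc_acyclic (hmono : Mono (d 0))
    (hex : ∀ m, (ShortComplex.mk (d m) (d (m + 1)) (sq m)).Exact) : (Lc K d R sq).Acyclic := by
  intro i
  cases i with
  | zero =>
    rw [HomologicalComplex.exactAt_iff' _ 0 0 (0 + 1) CochainComplex.prev_nat_zero
      ((ComplexShape.up ℕ).next_eq' rfl),
      ShortComplex.exact_iff_mono _ ((Lc K d R sq).shape 0 0 (by simp))]
    show Mono ((Lc K d R sq).d 0 (0 + 1))
    rw [Lc_d]
    exact dL_mono K d R
  | succ m =>
    rw [HomologicalComplex.exactAt_iff' _ m (m + 1) (m + 1 + 1)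
      ((ComplexShape.up ℕ).prev_eq' rfl) ((ComplexShape.up ℕ).next_eq' rfl)]
    exact exact_mk_congr _ _ (Lc_d K d R sq m).symm (Lc_d K d R sq (m + 1)).symm
      (dL_exact K d R sq hex m)

theorem exact_map_of_retract (f : A ⥤ B) [f.Additive] (𝒪 : ObjectProperty A)
    (h0 : ∀ X Y : A, 𝒪 X → 𝒪 Y → 𝒪 (X ⊞ Y))
    (h1 : ∀ K : CochainComplex A ℕ, (∀ i, 𝒪 (K.X i)) → K.Acyclic →
      ((f.mapHomologicalComplex (ComplexShape.up ℕ)).obj K).Acyclic)
    (hK0 : 𝒪 (K 0)) (hR : ∀ m, 𝒪 (R m).Y) (hmono : Mono (d 0))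
    (hex : ∀ m, (ShortComplex.mk (d m) (d (m + 1)) (sq m)).Exact) (m : ℕ) :
    (ShortComplex.mk (f.map (d m)) (f.map (d (m + 1)))
      (by rw [← f.map_comp, sq, f.map_zero])).Exact := by
  have hacy := h1 (Lc K d R sq) (Lx_mem K R 𝒪 h0 hK0 hR) (Lc_acyclic K d R sq hmono hex)
  have hS := (HomologicalComplex.exactAt_iff' _ m (m + 1) (m + 1 + 1)
    ((ComplexShape.up ℕ).prev_eq' rfl) ((ComplexShape.up ℕ).next_eq' rfl)).mp (hacy (m + 1))
  have hC1 : ((f.mapHomologicalComplex (ComplexShape.up ℕ)).obj (Lc K d R sq)).d m (m + 1) =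
      f.map (dL K d R m) :=
    (Functor.mapHomologicalComplex_obj_d f _ _ m (m + 1)).trans
      (congrArg (fun t => f.map t) (Lc_d K d R sq m))
  have hC2 : ((f.mapHomologicalComplex (ComplexShape.up ℕ)).obj (Lc K d R sq)).d (m + 1)
      (m + 1 + 1) = f.map (dL K d R (m + 1)) :=
    (Functor.mapHomologicalComplex_obj_d f _ _ (m + 1) (m + 1 + 1)).trans
      (congrArg (fun t => f.map t) (Lc_d K d R sq (m + 1)))
  have hS' : (ShortComplex.mk (f.map (dL K d R m)) (f.map (dL K d R (m + 1)))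
      (by rw [← f.map_comp, dL_comp K d R sq, f.map_zero])).Exact :=
    exact_mk_congr _ _ hC1 hC2 hS
  rw [exact_mk_iff] at hS' ⊢
  intro T x₂ hx₂
  obtain ⟨T', π, hπ, y, hy⟩ := hS' (x₂ ≫ f.map (stage K R (m + 1)).s) (by
    rw [Category.assoc, ← f.map_comp (stage K R (m + 1)).s (dL K d R (m + 1)), s_dL,
      f.map_comp, reassoc_of% hx₂, zero_comp])
  refine ⟨T', π, hπ, y ≫ f.map (stage K R m).r, ?_⟩
  have e : f.map (stage K R (m + 1)).s ≫ f.map (stage K R (m + 1)).r = 𝟙 _ := by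
    rw [← f.map_comp, (stage K R (m + 1)).sr, f.map_id]
  calc π ≫ x₂ = π ≫ x₂ ≫ f.map (stage K R (m + 1)).s ≫ f.map (stage K R (m + 1)).r := by
        rw [e, Category.comp_id]
    _ = (y ≫ f.map (dL K d R m)) ≫ f.map (stage K R (m + 1)).r := by
        rw [← hy]
        simp only [Category.assoc]
    _ = (y ≫ f.map (stage K R m).r) ≫ f.map (d m) := by
        rw [Category.assoc, Category.assoc, ← f.map_comp (dL K d R m), ← f.map_comp (stage K R m).r,
          dL_r]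

section Resolution

variable {X : A} (I : InjectiveResolution X)

/-- the augmented resolution, as a sequence of objects -/
noncomputable def Kx : ℕ → A
  | 0 => X
  | (m + 1) => I.cocomplex.X m

/-- the augmented resolution, as a sequence of maps -/
noncomputable def Kd : (m : ℕ) → (Kx I m ⟶ Kx I (m + 1))
  | 0 => (show X ⟶ I.cocomplex.X 0 from I.ι.f 0)
  | (m + 1) => I.cocomplex.d m (m + 1)

lemma Ksq : ∀ m, Kd I m ≫ Kd I (m + 1) = 0
  | 0 => I.ι_f_zero_comp_complex_d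
  | (m + 1) => I.cocomplex.d_comp_d _ _ _

lemma Kmono : Mono (Kd I 0) := by
  show Mono (I.ι.f 0)
  infer_instance

lemma Kex : ∀ m, (ShortComplex.mk (Kd I m) (Kd I (m + 1)) (Ksq I m)).Exact
  | 0 => I.exact₀
  | (m + 1) => (HomologicalComplex.exactAt_iff' I.cocomplex m (m + 1) (m + 1 + 1)
      ((ComplexShape.up ℕ).prev_eq' rfl) ((ComplexShape.up ℕ).next_eq' rfl)).mp
      (I.cocomplex_exactAt_succ m)

end Resolution

theorem main [EnoughInjectives A] (f : A ⥤ B) [f.Additive] (𝒪 : ObjectProperty A)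
    (h0 : ∀ X Y : A, 𝒪 X → 𝒪 Y → 𝒪 (X ⊞ Y))
    (h1 : ∀ K : CochainComplex A ℕ, (∀ i, 𝒪 (K.X i)) → K.Acyclic →
      ((f.mapHomologicalComplex (ComplexShape.up ℕ)).obj K).Acyclic)
    (h2 : ∀ X : A, ∃ (Y : A) (i : X ⟶ Y), 𝒪 Y ∧ Mono i)
    (X : A) (hX : 𝒪 X) (n : ℕ) (hn : 0 < n) :
    IsZero ((f.rightDerived n).obj X) := by
  obtain ⟨k, rfl⟩ : ∃ k, n = k + 1 := ⟨n - 1, by omega⟩
  obtain ⟨I⟩ : Nonempty (InjectiveResolution X) := ⟨InjectiveResolution.of X⟩
  refine IsZero.of_iso ?_ (I.isoRightDerivedObj f (k + 1))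
  show IsZero (((f.mapHomologicalComplex (ComplexShape.up ℕ)).obj I.cocomplex).homology (k + 1))
  rw [← HomologicalComplex.exactAt_iff_isZero_homology,
    HomologicalComplex.exactAt_iff' _ k (k + 1) (k + 1 + 1)
      ((ComplexShape.up ℕ).prev_eq' rfl) ((ComplexShape.up ℕ).next_eq' rfl)]
  choose Y i hY hi using fun m : ℕ => h2 (I.cocomplex.X m)
  have hq : ∀ m, ∃ q : Y m ⟶ I.cocomplex.X m, i m ≫ q = 𝟙 _ := fun m => by
    haveI := I.injective m
    haveI := hi m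
    exact ⟨Injective.factorThru (𝟙 _) (i m), Injective.comp_factorThru _ _⟩
  choose q hq using hq
  let R : ∀ m, Retr (Kx I (m + 1)) := fun m => ⟨Y m, i m, q m, hq m⟩
  have hR : ∀ m, 𝒪 (R m).Y := fun m => hY m
  exact exact_map_of_retract (Kx I) (Kd I) R (Ksq I) f 𝒪 h0 h1 hX hR (Kmono I) (Kex I) (k + 1)

end Main

end Groth.Agent.LeadAdapted
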