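import Mathlib

set_option autoImplicit false
set_option maxHeartbeats 400000
set_option linter.style.haveILetI false
set_option linter.unusedSectionVars false
set_option linter.unusedVariables false

/-! Mathlib-only algebra for the finiteness of singular places. -/

namespace Groth.Agent.Lib.LeadSing

open Polynomial

section A1

variable {K : Type*} [Field K]

/-- scaling the roots of a monic polynomial so that the coefficients land in a subring. -/
lemma isIntegral_mul_of_scaled (R₀ : Subring K) {p : K[X]} (hp : p.Monic) {x s : K}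
    (hx : p.eval x = 0) (hs : s ∈ R₀) (hc : ∀ i < p.natDegree, s * p.coeff i ∈ R₀) :
    IsIntegral R₀ (s * x) := by
  have hq : ∀ i, (scaleRoots p s).coeff i ∈ R₀ := by
    intro i
    rw [coeff_scaleRoots]
    rcases lt_trichotomy i p.natDegree with h | h | h
    · have : p.natDegree - i = (p.natDegree - i - 1) + 1 := by omega
      rw [this, pow_succ, ← mul_assoc, mul_comm (p.coeff i * _), ← mul_assoc]
      exact R₀.mul_mem (hc i h) (R₀.pow_mem hs _)
    · rw [h, Nat.sub_self, pow_zero, mul_one, hp.coeff_natDegree]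
      exact R₀.one_mem
    · rw [coeff_eq_zero_of_natDegree_lt h, zero_mul]
      exact R₀.zero_mem
  have hsub : (↑(scaleRoots p s).coeffs : Set K) ⊆ R₀ := by
    intro c hc'
    rw [Finset.mem_coe, mem_coeffs_iff] at hc'
    obtain ⟨n, -, rfl⟩ := hc'
    exact hq n
  refine ⟨(scaleRoots p s).toSubring R₀ hsub, ?_, ?_⟩
  · rw [monic_toSubring, monic_scaleRoots_iff]; exact hp
  · have h1 : ((scaleRoots p s).toSubring R₀ hsub).map R₀.subtype = scaleRoots p s :=
      map_toSubring _ _ _
    have h2 : eval₂ (algebraMap R₀ K) (s * x) ((scaleRoots p s).toSubring R₀ hsub) =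
        eval (s * x) (((scaleRoots p s).toSubring R₀ hsub).map R₀.subtype) := by
      rw [eval_map]; rfl
    rw [h2, h1, scaleRoots_eval_mul, hx, mul_zero]

/-- if every element of `O` has a denominator in `M ⊆ R₀`, an element integral over `O` has a
multiple by an element of `M` integral over `R₀`. -/
theorem exists_mul_isIntegral (R₀ O : Subring K) (M : Submonoid K)
    (hM : ∀ s ∈ M, s ∈ R₀) (hO : ∀ c ∈ O, ∃ s ∈ M, s * c ∈ R₀) {x : K}
    (hx : IsIntegral O x) : ∃ s ∈ M, IsIntegral R₀ (s * x) := by
  classical
  obtain ⟨p, hp, hpx⟩ := hx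
  have hp' : (p.map O.subtype).Monic := hp.map _
  have hpx' : (p.map O.subtype).eval x = 0 := by
    rw [eval_map]; exact hpx
  choose! d hdM hd using hO
  let s : K := ∏ i ∈ Finset.range p.natDegree, d ((p.coeff i : O) : K)
  have hsM : s ∈ M := Submonoid.prod_mem _ fun i _ => hdM _ (p.coeff i).2
  refine ⟨s, hsM, isIntegral_mul_of_scaled R₀ hp' hpx' (hM _ hsM) ?_⟩
  intro i hi
  rw [natDegree_map_eq_of_injective (Subtype.val_injective) ] at hi
  rw [coeff_map]
  have hsplit : s = (∏ j ∈ (Finset.range p.natDegree).erase i, d ((p.coeff j : O) : K)) *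
      d ((p.coeff i : O) : K) := by
    rw [Finset.prod_erase_mul _ _ (Finset.mem_range.mpr hi)]
  rw [hsplit, mul_assoc]
  refine R₀.mul_mem ?_ (hd _ (p.coeff i).2)
  exact hM _ (Submonoid.prod_mem _ fun j _ => hdM _ (p.coeff j).2)

end A1

section A2

variable {k' E : Type*} [Field k'] [Field E] [Algebra k' E]

/-- `k'[t]` is integrally closed for transcendental `t`. -/
theorem isIntegrallyClosed_adjoin_of_transcendental {t : E} (ht : Transcendental k' t) :
    IsIntegrallyClosed (Algebra.adjoin k' ({t} : Set E)) := by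
  have hinj : Function.Injective (aeval (R := k') t) := transcendental_iff_injective.mp ht
  let e1 : k'[X] ≃ₐ[k'] (aeval (R := k') t).range := AlgEquiv.ofInjective _ hinj
  have hr : (aeval (R := k') t).range = Algebra.adjoin k' ({t} : Set E) :=
    (Algebra.adjoin_singleton_eq_range_aeval k' t).symm
  let e2 : k'[X] ≃ₐ[k'] Algebra.adjoin k' ({t} : Set E) :=
    e1.trans (Subalgebra.equivOfEq _ _ hr)
  exact IsIntegrallyClosed.of_equiv e2.toRingEquiv

end A2

end Groth.Agent.Lib.LeadSing
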