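import Groth.Agent.Lib.LeadNST1
import Groth.Agent.Lib.LeadSingA

set_option autoImplicit false
set_option maxHeartbeats 400000
set_option linter.style.haveILetI false
set_option linter.unusedSectionVars false
set_option linter.unusedVariables false

/-! Making an element of `O_P` integral over `k[t]` by a unit at `P`. -/

namespace Groth.Agent.Lib.LeadSing

open FunFld WithZero Polynomial IntermediateField Groth.Agent.Lib.LeadFG

section C

variable {k K : Type*} [Field k] [Field K] [Algebra k K]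

lemma val_aeval_le_one (P : Place k K) {t : K} (ht : P.1 t ≤ 1) (q : k[X]) :
    P.1 (aeval t q) ≤ 1 := by
  rw [aeval_eq_sum_range]
  apply Valuation.map_sum_le
  intro i _
  rw [Algebra.smul_def, map_mul, map_pow]
  exact mul_le_one' (P.2.1 _) (pow_le_one' ht i)

lemma zm0_mul_lt_one {a b : WithZero (Multiplicative ℤ)} (ha : a < 1) (hb : b ≤ 1) : a * b < 1 :=
  lt_of_le_of_lt (by simpa using mul_le_mul' (le_refl a) hb) ha

/-- elements of `k(t)` that are integral at `P` have a denominator in `k[t]` that is a unit at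
`P`. -/
lemma exists_denominator (P : Place k K) {t : K} (ht : P.1 t ≤ 1) {c : K} (hc : c ∈ k⟮t⟯)
    (hcv : P.1 c ≤ 1) :
    ∃ a s : k[X], P.1 (aeval t s) = 1 ∧ aeval t s * c = aeval t a := by
  classical
  obtain ⟨r, s, hrs⟩ := (mem_adjoin_simple_iff k c).mp hc
  by_cases hs0 : aeval t s = 0
  · refine ⟨0, 1, by simp, ?_⟩
    rw [hrs, hs0, div_zero, mul_zero, map_zero]
  have hsne : s ≠ 0 := by rintro rfl; exact hs0 (map_zero _)
  obtain ⟨r', hr'⟩ := EuclideanDomain.gcd_dvd_left r s
  obtain ⟨s', hs'⟩ := EuclideanDomain.gcd_dvd_right r s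
  set g := EuclideanDomain.gcd r s with hg
  have hg0 : g ≠ 0 := by
    intro h; rw [h, zero_mul] at hs'; exact hsne hs'
  have hbez : r' * EuclideanDomain.gcdA r s + s' * EuclideanDomain.gcdB r s = 1 := by
    have h3 := EuclideanDomain.gcd_eq_gcd_ab r s
    rw [← hg] at h3
    have h2 : g * 1 = g * (r' * EuclideanDomain.gcdA r s + s' * EuclideanDomain.gcdB r s) := by
      rw [mul_one, mul_add, ← mul_assoc, ← mul_assoc, ← hr', ← hs']; exact h3
    exact (mul_left_cancel₀ hg0 h2).symm
  have hgt : aeval t g ≠ 0 := by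
    intro h; apply hs0; rw [hs', map_mul, h, zero_mul]
  have hst' : aeval t s' ≠ 0 := by
    intro h; apply hs0; rw [hs', map_mul, h, mul_zero]
  have hc' : aeval t s' * c = aeval t r' := by
    rw [hrs, hr', hs', map_mul, map_mul]
    field_simp
  refine ⟨r', s', ?_, hc'⟩
  by_contra hne
  have hlt : P.1 (aeval t s') < 1 := lt_of_le_of_ne (val_aeval_le_one P ht s') hne
  have hlt' : P.1 (aeval t r') < 1 := by
    rw [← hc', map_mul]
    exact zm0_mul_lt_one hlt hcv
  have h1 : P.1 (aeval t (r' * EuclideanDomain.gcdA r s + s' * EuclideanDomain.gcdB r s)) < 1 := by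
    rw [map_add, map_mul, map_mul]
    apply lt_of_le_of_lt (Valuation.map_add _ _ _)
    rw [max_lt_iff]
    constructor
    · rw [map_mul]; exact zm0_mul_lt_one hlt' (val_aeval_le_one P ht _)
    · rw [map_mul]; exact zm0_mul_lt_one hlt (val_aeval_le_one P ht _)
  rw [hbez, map_one, map_one] at h1
  exact lt_irrefl _ h1

lemma finite_of_eq_top {F : Type*} [Field F] [Algebra k F] {E : IntermediateField k F}
    (h : E = ⊤) : FiniteDimensional E F := by
  subst h
  exact Module.finite_of_finrank_pos (by rw [IntermediateField.finrank_top]; norm_num)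

lemma isFF_adjoin {t : K} (ht : Transcendental k t) : IsFF k k⟮t⟯ := by
  refine ⟨AdjoinSimple.gen k t, ?_, ?_⟩
  · intro h
    apply ht
    have := (isAlgebraic_algebraMap_iff (algebraMap k⟮t⟯ K).injective (R := k)).mpr h
    rwa [AdjoinSimple.algebraMap_gen] at this
  · apply finite_of_eq_top
    apply IntermediateField.lift_injective
    rw [lift_adjoin_simple, lift_top, AdjoinSimple.coe_gen]

/-- integrality over the integral closure (as a subring) descends. -/
lemma isIntegral_of_isIntegral_closure {A₀ : Subalgebra k K} {x : K}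
    (hx : IsIntegral (integralClosure A₀ K).toSubring x) : IsIntegral A₀ x := by
  have h2 : IsIntegral (integralClosure A₀ K) x := hx
  exact isIntegral_trans x h2

theorem exists_unit_mul_integral (hK : IsFF k K) {t : K} (ht : Transcendental k t)
    (P : Place k K) (hPt : P.1 t ≤ 1) {α : K} (hα : P.1 α ≤ 1) :
    ∃ e : K, P.1 e = 1 ∧ IsIntegral (Algebra.adjoin k ({t} : Set K)) e ∧
      IsIntegral (Algebra.adjoin k ({t} : Set K)) (e * α) := by
  classical
  haveI : FiniteDimensional k⟮t⟯ K := finite_over_adjoin hK ht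
  have hF : IsFF k k⟮t⟯ := isFF_adjoin ht
  obtain ⟨p, e₀, he₀, hPp⟩ := LeadFH.exists_below hF P
  have hfin := LeadFH.finite_over (K' := K) hF p
  have hNex : ∀ Q : Place k K, ∃ n : ℕ, Q.1 α ≤ exp (n : ℤ) := fun Q => zm0_exists_le_exp _
  choose N hN using hNex
  obtain ⟨e₁, he₁⟩ := weak_approx hfin.toFinset (fun Q => if Q = P then 1 else 0)
    (fun Q => if Q = P then -1 else -(N Q : ℤ))
  have hP_mem : P ∈ hfin.toFinset := by
    rw [Set.Finite.mem_toFinset]; exact ⟨e₀, hPp⟩
  have hv1 : P.1 e₁ = 1 := by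
    have h2 := he₁ P hP_mem
    simp only [if_true] at h2
    have hlt : P.1 (e₁ - 1) < P.1 1 := by
      rw [h2, map_one, ← exp_zero, exp_lt_exp]; norm_num
    rw [Valuation.map_eq_of_sub_lt _ hlt, map_one]
  have hvQ : ∀ Q : Place k K, IsOver Q p → Q ≠ P → Q.1 e₁ = exp (-(N Q : ℤ)) := by
    intro Q hQ hne
    have h2 := he₁ Q (by rw [Set.Finite.mem_toFinset]; exact hQ)
    simpa only [if_neg hne, sub_zero] using h2
  have hint1 : IsIntegral (LeadNST.OE K p) e₁ := by
    apply LeadNST.isIntegral_of_forall_over hF p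
    intro Q hQ
    by_cases hQP : Q = P
    · subst hQP; exact hv1.le
    · rw [hvQ Q hQ hQP, ← exp_zero, exp_le_exp]; omega
  have hint2 : IsIntegral (LeadNST.OE K p) (e₁ * α) := by
    apply LeadNST.isIntegral_of_forall_over hF p
    intro Q hQ
    by_cases hQP : Q = P
    · subst hQP; rw [map_mul, hv1, one_mul]; exact hα
    · rw [map_mul, hvQ Q hQ hQP]
      calc exp (-(N Q : ℤ)) * Q.1 α ≤ exp (-(N Q : ℤ)) * exp (N Q : ℤ) :=
            mul_le_mul' le_rfl (hN Q)
        _ = 1 := by rw [← exp_add, neg_add_cancel, exp_zero]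
  let A₀ : Subalgebra k K := Algebra.adjoin k ({t} : Set K)
  let R₀ : Subring K := (integralClosure A₀ K).toSubring
  let M : Submonoid K :=
    { carrier := {u | u ∈ A₀ ∧ P.1 u = 1}
      mul_mem' := fun {a b} ha hb => ⟨A₀.mul_mem ha.1 hb.1, by rw [map_mul, ha.2, hb.2, one_mul]⟩
      one_mem' := ⟨A₀.one_mem, map_one _⟩ }
  have hA₀R₀ : ∀ s ∈ A₀, s ∈ R₀ := fun s hs =>
    (integralClosure A₀ K).algebraMap_mem (⟨s, hs⟩ : A₀)
  have hM : ∀ s ∈ M, s ∈ R₀ := fun s hs => hA₀R₀ s hs.1
  have hO : ∀ c ∈ LeadNST.OE K p, ∃ s ∈ M, s * c ∈ R₀ := by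
    rintro _ ⟨c, hc, rfl⟩
    have hcP : P.1 (algebraMap k⟮t⟯ K c) ≤ 1 := by
      rw [hPp c]; exact pow_le_one' hc _
    obtain ⟨a, s, hs1, hsc⟩ := exists_denominator P hPt c.2 hcP
    refine ⟨aeval t s, ⟨aeval_mem_adjoin_singleton k t, hs1⟩, ?_⟩
    have h3 : aeval t s * (algebraMap k⟮t⟯ K) c = aeval t a := hsc
    rw [h3]
    exact hA₀R₀ _ (aeval_mem_adjoin_singleton k t)
  obtain ⟨u, hu, hu1⟩ := exists_mul_isIntegral R₀ (LeadNST.OE K p) M hM hO hint1
  obtain ⟨u', hu', hu2⟩ := exists_mul_isIntegral R₀ (LeadNST.OE K p) M hM hO hint2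
  have hu1' : IsIntegral A₀ (u * e₁) := isIntegral_of_isIntegral_closure hu1
  have hu2' : IsIntegral A₀ (u' * (e₁ * α)) := isIntegral_of_isIntegral_closure hu2
  have huA : IsIntegral A₀ u := by
    have : u = algebraMap A₀ K ⟨u, hu.1⟩ := rfl
    rw [this]; exact isIntegral_algebraMap
  have hu'A : IsIntegral A₀ u' := by
    have : u' = algebraMap A₀ K ⟨u', hu'.1⟩ := rfl
    rw [this]; exact isIntegral_algebraMap
  refine ⟨u * u' * e₁, ?_, ?_, ?_⟩
  · rw [map_mul, map_mul, hu.2, hu'.2, hv1, one_mul, one_mul]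
  · have : u * u' * e₁ = u' * (u * e₁) := by ring
    rw [this]; exact hu'A.mul hu1'
  · have : u * u' * e₁ * α = u * (u' * (e₁ * α)) := by ring
    rw [this]; exact huA.mul hu2'

end C

end Groth.Agent.Lib.LeadSing
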