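import Groth.Agent.S12575
import Groth.Agent.Lib.LeadWD8
import Groth.Agent.Lib.LeadSingC
import Groth.Agent.Lib.LeadFF25
import Groth.Agent.Lib.LeadFF17
import Groth.Agent.Lib.LeadFF12

set_option autoImplicit false
set_option maxHeartbeats 400000
set_option linter.style.haveILetI false
set_option linter.unusedSectionVars false
set_option linter.unusedVariables false

/-! Plane curves over `k(x)`: the order of `dx` at a finite place is at most the order of the
derivative of the minimal polynomial of `y`, with equality only at nonsingular places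
(an application of S12575 to `K / k(x)`). -/

namespace Groth.Agent.Lib.LeadAdj

open FunFld WithZero IntermediateField

universe u v
variable {k : Type u} {K : Type v} [Field k] [Field K] [Algebra k K]

lemma isFunctionField_adjoin [IsAlgClosed k] {x : K} (hx : Transcendental k x) :
    IsFunctionField k k⟮x⟯ := by
  refine ⟨Groth.Agent.Lib.LeadSing.isFF_adjoin hx, fun y hy => ?_⟩
  have hint : IsIntegral k y := hy.isIntegral
  have h1 := IsAlgClosed.degree_eq_one_of_irreducible k (minpoly.irreducible hint)
  exact minpoly.mem_range_of_degree_eq_one k y h1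

/-- in `k(x)`, `x - α` has order one at the place where it vanishes. -/
lemma val_gen_sub [IsAlgClosed k] {x : K} (hx : Transcendental k x) (P : Place k k⟮x⟯) (α : k)
    (hP : P.1 (AdjoinSimple.gen k x - algebraMap k k⟮x⟯ α) < 1) :
    P.1 (AdjoinSimple.gen k x - algebraMap k k⟮x⟯ α) = exp (-1 : ℤ) := by
  classical
  have hK₀ := isFunctionField_adjoin hx
  set z := AdjoinSimple.gen k x - algebraMap k k⟮x⟯ α with hz
  have hgz : AdjoinSimple.gen k x = z + algebraMap k k⟮x⟯ α := by rw [hz]; ring
  have hzt : Transcendental k z := by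
    intro halg
    apply hx
    have h1 : IsAlgebraic k (AdjoinSimple.gen k x) := by
      rw [hgz]
      exact halg.add (isAlgebraic_algebraMap α)
    have := (isAlgebraic_algebraMap_iff (algebraMap k⟮x⟯ K).injective (R := k)).mpr h1
    rwa [AdjoinSimple.algebraMap_gen] at this
  have hz0 : z ≠ 0 := fun h => hzt (h ▸ isAlgebraic_zero)
  have hgen_top : k⟮AdjoinSimple.gen k x⟯ = (⊤ : IntermediateField k k⟮x⟯) := by
    apply IntermediateField.lift_injective
    rw [lift_adjoin_simple, lift_top, AdjoinSimple.coe_gen]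
  have htop : k⟮z⟯ = (⊤ : IntermediateField k k⟮x⟯) := by
    rw [eq_top_iff, ← hgen_top, adjoin_simple_le_iff, hgz]
    exact add_mem (mem_adjoin_simple_self k z) (IntermediateField.algebraMap_mem _ α)
  have hdeg : (Groth.Agent.Lib.LeadFF.zdiv k z).deg = 1 := by
    rw [Groth.Agent.Lib.LeadFF.deg_zdiv_eq hK₀ hzt, htop, IntermediateField.finrank_top]
    rfl
  obtain ⟨P', -, hP'⟩ := Groth.Agent.Lib.LeadFF.effective_deg_one hK₀
    (Groth.Agent.Lib.LeadFF.zdiv_nonneg z) hdeg
  have hord : 1 ≤ P.ord z := by
    rw [Groth.Agent.Lib.LeadFF.val_eq_exp_neg_ord P hz0, ← exp_zero, exp_lt_exp] at hP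
    omega
  have h1 : Groth.Agent.Lib.LeadFF.zdiv k z P = max (P.ord z) 0 :=
    Groth.Agent.Lib.LeadFF.zdiv_apply hK₀ z P
  rw [hP'] at h1
  have hPP : P' = P := by
    by_contra hne
    rw [Finsupp.single_eq_of_ne (Ne.symm hne)] at h1
    have := le_max_left (P.ord z) 0
    omega
  subst hPP
  rw [Finsupp.single_eq_same] at h1
  have hord1 : P'.ord z = 1 := by
    have := le_max_left (P'.ord z) 0
    omega
  rw [Groth.Agent.Lib.LeadFF.val_eq_exp_neg_ord P' hz0, hord1]

lemma hasExtension_of_isOverWith' {K' : Type*} [Field K'] [Algebra K K'] [Algebra k K']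
    {P : Place k K} {Q : Place k K'} {e : ℕ} (he : IsOverWith Q P e) (he0 : e ≠ 0) :
    P.1.HasExtension Q.1 :=
  ⟨fun x y => by
    show P.1 x ≤ P.1 y ↔ Q.1 (algebraMap K K' x) ≤ Q.1 (algebraMap K K' y)
    rw [he, he]
    exact (pow_le_pow_iff_left₀ zero_le zero_le he0).symm⟩

end Groth.Agent.Lib.LeadAdj
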