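import Groth.Agent.Lib.LeadAdjA

set_option autoImplicit false
set_option maxHeartbeats 400000
set_option linter.style.haveILetI false
set_option linter.unusedSectionVars false
set_option linter.unusedVariables false

/-! The inequality `ord (dx) ≤ ord (g'(y))` at a finite place of a plane model, and nonsingularity
in the case of equality. -/

namespace Groth.Agent.Lib.LeadAdj

open FunFld WithZero IntermediateField

universe u v
variable {k : Type u} {K : Type v} [Field k] [Field K] [Algebra k K]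

/-- clearing denominators: elements of `O_P[y]` become elements of `k[x, y]` after multiplication
by an element of `k[x]` that is a unit at `Q`. -/
lemma exists_clear {x y : K} (P : Place k k⟮x⟯) (Q : Place k K) (hQx : Q.1 x ≤ 1)
    (hPQ : ∀ c : k⟮x⟯, P.1 c ≤ 1 → Q.1 (algebraMap k⟮x⟯ K c) ≤ 1)
    [Algebra P.O K] [IsScalarTower P.O k⟮x⟯ K] {a : K}
    (ha : a ∈ Algebra.adjoin P.O ({y} : Set K)) :
    ∃ s ∈ Algebra.adjoin k ({x, y} : Set K), Q.1 s = 1 ∧
      s * a ∈ Algebra.adjoin k ({x, y} : Set K) := by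
  have hxm : x ∈ Algebra.adjoin k ({x, y} : Set K) := Algebra.subset_adjoin (by simp)
  have hym : y ∈ Algebra.adjoin k ({x, y} : Set K) := Algebra.subset_adjoin (by simp)
  have hpoly : ∀ q : Polynomial k, Polynomial.aeval x q ∈ Algebra.adjoin k ({x, y} : Set K) := by
    intro q
    rw [Polynomial.aeval_eq_sum_range]
    refine Subalgebra.sum_mem _ fun i _ => ?_
    exact Subalgebra.smul_mem _ (Subalgebra.pow_mem _ hxm i) _
  induction ha using Algebra.adjoin_induction with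
  | mem z hz =>
    rw [Set.mem_singleton_iff] at hz
    subst hz
    exact ⟨1, Subalgebra.one_mem _, map_one _, by rw [one_mul]; exact hym⟩
  | algebraMap c =>
    have hc : algebraMap P.O K c = algebraMap k⟮x⟯ K (c : k⟮x⟯) := by
      rw [IsScalarTower.algebraMap_apply P.O k⟮x⟯ K]; rfl
    have hcmem : algebraMap k⟮x⟯ K (c : k⟮x⟯) ∈ k⟮x⟯ := (c : k⟮x⟯).2
    have hcv : Q.1 (algebraMap k⟮x⟯ K (c : k⟮x⟯)) ≤ 1 :=
      hPQ _ ((Valuation.mem_valuationSubring_iff P.1 _).mp c.2)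
    obtain ⟨a₀, s₀, hs1, hsa⟩ := Groth.Agent.Lib.LeadSing.exists_denominator Q hQx hcmem hcv
    refine ⟨Polynomial.aeval x s₀, hpoly s₀, hs1, ?_⟩
    rw [hc, hsa]
    exact hpoly a₀
  | add a b _ _ iha ihb =>
    obtain ⟨s, hs, hs1, hsa⟩ := iha
    obtain ⟨t, ht, ht1, htb⟩ := ihb
    refine ⟨s * t, Subalgebra.mul_mem _ hs ht, by rw [map_mul, hs1, ht1, one_mul], ?_⟩
    have e : s * t * (a + b) = t * (s * a) + s * (t * b) := by ring
    rw [e]
    exact Subalgebra.add_mem _ (Subalgebra.mul_mem _ ht hsa) (Subalgebra.mul_mem _ hs htb)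
  | mul a b _ _ iha ihb =>
    obtain ⟨s, hs, hs1, hsa⟩ := iha
    obtain ⟨t, ht, ht1, htb⟩ := ihb
    refine ⟨s * t, Subalgebra.mul_mem _ hs ht, by rw [map_mul, hs1, ht1, one_mul], ?_⟩
    have e : s * t * (a * b) = (s * a) * (t * b) := by ring
    rw [e]
    exact Subalgebra.mul_mem _ hsa htb

theorem ineq_and_nonsing [IsAlgClosed k] (hK : IsFunctionField k K) (x y : K)
    (hdx : KaehlerDifferential.D k K x ≠ 0)
    (hgen : IntermediateField.adjoin k ({x, y} : Set K) = ⊤)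
    (hdom : ∀ Q' : Place k K, Q'.1 x ≤ 1 → Q'.1 y ≤ 1)
    (Q : Place k K) (hQx : Q.1 x ≤ 1)
    (ΦQ : K →ₐ[k] LaurentSeries k) (hΦQ : LocRes.IsExpansionAt Q.1 ΦQ) :
    LocRes.ordDiff ΦQ 1 x ≤
        Q.ord (Polynomial.aeval y (Polynomial.derivative (minpoly k⟮x⟯ y))) ∧
    (Q.ord (Polynomial.aeval y (Polynomial.derivative (minpoly k⟮x⟯ y))) =
        LocRes.ordDiff ΦQ 1 x → IsNonsingularAt ![(1 : K), x, y] Q) := by
  classical
  have hg := Groth.Agent.Lib.LeadMS.isGeometric_of_isAlgClosed k K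
  obtain ⟨hxt, hsep⟩ := Groth.Agent.Lib.LeadWD.sep_of_D_ne_zero hK hg hdx
  haveI := hsep
  haveI : FiniteDimensional k⟮x⟯ K := Groth.Agent.Lib.LeadFF.finite_over_adjoin hK hxt
  have hK₀ : IsFunctionField k k⟮x⟯ := isFunctionField_adjoin hxt
  have hg₀ := Groth.Agent.Lib.LeadMS.isGeometric_of_isAlgClosed k k⟮x⟯
  obtain ⟨P, e, he0, he⟩ := Groth.Agent.Lib.LeadFF.exists_below (K := k⟮x⟯) (K' := K) hK₀ Q
  obtain ⟨φ, hφ⟩ := Groth.Agent.Lib.LeadWD.exists_isExpansionAt hK₀ P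
  set x₀ : k⟮x⟯ := AdjoinSimple.gen k x with hx₀
  have hx₀x : algebraMap k⟮x⟯ K x₀ = x := AdjoinSimple.algebraMap_gen k x
  have hPQ : ∀ c : k⟮x⟯, P.1 c ≤ 1 → Q.1 (algebraMap k⟮x⟯ K c) ≤ 1 := by
    intro c hc
    rw [he c]
    exact pow_le_one' hc e
  have hPx₀ : P.1 x₀ ≤ 1 := by
    by_contra hlt
    rw [not_le] at hlt
    have h1 := he x₀
    rw [hx₀x] at h1
    rw [h1] at hQx
    exact absurd hQx (not_le.mpr (one_lt_pow' hlt he0.ne'))
  obtain ⟨α, hα⟩ := Groth.Agent.Lib.LeadFF.exists_const_sub_lt_one hK₀ P hPx₀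
  have hunif := val_gen_sub hxt P α hα
  have hφx : Valued.v (LocRes.D k (φ x₀)) = 1 := by
    have h1 : φ x₀ = φ (x₀ - algebraMap k k⟮x⟯ α) + HahnSeries.C (algebraMap k k α) := by
      rw [map_sub, LocRes.map_algebraMap]; ring
    have hv : Valued.v (φ (x₀ - algebraMap k k⟮x⟯ α)) = exp (-(1 : ℤ)) := by
      rw [hφ.1, hunif]
    have h2 := Groth.Agent.Lib.LeadMS.val_D_of_ne hv (by simp)
    rw [h1, map_add, LocRes.D_apply k (HahnSeries.C _), LocRes.derivative_C, add_zero, h2]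
    simp
  have hord0 : LocRes.ordDiff φ 1 x₀ = 0 := by
    unfold LocRes.ordDiff
    rw [Groth.Agent.Lib.LeadMS.vDiff_one, hφx, log_one, neg_zero]
  letI : Algebra P.O K := ((algebraMap k⟮x⟯ K).comp (algebraMap P.O k⟮x⟯)).toAlgebra
  haveI : IsScalarTower P.O k⟮x⟯ K := IsScalarTower.of_algebraMap_eq (fun _ => rfl)
  haveI : P.1.HasExtension Q.1 := hasExtension_of_isOverWith' he he0.ne'
  have hf : Function.Surjective
      (algebraMap (IsLocalRing.ResidueField P.O) (IsLocalRing.ResidueField Q.O)) := by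
    intro r
    obtain ⟨c, hc⟩ := Groth.Agent.Lib.LeadFF.residue_surjective_of_algClosed hK Q r
    refine ⟨IsLocalRing.residue P.O (algebraMap k P.O c), ?_⟩
    rw [Valuation.HasExtension.algebraMap_residue_eq_residue_algebraMap, ← hc]
    rfl
  have hy : IntermediateField.adjoin k⟮x⟯ ({y} : Set K) = ⊤ := by
    apply IntermediateField.restrictScalars_injective k
    rw [IntermediateField.adjoin_adjoin_left, IntermediateField.restrictScalars_top, ← hgen,
      Set.singleton_union]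
  have hyi : IsIntegral P.O y := by
    apply Groth.Agent.Lib.LeadCE.isIntegral_of_forall_over hK₀ P
    intro Q' hQ'
    obtain ⟨e', he'⟩ := hQ'
    apply hdom Q'
    rw [← hx₀x, he' x₀]
    exact pow_le_one' hPx₀ e'
  have hx : LocRes.vDiff φ 1 x₀ ≠ 0 := by
    rw [Groth.Agent.Lib.LeadMS.vDiff_one, hφx]; exact one_ne_zero
  have hx' : LocRes.vDiff ΦQ 1 (algebraMap k⟮x⟯ K x₀) ≠ 0 := by
    rw [hx₀x, Groth.Agent.Lib.LeadMS.vDiff_one]
    exact (Valuation.ne_zero_iff _).mpr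
      (Groth.Agent.Lib.LeadWD.D_exp_ne_zero' hK hg hdx Q ΦQ hΦQ)
  obtain ⟨h1, h2⟩ := Groth.Agent.S12575.result k k⟮x⟯ K hK₀ hg₀ k k P Q e he φ hφ ΦQ hΦQ x₀ hx hx'
    hf y hy hyi
  have hdiff : LocRes.diffExp φ ΦQ e x₀ = LocRes.ordDiff ΦQ 1 x := by
    unfold LocRes.diffExp
    rw [hx₀x, hord0, mul_zero, sub_zero]
  rw [hdiff] at h1 h2
  refine ⟨h1, fun heq z hz => ?_⟩
  obtain ⟨a, ha, b, hb, hb1, hzb⟩ := h2 heq z hz
  obtain ⟨s, hs, hs1, hsa⟩ := exists_clear P Q hQx hPQ ha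
  obtain ⟨t, ht, ht1, htb⟩ := exists_clear P Q hQx hPQ hb
  have hle : Algebra.adjoin k ({x, y} : Set K) ≤
      Algebra.adjoin k (Set.range fun i => ![(1 : K), x, y] i / ![(1 : K), x, y] 0) := by
    apply Algebra.adjoin_le
    rintro w (rfl | hw)
    · exact Algebra.subset_adjoin ⟨1, by simp⟩
    · rw [Set.mem_singleton_iff] at hw
      subst hw
      exact Algebra.subset_adjoin ⟨2, by simp⟩
  refine ⟨0, by simp, ?_, t * (s * a), hle (Subalgebra.mul_mem _ ht hsa), s * (t * b),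
    hle (Subalgebra.mul_mem _ hs htb), ?_, ?_⟩
  · intro i
    fin_cases i
    · simp
    · simpa using hQx
    · simpa using hdom Q hQx
  · rw [map_mul, map_mul, hs1, ht1, hb1, one_mul, one_mul]
  · rw [← hzb]; ring

end Groth.Agent.Lib.LeadAdj
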