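import Groth.Agent.Lib.LeadPD4
import Groth.Agent.Lib.LeadPC2

set_option autoImplicit false
set_option maxHeartbeats 400000
set_option linter.style.haveILetI false
set_option linter.unusedSectionVars false
set_option linter.unusedVariables false

/-! A homogeneous relation `G(u₀, u₁, u₂) = 0` with nonzero `X₂ ^ d` coefficient: domination of
`u₂`, the divisor of `(1 : x : y)`, and the minimal polynomial of `y` over `k(x)`. -/

namespace Groth.Agent.Lib.LeadAdj

open FunFld WithZero IntermediateField MvPolynomial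

universe u v
variable {k : Type u} {K : Type v} [Field k] [Field K] [Algebra k K]

lemma homog_sum {G : MvPolynomial (Fin 3) k} {d : ℕ} (hG : G.IsHomogeneous d)
    {s : Fin 3 →₀ ℕ} (hs : s ∈ G.support) : s 0 + s 1 + s 2 = d := by
  have := hG (mem_support_iff.mp hs)
  rw [← this]
  simp [Finsupp.weight_apply, Finsupp.sum_fintype, Fin.sum_univ_three]

lemma eq_single_two {s : Fin 3 →₀ ℕ} {d : ℕ} (h0 : s 0 = 0) (h1 : s 1 = 0) (h2 : s 2 = d) :
    s = Finsupp.single 2 d := by
  ext i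
  fin_cases i
  · simpa using h0
  · simpa using h1
  · simpa using h2

/-- domination: `|u₂| ≤ max |u₀| |u₁|`. -/
theorem val_le_of_homog (P : Place k K) {G : MvPolynomial (Fin 3) k} {d : ℕ}
    (hG : G.IsHomogeneous d) (hc : G.coeff (Finsupp.single 2 d) ≠ 0) (u : Fin 3 → K)
    (hGu : aeval u G = 0) : P.1 (u 2) ≤ max (P.1 (u 0)) (P.1 (u 1)) := by
  classical
  by_contra hlt
  rw [not_le] at hlt
  set M := max (P.1 (u 0)) (P.1 (u 1)) with hM
  set N := P.1 (u 2) with hN
  have hN0' : 0 < N := lt_of_le_of_lt zero_le hlt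
  have hN0 : N ≠ 0 := hN0'.ne'
  have hmem : Finsupp.single 2 d ∈ G.support := mem_support_iff.mpr hc
  rw [aeval_def, eval₂_eq', ← Finset.add_sum_erase _ _ hmem] at hGu
  simp only [Fin.prod_univ_three] at hGu
  have htop : P.1 (algebraMap k K (G.coeff (Finsupp.single 2 d)) *
      (u 0 ^ (Finsupp.single (2 : Fin 3) d) 0 * u 1 ^ (Finsupp.single (2 : Fin 3) d) 1 *
        u 2 ^ (Finsupp.single (2 : Fin 3) d) 2)) = N ^ d := by
    have h0 : (Finsupp.single (2 : Fin 3) d) 0 = 0 := by simp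
    have h1 : (Finsupp.single (2 : Fin 3) d) 1 = 0 := by simp
    have h2 : (Finsupp.single (2 : Fin 3) d) 2 = d := by simp
    rw [h0, h1, h2, pow_zero, pow_zero, one_mul, one_mul, map_mul,
      Groth.Agent.Lib.LeadFF.place_trivOn P _ hc, one_mul, map_pow]
  have hrest : P.1 (∑ s ∈ G.support.erase (Finsupp.single 2 d),
      algebraMap k K (G.coeff s) * (u 0 ^ s 0 * u 1 ^ s 1 * u 2 ^ s 2)) < N ^ d := by
    apply Valuation.map_sum_lt P.1 (pow_ne_zero _ hN0)
    intro s hs
    rw [Finset.mem_erase] at hs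
    have hsd : s 0 + s 1 + s 2 = d := homog_sum hG hs.2
    have hs01 : s 0 + s 1 ≠ 0 := by
      intro h0
      apply hs.1
      exact eq_single_two (by omega) (by omega) (by omega)
    rw [map_mul, map_mul, map_mul, map_pow, map_pow, map_pow]
    have h1 : P.1 (algebraMap k K (G.coeff s)) ≤ 1 := P.2.1 _
    have h2 : P.1 (u 0) ^ s 0 * P.1 (u 1) ^ s 1 ≤ M ^ (s 0 + s 1) := by
      rw [pow_add]
      exact mul_le_mul' (pow_le_pow_left₀ zero_le (le_max_left _ _) _)
        (pow_le_pow_left₀ zero_le (le_max_right _ _) _)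
    have h3 : M ^ (s 0 + s 1) < N ^ (s 0 + s 1) := pow_lt_pow_left₀ hlt zero_le hs01
    calc P.1 (algebraMap k K (G.coeff s)) * (P.1 (u 0) ^ s 0 * P.1 (u 1) ^ s 1 * N ^ s 2)
        ≤ 1 * (M ^ (s 0 + s 1) * N ^ s 2) := mul_le_mul' h1 (mul_le_mul' h2 le_rfl)
      _ = M ^ (s 0 + s 1) * N ^ s 2 := one_mul _
      _ < N ^ (s 0 + s 1) * N ^ s 2 := (mul_lt_mul_iff_left₀ (pow_pos hN0' _)).mpr h3
      _ = N ^ d := by rw [← pow_add, hsd]
  have := Valuation.map_add_eq_of_lt_left P.1 (x := algebraMap k K (G.coeff (Finsupp.single 2 d)) *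
      (u 0 ^ (Finsupp.single (2 : Fin 3) d) 0 * u 1 ^ (Finsupp.single (2 : Fin 3) d) 1 *
        u 2 ^ (Finsupp.single (2 : Fin 3) d) 2))
      (y := ∑ s ∈ G.support.erase (Finsupp.single 2 d),
      algebraMap k K (G.coeff s) * (u 0 ^ s 0 * u 1 ^ s 1 * u 2 ^ s 2)) (by rw [htop]; exact hrest)
  rw [hGu, map_zero, htop] at this
  exact pow_ne_zero _ hN0 this.symm

/-- the value at `(0, 0, 1)` is the `X₂ ^ d` coefficient. -/
lemma eval_e2 {G : MvPolynomial (Fin 3) k} {d : ℕ} (hG : G.IsHomogeneous d) :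
    eval ![0, 0, 1] G = G.coeff (Finsupp.single 2 d) := by
  classical
  rw [eval_eq']
  rw [Finset.sum_eq_single (Finsupp.single 2 d)]
  · simp [Fin.prod_univ_three]
  · intro s hs hne
    have hsd := homog_sum hG hs
    have hs01 : s 0 ≠ 0 ∨ s 1 ≠ 0 := by
      by_contra hcon
      push Not at hcon
      exact hne (eq_single_two hcon.1 hcon.2 (by omega))
    rw [Fin.prod_univ_three]
    rcases hs01 with h | h
    · simp [zero_pow h]
    · simp [zero_pow h]
  · intro hns
    rw [notMem_support_iff.mp hns, zero_mul]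

/-- the divisor of `(1 : x : y)` is the pole divisor of `x` when `y` is dominated by `x`. -/
theorem mapDiv_eq_pdiv (hK : IsFunctionField k K) {x y : K} (hx0 : x ≠ 0)
    (hdom : ∀ P : Place k K, P.1 y ≤ max 1 (P.1 x)) :
    mapDiv k ![(1 : K), x, y] = Groth.Agent.Lib.LeadFF.zdiv k x⁻¹ := by
  ext P
  have hexp := Groth.Agent.Lib.LeadPD.exp_zdiv_inv hK P hx0
  apply Groth.Agent.Lib.LeadWD.mapDiv_eq_of' hK _ P _
    (by rw [Groth.Agent.Lib.LeadFF.zdiv_apply hK]; exact le_max_right _ _)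
  · intro i
    rw [hexp]
    fin_cases i
    · simp only [Fin.zero_eta, Matrix.cons_val_zero, map_one]
      exact le_max_left _ _
    · simp only [Fin.mk_one, Matrix.cons_val_one, Matrix.cons_val_zero]
      exact le_max_right _ _
    · exact hdom P
  · rw [hexp]
    rcases le_or_gt (P.1 x) 1 with h1 | h1
    · exact ⟨0, by simp [max_eq_left h1]⟩
    · exact ⟨1, by simp [max_eq_right h1.le]⟩

end Groth.Agent.Lib.LeadAdj
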