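import Groth.Agent.Lib.LeadAdjC

set_option autoImplicit false
set_option maxHeartbeats 400000
set_option linter.style.haveILetI false
set_option linter.unusedSectionVars false
set_option linter.unusedVariables false

/-! The polynomial `G(1, x, Y)` over `k(x)` and the minimal polynomial of `y`. -/

namespace Groth.Agent.Lib.LeadAdj

open FunFld WithZero IntermediateField MvPolynomial

universe u v
variable {k : Type u} {K : Type v} [Field k] [Field K] [Algebra k K]

/-- the substitution `(1, x, Y)`. -/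
noncomputable def gvec (x : K) : Fin 3 → Polynomial k⟮x⟯ :=
  ![Polynomial.C 1, Polynomial.C (AdjoinSimple.gen k x), Polynomial.X]

/-- `G(1, x, Y)` as a polynomial over `k(x)`. -/
noncomputable def gpoly (x : K) (G : MvPolynomial (Fin 3) k) : Polynomial k⟮x⟯ :=
  aeval (gvec x) G

lemma aeval_gpoly (x y : K) (G : MvPolynomial (Fin 3) k) :
    Polynomial.aeval y (gpoly x G) = aeval ![(1 : K), x, y] G := by
  have h : (((Polynomial.aeval y : Polynomial k⟮x⟯ →ₐ[k⟮x⟯] K).restrictScalars k).comp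
      (aeval (gvec x) : MvPolynomial (Fin 3) k →ₐ[k] Polynomial k⟮x⟯)) =
      aeval ![(1 : K), x, y] := by
    apply MvPolynomial.algHom_ext
    intro i
    fin_cases i
    · simp [gvec]
    · simp [gvec]
    · simp [gvec]
  exact DFunLike.congr_fun h G

lemma derivative_gpoly (x : K) (G : MvPolynomial (Fin 3) k) :
    Polynomial.derivative (gpoly x G) = gpoly x (pderiv 2 G) := by
  have := Groth.Agent.Lib.LeadPC.deriv_aeval
    ((Polynomial.derivative' : Derivation k⟮x⟯ (Polynomial k⟮x⟯)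
      (Polynomial k⟮x⟯)).restrictScalars k) (gvec x) G
  simp only [Fin.sum_univ_three, gvec, Derivation.restrictScalars_apply,
    Polynomial.derivative'_apply, Matrix.cons_val_zero, Matrix.cons_val_one,
    Polynomial.derivative_C, smul_zero, zero_add] at this
  rw [gpoly, gpoly, gvec]
  rw [this]
  simp

lemma gpoly_eq_sum (x : K) (G : MvPolynomial (Fin 3) k) :
    gpoly x G = ∑ s ∈ G.support,
      Polynomial.C (algebraMap k k⟮x⟯ (G.coeff s) * (AdjoinSimple.gen k x) ^ s 1) *
        Polynomial.X ^ s 2 := by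
  rw [gpoly, aeval_def, eval₂_eq']
  refine Finset.sum_congr rfl fun s _ => ?_
  rw [Fin.prod_univ_three]
  simp only [gvec, Matrix.cons_val_zero, Matrix.cons_val_one]
  rw [Polynomial.algebraMap_apply, map_one, one_pow, one_mul, ← map_pow, ← mul_assoc, ← map_mul]
  rfl

lemma coeff_gpoly (x : K) (G : MvPolynomial (Fin 3) k) (n : ℕ) :
    (gpoly x G).coeff n = ∑ s ∈ G.support,
      if n = s 2 then algebraMap k k⟮x⟯ (G.coeff s) * (AdjoinSimple.gen k x) ^ s 1 else 0 := by
  rw [gpoly_eq_sum, Polynomial.finsetSum_coeff]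
  refine Finset.sum_congr rfl fun s _ => ?_
  rw [Polynomial.coeff_C_mul_X_pow]

lemma natDegree_gpoly_le {G : MvPolynomial (Fin 3) k} {d : ℕ} (hG : G.IsHomogeneous d) (x : K) :
    (gpoly x G).natDegree ≤ d := by
  rw [Polynomial.natDegree_le_iff_coeff_eq_zero]
  intro N hN
  rw [coeff_gpoly]
  apply Finset.sum_eq_zero
  intro s hs
  have := homog_sum hG hs
  rw [if_neg (by omega)]

lemma coeff_gpoly_top {G : MvPolynomial (Fin 3) k} {d : ℕ} (hG : G.IsHomogeneous d) (x : K) :
    (gpoly x G).coeff d = algebraMap k k⟮x⟯ (G.coeff (Finsupp.single 2 d)) := by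
  classical
  rw [coeff_gpoly, Finset.sum_eq_single (Finsupp.single 2 d)]
  · simp
  · intro s hs hne
    have := homog_sum hG hs
    rw [if_neg]
    intro h2
    exact hne (eq_single_two (by omega) (by omega) h2.symm)
  · intro hns
    rw [notMem_support_iff.mp hns]
    simp

theorem minpoly_eq {x y : K} {G : MvPolynomial (Fin 3) k} {d : ℕ} (hG : G.IsHomogeneous d)
    (hc : G.coeff (Finsupp.single 2 d) ≠ 0) (hGxy : aeval ![(1 : K), x, y] G = 0)
    [FiniteDimensional k⟮x⟯ K] (hy : IntermediateField.adjoin k⟮x⟯ ({y} : Set K) = ⊤)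
    (hfr : Module.finrank k⟮x⟯ K = d) :
    minpoly k⟮x⟯ y =
      Polynomial.C (algebraMap k k⟮x⟯ (G.coeff (Finsupp.single 2 d)))⁻¹ * gpoly x G := by
  set c' := algebraMap k k⟮x⟯ (G.coeff (Finsupp.single 2 d)) with hc'def
  have hc' : c' ≠ 0 := by
    rw [hc'def, Ne, map_eq_zero_iff _ (algebraMap k k⟮x⟯).injective]; exact hc
  have hnat : (gpoly x G).natDegree = d :=
    le_antisymm (natDegree_gpoly_le hG x)
      (Polynomial.le_natDegree_of_ne_zero (by rw [coeff_gpoly_top hG]; exact hc'))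
  have hlead : (gpoly x G).leadingCoeff = c' := by
    rw [Polynomial.leadingCoeff, hnat, coeff_gpoly_top hG]
  set p := Polynomial.C c'⁻¹ * gpoly x G with hp
  have hmonic : p.Monic :=
    Polynomial.monic_C_mul_of_mul_leadingCoeff_eq_one (by rw [hlead, inv_mul_cancel₀ hc'])
  have hpy : Polynomial.aeval y p = 0 := by rw [hp, map_mul, aeval_gpoly, hGxy, mul_zero]
  have hint : IsIntegral k⟮x⟯ y := Algebra.IsIntegral.isIntegral y
  have hdvd : minpoly k⟮x⟯ y ∣ p := minpoly.dvd _ _ hpy
  have hmd : (minpoly k⟮x⟯ y).natDegree = d := by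
    rw [← IntermediateField.adjoin.finrank hint, hy, IntermediateField.finrank_top', hfr]
  have hpd : p.natDegree = d := by
    rw [hp, Polynomial.natDegree_C_mul (inv_ne_zero hc'), hnat]
  exact (Polynomial.eq_of_monic_of_dvd_of_natDegree_le (minpoly.monic hint) hmonic hdvd
    (by rw [hmd, hpd])).symm

theorem ord_deriv_minpoly {x y : K} {G : MvPolynomial (Fin 3) k} {d : ℕ}
    (hG : G.IsHomogeneous d)
    (hc : G.coeff (Finsupp.single 2 d) ≠ 0) (hGxy : aeval ![(1 : K), x, y] G = 0)
    [FiniteDimensional k⟮x⟯ K] (hy : IntermediateField.adjoin k⟮x⟯ ({y} : Set K) = ⊤)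
    (hfr : Module.finrank k⟮x⟯ K = d) (Q : Place k K) :
    Q.ord (Polynomial.aeval y (Polynomial.derivative (minpoly k⟮x⟯ y))) =
      Q.ord (aeval ![(1 : K), x, y] (pderiv 2 G)) := by
  rw [minpoly_eq hG hc hGxy hy hfr, Polynomial.derivative_C_mul, map_mul, Polynomial.aeval_C,
    derivative_gpoly, aeval_gpoly]
  unfold Place.ord
  rw [map_mul]
  have h1 : Q.1 (algebraMap k⟮x⟯ K (algebraMap k k⟮x⟯ (G.coeff (Finsupp.single 2 d)))⁻¹) = 1 := by
    rw [map_inv₀, ← IsScalarTower.algebraMap_apply, map_inv₀,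
      Groth.Agent.Lib.LeadFF.place_trivOn Q _ hc, inv_one]
  rw [h1, one_mul]

end Groth.Agent.Lib.LeadAdj
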