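import Groth.Agent.Lib.LeadAdjC
import Groth.Agent.Lib.LeadKP7
import Groth.Agent.Lib.LeadMS3

set_option autoImplicit false
set_option maxHeartbeats 400000
set_option linter.style.haveILetI false
set_option linter.unusedSectionVars false
set_option linter.unusedVariables false

/-! At a nonsingular finite place of a plane model `G(1, x, y) = 0`, the order of `G₂(1, x, y)`
is at most the order of `dx` (Jacobian criterion + differentiation of the relation). -/

namespace Groth.Agent.Lib.LeadAdj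

open FunFld WithZero IntermediateField MvPolynomial

universe u v
variable {k : Type u} {K : Type v} [Field k] [Field K] [Algebra k K]

lemma val_D_le_one {F : Type*} [Field F] {f : LaurentSeries F} (hf : Valued.v f ≤ 1) :
    Valued.v (LocRes.D F f) ≤ 1 := by
  have h0 : (1 : WithZero (Multiplicative ℤ)) = exp (-(0 : ℤ)) := by simp
  rw [h0] at hf ⊢
  rw [LaurentSeries.valuation_le_iff_coeff_lt_eq_zero] at hf ⊢
  intro m hm
  rw [LocRes.D_coeff]
  rcases (by omega : m + 1 < 0 ∨ m + 1 = 0) with h | h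
  · rw [hf _ h, smul_zero]
  · rw [h, zero_smul]

lemma exp_neg_ordDiff {F : Type*} [Field F] [Algebra k F] (φ : K →ₐ[k] LaurentSeries F) (x : K)
    (hx : LocRes.D F (φ x) ≠ 0) :
    exp (-(LocRes.ordDiff φ 1 x)) = Valued.v (LocRes.D F (φ x)) := by
  unfold LocRes.ordDiff
  rw [neg_neg, Groth.Agent.Lib.LeadMS.vDiff_one, exp_log ((Valuation.ne_zero_iff _).mpr hx)]

lemma val_eq_one_of_residue_ne_zero (Q : Place k K) {z : K} {c : k} (hc : c ≠ 0)
    (h : Q.1 (z - algebraMap k K c) < 1) : Q.1 z = 1 := by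
  have h1 : Q.1 (algebraMap k K c) = 1 := Groth.Agent.Lib.LeadFF.place_trivOn Q c hc
  have h2 : Q.1 z = Q.1 (algebraMap k K c) := by
    apply Valuation.map_eq_of_sub_lt
    rw [h1]; exact h
  rw [h2, h1]

theorem ord_le_of_nonsing [IsAlgClosed k] (hK : IsFunctionField k K) (x y : K)
    (G : MvPolynomial (Fin 3) k) (d : ℕ) (hG : G.IsHomogeneous d) (hGirr : Irreducible G)
    (hGxy : aeval ![(1 : K), x, y] G = 0)
    (hδ : aeval ![(1 : K), x, y] (pderiv 2 G) ≠ 0)
    (hlin : LinearIndependent k ![(1 : K), x, y])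
    (Q : Place k K) (hQx : Q.1 x ≤ 1) (hQy : Q.1 y ≤ 1)
    (ΦQ : K →ₐ[k] LaurentSeries k) (hΦQ : LocRes.IsExpansionAt Q.1 ΦQ)
    (hdΦ : LocRes.D k (ΦQ x) ≠ 0)
    (hns : IsNonsingularAt ![(1 : K), x, y] Q) :
    Q.ord (aeval ![(1 : K), x, y] (pderiv 2 G)) ≤ LocRes.ordDiff ΦQ 1 x := by
  classical
  set φ : Fin 3 → K := ![(1 : K), x, y] with hφ
  set δ := aeval φ (pderiv 2 G) with hδdef
  have hG0 : G ≠ 0 := hGirr.ne_zero
  have htd : G.totalDegree = d := hG.totalDegree hG0
  have hhom : G.IsHomogeneous G.totalDegree := by rw [htd]; exact hG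
  obtain ⟨α1, hα1⟩ := Groth.Agent.Lib.LeadFF.exists_const_sub_lt_one hK Q hQx
  obtain ⟨α2, hα2⟩ := Groth.Agent.Lib.LeadFF.exists_const_sub_lt_one hK Q hQy
  set α : Fin 3 → k := ![1, α1, α2] with hαdef
  have hα' : ∀ i, Q.1 (φ i - algebraMap k K (α i)) < 1 := by
    intro i
    fin_cases i
    · simp [hφ, hαdef]
    · simpa [hφ, hαdef] using hα1
    · simpa [hφ, hαdef] using hα2
  have hα : ∀ i, Q.1 (φ i / φ 0 - algebraMap k K (α i)) < 1 := by
    intro i
    have : φ 0 = 1 := by simp [hφ]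
    rw [this, div_one]
    exact hα' i
  have hj : ∀ i, Q.1 (φ i) ≤ Q.1 (φ 0) := by
    intro i
    fin_cases i
    · simp
    · simpa [hφ] using hQx
    · simpa [hφ] using hQy
  -- the Jacobian criterion
  have hex : ∃ l, eval α (pderiv l G) ≠ 0 := by
    by_contra hall
    push Not at hall
    exact Groth.Agent.Lib.LeadKP.singular_of_pderiv_eq_zero hK φ hlin G hGirr hhom hGxy Q 0 hj α hα
      hall hns
  -- the point lies on the curve
  have hGα : eval α G = 0 := by
    by_contra hne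
    have h1 := Groth.Agent.Lib.LeadKP.val_aeval_sub_lt_one Q φ α hα' G
    rw [hGxy, zero_sub, Valuation.map_neg, Groth.Agent.Lib.LeadFF.place_trivOn Q _ hne] at h1
    exact lt_irrefl _ h1
  -- Euler
  have heul : eval α (pderiv 0 G) + α1 * eval α (pderiv 1 G) + α2 * eval α (pderiv 2 G) = 0 := by
    have h := congrArg (eval α) hG.sum_X_mul_pderiv
    rw [map_sum, Fin.sum_univ_three] at h
    simp only [map_mul, eval_X, map_nsmul, hGα, smul_zero] at h
    simpa [hαdef] using h
  -- vanishing of `D` of the relation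
  have hK1 := Groth.Agent.Lib.LeadPC.deriv_aeval (KaehlerDifferential.D k K) φ G
  rw [hGxy, map_zero, Fin.sum_univ_three] at hK1
  have hφ0 : φ 0 = 1 := by simp [hφ]
  have hφ1 : φ 1 = x := by simp [hφ]
  have hφ2 : φ 2 = y := by simp [hφ]
  rw [hφ0, hφ1, hφ2, Derivation.map_one_eq_zero, smul_zero, zero_add] at hK1
  have hv0 : 0 ≤ LocRes.ordDiff ΦQ 1 x := by
    have h1 : Valued.v (LocRes.D k (ΦQ x)) ≤ 1 := val_D_le_one (by rw [hΦQ.1]; exact hQx)
    rw [← exp_neg_ordDiff ΦQ x hdΦ, ← exp_zero, exp_le_exp] at h1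
    omega
  by_cases hG2 : eval α (pderiv 2 G) = 0
  · -- then `G₁(α) ≠ 0`
    have hG1 : eval α (pderiv 1 G) ≠ 0 := by
      intro hG1
      rw [hG1, hG2, mul_zero, mul_zero, add_zero, add_zero] at heul
      obtain ⟨l, hl⟩ := hex
      fin_cases l
      · exact hl heul
      · exact hl hG1
      · exact hl hG2
    set γ := aeval φ (pderiv 1 G) with hγdef
    have hγ1 : Q.1 γ = 1 :=
      val_eq_one_of_residue_ne_zero Q hG1
        (Groth.Agent.Lib.LeadKP.val_aeval_sub_lt_one Q φ α hα' (pderiv 1 G))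
    have hγ0 : γ ≠ 0 := by
      intro h0; rw [h0, map_zero] at hγ1; exact zero_ne_one hγ1
    have hDx : KaehlerDifferential.D k K x = (-(δ / γ)) • KaehlerDifferential.D k K y := by
      have h2 : γ • KaehlerDifferential.D k K x = -(δ • KaehlerDifferential.D k K y) :=
        eq_neg_of_add_eq_zero_left hK1.symm
      calc KaehlerDifferential.D k K x = γ⁻¹ • (γ • KaehlerDifferential.D k K x) := by
            rw [smul_smul, inv_mul_cancel₀ hγ0, one_smul]
        _ = (-(δ / γ)) • KaehlerDifferential.D k K y := by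
            rw [h2, smul_neg, smul_smul, neg_smul]
            congr 2
            field_simp
    have hexp := Groth.Agent.Lib.LeadMS.D_expand ΦQ hDx
    have hval : Valued.v (LocRes.D k (ΦQ x)) ≤ Q.1 δ := by
      rw [hexp, map_mul, hΦQ.1, Valuation.map_neg, map_div₀, hγ1, div_one]
      calc Q.1 δ * Valued.v (LocRes.D k (ΦQ y)) ≤ Q.1 δ * 1 :=
            mul_le_mul' le_rfl (val_D_le_one (by rw [hΦQ.1]; exact hQy))
        _ = Q.1 δ := mul_one _
    rw [← exp_neg_ordDiff ΦQ x hdΦ, Groth.Agent.Lib.LeadFF.val_eq_exp_neg_ord Q hδ, exp_le_exp]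
      at hval
    omega
  · have hδ1 : Q.1 δ = 1 :=
      val_eq_one_of_residue_ne_zero Q hG2
        (Groth.Agent.Lib.LeadKP.val_aeval_sub_lt_one Q φ α hα' (pderiv 2 G))
    have : Q.ord δ = 0 := by
      unfold Place.ord
      rw [hδ1, log_one, neg_zero]
    rw [this]
    exact hv0

end Groth.Agent.Lib.LeadAdj
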