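import Groth.Agent.Lib.LeadAdjB
import Groth.Agent.Lib.LeadAdjD
import Groth.Agent.Lib.LeadAdjE

set_option autoImplicit false
set_option maxHeartbeats 400000
set_option linter.style.haveILetI false
set_option linter.unusedSectionVars false
set_option linter.unusedVariables false

/-! The normalized statement: for a plane model `G(1, x, y) = 0` with `y` integral of the right
degree over `k[x]`, at a finite place `ord (dx) ≤ ord G₂(1, x, y)` with equality exactly at the
nonsingular places. -/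

namespace Groth.Agent.Lib.LeadAdj

open FunFld WithZero IntermediateField MvPolynomial

universe u v
variable {k : Type u} {K : Type v} [Field k] [Field K] [Algebra k K]

lemma adjoin_simple_top_of_pair {x y : K}
    (hgen : IntermediateField.adjoin k ({x, y} : Set K) = ⊤) :
    IntermediateField.adjoin k⟮x⟯ ({y} : Set K) = ⊤ := by
  apply IntermediateField.restrictScalars_injective k
  rw [IntermediateField.adjoin_adjoin_left, IntermediateField.restrictScalars_top, ← hgen,
    Set.singleton_union]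

lemma linearIndependent_of_finrank {x y : K} (hxk : x ∉ Set.range (algebraMap k K))
    (hy : IntermediateField.adjoin k⟮x⟯ ({y} : Set K) = ⊤)
    (hfr : 2 ≤ Module.finrank k⟮x⟯ K) : LinearIndependent k ![(1 : K), x, y] := by
  rw [Fintype.linearIndependent_iff]
  intro g hg
  rw [Fin.sum_univ_three] at hg
  simp only [Matrix.cons_val_zero, Matrix.cons_val_one, Matrix.cons_val_two, Matrix.tail_cons,
    Matrix.head_cons, Algebra.smul_def, mul_one] at hg
  have hg2 : g 2 = 0 := by
    by_contra h2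
    have h2' : algebraMap k K (g 2) ≠ 0 := by
      rw [Ne, map_eq_zero_iff _ (algebraMap k K).injective]; exact h2
    have hyx : y = algebraMap k⟮x⟯ K
        (-(algebraMap k k⟮x⟯ (g 0) + algebraMap k k⟮x⟯ (g 1) * AdjoinSimple.gen k x) /
          algebraMap k k⟮x⟯ (g 2)) := by
      rw [map_div₀, map_neg, map_add, map_mul, AdjoinSimple.algebraMap_gen,
        ← IsScalarTower.algebraMap_apply, ← IsScalarTower.algebraMap_apply,
        ← IsScalarTower.algebraMap_apply, eq_div_iff h2']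
      linear_combination hg
    have hbot : IntermediateField.adjoin k⟮x⟯ ({y} : Set K) = ⊥ := by
      rw [IntermediateField.adjoin_simple_eq_bot_iff, IntermediateField.mem_bot]
      exact ⟨_, hyx.symm⟩
    rw [hbot] at hy
    have := IntermediateField.bot_eq_top_iff_finrank_eq_one.mp hy
    omega
  rw [hg2, map_zero, zero_mul, add_zero] at hg
  have hg1 : g 1 = 0 := by
    by_contra h1
    have h1' : algebraMap k K (g 1) ≠ 0 := by
      rw [Ne, map_eq_zero_iff _ (algebraMap k K).injective]; exact h1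
    apply hxk
    refine ⟨-(g 0) / g 1, ?_⟩
    rw [map_div₀, map_neg, div_eq_iff h1']
    linear_combination -hg
  rw [hg1, map_zero, zero_mul, add_zero, map_eq_zero_iff _ (algebraMap k K).injective] at hg
  intro i
  fin_cases i
  · exact hg
  · exact hg1
  · exact hg2

lemma ordDiff_nonneg {x : K} (Q : Place k K) (hQx : Q.1 x ≤ 1)
    (ΦQ : K →ₐ[k] LaurentSeries k) (hΦQ : LocRes.IsExpansionAt Q.1 ΦQ)
    (hdΦ : LocRes.D k (ΦQ x) ≠ 0) : 0 ≤ LocRes.ordDiff ΦQ 1 x := by
  have h1 : Valued.v (LocRes.D k (ΦQ x)) ≤ 1 := val_D_le_one (by rw [hΦQ.1]; exact hQx)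
  rw [← exp_neg_ordDiff ΦQ x hdΦ, ← exp_zero, exp_le_exp] at h1
  omega

theorem normalized [IsAlgClosed k] (hK : IsFunctionField k K) (x y : K)
    (G : MvPolynomial (Fin 3) k) (d : ℕ) (hG : G.IsHomogeneous d) (hGirr : Irreducible G)
    (hGxy : aeval ![(1 : K), x, y] G = 0)
    (hc : G.coeff (Finsupp.single 2 d) ≠ 0)
    (hδ : aeval ![(1 : K), x, y] (pderiv 2 G) ≠ 0)
    (hdx : KaehlerDifferential.D k K x ≠ 0)
    (hgen : IntermediateField.adjoin k ({x, y} : Set K) = ⊤)
    (hdeg : (mapDiv k ![(1 : K), x, y]).deg = d)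
    (Q : Place k K) (hQx : Q.1 x ≤ 1)
    (ΦQ : K →ₐ[k] LaurentSeries k) (hΦQ : LocRes.IsExpansionAt Q.1 ΦQ) :
    LocRes.ordDiff ΦQ 1 x ≤ Q.ord (aeval ![(1 : K), x, y] (pderiv 2 G)) ∧
    (Q.ord (aeval ![(1 : K), x, y] (pderiv 2 G)) = LocRes.ordDiff ΦQ 1 x ↔
      IsNonsingularAt ![(1 : K), x, y] Q) := by
  classical
  have hg := Groth.Agent.Lib.LeadMS.isGeometric_of_isAlgClosed k K
  obtain ⟨hxt, hsep⟩ := Groth.Agent.Lib.LeadWD.sep_of_D_ne_zero hK hg hdx
  haveI : FiniteDimensional k⟮x⟯ K := Groth.Agent.Lib.LeadFF.finite_over_adjoin hK hxt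
  have hdomP : ∀ P : Place k K, P.1 y ≤ max 1 (P.1 x) := by
    intro P
    have := val_le_of_homog P hG hc ![(1 : K), x, y] hGxy
    simpa using this
  have hdom : ∀ Q' : Place k K, Q'.1 x ≤ 1 → Q'.1 y ≤ 1 :=
    fun Q' h => (hdomP Q').trans (max_le le_rfl h)
  have hx0 : x ≠ 0 := fun h => hxt (h ▸ isAlgebraic_zero)
  have hxk : x ∉ Set.range (algebraMap k K) := by
    rintro ⟨c, rfl⟩
    exact hxt (isAlgebraic_algebraMap c)
  have hmd := mapDiv_eq_pdiv hK hx0 hdomP
  have hfr : Module.finrank k⟮x⟯ K = d := by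
    have h1 := Groth.Agent.Lib.LeadFF.finrank_adjoin_eq_deg_pdiv hK hxk
    rw [← hmd, hdeg] at h1
    exact_mod_cast h1.symm
  have hy := adjoin_simple_top_of_pair hgen
  have hord := ord_deriv_minpoly hG hc hGxy hy hfr Q
  have hdΦ := Groth.Agent.Lib.LeadWD.D_exp_ne_zero' hK hg hdx Q ΦQ hΦQ
  obtain ⟨h1, h2⟩ := ineq_and_nonsing hK x y hdx hgen hdom Q hQx ΦQ hΦQ
  rw [hord] at h1 h2
  refine ⟨h1, h2, fun hns => le_antisymm ?_ h1⟩
  by_cases hd2 : 2 ≤ d
  · have hlin := linearIndependent_of_finrank hxk hy (by rw [hfr]; exact hd2)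
    exact ord_le_of_nonsing hK x y G d hG hGirr hGxy hδ hlin Q hQx (hdom Q hQx) ΦQ hΦQ hdΦ hns
  · -- degree one: `G₂` is a constant
    have hh : (pderiv 2 G).IsHomogeneous (d - 1) := hG.pderiv
    have hd0 : d - 1 = 0 := by omega
    rw [hd0] at hh
    have htd : (pderiv 2 G).totalDegree = 0 := Nat.le_zero.mp hh.totalDegree_le
    rw [totalDegree_eq_zero_iff_eq_C.mp htd] at hδ ⊢
    rw [aeval_C] at hδ ⊢
    have hc0 : coeff 0 (pderiv 2 G) ≠ 0 := by
      intro h0
      rw [h0, map_zero] at hδ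
      exact hδ rfl
    have : Q.ord (algebraMap k K (coeff 0 (pderiv 2 G))) = 0 := by
      unfold Place.ord
      rw [Groth.Agent.Lib.LeadFF.place_trivOn Q _ hc0, log_one, neg_zero]
    rw [this]
    exact ordDiff_nonneg Q hQx ΦQ hΦQ hdΦ

end Groth.Agent.Lib.LeadAdj
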