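import Groth.Agent.Lib.LeadIMd
import Groth.Agent.Lib.LeadKP3

set_option autoImplicit false
set_option maxHeartbeats 800000
set_option linter.style.haveILetI false
set_option linter.unusedSectionVars false
set_option linter.unusedVariables false

/-! Intersection multiplicity at a point of an affine plane curve as the dimension of
`A/(f, g)`, `A` the local ring of the plane at the point. -/

namespace Groth.Agent.Lib.LeadIM

open FunFld WithZero MvPolynomial Groth.Agent.Lib.LeadFF

variable {k K : Type*} [Field k] [Field K] [Algebra k K]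

lemma val_aeval_sub_eval_lt {ι : Type*} (r : ι → K) (c : ι → k) (Q : Place k K)
    (hQ : ∀ i, Q.1 (r i - algebraMap k K (c i)) < 1) (h : MvPolynomial ι k) :
    Q.1 (aeval r h - algebraMap k K (eval c h)) < 1 := by
  have hr : ∀ i, Q.1 (r i) ≤ 1 := by
    intro i
    have : r i = (r i - algebraMap k K (c i)) + algebraMap k K (c i) := by ring
    rw [this]
    exact (Q.1.map_add _ _).trans (max_le (hQ i).le (Q.2.1 _))
  induction h using MvPolynomial.induction_on with
  | C a => simp
  | add p q hp hq =>
    have : aeval r (p + q) - algebraMap k K (eval c (p + q)) =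
        (aeval r p - algebraMap k K (eval c p)) + (aeval r q - algebraMap k K (eval c q)) := by
      rw [map_add, map_add, map_add]; ring
    rw [this]
    exact lt_of_le_of_lt (Q.1.map_add _ _) (max_lt hp hq)
  | mul_X p i hp =>
    have : aeval r (p * X i) - algebraMap k K (eval c (p * X i)) =
        (aeval r p - algebraMap k K (eval c p)) * r i +
          algebraMap k K (eval c p) * (r i - algebraMap k K (c i)) := by
      rw [map_mul, map_mul, aeval_X, eval_X, map_mul]; ring
    rw [this]
    refine lt_of_le_of_lt (Q.1.map_add _ _) (max_lt ?_ ?_)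
    · rw [map_mul]
      calc Q.1 (aeval r p - algebraMap k K (eval c p)) * Q.1 (r i)
          ≤ Q.1 (aeval r p - algebraMap k K (eval c p)) * 1 := mul_le_mul' le_rfl (hr i)
        _ < 1 := by rw [mul_one]; exact hp
    · rw [map_mul]
      calc Q.1 (algebraMap k K (eval c p)) * Q.1 (r i - algebraMap k K (c i))
          ≤ 1 * Q.1 (r i - algebraMap k K (c i)) := mul_le_mul' (Q.2.1 _) le_rfl
        _ < 1 := by rw [one_mul]; exact hQ i

lemma mem_maximal_iff (c : Fin 2 → k) (M : Ideal (MvPolynomial (Fin 2) k)) [hMm : M.IsMaximal]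
    (hM : M = Ideal.span {X 0 - C (c 0), X 1 - C (c 1)}) (h : MvPolynomial (Fin 2) k) :
    h ∈ M ↔ eval c h = 0 := by
  have hle : M ≤ RingHom.ker (eval c) := by
    rw [hM, Ideal.span_le]
    rintro _ (rfl | rfl) <;> simp [RingHom.mem_ker]
  have hne : RingHom.ker (eval c) ≠ ⊤ := RingHom.ker_ne_top _
  have := hMm.eq_of_le hne hle
  rw [this, RingHom.mem_ker]

lemma sameImage_iff_pt [IsAlgClosed k] (hK : IsFunctionField k K) (x y : K) (P Q : Place k K)
    (c : Fin 2 → k) (hc : ∀ i, P.1 (![x, y] i - algebraMap k K (c i)) < 1) :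
    SameImage ![(1 : K), x, y] P Q ↔ ∀ i, Q.1 (![x, y] i - algebraMap k K (c i)) < 1 := by
  have hle : ∀ (R : Place k K), (∀ i, R.1 (![x, y] i - algebraMap k K (c i)) < 1) →
      ∀ i, R.1 (![(1 : K), x, y] i) ≤ R.1 (![(1 : K), x, y] 0) := by
    intro R hR i
    have h1 : ∀ i, R.1 (![x, y] i) ≤ 1 := by
      intro i
      have : ![x, y] i = (![x, y] i - algebraMap k K (c i)) + algebraMap k K (c i) := by ring
      rw [this]
      exact (R.1.map_add _ _).trans (max_le (hR i).le (R.2.1 _))
    have h0 : R.1 (![(1 : K), x, y] 0) = 1 := by simp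
    rw [h0]
    fin_cases i
    · simp
    · simpa using h1 0
    · simpa using h1 1
  have hmaxP := hle P hc
  have h10 : ![(1 : K), x, y] 0 ≠ 0 := by simp
  constructor
  · intro hs i
    rw [LeadFF.sameImage_iff hK _ ⟨0, h10⟩] at hs
    have hin : InLocRing ![(1 : K), x, y] P (![x, y] i - algebraMap k K (c i)) := by
      rw [inLocRing_iff _ P 0 h10 hmaxP]
      apply InLoc.of_mem
      refine sub_mem (Algebra.subset_adjoin ⟨i.succ, ?_⟩) (Subalgebra.algebraMap_mem _ _)
      fin_cases i <;> simp
    exact (hs _ hin).2.mpr (hc i)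
  · intro hQ
    refine ⟨0, h10, hmaxP, hle Q hQ, ?_⟩
    intro i
    fin_cases i
    · exact ⟨1, by simp, by simp⟩
    · exact ⟨c 0, by simpa using hc 0, by simpa using hQ 0⟩
    · exact ⟨c 1, by simpa using hc 1, by simpa using hQ 1⟩

instance uniqueNeOne' : Unique {i : Fin 2 // i ≠ 1} where
  default := ⟨0, by decide⟩
  uniq := by
    rintro ⟨i, hi⟩
    fin_cases i
    · rfl
    · exact absurd rfl hi

instance uniqueNeZero' : Unique {i : Fin 2 // i ≠ 0} where
  default := ⟨1, by decide⟩
  uniq := by
    rintro ⟨i, hi⟩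
    fin_cases i
    · exact absurd rfl hi
    · rfl

lemma ker_aeval_eq (hK : IsFunctionField k K) (x y : K)
    (hxy : IntermediateField.adjoin k ({x, y} : Set K) = ⊤) (f : MvPolynomial (Fin 2) k)
    (hf : Irreducible f) (hfxy : aeval ![x, y] f = 0) :
    RingHom.ker (aeval ![x, y] : MvPolynomial (Fin 2) k →ₐ[k] K) = Ideal.span {f} := by
  classical
  rcases LeadKP.transcendental_or hK x y hxy with hx | hy
  · refine LeadKP.ker_eq_span_mv (1 : Fin 2) (aeval ![x, y]) ?_ hf hfxy
    rw [algebraicIndependent_unique_type_iff]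
    show Transcendental k (aeval ![x, y] (X (0 : Fin 2) : MvPolynomial (Fin 2) k))
    rw [aeval_X]
    simpa using hx
  · refine LeadKP.ker_eq_span_mv (0 : Fin 2) (aeval ![x, y]) ?_ hf hfxy
    rw [algebraicIndependent_unique_type_iff]
    show Transcendental k (aeval ![x, y] (X (1 : Fin 2) : MvPolynomial (Fin 2) k))
    rw [aeval_X]
    simpa using hy

end Groth.Agent.Lib.LeadIM
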