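import Groth.Agent.Lib.LeadKP3
import Groth.Agent.Lib.LeadIMe
import Groth.Agent.Lib.LeadPC2
import Groth.Agent.Lib.LeadPD4

set_option autoImplicit false
set_option maxHeartbeats 400000
set_option linter.style.haveILetI false
set_option linter.unusedSectionVars false
set_option linter.unusedVariables false

/-! The homogenization of the irreducible affine equation of a plane model is irreducible, and its
`X₂`-derivative dehomogenizes to `f_y`. Linear substitutions preserve irreducibility. -/

namespace Groth.Agent.Lib.LeadAdj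

open FunFld MvPolynomial Groth.Agent.Lib.LeadKP

universe u v
variable {k : Type u} {K : Type v} [Field k] [Field K] [Algebra k K]

/-- substitution by polynomials of degree at most one does not raise the total degree. -/
lemma totalDegree_aeval_le {τ : Type*} (v : Fin 3 → MvPolynomial τ k)
    (hv : ∀ i, (v i).totalDegree ≤ 1) (p : MvPolynomial (Fin 3) k) :
    (aeval v p).totalDegree ≤ p.totalDegree := by
  rw [aeval_def, eval₂_eq']
  apply totalDegree_finsetSum_le
  intro s hs
  have hs' := le_totalDegree hs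
  rw [Finsupp.sum_fintype _ _ (fun _ => rfl), Fin.sum_univ_three] at hs'
  rw [Fin.prod_univ_three]
  have h0 : (algebraMap k (MvPolynomial τ k) (p.coeff s)).totalDegree = 0 := by
    rw [MvPolynomial.algebraMap_eq, totalDegree_C]
  have hp : ∀ i, ((v i) ^ s i).totalDegree ≤ s i := by
    intro i
    refine (totalDegree_pow _ _).trans ?_
    calc s i * (v i).totalDegree ≤ s i * 1 := Nat.mul_le_mul_left _ (hv i)
      _ = s i := mul_one _
  refine (totalDegree_mul _ _).trans ?_
  have h1 := totalDegree_mul (v 0 ^ s 0 * v 1 ^ s 1) (v 2 ^ s 2)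
  have h2 := totalDegree_mul (v 0 ^ s 0) (v 1 ^ s 1)
  have := hp 0
  have := hp 1
  have := hp 2
  omega

lemma exists_eval_ne_zero [Infinite k] {σ : Type*} {p : MvPolynomial σ k} (hp : p ≠ 0) :
    ∃ a : σ → k, eval a p ≠ 0 := by
  by_contra h
  push Not at h
  apply hp
  apply MvPolynomial.funext
  intro a
  rw [h a, map_zero]

/-- the dehomogenization `X₀ ↦ 1`. -/
noncomputable def dehom : MvPolynomial (Fin 3) k →ₐ[k] MvPolynomial (Fin 2) k :=
  aeval ![1, X 0, X 1]

lemma eval_dehom (a : Fin 2 → k) (H : MvPolynomial (Fin 3) k) :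
    eval a (dehom H) = eval ![1, a 0, a 1] H := by
  have h : ((aeval a : MvPolynomial (Fin 2) k →ₐ[k] k).comp dehom) =
      (aeval ![1, a 0, a 1] : MvPolynomial (Fin 3) k →ₐ[k] k) := by
    apply MvPolynomial.algHom_ext
    intro i
    fin_cases i <;> simp [dehom]
  have := DFunLike.congr_fun h H
  simpa [coe_aeval_eq_eval] using this

lemma aeval_dehom (x y : K) (H : MvPolynomial (Fin 3) k) :
    aeval ![x, y] (dehom H) = aeval ![(1 : K), x, y] H := by
  have h : ((aeval ![x, y] : MvPolynomial (Fin 2) k →ₐ[k] K).comp dehom) =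
      (aeval ![(1 : K), x, y] : MvPolynomial (Fin 3) k →ₐ[k] K) := by
    apply MvPolynomial.algHom_ext
    intro i
    fin_cases i <;> simp [dehom]
  exact DFunLike.congr_fun h H

lemma totalDegree_dehom_le (H : MvPolynomial (Fin 3) k) :
    (dehom H).totalDegree ≤ H.totalDegree := by
  apply totalDegree_aeval_le
  intro i
  fin_cases i
  · simp
  · simp
  · simp

lemma dehom_ne_zero [Infinite k] {H : MvPolynomial (Fin 3) k} {m : ℕ} (hH : H.IsHomogeneous m)
    (h0 : H ≠ 0) : dehom H ≠ 0 := by
  have hX : (X 0 : MvPolynomial (Fin 3) k) * H ≠ 0 := mul_ne_zero (X_ne_zero 0) h0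
  obtain ⟨a, ha⟩ := exists_eval_ne_zero hX
  rw [map_mul, eval_X] at ha
  have ha0 : a 0 ≠ 0 := left_ne_zero_of_mul ha
  have hHa : eval a H ≠ 0 := right_ne_zero_of_mul ha
  set b : Fin 3 → k := ![1, a 1 / a 0, a 2 / a 0] with hb
  have hab : a = fun i => a 0 * b i := by
    funext i
    fin_cases i
    · simp [hb]
    · simp [hb]; field_simp
    · simp [hb]; field_simp
  have h1 := Groth.Agent.Lib.LeadPC.aeval_smul_of_homog H m hH (a 0) b
  rw [← hab] at h1
  have h2 : eval b H ≠ 0 := by
    intro h3
    apply hHa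
    have : eval a H = a 0 ^ m * eval b H := h1
    rw [this, h3, mul_zero]
  intro hd
  apply h2
  have := eval_dehom ![a 1 / a 0, a 2 / a 0] H
  rw [hd, map_zero] at this
  simpa [hb] using this.symm

end Groth.Agent.Lib.LeadAdj
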