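import Groth.Agent.Lib.LeadAdjG

set_option autoImplicit false
set_option maxHeartbeats 400000
set_option linter.style.haveILetI false
set_option linter.unusedSectionVars false
set_option linter.unusedVariables false

/-! The homogenization `F` of the affine equation `f`: `F(1, x, y) = 0`, `F₂(1, x, y) = f_y(x, y)`,
and `F` is irreducible. -/

namespace Groth.Agent.Lib.LeadAdj

open FunFld MvPolynomial Groth.Agent.Lib.LeadKP

universe u v
variable {k : Type u} {K : Type v} [Field k] [Field K] [Algebra k K]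

/-- the homogenization of `f(X₁, X₂)` in degree `totalDegree f`. -/
noncomputable def homF (f : MvPolynomial (Fin 2) k) : MvPolynomial (Fin 3) k :=
  hom 0 (rename Fin.succ f) f.totalDegree

lemma homF_isHomogeneous (f : MvPolynomial (Fin 2) k) : (homF f).IsHomogeneous f.totalDegree :=
  hom_isHomogeneous _ _ _

/-- the substitution `X₀ ↦ 1` within three variables. -/
noncomputable def psi : MvPolynomial (Fin 3) k →ₐ[k] MvPolynomial (Fin 3) k :=
  aeval (fun i => if i = 0 then 1 else X i)

lemma psi_rename (q : MvPolynomial (Fin 2) k) : psi (rename Fin.succ q) = rename Fin.succ q := by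
  rw [psi, aeval_rename]
  have : ((fun i : Fin 3 => if i = 0 then (1 : MvPolynomial (Fin 3) k) else X i) ∘ Fin.succ) =
      fun i => X (Fin.succ i) := by
    funext i
    simp [Fin.succ_ne_zero]
  rw [this]
  rw [← aeval_X_left_apply (rename Fin.succ q), aeval_rename]
  rfl

lemma psi_homF (f : MvPolynomial (Fin 2) k) : psi (homF f) = rename Fin.succ f := by
  have h1 : psi (hom 0 (rename Fin.succ f) f.totalDegree) = psi (rename Fin.succ f) :=
    map_hom 0 _ (totalDegree_rename_le _ _) psi (by simp [psi])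
  rw [homF, h1, psi_rename]

lemma aeval_psi (x y : K) (H : MvPolynomial (Fin 3) k) :
    aeval ![(1 : K), x, y] (psi H) = aeval ![(1 : K), x, y] H := by
  have h : ((aeval ![(1 : K), x, y] : MvPolynomial (Fin 3) k →ₐ[k] K).comp psi) =
      aeval ![(1 : K), x, y] := by
    apply MvPolynomial.algHom_ext
    intro i
    fin_cases i <;> simp [psi]
  exact DFunLike.congr_fun h H

lemma aeval_rename_succ (x y : K) (q : MvPolynomial (Fin 2) k) :
    aeval ![(1 : K), x, y] (rename Fin.succ q) = aeval ![x, y] q := by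
  rw [aeval_rename]
  congr 1

lemma aeval_homF (x y : K) (f : MvPolynomial (Fin 2) k) :
    aeval ![(1 : K), x, y] (homF f) = aeval ![x, y] f := by
  rw [← aeval_psi, psi_homF, aeval_rename_succ]

lemma pderiv_psi (H : MvPolynomial (Fin 3) k) : pderiv 2 (psi H) = psi (pderiv 2 H) := by
  classical
  have := Groth.Agent.Lib.LeadPC.deriv_aeval (pderiv (2 : Fin 3))
    (fun i : Fin 3 => if i = 0 then (1 : MvPolynomial (Fin 3) k) else X i) H
  rw [Fin.sum_univ_three] at this
  simp only [if_true, Fin.isValue, one_ne_zero, if_false, Derivation.map_one_eq_zero, smul_zero,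
    zero_add, pderiv_X, Pi.single_apply] at this
  rw [psi, this]
  simp

lemma aeval_pderiv_homF (x y : K) (f : MvPolynomial (Fin 2) k) :
    aeval ![(1 : K), x, y] (pderiv 2 (homF f)) = aeval ![x, y] (pderiv 1 f) := by
  rw [← aeval_psi, ← pderiv_psi, psi_homF]
  have h2 : (2 : Fin 3) = Fin.succ 1 := rfl
  rw [h2, pderiv_rename (Fin.succ_injective 2), aeval_rename_succ]

lemma homF_ne_zero {f : MvPolynomial (Fin 2) k} (hf : f ≠ 0) : homF f ≠ 0 := by
  intro h0
  have := psi_homF f
  rw [h0, map_zero] at this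
  apply hf
  apply rename_injective Fin.succ (Fin.succ_injective 2)
  rw [← this, map_zero]

theorem irreducible_homF [IsAlgClosed k] (hK : IsFunctionField k K) (x y : K)
    (hxy : IntermediateField.adjoin k ({x, y} : Set K) = ⊤) (f : MvPolynomial (Fin 2) k)
    (hf : Irreducible f) (hfxy : aeval ![x, y] f = 0) : Irreducible (homF f) := by
  haveI : Infinite k := IsAlgClosed.instInfinite
  obtain ⟨F₀, hF₀irr, hF₀hom, hker⟩ := plane_ker_principal hK x y hxy
  set F := homF f with hFdef
  set d := f.totalDegree with hd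
  have hFhom : F.IsHomogeneous d := homF_isHomogeneous f
  have hF0 : F ≠ 0 := homF_ne_zero hf.ne_zero
  have hFd : F.totalDegree = d := hFhom.totalDegree hF0
  have hFker : F ∈ RingHom.ker (gev (k := k) ![(1 : K), x, y]) := by
    rw [RingHom.mem_ker, gev_eq_zero_iff_of_homog _ hFhom, aeval_homF, hfxy]
  rw [hker, Ideal.mem_span_singleton] at hFker
  obtain ⟨H, hH⟩ := hFker
  have hF₀0 := hF₀irr.ne_zero
  have hH0 : H ≠ 0 := by
    rintro rfl
    rw [mul_zero] at hH
    exact hF0 hH
  have hdeg : d = F₀.totalDegree + H.totalDegree := by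
    rw [← hFd, hH, totalDegree_mul_of_isDomain hF₀0 hH0]
  have hF₀ker : aeval ![(1 : K), x, y] F₀ = 0 := by
    have : F₀ ∈ RingHom.ker (gev (k := k) ![(1 : K), x, y]) := by
      rw [hker]; exact Ideal.mem_span_singleton_self _
    rwa [RingHom.mem_ker, gev_eq_zero_iff_of_homog _ hF₀hom] at this
  have hdh : dehom F₀ ∈ RingHom.ker (aeval ![x, y] : MvPolynomial (Fin 2) k →ₐ[k] K) := by
    rw [RingHom.mem_ker, aeval_dehom, hF₀ker]
  rw [Groth.Agent.Lib.LeadIM.ker_aeval_eq hK x y hxy f hf hfxy, Ideal.mem_span_singleton] at hdh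
  obtain ⟨q, hq⟩ := hdh
  have hd0 : dehom F₀ ≠ 0 := dehom_ne_zero hF₀hom hF₀0
  have hq0 : q ≠ 0 := by
    rintro rfl
    rw [mul_zero] at hq
    exact hd0 hq
  have h1 : d ≤ (dehom F₀).totalDegree := by
    rw [hq, totalDegree_mul_of_isDomain hf.ne_zero hq0]
    omega
  have h2 := totalDegree_dehom_le F₀
  have hHd : H.totalDegree = 0 := by omega
  rw [totalDegree_eq_zero_iff_eq_C.mp hHd] at hH hH0
  rw [hH]
  refine (irreducible_mul_isUnit ?_).mpr hF₀irr
  apply IsUnit.map
  rw [isUnit_iff_ne_zero]
  intro hc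
  apply hH0
  rw [hc, map_zero]

end Groth.Agent.Lib.LeadAdj
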