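import Groth.Agent.Lib.LeadAdjH
import Groth.Agent.Lib.LeadAdjC

set_option autoImplicit false
set_option maxHeartbeats 400000
set_option linter.style.haveILetI false
set_option linter.unusedSectionVars false
set_option linter.unusedVariables false

/-! Linear substitutions in three variables: irreducibility, homogeneity, the `X₂ ^ d`
coefficient, and the choice of a centre of projection. -/

namespace Groth.Agent.Lib.LeadAdj

open FunFld MvPolynomial Groth.Agent.Lib.LeadKP Groth.Agent.Lib.LeadPC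

universe u v
variable {k : Type u} {K : Type v} [Field k] [Field K] [Algebra k K]

lemma aeval_lin_comp (A B : Matrix (Fin 3) (Fin 3) k) (i : Fin 3) :
    aeval (lin A) (lin B i) = lin (B * A) i := by
  simp only [lin, map_sum, map_mul, aeval_C, aeval_X, Matrix.mul_apply, MvPolynomial.algebraMap_eq]
  simp_rw [Finset.mul_sum, Finset.sum_mul]
  rw [Finset.sum_comm]
  refine Finset.sum_congr rfl fun l _ => Finset.sum_congr rfl fun j _ => ?_
  ring

lemma lin_one (i : Fin 3) : lin (1 : Matrix (Fin 3) (Fin 3) k) i = X i := by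
  classical
  simp [lin, Matrix.one_apply, Finset.sum_ite_eq]

/-- the automorphism of `k[X₀, X₁, X₂]` given by an invertible matrix. -/
noncomputable def linEquiv (A : Matrix (Fin 3) (Fin 3) k) (hA : A.det ≠ 0) :
    MvPolynomial (Fin 3) k ≃ₐ[k] MvPolynomial (Fin 3) k :=
  AlgEquiv.ofAlgHom (aeval (lin A)) (aeval (lin A⁻¹))
    (by
      apply MvPolynomial.algHom_ext
      intro i
      rw [AlgHom.comp_apply, aeval_X, aeval_lin_comp,
        Matrix.nonsing_inv_mul _ (isUnit_iff_ne_zero.mpr hA), lin_one]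
      rfl)
    (by
      apply MvPolynomial.algHom_ext
      intro i
      rw [AlgHom.comp_apply, aeval_X, aeval_lin_comp,
        Matrix.mul_nonsing_inv _ (isUnit_iff_ne_zero.mpr hA), lin_one]
      rfl)

lemma irreducible_aeval_lin (A : Matrix (Fin 3) (Fin 3) k) (hA : A.det ≠ 0)
    {F : MvPolynomial (Fin 3) k} (hF : Irreducible F) : Irreducible (aeval (lin A) F) :=
  (MulEquiv.irreducible_iff (linEquiv A hA).toMulEquiv).mpr hF

lemma lin_isHomogeneous (A : Matrix (Fin 3) (Fin 3) k) (i : Fin 3) :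
    (lin A i).IsHomogeneous 1 :=
  IsHomogeneous.sum _ _ _ (fun j _ => isHomogeneous_C_mul_X _ _)

lemma aeval_lin_isHomogeneous (A : Matrix (Fin 3) (Fin 3) k) {F : MvPolynomial (Fin 3) k} {d : ℕ}
    (hF : F.IsHomogeneous d) : (aeval (lin A) F).IsHomogeneous d := by
  have := hF.aeval (lin A) (lin_isHomogeneous A)
  rwa [one_mul] at this

lemma coeff_aeval_lin (A : Matrix (Fin 3) (Fin 3) k) {F : MvPolynomial (Fin 3) k} {d : ℕ}
    (hF : F.IsHomogeneous d) :
    (aeval (lin A) F).coeff (Finsupp.single 2 d) = eval (fun i => A i 2) F := by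
  rw [← eval_e2 (aeval_lin_isHomogeneous A hF)]
  have h : ((aeval ![0, 0, 1] : MvPolynomial (Fin 3) k →ₐ[k] k).comp (aeval (lin A))) =
      aeval (fun i => A i 2) := by
    apply MvPolynomial.algHom_ext
    intro i
    simp [lin, Fin.sum_univ_three]
  exact DFunLike.congr_fun h F

lemma aeval_aeval_lin (A : Matrix (Fin 3) (Fin 3) k) (w : Fin 3 → K)
    (F : MvPolynomial (Fin 3) k) :
    aeval w (aeval (lin A) F) = aeval (fun i => ∑ j, algebraMap k K (A i j) * w j) F := by
  have h : ((aeval w : MvPolynomial (Fin 3) k →ₐ[k] K).comp (aeval (lin A))) =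
      aeval (fun i => ∑ j, algebraMap k K (A i j) * w j) := by
    apply MvPolynomial.algHom_ext
    intro i
    rw [AlgHom.comp_apply, aeval_X, aeval_X, aeval_lin]
  exact DFunLike.congr_fun h F

/-- a centre of projection off the curve, off the line `X₂ = 0`, with nonvanishing polar. -/
theorem exists_center [IsAlgClosed k] (F : MvPolynomial (Fin 3) k) (hF0 : F ≠ 0)
    (c : Fin 3 → K) (hc2 : c 2 ≠ 0) :
    ∃ p : Fin 3 → k, p 2 ≠ 0 ∧ eval p F ≠ 0 ∧ ∑ i, c i * algebraMap k K (p i) ≠ 0 := by
  haveI : Infinite k := IsAlgClosed.instInfinite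
  obtain ⟨θ, hθ⟩ := Module.Projective.exists_dual_ne_zero k hc2
  set Λ : MvPolynomial (Fin 3) k := ∑ i, C (θ (c i)) * X i with hΛ
  have hΛ0 : Λ ≠ 0 := by
    intro h0
    have := congrArg (eval ![0, 0, 1]) h0
    simp [hΛ, Fin.sum_univ_three] at this
    exact hθ this
  obtain ⟨p, hp⟩ := exists_eval_ne_zero (mul_ne_zero (mul_ne_zero (X_ne_zero 2) hΛ0) hF0)
  rw [map_mul, map_mul, eval_X] at hp
  refine ⟨p, left_ne_zero_of_mul (left_ne_zero_of_mul hp), right_ne_zero_of_mul hp, ?_⟩
  have hΛp : eval p Λ ≠ 0 := right_ne_zero_of_mul (left_ne_zero_of_mul hp)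
  intro h0
  apply hΛp
  have := congrArg θ h0
  rw [map_zero, map_sum] at this
  simp only [hΛ, map_sum, map_mul, eval_C, eval_X]
  rw [← this]
  refine Finset.sum_congr rfl fun i _ => ?_
  rw [mul_comm (c i), ← Algebra.smul_def, map_smul, smul_eq_mul, mul_comm]

end Groth.Agent.Lib.LeadAdj
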