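import Groth.Agent.Lib.LeadAdjF
import Groth.Agent.Lib.LeadAdjI
import Groth.Agent.Lib.LeadWD7
import Groth.Agent.Lib.LeadPN9

set_option autoImplicit false
set_option maxHeartbeats 400000
set_option linter.style.haveILetI false
set_option linter.unusedSectionVars false
set_option linter.unusedVariables false

/-! Reduction of the adjoint-coefficient statement to the normalized one by a projective change of
coordinates (S12616). -/

namespace Groth.Agent.Lib.LeadAdj

open FunFld WithZero MvPolynomial Groth.Agent.Lib.LeadPC Groth.Agent.Lib.LeadWD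
  Groth.Agent.Lib.LeadFF

universe u v
variable {k : Type u} {K : Type v} [Field k] [Field K] [Algebra k K]

lemma divDiff_apply_gen [IsAlgClosed k] (hK : IsFunctionField k K) {a x : K} (ha : a ≠ 0)
    (hD : KaehlerDifferential.D k K x ≠ 0)
    (Φ : Place k K → (K →ₐ[k] LaurentSeries k))
    (hΦ : ∀ P : Place k K, LocRes.IsExpansionAt P.1 (Φ P)) (Q : Place k K) :
    divDiff Φ a x Q = LocRes.ordDiff (Φ Q) a x := by
  have hg := Groth.Agent.Lib.LeadMS.isGeometric_of_isAlgClosed k K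
  rw [divDiff_eq hK ha hD Φ hΦ, Finsupp.add_apply, divDiff_apply' hK hD Φ hΦ, div_apply hK,
    ordDiff_mul Q (Φ Q) (hΦ Q) ha (D_exp_ne_zero' hK hg hD Q (Φ Q) (hΦ Q))]

lemma nonsing_iff_of_change (A : Matrix (Fin 3) (Fin 3) k) (hA : A.det ≠ 0) (v u : Fin 3 → K)
    (hu : ∀ i, ∑ j, algebraMap k K (A i j) * u j = v i) (hu0 : u 0 ≠ 0) (Q : Place k K) :
    IsNonsingularAt v Q ↔ IsNonsingularAt (fun i => (u 0)⁻¹ * u i) Q := by
  classical
  have hspan : Submodule.span k (Set.range v) = Submodule.span k (Set.range u) := by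
    apply le_antisymm
    · rw [Submodule.span_le]
      rintro _ ⟨i, rfl⟩
      rw [← hu i]
      refine Submodule.sum_mem _ fun j _ => ?_
      rw [← Algebra.smul_def]
      exact Submodule.smul_mem _ _ (Submodule.subset_span ⟨j, rfl⟩)
    · rw [Submodule.span_le]
      rintro _ ⟨l, rfl⟩
      have hinv : A⁻¹ * A = 1 := Matrix.nonsing_inv_mul A (isUnit_iff_ne_zero.mpr hA)
      have hul : u l = ∑ i, A⁻¹ l i • v i := by
        calc u l = ∑ j, (1 : Matrix (Fin 3) (Fin 3) k) l j • u j := by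
              simp [Matrix.one_apply, Finset.sum_ite_eq]
          _ = ∑ j, (∑ i, A⁻¹ l i * A i j) • u j := by
              rw [← hinv]; rfl
          _ = ∑ i, A⁻¹ l i • v i := by
              simp_rw [← hu, Finset.smul_sum, Finset.sum_smul, mul_smul, ← Algebra.smul_def]
              rw [Finset.sum_comm]
      rw [SetLike.mem_coe, hul]
      exact Submodule.sum_mem _ fun i _ =>
        Submodule.smul_mem _ _ (Submodule.subset_span ⟨i, rfl⟩)
  constructor
  · intro h
    have h1 : IsNonsingularAt u Q :=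
      Groth.Agent.Lib.LeadPN.isNonsingularAt_of_span_eq v u hspan Q h
    have h2 : IsNonsingularAt (fun i => u 0 * ((u 0)⁻¹ * u i)) Q := by
      have : (fun i => u 0 * ((u 0)⁻¹ * u i)) = u := by
        funext i
        rw [← mul_assoc, mul_inv_cancel₀ hu0, one_mul]
      rw [this]; exact h1
    exact Groth.Agent.Lib.LeadPN.isNonsingularAt_scale _ hu0 Q h2
  · intro h
    have h1 : IsNonsingularAt u Q :=
      Groth.Agent.Lib.LeadPN.isNonsingularAt_scale u (inv_ne_zero hu0) Q h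
    exact Groth.Agent.Lib.LeadPN.isNonsingularAt_of_span_eq u v hspan.symm Q h1

lemma gen_of_change (A : Matrix (Fin 3) (Fin 3) k) (x y : K) (u : Fin 3 → K)
    (hu : ∀ i, ∑ j, algebraMap k K (A i j) * u j = ![(1 : K), x, y] i) (hu0 : u 0 ≠ 0)
    (hxy : IntermediateField.adjoin k ({x, y} : Set K) = ⊤) :
    IntermediateField.adjoin k ({u 1 / u 0, u 2 / u 0} : Set K) = ⊤ := by
  set E := IntermediateField.adjoin k ({u 1 / u 0, u 2 / u 0} : Set K) with hE
  have h1 : u 1 / u 0 ∈ E := IntermediateField.subset_adjoin k _ (by simp)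
  have h2 : u 2 / u 0 ∈ E := IntermediateField.subset_adjoin k _ (by simp)
  have hℓ : ∀ i, ∑ j, algebraMap k K (A i j) * (u j / u 0) ∈ E := by
    intro i
    rw [Fin.sum_univ_three]
    refine add_mem (add_mem ?_ ?_) ?_
    · rw [div_self hu0, mul_one]; exact E.algebraMap_mem _
    · exact mul_mem (E.algebraMap_mem _) h1
    · exact mul_mem (E.algebraMap_mem _) h2
  have hv : ∀ i, ![(1 : K), x, y] i = u 0 * ∑ j, algebraMap k K (A i j) * (u j / u 0) := by
    intro i
    rw [← hu i, Finset.mul_sum]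
    refine Finset.sum_congr rfl fun j _ => ?_
    field_simp
  have h0 := hv 0
  simp only [Matrix.cons_val_zero] at h0
  have hu0E : u 0 ∈ E := by
    have : u 0 = (∑ j, algebraMap k K (A 0 j) * (u j / u 0))⁻¹ :=
      eq_inv_of_mul_eq_one_left h0.symm
    rw [this]; exact inv_mem (hℓ 0)
  have hx : x ∈ E := by
    have := hv 1
    simp only [Matrix.cons_val_one, Matrix.cons_val_zero] at this
    rw [this]; exact mul_mem hu0E (hℓ 1)
  have hy : y ∈ E := by
    have := hv 2
    simp only [Matrix.cons_val_two, Matrix.tail_cons, Matrix.head_cons] at this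
    rw [this]; exact mul_mem hu0E (hℓ 2)
  rw [eq_top_iff, ← hxy, IntermediateField.adjoin_le_iff]
  rintro z (rfl | hz)
  · exact hx
  · rw [Set.mem_singleton_iff] at hz
    subst hz
    exact hy

theorem reduction [IsAlgClosed k] (hK : IsFunctionField k K) (x y : K)
    (hxy : IntermediateField.adjoin k ({x, y} : Set K) = ⊤)
    (F : MvPolynomial (Fin 3) k) (d : ℕ) (hFhom : F.IsHomogeneous d) (hFirr : Irreducible F)
    (hFxy : aeval ![(1 : K), x, y] F = 0)
    (he : (mapDiv k ![(1 : K), x, y]).deg = d)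
    (Q : Place k K) (ΦQ : K →ₐ[k] LaurentSeries k) (hΦQ : LocRes.IsExpansionAt Q.1 ΦQ)
    (hdx : KaehlerDifferential.D k K x ≠ 0)
    (hfy : aeval ![(1 : K), x, y] (pderiv 2 F) ≠ 0)
    (A : Matrix (Fin 3) (Fin 3) k) (hA : A.det ≠ 0)
    (u : Fin 3 → K) (hu : ∀ i, ∑ j, algebraMap k K (A i j) * u j = ![(1 : K), x, y] i)
    (hu0 : u 0 ≠ 0) (hQ1 : Q.1 (u 1) ≤ Q.1 (u 0))
    (hp : eval (fun i => A i 2) F ≠ 0)
    (hpol : ∑ i, aeval ![(1 : K), x, y] (pderiv i F) * algebraMap k K (A i 2) ≠ 0) :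
    0 ≤ ((mapDiv k ![(1 : K), x, y]).deg - 3) * mapDiv k ![(1 : K), x, y] Q -
        LocRes.ordDiff ΦQ (aeval ![(1 : K), x, y] (pderiv 2 F))⁻¹ x ∧
    (((mapDiv k ![(1 : K), x, y]).deg - 3) * mapDiv k ![(1 : K), x, y] Q -
        LocRes.ordDiff ΦQ (aeval ![(1 : K), x, y] (pderiv 2 F))⁻¹ x = 0 ↔
      IsNonsingularAt ![(1 : K), x, y] Q) := by
  classical
  have hg := Groth.Agent.Lib.LeadMS.isGeometric_of_isAlgClosed k K
  set v : Fin 3 → K := ![(1 : K), x, y] with hv
  set x' := u 1 / u 0 with hx'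
  set y' := u 2 / u 0 with hy'
  set w : Fin 3 → K := ![(1 : K), x', y'] with hw
  set G := aeval (lin A) F with hGdef
  have hwj : ∀ j, w j = (u 0)⁻¹ * u j := by
    intro j
    fin_cases j
    · simp [hw, hu0]
    · simp [hw, hx', div_eq_inv_mul]
    · simp [hw, hy', div_eq_inv_mul]
  have hAw : ∀ i, ∑ j, algebraMap k K (A i j) * w j = (u 0)⁻¹ * v i := by
    intro i
    rw [← hu i, Finset.mul_sum]
    refine Finset.sum_congr rfl fun j _ => ?_
    rw [hwj]; ring
  have hGw : aeval w G = 0 := by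
    rw [hGdef, aeval_aeval_lin,
      show (fun i => ∑ j, algebraMap k K (A i j) * w j) = fun i => (u 0)⁻¹ * v i from funext hAw,
      aeval_smul_of_homog F d hFhom, hFxy, mul_zero]
  have hfy' : aeval w (pderiv 2 G) ≠ 0 := by
    rw [hGdef, aeval_pderiv_comp A F d hFhom 2 v w (u 0)⁻¹ hAw]
    exact mul_ne_zero (pow_ne_zero _ (inv_ne_zero hu0)) hpol
  have hGhom : G.IsHomogeneous d := aeval_lin_isHomogeneous A hFhom
  have hGirr : Irreducible G := irreducible_aeval_lin A hA hFirr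
  have hGc : G.coeff (Finsupp.single 2 d) ≠ 0 := by
    rw [hGdef, coeff_aeval_lin A hFhom]; exact hp
  have hid := Groth.Agent.S12612.result k K F d hFhom x y hFxy A hA u hu hu0 hfy hfy'
  have hdx' : KaehlerDifferential.D k K x' ≠ 0 := by
    intro h0
    rw [h0, smul_zero] at hid
    rcases smul_eq_zero.mp hid with h | h
    · exact inv_ne_zero hfy h
    · exact hdx h
  have hvw : ∀ i, v i = u 0 * ∑ j, A i j • w j := by
    intro i
    rw [← hu i, Finset.mul_sum]
    refine Finset.sum_congr rfl fun j _ => ?_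
    rw [hwj, Algebra.smul_def]
    field_simp
  have hmv : mapDiv k v = mapDiv k w - FunFld.div k (u 0) :=
    mapDiv_change' hK w v A hA (u 0) hu0 hvw 0 (by simp [hw]) 0 (by simp [hv])
  have hdegw : (mapDiv k w).deg = d := by
    have hmw : mapDiv k w = mapDiv k v + FunFld.div k (u 0) := by rw [hmv]; abel
    rw [hmw, deg_add, deg_div hK, add_zero, he]
  have hgen' : IntermediateField.adjoin k ({x', y'} : Set K) = ⊤ :=
    gen_of_change A x y u hu hu0 hxy
  have hQu0 : 0 < Q.1 (u 0) := zero_lt_iff.mpr ((Valuation.ne_zero_iff _).mpr hu0)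
  have hQx' : Q.1 x' ≤ 1 := by
    rw [hx', map_div₀, div_le_one₀ hQu0]
    exact hQ1
  have hN : LocRes.ordDiff ΦQ 1 x' ≤ Q.ord (aeval w (pderiv 2 G)) ∧
      (Q.ord (aeval w (pderiv 2 G)) = LocRes.ordDiff ΦQ 1 x' ↔ IsNonsingularAt w Q) :=
    normalized hK x' y' G d hGhom hGirr hGw hGc hfy' hdx' hgen' hdegw Q hQx' ΦQ hΦQ
  obtain ⟨hN1, hN2⟩ := hN
  have hQy' : Q.1 y' ≤ 1 := by
    have := val_le_of_homog Q hGhom hGc w hGw
    simp only [hw, Matrix.cons_val_zero, Matrix.cons_val_one, Matrix.cons_val_two,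
      Matrix.tail_cons, Matrix.head_cons, map_one] at this
    exact this.trans (max_le le_rfl hQx')
  obtain ⟨Φ₀, hΦ₀⟩ := exists_expansions hK
  set Φ : Place k K → (K →ₐ[k] LaurentSeries k) := Function.update Φ₀ Q ΦQ with hΦdef
  have hΦQ' : Φ Q = ΦQ := Function.update_self _ _ _
  have hΦ : ∀ P : Place k K, LocRes.IsExpansionAt P.1 (Φ P) := by
    intro P
    by_cases hPQ : P = Q
    · subst hPQ; rw [hΦQ']; exact hΦQ
    · rw [hΦdef, Function.update_of_ne hPQ]; exact hΦ₀ P
  have hadj : ((mapDiv k v).deg - 3) • mapDiv k v - divDiff Φ (aeval v (pderiv 2 F))⁻¹ x =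
      ((mapDiv k w).deg - 3) • mapDiv k w - divDiff Φ (aeval w (pderiv 2 G))⁻¹ x' :=
    adjoint_change k K hK F d hFhom x y hFxy hdx he A hA u hu hu0 hfy hfy' Φ hΦ
  have hadjQ := congrArg (fun D : Divisor k K => D Q) hadj
  simp only [Finsupp.sub_apply, Finsupp.smul_apply, smul_eq_mul] at hadjQ
  have hmw0 : mapDiv k w Q = 0 := by
    apply mapDiv_eq_of' hK w Q 0 le_rfl
    · intro i
      rw [exp_zero]
      fin_cases i
      · simp [hw]
      · simpa [hw] using hQx'
      · simpa [hw] using hQy'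
    · exact ⟨0, by simp [hw]⟩
  have hdΦ' := D_exp_ne_zero' hK hg hdx' Q ΦQ hΦQ
  rw [divDiff_apply_gen hK (inv_ne_zero hfy) hdx Φ hΦ Q,
    divDiff_apply_gen hK (inv_ne_zero hfy') hdx' Φ hΦ Q, hΦQ', hmw0, mul_zero, zero_sub,
    ordDiff_mul Q ΦQ hΦQ (inv_ne_zero hfy') hdΦ', ord_inv] at hadjQ
  rw [hadjQ]
  have hwfun : w = fun i => (u 0)⁻¹ * u i := funext hwj
  have hns := nonsing_iff_of_change A hA v u hu hu0 Q
  rw [← hwfun] at hns
  constructor
  · omega
  · rw [hns, ← hN2]
    constructor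
    · intro h; omega
    · intro h; omega

end Groth.Agent.Lib.LeadAdj
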