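import Groth.Agent.Lib.LeadAdjJ

set_option autoImplicit false
set_option maxHeartbeats 400000
set_option linter.style.haveILetI false
set_option linter.unusedSectionVars false
set_option linter.unusedVariables false

/-! S12613: the adjoint divisor of a plane model has nonnegative coefficients, vanishing exactly at
the nonsingular places. -/

namespace Groth.Agent.Lib.LeadAdj

open FunFld WithZero MvPolynomial Groth.Agent.Lib.LeadPC Groth.Agent.Lib.LeadWD
  Groth.Agent.Lib.LeadFF

universe u v
variable {k : Type u} {K : Type v} [Field k] [Field K] [Algebra k K]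

theorem main [IsAlgClosed k] (hK : IsFunctionField k K) (x y : K)
    (hxy : IntermediateField.adjoin k ({x, y} : Set K) = ⊤)
    (f : MvPolynomial (Fin 2) k) (hf : Irreducible f) (hfxy : aeval ![x, y] f = 0)
    (Q : Place k K) (ΦQ : K →ₐ[k] LaurentSeries k) (hΦQ : LocRes.IsExpansionAt Q.1 ΦQ)
    (hne : LocRes.vDiff ΦQ (aeval ![x, y] (pderiv 1 f))⁻¹ x ≠ 0) :
    0 ≤ ((mapDiv k ![(1 : K), x, y]).deg - 3) * mapDiv k ![(1 : K), x, y] Q -
        LocRes.ordDiff ΦQ (aeval ![x, y] (pderiv 1 f))⁻¹ x ∧
    (((mapDiv k ![(1 : K), x, y]).deg - 3) * mapDiv k ![(1 : K), x, y] Q -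
        LocRes.ordDiff ΦQ (aeval ![x, y] (pderiv 1 f))⁻¹ x = 0 ↔
      IsNonsingularAt ![(1 : K), x, y] Q) := by
  classical
  set F := homF f with hFdef
  set d := f.totalDegree with hd
  have hFhom : F.IsHomogeneous d := homF_isHomogeneous f
  have hFirr : Irreducible F := irreducible_homF hK x y hxy f hf hfxy
  have hF0 : F ≠ 0 := hFirr.ne_zero
  have hFxy : aeval ![(1 : K), x, y] F = 0 := by rw [hFdef, aeval_homF, hfxy]
  have hF2 : aeval ![(1 : K), x, y] (pderiv 2 F) = aeval ![x, y] (pderiv 1 f) :=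
    aeval_pderiv_homF x y f
  have he : (mapDiv k ![(1 : K), x, y]).deg = d :=
    Groth.Agent.Lib.LeadPD.deg_mapDiv_eq_totalDegree hK x y hxy f hf hfxy
  -- consequences of `hne`
  have hprod : ΦQ (aeval ![x, y] (pderiv 1 f))⁻¹ * LocRes.D k (ΦQ x) ≠ 0 := by
    intro h0
    apply hne
    unfold LocRes.vDiff
    rw [h0, map_zero]
  have hfy0 : aeval ![x, y] (pderiv 1 f) ≠ 0 := by
    intro h0
    apply hprod
    rw [h0, inv_zero, map_zero, zero_mul]
  have hdx : KaehlerDifferential.D k K x ≠ 0 := by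
    intro h0
    apply hprod
    have h1 : KaehlerDifferential.D k K x = (0 : K) • KaehlerDifferential.D k K x := by
      rw [h0, smul_zero]
    have h2 := Groth.Agent.Lib.LeadMS.D_expand ΦQ h1
    rw [map_zero, zero_mul] at h2
    rw [h2, mul_zero]
  rw [← hF2] at hfy0 ⊢
  -- the centre of projection
  set c : Fin 3 → K := fun i => aeval ![(1 : K), x, y] (pderiv i F) with hc
  obtain ⟨p, hp2, hpF, hpol⟩ := exists_center F hF0 c hfy0
  set P0 := algebraMap k K (p 0) with hP0
  set P1 := algebraMap k K (p 1) with hP1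
  set P2 := algebraMap k K (p 2) with hP2
  have hP2ne : P2 ≠ 0 := by
    rw [hP2, Ne, map_eq_zero_iff _ (algebraMap k K).injective]; exact hp2
  set u₂ := y * P2⁻¹ with hu₂
  set a := 1 - P0 * u₂ with ha
  set b := x - P1 * u₂ with hb
  have ha' : a + P0 * u₂ = 1 := by rw [ha]; ring
  have hb' : b + P1 * u₂ = x := by rw [hb]; ring
  have hc' : P2 * u₂ = y := by rw [hu₂]; field_simp
  -- not both zero
  have hab : ¬ (a = 0 ∧ b = 0) := by
    rintro ⟨ha0, hb0⟩
    rw [ha0, zero_add] at ha'
    rw [hb0, zero_add] at hb'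
    have hv : (![(1 : K), x, y] : Fin 3 → K) = fun i => u₂ * algebraMap k K (p i) := by
      funext i
      fin_cases i
      · simp [← ha', hP0, mul_comm]
      · simp [← hb', hP1, mul_comm]
      · simp [← hc', hP2, mul_comm]
    have h1 := aeval_smul_of_homog F d hFhom u₂ (fun i => algebraMap k K (p i))
    rw [← hv, hFxy] at h1
    have h2 : aeval (fun i => algebraMap k K (p i)) F = algebraMap k K (eval p F) := by
      exact aeval_algebraMap_apply (A := k) (B := K) p F
    rw [h2] at h1
    have h3 : algebraMap k K (eval p F) ≠ 0 := by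
      rw [Ne, map_eq_zero_iff _ (algebraMap k K).injective]; exact hpF
    have hu0 : u₂ = 0 := by
      by_contra hu
      exact mul_ne_zero (pow_ne_zero d hu) h3 h1.symm
    rw [hu0, mul_zero] at ha'
    exact zero_ne_one ha'
  have hpol' : ∀ A : Matrix (Fin 3) (Fin 3) k, (∀ i, A i 2 = p i) →
      ∑ i, aeval ![(1 : K), x, y] (pderiv i F) * algebraMap k K (A i 2) ≠ 0 := by
    intro A hA2
    simp_rw [hA2]
    exact hpol
  have hpF' : ∀ A : Matrix (Fin 3) (Fin 3) k, (∀ i, A i 2 = p i) →
      eval (fun i => A i 2) F ≠ 0 := by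
    intro A hA2
    have : (fun i => A i 2) = p := funext hA2
    rw [this]; exact hpF
  rcases le_or_gt (Q.1 b) (Q.1 a) with hle | hlt
  · -- first chart
    have ha0 : a ≠ 0 := by
      intro ha0
      apply hab
      refine ⟨ha0, ?_⟩
      rw [ha0, map_zero] at hle
      exact (Valuation.zero_iff _).mp (le_antisymm hle zero_le)
    set A : Matrix (Fin 3) (Fin 3) k := !![1, 0, p 0; 0, 1, p 1; 0, 0, p 2] with hA
    have hAdet : A.det ≠ 0 := by
      rw [hA, Matrix.det_fin_three]
      simpa using hp2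
    have hA2 : ∀ i, A i 2 = p i := by
      intro i
      fin_cases i <;> simp [hA]
    have hu : ∀ i, ∑ j, algebraMap k K (A i j) * (![a, b, u₂] : Fin 3 → K) j =
        (![(1 : K), x, y] : Fin 3 → K) i := by
      intro i
      fin_cases i
      · simp [hA, Fin.sum_univ_three]; rw [← ha']
      · simp [hA, Fin.sum_univ_three]; rw [← hb']
      · simp [hA, Fin.sum_univ_three]; rw [← hc']
    exact reduction hK x y hxy F d hFhom hFirr hFxy he Q ΦQ hΦQ hdx hfy0 A hAdet ![a, b, u₂] hu
      (by simpa using ha0) (by simpa using hle) (hpF' A hA2) (hpol' A hA2)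
  · -- second chart
    have hb0 : b ≠ 0 := by
      intro hb0
      rw [hb0, map_zero] at hlt
      exact not_lt.mpr zero_le hlt
    set A : Matrix (Fin 3) (Fin 3) k := !![0, 1, p 0; 1, 0, p 1; 0, 0, p 2] with hA
    have hAdet : A.det ≠ 0 := by
      rw [hA, Matrix.det_fin_three]
      simpa using hp2
    have hA2 : ∀ i, A i 2 = p i := by
      intro i
      fin_cases i <;> simp [hA]
    have hu : ∀ i, ∑ j, algebraMap k K (A i j) * (![b, a, u₂] : Fin 3 → K) j =
        (![(1 : K), x, y] : Fin 3 → K) i := by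
      intro i
      fin_cases i
      · simp [hA, Fin.sum_univ_three]; rw [← ha']
      · simp [hA, Fin.sum_univ_three]; rw [← hb']
      · simp [hA, Fin.sum_univ_three]; rw [← hc']
    exact reduction hK x y hxy F d hFhom hFirr hFxy he Q ΦQ hΦQ hdx hfy0 A hAdet ![b, a, u₂] hu
      (by simpa using hb0) (by simpa using hlt.le) (hpF' A hA2) (hpol' A hA2)

end Groth.Agent.Lib.LeadAdj
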