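import Mathlib

set_option maxHeartbeats 400000
set_option autoImplicit false

/-!
# Exactness of the Amitsur complex of a faithfully flat ring map (Čech conerve form)
-/

namespace Groth.Agent.Lib.LeadAmitsur

open CategoryTheory CategoryTheory.Limits TensorProduct

universe u

section abstract

variable {R A : Type u} [CommRing R] [CommRing A] [Algebra R A]

/-- two algebra maps out of `A ⊗ T'` agree if they agree on both factors -/
lemma tensor_algHom_ext {T' B' : Type u} [CommRing T'] [Algebra R T'] [CommRing B'] [Algebra R B']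
    (F G : A ⊗[R] T' →ₐ[R] B') (h1 : ∀ a : A, F (a ⊗ₜ[R] (1 : T')) = G (a ⊗ₜ[R] (1 : T')))
    (h2 : F.comp Algebra.TensorProduct.includeRight = G.comp Algebra.TensorProduct.includeRight) :
    F = G := by
  apply Algebra.TensorProduct.ext'
  intro a t
  have e : a ⊗ₜ[R] t = (a ⊗ₜ[R] (1 : T')) * ((1 : A) ⊗ₜ[R] t) := by
    rw [Algebra.TensorProduct.tmul_mul_tmul, mul_one, one_mul]
  have h2' : F ((1 : A) ⊗ₜ[R] t) = G ((1 : A) ⊗ₜ[R] t) := AlgHom.congr_fun h2 t
  rw [e, map_mul, map_mul, h1, h2']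

variable (R A) in
/-- abstract data of the conerve of `R → A`: the `n`-th term is a coproduct of `n+1` copies of `A`
in commutative `R`-algebras -/
structure Data where
  T : ℕ → Type u
  [cr : ∀ n, CommRing (T n)]
  [alg : ∀ n, Algebra R (T n)]
  ι : ∀ n, Fin (n + 1) → (A →ₐ[R] T n)
  δ : ∀ n, Fin (n + 2) → (T n →ₐ[R] T (n + 1))
  hext : ∀ (n : ℕ) (S : Type u) [CommRing S] [Algebra R S] (g₁ g₂ : T n →ₐ[R] S),
    (∀ j, g₁.comp (ι n j) = g₂.comp (ι n j)) → g₁ = g₂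
  hdesc : ∀ (n : ℕ) (S : Type u) [CommRing S] [Algebra R S] (ψ : Fin (n + 1) → (A →ₐ[R] S)),
    ∃ g : T n →ₐ[R] S, ∀ j, g.comp (ι n j) = ψ j
  hδ : ∀ (n : ℕ) (i : Fin (n + 2)) (j : Fin (n + 1)),
    (δ n i).comp (ι n j) = ι (n + 1) (i.succAbove j)

attribute [instance] Data.cr Data.alg

variable (X : Data R A)

/-- alternating sum differential -/
noncomputable def dd (n : ℕ) : X.T n →ₗ[R] X.T (n + 1) :=
  ∑ i : Fin (n + 2), ((-1 : R) ^ (i : ℕ)) • (X.δ n i).toLinearMap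

lemma dd_apply (n : ℕ) (x : X.T n) :
    dd X n x = ∑ i : Fin (n + 2), ((-1 : R) ^ (i : ℕ)) • X.δ n i x := by
  simp [dd, LinearMap.sum_apply]

lemma δ_ι (n : ℕ) (i : Fin (n + 2)) (j : Fin (n + 1)) (a : A) :
    X.δ n i (X.ι n j a) = X.ι (n + 1) (i.succAbove j) a :=
  AlgHom.congr_fun (X.hδ n i j) a

/-- target maps for the extra degeneracy -/
noncomputable def psi (n : ℕ) : Fin (n + 2) → (A →ₐ[R] A ⊗[R] X.T n) :=
  Fin.cases Algebra.TensorProduct.includeLeft
    (fun j' => (Algebra.TensorProduct.includeRight : X.T n →ₐ[R] A ⊗[R] X.T n).comp (X.ι n j'))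

noncomputable def gg (n : ℕ) : X.T (n + 1) →ₐ[R] A ⊗[R] X.T n :=
  (X.hdesc (n + 1) (A ⊗[R] X.T n) (psi X n)).choose

lemma gg_spec (n : ℕ) (j : Fin (n + 2)) : (gg X n).comp (X.ι (n + 1) j) = psi X n j :=
  (X.hdesc (n + 1) (A ⊗[R] X.T n) (psi X n)).choose_spec j

lemma gg_zero (n : ℕ) (a : A) : gg X n (X.ι (n + 1) 0 a) = a ⊗ₜ[R] (1 : X.T n) := by
  have h := AlgHom.congr_fun (gg_spec X n 0) a
  simpa [psi] using h

lemma gg_succ (n : ℕ) (j : Fin (n + 1)) (a : A) :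
    gg X n (X.ι (n + 1) j.succ a) = (1 : A) ⊗ₜ[R] X.ι n j a := by
  have h := AlgHom.congr_fun (gg_spec X n j.succ) a
  simpa [psi] using h

/-- the extra degeneracy on `A ⊗ T` -/
noncomputable def ss (n : ℕ) : A ⊗[R] X.T (n + 1) →ₐ[R] A ⊗[R] X.T n :=
  Algebra.TensorProduct.lift Algebra.TensorProduct.includeLeft (gg X n)
    (fun _ _ => Commute.all _ _)

lemma ss_tmul (n : ℕ) (a : A) (t : X.T (n + 1)) :
    ss X n (a ⊗ₜ[R] t) = (a ⊗ₜ[R] (1 : X.T n)) * gg X n t := by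
  simp [ss]

lemma ss_tmul_one (n : ℕ) (a : A) :
    ss X n (a ⊗ₜ[R] (1 : X.T (n + 1))) = a ⊗ₜ[R] (1 : X.T n) := by
  rw [ss_tmul, map_one, mul_one]

lemma ss_one_tmul (n : ℕ) (t : X.T (n + 1)) : ss X n ((1 : A) ⊗ₜ[R] t) = gg X n t := by
  rw [ss_tmul, ← Algebra.TensorProduct.one_def, one_mul]

/-- base-changed cofaces -/
noncomputable def DD (n : ℕ) (i : Fin (n + 2)) : A ⊗[R] X.T n →ₐ[R] A ⊗[R] X.T (n + 1) :=
  Algebra.TensorProduct.map (AlgHom.id R A) (X.δ n i)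

lemma DD_tmul (n : ℕ) (i : Fin (n + 2)) (a : A) (t : X.T n) :
    DD X n i (a ⊗ₜ[R] t) = a ⊗ₜ[R] X.δ n i t := by
  simp [DD]

lemma DD_tmul_one (n : ℕ) (i : Fin (n + 2)) (a : A) :
    DD X n i (a ⊗ₜ[R] (1 : X.T n)) = a ⊗ₜ[R] (1 : X.T (n + 1)) := by
  rw [DD_tmul, map_one]

lemma E0 (n : ℕ) : (ss X n).comp (DD X n 0) = AlgHom.id R _ := by
  apply tensor_algHom_ext
  · intro a
    show ss X n (DD X n 0 (a ⊗ₜ[R] (1 : X.T n))) = a ⊗ₜ[R] (1 : X.T n)
    rw [DD_tmul_one, ss_tmul_one]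
  · apply X.hext n
    intro j
    apply AlgHom.ext
    intro a
    show ss X n (DD X n 0 ((1 : A) ⊗ₜ[R] X.ι n j a)) = (1 : A) ⊗ₜ[R] X.ι n j a
    rw [DD_tmul, δ_ι, Fin.succAbove_zero, ss_one_tmul, gg_succ]

lemma E1 (n : ℕ) (i : Fin (n + 2)) :
    (ss X (n + 1)).comp (DD X (n + 1) i.succ) = (DD X n i).comp (ss X n) := by
  apply tensor_algHom_ext
  · intro a
    show ss X (n + 1) (DD X (n + 1) i.succ (a ⊗ₜ[R] (1 : X.T (n + 1)))) =
      DD X n i (ss X n (a ⊗ₜ[R] (1 : X.T (n + 1))))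
    rw [DD_tmul_one, ss_tmul_one, ss_tmul_one, DD_tmul_one]
  · apply X.hext (n + 1)
    intro j
    apply AlgHom.ext
    intro a
    show ss X (n + 1) (DD X (n + 1) i.succ ((1 : A) ⊗ₜ[R] X.ι (n + 1) j a)) =
      DD X n i (ss X n ((1 : A) ⊗ₜ[R] X.ι (n + 1) j a))
    rw [DD_tmul, δ_ι, ss_one_tmul, ss_one_tmul]
    refine Fin.cases ?_ (fun j' => ?_) j
    · rw [Fin.succ_succAbove_zero, gg_zero, gg_zero, DD_tmul_one]
    · rw [Fin.succ_succAbove_succ, gg_succ, gg_succ, DD_tmul, δ_ι]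

lemma lTensor_dd (n : ℕ) (x : A ⊗[R] X.T n) :
    (dd X n).lTensor A x = ∑ i : Fin (n + 2), ((-1 : R) ^ (i : ℕ)) • DD X n i x := by
  have h : (dd X n).lTensor A =
      ∑ i : Fin (n + 2), ((-1 : R) ^ (i : ℕ)) • (DD X n i).toLinearMap := by
    apply TensorProduct.ext'
    intro a t
    rw [LinearMap.lTensor_tmul, dd_apply, TensorProduct.tmul_sum, LinearMap.sum_apply]
    refine Finset.sum_congr rfl (fun i _ => ?_)
    rw [TensorProduct.tmul_smul, LinearMap.smul_apply, AlgHom.toLinearMap_apply, DD_tmul]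
  rw [h, LinearMap.sum_apply]
  simp only [LinearMap.smul_apply, AlgHom.toLinearMap_apply]

lemma homotopy_id (n : ℕ) (x : A ⊗[R] X.T (n + 1)) :
    ss X (n + 1) ((dd X (n + 1)).lTensor A x) + (dd X n).lTensor A (ss X n x) = x := by
  rw [lTensor_dd, lTensor_dd, Fin.sum_univ_succ, map_add, map_sum]
  have e0 : ss X (n + 1) (((-1 : R) ^ ((0 : Fin (n + 3)) : ℕ)) • DD X (n + 1) 0 x) = x := by
    rw [Fin.val_zero, pow_zero, one_smul]
    exact AlgHom.congr_fun (E0 X (n + 1)) x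
  rw [e0, add_assoc, ← Finset.sum_add_distrib]
  have hz : ∀ i : Fin (n + 2),
      ss X (n + 1) (((-1 : R) ^ ((i.succ : Fin (n + 3)) : ℕ)) • DD X (n + 1) i.succ x) +
        ((-1 : R) ^ (i : ℕ)) • DD X n i (ss X n x) = 0 := by
    intro i
    have e1 : ss X (n + 1) (DD X (n + 1) i.succ x) = DD X n i (ss X n x) :=
      AlgHom.congr_fun (E1 X n i) x
    rw [map_smul, e1, Fin.val_succ, pow_succ, ← add_smul, mul_neg_one, neg_add_cancel, zero_smul]
  rw [Finset.sum_eq_zero (fun i _ => hz i), add_zero]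

theorem exact_lTensor (hdd : ∀ n, (dd X (n + 1)).comp (dd X n) = 0) (n : ℕ) :
    Function.Exact ((dd X n).lTensor A) ((dd X (n + 1)).lTensor A) := by
  intro y
  constructor
  · intro hy
    refine ⟨ss X n y, ?_⟩
    have h := homotopy_id X n y
    rw [hy, map_zero, zero_add] at h
    exact h
  · rintro ⟨x, rfl⟩
    have h : ((dd X (n + 1)).lTensor A).comp ((dd X n).lTensor A) = 0 := by
      rw [← LinearMap.lTensor_comp, hdd, LinearMap.lTensor_zero]
    exact LinearMap.congr_fun h x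

theorem exact_dd [Module.FaithfullyFlat R A] (hdd : ∀ n, (dd X (n + 1)).comp (dd X n) = 0)
    (n : ℕ) : Function.Exact (dd X n) (dd X (n + 1)) :=
  (Module.FaithfullyFlat.lTensor_exact_iff_exact R A _ _).mp (exact_lTensor X hdd n)

end abstract

section concrete

open Simplicial

variable (R A : Type u) [CommRing R] [CommRing A] [Algebra R A]

/-- the arrow `R ⟶ A` -/
noncomputable abbrev f₀ : CommRingCat.of R ⟶ CommRingCat.of A :=
  CommRingCat.ofHom (algebraMap R A)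

/-- the Čech conerve -/
noncomputable abbrev C₀ : CosimplicialObject CommRingCat.{u} :=
  (Arrow.mk (CommRingCat.ofHom (algebraMap R A))).cechConerve

/-- underlying types of the terms -/
abbrev TT (n : ℕ) : Type u := ↑((C₀ R A).obj ⦋n⦌)

noncomputable def hdC (n : ℕ) : CommRingCat.of R ⟶ (C₀ R A).obj ⦋n⦌ :=
  WidePushout.head (fun _ : Fin (n + 1) => f₀ R A)

noncomputable def ιC (n : ℕ) (j : Fin (n + 1)) : CommRingCat.of A ⟶ (C₀ R A).obj ⦋n⦌ :=
  WidePushout.ι (fun _ : Fin (n + 1) => f₀ R A) j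

lemma arrow_ιC (n : ℕ) (j : Fin (n + 1)) : f₀ R A ≫ ιC R A n j = hdC R A n :=
  WidePushout.arrow_ι (fun _ : Fin (n + 1) => f₀ R A) j

lemma map_hdC {n m : ℕ} (θ : ⦋n⦌ ⟶ ⦋m⦌) : hdC R A n ≫ (C₀ R A).map θ = hdC R A m := by
  rw [Arrow.cechConerve_map]
  exact WidePushout.head_desc _ _ _ _

lemma map_ιC {n m : ℕ} (θ : ⦋n⦌ ⟶ ⦋m⦌) (j : Fin (n + 1)) :
    ιC R A n j ≫ (C₀ R A).map θ = ιC R A m (θ.toOrderHom j) := by
  rw [Arrow.cechConerve_map]
  exact WidePushout.ι_desc _ _ _ _ j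

noncomputable instance algTT (n : ℕ) : Algebra R (TT R A n) := (hdC R A n).hom.toAlgebra

lemma algebraMap_TT (n : ℕ) (r : R) : algebraMap R (TT R A n) r = (hdC R A n).hom r := rfl

noncomputable def ιA (n : ℕ) (j : Fin (n + 1)) : A →ₐ[R] TT R A n :=
  ⟨(ιC R A n j).hom, fun r => by
    have h := congrArg (fun φ => φ.hom r) (arrow_ιC R A n j)
    exact h⟩

noncomputable def δA (n : ℕ) (i : Fin (n + 2)) : TT R A n →ₐ[R] TT R A (n + 1) :=
  ⟨((C₀ R A).δ i).hom, fun r => by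
    have h := congrArg (fun φ => φ.hom r) (map_hdC R A (SimplexCategory.δ i))
    exact h⟩

lemma δA_ιA (n : ℕ) (i : Fin (n + 2)) (j : Fin (n + 1)) :
    (δA R A n i).comp (ιA R A n j) = ιA R A (n + 1) (i.succAbove j) := by
  apply AlgHom.ext
  intro a
  have h := congrArg (fun φ => φ.hom a) (map_ιC R A (SimplexCategory.δ i) j)
  exact h

lemma hextC (n : ℕ) (S : Type u) [CommRing S] [Algebra R S] (g₁ g₂ : TT R A n →ₐ[R] S)
    (h : ∀ j, g₁.comp (ιA R A n j) = g₂.comp (ιA R A n j)) : g₁ = g₂ := by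
  have key : (CommRingCat.ofHom (g₁ : TT R A n →+* S) :
      (C₀ R A).obj ⦋n⦌ ⟶ CommRingCat.of S) = CommRingCat.ofHom (g₂ : TT R A n →+* S) := by
    refine WidePushout.hom_ext (fun _ : Fin (n + 1) => f₀ R A) _ _ (fun j => ?_) ?_
    · apply CommRingCat.hom_ext
      apply RingHom.ext
      intro a
      exact AlgHom.congr_fun (h j) a
    · apply CommRingCat.hom_ext
      apply RingHom.ext
      intro r
      show g₁ (algebraMap R (TT R A n) r) = g₂ (algebraMap R (TT R A n) r)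
      rw [g₁.commutes, g₂.commutes]
  apply AlgHom.ext
  intro t
  exact congrArg (fun φ => φ.hom t) key

lemma hdescC (n : ℕ) (S : Type u) [CommRing S] [Algebra R S] (ψ : Fin (n + 1) → (A →ₐ[R] S)) :
    ∃ g : TT R A n →ₐ[R] S, ∀ j, g.comp (ιA R A n j) = ψ j := by
  have w : ∀ j : Fin (n + 1), f₀ R A ≫ CommRingCat.ofHom (ψ j : A →+* S) =
      CommRingCat.ofHom (algebraMap R S) := by
    intro j
    apply CommRingCat.hom_ext
    apply RingHom.ext
    intro r
    exact (ψ j).commutes r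
  let gC : (C₀ R A).obj ⦋n⦌ ⟶ CommRingCat.of S :=
    WidePushout.desc (CommRingCat.ofHom (algebraMap R S))
      (fun j => CommRingCat.ofHom (ψ j : A →+* S)) w
  have hhd : hdC R A n ≫ gC = CommRingCat.ofHom (algebraMap R S) :=
    WidePushout.head_desc _ _ _ _
  have hι : ∀ j, ιC R A n j ≫ gC = CommRingCat.ofHom (ψ j : A →+* S) :=
    fun j => WidePushout.ι_desc _ _ _ _ j
  refine ⟨⟨gC.hom, fun r => ?_⟩, fun j => ?_⟩
  · exact congrArg (fun φ => φ.hom r) hhd
  · apply AlgHom.ext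
    intro a
    exact congrArg (fun φ => φ.hom a) (hι j)

/-- the abstract data attached to `R → A` -/
noncomputable def dataC : Data R A where
  T := TT R A
  ι := ιA R A
  δ := δA R A
  hext := hextC R A
  hdesc := hdescC R A
  hδ := δA_ιA R A

/-- the cosimplicial abelian group -/
noncomputable abbrev XX : CosimplicialObject AddCommGrpCat.{u} :=
  (Arrow.mk (CommRingCat.ofHom (algebraMap R A))).cechConerve ⋙
    forget₂ CommRingCat RingCat ⋙ forget₂ RingCat AddCommGrpCat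

/-- the complex of the statement -/
noncomputable abbrev KK : CochainComplex AddCommGrpCat.{u} ℕ :=
  AlgebraicTopology.AlternatingCofaceMapComplex.obj
    ((Arrow.mk (CommRingCat.ofHom (algebraMap R A))).cechConerve ⋙
      forget₂ CommRingCat RingCat ⋙ forget₂ RingCat AddCommGrpCat)

lemma KK_d_apply (n : ℕ) (x : TT R A n) :
    ((KK R A).d n (n + 1)).hom x = dd (dataC R A) n x := by
  have h1 : (KK R A).d n (n + 1) = ∑ i : Fin (n + 2), (-1 : ℤ) ^ (i : ℕ) • (XX R A).δ i := by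
    show CochainComplex.of.d (fun n => (XX R A).obj ⦋n⦌)
      (AlgebraicTopology.AlternatingCofaceMapComplex.objD (XX R A)) n (n + 1) = _
    rw [CochainComplex.of_d]
    rfl
  have h2 : ((KK R A).d n (n + 1)).hom = ∑ i : Fin (n + 2), (-1 : ℤ) ^ (i : ℕ) •
      ((XX R A).δ i).hom := by
    rw [h1]
    exact map_sum AddCommGrpCat.homAddEquiv _ _
  have h3 : ((KK R A).d n (n + 1)).hom x =
      ∑ i : Fin (n + 2), ((-1 : ℤ) ^ (i : ℕ) • ((XX R A).δ i).hom) x := by
    rw [h2]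
    exact AddMonoidHom.finsetSum_apply _ _ _
  rw [h3, dd_apply]
  refine Finset.sum_congr rfl (fun i _ => ?_)
  have hz : ∀ (z : ℤ) (y : TT R A (n + 1)), z • y = (z : R) • y :=
    fun z y => (Int.cast_smul_eq_zsmul R z y).symm
  show ((-1 : ℤ) ^ (i : ℕ)) • (δA R A n i x) = ((-1 : R) ^ (i : ℕ)) • δA R A n i x
  rw [hz]
  push_cast
  rfl

theorem main [Module.FaithfullyFlat R A] (n : ℕ) (hn : 0 < n) : (KK R A).ExactAt n := by
  obtain ⟨m, rfl⟩ : ∃ m, n = m + 1 := ⟨n - 1, by omega⟩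
  have hdd : ∀ k, (dd (dataC R A) (k + 1)).comp (dd (dataC R A) k) = 0 := by
    intro k
    apply LinearMap.ext
    intro x
    show dd (dataC R A) (k + 1) (dd (dataC R A) k x) = 0
    rw [← KK_d_apply, ← KK_d_apply]
    have h := (KK R A).d_comp_d k (k + 1) (k + 2)
    exact congrArg (fun φ => φ.hom x) h
  have hex := exact_dd (dataC R A) hdd m
  rw [HomologicalComplex.exactAt_iff' (KK R A) m (m + 1) (m + 2) (by simp) (by simp),
    ShortComplex.ab_exact_iff_function_exact]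
  intro y
  have e1 : ((KK R A).sc' m (m + 1) (m + 2)).g y = dd (dataC R A) (m + 1) y :=
    KK_d_apply R A (m + 1) y
  constructor
  · intro hy
    have hy' : dd (dataC R A) (m + 1) y = 0 := e1.symm.trans hy
    obtain ⟨x, hx⟩ := (hex y).mp hy'
    exact ⟨x, (KK_d_apply R A m x).trans hx⟩
  · rintro ⟨x, hx⟩
    have h3 : dd (dataC R A) (m + 1) y = 0 :=
      (hex y).mpr ⟨x, (KK_d_apply R A m x).symm.trans hx⟩
    exact e1.trans h3

end concrete

end Groth.Agent.Lib.LeadAmitsur
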