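import Mathlib

/-!
# Degree-one exactness of the Amitsur complex (with coefficients in a module)

For `A → B` faithfully flat and an `A`-module `M`, the sequence
`B ⊗ M --D0--> (B ⊗ B) ⊗ M --D1--> ((B ⊗ B) ⊗ B) ⊗ M` is exact, where
`D0 = d⁰ - d¹` and `D1 = d⁰ - d¹ + d²`.
-/

set_option autoImplicit false
set_option maxSynthPendingDepth 6
universe u
open TensorProduct

namespace Groth.Agent.LeadAmitsur1

section
variable (A : Type*) [CommRing A] (B : Type*) [CommRing B] [Algebra A B]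
  (M : Type*) [AddCommGroup M] [Module A M]

/-- `x ⊗ y ↦ (x ⊗ y) ⊗ 1` -/
noncomputable def p12 : B ⊗[A] B →ₐ[A] (B ⊗[A] B) ⊗[A] B :=
  Algebra.TensorProduct.includeLeft

/-- `x ⊗ y ↦ (x ⊗ 1) ⊗ y` -/
noncomputable def p13 : B ⊗[A] B →ₐ[A] (B ⊗[A] B) ⊗[A] B :=
  Algebra.TensorProduct.map Algebra.TensorProduct.includeLeft (AlgHom.id A B)

/-- `x ⊗ y ↦ (1 ⊗ x) ⊗ y` -/
noncomputable def p23 : B ⊗[A] B →ₐ[A] (B ⊗[A] B) ⊗[A] B :=
  Algebra.TensorProduct.map Algebra.TensorProduct.includeRight (AlgHom.id A B)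

/-- `b ⊗ m ↦ (1 ⊗ b) ⊗ m - (b ⊗ 1) ⊗ m` -/
noncomputable def D0 : B ⊗[A] M →ₗ[A] (B ⊗[A] B) ⊗[A] M :=
  (Algebra.TensorProduct.includeRight (R := A) (A := B) (B := B)).toLinearMap.rTensor M -
  (Algebra.TensorProduct.includeLeft (R := A) (S := A) (A := B) (B := B)).toLinearMap.rTensor M

noncomputable def D1 : (B ⊗[A] B) ⊗[A] M →ₗ[A] ((B ⊗[A] B) ⊗[A] B) ⊗[A] M :=
  (p23 A B).toLinearMap.rTensor M - (p13 A B).toLinearMap.rTensor M +
    (p12 A B).toLinearMap.rTensor M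

/-- `b ⊗ ((x ⊗ y) ⊗ m) ↦ bx ⊗ (y ⊗ m)` -/
noncomputable def h1 : B ⊗[A] ((B ⊗[A] B) ⊗[A] M) →ₗ[A] B ⊗[A] (B ⊗[A] M) :=
  (TensorProduct.assoc A B B M).toLinearMap ∘ₗ
    (((LinearMap.mul' A B).rTensor B ∘ₗ
      (TensorProduct.assoc A B B B).symm.toLinearMap).rTensor M) ∘ₗ
    (TensorProduct.assoc A B (B ⊗[A] B) M).symm.toLinearMap

/-- `b ⊗ ((x ⊗ y) ⊗ w) ↦ bx ⊗ (y ⊗ w)` -/
noncomputable def g2 : B ⊗[A] ((B ⊗[A] B) ⊗[A] B) →ₗ[A] B ⊗[A] (B ⊗[A] B) :=
  (LinearMap.mul' A B).rTensor (B ⊗[A] B) ∘ₗ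
    (TensorProduct.assoc A B B (B ⊗[A] B)).symm.toLinearMap ∘ₗ
    (TensorProduct.assoc A B B B).toLinearMap.lTensor B

/-- `b ⊗ (((x ⊗ y) ⊗ w) ⊗ m) ↦ bx ⊗ ((y ⊗ w) ⊗ m)` -/
noncomputable def h2 :
    B ⊗[A] (((B ⊗[A] B) ⊗[A] B) ⊗[A] M) →ₗ[A] B ⊗[A] ((B ⊗[A] B) ⊗[A] M) :=
  (TensorProduct.assoc A B (B ⊗[A] B) M).toLinearMap ∘ₗ
    ((g2 A B).rTensor M) ∘ₗ
    (TensorProduct.assoc A B ((B ⊗[A] B) ⊗[A] B) M).symm.toLinearMap

@[simp] theorem h1_tmul (b x y : B) (m : M) :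
    h1 A B M (b ⊗ₜ ((x ⊗ₜ y) ⊗ₜ m)) = (b * x) ⊗ₜ (y ⊗ₜ m) := by
  simp [h1]

@[simp] theorem h2_tmul (b x y w : B) (m : M) :
    h2 A B M (b ⊗ₜ (((x ⊗ₜ y) ⊗ₜ w) ⊗ₜ m)) = (b * x) ⊗ₜ ((y ⊗ₜ w) ⊗ₜ m) := by
  simp [h2, g2]

theorem key (z : B ⊗[A] ((B ⊗[A] B) ⊗[A] M)) :
    (D0 A B M).lTensor B (h1 A B M z) + h2 A B M ((D1 A B M).lTensor B z) = z := by
  induction z using TensorProduct.induction_on with
  | zero => simp
  | add x y hx hy =>
    simp only [map_add]
    rw [add_add_add_comm, hx, hy]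
  | tmul b w =>
    induction w using TensorProduct.induction_on with
    | zero => simp
    | add x y hx hy =>
      simp only [tmul_add, map_add]
      rw [add_add_add_comm, hx, hy]
    | tmul t m =>
      induction t using TensorProduct.induction_on with
      | zero => simp
      | add x y hx hy =>
        simp only [add_tmul, tmul_add, map_add]
        rw [add_add_add_comm, hx, hy]
      | tmul x y =>
        simp [D0, D1, p12, p13, p23]

theorem D1_comp_D0 : D1 A B M ∘ₗ D0 A B M = 0 := by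
  ext b m
  simp [D0, D1, p12, p13, p23]

theorem exact [Module.FaithfullyFlat A B] : Function.Exact (D0 A B M) (D1 A B M) := by
  apply Module.FaithfullyFlat.lTensor_reflects_exact A B
  intro z
  constructor
  · intro hz
    refine ⟨h1 A B M z, ?_⟩
    have := key A B M z
    rw [hz, map_zero, add_zero] at this
    exact this
  · rintro ⟨w, rfl⟩
    rw [← LinearMap.comp_apply, ← LinearMap.lTensor_comp, D1_comp_D0, LinearMap.lTensor_zero,
      LinearMap.zero_apply]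

end

/-- Degree-one Amitsur exactness, stated with the named maps `p12`, `p13`, `p23`. -/
theorem amitsur_exact_one (A B M : Type u) [CommRing A] [CommRing B] [Algebra A B]
    [AddCommGroup M] [Module A M] [Module.FaithfullyFlat A B]
    (z : (B ⊗[A] B) ⊗[A] M)
    (hz : ((p23 A B).toLinearMap.rTensor M) z - ((p13 A B).toLinearMap.rTensor M) z
      + ((p12 A B).toLinearMap.rTensor M) z = 0) :
    ∃ c : B ⊗[A] M,
      (Algebra.TensorProduct.includeRight (R := A) (A := B) (B := B)).toLinearMap.rTensor M c -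
      (Algebra.TensorProduct.includeLeft (R := A) (S := A) (A := B) (B := B)).toLinearMap.rTensor
        M c = z := by
  have h : D1 A B M z = 0 := hz
  obtain ⟨c, hc⟩ := (exact A B M z).1 h
  exact ⟨c, hc⟩

/-- Degree-one Amitsur exactness, stated with the maps written out. -/
theorem amitsur_exact_one' (A B M : Type u) [CommRing A] [CommRing B] [Algebra A B]
    [AddCommGroup M] [Module A M] [Module.FaithfullyFlat A B]
    (z : (B ⊗[A] B) ⊗[A] M)
    (hz : ((Algebra.TensorProduct.map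
          (Algebra.TensorProduct.includeRight (R := A) (A := B) (B := B))
          (AlgHom.id A B)).toLinearMap.rTensor M) z -
        ((Algebra.TensorProduct.map
          (Algebra.TensorProduct.includeLeft (R := A) (S := A) (A := B) (B := B))
          (AlgHom.id A B)).toLinearMap.rTensor M) z +
        ((Algebra.TensorProduct.includeLeft (R := A) (S := A) (A := B ⊗[A] B)
          (B := B)).toLinearMap.rTensor M) z = 0) :
    ∃ c : B ⊗[A] M,
      (Algebra.TensorProduct.includeRight (R := A) (A := B) (B := B)).toLinearMap.rTensor M c -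
      (Algebra.TensorProduct.includeLeft (R := A) (S := A) (A := B) (B := B)).toLinearMap.rTensor
        M c = z :=
  amitsur_exact_one A B M z hz

end Groth.Agent.LeadAmitsur1
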