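import Mathlib
import Groth.Agent.Lib.Helper19ComplExtend

/-!
# Formal arcs through a rational point of a formally smooth algebra (lead)

`exists_arc`: `B` formally smooth over a field `k`, `ev : B →ₐ[k] k` a rational point with ideal
`m`, `π ∈ m \ m²`.  Then there is a `k`-algebra map `φ : B → k⟦X⟧` lifting `ev` with `φ π ≠ 0`.
-/

set_option autoImplicit false
set_option maxHeartbeats 400000
set_option linter.style.haveILetI false
set_option linter.unusedSectionVars false
set_option linter.unusedVariables false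

universe u

namespace Groth.Agent.Lib.LeadArc

variable {k : Type u} [Field k] {B : Type u} [CommRing B] [Algebra k B]

/-- a tangent vector at the rational point `ev` not killing `π`. -/
theorem exists_tangent (ev : B →ₐ[k] k) (π : B) (hπ : ev π = 0)
    (hπ2 : π ∉ (RingHom.ker ev.toRingHom) ^ 2) :
    ∃ L : B →ₗ[k] k, L π ≠ 0 ∧ L 1 = 0 ∧ ∀ x ∈ (RingHom.ker ev.toRingHom) ^ 2, L x = 0 := by
  let W : Submodule k B :=
    ((RingHom.ker ev.toRingHom) ^ 2).restrictScalars k ⊔ Submodule.span k {(1 : B)}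
  have hle : (RingHom.ker ev.toRingHom) ^ 2 ≤ RingHom.ker ev.toRingHom :=
    Ideal.pow_le_self two_ne_zero
  have hW : π ∉ W := by
    intro h
    obtain ⟨w, hw, z, hz, hwz⟩ := Submodule.mem_sup.1 h
    obtain ⟨c, rfl⟩ := Submodule.mem_span_singleton.1 hz
    have hw' : w ∈ (RingHom.ker ev.toRingHom) ^ 2 := hw
    have h1 : ev w = 0 := hle hw'
    have h2 : ev π = ev w + c := by
      rw [← hwz, map_add, map_smul, map_one, smul_eq_mul, mul_one]
    rw [hπ, h1, zero_add] at h2
    rw [← h2, zero_smul, add_zero] at hwz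
    exact hπ2 (hwz ▸ hw')
  obtain ⟨L, hL, hLW⟩ := Submodule.exists_dual_map_eq_bot_of_notMem hW inferInstance
  have hvan : ∀ x ∈ W, L x = 0 := by
    intro x hx
    have : L x ∈ W.map L := Submodule.mem_map_of_mem hx
    rw [hLW] at this
    exact this
  refine ⟨L, hL, hvan 1 ?_, fun x hx => hvan x ?_⟩
  · exact Submodule.mem_sup_right (Submodule.mem_span_singleton_self _)
  · exact Submodule.mem_sup_left hx

theorem leibniz (ev : B →ₐ[k] k) (L : B →ₗ[k] k) (h1 : L 1 = 0)
    (h2 : ∀ x ∈ (RingHom.ker ev.toRingHom) ^ 2, L x = 0) (a b : B) :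
    L (a * b) = ev a * L b + ev b * L a := by
  have ha : a - ev a • (1 : B) ∈ RingHom.ker ev.toRingHom := by
    change ev (a - ev a • (1 : B)) = 0
    rw [map_sub, map_smul, map_one, smul_eq_mul, mul_one, sub_self]
  have hb : b - ev b • (1 : B) ∈ RingHom.ker ev.toRingHom := by
    change ev (b - ev b • (1 : B)) = 0
    rw [map_sub, map_smul, map_one, smul_eq_mul, mul_one, sub_self]
  have hab : (a - ev a • (1 : B)) * (b - ev b • (1 : B)) ∈ (RingHom.ker ev.toRingHom) ^ 2 := by
    rw [pow_two]
    exact Ideal.mul_mem_mul ha hb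
  have h3 := h2 _ hab
  have h4 : a * b = (a - ev a • (1 : B)) * (b - ev b • (1 : B)) + ev a • b + ev b • a
      - (ev a * ev b) • (1 : B) := by
    simp only [Algebra.smul_def, mul_one, map_mul]
    ring
  rw [h4, map_sub, map_add, map_add, h3, map_smul, map_smul, map_smul, h1, smul_zero, sub_zero,
    zero_add, smul_eq_mul, smul_eq_mul]

open PowerSeries in
/-- the first order arc attached to a tangent vector. -/
noncomputable def arc₂ (ev : B →ₐ[k] k) (L : B →ₗ[k] k) (h1 : L 1 = 0)
    (h2 : ∀ x ∈ (RingHom.ker ev.toRingHom) ^ 2, L x = 0) :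
    B →ₐ[k] (PowerSeries k ⧸ (Ideal.span {(PowerSeries.X : PowerSeries k)}) ^ 2) where
  toFun b := Ideal.Quotient.mk _ (PowerSeries.C (ev b) + PowerSeries.C (L b) * PowerSeries.X)
  map_one' := by
    simp only [map_one, h1, map_zero, zero_mul, add_zero]
  map_zero' := by
    simp only [map_zero, zero_mul, add_zero]
  map_add' a b := by
    rw [← map_add (Ideal.Quotient.mk _)]
    congr 1
    simp only [map_add]
    ring
  map_mul' a b := by
    rw [leibniz ev L h1 h2 a b, ← map_mul (Ideal.Quotient.mk _), Ideal.Quotient.eq,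
      Ideal.span_singleton_pow, Ideal.mem_span_singleton]
    refine ⟨-(PowerSeries.C (L a) * PowerSeries.C (L b)), ?_⟩
    simp only [map_mul, map_add]
    ring
  commutes' c := by
    have e1 : ev (algebraMap k B c) = c := by
      rw [AlgHom.commutes]; rfl
    have e2 : L (algebraMap k B c) = 0 := by
      rw [Algebra.algebraMap_eq_smul_one, map_smul, h1, smul_zero]
    rw [← Ideal.Quotient.mk_algebraMap, e1, e2, map_zero, zero_mul, add_zero,
      PowerSeries.algebraMap_apply]
    rfl

theorem exists_arc [Algebra.FormallySmooth k B] (ev : B →ₐ[k] k) (π : B) (hπ : ev π = 0)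
    (hπ2 : π ∉ (RingHom.ker ev.toRingHom) ^ 2) :
    ∃ φ : B →ₐ[k] PowerSeries k,
      (∀ b, PowerSeries.constantCoeff (φ b) = ev b) ∧ φ π ≠ 0 := by
  obtain ⟨L, hL, h1, h2⟩ := exists_tangent ev π hπ hπ2
  haveI : IsAdicComplete ((Ideal.span {(PowerSeries.X : PowerSeries k)}) ^ 2) (PowerSeries k) :=
    Groth.Agent.Lib.Helper19.isAdicComplete_pow_two (Ideal.span {(PowerSeries.X : PowerSeries k)})
  obtain ⟨g, hg⟩ := Algebra.FormallySmooth.exists_mkₐ_comp_eq_of_isAdicComplete (R := k)
    (A := B) (S := PowerSeries k) (I := (Ideal.span {(PowerSeries.X : PowerSeries k)}) ^ 2)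
    (arc₂ ev L h1 h2)
  have key : ∀ b, ∃ r : PowerSeries k,
      g b - (PowerSeries.C (ev b) + PowerSeries.C (L b) * PowerSeries.X) =
        PowerSeries.X ^ 2 * r := by
    intro b
    have h3 : Ideal.Quotient.mk ((Ideal.span {(PowerSeries.X : PowerSeries k)}) ^ 2) (g b) =
        Ideal.Quotient.mk _ (PowerSeries.C (ev b) + PowerSeries.C (L b) * PowerSeries.X) :=
      congrArg (fun f => f b) hg
    rw [Ideal.Quotient.eq, Ideal.span_singleton_pow, Ideal.mem_span_singleton] at h3
    exact h3
  refine ⟨g, fun b => ?_, ?_⟩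
  · obtain ⟨r, hr⟩ := key b
    have h4 : g b = PowerSeries.C (ev b) + PowerSeries.C (L b) * PowerSeries.X
        + PowerSeries.X ^ 2 * r := by rw [← hr]; ring
    rw [h4]
    simp
  · intro h0
    obtain ⟨r, hr⟩ := key π
    rw [h0, hπ, map_zero, zero_add, zero_sub] at hr
    have h5 := congrArg (PowerSeries.coeff 1) hr
    rw [map_neg, PowerSeries.coeff_C_mul, PowerSeries.coeff_one_X, mul_one] at h5
    have h6 : PowerSeries.coeff 1 (PowerSeries.X ^ 2 * r) = 0 := by
      rw [PowerSeries.coeff_X_pow_mul']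
      simp
    rw [h6] at h5
    simp at h5
    exact hL h5

end Groth.Agent.Lib.LeadArc
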