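import Mathlib
import Groth.Prelude.Def_Omega4
import Groth.Prelude.Def_MoreMor
import Groth.Prelude.Def_FlatMod2
import Groth.Agent.Lib.Helper18OmLS15
import Groth.Agent.Lib.Helper18OmLS10
import Groth.Agent.Lib.Helper2FormalEt
import Groth.Agent.Lib.Helper2LocFree
import Groth.Agent.Lib.Helper3SmDim

/-!
# Differentials of formally smooth morphisms (lead)

* `formallySmooth_appLE`: the scheme-level infinitesimal lifting property gives formally smooth ring maps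
  on affine charts.
* `main_S5016`: for formally smooth `f : X ⟶ Y` over `S` the canonical map `f^*Ω_{Y/S} ⟶ Ω_{X/S}` is mono.
* `main_S5018`: for formally smooth `f` locally of finite type, `Ω_{X/Y}` is finite locally free.
-/

set_option autoImplicit false
set_option maxHeartbeats 400000
set_option linter.style.haveILetI false
set_option linter.unusedSectionVars false
set_option linter.unusedVariables false
universe u
open CategoryTheory CategoryTheory.Limits AlgebraicGeometry TopologicalSpace Opposite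
open KaehlerDifferential TensorProduct

namespace Groth.Agent.Lib.LeadOmSm

open Groth.Agent.Helper18OmLS Groth.Agent.Lib.Helper2.FormalEt

/-- a formally smooth morphism (lifting sense) has formally smooth affine-local ring maps -/
theorem formallySmooth_appLE {X Y : Scheme.{u}} (f : X ⟶ Y) (hf : MoreMor.IsFormallySmoothHom f)
    (U : X.Opens) (V : Y.Opens) (hU : IsAffineOpen U) (hV : IsAffineOpen V) (hUV : U ≤ f ⁻¹ᵁ V) :
    (f.appLE V U hUV).hom.FormallySmooth := by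
  algebraize [(f.appLE V U hUV).hom]
  show Algebra.FormallySmooth Γ(Y, V) Γ(X, U)
  rw [Algebra.FormallySmooth.iff_comp_surjective]
  intro B _ _ I hI
  have hfac : Spec.map (f.appLE V U hUV) ≫ hV.fromSpec = hU.fromSpec ≫ f :=
    IsAffineOpen.SpecMap_appLE_fromSpec f hV hU hUV
  have key' : ∀ ψ : Γ(X, U) →ₐ[Γ(Y, V)] B ⧸ I,
      (Spec.map (CommRingCat.ofHom ψ.toRingHom) ≫ hU.fromSpec) ≫ f =
        Spec.map (CommRingCat.ofHom (Ideal.Quotient.mk I)) ≫
          Spec.map (CommRingCat.ofHom (algebraMap Γ(Y, V) B)) ≫ hV.fromSpec := by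
    intro ψ
    rw [Category.assoc, ← hfac, ← Category.assoc, ← Spec.map_comp, ← Category.assoc,
      ← Spec.map_comp]
    congr 2
    ext r
    exact ψ.commutes r
  intro g
  obtain ⟨l, hl1, hl2⟩ := hf B I hI (Spec.map (CommRingCat.ofHom g.toRingHom) ≫ hU.fromSpec)
    (Spec.map (CommRingCat.ofHom (algebraMap Γ(Y, V) B)) ≫ hV.fromSpec) (key' g).symm
  have hrange : Set.range l ⊆ Set.range hU.fromSpec := by
    rintro _ ⟨y, rfl⟩
    obtain ⟨y₀, rfl⟩ := surj_specMap_mk B I hI y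
    have : l (Spec.map (CommRingCat.ofHom (Ideal.Quotient.mk I)) y₀) =
        hU.fromSpec (Spec.map (CommRingCat.ofHom g.toRingHom) y₀) := by
      have := congr($hl1 y₀)
      simpa using this
    rw [this]
    exact ⟨_, rfl⟩
  let l₁ := IsOpenImmersion.lift hU.fromSpec l hrange
  have hl₁ : l₁ ≫ hU.fromSpec = l := IsOpenImmersion.lift_fac _ _ _
  obtain ⟨ψ, hψ⟩ := Spec.map_surjective l₁
  have hψ1 : (f.appLE V U hUV) ≫ ψ = CommRingCat.ofHom (algebraMap Γ(Y, V) B) := by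
    apply Spec.map_injective
    rw [← cancel_mono hV.fromSpec, Spec.map_comp, Category.assoc, hfac, ← Category.assoc, hψ,
      hl₁, hl2]
  have hψ2 : ψ ≫ CommRingCat.ofHom (Ideal.Quotient.mk I) = CommRingCat.ofHom g.toRingHom := by
    apply Spec.map_injective
    rw [← cancel_mono hU.fromSpec, Spec.map_comp, Category.assoc, hψ, hl₁, hl1]
  refine ⟨⟨ψ.hom, fun r => congr($(hψ1).hom r)⟩, ?_⟩
  ext x
  exact congr($(hψ2).hom x)

section S5016

theorem injective_of_formallySmooth {C A B : Type u} [CommRing C] [CommRing A] [CommRing B]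
    [Algebra C A] [Algebra A B] [Algebra C B] [IsScalarTower C A B] [Algebra.FormallySmooth A B]
    (κ : B ⊗[A] Ω[A⁄C] →ₗ[B] Ω[B⁄C])
    (hκ : ∀ (b : B) (a : A), κ (b ⊗ₜ D C A a) = b • D C B (algebraMap A B a)) :
    Function.Injective κ := by
  have h1 : κ = KaehlerDifferential.mapBaseChange C A B := by
    apply tensor_kaehler_ext
    intro a
    rw [hκ, KaehlerDifferential.mapBaseChange_tmul, KaehlerDifferential.map_D]
  rw [h1]
  haveI : Subsingleton (Algebra.H1Cotangent A B) :=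
    Algebra.FormallySmooth.subsingleton_h1Cotangent
  rw [injective_iff_map_eq_zero]
  intro t ht
  obtain ⟨z, rfl⟩ := (Algebra.H1Cotangent.exact_δ_mapBaseChange C A B t).mp ht
  rw [Subsingleton.elim z 0, map_zero]

theorem injective_of_model {B M N M' N' : Type u} [CommRing B] [AddCommGroup M] [AddCommGroup N]
    [AddCommGroup M'] [AddCommGroup N'] [Module B M] [Module B N] [Module B M'] [Module B N']
    (e₁ : M' ≃ₗ[B] M) (e₂ : N ≃ₗ[B] N') (κ : M' →ₗ[B] N') (φ : M → N)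
    (h : ∀ t, κ t = e₂ (φ (e₁ t))) (hκ : Function.Injective κ) : Function.Injective φ := by
  have h1 : φ = e₂.symm ∘ κ ∘ e₁.symm := by
    funext t
    simp [h]
  rw [h1]
  exact e₂.symm.injective.comp (hκ.comp e₁.symm.injective)

theorem chart_S5016 {X Y S : Scheme.{u}} (g : Y ⟶ S) (h : X ⟶ S)
    (f : X ⟶ Y) (w : f ≫ g = h)
    (ΩY : Y.Modules) (dY : OmegaSh.Der g ΩY) (hY : OmegaSh.IsUniversal dY)
    (ΩX : X.Modules) (dX : OmegaSh.Der h ΩX) (hX : OmegaSh.IsUniversal dX)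
    (c : (Scheme.Modules.pullback f).obj ΩY ⟶ ΩX) (hc : OmegaSh.IsDiffCompat f dY dX c)
    {W : S.Opens} (hW : IsAffineOpen W) {V : Y.Opens} (hV : IsAffineOpen V) {U : X.Opens}
    (hU : IsAffineOpen U) (hVW : V ≤ g ⁻¹ᵁ W) (hUV : U ≤ f ⁻¹ᵁ V)
    (hfs : (f.appLE V U hUV).hom.FormallySmooth) :
    Function.Injective (c.app U) := by
  have hUW : U ≤ h ⁻¹ᵁ W := by
    intro y hy
    have h1 : g (f y) ∈ W := hVW (hUV hy)
    have h2 : h y = g (f y) := by rw [← w]; rfl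
    change h y ∈ W
    rw [h2]; exact h1
  letI algCA : Algebra Γ(S, W) Γ(Y, V) := (g.appLE W V hVW).hom.toAlgebra
  letI algCB : Algebra Γ(S, W) Γ(X, U) := (h.appLE W U hUW).hom.toAlgebra
  letI algAB : Algebra Γ(Y, V) Γ(X, U) := (f.appLE V U hUV).hom.toAlgebra
  haveI : IsScalarTower Γ(S, W) Γ(Y, V) Γ(X, U) := by
    refine IsScalarTower.of_algebraMap_eq fun r => ?_
    have h1 : g.appLE W V hVW ≫ f.appLE V U hUV = (f ≫ g).appLE W U
        (fun y hy => hVW (hUV hy)) := Scheme.Hom.appLE_comp_appLE _ _ _ _ _ _ _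
    have h3 := OmegaSh.appLE_congr_hom w (U := W) (V := U) (fun y hy => hVW (hUV hy)) hUW
    have h4 : h.appLE W U hUW = g.appLE W V hVW ≫ f.appLE V U hUV := by rw [h1, h3]
    exact congr($h4 r)
  haveI : Algebra.FormallySmooth Γ(Y, V) Γ(X, U) := hfs
  obtain ⟨e₁, e₂, κ, hκ1, hκ2⟩ := exists_chart_model f g h dY dX c hc hUV hY hX hU hV hW hVW
    hW hUW rfl rfl rfl
  exact injective_of_model e₁ e₂ κ _ hκ1 (injective_of_formallySmooth κ hκ2)

theorem main_S5016 {X Y S : Scheme.{u}} (g : Y ⟶ S) (h : X ⟶ S)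
    (f : X ⟶ Y) (w : f ≫ g = h) (hf : MoreMor.IsFormallySmoothHom f)
    (ΩY : Y.Modules) (dY : OmegaSh.Der g ΩY) (hY : OmegaSh.IsUniversal dY)
    (ΩX : X.Modules) (dX : OmegaSh.Der h ΩX) (hX : OmegaSh.IsUniversal dX)
    (c : (Scheme.Modules.pullback f).obj ΩY ⟶ ΩX) (hc : OmegaSh.IsDiffCompat f dY dX c) :
    Mono c := by
  let Bset : Set X.Opens := {U | IsAffineOpen U ∧ ∃ (V : Y.Opens) (W : S.Opens),
    IsAffineOpen V ∧ IsAffineOpen W ∧ V ≤ g ⁻¹ᵁ W ∧ U ≤ f ⁻¹ᵁ V}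
  refine mono_of_injective_app_basis c Bset ?_ ?_
  · rw [Opens.isBasis_iff_nbhd]
    intro O x hxO
    obtain ⟨W, hW, hxW, -⟩ := exists_isAffineOpen_mem_and_subset (x := g (f x)) (U := ⊤) trivial
    obtain ⟨V, hV, hxV, hVW⟩ := exists_isAffineOpen_mem_and_subset (x := f x) (U := g ⁻¹ᵁ W) hxW
    have hx2 : x ∈ f ⁻¹ᵁ V ⊓ O := ⟨hxV, hxO⟩
    obtain ⟨U, hU, hxU, hUle⟩ := exists_isAffineOpen_mem_and_subset (x := x) (U := f ⁻¹ᵁ V ⊓ O) hx2
    exact ⟨U, ⟨hU, V, W, hV, hW, hVW, hUle.trans inf_le_left⟩, hxU, hUle.trans inf_le_right⟩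
  · rintro U ⟨hU, V, W, hV, hW, hVW, hUV⟩
    exact chart_S5016 g h f w ΩY dY hY ΩX dX hX c hc hW hV hU hVW hUV
      (formallySmooth_appLE f hf U V hU hV hUV)

end S5016

section S5018

open Groth.Agent.Lib.Helper2.LocFree Groth.Agent.Lib.Helper20.PullbackAff Groth.Agent.Lib.Helper20.Thickening

theorem main_S5018 {X Y : Scheme.{u}} (f : X ⟶ Y)
    (hf : MoreMor.IsFormallySmoothHom f) [LocallyOfFiniteType f]
    (Ω' : X.Modules) (d : OmegaSh.Der f Ω') (hd : OmegaSh.IsUniversal d) :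
    FlatMod.IsFinLocFree Ω' := by
  haveI := isQuasicoherent_of_isUniversal f d hd
  intro x
  obtain ⟨V, hV, hxV, -⟩ := exists_isAffineOpen_mem_and_subset (x := f x) (U := ⊤) trivial
  obtain ⟨U, hU, hxU, hUV⟩ := exists_isAffineOpen_mem_and_subset (x := x) (U := f ⁻¹ᵁ V) hxV
  letI alg : Algebra Γ(Y, V) Γ(X, U) := (f.appLE V U hUV).hom.toAlgebra
  haveI hfs : Algebra.FormallySmooth Γ(Y, V) Γ(X, U) := formallySmooth_appLE f hf U V hU hV hUV
  haveI hft : Algebra.FiniteType Γ(Y, V) Γ(X, U) :=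
    HasRingHomProperty.appLE (P := @LocallyOfFiniteType) f inferInstance ⟨V, hV⟩ ⟨U, hU⟩ hUV
  let e : (ΓUF hU).obj Ω' ≃ₗ[Γ(X, U)] Ω[Γ(X, U)⁄Γ(Y, V)] :=
    (ΓUFIso f d hd hU hV hUV rfl).toLinearEquiv
  haveI : Module.Finite Γ(X, U) ((ΓUF hU).obj Ω') := Module.Finite.equiv e.symm
  haveI : Module.Projective Γ(X, U) ((ΓUF hU).obj Ω') := Module.Projective.of_equiv e.symm
  haveI : Module.FinitePresentation Γ(X, U) ((ΓUF hU).obj Ω') :=
    Module.finitePresentation_of_projective _ _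
  obtain ⟨r, hr, hfree⟩ := exists_free_away_of_flat_atPrime ((ΓUF hU).obj Ω')
    (hU.primeIdealOf ⟨x, hxU⟩) inferInstance
  obtain ⟨D, m, hxD, -, hiso⟩ := exists_restrict_iso_freeMod_of_free_away Ω' hU x hxU r hr hfree
  exact ⟨D, m, hxD, hiso⟩

end S5018

section S5020

/-- **Ring lemma**: `A → B ↠ R` with `R` formally smooth over `A`, `I = ker (B → R)`.
If `a ∈ I` and `da ∈ I · Ω_{B/A}` then `a ∈ I²`. -/
theorem mem_sq_of_D_mem_smul_top {A B R : Type u} [CommRing A] [CommRing B] [CommRing R]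
    [Algebra A B] [Algebra B R] [Algebra A R] [IsScalarTower A B R] [Algebra.FormallySmooth A R]
    (hBR : Function.Surjective (algebraMap B R)) (a : B)
    (ha : a ∈ RingHom.ker (algebraMap B R))
    (h : D A B a ∈ (RingHom.ker (algebraMap B R) • ⊤ : Submodule B Ω[B⁄A])) :
    a ∈ RingHom.ker (algebraMap B R) ^ 2 := by
  obtain ⟨f₀, hf₀⟩ : ∃ f₀ : B →ₐ[A] R, ∀ b, f₀ b = algebraMap B R b :=
    ⟨IsScalarTower.toAlgHom A B R, fun _ => rfl⟩
  have hmemf₀ : ∀ b, b ∈ RingHom.ker f₀.toRingHom ↔ b ∈ RingHom.ker (algebraMap B R) := by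
    intro b
    rw [RingHom.mem_ker, RingHom.mem_ker]
    show f₀ b = 0 ↔ _
    rw [hf₀]
  have hkerf₀ : RingHom.ker f₀.toRingHom = RingHom.ker (algebraMap B R) := Ideal.ext hmemf₀
  have hπsurj : Function.Surjective f₀.kerSquareLift := by
    intro r
    obtain ⟨b, rfl⟩ := hBR r
    exact ⟨Ideal.Quotient.mk _ b, by rw [AlgHom.kerSquareLift_mk, hf₀]⟩
  have hsq : RingHom.ker f₀.kerSquareLift.toRingHom ^ 2 = ⊥ := by
    rw [AlgHom.ker_kerSquareLift, Ideal.cotangentIdeal_square]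
  obtain ⟨σ, hσ⟩ : ∃ σ : R →ₐ[A] (B ⧸ RingHom.ker f₀.toRingHom ^ 2),
      ∀ r, f₀.kerSquareLift (σ r) = r :=
    ⟨Algebra.FormallySmooth.liftOfSurjective (AlgHom.id A R) f₀.kerSquareLift hπsurj ⟨2, hsq⟩,
      fun r => Algebra.FormallySmooth.liftOfSurjective_apply _ _ _ _ r⟩
  have hprod : ∀ p q : B ⧸ RingHom.ker f₀.toRingHom ^ 2, f₀.kerSquareLift p = 0 →
      f₀.kerSquareLift q = 0 → p * q = 0 := by
    intro p q hp hq
    have hsq' : RingHom.ker f₀.kerSquareLift.toRingHom * RingHom.ker f₀.kerSquareLift.toRingHom = ⊥ :=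
      (pow_two (RingHom.ker f₀.kerSquareLift.toRingHom)).symm.trans hsq
    have h1 : p * q ∈ RingHom.ker f₀.kerSquareLift.toRingHom *
        RingHom.ker f₀.kerSquareLift.toRingHom :=
      Ideal.mul_mem_mul (RingHom.mem_ker.mpr hp) (RingHom.mem_ker.mpr hq)
    rw [hsq'] at h1
    exact h1
  have hδker : ∀ b : B, f₀.kerSquareLift (Ideal.Quotient.mk _ b - σ (f₀ b)) = 0 := by
    intro b
    rw [map_sub, hσ, AlgHom.kerSquareLift_mk, sub_self]
  obtain ⟨L, hL⟩ : ∃ L : Ω[B⁄A] →ₗ[B] (B ⧸ RingHom.ker f₀.toRingHom ^ 2),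
      ∀ b, L (D A B b) = Ideal.Quotient.mk _ b - σ (f₀ b) := by
    let δl : B →ₗ[A] (B ⧸ RingHom.ker f₀.toRingHom ^ 2) :=
      (Ideal.Quotient.mkₐ A (RingHom.ker f₀.toRingHom ^ 2)).toLinearMap - (σ.comp f₀).toLinearMap
    have hδl : ∀ b, δl b = Ideal.Quotient.mk _ b - σ (f₀ b) := fun b => rfl
    let δ : Derivation A B (B ⧸ RingHom.ker f₀.toRingHom ^ 2) := Derivation.mk' δl (fun x y => by
      have h0 := hprod _ _ (hδker x) (hδker y)
      rw [hδl, hδl, hδl, map_mul, map_mul, map_mul, Algebra.smul_def, Algebra.smul_def,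
        Ideal.Quotient.algebraMap_eq]
      linear_combination (-1 : B ⧸ RingHom.ker f₀.toRingHom ^ 2) * h0)
    exact ⟨δ.liftKaehlerDifferential, fun b =>
      (Derivation.liftKaehlerDifferential_comp_D δ b).trans (hδl b)⟩
  have hLker : ∀ m : Ω[B⁄A], f₀.kerSquareLift (L m) = 0 := by
    intro m
    have hm : m ∈ Submodule.span B (Set.range (D A B)) := by
      rw [KaehlerDifferential.span_range_derivation]; trivial
    induction hm using Submodule.span_induction with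
    | mem x hx => obtain ⟨b, rfl⟩ := hx; rw [hL]; exact hδker b
    | zero => rw [map_zero, map_zero]
    | add x y _ _ hx hy => rw [map_add, map_add, hx, hy, add_zero]
    | smul r x _ hx => rw [map_smul, Algebra.smul_def, map_mul, hx, mul_zero]
  have hLzero : ∀ m ∈ (RingHom.ker (algebraMap B R) • ⊤ : Submodule B Ω[B⁄A]), L m = 0 := by
    intro m hm
    refine Submodule.smul_induction_on hm ?_ ?_
    · intro x hx m' _
      rw [map_smul, Algebra.smul_def, Ideal.Quotient.algebraMap_eq]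
      refine hprod _ _ ?_ (hLker m')
      rw [AlgHom.kerSquareLift_mk, hf₀]
      exact RingHom.mem_ker.mp hx
    · intro x y hx hy
      rw [map_add, hx, hy, add_zero]
  have h1 := hLzero _ h
  rw [hL, hf₀, RingHom.mem_ker.mp ha, map_zero, sub_zero] at h1
  have h3 := Ideal.Quotient.eq_zero_iff_mem.mp h1
  rw [hkerf₀] at h3
  exact h3

variable {X' X Y : Scheme.{u}} (j : X' ⟶ X) [IsImmersion j] [QuasiCompact j] (f : X ⟶ Y)
    (Ω' : X.Modules) (d : OmegaSh.Der f Ω') (hd : OmegaSh.IsUniversal d)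
    (φ : Omega.conormal j ⟶ (Scheme.Modules.pullback j).obj Ω') (hφ : OmegaSh.IsConormalDiff j d φ)

include hd hφ in
theorem chart_S5020 {V : Y.Opens} (hV : IsAffineOpen V) {U : X.Opens} (hU : IsAffineOpen U)
    (hUV : U ≤ f ⁻¹ᵁ V) (hUj : U ≤ j.coborderRange)
    (hTV : j ⁻¹ᵁ U ≤ (j ≫ f) ⁻¹ᵁ V)
    (hfs : ((j ≫ f).appLE V (j ⁻¹ᵁ U) hTV).hom.FormallySmooth) :
    Function.Injective (φ.app (j ⁻¹ᵁ U)) := by
  haveI := isQuasicoherent_of_isUniversal f d hd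
  have hT : IsAffineOpen (j ⁻¹ᵁ U) :=
    Groth.Agent.Lib.Helper20.ConormalStalk.isAffineOpen_preimage j hU hUj
  have hTU : j ⁻¹ᵁ U ≤ j ⁻¹ᵁ U := le_refl _
  letI algAB : Algebra Γ(Y, V) Γ(X, U) := (f.appLE V U hUV).hom.toAlgebra
  letI algBR : Algebra Γ(X, U) Γ(X', j ⁻¹ᵁ U) := (j.appLE U (j ⁻¹ᵁ U) hTU).hom.toAlgebra
  letI algAR : Algebra Γ(Y, V) Γ(X', j ⁻¹ᵁ U) := ((j ≫ f).appLE V (j ⁻¹ᵁ U) hTV).hom.toAlgebra
  haveI : IsScalarTower Γ(Y, V) Γ(X, U) Γ(X', j ⁻¹ᵁ U) := by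
    refine IsScalarTower.of_algebraMap_eq fun r => ?_
    have h1 : f.appLE V U hUV ≫ j.appLE U (j ⁻¹ᵁ U) hTU = (j ≫ f).appLE V (j ⁻¹ᵁ U) hTV :=
      Scheme.Hom.appLE_comp_appLE _ _ _ _ _ _ _
    exact congr($h1.symm r)
  haveI : Algebra.FormallySmooth Γ(Y, V) Γ(X', j ⁻¹ᵁ U) := hfs
  have hBR : Function.Surjective (algebraMap Γ(X, U) Γ(X', j ⁻¹ᵁ U)) := by
    intro b
    obtain ⟨a, ha⟩ := Groth.Agent.Lib.Helper20.ConormalStalk.app_surjective j hU hUj b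
    refine ⟨a, ?_⟩
    rw [← ha]
    change (j.appLE U (j ⁻¹ᵁ U) hTU) a = _
    rw [← Scheme.Hom.app_eq_appLE]
  have hkerI : ∀ b : Γ(X, U), b ∈ RingHom.ker (algebraMap Γ(X, U) Γ(X', j ⁻¹ᵁ U)) ↔
      j.app U b = 0 := by
    intro b
    rw [RingHom.mem_ker]
    change (j.appLE U (j ⁻¹ᵁ U) hTU) b = 0 ↔ _
    rw [← Scheme.Hom.app_eq_appLE]
  have hkerEq : RingHom.ker (algebraMap Γ(X, U) Γ(X', j ⁻¹ᵁ U)) = RingHom.ker (j.app U).hom := by
    ext b
    rw [hkerI, RingHom.mem_ker]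
  rw [injective_iff_map_eq_zero]
  intro n' hn'
  obtain ⟨s, rfl⟩ := exists_unitSec_eq j (ClSub.idealMod j.ker) hTU hU hT rfl hBR n'
  rw [phi_unitSec j d φ hφ hTU s] at hn'
  obtain ⟨e, he⟩ := exists_pullback_equiv j Ω' hTU hU hT rfl
  have h1 : (1 : Γ(X', j ⁻¹ᵁ U)) ⊗ₜ[Γ(X, U)] (d.app U (OmegaSh.idealSect j.ker U s)) = 0 := by
    apply e.injective
    rw [he, one_smul, hn']
    exact (map_zero e).symm
  have h2 := mem_smul_top_of_one_tmul_eq_zero' hBR _ h1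
  have key : ∀ m ∈ (RingHom.ker (algebraMap Γ(X, U) Γ(X', j ⁻¹ᵁ U)) • ⊤ :
      Submodule Γ(X, U) Γ(Ω', U)),
      sectionsEquiv f d hd hU hV hUV rfl m ∈
        (RingHom.ker (algebraMap Γ(X, U) Γ(X', j ⁻¹ᵁ U)) • ⊤ :
          Submodule Γ(X, U) Ω[Γ(X, U)⁄Γ(Y, V)]) := by
    intro m hm
    refine Submodule.smul_induction_on hm (fun x hx m' _ => ?_) (fun x y hx hy => ?_)
    · rw [map_smul]
      exact Submodule.smul_mem_smul hx Submodule.mem_top
    · rw [map_add]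
      exact Submodule.add_mem _ hx hy
  have h3 := key _ h2
  rw [sectionsEquiv_d] at h3
  have h4 := mem_sq_of_D_mem_smul_top (A := Γ(Y, V)) hBR _
    ((hkerI _).mpr (app_idealSect_eq_zero j U s)) h3
  rw [hkerEq] at h4
  have h5 := mem_smul_top_of_idealSect_mem_sq j U s h4
  rw [← hkerEq] at h5
  exact unitSec_eq_zero_of_mem_smul_top j (ClSub.idealMod j.ker) hTU rfl h5

include hd hφ in
theorem main_S5020 (hf : MoreMor.IsFormallySmoothHom (j ≫ f)) : Mono φ := by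
  refine mono_of_injective_app_basis φ {T | ∃ (V : Y.Opens) (U : X.Opens), IsAffineOpen V ∧
    IsAffineOpen U ∧ U ≤ f ⁻¹ᵁ V ∧ U ≤ j.coborderRange ∧ T = j ⁻¹ᵁ U} ?_ ?_
  · refine TopologicalSpace.Opens.isBasis_iff_nbhd.mpr ?_
    intro O z hz
    obtain ⟨O'set, hO'open, hO'eq⟩ := j.isEmbedding.isInducing.isOpen_iff.mp O.isOpen
    let O' : X.Opens := ⟨O'set, hO'open⟩
    have hO' : ∀ z' : X', j z' ∈ O' ↔ z' ∈ O := by
      intro z'
      have : z' ∈ (j ⁻¹' O'set) ↔ z' ∈ (O : Set X') := by rw [hO'eq]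
      exact this
    obtain ⟨V, hV, hzV, -⟩ := exists_isAffineOpen_mem_and_subset (x := f (j z)) (U := ⊤) trivial
    have hjz : j z ∈ (f ⁻¹ᵁ V ⊓ j.coborderRange) ⊓ O' :=
      ⟨⟨hzV, subset_coborder ⟨z, rfl⟩⟩, (hO' z).mpr hz⟩
    obtain ⟨U, hU, hzU, hUle⟩ := exists_isAffineOpen_mem_and_subset (x := j z) hjz
    refine ⟨j ⁻¹ᵁ U, ⟨V, U, hV, hU, (hUle.trans inf_le_left).trans inf_le_left,
      (hUle.trans inf_le_left).trans inf_le_right, rfl⟩, hzU, ?_⟩
    intro z' hz'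
    exact (hO' z').mp ((hUle.trans inf_le_right) hz')
  · rintro T ⟨V, U, hV, hU, hUV, hUj, rfl⟩
    have hTV : j ⁻¹ᵁ U ≤ (j ≫ f) ⁻¹ᵁ V := fun y hy => hUV hy
    have hT : IsAffineOpen (j ⁻¹ᵁ U) :=
      Groth.Agent.Lib.Helper20.ConormalStalk.isAffineOpen_preimage j hU hUj
    exact chart_S5020 j f Ω' d hd φ hφ hV hU hUV hUj hTV
      (formallySmooth_appLE (j ≫ f) hf (j ⁻¹ᵁ U) V hT hV hTV)

end S5020

section S5019

open Groth.Agent.Lib.Helper2.LocFree Groth.Agent.Lib.Helper20.PullbackAff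
  Groth.Agent.Lib.Helper20.Thickening Groth.Agent.Lib.Helper20.LocFree

theorem main_S5019 {X Y : Scheme.{u}} (f : X ⟶ Y) [Smooth f]
    (Ω' : X.Modules) (d : OmegaSh.Der f Ω') (hd : OmegaSh.IsUniversal d) (x : ↥X) :
    ∃ (U : X.Opens) (n : ℕ), x ∈ U ∧ Nonempty (Ω'.restrict U.ι ≅ FlatMod.freeMod (↑U) n) ∧
      FlatMor.fibreDimAt f x = (n : WithBot ℕ∞) := by
  haveI := isQuasicoherent_of_isUniversal f d hd
  obtain ⟨V, hV, U, hU, hxU, e, hss⟩ := Smooth.exists_isStandardSmooth f x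
  obtain ⟨n, hn⟩ := Groth.Agent.Lib.Helper3.SmDim.exists_relDim_of_isStandardSmooth _ hss
  letI alg : Algebra Γ(Y, V) Γ(X, U) := (f.appLE V U e).hom.toAlgebra
  haveI hn' : Algebra.IsStandardSmoothOfRelativeDimension n Γ(Y, V) Γ(X, U) := hn
  haveI : Algebra.IsStandardSmooth Γ(Y, V) Γ(X, U) := hn'.isStandardSmooth
  haveI : Nonempty U := ⟨⟨x, hxU⟩⟩
  haveI : Nontrivial Γ(X, U) := inferInstance
  have hrank : Module.finrank Γ(X, U) Ω[Γ(X, U)⁄Γ(Y, V)] = n :=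
    Module.finrank_eq_of_rank_eq
      (Algebra.IsStandardSmoothOfRelativeDimension.rank_kaehlerDifferential n)
  let b : Module.Basis (Fin n) Γ(X, U) Ω[Γ(X, U)⁄Γ(Y, V)] :=
    Module.finBasisOfFinrankEq _ _ hrank
  let eq : (ΓUF hU).obj Ω' ≃ₗ[Γ(X, U)] Ω[Γ(X, U)⁄Γ(Y, V)] :=
    (ΓUFIso f d hd hU hV e rfl).toLinearEquiv
  exact ⟨U, n, hxU, ⟨restrictIsoFreeMod' Ω' hU (b.map eq.symm)⟩,
    Groth.Agent.Lib.Helper3.SmDim.fibreDimAt_eq_of_chart f n x hV hU hxU e hn⟩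

end S5019

end Groth.Agent.Lib.LeadOmSm
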