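import Mathlib
import Groth.Prelude.Def_Omega4
import Groth.Agent.Lib.LeadOmSm

set_option maxHeartbeats 400000
set_option autoImplicit false
set_option linter.style.haveILetI false
set_option linter.unusedSectionVars false
universe u
open CategoryTheory CategoryTheory.Limits AlgebraicGeometry TopologicalSpace Opposite
open KaehlerDifferential TensorProduct

/-!
# The conormal sheaf of a smooth subscheme of a smooth scheme is locally free of the expected rank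
-/

namespace Groth.Agent.Lib.LeadConorm

section charts

/-- Shrink an affine chart of a smooth morphism to a basic open on which it is standard smooth. -/
theorem exists_basicOpen_isStandardSmooth {X Y : Scheme.{u}} (f : X ⟶ Y) [Smooth f]
    {V : Y.Opens} (hV : IsAffineOpen V) {U : X.Opens} (hU : IsAffineOpen U) (e : U ≤ f ⁻¹ᵁ V)
    (x : X) (hx : x ∈ U) :
    ∃ r : Γ(X, U), x ∈ X.basicOpen r ∧
      (f.appLE V (X.basicOpen r) ((X.basicOpen_le r).trans e)).hom.IsStandardSmooth := by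
  have hP : HasRingHomProperty @Smooth.{u} (RingHom.Locally RingHom.IsStandardSmooth) := by
    convert! (inferInstance : HasRingHomProperty (@Smooth.{u}) RingHom.Smooth)
    ext f
    rw [RingHom.smooth_iff_locally_isStandardSmooth]
  have hf : Smooth f := ‹_›
  simp_rw [HasRingHomProperty.iff_appLE (P := @Smooth),
    RingHom.locally_iff_isLocalization RingHom.isStandardSmooth_respectsIso] at hf
  obtain ⟨s, hs, hfs⟩ := hf ⟨V, hV⟩ ⟨U, hU⟩ e
  apply iSup_basicOpen_of_span_eq_top at hs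
  have h1 : x ∈ (⨆ i ∈ s, X.basicOpen i) := hs.symm ▸ hx
  have h2 : ∃ r ∈ s, x ∈ X.basicOpen r := by simpa using h1
  obtain ⟨r, hr, hrs⟩ := h2
  refine ⟨r, hrs, ?_⟩
  rw [← f.appLE_map e (homOfLE (X.basicOpen_le r)).op]
  have : IsLocalization.Away r Γ(X, X.basicOpen r) := hU.isLocalization_basicOpen r
  exact hfs r hr _

/-- Standard smoothness of a chart passes to a basic open of the source. -/
theorem isStandardSmooth_basicOpen {X Y : Scheme.{u}} (f : X ⟶ Y)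
    {V : Y.Opens} {U : X.Opens} (hU : IsAffineOpen U) (e : U ≤ f ⁻¹ᵁ V)
    (h : (f.appLE V U e).hom.IsStandardSmooth) (r : Γ(X, U)) :
    (f.appLE V (X.basicOpen r) ((X.basicOpen_le r).trans e)).hom.IsStandardSmooth := by
  rw [← f.appLE_map e (homOfLE (X.basicOpen_le r)).op]
  have : IsLocalization.Away r Γ(X, X.basicOpen r) := hU.isLocalization_basicOpen r
  exact RingHom.isStandardSmooth_stableUnderCompositionWithLocalizationAway.right _ r _ h

/-- Compatible standard smooth charts for `f` at `j x` and for `j ≫ f` at `x`. -/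
theorem exists_charts {X' X Y : Scheme.{u}} (f : X ⟶ Y) [Smooth f]
    (j : X' ⟶ X) [IsImmersion j] [QuasiCompact j] [Smooth (j ≫ f)] (x : X') :
    ∃ (V : Y.Opens) (U : X.Opens), IsAffineOpen V ∧ IsAffineOpen U ∧ j x ∈ U ∧
      U ≤ j.coborderRange ∧
      ∃ (hUV : U ≤ f ⁻¹ᵁ V) (hTV : j ⁻¹ᵁ U ≤ (j ≫ f) ⁻¹ᵁ V),
        (f.appLE V U hUV).hom.IsStandardSmooth ∧
          ((j ≫ f).appLE V (j ⁻¹ᵁ U) hTV).hom.IsStandardSmooth := by
  obtain ⟨V, hV, hxV, -⟩ := exists_isAffineOpen_mem_and_subset (x := f (j x)) (U := ⊤) trivial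
  have hjx : j x ∈ f ⁻¹ᵁ V ⊓ j.coborderRange := ⟨hxV, subset_coborder ⟨x, rfl⟩⟩
  obtain ⟨U₀, hU₀, hxU₀, hU₀le⟩ := exists_isAffineOpen_mem_and_subset (x := j x) hjx
  have hU₀V : U₀ ≤ f ⁻¹ᵁ V := hU₀le.trans inf_le_left
  have hU₀j : U₀ ≤ j.coborderRange := hU₀le.trans inf_le_right
  have hT₀ : IsAffineOpen (j ⁻¹ᵁ U₀) :=
    Groth.Agent.Lib.Helper20.ConormalStalk.isAffineOpen_preimage j hU₀ hU₀j
  have hT₀V : j ⁻¹ᵁ U₀ ≤ (j ≫ f) ⁻¹ᵁ V := fun y hy => hU₀V hy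
  -- first shrink: standard smooth chart for `j ≫ f`
  obtain ⟨s₀, hxs₀, hs₀⟩ := exists_basicOpen_isStandardSmooth (j ≫ f) hV hT₀ hT₀V x hxU₀
  obtain ⟨b₀, hb₀⟩ := Groth.Agent.Lib.Helper20.ConormalStalk.app_surjective j hU₀ hU₀j s₀
  have hpre₁ : j ⁻¹ᵁ X.basicOpen b₀ = X'.basicOpen s₀ := by
    rw [Scheme.preimage_basicOpen, hb₀]
  have hU₁ : IsAffineOpen (X.basicOpen b₀) := hU₀.basicOpen b₀
  have hU₁le : X.basicOpen b₀ ≤ U₀ := X.basicOpen_le b₀
  have hT₁ : IsAffineOpen (j ⁻¹ᵁ X.basicOpen b₀) := by rw [hpre₁]; exact hT₀.basicOpen s₀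
  have hxU₁ : j x ∈ X.basicOpen b₀ := by
    have : x ∈ j ⁻¹ᵁ X.basicOpen b₀ := by rw [hpre₁]; exact hxs₀
    exact this
  have hT₁V : j ⁻¹ᵁ X.basicOpen b₀ ≤ (j ≫ f) ⁻¹ᵁ V := fun y hy => hU₀V (hU₁le hy)
  have hs₁ : ((j ≫ f).appLE V (j ⁻¹ᵁ X.basicOpen b₀) hT₁V).hom.IsStandardSmooth := by
    rw [(j ≫ f).appLE_congr _ rfl hpre₁ (fun φ => φ.hom.IsStandardSmooth)]
    exact hs₀
  -- second shrink: standard smooth chart for `f`
  obtain ⟨t, hxt, ht⟩ := exists_basicOpen_isStandardSmooth f hV hU₁ (hU₁le.trans hU₀V) (j x) hxU₁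
  have hU₂ : IsAffineOpen (X.basicOpen t) := hU₁.basicOpen t
  have hU₂le : X.basicOpen t ≤ X.basicOpen b₀ := X.basicOpen_le t
  have hpre₂ : j ⁻¹ᵁ X.basicOpen t = X'.basicOpen (j.app (X.basicOpen b₀) t) := by
    rw [Scheme.preimage_basicOpen]
  have hT₂V : j ⁻¹ᵁ X.basicOpen t ≤ (j ≫ f) ⁻¹ᵁ V := fun y hy => hU₀V (hU₁le (hU₂le hy))
  have hs₂ : ((j ≫ f).appLE V (j ⁻¹ᵁ X.basicOpen t) hT₂V).hom.IsStandardSmooth := by
    rw [(j ≫ f).appLE_congr _ rfl hpre₂ (fun φ => φ.hom.IsStandardSmooth)]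
    exact isStandardSmooth_basicOpen (j ≫ f) hT₁ hT₁V hs₁ _
  exact ⟨V, X.basicOpen t, hV, hU₂, hxt, (hU₂le.trans hU₁le).trans hU₀j,
    (hU₂le.trans hU₁le).trans hU₀V, hT₂V, ht, hs₂⟩

end charts

section ring

variable {A B R : Type u} [CommRing A] [CommRing B] [CommRing R]
  [Algebra A B] [Algebra B R] [Algebra A R] [IsScalarTower A B R]

/-- `A → B ↠ R` with `B`, `R` formally smooth over `A` and free differentials: `R ⊗_B I` is finite
projective of rank `rk Ω_{B/A} - rk Ω_{R/A}` at every prime. -/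
theorem rank_tensor_ker (hBR : Function.Surjective (algebraMap B R))
    [Algebra.FormallySmooth A B] [Algebra.FormallySmooth A R]
    [Module.Free B Ω[B⁄A]] [Module.Finite B Ω[B⁄A]]
    [Module.Free R Ω[R⁄A]] [Module.Finite R Ω[R⁄A]] :
    Module.Finite R (R ⊗[B] (RingHom.ker (algebraMap B R))) ∧
    Module.Projective R (R ⊗[B] (RingHom.ker (algebraMap B R))) ∧
    ∀ p : PrimeSpectrum R, Module.rankAtStalk (R ⊗[B] (RingHom.ker (algebraMap B R))) p +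
      Module.finrank R Ω[R⁄A] = Module.finrank B Ω[B⁄A] := by
  let P' : Algebra.Extension.{u} A R := ⟨B, Function.surjInv hBR, Function.surjInv_eq hBR⟩
  haveI : Algebra.FormallySmooth A P'.Ring := ‹Algebra.FormallySmooth A B›
  obtain ⟨l, hl⟩ := (Algebra.Extension.formallySmooth_iff_split_injection P').mp ‹_›
  obtain ⟨e, -, -⟩ := P'.exact_cotangentComplex_toKaehler.splitInjectiveEquiv
    P'.toKaehler_surjective ⟨l, hl⟩
  haveI hfreeCS : Module.Free R P'.CotangentSpace :=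
    (inferInstance : Module.Free R (R ⊗[B] Ω[B⁄A]))
  haveI hfinCS : Module.Finite R P'.CotangentSpace :=
    (inferInstance : Module.Finite R (R ⊗[B] Ω[B⁄A]))
  haveI hfinC : Module.Finite R P'.Cotangent :=
    Module.Finite.of_surjective ((LinearMap.fst R P'.Cotangent Ω[R⁄A]).comp e.toLinearMap)
      (fun y => ⟨e.symm (y, 0), by simp⟩)
  haveI hprojC : Module.Projective R P'.Cotangent :=
    Module.Projective.of_split (e.symm.toLinearMap.comp (LinearMap.inl R P'.Cotangent Ω[R⁄A]))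
      ((LinearMap.fst R P'.Cotangent Ω[R⁄A]).comp e.toLinearMap) (by
        ext x
        simp)
  have hrk : ∀ p : PrimeSpectrum R, Module.rankAtStalk P'.Cotangent p +
      Module.finrank R Ω[R⁄A] = Module.finrank B Ω[B⁄A] := by
    intro p
    haveI : Nontrivial R := p.nontrivial
    haveI : Nontrivial B := RingHom.domain_nontrivial (algebraMap B R)
    have hrkCS : Module.finrank R P'.CotangentSpace = Module.finrank B Ω[B⁄A] :=
      Module.finrank_baseChange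
    have h1 := congrFun (Module.rankAtStalk_eq_of_equiv e) p
    have h2 := congrFun (Module.rankAtStalk_prod P'.Cotangent Ω[R⁄A]) p
    have h3 := congrFun (Module.rankAtStalk_eq_finrank_of_free (R := R) (M := Ω[R⁄A])) p
    have h4 := congrFun (Module.rankAtStalk_eq_finrank_of_free (R := R)
      (M := P'.CotangentSpace)) p
    rw [Pi.add_apply] at h2
    rw [← hrkCS]
    simp only [Pi.natCast_def, Nat.cast_id] at h3 h4
    omega
  refine ⟨Module.Finite.equiv P'.cotangentEquiv.symm,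
    Module.Projective.of_equiv P'.cotangentEquiv.symm, fun p => ?_⟩
  rw [← hrk p]
  congr 1
  exact congrFun (Module.rankAtStalk_eq_of_equiv P'.cotangentEquiv) p

end ring

section chart

open Groth.Agent.Helper18OmLS Groth.Agent.Helper13PullbackUnit
  Groth.Agent.Lib.Helper2.LocFree Groth.Agent.Lib.Helper20.PullbackAff
  Groth.Agent.Lib.Helper20.Thickening Groth.Agent.Lib.Helper20.LocFree

/-- sections of the ideal sheaf of `j` over an open, as the kernel ideal. -/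
theorem exists_idealEquiv {X' X : Scheme.{u}} (j : X' ⟶ X) [QuasiCompact j] (U : X.Opens)
    (I : Ideal Γ(X, U)) (hI : ∀ b, b ∈ I ↔ j.app U b = 0) :
    ∃ e : Γ(ClSub.idealMod j.ker, U) ≃ₗ[Γ(X, U)] I,
      ∀ s, (e s : Γ(X, U)) = OmegaSh.idealSect j.ker U s := by
  have hmem : ∀ s, OmegaSh.idealSect j.ker U s ∈ I :=
    fun s => (hI _).mpr (app_idealSect_eq_zero j U s)
  let φ : Γ(ClSub.idealMod j.ker, U) →ₗ[Γ(X, U)] I :=
    { toFun := fun s => ⟨OmegaSh.idealSect j.ker U s, hmem s⟩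
      map_add' := fun s t => Subtype.ext (map_add _ s t)
      map_smul' := fun b s => Subtype.ext (idealSect_smul j.ker U b s) }
  have hφ : Function.Bijective φ := by
    constructor
    · intro s t h
      exact idealSect_injective j.ker U (congrArg Subtype.val h)
    · rintro ⟨b, hb⟩
      obtain ⟨s, hs⟩ := exists_idealSect_eq j U b ((hI b).mp hb)
      exact ⟨s, Subtype.ext hs⟩
  exact ⟨LinearEquiv.ofBijective φ hφ, fun s => rfl⟩

/-- **Chart computation**: on compatible standard smooth charts of relative dimensions `N` (for `f`) and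
`r` (for `j ≫ f`), the conormal sheaf of `j` is free of rank `N - r` near each point. -/
theorem chart_conormal {X' X Y : Scheme.{u}} (f : X ⟶ Y) (j : X' ⟶ X) [IsImmersion j]
    [QuasiCompact j]
    {V : Y.Opens} (hV : IsAffineOpen V) {U : X.Opens} (hU : IsAffineOpen U)
    (hUV : U ≤ f ⁻¹ᵁ V) (hUj : U ≤ j.coborderRange) (hTV : j ⁻¹ᵁ U ≤ (j ≫ f) ⁻¹ᵁ V)
    (N r : ℕ)
    (hN : (f.appLE V U hUV).hom.IsStandardSmoothOfRelativeDimension N)
    (hr : ((j ≫ f).appLE V (j ⁻¹ᵁ U) hTV).hom.IsStandardSmoothOfRelativeDimension r)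
    (x : X') (hx : j x ∈ U) :
    ∃ (D : X'.Opens) (n : ℕ), x ∈ D ∧
      Nonempty ((Omega.conormal j).restrict D.ι ≅ FlatMod.freeMod (D : Scheme.{u}) n) ∧
      n + r = N := by
  have hT : IsAffineOpen (j ⁻¹ᵁ U) :=
    Groth.Agent.Lib.Helper20.ConormalStalk.isAffineOpen_preimage j hU hUj
  have hTU : j ⁻¹ᵁ U ≤ j ⁻¹ᵁ U := le_refl _
  have hxT : x ∈ j ⁻¹ᵁ U := hx
  letI algAB : Algebra Γ(Y, V) Γ(X, U) := (f.appLE V U hUV).hom.toAlgebra
  letI algBR : Algebra Γ(X, U) Γ(X', j ⁻¹ᵁ U) := (j.appLE U (j ⁻¹ᵁ U) hTU).hom.toAlgebra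
  letI algAR : Algebra Γ(Y, V) Γ(X', j ⁻¹ᵁ U) := ((j ≫ f).appLE V (j ⁻¹ᵁ U) hTV).hom.toAlgebra
  haveI : IsScalarTower Γ(Y, V) Γ(X, U) Γ(X', j ⁻¹ᵁ U) := by
    refine IsScalarTower.of_algebraMap_eq fun r => ?_
    have h1 : f.appLE V U hUV ≫ j.appLE U (j ⁻¹ᵁ U) hTU = (j ≫ f).appLE V (j ⁻¹ᵁ U) hTV :=
      Scheme.Hom.appLE_comp_appLE _ _ _ _ _ _ _
    exact congr($h1.symm r)
  haveI hN' : Algebra.IsStandardSmoothOfRelativeDimension N Γ(Y, V) Γ(X, U) := hN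
  haveI hr' : Algebra.IsStandardSmoothOfRelativeDimension r Γ(Y, V) Γ(X', j ⁻¹ᵁ U) := hr
  haveI : Algebra.IsStandardSmooth Γ(Y, V) Γ(X, U) := hN'.isStandardSmooth
  haveI : Algebra.IsStandardSmooth Γ(Y, V) Γ(X', j ⁻¹ᵁ U) := hr'.isStandardSmooth
  haveI : Nonempty (j ⁻¹ᵁ U) := ⟨⟨x, hxT⟩⟩
  haveI : Nonempty U := ⟨⟨j x, hx⟩⟩
  haveI : Nontrivial Γ(X, U) := inferInstance
  haveI : Nontrivial Γ(X', j ⁻¹ᵁ U) := inferInstance
  have hrankB : Module.finrank Γ(X, U) Ω[Γ(X, U)⁄Γ(Y, V)] = N :=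
    Module.finrank_eq_of_rank_eq
      (Algebra.IsStandardSmoothOfRelativeDimension.rank_kaehlerDifferential N)
  have hrankR : Module.finrank Γ(X', j ⁻¹ᵁ U) Ω[Γ(X', j ⁻¹ᵁ U)⁄Γ(Y, V)] = r :=
    Module.finrank_eq_of_rank_eq
      (Algebra.IsStandardSmoothOfRelativeDimension.rank_kaehlerDifferential r)
  have hBR : Function.Surjective (algebraMap Γ(X, U) Γ(X', j ⁻¹ᵁ U)) := by
    intro b
    obtain ⟨a, ha⟩ := Groth.Agent.Lib.Helper20.ConormalStalk.app_surjective j hU hUj b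
    refine ⟨a, ?_⟩
    rw [← ha]
    change (j.appLE U (j ⁻¹ᵁ U) hTU) a = _
    rw [← Scheme.Hom.app_eq_appLE]
  have hkerI : ∀ b : Γ(X, U), b ∈ RingHom.ker (algebraMap Γ(X, U) Γ(X', j ⁻¹ᵁ U)) ↔
      j.app U b = 0 := by
    intro b
    rw [RingHom.mem_ker]
    change (j.appLE U (j ⁻¹ᵁ U) hTU) b = 0 ↔ _
    rw [← Scheme.Hom.app_eq_appLE]
  obtain ⟨hfin, hproj, hrk⟩ := rank_tensor_ker (A := Γ(Y, V)) hBR
  obtain ⟨eI, -⟩ := exists_idealEquiv j U _ hkerI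
  obtain ⟨e, -⟩ := exists_pullback_equiv j (ClSub.idealMod j.ker) hTU hU hT rfl
  obtain ⟨M, hM⟩ : ∃ M : X'.Modules, M = Omega.conormal j := ⟨_, rfl⟩
  haveI : M.IsQuasicoherent := by
    rw [hM]
    exact (inferInstance :
      ((Scheme.Modules.pullback j).obj (ClSub.idealMod j.ker)).IsQuasicoherent)
  obtain ⟨eM⟩ : Nonempty ((ΓUF hT).obj M ≃ₗ[Γ(X', j ⁻¹ᵁ U)]
      (Γ(X', j ⁻¹ᵁ U) ⊗[Γ(X, U)] RingHom.ker (algebraMap Γ(X, U) Γ(X', j ⁻¹ᵁ U)))) := by
    subst hM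
    exact ⟨(ΓUEquiv hT (Omega.conormal j)).symm ≪≫ₗ e.symm ≪≫ₗ
      TensorProduct.AlgebraTensorModule.congr (LinearEquiv.refl _ _) eI⟩
  haveI : Module.Finite Γ(X', j ⁻¹ᵁ U) ((ΓUF hT).obj M) := Module.Finite.equiv eM.symm
  haveI : Module.Projective Γ(X', j ⁻¹ᵁ U) ((ΓUF hT).obj M) := Module.Projective.of_equiv eM.symm
  haveI : Module.FinitePresentation Γ(X', j ⁻¹ᵁ U) ((ΓUF hT).obj M) :=
    Module.finitePresentation_of_projective _ _
  obtain ⟨r₁, hr₁, hfree⟩ := exists_free_tensor_away ((ΓUF hT).obj M)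
    (hT.primeIdealOf ⟨x, hxT⟩)
  have hD : IsAffineOpen (X'.basicOpen r₁) := hT.basicOpen r₁
  have hxD : x ∈ X'.basicOpen r₁ :=
    (Groth.Agent.Lib.Helper2.mem_basicOpen_iff_notMem_primeIdealOf hT x hxT r₁).2 hr₁
  have hle : X'.basicOpen r₁ ≤ (𝟙 X') ⁻¹ᵁ (j ⁻¹ᵁ U) := X'.basicOpen_le r₁
  letI algRD : Algebra Γ(X', j ⁻¹ᵁ U) Γ(X', X'.basicOpen r₁) :=
    (Scheme.Hom.appLE (𝟙 X') (j ⁻¹ᵁ U) (X'.basicOpen r₁) hle).hom.toAlgebra
  haveI : Nonempty (X'.basicOpen r₁) := ⟨⟨x, hxD⟩⟩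
  haveI : IsLocalization.Away r₁ Γ(X', X'.basicOpen r₁) := by
    convert hT.isLocalization_basicOpen r₁ using 1
    change RingHom.toAlgebra _ = RingHom.toAlgebra _
    congr 1
  haveI : Module.Free Γ(X', X'.basicOpen r₁)
      (Γ(X', X'.basicOpen r₁) ⊗[Γ(X', j ⁻¹ᵁ U)] ((ΓUF hT).obj M)) :=
    free_tensor_of_away r₁ _ hfree
  let e₁ : (ΓUF hD).obj ((Scheme.Modules.pullback (𝟙 X')).obj M) ≃ₗ[Γ(X', X'.basicOpen r₁)]
      (Γ(X', X'.basicOpen r₁) ⊗[Γ(X', j ⁻¹ᵁ U)] ((ΓUF hT).obj M)) :=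
    (ΓUFPullbackIso (𝟙 X') hT hD hle M).toLinearEquiv
  let e₂ : (ΓUF hD).obj ((Scheme.Modules.pullback (𝟙 X')).obj M) ≃ₗ[Γ(X', X'.basicOpen r₁)]
      (ΓUF hD).obj M :=
    ((ΓUF hD).mapIso ((Scheme.Modules.pullbackId X').app M)).toLinearEquiv
  haveI : Module.Free Γ(X', X'.basicOpen r₁) ((ΓUF hD).obj M) :=
    Module.Free.of_equiv (e₁.symm.trans e₂)
  haveI : Module.Finite Γ(X', X'.basicOpen r₁) ((ΓUF hD).obj M) :=
    Module.Finite.equiv (e₁.symm.trans e₂)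
  haveI : Nontrivial Γ(X', X'.basicOpen r₁) := inferInstance
  obtain ⟨q⟩ : Nonempty (PrimeSpectrum Γ(X', X'.basicOpen r₁)) := inferInstance
  have hfr : Module.finrank Γ(X', X'.basicOpen r₁) ((ΓUF hD).obj M) + r = N := by
    have h1 : Module.finrank Γ(X', X'.basicOpen r₁)
        (Γ(X', X'.basicOpen r₁) ⊗[Γ(X', j ⁻¹ᵁ U)] ((ΓUF hT).obj M)) =
        Module.finrank Γ(X', X'.basicOpen r₁) ((ΓUF hD).obj M) :=
      LinearEquiv.finrank_eq (e₁.symm.trans e₂)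
    have h2 := congrFun (Module.rankAtStalk_eq_finrank_of_free (R := Γ(X', X'.basicOpen r₁))
      (M := Γ(X', X'.basicOpen r₁) ⊗[Γ(X', j ⁻¹ᵁ U)] ((ΓUF hT).obj M))) q
    have h3 := Module.rankAtStalk_baseChange (R := Γ(X', j ⁻¹ᵁ U)) (M := (ΓUF hT).obj M) q
    have h4 := congrFun (Module.rankAtStalk_eq_of_equiv eM)
      (q.comap (algebraMap Γ(X', j ⁻¹ᵁ U) Γ(X', X'.basicOpen r₁)))
    have h5 := hrk (q.comap (algebraMap Γ(X', j ⁻¹ᵁ U) Γ(X', X'.basicOpen r₁)))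
    simp only [Pi.natCast_def, Nat.cast_id] at h2
    omega
  subst hM
  exact ⟨X'.basicOpen r₁, _, hxD,
    ⟨restrictIsoFreeMod' (Omega.conormal j) hD (Module.finBasisOfFinrankEq _ _ rfl)⟩, hfr⟩

end chart

section main

theorem main_S5021 {X' X Y : Scheme.{u}} (f : X ⟶ Y) [Smooth f]
    (j : X' ⟶ X) [IsImmersion j] [QuasiCompact j] [Smooth (j ≫ f)] (x : X') :
    ∃ (U : X'.Opens) (n : ℕ), x ∈ U ∧
      Nonempty ((Omega.conormal j).restrict U.ι ≅ FlatMod.freeMod (U : Scheme.{u}) n) ∧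
      FlatMor.fibreDimAt f (j x) = FlatMor.fibreDimAt (j ≫ f) x + (n : WithBot ℕ∞) := by
  obtain ⟨V, U, hV, hU, hxU, hUj, hUV, hTV, hs₁, hs₂⟩ := exists_charts f j x
  obtain ⟨N, hN⟩ := Groth.Agent.Lib.Helper3.SmDim.exists_relDim_of_isStandardSmooth _ hs₁
  obtain ⟨r, hr⟩ := Groth.Agent.Lib.Helper3.SmDim.exists_relDim_of_isStandardSmooth _ hs₂
  have hT : IsAffineOpen (j ⁻¹ᵁ U) :=
    Groth.Agent.Lib.Helper20.ConormalStalk.isAffineOpen_preimage j hU hUj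
  obtain ⟨D, n, hxD, hiso, hn⟩ := chart_conormal f j hV hU hUV hUj hTV N r hN hr x hxU
  have hd₁ := Groth.Agent.Lib.Helper3.SmDim.fibreDimAt_eq_of_chart f N (j x) hV hU hxU hUV hN
  have hd₂ := Groth.Agent.Lib.Helper3.SmDim.fibreDimAt_eq_of_chart (j ≫ f) r x hV hT hxU hTV hr
  refine ⟨D, n, hxD, hiso, ?_⟩
  rw [hd₁, hd₂, ← hn]
  push_cast
  rw [add_comm]

end main

end Groth.Agent.Lib.LeadConorm
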