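import Mathlib
import Groth.Prelude.Def_Flat
import Groth.Agent.Lib.Helper3SmDim
import Groth.Agent.Lib.Helper6Jac
import Groth.Agent.Lib.Helper6OmProjC
import Groth.Agent.Lib.Helper5LocalDim
import Groth.Agent.Lib.Helper14LocalDimB

/-!
# Jacobian criterion by dimension of the fibre of the differentials (lead)

For `S` of finite type over a field `k` and a prime `q` of `S`: `S` is smooth over `k` at `q` iff
`dim_{κ(q)} Ω_{S/k} ⊗ κ(q) ≤ dim_q Spec S`.
-/

set_option autoImplicit false
set_option maxHeartbeats 400000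
set_option linter.style.haveILetI false
set_option linter.unusedSectionVars false

universe u

namespace Groth.Agent.Lib.LeadJacDim

open TensorProduct KaehlerDifferential AlgebraicGeometry CategoryTheory

/-- the spectrum of a standard smooth algebra of relative dimension `m` over a field has local
dimension `m` everywhere. -/
theorem localDim_of_isStandardSmooth (k T : Type u) [Field k] [CommRing T] [Algebra k T] (m : ℕ)
    [h : Algebra.IsStandardSmoothOfRelativeDimension m k T] (z : PrimeSpectrum T) :
    FlatMor.localDim (PrimeSpectrum T) z = (m : WithBot ℕ∞) := by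
  have hf : (CommRingCat.ofHom (algebraMap k T)).hom.IsStandardSmoothOfRelativeDimension m :=
    (RingHom.isStandardSmoothOfRelativeDimension_algebraMap m).mpr h
  have h1 := Groth.Agent.Lib.Helper3.SmDim.fibreDimAt_SpecMap_of_isStandardSmoothOfRelativeDimension
    (CommRingCat.ofHom (algebraMap k T)) m hf z
  have h2 := (Groth.Agent.Lib.Helper4.FibDim.fibreDimAt_eq_fibLD
    (Spec.map (CommRingCat.ofHom (algebraMap k T))) z).symm.trans h1
  unfold Groth.Agent.Lib.Helper4.FibDim.fibLD at h2
  rw [← h2]
  haveI : Subsingleton (PrimeSpectrum k) := inferInstance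
  have hset : (⇑(Spec.map (CommRingCat.ofHom (algebraMap k T)))) ⁻¹'
      {(Spec.map (CommRingCat.ofHom (algebraMap k T))) z} = Set.univ := by
    ext y
    simp only [Set.mem_preimage, Set.mem_singleton_iff, Set.mem_univ, iff_true]
    exact Subsingleton.elim (α := PrimeSpectrum k) _ _
  rw [Groth.Agent.Lib.Helper4.FibDim.localDim_congr_set hset z rfl]
  exact Groth.Agent.Lib.Helper4.FibDim.localDim_eq_of_homeomorph
    (Homeomorph.Set.univ (PrimeSpectrum T)).symm z

/-- at a smooth point of a finite type algebra over a field, the fibre of the differentials has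
dimension the local dimension (`K` any field receiving `S` with kernel `q`). -/
theorem finrank_eq_localDim_of_isSmoothAt (k S : Type u) [Field k] [CommRing S] [Algebra k S]
    [Algebra.FiniteType k S] (q : Ideal S) [q.IsPrime] [hsm : Algebra.IsSmoothAt k q]
    (K : Type u) [Field K] [Algebra S K] (hK : RingHom.ker (algebraMap S K) = q) :
    ((Module.finrank K (K ⊗[S] Ω[S⁄k]) : ℕ∞) : WithBot ℕ∞) =
      FlatMor.localDim (PrimeSpectrum S) ⟨q, inferInstance⟩ := by
  haveI : Algebra.FinitePresentation k S :=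
    (Algebra.FinitePresentation.of_finiteType (R := k) (A := S)).mp inferInstance
  obtain ⟨g, hg, hstd⟩ := Algebra.IsSmoothAt.exists_notMem_isStandardSmooth k q
  obtain ⟨m, hm⟩ : ∃ m, Algebra.IsStandardSmoothOfRelativeDimension m k (Localization.Away g) := by
    obtain ⟨_, _, _, _, ⟨P⟩⟩ := hstd
    exact ⟨_, ⟨_, _, _, ‹_›, P, rfl⟩⟩
  -- (i) the local dimension
  have hdisj : Disjoint (Submonoid.powers g : Set S) (q : Set S) := by
    rwa [Ideal.disjoint_powers_iff_notMem_of_isPrime]
  haveI hqg : (q.map (algebraMap S (Localization.Away g))).IsPrime :=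
    IsLocalization.isPrime_of_isPrime_disjoint (Submonoid.powers g) _ _ ‹_› hdisj
  have hcomap : (q.map (algebraMap S (Localization.Away g))).comap
      (algebraMap S (Localization.Away g)) = q :=
    IsLocalization.under_map_of_isPrime_disjoint (Submonoid.powers g) _ ‹_› hdisj
  have hemb := PrimeSpectrum.localization_away_isOpenEmbedding (Localization.Away g) g
  have h1 := Groth.Agent.Lib.Helper4.VarDim.localDim_eq_of_isOpenEmbedding hemb
    ⟨q.map (algebraMap S (Localization.Away g)), hqg⟩
  have h2 := localDim_of_isStandardSmooth k (Localization.Away g) m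
    ⟨q.map (algebraMap S (Localization.Away g)), hqg⟩
  have hpt : PrimeSpectrum.comap (algebraMap S (Localization.Away g))
      ⟨q.map (algebraMap S (Localization.Away g)), hqg⟩ = ⟨q, inferInstance⟩ :=
    PrimeSpectrum.ext hcomap
  rw [hpt] at h1
  rw [← h1, h2]
  -- (ii) the rank
  have hu : IsUnit (algebraMap S K g) := by
    rw [isUnit_iff_ne_zero]
    intro h0
    exact hg (hK ▸ (RingHom.mem_ker.mpr h0))
  letI : Algebra (Localization.Away g) K := (IsLocalization.Away.lift g hu).toAlgebra
  haveI : IsScalarTower S (Localization.Away g) K :=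
    IsScalarTower.of_algebraMap_eq (fun a => (IsLocalization.Away.lift_eq g hu a).symm)
  haveI : Algebra.FormallyEtale S (Localization.Away g) :=
    Algebra.FormallyEtale.of_isLocalization (Submonoid.powers g)
  haveI : Nontrivial (Localization.Away g) :=
    RingHom.domain_nontrivial (algebraMap (Localization.Away g) K)
  let e1 : K ⊗[Localization.Away g] (Localization.Away g ⊗[S] Ω[S⁄k]) ≃ₗ[K] K ⊗[S] Ω[S⁄k] :=
    AlgebraTensorModule.cancelBaseChange S (Localization.Away g) K K Ω[S⁄k]
  let e2 : Localization.Away g ⊗[S] Ω[S⁄k] ≃ₗ[Localization.Away g] Ω[Localization.Away g⁄k] :=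
    tensorKaehlerEquivOfFormallyEtale k S (Localization.Away g)
  let e3 : K ⊗[Localization.Away g] (Localization.Away g ⊗[S] Ω[S⁄k]) ≃ₗ[K]
      K ⊗[Localization.Away g] Ω[Localization.Away g⁄k] :=
    AlgebraTensorModule.congr (LinearEquiv.refl K K) e2
  have h3 : Module.finrank K (K ⊗[S] Ω[S⁄k]) =
      Module.finrank K (K ⊗[Localization.Away g] Ω[Localization.Away g⁄k]) :=
    (e1.symm.trans e3).finrank_eq
  have h4 : Module.finrank (Localization.Away g) Ω[Localization.Away g⁄k] = m :=
    Module.finrank_eq_of_rank_eq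
      (Algebra.IsStandardSmoothOfRelativeDimension.rank_kaehlerDifferential m)
  rw [h3, Module.finrank_baseChange, h4]
  rfl

section LemmaE

variable {R A S K : Type u} [CommRing R] [CommRing A] [CommRing S] [Field K]
  [Algebra R A] [Algebra R S] [Algebra A S] [IsScalarTower R A S]
  [Algebra S K] [Algebra A K] [IsScalarTower A S K]

/-- the kernel of `S ⊗_A Ω_A → Ω_S` consists of the `1 ⊗ da`, `a` in the kernel of `A → S`. -/
theorem mapBaseChange_eq_zero_iff (hsurj : Function.Surjective (algebraMap A S))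
    (x : S ⊗[A] Ω[A⁄R]) :
    mapBaseChange R A S x = 0 ↔ ∃ a ∈ RingHom.ker (algebraMap A S), x = 1 ⊗ₜ[A] D R A a := by
  rw [exact_kerCotangentToTensor_mapBaseChange R A S hsurj x]
  constructor
  · rintro ⟨y, rfl⟩
    obtain ⟨a, rfl⟩ := Ideal.toCotangent_surjective _ y
    exact ⟨a.1, a.2, rfl⟩
  · rintro ⟨a, ha, rfl⟩
    exact ⟨Ideal.toCotangent _ ⟨a, ha⟩, rfl⟩

variable (R A S K) in
/-- the map `K ⊗_A Ω_A → K ⊗_S Ω_S`. -/
noncomputable def mu : K ⊗[A] Ω[A⁄R] →ₗ[K] K ⊗[S] Ω[S⁄R] :=
  ((mapBaseChange R A S).baseChange K) ∘ₗ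
    (AlgebraTensorModule.cancelBaseChange A S K K Ω[A⁄R]).symm.toLinearMap

theorem mu_tmul (c : K) (w : Ω[A⁄R]) :
    mu R A S K (c ⊗ₜ[A] w) = c ⊗ₜ[S] KaehlerDifferential.map R R A S w := by
  simp only [mu, LinearMap.coe_comp, LinearEquiv.coe_coe, Function.comp_apply,
    AlgebraTensorModule.cancelBaseChange_symm_tmul, LinearMap.baseChange_tmul,
    mapBaseChange_tmul, one_smul]

theorem mu_surjective (hsurj : Function.Surjective (algebraMap A S)) :
    Function.Surjective (mu R A S K) := by
  have h1 : Function.Surjective ((mapBaseChange R A S).baseChange K) := by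
    have : (((mapBaseChange R A S).baseChange K : K ⊗[S] (S ⊗[A] Ω[A⁄R]) →ₗ[K] K ⊗[S] Ω[S⁄R]) :
        K ⊗[S] (S ⊗[A] Ω[A⁄R]) → K ⊗[S] Ω[S⁄R]) = (mapBaseChange R A S).lTensor K :=
      LinearMap.baseChange_eq_ltensor _
    rw [this]
    exact LinearMap.lTensor_surjective K (mapBaseChange_surjective R A S hsurj)
  exact h1.comp (AlgebraTensorModule.cancelBaseChange A S K K Ω[A⁄R]).symm.surjective

theorem ker_mu (hsurj : Function.Surjective (algebraMap A S)) :
    LinearMap.ker (mu R A S K) = Submodule.span K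
      ((fun a : A => (1 : K) ⊗ₜ[A] D R A a) '' (RingHom.ker (algebraMap A S) : Set A)) := by
  apply le_antisymm
  · intro y hy
    rw [LinearMap.mem_ker] at hy
    obtain ⟨e, he⟩ : ∃ e : K ⊗[S] (S ⊗[A] Ω[A⁄R]) ≃ₗ[K] K ⊗[A] Ω[A⁄R],
        e = AlgebraTensorModule.cancelBaseChange A S K K Ω[A⁄R] := ⟨_, rfl⟩
    have hy' : (mapBaseChange R A S).lTensor K (e.symm y) = 0 := by
      rw [he]
      exact hy
    have hex0 := LinearMap.exact_subtype_ker_map (mapBaseChange R A S)
    have hex := lTensor_exact (R := S) (M := LinearMap.ker (mapBaseChange R A S))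
      (N := S ⊗[A] Ω[A⁄R]) (P := Ω[S⁄R]) K hex0 (mapBaseChange_surjective R A S hsurj)
    obtain ⟨z, hz⟩ := (hex (e.symm y)).mp hy'
    have key : ∀ z : K ⊗[S] (LinearMap.ker (mapBaseChange R A S)),
        e ((LinearMap.ker (mapBaseChange R A S)).subtype.lTensor K z) ∈ Submodule.span K
          ((fun a : A => (1 : K) ⊗ₜ[A] D R A a) '' (RingHom.ker (algebraMap A S) : Set A)) := by
      intro z
      induction z using TensorProduct.induction_on with
      | zero => simp
      | add z₁ z₂ h₁ h₂ =>
        rw [map_add, map_add]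
        exact add_mem h₁ h₂
      | tmul c x =>
        obtain ⟨a, ha, hxa⟩ := (mapBaseChange_eq_zero_iff hsurj x.1).mp x.2
        have h1 : e ((LinearMap.ker (mapBaseChange R A S)).subtype.lTensor K (c ⊗ₜ x)) =
            c • ((1 : K) ⊗ₜ[A] D R A a) := by
          rw [LinearMap.lTensor_tmul, Submodule.subtype_apply, hxa, he,
            AlgebraTensorModule.cancelBaseChange_tmul, one_smul, TensorProduct.smul_tmul',
            smul_eq_mul, mul_one]
        rw [h1]
        exact Submodule.smul_mem _ _ (Submodule.subset_span ⟨a, ha, rfl⟩)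
    have := key z
    rw [hz, LinearEquiv.apply_symm_apply] at this
    exact this
  · rw [Submodule.span_le]
    rintro _ ⟨a, ha, rfl⟩
    rw [SetLike.mem_coe, LinearMap.mem_ker, mu_tmul, KaehlerDifferential.map_D,
      RingHom.mem_ker.mp ha, map_zero, TensorProduct.tmul_zero]

/-- rank–nullity for the conormal sequence tensored with a field. -/
theorem finrank_add_finrank_span [Nontrivial A] [Module.Free A Ω[A⁄R]] [Module.Finite A Ω[A⁄R]]
    (hsurj : Function.Surjective (algebraMap A S)) :
    Module.finrank K (K ⊗[S] Ω[S⁄R]) + Module.finrank K (Submodule.span K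
      ((fun a : A => (1 : K) ⊗ₜ[A] D R A a) '' (RingHom.ker (algebraMap A S) : Set A))) =
    Module.finrank A Ω[A⁄R] := by
  have h1 := LinearMap.finrank_range_add_finrank_ker (mu R A S K)
  have h2 : Module.finrank K (K ⊗[A] Ω[A⁄R]) = Module.finrank A Ω[A⁄R] :=
    Module.finrank_baseChange
  rw [LinearMap.range_eq_top.mpr (mu_surjective hsurj), finrank_top, ker_mu hsurj, h2] at h1
  exact h1

end LemmaE

/-- the span of the `1 ⊗ da`, `a ∈ (f₁, …, f_c)`, is the span of the `1 ⊗ df_i` when the `f_i`
vanish in `K`. -/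
theorem span_image_span {R A K : Type u} [CommRing R] [CommRing A] [Field K] [Algebra R A]
    [Algebra A K] {ι : Type*} (f : ι → A) (hf : ∀ i, algebraMap A K (f i) = 0) :
    Submodule.span K ((fun a : A => (1 : K) ⊗ₜ[A] D R A a) ''
      (Ideal.span (Set.range f) : Set A)) =
      Submodule.span K (Set.range fun i => (1 : K) ⊗ₜ[A] D R A (f i)) := by
  have hker : ∀ a ∈ Ideal.span (Set.range f), algebraMap A K a = 0 := by
    intro a ha
    have : Ideal.span (Set.range f) ≤ RingHom.ker (algebraMap A K) := by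
      rw [Ideal.span_le]
      rintro _ ⟨i, rfl⟩
      exact RingHom.mem_ker.mpr (hf i)
    exact RingHom.mem_ker.mp (this ha)
  apply le_antisymm
  · rw [Submodule.span_le]
    rintro _ ⟨a, ha, rfl⟩
    show (1 : K) ⊗ₜ[A] D R A a ∈ _
    have ha' : a ∈ Submodule.span A (Set.range f) := ha
    induction ha' using Submodule.span_induction with
    | mem x hx =>
      obtain ⟨i, rfl⟩ := hx
      exact Submodule.subset_span ⟨i, rfl⟩
    | zero => simp
    | add x y hx hy h₁ h₂ =>
      rw [map_add, TensorProduct.tmul_add]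
      exact add_mem (h₁ hx) (h₂ hy)
    | smul r x hx h₁ =>
      rw [smul_eq_mul, Derivation.leibniz, TensorProduct.tmul_add, TensorProduct.tmul_smul,
        TensorProduct.tmul_smul]
      have hx0 : x • ((1 : K) ⊗ₜ[A] D R A r) = 0 := by
        rw [TensorProduct.smul_tmul', Algebra.smul_def, mul_one, hker x hx,
          TensorProduct.zero_tmul]
      rw [hx0, add_zero, ← algebraMap_smul K r]
      exact Submodule.smul_mem _ _ (h₁ hx)
  · apply Submodule.span_mono
    rintro _ ⟨i, rfl⟩
    exact ⟨f i, Ideal.subset_span ⟨i, rfl⟩, rfl⟩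

/-- independence of `1 ⊗ xᵢ` over a field `K` descends to the residue field of the kernel. -/
theorem linearIndependent_residueField {A K M : Type u} [CommRing A] [Field K] [Algebra A K]
    [AddCommGroup M] [Module A M] (Q : Ideal A) [Q.IsPrime]
    (hQ : RingHom.ker (algebraMap A K) = Q) {ι : Type*} (x : ι → M)
    (h : LinearIndependent K (fun i => (1 : K) ⊗ₜ[A] x i)) :
    LinearIndependent Q.ResidueField (fun i => (1 : Q.ResidueField) ⊗ₜ[A] x i) := by
  have hf₂ : Q.primeCompl ≤ (IsUnit.submonoid K).comap (algebraMap A K) := by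
    intro a ha
    show IsUnit (algebraMap A K a)
    rw [isUnit_iff_ne_zero]
    intro h0
    exact ha (hQ ▸ RingHom.mem_ker.mpr h0)
  let φ : Q.ResidueField →+* K := Ideal.ResidueField.lift Q (algebraMap A K) hQ.ge hf₂
  letI : Algebra Q.ResidueField K := φ.toAlgebra
  haveI : IsScalarTower A Q.ResidueField K := IsScalarTower.of_algebraMap_eq
    (fun a => (Ideal.ResidueField.lift_algebraMap Q (algebraMap A K) hQ.ge hf₂ a).symm)
  let θ : Q.ResidueField ⊗[A] M →ₗ[Q.ResidueField] K ⊗[A] M :=
    AlgebraTensorModule.map (Algebra.linearMap Q.ResidueField K) (LinearMap.id : M →ₗ[A] M)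
  have hinj : Function.Injective fun r : Q.ResidueField => r • (1 : K) := by
    intro a b hab
    have : φ a = φ b := by simpa [Algebra.smul_def, RingHom.algebraMap_toAlgebra] using hab
    exact φ.injective this
  have h' : LinearIndependent Q.ResidueField (fun i => (1 : K) ⊗ₜ[A] x i) :=
    h.restrict_scalars hinj
  apply LinearIndependent.of_comp θ
  convert h' using 1
  ext i
  simp [θ]

section Key

variable {k S S' : Type u} [Field k] [CommRing S] [Algebra k S] [Algebra.FiniteType k S]
  [CommRing S'] [Algebra k S'] [Algebra.FiniteType k S']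

/-- if `S' ↠ S`, `S'` is smooth at the preimage `q'` of `q` and the local dimension does not drop,
then the local rings agree and `S` is smooth at `q`. -/
theorem isSmoothAt_of_surjective_of_localDim_le (φ : S' →ₐ[k] S) (hφ : Function.Surjective φ)
    (q : Ideal S) [q.IsPrime] (q' : Ideal S') [q'.IsPrime] (hq' : q' = q.comap φ.toRingHom)
    [hsm : Algebra.IsSmoothAt k q']
    (hdim : FlatMor.localDim (PrimeSpectrum S') ⟨q', inferInstance⟩ ≤
      FlatMor.localDim (PrimeSpectrum S) ⟨q, inferInstance⟩) :
    Algebra.IsSmoothAt k q := by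
  classical
  haveI : IsNoetherianRing S := Algebra.FiniteType.isNoetherianRing k S
  haveI : IsNoetherianRing S' := Algebra.FiniteType.isNoetherianRing k S'
  obtain ⟨n, e, hn, he, -, he'⟩ := Groth.Agent.Lib.Helper14.LocalDim.exists_dims (k := k) q
  obtain ⟨n', e', hn', he1, -, he1'⟩ := Groth.Agent.Lib.Helper14.LocalDim.exists_dims (k := k) q'
  rw [Groth.Agent.Lib.Helper14.LocalDim.localDim_eq (k := k) q n e hn he he',
    Groth.Agent.Lib.Helper14.LocalDim.localDim_eq (k := k) q' n' e' hn' he1 he1'] at hdim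
  have hee : e' = e := by
    have hle : q' ≤ q.comap φ.toRingHom := hq'.le
    have hinj : Function.Injective (Ideal.quotientMap q φ.toRingHom hle) :=
      Ideal.quotientMap_injective' hq'.ge
    have hsur : Function.Surjective (Ideal.quotientMap q φ.toRingHom hle) :=
      Ideal.quotientMap_surjective hφ
    have := ringKrullDim_eq_of_ringEquiv (RingEquiv.ofBijective _ ⟨hinj, hsur⟩)
    rw [he1, he] at this
    exact_mod_cast this
  have hnn : n' ≤ n := by
    subst hee
    have h2 : n' + e' ≤ n + e' := by exact_mod_cast hdim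
    omega
  have hψs : Function.Surjective (Localization.localRingHom q' q φ.toRingHom hq') :=
    Groth.Agent.Lib.Helper6.OmProj.localRingHom_surjective φ.toRingHom hφ q q' hq'
  haveI : IsDomain (Localization.AtPrime q') :=
    Groth.Agent.Lib.Helper6.OmProj.isDomain_of_formallySmooth (k := k)
  have hd' : ringKrullDim (Localization.AtPrime q') = (n' : WithBot ℕ∞) := by
    rw [IsLocalization.AtPrime.ringKrullDim_eq_height q', hn']
    rfl
  have hd : ringKrullDim (Localization.AtPrime q) = (n : WithBot ℕ∞) := by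
    rw [IsLocalization.AtPrime.ringKrullDim_eq_height q, hn]
    rfl
  have hle : ringKrullDim (Localization.AtPrime q) ≤ ringKrullDim (Localization.AtPrime q') :=
    ringKrullDim_le_of_surjective _ hψs
  have hdimeq : ringKrullDim (Localization.AtPrime q') = ringKrullDim (Localization.AtPrime q) := by
    refine le_antisymm ?_ hle
    rw [hd', hd]
    exact_mod_cast hnn
  have hdef : ringKrullDim (Localization.AtPrime q ⧸
      (IsLocalRing.maximalIdeal (Localization.AtPrime q')).map
        (Localization.localRingHom q' q φ.toRingHom hq')) = 0 := by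
    rw [IsLocalRing.map_maximalIdeal_of_surjective _ hψs]
    exact ringKrullDim_eq_zero_of_field (IsLocalRing.ResidueField (Localization.AtPrime q))
  have hinj : Function.Injective (Localization.localRingHom q' q φ.toRingHom hq') :=
    Groth.Agent.Lib.Helper5.injective_of_ringKrullDim_eq _ hdef hdimeq
  have hcomm : ∀ c : k, Localization.localRingHom q' q φ.toRingHom hq'
      (algebraMap k (Localization.AtPrime q') c) = algebraMap k (Localization.AtPrime q) c := by
    intro c
    rw [IsScalarTower.algebraMap_apply k S' (Localization.AtPrime q'),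
      Localization.localRingHom_to_map, IsScalarTower.algebraMap_apply k S (Localization.AtPrime q)]
    congr 1
    exact φ.commutes c
  let E : Localization.AtPrime q' ≃ₐ[k] Localization.AtPrime q :=
    AlgEquiv.ofBijective
      { Localization.localRingHom q' q φ.toRingHom hq' with commutes' := hcomm } ⟨hinj, hψs⟩
  exact Algebra.FormallySmooth.of_equiv E

end Key

section Main

variable {k S : Type u} [Field k] [CommRing S] [Algebra k S] [Algebra.FiniteType k S]

theorem isSmoothAt_of_finrank_le_aux {A : Type u} [CommRing A] [Algebra k A]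
    [Algebra.FiniteType k A] [Algebra A S] [IsScalarTower k A S]
    (hsurj : Function.Surjective (algebraMap A S)) [Algebra.FormallySmooth k A]
    [Module.Free A Ω[A⁄k]] [Module.Finite A Ω[A⁄k]] [Nontrivial A]
    (q : Ideal S) [q.IsPrime] (K : Type u) [Field K] [Algebra S K]
    (hK : RingHom.ker (algebraMap S K) = q)
    (h : ((Module.finrank K (K ⊗[S] Ω[S⁄k]) : ℕ∞) : WithBot ℕ∞) ≤
      FlatMor.localDim (PrimeSpectrum S) ⟨q, inferInstance⟩) : Algebra.IsSmoothAt k q := by
  classical
  letI : Algebra A K := ((algebraMap S K).comp (algebraMap A S)).toAlgebra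
  haveI : IsScalarTower A S K := IsScalarTower.of_algebraMap_eq' rfl
  -- a maximal independent family of differentials of equations
  obtain ⟨v, hvmem, hvspan, hvind⟩ := Submodule.exists_fun_fin_finrank_span_eq K
    ((fun a : A => (1 : K) ⊗ₜ[A] D k A a) '' (RingHom.ker (algebraMap A S) : Set A))
  have hvmem' : ∀ i, ∃ a, a ∈ RingHom.ker (algebraMap A S) ∧ (1 : K) ⊗ₜ[A] D k A a = v i :=
    fun i => hvmem i
  choose f hfI hfv using hvmem'
  have hfv' : (fun i => (1 : K) ⊗ₜ[A] D k A (f i)) = v := funext hfv
  have hfK : ∀ i, algebraMap A K (f i) = 0 := by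
    intro i
    show algebraMap S K (algebraMap A S (f i)) = 0
    rw [RingHom.mem_ker.mp (hfI i), map_zero]
  -- the complete intersection `S' = A / (f)`
  obtain ⟨I', hI'⟩ : ∃ I' : Ideal A, I' = Ideal.span (Set.range f) := ⟨_, rfl⟩
  have hI'le : I' ≤ RingHom.ker (algebraMap A S) := by
    rw [hI', Ideal.span_le]
    rintro _ ⟨i, rfl⟩
    exact hfI i
  let φ : A ⧸ I' →ₐ[A] S := Ideal.Quotient.liftₐ I' (Algebra.ofId A S)
    (fun a ha => RingHom.mem_ker.mp (hI'le ha))
  have hφmk : ∀ a : A, φ (Ideal.Quotient.mk I' a) = algebraMap A S a := fun a => rfl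
  have hφ : Function.Surjective φ := by
    intro s
    obtain ⟨a, rfl⟩ := hsurj s
    exact ⟨Ideal.Quotient.mk I' a, hφmk a⟩
  letI : Algebra (A ⧸ I') K := ((algebraMap S K).comp φ.toRingHom).toAlgebra
  haveI : IsScalarTower A (A ⧸ I') K := IsScalarTower.of_algebraMap_eq (fun a => by
    show algebraMap S K (algebraMap A S a) = algebraMap S K (φ (algebraMap A (A ⧸ I') a))
    rw [φ.commutes])
  haveI : Algebra.FiniteType k (A ⧸ I') :=
    Algebra.FiniteType.of_surjective (Ideal.Quotient.mkₐ k I') Ideal.Quotient.mk_surjective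
  obtain ⟨q', hq'⟩ : ∃ q' : Ideal (A ⧸ I'), q' = q.comap (φ.restrictScalars k).toRingHom :=
    ⟨_, rfl⟩
  haveI hq'prime : q'.IsPrime := by
    rw [hq']
    exact Ideal.comap_isPrime _ _
  have hK' : RingHom.ker (algebraMap (A ⧸ I') K) = q' := by
    ext x
    rw [RingHom.mem_ker, hq', Ideal.mem_comap]
    show algebraMap S K (φ x) = 0 ↔ φ x ∈ q
    rw [← hK, RingHom.mem_ker]
  -- the dimensions of the fibres of the differentials agree
  have hE : Module.finrank K (K ⊗[A ⧸ I'] Ω[(A ⧸ I')⁄k]) = Module.finrank K (K ⊗[S] Ω[S⁄k]) := by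
    have h1 := finrank_add_finrank_span (R := k) (A := A) (S := S) (K := K) hsurj
    have h2 := finrank_add_finrank_span (R := k) (A := A) (S := A ⧸ I') (K := K)
      Ideal.Quotient.mk_surjective
    have h3 : RingHom.ker (algebraMap A (A ⧸ I')) = Ideal.span (Set.range f) := by
      rw [Ideal.Quotient.algebraMap_eq, Ideal.mk_ker, hI']
    rw [h3, span_image_span (R := k) f hfK, hfv', hvspan] at h2
    omega
  -- smoothness of `S'` at `q'`
  obtain ⟨Q₀, hQ₀⟩ : ∃ Q₀ : Ideal A, Q₀ = q'.comap (Ideal.Quotient.mk I') := ⟨_, rfl⟩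
  haveI : Q₀.IsPrime := by
    rw [hQ₀]
    exact Ideal.comap_isPrime _ _
  have hQ₀K : RingHom.ker (algebraMap A K) = Q₀ := by
    ext x
    rw [RingHom.mem_ker, hQ₀, Ideal.mem_comap, ← hK', RingHom.mem_ker,
      IsScalarTower.algebraMap_apply A (A ⧸ I') K]
    rfl
  haveI hQ₀sm : Algebra.IsSmoothAt k Q₀ := by
    haveI : Algebra.FormallySmooth A (Localization.AtPrime Q₀) :=
      Algebra.FormallySmooth.of_isLocalization Q₀.primeCompl
    exact Algebra.FormallySmooth.comp k A (Localization.AtPrime Q₀)
  have hmem : ∀ g : ↥(Finset.univ.image f), ∃ i, f i = g.1 := fun g => by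
    obtain ⟨i, -, hi⟩ := Finset.mem_image.mp g.2
    exact ⟨i, hi⟩
  choose σ hσ using hmem
  have hσinj : Function.Injective σ := fun g g' hgg =>
    Subtype.ext (by rw [← hσ g, ← hσ g', hgg])
  have hind : LinearIndependent K
      (fun g : ↥(Finset.univ.image f) => (1 : K) ⊗ₜ[A] D k A g.1) := by
    have h1 := hvind.comp σ hσinj
    have h2 : (fun g : ↥(Finset.univ.image f) => (1 : K) ⊗ₜ[A] D k A g.1) = v ∘ σ := by
      funext g
      simp only [Function.comp]
      rw [← hfv (σ g), hσ g]
    rw [h2]
    exact h1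
  haveI hsm' : Algebra.IsSmoothAt k q' := by
    refine (Groth.Agent.Lib.Helper6.Jac.isSmoothAt_quotient_iff k A I' q' Q₀ hQ₀).mpr
      ⟨Finset.univ.image f, ?_, ?_, ?_⟩
    · intro x hx
      obtain ⟨i, -, rfl⟩ := Finset.mem_image.mp (Finset.mem_coe.mp hx)
      rw [hI']
      exact Ideal.subset_span ⟨i, rfl⟩
    · rw [hI', Ideal.map_span, Finset.coe_image, Finset.coe_univ, Set.image_univ]
    · exact linearIndependent_residueField Q₀ hQ₀K (fun g : ↥(Finset.univ.image f) => D k A g.1)
        hind
  -- local dimensions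
  have hD := finrank_eq_localDim_of_isSmoothAt k (A ⧸ I') q' K hK'
  have hdim : FlatMor.localDim (PrimeSpectrum (A ⧸ I')) ⟨q', inferInstance⟩ ≤
      FlatMor.localDim (PrimeSpectrum S) ⟨q, inferInstance⟩ := by
    rw [← hD, hE]
    exact h
  exact isSmoothAt_of_surjective_of_localDim_le (φ.restrictScalars k) hφ q q' hq' hdim

/-- **Jacobian criterion by dimension**: `S` of finite type over a field `k` is smooth at `q` iff
`dim_{κ(q)} Ω_{S/k} ⊗ κ(q) ≤ dim_q Spec S`. -/
theorem main_S2063 (q : Ideal S) [q.IsPrime] :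
    Algebra.IsSmoothAt k q ↔
      ((Module.finrank q.ResidueField (q.ResidueField ⊗[S] Ω[S⁄k]) : ℕ∞) : WithBot ℕ∞) ≤
        FlatMor.localDim (PrimeSpectrum S) ⟨q, inferInstance⟩ := by
  constructor
  · intro hsm
    exact (finrank_eq_localDim_of_isSmoothAt k S q q.ResidueField
      (Ideal.ker_algebraMap_residueField q)).le
  · intro h
    obtain ⟨N, π, hπ⟩ := Algebra.FiniteType.iff_quotient_mvPolynomial''.mp
      (inferInstance : Algebra.FiniteType k S)
    letI : Algebra (MvPolynomial (Fin N) k) S := π.toRingHom.toAlgebra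
    haveI : IsScalarTower k (MvPolynomial (Fin N) k) S :=
      IsScalarTower.of_algebraMap_eq' π.comp_algebraMap.symm
    exact isSmoothAt_of_finrank_le_aux (A := MvPolynomial (Fin N) k) hπ q q.ResidueField
      (Ideal.ker_algebraMap_residueField q) h

end Main

end Groth.Agent.Lib.LeadJacDim
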