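import Mathlib
import Groth.Prelude.Def_Omega4
import Groth.Prelude.Def_FlatMod2
import Groth.Agent.Lib.LeadOmSm
import Groth.Agent.Lib.LeadJacDim
import Groth.Agent.Lib.LeadConorm
import Groth.Agent.Lib.Helper26ModRank
import Groth.Agent.Lib.Helper4FibDimF

/-!
# Smooth = flat with smooth fibres, pointwise (lead)

* `isSmoothAt_of_flat_of_fiber`: local form of Mathlib's `Algebra.IsSmoothAt.of_formallySmooth_fiber`
  (flatness of `R_p → S_q` and formal smoothness of `κ(p) ⊗ S_q` only).
* `isSmoothAt_of_flat_of_basis`: `R → S` finitely presented, flat at `q`, `Ω_{S/R}` free of rank the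
  local dimension of the fibre at `q`: smooth at `q`.
* `main_S5022`.
-/

set_option autoImplicit false
set_option maxHeartbeats 400000
set_option linter.style.haveILetI false
set_option linter.unusedSectionVars false
set_option linter.unusedVariables false

universe u

open TensorProduct IsLocalRing Algebra

namespace Groth.Agent.Lib.LeadFlatSm

local notation "𝓀[" R "]" => ResidueField R

set_option backward.isDefEq.respectTransparency false in
/-- for an algebra over a local ring, `k ⊗ B = B / m B`. -/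
noncomputable def residueTensorEquiv (A B : Type u) [CommRing A] [CommRing B] [Algebra A B]
    [IsLocalRing A] :
    𝓀[A] ⊗[A] B ≃ₐ[A] B ⧸ (maximalIdeal A).map (algebraMap A B) :=
  (Algebra.TensorProduct.comm _ _ _).trans
    ((Algebra.TensorProduct.quotIdealMapEquivTensorQuot B (maximalIdeal A)).symm.restrictScalars _)

variable {R S : Type u} [CommRing R] [CommRing S] [Algebra R S]

/-- the local ring of the fibre at `Q` is `κ(p) ⊗_{R_p} S_q`. -/
theorem formallySmooth_residueField_tensor (p : Ideal R) [p.IsPrime] (Q : Ideal (p.Fiber S))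
    [Q.IsPrime] [hsm : Algebra.IsSmoothAt p.ResidueField Q] :
    letI := Localization.AtPrime.algebraOfLiesOver p (Q.comap Algebra.TensorProduct.includeRight)
    Algebra.FormallySmooth 𝓀[Localization.AtPrime p]
      (𝓀[Localization.AtPrime p] ⊗[Localization.AtPrime p]
        Localization.AtPrime (Q.comap Algebra.TensorProduct.includeRight)) := by
  letI := Localization.AtPrime.algebraOfLiesOver p (Q.comap Algebra.TensorProduct.includeRight)
  let e₁ := Ideal.Fiber.localizationAlgEquivQuotient p Q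
  let e₂ := residueTensorEquiv (Localization.AtPrime p)
    (Localization.AtPrime (Q.comap Algebra.TensorProduct.includeRight))
  have hI : p.map (algebraMap R
      (Localization.AtPrime (Q.comap Algebra.TensorProduct.includeRight))) =
      (maximalIdeal (Localization.AtPrime p)).map (algebraMap (Localization.AtPrime p)
        (Localization.AtPrime (Q.comap Algebra.TensorProduct.includeRight))) := by
    rw [← Localization.AtPrime.map_eq_maximalIdeal, Ideal.map_map, ← IsScalarTower.algebraMap_eq]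
  let e₃ := Ideal.quotientEquivAlgOfEq (Localization.AtPrime p) hI
  let e := e₁.trans (e₃.trans e₂.symm)
  let e' : Localization.AtPrime Q ≃ₐ[𝓀[Localization.AtPrime p]]
      𝓀[Localization.AtPrime p] ⊗[Localization.AtPrime p]
        Localization.AtPrime (Q.comap Algebra.TensorProduct.includeRight) :=
    AlgEquiv.extendScalarsOfSurjective (residue_surjective) e
  exact Algebra.FormallySmooth.of_equiv (A := Localization.AtPrime Q) e'

/-- **Flat with smooth fibre at a point implies smooth at the point** (local form of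
`Algebra.IsSmoothAt.of_formallySmooth_fiber`). -/
theorem isSmoothAt_of_flat_of_fiber [Algebra.FinitePresentation R S] (p : Ideal R) (q : Ideal S)
    [p.IsPrime] [q.IsPrime] [q.LiesOver p]
    (hflat : letI := Localization.AtPrime.algebraOfLiesOver p q
      Module.Flat (Localization.AtPrime p) (Localization.AtPrime q))
    (hfib : letI := Localization.AtPrime.algebraOfLiesOver p q
      Algebra.FormallySmooth 𝓀[Localization.AtPrime p]
        (𝓀[Localization.AtPrime p] ⊗[Localization.AtPrime p] Localization.AtPrime q)) :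
    Algebra.IsSmoothAt R q := by
  let Rp := Localization.AtPrime p
  let Sp := Localization (algebraMapSubmonoid S p.primeCompl)
  let Sq := Localization.AtPrime q
  let := Localization.AtPrime.algebraOfLiesOver p q
  let f : Sp →ₐ[S] Sq := IsLocalization.liftAlgHom (M := algebraMapSubmonoid S p.primeCompl)
        (f := Algebra.ofId _ _) (by
      rintro ⟨_, x, hx, rfl⟩
      simpa using! IsLocalization.map_units (M := q.primeCompl) Sq ⟨algebraMap _ _ x,
        by simp_all [q.over_def p]⟩)
  algebraize [f.toRingHom]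
  have : IsScalarTower R Sp Sq := .to₁₃₄ _ S _ _
  have : IsScalarTower Rp Sp Sq := .of_algebraMap_eq' <| by
    apply IsLocalization.ringHom_ext p.primeCompl
    simp only [RingHom.comp_assoc, ← IsScalarTower.algebraMap_eq]
  have : IsLocalization (algebraMapSubmonoid Sp q.primeCompl) Sq :=
    .isLocalization_of_submonoid_le _ _ (algebraMapSubmonoid S p.primeCompl) _
    (by rintro _ ⟨x, hx, rfl⟩; simp_all [q.over_def p])
  have : FinitePresentation Rp Sp := by
    have : Algebra.IsPushout R Rp S Sp :=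
      .symm <| Algebra.isPushout_of_isLocalization p.primeCompl _ _ _
    exact .equiv (Algebra.IsPushout.equiv R Rp S Sp)
  have : Module.Flat Rp Sq := hflat
  have : FormallySmooth 𝓀[Rp] (𝓀[Rp] ⊗[Rp] Sq) := hfib
  have := FormallySmooth.of_formallySmooth_residueField_tensor
    (R := Rp) (S := Sq) (P := Sp) (algebraMapSubmonoid _ q.primeCompl)
  exact .comp R Rp Sq

/-- form with the prime `Q` of the fibre as the datum. -/
theorem isSmoothAt_of_flat_of_isSmoothAt_fiber [Algebra.FinitePresentation R S] (p : Ideal R)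
    [p.IsPrime] (Q : Ideal (p.Fiber S)) [Q.IsPrime] [hsm : Algebra.IsSmoothAt p.ResidueField Q]
    (hflat : Module.Flat R
      (Localization.AtPrime (Q.comap Algebra.TensorProduct.includeRight))) :
    Algebra.IsSmoothAt R (Q.comap Algebra.TensorProduct.includeRight) := by
  refine isSmoothAt_of_flat_of_fiber p _ ?_ (formallySmooth_residueField_tensor p Q)
  letI := Localization.AtPrime.algebraOfLiesOver p (Q.comap Algebra.TensorProduct.includeRight)
  exact (Module.flat_iff_of_isLocalization (Localization.AtPrime p) p.primeCompl _).mpr hflat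

attribute [local instance] Algebra.TensorProduct.rightAlgebra in
/-- if `Ω_{S/R}` is free of rank `n ≤` the local dimension of the fibre at `Q`, the fibre is smooth
at `Q`. -/
theorem isSmoothAt_fiber_of_basis [Algebra.FiniteType R S] (p : Ideal R) [p.IsPrime]
    (Q : Ideal (p.Fiber S)) [Q.IsPrime] (n : ℕ) (b : Module.Basis (Fin n) S Ω[S⁄R])
    (hdim : (n : WithBot ℕ∞) ≤
      FlatMor.localDim (PrimeSpectrum (p.Fiber S)) ⟨Q, inferInstance⟩) :
    Algebra.IsSmoothAt p.ResidueField Q := by
  haveI : Nontrivial (p.Fiber S) := nontrivial_of_ne (0 : p.Fiber S) 1 (fun h =>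
    (inferInstance : Q.IsPrime).ne_top ((Ideal.eq_top_iff_one Q).mpr (h ▸ Q.zero_mem)))
  let e : p.Fiber S ⊗[S] Ω[S⁄R] ≃ₗ[p.Fiber S] Ω[p.Fiber S⁄p.ResidueField] :=
    KaehlerDifferential.tensorKaehlerEquiv R p.ResidueField S (p.Fiber S)
  let b' := (b.baseChange (p.Fiber S)).map e
  haveI : Module.Free (p.Fiber S) Ω[p.Fiber S⁄p.ResidueField] := Module.Free.of_basis b'
  have hrank : Module.finrank (p.Fiber S) Ω[p.Fiber S⁄p.ResidueField] = n := by
    rw [Module.finrank_eq_card_basis b', Fintype.card_fin]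
  rw [Groth.Agent.Lib.LeadJacDim.main_S2063 (k := p.ResidueField) (S := p.Fiber S) Q,
    Module.finrank_baseChange, hrank]
  exact hdim

open Groth.Agent.Lib.Helper4.FibDim in
/-- **Ring form of S5022 (⇐)**. -/
theorem isSmoothAt_of_flat_of_basis [Algebra.FinitePresentation R S] (q : Ideal S) [q.IsPrime]
    (hflat : Module.Flat R (Localization.AtPrime q)) (n : ℕ)
    (b : Module.Basis (Fin n) S Ω[S⁄R])
    (hdim : fibLD (PrimeSpectrum.comap (algebraMap R S)) ⟨q, inferInstance⟩ =
      (n : WithBot ℕ∞)) : Algebra.IsSmoothAt R q := by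
  obtain ⟨q', hq'⟩ : ∃ q' : PrimeSpectrum S, q' = ⟨q, inferInstance⟩ := ⟨_, rfl⟩
  rw [← hq', fibLD_comap_eq] at hdim
  obtain ⟨p, hp⟩ : ∃ p : PrimeSpectrum R, p = PrimeSpectrum.comap (algebraMap R S) q' :=
    ⟨_, rfl⟩
  obtain ⟨Q, hQ⟩ : ∃ Q : PrimeSpectrum (p.asIdeal.Fiber S),
      Q = PrimeSpectrum.preimageHomeomorphFiber R S p ⟨q', hp.symm⟩ := ⟨_, rfl⟩
  have hQq : PrimeSpectrum.comap Algebra.TensorProduct.includeRight.toRingHom Q = q' := by
    rw [hQ]
    exact comap_includeRight_preimageHomeomorphFiber p.asIdeal ⟨q', hp.symm⟩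
  have hdim' : FlatMor.localDim (PrimeSpectrum (p.asIdeal.Fiber S)) Q = (n : WithBot ℕ∞) := by
    subst hp
    rw [hQ]
    exact hdim
  have hI : Q.asIdeal.comap Algebra.TensorProduct.includeRight = q := by
    have h1 := congrArg PrimeSpectrum.asIdeal hQq
    rw [hq'] at h1
    exact h1
  haveI : Algebra.FiniteType R S := inferInstance
  haveI hsm : Algebra.IsSmoothAt p.asIdeal.ResidueField Q.asIdeal :=
    isSmoothAt_fiber_of_basis p.asIdeal Q.asIdeal n b hdim'.ge
  have key : ∀ (I : Ideal S) (hIq : I = q) [I.IsPrime], Module.Flat R (Localization.AtPrime I) := by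
    rintro I rfl _
    exact hflat
  have res := isSmoothAt_of_flat_of_isSmoothAt_fiber p.asIdeal Q.asIdeal (key _ hI)
  have key2 : ∀ (I : Ideal S) (hIq : I = q) [I.IsPrime], Algebra.IsSmoothAt R I →
      Algebra.IsSmoothAt R q := by
    rintro I rfl _ h
    exact h
  exact key2 _ hI res

section scheme

open CategoryTheory CategoryTheory.Limits AlgebraicGeometry TopologicalSpace Opposite
open Groth.Agent.Helper18OmLS Groth.Agent.Lib.Helper2.LocFree Groth.Agent.Lib.Helper20.PullbackAff
  Groth.Agent.Lib.Helper20.Thickening Groth.Agent.Lib.Helper20.LocFree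
open Groth.Agent.Lib.Helper4.FibDim

variable {X Y : Scheme.{u}}

/-- a flat stalk map makes the localisation of the chart flat over the base chart. -/
theorem flat_localization_of_flat_stalkMap (f : X ⟶ Y) {x : X} (U : Y.Opens)
    (hU : IsAffineOpen U) (V : X.Opens) (hV : IsAffineOpen V) (hVU : V ≤ f ⁻¹ᵁ U) (hx : x ∈ V)
    (H : (f.stalkMap x).hom.Flat) :
    letI := (f.appLE U V hVU).hom.toAlgebra
    Module.Flat Γ(Y, U) (Localization.AtPrime (hV.primeIdealOf ⟨x, hx⟩).asIdeal) := by
  letI := (f.appLE U V hVU).hom.toAlgebra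
  let p := (hU.primeIdealOf ⟨f x, hVU hx⟩).asIdeal
  let q := (hV.primeIdealOf ⟨x, hx⟩).asIdeal
  have : q.LiesOver p :=
    ⟨congr($(IsAffineOpen.comap_primeIdealOf_appLE U hU V hV hVU hx).1).symm⟩
  letI := Localization.AtPrime.algebraOfLiesOver p q
  have h1 : (algebraMap (Localization.AtPrime p) (Localization.AtPrime q)).Flat :=
    (RingHom.Flat.respectsIso.arrow_mk_iso_iff
      (IsAffineOpen.arrowStalkMapIso f U hU V hV hVU hx)).mp H
  have h2 : Module.Flat (Localization.AtPrime p) (Localization.AtPrime q) :=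
    RingHom.flat_algebraMap_iff.mp h1
  haveI : Module.Flat Γ(Y, U) (Localization.AtPrime p) := IsLocalization.flat _ p.primeCompl
  exact Module.Flat.trans Γ(Y, U) (Localization.AtPrime p) (Localization.AtPrime q)

/-- a flat chart gives a flat stalk map. -/
theorem flat_stalkMap_of_flat_appLE (f : X ⟶ Y) {x : X} (U : Y.Opens)
    (hU : IsAffineOpen U) (V : X.Opens) (hV : IsAffineOpen V) (hVU : V ≤ f ⁻¹ᵁ U) (hx : x ∈ V)
    (h : (f.appLE U V hVU).hom.Flat) : (f.stalkMap x).hom.Flat := by
  refine (RingHom.Flat.respectsIso.arrow_mk_iso_iff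
      (IsAffineOpen.arrowStalkMapIso f U hU V hV hVU hx)).mpr ?_
  exact h.localRingHom _ _
    congr($(IsAffineOpen.comap_primeIdealOf_appLE U hU V hV hVU hx).1).symm

/-- Shrink an affine chart with smooth ring map to a basic open on which it is standard smooth. -/
theorem exists_basicOpen_isStandardSmooth' (f : X ⟶ Y)
    {V : Y.Opens} {U : X.Opens} (hU : IsAffineOpen U) (e : U ≤ f ⁻¹ᵁ V)
    (hsm : (f.appLE V U e).hom.Smooth) (x : X) (hx : x ∈ U) :
    ∃ r : Γ(X, U), x ∈ X.basicOpen r ∧
      (f.appLE V (X.basicOpen r) ((X.basicOpen_le r).trans e)).hom.IsStandardSmooth := by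
  rw [RingHom.smooth_iff_locally_isStandardSmooth,
    RingHom.locally_iff_isLocalization RingHom.isStandardSmooth_respectsIso] at hsm
  obtain ⟨s, hs, hfs⟩ := hsm
  apply iSup_basicOpen_of_span_eq_top at hs
  have h1 : x ∈ (⨆ i ∈ s, X.basicOpen i) := hs.symm ▸ hx
  have h2 : ∃ r ∈ s, x ∈ X.basicOpen r := by simpa using h1
  obtain ⟨r, hr, hrs⟩ := h2
  refine ⟨r, hrs, ?_⟩
  rw [← f.appLE_map e (homOfLE (X.basicOpen_le r)).op]
  have : IsLocalization.Away r Γ(X, X.basicOpen r) := hU.isLocalization_basicOpen r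
  exact hfs r hr _

theorem main_S5022 (f : X ⟶ Y) [LocallyOfFinitePresentation f] (Ω' : X.Modules)
    (d : OmegaSh.Der f Ω') (hd : OmegaSh.IsUniversal d) (x : X) :
    x ∈ f.smoothLocus ↔
      (f.stalkMap x).hom.Flat ∧
        ∃ (U : X.Opens) (n : ℕ), x ∈ U ∧ Nonempty (Ω'.restrict U.ι ≅ FlatMod.freeMod (↑U) n) ∧
          FlatMor.fibreDimAt f x = (n : WithBot ℕ∞) := by
  haveI := isQuasicoherent_of_isUniversal f d hd
  constructor
  · intro hx
    obtain ⟨U, hU, V, hV, hVU, hxV, hsm⟩ := exists_smooth_of_formallySmooth_stalk f x hx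
    refine ⟨flat_stalkMap_of_flat_appLE f U hU V hV hVU hxV hsm.flat, ?_⟩
    obtain ⟨r, hxr, hstd⟩ := exists_basicOpen_isStandardSmooth' f hV hVU hsm x hxV
    have hVr : IsAffineOpen (X.basicOpen r) := hV.basicOpen r
    have e : X.basicOpen r ≤ f ⁻¹ᵁ U := (X.basicOpen_le r).trans hVU
    obtain ⟨n, hn⟩ := Groth.Agent.Lib.Helper3.SmDim.exists_relDim_of_isStandardSmooth _ hstd
    letI alg : Algebra Γ(Y, U) Γ(X, X.basicOpen r) := (f.appLE U (X.basicOpen r) e).hom.toAlgebra
    haveI hn' : Algebra.IsStandardSmoothOfRelativeDimension n Γ(Y, U) Γ(X, X.basicOpen r) := hn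
    haveI : Algebra.IsStandardSmooth Γ(Y, U) Γ(X, X.basicOpen r) := hn'.isStandardSmooth
    haveI : Nonempty (X.basicOpen r) := ⟨⟨x, hxr⟩⟩
    haveI : Nontrivial Γ(X, X.basicOpen r) := inferInstance
    have hrank : Module.finrank Γ(X, X.basicOpen r) Ω[Γ(X, X.basicOpen r)⁄Γ(Y, U)] = n :=
      Module.finrank_eq_of_rank_eq
        (Algebra.IsStandardSmoothOfRelativeDimension.rank_kaehlerDifferential n)
    let b : Module.Basis (Fin n) Γ(X, X.basicOpen r) Ω[Γ(X, X.basicOpen r)⁄Γ(Y, U)] :=
      Module.finBasisOfFinrankEq _ _ hrank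
    let eq : (ΓUF hVr).obj Ω' ≃ₗ[Γ(X, X.basicOpen r)] Ω[Γ(X, X.basicOpen r)⁄Γ(Y, U)] :=
      (ΓUFIso f d hd hVr hU e rfl).toLinearEquiv
    exact ⟨X.basicOpen r, n, hxr, ⟨restrictIsoFreeMod' Ω' hVr (b.map eq.symm)⟩,
      Groth.Agent.Lib.Helper3.SmDim.fibreDimAt_eq_of_chart f n x hU hVr hxr e hn⟩
  · rintro ⟨hflat, U₀, n, hxU₀, ⟨e₀⟩, hdim⟩
    obtain ⟨U, hU, hfxU, -⟩ := exists_isAffineOpen_mem_and_subset (x := f x) (U := ⊤) trivial
    obtain ⟨V, hV, hxV, hVle⟩ := exists_isAffineOpen_mem_and_subset (x := x)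
      (U := f ⁻¹ᵁ U ⊓ U₀) ⟨hfxU, hxU₀⟩
    have hVU : V ≤ f ⁻¹ᵁ U := hVle.trans inf_le_left
    have hVU₀ : V ≤ U₀ := hVle.trans inf_le_right
    rw [Scheme.Hom.mem_smoothLocus, formallySmooth_stalkMap_iff U hU V hV hVU hxV]
    letI := (f.appLE U V hVU).hom.toAlgebra
    haveI : Algebra.FinitePresentation Γ(Y, U) Γ(X, V) := f.finitePresentation_appLE hU hV hVU
    obtain ⟨b⟩ := Groth.Agent.Lib.Helper26.ModRank.nonempty_basis_of_restrict_iso Ω' e₀ hV hVU₀
    have hfl := flat_localization_of_flat_stalkMap f U hU V hV hVU hxV hflat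
    have hz : hV.fromSpec (hV.primeIdealOf ⟨x, hxV⟩) = x := hV.fromSpec_primeIdealOf ⟨x, hxV⟩
    have h1 : fibLD f x = fibLD (Spec.map (f.appLE U V hVU)) (hV.primeIdealOf ⟨x, hxV⟩) := by
      have h := fibLD_fromSpec f hV hU hVU (hV.primeIdealOf ⟨x, hxV⟩)
      rwa [hz] at h
    have hfib : fibLD (PrimeSpectrum.comap (algebraMap Γ(Y, U) Γ(X, V)))
        ⟨(hV.primeIdealOf ⟨x, hxV⟩).asIdeal, inferInstance⟩ = (n : WithBot ℕ∞) :=
      h1.symm.trans ((fibreDimAt_eq_fibLD f x).symm.trans hdim)
    show Algebra.IsSmoothAt Γ(Y, U) (hV.primeIdealOf ⟨x, hxV⟩).asIdeal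
    exact isSmoothAt_of_flat_of_basis _ hfl n
      (b.map (ΓUFIso f d hd hV hU hVU rfl).toLinearEquiv) hfib

end scheme

end Groth.Agent.Lib.LeadFlatSm
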