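import Mathlib
import Groth.Prelude.Def_CurvBase
import Groth.Agent.Lib.Helper6RegSm2

/-!
# Smoothness at a point of a scheme over a field via the local ring (T2H3)
-/

set_option autoImplicit false
set_option linter.style.haveILetI false
universe u
open CategoryTheory CategoryTheory.Limits AlgebraicGeometry TopologicalSpace

namespace Groth.Agent.Lib.T2H3.StalkSmooth

/-- A point of a scheme locally of finite presentation over a field `k` is in the smooth locus
iff its local ring is formally smooth over `k`. -/
theorem mem_smoothLocus_iff_formallySmooth_stalk (k : Type u) [Field k] (X : Scheme.{u})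
    [X.Over (Spec (CommRingCat.of k))]
    [LocallyOfFinitePresentation (X ↘ (Spec (CommRingCat.of k)))] (x : X) :
    letI := Curv2.stalkAlgebra k X x
    x ∈ (X ↘ (Spec (CommRingCat.of k))).smoothLocus ↔
      Algebra.FormallySmooth k (X.presheaf.stalk x) := by
  letI algkB := Curv2.stalkAlgebra k X x
  set f := X ↘ (Spec (CommRingCat.of k)) with hf
  rw [Scheme.Hom.mem_smoothLocus]
  let K' := (Spec.structureSheaf k).presheaf.stalk (f x)
  letI algK'B : Algebra K' (X.presheaf.stalk x) := (f.stalkMap x).hom.toAlgebra
  haveI : IsScalarTower k K' (X.presheaf.stalk x) := by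
    apply IsScalarTower.of_algebraMap_eq'
    have h1 : algebraMap k K' = (StructureSheaf.toStalk k (f x)).hom := rfl
    have h2 : StructureSheaf.toStalk k (f x) = (Scheme.ΓSpecIso (CommRingCat.of k)).inv ≫
        (Spec (CommRingCat.of k)).presheaf.germ ⊤ (f x) trivial := rfl
    have h3 : (Spec (CommRingCat.of k)).presheaf.germ ⊤ (f x) trivial ≫ f.stalkMap x =
        f.appTop ≫ X.presheaf.germ ⊤ x trivial := Scheme.Hom.germ_stalkMap f ⊤ x trivial
    have h4 : algebraMap k (X.presheaf.stalk x) =
        ((Scheme.ΓSpecIso (CommRingCat.of k)).inv ≫ f.appTop ≫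
          X.presheaf.germ ⊤ x trivial).hom := rfl
    have h5 : algebraMap K' (X.presheaf.stalk x) = (f.stalkMap x).hom := rfl
    rw [h4, h5, h1, h2, ← h3]
    rfl
  haveI : IsLocalization.AtPrime K' (f x).asIdeal := inferInstance
  show Algebra.FormallySmooth K' (X.presheaf.stalk x) ↔ _
  constructor
  · intro h
    haveI : Algebra.FormallySmooth k K' :=
      Algebra.FormallySmooth.of_isLocalization (f x).asIdeal.primeCompl
    exact Algebra.FormallySmooth.comp k K' _
  · intro h
    exact Algebra.FormallySmooth.localization_base (R := k) (Rₘ := K')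
      (f x).asIdeal.primeCompl

/-- The local ring of a scheme locally of finite type over a field `k` is essentially of finite
type over `k`. -/
theorem essFiniteType_stalk (k : Type u) [Field k] (X : Scheme.{u})
    [X.Over (Spec (CommRingCat.of k))]
    [LocallyOfFiniteType (X ↘ (Spec (CommRingCat.of k)))] (x : X) :
    letI := Curv2.stalkAlgebra k X x
    Algebra.EssFiniteType k (X.presheaf.stalk x) := by
  letI algkB := Curv2.stalkAlgebra k X x
  set f := X ↘ (Spec (CommRingCat.of k)) with hf
  let K' := (Spec.structureSheaf k).presheaf.stalk (f x)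
  letI algK'B : Algebra K' (X.presheaf.stalk x) := (f.stalkMap x).hom.toAlgebra
  haveI : IsScalarTower k K' (X.presheaf.stalk x) := by
    apply IsScalarTower.of_algebraMap_eq'
    have h1 : algebraMap k K' = (StructureSheaf.toStalk k (f x)).hom := rfl
    have h2 : StructureSheaf.toStalk k (f x) = (Scheme.ΓSpecIso (CommRingCat.of k)).inv ≫
        (Spec (CommRingCat.of k)).presheaf.germ ⊤ (f x) trivial := rfl
    have h3 : (Spec (CommRingCat.of k)).presheaf.germ ⊤ (f x) trivial ≫ f.stalkMap x =
        f.appTop ≫ X.presheaf.germ ⊤ x trivial := Scheme.Hom.germ_stalkMap f ⊤ x trivial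
    have h4 : algebraMap k (X.presheaf.stalk x) =
        ((Scheme.ΓSpecIso (CommRingCat.of k)).inv ≫ f.appTop ≫
          X.presheaf.germ ⊤ x trivial).hom := rfl
    have h5 : algebraMap K' (X.presheaf.stalk x) = (f.stalkMap x).hom := rfl
    rw [h4, h5, h1, h2, ← h3]
    rfl
  haveI : IsLocalization.AtPrime K' (f x).asIdeal := inferInstance
  haveI : Algebra.EssFiniteType k K' :=
    Algebra.EssFiniteType.of_isLocalization K' (f x).asIdeal.primeCompl
  haveI : Algebra.EssFiniteType K' (X.presheaf.stalk x) := LocallyOfFiniteType.stalkMap f x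
  exact Algebra.EssFiniteType.comp k K' _

open IsLocalRing in
/-- **Regular + formally smooth residue field implies formally smooth** for an essentially finite
type local algebra over a field. -/
theorem formallySmooth_of_isRegularLocalRing_of_residueField (k B : Type u) [Field k] [CommRing B]
    [Algebra k B] [Algebra.EssFiniteType k B] [IsRegularLocalRing B]
    [Algebra.FormallySmooth k (ResidueField B)] : Algebra.FormallySmooth k B := by
  let S₀ := Algebra.EssFiniteType.subalgebra k B
  let M := Algebra.EssFiniteType.submonoid k B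
  let q : Ideal S₀ := (maximalIdeal B).comap (algebraMap S₀ B)
  haveI : q.IsPrime := Ideal.comap_isPrime _ _
  have hM : M ≤ q.primeCompl := by
    intro x hx hxq
    have h1 : IsUnit (algebraMap S₀ B x) := hx
    exact (mem_maximalIdeal _).mp hxq h1
  haveI : IsLocalization.AtPrime B q := by
    refine IsLocalization.of_le M q.primeCompl hM ?_
    intro r hr
    by_contra hnu
    exact hr ((mem_maximalIdeal _).mpr hnu)
  let e : Localization.AtPrime q ≃ₐ[S₀] B := IsLocalization.algEquiv q.primeCompl _ _
  haveI : IsRegularLocalRing (Localization.AtPrime q) :=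
    IsRegularLocalRing.of_ringEquiv e.symm.toRingEquiv
  -- transfer formal smoothness of the residue field
  let eR : ResidueField B ≃+* q.ResidueField := ResidueField.mapEquiv e.symm.toRingEquiv
  let eK : ResidueField B ≃ₐ[k] q.ResidueField := AlgEquiv.ofRingEquiv (f := eR) (by
    intro c
    have h1 : algebraMap k (ResidueField B) c = residue B (algebraMap k B c) := rfl
    have h2 : algebraMap k q.ResidueField c =
        residue (Localization.AtPrime q) (algebraMap k (Localization.AtPrime q) c) := rfl
    rw [h1, h2]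
    show ResidueField.map (e.symm.toRingEquiv : B →+* Localization.AtPrime q)
      (residue B (algebraMap k B c)) = _
    rw [ResidueField.map_residue]
    congr 1
    exact (e.symm.restrictScalars k).commutes c)
  haveI : Algebra.FormallySmooth k q.ResidueField := Algebra.FormallySmooth.of_equiv eK
  have hsm : Algebra.FormallySmooth k (Localization.AtPrime q) :=
    Groth.Agent.Lib.Helper6.RegSm.isSmoothAt_of_isRegularLocalRing k S₀ q
  exact Algebra.FormallySmooth.of_equiv (e.restrictScalars k)

/-- The structure map `k → O_{X,x}` factors through the stalk of `Spec k`. -/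
theorem stalkMap_eq (k : Type u) [Field k] (X : Scheme.{u})
    [X.Over (Spec (CommRingCat.of k))] (x : X) :
    Curv2.stalkMap k X x =
      (StructureSheaf.toStalk k ((X ↘ (Spec (CommRingCat.of k))) x) ≫
        (X ↘ (Spec (CommRingCat.of k))).stalkMap x).hom := by
  set f := X ↘ (Spec (CommRingCat.of k)) with hf
  have h2 : StructureSheaf.toStalk k (f x) = (Scheme.ΓSpecIso (CommRingCat.of k)).inv ≫
      (Spec (CommRingCat.of k)).presheaf.germ ⊤ (f x) trivial := rfl
  have h3 : (Spec (CommRingCat.of k)).presheaf.germ ⊤ (f x) trivial ≫ f.stalkMap x =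
      f.appTop ≫ X.presheaf.germ ⊤ x trivial := Scheme.Hom.germ_stalkMap f ⊤ x trivial
  have h4 : Curv2.stalkMap k X x =
      ((Scheme.ΓSpecIso (CommRingCat.of k)).inv ≫ f.appTop ≫
        X.presheaf.germ ⊤ x trivial).hom := rfl
  have h5 : ((Scheme.ΓSpecIso (CommRingCat.of k)).inv ≫
      (Spec (CommRingCat.of k)).presheaf.germ ⊤ (f x) trivial) ≫ f.stalkMap x =
      (Scheme.ΓSpecIso (CommRingCat.of k)).inv ≫ f.appTop ≫ X.presheaf.germ ⊤ x trivial :=
    (Category.assoc _ _ _).trans (congrArg (fun t => (Scheme.ΓSpecIso (CommRingCat.of k)).inv ≫ t) h3)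
  have h6 : StructureSheaf.toStalk k (f x) ≫ f.stalkMap x =
      (Scheme.ΓSpecIso (CommRingCat.of k)).inv ≫ f.appTop ≫ X.presheaf.germ ⊤ x trivial :=
    (congrArg (fun t => t ≫ f.stalkMap x) h2).trans h5
  exact h4.trans (congrArg CommRingCat.Hom.hom h6.symm)

/-- For a morphism over `k`, the stalk map is compatible with the structure maps from `k`. -/
theorem stalkMap_comp_stalkMap (k : Type u) [Field k] (X Y : Scheme.{u})
    [X.Over (Spec (CommRingCat.of k))] [Y.Over (Spec (CommRingCat.of k))] (f : X ⟶ Y)
    (hf : f ≫ (Y ↘ Spec (CommRingCat.of k)) = X ↘ Spec (CommRingCat.of k)) (x : X) :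
    (f.stalkMap x).hom.comp (Curv2.stalkMap k Y (f x)) = Curv2.stalkMap k X x := by
  have h3 : Y.presheaf.germ ⊤ (f x) trivial ≫ f.stalkMap x =
      f.appTop ≫ X.presheaf.germ ⊤ x trivial := Scheme.Hom.germ_stalkMap f ⊤ x trivial
  have h4 : Curv2.stalkMap k X x =
      ((Scheme.ΓSpecIso (CommRingCat.of k)).inv ≫ (X ↘ Spec (CommRingCat.of k)).appTop ≫
        X.presheaf.germ ⊤ x trivial).hom := rfl
  have h5 : (f.stalkMap x).hom.comp (Curv2.stalkMap k Y (f x)) =
      (((Scheme.ΓSpecIso (CommRingCat.of k)).inv ≫ (Y ↘ Spec (CommRingCat.of k)).appTop ≫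
        Y.presheaf.germ ⊤ (f x) trivial) ≫ f.stalkMap x).hom := rfl
  have h6 : (X ↘ Spec (CommRingCat.of k)).appTop =
      (Y ↘ Spec (CommRingCat.of k)).appTop ≫ f.appTop := by
    rw [← hf, Scheme.Hom.comp_appTop]
  have h7 : ((Scheme.ΓSpecIso (CommRingCat.of k)).inv ≫ (Y ↘ Spec (CommRingCat.of k)).appTop ≫
        Y.presheaf.germ ⊤ (f x) trivial) ≫ f.stalkMap x =
      (Scheme.ΓSpecIso (CommRingCat.of k)).inv ≫ (X ↘ Spec (CommRingCat.of k)).appTop ≫
        X.presheaf.germ ⊤ x trivial := by
    rw [h6]
    simp only [Category.assoc]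
    exact congrArg (fun t => (Scheme.ΓSpecIso (CommRingCat.of k)).inv ≫
      (Y ↘ Spec (CommRingCat.of k)).appTop ≫ t) h3
  rw [h4, h5, h7]

/-- The residue field of a closed point of a scheme locally of finite type over a field `k` is
algebraic over `k`. -/
theorem isAlgebraic_residueField_of_isClosed (k : Type u) [Field k] (X : Scheme.{u})
    [X.Over (Spec (CommRingCat.of k))]
    [LocallyOfFiniteType (X ↘ (Spec (CommRingCat.of k)))] (x : X)
    (hx : IsClosed ({x} : Set X)) :
    letI := Curv2.stalkAlgebra k X x
    Algebra.IsAlgebraic k (IsLocalRing.ResidueField (X.presheaf.stalk x)) := by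
  letI algkB := Curv2.stalkAlgebra k X x
  set f := X ↘ (Spec (CommRingCat.of k)) with hf
  have hfin : IsFinite (X.fromSpecResidueField x ≫ f) := by
    rw [isClosed_singleton_iff_isClosedImmersion] at hx
    rw [isFinite_iff_locallyOfFiniteType_of_jacobsonSpace]
    infer_instance
  have hint : IsIntegralHom (X.fromSpecResidueField x ≫ f) := inferInstance
  let ψ : CommRingCat.of k ⟶ X.residueField x :=
    CommRingCat.ofHom (algebraMap k (IsLocalRing.ResidueField (X.presheaf.stalk x)))
  have key : Spec.map ψ = X.fromSpecResidueField x ≫ f := by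
    have h1 : X.fromSpecResidueField x = Spec.map (X.residue x) ≫ X.fromSpecStalk x := rfl
    rw [h1, Category.assoc, ← Scheme.SpecMap_stalkMap_fromSpecStalk, Spec.fromSpecStalk_eq']
    have h6 : Spec.map ((StructureSheaf.toStalk k (f x) ≫ f.stalkMap x) ≫ X.residue x) =
        Spec.map (X.residue x) ≫ Spec.map (f.stalkMap x) ≫
          Spec.map (StructureSheaf.toStalk k (f x)) := by
      rw [Spec.map_comp, Spec.map_comp]
      rfl
    refine Eq.trans ?_ h6
    congr 1
    ext c
    have h2 : algebraMap k (X.presheaf.stalk x) c = Curv2.stalkMap k X x c := rfl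
    show IsLocalRing.residue _ (algebraMap k (X.presheaf.stalk x) c) = _
    rw [h2, stalkMap_eq]
    rfl
  rw [← key] at hint
  have hint' : ψ.hom.IsIntegral := IsIntegralHom.SpecMap_iff.mp hint
  have : Algebra.IsIntegral k (IsLocalRing.ResidueField (X.presheaf.stalk x)) := ⟨hint'⟩
  exact Algebra.IsIntegral.isAlgebraic

end Groth.Agent.Lib.T2H3.StalkSmooth
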