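import Mathlib
import Groth.Prelude.Def_Omega4
import Groth.Prelude.Def_FlatMod2
import Groth.Prelude.Def_CurvBase
import Groth.Agent.Lib.LeadOmSm
import Groth.Agent.Lib.LeadJacDim
import Groth.Agent.Lib.Helper26ModRank
import Groth.Agent.Lib.Helper4VarDim2
import Groth.Agent.Lib.Helper4VarDim5
import Groth.Agent.Lib.Helper4FibDimE
import Groth.Agent.Lib.Helper6SmReg
import Groth.Agent.Lib.Helper7TopDim
import Groth.Agent.Lib.T2H3StalkSmooth

/-!
# Nonsingular varieties and the sheaf of differentials (lead)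

For `X` irreducible, locally of finite type over a perfect field `k`, of dimension `n`:
`Ω_{X/k}` is locally free of rank `n` iff all local rings of `X` are regular.
-/

set_option autoImplicit false
set_option maxHeartbeats 400000
set_option linter.style.haveILetI false
set_option linter.unusedSectionVars false
set_option linter.unusedVariables false

universe u

open CategoryTheory CategoryTheory.Limits AlgebraicGeometry TopologicalSpace Opposite
open KaehlerDifferential TensorProduct

namespace Groth.Agent.Lib.LeadNonsing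

open Groth.Agent.Helper18OmLS Groth.Agent.Lib.Helper2.LocFree Groth.Agent.Lib.Helper20.PullbackAff
  Groth.Agent.Lib.Helper20.Thickening Groth.Agent.Lib.Helper20.LocFree

/-- every point of an irreducible scheme locally of finite type over a field has local dimension
the dimension of the scheme. -/
theorem localDim_eq_of_irreducible (k : Type u) [Field k] (X : Scheme.{u})
    [X.Over (Spec (CommRingCat.of k))] [LocallyOfFiniteType (X ↘ Spec (CommRingCat.of k))]
    [IrreducibleSpace X] (x : X) : FlatMor.localDim X x = topologicalKrullDim X := by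
  obtain ⟨U, hxU, hU⟩ := Groth.Agent.Lib.Helper7.TopDim.exists_opens_dim_eq_localDim x
  rw [← hU]
  exact Groth.Agent.Lib.Helper4.VarDim.topologicalKrullDim_opens_eq_of_irreducible k X U ⟨x, hxU⟩

/-- over a one-point base the fibre dimension is the local dimension. -/
theorem fibreDimAt_eq_localDim_of_subsingleton {X S : Scheme.{u}} (f : X ⟶ S) [Subsingleton S]
    (x : X) : FlatMor.fibreDimAt f x = FlatMor.localDim X x := by
  rw [Groth.Agent.Lib.Helper4.FibDim.fibreDimAt_eq_fibLD]
  unfold Groth.Agent.Lib.Helper4.FibDim.fibLD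
  have hset : (⇑f) ⁻¹' {f x} = Set.univ := by
    ext y
    simp only [Set.mem_preimage, Set.mem_singleton_iff, Set.mem_univ, iff_true]
    exact Subsingleton.elim _ _
  rw [Groth.Agent.Lib.Helper4.FibDim.localDim_congr_set hset x rfl]
  exact (Groth.Agent.Lib.Helper4.FibDim.localDim_eq_of_homeomorph
    (Homeomorph.Set.univ X).symm x).symm

/-- regular local rings over a perfect field: the structure morphism is smooth. -/
theorem smooth_of_regular (k : Type u) [Field k] [PerfectField k] (X : Scheme.{u})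
    [X.Over (Spec (CommRingCat.of k))] [LocallyOfFiniteType (X ↘ Spec (CommRingCat.of k))]
    (hreg : ∀ x : X, IsRegularLocalRing (X.presheaf.stalk x)) :
    Smooth (X ↘ Spec (CommRingCat.of k)) := by
  haveI : LocallyOfFinitePresentation (X ↘ Spec (CommRingCat.of k)) := inferInstance
  rw [← Scheme.Hom.smoothLocus_eq_top_iff, eq_top_iff]
  rintro x -
  rw [Groth.Agent.Lib.T2H3.StalkSmooth.mem_smoothLocus_iff_formallySmooth_stalk]
  letI algKB := Curv2.stalkAlgebra k X x
  haveI : Algebra.EssFiniteType k (X.presheaf.stalk x) :=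
    Groth.Agent.Lib.T2H3.StalkSmooth.essFiniteType_stalk k X x
  haveI := hreg x
  haveI : Algebra.EssFiniteType k (IsLocalRing.ResidueField (X.presheaf.stalk x)) :=
    Algebra.EssFiniteType.comp k (X.presheaf.stalk x) _
  haveI : Algebra.FormallySmooth k (IsLocalRing.ResidueField (X.presheaf.stalk x)) :=
    Algebra.FormallySmooth.of_perfectField
  exact Groth.Agent.Lib.T2H3.StalkSmooth.formallySmooth_of_isRegularLocalRing_of_residueField
    k (X.presheaf.stalk x)

/-- **Ring form**: finite type over a field, differentials free of rank the local dimension at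
`q`: the local ring at `q` is regular. -/
theorem isRegularLocalRing_of_basis {A₀ B : Type u} [CommRing A₀] (hA₀ : IsField A₀) [CommRing B]
    [Algebra A₀ B] [Algebra.FiniteType A₀ B] (n : ℕ) (b : Module.Basis (Fin n) B Ω[B⁄A₀])
    (q : Ideal B) [q.IsPrime]
    (hdim : FlatMor.localDim (PrimeSpectrum B) ⟨q, inferInstance⟩ = (n : WithBot ℕ∞)) :
    IsRegularLocalRing (Localization.AtPrime q) := by
  letI : Field A₀ := hA₀.toField
  haveI : Algebra.FinitePresentation A₀ B :=
    Algebra.FinitePresentation.of_finiteType.mp inferInstance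
  haveI : Module.Free B Ω[B⁄A₀] := Module.Free.of_basis b
  haveI : Nontrivial B := nontrivial_of_ne (0 : B) 1 (fun h =>
    (inferInstance : q.IsPrime).ne_top ((Ideal.eq_top_iff_one q).mpr (h ▸ q.zero_mem)))
  have hrank : Module.finrank B Ω[B⁄A₀] = n := by
    rw [Module.finrank_eq_card_basis b, Fintype.card_fin]
  haveI : Algebra.IsSmoothAt A₀ q := by
    rw [Groth.Agent.Lib.LeadJacDim.main_S2063 (k := A₀) (S := B) q, Module.finrank_baseChange,
      hrank, hdim]
    exact le_of_eq rfl
  exact Groth.Agent.Lib.Helper6.SmReg.isRegularLocalRing_of_isSmoothAt (R := A₀) q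

/-- (⇒) at a point. -/
theorem regular_stalk_of_free (k : Type u) [Field k] (X : Scheme.{u})
    [X.Over (Spec (CommRingCat.of k))] [LocallyOfFiniteType (X ↘ Spec (CommRingCat.of k))]
    [IrreducibleSpace X] (n : ℕ) (hn : topologicalKrullDim X = (n : WithBot ℕ∞))
    (Ω : X.Modules) (d : OmegaSh.Der (X ↘ (Spec (CommRingCat.of k))) Ω)
    (hd : OmegaSh.IsUniversal d) (x : X) (U : X.Opens) (hxU : x ∈ U)
    (e : Ω.restrict U.ι ≅ FlatMod.freeMod (↑U) n) :
    IsRegularLocalRing (X.presheaf.stalk x) := by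
  haveI := isQuasicoherent_of_isUniversal (X ↘ Spec (CommRingCat.of k)) d hd
  obtain ⟨W, hW, hxW, hWU⟩ := exists_isAffineOpen_mem_and_subset (U := U) (x := x) hxU
  obtain ⟨b⟩ := Groth.Agent.Lib.Helper26.ModRank.nonempty_basis_of_restrict_iso Ω e hW hWU
  have hfld : IsField Γ(Spec (CommRingCat.of k), ⊤) :=
    (Scheme.ΓSpecIso (CommRingCat.of k)).commRingCatIsoToRingEquiv.toMulEquiv.isField
      (Field.toIsField k)
  have hV : IsAffineOpen (⊤ : (Spec (CommRingCat.of k)).Opens) := isAffineOpen_top _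
  have hle : W ≤ (X ↘ Spec (CommRingCat.of k)) ⁻¹ᵁ ⊤ := le_top
  letI alg : Algebra Γ(Spec (CommRingCat.of k), ⊤) Γ(X, W) :=
    ((X ↘ Spec (CommRingCat.of k)).appLE ⊤ W hle).hom.toAlgebra
  haveI hft : Algebra.FiniteType Γ(Spec (CommRingCat.of k), ⊤) Γ(X, W) :=
    (X ↘ Spec (CommRingCat.of k)).finiteType_appLE hV hW hle
  let eq : (ΓUF hW).obj Ω ≃ₗ[Γ(X, W)] Ω[Γ(X, W)⁄Γ(Spec (CommRingCat.of k), ⊤)] :=
    (ΓUFIso (X ↘ Spec (CommRingCat.of k)) d hd hW hV hle rfl).toLinearEquiv
  have hq : FlatMor.localDim (PrimeSpectrum Γ(X, W)) (hW.primeIdealOf ⟨x, hxW⟩) =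
      (n : WithBot ℕ∞) := by
    have h1 := Groth.Agent.Lib.Helper4.VarDim.localDim_eq_of_isOpenEmbedding
      hW.fromSpec.isOpenEmbedding (hW.primeIdealOf ⟨x, hxW⟩)
    rw [hW.fromSpec_primeIdealOf ⟨x, hxW⟩] at h1
    exact h1.trans ((localDim_eq_of_irreducible k X x).trans hn)
  haveI hreg : IsRegularLocalRing (Localization.AtPrime (hW.primeIdealOf ⟨x, hxW⟩).asIdeal) :=
    isRegularLocalRing_of_basis hfld n (b.map eq) (hW.primeIdealOf ⟨x, hxW⟩).asIdeal hq
  letI := TopCat.Presheaf.algebra_section_stalk X.presheaf ⟨x, hxW⟩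
  haveI := hW.isLocalization_stalk ⟨x, hxW⟩
  exact IsRegularLocalRing.of_ringEquiv (IsLocalization.algEquiv
    (hW.primeIdealOf ⟨x, hxW⟩).asIdeal.primeCompl
    (Localization.AtPrime (hW.primeIdealOf ⟨x, hxW⟩).asIdeal) (X.presheaf.stalk x)).toRingEquiv

theorem main_S12422 (k : Type u) [Field k] [PerfectField k] (n : ℕ)
    (X : Scheme.{u}) [X.Over (Spec (CommRingCat.of k))] [IrreducibleSpace ↥X]
    [LocallyOfFiniteType (X ↘ (Spec (CommRingCat.of k)))]
    (hn : topologicalKrullDim ↥X = (n : WithBot ℕ∞))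
    (Ω : X.Modules) (d : OmegaSh.Der (X ↘ (Spec (CommRingCat.of k))) Ω)
    (hd : OmegaSh.IsUniversal d) :
    FlatMod.IsFinLocFreeOfRank n Ω ↔ ∀ x : ↥X, IsRegularLocalRing ↑(X.presheaf.stalk x) := by
  constructor
  · intro h x
    obtain ⟨U, hxU, ⟨e⟩⟩ := h x
    exact regular_stalk_of_free k X n hn Ω d hd x U hxU e
  · intro hreg x
    haveI := smooth_of_regular k X hreg
    obtain ⟨U, n', hxU, he, hdim⟩ :=
      Groth.Agent.Lib.LeadOmSm.main_S5019 (X ↘ Spec (CommRingCat.of k)) Ω d hd x
    haveI : Subsingleton ↥(Spec (CommRingCat.of k)) :=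
      (inferInstance : Subsingleton (PrimeSpectrum k))
    have h1 : (n' : WithBot ℕ∞) = (n : WithBot ℕ∞) := by
      rw [← hdim, fibreDimAt_eq_localDim_of_subsingleton, localDim_eq_of_irreducible k X x, hn]
    have h2 : n' = n := by exact_mod_cast h1
    subst h2
    exact ⟨U, hxU, he⟩

end Groth.Agent.Lib.LeadNonsing
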