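import Mathlib
import Groth.Prelude.Def_FixPt
import Groth.Agent.Lib.LeadCotSm
import Groth.Agent.Lib.LeadFlatSm
import Groth.Agent.Lib.LeadJacDim
import Groth.Agent.Lib.Helper4VarDim5
import Groth.Agent.Lib.Helper4DimFormulaU
import Groth.Agent.Lib.Helper4VarDim10
import Groth.Agent.Lib.Helper3EquiDim
import Groth.Agent.Lib.LeadNonsing

/-!
# Smoothness of a morphism of smooth varieties via the cotangent map (lead) — schemes

Namespace `Groth.Agent.Lib.LeadCotSmSch`.
-/

set_option autoImplicit false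
set_option maxHeartbeats 400000
set_option linter.style.haveILetI false
set_option linter.unusedSectionVars false
set_option linter.unusedVariables false

universe u

open CategoryTheory CategoryTheory.Limits AlgebraicGeometry TopologicalSpace Opposite
open TensorProduct IsLocalRing KaehlerDifferential
open Groth.Agent.Lib.LeadCotSm

namespace Groth.Agent.Lib.LeadCotSmSch

section algK

variable (k : Type u) [Field k] {X Y : Scheme.{u}}

/-- the `k`-algebra structure on sections of a `k`-scheme. -/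
noncomputable def algHomK (q : X ⟶ Spec (CommRingCat.of k)) (U : X.Opens) :
    CommRingCat.of k ⟶ Γ(X, U) :=
  (Scheme.ΓSpecIso (CommRingCat.of k)).inv ≫ q.appLE ⊤ U (fun _ _ => trivial)

noncomputable abbrev algK (q : X ⟶ Spec (CommRingCat.of k)) (U : X.Opens) : Algebra k Γ(X, U) :=
  (algHomK k q U).hom.toAlgebra

theorem smooth_algK (q : X ⟶ Spec (CommRingCat.of k)) [Smooth q] {U : X.Opens}
    (hU : IsAffineOpen U) : letI := algK k q U; Algebra.Smooth k Γ(X, U) := by
  have h1 : (q.appLE ⊤ U (fun _ _ => trivial)).hom.Smooth :=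
    q.smooth_appLE (isAffineOpen_top _) hU _
  have h2 : ((Scheme.ΓSpecIso (CommRingCat.of k)).inv).hom.Smooth :=
    RingHom.Smooth.of_bijective (ConcreteCategory.bijective_of_isIso _)
  have h3 := h2.comp h1
  change (algHomK k q U).hom.Smooth
  exact h3

theorem finiteType_algK (q : X ⟶ Spec (CommRingCat.of k)) [LocallyOfFiniteType q] {U : X.Opens}
    (hU : IsAffineOpen U) : letI := algK k q U; Algebra.FiniteType k Γ(X, U) := by
  have h1 : (q.appLE ⊤ U (fun _ _ => trivial)).hom.FiniteType :=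
    q.finiteType_appLE (isAffineOpen_top _) hU _
  have h2 : ((Scheme.ΓSpecIso (CommRingCat.of k)).inv).hom.FiniteType :=
    RingHom.FiniteType.of_surjective _ (ConcreteCategory.bijective_of_isIso _).2
  have h3 := h1.comp h2
  change (algHomK k q U).hom.FiniteType
  exact h3

theorem tower_algK (qX : X ⟶ Spec (CommRingCat.of k)) (qY : Y ⟶ Spec (CommRingCat.of k))
    (f : X ⟶ Y) (hf : f ≫ qY = qX) {V : Y.Opens} {U : X.Opens} (hUV : U ≤ f ⁻¹ᵁ V) :
    letI := algK k qY V
    letI := algK k qX U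
    letI := (f.appLE V U hUV).hom.toAlgebra
    IsScalarTower k Γ(Y, V) Γ(X, U) := by
  subst hf
  letI := algK k qY V
  letI := algK k (f ≫ qY) U
  letI := (f.appLE V U hUV).hom.toAlgebra
  refine IsScalarTower.of_algebraMap_eq fun r => ?_
  have h1 : qY.appLE ⊤ V (fun _ _ => trivial) ≫ f.appLE V U hUV =
      (f ≫ qY).appLE ⊤ U (fun _ _ => trivial) := Scheme.Hom.appLE_comp_appLE _ _ _ _ _ _ _
  change (algHomK k (f ≫ qY) U).hom r = (f.appLE V U hUV).hom ((algHomK k qY V).hom r)
  unfold algHomK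
  rw [← h1]
  rfl

end algK

section chart

variable (k : Type u) [Field k] [IsAlgClosed k] {X Y : Scheme.{u}}
  (qX : X ⟶ Spec (CommRingCat.of k)) (qY : Y ⟶ Spec (CommRingCat.of k))
  [LocallyOfFiniteType qX] [Smooth qX] [LocallyOfFiniteType qY]
  (f : X ⟶ Y) (hf : f ≫ qY = qX)

theorem stalkMapAt_rfl (x : X) :
    FixPt.stalkMapAt f x (f.base x) rfl = (f.stalkMap x).hom := by
  unfold FixPt.stalkMapAt
  have h : (Y.presheaf.stalkCongr (Inseparable.of_eq (rfl : f.base x = f.base x))).inv = 𝟙 _ := by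
    simp [TopCat.Presheaf.stalkCongr]
  rw [h, Category.id_comp]

theorem injective_cotangentMapAt_iff (x : X) :
    Function.Injective (FixPt.cotangentMapAt f x (f.base x) rfl) ↔
      ∀ r ∈ maximalIdeal (Y.presheaf.stalk (f.base x)),
        (f.stalkMap x).hom r ∈ maximalIdeal (X.presheaf.stalk x) ^ 2 →
          r ∈ maximalIdeal (Y.presheaf.stalk (f.base x)) ^ 2 := by
  have key : ∀ (r : Y.presheaf.stalk (f.base x))
      (hr : r ∈ maximalIdeal (Y.presheaf.stalk (f.base x))),
      FixPt.cotangentMapAt f x (f.base x) rfl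
        ((maximalIdeal (Y.presheaf.stalk (f.base x))).toCotangent ⟨r, hr⟩) = 0 ↔
      (f.stalkMap x).hom r ∈ maximalIdeal (X.presheaf.stalk x) ^ 2 := by
    intro r hr
    have h1 : FixPt.cotangentMapAt f x (f.base x) rfl
        ((maximalIdeal (Y.presheaf.stalk (f.base x))).toCotangent ⟨r, hr⟩) =
        (maximalIdeal (X.presheaf.stalk x)).toCotangent ⟨FixPt.stalkMapAt f x (f.base x) rfl r,
          FixPt.maximalIdeal_le_comap_stalkMapAt f x (f.base x) rfl hr⟩ :=
      Ideal.mapCotangent_toCotangent _ _ _ _ _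
    rw [h1, Ideal.toCotangent_eq_zero]
    change FixPt.stalkMapAt f x (f.base x) rfl r ∈ _ ↔ _
    rw [stalkMapAt_rfl]
  rw [injective_iff_map_eq_zero]
  constructor
  · intro h r hr hφ
    have h1 := h _ ((key r hr).mpr hφ)
    rwa [Ideal.toCotangent_eq_zero] at h1
  · intro h ξ hξ
    obtain ⟨⟨r, hr⟩, rfl⟩ := Ideal.toCotangent_surjective _ ξ
    rw [Ideal.toCotangent_eq_zero]
    exact h r hr ((key r hr).mp hξ)

include hf in
theorem mem_smoothLocus_iff_injective [LocallyOfFinitePresentation f] (x : X)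
    (hx : IsClosed ({x} : Set X)) :
    x ∈ f.smoothLocus ↔ Function.Injective (FixPt.cotangentMapAt f x (f.base x) rfl) := by
  obtain ⟨V, hV, hfxV, -⟩ := exists_isAffineOpen_mem_and_subset (x := f.base x) (U := ⊤) trivial
  obtain ⟨U, hU, hxU, hUV⟩ := exists_isAffineOpen_mem_and_subset (x := x) (U := f ⁻¹ᵁ V) hfxV
  letI algA : Algebra k Γ(Y, V) := algK k qY V
  letI algB : Algebra k Γ(X, U) := algK k qX U
  letI algAB : Algebra Γ(Y, V) Γ(X, U) := (f.appLE V U hUV).hom.toAlgebra
  haveI : IsScalarTower k Γ(Y, V) Γ(X, U) := tower_algK k qX qY f hf hUV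
  haveI : Algebra.FiniteType k Γ(Y, V) := finiteType_algK k qY hV
  haveI : Algebra.FiniteType k Γ(X, U) := finiteType_algK k qX hU
  haveI : Algebra.FinitePresentation k Γ(Y, V) :=
    Algebra.FinitePresentation.of_finiteType.mp inferInstance
  haveI : Algebra.FinitePresentation k Γ(X, U) :=
    Algebra.FinitePresentation.of_finiteType.mp inferInstance
  haveI : Algebra.Smooth k Γ(X, U) := smooth_algK k qX hU
  haveI hqmax : (hU.primeIdealOf ⟨x, hxU⟩).asIdeal.IsMaximal :=
    hU.primeIdealOf_isMaximal_of_isClosed ⟨x, hxU⟩ hx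
  have hbij := bijective_algebraMap_residueField (RingEquiv.refl k)
    (hU.primeIdealOf ⟨x, hxU⟩).asIdeal
  have hB : Algebra.IsSmoothAt k (hU.primeIdealOf ⟨x, hxU⟩).asIdeal := by
    have : hU.primeIdealOf ⟨x, hxU⟩ ∈ Algebra.smoothLocus k Γ(X, U) := by
      rw [Algebra.smoothLocus_eq_univ]; trivial
    exact this
  rw [Scheme.Hom.mem_smoothLocus, formallySmooth_stalkMap_iff V hV U hU hUV hxU]
  change Algebra.IsSmoothAt Γ(Y, V) (hU.primeIdealOf ⟨x, hxU⟩).asIdeal ↔ _
  rw [isSmoothAt_iff_cotangent_cond k Γ(Y, V) Γ(X, U) (hU.primeIdealOf ⟨x, hxU⟩).asIdeal hB hbij,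
    injective_cotangentMapAt_iff]
  letI algSt : Algebra Γ(X, U) (X.presheaf.stalk x) :=
    TopCat.Presheaf.algebra_section_stalk X.presheaf ⟨x, hxU⟩
  haveI hlocS : IsLocalization.AtPrime (X.presheaf.stalk x) (hU.primeIdealOf ⟨x, hxU⟩).asIdeal :=
    hU.isLocalization_stalk ⟨x, hxU⟩
  letI algStY : Algebra Γ(Y, V) (Y.presheaf.stalk (f.base x)) :=
    TopCat.Presheaf.algebra_section_stalk Y.presheaf ⟨f.base x, hUV hxU⟩
  have hp : (hU.primeIdealOf ⟨x, hxU⟩).asIdeal.comap (algebraMap Γ(Y, V) Γ(X, U)) =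
      (hV.primeIdealOf ⟨f.base x, hUV hxU⟩).asIdeal :=
    congr($(IsAffineOpen.comap_primeIdealOf_appLE V hV U hU hUV hxU).1)
  haveI hpmax : ((hU.primeIdealOf ⟨x, hxU⟩).asIdeal.comap
      (algebraMap Γ(Y, V) Γ(X, U))).IsMaximal :=
    isMaximal_comap_of_bijective (C := k) (hU.primeIdealOf ⟨x, hxU⟩).asIdeal hbij
  have key : ∀ (I : Ideal Γ(Y, V)) (hI : I = (hV.primeIdealOf ⟨f.base x, hUV hxU⟩).asIdeal)
      [I.IsPrime], IsLocalization.AtPrime (Y.presheaf.stalk (f.base x)) I := by
    rintro I rfl _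
    exact hV.isLocalization_stalk ⟨f.base x, hUV hxU⟩
  haveI hlocR := key _ hp
  exact (cotangent_cond_iff_local (hU.primeIdealOf ⟨x, hxU⟩).asIdeal (X.presheaf.stalk x)
    ((hU.primeIdealOf ⟨x, hxU⟩).asIdeal.comap (algebraMap Γ(Y, V) Γ(X, U)))
    (Y.presheaf.stalk (f.base x)) (f.stalkMap x).hom
    (fun a => Groth.Agent.Lib.Helper4.DimFormula.stalkMap_germ_eq_germ_appLE f hUV x hxU a)).symm

end chart

section reldim

variable (k : Type u) [Field k] [IsAlgClosed k] {X Y : Scheme.{u}}

theorem localDim_eq_dim (q : X ⟶ Spec (CommRingCat.of k)) [LocallyOfFiniteType q]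
    [IrreducibleSpace X] (x : X) : FlatMor.localDim X x = topologicalKrullDim X := by
  letI : X.Over (Spec (CommRingCat.of k)) := ⟨q⟩
  haveI : LocallyOfFiniteType (X ↘ Spec (CommRingCat.of k)) := ‹LocallyOfFiniteType q›
  apply le_antisymm (Groth.Agent.Lib.Helper7.TopDim.localDim_le_dim x)
  rw [Groth.Agent.Lib.Helper7.TopDim.le_localDim_iff]
  intro U hxU
  exact (Groth.Agent.Lib.Helper4.VarDim.topologicalKrullDim_opens_eq_of_irreducible k X U
    ⟨x, hxU⟩).ge

theorem localDim_primeSpectrum_eq {U : X.Opens} (hU : IsAffineOpen U) (x : X) (hxU : x ∈ U) :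
    FlatMor.localDim (PrimeSpectrum Γ(X, U)) (hU.primeIdealOf ⟨x, hxU⟩) = FlatMor.localDim X x := by
  have h := Groth.Agent.Lib.Helper4.VarDim.localDim_eq_of_isOpenEmbedding
    hU.fromSpec.isOpenEmbedding (hU.primeIdealOf ⟨x, hxU⟩)
  rw [hU.fromSpec_primeIdealOf ⟨x, hxU⟩] at h
  exact h

variable (qX : X ⟶ Spec (CommRingCat.of k)) (qY : Y ⟶ Spec (CommRingCat.of k))
  [LocallyOfFiniteType qX] [Smooth qX] [LocallyOfFiniteType qY] [Smooth qY]
  [IrreducibleSpace X] [IrreducibleSpace Y]
  (f : X ⟶ Y) (hf : f ≫ qY = qX)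

include hf in
/-- at a closed point of a standard smooth chart of relative dimension `m` of a morphism of smooth
irreducible varieties: `dim X = dim Y + m`. -/
theorem relDim_eq (x : X) (hx : IsClosed ({x} : Set X)) {V : Y.Opens} (hV : IsAffineOpen V)
    {U : X.Opens} (hU : IsAffineOpen U) (hxU : x ∈ U) (hUV : U ≤ f ⁻¹ᵁ V) (m : ℕ)
    (hstd : (f.appLE V U hUV).hom.IsStandardSmoothOfRelativeDimension m)
    (dX dY : ℕ) (hX : topologicalKrullDim X = dX) (hY : topologicalKrullDim Y = dY) :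
    dX = dY + m := by
  letI algA : Algebra k Γ(Y, V) := algK k qY V
  letI algB : Algebra k Γ(X, U) := algK k qX U
  letI algAB : Algebra Γ(Y, V) Γ(X, U) := (f.appLE V U hUV).hom.toAlgebra
  haveI : IsScalarTower k Γ(Y, V) Γ(X, U) := tower_algK k qX qY f hf hUV
  haveI : Algebra.FiniteType k Γ(Y, V) := finiteType_algK k qY hV
  haveI : Algebra.FiniteType k Γ(X, U) := finiteType_algK k qX hU
  haveI : Algebra.FinitePresentation k Γ(Y, V) :=
    Algebra.FinitePresentation.of_finiteType.mp inferInstance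
  haveI : Algebra.FinitePresentation k Γ(X, U) :=
    Algebra.FinitePresentation.of_finiteType.mp inferInstance
  haveI : Algebra.Smooth k Γ(X, U) := smooth_algK k qX hU
  haveI : Algebra.Smooth k Γ(Y, V) := smooth_algK k qY hV
  haveI hstd' : Algebra.IsStandardSmoothOfRelativeDimension m Γ(Y, V) Γ(X, U) := hstd
  haveI : Algebra.IsStandardSmooth Γ(Y, V) Γ(X, U) := hstd'.isStandardSmooth
  haveI : Algebra.Smooth Γ(Y, V) Γ(X, U) := inferInstance
  haveI : Algebra.FinitePresentation Γ(Y, V) Γ(X, U) := inferInstance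
  haveI : Nonempty U := ⟨⟨x, hxU⟩⟩
  haveI : Nontrivial Γ(X, U) := inferInstance
  obtain ⟨q, hq⟩ : ∃ q : PrimeSpectrum Γ(X, U), q = hU.primeIdealOf ⟨x, hxU⟩ := ⟨_, rfl⟩
  haveI hqmax : q.asIdeal.IsMaximal := by
    rw [hq]; exact hU.primeIdealOf_isMaximal_of_isClosed ⟨x, hxU⟩ hx
  have hbij := bijective_algebraMap_residueField (RingEquiv.refl k) q.asIdeal
  have hB : Algebra.IsSmoothAt k q.asIdeal := by
    have : q ∈ Algebra.smoothLocus k Γ(X, U) := by
      rw [Algebra.smoothLocus_eq_univ]; trivial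
    exact this
  have hAB : Algebra.IsSmoothAt Γ(Y, V) q.asIdeal := by
    have : q ∈ Algebra.smoothLocus Γ(Y, V) Γ(X, U) := by
      rw [Algebra.smoothLocus_eq_univ]; trivial
    exact this
  have hinj := (Groth.Agent.Lib.Helper6.TowerAt.isSmoothAt_iff_injective_lTensor k Γ(Y, V) Γ(X, U)
    q.asIdeal hB).mp hAB
  have hadd := finrank_add_of_injective k Γ(Y, V) Γ(X, U) q.asIdeal.ResidueField hinj
  -- the relative differentials
  have hrkBA : Module.finrank q.asIdeal.ResidueField
      (q.asIdeal.ResidueField ⊗[Γ(X, U)] Ω[Γ(X, U)⁄Γ(Y, V)]) = m := by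
    rw [Module.finrank_baseChange]
    exact Module.finrank_eq_of_rank_eq
      (Algebra.IsStandardSmoothOfRelativeDimension.rank_kaehlerDifferential m)
  -- the differentials of `X`
  haveI : Algebra.IsSmoothAt k q.asIdeal := hB
  have hrkB := Groth.Agent.Lib.LeadJacDim.finrank_eq_localDim_of_isSmoothAt k Γ(X, U) q.asIdeal
    q.asIdeal.ResidueField (Ideal.ker_algebraMap_residueField q.asIdeal)
  have hq' : (⟨q.asIdeal, inferInstance⟩ : PrimeSpectrum Γ(X, U)) = hU.primeIdealOf ⟨x, hxU⟩ := hq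
  rw [hq', localDim_primeSpectrum_eq hU x hxU, localDim_eq_dim k qX x, hX] at hrkB
  -- the differentials of `Y`
  have hker : RingHom.ker (algebraMap Γ(X, U) q.asIdeal.ResidueField) = q.asIdeal :=
    Ideal.ker_algebraMap_residueField q.asIdeal
  have hkerA : RingHom.ker (algebraMap Γ(Y, V) q.asIdeal.ResidueField) =
      q.asIdeal.comap (algebraMap Γ(Y, V) Γ(X, U)) := by
    ext a
    rw [RingHom.mem_ker, Ideal.mem_comap,
      IsScalarTower.algebraMap_apply Γ(Y, V) Γ(X, U) q.asIdeal.ResidueField, ← RingHom.mem_ker, hker]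
  haveI : Algebra.IsSmoothAt k (q.asIdeal.comap (algebraMap Γ(Y, V) Γ(X, U))) := by
    have : (⟨q.asIdeal.comap (algebraMap Γ(Y, V) Γ(X, U)), inferInstance⟩ : PrimeSpectrum Γ(Y, V)) ∈
        Algebra.smoothLocus k Γ(Y, V) := by
      rw [Algebra.smoothLocus_eq_univ]; trivial
    exact this
  have hrkA := Groth.Agent.Lib.LeadJacDim.finrank_eq_localDim_of_isSmoothAt k Γ(Y, V)
    (q.asIdeal.comap (algebraMap Γ(Y, V) Γ(X, U))) q.asIdeal.ResidueField hkerA
  have hp : (⟨q.asIdeal.comap (algebraMap Γ(Y, V) Γ(X, U)), inferInstance⟩ :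
      PrimeSpectrum Γ(Y, V)) = hV.primeIdealOf ⟨f.base x, hUV hxU⟩ := by
    rw [hq]
    exact IsAffineOpen.comap_primeIdealOf_appLE V hV U hU hUV hxU
  rw [hp, localDim_primeSpectrum_eq hV (f.base x) (hUV hxU), localDim_eq_dim k qY (f.base x), hY]
    at hrkA
  have e1 : Module.finrank q.asIdeal.ResidueField
      (q.asIdeal.ResidueField ⊗[Γ(X, U)] Ω[Γ(X, U)⁄k]) = dX := by exact_mod_cast hrkB
  have e2 : Module.finrank q.asIdeal.ResidueField
      (q.asIdeal.ResidueField ⊗[Γ(Y, V)] Ω[Γ(Y, V)⁄k]) = dY := by exact_mod_cast hrkA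
  rw [e1, e2, hrkBA] at hadd
  exact hadd

end reldim

section main

variable (k : Type u) [Field k] [IsAlgClosed k] {X Y : Scheme.{u}}
  (qX : X ⟶ Spec (CommRingCat.of k)) (qY : Y ⟶ Spec (CommRingCat.of k))
  [LocallyOfFiniteType qX] [Smooth qX] [LocallyOfFiniteType qY]
  (f : X ⟶ Y) (hf : f ≫ qY = qX)

include hf in
theorem locallyOfFinitePresentation_of_comp : LocallyOfFinitePresentation f := by
  haveI : LocallyOfFiniteType (f ≫ qY) := by rw [hf]; infer_instance
  haveI : LocallyOfFiniteType f := locallyOfFiniteType_of_comp f qY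
  haveI : IsLocallyNoetherian Y := LocallyOfFiniteType.isLocallyNoetherian qY
  infer_instance

include hf in
theorem smooth_of_forall_injective [LocallyOfFinitePresentation f]
    (h : ∀ x : X, IsClosed ({x} : Set X) →
      Function.Injective (FixPt.cotangentMapAt f x (f.base x) rfl)) : Smooth f := by
  haveI : JacobsonSpace X := LocallyOfFiniteType.jacobsonSpace qX
  rw [← Scheme.Hom.smoothLocus_eq_top_iff]
  by_contra hne
  have hZ : ((f.smoothLocus : Set X)ᶜ).Nonempty := by
    rw [Set.nonempty_compl]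
    intro h'
    exact hne (TopologicalSpace.Opens.ext (by rw [h']; rfl))
  obtain ⟨x, hxZ, hxc⟩ := nonempty_inter_closedPoints hZ
    f.smoothLocus.isOpen.isClosed_compl.isLocallyClosed
  exact hxZ ((mem_smoothLocus_iff_injective k qX qY f hf x hxc).mpr (h x hxc))

variable [Smooth qY] [IrreducibleSpace X] [IrreducibleSpace Y]

include hf in
/-- a smooth morphism of smooth irreducible varieties is smooth of relative dimension
`dim X - dim Y`. -/
theorem smoothOfRelativeDimension_of_smooth [Smooth f] (n dX dY : ℕ)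
    (hX : topologicalKrullDim X = dX) (hY : topologicalKrullDim Y = dY) (hn : dX = dY + n) :
    SmoothOfRelativeDimension n f := by
  haveI : JacobsonSpace X := LocallyOfFiniteType.jacobsonSpace qX
  refine ⟨fun x => ?_⟩
  have hxs : (f.stalkMap x).hom.FormallySmooth := by
    have : x ∈ f.smoothLocus := by rw [f.smoothLocus_eq_top]; trivial
    exact this
  obtain ⟨V, hV, U, hU, hUV, hxU, hsm⟩ := exists_smooth_of_formallySmooth_stalk f x hxs
  obtain ⟨r, hxr, hstd⟩ :=
    Groth.Agent.Lib.LeadFlatSm.exists_basicOpen_isStandardSmooth' f hU hUV hsm x hxU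
  obtain ⟨m, hm⟩ := Groth.Agent.Lib.Helper3.SmDim.exists_relDim_of_isStandardSmooth _ hstd
  obtain ⟨x', hx'r, hx'c⟩ := nonempty_inter_closedPoints
    (⟨x, hxr⟩ : ((X.basicOpen r : X.Opens) : Set X).Nonempty)
    (X.basicOpen r).isOpen.isLocallyClosed
  have hmn := relDim_eq k qX qY f hf x' hx'c hV (hU.basicOpen r) hx'r
    ((X.basicOpen_le r).trans hUV) m hm dX dY hX hY
  have hmn' : m = n := by omega
  subst hmn'
  exact ⟨V, hV, X.basicOpen r, hU.basicOpen r, hxr, (X.basicOpen_le r).trans hUV, hm⟩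

include hf in
theorem main_S10936 (n dY : ℕ) (hY : topologicalKrullDim Y = dY)
    (hX : topologicalKrullDim X = ((dY + n : ℕ) : WithBot ℕ∞)) :
    SmoothOfRelativeDimension n f ↔
      ∀ x : X, IsClosed ({x} : Set X) →
        Function.Injective (FixPt.cotangentMapAt f x (f.base x) rfl) := by
  haveI : LocallyOfFinitePresentation f := locallyOfFinitePresentation_of_comp k qX qY f hf
  constructor
  · intro hsm x hx
    haveI : Smooth f := SmoothOfRelativeDimension.smooth n f
    rw [← mem_smoothLocus_iff_injective k qX qY f hf x hx, f.smoothLocus_eq_top]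
    trivial
  · intro h
    haveI : Smooth f := smooth_of_forall_injective k qX qY f hf h
    exact smoothOfRelativeDimension_of_smooth k qX qY f hf n (dY + n) dY hX hY rfl

end main

section S19460

variable (k : Type u) [Field k] [IsAlgClosed k] {X Y : Scheme.{u}}
  (qX : X ⟶ Spec (CommRingCat.of k)) (qY : Y ⟶ Spec (CommRingCat.of k))
  [LocallyOfFiniteType qX] [Smooth qX] [LocallyOfFiniteType qY] [Smooth qY]
  [IrreducibleSpace X] [IrreducibleSpace Y]
  (f : X ⟶ Y) (hf : f ≫ qY = qX)

/-- a scheme smooth of relative dimension `n` over a field is equidimensional of dimension `n`. -/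
theorem dim_irreducibleComponents_of_smoothOfRelativeDimension {K : Type u} [Field K]
    {F : Scheme.{u}} (g : F ⟶ Spec (CommRingCat.of K)) (n : ℕ) [SmoothOfRelativeDimension n g] :
    ∀ Z ∈ irreducibleComponents ↥F, topologicalKrullDim ↥Z = (n : WithBot ℕ∞) := by
  letI : F.Over (Spec (CommRingCat.of K)) := ⟨g⟩
  haveI : Smooth g := SmoothOfRelativeDimension.smooth n g
  haveI : LocallyOfFiniteType (F ↘ Spec (CommRingCat.of K)) :=
    (inferInstance : LocallyOfFiniteType g)
  rw [Groth.Agent.Lib.Helper3.EquiDim.forall_dim_irreducibleComponents_eq_iff K F n]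
  intro z
  rw [← Groth.Agent.Lib.LeadNonsing.fibreDimAt_eq_localDim_of_subsingleton g z]
  exact Groth.Agent.Lib.Helper3.SmDim.fibreDimAt_eq_of_smoothOfRelativeDimension n g z

include hf in
theorem main_S19460 (dX dY : ℕ) (hX : topologicalKrullDim X = dX) (hY : topologicalKrullDim Y = dY)
    (hT : ∀ x : X, IsClosed ({x} : Set X) →
      Function.Injective (FixPt.cotangentMapAt f x (f.base x) rfl)) :
    DenseRange f.base ∧ dY ≤ dX ∧
      ∀ y : Y, IsClosed ({y} : Set Y) → y ∈ Set.range f.base →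
        Smooth (f.fiberToSpecResidueField y) ∧
          ∀ Z ∈ irreducibleComponents ↥(f.fiber y),
            topologicalKrullDim ↥Z = ((dX - dY : ℕ) : WithBot ℕ∞) := by
  haveI : LocallyOfFinitePresentation f := locallyOfFinitePresentation_of_comp k qX qY f hf
  haveI : Smooth f := smooth_of_forall_injective k qX qY f hf hT
  haveI : JacobsonSpace X := LocallyOfFiniteType.jacobsonSpace qX
  obtain ⟨x₀⟩ := (inferInstance : Nonempty X)
  have hle : ∃ m, dX = dY + m := by
    obtain ⟨x', -, hx'c⟩ := nonempty_inter_closedPoints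
      (⟨x₀, trivial⟩ : (Set.univ : Set X).Nonempty) isOpen_univ.isLocallyClosed
    have hxs : (f.stalkMap x').hom.FormallySmooth := by
      have : x' ∈ f.smoothLocus := by rw [f.smoothLocus_eq_top]; trivial
      exact this
    obtain ⟨V, hV, U, hU, hUV, hxU, hsm⟩ := exists_smooth_of_formallySmooth_stalk f x' hxs
    obtain ⟨r, hxr, hstd⟩ :=
      Groth.Agent.Lib.LeadFlatSm.exists_basicOpen_isStandardSmooth' f hU hUV hsm x' hxU
    obtain ⟨m, hm⟩ := Groth.Agent.Lib.Helper3.SmDim.exists_relDim_of_isStandardSmooth _ hstd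
    exact ⟨m, relDim_eq k qX qY f hf x' hx'c hV (hU.basicOpen r) hxr
      ((X.basicOpen_le r).trans hUV) m hm dX dY hX hY⟩
  obtain ⟨m, hm⟩ := hle
  haveI : SmoothOfRelativeDimension (dX - dY) f :=
    smoothOfRelativeDimension_of_smooth k qX qY f hf (dX - dY) dX dY hX hY (by omega)
  refine ⟨?_, by omega, ?_⟩
  · exact f.isOpenMap.isOpen_range.dense ⟨f.base x₀, x₀, rfl⟩
  · intro y hy hyr
    haveI : SmoothOfRelativeDimension (dX - dY) (f.fiberToSpecResidueField y) :=
      (smoothOfRelativeDimension_isStableUnderBaseChange (n := dX - dY)).of_isPullback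
        (IsPullback.of_hasPullback f (Y.fromSpecResidueField y)) inferInstance
    exact ⟨SmoothOfRelativeDimension.smooth (dX - dY) _,
      dim_irreducibleComponents_of_smoothOfRelativeDimension
        (K := Y.residueField y) (f.fiberToSpecResidueField y) (dX - dY)⟩

end S19460

end Groth.Agent.Lib.LeadCotSmSch
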