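import Mathlib
import Groth.Agent.Lib.LeadArc
import Groth.Agent.Lib.LeadCotSmSch
import Groth.Agent.Lib.Helper4VarDim2

/-!
# A geometric smoothing gives a smoothing over `k⟦t⟧` (lead)

* `exists_arc_scheme`: through a rational point of an integral smooth curve over a field there is a
  formal arc `Spec k⟦t⟧ → C` centred at the point whose generic point maps to the generic point.
* `smooth_snd_of_factor`: generic fibre bookkeeping.
* `main_S16190`.
-/

set_option autoImplicit false
set_option maxHeartbeats 400000
set_option linter.style.haveILetI false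
set_option linter.unusedSectionVars false
set_option linter.unusedVariables false

universe u

open CategoryTheory CategoryTheory.Limits AlgebraicGeometry TopologicalSpace Opposite
open Groth.Agent.Lib.LeadCotSmSch

namespace Groth.Agent.Lib.LeadArcSch

section arc

variable (k : Type u) [Field k]

theorem fromSpec_comp_eq {C : Scheme.{u}} (qC : C ⟶ Spec (CommRingCat.of k)) {U : C.Opens}
    (hU : IsAffineOpen U) : hU.fromSpec ≫ qC = Spec.map (algHomK k qC U) := by
  have h1 := IsAffineOpen.SpecMap_appLE_fromSpec qC (isAffineOpen_top (Spec (CommRingCat.of k))) hU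
    (fun _ _ => trivial)
  rw [← h1, IsAffineOpen.fromSpec_top, Scheme.isoSpec_Spec_inv, ← Spec.map_comp]
  rfl

theorem exists_arc_scheme (C : Scheme.{u}) (qC : C ⟶ Spec (CommRingCat.of k))
    (c : Spec (CommRingCat.of k) ⟶ C) (hc : c ≫ qC = 𝟙 (Spec (CommRingCat.of k)))
    [IsIntegral C] [Smooth qC] (hC : topologicalKrullDim C = 1) :
    ∃ g : Spec (CommRingCat.of (PowerSeries k)) ⟶ C,
      Spec.map (CommRingCat.ofHom (PowerSeries.constantCoeff (R := k))) ≫ g = c ∧
      (Spec.map (CommRingCat.ofHom
        (algebraMap (PowerSeries k) (FractionRing (PowerSeries k)))) ≫ g)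
        (IsLocalRing.closedPoint (FractionRing (PowerSeries k))) = genericPoint C := by
  classical
  let pt : Spec (CommRingCat.of k) := default
  let x : C := c pt
  obtain ⟨U, hU, hxU, -⟩ := exists_isAffineOpen_mem_and_subset (x := x) (U := ⊤) trivial
  letI : Algebra k Γ(C, U) := algK k qC U
  haveI : Algebra.Smooth k Γ(C, U) := smooth_algK k qC hU
  haveI : LocallyOfFiniteType qC := inferInstance
  haveI : Algebra.FiniteType k Γ(C, U) := finiteType_algK k qC hU
  haveI : Nonempty U := ⟨⟨x, hxU⟩⟩
  haveI : IsDomain Γ(C, U) := inferInstance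
  haveI : IsNoetherianRing Γ(C, U) := Algebra.FiniteType.isNoetherianRing k _
  -- the dimension of the coordinate ring
  have hdim : ringKrullDim Γ(C, U) = 1 := by
    letI : C.Over (Spec (CommRingCat.of k)) := ⟨qC⟩
    haveI : LocallyOfFiniteType (C ↘ Spec (CommRingCat.of k)) :=
      (inferInstance : LocallyOfFiniteType qC)
    rw [← Groth.Agent.Lib.Helper4.VarDim.topologicalKrullDim_eq_ringKrullDim hU,
      Groth.Agent.Lib.Helper4.VarDim.topologicalKrullDim_opens_eq_of_irreducible k C U
        ⟨x, hxU⟩, hC]
  -- `c` factors through `U`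
  have hrange : Set.range c ⊆ Set.range hU.fromSpec := by
    rw [hU.range_fromSpec]
    rintro _ ⟨y, rfl⟩
    have : y = pt := Subsingleton.elim _ _
    rw [this]
    exact hxU
  let c' : Spec (CommRingCat.of k) ⟶ Spec Γ(C, U) := IsOpenImmersion.lift hU.fromSpec c hrange
  have hc' : c' ≫ hU.fromSpec = c := IsOpenImmersion.lift_fac _ _ _
  let ev₀ : Γ(C, U) ⟶ CommRingCat.of k := Spec.preimage c'
  have hev₀ : Spec.map ev₀ = c' := Spec.map_preimage _
  have hcomp : algHomK k qC U ≫ ev₀ = 𝟙 _ := by
    apply Spec.map_injective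
    rw [Spec.map_comp, hev₀, ← fromSpec_comp_eq k qC hU, ← Category.assoc, hc', hc, Spec.map_id]
  let ev : Γ(C, U) →ₐ[k] k :=
    { ev₀.hom with
      commutes' := fun r => by
        have := congrArg (fun f => f.hom r) hcomp
        exact this }
  -- a uniformizer
  have hne : ∃ π : Γ(C, U), ev π = 0 ∧ π ∉ (RingHom.ker ev.toRingHom) ^ 2 := by
    by_contra hcon
    push Not at hcon
    have hidem : IsIdempotentElem (RingHom.ker ev.toRingHom) := by
      apply le_antisymm Ideal.mul_le_right
      intro a ha
      have := hcon a ha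
      rwa [pow_two] at this
    rcases (Ideal.isIdempotentElem_iff_eq_bot_or_top _
      (IsNoetherian.noetherian _)).1 hidem with h | h
    · have hinj : Function.Injective ev := (RingHom.injective_iff_ker_eq_bot ev.toRingHom).2 h
      have hsurj : Function.Surjective ev := fun r => ⟨algebraMap k _ r, ev.commutes r⟩
      have hfield : IsField Γ(C, U) :=
        (RingEquiv.ofBijective ev.toRingHom ⟨hinj, hsurj⟩).toMulEquiv.isField
          (Field.toIsField k)
      rw [ringKrullDim_eq_zero_of_isField hfield] at hdim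
      exact zero_ne_one hdim
    · exact (RingHom.ker_ne_top ev.toRingHom) h
  obtain ⟨π, hπ, hπ2⟩ := hne
  obtain ⟨φ, hφ1, hφ2⟩ := Groth.Agent.Lib.LeadArc.exists_arc ev π hπ hπ2
  refine ⟨Spec.map (CommRingCat.ofHom φ.toRingHom) ≫ hU.fromSpec, ?_, ?_⟩
  · have h1 : CommRingCat.ofHom φ.toRingHom ≫
        CommRingCat.ofHom (PowerSeries.constantCoeff (R := k)) = ev₀ := by
      ext b
      exact hφ1 b
    rw [← hc', ← hev₀, ← h1, Spec.map_comp, Category.assoc]
  · -- the generic point
    let K := FractionRing (PowerSeries k)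
    let q : Spec Γ(C, U) := (Spec.map (CommRingCat.ofHom φ.toRingHom))
      ((Spec.map (CommRingCat.ofHom (algebraMap (PowerSeries k) K)))
        (IsLocalRing.closedPoint K))
    have hq : ∀ b : Γ(C, U), b ∈ q.asIdeal ↔ φ b = 0 := by
      intro b
      have h1 : b ∈ q.asIdeal ↔
          algebraMap (PowerSeries k) K (φ b) ∈ IsLocalRing.maximalIdeal K := Iff.rfl
      rw [h1, IsLocalRing.maximalIdeal_eq_bot, Ideal.mem_bot]
      exact (map_eq_zero_iff _ (IsFractionRing.injective (PowerSeries k) K))
    have hqbot : q.asIdeal = ⊥ := by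
      by_contra hne
      haveI : Ring.KrullDimLE 1 Γ(C, U) := Ring.krullDimLE_iff.2 hdim.le
      have hmax : q.asIdeal.IsMaximal := q.isPrime.isMaximal_of_ne_bot hne
      have hle : q.asIdeal ≤ RingHom.ker ev.toRingHom := by
        intro b hb
        have h2 : φ b = 0 := (hq b).1 hb
        change ev b = 0
        rw [← hφ1 b, h2, map_zero]
      have heq : q.asIdeal = RingHom.ker ev.toRingHom :=
        hmax.eq_of_le (RingHom.ker_ne_top ev.toRingHom) hle
      have hπq : π ∈ q.asIdeal := by rw [heq]; exact hπ
      exact hφ2 ((hq π).1 hπq)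
    have hqgen : q = genericPoint (Spec Γ(C, U)) := by
      rw [genericPoint_eq_bot_of_affine]
      exact PrimeSpectrum.ext hqbot
    have h3 : (Spec.map (CommRingCat.ofHom (algebraMap (PowerSeries k) K)) ≫
        Spec.map (CommRingCat.ofHom φ.toRingHom) ≫ hU.fromSpec)
        (IsLocalRing.closedPoint K) = hU.fromSpec q := rfl
    rw [h3, hqgen]
    exact genericPoint_eq_of_isOpenImmersion hU.fromSpec

end arc

section fibre

theorem smooth_snd_of_factor {Y C T S : Scheme.{u}} (π : Y ⟶ C) (g : T ⟶ C) (γ : S ⟶ T) (y : C)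
    (ρ : S ⟶ Spec (C.residueField y)) (hρ : ρ ≫ C.fromSpecResidueField y = γ ≫ g)
    (hsm : Smooth (π.fiberToSpecResidueField y)) :
    Smooth (pullback.snd (pullback.snd π g) γ) := by
  have t : IsPullback (pullback.fst π g) (pullback.snd π g) π g := IsPullback.of_hasPullback π g
  have t' : IsPullback (pullback.fst (pullback.snd π g) γ) (pullback.snd (pullback.snd π g) γ)
      (pullback.snd π g) γ := IsPullback.of_hasPullback _ _
  have big : IsPullback (pullback.fst (pullback.snd π g) γ ≫ pullback.fst π g)
      (pullback.snd (pullback.snd π g) γ) π (γ ≫ g) := t'.paste_horiz t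
  rw [← hρ] at big
  have tf : IsPullback (π.fiberι y) (π.fiberToSpecResidueField y) π
      (C.fromSpecResidueField y) := IsPullback.of_hasPullback _ _
  have hw : (pullback.fst (pullback.snd π g) γ ≫ pullback.fst π g) ≫ π =
      (pullback.snd (pullback.snd π g) γ ≫ ρ) ≫ C.fromSpecResidueField y := by
    rw [big.w, Category.assoc]
  have sq : IsPullback (tf.lift _ _ hw) (pullback.snd (pullback.snd π g) γ)
      (π.fiberToSpecResidueField y) ρ := by
    refine IsPullback.of_right ?_ (tf.lift_snd _ _ hw) tf
    rw [tf.lift_fst]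
    exact big
  exact MorphismProperty.of_isPullback (P := @Smooth) sq hsm

end fibre

section main

theorem main_S16190 (k : Type u) [Field k] [IsAlgClosed k]
    (X : Scheme.{u}) (pX : X ⟶ Spec (CommRingCat.of k))
    (C : Scheme.{u}) (qC : C ⟶ Spec (CommRingCat.of k)) (c : Spec (CommRingCat.of k) ⟶ C)
    (hc : c ≫ qC = 𝟙 (Spec (CommRingCat.of k))) [IsIntegral C] [Smooth qC]
    (hC : topologicalKrullDim C = 1)
    (Y : Scheme.{u}) (π : Y ⟶ C) [Flat π] [IsProper π] (j : X ⟶ Y) (hsq : IsPullback j pX π c)
    (hgen : Smooth (π.fiberToSpecResidueField (genericPoint C))) :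
    ∃ (P : Scheme.{u}) (p : P ⟶ Spec (CommRingCat.of (PowerSeries k))) (_ : Flat p) (_ : IsProper p)
      (i : X ⟶ P),
      IsPullback i pX p (Spec.map (CommRingCat.ofHom (PowerSeries.constantCoeff (R := k)))) ∧
      Smooth (pullback.snd p
        (Spec.map (CommRingCat.ofHom (algebraMap (PowerSeries k) (FractionRing (PowerSeries k)))))) := by
  obtain ⟨g, hg1, hg2⟩ := exists_arc_scheme k C qC c hc hC
  have hw : j ≫ π =
      (pX ≫ Spec.map (CommRingCat.ofHom (PowerSeries.constantCoeff (R := k)))) ≫ g := by
    rw [Category.assoc, hg1, hsq.w]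
  refine ⟨pullback π g, pullback.snd π g, inferInstance, inferInstance,
    pullback.lift j (pX ≫ Spec.map (CommRingCat.ofHom (PowerSeries.constantCoeff (R := k)))) hw,
    ?_, ?_⟩
  · refine IsPullback.of_right ?_ (pullback.lift_snd _ _ _) (IsPullback.of_hasPullback π g)
    rw [pullback.lift_fst, hg1]
    exact hsq
  · have hfac := Scheme.descResidueField_stalkClosedPointTo_fromSpecResidueField
      (FractionRing (PowerSeries k)) C
      (Spec.map (CommRingCat.ofHom
        (algebraMap (PowerSeries k) (FractionRing (PowerSeries k)))) ≫ g)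
    have hsm : ∀ y : C, y = genericPoint C → Smooth (π.fiberToSpecResidueField y) := by
      rintro _ rfl
      exact hgen
    exact smooth_snd_of_factor π g _ _ _ hfac (hsm _ hg2)

end main

end Groth.Agent.Lib.LeadArcSch
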