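import Mathlib
set_option maxHeartbeats 400000
set_option autoImplicit false
set_option linter.style.haveILetI false

/-!
# Euler products over an arbitrary index type (lead), part 1: summability over `P →₀ ℕ`
-/

namespace Groth.Agent.Lib.LeadEuler

theorem inv_one_sub_le_exp {ρ y : ℝ} (hρ : ρ < 1) (hy0 : 0 ≤ y) (hyρ : y ≤ ρ) :
    (1 - y)⁻¹ ≤ Real.exp (y / (1 - ρ)) := by
  have hd : 0 < 1 - ρ := by linarith
  have h1y : 0 < 1 - y := by linarith
  have h1 : (1 - y)⁻¹ ≤ 1 + y / (1 - ρ) := by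
    rw [inv_eq_one_div, div_le_iff₀ h1y]
    have h2 : (1 + y / (1 - ρ)) * (1 - y) = 1 + y * (ρ - y) / (1 - ρ) := by
      field_simp
      ring
    rw [h2]
    have h3 : 0 ≤ y * (ρ - y) / (1 - ρ) := div_nonneg (mul_nonneg hy0 (by linarith)) hd.le
    linarith
  have h2 := Real.add_one_le_exp (y / (1 - ρ))
  linarith

theorem geom_sum_le_exp {ρ y : ℝ} (hρ : ρ < 1) (hy0 : 0 ≤ y) (hyρ : y ≤ ρ) (n : ℕ) :
    ∑ j ∈ Finset.range n, y ^ j ≤ Real.exp (y / (1 - ρ)) := by
  have hy1 : y < 1 := by linarith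
  have h1 : ∑ j ∈ Finset.range n, y ^ j ≤ ∑' j : ℕ, y ^ j :=
    (summable_geometric_of_lt_one hy0 hy1).sum_le_tsum (Finset.range n)
      (fun j _ => pow_nonneg hy0 j)
  rw [tsum_geometric_of_lt_one hy0 hy1] at h1
  exact h1.trans (inv_one_sub_le_exp hρ hy0 hyρ)

theorem summable_finsupp_prod {P : Type*} (f : P → ℝ) {ρ : ℝ} (hρ : ρ < 1) (hf0 : ∀ x, 0 ≤ f x)
    (hfρ : ∀ x, f x ≤ ρ) (hf : Summable f) :
    Summable (fun α : P →₀ ℕ => α.prod (fun x m => f x ^ m)) := by
  classical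
  have hd : 0 < 1 - ρ := by linarith
  refine summable_of_sum_le (c := Real.exp ((∑' x, f x) / (1 - ρ)))
    (fun α => Finset.prod_nonneg fun x _ => pow_nonneg (hf0 x) _) (fun u => ?_)
  let T : Finset P := u.biUnion Finsupp.support
  let M : ℕ := u.sup (fun α => α.support.sup (fun x => α x))
  have hT : ∀ α ∈ u, α.support ⊆ T := fun α hα =>
    Finset.subset_biUnion_of_mem Finsupp.support hα
  have hM : ∀ α ∈ u, ∀ x, α x ≤ M := by
    intro α hα x
    by_cases hx : x ∈ α.support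
    · exact (Finset.le_sup (f := fun x => α x) hx).trans
        (Finset.le_sup (f := fun α : P →₀ ℕ => α.support.sup (fun x => α x)) hα)
    · rw [Finsupp.notMem_support_iff.mp hx]
      exact Nat.zero_le _
  let φ : (P →₀ ℕ) → (↥T → ℕ) := fun α x => α x.1
  have hφinj : Set.InjOn φ (u : Set (P →₀ ℕ)) := by
    intro α hα β hβ h
    ext x
    by_cases hx : x ∈ T
    · exact congrFun h ⟨x, hx⟩
    · have h1 : x ∉ α.support := fun h' => hx (hT α hα h')
      have h2 : x ∉ β.support := fun h' => hx (hT β hβ h')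
      rw [Finsupp.notMem_support_iff.mp h1, Finsupp.notMem_support_iff.mp h2]
  have hterm : ∀ α ∈ u, α.prod (fun x m => f x ^ m) = ∏ x : ↥T, f x.1 ^ (φ α x) := by
    intro α hα
    rw [Finsupp.prod_of_support_subset α (hT α hα) _ (fun x _ => pow_zero _)]
    exact (Finset.prod_coe_sort T (fun x => f x ^ α x)).symm
  calc ∑ α ∈ u, α.prod (fun x m => f x ^ m)
      = ∑ α ∈ u, ∏ x : ↥T, f x.1 ^ (φ α x) := Finset.sum_congr rfl hterm
    _ = ∑ w ∈ u.image φ, ∏ x : ↥T, f x.1 ^ (w x) := (Finset.sum_image (f := fun w : ↥T → ℕ => ∏ x : ↥T, f x.1 ^ (w x)) hφinj).symm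
    _ ≤ ∑ w ∈ Fintype.piFinset (fun _ : ↥T => Finset.range (M + 1)),
          ∏ x : ↥T, f x.1 ^ (w x) := by
        refine Finset.sum_le_sum_of_subset_of_nonneg ?_
          (fun w _ _ => Finset.prod_nonneg fun x _ => pow_nonneg (hf0 _) _)
        intro w hw
        obtain ⟨α, hα, rfl⟩ := Finset.mem_image.mp hw
        exact Fintype.mem_piFinset.mpr fun x =>
          Finset.mem_range.mpr (Nat.lt_succ_of_le (hM α hα x.1))
    _ = ∏ x : ↥T, ∑ j ∈ Finset.range (M + 1), f x.1 ^ j :=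
        (Finset.prod_univ_sum (fun _ : ↥T => Finset.range (M + 1))
          (fun x j => f x.1 ^ j)).symm
    _ ≤ ∏ x : ↥T, Real.exp (f x.1 / (1 - ρ)) :=
        Finset.prod_le_prod (fun x _ => Finset.sum_nonneg fun j _ => pow_nonneg (hf0 _) _)
          (fun x _ => geom_sum_le_exp hρ (hf0 _) (hfρ _) _)
    _ = Real.exp (∑ x : ↥T, f x.1 / (1 - ρ)) := (Real.exp_sum _ _).symm
    _ ≤ Real.exp ((∑' x, f x) / (1 - ρ)) := by
        apply Real.exp_le_exp.mpr
        rw [← Finset.sum_div]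
        apply div_le_div_of_nonneg_right _ hd.le
        rw [Finset.sum_coe_sort T f]
        exact hf.sum_le_tsum T (fun x _ => hf0 x)

end Groth.Agent.Lib.LeadEuler
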