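import Mathlib
import Groth.Agent.Lib.LeadEuler1
set_option maxHeartbeats 400000
set_option autoImplicit false
set_option linter.style.haveILetI false

/-!
# Euler products over an arbitrary index type (lead), part 2

For `N : P → ℕ` with `N x ≠ 1` and `∑ N(x)^{-σ} < ∞` (`σ = Re s > 0`), the Dirichlet series
`∑ a_n n^{-s}`, `a_n = #{α : P →₀ ℕ | ∏ N(x)^{α x} = n}`, converges absolutely and does not vanish.
-/

namespace Groth.Agent.Lib.LeadEuler

theorem norm_natCast_cpow_neg (n : ℕ) (s : ℂ) (hs : 0 < s.re) :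
    ‖(n : ℂ) ^ (-s)‖ = (n : ℝ) ^ (-s.re) := by
  rcases Nat.eq_zero_or_pos n with rfl | hn
  · have hs' : -s ≠ 0 := by
      intro h
      have h1 := congrArg Complex.re h
      simp at h1
      linarith
    rw [Nat.cast_zero, Complex.zero_cpow hs', norm_zero, Nat.cast_zero,
      Real.zero_rpow (by linarith)]
  · rw [Complex.norm_natCast_cpow_of_pos hn, Complex.neg_re]

theorem lseries_fiber_count {S : Type*} (ν : S → ℕ) (s : ℂ) (hs : 0 < s.re)
    (h : Summable (fun α => ((ν α : ℕ) : ℝ) ^ (-s.re))) :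
    LSeriesSummable (fun n => (Nat.card {α // ν α = n} : ℂ)) s ∧
      LSeries (fun n => (Nat.card {α // ν α = n} : ℂ)) s = ∑' α, ((ν α : ℕ) : ℂ) ^ (-s) := by
  have hs' : -s ≠ 0 := by
    intro h
    have h1 := congrArg Complex.re h
    simp at h1
    linarith
  have hg : Summable (fun α => ((ν α : ℕ) : ℂ) ^ (-s)) := by
    refine Summable.of_norm ?_
    simpa only [norm_natCast_cpow_neg _ s hs] using h
  have hge : Summable (fun p : (Σ n : ℕ, {α // ν α = n}) =>
      ((ν (Equiv.sigmaFiberEquiv ν p) : ℕ) : ℂ) ^ (-s)) :=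
    ((Equiv.sigmaFiberEquiv ν).summable_iff (f := fun α => ((ν α : ℕ) : ℂ) ^ (-s))).mpr hg
  have hterm : ∀ n, LSeries.term (fun n => (Nat.card {α // ν α = n} : ℂ)) s n =
      ∑' c : {α // ν α = n}, ((ν (Equiv.sigmaFiberEquiv ν ⟨n, c⟩) : ℕ) : ℂ) ^ (-s) := by
    intro n
    have h1 : ∀ c : {α // ν α = n},
        ((ν (Equiv.sigmaFiberEquiv ν ⟨n, c⟩) : ℕ) : ℂ) ^ (-s) = (n : ℂ) ^ (-s) := fun c => by
      have h2 : ν (Equiv.sigmaFiberEquiv ν ⟨n, c⟩) = n := c.2
      rw [h2]
    rw [tsum_congr h1, tsum_const, nsmul_eq_mul]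
    rcases eq_or_ne n 0 with rfl | hn
    · rw [LSeries.term_zero, Nat.cast_zero, Complex.zero_cpow hs', mul_zero]
    · rw [LSeries.term_of_ne_zero hn, Complex.cpow_neg, div_eq_mul_inv]
  constructor
  · exact (summable_congr hterm).mpr hge.sigma
  · rw [LSeries, tsum_congr hterm, ← hge.tsum_sigma]
    exact (Equiv.sigmaFiberEquiv ν).tsum_eq (fun α => ((ν α : ℕ) : ℂ) ^ (-s))

section Step3

variable {P : Type*} (c : P → ℂ)

/-- the monomial `∏ c(x)^{α x}` -/
noncomputable def mono (α : P →₀ ℕ) : ℂ := α.prod (fun x m => c x ^ m)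

theorem mono_zero : mono c 0 = 1 := Finsupp.prod_zero_index

theorem mono_add (α β : P →₀ ℕ) : mono c (α + β) = mono c α * mono c β :=
  Finsupp.prod_add_index' (fun _ => pow_zero _) (fun _ _ _ => pow_add _ _ _)

theorem mono_single (x : P) : mono c (Finsupp.single x 1) = c x :=
  (Finsupp.prod_single_index (h := fun x m => c x ^ m) (pow_zero _)).trans (pow_one _)

open Classical in
/-- the sum over cycles avoiding `T` -/
noncomputable def Z (T : Finset P) : ℂ :=
  ∑' α : P →₀ ℕ, if (∀ y ∈ T, α y = 0) then mono c α else 0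

theorem summable_ite (hsum : Summable (fun α => ‖mono c α‖)) (p : (P →₀ ℕ) → Prop)
    [DecidablePred p] :
    Summable (fun α => if p α then mono c α else 0) :=
  Summable.of_norm_bounded hsum (fun α => by split_ifs <;> simp)

open Classical in
theorem Z_insert (hsum : Summable (fun α => ‖mono c α‖)) {T : Finset P} {x : P} (hx : x ∉ T) :
    Z c (insert x T) = (1 - c x) * Z c T := by
  have hsplit : ∀ α : P →₀ ℕ, (if (∀ y ∈ T, α y = 0) then mono c α else 0) =
      (if (∀ y ∈ insert x T, α y = 0) then mono c α else 0) +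
      (if ((∀ y ∈ T, α y = 0) ∧ α x ≠ 0) then mono c α else 0) := by
    intro α
    by_cases h1 : ∀ y ∈ T, α y = 0
    · by_cases h2 : α x = 0
      · have h3 : ∀ y ∈ insert x T, α y = 0 := fun y hy => by
          rcases Finset.mem_insert.mp hy with rfl | hy
          · exact h2
          · exact h1 y hy
        rw [if_pos h1, if_pos h3, if_neg (fun h => h.2 h2), add_zero]
      · have h3 : ¬ ∀ y ∈ insert x T, α y = 0 :=
          fun h => h2 (h x (Finset.mem_insert_self x T))
        rw [if_pos h1, if_neg h3, if_pos ⟨h1, h2⟩, zero_add]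
    · have h3 : ¬ ∀ y ∈ insert x T, α y = 0 :=
        fun h => h1 (fun y hy => h y (Finset.mem_insert_of_mem hy))
      rw [if_neg h1, if_neg h3, if_neg (fun h => h1 h.1), add_zero]
  have hK : ∑' α : P →₀ ℕ, (if ((∀ y ∈ T, α y = 0) ∧ α x ≠ 0) then mono c α else 0) =
      c x * Z c T := by
    have hinj : Function.Injective (fun β : P →₀ ℕ => β + Finsupp.single x 1) :=
      add_left_injective _
    have hsupp : Function.support (fun α : P →₀ ℕ =>
        if ((∀ y ∈ T, α y = 0) ∧ α x ≠ 0) then mono c α else 0) ⊆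
        Set.range (fun β : P →₀ ℕ => β + Finsupp.single x 1) := by
      intro α hα
      have h1 : (∀ y ∈ T, α y = 0) ∧ α x ≠ 0 := by
        by_contra h
        exact hα (if_neg h)
      refine ⟨α - Finsupp.single x 1, tsub_add_cancel_of_le ?_⟩
      rw [Finsupp.le_def]
      intro i
      rw [Finsupp.single_apply]
      split_ifs with h
      · subst h
        exact Nat.one_le_iff_ne_zero.mpr h1.2
      · exact Nat.zero_le _
    rw [← hinj.tsum_eq hsupp, Z, ← tsum_mul_left]
    refine tsum_congr fun β => ?_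
    have h1 : ((∀ y ∈ T, (β + Finsupp.single x 1 : P →₀ ℕ) y = 0) ∧
        (β + Finsupp.single x 1 : P →₀ ℕ) x ≠ 0) ↔
        (∀ y ∈ T, β y = 0) := by
      constructor
      · rintro ⟨h, -⟩ y hy
        have h2 := h y hy
        rw [Finsupp.add_apply] at h2
        exact (Nat.add_eq_zero_iff.mp h2).1
      · intro h
        refine ⟨fun y hy => ?_, ?_⟩
        · rw [Finsupp.add_apply, h y hy, Finsupp.single_apply,
            if_neg (fun hxy => hx (by rw [hxy]; exact hy)), add_zero]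
        · rw [Finsupp.add_apply, Finsupp.single_eq_same]
          exact Nat.succ_ne_zero _
    by_cases h2 : ∀ y ∈ T, β y = 0
    · rw [if_pos (h1.mpr h2), if_pos h2, mono_add, mono_single, mul_comm]
    · rw [if_neg (fun h => h2 (h1.mp h)), if_neg h2, mul_zero]
  have hs1 : Summable (fun α : P →₀ ℕ =>
      if (∀ y ∈ insert x T, α y = 0) then mono c α else 0) := summable_ite c hsum _
  have hs2 : Summable (fun α : P →₀ ℕ =>
      if ((∀ y ∈ T, α y = 0) ∧ α x ≠ 0) then mono c α else 0) := summable_ite c hsum _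
  have h3 : Z c T = Z c (insert x T) + c x * Z c T := by
    rw [← hK, Z, Z, ← hs1.tsum_add hs2]
    exact tsum_congr hsplit
  linear_combination (-1 : ℂ) * h3

open Classical in
theorem exists_norm_Z_sub_one_le (hsum : Summable (fun α => ‖mono c α‖)) :
    ∃ T : Finset P, ‖Z c T - 1‖ ≤ 1 / 2 := by
  obtain ⟨u, hu⟩ := summable_iff_vanishing_norm.mp hsum (1 / 2) (by norm_num)
  obtain ⟨T, hT⟩ : ∃ T : Finset P, T = u.biUnion Finsupp.support := ⟨_, rfl⟩
  refine ⟨T, ?_⟩
  have hsplit : ∀ α : P →₀ ℕ, (if (∀ y ∈ T, α y = 0) then mono c α else 0) =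
      (if α = 0 then (1 : ℂ) else 0) +
      (if ((∀ y ∈ T, α y = 0) ∧ α ≠ 0) then mono c α else 0) := by
    intro α
    by_cases h0 : α = 0
    · subst h0
      rw [if_pos (show ∀ y ∈ T, (0 : P →₀ ℕ) y = 0 from fun y _ => rfl), if_pos rfl,
        if_neg (fun h : (∀ y ∈ T, (0 : P →₀ ℕ) y = 0) ∧ (0 : P →₀ ℕ) ≠ 0 => h.2 rfl),
        add_zero, mono_zero]
    · by_cases h1 : ∀ y ∈ T, α y = 0
      · rw [if_pos h1, if_neg h0, if_pos ⟨h1, h0⟩, zero_add]
      · rw [if_neg h1, if_neg h0, if_neg (fun h => h1 h.1), zero_add]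
  have hsJ : Summable (fun α : P →₀ ℕ =>
      if ((∀ y ∈ T, α y = 0) ∧ α ≠ 0) then mono c α else 0) := summable_ite c hsum _
  have hs0 : Summable (fun α : P →₀ ℕ => if α = 0 then (1 : ℂ) else 0) :=
    (hasSum_single (0 : P →₀ ℕ) (fun b hb => if_neg hb)).summable
  have h01 : ∑' α : P →₀ ℕ, (if α = 0 then (1 : ℂ) else 0) = 1 := by
    rw [tsum_eq_single (0 : P →₀ ℕ) (fun b hb => if_neg hb), if_pos rfl]
  have hZ : Z c T = 1 + ∑' α : P →₀ ℕ,
      (if ((∀ y ∈ T, α y = 0) ∧ α ≠ 0) then mono c α else 0) := by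
    rw [Z, tsum_congr hsplit, hs0.tsum_add hsJ, h01]
  rw [hZ, add_sub_cancel_left]
  have hnJ : Summable (fun α : P →₀ ℕ =>
      ‖if ((∀ y ∈ T, α y = 0) ∧ α ≠ 0) then mono c α else 0‖) :=
    Summable.of_nonneg_of_le (fun _ => norm_nonneg _)
      (fun α => by split_ifs <;> simp) hsum
  refine (norm_tsum_le_tsum_norm hnJ).trans ?_
  refine Real.tsum_le_of_sum_le (fun _ => norm_nonneg _) (fun t => ?_)
  have h1 : ∀ α : P →₀ ℕ, ‖if ((∀ y ∈ T, α y = 0) ∧ α ≠ 0) then mono c α else 0‖ =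
      if ((∀ y ∈ T, α y = 0) ∧ α ≠ 0) then ‖mono c α‖ else 0 := fun α => by
    split_ifs <;> simp
  rw [Finset.sum_congr rfl (fun α _ => h1 α), ← Finset.sum_filter]
  have hdisj : Disjoint (t.filter (fun α : P →₀ ℕ => (∀ y ∈ T, α y = 0) ∧ α ≠ 0)) u := by
    rw [Finset.disjoint_left]
    intro α hα hαu
    obtain ⟨hα1, hα2⟩ := (Finset.mem_filter.mp hα).2
    obtain ⟨y, hy⟩ := Finsupp.support_nonempty_iff.mpr hα2
    have hyT : y ∈ T := by
      rw [hT]
      exact Finset.mem_biUnion.mpr ⟨α, hαu, hy⟩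
    exact (Finsupp.mem_support_iff.mp hy) (hα1 y hyT)
  exact (le_abs_self _).trans (hu _ hdisj).le

open Classical in
theorem tsum_mono_ne_zero (hsum : Summable (fun α => ‖mono c α‖)) :
    ∑' α, mono c α ≠ 0 := by
  have hZ0 : Z c ∅ = ∑' α, mono c α := by
    rw [Z]
    exact tsum_congr fun α => if_pos (fun y hy => absurd hy (Finset.notMem_empty y))
  have hprod : ∀ T : Finset P, Z c T = (∏ x ∈ T, (1 - c x)) * Z c ∅ := by
    intro T
    induction T using Finset.induction_on with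
    | empty => rw [Finset.prod_empty, one_mul]
    | insert x T hx ih => rw [Z_insert c hsum hx, ih, Finset.prod_insert hx, mul_assoc]
  obtain ⟨T, hT⟩ := exists_norm_Z_sub_one_le c hsum
  intro h0
  rw [hprod T, hZ0, h0, mul_zero, zero_sub, norm_neg, norm_one] at hT
  norm_num at hT

end Step3

theorem lseries_cycleCount {P : Type*} (N : P → ℕ) (hN : ∀ x, N x ≠ 1) (s : ℂ) (hs : 0 < s.re)
    (h : Summable (fun x => (N x : ℝ) ^ (-s.re))) :
    LSeriesSummable
        (fun n => (Nat.card {α : P →₀ ℕ // α.prod (fun x m => N x ^ m) = n} : ℂ)) s ∧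
      LSeries (fun n => (Nat.card {α : P →₀ ℕ // α.prod (fun x m => N x ^ m) = n} : ℂ)) s ≠ 0 := by
  let χ : ℕ →* ℂ :=
    { toFun := fun n => (n : ℂ) ^ (-s)
      map_one' := by simp
      map_mul' := fun m n => by
        rw [Nat.cast_mul]
        exact Complex.natCast_mul_natCast_cpow m n (-s) }
  let c : P → ℂ := fun x => (N x : ℂ) ^ (-s)
  have hmono : ∀ α : P →₀ ℕ,
      ((α.prod (fun x m => N x ^ m) : ℕ) : ℂ) ^ (-s) = mono c α := by
    intro α
    have h1 := map_finsuppProd χ α (fun x m => N x ^ m)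
    have h2 : (α.prod fun a b => χ (N a ^ b)) = mono c α := by
      unfold mono
      exact Finsupp.prod_congr (fun x _ => map_pow χ (N x) (α x))
    exact h1.trans h2
  have hρ : (2 : ℝ) ^ (-s.re) < 1 :=
    Real.rpow_lt_one_of_one_lt_of_neg one_lt_two (by linarith)
  have hnc : ∀ x, ‖c x‖ = (N x : ℝ) ^ (-s.re) := fun x => norm_natCast_cpow_neg _ s hs
  have hle : ∀ x, (N x : ℝ) ^ (-s.re) ≤ (2 : ℝ) ^ (-s.re) := by
    intro x
    rcases Nat.eq_zero_or_pos (N x) with h0 | hpos
    · rw [h0, Nat.cast_zero, Real.zero_rpow (by linarith)]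
      positivity
    · have h2 : 2 ≤ N x := by
        have := hN x
        omega
      exact Real.rpow_le_rpow_of_nonpos zero_lt_two (by exact_mod_cast h2) (by linarith)
  have hsum1 := summable_finsupp_prod (fun x => (N x : ℝ) ^ (-s.re)) hρ
    (fun x => Real.rpow_nonneg (Nat.cast_nonneg _) _) hle h
  have hnorm : ∀ α : P →₀ ℕ,
      ‖mono c α‖ = α.prod (fun x m => ((N x : ℝ) ^ (-s.re)) ^ m) := by
    intro α
    unfold mono Finsupp.prod
    rw [norm_prod]
    exact Finset.prod_congr rfl fun x _ => by rw [norm_pow, hnc]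
  have hsum : Summable (fun α => ‖mono c α‖) := by simpa only [hnorm] using hsum1
  have hsumν : Summable (fun α : P →₀ ℕ =>
      ((α.prod (fun x m => N x ^ m) : ℕ) : ℝ) ^ (-s.re)) := by
    have h3 : ∀ α : P →₀ ℕ,
        ((α.prod (fun x m => N x ^ m) : ℕ) : ℝ) ^ (-s.re) = ‖mono c α‖ := fun α => by
      rw [← hmono, norm_natCast_cpow_neg _ s hs]
    simpa only [h3] using hsum
  obtain ⟨h1, h2⟩ := lseries_fiber_count
    (fun α : P →₀ ℕ => α.prod (fun x m => N x ^ m)) s hs hsumν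
  refine ⟨h1, ?_⟩
  rw [h2, tsum_congr hmono]
  exact tsum_mono_ne_zero c hsum

end Groth.Agent.Lib.LeadEuler
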