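import Mathlib
set_option maxHeartbeats 400000
set_option autoImplicit false
universe u v w

namespace Groth.Agent.Lib.LeadPtCount

open Polynomial

section Count

variable {R₀ : Type*} [CommRing R₀] {F : Type*} [Field F] [Algebra R₀ F] {d : ℕ}

/-- Specialise the coefficients. -/
noncomputable def spec (P : Polynomial (MvPolynomial (Fin d) R₀)) (u : Fin d → F) : Polynomial F :=
  P.map (MvPolynomial.aeval u : MvPolynomial (Fin d) R₀ →ₐ[R₀] F).toRingHom

theorem spec_monic {P : Polynomial (MvPolynomial (Fin d) R₀)} (hP : P.Monic) (u : Fin d → F) :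
    (spec P u).Monic := hP.map _

theorem natDegree_spec {P : Polynomial (MvPolynomial (Fin d) R₀)} (hP : P.Monic) (u : Fin d → F) :
    (spec P u).natDegree = P.natDegree := hP.natDegree_map _

theorem eval_spec {A : Type*} [CommRing A] [Algebra R₀ A] (P : Polynomial (MvPolynomial (Fin d) R₀))
    (α : Fin d → A) (ψ : A →ₐ[R₀] F) (b : A) :
    ψ (P.eval₂ (MvPolynomial.aeval α : MvPolynomial (Fin d) R₀ →ₐ[R₀] A).toRingHom b) =
      (spec P (fun i => ψ (α i))).eval (ψ b) := by
  have h1 : (ψ : A →+* F).comp (MvPolynomial.aeval α : MvPolynomial (Fin d) R₀ →ₐ[R₀] A).toRingHom =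
      (MvPolynomial.aeval (fun i => ψ (α i)) : MvPolynomial (Fin d) R₀ →ₐ[R₀] F).toRingHom := by
    have h2 : ψ.comp (MvPolynomial.aeval α) = MvPolynomial.aeval (fun i => ψ (α i)) :=
      MvPolynomial.algHom_ext (fun i => by simp)
    rw [← h2]; rfl
  have h3 := Polynomial.hom_eval₂ P
    (MvPolynomial.aeval α : MvPolynomial (Fin d) R₀ →ₐ[R₀] A).toRingHom (ψ : A →+* F) b
  rw [h1] at h3
  rw [spec, Polynomial.eval_map]
  exact h3

theorem count_le {A : Type*} [CommRing A] [Algebra R₀ A] [Finite F] (n : ℕ)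
    (α : Fin d → A) (β : Fin n → A) (hgen : Algebra.adjoin R₀ (Set.range β) = ⊤)
    (N₁ N₂ : Fin n → ℤ) (hN₁ : ∀ j, (N₁ j : F) ≠ 0) (hN₂ : ∀ j, (N₂ j : F) ≠ 0)
    (P : Fin n → Polynomial (MvPolynomial (Fin d) R₀)) (hP : ∀ j, (P j).Monic)
    (hrel : ∀ j, N₂ j • (P j).eval₂
      (MvPolynomial.aeval α : MvPolynomial (Fin d) R₀ →ₐ[R₀] A).toRingHom (N₁ j • β j) = 0) :
    Finite (A →ₐ[R₀] F) ∧
      Nat.card (A →ₐ[R₀] F) ≤ (∏ j, (P j).natDegree) * Nat.card F ^ d := by
  classical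
  haveI : Fintype F := Fintype.ofFinite F
  let S : Finset (Σ _ : Fin d → F, (Fin n → F)) :=
    Finset.univ.sigma (fun u => Fintype.piFinset fun j => (spec (P j) u).roots.toFinset)
  let Φ : (A →ₐ[R₀] F) → (Σ _ : Fin d → F, (Fin n → F)) :=
    fun ψ => ⟨fun i => ψ (α i), fun j => ψ (N₁ j • β j)⟩
  have hΦS : ∀ ψ, Φ ψ ∈ S := by
    intro ψ
    refine Finset.mem_sigma.mpr ⟨Finset.mem_univ _, Fintype.mem_piFinset.mpr fun j => ?_⟩
    refine Multiset.mem_toFinset.mpr ((Polynomial.mem_roots (spec_monic (hP j) _).ne_zero).mpr ?_)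
    change (spec (P j) (fun i => ψ (α i))).eval (ψ (N₁ j • β j)) = 0
    rw [← eval_spec]
    have h1 := congrArg ψ (hrel j)
    rw [map_zsmul, map_zero, zsmul_eq_mul] at h1
    exact (mul_eq_zero.mp h1).resolve_left (hN₂ j)
  have hΦinj : Function.Injective Φ := by
    intro ψ₁ ψ₂ h
    refine AlgHom.ext_of_adjoin_eq_top hgen ?_
    rintro _ ⟨j, rfl⟩
    have h1 : ψ₁ (N₁ j • β j) = ψ₂ (N₁ j • β j) :=
      congrArg (fun x : (Σ _ : Fin d → F, (Fin n → F)) => x.2 j) h
    rw [map_zsmul, map_zsmul, zsmul_eq_mul, zsmul_eq_mul] at h1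
    exact mul_left_cancel₀ (hN₁ j) h1
  haveI hfin : Finite (A →ₐ[R₀] F) := Finite.of_injective Φ hΦinj
  refine ⟨hfin, ?_⟩
  have h1 : Nat.card (A →ₐ[R₀] F) ≤ Nat.card ↥S :=
    Nat.card_le_card_of_injective (fun ψ => (⟨Φ ψ, hΦS ψ⟩ : ↥S))
      (fun ψ₁ ψ₂ h => hΦinj (congrArg Subtype.val h))
  have h2 : Nat.card ↥S = S.card := by rw [Nat.card_eq_fintype_card, Fintype.card_coe]
  have h3 : S.card ≤ (∏ j, (P j).natDegree) * Nat.card F ^ d := by
    rw [Finset.card_sigma]
    calc ∑ u : Fin d → F, (Fintype.piFinset fun j => (spec (P j) u).roots.toFinset).card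
        ≤ ∑ _u : Fin d → F, ∏ j, (P j).natDegree := by
          refine Finset.sum_le_sum fun u _ => ?_
          rw [Fintype.card_piFinset]
          refine Finset.prod_le_prod (fun _ _ => Nat.zero_le _) fun j _ => ?_
          calc (spec (P j) u).roots.toFinset.card ≤ Multiset.card (spec (P j) u).roots :=
                Multiset.toFinset_card_le _
            _ ≤ (spec (P j) u).natDegree := Polynomial.card_roots' _
            _ = (P j).natDegree := natDegree_spec (hP j) u
      _ = (∏ j, (P j).natDegree) * Nat.card F ^ d := by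
          rw [Finset.sum_const, Finset.card_univ, Fintype.card_fun, Fintype.card_fin,
            Nat.card_eq_fintype_card, smul_eq_mul, mul_comm]
  exact h1.trans (h2 ▸ h3)

end Count

end Groth.Agent.Lib.LeadPtCount
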