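import Mathlib
import Groth.Agent.Lib.Helper5IntDim
import Groth.Agent.Lib.LeadPtCountA
set_option maxHeartbeats 400000
set_option autoImplicit false
set_option linter.style.haveILetI false
universe u v w

namespace Groth.Agent.Lib.LeadPtCount

open Polynomial TensorProduct

theorem card_algHom_le (k : Type v) [Field k] (B : Type u) [CommRing B] [Algebra k B]
    [hft : Algebra.FiniteType k B] (r : ℕ) (hr : ringKrullDim B ≤ r) :
    ∃ c : ℕ, ∀ (F : Type w) [Field F] [Finite F] [Algebra k F],
      Finite (B →ₐ[k] F) ∧ Nat.card (B →ₐ[k] F) ≤ c * Nat.card F ^ r := by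
  rcases subsingleton_or_nontrivial B with hB | hB
  · refine ⟨0, fun F _ _ _ => ?_⟩
    haveI : IsEmpty (B →ₐ[k] F) := ⟨fun ψ => by
      have h1 : (1 : B) = 0 := Subsingleton.elim _ _
      have h2 := congrArg ψ h1
      rw [map_one, map_zero] at h2
      exact one_ne_zero h2⟩
    exact ⟨inferInstance, by simp⟩
  · obtain ⟨s, g, hginj, hgint⟩ := exists_integral_inj_algHom_of_fg k B
    have hdim : ringKrullDim B = ((s : ℕ∞) : WithBot ℕ∞) := by
      let _ := g.toRingHom.toAlgebra
      have : Algebra.IsIntegral (MvPolynomial (Fin s) k) B := ⟨hgint⟩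
      rw [Groth.Agent.Lib.Helper5.ringKrullDim_eq_of_isIntegral_of_injective
        (MvPolynomial (Fin s) k) B hginj, MvPolynomial.ringKrullDim_of_isNoetherianRing,
        ringKrullDim_eq_zero_of_field]
      simp
    have hsr : s ≤ r := by
      rw [hdim] at hr
      exact_mod_cast hr
    obtain ⟨n, f, hf⟩ := Algebra.FiniteType.iff_quotient_mvPolynomial''.mp hft
    have hgen : Algebra.adjoin k (Set.range fun j => f (MvPolynomial.X j)) = ⊤ := by
      have hf' : (MvPolynomial.aeval (fun j => f (MvPolynomial.X j)) :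
          MvPolynomial (Fin n) k →ₐ[k] B) = f := (MvPolynomial.aeval_unique f).symm
      rw [Algebra.adjoin_range_eq_range_aeval, hf']
      exact (AlgHom.range_eq_top f).mpr hf
    have hex : ∀ j : Fin n, ∃ P : Polynomial (MvPolynomial (Fin s) k), P.Monic ∧
        P.eval₂ g.toRingHom (f (MvPolynomial.X j)) = 0 := fun j => hgint _
    choose P hPm hP0 using hex
    have hg : (MvPolynomial.aeval (fun i => g (MvPolynomial.X i)) :
        MvPolynomial (Fin s) k →ₐ[k] B) = g := (MvPolynomial.aeval_unique g).symm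
    refine ⟨∏ j, (P j).natDegree, fun F _ _ _ => ?_⟩
    have h := count_le (R₀ := k) (F := F) (d := s) n (fun i => g (MvPolynomial.X i))
      (fun j => f (MvPolynomial.X j)) hgen
      (fun _ => 1) (fun _ => 1) (fun _ => by simp) (fun _ => by simp) P hPm (fun j => by
        rw [one_smul, one_smul, hg]; exact hP0 j)
    refine ⟨h.1, h.2.trans ?_⟩
    exact Nat.mul_le_mul_left _ (Nat.pow_le_pow_right Nat.card_pos hsr)

theorem includeRight_surjective (p : ℕ) (A : Type u) [CommRing A] :
    Function.Surjective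
      (Algebra.TensorProduct.includeRight : A →ₐ[ℤ] TensorProduct ℤ (ZMod p) A) := by
  intro x
  induction x using TensorProduct.induction_on with
  | zero => exact ⟨0, map_zero _⟩
  | tmul z a =>
    obtain ⟨m, rfl⟩ := ZMod.intCast_surjective z
    refine ⟨m • a, ?_⟩
    rw [Algebra.TensorProduct.includeRight_apply, ← TensorProduct.smul_tmul, zsmul_one]
  | add x y hx hy =>
    obtain ⟨a, rfl⟩ := hx
    obtain ⟨b, rfl⟩ := hy
    exact ⟨a + b, map_add _ _ _⟩

theorem card_ringHom_le_of_charP (A : Type u) [CommRing A] [Algebra.FiniteType ℤ A] (r : ℕ)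
    (hr : ringKrullDim A ≤ r) (p : ℕ) [Fact p.Prime] :
    ∃ c : ℕ, ∀ (F : Type w) [Field F] [Finite F] [CharP F p],
      Finite (A →+* F) ∧ Nat.card (A →+* F) ≤ c * Nat.card F ^ r := by
  have hsurj := includeRight_surjective p A
  have hB : ringKrullDim (TensorProduct ℤ (ZMod p) A) ≤ r :=
    (ringKrullDim_le_of_surjective
      (Algebra.TensorProduct.includeRight : A →ₐ[ℤ] TensorProduct ℤ (ZMod p) A).toRingHom
      hsurj).trans hr
  obtain ⟨c, hc⟩ := card_algHom_le (ZMod p) (TensorProduct ℤ (ZMod p) A) r hB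
  refine ⟨c, fun F _ _ _ => ?_⟩
  letI : Algebra (ZMod p) F := ZMod.algebra F p
  obtain ⟨h1, h2⟩ := hc F
  let Ψ : (A →+* F) → (TensorProduct ℤ (ZMod p) A →ₐ[ZMod p] F) := fun ψ =>
    Algebra.TensorProduct.lift (Algebra.ofId (ZMod p) F) ψ.toIntAlgHom
      (fun _ _ => Commute.all _ _)
  have hΨ : Function.Injective Ψ := by
    intro ψ₁ ψ₂ h
    ext a
    have h3 := congrArg (fun φ : TensorProduct ℤ (ZMod p) A →ₐ[ZMod p] F =>
      φ ((1 : ZMod p) ⊗ₜ[ℤ] a)) h
    simpa [Ψ, Algebra.TensorProduct.lift_tmul] using h3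
  haveI := h1
  exact ⟨Finite.of_injective Ψ hΨ, (Nat.card_le_card_of_injective Ψ hΨ).trans h2⟩

end Groth.Agent.Lib.LeadPtCount
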