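import Mathlib
import Groth.Agent.Lib.Helper5IntDim
import Groth.Agent.Lib.LeadPtCountB
import Groth.Agent.S9612
set_option maxHeartbeats 400000
set_option autoImplicit false
set_option linter.style.haveILetI false
universe u v w

namespace Groth.Agent.Lib.LeadPtCount

open Polynomial TensorProduct

section Tensor

variable {A : Type u} [CommRing A]

theorem tmul_eq_zero_imp (a : A) (h : (1 : ℚ) ⊗ₜ[ℤ] a = 0) :
    ∃ N : ℤ, N ≠ 0 ∧ N • a = 0 := by
  obtain ⟨⟨N, hN⟩, h1⟩ := (IsLocalizedModule.eq_zero_iff (nonZeroDivisors ℤ)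
    (TensorProduct.mk ℤ ℚ A 1)).mp h
  exact ⟨N, nonZeroDivisors.ne_zero hN, h1⟩

theorem exists_smul_eq_tmul (b : ℚ ⊗[ℤ] A) :
    ∃ (N : ℤ) (a : A), N ≠ 0 ∧ N • b = (1 : ℚ) ⊗ₜ[ℤ] a := by
  obtain ⟨⟨a, ⟨N, hN⟩⟩, h1⟩ := IsLocalizedModule.surj (nonZeroDivisors ℤ)
    (TensorProduct.mk ℤ ℚ A 1) b
  exact ⟨N, a, nonZeroDivisors.ne_zero hN, h1⟩

/-- The inclusion `A → ℚ ⊗ A`. -/
noncomputable abbrev incl (A : Type u) [CommRing A] : A →ₐ[ℤ] ℚ ⊗[ℤ] A :=
  Algebra.TensorProduct.includeRight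

theorem intCast_mul_mem_imp (p : Ideal (ℚ ⊗[ℤ] A)) (N : ℤ) (hN : N ≠ 0) (b : ℚ ⊗[ℤ] A)
    (h : N • b ∈ p) : b ∈ p := by
  have h1 : b = algebraMap ℚ (ℚ ⊗[ℤ] A) ((N : ℚ)⁻¹) * (N • b) := by
    rw [← Int.cast_smul_eq_zsmul ℚ N b, ← Algebra.smul_def, smul_smul,
      inv_mul_cancel₀ (Int.cast_ne_zero.mpr hN), one_smul]
  rw [h1]
  exact Ideal.mul_mem_left _ _ h

theorem comap_incl_lt (p p' : Ideal (ℚ ⊗[ℤ] A)) (h : p < p') :
    p.comap (incl A).toRingHom < p'.comap (incl A).toRingHom := by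
  refine lt_of_le_of_ne (Ideal.comap_mono h.le) fun heq => h.ne (le_antisymm h.le fun b hb => ?_)
  obtain ⟨N, a, hN, hNb⟩ := exists_smul_eq_tmul b
  have h1 : N • b ∈ p' := by
    rw [zsmul_eq_mul]
    exact Ideal.mul_mem_left _ _ hb
  have h2 : a ∈ p'.comap (incl A).toRingHom := by
    rw [Ideal.mem_comap]
    change (1 : ℚ) ⊗ₜ[ℤ] a ∈ p'
    rw [← hNb]
    exact h1
  rw [← heq, Ideal.mem_comap] at h2
  have h3 : N • b ∈ p := by
    rw [hNb]
    exact h2
  exact intCast_mul_mem_imp p N hN b h3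

theorem intCast_mem_comap_imp (p : Ideal (ℚ ⊗[ℤ] A)) (hp : p ≠ ⊤) (N : ℤ)
    (h : (N : A) ∈ p.comap (incl A).toRingHom) : N = 0 := by
  by_contra hN
  apply hp
  rw [Ideal.eq_top_iff_one]
  apply intCast_mul_mem_imp p N hN
  rw [Ideal.mem_comap] at h
  have h1 : (incl A).toRingHom (N : A) = N • (1 : ℚ ⊗[ℤ] A) := by
    rw [map_intCast, zsmul_one]
  rw [← h1]
  exact h

end Tensor

/-- A prime of a finite type `ℤ`-algebra containing no nonzero integer is not maximal. -/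
theorem not_isMaximal_of_forall_int {A : Type u} [CommRing A] [Algebra.FiniteType ℤ A]
    (q : Ideal A) (hq : ∀ N : ℤ, (N : A) ∈ q → N = 0) : ¬ q.IsMaximal := by
  intro hmax
  haveI := Groth.Agent.S9612.isJacobsonRing_int
  letI : Field (A ⧸ q) := Ideal.Quotient.field q
  let φ : ℤ →+* A ⧸ q := (Ideal.Quotient.mk q).comp (algebraMap ℤ A)
  have hφft : φ.FiniteType :=
    RingHom.FiniteType.comp (RingHom.FiniteType.of_surjective _ Ideal.Quotient.mk_surjective)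
      (RingHom.finiteType_algebraMap.mpr inferInstance)
  have hφfin : φ.Finite := RingHom.finite_iff_finiteType_of_isJacobsonRing.mpr hφft
  have hφint : φ.IsIntegral := hφfin.to_isIntegral
  have hφinj : Function.Injective φ := by
    rw [injective_iff_map_eq_zero]
    intro N hN
    apply hq
    have h1 : (Ideal.Quotient.mk q) (algebraMap ℤ A N) = 0 := hN
    rw [Ideal.Quotient.eq_zero_iff_mem] at h1
    simpa using h1
  letI := φ.toAlgebra
  haveI : Algebra.IsIntegral ℤ (A ⧸ q) := ⟨hφint⟩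
  exact Int.not_isField (isField_of_isIntegral_of_isField hφinj (Field.toIsField _))

theorem succ_le_ringKrullDim_of_tensor {A : Type u} [CommRing A] [Algebra.FiniteType ℤ A] (s : ℕ)
    (hs : (s : WithBot ℕ∞) ≤ ringKrullDim (ℚ ⊗[ℤ] A)) :
    ((s + 1 : ℕ) : WithBot ℕ∞) ≤ ringKrullDim A := by
  obtain ⟨l, hl⟩ := Order.le_krullDim_iff.mp hs
  let cm : PrimeSpectrum (ℚ ⊗[ℤ] A) → PrimeSpectrum A :=
    fun p => ⟨p.asIdeal.comap (incl A).toRingHom, inferInstance⟩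
  have hcm : StrictMono cm := fun p p' h => by
    have h1 : p.asIdeal < p'.asIdeal := h
    exact comap_incl_lt _ _ h1
  let L : LTSeries (PrimeSpectrum A) := l.map cm hcm
  have hnm : ¬ (cm l.last).asIdeal.IsMaximal :=
    not_isMaximal_of_forall_int _ (intCast_mem_comap_imp _ l.last.2.ne_top)
  obtain ⟨mx, hmx, hle⟩ := Ideal.exists_le_maximal (cm l.last).asIdeal (cm l.last).2.ne_top
  have hlt : L.last < ⟨mx, hmx.isPrime⟩ := by
    have h1 : (cm l.last).asIdeal < mx :=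
      lt_of_le_of_ne hle fun h => hnm (h ▸ hmx)
    exact h1
  have h2 := Order.LTSeries.length_le_krullDim (L.snoc ⟨mx, hmx.isPrime⟩ hlt)
  have h3 : (L.snoc ⟨mx, hmx.isPrime⟩ hlt).length = s + 1 := by
    simp [L, hl]
  rw [h3] at h2
  exact h2

end Groth.Agent.Lib.LeadPtCount
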