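import Mathlib
import Groth.Agent.Lib.LeadPtCountC
set_option maxHeartbeats 400000
set_option autoImplicit false
set_option linter.style.haveILetI false
universe u v w

namespace Groth.Agent.Lib.LeadPtCount

open Polynomial TensorProduct

theorem exists_int_monic_of_isIntegralElem {s : ℕ} {B : Type*} [CommRing B] [Algebra ℚ B]
    (g' : MvPolynomial (Fin s) ℚ →ₐ[ℚ] B) (b : B) (hb : g'.toRingHom.IsIntegralElem b) :
    ∃ (N : ℤ) (P : Polynomial (MvPolynomial (Fin s) ℤ)), N ≠ 0 ∧ P.Monic ∧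
      P.eval₂ (g'.toRingHom.comp (MvPolynomial.map (Int.castRingHom ℚ))) (N • b) = 0 := by
  letI : Algebra (MvPolynomial (Fin s) ℤ) (MvPolynomial (Fin s) ℚ) :=
    MvPolynomial.algebraMvPolynomial
  letI : Algebra (MvPolynomial (Fin s) ℚ) B := g'.toRingHom.toAlgebra
  letI : Algebra (MvPolynomial (Fin s) ℤ) B :=
    (g'.toRingHom.comp (MvPolynomial.map (Int.castRingHom ℚ))).toAlgebra
  haveI : IsScalarTower (MvPolynomial (Fin s) ℤ) (MvPolynomial (Fin s) ℚ) B :=
    IsScalarTower.of_algebraMap_eq (fun x => rfl)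
  haveI : IsLocalization ((nonZeroDivisors ℤ).map (MvPolynomial.C (σ := Fin s)))
      (MvPolynomial (Fin s) ℚ) := MvPolynomial.isLocalization (nonZeroDivisors ℤ) ℚ
  have hb' : IsIntegral (MvPolynomial (Fin s) ℚ) b := hb
  obtain ⟨⟨m, hm⟩, P, hPm, hP⟩ := IsIntegral.exists_multiple_integral_of_isLocalization
    ((nonZeroDivisors ℤ).map (MvPolynomial.C (σ := Fin s))) b hb'
  obtain ⟨N, hN, hNm⟩ := hm
  refine ⟨N, P, nonZeroDivisors.ne_zero hN, hPm, ?_⟩
  have h1 : ((⟨m, ⟨N, hN, hNm⟩⟩ : ↥((nonZeroDivisors ℤ).map (MvPolynomial.C (σ := Fin s)))) • b) =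
      N • b := by
    rw [Submonoid.smul_def, Algebra.smul_def]
    change g' (MvPolynomial.map (Int.castRingHom ℚ) m) * b = N • b
    rw [← hNm]
    change g' (MvPolynomial.map (Int.castRingHom ℚ) (MvPolynomial.C N)) * b = N • b
    rw [MvPolynomial.map_C, ← MvPolynomial.algebraMap_eq, AlgHom.commutes, ← Algebra.smul_def]
    exact Int.cast_smul_eq_zsmul ℚ N b
  rw [h1] at hP
  exact hP

theorem card_ringHom_le_generic (A : Type u) [CommRing A] [hft : Algebra.FiniteType ℤ A] (r : ℕ)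
    (hr : ringKrullDim A ≤ r) :
    ∃ M N : ℕ, 0 < N ∧ ∀ (p : ℕ) [Fact p.Prime], ¬ p ∣ N →
      ∀ (F : Type w) [Field F] [Finite F] [CharP F p],
        Finite (A →+* F) ∧ Nat.card (A →+* F) * Nat.card F ≤ M * Nat.card F ^ r := by
  rcases subsingleton_or_nontrivial (ℚ ⊗[ℤ] A) with hB | hB
  · obtain ⟨N, hN0, hN⟩ := tmul_eq_zero_imp (1 : A) (Subsingleton.elim _ _)
    refine ⟨0, N.natAbs, Int.natAbs_pos.mpr hN0, fun p _ hp F _ _ _ => ?_⟩
    haveI : IsEmpty (A →+* F) := ⟨fun ψ => by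
      have h1 := congrArg ψ hN
      rw [map_zsmul, map_one, map_zero, zsmul_one] at h1
      rw [CharP.intCast_eq_zero_iff F p N] at h1
      exact hp (Int.natCast_dvd.mp h1)⟩
    exact ⟨inferInstance, by simp⟩
  · obtain ⟨s, g, hginj, hgint⟩ := exists_integral_inj_algHom_of_fg ℚ (ℚ ⊗[ℤ] A)
    have hdim : ringKrullDim (ℚ ⊗[ℤ] A) = ((s : ℕ∞) : WithBot ℕ∞) := by
      let _ := g.toRingHom.toAlgebra
      have : Algebra.IsIntegral (MvPolynomial (Fin s) ℚ) (ℚ ⊗[ℤ] A) := ⟨hgint⟩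
      rw [Groth.Agent.Lib.Helper5.ringKrullDim_eq_of_isIntegral_of_injective
        (MvPolynomial (Fin s) ℚ) (ℚ ⊗[ℤ] A) hginj, MvPolynomial.ringKrullDim_of_isNoetherianRing,
        ringKrullDim_eq_zero_of_field]
      simp
    have hsr : s + 1 ≤ r := by
      have h1 := succ_le_ringKrullDim_of_tensor (A := A) s (by rw [hdim]; exact_mod_cast le_rfl)
      exact_mod_cast h1.trans hr
    obtain ⟨n, f, hf⟩ := Algebra.FiniteType.iff_quotient_mvPolynomial''.mp hft
    have hgen : Algebra.adjoin ℤ (Set.range fun j => f (MvPolynomial.X j)) = ⊤ := by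
      have hf' : (MvPolynomial.aeval (fun j => f (MvPolynomial.X j)) :
          MvPolynomial (Fin n) ℤ →ₐ[ℤ] A) = f := (MvPolynomial.aeval_unique f).symm
      rw [Algebra.adjoin_range_eq_range_aeval, hf']
      exact (AlgHom.range_eq_top f).mpr hf
    have hex1 : ∀ i : Fin s, ∃ (m : ℤ) (a : A), m ≠ 0 ∧
        m • g (MvPolynomial.X i) = (1 : ℚ) ⊗ₜ[ℤ] a := fun i => exists_smul_eq_tmul _
    choose m α hm hα using hex1
    let g' : MvPolynomial (Fin s) ℚ →ₐ[ℚ] ℚ ⊗[ℤ] A :=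
      MvPolynomial.aeval (fun i => (1 : ℚ) ⊗ₜ[ℤ] α i)
    let σ : MvPolynomial (Fin s) ℚ →ₐ[ℚ] MvPolynomial (Fin s) ℚ :=
      MvPolynomial.aeval (fun i => MvPolynomial.C ((m i : ℚ)⁻¹) * MvPolynomial.X i)
    have hσ : g'.comp σ = g := by
      refine MvPolynomial.algHom_ext fun i => ?_
      simp only [AlgHom.comp_apply, σ, g', MvPolynomial.aeval_X, map_mul, MvPolynomial.aeval_C]
      rw [← hα i, ← Algebra.smul_def, ← Int.cast_smul_eq_zsmul ℚ (m i), smul_smul,
        inv_mul_cancel₀ (Int.cast_ne_zero.mpr (hm i)), one_smul]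
    have hg'int : ∀ b, g'.toRingHom.IsIntegralElem b := by
      intro b
      obtain ⟨P, hPm, hP⟩ := hgint b
      refine ⟨P.map σ.toRingHom, hPm.map _, ?_⟩
      rw [Polynomial.eval₂_map]
      have h1 : g'.toRingHom.comp σ.toRingHom = g.toRingHom := by rw [← hσ]; rfl
      rw [h1]
      exact hP
    have hex2 : ∀ j : Fin n, ∃ (N₁ N₂ : ℤ) (P : Polynomial (MvPolynomial (Fin s) ℤ)),
        N₁ ≠ 0 ∧ N₂ ≠ 0 ∧ P.Monic ∧
        N₂ • P.eval₂ (MvPolynomial.aeval α : MvPolynomial (Fin s) ℤ →ₐ[ℤ] A).toRingHom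
          (N₁ • f (MvPolynomial.X j)) = 0 := by
      intro j
      obtain ⟨N₁, P, hN₁, hPm, hP⟩ := exists_int_monic_of_isIntegralElem g' _
        (hg'int ((1 : ℚ) ⊗ₜ[ℤ] f (MvPolynomial.X j)))
      have hcomp : g'.toRingHom.comp (MvPolynomial.map (Int.castRingHom ℚ)) =
          (incl A).toRingHom.comp
            (MvPolynomial.aeval α : MvPolynomial (Fin s) ℤ →ₐ[ℤ] A).toRingHom := by
        refine MvPolynomial.ringHom_ext (fun z => ?_) (fun i => ?_)
        · simp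
        · simp [g']
      rw [hcomp] at hP
      have h2 : N₁ • ((1 : ℚ) ⊗ₜ[ℤ] f (MvPolynomial.X j)) =
          (incl A).toRingHom (N₁ • f (MvPolynomial.X j)) := by
        rw [map_zsmul]; rfl
      rw [h2, ← Polynomial.hom_eval₂] at hP
      obtain ⟨N₂, hN₂, h3⟩ := tmul_eq_zero_imp _ hP
      exact ⟨N₁, N₂, P, hN₁, hN₂, hPm, h3⟩
    choose N₁ N₂ P hN₁ hN₂ hPm hrel using hex2
    refine ⟨∏ j, (P j).natDegree, ∏ j, ((N₁ j).natAbs * (N₂ j).natAbs), ?_,
      fun p _ hp F _ _ _ => ?_⟩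
    · exact Finset.prod_pos fun j _ =>
        Nat.mul_pos (Int.natAbs_pos.mpr (hN₁ j)) (Int.natAbs_pos.mpr (hN₂ j))
    · have hNF : ∀ (z : ℤ) (j : Fin n), (z.natAbs ∣ (N₁ j).natAbs * (N₂ j).natAbs) →
          (z : F) ≠ 0 := by
        intro z j hz h0
        rw [CharP.intCast_eq_zero_iff F p z] at h0
        exact hp ((Int.natCast_dvd.mp h0).trans
          (hz.trans (Finset.dvd_prod_of_mem _ (Finset.mem_univ j))))
      have h := count_le (R₀ := ℤ) (F := F) (d := s) n α (fun j => f (MvPolynomial.X j)) hgen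
        N₁ N₂ (fun j => hNF _ j (dvd_mul_right _ _)) (fun j => hNF _ j (dvd_mul_left _ _))
        P hPm hrel
      have he : Function.Injective (RingHom.toIntAlgHom : (A →+* F) → (A →ₐ[ℤ] F)) :=
        fun ψ₁ ψ₂ h => RingHom.ext fun a => DFunLike.congr_fun h a
      haveI := h.1
      refine ⟨Finite.of_injective _ he, ?_⟩
      calc Nat.card (A →+* F) * Nat.card F
          ≤ ((∏ j, (P j).natDegree) * Nat.card F ^ s) * Nat.card F :=
            Nat.mul_le_mul_right _ ((Nat.card_le_card_of_injective _ he).trans h.2)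
        _ = (∏ j, (P j).natDegree) * Nat.card F ^ (s + 1) := by rw [pow_succ, mul_assoc]
        _ ≤ (∏ j, (P j).natDegree) * Nat.card F ^ r :=
            Nat.mul_le_mul_left _ (Nat.pow_le_pow_right Nat.card_pos hsr)

end Groth.Agent.Lib.LeadPtCount
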