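import Mathlib
import Groth.Prelude
import Groth.Agent.Lib.Helper4VarDim2
import Groth.Agent.Lib.LeadPtCountD
set_option maxHeartbeats 400000
set_option autoImplicit false
set_option linter.style.haveILetI false
universe u v w

namespace Groth.Agent.Lib.LeadPtCount

open CategoryTheory AlgebraicGeometry

section Scheme

variable {X : Scheme.{u}}

theorem range_subset_of_mem {F : Type u} [Field F] (t : Spec (CommRingCat.of F) ⟶ X) (U : X.Opens)
    (h : t (IsLocalRing.closedPoint F) ∈ U) : Set.range t ⊆ (U : Set X) := by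
  rintro _ ⟨y, rfl⟩
  have h1 : y = IsLocalRing.closedPoint F := Subsingleton.elim (α := PrimeSpectrum F) _ _
  rw [h1]
  exact h

theorem exists_eq_specMap_comp_fromSpec {F : Type u} [Field F] (t : Spec (CommRingCat.of F) ⟶ X)
    {U : X.Opens} (hU : IsAffineOpen U) (h : t (IsLocalRing.closedPoint F) ∈ U) :
    ∃ χ : Γ(X, U) →+* F, t = Spec.map (CommRingCat.ofHom χ) ≫ hU.fromSpec := by
  have hr : Set.range t ⊆ Set.range hU.fromSpec := by
    rw [hU.range_fromSpec]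
    exact range_subset_of_mem t U h
  have ht' : IsOpenImmersion.lift hU.fromSpec t hr ≫ hU.fromSpec = t :=
    IsOpenImmersion.lift_fac _ _ _
  refine ⟨(Spec.preimage (IsOpenImmersion.lift hU.fromSpec t hr)).hom, ?_⟩
  rw [CommRingCat.ofHom_hom, Spec.map_preimage, ht']

theorem card_hom_le {F : Type u} [Field F] (s : Finset X.affineOpens)
    (hs : ∀ x : X, ∃ U ∈ s, x ∈ (U : X.affineOpens).1)
    (hfin : ∀ U ∈ s, Finite (Γ(X, (U : X.affineOpens).1) →+* F)) :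
    Finite (Spec (CommRingCat.of F) ⟶ X) ∧
      Nat.card (Spec (CommRingCat.of F) ⟶ X) ≤ ∑ U ∈ s, Nat.card (Γ(X, U.1) →+* F) := by
  classical
  let Θ : (Σ U : ↥s, (Γ(X, U.1.1) →+* F)) → (Spec (CommRingCat.of F) ⟶ X) :=
    fun z => Spec.map (CommRingCat.ofHom z.2) ≫ z.1.1.2.fromSpec
  have hΘ : Function.Surjective Θ := by
    intro t
    obtain ⟨U, hUs, hx⟩ := hs (t (IsLocalRing.closedPoint F))
    obtain ⟨χ, hχ⟩ := exists_eq_specMap_comp_fromSpec t U.2 hx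
    exact ⟨⟨⟨U, hUs⟩, χ⟩, hχ.symm⟩
  haveI : ∀ U : ↥s, Finite (Γ(X, U.1.1) →+* F) := fun U => hfin U.1 U.2
  refine ⟨Finite.of_surjective Θ hΘ, ?_⟩
  calc Nat.card (Spec (CommRingCat.of F) ⟶ X)
      ≤ Nat.card (Σ U : ↥s, (Γ(X, U.1.1) →+* F)) := Nat.card_le_card_of_surjective Θ hΘ
    _ = ∑ U : ↥s, Nat.card (Γ(X, U.1.1) →+* F) := Nat.card_sigma
    _ = ∑ U ∈ s, Nat.card (Γ(X, U.1) →+* F) :=
        Finset.sum_coe_sort s (fun U => Nat.card (Γ(X, U.1) →+* F))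

theorem exists_finset_affineOpens_cover [CompactSpace X] :
    ∃ s : Finset X.affineOpens, ∀ x : X, ∃ U ∈ s, x ∈ (U : X.affineOpens).1 := by
  obtain ⟨S, hSfin, hS⟩ := (isCompact_and_isOpen_iff_finite_and_eq_biUnion_affineOpens
    (X := X) (U := Set.univ)).mp ⟨isCompact_univ, isOpen_univ⟩
  refine ⟨hSfin.toFinset, fun x => ?_⟩
  have hx : x ∈ (Set.univ : Set X) := trivial
  rw [hS] at hx
  obtain ⟨U, hUS, hxU⟩ := Set.mem_iUnion₂.mp hx
  exact ⟨U, hSfin.mem_toFinset.mpr hUS, hxU⟩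

theorem finiteType_int_sections {R : Type u} [CommRing R] [Algebra.FiniteType ℤ R]
    (f : X ⟶ Spec (CommRingCat.of R)) [LocallyOfFiniteType f] {U : X.Opens}
    (hU : IsAffineOpen U) : Algebra.FiniteType ℤ Γ(X, U) := by
  have h1 : (f.appLE ⊤ U le_top).hom.FiniteType :=
    HasRingHomProperty.appLE (P := @LocallyOfFiniteType) _ ‹_›
      ⟨⊤, isAffineOpen_top (Spec (CommRingCat.of R))⟩ ⟨U, hU⟩ le_top
  have h2 : ((Scheme.ΓSpecIso (CommRingCat.of R)).inv ≫ f.appLE ⊤ U le_top).hom.FiniteType := by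
    rw [CommRingCat.hom_comp]
    refine RingHom.FiniteType.comp h1 (RingHom.FiniteType.of_surjective _ ?_)
    exact (ConcreteCategory.bijective_of_isIso (Scheme.ΓSpecIso (CommRingCat.of R)).inv).surjective
  have h3 : (algebraMap ℤ R).FiniteType := RingHom.finiteType_algebraMap.mpr inferInstance
  have h4 := RingHom.FiniteType.comp h2 h3
  have h5 : (((Scheme.ΓSpecIso (CommRingCat.of R)).inv ≫ f.appLE ⊤ U le_top).hom.comp
      (algebraMap ℤ R)) = algebraMap ℤ Γ(X, U) := RingHom.ext_int _ _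
  rw [h5] at h4
  exact RingHom.finiteType_algebraMap.mp h4

theorem ringKrullDim_sections_le {U : X.Opens} (hU : IsAffineOpen U) (r : ℕ)
    (hr : topologicalKrullDim X ≤ r) : ringKrullDim Γ(X, U) ≤ r := by
  rw [← Groth.Agent.Lib.Helper4.VarDim.topologicalKrullDim_eq_ringKrullDim hU]
  exact (topologicalKrullDim_subspace_le X (U : Set X)).trans hr

end Scheme

theorem charP_of_natCard {F : Type*} [Field F] {p m : ℕ} (hp : p.Prime)
    (hcard : Nat.card F = p ^ m) : CharP F p := by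
  haveI : Finite F := Nat.finite_of_card_ne_zero (by rw [hcard]; exact pow_ne_zero _ hp.ne_zero)
  haveI : Fintype F := Fintype.ofFinite F
  haveI : Fact p.Prime := ⟨hp⟩
  exact charP_of_card_eq_prime_pow (f := m) (by rw [← Nat.card_eq_fintype_card]; exact hcard)

theorem real_bound_a (cnt M p m r : ℕ) (hp : 0 < p) (c : ℝ) (hMc : (M : ℝ) ≤ c)
    (h : cnt * p ^ m ≤ M * (p ^ m) ^ r) :
    (cnt : ℝ) ≤ c * (p : ℝ) ^ ((m : ℝ) * ((r : ℝ) - 1)) := by
  have hp' : (0 : ℝ) < p := by exact_mod_cast hp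
  have hQ : (0 : ℝ) < (p : ℝ) ^ m := pow_pos hp' m
  have E2 : (p : ℝ) ^ ((m : ℝ) * ((r : ℝ) - 1)) * (p : ℝ) ^ m = ((p : ℝ) ^ m) ^ r := by
    have h1 : (p : ℝ) ^ m = (p : ℝ) ^ (m : ℝ) := (Real.rpow_natCast _ _).symm
    have h2 : ((p : ℝ) ^ (m : ℝ)) ^ r = (p : ℝ) ^ ((m : ℝ) * (r : ℝ)) := by
      rw [← Real.rpow_natCast, ← Real.rpow_mul hp'.le]
    rw [h1, h2, ← Real.rpow_add hp']
    congr 1
    ring
  have h' : (cnt : ℝ) * (p : ℝ) ^ m ≤ (M : ℝ) * ((p : ℝ) ^ m) ^ r := by exact_mod_cast h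
  refine le_of_mul_le_mul_right ?_ hQ
  calc (cnt : ℝ) * (p : ℝ) ^ m ≤ (M : ℝ) * ((p : ℝ) ^ m) ^ r := h'
    _ ≤ c * ((p : ℝ) ^ m) ^ r := mul_le_mul_of_nonneg_right hMc (by positivity)
    _ = c * (p : ℝ) ^ ((m : ℝ) * ((r : ℝ) - 1)) * (p : ℝ) ^ m := by rw [mul_assoc, E2]

theorem real_bound_b (cnt M p m r : ℕ) (hp : 0 < p) (c : ℝ) (hMc : (M : ℝ) ≤ c)
    (h : cnt ≤ M * (p ^ m) ^ r) :
    (cnt : ℝ) ≤ c * (p : ℝ) ^ ((m : ℝ) * (r : ℝ)) := by
  have hp' : (0 : ℝ) < p := by exact_mod_cast hp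
  have E1 : (p : ℝ) ^ ((m : ℝ) * (r : ℝ)) = ((p : ℝ) ^ m) ^ r := by
    rw [Real.rpow_mul hp'.le, Real.rpow_natCast, Real.rpow_natCast]
  have h' : (cnt : ℝ) ≤ (M : ℝ) * ((p : ℝ) ^ m) ^ r := by exact_mod_cast h
  rw [E1]
  exact h'.trans (mul_le_mul_of_nonneg_right hMc (by positivity))

end Groth.Agent.Lib.LeadPtCount
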