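import Mathlib
import Groth.Prelude
import Groth.Agent.Lib.LeadPtCountE
set_option maxHeartbeats 400000
set_option autoImplicit false
set_option linter.style.haveILetI false
universe u v w

/-!
# Point counts of schemes of finite type over a finite field / over `ℤ` (lead)

`pointCount_le`: `#X(k') ≤ c · |k|^{r·[k':k]}` for `X` of finite type over a finite field `k`,
`dim X ≤ r`.

`card_points_le_int`: for `X` of finite type over `ℤ` with `dim X ≤ r`,
`#X(F_{p^m}) ≤ c · p^{m(r-1)}` for `p ≥ p₀`, and `≤ c · p^{mr}` for `p < p₀`.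

The proof is by Noether normalisation (over `𝔽_p` and over `ℚ`, clearing denominators),
counting roots of monic polynomials.
-/

namespace Groth.Agent.Lib.LeadPtCount

open CategoryTheory AlgebraicGeometry

theorem pointCount_le {k : Type u} [Field k] [Finite k] {X : Scheme.{u}}
    (f : X ⟶ Spec (CommRingCat.of k)) [LocallyOfFiniteType f] [QuasiCompact f] (r : ℕ)
    (hr : topologicalKrullDim X ≤ r) :
    ∃ c : ℕ, ∀ (k' : Type u) [Field k'] [Algebra k k'] [Finite k'],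
      SgaExt.pointCount f k' ≤ c * Nat.card k ^ (r * Module.finrank k k') := by
  classical
  obtain ⟨p, hp⟩ := CharP.exists k
  haveI := hp
  haveI : Fact p.Prime := ⟨CharP.char_is_prime k p⟩
  haveI : CompactSpace X := QuasiCompact.compactSpace_of_compactSpace f
  obtain ⟨s, hs⟩ := exists_finset_affineOpens_cover (X := X)
  haveI : Algebra.FiniteType ℤ k := inferInstance
  have hex : ∀ U : X.affineOpens, ∃ c : ℕ, ∀ (F : Type u) [Field F] [Finite F] [CharP F p],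
      Finite (Γ(X, U.1) →+* F) ∧ Nat.card (Γ(X, U.1) →+* F) ≤ c * Nat.card F ^ r := fun U => by
    haveI := finiteType_int_sections f U.2
    exact card_ringHom_le_of_charP Γ(X, U.1) r (ringKrullDim_sections_le U.2 r hr) p
  choose c hc using hex
  refine ⟨∑ U ∈ s, c U, fun k' _ _ _ => ?_⟩
  haveI : CharP k' p := charP_of_injective_algebraMap (algebraMap k k').injective p
  have h1 := card_hom_le (F := k') s hs (fun U _ => (hc U k').1)
  haveI := h1.1
  have h2 : SgaExt.pointCount f k' ≤ Nat.card (Spec (CommRingCat.of k') ⟶ X) :=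
    Nat.card_le_card_of_injective Subtype.val Subtype.val_injective
  have h3 : Nat.card k' = Nat.card k ^ Module.finrank k k' := Module.natCard_eq_pow_finrank
  calc SgaExt.pointCount f k' ≤ Nat.card (Spec (CommRingCat.of k') ⟶ X) := h2
    _ ≤ ∑ U ∈ s, Nat.card (Γ(X, U.1) →+* k') := h1.2
    _ ≤ ∑ U ∈ s, c U * Nat.card k' ^ r := Finset.sum_le_sum fun U _ => (hc U k').2
    _ = (∑ U ∈ s, c U) * Nat.card k ^ (r * Module.finrank k k') := by
        rw [← Finset.sum_mul, h3, ← pow_mul, mul_comm (Module.finrank k k') r]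

theorem card_points_le_of_finiteType_int {R : Type u} [CommRing R] [Algebra.FiniteType ℤ R]
    {X : Scheme.{u}}
    (f : X ⟶ Spec (CommRingCat.of R)) [LocallyOfFiniteType f] [QuasiCompact f] (r : ℕ)
    (hr : topologicalKrullDim X ≤ r) :
    ∃ (c : ℝ) (p₀ : ℕ), 0 < c ∧ ∀ (p m : ℕ), p.Prime → 1 ≤ m →
      ∀ (F : Type u) [Field F], Nat.card F = p ^ m →
        Finite (Spec (CommRingCat.of F) ⟶ X) ∧
        (p₀ ≤ p → (Nat.card (Spec (CommRingCat.of F) ⟶ X) : ℝ) ≤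
            c * (p : ℝ) ^ ((m : ℝ) * ((r : ℝ) - 1))) ∧
        (p < p₀ → (Nat.card (Spec (CommRingCat.of F) ⟶ X) : ℝ) ≤
            c * (p : ℝ) ^ ((m : ℝ) * r)) := by
  classical
  haveI : CompactSpace X := QuasiCompact.compactSpace_of_compactSpace f
  obtain ⟨s, hs⟩ := exists_finset_affineOpens_cover (X := X)
  have hft : ∀ U : X.affineOpens, Algebra.FiniteType ℤ Γ(X, U.1) :=
    fun U => finiteType_int_sections f U.2
  have hdim : ∀ U : X.affineOpens, ringKrullDim Γ(X, U.1) ≤ r :=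
    fun U => ringKrullDim_sections_le U.2 r hr
  have hex_gen : ∀ U : X.affineOpens, ∃ M N : ℕ, 0 < N ∧ ∀ (p : ℕ) [Fact p.Prime], ¬ p ∣ N →
      ∀ (F : Type u) [Field F] [Finite F] [CharP F p],
        Finite (Γ(X, U.1) →+* F) ∧
          Nat.card (Γ(X, U.1) →+* F) * Nat.card F ≤ M * Nat.card F ^ r := fun U => by
    haveI := hft U
    exact card_ringHom_le_generic Γ(X, U.1) r (hdim U)
  choose Mg Ng hNg hgen using hex_gen
  have hex_p : ∀ (q : ℕ) (U : X.affineOpens), ∃ c : ℕ, ∀ (_ : q.Prime) (F : Type u) [Field F]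
      [Finite F] [CharP F q], Finite (Γ(X, U.1) →+* F) ∧
        Nat.card (Γ(X, U.1) →+* F) ≤ c * Nat.card F ^ r := by
    intro q U
    by_cases hq : q.Prime
    · haveI : Fact q.Prime := ⟨hq⟩
      haveI := hft U
      obtain ⟨c, hc⟩ := card_ringHom_le_of_charP Γ(X, U.1) r (hdim U) q
      exact ⟨c, fun _ F _ _ _ => hc F⟩
    · exact ⟨0, fun hq' => absurd hq' hq⟩
  choose cp hcp using hex_p
  obtain ⟨A, hA⟩ : ∃ A : ℕ, A = ∑ U ∈ s, Mg U := ⟨_, rfl⟩
  obtain ⟨p₀, hp₀def⟩ : ∃ p₀ : ℕ, p₀ = (∑ U ∈ s, Ng U) + 1 := ⟨_, rfl⟩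
  obtain ⟨B, hB⟩ : ∃ B : ℕ, B = ∑ q ∈ Finset.range p₀, ∑ U ∈ s, cp q U := ⟨_, rfl⟩
  have hA0 : (0 : ℝ) ≤ (A : ℝ) := Nat.cast_nonneg _
  have hB0 : (0 : ℝ) ≤ (B : ℝ) := Nat.cast_nonneg _
  refine ⟨1 + (A : ℝ) + (B : ℝ), p₀, by linarith, fun p m hp hm F _ hcard => ?_⟩
  haveI : Fact p.Prime := ⟨hp⟩
  have hne : Nat.card F ≠ 0 := by rw [hcard]; exact pow_ne_zero _ hp.ne_zero
  haveI : Finite F := Nat.finite_of_card_ne_zero hne
  haveI : CharP F p := charP_of_natCard hp hcard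
  refine ⟨(card_hom_le (F := F) s hs (fun U _ => (hcp p U hp F).1)).1, ?_, ?_⟩
  · intro hpp
    have hnd : ∀ U ∈ s, ¬ p ∣ Ng U := fun U hU =>
      Nat.not_dvd_of_pos_of_lt (hNg U) (lt_of_lt_of_le (Nat.lt_succ_of_le
        (Finset.single_le_sum (f := Ng) (fun _ _ => Nat.zero_le _) hU)) (hp₀def.symm.trans_le hpp))
    have h1 := card_hom_le (F := F) s hs (fun U hU => (hgen U p (hnd U hU) F).1)
    have h2 : Nat.card (Spec (CommRingCat.of F) ⟶ X) * Nat.card F ≤ A * Nat.card F ^ r := by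
      calc Nat.card (Spec (CommRingCat.of F) ⟶ X) * Nat.card F
          ≤ (∑ U ∈ s, Nat.card (Γ(X, U.1) →+* F)) * Nat.card F := Nat.mul_le_mul_right _ h1.2
        _ = ∑ U ∈ s, Nat.card (Γ(X, U.1) →+* F) * Nat.card F := Finset.sum_mul _ _ _
        _ ≤ ∑ U ∈ s, Mg U * Nat.card F ^ r :=
            Finset.sum_le_sum fun U hU => (hgen U p (hnd U hU) F).2
        _ = A * Nat.card F ^ r := by rw [hA, Finset.sum_mul]
    rw [hcard] at h2
    exact real_bound_a _ A p m r hp.pos _ (by linarith) h2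
  · intro hpp
    have h1 := card_hom_le (F := F) s hs (fun U _ => (hcp p U hp F).1)
    have h2 : Nat.card (Spec (CommRingCat.of F) ⟶ X) ≤ (∑ U ∈ s, cp p U) * Nat.card F ^ r := by
      calc Nat.card (Spec (CommRingCat.of F) ⟶ X)
          ≤ ∑ U ∈ s, Nat.card (Γ(X, U.1) →+* F) := h1.2
        _ ≤ ∑ U ∈ s, cp p U * Nat.card F ^ r :=
            Finset.sum_le_sum fun U _ => (hcp p U hp F).2
        _ = (∑ U ∈ s, cp p U) * Nat.card F ^ r := (Finset.sum_mul _ _ _).symm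
    rw [hcard] at h2
    have h3 : ∑ U ∈ s, cp p U ≤ B := by
      rw [hB]
      exact Finset.single_le_sum (f := fun q => ∑ U ∈ s, cp q U) (fun _ _ => Nat.zero_le _)
        (Finset.mem_range.mpr hpp)
    have h4 : ((∑ U ∈ s, cp p U : ℕ) : ℝ) ≤ 1 + (A : ℝ) + (B : ℝ) := by
      have : ((∑ U ∈ s, cp p U : ℕ) : ℝ) ≤ (B : ℝ) := Nat.cast_le.mpr h3
      linarith
    exact real_bound_b _ _ p m r hp.pos _ h4 h2

theorem card_points_le_int {X : Scheme.{u}}
    (f : X ⟶ Spec (CommRingCat.of (ULift.{u} ℤ))) [LocallyOfFiniteType f] [QuasiCompact f] (r : ℕ)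
    (hr : topologicalKrullDim X ≤ r) :
    ∃ (c : ℝ) (p₀ : ℕ), 0 < c ∧ ∀ (p m : ℕ), p.Prime → 1 ≤ m →
      ∀ (F : Type u) [Field F], Nat.card F = p ^ m →
        (p₀ ≤ p → (Nat.card (Spec (CommRingCat.of F) ⟶ X) : ℝ) ≤
            c * (p : ℝ) ^ ((m : ℝ) * ((r : ℝ) - 1))) ∧
        (p < p₀ → (Nat.card (Spec (CommRingCat.of F) ⟶ X) : ℝ) ≤
            c * (p : ℝ) ^ ((m : ℝ) * r)) := by
  haveI : Algebra.FiniteType ℤ (ULift.{u} ℤ) := inferInstance
  obtain ⟨c, p₀, hc, h⟩ := card_points_le_of_finiteType_int f r hr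
  exact ⟨c, p₀, hc, fun p m hp hm F _ hcard => (h p m hp hm F hcard).2⟩

end Groth.Agent.Lib.LeadPtCount
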