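import Mathlib
import Groth.Prelude
import Groth.Agent.Lib.LeadPtCount
import Groth.Agent.Lib.LeadEuler2
set_option maxHeartbeats 400000
set_option autoImplicit false
set_option linter.style.haveILetI false
universe u

/-!
# The zeta function of an arithmetic scheme converges and does not vanish for `Re s > dim X` (lead)
-/

namespace Groth.Agent.Lib.LeadArithZeta

open CategoryTheory AlgebraicGeometry

variable (X : Scheme.{u})

open Classical in
/-- norm of a point: `#κ(x)` at closed points, `0` elsewhere -/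
noncomputable def Nc (x : X) : ℕ :=
  if IsClosed ({x} : Set X) then Nat.card (X.residueField x) else 0

theorem Nc_ne_one (x : X) : Nc X x ≠ 1 := by
  unfold Nc
  split_ifs with h
  · intro h1
    exact not_subsingleton (X.residueField x) (Nat.card_eq_one_iff_unique.mp h1).1
  · exact Nat.zero_ne_one

theorem cycleNormCount_eq (n : ℕ) (hn : n ≠ 0) :
    Zeta.cycleNormCount X n =
      Nat.card {α : X →₀ ℕ // α.prod (fun x m => Nc X x ^ m) = n} := by
  unfold Zeta.cycleNormCount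
  refine Nat.card_congr (Equiv.subtypeEquivRight fun α => ?_)
  constructor
  · rintro ⟨h1, h2⟩
    rw [← h2]
    refine Finsupp.prod_congr fun x hx => ?_
    rw [Nc, if_pos (h1 x hx)]
  · intro h
    have h1 : ∀ x ∈ α.support, IsClosed ({x} : Set X) := by
      intro x hx
      by_contra hcl
      have h0 : Nc X x ^ α x = 0 := by
        rw [Nc, if_neg hcl, zero_pow (Finsupp.mem_support_iff.mp hx)]
      apply hn
      rw [← h]
      exact Finset.prod_eq_zero hx h0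
    refine ⟨h1, ?_⟩
    rw [← h]
    refine Finsupp.prod_congr fun x hx => ?_
    rw [Nc, if_pos (h1 x hx)]

theorem exists_injective_fiber (x₀ : X) (n : ℕ) (hn0 : n ≠ 0)
    (hx₀ : Nat.card (X.residueField x₀) = n) :
    ∃ φ : {x : X // Nc X x = n} → (Spec (CommRingCat.of (X.residueField x₀)) ⟶ X),
      Function.Injective φ := by
  classical
  haveI : Finite (X.residueField x₀) := Nat.finite_of_card_ne_zero (by rw [hx₀]; exact hn0)
  have hex : ∀ x : {x : X // Nc X x = n},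
      Nonempty (X.residueField x.1 ≃+* X.residueField x₀) := by
    rintro ⟨x, hx⟩
    have hcl : IsClosed ({x} : Set X) := by
      by_contra h
      rw [Nc, if_neg h] at hx
      exact hn0 hx.symm
    rw [Nc, if_pos hcl] at hx
    haveI : Finite (X.residueField x) := Nat.finite_of_card_ne_zero (by rw [hx]; exact hn0)
    haveI := Fintype.ofFinite (X.residueField x)
    haveI := Fintype.ofFinite (X.residueField x₀)
    exact ⟨FiniteField.ringEquivOfCardEq
      (by rw [← Nat.card_eq_fintype_card, ← Nat.card_eq_fintype_card, hx, hx₀])⟩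
  refine ⟨fun x => Spec.map (CommRingCat.ofHom (Classical.choice (hex x)).toRingHom) ≫
    X.fromSpecResidueField x.1, ?_⟩
  intro x y hxy
  have hpt : ∀ z : {x : X // Nc X x = n},
      (Spec.map (CommRingCat.ofHom (Classical.choice (hex z)).toRingHom) ≫
        X.fromSpecResidueField z.1) (IsLocalRing.closedPoint (X.residueField x₀)) = z.1 :=
    fun z => (Scheme.Hom.comp_apply _ _ _).trans (X.fromSpecResidueField_apply _ _)
  have h1 := congrArg (fun t : Spec (CommRingCat.of (X.residueField x₀)) ⟶ X =>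
    t (IsLocalRing.closedPoint (X.residueField x₀))) hxy
  exact Subtype.ext ((hpt x).symm.trans (h1.trans (hpt y)))

open Classical

/-- the majorant -/
noncomputable def maj (c : ℝ) (p₀ r : ℕ) (σ : ℝ) (n : ℕ) : ℝ :=
  c * (n : ℝ) ^ ((r : ℝ) - 1 - σ) +
    ∑ p ∈ Finset.range p₀,
      (if (2 ≤ p ∧ ∃ m : ℕ, n = p ^ m) then c * (n : ℝ) ^ ((r : ℝ) - σ) else 0)

theorem summable_maj (c : ℝ) (p₀ r : ℕ) (σ : ℝ) (hσ : (r : ℝ) < σ) :
    Summable (maj c p₀ r σ) := by
  unfold maj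
  refine Summable.add (Summable.mul_left c (Real.summable_nat_rpow.mpr (by linarith)))
    (summable_sum fun p _ => ?_)
  by_cases hp : 2 ≤ p
  · have hinj : Function.Injective (fun m : ℕ => p ^ m) := Nat.pow_right_injective hp
    have hp0 : (0 : ℝ) ≤ (p : ℝ) := Nat.cast_nonneg p
    have hp1 : (1 : ℝ) < (p : ℝ) := by exact_mod_cast hp
    refine (Function.Injective.summable_iff hinj ?_).mp ?_
    · intro n hn
      exact if_neg (fun h => hn (by obtain ⟨m, hm⟩ := h.2; exact ⟨m, hm.symm⟩))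
    · have hρ0 : 0 ≤ (p : ℝ) ^ ((r : ℝ) - σ) := Real.rpow_nonneg hp0 _
      have hρ1 : (p : ℝ) ^ ((r : ℝ) - σ) < 1 :=
        Real.rpow_lt_one_of_one_lt_of_neg hp1 (by linarith)
      have h1 : ∀ m : ℕ, ((fun n : ℕ => if (2 ≤ p ∧ ∃ m : ℕ, n = p ^ m) then
          c * (n : ℝ) ^ ((r : ℝ) - σ) else 0) ∘ (fun m : ℕ => p ^ m)) m =
          c * ((p : ℝ) ^ ((r : ℝ) - σ)) ^ m := by
        intro m
        change (if (2 ≤ p ∧ ∃ m' : ℕ, p ^ m = p ^ m') then
          c * ((p ^ m : ℕ) : ℝ) ^ ((r : ℝ) - σ) else 0) = _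
        rw [if_pos ⟨hp, m, rfl⟩, Nat.cast_pow, ← Real.rpow_natCast_mul hp0, mul_comm (m : ℝ),
          Real.rpow_mul_natCast hp0]
      rw [summable_congr h1]
      exact (summable_geometric_of_lt_one hρ0 hρ1).mul_left c
  · have h0 : (fun n : ℕ => if (2 ≤ p ∧ ∃ m : ℕ, n = p ^ m) then
        c * (n : ℝ) ^ ((r : ℝ) - σ) else 0) = fun _ => 0 :=
      funext fun n => if_neg (fun h => hp h.1)
    rw [h0]
    exact summable_zero

theorem maj_nonneg (c : ℝ) (hc : 0 < c) (p₀ r : ℕ) (σ : ℝ) (n : ℕ) : 0 ≤ maj c p₀ r σ n := by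
  unfold maj
  refine add_nonneg (mul_nonneg hc.le (Real.rpow_nonneg (Nat.cast_nonneg n) _))
    (Finset.sum_nonneg fun p _ => ?_)
  split_ifs
  · exact mul_nonneg hc.le (Real.rpow_nonneg (Nat.cast_nonneg n) _)
  · exact le_rfl

theorem fiber_bound (r : ℕ) (c : ℝ) (p₀ : ℕ) (hc : 0 < c)
    (hb : ∀ (p m : ℕ), p.Prime → 1 ≤ m → ∀ (F : Type u) [Field F], Nat.card F = p ^ m →
      Finite (Spec (CommRingCat.of F) ⟶ X) ∧
      (p₀ ≤ p → (Nat.card (Spec (CommRingCat.of F) ⟶ X) : ℝ) ≤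
        c * (p : ℝ) ^ ((m : ℝ) * ((r : ℝ) - 1))) ∧
      (p < p₀ → (Nat.card (Spec (CommRingCat.of F) ⟶ X) : ℝ) ≤ c * (p : ℝ) ^ ((m : ℝ) * r)))
    (σ : ℝ) (n : ℕ) (hn : n ≠ 0) :
    Finite {x : X // Nc X x = n} ∧
      (Nat.card {x : X // Nc X x = n} : ℝ) * (n : ℝ) ^ (-σ) ≤ maj c p₀ r σ n := by
  classical
  by_cases hne : Nonempty {x : X // Nc X x = n}
  · obtain ⟨⟨x₀, hx₀⟩⟩ := hne
    have hcl : IsClosed ({x₀} : Set X) := by
      by_contra h
      rw [Nc, if_neg h] at hx₀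
      exact hn hx₀.symm
    rw [Nc, if_pos hcl] at hx₀
    haveI : Finite (X.residueField x₀) := Nat.finite_of_card_ne_zero (by rw [hx₀]; exact hn)
    haveI := Fintype.ofFinite (X.residueField x₀)
    have hpp : IsPrimePow n := by
      have h1 : IsPrimePow (Fintype.card (X.residueField x₀)) := Fintype.isPrimePow_card_of_field
      rwa [← Nat.card_eq_fintype_card, hx₀] at h1
    obtain ⟨p, m, hp, hm, hpm⟩ := (isPrimePow_nat_iff n).mp hpp
    obtain ⟨hfin, hba, hbb⟩ := hb p m hp hm (X.residueField x₀) (hx₀.trans hpm.symm)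
    obtain ⟨φ, hφ⟩ := exists_injective_fiber X x₀ n hn hx₀
    haveI := hfin
    have hcard : (Nat.card {x : X // Nc X x = n} : ℝ) ≤
        (Nat.card (Spec (CommRingCat.of (X.residueField x₀)) ⟶ X) : ℝ) :=
      Nat.cast_le.mpr (Nat.card_le_card_of_injective φ hφ)
    refine ⟨Finite.of_injective φ hφ, ?_⟩
    have hp0 : (0 : ℝ) ≤ (p : ℝ) := Nat.cast_nonneg p
    have hnR : (n : ℝ) = (p : ℝ) ^ m := by rw [← hpm, Nat.cast_pow]
    have hnpos : (0 : ℝ) < (n : ℝ) := by exact_mod_cast Nat.pos_of_ne_zero hn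
    have hσ0 : 0 ≤ (n : ℝ) ^ (-σ) := Real.rpow_nonneg hnpos.le _
    have hsum0 : 0 ≤ ∑ p ∈ Finset.range p₀,
        (if (2 ≤ p ∧ ∃ m : ℕ, n = p ^ m) then c * (n : ℝ) ^ ((r : ℝ) - σ) else 0) :=
      Finset.sum_nonneg fun p _ => by
        split_ifs
        · exact mul_nonneg hc.le (Real.rpow_nonneg (Nat.cast_nonneg n) _)
        · exact le_rfl
    rcases le_or_gt p₀ p with h | h
    · have h1 : (p : ℝ) ^ ((m : ℝ) * ((r : ℝ) - 1)) = (n : ℝ) ^ ((r : ℝ) - 1) := by
        rw [hnR, Real.rpow_natCast_mul hp0]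
      have h2 : (n : ℝ) ^ ((r : ℝ) - 1) * (n : ℝ) ^ (-σ) = (n : ℝ) ^ ((r : ℝ) - 1 - σ) := by
        rw [← Real.rpow_add hnpos, sub_eq_add_neg ((r : ℝ) - 1) σ]
      calc (Nat.card {x : X // Nc X x = n} : ℝ) * (n : ℝ) ^ (-σ)
          ≤ (c * (n : ℝ) ^ ((r : ℝ) - 1)) * (n : ℝ) ^ (-σ) :=
            mul_le_mul_of_nonneg_right (hcard.trans (h1 ▸ hba h)) hσ0
        _ = c * (n : ℝ) ^ ((r : ℝ) - 1 - σ) := by rw [mul_assoc, h2]
        _ ≤ maj c p₀ r σ n := by
            unfold maj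
            linarith
    · have h1 : (p : ℝ) ^ ((m : ℝ) * (r : ℝ)) = (n : ℝ) ^ (r : ℝ) := by
        rw [hnR, Real.rpow_natCast_mul hp0]
      have h2 : (n : ℝ) ^ (r : ℝ) * (n : ℝ) ^ (-σ) = (n : ℝ) ^ ((r : ℝ) - σ) := by
        rw [← Real.rpow_add hnpos, sub_eq_add_neg (r : ℝ) σ]
      have h3 : c * (n : ℝ) ^ ((r : ℝ) - σ) ≤ ∑ p ∈ Finset.range p₀,
          (if (2 ≤ p ∧ ∃ m : ℕ, n = p ^ m) then c * (n : ℝ) ^ ((r : ℝ) - σ) else 0) := by
        have h4 := Finset.single_le_sum (f := fun p : ℕ =>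
          (if (2 ≤ p ∧ ∃ m : ℕ, n = p ^ m) then c * (n : ℝ) ^ ((r : ℝ) - σ) else 0))
          (s := Finset.range p₀) (fun p _ => by
            split_ifs
            · exact mul_nonneg hc.le (Real.rpow_nonneg (Nat.cast_nonneg n) _)
            · exact le_rfl) (Finset.mem_range.mpr h)
        rw [if_pos ⟨hp.two_le, m, hpm.symm⟩] at h4
        exact h4
      have h5 : 0 ≤ c * (n : ℝ) ^ ((r : ℝ) - 1 - σ) :=
        mul_nonneg hc.le (Real.rpow_nonneg hnpos.le _)
      calc (Nat.card {x : X // Nc X x = n} : ℝ) * (n : ℝ) ^ (-σ)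
          ≤ (c * (n : ℝ) ^ (r : ℝ)) * (n : ℝ) ^ (-σ) :=
            mul_le_mul_of_nonneg_right (hcard.trans (h1 ▸ hbb h)) hσ0
        _ = c * (n : ℝ) ^ ((r : ℝ) - σ) := by rw [mul_assoc, h2]
        _ ≤ maj c p₀ r σ n := by
            unfold maj
            linarith
  · haveI : IsEmpty {x : X // Nc X x = n} := not_nonempty_iff.mp hne
    refine ⟨inferInstance, ?_⟩
    rw [Nat.card_of_isEmpty, Nat.cast_zero, zero_mul]
    exact maj_nonneg c hc p₀ r σ n

theorem summable_Nc_of_bound (r : ℕ) (c : ℝ) (p₀ : ℕ) (hc : 0 < c)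
    (hb : ∀ (p m : ℕ), p.Prime → 1 ≤ m → ∀ (F : Type u) [Field F], Nat.card F = p ^ m →
      Finite (Spec (CommRingCat.of F) ⟶ X) ∧
      (p₀ ≤ p → (Nat.card (Spec (CommRingCat.of F) ⟶ X) : ℝ) ≤
        c * (p : ℝ) ^ ((m : ℝ) * ((r : ℝ) - 1))) ∧
      (p < p₀ → (Nat.card (Spec (CommRingCat.of F) ⟶ X) : ℝ) ≤ c * (p : ℝ) ^ ((m : ℝ) * r)))
    (σ : ℝ) (hσ : (r : ℝ) < σ) :
    Summable (fun x : X => (Nc X x : ℝ) ^ (-σ)) := by
  have hσ0 : -σ ≠ 0 := by
    have : (0 : ℝ) ≤ (r : ℝ) := Nat.cast_nonneg r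
    intro h
    linarith
  refine ((Equiv.sigmaFiberEquiv (Nc X)).summable_iff
    (f := fun x : X => (Nc X x : ℝ) ^ (-σ))).mp ?_
  have hval : ∀ (n : ℕ) (y : {x : X // Nc X x = n}),
      ((Nc X ((Equiv.sigmaFiberEquiv (Nc X)) ⟨n, y⟩) : ℕ) : ℝ) ^ (-σ) = (n : ℝ) ^ (-σ) := by
    intro n y
    change ((Nc X y.1 : ℕ) : ℝ) ^ (-σ) = _
    rw [y.2]
  refine (summable_sigma_of_nonneg (fun p => Real.rpow_nonneg (Nat.cast_nonneg _) _)).mpr
    ⟨fun n => ?_, ?_⟩
  · rw [summable_congr (hval n)]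
    rcases eq_or_ne n 0 with rfl | hn
    · rw [Nat.cast_zero, Real.zero_rpow hσ0]
      exact summable_zero
    · haveI := (fiber_bound X r c p₀ hc hb σ n hn).1
      exact summable_of_finite_support (Set.toFinite _)
  · have hD : ∀ n : ℕ, ∑' y : {x : X // Nc X x = n},
        ((Nc X ((Equiv.sigmaFiberEquiv (Nc X)) ⟨n, y⟩) : ℕ) : ℝ) ^ (-σ) =
        (Nat.card {x : X // Nc X x = n} : ℝ) * (n : ℝ) ^ (-σ) := by
      intro n
      rw [tsum_congr (hval n), tsum_const, nsmul_eq_mul]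
    rw [summable_congr hD]
    refine Summable.of_nonneg_of_le
      (fun n => mul_nonneg (Nat.cast_nonneg _) (Real.rpow_nonneg (Nat.cast_nonneg _) _))
      (fun n => ?_) (summable_maj c p₀ r σ hσ)
    rcases eq_or_ne n 0 with rfl | hn
    · rw [Nat.cast_zero, Real.zero_rpow hσ0, mul_zero]
      exact maj_nonneg c hc p₀ r σ 0
    · exact (fiber_bound X r c p₀ hc hb σ n hn).2

theorem main {R : Type u} [CommRing R] [Algebra.FiniteType ℤ R] {X : Scheme.{u}}
    (f : X ⟶ Spec (CommRingCat.of R)) [LocallyOfFiniteType f] [QuasiCompact f] (r : ℕ)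
    (hr : topologicalKrullDim X ≤ r) :
    LSeries.abscissaOfAbsConv (Zeta.arithCoeff X) ≤ (r : ℝ) ∧
      ∀ s : ℂ, (r : ℝ) < s.re → LSeries (Zeta.arithCoeff X) s ≠ 0 := by
  obtain ⟨c, p₀, hc, hb⟩ := LeadPtCount.card_points_le_of_finiteType_int f r hr
  have hcongr : ∀ {n : ℕ}, n ≠ 0 → Zeta.arithCoeff X n =
      (fun n => (Nat.card {α : X →₀ ℕ // α.prod (fun x m => Nc X x ^ m) = n} : ℂ)) n :=
    fun {n} hn => by
      unfold Zeta.arithCoeff
      rw [cycleNormCount_eq X n hn]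
  have key : ∀ s : ℂ, (r : ℝ) < s.re →
      LSeriesSummable
        (fun n => (Nat.card {α : X →₀ ℕ // α.prod (fun x m => Nc X x ^ m) = n} : ℂ)) s ∧
      LSeries (fun n => (Nat.card {α : X →₀ ℕ // α.prod (fun x m => Nc X x ^ m) = n} : ℂ)) s
        ≠ 0 := by
    intro s hs
    have hs0 : 0 < s.re := lt_of_le_of_lt (Nat.cast_nonneg r) hs
    exact LeadEuler.lseries_cycleCount (Nc X) (Nc_ne_one X) s hs0
      (summable_Nc_of_bound X r c p₀ hc hb s.re hs)
  constructor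
  · rw [LSeries.abscissaOfAbsConv_congr hcongr]
    refine LSeries.abscissaOfAbsConv_le_of_forall_lt_LSeriesSummable fun y hy => ?_
    exact (key (y : ℂ) (by simpa using hy)).1
  · intro s hs
    rw [LSeries_congr hcongr s]
    exact (key s hs).2

end Groth.Agent.Lib.LeadArithZeta
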