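import Groth.Agent.Lib.Helper12SchDenseExt
import Mathlib.RingTheory.Ideal.AssociatedPrime.Localization
import Mathlib.AlgebraicGeometry.Morphisms.Finite

/-!
Lead library: on a locally Noetherian scheme, an open subset containing all associated points is
schematically dense (`CInt.IsSchematicallyDense`); consequence for morphisms of finite flat schemes.
-/

set_option autoImplicit false
set_option maxHeartbeats 400000
set_option linter.style.haveILetI false
set_option linter.unusedSectionVars false
set_option linter.unusedVariables false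

universe u
open CategoryTheory AlgebraicGeometry TopologicalSpace

namespace Groth.Agent.Lib.LeadAssDense

/-- A section over an affine open of a locally Noetherian scheme whose germs vanish at all points of
an open `U` containing every associated point is zero. -/
theorem eq_zero_of_germ_eq_zero (S : Scheme.{u}) [IsLocallyNoetherian S] (U : S.Opens)
    (hU : ∀ s : S, IsLocalRing.maximalIdeal (S.presheaf.stalk s) ∈
        associatedPrimes (S.presheaf.stalk s) (S.presheaf.stalk s) → s ∈ U)
    (W : S.Opens) (hW : IsAffineOpen W) (s : Γ(S, W))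
    (hs : ∀ (y : S) (hy : y ∈ W), y ∈ U → S.presheaf.germ W y hy s = 0) : s = 0 := by
  by_contra hne
  haveI : IsNoetherianRing Γ(S, W) := IsLocallyNoetherian.component_noetherian ⟨W, hW⟩
  obtain ⟨P, hP, hle⟩ := exists_le_isAssociatedPrime_of_isNoetherianRing Γ(S, W) s hne
  haveI hPp : P.IsPrime := hP.isPrime
  let y : PrimeSpectrum Γ(S, W) := ⟨P, hPp⟩
  have hy : hW.fromSpec y ∈ W := by
    have : hW.fromSpec y ∈ Set.range hW.fromSpec := ⟨y, rfl⟩
    rw [hW.range_fromSpec] at this
    exact this
  letI alg : Algebra Γ(S, W) (S.presheaf.stalk (hW.fromSpec y)) :=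
    TopCat.Presheaf.algebra_section_stalk S.presheaf ⟨hW.fromSpec y, hy⟩
  haveI hloc : IsLocalization.AtPrime (S.presheaf.stalk (hW.fromSpec y)) P :=
    hW.isLocalization_stalk' y hy
  have hass : IsLocalRing.maximalIdeal (S.presheaf.stalk (hW.fromSpec y)) ∈
      associatedPrimes (S.presheaf.stalk (hW.fromSpec y)) (S.presheaf.stalk (hW.fromSpec y)) := by
    apply Module.associatedPrimes.mem_associatedPrimes_of_comap_mem_associatedPrimes_of_isLocalizedModule
      P.primeCompl (Algebra.linearMap Γ(S, W) (S.presheaf.stalk (hW.fromSpec y)))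
    have hc : (IsLocalRing.maximalIdeal (S.presheaf.stalk (hW.fromSpec y))).comap
        (algebraMap Γ(S, W) (S.presheaf.stalk (hW.fromSpec y))) = P :=
      IsLocalization.AtPrime.under_maximalIdeal (S.presheaf.stalk (hW.fromSpec y)) P
    rw [hc]
    exact hP
  have hyU : hW.fromSpec y ∈ U := hU _ hass
  have h0 : algebraMap Γ(S, W) (S.presheaf.stalk (hW.fromSpec y)) s = 0 := hs _ hy hyU
  obtain ⟨t, ht⟩ := (IsLocalization.map_eq_zero_iff P.primeCompl
    (S.presheaf.stalk (hW.fromSpec y)) s).mp h0
  apply t.2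
  apply hle
  rw [Submodule.mem_colon_singleton]
  simpa [smul_eq_mul] using ht

/-- On a locally Noetherian scheme an open subset containing all associated points is schematically
dense. -/
theorem isSchematicallyDense_of_ass (S : Scheme.{u}) [IsLocallyNoetherian S] (U : S.Opens)
    (hU : ∀ s : S, IsLocalRing.maximalIdeal (S.presheaf.stalk s) ∈
        associatedPrimes (S.presheaf.stalk s) (S.presheaf.stalk s) → s ∈ U) :
    CInt.IsSchematicallyDense U := by
  intro V
  rw [injective_iff_map_eq_zero]
  intro s hs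
  apply TopCat.Presheaf.section_ext S.sheaf V
  intro x hx
  change S.presheaf.germ V x hx s = S.presheaf.germ V x hx 0
  rw [map_zero]
  obtain ⟨_, ⟨W, hW, rfl⟩, hxW, hWV⟩ :=
    S.isBasis_affineOpens.exists_subset_of_mem_open hx V.2
  have hWV' : W ≤ V := hWV
  have hz : S.presheaf.map (homOfLE hWV').op s = 0 := by
    apply eq_zero_of_germ_eq_zero S U hU W hW
    intro y hy hyU
    have hyVU : y ∈ V ⊓ U := ⟨hWV' hy, hyU⟩
    rw [TopCat.Presheaf.germ_res_apply]
    have h1 : S.presheaf.germ V y (hWV' hy) s =
        S.presheaf.germ (V ⊓ U) y hyVU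
          (S.presheaf.map (homOfLE (inf_le_left : V ⊓ U ≤ V)).op s) := by
      rw [TopCat.Presheaf.germ_res_apply]
    rw [h1, hs, map_zero]
  have h2 : S.presheaf.germ V x hx s =
      S.presheaf.germ W x hxW (S.presheaf.map (homOfLE hWV').op s) := by
    rw [TopCat.Presheaf.germ_res_apply]
  rw [h2, hz, map_zero]

/-- Two `S`-morphisms between finite flat `S`-schemes (only separatedness of the target and flatness
of the source are used) which agree over an open containing all associated points of the locally
Noetherian base are equal. -/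
theorem hom_ext_of_ass (S G₁ G₂ : Scheme.{u}) [IsLocallyNoetherian S] (f₁ : G₁ ⟶ S) (f₂ : G₂ ⟶ S)
    [Flat f₁] [IsSeparated f₂] (U : S.Opens)
    (hU : ∀ s : S, IsLocalRing.maximalIdeal (S.presheaf.stalk s) ∈
        associatedPrimes (S.presheaf.stalk s) (S.presheaf.stalk s) → s ∈ U)
    (φ ψ : G₁ ⟶ G₂) (hφ : φ ≫ f₂ = f₁) (hψ : ψ ≫ f₂ = f₁)
    (h : (f₁ ⁻¹ᵁ U).ι ≫ φ = (f₁ ⁻¹ᵁ U).ι ≫ ψ) : φ = ψ := by
  have hd : CInt.IsSchematicallyDense U := isSchematicallyDense_of_ass S U hU
  have hd' : CInt.IsSchematicallyDense (f₁ ⁻¹ᵁ U) :=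
    Groth.Agent.Lib.Helper12.SchDense.isSchematicallyDense_preimage_of_flat f₁ U hd
  exact Groth.Agent.Lib.Helper12.SchDense.ext_of_isSchematicallyDense f₂ (hφ.trans hψ.symm)
    (f₁ ⁻¹ᵁ U) hd' h

end Groth.Agent.Lib.LeadAssDense
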