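import Mathlib
import Groth.Agent.Lib.Helper8ExtBC
import Groth.Prelude.Def_GrLC2

/-!
# Bass numbers under flat local base change, part A (lead): the regular-element step

For a `B`-module `T`, a `T`-regular element `x` and a module `Y`: if `x` acts injectively on
all `Ext^i(T, Y)` then `Ext^0(T/xT, Y) = 0` and `Ext^{i+1}(T/xT, Y) ≅ Ext^i(T, Y)/x`.
-/

set_option autoImplicit false
set_option maxHeartbeats 400000
set_option linter.style.haveILetI false
set_option linter.unusedSectionVars false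
set_option linter.unusedVariables false

universe u

namespace Groth.Agent.Lib.LeadBass

open CategoryTheory CategoryTheory.Abelian IsLocalRing TensorProduct
open scoped Pointwise

section step

variable {B : Type u} [CommRing B] (Y : ModuleCat.{u} B) (x : B)

theorem mk₀_smul_id_comp (X : ModuleCat.{u} B) (i : ℕ) (z : Ext.{u} X Y i) :
    (Ext.mk₀ (x • 𝟙 X)).comp z (zero_add i) = x • z := by
  rw [Ext.mk₀_smul, Ext.smul_comp, Ext.mk₀_id_comp]

variable {X X' : ModuleCat.{u} B} (g : X ⟶ X') (zero : (x • 𝟙 X) ≫ g = 0)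
  (hS : (ShortComplex.mk (x • 𝟙 X) g zero).ShortExact)

include hS in
theorem smul_mk₀_comp_eq_zero (i : ℕ) (z : Ext.{u} X' Y i) :
    x • ((Ext.mk₀ g).comp z (zero_add i)) = 0 := by
  rw [← mk₀_smul_id_comp Y x X i, Ext.mk₀_comp_mk₀_assoc, zero, Ext.mk₀_zero, Ext.zero_comp]

include hS in
theorem ext_zero_subsingleton_of_shortExact
    (h0 : IsSMulRegular (Ext.{u} X Y 0) x) : Subsingleton (Ext.{u} X' Y 0) := by
  have key : ∀ z : Ext.{u} X' Y 0, z = 0 := by
    intro z
    have hw : x • ((Ext.mk₀ g).comp z (zero_add 0)) = x • (0 : Ext.{u} X Y 0) := by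
      rw [smul_zero]
      exact smul_mk₀_comp_eq_zero Y x g zero hS 0 z
    have hw' := h0 hw
    haveI : Epi g := hS.epi_g
    apply Ext.precomp_mk₀_injective_of_epi Y g
    rw [map_zero]
    exact hw'
  exact ⟨fun a b => by rw [key a, key b]⟩

include hS in
theorem nonempty_quotSMulTop_ext_equiv_of_shortExact (i : ℕ)
    (h1 : IsSMulRegular (Ext.{u} X Y (i + 1)) x) :
    Nonempty (QuotSMulTop x (Ext.{u} X Y i) ≃ₗ[B] Ext.{u} X' Y (i + 1)) := by
  let δ : Ext.{u} X Y i →ₗ[B] Ext.{u} X' Y (i + 1) :=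
    hS.extClass.precompOfLinear B Y (add_comm 1 i)
  have hδ : ∀ z, δ z = hS.extClass.comp z (add_comm 1 i) := fun z => rfl
  have hsurj : Function.Surjective δ := by
    intro w
    have hw : x • ((Ext.mk₀ g).comp w (zero_add (i + 1))) =
        x • (0 : Ext.{u} X Y (i + 1)) := by
      rw [smul_zero]
      exact smul_mk₀_comp_eq_zero Y x g zero hS (i + 1) w
    have hw' := h1 hw
    obtain ⟨z, hz⟩ := Ext.contravariant_sequence_exact₃ hS Y w hw' (add_comm 1 i)
    exact ⟨z, hz⟩
  have hker : LinearMap.ker δ = x • (⊤ : Submodule B (Ext.{u} X Y i)) := by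
    ext z
    rw [LinearMap.mem_ker, hδ, Submodule.mem_smul_pointwise_iff_exists]
    constructor
    · intro hz
      obtain ⟨z', hz'⟩ := Ext.contravariant_sequence_exact₁ hS Y z (add_comm 1 i) hz
      refine ⟨z', Submodule.mem_top, ?_⟩
      rw [← hz']
      exact (mk₀_smul_id_comp Y x X i z').symm
    · rintro ⟨z', -, rfl⟩
      rw [← mk₀_smul_id_comp Y x X i z']
      exact hS.extClass_comp_assoc z'
  exact ⟨(Submodule.quotEquivOfEq _ _ hker.symm).trans (δ.quotKerEquivOfSurjective hsurj)⟩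

end step

section stepModule

variable {B : Type u} [CommRing B] (T : Type u) [AddCommGroup T] [Module B T]
  (Y : ModuleCat.{u} B) (x : B)

theorem ext_zero_quotSMulTop_subsingleton (hreg : IsSMulRegular T x)
    (h0 : IsSMulRegular (Ext.{u} (ModuleCat.of B T) Y 0) x) :
    Subsingleton (Ext.{u} (ModuleCat.of B (QuotSMulTop x T)) Y 0) := by
  have hS := hreg.smulShortComplex_shortExact (M := ModuleCat.of B T)
  exact ext_zero_subsingleton_of_shortExact Y x ((ModuleCat.of B T).smulShortComplex x).g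
    ((ModuleCat.of B T).smulShortComplex x).zero hS h0

theorem nonempty_quotSMulTop_ext_equiv (hreg : IsSMulRegular T x) (i : ℕ)
    (h1 : IsSMulRegular (Ext.{u} (ModuleCat.of B T) Y (i + 1)) x) :
    Nonempty (QuotSMulTop x (Ext.{u} (ModuleCat.of B T) Y i) ≃ₗ[B]
      Ext.{u} (ModuleCat.of B (QuotSMulTop x T)) Y (i + 1)) := by
  have hS := hreg.smulShortComplex_shortExact (M := ModuleCat.of B T)
  exact nonempty_quotSMulTop_ext_equiv_of_shortExact Y x
    ((ModuleCat.of B T).smulShortComplex x).g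
    ((ModuleCat.of B T).smulShortComplex x).zero hS i h1

end stepModule

section congr

variable {B : Type u} [CommRing B]

/-- `Ext` is invariant under isomorphisms in the first variable. -/
noncomputable def extCongrLeft {X X' : ModuleCat.{u} B} (e : X ≅ X') (Y : ModuleCat.{u} B)
    (i : ℕ) : Ext.{u} X Y i ≃ₗ[B] Ext.{u} X' Y i :=
  LinearEquiv.ofLinearMap ((Ext.mk₀ e.inv).precompOfLinear B Y (zero_add i))
    ((Ext.mk₀ e.hom).precompOfLinear B Y (zero_add i))
    (by
      ext z
      change (Ext.mk₀ e.inv).comp ((Ext.mk₀ e.hom).comp z (zero_add i)) (zero_add i) = z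
      rw [Ext.mk₀_comp_mk₀_assoc, e.inv_hom_id, Ext.mk₀_id_comp])
    (by
      ext z
      change (Ext.mk₀ e.hom).comp ((Ext.mk₀ e.inv).comp z (zero_add i)) (zero_add i) = z
      rw [Ext.mk₀_comp_mk₀_assoc, e.hom_inv_id, Ext.mk₀_id_comp])

/-- `Ext` is invariant under isomorphisms in the second variable. -/
noncomputable def extCongrRight (X : ModuleCat.{u} B) {Y Y' : ModuleCat.{u} B} (e : Y ≅ Y')
    (i : ℕ) : Ext.{u} X Y i ≃ₗ[B] Ext.{u} X Y' i :=
  LinearEquiv.ofLinearMap ((Ext.mk₀ e.hom).postcompOfLinear B X (add_zero i))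
    ((Ext.mk₀ e.inv).postcompOfLinear B X (add_zero i))
    (by
      ext z
      change (z.comp (Ext.mk₀ e.inv) (add_zero i)).comp (Ext.mk₀ e.hom) (add_zero i) = z
      rw [Ext.comp_assoc_of_third_deg_zero, Ext.mk₀_comp_mk₀, e.inv_hom_id, Ext.comp_mk₀_id])
    (by
      ext z
      change (z.comp (Ext.mk₀ e.hom) (add_zero i)).comp (Ext.mk₀ e.inv) (add_zero i) = z
      rw [Ext.comp_assoc_of_third_deg_zero, Ext.mk₀_comp_mk₀, e.hom_inv_id, Ext.comp_mk₀_id])

end congr

section good

variable {B : Type u} [CommRing B] (Y : ModuleCat.{u} B) (V : ℕ → Type u)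
  [∀ i, AddCommGroup (V i)] [∀ i, Module B (V i)] [∀ i, Module.Flat B (V i)]

/-- `Ext^i(T, Y) = 0` for `i < s` and `Ext^{i+s}(T, Y) ≅ V i ⊗ T`. -/
def Good (T : Type u) [AddCommGroup T] [Module B T] (s : ℕ) : Prop :=
  (∀ i, i < s → Subsingleton (Ext.{u} (ModuleCat.of B T) Y i)) ∧
  ∀ i, Nonempty (Ext.{u} (ModuleCat.of B T) Y (i + s) ≃ₗ[B] V i ⊗[B] T)

variable {T T' : Type u} [AddCommGroup T] [Module B T] [AddCommGroup T'] [Module B T']

theorem Good.congr {s : ℕ} (h : Good Y V T s) (e : T ≃ₗ[B] T') : Good Y V T' s := by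
  refine ⟨fun i hi => ?_, fun i => ?_⟩
  · haveI := h.1 i hi
    exact (extCongrLeft e.toModuleIso Y i).symm.toEquiv.subsingleton
  · obtain ⟨f⟩ := h.2 i
    exact ⟨((extCongrLeft e.toModuleIso Y (i + s)).symm.trans f).trans
      (LinearEquiv.lTensor (V i) e)⟩

theorem Good.isSMulRegular_ext {s : ℕ} (h : Good Y V T s) {x : B} (hreg : IsSMulRegular T x)
    (i : ℕ) : IsSMulRegular (Ext.{u} (ModuleCat.of B T) Y i) x := by
  rcases lt_or_ge i s with hi | hi
  · haveI := h.1 i hi
    exact Function.injective_of_subsingleton _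
  · obtain ⟨j, rfl⟩ : ∃ j, i = j + s := ⟨i - s, by omega⟩
    obtain ⟨f⟩ := h.2 j
    exact (f.isSMulRegular_congr x).mpr (hreg.lTensor (V j))

theorem Good.step {s : ℕ} (h : Good Y V T s) {x : B} (hreg : IsSMulRegular T x) :
    Good Y V (QuotSMulTop x T) (s + 1) := by
  refine ⟨fun i hi => ?_, fun i => ?_⟩
  · cases i with
    | zero => exact ext_zero_quotSMulTop_subsingleton T Y x hreg (h.isSMulRegular_ext Y V hreg 0)
    | succ j =>
      obtain ⟨f⟩ := nonempty_quotSMulTop_ext_equiv T Y x hreg j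
        (h.isSMulRegular_ext Y V hreg (j + 1))
      haveI := h.1 j (by omega)
      haveI : Subsingleton (QuotSMulTop x (Ext.{u} (ModuleCat.of B T) Y j)) :=
        (Submodule.mkQ_surjective _).subsingleton
      exact f.symm.toEquiv.subsingleton
  · obtain ⟨f⟩ := nonempty_quotSMulTop_ext_equiv T Y x hreg (i + s)
      (h.isSMulRegular_ext Y V hreg (i + s + 1))
    obtain ⟨g⟩ := h.2 i
    exact ⟨(f.symm.trans (QuotSMulTop.congr x g)).trans
      (QuotSMulTop.tensorQuotSMulTopEquivQuotSMulTop x (V i) T).symm⟩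

theorem Good.iter : ∀ (xs : List B) (T : Type u) [AddCommGroup T] [Module B T] (s : ℕ),
    Good Y V T s → RingTheory.Sequence.IsWeaklyRegular T xs →
      Good Y V (T ⧸ Ideal.ofList xs • (⊤ : Submodule B T)) (s + xs.length) := by
  intro xs
  induction xs with
  | nil =>
    intro T _ _ s h _
    have hbot : Ideal.ofList ([] : List B) • (⊤ : Submodule B T) = ⊥ := by
      rw [Ideal.ofList_nil, Submodule.bot_smul]
    exact h.congr Y V (Submodule.quotEquivOfEqBot _ hbot).symm
  | cons r rs ih =>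
    intro T _ _ s h hw
    obtain ⟨hr, hrs⟩ := (RingTheory.Sequence.isWeaklyRegular_cons_iff T r rs).mp hw
    have h1 := ih (QuotSMulTop r T) (s + 1) (h.step Y V hr) hrs
    have hlen : s + 1 + rs.length = s + (r :: rs).length := by
      rw [List.length_cons]
      omega
    rw [hlen] at h1
    exact h1.congr Y V
      (Submodule.quotOfListConsSMulTopEquivQuotSMulTopInner T r rs).symm

end good

end Groth.Agent.Lib.LeadBass
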