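import Mathlib
import Groth.Agent.Lib.LeadBassA
import Groth.Agent.Lib.Helper5RLR

/-!
# Bass numbers under flat local base change, part B (lead): the local theorem

Let `(A, m, k) → (B, n, l)` be a flat local homomorphism, with `A` Noetherian, and
`xs` a sequence in `B`, regular on `B / mB`, with `n = mB + (xs)`.  Then for every `A`-module `M`:
`μ^i_B(B ⊗ M) = 0` for `i < |xs|` and `μ^{i + |xs|}_B(B ⊗ M) = μ^i_A(M)`.
-/

set_option autoImplicit false
set_option maxHeartbeats 400000
set_option linter.style.haveILetI false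
set_option linter.unusedSectionVars false
set_option linter.unusedVariables false

universe u

namespace Groth.Agent.Lib.LeadBass

open CategoryTheory CategoryTheory.Abelian IsLocalRing TensorProduct
open scoped Pointwise

section residue

variable (A : Type u) [CommRing A] [IsLocalRing A] (M : Type u) [AddCommGroup M] [Module A M]

theorem smul_ext_residueField_eq_zero (i : ℕ) (a : A) (ha : a ∈ maximalIdeal A)
    (z : Ext.{u} (ModuleCat.of A (ResidueField A)) (ModuleCat.of A M) i) : a • z = 0 := by
  rw [← mk₀_smul_id_comp]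
  have h0 : a • 𝟙 (ModuleCat.of A (ResidueField A)) = 0 := by
    ext y
    obtain ⟨b, rfl⟩ := IsLocalRing.residue_surjective y
    change a • IsLocalRing.residue A b = 0
    rw [Algebra.smul_def]
    change IsLocalRing.residue A a * IsLocalRing.residue A b = 0
    rw [(IsLocalRing.residue_eq_zero_iff a).mpr ha, zero_mul]
  rw [h0, Ext.mk₀_zero, Ext.zero_comp]

/-- `Ext^i_A(k, M)` is a direct sum of copies of `k`. -/
theorem exists_ext_residueField_equiv_finsupp (i : ℕ) :
    ∃ ι : Type u, Nonempty (Ext.{u} (ModuleCat.of A (ResidueField A)) (ModuleCat.of A M) i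
      ≃ₗ[A] (ι →₀ ResidueField A)) := by
  have htors : Module.IsTorsionBySet A
      (Ext.{u} (ModuleCat.of A (ResidueField A)) (ModuleCat.of A M) i)
      (maximalIdeal A : Set A) := by
    intro z a
    exact smul_ext_residueField_eq_zero A M i a.1 a.2 z
  letI : Module (ResidueField A)
      (Ext.{u} (ModuleCat.of A (ResidueField A)) (ModuleCat.of A M) i) := htors.module
  haveI : IsScalarTower A (ResidueField A)
      (Ext.{u} (ModuleCat.of A (ResidueField A)) (ModuleCat.of A M) i) := by
    apply IsScalarTower.of_algebraMap_smul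
    intro a z
    rfl
  let b := Module.Free.chooseBasis (ResidueField A)
    (Ext.{u} (ModuleCat.of A (ResidueField A)) (ModuleCat.of A M) i)
  exact ⟨_, ⟨b.repr.restrictScalars A⟩⟩

end residue

section base

variable (A B : Type u) [CommRing A] [CommRing B] [IsLocalRing A] [IsNoetherianRing A]
  [Algebra A B] [Module.Flat A B] (M : Type u) [AddCommGroup M] [Module A M]

theorem exists_good_base : ∃ ι : ℕ → Type u,
    (∀ i, Nonempty (Ext.{u} (ModuleCat.of A (ResidueField A)) (ModuleCat.of A M) i
      ≃ₗ[A] (ι i →₀ ResidueField A))) ∧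
    Good (ModuleCat.of B (B ⊗[A] M)) (fun i => ι i →₀ B) (B ⊗[A] ResidueField A) 0 := by
  classical
  choose ι hι using exists_ext_residueField_equiv_finsupp A M
  refine ⟨ι, hι, fun i hi => absurd hi (Nat.not_lt_zero i), fun i => ?_⟩
  obtain ⟨f⟩ := hι i
  obtain ⟨g⟩ := Groth.Agent.Lib.Helper8.ExtBC.ext_baseChange A B M i (ResidueField A)
  exact ⟨((g.symm.trans (LinearEquiv.baseChange A B _ _ f)).trans
    (TensorProduct.finsuppRight A B B (ResidueField A) (ι i))).trans
    (TensorProduct.finsuppScalarLeft B (B ⊗[A] ResidueField A) (ι i)).symm⟩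

end base

section cyclic

variable {B : Type u} [CommRing B]

/-- `(B/I)/J(B/I) ≅ B/(I + J)` -/
theorem nonempty_quotient_smul_top_equiv (I J : Ideal B) :
    Nonempty (((B ⧸ I) ⧸ J • (⊤ : Submodule B (B ⧸ I))) ≃ₗ[B] (B ⧸ (I ⊔ J))) := by
  have h : J • (⊤ : Submodule B (B ⧸ I)) = Submodule.map (Submodule.mkQ I) J := by
    have hJ : (J : Submodule B B) = J • (⊤ : Submodule B B) := by
      rw [smul_eq_mul, Ideal.mul_top]
    conv_rhs => rw [hJ]
    rw [Submodule.map_smul'', Submodule.map_top, Submodule.range_mkQ]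
  exact ⟨(Submodule.quotEquivOfEq _ _ h).trans
    (Submodule.quotientQuotientEquivQuotientSup I J)⟩

end cyclic

section main

theorem length_residueField (R : Type u) [CommRing R] [IsLocalRing R] :
    Module.length R (ResidueField R) = 1 := by
  rw [Module.length_eq_one_iff]
  change IsSimpleModule R (R ⧸ maximalIdeal R)
  exact isSimpleModule_iff_isCoatom.mpr (Ideal.isMaximal_def.mp inferInstance)

variable (A B : Type u) [CommRing A] [CommRing B] [IsLocalRing A] [IsNoetherianRing A]
  [IsLocalRing B] [Algebra A B] [Module.Flat A B] (M : Type u) [AddCommGroup M] [Module A M]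

/-- **Bass numbers under flat local base change**, regular sequence form. -/
theorem bassNumLocal_baseChange (xs : List B)
    (hreg : RingTheory.Sequence.IsWeaklyRegular
      (B ⧸ (maximalIdeal A).map (algebraMap A B)) xs)
    (hmax : maximalIdeal B = (maximalIdeal A).map (algebraMap A B) ⊔ Ideal.ofList xs) :
    (∀ i, i < xs.length → GrLC.bassNumLocal B (B ⊗[A] M) i = 0) ∧
    ∀ i, GrLC.bassNumLocal B (B ⊗[A] M) (i + xs.length) = GrLC.bassNumLocal A M i := by
  classical
  obtain ⟨ι, hι, hgood⟩ := exists_good_base A B M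
  let e₁ : (B ⧸ (maximalIdeal A).map (algebraMap A B)) ≃ₗ[B] B ⊗[A] ResidueField A :=
    (Algebra.TensorProduct.quotIdealMapEquivTensorQuot B (maximalIdeal A)).toLinearEquiv
  have hreg' : RingTheory.Sequence.IsWeaklyRegular (B ⊗[A] ResidueField A) xs :=
    (e₁.isWeaklyRegular_congr xs).mp hreg
  have h1 := hgood.iter _ _ xs _ 0 hreg'
  have e₂ : ((B ⊗[A] ResidueField A) ⧸
      Ideal.ofList xs • (⊤ : Submodule B (B ⊗[A] ResidueField A))) ≃ₗ[B]
      ((B ⧸ (maximalIdeal A).map (algebraMap A B)) ⧸ Ideal.ofList xs •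
        (⊤ : Submodule B (B ⧸ (maximalIdeal A).map (algebraMap A B)))) :=
    Submodule.Quotient.equiv _ _ e₁.symm
      (by rw [Submodule.map_smul'', Submodule.map_top, LinearEquiv.range])
  obtain ⟨e₃⟩ := nonempty_quotient_smul_top_equiv
    ((maximalIdeal A).map (algebraMap A B)) (Ideal.ofList xs)
  have e₄ : (B ⧸ ((maximalIdeal A).map (algebraMap A B) ⊔ Ideal.ofList xs)) ≃ₗ[B]
      ResidueField B := Submodule.quotEquivOfEq _ _ hmax.symm
  have h2 := h1.congr _ _ (e₂.trans (e₃.trans e₄))
  rw [zero_add] at h2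
  constructor
  · intro i hi
    haveI := h2.1 i hi
    unfold GrLC.bassNumLocal
    exact Module.length_eq_zero
  · intro i
    obtain ⟨f⟩ := h2.2 i
    obtain ⟨g⟩ := hι i
    have hf : Module.length B (Ext.{u} (ModuleCat.of B (ResidueField B))
        (ModuleCat.of B (B ⊗[A] M)) (i + xs.length)) =
        Module.length B ((ι i →₀ B) ⊗[B] ResidueField B) :=
      LinearEquiv.length_eq (N := (ι i →₀ B) ⊗[B] ResidueField B) f
    have hf2 : Module.length B ((ι i →₀ B) ⊗[B] ResidueField B) =
        Module.length B (ι i →₀ ResidueField B) :=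
      LinearEquiv.length_eq (M := (ι i →₀ B) ⊗[B] ResidueField B)
        (TensorProduct.finsuppScalarLeft B (ResidueField B) (ι i))
    unfold GrLC.bassNumLocal
    rw [hf, hf2, g.length_eq, Module.length_finsupp, Module.length_finsupp,
      length_residueField B, length_residueField A]

end main

section regfibre

theorem exists_fin_span_eq_maximalIdeal (F : Type u) [CommRing F] [IsRegularLocalRing F] (d : ℕ)
    (hd : ringKrullDim F = d) : ∃ x : Fin d → F, Ideal.span (Set.range x) = maximalIdeal F := by
  classical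
  have hreg : ((maximalIdeal F).spanFinrank : WithBot ℕ∞) = ringKrullDim F :=
    IsRegularLocalRing.spanFinrank_maximalIdeal
  rw [hd] at hreg
  have hreg' : (maximalIdeal F).spanFinrank = d := by exact_mod_cast hreg
  have hfg : (maximalIdeal F).FG := (isNoetherianRing_iff_ideal_fg F).mp inferInstance _
  obtain ⟨s, hcard, hspan⟩ := Submodule.FG.exists_span_finset_card_eq_spanFinrank hfg
  have hsd : s.card = d := hcard.trans hreg'
  refine ⟨fun i => (s.equivFin.symm (Fin.cast hsd.symm i)).1, ?_⟩
  have hrange : Set.range (fun i : Fin d => ((s.equivFin.symm (Fin.cast hsd.symm i)).1 : F)) =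
      (s : Set F) := by
    ext a
    constructor
    · rintro ⟨i, rfl⟩
      exact (s.equivFin.symm (Fin.cast hsd.symm i)).2
    · intro ha
      refine ⟨Fin.cast hsd (s.equivFin ⟨a, ha⟩), ?_⟩
      simp
  rw [hrange]
  exact hspan

variable (A B : Type u) [CommRing A] [CommRing B] [IsLocalRing A] [IsLocalRing B] [Algebra A B]

theorem exists_list_of_isRegularLocalRing_fibre
    [IsRegularLocalRing (B ⧸ (maximalIdeal A).map (algebraMap A B))] (δ : ℕ)
    (hδ : ringKrullDim (B ⧸ (maximalIdeal A).map (algebraMap A B)) = δ) :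
    ∃ xs : List B, xs.length = δ ∧
      RingTheory.Sequence.IsWeaklyRegular (B ⧸ (maximalIdeal A).map (algebraMap A B)) xs ∧
      maximalIdeal B = (maximalIdeal A).map (algebraMap A B) ⊔ Ideal.ofList xs := by
  obtain ⟨y, hy⟩ := exists_fin_span_eq_maximalIdeal
    (B ⧸ (maximalIdeal A).map (algebraMap A B)) δ hδ
  have hregF := Groth.Agent.Lib.Helper5.isRegular_ofFn_of_span_eq_maximalIdeal hδ y hy
  choose x hx using fun i => Ideal.Quotient.mk_surjective (y i)
  have hofList : ∀ (R : Type u) [CommRing R] (n : ℕ) (z : Fin n → R),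
      Ideal.ofList (List.ofFn z) = Ideal.span (Set.range z) := by
    intro R _ n z
    rw [Ideal.ofList]
    congr 1
    ext a
    exact List.mem_ofFn' z a
  refine ⟨List.ofFn x, List.length_ofFn, ?_, ?_⟩
  · have h1 : (List.ofFn x).map
        (algebraMap B (B ⧸ (maximalIdeal A).map (algebraMap A B))) = List.ofFn y := by
      rw [List.map_ofFn]
      congr 1
      funext i
      exact hx i
    rw [← RingTheory.Sequence.isWeaklyRegular_map_algebraMap_iff
      (B ⧸ (maximalIdeal A).map (algebraMap A B))
      (B ⧸ (maximalIdeal A).map (algebraMap A B)) (List.ofFn x), h1]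
    exact hregF.toIsWeaklyRegular
  · have hmaxF : (maximalIdeal (B ⧸ (maximalIdeal A).map (algebraMap A B))).comap
        (Ideal.Quotient.mk ((maximalIdeal A).map (algebraMap A B))) = maximalIdeal B := by
      haveI := Ideal.comap_isMaximal_of_surjective
        (Ideal.Quotient.mk ((maximalIdeal A).map (algebraMap A B)))
        Ideal.Quotient.mk_surjective
        (K := maximalIdeal (B ⧸ (maximalIdeal A).map (algebraMap A B)))
      exact IsLocalRing.eq_maximalIdeal this
    have hmap : (Ideal.span (Set.range x)).map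
        (Ideal.Quotient.mk ((maximalIdeal A).map (algebraMap A B))) =
        Ideal.span (Set.range y) := by
      rw [Ideal.map_span]
      congr 1
      ext a
      constructor
      · rintro ⟨_, ⟨i, rfl⟩, rfl⟩
        exact ⟨i, (hx i).symm⟩
      · rintro ⟨i, rfl⟩
        exact ⟨x i, ⟨i, rfl⟩, hx i⟩
    rw [← hmaxF, ← hy, ← hmap,
      Ideal.comap_map_of_surjective _ Ideal.Quotient.mk_surjective, ← RingHom.ker_eq_comap_bot,
      Ideal.mk_ker, hofList, sup_comm]

variable [IsNoetherianRing A] [Module.Flat A B] (M : Type u) [AddCommGroup M] [Module A M]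

/-- **Bass numbers under flat local base change**, regular closed fibre of dimension `δ`. -/
theorem bassNumLocal_baseChange_of_isRegularLocalRing_fibre
    [IsRegularLocalRing (B ⧸ (maximalIdeal A).map (algebraMap A B))] (δ : ℕ)
    (hδ : ringKrullDim (B ⧸ (maximalIdeal A).map (algebraMap A B)) = δ) :
    (∀ i, i < δ → GrLC.bassNumLocal B (B ⊗[A] M) i = 0) ∧
    ∀ i, GrLC.bassNumLocal B (B ⊗[A] M) (i + δ) = GrLC.bassNumLocal A M i := by
  obtain ⟨xs, hlen, hreg, hmax⟩ := exists_list_of_isRegularLocalRing_fibre A B δ hδ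
  have h := bassNumLocal_baseChange A B M xs hreg hmax
  rw [hlen] at h
  exact h

end regfibre

end Groth.Agent.Lib.LeadBass
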