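import Mathlib
import Groth.Agent.Lib.LeadBassB
import Groth.Prelude.Def_EGA4b

/-!
# Bass numbers under flat base change, part C (lead): the global theorem

For a flat homomorphism `R → S` with `R` Noetherian, a prime `Q` of `S` over `q` whose fibre local
ring `S_Q / q S_Q` is regular of dimension `δ`, and any `R`-module `M`:
`μ^i(Q, S ⊗ M) = 0` for `i < δ` and `μ^{i+δ}(Q, S ⊗ M) = μ^i(q, M)`.
-/

set_option autoImplicit false
set_option maxHeartbeats 800000
set_option linter.style.haveILetI false
set_option linter.unusedSectionVars false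
set_option linter.unusedVariables false

universe u

namespace Groth.Agent.Lib.LeadBass

open CategoryTheory CategoryTheory.Abelian IsLocalRing TensorProduct
open scoped Pointwise

section congr

theorem bassNumLocal_congr (R : Type u) [CommRing R] [IsLocalRing R] {N N' : Type u}
    [AddCommGroup N] [Module R N] [AddCommGroup N'] [Module R N'] (e : N ≃ₗ[R] N') (i : ℕ) :
    GrLC.bassNumLocal R N i = GrLC.bassNumLocal R N' i :=
  (extCongrRight _ e.toModuleIso i).length_eq

theorem bassNum_congr {R : Type u} [CommRing R] (p : Ideal R) [p.IsPrime] {N N' : Type u}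
    [AddCommGroup N] [Module R N] [AddCommGroup N'] [Module R N'] (e : N ≃ₗ[R] N') (i : ℕ) :
    GrLC.bassNum p N i = GrLC.bassNum p N' i := by
  unfold GrLC.bassNum
  exact bassNumLocal_congr _
    ((IsLocalizedModule.mapEquiv p.primeCompl (LocalizedModule.mkLinearMap p.primeCompl N)
      (LocalizedModule.mkLinearMap p.primeCompl N') (Localization.AtPrime p) e)) i

end congr

section global

variable {R S : Type u} [CommRing R] [CommRing S] [IsNoetherianRing R] [Algebra R S]
  [Module.Flat R S]

theorem bassNum_baseChange (Q : Ideal S) [Q.IsPrime] (q : Ideal R) [q.IsPrime]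
    (hq : q = Q.comap (algebraMap R S))
    [hF : IsRegularLocalRing (EGA4.FibLocRing R S Q)] (δ : ℕ)
    (hδ : ringKrullDim (EGA4.FibLocRing R S Q) = δ)
    (M : Type u) [AddCommGroup M] [Module R M] :
    (∀ i, i < δ → GrLC.bassNum Q (S ⊗[R] M) i = 0) ∧
      ∀ i, GrLC.bassNum Q (S ⊗[R] M) (i + δ) = GrLC.bassNum q M i := by
  subst hq
  haveI hlies : Q.LiesOver (Q.comap (algebraMap R S)) := ⟨rfl⟩
  letI alg : Algebra (Localization.AtPrime (Q.comap (algebraMap R S))) (Localization.AtPrime Q) :=
    Localization.AtPrime.algebraOfLiesOver (Q.comap (algebraMap R S)) Q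
  haveI hflatS : Module.Flat S (Localization.AtPrime Q) := IsLocalization.flat _ Q.primeCompl
  haveI hflatR : Module.Flat R (Localization.AtPrime Q) := Module.Flat.trans R S _
  haveI hflat : Module.Flat (Localization.AtPrime (Q.comap (algebraMap R S)))
      (Localization.AtPrime Q) :=
    (Module.flat_iff_of_isLocalization (Localization.AtPrime (Q.comap (algebraMap R S)))
      (Q.comap (algebraMap R S)).primeCompl _).mpr hflatR
  haveI : IsNoetherianRing (Localization.AtPrime (Q.comap (algebraMap R S))) :=
    IsLocalization.isNoetherianRing (Q.comap (algebraMap R S)).primeCompl _ inferInstance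
  have hmapeq : (Q.comap (algebraMap R S)).map (algebraMap R (Localization.AtPrime Q)) =
      (IsLocalRing.maximalIdeal (Localization.AtPrime (Q.comap (algebraMap R S)))).map
        (algebraMap (Localization.AtPrime (Q.comap (algebraMap R S)))
          (Localization.AtPrime Q)) := by
    rw [← IsLocalization.AtPrime.map_eq_maximalIdeal (Q.comap (algebraMap R S))
      (Localization.AtPrime (Q.comap (algebraMap R S))), Ideal.map_map,
      ← IsScalarTower.algebraMap_eq]
  -- the identification of the localized base change
  let e1 : (Localization.AtPrime (Q.comap (algebraMap R S))) ⊗[R] M ≃ₗ[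
      Localization.AtPrime (Q.comap (algebraMap R S))]
      LocalizedModule (Q.comap (algebraMap R S)).primeCompl M :=
    (IsLocalizedModule.isBaseChange (Q.comap (algebraMap R S)).primeCompl
      (Localization.AtPrime (Q.comap (algebraMap R S)))
      (LocalizedModule.mkLinearMap (Q.comap (algebraMap R S)).primeCompl M)).equiv
  let e2 : (Localization.AtPrime Q) ⊗[Localization.AtPrime (Q.comap (algebraMap R S))]
        (LocalizedModule (Q.comap (algebraMap R S)).primeCompl M) ≃ₗ[Localization.AtPrime Q]
      (Localization.AtPrime Q) ⊗[Localization.AtPrime (Q.comap (algebraMap R S))]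
        ((Localization.AtPrime (Q.comap (algebraMap R S))) ⊗[R] M) :=
    TensorProduct.AlgebraTensorModule.congr
      (LinearEquiv.refl (Localization.AtPrime Q) (Localization.AtPrime Q)) e1.symm
  let e3 : (Localization.AtPrime Q) ⊗[Localization.AtPrime (Q.comap (algebraMap R S))]
        ((Localization.AtPrime (Q.comap (algebraMap R S))) ⊗[R] M) ≃ₗ[Localization.AtPrime Q]
      (Localization.AtPrime Q) ⊗[R] M :=
    TensorProduct.AlgebraTensorModule.cancelBaseChange R
      (Localization.AtPrime (Q.comap (algebraMap R S))) (Localization.AtPrime Q)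
      (Localization.AtPrime Q) M
  let e4 : (Localization.AtPrime Q) ⊗[S] (S ⊗[R] M) ≃ₗ[Localization.AtPrime Q]
      (Localization.AtPrime Q) ⊗[R] M :=
    TensorProduct.AlgebraTensorModule.cancelBaseChange R S (Localization.AtPrime Q)
      (Localization.AtPrime Q) M
  let e5 : (Localization.AtPrime Q) ⊗[S] (S ⊗[R] M) ≃ₗ[Localization.AtPrime Q]
      LocalizedModule Q.primeCompl (S ⊗[R] M) :=
    (IsLocalizedModule.isBaseChange Q.primeCompl (Localization.AtPrime Q)
      (LocalizedModule.mkLinearMap Q.primeCompl (S ⊗[R] M))).equiv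
  let E : (Localization.AtPrime Q) ⊗[Localization.AtPrime (Q.comap (algebraMap R S))]
        (LocalizedModule (Q.comap (algebraMap R S)).primeCompl M) ≃ₗ[Localization.AtPrime Q]
      LocalizedModule Q.primeCompl (S ⊗[R] M) :=
    e2 ≪≫ₗ e3 ≪≫ₗ e4.symm ≪≫ₗ e5
  -- the fibre
  let eF : EGA4.FibLocRing R S Q ≃+* (Localization.AtPrime Q ⧸
      (IsLocalRing.maximalIdeal (Localization.AtPrime (Q.comap (algebraMap R S)))).map
        (algebraMap (Localization.AtPrime (Q.comap (algebraMap R S)))
          (Localization.AtPrime Q))) := Ideal.quotEquivOfEq hmapeq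
  haveI : IsRegularLocalRing (Localization.AtPrime Q ⧸
      (IsLocalRing.maximalIdeal (Localization.AtPrime (Q.comap (algebraMap R S)))).map
        (algebraMap (Localization.AtPrime (Q.comap (algebraMap R S)))
          (Localization.AtPrime Q))) := IsRegularLocalRing.of_ringEquiv eF
  have hδ' : ringKrullDim (Localization.AtPrime Q ⧸
      (IsLocalRing.maximalIdeal (Localization.AtPrime (Q.comap (algebraMap R S)))).map
        (algebraMap (Localization.AtPrime (Q.comap (algebraMap R S)))
          (Localization.AtPrime Q))) = δ := by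
    rw [← hδ]
    exact (ringKrullDim_eq_of_ringEquiv eF).symm
  obtain ⟨h1, h2⟩ := bassNumLocal_baseChange_of_isRegularLocalRing_fibre
    (Localization.AtPrime (Q.comap (algebraMap R S))) (Localization.AtPrime Q)
    (LocalizedModule (Q.comap (algebraMap R S)).primeCompl M) δ hδ'
  constructor
  · intro i hi
    unfold GrLC.bassNum
    rw [← bassNumLocal_congr _ E i]
    exact h1 i hi
  · intro i
    unfold GrLC.bassNum
    rw [← bassNumLocal_congr _ E (i + δ)]
    exact h2 i

end global

end Groth.Agent.Lib.LeadBass
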