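import Mathlib
import Groth.Agent.Lib.LeadBassC

/-!
# Bass numbers, part D (lead): transport along ring isomorphisms

* `bassNumLocal_of_bijective`: restriction of scalars along a bijective ring map preserves the
  Bass numbers.
* `bassNum_transport_aux`: the Bass numbers at a prime can be computed with any model of the
  localization.
* `bassNum_semilinear_transport`: Bass numbers are transported along a ring isomorphism and a
  semilinear isomorphism of modules.
-/

set_option autoImplicit false
set_option maxHeartbeats 800000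
set_option linter.style.haveILetI false
set_option linter.unusedSectionVars false
set_option linter.unusedVariables false

universe u

namespace Groth.Agent.Lib.LeadBass

open CategoryTheory CategoryTheory.Abelian IsLocalRing TensorProduct
open scoped Pointwise

section field_fibre

variable (A B : Type u) [CommRing A] [CommRing B] [IsLocalRing A] [IsNoetherianRing A]
  [IsLocalRing B] [Algebra A B] [Module.Flat A B] (M : Type u) [AddCommGroup M] [Module A M]

/-- flat local base change with closed fibre a field -/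
theorem bassNumLocal_baseChange_of_map_eq
    (hmax : maximalIdeal B = (maximalIdeal A).map (algebraMap A B)) (i : ℕ) :
    GrLC.bassNumLocal B (B ⊗[A] M) i = GrLC.bassNumLocal A M i := by
  have h := (bassNumLocal_baseChange A B M []
    (RingTheory.Sequence.IsWeaklyRegular.nil B _)
    (by rw [Ideal.ofList_nil, sup_bot_eq]; exact hmax)).2 i
  exact h

end field_fibre

section bijective

variable (C1 C2 : Type u) [CommRing C1] [CommRing C2] [IsLocalRing C1] [IsNoetherianRing C1]
  [IsLocalRing C2] [Algebra C1 C2] (hbij : Function.Bijective (algebraMap C1 C2))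
  (X : Type u) [AddCommGroup X] [Module C1 X] [Module C2 X] [IsScalarTower C1 C2 X]

include hbij in
theorem nonempty_tensor_equiv_of_bijective : Nonempty ((C2 ⊗[C1] X) ≃ₗ[C2] X) := by
  let φ : C2 ⊗[C1] X →ₗ[C2] X := LinearMap.liftBaseChange C2 (LinearMap.id : X →ₗ[C1] X)
  have hφ : ∀ (c : C2) (x : X), φ (c ⊗ₜ x) = c • x := fun c x => by
    rw [LinearMap.liftBaseChange_tmul, LinearMap.id_apply]
  have hone : ∀ t : C2 ⊗[C1] X, t = 1 ⊗ₜ[C1] φ t := by
    intro t
    induction t using TensorProduct.induction_on with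
    | zero => rw [map_zero, TensorProduct.tmul_zero]
    | tmul c x =>
      obtain ⟨c1, rfl⟩ := hbij.2 c
      rw [hφ, algebraMap_smul, Algebra.algebraMap_eq_smul_one, TensorProduct.smul_tmul]
    | add a b ha hb =>
      rw [map_add, TensorProduct.tmul_add, ← ha, ← hb]
  refine ⟨LinearEquiv.ofBijective φ ⟨?_, ?_⟩⟩
  · intro a b hab
    rw [hone a, hone b, hab]
  · intro x
    exact ⟨1 ⊗ₜ x, by rw [hφ, one_smul]⟩

include hbij in
theorem bassNumLocal_of_bijective (i : ℕ) :
    GrLC.bassNumLocal C2 X i = GrLC.bassNumLocal C1 X i := by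
  haveI : Module.Flat C1 C2 :=
    Module.Flat.of_linearEquiv (LinearEquiv.ofBijective (Algebra.linearMap C1 C2) hbij).symm
  let e : C1 ≃+* C2 := RingEquiv.ofBijective (algebraMap C1 C2) hbij
  have hmax : maximalIdeal C2 = (maximalIdeal C1).map (algebraMap C1 C2) := by
    have h1 : (maximalIdeal C1).map (algebraMap C1 C2) =
        (maximalIdeal C1).comap (e.symm : C2 →+* C1) := Ideal.map_comap_of_equiv e
    rw [h1]
    haveI := Ideal.comap_isMaximal_of_surjective (e.symm : C2 →+* C1) e.symm.surjective
      (K := maximalIdeal C1)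
    exact (IsLocalRing.eq_maximalIdeal this).symm
  obtain ⟨f⟩ := nonempty_tensor_equiv_of_bijective C1 C2 hbij X
  rw [← bassNumLocal_baseChange_of_map_eq C1 C2 X hmax i]
  exact (bassNumLocal_congr C2 f i).symm

end bijective

section transport

theorem bassNum_transport_aux {B : Type u} [CommRing B] [IsNoetherianRing B] (q : Ideal B)
    [q.IsPrime] (N : Type u) [AddCommGroup N] [Module B N]
    (C2 : Type u) [CommRing C2] [Algebra B C2] [IsLocalization.AtPrime C2 q] [IsLocalRing C2]
    (X2 : Type u) [AddCommGroup X2] [Module B X2] [Module C2 X2] [IsScalarTower B C2 X2]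
    (f2 : N →ₗ[B] X2) [IsLocalizedModule q.primeCompl f2] (i : ℕ) :
    GrLC.bassNumLocal C2 X2 i = GrLC.bassNum q N i := by
  haveI hNC1 : IsNoetherianRing (Localization.AtPrime q) :=
    IsLocalization.isNoetherianRing q.primeCompl _ inferInstance
  let e : Localization.AtPrime q ≃ₐ[B] C2 :=
    IsLocalization.algEquiv q.primeCompl (Localization.AtPrime q) C2
  letI algC : Algebra (Localization.AtPrime q) C2 := e.toRingEquiv.toRingHom.toAlgebra
  have hbij : Function.Bijective (algebraMap (Localization.AtPrime q) C2) :=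
    e.toRingEquiv.bijective
  haveI tBC1C2 : IsScalarTower B (Localization.AtPrime q) C2 :=
    IsScalarTower.of_algebraMap_eq fun b => (e.commutes b).symm
  letI modC1 : Module (Localization.AtPrime q) X2 :=
    Module.compHom X2 (algebraMap (Localization.AtPrime q) C2)
  haveI tC1C2N2 : IsScalarTower (Localization.AtPrime q) C2 X2 :=
    ⟨fun c1 c n => by
      change (c1 • c) • n = algebraMap (Localization.AtPrime q) C2 c1 • (c • n)
      rw [Algebra.smul_def, mul_smul]⟩
  haveI tBC1N2 : IsScalarTower B (Localization.AtPrime q) X2 :=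
    IsScalarTower.of_algebraMap_smul fun b n => by
      change algebraMap (Localization.AtPrime q) C2 (algebraMap B (Localization.AtPrime q) b) • n =
        b • n
      rw [← IsScalarTower.algebraMap_apply B (Localization.AtPrime q) C2, algebraMap_smul]
  let g := IsLocalizedModule.linearEquiv q.primeCompl
    (LocalizedModule.mkLinearMap q.primeCompl N) f2
  let gC := g.extendScalarsOfIsLocalization q.primeCompl (Localization.AtPrime q)
  rw [bassNumLocal_of_bijective (Localization.AtPrime q) C2 hbij X2 i]
  unfold GrLC.bassNum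
  exact (bassNumLocal_congr _ gC i).symm

theorem bassNum_semilinear_transport {B B' : Type u} [CommRing B] [CommRing B']
    [IsNoetherianRing B]
    (σ : B ≃+* B') {N N' : Type u} [AddCommGroup N] [Module B N]
    [AddCommGroup N'] [Module B' N'] (g : N ≃+ N')
    (hg : ∀ (b : B) (n : N), g (b • n) = σ b • g n)
    (𝔮 : Ideal B') [𝔮.IsPrime] (𝔮₀ : Ideal B) [𝔮₀.IsPrime]
    (h𝔮 : 𝔮₀ = 𝔮.comap (σ : B →+* B')) (i : ℕ) :
    GrLC.bassNum 𝔮₀ N i = GrLC.bassNum 𝔮 N' i := by
  subst h𝔮
  have hmem : ∀ c : B', c ∈ 𝔮.primeCompl → σ.symm c ∈ (𝔮.comap (σ : B →+* B')).primeCompl := by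
    intro c hc h
    apply hc
    have h' : σ (σ.symm c) ∈ 𝔮 := h
    rwa [σ.apply_symm_apply] at h'
  have hmem' : ∀ c : B, c ∈ (𝔮.comap (σ : B →+* B')).primeCompl → σ c ∈ 𝔮.primeCompl :=
    fun c hc h => hc h
  letI algB : Algebra B (Localization.AtPrime 𝔮) :=
    ((algebraMap B' (Localization.AtPrime 𝔮)).comp (σ : B →+* B')).toAlgebra
  have halg : ∀ b : B, algebraMap B (Localization.AtPrime 𝔮) b =
      algebraMap B' (Localization.AtPrime 𝔮) (σ b) := fun b => rfl
  haveI hlocz : IsLocalization.AtPrime (Localization.AtPrime 𝔮) (𝔮.comap (σ : B →+* B')) := by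
    change IsLocalization _ _
    rw [isLocalization_iff]
    refine ⟨?_, ?_, ?_⟩
    · rintro ⟨y, hy⟩
      rw [halg]
      exact IsLocalization.map_units (M := 𝔮.primeCompl) _ ⟨σ y, hmem' y hy⟩
    · intro z
      obtain ⟨⟨x, s⟩, hxs⟩ := IsLocalization.surj 𝔮.primeCompl z
      refine ⟨⟨σ.symm x, ⟨σ.symm s, hmem s s.2⟩⟩, ?_⟩
      rw [halg, halg]
      simp only [RingEquiv.apply_symm_apply]
      exact hxs
    · intro x y hxy
      rw [halg, halg] at hxy
      obtain ⟨c, hc⟩ := IsLocalization.exists_of_eq (M := 𝔮.primeCompl) hxy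
      refine ⟨⟨σ.symm c, hmem c c.2⟩, ?_⟩
      apply σ.injective
      rw [map_mul, map_mul]
      simp only [RingEquiv.apply_symm_apply]
      exact hc
  letI modB : Module B (LocalizedModule 𝔮.primeCompl N') :=
    Module.compHom (LocalizedModule 𝔮.primeCompl N') (algebraMap B (Localization.AtPrime 𝔮))
  have hsm : ∀ (b : B) (y : LocalizedModule 𝔮.primeCompl N'), b • y = σ b • y := by
    intro b y
    change algebraMap B' (Localization.AtPrime 𝔮) (σ b) • y = σ b • y
    rw [algebraMap_smul]
  haveI tower : IsScalarTower B (Localization.AtPrime 𝔮) (LocalizedModule 𝔮.primeCompl N') :=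
    ⟨fun b c n => by
      change (b • c) • n = algebraMap B (Localization.AtPrime 𝔮) b • (c • n)
      rw [Algebra.smul_def, mul_smul]⟩
  let f2 : N →ₗ[B] LocalizedModule 𝔮.primeCompl N' :=
    { toFun := fun n => LocalizedModule.mkLinearMap 𝔮.primeCompl N' (g n)
      map_add' := fun a b => by rw [map_add, map_add]
      map_smul' := fun b n => by
        rw [hg, map_smul, RingHom.id_apply, hsm] }
  have hf2 : ∀ n, f2 n = LocalizedModule.mkLinearMap 𝔮.primeCompl N' (g n) := fun n => rfl
  haveI hlm : IsLocalizedModule (𝔮.comap (σ : B →+* B')).primeCompl f2 := by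
    refine ⟨?_, ?_, ?_⟩
    · rintro ⟨x, hx⟩
      rw [Module.End.isUnit_iff]
      have hu := (Module.End.isUnit_iff _).mp
        (IsLocalizedModule.map_units (LocalizedModule.mkLinearMap 𝔮.primeCompl N')
          (⟨σ x, hmem' x hx⟩ : 𝔮.primeCompl))
      have heq : ⇑(algebraMap B (Module.End B (LocalizedModule 𝔮.primeCompl N')) x) =
          ⇑(algebraMap B' (Module.End B' (LocalizedModule 𝔮.primeCompl N')) (σ x)) := by
        funext y
        rw [Module.algebraMap_end_apply, Module.algebraMap_end_apply, hsm]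
      change Function.Bijective ⇑(algebraMap B (Module.End B (LocalizedModule 𝔮.primeCompl N')) x)
      rw [heq]
      exact hu
    · intro y
      obtain ⟨⟨n', s'⟩, hns⟩ := IsLocalizedModule.surj 𝔮.primeCompl
        (LocalizedModule.mkLinearMap 𝔮.primeCompl N') y
      refine ⟨⟨g.symm n', ⟨σ.symm s', hmem s' s'.2⟩⟩, ?_⟩
      change σ.symm (s' : B') • y = f2 (g.symm n')
      rw [hf2, hsm, AddEquiv.apply_symm_apply, RingEquiv.apply_symm_apply]
      exact hns
    · intro x₁ x₂ h
      rw [hf2, hf2] at h
      obtain ⟨c, hc⟩ := IsLocalizedModule.exists_of_eq (S := 𝔮.primeCompl) h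
      refine ⟨⟨σ.symm c, hmem c c.2⟩, ?_⟩
      apply g.injective
      change g (σ.symm (c : B') • x₁) = g (σ.symm (c : B') • x₂)
      rw [hg, hg, RingEquiv.apply_symm_apply]
      exact hc
  exact (bassNum_transport_aux (𝔮.comap (σ : B →+* B')) N
    (Localization.AtPrime 𝔮) (LocalizedModule 𝔮.primeCompl N') f2 i).symm

end transport

end Groth.Agent.Lib.LeadBass
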