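import Mathlib
import Groth.Agent.Lib.LeadBassD
import Groth.Agent.Lib.Helper5GrLoc
import Groth.Agent.Lib.Helper19GRLoc

/-!
# Bass numbers of graded modules at a prime and at its homogeneous core (lead)

`μ^i(p, M) = 0` for `i < d` and `μ^{i+d}(p, M) = μ^i(p*, M)`, `d = ht (p/p*)`, for a graded module
`M` over a Noetherian ring graded by a finitely generated free abelian group.
-/

set_option autoImplicit false
set_option maxHeartbeats 800000
set_option linter.style.haveILetI false
set_option linter.unusedSectionVars false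
set_option linter.unusedVariables false

universe u

namespace Groth.Agent.Lib.LeadBass

open Groth.Agent.Lib.Helper28 Groth.Agent.Lib.Helper5 Groth.Agent.Lib.Helper5.GenDepth
  Groth.Agent.Lib.Helper5.FBC Groth.Agent.Lib.Helper5.Coact
  Groth.Agent.Lib.Helper5.TensorFieldsCM Groth.Agent.Lib.Helper5.GrLoc TensorProduct

section LaurentReg

theorem regular_addMonoidAlgebra_fin (n : ℕ) :
    ∀ (A : Type u) [CommRing A] [IsRegularRing A],
      IsRegularRing (AddMonoidAlgebra A (Fin n → ℤ)) := by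
  induction n with
  | zero =>
    intro A _ _
    exact IsRegularRing.of_ringEquiv
      (AddMonoidAlgebra.uniqueRingEquiv (R := A) (Fin 0 → ℤ)).symm
  | succ n ih =>
    intro A _ _
    haveI := ih A
    haveI hpoly : IsRegularRing
        (Polynomial (AddMonoidAlgebra A (Fin n → ℤ))) := inferInstance
    haveI hlaur : IsRegularRing
        (LaurentPolynomial (AddMonoidAlgebra A (Fin n → ℤ))) :=
      Groth.Agent.Lib.Helper19.GR.isRegularRing_of_isLocalization
        (Submonoid.powers (Polynomial.X : Polynomial (AddMonoidAlgebra A (Fin n → ℤ))))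
    exact IsRegularRing.of_ringEquiv
      ((AddMonoidAlgebra.domCongr A A (finSuccAddEquiv n)).toRingEquiv.trans
        AddMonoidAlgebra.curryRingEquiv).symm

theorem regular_addMonoidAlgebra (ι : Type) [AddCommGroup ι] [Module.Free ℤ ι]
    [Module.Finite ℤ ι] (A : Type u) [CommRing A] [IsRegularRing A] :
    IsRegularRing (AddMonoidAlgebra A ι) := by
  let e : ι ≃+ (Fin (Module.finrank ℤ ι) → ℤ) := (Module.finBasis ℤ ι).equivFun.toAddEquiv
  haveI := regular_addMonoidAlgebra_fin (Module.finrank ℤ ι) A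
  exact IsRegularRing.of_ringEquiv (AddMonoidAlgebra.domCongr A A e).toRingEquiv.symm

theorem regular_fibLocRing (ι : Type) [AddCommGroup ι] [Module.Free ℤ ι] [Module.Finite ℤ ι]
    (R : Type u) [CommRing R] [IsNoetherianRing R]
    (Q : Ideal (AddMonoidAlgebra R ι)) [Q.IsPrime] :
    IsRegularLocalRing (EGA4.FibLocRing R (AddMonoidAlgebra R ι) Q) := by
  refine (forall_localization_fiber_iff (A := R) (B := AddMonoidAlgebra R ι)
    (fun T _ => IsRegularLocalRing T)
    (fun T T' _ _ e h => @IsRegularLocalRing.of_ringEquiv T _ h T' _ e)).mp ?_ Q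
  intro p hp Q' hQ'
  haveI : IsRegularRing p.ResidueField := inferInstance
  haveI := regular_addMonoidAlgebra ι p.ResidueField
  haveI : IsRegularRing (p.Fiber (AddMonoidAlgebra R ι)) :=
    IsRegularRing.of_ringEquiv
      (AddMonoidAlgebra.scalarTensorEquiv R (M := ι) p.ResidueField).toRingEquiv.symm
  infer_instance

end LaurentReg

section Main

variable {ι : Type} [AddCommGroup ι] [DecidableEq ι] [Module.Free ℤ ι] [Module.Finite ℤ ι]
variable {R : Type u} [CommRing R] [IsNoetherianRing R] (𝒜 : ι → AddSubgroup R) [GradedRing 𝒜]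
variable (p : Ideal R) [p.IsPrime] [hcore : (Ideal.homogeneousCore 𝒜 p).toIdeal.IsPrime]

/-- the dimensions of the two fibre local rings -/
theorem fibre_dims (d : ℕ)
    (hd : (p.map (Ideal.Quotient.mk (Ideal.homogeneousCore 𝒜 p).toIdeal)).height = d)
    [h𝔓prime : (p.map (algebraMap R (AddMonoidAlgebra R ι))).IsPrime]
    [h𝔓'prime : ((p.map (algebraMap R (AddMonoidAlgebra R ι))).comap
      ((tau 𝒜 : AddMonoidAlgebra R ι ≃+* AddMonoidAlgebra R ι) :
        AddMonoidAlgebra R ι →+* AddMonoidAlgebra R ι)).IsPrime] :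
    ringKrullDim (EGA4.FibLocRing R (AddMonoidAlgebra R ι)
      (p.map (algebraMap R (AddMonoidAlgebra R ι)))) = (0 : ℕ) ∧
    ringKrullDim (EGA4.FibLocRing R (AddMonoidAlgebra R ι)
      ((p.map (algebraMap R (AddMonoidAlgebra R ι))).comap
        ((tau 𝒜 : AddMonoidAlgebra R ι ≃+* AddMonoidAlgebra R ι) :
          AddMonoidAlgebra R ι →+* AddMonoidAlgebra R ι))) = d := by
  haveI hN := isNoetherianRing_addMonoidAlgebra ι R
  haveI hU := uniqueSums ι
  haveI hl1 := isLocalRing_fibLocRing (A := R) (p.map (algebraMap R (AddMonoidAlgebra R ι)))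
  haveI hl2 := isLocalRing_fibLocRing (A := R)
    ((p.map (algebraMap R (AddMonoidAlgebra R ι))).comap
      ((tau 𝒜 : AddMonoidAlgebra R ι ≃+* AddMonoidAlgebra R ι) :
        AddMonoidAlgebra R ι →+* AddMonoidAlgebra R ι))
  have hle : (Ideal.homogeneousCore 𝒜 p).toIdeal ≤ p := Ideal.toIdeal_homogeneousCore_le 𝒜 p
  have hhom : (Ideal.homogeneousCore 𝒜 p).toIdeal.IsHomogeneous 𝒜 :=
    (Ideal.homogeneousCore 𝒜 p).isHomogeneous
  obtain ⟨q1, q2⟩ := core 𝒜 p _ rfl _ rfl (R ⧸ (Ideal.homogeneousCore 𝒜 p).toIdeal)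
    (AddMonoidAlgebra R ι ⧸
      (Ideal.homogeneousCore 𝒜 p).toIdeal.map (algebraMap R (AddMonoidAlgebra R ι)))
    (Algebra.TensorProduct.quotIdealMapEquivTensorQuot (AddMonoidAlgebra R ι)
      (Ideal.homogeneousCore 𝒜 p).toIdeal).toLinearEquiv
    (tau0 𝒜 _ hhom).toAddEquiv (tau0_smul 𝒜 _ hhom)
  obtain ⟨z1, z2⟩ := dm_dep_quotient_of_radical (Ideal.homogeneousCore 𝒜 p).toIdeal
    (Ideal.homogeneousCore 𝒜 p).toIdeal (Ideal.IsPrime.radical inferInstance)
  have hdm : dm p (R ⧸ (Ideal.homogeneousCore 𝒜 p).toIdeal) = ((d : ℕ∞) : WithBot ℕ∞) := by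
    rw [(dep_dm_quotient p (Ideal.homogeneousCore 𝒜 p).toIdeal).2,
      Module.supportDim_quotient_eq_ringKrullDim,
      ringKrullDim_localization_quotient_eq_height (Ideal.homogeneousCore 𝒜 p).toIdeal p hle, hd]
  -- the fibre at `𝔓 = p R[ι]` is a field
  have hzero : ringKrullDim (EGA4.FibLocRing R (AddMonoidAlgebra R ι)
      (p.map (algebraMap R (AddMonoidAlgebra R ι)))) = (0 : ℕ) := by
    have hideal : ((p.map (algebraMap R (AddMonoidAlgebra R ι))).comap
        (algebraMap R (AddMonoidAlgebra R ι))).map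
        (algebraMap R (Localization.AtPrime (p.map (algebraMap R (AddMonoidAlgebra R ι))))) =
        IsLocalRing.maximalIdeal
          (Localization.AtPrime (p.map (algebraMap R (AddMonoidAlgebra R ι)))) := by
      rw [comap_map_eq, IsScalarTower.algebraMap_eq R (AddMonoidAlgebra R ι)
        (Localization.AtPrime (p.map (algebraMap R (AddMonoidAlgebra R ι)))), ← Ideal.map_map,
        Localization.AtPrime.map_eq_maximalIdeal]
    have hfield : IsField (EGA4.FibLocRing R (AddMonoidAlgebra R ι)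
        (p.map (algebraMap R (AddMonoidAlgebra R ι)))) := by
      change IsField (_ ⧸ _)
      rw [hideal]
      exact (Ideal.Quotient.maximal_ideal_iff_isField_quotient _).mp inferInstance
    rw [Nat.cast_zero]
    exact ringKrullDim_eq_zero_of_isField hfield
  refine ⟨hzero, ?_⟩
  rw [hdm, z2, zero_add, hzero] at q2
  rw [← q2]
  simp

/-- **Bass numbers at a prime and at its homogeneous core.** -/
theorem bassNum_core_shift (M : Type u) [AddCommGroup M] [Module R M] (ℳ : ι → AddSubgroup M)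
    [DirectSum.Decomposition ℳ] [SetLike.GradedSMul 𝒜 ℳ] (d : ℕ)
    (hd : (p.map (Ideal.Quotient.mk (Ideal.homogeneousCore 𝒜 p).toIdeal)).height = d) :
    (∀ i, i < d → GrLC.bassNum p M i = 0) ∧
    ∀ i, GrLC.bassNum p M (i + d) = GrLC.bassNum (Ideal.homogeneousCore 𝒜 p).toIdeal M i := by
  haveI hN := isNoetherianRing_addMonoidAlgebra ι R
  haveI hU := uniqueSums ι
  haveI h𝔓prime : (p.map (algebraMap R (AddMonoidAlgebra R ι))).IsPrime := map_isPrime p
  haveI h𝔓'prime : ((p.map (algebraMap R (AddMonoidAlgebra R ι))).comap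
      ((tau 𝒜 : AddMonoidAlgebra R ι ≃+* AddMonoidAlgebra R ι) :
        AddMonoidAlgebra R ι →+* AddMonoidAlgebra R ι)).IsPrime := Ideal.comap_isPrime _ _
  haveI reg1 := regular_fibLocRing ι R (p.map (algebraMap R (AddMonoidAlgebra R ι)))
  haveI reg2 := regular_fibLocRing ι R ((p.map (algebraMap R (AddMonoidAlgebra R ι))).comap
      ((tau 𝒜 : AddMonoidAlgebra R ι ≃+* AddMonoidAlgebra R ι) :
        AddMonoidAlgebra R ι →+* AddMonoidAlgebra R ι))
  obtain ⟨dim1, dim2⟩ := fibre_dims 𝒜 p d hd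
  have hp : p = (p.map (algebraMap R (AddMonoidAlgebra R ι))).comap
      (algebraMap R (AddMonoidAlgebra R ι)) := by
    rw [comap_map_eq]
  have hp' : (Ideal.homogeneousCore 𝒜 p).toIdeal =
      ((p.map (algebraMap R (AddMonoidAlgebra R ι))).comap
        ((tau 𝒜 : AddMonoidAlgebra R ι ≃+* AddMonoidAlgebra R ι) :
          AddMonoidAlgebra R ι →+* AddMonoidAlgebra R ι)).comap
        (algebraMap R (AddMonoidAlgebra R ι)) := by
    rw [comap_tau_comap]
  obtain ⟨-, a2⟩ := bassNum_baseChange (p.map (algebraMap R (AddMonoidAlgebra R ι))) p hp 0 dim1 M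
  obtain ⟨b1, b2⟩ := bassNum_baseChange ((p.map (algebraMap R (AddMonoidAlgebra R ι))).comap
      ((tau 𝒜 : AddMonoidAlgebra R ι ≃+* AddMonoidAlgebra R ι) :
        AddMonoidAlgebra R ι →+* AddMonoidAlgebra R ι))
    (Ideal.homogeneousCore 𝒜 p).toIdeal hp' d dim2 M
  have t := fun j => bassNum_semilinear_transport (tau 𝒜) (tauM 𝒜 ℳ) (tauM_smul 𝒜 ℳ)
    (p.map (algebraMap R (AddMonoidAlgebra R ι)))
    ((p.map (algebraMap R (AddMonoidAlgebra R ι))).comap
      ((tau 𝒜 : AddMonoidAlgebra R ι ≃+* AddMonoidAlgebra R ι) :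
        AddMonoidAlgebra R ι →+* AddMonoidAlgebra R ι)) rfl j
  constructor
  · intro i hi
    have h1 := a2 i
    rw [add_zero] at h1
    rw [← h1, ← t i]
    exact b1 i hi
  · intro i
    have h1 := a2 (i + d)
    rw [add_zero] at h1
    rw [← h1, ← t (i + d)]
    exact b2 i

end Main

end Groth.Agent.Lib.LeadBass
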