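import Mathlib.RingTheory.GradedAlgebra.Radical
import Mathlib.RingTheory.Ideal.Height
import Mathlib.RingTheory.Ideal.KrullsHeightTheorem

/-! `ℤ`-graded rings: there is no prime strictly between the homogeneous core `p*` of a prime `p`
and `p`; hence `ht p ≤ ht p* + 1` (elementary Euclidean-division proof, helper3). -/

set_option autoImplicit false
set_option linter.unusedSectionVars false
set_option linter.style.haveILetI false
open DirectSum

namespace Groth.Agent.Lib.T2H3.GrDim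

universe u

variable {R : Type u} [CommRing R] (𝒜 : ℤ → AddSubgroup R) [GradedRing 𝒜] (P : Ideal R)

/-- All homogeneous components of `f` outside the degrees `[a, b]` lie in `P`. -/
def Bdd (a b : ℤ) (f : R) : Prop := ∀ i : ℤ, ((decompose 𝒜 f) i : R) ∉ P → a ≤ i ∧ i ≤ b

variable {𝒜 P}

theorem Bdd.mono {a b a' b' : ℤ} {f : R} (h : Bdd 𝒜 P a b f) (ha : a' ≤ a) (hb : b ≤ b') :
    Bdd 𝒜 P a' b' f := fun i hi => ⟨le_trans ha (h i hi).1, le_trans (h i hi).2 hb⟩

theorem Bdd.add {a b : ℤ} {f g : R} (hf : Bdd 𝒜 P a b f) (hg : Bdd 𝒜 P a b g) :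
    Bdd 𝒜 P a b (f + g) := by
  intro i hi
  rw [decompose_add, DirectSum.add_apply, AddMemClass.coe_add] at hi
  by_cases h1 : ((decompose 𝒜 f) i : R) ∈ P
  · by_cases h2 : ((decompose 𝒜 g) i : R) ∈ P
    · exact absurd (Ideal.add_mem _ h1 h2) hi
    · exact hg i h2
  · exact hf i h1

theorem bdd_of_mem (hPh : P.IsHomogeneous 𝒜) {f : R} (hf : f ∈ P) (a b : ℤ) : Bdd 𝒜 P a b f :=
  fun i hi => absurd (hPh i hf) hi

theorem bdd_zero (a b : ℤ) : Bdd 𝒜 P a b (0 : R) := by
  intro i hi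
  rw [decompose_zero, DirectSum.zero_apply, ZeroMemClass.coe_zero] at hi
  exact absurd (Ideal.zero_mem _) hi

theorem bdd_homogeneous {n : ℤ} {f : R} (hf : f ∈ 𝒜 n) : Bdd 𝒜 P n n f := by
  intro i hi
  by_cases h : n = i
  · subst h; exact ⟨le_rfl, le_rfl⟩
  · rw [decompose_of_mem_ne 𝒜 hf h] at hi
    exact absurd (Ideal.zero_mem _) hi

theorem Bdd.congr (hPh : P.IsHomogeneous 𝒜) {a b : ℤ} {f g : R} (hf : Bdd 𝒜 P a b f)
    (h : g - f ∈ P) : Bdd 𝒜 P a b g := by
  have : g = f + (g - f) := by ring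
  rw [this]
  exact hf.add (bdd_of_mem hPh h a b)

theorem exists_bdd (f : R) : ∃ a b : ℤ, Bdd 𝒜 P a b f := by
  induction f using DirectSum.Decomposition.inductionOn 𝒜 with
  | zero => exact ⟨0, 0, bdd_zero 0 0⟩
  | homogeneous x =>
    rename_i i
    exact ⟨i, i, bdd_homogeneous x.2⟩
  | add x y hx hy =>
    obtain ⟨a, b, h1⟩ := hx
    obtain ⟨a', b', h2⟩ := hy
    exact ⟨min a a', max b b', (h1.mono (min_le_left _ _) (le_max_left _ _)).add
      (h2.mono (min_le_right _ _) (le_max_right _ _))⟩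

theorem mem_of_bdd_lt {a b : ℤ} {f : R} (hf : Bdd 𝒜 P a b f) (hab : b < a) : f ∈ P := by
  classical
  rw [← sum_support_decompose 𝒜 f]
  refine Ideal.sum_mem _ fun i _ => ?_
  by_contra hi
  have := hf i hi
  omega

theorem Bdd.le_of_notMem {a b : ℤ} {f : R} (hf : Bdd 𝒜 P a b f) (hfP : f ∉ P) : a ≤ b := by
  by_contra h
  exact hfP (mem_of_bdd_lt hf (by omega))

theorem Bdd.shrink_right {a b : ℤ} {f : R} (hf : Bdd 𝒜 P a b f)
    (hb : ((decompose 𝒜 f) b : R) ∈ P) : Bdd 𝒜 P a (b - 1) f := by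
  intro i hi
  have h1 := hf i hi
  have h2 : i ≠ b := by
    rintro rfl
    exact hi hb
  omega

theorem decompose_mul_of_left_mem {s : R} {δ : ℤ} (hs : s ∈ 𝒜 δ) (f : R) (i : ℤ) :
    ((decompose 𝒜 (s * f)) i : R) = s * ((decompose 𝒜 f) (i - δ) : R) := by
  have h := coe_decompose_mul_add_of_left_mem 𝒜 (i := δ) (j := i - δ) (b := f) hs
  rwa [add_sub_cancel] at h

theorem Bdd.mul_left {a b δ : ℤ} {s f : R} (hs : s ∈ 𝒜 δ)
    (hf : Bdd 𝒜 P a b f) : Bdd 𝒜 P (δ + a) (δ + b) (s * f) := by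
  intro i hi
  rw [decompose_mul_of_left_mem hs] at hi
  have h1 : ((decompose 𝒜 f) (i - δ) : R) ∉ P := fun h => hi (Ideal.mul_mem_left _ _ h)
  have := hf _ h1
  omega

/-- The Euclidean step: cancelling the top components. -/
theorem Bdd.step {a b c e : ℤ} {f g : R} (hf : Bdd 𝒜 P a b f) (hg : Bdd 𝒜 P c e g)
    (hw : b - a ≤ e - c) :
    Bdd 𝒜 P (b + c) (b + e - 1)
      (((decompose 𝒜 f) b : R) * g - ((decompose 𝒜 g) e : R) * f) := by
  intro i hi
  rw [decompose_sub, DirectSum.sub_apply, AddSubgroupClass.coe_sub,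
    decompose_mul_of_left_mem (SetLike.coe_mem _), decompose_mul_of_left_mem (SetLike.coe_mem _)]
    at hi
  have hne : i ≠ b + e := by
    rintro rfl
    apply hi
    rw [add_sub_cancel_left, add_sub_cancel_right, mul_comm, sub_self]
    exact Ideal.zero_mem _
  by_cases h1 : ((decompose 𝒜 g) (i - b) : R) ∈ P
  · by_cases h2 : ((decompose 𝒜 f) (i - e) : R) ∈ P
    · exact absurd (Ideal.sub_mem _ (Ideal.mul_mem_left _ _ h1) (Ideal.mul_mem_left _ _ h2)) hi
    · have := hf _ h2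
      omega
  · have := hg _ h1
    omega

/-- Division with remainder by an element whose top component is not in `P`, up to a homogeneous
multiplier not in `P`, with control on the degrees of the quotient. -/
theorem exists_div (hP : P.IsPrime) {f : R} {a b : ℤ}
    (hf : Bdd 𝒜 P a b f) (hfb : ((decompose 𝒜 f) b : R) ∉ P) :
    ∀ (n : ℕ) (g : R) (c e : ℤ), Bdd 𝒜 P c e g → e - c < n →
      ∃ (δ : ℤ) (s h r : R), s ∈ 𝒜 δ ∧ s ∉ P ∧ s * g - h * f - r ∈ P ∧
        (∃ c' e' : ℤ, Bdd 𝒜 P c' e' r ∧ e' - c' < b - a) ∧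
        Bdd 𝒜 P (c + δ - a) (e + δ - b) h := by
  have hab : a ≤ b := (hf b hfb).1
  have base : ∀ (g : R) (c e : ℤ), Bdd 𝒜 P c e g → e - c < b - a →
      ∃ (δ : ℤ) (s h r : R), s ∈ 𝒜 δ ∧ s ∉ P ∧ s * g - h * f - r ∈ P ∧
        (∃ c' e' : ℤ, Bdd 𝒜 P c' e' r ∧ e' - c' < b - a) ∧
        Bdd 𝒜 P (c + δ - a) (e + δ - b) h := by
    intro g c e hg hlt
    refine ⟨0, 1, 0, g, SetLike.GradedOne.one_mem, ?_, ?_, ⟨c, e, hg, hlt⟩, bdd_zero _ _⟩
    · exact fun h => hP.ne_top ((Ideal.eq_top_iff_one _).mpr h)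
    · have : (1 : R) * g - 0 * f - g = 0 := by ring
      rw [this]
      exact Ideal.zero_mem _
  intro n
  induction n with
  | zero =>
    intro g c e hg hlt
    exact base g c e hg (by omega)
  | succ n ih =>
    intro g c e hg hlt
    by_cases hw : e - c < b - a
    · exact base g c e hg hw
    · have hw' : b - a ≤ e - c := by omega
      obtain ⟨δ', s', h', r, hs', hs'P, hrel, hr, hh'⟩ :=
        ih _ (b + c) (b + e - 1) (hf.step hg hw') (by omega)
      refine ⟨b + δ', s' * ((decompose 𝒜 f) b : R),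
        h' + s' * ((decompose 𝒜 g) e : R), r, ?_, ?_, ?_, hr, ?_⟩
      · have := SetLike.GradedMul.mul_mem hs' (SetLike.coe_mem ((decompose 𝒜 f) b))
        rwa [add_comm] at this
      · intro h
        rcases hP.mem_or_mem h with h | h
        · exact hs'P h
        · exact hfb h
      · have : s' * ((decompose 𝒜 f) b : R) * g - (h' + s' * ((decompose 𝒜 g) e : R)) * f - r =
            s' * (((decompose 𝒜 f) b : R) * g - ((decompose 𝒜 g) e : R) * f) - h' * f - r := by
          ring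
        rw [this]
        exact hrel
      · refine (hh'.mono (by omega) (by omega)).add ?_
        have h1 : s' * ((decompose 𝒜 g) e : R) ∈ 𝒜 (δ' + e) :=
          SetLike.GradedMul.mul_mem hs' (SetLike.coe_mem ((decompose 𝒜 g) e))
        exact (bdd_homogeneous h1).mono (by omega) (by omega)

theorem sub_mem_of_bdd_same {a : ℤ} {f : R} (hf : Bdd 𝒜 P a a f) :
    f - ((decompose 𝒜 f) a : R) ∈ P := by
  have h : Bdd 𝒜 P 1 0 (f - ((decompose 𝒜 f) a : R)) := by
    intro i hi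
    exfalso
    apply hi
    rw [decompose_sub, DirectSum.sub_apply, AddSubgroupClass.coe_sub]
    by_cases hia : a = i
    · subst hia
      rw [decompose_of_mem_same 𝒜 (SetLike.coe_mem _), sub_self]
      exact Ideal.zero_mem _
    · rw [decompose_of_mem_ne 𝒜 (SetLike.coe_mem _) hia, sub_zero]
      by_contra h2
      have := hf i h2
      omega
  exact mem_of_bdd_lt h (by omega)

/-- Elements of `q \ P` have width at least one, when all homogeneous elements of `q` are in `P`. -/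
theorem Bdd.lt_of_mem {q : Ideal R} (hPq : P ≤ q)
    (hq : ∀ s : R, SetLike.IsHomogeneousElem 𝒜 s → s ∈ q → s ∈ P) {a b : ℤ} {f : R}
    (hf : Bdd 𝒜 P a b f) (hfq : f ∈ q) (hfP : f ∉ P) : a < b := by
  have hab := hf.le_of_notMem hfP
  by_contra hlt
  have hba : b = a := by omega
  subst hba
  have h1 := sub_mem_of_bdd_same hf
  have h2 : ((decompose 𝒜 f) b : R) ∈ q := by
    have : ((decompose 𝒜 f) b : R) = f - (f - ((decompose 𝒜 f) b : R)) := by ring
    rw [this]
    exact Ideal.sub_mem _ hfq (hPq h1)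
  have h3 := hq _ ⟨b, SetLike.coe_mem _⟩ h2
  apply hfP
  have : f = (f - ((decompose 𝒜 f) b : R)) + ((decompose 𝒜 f) b : R) := by ring
  rw [this]
  exact Ideal.add_mem _ h1 h3

/-- An element of minimal width in `J \ P`. -/
theorem exists_min (J : Ideal R) (hJ : ∃ f ∈ J, f ∉ P) :
    ∃ (f : R) (a b : ℤ), f ∈ J ∧ f ∉ P ∧ Bdd 𝒜 P a b f ∧ ((decompose 𝒜 f) b : R) ∉ P ∧
      ∀ (f' : R) (a' b' : ℤ), f' ∈ J → f' ∉ P → Bdd 𝒜 P a' b' f' → b - a ≤ b' - a' := by
  classical
  have hne : ∃ w : ℕ, ∃ (f : R) (a b : ℤ), f ∈ J ∧ f ∉ P ∧ Bdd 𝒜 P a b f ∧ b - a = w := by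
    obtain ⟨f, hfJ, hfP⟩ := hJ
    obtain ⟨a, b, hf⟩ := exists_bdd (𝒜 := 𝒜) (P := P) f
    have hab := hf.le_of_notMem hfP
    exact ⟨(b - a).toNat, f, a, b, hfJ, hfP, hf, by omega⟩
  obtain ⟨f, a, b, hfJ, hfP, hf, hw⟩ := Nat.find_spec hne
  have hmin : ∀ (f' : R) (a' b' : ℤ), f' ∈ J → f' ∉ P → Bdd 𝒜 P a' b' f' → b - a ≤ b' - a' := by
    intro f' a' b' hf'J hf'P hf'
    have hab' := hf'.le_of_notMem hf'P
    have := Nat.find_min' hne ⟨f', a', b', hf'J, hf'P, hf', (Int.toNat_of_nonneg (by omega)).symm⟩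
    omega
  refine ⟨f, a, b, hfJ, hfP, hf, ?_, hmin⟩
  intro hb
  have h1 := hf.shrink_right hb
  have := hmin f a (b - 1) hfJ hfP h1
  omega

/-- There is no prime strictly between a homogeneous prime `P` and a prime `q` all of whose
homogeneous elements lie in `P`. -/
theorem le_of_between {q₁ q : Ideal R} (hP : P.IsPrime)
    (hq₁ : q₁.IsPrime) (hPq₁ : P ≤ q₁) (hq₁q : q₁ ≤ q)
    (hq : ∀ s : R, SetLike.IsHomogeneousElem 𝒜 s → s ∈ q → s ∈ P) (hne : ∃ f ∈ q₁, f ∉ P) :
    q ≤ q₁ := by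
  have hPq : P ≤ q := le_trans hPq₁ hq₁q
  obtain ⟨f, a, b, hfq₁, hfP, hf, hfb, hfmin⟩ := exists_min (𝒜 := 𝒜) (P := P) q₁ hne
  have hab : a < b := hf.lt_of_mem hPq hq (hq₁q hfq₁) hfP
  intro g hgq
  obtain ⟨c, e, hg⟩ := exists_bdd (𝒜 := 𝒜) (P := P) g
  obtain ⟨δ, s, h, r, hs, hsP, hrel, ⟨c', e', hr, hrw⟩, -⟩ :=
    exists_div hP hf hfb (e - c + 1).toNat g c e hg (by omega)
  have hsq : s ∉ q := fun hsq => hsP (hq s ⟨δ, hs⟩ hsq)
  have hrq : r ∈ q := by
    have : r = s * g - h * f - (s * g - h * f - r) := by ring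
    rw [this]
    exact Ideal.sub_mem _ (Ideal.sub_mem _ (Ideal.mul_mem_left _ _ hgq)
      (Ideal.mul_mem_left _ _ (hq₁q hfq₁))) (hPq hrel)
  -- the remainder lies in `P`
  have hrP : r ∈ P := by
    by_contra hrP
    obtain ⟨r₀, c₀, e₀, hr₀q, hr₀P, hr₀, hr₀e, hr₀min⟩ :=
      exists_min (𝒜 := 𝒜) (P := P) q ⟨r, hrq, hrP⟩
    have hw₀ : e₀ - c₀ < b - a := lt_of_le_of_lt (hr₀min r c' e' hrq hrP hr) hrw
    have hce₀ : c₀ < e₀ := hr₀.lt_of_mem hPq hq hr₀q hr₀P
    obtain ⟨δ', s', h', r', hs', hs'P, hrel', ⟨c'', e'', hr', hr'w⟩, hh'⟩ :=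
      exists_div hP hr₀ hr₀e (b - a + 1).toNat f a b hf (by omega)
    have hr'q : r' ∈ q := by
      have : r' = s' * f - h' * r₀ - (s' * f - h' * r₀ - r') := by ring
      rw [this]
      exact Ideal.sub_mem _ (Ideal.sub_mem _ (Ideal.mul_mem_left _ _ (hq₁q hfq₁))
        (Ideal.mul_mem_left _ _ hr₀q)) (hPq hrel')
    have hr'P : r' ∈ P := by
      by_contra hr'P
      have := hr₀min r' c'' e'' hr'q hr'P hr'
      omega
    have h1 : s' * f - h' * r₀ ∈ P := by
      have : s' * f - h' * r₀ = (s' * f - h' * r₀ - r') + r' := by ring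
      rw [this]
      exact Ideal.add_mem _ hrel' hr'P
    have h2 : h' * r₀ ∈ q₁ := by
      have : h' * r₀ = s' * f - (s' * f - h' * r₀) := by ring
      rw [this]
      exact Ideal.sub_mem _ (Ideal.mul_mem_left _ _ hfq₁) (hPq₁ h1)
    rcases hq₁.mem_or_mem h2 with h3 | h3
    · have h'P : h' ∉ P := by
        intro h'P
        have h4 : s' * f ∈ P := by
          have : s' * f = (s' * f - h' * r₀) + h' * r₀ := by ring
          rw [this]
          exact Ideal.add_mem _ h1 (Ideal.mul_mem_right _ _ h'P)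
        rcases hP.mem_or_mem h4 with h5 | h5
        · exact hs'P h5
        · exact hfP h5
      have := hfmin h' _ _ h3 h'P hh'
      omega
    · have := hfmin r₀ c₀ e₀ h3 hr₀P hr₀
      omega
  have h1 : s * g ∈ q₁ := by
    have : s * g = (s * g - h * f - r) + h * f + r := by ring
    rw [this]
    exact Ideal.add_mem _ (Ideal.add_mem _ (hPq₁ hrel) (Ideal.mul_mem_left _ _ hfq₁)) (hPq₁ hrP)
  rcases hq₁.mem_or_mem h1 with h2 | h2
  · exact absurd (hq₁q h2) hsq
  · exact h2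

section Height

/-- The homogeneous core of a prime of a `ℤ`-graded ring is prime. -/
theorem core_isPrime (p : Ideal R) [hp : p.IsPrime] : (p.homogeneousCore 𝒜).toIdeal.IsPrime :=
  Ideal.IsPrime.homogeneousCore hp

theorem height_le_of_core_height_le : ∀ (n : ℕ) (p : Ideal R) [p.IsPrime],
    (p.homogeneousCore 𝒜).toIdeal.height ≤ n → p.height ≤ ((n + 1 : ℕ) : ℕ∞) := by
  intro n
  induction n using Nat.strong_induction_on with
  | _ n ih =>
    intro p hp hcore
    rw [Ideal.height_le_iff]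
    intro q hq hqp
    haveI hPprime : (p.homogeneousCore 𝒜).toIdeal.IsPrime := core_isPrime p
    haveI hQprime : (q.homogeneousCore 𝒜).toIdeal.IsPrime := core_isPrime q
    have hQP : (q.homogeneousCore 𝒜).toIdeal ≤ (p.homogeneousCore 𝒜).toIdeal :=
      Ideal.homogeneousCore_mono 𝒜 hqp.le
    by_cases heq : (q.homogeneousCore 𝒜).toIdeal = (p.homogeneousCore 𝒜).toIdeal
    · have hPq : (p.homogeneousCore 𝒜).toIdeal ≤ q := by
        rw [← heq]
        exact Ideal.toIdeal_homogeneousCore_le 𝒜 q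
      have hqP : q ≤ (p.homogeneousCore 𝒜).toIdeal := by
        by_contra hcon
        obtain ⟨f, hfq, hfP⟩ := SetLike.not_le_iff_exists.mp hcon
        have := le_of_between (𝒜 := 𝒜) hPprime hq hPq hqp.le
          (fun s hs hsp => Ideal.mem_homogeneousCore_of_homogeneous_of_mem hs hsp) ⟨f, hfq, hfP⟩
        exact absurd hqp (not_lt_of_ge this)
      refine lt_of_le_of_lt (le_trans (Ideal.height_mono hqP) hcore) ?_
      exact_mod_cast Nat.lt_succ_self n
    · have hlt : (q.homogeneousCore 𝒜).toIdeal < (p.homogeneousCore 𝒜).toIdeal :=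
        lt_of_le_of_ne hQP heq
      have h1 := Ideal.height_add_one_le_of_lt_of_isPrime hlt
      have h2 : (q.homogeneousCore 𝒜).toIdeal.height + 1 ≤ (n : ℕ∞) := le_trans h1 hcore
      cases n with
      | zero =>
        exfalso
        have h3 : (1 : ℕ∞) ≤ ((0 : ℕ) : ℕ∞) := le_trans le_add_self h2
        exact absurd h3 (by simp)
      | succ k =>
        have h3 : (q.homogeneousCore 𝒜).toIdeal.height ≤ (k : ℕ∞) := by
          rw [Nat.cast_add, Nat.cast_one] at h2
          exact (ENat.add_le_add_iff_right ENat.one_ne_top).mp h2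
        have h4 := ih k (Nat.lt_succ_self k) q h3
        refine lt_of_le_of_lt h4 ?_
        exact_mod_cast Nat.lt_succ_self (k + 1)

/-- `ht p ≤ ht p* + 1` in a Noetherian `ℤ`-graded ring. -/
theorem height_le_core_height_add_one [IsNoetherianRing R] (p : Ideal R) [hp : p.IsPrime] :
    p.height ≤ (p.homogeneousCore 𝒜).toIdeal.height + 1 := by
  haveI hPprime : (p.homogeneousCore 𝒜).toIdeal.IsPrime := core_isPrime p
  have hfin : (p.homogeneousCore 𝒜).toIdeal.height ≠ ⊤ := Ideal.height_ne_top hPprime.ne_top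
  obtain ⟨n, hn⟩ := ENat.ne_top_iff_exists.mp hfin
  have := height_le_of_core_height_le (𝒜 := 𝒜) n p (le_of_eq hn.symm)
  rw [← hn]
  exact_mod_cast this

end Height

end Groth.Agent.Lib.T2H3.GrDim
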