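import Mathlib
import Groth.Agent.Lib.LeadBassE
import Groth.Agent.Lib.T2H3GrDimA

/-!
# Bass numbers of `ℤ`-graded modules at non-homogeneous primes (lead)

For a `ℤ`-graded ring and a non-homogeneous prime `p` with core `p*`: `ht (p/p*) = 1`, hence
`μ^0(p, M) = 0` and `μ^{i+1}(p, M) = μ^i(p*, M)` for graded modules `M`.
-/

set_option autoImplicit false
set_option maxHeartbeats 800000
set_option linter.style.haveILetI false
set_option linter.unusedSectionVars false
set_option linter.unusedVariables false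

universe u

namespace Groth.Agent.Lib.LeadBass

section height

variable {R : Type u} [CommRing R] (𝒜 : ℤ → AddSubgroup R) [GradedRing 𝒜]
  (p : Ideal R) [hp : p.IsPrime] [hcore : (Ideal.homogeneousCore 𝒜 p).toIdeal.IsPrime]

theorem height_map_mk_core_eq_one (hnh : ¬ Ideal.IsHomogeneous 𝒜 p) :
    (p.map (Ideal.Quotient.mk (Ideal.homogeneousCore 𝒜 p).toIdeal)).height = 1 := by
  have hle : (Ideal.homogeneousCore 𝒜 p).toIdeal ≤ p := Ideal.toIdeal_homogeneousCore_le 𝒜 p
  haveI hprime : (p.map (Ideal.Quotient.mk (Ideal.homogeneousCore 𝒜 p).toIdeal)).IsPrime :=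
    Ideal.map_isPrime_of_surjective Ideal.Quotient.mk_surjective (by rwa [Ideal.mk_ker])
  have hcomap : (p.map (Ideal.Quotient.mk (Ideal.homogeneousCore 𝒜 p).toIdeal)).comap
      (Ideal.Quotient.mk (Ideal.homogeneousCore 𝒜 p).toIdeal) = p := by
    rw [Ideal.comap_map_of_surjective _ Ideal.Quotient.mk_surjective, ← RingHom.ker_eq_comap_bot,
      Ideal.mk_ker]
    exact sup_eq_left.mpr hle
  have hhomog : ∀ s : R, SetLike.IsHomogeneousElem 𝒜 s → s ∈ p →
      s ∈ (Ideal.homogeneousCore 𝒜 p).toIdeal := fun s hs hsp =>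
    Ideal.mem_homogeneousCore_of_homogeneous_of_mem hs hsp
  apply le_antisymm
  · have h1 : (p.map (Ideal.Quotient.mk (Ideal.homogeneousCore 𝒜 p).toIdeal)).height ≤
        ((1 : ℕ) : ℕ∞) := by
      rw [Ideal.height_le_iff]
      intro qb hqb hlt
      haveI : (qb.comap (Ideal.Quotient.mk (Ideal.homogeneousCore 𝒜 p).toIdeal)).IsPrime :=
        Ideal.comap_isPrime _ _
      have hPq : (Ideal.homogeneousCore 𝒜 p).toIdeal ≤
          qb.comap (Ideal.Quotient.mk (Ideal.homogeneousCore 𝒜 p).toIdeal) := by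
        intro x hx
        rw [Ideal.mem_comap, Ideal.Quotient.eq_zero_iff_mem.mpr hx]
        exact Ideal.zero_mem _
      have hqp : qb.comap (Ideal.Quotient.mk (Ideal.homogeneousCore 𝒜 p).toIdeal) ≤ p := by
        exact (Ideal.comap_mono hlt.le).trans hcomap.le
      have hqbmap : (qb.comap (Ideal.Quotient.mk (Ideal.homogeneousCore 𝒜 p).toIdeal)).map
          (Ideal.Quotient.mk (Ideal.homogeneousCore 𝒜 p).toIdeal) = qb :=
        Ideal.map_comap_of_surjective _ Ideal.Quotient.mk_surjective qb
      by_cases hne : ∃ f ∈ qb.comap (Ideal.Quotient.mk (Ideal.homogeneousCore 𝒜 p).toIdeal),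
          f ∉ (Ideal.homogeneousCore 𝒜 p).toIdeal
      · exfalso
        have h2 := Groth.Agent.Lib.T2H3.GrDim.le_of_between (𝒜 := 𝒜) hcore inferInstance hPq hqp
          hhomog hne
        have h3 : p.map (Ideal.Quotient.mk (Ideal.homogeneousCore 𝒜 p).toIdeal) ≤ qb := by
          rw [← hqbmap]
          exact Ideal.map_mono h2
        exact absurd hlt (not_lt_of_ge h3)
      · push Not at hne
        have hqbbot : qb = ⊥ := by
          rw [← hqbmap, eq_bot_iff]
          rw [Ideal.map_le_iff_le_comap]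
          intro x hx
          rw [Ideal.mem_comap, Ideal.Quotient.eq_zero_iff_mem.mpr (hne x hx)]
          exact Ideal.zero_mem _
        rw [hqbbot, Ideal.height_bot]
        exact_mod_cast Nat.zero_lt_one
    exact_mod_cast h1
  · rw [Order.one_le_iff_ne_zero]
    intro h0
    rw [Ideal.height_eq_zero_iff, IsDomain.minimalPrimes_eq_singleton_bot,
      Set.mem_singleton_iff] at h0
    apply hnh
    have hpe : p = (Ideal.homogeneousCore 𝒜 p).toIdeal := by
      apply le_antisymm _ hle
      intro x hx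
      have : Ideal.Quotient.mk (Ideal.homogeneousCore 𝒜 p).toIdeal x ∈
          p.map (Ideal.Quotient.mk (Ideal.homogeneousCore 𝒜 p).toIdeal) :=
        Ideal.mem_map_of_mem _ hx
      rw [h0, Ideal.mem_bot] at this
      exact Ideal.Quotient.eq_zero_iff_mem.mp this
    rw [hpe]
    exact (Ideal.homogeneousCore 𝒜 p).isHomogeneous

end height

end Groth.Agent.Lib.LeadBass
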