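import Groth.Agent.Lib.LeadRedNrmC

/-! # Brauer-triviality over a separable algebraic extension: compositum direction -/

set_option autoImplicit false
set_option maxHeartbeats 400000
set_option linter.style.haveILetI false
set_option linter.unusedSectionVars false
set_option linter.unusedVariables false

namespace Groth.Agent.Lib.LeadBrCd

open TensorProduct

section Triv

universe u
variable {F' : Type u} [Field F'] {B : Type u} [Ring B] [Algebra F' B] [Algebra.IsCentral F' B]
  [IsSimpleRing B] [FiniteDimensional F' B]

/-- if all central division algebras over `F'` are trivial, every CSA over `F'` is split -/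
theorem splits_of_trivial
    (h : ∀ (D : Type u) [DivisionRing D] [Algebra F' D] [Algebra.IsCentral F' D]
      [FiniteDimensional F' D], Module.finrank F' D = 1) :
    ∃ s : ℕ, s ≠ 0 ∧ Nonempty (B ≃ₐ[F'] Matrix (Fin s) (Fin s) F') := by
  obtain ⟨s, hs, D, _, _, _, _, ⟨e⟩⟩ := LeadRedNrm.exists_division_data F' B
  have h1 := h D
  have hbij : Function.Bijective (algebraMap F' D) := by
    refine ⟨(algebraMap F' D).injective, ?_⟩
    have hr : LinearMap.range (Algebra.linearMap F' D) = ⊤ := by
      apply Submodule.eq_top_of_finrank_eq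
      rw [h1, LinearMap.finrank_range_of_inj (algebraMap F' D).injective, Module.finrank_self]
    intro x
    have : x ∈ LinearMap.range (Algebra.linearMap F' D) := by rw [hr]; trivial
    exact this
  let θ : F' ≃ₐ[F'] D := AlgEquiv.ofBijective (Algebra.ofId F' D) hbij
  exact ⟨s, hs, ⟨e.trans (θ.symm.mapMatrix)⟩⟩

end Triv

section AB

universe u
variable (K F : Type u) [Field K] [Field F] [Algebra K F] [Algebra.IsSeparable K F]

/-- (a) ⇒ (b) -/
theorem b_of_a
    (ha : ∀ (F' : Type u) [Field F'] [Algebra F F'] [FiniteDimensional F F']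
        [Algebra.IsSeparable F F']
        (D : Type u) [DivisionRing D] [Algebra F' D] [Algebra.IsCentral F' D]
        [FiniteDimensional F' D], Module.finrank F' D = 1)
    (E : Type u) [Field E] [Algebra K E] [FiniteDimensional K E] [Algebra.IsSeparable K E]
    (D : Type u) [DivisionRing D] [Algebra E D] [Algebra.IsCentral E D] [FiniteDimensional E D]
    (M : Type u) [Field M] [Algebra K M] [Algebra E M] [Algebra F M] [IsScalarTower K E M]
    [IsScalarTower K F M] :
    ∃ n : ℕ, Nonempty ((M ⊗[E] D) ≃ₐ[M] Matrix (Fin n) (Fin n) M) := by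
  classical
  obtain ⟨θ, hθ⟩ := Field.exists_primitive_element K E
  set θM : M := algebraMap E M θ with hθM
  -- `θM` is separable over `F`
  have hsepK : IsSeparable K θM := by
    have h1 : IsSeparable K θ := Algebra.IsSeparable.isSeparable K θ
    unfold IsSeparable at h1 ⊢
    rwa [hθM, minpoly.algebraMap_eq (algebraMap E M).injective]
  have hsepF : IsSeparable F θM := hsepK.tower_top F
  let F' : IntermediateField F M := IntermediateField.adjoin F {θM}
  haveI : FiniteDimensional F F' := IntermediateField.adjoin.finiteDimensional hsepF.isIntegral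
  haveI : Algebra.IsSeparable F F' :=
    (IntermediateField.isSeparable_adjoin_simple_iff_isSeparable F M).mpr hsepF
  -- the image of `E` lies in `F'`
  have hmem : ∀ x : E, algebraMap E M x ∈ F' := by
    intro x
    let ι : E →ₐ[K] M := IsScalarTower.toAlgHom K E M
    have h1 : (⊤ : IntermediateField K E) ≤
        (F'.restrictScalars K).comap ι := by
      rw [← hθ, IntermediateField.adjoin_le_iff]
      intro y hy
      have hy' : y = θ := hy
      rw [hy']
      show ι θ ∈ F'
      exact IntermediateField.mem_adjoin_simple_self F θM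
    exact h1 (IntermediateField.mem_top (x := x))
  let j : E →+* F' := (algebraMap E M).codRestrict F'.toSubfield.toSubring hmem
  letI : Algebra E F' := j.toAlgebra
  haveI : IsScalarTower E F' M := IsScalarTower.of_algebraMap_eq (fun x => rfl)
  -- the base change to `F'` splits
  haveI : Algebra.IsCentral F' (F' ⊗[E] D) := LeadCSA.isCentral_baseChange F'
  haveI : IsSimpleRing (F' ⊗[E] D) := LeadCSA.isSimpleRing_baseChange F'
  obtain ⟨s, hs, ⟨e⟩⟩ := splits_of_trivial (F' := F') (B := F' ⊗[E] D)
    (fun D' _ _ _ _ => ha F' D')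
  have hsp : Curves.Splits E D F' := ⟨s, hs, ⟨e⟩⟩
  obtain ⟨n, hn, ⟨e'⟩⟩ := LeadCSA.splits_of_field_algHom (IsScalarTower.toAlgHom E F' M) hsp
  exact ⟨n, ⟨e'⟩⟩

end AB

end Groth.Agent.Lib.LeadBrCd
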