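import Groth.Agent.Lib.LeadBrCdA

/-! # Brauer-triviality over a separable algebraic extension: descent direction -/

set_option autoImplicit false
set_option maxHeartbeats 400000
set_option linter.style.haveILetI false
set_option linter.unusedSectionVars false
set_option linter.unusedVariables false

namespace Groth.Agent.Lib.LeadBrCd

open TensorProduct

section Descent

universe u
variable {K : Type u} [Field K] {F' : Type u} [Field F'] [Algebra K F'] [Algebra.IsAlgebraic K F']
  {D : Type u} [DivisionRing D] [Algebra F' D] [Algebra.IsCentral F' D] [FiniteDimensional F' D]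

/-- descent of a central division algebra over an algebraic extension to a finite subextension -/
theorem exists_descent :
    ∃ (E : IntermediateField K F') (_ : FiniteDimensional K E)
      (D0 : Type u) (_ : DivisionRing D0) (_ : Algebra E D0) (_ : Algebra.IsCentral E D0)
      (_ : FiniteDimensional E D0), Nonempty (F' ⊗[E] D0 ≃ₐ[F'] D) := by
  classical
  set m := Module.finrank F' D with hm
  let b : Module.Basis (Fin m) F' D := Module.finBasis F' D
  let S : Set F' := (Set.range fun p : Fin m × Fin m × Fin m => b.repr (b p.1 * b p.2.1) p.2.2) ∪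
    Set.range (fun l : Fin m => b.repr 1 l)
  have hSfin : S.Finite := (Set.finite_range _).union (Set.finite_range _)
  haveI : Finite S := hSfin.to_subtype
  let E : IntermediateField K F' := IntermediateField.adjoin K S
  haveI hEfin : FiniteDimensional K E :=
    IntermediateField.finiteDimensional_adjoin (fun x _ => Algebra.IsIntegral.isIntegral x)
  have hc : ∀ i j l : Fin m, b.repr (b i * b j) l ∈ E := fun i j l =>
    IntermediateField.subset_adjoin K S (Or.inl ⟨(i, j, l), rfl⟩)
  have h1 : ∀ l : Fin m, b.repr 1 l ∈ E := fun l =>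
    IntermediateField.subset_adjoin K S (Or.inr ⟨l, rfl⟩)
  let V : Submodule E D := Submodule.span E (Set.range b)
  have hbV : ∀ i, b i ∈ V := fun i => Submodule.subset_span ⟨i, rfl⟩
  have h_one : (1 : D) ∈ V := by
    rw [← b.sum_repr 1]
    refine Submodule.sum_mem _ fun l _ => ?_
    have : b.repr 1 l • b l = (⟨b.repr 1 l, h1 l⟩ : E) • b l := rfl
    rw [this]
    exact V.smul_mem _ (hbV l)
  have h_mul : ∀ x y : D, x ∈ V → y ∈ V → x * y ∈ V := by
    intro x y hx hy
    induction hx using Submodule.span_induction with
    | mem x hx =>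
      obtain ⟨i, rfl⟩ := hx
      induction hy using Submodule.span_induction with
      | mem y hy =>
        obtain ⟨j, rfl⟩ := hy
        rw [← b.sum_repr (b i * b j)]
        refine Submodule.sum_mem _ fun l _ => ?_
        have : b.repr (b i * b j) l • b l = (⟨b.repr (b i * b j) l, hc i j l⟩ : E) • b l := rfl
        rw [this]
        exact V.smul_mem _ (hbV l)
      | zero => rw [mul_zero]; exact V.zero_mem
      | add y z _ _ hy hz => rw [mul_add]; exact V.add_mem hy hz
      | smul a y _ hy => rw [mul_smul_comm]; exact V.smul_mem a hy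
    | zero => rw [zero_mul]; exact V.zero_mem
    | add x z _ _ hx hz => rw [add_mul]; exact V.add_mem hx hz
    | smul a x _ hx => rw [smul_mul_assoc]; exact V.smul_mem a hx
  let D0 : Subalgebra E D := Submodule.toSubalgebra V h_one h_mul
  -- a basis of `D0`
  have hli : LinearIndependent E b := b.linearIndependent.restrict_scalars (by
    intro x y hxy
    have h2 : (x : F') * 1 = (y : F') * 1 := hxy
    rw [mul_one, mul_one] at h2
    exact Subtype.ext h2)
  let b0 : Module.Basis (Fin m) E D0 := Module.Basis.span hli
  have hb0 : ∀ i, ((b0 i : D0) : D) = b i := fun i =>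
    congrArg Subtype.val (Module.Basis.span_apply hli i)
  haveI : FiniteDimensional E D0 := Module.Finite.of_basis b0
  letI : DivisionRing D0 := divisionRingOfFiniteDimensional E D0
  -- the comparison map
  let Φ : F' ⊗[E] D0 →ₐ[F'] D :=
    Algebra.TensorProduct.lift (Algebra.ofId F' D) D0.val
      (fun x y => show Commute (Algebra.ofId F' D x) (D0.val y) from
        Algebra.commute_algebraMap_left x (D0.val y))
  let B1 : Module.Basis (Fin m) F' (F' ⊗[E] D0) := b0.baseChange F'
  have hΦB : ∀ i, Φ (B1 i) = b i := by
    intro i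
    rw [Module.Basis.baseChange_apply]
    show Φ ((1 : F') ⊗ₜ[E] b0 i) = b i
    rw [Algebra.TensorProduct.lift_tmul, map_one, one_mul]
    exact hb0 i
  have hΦ : Φ.toLinearMap = (B1.equiv b (Equiv.refl _)).toLinearMap := by
    apply B1.ext
    intro i
    rw [AlgHom.toLinearMap_apply, hΦB, LinearEquiv.coe_coe, Module.Basis.equiv_apply]
    rfl
  have hbij : Function.Bijective Φ := by
    have : (Φ : F' ⊗[E] D0 → D) = (B1.equiv b (Equiv.refl _)) := by
      funext x
      exact congrArg (fun f : F' ⊗[E] D0 →ₗ[F'] D => f x) hΦ
    rw [this]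
    exact (B1.equiv b (Equiv.refl _)).bijective
  let Ψ : F' ⊗[E] D0 ≃ₐ[F'] D := AlgEquiv.ofBijective Φ hbij
  haveI : Algebra.IsCentral F' (F' ⊗[E] D0) := LeadCSA.isCentral_of_algEquiv' Ψ.symm
  haveI : Algebra.IsCentral E D0 := LeadCSA.isCentral_of_baseChange F'
  exact ⟨E, hEfin, D0, inferInstance, inferInstance, inferInstance, inferInstance, ⟨Ψ⟩⟩

end Descent

section BA

universe u
variable (K F : Type u) [Field K] [Field F] [Algebra K F] [Algebra.IsSeparable K F]

/-- (b) ⇒ (a) -/
theorem a_of_b
    (hb : ∀ (E : Type u) [Field E] [Algebra K E] [FiniteDimensional K E] [Algebra.IsSeparable K E]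
        (D : Type u) [DivisionRing D] [Algebra E D] [Algebra.IsCentral E D] [FiniteDimensional E D]
        (M : Type u) [Field M] [Algebra K M] [Algebra E M] [Algebra F M] [IsScalarTower K E M]
        [IsScalarTower K F M],
        ∃ n : ℕ, Nonempty ((M ⊗[E] D) ≃ₐ[M] Matrix (Fin n) (Fin n) M))
    (F' : Type u) [Field F'] [Algebra F F'] [FiniteDimensional F F'] [Algebra.IsSeparable F F']
    (D : Type u) [DivisionRing D] [Algebra F' D] [Algebra.IsCentral F' D]
    [FiniteDimensional F' D] : Module.finrank F' D = 1 := by
  classical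
  letI : Algebra K F' := ((algebraMap F F').comp (algebraMap K F)).toAlgebra
  haveI : IsScalarTower K F F' := IsScalarTower.of_algebraMap_eq (fun _ => rfl)
  haveI : Algebra.IsSeparable K F' := Algebra.IsSeparable.trans K F F'
  haveI : Algebra.IsAlgebraic K F' := Algebra.IsSeparable.isAlgebraic K F'
  obtain ⟨E, hfin, D0, _, _, _, _, ⟨Ψ⟩⟩ := exists_descent (K := K) (F' := F') (D := D)
  obtain ⟨n, ⟨e⟩⟩ := hb E D0 F'
  let e2 : D ≃ₐ[F'] Matrix (Fin n) (Fin n) F' := Ψ.symm.trans e
  have hn : n = 1 := by
    by_contra hne
    rcases Nat.lt_or_gt_of_ne hne with h0 | h2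
    · have hn0 : n = 0 := by omega
      subst hn0
      have : (1 : D) = 0 := e2.injective (Subsingleton.elim _ _)
      exact one_ne_zero this
    · let i0 : Fin n := ⟨0, by omega⟩
      let i1 : Fin n := ⟨1, h2⟩
      have hne01 : i0 ≠ i1 := by
        intro h
        have := congrArg Fin.val h
        simp [i0, i1] at this
      let x : D := e2.symm (Matrix.single i0 i1 (1 : F'))
      have hxx : x * x = 0 := by
        show e2.symm _ * e2.symm _ = 0
        rw [← map_mul, Matrix.single_mul_single_of_ne _ _ _ _ hne01.symm, map_zero]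
      have hx0 : x = 0 := mul_self_eq_zero.mp hxx
      have h3 : Matrix.single i0 i1 (1 : F') = 0 := by
        have := congrArg e2 hx0
        rwa [AlgEquiv.apply_symm_apply, map_zero] at this
      have h4 := congrFun (congrFun h3 i0) i1
      rw [Matrix.single_apply_same] at h4
      exact one_ne_zero h4
  subst hn
  rw [e2.toLinearEquiv.finrank_eq, Module.finrank_matrix]
  simp

end BA

end Groth.Agent.Lib.LeadBrCd
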