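import Groth.Agent.Lib.LeadJZB

/-!
# Jacobi–Zariski: the maps on `Tⁱ` only depend on the square (homotopy invariance), functoriality
-/

set_option autoImplicit false
set_option maxHeartbeats 400000
set_option linter.style.haveILetI false
set_option linter.unusedSectionVars false
set_option linter.unusedVariables false

universe u w m

open TensorProduct

namespace Groth.Agent.Lib.LeadJZ

open CotT

noncomputable section

section Comp

variable {A₁ B₁ A₂ B₂ A₃ B₃ : Type u} {ι₁ σ₁ ι₂ σ₂ ι₃ σ₃ : Type w}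
variable [CommRing A₁] [CommRing B₁] [Algebra A₁ B₁]
variable [CommRing A₂] [CommRing B₂] [Algebra A₂ B₂]
variable [CommRing A₃] [CommRing B₃] [Algebra A₃ B₃]
variable [Algebra A₁ A₂] [Algebra B₁ B₂] [Algebra A₁ B₂] [IsScalarTower A₁ A₂ B₂]
  [IsScalarTower A₁ B₁ B₂]
variable [Algebra A₂ A₃] [Algebra B₂ B₃] [Algebra A₂ B₃] [IsScalarTower A₂ A₃ B₃]
  [IsScalarTower A₂ B₂ B₃]
variable [Algebra A₁ A₃] [Algebra B₁ B₃] [Algebra A₁ B₃] [IsScalarTower A₁ A₃ B₃]
  [IsScalarTower A₁ B₁ B₃]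
variable [IsScalarTower A₁ A₂ A₃] [IsScalarTower B₁ B₂ B₃]
variable {P₁ : Algebra.Presentation A₁ B₁ ι₁ σ₁} {P₂ : Algebra.Presentation A₂ B₂ ι₂ σ₂}
  {P₃ : Algebra.Presentation A₃ B₃ ι₃ σ₃}
variable (h : PresHom P₁ P₃) (g : PresHom P₁ P₂) (g' : PresHom P₂ P₃)
variable (M : Type m) [AddCommGroup M] [Module B₃ M] [Module B₂ M] [Module B₁ M]
  [IsScalarTower B₂ B₃ M] [IsScalarTower B₁ B₃ M] [IsScalarTower B₁ B₂ M]

/-- the composite ring map -/
abbrev τc : P₁.toExtension.Ring →+* P₃.toExtension.Ring := g'.ringHom.comp g.ringHom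

/-- the composite map on relation modules -/
abbrev φc : relMod P₁ → relMod P₃ := fun x => g'.relModMap (g.relModMap x)

include h g g' in
lemma hbar_comp (r : P₁.toExtension.Ring) :
    bar P₃ (h.ringHom r) = bar P₃ (τc g g' r) := by
  rw [bar_ringHom h r]
  show _ = bar P₃ (g'.ringHom (g.ringHom r))
  rw [bar_ringHom g' (g.ringHom r), bar_ringHom g r]
  exact IsScalarTower.algebraMap_apply B₁ B₂ B₃ _

include h g g' in
lemma hA_comp (a : A₁) :
    h.ringHom (algebraMap A₁ P₁.toExtension.Ring a) =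
      τc g g' (algebraMap A₁ P₁.toExtension.Ring a) := by
  show h.hom.toExtensionHom.toRingHom _ =
    g'.hom.toExtensionHom.toRingHom (g.hom.toExtensionHom.toRingHom _)
  rw [Algebra.Extension.Hom.toRingHom_algebraMap, Algebra.Extension.Hom.toRingHom_algebraMap,
    Algebra.Extension.Hom.toRingHom_algebraMap, ← IsScalarTower.algebraMap_apply A₁ A₂ A₃]

lemma φc_add (x y : relMod P₁) : φc g g' (x + y) = φc g g' x + φc g g' y := by
  show g'.relModMap (g.relModMap (x + y)) = _
  rw [map_add, map_add]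

lemma φc_smul (r : P₁.toExtension.Ring) (x : relMod P₁) :
    φc g g' (r • x) = τc g g' r • φc g g' x := by
  show g'.relModMap (g.relModMap (r • x)) = _
  rw [LinearMap.map_smulₛₗ, LinearMap.map_smulₛₗ]
  rfl

lemma φc_jmap (x : relMod P₁) : jmap P₃ (φc g g' x) = τc g g' (jmap P₁ x) := by
  show jmap P₃ (g'.relModMap (g.relModMap x)) = _
  rw [PresHom.jmap_relModMap, PresHom.jmap_relModMap]
  rfl

lemma L0_ext_all {A : Type u} {B : Type u} {ι σ : Type w} [CommRing A] [CommRing B] [Algebra A B]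
    (P : Algebra.Presentation A B ι σ) {M : Type m} [AddCommGroup M] [Module B M]
    {ψ ψ' : L0 P →ₗ[B] M} (h : ∀ r, dv P ψ r = dv P ψ' r) : ψ = ψ' :=
  L0_ext P fun i => h _

theorem T0pull_eq_comp (x : T0 P₃ M) : h.T0pull M x = g.T0pull M (g'.T0pull M x) := by
  apply Subtype.ext
  rw [T0pull_coe, T0pull_coe, T0pull_coe]
  apply L0_ext_all P₁
  intro r
  rw [dv_pull0, dv_pull0, dv_pull0]
  exact HI0 P₁ P₃ h.ringHom (τc g g') (hbar_comp h g g') x.1 ((mem_T0_iff P₃ x.1).mp x.2) r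

theorem T1pull_eq_comp (x : T1 P₃ M) : h.T1pull M x = g.T1pull M (g'.T1pull M x) := by
  obtain ⟨z', rfl⟩ := Submodule.Quotient.mk_surjective _ x
  show (Submodule.Quotient.mk (h.cocycles1Pull M z') : T1 P₁ M) =
    Submodule.Quotient.mk (g.cocycles1Pull M (g'.cocycles1Pull M z'))
  rw [Submodule.Quotient.eq, mem_coboundaries1_iff]
  have hz' := (mem_cocycles1_iff P₃ z'.1).mp z'.2
  obtain ⟨δ, hδa, hδm, hδA, hδ⟩ := HI1 P₁ P₃ h.ringHom (τc g g') (hbar_comp h g g')
    (hA_comp h g g') h.relModMap (φc g g') h.jmap_relModMap (φc_jmap g g') z'.1 hz'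
  have hder : IsDer P₁ (M := M) δ :=
    ⟨hδa, fun r s => by rw [hδm, bar_ringHom_smul h, bar_ringHom_smul h], hδA⟩
  obtain ⟨ψ, hψ⟩ := exists_L0_of_isDer P₁ hder
  refine ⟨ψ, fun x => ?_⟩
  rw [hψ, ← hδ, Submodule.coe_sub, PresHom.cocycles1Pull_coe, PresHom.cocycles1Pull_coe,
    PresHom.cocycles1Pull_coe, v1_sub', v1_pull1, v1_pull1, v1_pull1]

theorem pull2_sub_mem (ψ' : L2 P₃ →ₗ[B₃] M) :
    h.pull2 M ψ' - g.pull2 M (g'.pull2 M ψ') ∈ LinearMap.range (d2Star P₁ M) := by
  rw [mem_range_d2Star_iff]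
  obtain ⟨G, hGa, hGs, hGq⟩ := HI2' P₁ P₃ h.ringHom (τc g g') (hbar_comp h g g')
    (hA_comp h g g') h.relModMap (φc g g') (fun x y => map_add _ x y)
    (fun r x => LinearMap.map_smulₛₗ _ r x) h.jmap_relModMap (φc_add g g') (φc_smul g g')
    (φc_jmap g g') ψ'
  obtain ⟨χ, hχ⟩ := exists_L1_of_fun P₁ (φ := G) (M := M) hGa
    (fun r x => by rw [hGs, bar_ringHom_smul h])
  refine ⟨χ, fun q => ?_⟩
  have e1 : v2 P₁ (h.pull2 M ψ' - g.pull2 M (g'.pull2 M ψ')) q =
      v2 P₁ (h.pull2 M ψ') q - v2 P₁ (g.pull2 M (g'.pull2 M ψ')) q := rfl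
  have e2 : v2 P₁ (h.pull2 M ψ') q = v2 P₃ ψ' (h.relKerMap q) := v2_pull2 h ψ' q
  have e3 : v2 P₁ (g.pull2 M (g'.pull2 M ψ')) q = v2 P₃ ψ' (g'.relKerMap (g.relKerMap q)) :=
    (v2_pull2 g _ q).trans (v2_pull2 g' ψ' _)
  rw [hχ, e1, e2, e3]
  exact hGq q _ _

set_option maxHeartbeats 1000000 in
theorem T2pull_eq_comp (x : T2 P₃ M) : h.T2pull M x = g.T2pull M (g'.T2pull M x) := by
  obtain ⟨ψ', rfl⟩ := Submodule.Quotient.mk_surjective _ x
  show (Submodule.Quotient.mk (h.pull2 M ψ') : T2 P₁ M) =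
    Submodule.Quotient.mk (g.pull2 M (g'.pull2 M ψ'))
  rw [Submodule.Quotient.eq]
  exact pull2_sub_mem h g g' M ψ'

end Comp

section Id

variable {A B : Type u} {ι σ : Type w} [CommRing A] [CommRing B] [Algebra A B]
variable (P : Algebra.Presentation A B ι σ)
variable (M : Type m) [AddCommGroup M] [Module B M]

lemma id_ringHom (r : P.toExtension.Ring) : (PresHom.id P).ringHom r = r := by
  show MvPolynomial.aeval (fun i => MvPolynomial.X i) r = r
  rw [show (fun i : ι => (MvPolynomial.X i : P.toExtension.Ring)) = MvPolynomial.X from rfl,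
    MvPolynomial.aeval_X_left]
  rfl

lemma id_relModMap (x : relMod P) : (PresHom.id P).relModMap x = x := by
  induction x using Finsupp.induction_linear with
  | zero => rw [map_zero]
  | add x y hx hy => rw [map_add, hx, hy]
  | single s r =>
    rw [PresHom.relModMap_single, id_ringHom]
    show r • (Finsupp.single s 1 : relMod P) = Finsupp.single s r
    rw [Finsupp.smul_single, smul_eq_mul, mul_one]

lemma id_relKerMap (q : relKer P) : (PresHom.id P).relKerMap q = q :=
  Subtype.ext (id_relModMap P q)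

theorem id_T0pull (x : T0 P M) : (PresHom.id P).T0pull M x = x := by
  apply Subtype.ext
  rw [T0pull_coe]
  apply L0_ext_all P
  intro r
  rw [dv_pull0, id_ringHom]

theorem id_T1pull (x : T1 P M) : (PresHom.id P).T1pull M x = x := by
  obtain ⟨z, rfl⟩ := Submodule.Quotient.mk_surjective _ x
  show (Submodule.Quotient.mk ((PresHom.id P).cocycles1Pull M z) : T1 P M) = _
  congr 1
  apply Subtype.ext
  rw [PresHom.cocycles1Pull_coe]
  apply L1_ext P
  intro s
  rw [v1_pull1, id_relModMap]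

theorem id_T2pull (x : T2 P M) : (PresHom.id P).T2pull M x = x := by
  obtain ⟨ψ, rfl⟩ := Submodule.Quotient.mk_surjective _ x
  show (Submodule.Quotient.mk ((PresHom.id P).pull2 M ψ) : T2 P M) = _
  congr 1
  apply L2_ext P
  intro q
  rw [v2_pull2, id_relKerMap]

variable {ι' σ' : Type w} {P} {P' : Algebra.Presentation A B ι' σ'}

theorem T0pull_comp_id (k : PresHom P P') (k' : PresHom P' P) (x : T0 P M) : k.T0pull M (k'.T0pull M x) = x := by
  rw [← T0pull_eq_comp (PresHom.id P) k k' M x, id_T0pull]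

theorem T1pull_comp_id (k : PresHom P P') (k' : PresHom P' P) (x : T1 P M) : k.T1pull M (k'.T1pull M x) = x := by
  rw [← T1pull_eq_comp (PresHom.id P) k k' M x, id_T1pull]

theorem T2pull_comp_id (k : PresHom P P') (k' : PresHom P' P) (x : T2 P M) : k.T2pull M (k'.T2pull M x) = x := by
  rw [← T2pull_eq_comp (PresHom.id P) k k' M x, id_T2pull]

theorem T0pull_bijective (k : PresHom P P') (k' : PresHom P' P) : Function.Bijective (k.T0pull M) :=
  ⟨Function.LeftInverse.injective (g := k'.T0pull M) (T0pull_comp_id M k' k),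
    Function.RightInverse.surjective (g := k'.T0pull M) (T0pull_comp_id M k k')⟩

theorem T1pull_bijective (k : PresHom P P') (k' : PresHom P' P) : Function.Bijective (k.T1pull M) :=
  ⟨Function.LeftInverse.injective (g := k'.T1pull M) (T1pull_comp_id M k' k),
    Function.RightInverse.surjective (g := k'.T1pull M) (T1pull_comp_id M k k')⟩

theorem T2pull_bijective (k : PresHom P P') (k' : PresHom P' P) : Function.Bijective (k.T2pull M) :=
  ⟨Function.LeftInverse.injective (g := k'.T2pull M) (T2pull_comp_id M k' k),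
    Function.RightInverse.surjective (g := k'.T2pull M) (T2pull_comp_id M k k')⟩

end Id

end

end Groth.Agent.Lib.LeadJZ
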