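import Groth.Agent.Lib.LeadJZF
import Groth.Agent.Lib.LeadJZC

/-!
# Jacobi–Zariski: the nine-term exact sequence for the choice-free presentations
-/

set_option autoImplicit false
set_option maxHeartbeats 400000
set_option linter.style.haveILetI false
set_option linter.unusedSectionVars false
set_option linter.unusedVariables false

universe u w m

open TensorProduct

namespace Groth.Agent.Lib.LeadJZ

open CotT

noncomputable section

section Default

variable {A B : Type u} [CommRing A] [CommRing B] [Algebra A B] {ι₁ σ₁ ι₂ σ₂ : Type w}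
  (P₁ : Algebra.Presentation A B ι₁ σ₁) (P₂ : Algebra.Presentation A B ι₂ σ₂)

lemma exists_relVal (s : σ₁) : ∃ y : relMod P₂, jmap P₂ y =
    (Algebra.Generators.defaultHom P₁.toGenerators P₂.toGenerators).toExtensionHom.toRingHom
      (rel P₁ s) := by
  apply exists_jmap_eq P₂
  show algebraMap P₂.toExtension.Ring B _ = 0
  rw [Algebra.Extension.Hom.algebraMap_toRingHom, algebraMap_rel, map_zero]

/-- a morphism between two presentations of the same algebra -/
def defaultPresHom : PresHom P₁ P₂ where
  hom := Algebra.Generators.defaultHom P₁.toGenerators P₂.toGenerators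
  relVal s := Classical.choose (exists_relVal P₁ P₂ s)
  jmap_relVal s := Classical.choose_spec (exists_relVal P₁ P₂ s)

end Default

section Transport

variable {X Y Y₀ Z : Type*}

lemma exact_mid [Zero Z] {f : X → Y} {g : Y → Z} {c : Y → Y₀} (hc : Function.Bijective c)
    {f₀ : X → Y₀} {g₀ : Y₀ → Z} (hf : ∀ x, f₀ x = c (f x)) (hg : ∀ y, g y = g₀ (c y))
    (h : Function.Exact f g) : Function.Exact f₀ g₀ := by
  intro y₀
  obtain ⟨y, rfl⟩ := hc.surjective y₀
  rw [← hg, h y]
  constructor
  · rintro ⟨x, rfl⟩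
    exact ⟨x, hf x⟩
  · rintro ⟨x, hx⟩
    exact ⟨x, hc.injective (by rw [← hf, hx])⟩

lemma exact_right {Z₀ : Type*} [Zero Z] [Zero Z₀] {f : X → Y} {g : Y → Z} {c : Z → Z₀}
    (hc : Function.Injective c) (hc0 : c 0 = 0) {g₀ : Y → Z₀} (hg : ∀ y, g₀ y = c (g y))
    (h : Function.Exact f g) : Function.Exact f g₀ := by
  intro y
  rw [← h y, hg]
  constructor
  · intro hy
    exact hc (hy.trans hc0.symm)
  · intro hy
    rw [hy, hc0]

lemma exact_left {X₀ : Type*} [Zero Z] {f : X → Y} {g : Y → Z} {c : X → X₀}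
    (hc : Function.Surjective c) {f₀ : X₀ → Y} (hf : ∀ x, f x = f₀ (c x))
    (h : Function.Exact f g) : Function.Exact f₀ g := by
  intro y
  rw [h y]
  constructor
  · rintro ⟨x, rfl⟩
    exact ⟨c x, (hf x).symm⟩
  · rintro ⟨x₀, rfl⟩
    obtain ⟨x, rfl⟩ := hc x₀
    exact ⟨x, hf x⟩

end Transport

section Main

variable (A B C : Type u) [CommRing A] [CommRing B] [CommRing C] [Algebra A B] [Algebra B C]
  [Algebra A C] [IsScalarTower A B C]
variable (M : Type m) [AddCommGroup M] [Module C M] [Module B M] [IsScalarTower B C M]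

/-- the comparison morphism `canon A C → (canon B C).comp (canon A B)` -/
abbrev kk : PresHom (canon A C) ((canon B C).comp (canon A B)) :=
  defaultPresHom (canon A C) ((canon B C).comp (canon A B))

/-- the comparison morphism `(canon B C).comp (canon A B) → canon A C` -/
abbrev kk' : PresHom ((canon B C).comp (canon A B)) (canon A C) :=
  defaultPresHom ((canon B C).comp (canon A B)) (canon A C)

lemma c2_T0 (x : T0 (canon B C) M) : (canonHom A C B C).T0pull M x =
    (kk A B C).T0pull M ((hh₂ (canon A B) (canon B C)).T0pull M x) :=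
  T0pull_eq_comp (canonHom A C B C) (kk A B C) (hh₂ (canon A B) (canon B C)) M x

lemma c2_T1 (x : T1 (canon B C) M) : (canonHom A C B C).T1pull M x =
    (kk A B C).T1pull M ((hh₂ (canon A B) (canon B C)).T1pull M x) :=
  T1pull_eq_comp (canonHom A C B C) (kk A B C) (hh₂ (canon A B) (canon B C)) M x

lemma c2_T2 (x : T2 (canon B C) M) : (canonHom A C B C).T2pull M x =
    (kk A B C).T2pull M ((hh₂ (canon A B) (canon B C)).T2pull M x) :=
  T2pull_eq_comp (canonHom A C B C) (kk A B C) (hh₂ (canon A B) (canon B C)) M x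

lemma c1_T0 (x : T0 ((canon B C).comp (canon A B)) M) :
    (hh₁ (canon A B) (canon B C)).T0pull M x =
      (canonHom A B A C).T0pull M ((kk A B C).T0pull M x) :=
  T0pull_eq_comp (hh₁ (canon A B) (canon B C)) (canonHom A B A C) (kk A B C) M x

lemma c1_T1 (x : T1 ((canon B C).comp (canon A B)) M) :
    (hh₁ (canon A B) (canon B C)).T1pull M x =
      (canonHom A B A C).T1pull M ((kk A B C).T1pull M x) :=
  T1pull_eq_comp (hh₁ (canon A B) (canon B C)) (canonHom A B A C) (kk A B C) M x

lemma c1_T2 (x : T2 ((canon B C).comp (canon A B)) M) :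
    (hh₁ (canon A B) (canon B C)).T2pull M x =
      (canonHom A B A C).T2pull M ((kk A B C).T2pull M x) :=
  T2pull_eq_comp (hh₁ (canon A B) (canon B C)) (canonHom A B A C) (kk A B C) M x


lemma kk_T0_bij : Function.Bijective ((kk A B C).T0pull M) :=
  T0pull_bijective M (kk A B C) (kk' A B C)

lemma kk_T1_bij : Function.Bijective ((kk A B C).T1pull M) :=
  T1pull_bijective M (kk A B C) (kk' A B C)

lemma kk_T2_bij : Function.Bijective ((kk A B C).T2pull M) :=
  T2pull_bijective M (kk A B C) (kk' A B C)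

theorem nine_term :
    Function.Injective ((canonHom A C B C).T0pull M) ∧
    Function.Exact ((canonHom A C B C).T0pull M) ((canonHom A B A C).T0pull M) ∧
    Function.Exact ((canonHom A C B C).T1pull M) ((canonHom A B A C).T1pull M) ∧
    Function.Exact ((canonHom A C B C).T2pull M) ((canonHom A B A C).T2pull M) ∧
    ∃ (δ₀ : T0 (canon A B) M →+ T1 (canon B C) M)
      (δ₁ : T1 (canon A B) M →+ T2 (canon B C) M),
      Function.Exact ((canonHom A B A C).T0pull M) δ₀ ∧
      Function.Exact δ₀ ((canonHom A C B C).T1pull M) ∧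
      Function.Exact ((canonHom A B A C).T1pull M) δ₁ ∧
      Function.Exact δ₁ ((canonHom A C B C).T2pull M) := by
  have H : SES (hh₁ (canon A B) (canon B C)) (hh₂ (canon A B) (canon B C)) M :=
    sp_SES (canon A B) (canon B C) M
  refine ⟨?_, ?_, ?_, ?_, H.δ0, H.δ1, ?_, ?_, ?_, ?_⟩
  · intro x y hxy
    rw [c2_T0, c2_T0] at hxy
    exact H.T0_inj ((kk_T0_bij A B C M).injective hxy)
  · exact exact_mid (kk_T0_bij A B C M) (c2_T0 A B C M) (c1_T0 A B C M) H.T0_exact
  · exact exact_mid (kk_T1_bij A B C M) (c2_T1 A B C M) (c1_T1 A B C M) H.T1_exact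
  · exact exact_mid (kk_T2_bij A B C M) (c2_T2 A B C M) (c1_T2 A B C M) H.T2_exact
  · exact exact_left (kk_T0_bij A B C M).surjective (c1_T0 A B C M) H.exact_T0_δ0
  · exact exact_right (kk_T1_bij A B C M).injective (map_zero _) (c2_T1 A B C M) H.exact_δ0_T1
  · exact exact_left (kk_T1_bij A B C M).surjective (c1_T1 A B C M) H.exact_T1_δ1
  · exact exact_right (kk_T2_bij A B C M).injective (map_zero _) (c2_T2 A B C M) H.exact_δ1_T2

end Main

end

end Groth.Agent.Lib.LeadJZ
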