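import Groth.Agent.Lib.Helper19KosLoc
import Groth.Agent.Lib.LeadJZG
import Groth.Agent.Lib.Helper5RLR3
import Groth.Agent.Lib.Helper28DepthCM2
import Groth.Agent.S2103
import Groth.Agent.S5803

/-!
# Complete intersections and the vanishing of `T²` (lead)

For a regular local `k`-algebra `A` with `T¹(A/k, -) = T²(A/k, -) = 0` and a proper ideal `I`,
`A/I` is a complete intersection in `A` iff `T²((A/I)/k, M) = 0` for all `M`.
-/

set_option autoImplicit false
set_option maxHeartbeats 400000
set_option linter.style.haveILetI false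
set_option linter.unusedSectionVars false
set_option linter.unusedVariables false

universe u v w t m

noncomputable section

namespace Groth.Agent.Lib.LeadCI

open Groth.Agent.Lib.Helper19 Groth.Agent.Lib.Helper19.Kos Groth.Agent.Lib.Helper19.CotTVanish

/-! ## comparison of the canonical `T²` with the Koszul-type `T²` of chosen generators -/

section Compare

variable {A : Type u} {B : Type v} [CommRing A] [CommRing B] [Algebra A B] {ι : Type w}
  {σ : Type t} (P : Algebra.Presentation A B ι σ) (M : Type m) [AddCommGroup M] [Module B M]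

theorem nonempty_T2_equiv_kos (hsurj : Function.Surjective (algebraMap A B))
    {n : ℕ} (g : Fin n → A)
    (hI : RingHom.ker (algebraMap A B) = Ideal.span (Set.range g))
    (hg : ∀ i, algebraMap A B (g i) = 0) :
    Nonempty (CotT.T2 P M ≃ₗ[B] Kos.T2 A B g hg M) := by
  haveI : Algebra.FormallySmooth A P.toExtension.Ring :=
    inferInstanceAs (Algebra.FormallySmooth A (MvPolynomial ι A))
  let h' : P.toExtension.Ring →ₐ[A] A :=
    (MvPolynomial.aeval (fun i => Function.surjInv hsurj (P.val i)) : MvPolynomial ι A →ₐ[A] A)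
  have hh' : ∀ x, algebraMap A B (h' x) = algebraMap P.toExtension.Ring B x := by
    intro x
    have : (Algebra.ofId A B).comp h' = IsScalarTower.toAlgHom A P.toExtension.Ring B := by
      refine MvPolynomial.algHom_ext fun i => ?_
      show algebraMap A B (MvPolynomial.aeval (fun i => Function.surjInv hsurj (P.val i))
        (MvPolynomial.X i)) = algebraMap P.toExtension.Ring B (MvPolynomial.X i)
      rw [MvPolynomial.aeval_X, Function.surjInv_eq hsurj]
      exact ((CotT.algebraMap_toExtension P (MvPolynomial.X i)).trans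
        (MvPolynomial.aeval_X _ _)).symm
    exact AlgHom.congr_fun this x
  obtain ⟨e⟩ := nonempty_T2_equiv_of_formallySmooth (A := A) (S := P.toExtension.Ring) (S' := A)
    (B := B) (f' := g)
    (CotT.algebraMap_rel P) hg (Algebra.ofId A P.toExtension.Ring)
    (fun x => (IsScalarTower.algebraMap_apply A P.toExtension.Ring B x).symm)
    h' hh'
    (jm_span P) (fun z hz => by
      have hz' : z ∈ Ideal.span (Set.range g) := by rw [← hI]; exact hz
      rw [Ideal.span, ← Finsupp.range_linearCombination] at hz'
      exact hz') M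
  exact ⟨(bridge P M).trans e⟩

end Compare

/-! ## `Q ≤ F₀` gives an `H₁`-regular, hence regular, sequence -/

section H1

variable {S : Type u} [CommRing S] {n : ℕ} (g : Fin n → S)

/-- the span of the trivial relations in function form -/
def trivSpan : Submodule S (Fin n → S) :=
  Submodule.span S {v : Fin n → S | ∃ i j : Fin n, v = Pi.single i (g j) - Pi.single j (g i)}

lemma e_kos_single (i j : Fin n) (x y : S) :
    (Finsupp.linearEquivFunOnFinite S S (Fin n))
      (jm S g (Finsupp.single i x) • Finsupp.single j y -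
        jm S g (Finsupp.single j y) • Finsupp.single i x) ∈ trivSpan g := by
  classical
  have h1 : (Finsupp.linearEquivFunOnFinite S S (Fin n))
      (jm S g (Finsupp.single i x) • Finsupp.single j y -
        jm S g (Finsupp.single j y) • Finsupp.single i x) =
      (x * y) • (Pi.single j (g i) - Pi.single i (g j) : Fin n → S) := by
    funext k
    rw [jm_single, jm_single]
    simp only [map_sub, map_smul, Finsupp.linearEquivFunOnFinite_single, Pi.sub_apply,
      Pi.smul_apply, smul_eq_mul, Pi.single_apply]
    split_ifs <;> ring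
  rw [h1]
  exact Submodule.smul_mem _ _ (Submodule.subset_span ⟨j, i, rfl⟩)

lemma e_kos_mem (a b : Fin n →₀ S) :
    (Finsupp.linearEquivFunOnFinite S S (Fin n)) (jm S g a • b - jm S g b • a) ∈ trivSpan g := by
  classical
  induction a using Finsupp.induction_linear with
  | zero =>
    rw [map_zero, zero_smul, smul_zero, sub_zero, map_zero]
    exact Submodule.zero_mem _
  | add a a' ha ha' =>
    have : jm S g (a + a') • b - jm S g b • (a + a') =
        (jm S g a • b - jm S g b • a) + (jm S g a' • b - jm S g b • a') := by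
      rw [map_add, add_smul, smul_add]; abel
    rw [this, map_add]
    exact Submodule.add_mem _ ha ha'
  | single i x =>
    induction b using Finsupp.induction_linear with
    | zero =>
      rw [map_zero, zero_smul, smul_zero, sub_zero, map_zero]
      exact Submodule.zero_mem _
    | add b b' hb hb' =>
      have : jm S g (Finsupp.single i x) • (b + b') - jm S g (b + b') • Finsupp.single i x =
          (jm S g (Finsupp.single i x) • b - jm S g b • Finsupp.single i x) +
          (jm S g (Finsupp.single i x) • b' - jm S g b' • Finsupp.single i x) := by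
        rw [map_add, add_smul, smul_add]; abel
      rw [this, map_add]
      exact Submodule.add_mem _ hb hb'
    | single j y => exact e_kos_single g i j x y

theorem isH1Regular_of_Q_le_F0 (h : Q S g ≤ F0 S g) : CAlgX.IsH1Regular g := by
  classical
  intro a ha
  have hx : (Finsupp.linearEquivFunOnFinite S S (Fin n)).symm a ∈ Q S g := by
    rw [mem_Q, jm, Finsupp.linearCombination_apply,
      Finsupp.sum_fintype _ (fun i c => c • g i) (fun i => zero_smul _ _), ← ha]
    refine Finset.sum_congr rfl fun i _ => ?_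
    rw [smul_eq_mul]
    rfl
  have hle : F0 S g ≤ (trivSpan g).comap
      (Finsupp.linearEquivFunOnFinite S S (Fin n)).toLinearMap := by
    refine Submodule.span_le.mpr ?_
    rintro _ ⟨a, b, rfl⟩
    exact e_kos_mem g a b
  have h2 := hle (h hx)
  rw [Submodule.mem_comap, LinearEquiv.coe_coe, LinearEquiv.apply_symm_apply] at h2
  exact h2

theorem isWeaklyRegular_of_Q_le_F0 [IsNoetherianRing S] (hj : ∀ i, g i ∈ Ring.jacobson S)
    (h : Q S g ≤ F0 S g) : RingTheory.Sequence.IsWeaklyRegular S (List.ofFn g) :=
  Groth.Agent.S5803.result S n g hj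
    (Groth.Agent.S2103.result g (isH1Regular_of_Q_le_F0 g h))

end H1

/-! ## minimal generators -/

section MinGen

variable {S : Type u} [CommRing S]

lemma span_succAbove_eq {m : ℕ} (g : Fin (m + 1) → S) (x : Fin (m + 1) →₀ S)
    (hx : x ∈ Q S g) (i : Fin (m + 1)) (hu : IsUnit (x i)) :
    Ideal.span (Set.range (g ∘ i.succAbove)) = Ideal.span (Set.range g) := by
  classical
  apply le_antisymm
  · exact Ideal.span_mono (Set.range_comp_subset_range _ _)
  · refine Ideal.span_le.mpr ?_
    rintro _ ⟨j, rfl⟩
    by_cases hji : j = i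
    · subst hji
      have h0 : ∑ l, x l * g l = 0 := by
        have := (mem_Q S g x).mp hx
        rw [jm, Finsupp.linearCombination_apply,
          Finsupp.sum_fintype _ (fun i c => c • g i) (fun i => zero_smul _ _)] at this
        simpa [smul_eq_mul] using this
      rw [Fin.sum_univ_succAbove _ j] at h0
      have h1 : x j * g j = - ∑ l : Fin m, x (j.succAbove l) * g (j.succAbove l) :=
        eq_neg_of_add_eq_zero_left h0
      have h2 : x j * g j ∈ Ideal.span (Set.range (g ∘ j.succAbove)) := by
        rw [h1]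
        refine Ideal.neg_mem_iff _ |>.mpr (Ideal.sum_mem _ fun l _ => ?_)
        exact Ideal.mul_mem_left _ _ (Ideal.subset_span ⟨l, rfl⟩)
      obtain ⟨u, hu'⟩ := hu
      have h3 : g j = (↑u⁻¹ : S) * (x j * g j) := by
        rw [← mul_assoc, ← hu', Units.inv_mul, one_mul]
      rw [SetLike.mem_coe, h3]
      exact Ideal.mul_mem_left _ _ h2
    · obtain ⟨l, rfl⟩ := Fin.exists_succAbove_eq hji
      exact Ideal.subset_span ⟨l, rfl⟩

theorem exists_min_gens [IsLocalRing S] (I : Ideal S) (hfg : I.FG) :
    ∃ (n : ℕ) (g : Fin n → S), Ideal.span (Set.range g) = I ∧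
      ∀ x ∈ Q S g, ∀ i, x i ∈ IsLocalRing.maximalIdeal S := by
  classical
  have hex : ∃ n : ℕ, ∃ g : Fin n → S, Ideal.span (Set.range g) = I :=
    Submodule.fg_iff_exists_fin_generating_family.mp hfg
  obtain ⟨n, g, hg, hmin⟩ : ∃ (n : ℕ) (g : Fin n → S), Ideal.span (Set.range g) = I ∧
      ∀ m < n, ¬ ∃ g' : Fin m → S, Ideal.span (Set.range g') = I := by
    obtain ⟨g, hg⟩ := Nat.find_spec hex
    exact ⟨Nat.find hex, g, hg, fun m hm => Nat.find_min hex hm⟩
  refine ⟨n, g, hg, ?_⟩
  intro x hx i
  by_contra hni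
  have hu : IsUnit (x i) := by
    by_contra h
    exact hni ((IsLocalRing.mem_maximalIdeal _).mpr h)
  cases n with
  | zero => exact i.elim0
  | succ m =>
    exact hmin m (Nat.lt_succ_self m) ⟨g ∘ i.succAbove, (span_succAbove_eq g x hx i hu).trans hg⟩

end MinGen

/-! ## `T² = 0` forces `Q ≤ F₀` for minimal generators -/

section Split

variable {S : Type u} [CommRing S] {n : ℕ} (g : Fin n → S)

instance Q_addCommGroup : AddCommGroup ↥(Q S g) := inferInstance

/-- the test module `Q/F₀` -/
abbrev Mq : Type u := (Q S g) ⧸ (F0Q S g)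

lemma Mq_torsion : Module.IsTorsionBySet S (Mq g) (Ideal.span (Set.range g) : Set S) := by
  intro x a
  obtain ⟨q, rfl⟩ := Submodule.Quotient.mk_surjective _ x
  rw [← Submodule.Quotient.mk_smul, Submodule.Quotient.mk_eq_zero, mem_F0Q]
  exact smul_mem_F0 q.2 a.2

theorem Q_le_F0_of_T2 [IsLocalRing S] [IsNoetherianRing S]
    (hmin : ∀ x ∈ Q S g, ∀ i, x i ∈ IsLocalRing.maximalIdeal S)
    (hg : ∀ i, algebraMap S (S ⧸ Ideal.span (Set.range g)) (g i) = 0)
    (hT : ∀ (M : Type u) [AddCommGroup M] [Module (S ⧸ Ideal.span (Set.range g)) M],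
      Subsingleton (Kos.T2 S (S ⧸ Ideal.span (Set.range g)) g hg M)) :
    Q S g ≤ F0 S g := by
  classical
  letI modB : Module (S ⧸ Ideal.span (Set.range g)) (Mq g) := (Mq_torsion g).module
  haveI tower : IsScalarTower S (S ⧸ Ideal.span (Set.range g)) (Mq g) :=
    (Mq_torsion g).isScalarTower
  have hsub := hT (Mq g)
  obtain ⟨ψ, hψ⟩ : ∃ ψ : L2 S (S ⧸ Ideal.span (Set.range g)) g →ₗ[S ⧸ Ideal.span (Set.range g)]
      Mq g, ψ = lift2 (B := S ⧸ Ideal.span (Set.range g)) (Submodule.mkQ (F0Q S g))
        (fun q hq => by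
          rw [Submodule.mkQ_apply, Submodule.Quotient.mk_eq_zero]; exact hq) := ⟨_, rfl⟩
  have hmem : ψ ∈ LinearMap.range
      (LinearMap.lcomp (S ⧸ Ideal.span (Set.range g)) (Mq g) (d2 hg)) := by
    rw [← Submodule.Quotient.mk_eq_zero]
    exact Subsingleton.elim _ _
  obtain ⟨G, hG⟩ := (mem_range_lcomp_d2_iff hg ψ).mp hmem
  have hG' : ∀ q : Q S g, G (q : Fin n →₀ S) = Submodule.Quotient.mk q := fun q => by
    rw [hG q, hψ, at2_lift2]
    rfl
  have hle : (⊤ : Submodule S (Mq g)) ≤ IsLocalRing.maximalIdeal S • ⊤ := by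
    intro x _
    obtain ⟨q, rfl⟩ := Submodule.Quotient.mk_surjective _ x
    rw [← hG' q]
    have hsum : (q : Fin n →₀ S) = ∑ i, (q : Fin n →₀ S) i • Finsupp.single i (1 : S) := by
      conv_lhs => rw [← Finsupp.univ_sum_single (q : Fin n →₀ S)]
      refine Finset.sum_congr rfl fun i _ => ?_
      rw [Finsupp.smul_single, smul_eq_mul, mul_one]
    rw [hsum, map_sum]
    refine Submodule.sum_mem _ fun i _ => ?_
    rw [map_smul]
    exact Submodule.smul_mem_smul (hmin _ q.2 i) Submodule.mem_top
  haveI : IsNoetherian S (Fin n →₀ S) := inferInstance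
  haveI : Module.Finite S (Q S g) := Module.IsNoetherian.finite S _
  have hbot : (⊤ : Submodule S (Mq g)) = ⊥ :=
    Submodule.eq_bot_of_le_smul_of_le_jacobson_bot (IsLocalRing.maximalIdeal S) ⊤
      Module.Finite.fg_top hle (IsLocalRing.maximalIdeal_le_jacobson ⊥)
  intro x hx
  have h1 : (Submodule.Quotient.mk (⟨x, hx⟩ : Q S g) : Mq g) ∈ (⊤ : Submodule S (Mq g)) :=
    Submodule.mem_top
  rw [hbot, Submodule.mem_bot, Submodule.Quotient.mk_eq_zero] at h1
  exact h1

end Split

/-! ## the Jacobi–Zariski step -/

section JZ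

open CotT

variable (k A : Type u) [CommRing k] [CommRing A] [Algebra k A] (I : Ideal A)
  (M : Type u) [AddCommGroup M] [Module (A ⧸ I) M] [Module A M] [IsScalarTower A (A ⧸ I) M]

theorem T2pull_bijective (h1 : Subsingleton (T1 (canon k A) M))
    (h2 : Subsingleton (T2 (canon k A) M)) :
    Function.Bijective ((canonHom k (A ⧸ I) A (A ⧸ I)).T2pull M) := by
  have H := Groth.Agent.Lib.LeadJZ.nine_term k A (A ⧸ I) M
  have hex2 := H.2.2.2.1
  have H2 := H.2.2.2.2
  obtain ⟨δ₀, δ₁, hrest⟩ := H2
  have hδ := hrest.2.2.2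
  constructor
  · rw [injective_iff_map_eq_zero]
    intro x hx
    obtain ⟨t, rfl⟩ := (hδ x).mp hx
    rw [Subsingleton.elim t 0, map_zero]
  · intro y
    exact (hex2 y).mp (Subsingleton.elim _ _)

theorem T2_subsingleton_iff (h1 : Subsingleton (T1 (canon k A) M))
    (h2 : Subsingleton (T2 (canon k A) M)) :
    Subsingleton (T2 (canon k (A ⧸ I)) M) ↔ Subsingleton (T2 (canon A (A ⧸ I)) M) := by
  have hb := T2pull_bijective k A I M h1 h2
  constructor
  · intro h
    exact hb.1.subsingleton
  · intro h
    exact hb.2.subsingleton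

end JZ

end Groth.Agent.Lib.LeadCI
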