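import Groth.Agent.Lib.LeadCIa

/-!
# Complete intersections and the vanishing of `T²`: the final assembly (lead)
-/

set_option autoImplicit false
set_option maxHeartbeats 400000
set_option linter.style.haveILetI false
set_option linter.unusedSectionVars false
set_option linter.unusedVariables false

universe u

noncomputable section

namespace Groth.Agent.Lib.LeadCI

open CotT Groth.Agent.Lib.Helper19 Groth.Agent.Lib.Helper19.Kos
  Groth.Agent.Lib.Helper19.CotTVanish

/-- over a base with `T¹ = T² = 0`, `T²((A/I)/k, M) = 0` iff `T²((A/I)/A, M) = 0` -/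
theorem T2_k_iff_T2_A (k A : Type u) [CommRing k] [CommRing A] [Algebra k A]
    (hT : ∀ (N : Type u) [AddCommGroup N] [Module A N],
      Subsingleton (T1 (canon k A) N) ∧ Subsingleton (T2 (canon k A) N))
    (I : Ideal A) (M : Type u) [AddCommGroup M] [Module (A ⧸ I) M] :
    Subsingleton (T2 (canon k (A ⧸ I)) M) ↔ Subsingleton (T2 (canon A (A ⧸ I)) M) := by
  letI : Module A M := Module.compHom M (algebraMap A (A ⧸ I))
  haveI : IsScalarTower A (A ⧸ I) M := ⟨fun a b m => by
    rw [Algebra.smul_def, mul_smul]; rfl⟩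
  have h12 := hT M
  exact T2_subsingleton_iff k A I M h12.1 h12.2

/-- a complete intersection in a regular local ring has `T² = 0` -/
theorem T2_of_ci (A : Type u) [CommRing A] [IsRegularLocalRing A] (I : Ideal A) (hI : I ≠ ⊤)
    (rs : List A) (hrs : Ideal.ofList rs = I)
    (hdim : (rs.length : WithBot ℕ∞) + ringKrullDim (A ⧸ I) = ringKrullDim A)
    (M : Type u) [AddCommGroup M] [Module (A ⧸ I) M] :
    Subsingleton (T2 (canon A (A ⧸ I)) M) := by
  subst hrs
  have hle : Ideal.ofList rs ≤ IsLocalRing.maximalIdeal A := IsLocalRing.le_maximalIdeal hI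
  have hxs : ∀ x ∈ rs, x ∈ IsLocalRing.maximalIdeal A := fun x hx => hle (Ideal.subset_span hx)
  have hCM : LocCoh.IsCohenMacaulayModule A A :=
    (Groth.Agent.Lib.Helper5.isCohenMacaulayLocalRing_of_isRegularLocalRing A).supportDim_eq_depth
  have eq : (Ideal.ofList rs • ⊤ : Submodule A A) = Ideal.ofList rs := by simp
  have hdim' : Module.supportDim A (A ⧸ (Ideal.ofList rs • ⊤ : Submodule A A)) + rs.length =
      Module.supportDim A A := by
    rw [Module.supportDim_eq_of_equiv (Submodule.quotEquivOfEq _ _ eq),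
      Module.supportDim_quotient_eq_ringKrullDim, Module.supportDim_self_eq_ringKrullDim,
      add_comm]
    exact hdim
  have hreg : RingTheory.Sequence.IsWeaklyRegular A rs :=
    Groth.Agent.Lib.Helper28.isWeaklyRegular_of_supportDim_add_length_eq rs A hCM hxs hdim'
  have hsurj : Function.Surjective (algebraMap A (A ⧸ Ideal.ofList rs)) :=
    Ideal.Quotient.mk_surjective
  refine T2_subsingleton_of_isWeaklyRegular (canon A (A ⧸ Ideal.ofList rs)) M hsurj rs.get ?_ ?_
  · rw [List.ofFn_get]; exact hreg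
  · rw [Ideal.Quotient.algebraMap_eq, Ideal.mk_ker]
    unfold Ideal.ofList
    congr 1
    ext x
    simp [List.mem_iff_get]

/-- in a regular local ring, `T²((A/I)/A, -) = 0` forces `A/I` to be a complete intersection -/
theorem ci_of_T2 (A : Type u) [CommRing A] [IsRegularLocalRing A] (I : Ideal A) (hI : I ≠ ⊤)
    (h : ∀ (M : Type u) [AddCommGroup M] [Module (A ⧸ I) M],
      Subsingleton (T2 (canon A (A ⧸ I)) M)) :
    ∃ rs : List A, Ideal.ofList rs = I ∧
      (rs.length : WithBot ℕ∞) + ringKrullDim (A ⧸ I) = ringKrullDim A := by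
  obtain ⟨n, g, hg, hmin⟩ := exists_min_gens I (IsNoetherian.noetherian I)
  subst hg
  have hker : RingHom.ker (algebraMap A (A ⧸ Ideal.span (Set.range g))) =
      Ideal.span (Set.range g) := by
    rw [Ideal.Quotient.algebraMap_eq]; exact Ideal.mk_ker
  have hsurj : Function.Surjective (algebraMap A (A ⧸ Ideal.span (Set.range g))) :=
    Ideal.Quotient.mk_surjective
  have hg0 : ∀ i, algebraMap A (A ⧸ Ideal.span (Set.range g)) (g i) = 0 := fun i => by
    rw [← RingHom.mem_ker, hker]; exact Ideal.subset_span ⟨i, rfl⟩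
  have hQ : Q A g ≤ F0 A g := by
    refine Q_le_F0_of_T2 g hmin hg0 ?_
    intro M _ _
    obtain ⟨e⟩ := nonempty_T2_equiv_kos (canon A (A ⧸ Ideal.span (Set.range g))) M hsurj g
      hker hg0
    haveI := h M
    exact e.symm.toEquiv.subsingleton
  have hjac : ∀ i, g i ∈ Ring.jacobson A := fun i => by
    rw [IsLocalRing.ringJacobson_eq_maximalIdeal]
    exact IsLocalRing.le_maximalIdeal hI (Ideal.subset_span ⟨i, rfl⟩)
  have hreg := isWeaklyRegular_of_Q_le_F0 g hjac hQ
  have hof : Ideal.ofList (List.ofFn g) = Ideal.span (Set.range g) :=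
    Groth.Agent.Lib.Helper5.ofList_ofFn_eq_span_range g
  have hsm : (Ideal.ofList (List.ofFn g) • ⊤ : Submodule A A) = Ideal.span (Set.range g) := by
    rw [hof]; simp
  have hR : RingTheory.Sequence.IsRegular A (List.ofFn g) :=
    ⟨hreg, fun htop => hI (by rw [← hsm]; exact htop.symm)⟩
  have hd := ringKrullDim_add_length_eq_ringKrullDim_of_isRegular (List.ofFn g) hR
  refine ⟨List.ofFn g, hof, ?_⟩
  rw [hof] at hd
  rw [add_comm]
  exact hd

/-- the main equivalence -/
theorem ci_iff (k A : Type u) [CommRing k] [CommRing A] [IsRegularLocalRing A] [Algebra k A]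
    (hT : ∀ (N : Type u) [AddCommGroup N] [Module A N],
      Subsingleton (T1 (canon k A) N) ∧ Subsingleton (T2 (canon k A) N))
    (I : Ideal A) (hI : I ≠ ⊤) :
    (∃ rs : List A, Ideal.ofList rs = I ∧
      (rs.length : WithBot ℕ∞) + ringKrullDim (A ⧸ I) = ringKrullDim A) ↔
      ∀ (M : Type u) [AddCommGroup M] [Module (A ⧸ I) M],
        Subsingleton (T2 (canon k (A ⧸ I)) M) := by
  constructor
  · rintro ⟨rs, hrs, hdim⟩ M _ _
    exact (T2_k_iff_T2_A k A hT I M).mpr (T2_of_ci A I hI rs hrs hdim M)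
  · intro h
    exact ci_of_T2 A I hI (fun M _ _ => (T2_k_iff_T2_A k A hT I M).mp (h M))

end Groth.Agent.Lib.LeadCI
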