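import Mathlib
import Groth.Agent.Lib.Helper8ExtLoc
import Groth.Agent.Lib.Helper29ExtSes
import Groth.Agent.Lib.Helper29GrExtLoc
import Groth.Agent.Lib.LeadBassA

/-!
# Injective dimension from Bass numbers (lead)

Over a Noetherian ring `R`, for any module `M` and a fixed degree `j`: if the local `Ext` groups
`Ext^j_{R_p}(k(p), M_p)` vanish for all primes `p`, then `Ext^j_R(R/I, M) = 0` for all ideals `I`.
Together with a Baer-type criterion this bounds the injective dimension of `M`.
-/

set_option autoImplicit false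
set_option maxHeartbeats 400000
set_option linter.style.haveILetI false
set_option linter.unusedSectionVars false
set_option linter.unusedVariables false

universe u

namespace Groth.Agent.Lib.LeadInj

open CategoryTheory CategoryTheory.Abelian
open scoped Pointwise

section general

variable {R : Type u} [CommRing R]

theorem ext_subsingleton_of_subsingleton (N : Type u) [AddCommGroup N] [Module R N]
    [Subsingleton N] (Y : ModuleCat.{u} R) (j : ℕ) :
    Subsingleton (Ext.{u} (ModuleCat.of R N) Y j) := by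
  have h0 : 𝟙 (ModuleCat.of R N) = 0 := by
    ext x
    exact Subsingleton.elim (α := N) _ _
  have key : ∀ z : Ext.{u} (ModuleCat.of R N) Y j, z = 0 := by
    intro z
    rw [← Ext.mk₀_id_comp z, h0, Ext.mk₀_zero, Ext.zero_comp]
  exact ⟨fun a b => by rw [key a, key b]⟩

/-- `Ext` out of a cyclic module. -/
theorem ext_subsingleton_of_cyclic {N : Type u} [AddCommGroup N] [Module R N] (f : R →ₗ[R] N)
    (hf : Function.Surjective f) (Y : ModuleCat.{u} R) (j : ℕ)
    (h : Subsingleton (Ext.{u} (ModuleCat.of R (R ⧸ LinearMap.ker f)) Y j)) :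
    Subsingleton (Ext.{u} (ModuleCat.of R N) Y j) := by
  let e : (R ⧸ LinearMap.ker f) ≃ₗ[R] N := f.quotKerEquivOfSurjective hf
  exact (LeadBass.extCongrLeft e.toModuleIso Y j).symm.injective.subsingleton

/-- `Ext` out of a cyclic module, with the kernel named. -/
theorem ext_subsingleton_of_cyclic' {N : Type u} [AddCommGroup N] [Module R N] (f : R →ₗ[R] N)
    (hf : Function.Surjective f) (Y : ModuleCat.{u} R) (j : ℕ) (J : Ideal R)
    (hJ : LinearMap.ker f = J)
    (h : Subsingleton (Ext.{u} (ModuleCat.of R (R ⧸ J)) Y j)) :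
    Subsingleton (Ext.{u} (ModuleCat.of R N) Y j) := by
  subst hJ
  exact ext_subsingleton_of_cyclic f hf Y j h


/-- The inductive step at a non-prime proper ideal. -/
theorem ext_subsingleton_of_not_prime (M : Type u) [AddCommGroup M] [Module R M] (j : ℕ)
    (I : Ideal R) (a b : R) (ha : a ∉ I) (hb : b ∉ I) (hab : a * b ∈ I)
    (IH : ∀ J : Ideal R, I < J →
      Subsingleton (Ext.{u} (ModuleCat.of R (R ⧸ J)) (ModuleCat.of R M) j)) :
    Subsingleton (Ext.{u} (ModuleCat.of R (R ⧸ I)) (ModuleCat.of R M) j) := by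
  let μa : R →ₗ[R] (R ⧸ I) := LinearMap.toSpanSingleton R (R ⧸ I) (Ideal.Quotient.mk I a)
  have hμ : ∀ r, μa r = Ideal.Quotient.mk I (r * a) := fun r => by
    rw [LinearMap.toSpanSingleton_apply]
    rfl
  let K : Submodule R (R ⧸ I) := LinearMap.range μa
  have hK : Subsingleton (Ext.{u} (ModuleCat.of R K) (ModuleCat.of R M) j) := by
    refine ext_subsingleton_of_cyclic' μa.rangeRestrict (LinearMap.surjective_rangeRestrict μa)
      _ j (LinearMap.ker μa) (LinearMap.ker_rangeRestrict μa) (IH _ ?_)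
    rw [SetLike.lt_iff_le_and_exists]
    refine ⟨fun r hr => ?_, b, ?_, hb⟩
    · rw [LinearMap.mem_ker, hμ, Ideal.Quotient.eq_zero_iff_mem]
      exact I.mul_mem_right a hr
    · rw [LinearMap.mem_ker, hμ, Ideal.Quotient.eq_zero_iff_mem, mul_comm]
      exact hab
  have hQ : Subsingleton (Ext.{u} (ModuleCat.of R ((R ⧸ I) ⧸ K)) (ModuleCat.of R M) j) := by
    have hsurj : Function.Surjective (K.mkQ ∘ₗ I.mkQ) :=
      (Submodule.mkQ_surjective K).comp (Submodule.mkQ_surjective I)
    refine ext_subsingleton_of_cyclic' (K.mkQ ∘ₗ I.mkQ) hsurj _ j _ rfl (IH _ ?_)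
    rw [SetLike.lt_iff_le_and_exists]
    refine ⟨fun r hr => ?_, a, ?_, ha⟩
    · rw [LinearMap.mem_ker, LinearMap.comp_apply]
      have h0 : I.mkQ r = 0 := (Submodule.Quotient.mk_eq_zero I).mpr hr
      rw [h0, map_zero]
    · rw [LinearMap.mem_ker, LinearMap.comp_apply, Submodule.mkQ_apply, Submodule.mkQ_apply,
        Submodule.Quotient.mk_eq_zero]
      refine ⟨1, ?_⟩
      rw [hμ, one_mul]
      rfl
  exact Groth.Agent.Lib.Helper29ExtSes.subsingleton_of_ses K.subtype K.mkQ K.injective_subtype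
    (Submodule.mkQ_surjective K) (LinearMap.exact_subtype_mkQ K) j hK hQ

section smul

variable (Y : ModuleCat.{u} R) (x : R) {X X' : ModuleCat.{u} R} (g : X ⟶ X')
  (zero : (x • 𝟙 X) ≫ g = 0) (hS : (ShortComplex.mk (x • 𝟙 X) g zero).ShortExact)

include hS in
theorem eq_zero_of_smul_eq_zero_of_shortExact (j : ℕ) (h3 : Subsingleton (Ext.{u} X' Y j))
    (z : Ext.{u} X Y j) (hz : x • z = 0) : z = 0 := by
  have h1 : (Ext.mk₀ (x • 𝟙 X)).comp z (zero_add j) = 0 :=
    (LeadBass.mk₀_smul_id_comp Y x X j z).trans hz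
  obtain ⟨w, hw⟩ := Ext.contravariant_sequence_exact₂ hS Y z h1
  rw [← hw, Subsingleton.elim w 0, Ext.comp_zero]

end smul

/-- For `x` regular on `T`, if `Ext^j(T/xT, Y) = 0` then `x` acts injectively on `Ext^j(T, Y)`. -/
theorem eq_zero_of_smul_eq_zero (T : Type u) [AddCommGroup T] [Module R T] (Y : ModuleCat.{u} R)
    (x : R) (hreg : IsSMulRegular T x) (j : ℕ)
    (h3 : Subsingleton (Ext.{u} (ModuleCat.of R (QuotSMulTop x T)) Y j))
    (z : Ext.{u} (ModuleCat.of R T) Y j) (hz : x • z = 0) : z = 0 := by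
  have hS := hreg.smulShortComplex_shortExact (M := ModuleCat.of R T)
  exact eq_zero_of_smul_eq_zero_of_shortExact Y x ((ModuleCat.of R T).smulShortComplex x).g
    ((ModuleCat.of R T).smulShortComplex x).zero hS j h3 z hz

/-- The inductive step at a prime: elements outside `p` act injectively. -/
theorem eq_zero_of_smul_eq_zero_of_prime (M : Type u) [AddCommGroup M] [Module R M] (j : ℕ)
    (p : Ideal R) [p.IsPrime] (x : R) (hx : x ∉ p)
    (IH : ∀ J : Ideal R, p < J →
      Subsingleton (Ext.{u} (ModuleCat.of R (R ⧸ J)) (ModuleCat.of R M) j))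
    (z : Ext.{u} (ModuleCat.of R (R ⧸ p)) (ModuleCat.of R M) j) (hz : x • z = 0) : z = 0 := by
  haveI : IsDomain (R ⧸ p) := Ideal.Quotient.isDomain p
  have hreg : IsSMulRegular (R ⧸ p) x := by
    intro y₁ y₂ h
    have h' : Ideal.Quotient.mk p x * y₁ = Ideal.Quotient.mk p x * y₂ := h
    have hx0 : Ideal.Quotient.mk p x ≠ 0 := by
      rw [Ne, Ideal.Quotient.eq_zero_iff_mem]
      exact hx
    exact mul_left_cancel₀ hx0 h'
  refine eq_zero_of_smul_eq_zero (R ⧸ p) (ModuleCat.of R M) x hreg j ?_ z hz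
  let K : Submodule R (R ⧸ p) := x • (⊤ : Submodule R (R ⧸ p))
  have hsurj : Function.Surjective (K.mkQ ∘ₗ p.mkQ) :=
    (Submodule.mkQ_surjective K).comp (Submodule.mkQ_surjective p)
  refine ext_subsingleton_of_cyclic' (K.mkQ ∘ₗ p.mkQ) hsurj _ j _ rfl (IH _ ?_)
  rw [SetLike.lt_iff_le_and_exists]
  refine ⟨fun r hr => ?_, x, ?_, hx⟩
  · rw [LinearMap.mem_ker, LinearMap.comp_apply]
    have h0 : p.mkQ r = 0 := (Submodule.Quotient.mk_eq_zero p).mpr hr
    rw [h0, map_zero]
  · rw [LinearMap.mem_ker, LinearMap.comp_apply, Submodule.mkQ_apply, Submodule.mkQ_apply,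
      Submodule.Quotient.mk_eq_zero]
    have h1 : (Submodule.Quotient.mk x : R ⧸ p) = x • (Submodule.Quotient.mk 1 : R ⧸ p) := by
      rw [← Submodule.Quotient.mk_smul, smul_eq_mul, mul_one]
    rw [h1]
    exact Submodule.smul_mem_pointwise_smul _ x _ Submodule.mem_top


/-- The inductive step at a prime. -/
theorem ext_subsingleton_of_prime [IsNoetherianRing R] (M : Type u) [AddCommGroup M] [Module R M]
    (j : ℕ) (p : Ideal R) [p.IsPrime]
    (hloc : Subsingleton (Ext.{u} (ModuleCat.of (Localization.AtPrime p)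
        (IsLocalRing.ResidueField (Localization.AtPrime p)))
      (ModuleCat.of (Localization.AtPrime p) (LocalizedModule p.primeCompl M)) j))
    (IH : ∀ J : Ideal R, p < J →
      Subsingleton (Ext.{u} (ModuleCat.of R (R ⧸ J)) (ModuleCat.of R M) j)) :
    Subsingleton (Ext.{u} (ModuleCat.of R (R ⧸ p)) (ModuleCat.of R M) j) := by
  have hloc' : Subsingleton (Ext.{u} (ModuleCat.of (Localization.AtPrime p)
        (LocalizedModule p.primeCompl (R ⧸ p)))
      (ModuleCat.of (Localization.AtPrime p) (LocalizedModule p.primeCompl M)) j) :=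
    (LeadBass.extCongrLeft (Groth.Agent.Lib.Helper29GrExtLoc.resIso p) _ j).injective.subsingleton
  have htors := (Groth.Agent.Lib.Helper8.ExtLoc.ext_loc p.primeCompl
    (LocalizedModule.mkLinearMap p.primeCompl M) j (R ⧸ p)
    (LocalizedModule p.primeCompl (R ⧸ p))
    (LocalizedModule.mkLinearMap p.primeCompl (R ⧸ p))).mpr hloc'
  have key : ∀ z : Ext.{u} (ModuleCat.of R (R ⧸ p)) (ModuleCat.of R M) j, z = 0 := by
    intro z
    obtain ⟨s, hs⟩ := htors z
    exact eq_zero_of_smul_eq_zero_of_prime M j p s s.2 IH z hs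
  exact ⟨fun a b => by rw [key a, key b]⟩

/-- **Local-to-global vanishing.** If `Ext^j_{R_p}(k(p), M_p) = 0` for all primes `p`, then
`Ext^j_R(R/I, M) = 0` for all ideals `I`. -/
theorem ext_quotient_subsingleton [IsNoetherianRing R] (M : Type u) [AddCommGroup M] [Module R M]
    (j : ℕ)
    (hloc : ∀ (p : Ideal R) [p.IsPrime], Subsingleton (Ext.{u} (ModuleCat.of (Localization.AtPrime p)
        (IsLocalRing.ResidueField (Localization.AtPrime p)))
      (ModuleCat.of (Localization.AtPrime p) (LocalizedModule p.primeCompl M)) j))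
    (I : Ideal R) :
    Subsingleton (Ext.{u} (ModuleCat.of R (R ⧸ I)) (ModuleCat.of R M) j) := by
  refine IsNoetherian.induction (P := fun I : Ideal R =>
    Subsingleton (Ext.{u} (ModuleCat.of R (R ⧸ I)) (ModuleCat.of R M) j)) ?_ I
  intro (I : Ideal R) IH
  by_cases hp : Ideal.IsPrime I
  · exact ext_subsingleton_of_prime M j I (hloc I) (fun J hJ => IH J hJ)
  · rcases Ideal.not_isPrime_iff.mp hp with rfl | ⟨a, ha, b, hb, hab⟩
    · haveI : Subsingleton (R ⧸ (⊤ : Ideal R)) := Submodule.Quotient.subsingleton_iff.mpr rfl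
      exact ext_subsingleton_of_subsingleton (R ⧸ (⊤ : Ideal R)) _ j
    · exact ext_subsingleton_of_not_prime M j I a b ha hb hab (fun J hJ => IH J hJ)

/-- A Baer-type criterion: `M` is injective if `Ext^1(R/I, M) = 0` for all ideals `I`. -/
theorem injective_of_ext_one (M : Type u) [AddCommGroup M] [Module R M]
    (h : ∀ I : Ideal R, Subsingleton (Ext.{u} (ModuleCat.of R (R ⧸ I)) (ModuleCat.of R M) 1)) :
    Module.Injective R M := by
  apply Module.Baer.injective
  intro I g
  have hS := Groth.Agent.Lib.Helper29ExtSes.ses_shortExact I.subtype I.mkQ I.injective_subtype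
    (Submodule.mkQ_surjective I) (LinearMap.exact_subtype_mkQ I)
  obtain ⟨x₂, hx₂⟩ := Ext.contravariant_sequence_exact₁ hS (ModuleCat.of R M)
    (Ext.mk₀ (ModuleCat.ofHom g)) (n₁ := 1) rfl
    (@Subsingleton.elim _ (h I) _ _)
  obtain ⟨φ, rfl⟩ := (Ext.mk₀_bijective _ _).2 x₂
  rw [Ext.mk₀_comp_mk₀] at hx₂
  have h2 := (Ext.mk₀_bijective _ _).1 hx₂
  refine ⟨φ.hom, fun x mem => ?_⟩
  exact congrArg (fun t => t.hom ⟨x, mem⟩) h2

/-- Injective dimension from vanishing of `Ext^{n+1}(R/I, M)`. -/
theorem hasInjectiveDimensionLT_succ_of_ext (n : ℕ) :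
    ∀ (M : Type u) [AddCommGroup M] [Module R M],
      (∀ I : Ideal R, Subsingleton (Ext.{u} (ModuleCat.of R (R ⧸ I)) (ModuleCat.of R M) (n + 1))) →
      HasInjectiveDimensionLT (ModuleCat.of R M) (n + 1) := by
  induction n with
  | zero =>
    intro M _ _ h
    have h1 : Module.Injective R M := injective_of_ext_one M h
    have h2 : Injective (ModuleCat.of R M) := Module.injective_object_of_injective_module R M
    infer_instance
  | succ n ih =>
    intro M _ _ h
    let I := Injective.under (ModuleCat.of R M)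
    let ι : ModuleCat.of R M ⟶ I := Injective.ι _
    have hι : Function.Injective ι.hom := (ModuleCat.mono_iff_injective ι).mp inferInstance
    let π : I →ₗ[R] (I ⧸ LinearMap.range ι.hom) := (LinearMap.range ι.hom).mkQ
    have hπ : Function.Surjective π := Submodule.mkQ_surjective _
    have hex : Function.Exact ι.hom π := LinearMap.exact_map_mkQ_range ι.hom
    have hS := Groth.Agent.Lib.Helper29ExtSes.ses_shortExact ι.hom π hι hπ hex
    have hI : Injective (Groth.Agent.Lib.Helper29ExtSes.ses ι.hom π hex).X₂ :=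
      (inferInstance : Injective I)
    have hC : HasInjectiveDimensionLT (ModuleCat.of R (I ⧸ LinearMap.range ι.hom)) (n + 1) := by
      apply ih
      intro J
      have key : ∀ z : Ext.{u} (ModuleCat.of R (R ⧸ J))
          (ModuleCat.of R (I ⧸ LinearMap.range ι.hom)) (n + 1), z = 0 := by
        intro z
        obtain ⟨x₂, hx₂⟩ := Ext.covariant_sequence_exact₃ (ModuleCat.of R (R ⧸ J)) hS z
          (n₁ := n + 1 + 1) rfl (@Subsingleton.elim _ (h J) _ _)
        rw [← hx₂, Ext.eq_zero_of_injective x₂, Ext.zero_comp]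
      exact ⟨fun a b => by rw [key a, key b]⟩
    exact hS.hasInjectiveDimensionLT_X₁ (n + 1) hC inferInstance

end general

end Groth.Agent.Lib.LeadInj
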