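import Mathlib
import Groth.Agent.Lib.LeadInjA
import Groth.Agent.Lib.Helper29Socle
import Groth.Prelude.Def_GrLC2

/-!
# Injective dimension from Bass numbers, part B (lead): Bass-number forms
-/

set_option autoImplicit false
set_option maxHeartbeats 400000
set_option linter.style.haveILetI false
set_option linter.unusedSectionVars false
set_option linter.unusedVariables false

universe u

namespace Groth.Agent.Lib.LeadInj

open CategoryTheory CategoryTheory.Abelian

section bass

variable {R : Type u} [CommRing R] [IsNoetherianRing R]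

theorem bassNum_eq_zero_iff (p : Ideal R) [p.IsPrime] (M : Type u) [AddCommGroup M] [Module R M]
    (j : ℕ) :
    GrLC.bassNum p M j = 0 ↔
      Subsingleton (Ext.{u} (ModuleCat.of (Localization.AtPrime p)
        (IsLocalRing.ResidueField (Localization.AtPrime p)))
      (ModuleCat.of (Localization.AtPrime p) (LocalizedModule p.primeCompl M)) j) :=
  Module.length_eq_zero_iff

theorem ext_quotient_subsingleton_of_bassNum (M : Type u) [AddCommGroup M] [Module R M] (j : ℕ)
    (h : ∀ (p : Ideal R) [p.IsPrime], GrLC.bassNum p M j = 0) (I : Ideal R) :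
    Subsingleton (Ext.{u} (ModuleCat.of R (R ⧸ I)) (ModuleCat.of R M) j) :=
  ext_quotient_subsingleton M j (fun p _ => (bassNum_eq_zero_iff p M j).mp (h p)) I

theorem injective_of_bassNum_one (M : Type u) [AddCommGroup M] [Module R M]
    (h : ∀ (p : Ideal R) [p.IsPrime], GrLC.bassNum p M 1 = 0) : Module.Injective R M :=
  injective_of_ext_one M (ext_quotient_subsingleton_of_bassNum M 1 h)

theorem hasInjectiveDimensionLT_succ_of_bassNum (M : Type u) [AddCommGroup M] [Module R M] (n : ℕ)
    (h : ∀ (p : Ideal R) [p.IsPrime], GrLC.bassNum p M (n + 1) = 0) :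
    HasInjectiveDimensionLT (ModuleCat.of R M) (n + 1) :=
  hasInjectiveDimensionLT_succ_of_ext n M (ext_quotient_subsingleton_of_bassNum M (n + 1) h)

/-- The first Bass numbers of an injective module vanish. -/
theorem bassNum_one_eq_zero_of_injective (M : Type u) [AddCommGroup M] [Module R M]
    [Module.Injective R M] (p : Ideal R) [p.IsPrime] : GrLC.bassNum p M 1 = 0 := by
  rw [bassNum_eq_zero_iff]
  haveI : Injective (ModuleCat.of R M) := Module.injective_object_of_injective_module R M
  have hloc' : Subsingleton (Ext.{u} (ModuleCat.of (Localization.AtPrime p)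
        (LocalizedModule p.primeCompl (R ⧸ p)))
      (ModuleCat.of (Localization.AtPrime p) (LocalizedModule p.primeCompl M)) 1) := by
    refine (Groth.Agent.Lib.Helper8.ExtLoc.ext_loc p.primeCompl
      (LocalizedModule.mkLinearMap p.primeCompl M) 1 (R ⧸ p)
      (LocalizedModule p.primeCompl (R ⧸ p))
      (LocalizedModule.mkLinearMap p.primeCompl (R ⧸ p))).mp (fun x => ⟨1, ?_⟩)
    rw [Ext.eq_zero_of_injective x, smul_zero]
  exact (LeadBass.extCongrLeft (Groth.Agent.Lib.Helper29GrExtLoc.resIso p) _ 1).symm.injective.subsingleton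

open Groth.Agent.Lib.Helper29Socle in
/-- The zeroth Bass number at `p` is nonzero exactly when `p` is an associated prime. -/
theorem bassNum_zero_ne_zero_iff (p : Ideal R) [p.IsPrime] (M : Type u) [AddCommGroup M]
    [Module R M] : GrLC.bassNum p M 0 ≠ 0 ↔ p ∈ associatedPrimes R M := by
  have h1 : GrLC.bassNum p M 0 =
      Module.length (Localization.AtPrime p)
        (soc (Localization.AtPrime p) (LocalizedModule p.primeCompl M)) :=
    length_ext_zero (Localization.AtPrime p) (LocalizedModule p.primeCompl M)
  rw [h1, Ne, Module.length_eq_zero_iff, not_subsingleton_iff_nontrivial,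
    AssociatedPrimes.mem_iff, isAssociatedPrime_iff]
  constructor
  · intro hnt
    obtain ⟨⟨z, hz⟩, hz0⟩ := exists_ne (0 : soc (Localization.AtPrime p)
      (LocalizedModule p.primeCompl M))
    have hz0' : z ≠ 0 := fun h => hz0 (Subtype.ext h)
    induction z using LocalizedModule.induction_on with
    | _ y s =>
      obtain ⟨t, ht⟩ := (mk_mem_soc_iff p M y s).mp hz
      have hu : ∀ u : R, u ∉ p → u • y ≠ 0 := by
        intro u hu h0
        exact hz0' ((mk_eq_zero_iff' p M y s).mpr ⟨⟨u, hu⟩, h0⟩)
      refine ⟨inferInstance, (t : R) • y, ?_⟩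
      ext r
      rw [Submodule.mem_colon_singleton, Submodule.mem_bot]
      constructor
      · intro hr
        rw [smul_smul, mul_comm]
        exact ht r hr
      · intro hr
        by_contra hrp
        rw [smul_smul] at hr
        exact hu (r * t) (fun h => (Ideal.IsPrime.mem_or_mem inferInstance h).elim hrp t.2) hr
  · rintro ⟨-, y, hy⟩
    have hy' : ∀ r : R, r ∈ p ↔ r • y = 0 := by
      intro r
      rw [hy, Submodule.mem_colon_singleton, Submodule.mem_bot]
    have hmem : (LocalizedModule.mk y 1 : LocalizedModule p.primeCompl M) ∈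
        soc (Localization.AtPrime p) (LocalizedModule p.primeCompl M) := by
      rw [mk_mem_soc_iff]
      refine ⟨1, fun r hr => ?_⟩
      rw [Submonoid.coe_one, one_mul]
      exact (hy' r).mp hr
    refine ⟨⟨⟨_, hmem⟩, 0, fun h => ?_⟩⟩
    have h0 : (LocalizedModule.mk y 1 : LocalizedModule p.primeCompl M) = 0 :=
      congrArg Subtype.val h
    obtain ⟨u, hu⟩ := (mk_eq_zero_iff' p M y 1).mp h0
    exact u.2 ((hy' u).mpr hu)

end bass

end Groth.Agent.Lib.LeadInj
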