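import Mathlib
import Groth.Agent.Lib.LeadInjB
import Groth.Agent.Lib.LeadBassD

/-!
# *Canonical modules localize to canonical modules, part A (lead): general lemmas

* injectivity over a localization from injectivity over the base;
* Bass numbers vanish at `q` when some `s ∈ q` acts bijectively;
* Bass numbers of a localized module at primes inside the localization.
-/

set_option autoImplicit false
set_option maxHeartbeats 400000
set_option linter.style.haveILetI false
set_option linter.unusedSectionVars false
set_option linter.unusedVariables false

universe u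

namespace Groth.Agent.Lib.LeadCan

open CategoryTheory CategoryTheory.Abelian IsLocalRing

section general

variable {R : Type u} [CommRing R]

/-- A module over a localization which is injective over the base ring is injective over the
localization. -/
theorem injective_of_isLocalization (S : Submonoid R) (A : Type u) [CommRing A] [Algebra R A]
    [IsLocalization S A] (Q : Type u) [AddCommGroup Q] [Module R Q] [Module A Q]
    [IsScalarTower R A Q] [hQ : Module.Injective R Q] : Module.Injective A Q := by
  apply Module.Baer.injective
  intro J g
  obtain ⟨h, hh⟩ := hQ.out ((J.subtype).restrictScalars R)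
    (fun a b hab => J.injective_subtype hab) (g.restrictScalars R)
  refine ⟨h.extendScalarsOfIsLocalization S A, fun x mem => ?_⟩
  exact hh ⟨x, mem⟩

section local_vanish

variable (B : Type u) [CommRing B] [IsLocalRing B] (Y : Type u) [AddCommGroup Y] [Module B Y]

theorem ext_residue_eq_zero_of_smul_bijective (b : B) (hb : b ∈ maximalIdeal B)
    (hbij : Function.Bijective (fun y : Y => b • y)) (j : ℕ)
    (z : Ext.{u} (ModuleCat.of B (ResidueField B)) (ModuleCat.of B Y) j) : z = 0 := by
  have h0 : b • 𝟙 (ModuleCat.of B (ResidueField B)) = 0 := by
    ext x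
    obtain ⟨a, rfl⟩ := IsLocalRing.residue_surjective x
    show b • IsLocalRing.residue B a = 0
    rw [Algebra.smul_def]
    have : algebraMap B (ResidueField B) b = 0 := (IsLocalRing.residue_eq_zero_iff b).mpr hb
    rw [this, zero_mul]
  have h1 : b • z = 0 := by
    rw [← LeadBass.mk₀_smul_id_comp (ModuleCat.of B Y) b _ j z, h0, Ext.mk₀_zero, Ext.zero_comp]
  let φ : Y ≃ₗ[B] Y := LinearEquiv.ofBijective (b • (LinearMap.id : Y →ₗ[B] Y)) hbij
  have h2 : (LeadBass.extCongrRight (ModuleCat.of B (ResidueField B)) φ.toModuleIso j) z =
      b • z := by
    change z.comp (Ext.mk₀ φ.toModuleIso.hom) (add_zero j) = b • z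
    have h3 : φ.toModuleIso.hom = b • 𝟙 (ModuleCat.of B Y) := by
      ext y
      rfl
    rw [h3, Ext.mk₀_smul, Ext.comp_smul, Ext.comp_mk₀_id]
  rw [h1] at h2
  exact (LinearEquiv.map_eq_zero_iff _).mp h2

end local_vanish

/-- Bass numbers vanish at `q` when some `s ∈ q` acts bijectively on the module. -/
theorem bassNum_eq_zero_of_smul_bijective (q : Ideal R) [q.IsPrime] (X : Type u) [AddCommGroup X]
    [Module R X] (s : R) (hs : s ∈ q) (hbij : Function.Bijective (fun x : X => s • x)) (j : ℕ) :
    GrLC.bassNum q X j = 0 := by
  unfold GrLC.bassNum GrLC.bassNumLocal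
  rw [Module.length_eq_zero_iff]
  let b : Localization.AtPrime q := algebraMap R (Localization.AtPrime q) s
  have hb : b ∈ maximalIdeal (Localization.AtPrime q) := by
    rw [← Localization.AtPrime.map_eq_maximalIdeal]
    exact Ideal.mem_map_of_mem _ hs
  let σ : X →ₗ[R] X := s • LinearMap.id
  have hσ : ∀ y : LocalizedModule q.primeCompl X, b • y = LocalizedModule.map q.primeCompl σ y := by
    intro y
    induction y using LocalizedModule.induction_on with
    | _ x t =>
      rw [LocalizedModule.map_mk]
      show algebraMap R (Localization.AtPrime q) s • LocalizedModule.mk x t = _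
      rw [algebraMap_smul, LocalizedModule.smul'_mk]
      rfl
  have hbij' : Function.Bijective (fun y : LocalizedModule q.primeCompl X => b • y) := by
    have h1 : (fun y : LocalizedModule q.primeCompl X => b • y) =
        LocalizedModule.map q.primeCompl σ := funext hσ
    rw [h1]
    exact ⟨LocalizedModule.map_injective _ _ hbij.1, LocalizedModule.map_surjective _ _ hbij.2⟩
  have key := ext_residue_eq_zero_of_smul_bijective (Localization.AtPrime q)
    (LocalizedModule q.primeCompl X) b hb hbij' j
  exact ⟨fun a c => by rw [key a, key c]⟩

/-- Bass numbers of a localized module at a prime disjoint from the multiplicative set. -/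
theorem bassNum_localizedModule [IsNoetherianRing R] (S : Submonoid R) (q : Ideal R) [q.IsPrime]
    (hS : S ≤ q.primeCompl) (N : Type u) [AddCommGroup N] [Module R N] (j : ℕ) :
    GrLC.bassNum q (LocalizedModule S N) j = GrLC.bassNum q N j :=
  (LeadBass.bassNum_transport_aux q (LocalizedModule S N) (Localization.AtPrime q)
    (LocalizedModule q.primeCompl N)
    (IsLocalizedModule.liftOfLE S q.primeCompl hS (LocalizedModule.mkLinearMap S N)
      (LocalizedModule.mkLinearMap q.primeCompl N)) j).symm

end general

end Groth.Agent.Lib.LeadCan
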