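import Mathlib
import Groth.Agent.Lib.LeadCanA
import Groth.Agent.Lib.Helper29GrEss
import Groth.Agent.Lib.Helper29GrExtLoc
import Groth.Agent.Lib.Helper29GrAss
import Groth.Agent.S13233
import Groth.Prelude.Def_Wider

/-!
# *Canonical modules localize to canonical modules, part B (lead): the localized *injective hull

For a Noetherian `G`-graded ring `R`, a homogeneous prime `m` and a *injective hull `E'` of `R/m`:
the localization `E'_m` is an injective hull of the residue field of `R_m`.
-/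

set_option autoImplicit false
set_option maxHeartbeats 400000
set_option linter.style.haveILetI false
set_option linter.unusedSectionVars false
set_option linter.unusedVariables false

universe u

namespace Groth.Agent.Lib.LeadCan

open CategoryTheory CategoryTheory.Abelian IsLocalRing

section graded

variable {ι : Type} [AddCommGroup ι] [DecidableEq ι] [Module.Free ℤ ι] [Module.Finite ℤ ι]
variable {R : Type u} [CommRing R] [IsNoetherianRing R] (𝒜 : ι → AddSubgroup R) [GradedRing 𝒜]

omit [IsNoetherianRing R] in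
/-- The homogeneous core of a prime ideal is prime (gradings by finitely generated free groups). -/
theorem isPrime_homogeneousCore (q : Ideal R) (hq : q.IsPrime) :
    (Ideal.homogeneousCore 𝒜 q).toIdeal.IsPrime := by
  apply Groth.Agent.Lib.Helper29GrAss.isPrime_of_homogeneous_mem_or_mem' 𝒜
    (Ideal.homogeneousCore 𝒜 q).isHomogeneous
  · exact ne_top_of_le_ne_top hq.ne_top (Ideal.toIdeal_homogeneousCore_le 𝒜 q)
  intro x y hx hy hxy
  have H := hq.mem_or_mem (Ideal.toIdeal_homogeneousCore_le 𝒜 q hxy)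
  exact H.imp (Ideal.mem_homogeneousCore_of_homogeneous_of_mem hx)
    (Ideal.mem_homogeneousCore_of_homogeneous_of_mem hy)

section starinj

variable {M : Type u} [AddCommGroup M] [Module R M] (ℳ : ι → AddSubgroup M)
  [DirectSum.Decomposition ℳ] [SetLike.GradedSMul 𝒜 ℳ]

include ℳ in
/-- Positive Bass numbers of a *injective module vanish at homogeneous primes. -/
theorem bassNum_succ_eq_zero_of_isHomogeneous (hM : GrLC.IsStarInj 𝒜 ℳ) (p : Ideal R) [p.IsPrime]
    (hp : p.IsHomogeneous 𝒜) (i : ℕ) : GrLC.bassNum p M (i + 1) = 0 := by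
  rw [LeadInj.bassNum_eq_zero_iff]
  let p' : HomogeneousIdeal 𝒜 := ⟨p, hp⟩
  haveI : p'.toIdeal.IsPrime := ‹p.IsPrime›
  have key := Groth.Agent.Lib.Helper29GrExtLoc.ext_residue_eq_zero 𝒜 ℳ hM p' i
  exact ⟨fun a b => by rw [key a, key b]⟩

end starinj

variable (m : HomogeneousIdeal 𝒜) [hmp : m.toIdeal.IsPrime]
  {E' : Type u} [AddCommGroup E'] [Module R E'] (𝓔 : ι → AddSubgroup E')
  [DirectSum.Decomposition 𝓔] [SetLike.GradedSMul 𝒜 𝓔] (e : (R ⧸ m.toIdeal) →ₗ[R] E')
  (he : GrLC.IsStarInjHull 𝒜 (GrLC.quotGr 𝒜 m) 𝓔 e)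

include he in
open Groth.Agent.Lib.Helper29GrEss in
theorem exists_smul_mem_range (y : E') (hy : y ≠ 0) :
    ∃ r : R, r • y ≠ 0 ∧ r • y ∈ LinearMap.range e := by
  classical
  have hrange : (LinearMap.range e).IsHomogeneous 𝓔 := by
    have h1 : (LinearMap.range (e ∘ₗ m.toIdeal.mkQ)).IsHomogeneous 𝓔 :=
      range_isHomogeneous 𝓔 𝒜 (e ∘ₗ m.toIdeal.mkQ)
        (fun g r hr => he.grHom g _ ⟨r, hr, rfl⟩)
    rwa [LinearMap.range_comp_of_range_eq_top _ (Submodule.range_mkQ _)] at h1
  obtain ⟨h, r, -, h1, h2⟩ := exists_smul_mem 𝒜 𝓔 (LinearMap.range e) hrange he.essential y hy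
  exact ⟨r, h1, h2⟩

omit [IsNoetherianRing R] [Module.Free ℤ ι] [Module.Finite ℤ ι] in
theorem smul_range_eq_zero (a : R) (ha : a ∈ m.toIdeal) (z : R ⧸ m.toIdeal) : a • e z = 0 := by
  obtain ⟨b, rfl⟩ := Ideal.Quotient.mk_surjective z
  have : a • (Ideal.Quotient.mk m.toIdeal b) = Ideal.Quotient.mk m.toIdeal (a * b) := rfl
  rw [← map_smul, this, Ideal.Quotient.eq_zero_iff_mem.mpr (m.toIdeal.mul_mem_right b ha), map_zero]

include he in
/-- Elements outside `m` act injectively on the *injective hull of `R/m`. -/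
theorem smul_injective_of_notMem (s : R) (hs : s ∉ m.toIdeal) (y : E') (hsy : s • y = 0) :
    y = 0 := by
  by_contra hy
  obtain ⟨r, hr0, z, hz⟩ := exists_smul_mem_range 𝒜 m 𝓔 e he y hy
  have hz0 : z ≠ 0 := by
    intro h
    apply hr0
    rw [← hz, h, map_zero]
  have h1 : e (s • z) = 0 := by
    rw [map_smul, hz, smul_comm, hsy, smul_zero]
  have h2 : s • z = 0 := he.injective (h1.trans (map_zero e).symm)
  haveI : IsDomain (R ⧸ m.toIdeal) := Ideal.Quotient.isDomain _
  obtain ⟨b, rfl⟩ := Ideal.Quotient.mk_surjective z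
  have h3 : Ideal.Quotient.mk m.toIdeal s * Ideal.Quotient.mk m.toIdeal b = 0 := h2
  rcases mul_eq_zero.mp h3 with h | h
  · exact hs (Ideal.Quotient.eq_zero_iff_mem.mp h)
  · exact hz0 h

include he in
/-- An associated prime of the *injective hull of `R/m` contains `m`. -/
theorem le_of_mem_associatedPrimes (P : Ideal R) (hP : P ∈ associatedPrimes R E') :
    m.toIdeal ≤ P := by
  obtain ⟨hPp, y, hy⟩ := (isAssociatedPrime_iff).mp (AssociatedPrimes.mem_iff.mp hP)
  have hy' : ∀ r : R, r ∈ P ↔ r • y = 0 := by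
    intro r
    rw [hy, Submodule.mem_colon_singleton, Submodule.mem_bot]
  have hy0 : y ≠ 0 := by
    intro h0
    apply hPp.ne_top
    rw [Ideal.eq_top_iff_one, hy' 1, h0, smul_zero]
  obtain ⟨r, hr0, z, hz⟩ := exists_smul_mem_range 𝒜 m 𝓔 e he y hy0
  have hrp : r ∉ P := fun h => hr0 ((hy' r).mp h)
  intro a ha
  have h2 : (a * r) • y = 0 := by
    rw [mul_smul, ← hz]
    exact smul_range_eq_zero 𝒜 m e a ha z
  exact (hPp.mem_or_mem ((hy' (a * r)).mpr h2)).resolve_right hrp

include he in
/-- The first Bass numbers of the *injective hull of `R/m` vanish at all primes inside `m`. -/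
theorem bassNum_one_eq_zero_of_le (q : Ideal R) [hq : q.IsPrime] (hqm : q ≤ m.toIdeal) :
    GrLC.bassNum q E' 1 = 0 := by
  by_cases hqh : q.IsHomogeneous 𝒜
  · exact bassNum_succ_eq_zero_of_isHomogeneous 𝒜 𝓔 he.starInj q hqh 0
  · haveI hcp : (Ideal.homogeneousCore 𝒜 q).toIdeal.IsPrime := isPrime_homogeneousCore 𝒜 q hq
    have hcore_le : (Ideal.homogeneousCore 𝒜 q).toIdeal ≤ q := Ideal.toIdeal_homogeneousCore_le 𝒜 q
    haveI hprime : (q.map (Ideal.Quotient.mk (Ideal.homogeneousCore 𝒜 q).toIdeal)).IsPrime :=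
      Ideal.map_isPrime_of_surjective Ideal.Quotient.mk_surjective (by rwa [Ideal.mk_ker])
    obtain ⟨d, hd⟩ := ENat.ne_top_iff_exists.mp
      (Ideal.height_ne_top (Ideal.IsPrime.ne_top hprime))
    obtain ⟨h1, h2⟩ := Groth.Agent.S13233.result R 𝒜 E' 𝓔 q d hd.symm
    have hd0 : d ≠ 0 := by
      intro h0
      apply hqh
      rw [h0] at hd
      haveI : IsDomain (R ⧸ (Ideal.homogeneousCore 𝒜 q).toIdeal) := Ideal.Quotient.isDomain _
      have hbot : q.map (Ideal.Quotient.mk (Ideal.homogeneousCore 𝒜 q).toIdeal) = ⊥ :=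
        Ideal.height_eq_zero_iff_eq_bot.mp (by rw [← hd]; rfl)
      have hle : q ≤ (Ideal.homogeneousCore 𝒜 q).toIdeal := by
        intro x hx
        rw [← Ideal.Quotient.eq_zero_iff_mem, ← Ideal.mem_bot, ← hbot]
        exact Ideal.mem_map_of_mem _ hx
      have hqc : q = (Ideal.homogeneousCore 𝒜 q).toIdeal := le_antisymm hle hcore_le
      rw [hqc]
      exact (Ideal.homogeneousCore 𝒜 q).isHomogeneous
    by_cases hd1 : d = 1
    · rw [h2 1 (by omega), hd1, Nat.sub_self]
      by_contra hne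
      have hmem := (LeadInj.bassNum_zero_ne_zero_iff _ E').mp hne
      have hle := le_of_mem_associatedPrimes 𝒜 m 𝓔 e he _ hmem
      apply hqh
      have hqc : q = (Ideal.homogeneousCore 𝒜 q).toIdeal :=
        le_antisymm (hqm.trans hle) hcore_le
      rw [hqc]
      exact (Ideal.homogeneousCore 𝒜 q).isHomogeneous
    · exact h1 1 (by omega)

include he in
/-- The localization at `m` of the *injective hull of `R/m` is an injective `R`-module. -/
theorem injective_localizedModule :
    Module.Injective R (LocalizedModule m.toIdeal.primeCompl E') := by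
  refine LeadInj.injective_of_bassNum_one _ (fun q hq => ?_)
  by_cases hqm : q ≤ m.toIdeal
  · have hS : m.toIdeal.primeCompl ≤ q.primeCompl := fun x hx hxq => hx (hqm hxq)
    rw [bassNum_localizedModule m.toIdeal.primeCompl q hS E' 1]
    exact bassNum_one_eq_zero_of_le 𝒜 m 𝓔 e he q hqm
  · obtain ⟨s, hsq, hsm⟩ := Set.not_subset.mp hqm
    refine bassNum_eq_zero_of_smul_bijective q _ s hsq ?_ 1
    have hu := IsLocalizedModule.map_units
      (LocalizedModule.mkLinearMap m.toIdeal.primeCompl E') (⟨s, hsm⟩ : m.toIdeal.primeCompl)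
    exact (Module.End.isUnit_iff _).mp hu

end graded

end Groth.Agent.Lib.LeadCan
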