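import Mathlib
import Groth.Agent.Lib.LeadCanB
import Groth.Agent.S0302
import Groth.Agent.S13224
import Groth.Agent.S11618

/-!
# *Canonical modules localize to canonical modules, part C (lead): assembly

`E'_m` is an injective hull of the residue field of `R_m`, and
`Hom_{R_m}(C_m, E₀) ≅ H^n_{mR_m}(R_m)` for a *canonical module `C`.
-/

set_option autoImplicit false
set_option maxHeartbeats 400000
set_option linter.style.haveILetI false
set_option linter.unusedSectionVars false
set_option linter.unusedVariables false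

universe u

namespace Groth.Agent.Lib.LeadCan

open CategoryTheory CategoryTheory.Abelian IsLocalRing

section graded

variable {ι : Type} [AddCommGroup ι] [DecidableEq ι] [Module.Free ℤ ι] [Module.Finite ℤ ι]
variable {R : Type u} [CommRing R] [IsNoetherianRing R] (𝒜 : ι → AddSubgroup R) [GradedRing 𝒜]

variable (m : HomogeneousIdeal 𝒜) [hmp : m.toIdeal.IsPrime]
  {E' : Type u} [AddCommGroup E'] [Module R E'] (𝓔 : ι → AddSubgroup E')
  [DirectSum.Decomposition 𝓔] [SetLike.GradedSMul 𝒜 𝓔] (e : (R ⧸ m.toIdeal) →ₗ[R] E')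
  (he : GrLC.IsStarInjHull 𝒜 (GrLC.quotGr 𝒜 m) 𝓔 e)

include he in
/-- The localization at `m` of the *injective hull of `R/m` is an injective `R_m`-module. -/
theorem injective_localizedModule' :
    Module.Injective (Localization.AtPrime m.toIdeal)
      (LocalizedModule m.toIdeal.primeCompl E') := by
  haveI := injective_localizedModule 𝒜 m 𝓔 e he
  exact injective_of_isLocalization m.toIdeal.primeCompl (Localization.AtPrime m.toIdeal)
    (LocalizedModule m.toIdeal.primeCompl E')

/-- The map `k(m) → E'_m`. -/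
noncomputable def hullMap : ResidueField (Localization.AtPrime m.toIdeal)
    →ₗ[Localization.AtPrime m.toIdeal] LocalizedModule m.toIdeal.primeCompl E' :=
  (LocalizedModule.map m.toIdeal.primeCompl e) ∘ₗ
    (Groth.Agent.Lib.Helper29GrExtLoc.resEquiv m.toIdeal).toLinearMap

include he in
theorem hullMap_isInjectiveHull : InjHull.IsInjectiveHull (hullMap 𝒜 m e) := by
  refine ⟨⟨?_, ?_⟩, injective_localizedModule' 𝒜 m 𝓔 e he⟩
  · have h1 := LocalizedModule.map_injective m.toIdeal.primeCompl e he.injective
    have h2 := (Groth.Agent.Lib.Helper29GrExtLoc.resEquiv m.toIdeal).injective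
    exact h1.comp h2
  · intro N hN hbot
    obtain ⟨x, hxN, hx0⟩ := (Submodule.ne_bot_iff N).mp hN
    induction x using LocalizedModule.induction_on with
    | h y s =>
      have hy : y ≠ 0 := by
        rintro rfl
        exact hx0 (LocalizedModule.zero_mk s)
      obtain ⟨r, hr0, z, hz⟩ := exists_smul_mem_range 𝒜 m 𝓔 e he y hy
      have hw : (r * (s : R)) • (LocalizedModule.mk y s : LocalizedModule m.toIdeal.primeCompl E')
          = LocalizedModule.mk (r • y) 1 := by
        rw [mul_smul]
        have h1 : (s : R) • (LocalizedModule.mk y s : LocalizedModule m.toIdeal.primeCompl E')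
            = LocalizedModule.mk y 1 := by
          rw [LocalizedModule.smul'_mk]
          exact LocalizedModule.mk_cancel s y
        rw [h1, LocalizedModule.smul'_mk]
      have hwN : (LocalizedModule.mk (r • y) 1 : LocalizedModule m.toIdeal.primeCompl E') ∈ N := by
        rw [← hw, ← algebraMap_smul (Localization.AtPrime m.toIdeal)]
        exact N.smul_mem _ hxN
      have hwR : (LocalizedModule.mk (r • y) 1 : LocalizedModule m.toIdeal.primeCompl E') ∈
          LinearMap.range (hullMap 𝒜 m e) := by
        refine ⟨(Groth.Agent.Lib.Helper29GrExtLoc.resEquiv m.toIdeal).symm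
          (LocalizedModule.mk z 1), ?_⟩
        show LocalizedModule.map m.toIdeal.primeCompl e
          ((Groth.Agent.Lib.Helper29GrExtLoc.resEquiv m.toIdeal)
            ((Groth.Agent.Lib.Helper29GrExtLoc.resEquiv m.toIdeal).symm
              (LocalizedModule.mk z 1))) = _
        rw [LinearEquiv.apply_symm_apply, LocalizedModule.map_mk, hz]
      have hw0 : (LocalizedModule.mk (r • y) 1 : LocalizedModule m.toIdeal.primeCompl E') ≠ 0 := by
        intro h0
        rw [Groth.Agent.Lib.Helper29Socle.mk_eq_zero_iff'] at h0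
        obtain ⟨u, hu⟩ := h0
        exact hr0 (smul_injective_of_notMem 𝒜 m 𝓔 e he (u : R) u.2 _ hu)
      apply hw0
      have : (LocalizedModule.mk (r • y) 1 : LocalizedModule m.toIdeal.primeCompl E') ∈
          N ⊓ LinearMap.range (hullMap 𝒜 m e) := ⟨hwN, hwR⟩
      rw [hbot] at this
      exact (Submodule.mem_bot _).mp this

omit [IsNoetherianRing R] in
theorem nonempty_H_congr {A : Type u} [CommRing A] (J J' : Ideal A) (h : J = J') (n : ℕ)
    (M M' : Type u) [AddCommGroup M] [Module A M] [AddCommGroup M'] [Module A M']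
    (ε : M ≃ₗ[A] M') : Nonempty (LocCoh.H J n M ≃ₗ[A] LocCoh.H J' n M') := by
  subst h
  exact ⟨((localCohomology J n).mapIso ε.toModuleIso).toLinearEquiv⟩

include he in
/-- The localization at `m` of a *canonical module is a canonical module of `R_m`. -/
theorem nonempty_hom_equiv (n : ℕ) (I : GrLC.StarInjRes 𝒜 𝒜) {C : Type u} [AddCommGroup C]
    [Module R C] (𝒞 : ι → AddSubgroup C) [DirectSum.Decomposition 𝒞] [SetLike.GradedSMul 𝒜 𝒞]
    (hC : GrLC.IsStarCanonical 𝒜 𝒞 𝓔 m n I) (E₀ : Type u) [AddCommGroup E₀]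
    [Module (Localization.AtPrime m.toIdeal) E₀]
    (f : IsLocalRing.ResidueField (Localization.AtPrime m.toIdeal)
      →ₗ[Localization.AtPrime m.toIdeal] E₀) (hf : InjHull.IsInjectiveHull f) :
    Nonempty ((LocalizedModule m.toIdeal.primeCompl C →ₗ[Localization.AtPrime m.toIdeal] E₀)
      ≃ₗ[Localization.AtPrime m.toIdeal]
      LocCoh.H (IsLocalRing.maximalIdeal (Localization.AtPrime m.toIdeal)) n
        (Localization.AtPrime m.toIdeal)) := by
  obtain ⟨hfin, φ, -⟩ := hC
  obtain ⟨ε, -⟩ := Groth.Agent.S0302.result (Localization.AtPrime m.toIdeal)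
    (ResidueField (Localization.AtPrime m.toIdeal)) E₀
    (LocalizedModule m.toIdeal.primeCompl E') f hf (hullMap 𝒜 m e)
    (hullMap_isInjectiveHull 𝒜 m 𝓔 e he)
  haveI : Module.FinitePresentation R C := Module.finitePresentation_of_finite R C
  let e1 : (LocalizedModule m.toIdeal.primeCompl C →ₗ[Localization.AtPrime m.toIdeal] E₀)
      ≃ₗ[Localization.AtPrime m.toIdeal]
      (LocalizedModule m.toIdeal.primeCompl C →ₗ[Localization.AtPrime m.toIdeal]
        LocalizedModule m.toIdeal.primeCompl E') := LinearEquiv.congrRight ε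
  let e2R : LocalizedModule m.toIdeal.primeCompl (C →ₗ[R] E') ≃ₗ[R]
      (LocalizedModule m.toIdeal.primeCompl C →ₗ[Localization.AtPrime m.toIdeal]
        LocalizedModule m.toIdeal.primeCompl E') :=
    IsLocalizedModule.iso m.toIdeal.primeCompl (LocalizedModule.map m.toIdeal.primeCompl)
  let e2 : LocalizedModule m.toIdeal.primeCompl (C →ₗ[R] E')
      ≃ₗ[Localization.AtPrime m.toIdeal]
      (LocalizedModule m.toIdeal.primeCompl C →ₗ[Localization.AtPrime m.toIdeal]
        LocalizedModule m.toIdeal.primeCompl E') :=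
    e2R.extendScalarsOfIsLocalization m.toIdeal.primeCompl (Localization.AtPrime m.toIdeal)
  let e3 : LocalizedModule m.toIdeal.primeCompl (C →ₗ[R] E')
      ≃ₗ[Localization.AtPrime m.toIdeal] LocalizedModule m.toIdeal.primeCompl (I.H m n) :=
    IsLocalizedModule.mapEquiv m.toIdeal.primeCompl
      (LocalizedModule.mkLinearMap m.toIdeal.primeCompl _)
      (LocalizedModule.mkLinearMap m.toIdeal.primeCompl _) (Localization.AtPrime m.toIdeal) φ
  obtain ⟨ψ⟩ := Groth.Agent.S13224.result R 𝒜 m R 𝒜 I n
  let e4 : LocalizedModule m.toIdeal.primeCompl (I.H m n)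
      ≃ₗ[Localization.AtPrime m.toIdeal]
      LocalizedModule m.toIdeal.primeCompl (LocCoh.H m.toIdeal n R) :=
    IsLocalizedModule.mapEquiv m.toIdeal.primeCompl
      (LocalizedModule.mkLinearMap m.toIdeal.primeCompl _)
      (LocalizedModule.mkLinearMap m.toIdeal.primeCompl _) (Localization.AtPrime m.toIdeal) ψ
  obtain ⟨e5⟩ := Groth.Agent.S11618.result R m.toIdeal m.toIdeal.primeCompl R n
  let ρR : LocalizedModule m.toIdeal.primeCompl R ≃ₗ[R] Localization.AtPrime m.toIdeal :=
    IsLocalizedModule.iso m.toIdeal.primeCompl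
      (Algebra.linearMap R (Localization.AtPrime m.toIdeal))
  let ρ : LocalizedModule m.toIdeal.primeCompl R ≃ₗ[Localization.AtPrime m.toIdeal]
      Localization.AtPrime m.toIdeal :=
    ρR.extendScalarsOfIsLocalization m.toIdeal.primeCompl (Localization.AtPrime m.toIdeal)
  obtain ⟨e6⟩ := nonempty_H_congr _ _
    (Localization.AtPrime.map_eq_maximalIdeal (I := m.toIdeal)) n _ _ ρ
  exact ⟨e1 ≪≫ₗ e2.symm ≪≫ₗ e3 ≪≫ₗ e4 ≪≫ₗ e5 ≪≫ₗ e6⟩

end graded

end Groth.Agent.Lib.LeadCan
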