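import Mathlib
import Groth.Agent.Lib.LeadCanA

/-!
# Injective dimension and restriction of scalars along a localization (lead)

* `injective_of_injective_isLocalization`: an injective module over a localization `S⁻¹R` is an
  injective `R`-module.
* `hasInjectiveDimensionLT_restrictScalars`: injective dimension does not grow under restriction of
  scalars along `R → S⁻¹R`.
* `bassNum_eq_zero_of_hasInjectiveDimensionLT`: Bass numbers vanish above the injective dimension.
-/

set_option autoImplicit false
set_option maxHeartbeats 400000
set_option linter.style.haveILetI false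
set_option linter.unusedSectionVars false
set_option linter.unusedVariables false

universe u

namespace Groth.Agent.Lib.LeadCan

open CategoryTheory CategoryTheory.Abelian IsLocalRing

section restrict

variable {R : Type u} [CommRing R] (S : Submonoid R)

local notation "A" => Localization S

theorem isUnit_algebraMap_end (Q : Type u) [AddCommGroup Q] [Module R Q] [Module A Q]
    [IsScalarTower R A Q] (s : S) : IsUnit (algebraMap R (Module.End R Q) s) := by
  rw [Module.End.isUnit_iff]
  have hs : IsUnit (algebraMap R A s) := IsLocalization.map_units A s
  obtain ⟨a, ha⟩ := hs.exists_right_inv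
  have ha' : a * algebraMap R A s = 1 := by rw [mul_comm]; exact ha
  constructor
  · intro x y hxy
    have h1 : (algebraMap R A s) • x = (algebraMap R A s) • y := by
      rw [algebraMap_smul, algebraMap_smul]
      exact hxy
    calc x = (a * algebraMap R A s) • x := by rw [ha', one_smul]
      _ = (a * algebraMap R A s) • y := by rw [mul_smul, h1, ← mul_smul]
      _ = y := by rw [ha', one_smul]
  · intro y
    refine ⟨a • y, ?_⟩
    show (s : R) • a • y = y
    rw [← algebraMap_smul A (s : R), ← mul_smul, ha, one_smul]

/-- An injective module over a localization is injective over the base ring. -/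
theorem injective_of_injective_isLocalization (Q : Type u) [AddCommGroup Q] [Module R Q]
    [Module A Q] [IsScalarTower R A Q] [hQ : Module.Injective A Q] : Module.Injective R Q := by
  apply Module.Baer.injective
  intro I g
  have hu : ∀ s : S, IsUnit (algebraMap R (Module.End R Q) s) := isUnit_algebraMap_end S Q
  let gS : LocalizedModule S I →ₗ[R] Q := LocalizedModule.lift S g hu
  let gA : LocalizedModule S I →ₗ[A] Q := gS.extendScalarsOfIsLocalization S A
  let ιR : LocalizedModule S I →ₗ[R] LocalizedModule S R :=
    IsLocalizedModule.map S (LocalizedModule.mkLinearMap S I) (LocalizedModule.mkLinearMap S R)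
      (Submodule.subtype I)
  let ιA : LocalizedModule S I →ₗ[A] LocalizedModule S R := ιR.extendScalarsOfIsLocalization S A
  have hι : Function.Injective ιA :=
    IsLocalizedModule.map_injective S (LocalizedModule.mkLinearMap S I)
      (LocalizedModule.mkLinearMap S R) (Submodule.subtype I) (Submodule.injective_subtype I)
  obtain ⟨h', hh'⟩ := hQ.out ιA hι gA
  refine ⟨(h'.restrictScalars R) ∘ₗ (LocalizedModule.mkLinearMap S R), fun x hx => ?_⟩
  have h1 : ιA (LocalizedModule.mkLinearMap S I ⟨x, hx⟩) = LocalizedModule.mkLinearMap S R x :=
    IsLocalizedModule.map_apply S (LocalizedModule.mkLinearMap S I)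
      (LocalizedModule.mkLinearMap S R) (Submodule.subtype I) ⟨x, hx⟩
  have h2 : gA (LocalizedModule.mkLinearMap S I ⟨x, hx⟩) = g ⟨x, hx⟩ :=
    LocalizedModule.lift_mk S g hu ⟨x, hx⟩ 1 |>.trans (by simp)
  rw [LinearMap.comp_apply, LinearMap.restrictScalars_apply, ← h1, hh', h2]

/-- Injective dimension does not grow under restriction of scalars along a localization. -/
theorem hasInjectiveDimensionLT_restrictScalars :
    ∀ (d : ℕ) (X : ModuleCat.{u} A), HasInjectiveDimensionLT X d →
      HasInjectiveDimensionLT ((ModuleCat.restrictScalars (algebraMap R A)).obj X) d := by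
  have hinj : ∀ (X : ModuleCat.{u} A), Injective X →
      Injective ((ModuleCat.restrictScalars (algebraMap R A)).obj X) := by
    intro X hX
    haveI : Module.Injective A X := Module.injective_module_of_injective_object A X
    letI : Module R X := Module.compHom X (algebraMap R A)
    haveI : IsScalarTower R A X := IsScalarTower.of_algebraMap_smul (fun r x => rfl)
    haveI : Module.Injective R X := injective_of_injective_isLocalization S X
    exact Module.injective_object_of_injective_module R X
  intro d
  induction d with
  | zero =>
    intro X hX
    have hz : Limits.IsZero X := isZero_of_hasInjectiveDimensionLT_zero X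
    exact ((ModuleCat.restrictScalars (algebraMap R A)).map_isZero hz).hasInjectiveDimensionLT_zero
  | succ d ih =>
    intro X hX
    cases d with
    | zero =>
      haveI : Injective X := injective_iff_hasInjectiveDimensionLT_one.mpr hX
      haveI := hinj X inferInstance
      infer_instance
    | succ d =>
      let Sc : ShortComplex (ModuleCat.{u} A) :=
        ShortComplex.mk (Injective.ι X) (Limits.cokernel.π (Injective.ι X))
          (Limits.cokernel.condition _)
      have hS : Sc.ShortExact :=
        { exact := ShortComplex.exact_cokernel _
          mono_f := inferInstanceAs (Mono (Injective.ι X))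
          epi_g := inferInstanceAs (Epi (Limits.cokernel.π (Injective.ι X))) }
      have hQ : Injective Sc.X₂ := inferInstanceAs (Injective (Injective.under X))
      have h3 : HasInjectiveDimensionLT Sc.X₃ (d + 1) :=
        (hS.hasInjectiveDimensionLT_X₃_iff d hQ).mpr hX
      have h3' := ih Sc.X₃ h3
      have hS' := hS.map_of_exact (ModuleCat.restrictScalars (algebraMap R A))
      haveI hQ' := hinj Sc.X₂ hQ
      have h2' : HasInjectiveDimensionLT
          ((ModuleCat.restrictScalars (algebraMap R A)).obj Sc.X₂) (d + 1 + 1) :=
        hasInjectiveDimensionLT_of_ge _ 1 _ (by omega)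
      exact hS'.hasInjectiveDimensionLT_X₁ (d + 1) h3' h2'

/-- Module-level version. -/
theorem hasInjectiveDimensionLT_of_isLocalization (X : Type u) [AddCommGroup X] [Module R X]
    [Module A X] [IsScalarTower R A X] (d : ℕ)
    (h : HasInjectiveDimensionLT (ModuleCat.of A X) d) :
    HasInjectiveDimensionLT (ModuleCat.of R X) d := by
  have h1 := hasInjectiveDimensionLT_restrictScalars S d (ModuleCat.of A X) h
  let e : (↑((ModuleCat.restrictScalars (algebraMap R A)).obj (ModuleCat.of A X))) ≃ₗ[R] X :=
    { toFun := fun x => x
      invFun := fun x => x
      map_add' := fun _ _ => rfl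
      map_smul' := fun r (x : X) => algebraMap_smul A r x
      left_inv := fun _ => rfl
      right_inv := fun _ => rfl }
  exact hasInjectiveDimensionLT_of_iso e.toModuleIso d

end restrict

section bass

variable {R : Type u} [CommRing R] [IsNoetherianRing R]

/-- Bass numbers vanish above the injective dimension. -/
theorem bassNum_eq_zero_of_hasInjectiveDimensionLT (M : Type u) [AddCommGroup M] [Module R M]
    (d : ℕ) (h : HasInjectiveDimensionLT (ModuleCat.of R M) d) (p : Ideal R) [p.IsPrime] (j : ℕ)
    (hj : d ≤ j) : GrLC.bassNum p M j = 0 := by
  rw [LeadInj.bassNum_eq_zero_iff]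
  have hloc' : Subsingleton (Ext.{u} (ModuleCat.of (Localization.AtPrime p)
        (LocalizedModule p.primeCompl (R ⧸ p)))
      (ModuleCat.of (Localization.AtPrime p) (LocalizedModule p.primeCompl M)) j) := by
    refine (Groth.Agent.Lib.Helper8.ExtLoc.ext_loc p.primeCompl
      (LocalizedModule.mkLinearMap p.primeCompl M) j (R ⧸ p)
      (LocalizedModule p.primeCompl (R ⧸ p))
      (LocalizedModule.mkLinearMap p.primeCompl (R ⧸ p))).mp (fun x => ⟨1, ?_⟩)
    rw [Ext.eq_zero_of_hasInjectiveDimensionLT x d hj, smul_zero]
  exact (LeadBass.extCongrLeft (Groth.Agent.Lib.Helper29GrExtLoc.resIso p) _ j).symm.injective.subsingleton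

end bass

end Groth.Agent.Lib.LeadCan
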