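import Groth.Agent.Lib.Helper29GrBaer

/-! Graded uniqueness helpers (helper3): over a *local Noetherian graded ring, a homogeneous map of
graded modules that becomes bijective after localizing at a prime containing the *maximal ideal is
bijective; a local isomorphism `M_q ≃ M'_q` with `End(M_q) = R_q` is, up to a unit, the localization
of a homogeneous map. -/

set_option autoImplicit false
set_option linter.unusedSectionVars false
set_option linter.style.haveILetI false
open DirectSum

namespace Groth.Agent.Lib.T2H3.CanonUniq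

open GrLC Groth.Agent.Lib.Helper29GrEss Groth.Agent.Lib.Helper29GrBaer

universe u

section Local

theorem exists_isUnit_of_sum {A : Type*} [CommRing A] [IsLocalRing A] {κ : Type*} (D : Finset κ)
    (r : κ → A) (h : IsUnit (∑ d ∈ D, r d)) : ∃ d ∈ D, IsUnit (r d) := by
  by_contra hne
  push Not at hne
  have h1 : ∑ d ∈ D, r d ∈ IsLocalRing.maximalIdeal A :=
    Ideal.sum_mem _ fun d hd => (IsLocalRing.mem_maximalIdeal _).mpr (hne d hd)
  exact (IsLocalRing.mem_maximalIdeal _).mp h1 h

theorem smul_bijective_of_isUnit {A : Type*} [CommRing A] {K : Type*} [AddCommGroup K] [Module A K]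
    {a : A} (ha : IsUnit a) : Function.Bijective (fun x : K => a • x) := by
  obtain ⟨v, rfl⟩ := ha
  refine Function.bijective_iff_has_inverse.mpr ⟨fun x => (↑v⁻¹ : A) • x, fun x => ?_, fun x => ?_⟩
  · change (↑v⁻¹ : A) • ((v : A) • x) = x
    rw [smul_smul, Units.inv_mul, one_smul]
  · change (v : A) • ((↑v⁻¹ : A) • x) = x
    rw [smul_smul, Units.mul_inv, one_smul]

variable {R : Type u} [CommRing R] (S : Submonoid R)
variable {M : Type u} [AddCommGroup M] [Module R M] {M' : Type u} [AddCommGroup M'] [Module R M']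

theorem map_eq_smul_of_comp_eq (h : M →ₗ[R] M') (s : S)
    (θ : LocalizedModule S M →ₗ[Localization S] LocalizedModule S M')
    (hs : LocalizedModule.mkLinearMap S M' ∘ₗ h =
      s • (θ.restrictScalars R ∘ₗ LocalizedModule.mkLinearMap S M)) :
    LocalizedModule.map S h = algebraMap R (Localization S) (s : R) • θ := by
  apply LinearMap.restrictScalars_injective R
  apply IsLocalizedModule.linearMap_ext S (LocalizedModule.mkLinearMap S M)
    (LocalizedModule.mkLinearMap S M')
  ext c
  have h1 := LinearMap.congr_fun hs c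
  simp only [LinearMap.comp_apply, LinearMap.smul_apply, LinearMap.restrictScalars_apply,
    LocalizedModule.mkLinearMap_apply] at h1 ⊢
  rw [LocalizedModule.map_mk, h1, algebraMap_smul]
  rfl

end Local

variable {ι : Type} [AddCommGroup ι] [DecidableEq ι]
variable {R : Type u} [CommRing R] (𝒜 : ι → AddSubgroup R) [GradedRing 𝒜]

/-- In a *local Noetherian graded ring every proper homogeneous ideal lies in the *maximal
ideal (any grading group). -/
theorem le_of_isStarLocal [IsNoetherianRing R] {m : HomogeneousIdeal 𝒜} (hm : IsStarLocal 𝒜 m)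
    (J : HomogeneousIdeal 𝒜) (hJ : J ≠ ⊤) : J ≤ m := by
  haveI : WellFoundedGT (HomogeneousIdeal 𝒜) :=
    StrictMono.wellFoundedGT (f := fun K : HomogeneousIdeal 𝒜 => K.toIdeal) (fun _ _ h => h)
  obtain ⟨K, ⟨hJK, hKtop⟩, hKmax⟩ := WellFounded.has_min (wellFounded_gt (α := HomogeneousIdeal 𝒜))
    {K : HomogeneousIdeal 𝒜 | J ≤ K ∧ K ≠ ⊤} ⟨J, le_rfl, hJ⟩
  have hco : IsCoatom K := by
    refine ⟨hKtop, fun b hb => ?_⟩
    by_contra hbtop
    exact hKmax b ⟨le_trans hJK hb.le, hbtop⟩ hb
  rw [← hm.2 K hco]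
  exact hJK

variable {M : Type u} [AddCommGroup M] [Module R M] (ℳ : ι → AddSubgroup M)
  [DirectSum.Decomposition ℳ] [SetLike.GradedSMul 𝒜 ℳ]

/-- The colon ideal `(N : x)` of a homogeneous submodule by a homogeneous element is homogeneous. -/
theorem colon_isHomogeneous (N : Submodule R M)
    (hN : ∀ y ∈ N, ∀ i, ((decompose ℳ y) i : M) ∈ N) {j : ι} {x : M} (hx : x ∈ ℳ j) :
    (N.comap (LinearMap.toSpanSingleton R M x)).IsHomogeneous 𝒜 := by
  intro i r hr
  rw [Submodule.mem_comap, LinearMap.toSpanSingleton_apply] at hr ⊢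
  have h1 := hN _ hr (i + j)
  rwa [decompose_smul_of_mem_right 𝒜 ℳ hx r (i + j), add_sub_cancel_right] at h1

/-- If `t • x ∈ N` with `x` homogeneous, `N` homogeneous and `t` outside a prime containing the
*maximal ideal, then `x ∈ N`. -/
theorem mem_of_smul_mem [IsNoetherianRing R] {m : HomogeneousIdeal 𝒜} (hm : IsStarLocal 𝒜 m)
    (q : Ideal R) (hmq : m.toIdeal ≤ q) (N : Submodule R M)
    (hN : ∀ y ∈ N, ∀ i, ((decompose ℳ y) i : M) ∈ N) {j : ι} {x : M} (hx : x ∈ ℳ j) {t : R}
    (ht : t ∉ q) (htx : t • x ∈ N) : x ∈ N := by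
  obtain ⟨J, hJ⟩ : ∃ J : HomogeneousIdeal 𝒜,
      J.toIdeal = N.comap (LinearMap.toSpanSingleton R M x) :=
    ⟨⟨N.comap (LinearMap.toSpanSingleton R M x), colon_isHomogeneous 𝒜 ℳ N hN hx⟩, rfl⟩
  by_contra hxN
  have hJtop : J ≠ ⊤ := by
    intro h
    apply hxN
    have h1 : (1 : R) ∈ J.toIdeal := by
      rw [h]
      trivial
    rw [hJ, Submodule.mem_comap, LinearMap.toSpanSingleton_apply, one_smul] at h1
    exact h1
  have h2 := le_of_isStarLocal 𝒜 hm J hJtop
  have h3 : t ∈ J.toIdeal := by
    rw [hJ, Submodule.mem_comap, LinearMap.toSpanSingleton_apply]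
    exact htx
  exact ht (hmq (h2 h3))

variable {M' : Type u} [AddCommGroup M'] [Module R M'] (ℳ' : ι → AddSubgroup M')
  [DirectSum.Decomposition ℳ'] [SetLike.GradedSMul 𝒜 ℳ']

theorem decompose_map_deg {u : M →ₗ[R] M'} {d : ι} (hu : IsGrHomDeg ℳ ℳ' u d) (x : M) (i : ι) :
    ((decompose ℳ' (u x)) (i + d) : M') = u ((decompose ℳ x) i) := by
  classical
  induction x using DirectSum.Decomposition.inductionOn ℳ with
  | zero => simp
  | homogeneous y =>
    rename_i j
    by_cases hij : j = i
    · subst hij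
      rw [DirectSum.decompose_of_mem_same ℳ' (hu j y y.2), DirectSum.decompose_coe,
        DirectSum.of_eq_same]
    · have hne : j + d ≠ i + d := fun h => hij (add_right_cancel h)
      rw [DirectSum.decompose_of_mem_ne ℳ' (hu j y y.2) hne, DirectSum.decompose_coe,
        DirectSum.of_eq_of_ne _ _ _ (Ne.symm hij)]
      simp
  | add a b ha hb =>
    rw [map_add, DirectSum.decompose_add, DirectSum.add_apply, AddSubgroup.coe_add, ha, hb,
      DirectSum.decompose_add, DirectSum.add_apply, AddSubgroup.coe_add, map_add]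

/-- A homogeneous map that is bijective after localizing at a prime containing the *maximal ideal
is bijective. -/
theorem bijective_of_map_bijective [IsNoetherianRing R] {m : HomogeneousIdeal 𝒜}
    (hm : IsStarLocal 𝒜 m) (q : Ideal R) [q.IsPrime] (hmq : m.toIdeal ≤ q) {u : M →ₗ[R] M'} {d : ι}
    (hu : IsGrHomDeg ℳ ℳ' u d)
    (hb : Function.Bijective (LocalizedModule.map q.primeCompl u)) : Function.Bijective u := by
  classical
  constructor
  · -- injective
    rw [← LinearMap.ker_eq_bot, eq_bot_iff]
    intro x hx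
    rw [LinearMap.mem_ker] at hx
    rw [← DirectSum.sum_support_decompose ℳ x]
    refine Submodule.sum_mem _ fun i _ => ?_
    have hxi : u ((decompose ℳ x) i) = 0 := by
      rw [← decompose_map_deg ℳ ℳ' hu x i, hx, DirectSum.decompose_zero]
      rfl
    have h0 : LocalizedModule.mk ((decompose ℳ x) i : M) (1 : q.primeCompl) = 0 := by
      apply hb.1
      rw [LocalizedModule.map_mk, hxi, map_zero, LocalizedModule.zero_mk]
    rw [← LocalizedModule.zero_mk (1 : q.primeCompl), LocalizedModule.mk_eq] at h0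
    obtain ⟨t, ht⟩ := h0
    rw [smul_zero, smul_zero, one_smul] at ht
    refine mem_of_smul_mem 𝒜 ℳ hm q hmq ⊥ ?_ (SetLike.coe_mem ((decompose ℳ x) i)) t.2 ?_
    · intro y hy i
      rw [(Submodule.mem_bot R).mp hy, DirectSum.decompose_zero]
      exact Submodule.zero_mem _
    · rw [Submodule.mem_bot]
      exact ht
  · -- surjective
    rw [← LinearMap.range_eq_top, eq_top_iff]
    intro y _
    have hN : ∀ y ∈ LinearMap.range u, ∀ i, ((decompose ℳ' y) i : M') ∈ LinearMap.range u := by
      rintro _ ⟨c, rfl⟩ i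
      have h1 := decompose_map_deg ℳ ℳ' hu c (i - d)
      rw [sub_add_cancel] at h1
      rw [h1]
      exact ⟨_, rfl⟩
    rw [← DirectSum.sum_support_decompose ℳ' y]
    refine Submodule.sum_mem _ fun i _ => ?_
    obtain ⟨z, hz⟩ := hb.2 (LocalizedModule.mk ((decompose ℳ' y) i : M') (1 : q.primeCompl))
    induction z using LocalizedModule.induction_on with
    | h c t =>
      rw [LocalizedModule.map_mk, LocalizedModule.mk_eq] at hz
      obtain ⟨t', ht'⟩ := hz
      rw [one_smul] at ht'
      refine mem_of_smul_mem 𝒜 ℳ' hm q hmq (LinearMap.range u) hN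
        (SetLike.coe_mem ((decompose ℳ' y) i)) (t' * t).2 ?_
      refine ⟨t' • c, ?_⟩
      rw [Submonoid.coe_mul, mul_smul]
      change u ((t' : R) • c) = (t' : R) • (t : R) • _
      rw [map_smul]
      exact ht'

include 𝒜 in
/-- Given `θ : M_q ≃ M'_q` and `R_q = End(M_q)`, some homogeneous component of a lift of `θ`
localizes to a bijection. -/
theorem exists_part_bijective [IsNoetherianRing R] (q : Ideal R) [q.IsPrime] [Module.Finite R M]
    (hEnd : Function.Bijective (fun r : Localization.AtPrime q =>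
      r • (LinearMap.id : LocalizedModule q.primeCompl M →ₗ[Localization.AtPrime q]
        LocalizedModule q.primeCompl M)))
    (θ : LocalizedModule q.primeCompl M ≃ₗ[Localization.AtPrime q]
      LocalizedModule q.primeCompl M') :
    ∃ (d : ι) (u : M →ₗ[R] M'), IsGrHomDeg ℳ ℳ' u d ∧
      Function.Bijective (LocalizedModule.map q.primeCompl u) := by
  classical
  haveI : Module.FinitePresentation R M := Module.finitePresentation_of_finite R M
  obtain ⟨h, s, hs⟩ := Module.FinitePresentation.exists_lift_of_isLocalizedModule q.primeCompl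
    (LocalizedModule.mkLinearMap q.primeCompl M')
    (θ.toLinearMap.restrictScalars R ∘ₗ LocalizedModule.mkLinearMap q.primeCompl M)
  have hmap := map_eq_smul_of_comp_eq q.primeCompl h s θ.toLinearMap hs
  obtain ⟨D, hD⟩ := exists_sum_part 𝒜 ℳ ℳ' h
  have hsurj : ∀ d, ∃ r : Localization.AtPrime q,
      r • (LinearMap.id : LocalizedModule q.primeCompl M →ₗ[Localization.AtPrime q]
        LocalizedModule q.primeCompl M) =
      θ.symm.toLinearMap ∘ₗ LocalizedModule.map q.primeCompl (part 𝒜 ℳ ℳ' h d) :=
    fun d => hEnd.2 _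
  choose r hr using hsurj
  have hsum : (∑ d ∈ D, r d) = algebraMap R (Localization.AtPrime q) (s : R) := by
    apply hEnd.1
    change (∑ d ∈ D, r d) • LinearMap.id = algebraMap R (Localization.AtPrime q) (s : R) •
      LinearMap.id
    rw [Finset.sum_smul]
    simp only [hr]
    apply LinearMap.ext
    intro x
    simp only [LinearMap.sum_apply, LinearMap.comp_apply, LinearEquiv.coe_coe]
    rw [← map_sum, ← LinearMap.sum_apply, ← map_sum, hD, hmap]
    rw [LinearMap.smul_apply, LinearEquiv.coe_coe, map_smul, LinearEquiv.symm_apply_apply,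
      LinearMap.smul_apply, LinearMap.id_apply]
  have hunit : IsUnit (∑ d ∈ D, r d) := by
    rw [hsum]
    exact IsLocalization.map_units (Localization.AtPrime q) s
  obtain ⟨d, -, hd⟩ := exists_isUnit_of_sum D r hunit
  refine ⟨d, part 𝒜 ℳ ℳ' h d, part_isGrHomDeg 𝒜 ℳ ℳ' h d, ?_⟩
  have h1 : ∀ x, LocalizedModule.map q.primeCompl (part 𝒜 ℳ ℳ' h d) x = θ (r d • x) := by
    intro x
    have h2 := LinearMap.congr_fun (hr d) x
    simp only [LinearMap.smul_apply, LinearMap.id_apply, LinearMap.comp_apply,
      LinearEquiv.coe_coe] at h2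
    rw [h2, LinearEquiv.apply_symm_apply]
  have h3 : (⇑(LocalizedModule.map q.primeCompl (part 𝒜 ℳ ℳ' h d)) :
      LocalizedModule q.primeCompl M → LocalizedModule q.primeCompl M') =
      ⇑θ ∘ (fun x => r d • x) := funext h1
  rw [h3]
  exact θ.bijective.comp (smul_bijective_of_isUnit hd)

end Groth.Agent.Lib.T2H3.CanonUniq
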