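import Mathlib
import Groth.Agent.Lib.LeadCanC
import Groth.Agent.Lib.LeadCanD
import Groth.Agent.Lib.LeadBassF
import Groth.Agent.Lib.T2H3CanonUniq
import Groth.Agent.Lib.Helper28DepthMore
import Groth.Agent.S13232
import Groth.Agent.S7700

/-!
# *Canonical modules of `ℤ`-graded *local rings with maximal *maximal ideal (lead)

* `height_eq_core_add_one`: `ht p = ht p* + 1` for non-homogeneous primes of a Noetherian `ℤ`-graded
  ring.
* `ringKrullDim_eq_height_of_isStarLocal`: `dim R = ht m` for a *local ring whose *maximal ideal is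
  maximal.
* `isCohenMacaulayModule_and_injdim`: the *canonical module is Cohen–Macaulay at `m` and has finite
  injective dimension.
-/

set_option autoImplicit false
set_option maxHeartbeats 400000
set_option linter.style.haveILetI false
set_option linter.unusedSectionVars false
set_option linter.unusedVariables false

universe u

namespace Groth.Agent.Lib.LeadCan

open CategoryTheory CategoryTheory.Abelian IsLocalRing

section dim

variable {R : Type u} [CommRing R] [IsNoetherianRing R] (𝒜 : ℤ → AddSubgroup R) [GradedRing 𝒜]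

theorem height_eq_core_add_one (p : Ideal R) [hp : p.IsPrime] (hnh : ¬ p.IsHomogeneous 𝒜) :
    p.height = (Ideal.homogeneousCore 𝒜 p).toIdeal.height + 1 := by
  haveI hcp := isPrime_homogeneousCore 𝒜 p hp
  have hd := LeadBass.height_map_mk_core_eq_one 𝒜 p hnh
  haveI : Nontrivial (LocalizedModule p.primeCompl R) :=
    (Groth.Agent.Lib.Helper28.localizedModuleSelfEquiv p).toEquiv.nontrivial
  have key := Groth.Agent.S13232.result R 𝒜 R 𝒜 p 1 (by rw [hd]; rfl) inferInstance
  rw [Module.supportDim_eq_of_equiv (Groth.Agent.Lib.Helper28.localizedModuleSelfEquiv p),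
    Module.supportDim_eq_of_equiv (Groth.Agent.Lib.Helper28.localizedModuleSelfEquiv
      (Ideal.homogeneousCore 𝒜 p).toIdeal),
    Groth.Agent.Lib.Helper28.supportDim_localization_self,
    Groth.Agent.Lib.Helper28.supportDim_localization_self] at key
  exact_mod_cast key

theorem ringKrullDim_eq_height_of_isStarLocal (m : HomogeneousIdeal 𝒜)
    (hm : GrLC.IsStarLocal 𝒜 m) [hmax : m.toIdeal.IsMaximal] :
    ringKrullDim R = m.toIdeal.height := by
  haveI := hmax.isPrime
  apply le_antisymm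
  · rw [ringKrullDim_le_iff_height_le]
    intro p hp
    have : p.height ≤ m.toIdeal.height := by
      by_cases hph : p.IsHomogeneous 𝒜
      · have hle : (⟨p, hph⟩ : HomogeneousIdeal 𝒜) ≤ m :=
          Groth.Agent.Lib.T2H3.CanonUniq.le_of_isStarLocal 𝒜 hm _ (fun h => hp.ne_top
            (congrArg HomogeneousIdeal.toIdeal h))
        exact Ideal.height_mono hle
      · rw [height_eq_core_add_one 𝒜 p hph]
        haveI := isPrime_homogeneousCore 𝒜 p hp
        have hle : Ideal.homogeneousCore 𝒜 p ≤ m :=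
          Groth.Agent.Lib.T2H3.CanonUniq.le_of_isStarLocal 𝒜 hm _ (fun h => hp.ne_top (by
            have h1 : (Ideal.homogeneousCore 𝒜 p).toIdeal = ⊤ := congrArg HomogeneousIdeal.toIdeal h
            exact top_le_iff.mp (h1 ▸ Ideal.toIdeal_homogeneousCore_le 𝒜 p)))
        have hlt : (Ideal.homogeneousCore 𝒜 p).toIdeal < m.toIdeal := by
          refine lt_of_le_of_ne hle (fun heq => hph ?_)
          have h1 : m.toIdeal ≤ p := heq ▸ Ideal.toIdeal_homogeneousCore_le 𝒜 p
          have h2 : m.toIdeal = p := hmax.eq_of_le hp.ne_top h1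
          rw [← h2]
          exact m.isHomogeneous
        exact Ideal.height_add_one_le_of_lt_of_isPrime hlt
    exact_mod_cast this
  · exact Ideal.height_le_ringKrullDim_of_isPrime

end dim

section main

variable {R : Type u} [CommRing R] [hCM : LocCoh.IsCohenMacaulayRing R] (𝒜 : ℤ → AddSubgroup R)
  [GradedRing 𝒜] (m : HomogeneousIdeal 𝒜) (hm : GrLC.IsStarLocal 𝒜 m) [hmax : m.toIdeal.IsMaximal]
  (n : ℕ) (hn : ringKrullDim R = n) (I : GrLC.StarInjRes 𝒜 𝒜)
  {E' : Type u} [AddCommGroup E'] [Module R E'] (𝓔 : ℤ → AddSubgroup E')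
  [DirectSum.Decomposition 𝓔] [SetLike.GradedSMul 𝒜 𝓔] (e : (R ⧸ m.toIdeal) →ₗ[R] E')
  (he : GrLC.IsStarInjHull 𝒜 (GrLC.quotGr 𝒜 m) 𝓔 e)
  {C : Type u} [AddCommGroup C] [Module R C] (𝒞 : ℤ → AddSubgroup C) [DirectSum.Decomposition 𝒞]
  [SetLike.GradedSMul 𝒜 𝒞] (hC : GrLC.IsStarCanonical 𝒜 𝒞 𝓔 m n I)

include hm hn he hC in
/-- Local data: `R_m` is CM local of dimension `n` and `C_m` is a canonical module. -/
theorem local_data :
    ringKrullDim (Localization.AtPrime m.toIdeal) = n ∧
    Module.Finite (Localization.AtPrime m.toIdeal) (LocalizedModule m.toIdeal.primeCompl C) ∧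
    Nonempty ((LocalizedModule m.toIdeal.primeCompl C →ₗ[Localization.AtPrime m.toIdeal]
        LocalizedModule m.toIdeal.primeCompl E') ≃ₗ[Localization.AtPrime m.toIdeal]
      LocCoh.H (IsLocalRing.maximalIdeal (Localization.AtPrime m.toIdeal)) n
        (Localization.AtPrime m.toIdeal)) := by
  haveI := hmax.isPrime
  refine ⟨?_, ?_, ?_⟩
  · rw [IsLocalization.AtPrime.ringKrullDim_eq_height m.toIdeal (Localization.AtPrime m.toIdeal),
      ← ringKrullDim_eq_height_of_isStarLocal 𝒜 m hm, hn]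
  · haveI := hC.1
    exact Module.Finite.of_isLocalizedModule m.toIdeal.primeCompl
      (LocalizedModule.mkLinearMap m.toIdeal.primeCompl C)
  · exact nonempty_hom_equiv 𝒜 m 𝓔 e he n I 𝒞 hC _ (hullMap 𝒜 m e)
      (hullMap_isInjectiveHull 𝒜 m 𝓔 e he)

include hm hn he hC in
theorem isCohenMacaulayModule_and_injdim :
    LocCoh.IsCohenMacaulayModule (Localization.AtPrime m.toIdeal)
      (LocalizedModule m.toIdeal.primeCompl C) ∧
    HasInjectiveDimensionLT (ModuleCat.of R C) (n + 2) := by
  haveI := hmax.isPrime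
  haveI : LocCoh.IsCohenMacaulayLocalRing (Localization.AtPrime m.toIdeal) :=
    hCM.isCohenMacaulayLocalRing_localization m.toIdeal
  obtain ⟨hdimA, hfin, ⟨eK⟩⟩ := local_data 𝒜 m hm n hn I 𝓔 e he 𝒞 hC
  obtain ⟨h1, -, h3, -⟩ := Groth.Agent.S7700.result (Localization.AtPrime m.toIdeal) n hdimA
    (LocalizedModule m.toIdeal.primeCompl E') (hullMap 𝒜 m e)
    (hullMap_isInjectiveHull 𝒜 m 𝓔 e he) (LocalizedModule m.toIdeal.primeCompl C) eK
  refine ⟨h3, ?_⟩
  have h1R : HasInjectiveDimensionLT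
      (ModuleCat.of R (LocalizedModule m.toIdeal.primeCompl C)) (n + 1) :=
    hasInjectiveDimensionLT_of_isLocalization m.toIdeal.primeCompl _ (n + 1) h1
  have hhom : ∀ (p : Ideal R) [p.IsPrime], p.IsHomogeneous 𝒜 → ∀ j, n + 1 ≤ j →
      GrLC.bassNum p C j = 0 := by
    intro p hp hph j hj
    have hle : (⟨p, hph⟩ : HomogeneousIdeal 𝒜) ≤ m :=
      Groth.Agent.Lib.T2H3.CanonUniq.le_of_isStarLocal 𝒜 hm _ (fun h => hp.ne_top
        (congrArg HomogeneousIdeal.toIdeal h))
    have hS : m.toIdeal.primeCompl ≤ p.primeCompl := fun x hx hxp => hx (hle hxp)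
    rw [← bassNum_localizedModule m.toIdeal.primeCompl p hS C j]
    exact bassNum_eq_zero_of_hasInjectiveDimensionLT _ (n + 1) h1R p j hj
  apply LeadInj.hasInjectiveDimensionLT_succ_of_bassNum C (n + 1)
  intro p hp
  by_cases hph : p.IsHomogeneous 𝒜
  · exact hhom p hph _ (by omega)
  · haveI := isPrime_homogeneousCore 𝒜 p hp
    have h := (LeadBass.bassNum_core_shift 𝒜 p C 𝒞 1
      (by rw [LeadBass.height_map_mk_core_eq_one 𝒜 p hph]; rfl)).2 (n + 1)
    rw [h]
    exact hhom _ (Ideal.homogeneousCore 𝒜 p).isHomogeneous _ le_rfl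

end main

end Groth.Agent.Lib.LeadCan
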