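import Mathlib
import Groth.Agent.Lib.LeadCanE
import Groth.Agent.S7701
import Groth.Agent.S0345

/-!
# Gorenstein graded rings over a field and their *canonical modules (lead)

* `isMaximal_of_isField_deg0`: `R_+` is a maximal ideal when `R_0` is a field and `R` is
  non-negatively graded.
* `gorenstein_iff`: `R` is Gorenstein iff the *canonical module is a shift of `R`.
-/

set_option autoImplicit false
set_option maxHeartbeats 400000
set_option linter.style.haveILetI false
set_option linter.unusedSectionVars false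
set_option linter.unusedVariables false

universe u

namespace Groth.Agent.Lib.LeadCan

open CategoryTheory CategoryTheory.Abelian IsLocalRing

section maximal

variable {R : Type u} [CommRing R] (𝒜 : ℤ → AddSubgroup R) [GradedRing 𝒜]

theorem sub_decompose_zero_mem (hpos : ∀ n : ℤ, n < 0 → 𝒜 n = ⊥) (x : R) :
    x - (DirectSum.decompose 𝒜 x 0 : R) ∈
      Ideal.span (⋃ n ∈ Set.Ioi (0 : ℤ), (𝒜 n : Set R)) := by
  classical
  induction x using DirectSum.Decomposition.inductionOn 𝒜 with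
  | zero => simp
  | homogeneous y =>
    rename_i j
    by_cases hj : j = 0
    · subst hj
      rw [DirectSum.decompose_coe, DirectSum.of_eq_same, sub_self]
      exact zero_mem _
    · rw [DirectSum.decompose_coe, DirectSum.of_eq_of_ne _ _ _ (Ne.symm hj), ZeroMemClass.coe_zero, sub_zero]
      rcases lt_or_gt_of_ne hj with h | h
      · have hy : ∀ z : R, z ∈ 𝒜 j → z = 0 := by
          intro z hz
          rw [hpos j h, AddSubgroup.mem_bot] at hz
          exact hz
        rw [hy _ y.2]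
        exact zero_mem _
      · apply Ideal.subset_span
        simp only [Set.mem_iUnion]
        exact ⟨j, h, y.2⟩
  | add a b ha hb =>
    have : a + b - (DirectSum.decompose 𝒜 (a + b) 0 : R) =
        (a - (DirectSum.decompose 𝒜 a 0 : R)) + (b - (DirectSum.decompose 𝒜 b 0 : R)) := by
      rw [DirectSum.decompose_add, DirectSum.add_apply, AddMemClass.coe_add]
      ring
    rw [this]
    exact add_mem ha hb

theorem isMaximal_of_isField_deg0 (hpos : ∀ n : ℤ, n < 0 → 𝒜 n = ⊥)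
    (h0 : IsField (GrLC.deg0 𝒜)) (m : HomogeneousIdeal 𝒜) (hmtop : m.toIdeal ≠ ⊤)
    (hmsp : m.toIdeal = Ideal.span (⋃ n ∈ Set.Ioi (0 : ℤ), (𝒜 n : Set R))) :
    m.toIdeal.IsMaximal := by
  classical
  rw [Ideal.isMaximal_iff]
  refine ⟨fun h => hmtop ((Ideal.eq_top_iff_one _).mpr h), fun J x hmJ hxm hxJ => ?_⟩
  have hx0 : x - (DirectSum.decompose 𝒜 x 0 : R) ∈ m.toIdeal := by
    rw [hmsp]
    exact sub_decompose_zero_mem 𝒜 hpos x
  let x0 : GrLC.deg0 𝒜 := ⟨(DirectSum.decompose 𝒜 x 0 : R), (DirectSum.decompose 𝒜 x 0).2⟩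
  have hx0ne : x0 ≠ 0 := by
    intro h
    apply hxm
    have h1 : (DirectSum.decompose 𝒜 x 0 : R) = 0 := congrArg Subtype.val h
    rw [h1, sub_zero] at hx0
    exact hx0
  obtain ⟨y, hy⟩ := h0.mul_inv_cancel hx0ne
  have hy' : (DirectSum.decompose 𝒜 x 0 : R) * (y : R) = 1 := congrArg Subtype.val hy
  have h2 : (1 : R) = x * (y : R) - (x - (DirectSum.decompose 𝒜 x 0 : R)) * (y : R) := by
    rw [sub_mul, sub_sub_cancel, hy']
  rw [h2]
  exact J.sub_mem (J.mul_mem_right _ hxJ) (J.mul_mem_right _ (hmJ hx0))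

end maximal

section endo

variable {A : Type u} [CommRing A] {N : Type u} [AddCommGroup N] [Module A N]

theorem smul_id_bijective_of_equiv (ε : N ≃ₗ[A] A) :
    Function.Bijective (fun r : A => r • (LinearMap.id : N →ₗ[A] N)) := by
  have hgen : ∀ x : N, x = ε x • ε.symm 1 := by
    intro x
    apply ε.injective
    rw [map_smul, ε.apply_symm_apply, smul_eq_mul, mul_one]
  constructor
  · intro r s hrs
    have h1 := LinearMap.congr_fun hrs (ε.symm 1)
    simp only [LinearMap.smul_apply, LinearMap.id_apply] at h1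
    have h2 := congrArg ε h1
    rwa [map_smul, map_smul, ε.apply_symm_apply, smul_eq_mul, smul_eq_mul, mul_one, mul_one] at h2
  · intro φ
    refine ⟨ε (φ (ε.symm 1)), ?_⟩
    ext x
    simp only [LinearMap.smul_apply, LinearMap.id_apply]
    conv_rhs => rw [hgen x, map_smul, hgen (φ (ε.symm 1))]
    conv_lhs => rw [hgen x]
    rw [smul_smul, smul_smul, mul_comm]

end endo

section main

variable {R : Type u} [CommRing R] [hCM : LocCoh.IsCohenMacaulayRing R] (𝒜 : ℤ → AddSubgroup R)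
  [GradedRing 𝒜] (m : HomogeneousIdeal 𝒜) (hm : GrLC.IsStarLocal 𝒜 m) [hmax : m.toIdeal.IsMaximal]
  (n : ℕ) (hn : ringKrullDim R = n) (I : GrLC.StarInjRes 𝒜 𝒜)
  {E' : Type u} [AddCommGroup E'] [Module R E'] (𝓔 : ℤ → AddSubgroup E')
  [DirectSum.Decomposition 𝓔] [SetLike.GradedSMul 𝒜 𝓔] (e : (R ⧸ m.toIdeal) →ₗ[R] E')
  (he : GrLC.IsStarInjHull 𝒜 (GrLC.quotGr 𝒜 m) 𝓔 e)
  {C : Type u} [AddCommGroup C] [Module R C] (𝒞 : ℤ → AddSubgroup C) [DirectSum.Decomposition 𝒞]
  [SetLike.GradedSMul 𝒜 𝒞] (hC : GrLC.IsStarCanonical 𝒜 𝒞 𝓔 m n I)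

include hm hn he hC in
theorem gorenstein_iff :
    LocCoh.IsGorensteinRing R ↔
      ∃ (a : ℤ) (f : R →ₗ[R] C), Function.Bijective f ∧ GrLC.IsGrHomDeg 𝒜 𝒞 f a := by
  haveI := hmax.isPrime
  haveI : LocCoh.IsCohenMacaulayLocalRing (Localization.AtPrime m.toIdeal) :=
    hCM.isCohenMacaulayLocalRing_localization m.toIdeal
  obtain ⟨hdimA, hfin, ⟨eK⟩⟩ := local_data 𝒜 m hm n hn I 𝓔 e he 𝒞 hC
  constructor
  · intro hG
    haveI : LocCoh.IsGorensteinLocalRing (Localization.AtPrime m.toIdeal) :=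
      hG.isGorensteinLocalRing_localization m.toIdeal
    obtain ⟨κ⟩ := (Groth.Agent.S7701.result (Localization.AtPrime m.toIdeal) n hdimA
      (LocalizedModule m.toIdeal.primeCompl E') (hullMap 𝒜 m e)
      (hullMap_isInjectiveHull 𝒜 m 𝓔 e he) (LocalizedModule m.toIdeal.primeCompl C) eK).mp
      inferInstance
    let θ : LocalizedModule m.toIdeal.primeCompl R ≃ₗ[Localization.AtPrime m.toIdeal]
        LocalizedModule m.toIdeal.primeCompl C :=
      (Groth.Agent.Lib.Helper28.localizedModuleSelfEquiv m.toIdeal).trans κ.symm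
    obtain ⟨d, u, hu, hb⟩ := Groth.Agent.Lib.T2H3.CanonUniq.exists_part_bijective 𝒜 𝒜 𝒞 m.toIdeal
      (smul_id_bijective_of_equiv (Groth.Agent.Lib.Helper28.localizedModuleSelfEquiv m.toIdeal)) θ
    exact ⟨d, u, Groth.Agent.Lib.T2H3.CanonUniq.bijective_of_map_bijective 𝒜 𝒜 𝒞 hm m.toIdeal
      le_rfl hu hb, hu⟩
  · rintro ⟨a, f, hf, -⟩
    obtain ⟨-, h2⟩ := isCohenMacaulayModule_and_injdim 𝒜 m hm n hn I 𝓔 e he 𝒞 hC
    haveI := h2
    have h3 : HasInjectiveDimensionLT (ModuleCat.of R R) (n + 2) :=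
      hasInjectiveDimensionLT_of_iso (LinearEquiv.ofBijective f hf).symm.toModuleIso (n + 2)
    exact ((Groth.Agent.S0345.result R).mp ⟨n + 2, h3⟩).1

end main

end Groth.Agent.Lib.LeadCan
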