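import Mathlib
import Groth.Agent.Lib.LeadBassB
import Groth.Agent.Lib.Helper29Socle

/-!
# `Ext^n(k, M) ≅ Hom(k, M/(x_1,…,x_n)M)` for a regular sequence (lead)

For a local ring `A` with residue field `k`, a module `M`, and an `M`-regular sequence `rs` in the
maximal ideal with `Ext^i(k, M) = 0` for `i < |rs|`:
`Ext^{|rs|}(k, M) ≅ Ext^0(k, M/(rs)M)`, of length that of the socle of `M/(rs)M`.
-/

set_option autoImplicit false
set_option maxHeartbeats 400000
set_option linter.style.haveILetI false
set_option linter.unusedSectionVars false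
set_option linter.unusedVariables false

universe u

namespace Groth.Agent.Lib.LeadCan

open CategoryTheory CategoryTheory.Abelian IsLocalRing
open scoped Pointwise

section shift

variable {A : Type u} [CommRing A] [IsLocalRing A]

theorem comp_mk₀_smul_id (X Y : ModuleCat.{u} A) (x : A) (i : ℕ) (z : Ext.{u} X Y i) :
    z.comp (Ext.mk₀ (x • 𝟙 Y)) (add_zero i) = x • z := by
  rw [Ext.mk₀_smul, Ext.comp_smul, Ext.comp_mk₀_id]

/-- The regular-element step in the second variable. -/
theorem nonempty_ext_quotSMulTop_equiv (M : Type u) [AddCommGroup M] [Module A M] (x : A)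
    (hx : x ∈ maximalIdeal A) (hreg : IsSMulRegular M x) (s : ℕ)
    (h0 : Subsingleton (Ext.{u} (ModuleCat.of A (ResidueField A)) (ModuleCat.of A M) s)) :
    Nonempty (Ext.{u} (ModuleCat.of A (ResidueField A)) (ModuleCat.of A (QuotSMulTop x M)) s ≃ₗ[A]
      Ext.{u} (ModuleCat.of A (ResidueField A)) (ModuleCat.of A M) (s + 1)) := by
  have hS := hreg.smulShortComplex_shortExact (M := ModuleCat.of A M)
  let δ : Ext.{u} (ModuleCat.of A (ResidueField A)) (ModuleCat.of A (QuotSMulTop x M)) s →ₗ[A]
      Ext.{u} (ModuleCat.of A (ResidueField A)) (ModuleCat.of A M) (s + 1) :=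
    hS.extClass.postcompOfLinear A (ModuleCat.of A (ResidueField A)) (rfl : s + 1 = s + 1)
  have hδ : ∀ z, δ z = z.comp hS.extClass rfl := fun z => rfl
  refine ⟨LinearEquiv.ofBijective δ ⟨?_, ?_⟩⟩
  · rw [injective_iff_map_eq_zero]
    intro z hz
    obtain ⟨y, hy⟩ := Ext.covariant_sequence_exact₃ _ hS z rfl hz
    haveI : Subsingleton (Ext.{u} (ModuleCat.of A (ResidueField A))
      ((ModuleCat.of A M).smulShortComplex x).X₂ s) := h0
    rw [← hy, Subsingleton.elim y 0, Ext.zero_comp]
    rfl
  · intro w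
    have hw : w.comp (Ext.mk₀ ((ModuleCat.of A M).smulShortComplex x).f) (add_zero (s + 1)) = 0 := by
      have h1 : w.comp (Ext.mk₀ (x • 𝟙 (ModuleCat.of A M))) (add_zero (s + 1)) = 0 := by
        rw [comp_mk₀_smul_id]
        exact LeadBass.smul_ext_residueField_eq_zero A M (s + 1) x hx w
      exact h1
    obtain ⟨z, hz⟩ := Ext.covariant_sequence_exact₁ _ hS w hw rfl
    exact ⟨z, hz⟩

/-- Iterating along a regular sequence. -/
theorem nonempty_ext_equiv_ext_zero : ∀ (rs : List A) (M : Type u) [AddCommGroup M] [Module A M],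
    RingTheory.Sequence.IsWeaklyRegular M rs → (∀ r ∈ rs, r ∈ maximalIdeal A) →
    (∀ i, i < rs.length →
      Subsingleton (Ext.{u} (ModuleCat.of A (ResidueField A)) (ModuleCat.of A M) i)) →
    Nonempty (Ext.{u} (ModuleCat.of A (ResidueField A))
        (ModuleCat.of A (M ⧸ Ideal.ofList rs • (⊤ : Submodule A M))) 0 ≃ₗ[A]
      Ext.{u} (ModuleCat.of A (ResidueField A)) (ModuleCat.of A M) rs.length) := by
  intro rs
  induction rs with
  | nil =>
    intro M _ _ _ _ _
    have hbot : Ideal.ofList ([] : List A) • (⊤ : Submodule A M) = ⊥ := by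
      rw [Ideal.ofList_nil, Submodule.bot_smul]
    exact ⟨LeadBass.extCongrRight _ (Submodule.quotEquivOfEqBot _ hbot).toModuleIso 0⟩
  | cons r rs ih =>
    intro M _ _ hw hmem hvan
    obtain ⟨hr, hrs⟩ := (RingTheory.Sequence.isWeaklyRegular_cons_iff M r rs).mp hw
    have hrm : r ∈ maximalIdeal A := hmem r (List.mem_cons_self)
    have hvan' : ∀ i, i < rs.length → Subsingleton
        (Ext.{u} (ModuleCat.of A (ResidueField A)) (ModuleCat.of A (QuotSMulTop r M)) i) := by
      intro i hi
      obtain ⟨e⟩ := nonempty_ext_quotSMulTop_equiv M r hrm hr i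
        (hvan i (by rw [List.length_cons]; omega))
      haveI := hvan (i + 1) (by rw [List.length_cons]; omega)
      exact e.toEquiv.subsingleton
    obtain ⟨e1⟩ := ih (QuotSMulTop r M) hrs (fun a ha => hmem a (List.mem_cons_of_mem r ha)) hvan'
    obtain ⟨e2⟩ := nonempty_ext_quotSMulTop_equiv M r hrm hr rs.length
      (hvan rs.length (by rw [List.length_cons]; omega))
    exact ⟨((LeadBass.extCongrRight _
      (Submodule.quotOfListConsSMulTopEquivQuotSMulTopInner M r rs).toModuleIso 0).trans e1).trans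
        e2⟩

/-- Length form, with the socle. -/
theorem length_ext_eq_length_soc (rs : List A) (M : Type u) [AddCommGroup M] [Module A M]
    (hw : RingTheory.Sequence.IsWeaklyRegular M rs) (hmem : ∀ r ∈ rs, r ∈ maximalIdeal A)
    (hvan : ∀ i, i < rs.length →
      Subsingleton (Ext.{u} (ModuleCat.of A (ResidueField A)) (ModuleCat.of A M) i)) :
    Module.length A (Ext.{u} (ModuleCat.of A (ResidueField A)) (ModuleCat.of A M) rs.length) =
      Module.length A (Groth.Agent.Lib.Helper29Socle.soc A
        (M ⧸ Ideal.ofList rs • (⊤ : Submodule A M))) := by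
  obtain ⟨e⟩ := nonempty_ext_equiv_ext_zero rs M hw hmem hvan
  rw [← e.length_eq]
  exact Groth.Agent.Lib.Helper29Socle.length_ext_zero A _

end shift

end Groth.Agent.Lib.LeadCan
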