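import Mathlib
import Groth.Agent.Lib.LeadCanG
import Groth.Agent.Lib.Helper8LC
import Groth.Agent.Lib.Helper8CanonCM
import Groth.Agent.S7702
import Groth.Agent.S17756

/-!
# Type of a Cohen–Macaulay local ring and of its canonical module (lead)

For a Cohen–Macaulay local ring `A` of dimension `n` with canonical module `K`:
`μ^n(m, K) = 1` and `μ^n(m, A) = ν(K)`.
-/

set_option autoImplicit false
set_option maxHeartbeats 400000
set_option linter.style.haveILetI false
set_option linter.unusedSectionVars false
set_option linter.unusedVariables false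

universe u

namespace Groth.Agent.Lib.LeadCan

open CategoryTheory CategoryTheory.Abelian IsLocalRing
open Groth.Agent.Lib.Helper29Socle
open scoped Pointwise

section socle

variable (A : Type u) [CommRing A] [IsLocalRing A]

theorem length_soc_congr {Y Y' : Type u} [AddCommGroup Y] [Module A Y] [AddCommGroup Y']
    [Module A Y'] (e : Y ≃ₗ[A] Y') : Module.length A (soc A Y) = Module.length A (soc A Y') := by
  have hmap : (soc A Y).map (e : Y →ₗ[A] Y') = soc A Y' := by
    ext y
    constructor
    · rintro ⟨x, hx, rfl⟩ a ha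
      show a • e x = 0
      rw [← map_smul, hx a ha, map_zero]
    · intro hy
      refine ⟨e.symm y, fun a ha => ?_, e.apply_symm_apply y⟩
      rw [← map_smul, hy a ha, map_zero]
  rw [← hmap]
  exact (e.submoduleMap (soc A Y)).length_eq

theorem torsionBy_eq_soc (Y : Type u) [AddCommGroup Y] [Module A Y] :
    LocCoh.torsionBy (maximalIdeal A) Y = soc A Y := by
  ext y
  rw [Submodule.mem_torsionBySet_iff, mem_soc]
  exact ⟨fun h a ha => h ⟨a, ha⟩, fun h a => h a a.2⟩

open Groth.Agent.Lib.Helper8.LC in
/-- The socle of `H^0_m(Y)` is the socle of `Y`. -/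
theorem length_soc_H_zero (Y : Type u) [AddCommGroup Y] [Module A Y] :
    Module.length A (soc A (LocCoh.H (maximalIdeal A) 0 Y)) = Module.length A (soc A Y) := by
  let φ : LocCoh.H (maximalIdeal A) 0 Y →ₗ[A] Y := (Φ (maximalIdeal A) (ModuleCat.of A Y)).hom
  have hφinj : Function.Injective φ := Φ_injective (maximalIdeal A) (ModuleCat.of A Y)
  have hmaps : ∀ x ∈ soc A (LocCoh.H (maximalIdeal A) 0 Y), φ x ∈ soc A Y := by
    intro x hx a ha
    rw [← map_smul, hx a ha, map_zero]
  let ψ : soc A (LocCoh.H (maximalIdeal A) 0 Y) →ₗ[A] soc A Y := φ.restrict hmaps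
  have hψ : Function.Bijective ψ := by
    constructor
    · intro x x' h
      apply Subtype.ext
      apply hφinj
      exact congrArg Subtype.val h
    · intro y
      have hy : (y : Y) ∈ DRing.torsionSub (maximalIdeal A) (ModuleCat.of A Y) := by
        refine ⟨1, fun a ha => ?_⟩
        rw [pow_one] at ha
        exact y.2 a ha
      obtain ⟨x, hx⟩ := exists_Φ_eq (maximalIdeal A) (ModuleCat.of A Y) (y : Y) hy
      have hx' : φ x = (y : Y) := hx
      refine ⟨⟨x, fun a ha => ?_⟩, Subtype.ext hx'⟩
      apply hφinj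
      rw [map_smul, hx', map_zero]
      exact y.2 a ha
  exact (LinearEquiv.ofBijective ψ hψ).length_eq

end socle

section dual

variable {A : Type u} [CommRing A] [IsLocalRing A] (E : Type u) [AddCommGroup E] [Module A E]
  (f : ResidueField A →ₗ[A] E) (hf : InjHull.IsInjectiveHull f)

include hf in
/-- If the Matlis dual of `X` is simple then so is `X`. -/
theorem length_eq_one_of_length_hom_eq_one (X : Type u) [AddCommGroup X] [Module A X]
    (h : Module.length A (X →ₗ[A] E) = 1) : Module.length A X = 1 := by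
  rw [Module.length_eq_one_iff] at h ⊢
  haveI hEinj := hf.isInjective
  haveI hnt : Nontrivial X := by
    by_contra hX
    rw [not_nontrivial_iff_subsingleton] at hX
    haveI := Groth.Agent.Lib.Helper8.CanonCM.subsingleton_hom_of_subsingleton (R := A) E X
    haveI := IsSimpleModule.nontrivial A (X →ₗ[A] E)
    exact not_subsingleton (X →ₗ[A] E) inferInstance
  haveI : Nontrivial (Submodule A X) := (Submodule.nontrivial_iff A).mpr hnt
  suffices key : ∀ W : Submodule A X, W = ⊥ ∨ W = ⊤ by
    haveI : IsSimpleOrder (Submodule A X) := ⟨key⟩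
    exact ⟨⟩
  intro W
  by_contra hW
  push Not at hW
  obtain ⟨hWbot, hWtop⟩ := hW
  let ρ : (X →ₗ[A] E) →ₗ[A] (W →ₗ[A] E) := LinearMap.lcomp A E W.subtype
  have hρsurj : Function.Surjective ρ := by
    intro g
    obtain ⟨g', hg'⟩ := hEinj.out W.subtype W.injective_subtype g
    exact ⟨g', LinearMap.ext hg'⟩
  rcases eq_bot_or_eq_top (LinearMap.ker ρ) with hk | hk
  · obtain ⟨μ, hμ0, hμW⟩ := Groth.Agent.Lib.Helper8.CanonCM.exists_functional E f hf X W hWtop
    apply hμ0
    have hmem : μ ∈ LinearMap.ker ρ := by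
      rw [LinearMap.mem_ker]
      ext w
      exact hμW w w.2
    rw [hk] at hmem
    exact (Submodule.mem_bot A).mp hmem
  · have hsub : Subsingleton (W →ₗ[A] E) := by
      refine ⟨fun g g' => ?_⟩
      obtain ⟨g1, rfl⟩ := hρsurj g
      obtain ⟨g2, rfl⟩ := hρsurj g'
      have h1 : g1 ∈ LinearMap.ker ρ := hk ▸ Submodule.mem_top
      have h2 : g2 ∈ LinearMap.ker ρ := hk ▸ Submodule.mem_top
      rw [LinearMap.mem_ker.mp h1, LinearMap.mem_ker.mp h2]
    have hWs : Subsingleton W :=
      Groth.Agent.Lib.Helper8.CanonCM.subsingleton_of_subsingleton_hom E f hf W hsub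
    exact hWbot (Submodule.subsingleton_iff_eq_bot.mp hWs)

open Groth.Agent.Lib.Helper8.LC in
omit [IsLocalRing A] in
/-- `H^0_I(Y) ≅ Y` when `I` kills `Y`. -/
theorem length_H_zero_of_smul_eq_zero (I : Ideal A) (Y : Type u) [AddCommGroup Y] [Module A Y]
    (hY : ∀ a ∈ I, ∀ y : Y, a • y = 0) :
    Module.length A (LocCoh.H I 0 Y) = Module.length A Y := by
  let φ : LocCoh.H I 0 Y →ₗ[A] Y := (Φ I (ModuleCat.of A Y)).hom
  have hφinj : Function.Injective φ := Φ_injective I (ModuleCat.of A Y)
  have hφsurj : Function.Surjective φ := by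
    intro y
    have hy : y ∈ DRing.torsionSub I (ModuleCat.of A Y) := by
      refine ⟨1, fun a ha => ?_⟩
      rw [pow_one] at ha
      exact hY a ha y
    exact exists_Φ_eq I (ModuleCat.of A Y) y hy
  exact (LinearEquiv.ofBijective φ ⟨hφinj, hφsurj⟩).length_eq

end dual

section nakayama

variable {A : Type u} [CommRing A] [IsLocalRing A]

/-- The minimal number of generators does not change modulo `I K` for `I ≤ m`. -/
theorem spanFinrank_top_quotient_smul_top (K : Type u) [AddCommGroup K] [Module A K]
    [Module.Finite A K] (I : Ideal A) (hI : I ≤ maximalIdeal A) :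
    (⊤ : Submodule A (K ⧸ I • (⊤ : Submodule A K))).spanFinrank =
      (⊤ : Submodule A K).spanFinrank := by
  classical
  apply le_antisymm
  · have h1 := Submodule.spanFinrank_map_le_of_fg (I • (⊤ : Submodule A K)).mkQ
      (p := (⊤ : Submodule A K)) Module.Finite.fg_top
    rwa [Submodule.map_top, Submodule.range_mkQ] at h1
  · obtain ⟨s, hcard, hspan⟩ := Submodule.FG.exists_span_finset_card_eq_spanFinrank
      (p := (⊤ : Submodule A (K ⧸ I • (⊤ : Submodule A K)))) Module.Finite.fg_top
    let g : (K ⧸ I • (⊤ : Submodule A K)) → K :=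
      Function.surjInv (Submodule.mkQ_surjective (I • (⊤ : Submodule A K)))
    have hg : ∀ y, (I • (⊤ : Submodule A K)).mkQ (g y) = y :=
      Function.surjInv_eq (Submodule.mkQ_surjective (I • (⊤ : Submodule A K)))
    let t : Finset K := s.image g
    have himg : (I • (⊤ : Submodule A K)).mkQ '' (t : Set K) = (s : Set _) := by
      ext y
      simp only [t, Finset.coe_image, Set.mem_image, Finset.mem_coe]
      constructor
      · rintro ⟨x, ⟨z, hz, rfl⟩, rfl⟩
        rw [hg]
        exact hz
      · intro hy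
        exact ⟨g y, ⟨y, hy, rfl⟩, hg y⟩
    have hle : (⊤ : Submodule A K) ≤ Submodule.span A (t : Set K) := by
      apply Submodule.le_of_le_smul_of_le_jacobson_bot Module.Finite.fg_top
        (hI.trans (IsLocalRing.maximalIdeal_le_jacobson ⊥))
      intro x _
      have hx : (I • (⊤ : Submodule A K)).mkQ x ∈
          (Submodule.span A (t : Set K)).map (I • (⊤ : Submodule A K)).mkQ := by
        rw [Submodule.map_span, himg, hspan]
        exact Submodule.mem_top
      obtain ⟨y, hy, hyx⟩ := hx
      have hdiff : x - y ∈ I • (⊤ : Submodule A K) := by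
        rw [← Submodule.ker_mkQ (I • (⊤ : Submodule A K)), LinearMap.mem_ker, map_sub, hyx,
          sub_self]
      have : x = y + (x - y) := by abel
      rw [this]
      exact Submodule.add_mem_sup hy hdiff
    have htop : Submodule.span A (t : Set K) = ⊤ := top_le_iff.mp hle
    calc (⊤ : Submodule A K).spanFinrank = (Submodule.span A (t : Set K)).spanFinrank := by
          rw [htop]
      _ ≤ (t : Set K).ncard := Submodule.spanFinrank_span_le_ncard_of_finite t.finite_toSet
      _ = t.card := Set.ncard_coe_finset t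
      _ ≤ s.card := Finset.card_image_le
      _ = _ := hcard

end nakayama

section main

variable {A : Type u} [CommRing A] [LocCoh.IsCohenMacaulayLocalRing A] (n : ℕ)
  (hn : ringKrullDim A = n)
  (E : Type u) [AddCommGroup E] [Module A E] (f : ResidueField A →ₗ[A] E)
  (hf : InjHull.IsInjectiveHull f) (K : Type u) [AddCommGroup K] [Module A K] [Module.Finite A K]
  (eK : (K →ₗ[A] E) ≃ₗ[A] LocCoh.H (maximalIdeal A) n A)

include hn hf eK in
/-- The type of the canonical module is one. -/
theorem bassNumLocal_canonical : GrLC.bassNumLocal A K n = 1 := by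
  unfold GrLC.bassNumLocal
  obtain ⟨e⟩ := Groth.Agent.Lib.Helper8.CanonCM.dualExt n hn E f hf K eK (A ⧸ maximalIdeal A) n
    le_rfl
  have h0 : n - n = 0 := Nat.sub_self n
  rw [h0] at e
  apply length_eq_one_of_length_hom_eq_one E f hf
  have h1 : Module.length A (LocCoh.H (maximalIdeal A) 0 (A ⧸ maximalIdeal A)) = 1 := by
    rw [length_H_zero_of_smul_eq_zero (maximalIdeal A) (A ⧸ maximalIdeal A)]
    · exact LeadBass.length_residueField A
    · intro a ha y
      obtain ⟨b, rfl⟩ := Ideal.Quotient.mk_surjective y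
      have h2 : a • (Ideal.Quotient.mk (maximalIdeal A) b) =
          Ideal.Quotient.mk (maximalIdeal A) (a * b) := rfl
      rw [h2, Ideal.Quotient.eq_zero_iff_mem]
      exact Ideal.mul_mem_right b _ ha
  rw [← h1]
  exact e.length_eq.symm

include hn hf eK in
/-- The type of the ring is the minimal number of generators of the canonical module. -/
theorem bassNumLocal_self :
    GrLC.bassNumLocal A A n = ((⊤ : Submodule A K).spanFinrank : ℕ∞) := by
  obtain ⟨rs, hlen, hmem, hreg⟩ := (Groth.Agent.Lib.Helper28.natCast_le_idealDepth_iff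
    (I := maximalIdeal A) (M := A) Groth.Agent.Lib.Helper8.CanonCM.smul_top_ne_top n).mp
    (Groth.Agent.Lib.Helper8.CanonCM.depth_R n hn)
  have hvan := (Groth.Agent.Lib.Helper28.natCast_le_idealDepth_iff_ext' (maximalIdeal A) A n).mp
    (Groth.Agent.Lib.Helper8.CanonCM.depth_R n hn)
  have h3 := length_ext_eq_length_soc rs A hreg.toIsWeaklyRegular hmem
    (by rw [hlen]; exact hvan)
  rw [hlen] at h3
  obtain ⟨e4⟩ := (Groth.Agent.S7702.result A n hn E f hf K eK rs hmem).2 hreg
  have h00 : n - rs.length = 0 := by rw [hlen, Nat.sub_self]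
  rw [h00] at e4
  have h5 := Groth.Agent.S17756.result A E f hf (K ⧸ Ideal.ofList rs • (⊤ : Submodule A K))
  have e8 : (A ⧸ Ideal.ofList rs • (⊤ : Submodule A A)) ≃ₗ[A] (A ⧸ Ideal.ofList rs) :=
    Submodule.quotEquivOfEq _ _ (by rw [smul_eq_mul, Ideal.mul_top])
  unfold GrLC.bassNumLocal
  rw [h3, length_soc_congr A e8, ← length_soc_H_zero A (A ⧸ Ideal.ofList rs),
    ← length_soc_congr A e4, ← torsionBy_eq_soc, ← h5,
    spanFinrank_top_quotient_smul_top K (Ideal.ofList rs)
      (Ideal.span_le.mpr (fun r hr => hmem r hr))]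

end main

end Groth.Agent.Lib.LeadCan
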