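import Mathlib
import Groth.Agent.Lib.LeadCanF
import Groth.Agent.Lib.LeadCanH

/-!
# The type of a graded Cohen–Macaulay ring over a field and of its *canonical module (lead)
-/

set_option autoImplicit false
set_option maxHeartbeats 400000
set_option linter.style.haveILetI false
set_option linter.unusedSectionVars false
set_option linter.unusedVariables false

universe u

namespace Groth.Agent.Lib.LeadCan

open CategoryTheory CategoryTheory.Abelian IsLocalRing TensorProduct

section nu

variable {R : Type u} [CommRing R] (p : Ideal R) [hp : p.IsMaximal] (C : Type u) [AddCommGroup C]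
  [Module R C] [Module.Finite R C]

/-- The minimal number of generators of `C_p` is `dim_{R/p} (R/p ⊗ C)` for a maximal ideal `p`. -/
theorem spanFinrank_localizedModule_eq_finrank :
    (⊤ : Submodule (Localization.AtPrime p) (LocalizedModule p.primeCompl C)).spanFinrank =
      Module.finrank (R ⧸ p) ((R ⧸ p) ⊗[R] C) := by
  haveI : Module.Finite (Localization.AtPrime p) (LocalizedModule p.primeCompl C) :=
    Module.Finite.of_isLocalizedModule p.primeCompl
      (LocalizedModule.mkLinearMap p.primeCompl C)
  have ha : (⊤ : Submodule (Localization.AtPrime p)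
      (LocalizedModule p.primeCompl C)).spanFinrank =
      Module.finrank (ResidueField (Localization.AtPrime p))
        (ResidueField (Localization.AtPrime p) ⊗[Localization.AtPrime p]
          (LocalizedModule p.primeCompl C)) := by
    rw [← TensorProduct.spanFinrank_top_eq_of_residueField
      (⊤ : Submodule (Localization.AtPrime p) (LocalizedModule p.primeCompl C))
      Module.Finite.fg_top, ← Module.finrank_eq_spanFinrank_of_free]
    exact LinearEquiv.finrank_eq (TensorProduct.AlgebraTensorModule.congr
      (LinearEquiv.refl (ResidueField (Localization.AtPrime p))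
        (ResidueField (Localization.AtPrime p))) Submodule.topEquiv)
  have hb : Module.finrank (ResidueField (Localization.AtPrime p))
      (ResidueField (Localization.AtPrime p) ⊗[Localization.AtPrime p]
        (LocalizedModule p.primeCompl C)) =
      Module.finrank (ResidueField (Localization.AtPrime p))
        (ResidueField (Localization.AtPrime p) ⊗[R] C) := by
    exact LinearEquiv.finrank_eq ((TensorProduct.AlgebraTensorModule.congr
      (LinearEquiv.refl (ResidueField (Localization.AtPrime p))
        (ResidueField (Localization.AtPrime p)))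
      (LocalizedModule.equivTensorProduct p.primeCompl C)).trans
      (TensorProduct.AlgebraTensorModule.cancelBaseChange R (Localization.AtPrime p)
        (ResidueField (Localization.AtPrime p)) (ResidueField (Localization.AtPrime p)) C))
  have hc : Module.finrank (ResidueField (Localization.AtPrime p))
      (ResidueField (Localization.AtPrime p) ⊗[R] C) =
      Module.finrank (ResidueField (Localization.AtPrime p))
        (ResidueField (Localization.AtPrime p) ⊗[R ⧸ p] ((R ⧸ p) ⊗[R] C)) := by
    exact (LinearEquiv.finrank_eq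
      (TensorProduct.AlgebraTensorModule.cancelBaseChange R (R ⧸ p)
        (ResidueField (Localization.AtPrime p)) (ResidueField (Localization.AtPrime p)) C)).symm
  have hd : Module.finrank (ResidueField (Localization.AtPrime p))
        (ResidueField (Localization.AtPrime p) ⊗[R ⧸ p] ((R ⧸ p) ⊗[R] C)) =
      Module.finrank (R ⧸ p) ((R ⧸ p) ⊗[R] C) := by
    letI : Field (R ⧸ p) := Ideal.Quotient.field p
    exact Module.finrank_baseChange
  rw [ha, hb, hc, hd]

end nu

section main

variable {R : Type u} [CommRing R] [hCM : LocCoh.IsCohenMacaulayRing R] (𝒜 : ℤ → AddSubgroup R)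
  [GradedRing 𝒜] (m : HomogeneousIdeal 𝒜) (hm : GrLC.IsStarLocal 𝒜 m) [hmax : m.toIdeal.IsMaximal]
  (n : ℕ) (hn : ringKrullDim R = n) (I : GrLC.StarInjRes 𝒜 𝒜)
  {E' : Type u} [AddCommGroup E'] [Module R E'] (𝓔 : ℤ → AddSubgroup E')
  [DirectSum.Decomposition 𝓔] [SetLike.GradedSMul 𝒜 𝓔] (e : (R ⧸ m.toIdeal) →ₗ[R] E')
  (he : GrLC.IsStarInjHull 𝒜 (GrLC.quotGr 𝒜 m) 𝓔 e)
  {C : Type u} [AddCommGroup C] [Module R C] (𝒞 : ℤ → AddSubgroup C) [DirectSum.Decomposition 𝒞]
  [SetLike.GradedSMul 𝒜 𝒞] (hC : GrLC.IsStarCanonical 𝒜 𝒞 𝓔 m n I)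

include hm hn he hC in
/-- The type of the *canonical module is `1` and the type of `R` is `ν(K_R)`. -/
theorem type_canonical :
    GrLC.bassNum m.toIdeal C n = 1 ∧
    GrLC.bassNum m.toIdeal R n =
      (Module.finrank (R ⧸ m.toIdeal) ((R ⧸ m.toIdeal) ⊗[R] C) : ℕ∞) := by
  haveI := hmax.isPrime
  haveI : LocCoh.IsCohenMacaulayLocalRing (Localization.AtPrime m.toIdeal) :=
    hCM.isCohenMacaulayLocalRing_localization m.toIdeal
  obtain ⟨hdimA, hfin, ⟨eK⟩⟩ := local_data 𝒜 m hm n hn I 𝓔 e he 𝒞 hC
  haveI := hC.1
  refine ⟨?_, ?_⟩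
  · exact bassNumLocal_canonical n hdimA (LocalizedModule m.toIdeal.primeCompl E')
      (hullMap 𝒜 m e) (hullMap_isInjectiveHull 𝒜 m 𝓔 e he)
      (LocalizedModule m.toIdeal.primeCompl C) eK
  · unfold GrLC.bassNum
    rw [LeadBass.bassNumLocal_congr (Localization.AtPrime m.toIdeal)
      (Groth.Agent.Lib.Helper28.localizedModuleSelfEquiv m.toIdeal) n,
      bassNumLocal_self n hdimA (LocalizedModule m.toIdeal.primeCompl E')
      (hullMap 𝒜 m e) (hullMap_isInjectiveHull 𝒜 m 𝓔 e he)
      (LocalizedModule m.toIdeal.primeCompl C) eK,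
      spanFinrank_localizedModule_eq_finrank]

end main

end Groth.Agent.Lib.LeadCan
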