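import Groth.Agent.Lib.T2H3GrAinvB
import Groth.Agent.Lib.Helper29GrBaer

/-! Degree bookkeeping for *canonical modules over a positively graded *local ring (helper3):
the *injective hull of `R ⧸ m` lives in degrees `≤ 0` and is nonzero in degree `0`; if the
*canonical module `C` is free of rank one on a generator of degree `D` then the a-invariant
(the end of `H^n_m(R)`) is `-D`. -/

set_option autoImplicit false
set_option linter.unusedSectionVars false
set_option linter.style.haveILetI false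
open DirectSum

namespace Groth.Agent.Lib.T2H3.CanonDeg

open GrLC Groth.Agent.Lib.T2H3.GrArt Groth.Agent.Lib.T2H3.GrLes Groth.Agent.Lib.T2H3.GrIrr
  Groth.Agent.Lib.T2H3.GrAinv Groth.Agent.Lib.Helper29GrEss Groth.Agent.Lib.Helper29GrBaer

universe u

variable {R : Type u} [CommRing R] [IsNoetherianRing R] (𝒜 : ℤ → AddSubgroup R) [GradedRing 𝒜]
variable (hpos : ∀ n : ℤ, n < 0 → 𝒜 n = ⊥) {m : HomogeneousIdeal 𝒜} (hm : IsStarLocal 𝒜 m)
variable {E' : Type u} [AddCommGroup E'] [Module R E'] (𝓔 : ℤ → AddSubgroup E')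
  [DirectSum.Decomposition 𝓔] [SetLike.GradedSMul 𝒜 𝓔] (e : (R ⧸ m.toIdeal) →ₗ[R] E')
  (he : IsStarInjHull 𝒜 (quotGr 𝒜 m) 𝓔 e)

include hm he in
theorem hull_one : e 1 ∈ 𝓔 0 ∧ e 1 ≠ 0 := by
  constructor
  · exact he.grHom 0 1 ⟨1, (SetLike.GradedOne.one_mem : (1 : R) ∈ 𝒜 0), rfl⟩
  · intro h
    have h1 : (1 : R ⧸ m.toIdeal) = 0 := he.injective (h.trans (map_zero e).symm)
    have h2 : (Ideal.Quotient.mk m.toIdeal 1) = 0 := h1
    rw [Ideal.Quotient.eq_zero_iff_mem] at h2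
    exact one_notMem_of_isStarLocal hm h2

include hpos hm he in
/-- The range of the hull map lies in degree zero. -/
theorem range_le_zero (y : R ⧸ m.toIdeal) : e y ∈ 𝓔 0 := by
  obtain ⟨s, rfl⟩ := Ideal.Quotient.mk_surjective y
  have h1 : s - (DirectSum.decompose 𝒜 s 0 : R) ∈ m.toIdeal :=
    irr_le_of_isStarLocal hpos hm (sub_decompose_zero_mem_irr 𝒜 hpos s)
  have h2 : Ideal.Quotient.mk m.toIdeal s =
      Ideal.Quotient.mk m.toIdeal (DirectSum.decompose 𝒜 s 0 : R) := by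
    rw [← sub_eq_zero, ← map_sub, Ideal.Quotient.eq_zero_iff_mem]
    exact h1
  rw [h2]
  exact he.grHom 0 _ ⟨_, SetLike.coe_mem _, rfl⟩

include hpos hm he in
/-- The *injective hull of `R ⧸ m` lives in degrees `≤ 0`. -/
theorem hull_le_zero {i : ℤ} {x : E'} (hx : x ∈ 𝓔 i) (hx0 : x ≠ 0) : i ≤ 0 := by
  classical
  have hN : (LinearMap.range e).IsHomogeneous 𝓔 := by
    intro d z hz
    obtain ⟨y, rfl⟩ := hz
    have hy := range_le_zero 𝒜 hpos hm 𝓔 e he y
    by_cases hd : d = 0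
    · subst hd
      rw [DirectSum.decompose_of_mem_same 𝓔 hy]
      exact ⟨y, rfl⟩
    · rw [DirectSum.decompose_of_mem_ne 𝓔 hy (Ne.symm hd)]
      exact zero_mem _
  obtain ⟨h, r, hr, hrx0, hrx⟩ :=
    exists_smul_mem_of_homogeneous 𝒜 𝓔 (LinearMap.range e) hN he.essential hx hx0
  obtain ⟨y, hy⟩ := hrx
  have h0 : r • x ∈ 𝓔 0 := by
    rw [← hy]
    exact range_le_zero 𝒜 hpos hm 𝓔 e he y
  have hhi : r • x ∈ 𝓔 (h + i) := SetLike.GradedSMul.smul_mem hr hx
  have hsum : h + i = 0 := by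
    by_contra hne
    apply hrx0
    have h1 := DirectSum.decompose_of_mem_same 𝓔 h0
    rw [DirectSum.decompose_of_mem_ne 𝓔 hhi hne] at h1
    exact h1.symm
  have hh : 0 ≤ h := by
    by_contra hneg
    push Not at hneg
    have hr0 : r ∈ (⊥ : AddSubgroup R) := by
      rw [← hpos h hneg]
      exact hr
    rw [AddSubgroup.mem_bot] at hr0
    apply hrx0
    rw [hr0, zero_smul]
  omega

variable {C : Type u} [AddCommGroup C] [Module R C] (𝒞 : ℤ → AddSubgroup C)
  [DirectSum.Decomposition 𝒞] [SetLike.GradedSMul 𝒜 𝒞]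

/-- The inverse of a bijective homogeneous map of degree `D` from `R` is homogeneous of degree
`-D`. -/
theorem symm_mem (f : R →ₗ[R] C) (hf : Function.Bijective f) (D : ℤ)
    (hfD : IsGrHomDeg 𝒜 𝒞 f D) {i : ℤ} {c : C} (hc : c ∈ 𝒞 i) (r : R) (hr : f r = c) :
    r ∈ 𝒜 (i - D) := by
  classical
  have h1 : ∀ l : ℤ, l ≠ i - D → (DirectSum.decompose 𝒜 r l : R) = 0 := by
    intro l hl
    apply hf.1
    rw [map_zero]
    have h2 : f (DirectSum.decompose 𝒜 r l : R) ∈ 𝒞 (l + D) := hfD l _ (SetLike.coe_mem _)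
    have h3 : ((DirectSum.decompose 𝒞 c) (l + D) : C) = f (DirectSum.decompose 𝒜 r l : R) := by
      rw [← hr, ← DirectSum.sum_support_decompose 𝒜 r, map_sum, DirectSum.decompose_sum,
        DFinsupp.finsetSum_apply, AddSubmonoidClass.coe_finsetSum]
      rw [DirectSum.sum_support_decompose 𝒜 r]
      rw [Finset.sum_eq_single l]
      · exact DirectSum.decompose_of_mem_same 𝒞 h2
      · intro b _ hb
        have h4 : f (DirectSum.decompose 𝒜 r b : R) ∈ 𝒞 (b + D) := hfD b _ (SetLike.coe_mem _)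
        exact DirectSum.decompose_of_mem_ne 𝒞 h4 (by omega)
      · intro hl'
        rw [DFinsupp.notMem_support_iff] at hl'
        rw [hl']
        simp
    rw [← h3]
    exact DirectSum.decompose_of_mem_ne 𝒞 hc (by omega)
  rw [← DirectSum.sum_support_decompose 𝒜 r]
  apply AddSubgroup.sum_mem
  intro l _
  by_cases hl : l = i - D
  · rw [hl]
    exact SetLike.coe_mem _
  · rw [h1 l hl]
    exact zero_mem _

include hpos hm he in
/-- If the *canonical module is `R(-D)` then the a-invariant is `-D`. -/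
theorem endDeg_H_eq (n : ℕ) (I : StarInjRes 𝒜 𝒜) (hC : IsStarCanonical 𝒜 𝒞 𝓔 m n I)
    (f : R →ₗ[R] C) (hf : Function.Bijective f) (D : ℤ) (hfD : IsGrHomDeg 𝒜 𝒞 f D) :
    endDeg (I.Hgr m n) = c (-D) := by
  classical
  obtain ⟨hfin, φ, hφ⟩ := hC
  obtain ⟨hy0mem, hy0⟩ := hull_one 𝒜 hm 𝓔 e he
  let fe : R ≃ₗ[R] C := LinearEquiv.ofBijective f hf
  have hfe : ∀ r, fe r = f r := fun r => rfl
  have hf1 : f 1 ∈ 𝒞 (0 + D) := hfD 0 1 SetLike.GradedOne.one_mem
  have hgen : ∀ c : C, c = (fe.symm c) • f 1 := by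
    intro c
    rw [← map_smul, smul_eq_mul, mul_one, ← hfe, LinearEquiv.apply_symm_apply]
  apply le_antisymm
  · -- upper bound
    unfold endDeg
    refine iSup₂_le fun j hj => ?_
    apply c_le_c
    obtain ⟨h, hh, hh0⟩ : ∃ h : I.H m n, h ∈ I.Hgr m n j ∧ h ≠ 0 := by
      by_contra hcon
      push Not at hcon
      apply hj
      rw [AddSubgroup.eq_bot_iff_forall]
      exact hcon
    obtain ⟨ψ, rfl⟩ : ∃ ψ, φ ψ = h := ⟨φ.symm h, φ.apply_symm_apply h⟩
    obtain ⟨T, hT⟩ := exists_sum_part 𝒜 𝒞 𝓔 ψ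
    letI := HgrDecomposition I m n
    have hpart : ∀ d, φ (part 𝒜 𝒞 𝓔 ψ d) ∈ I.Hgr m n d := fun d =>
      hφ d _ (part_isGrHomDeg 𝒜 𝒞 𝓔 ψ d)
    have hsum : φ ψ = ∑ d ∈ T, φ (part 𝒜 𝒞 𝓔 ψ d) := by
      rw [← map_sum, hT]
    have h1 : ((DirectSum.decompose (I.Hgr m n) (φ ψ)) j : I.H m n) = φ ψ :=
      DirectSum.decompose_of_mem_same (I.Hgr m n) hh
    have h2 : ((DirectSum.decompose (I.Hgr m n) (φ ψ)) j : I.H m n) =
        if j ∈ T then φ (part 𝒜 𝒞 𝓔 ψ j) else 0 := by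
      rw [hsum, DirectSum.decompose_sum, DFinsupp.finsetSum_apply,
        AddSubmonoidClass.coe_finsetSum]
      split_ifs with hjT
      · rw [Finset.sum_eq_single j]
        · exact DirectSum.decompose_of_mem_same (I.Hgr m n) (hpart j)
        · intro b _ hb
          exact DirectSum.decompose_of_mem_ne (I.Hgr m n) (hpart b) hb
        · intro hcon
          exact absurd hjT hcon
      · apply Finset.sum_eq_zero
        intro b hb
        exact DirectSum.decompose_of_mem_ne (I.Hgr m n) (hpart b) (fun hbj => hjT (hbj ▸ hb))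
    have hcomp : φ ψ = φ (part 𝒜 𝒞 𝓔 ψ j) := by
      by_cases hjT : j ∈ T
      · rw [if_pos hjT] at h2
        exact h1.symm.trans h2
      · rw [if_neg hjT] at h2
        exact absurd (h1.symm.trans h2) hh0
    set χ := part 𝒜 𝒞 𝓔 ψ j with hχ
    have hχdeg : IsGrHomDeg 𝒞 𝓔 χ j := part_isGrHomDeg 𝒜 𝒞 𝓔 ψ j
    have hχ0 : χ (f 1) ≠ 0 := by
      intro h0
      apply hh0
      rw [hcomp]
      have : χ = 0 := by
        apply LinearMap.ext
        intro c
        rw [hgen c, map_smul, h0, smul_zero, LinearMap.zero_apply]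
      rw [this, map_zero]
    have hmem : χ (f 1) ∈ 𝓔 (0 + D + j) := hχdeg _ _ hf1
    have := hull_le_zero 𝒜 hpos hm 𝓔 e he hmem hχ0
    omega
  · -- lower bound: a nonzero class in degree `-D`
    let ψ₀ : C →ₗ[R] E' := (LinearMap.toSpanSingleton R E' (e 1)) ∘ₗ fe.symm.toLinearMap
    have hψ₀deg : IsGrHomDeg 𝒞 𝓔 ψ₀ (-D) := by
      intro i c hc
      have h1 : fe.symm c ∈ 𝒜 (i - D) :=
        symm_mem 𝒜 𝒞 f hf D hfD hc _ (by rw [← hfe, LinearEquiv.apply_symm_apply])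
      have h2 : (fe.symm c) • e 1 ∈ 𝓔 (i - D + 0) := SetLike.GradedSMul.smul_mem h1 hy0mem
      have h3 : i - D + 0 = i + -D := by ring
      rw [h3] at h2
      exact h2
    have hψ₀1 : ψ₀ (f 1) = e 1 := by
      change (fe.symm (f 1)) • e 1 = e 1
      rw [← hfe, LinearEquiv.symm_apply_apply, one_smul]
    have hne : φ ψ₀ ≠ 0 := by
      intro h0
      have h1 : ψ₀ = 0 := by
        have := φ.injective (h0.trans (map_zero φ).symm)
        exact this
      apply hy0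
      rw [← hψ₀1, h1, LinearMap.zero_apply]
    have hmem : φ ψ₀ ∈ I.Hgr m n (-D) := hφ (-D) ψ₀ hψ₀deg
    have hnb : I.Hgr m n (-D) ≠ ⊥ := by
      intro hb
      rw [hb, AddSubgroup.mem_bot] at hmem
      exact hne hmem
    unfold endDeg
    exact le_iSup₂ (f := fun (k : ℤ) (_ : I.Hgr m n k ≠ ⊥) =>
      ((k : WithTop ℤ) : WithBot (WithTop ℤ))) (-D) hnb

end Groth.Agent.Lib.T2H3.CanonDeg
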