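import Groth.Agent.Lib.T2H3GrIrrA

/-! ℤ-graded rings with vanishing negative part: pieces of Noetherian graded modules are finitely
generated over the degree-zero subring, the degree-zero subring of a Noetherian such ring is
Noetherian, high-degree pieces lie in powers of the irrelevant ideal, and torsion of a finitely
generated graded module is bounded above (helper3). -/

set_option autoImplicit false
set_option linter.unusedSectionVars false
open DirectSum

namespace Groth.Agent.Lib.T2H3.GrIrr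

open GrLC Groth.Agent.Lib.Helper29GrStd Groth.Agent.Lib.Helper29GrGam

universe u

section General

variable {ι : Type} [AddCommGroup ι] [DecidableEq ι]
variable {R : Type u} [CommRing R] (𝒜 : ι → AddSubgroup R) [GradedRing 𝒜]
variable {M : Type u} [AddCommGroup M] [Module R M] (ℳ : ι → AddSubgroup M)
  [DirectSum.Decomposition ℳ] [SetLike.GradedSMul 𝒜 ℳ]

/-- A homogeneous submodule is spanned by its homogeneous elements. -/
theorem span_homogeneous_eq (P : Submodule R M) (hP : P.IsHomogeneous ℳ) :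
    Submodule.span R {m : M | m ∈ P ∧ ∃ g, m ∈ ℳ g} = P := by
  classical
  apply le_antisymm
  · rw [Submodule.span_le]
    intro m hm
    exact hm.1
  · intro m hm
    rw [← DirectSum.sum_support_decompose ℳ m]
    refine Submodule.sum_mem _ fun g _ => Submodule.subset_span ⟨hP g hm, g, SetLike.coe_mem _⟩

/-- A finitely generated homogeneous submodule has a finite homogeneous generating set. -/
theorem exists_finset_homogeneous_span (P : Submodule R M) (hP : P.IsHomogeneous ℳ)
    (hfg : P.FG) :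
    ∃ (T : Finset M) (deg : M → ι), (∀ t ∈ T, t ∈ P ∧ t ∈ ℳ (deg t)) ∧
      Submodule.span R (T : Set M) = P := by
  classical
  rw [← span_homogeneous_eq ℳ P hP] at hfg
  obtain ⟨T, hTsub, hT⟩ := (Submodule.fg_span_iff_fg_span_finset_subset _).mp hfg
  have h : ∀ t : M, ∃ g : ι, t ∈ T → t ∈ ℳ g := by
    intro t
    by_cases ht : t ∈ T
    · obtain ⟨g, hg⟩ := (hTsub ht).2
      exact ⟨g, fun _ => hg⟩
    · exact ⟨0, fun h => absurd h ht⟩
  choose deg hdeg using h
  refine ⟨T, deg, fun t ht => ⟨(hTsub ht).1, hdeg t ht⟩, ?_⟩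
  rw [← hT, span_homogeneous_eq ℳ P hP]

/-- Every `R₀`-submodule of a piece of a Noetherian graded module is finitely generated. -/
theorem fg_of_le_comp [IsNoetherian R M] (n : ι) (Q : Submodule (deg0 𝒜) M)
    (hQ : Q ≤ comp 𝒜 ℳ n) : Q.FG := by
  classical
  have hfg : (Submodule.span R (Q : Set M)).FG := IsNoetherian.noetherian _
  obtain ⟨T, hTsub, hT⟩ := (Submodule.fg_span_iff_fg_span_finset_subset _).mp hfg
  refine ⟨T, le_antisymm ?_ ?_⟩
  · rw [Submodule.span_le]
    intro t ht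
    exact hTsub ht
  · intro m hm
    have hmn : m ∈ ℳ n := hQ hm
    have hm' : m ∈ Submodule.span R (T : Set M) := by
      rw [← hT]; exact Submodule.subset_span hm
    obtain ⟨f, -, rfl⟩ := Submodule.mem_span_finset.mp hm'
    have h1 := decompose_sum_smul 𝒜 ℳ T (fun _ => n) (fun t ht => hQ (hTsub ht)) f n
    rw [DirectSum.decompose_of_mem_same ℳ hmn] at h1
    rw [h1]
    refine Submodule.sum_mem _ fun t ht => ?_
    have h0' : ∀ k : ι, k = 0 → ((decompose 𝒜 (f t)) k : R) ∈ 𝒜 0 := by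
      intro k hk
      subst hk
      exact SetLike.coe_mem _
    have h0 : ((decompose 𝒜 (f t)) (n - n) : R) ∈ 𝒜 0 := h0' _ (sub_self n)
    exact Submodule.smul_mem _ (⟨_, h0⟩ : deg0 𝒜) (Submodule.subset_span ht)

/-- The pieces of a Noetherian graded module are Noetherian over the degree-zero subring. -/
theorem isNoetherian_comp [IsNoetherian R M] (n : ι) :
    IsNoetherian (deg0 𝒜) (comp 𝒜 ℳ n) := by
  rw [isNoetherian_submodule]
  intro Q hQ
  exact fg_of_le_comp 𝒜 ℳ n Q hQ

/-- The inclusion of the degree-zero subring, as a linear map over itself. -/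
def incl0 : deg0 𝒜 →ₗ[deg0 𝒜] R where
  toFun r := (r : R)
  map_add' _ _ := rfl
  map_smul' _ _ := rfl

/-- The degree-zero subring of a Noetherian graded ring is Noetherian. -/
theorem deg0_isNoetherianRing [IsNoetherianRing R] : IsNoetherianRing (deg0 𝒜) := by
  rw [isNoetherianRing_iff_ideal_fg]
  intro J
  have hQ : Submodule.map (incl0 𝒜) J ≤ comp 𝒜 𝒜 0 := by
    rintro _ ⟨j, -, rfl⟩
    exact j.2
  have hfg := fg_of_le_comp 𝒜 𝒜 0 _ hQ
  exact Submodule.fg_of_fg_map_injective (incl0 𝒜) (fun x y h => Subtype.ext h) hfg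

end General

section Int

variable {R : Type u} [CommRing R] (𝒜 : ℤ → AddSubgroup R) [GradedRing 𝒜]
variable {M : Type u} [AddCommGroup M] [Module R M] (ℳ : ℤ → AddSubgroup M)
  [DirectSum.Decomposition ℳ] [SetLike.GradedSMul 𝒜 ℳ]

/-- High-degree pieces lie in a given power of any homogeneous ideal containing all pieces of
positive degree. -/
theorem exists_piece_le_pow [IsNoetherianRing R] (a : HomogeneousIdeal 𝒜)
    (hirr : ∀ n : ℤ, 0 < n → ∀ r ∈ 𝒜 n, r ∈ a.toIdeal) (j : ℕ) :
    ∃ k₀ : ℤ, ∀ k : ℤ, k₀ ≤ k → ∀ r ∈ 𝒜 k, r ∈ a.toIdeal ^ j := by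
  classical
  induction j with
  | zero =>
    refine ⟨0, fun k _ r _ => ?_⟩
    rw [pow_zero, Ideal.one_eq_top]
    exact Submodule.mem_top
  | succ j ih =>
    obtain ⟨kj, hkj⟩ := ih
    have hhom : (a.toIdeal ^ j).IsHomogeneous 𝒜 := pow_isHomogeneous 𝒜 a j
    obtain ⟨T, deg, hT, hspan⟩ := exists_finset_homogeneous_span (R := R) 𝒜 (a.toIdeal ^ j)
      (fun g r hr => hhom g hr) (IsNoetherian.noetherian _)
    obtain ⟨D, hD⟩ := Finset.exists_le (T.image deg)
    refine ⟨max kj (D + 1), fun k hk r hr => ?_⟩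
    have hr1 : r ∈ a.toIdeal ^ j := hkj k (le_trans (le_max_left _ _) hk) r hr
    have hr2 : r ∈ Submodule.span R (T : Set R) := by rw [hspan]; exact hr1
    obtain ⟨f, -, rfl⟩ := Submodule.mem_span_finset.mp hr2
    have h1 := decompose_sum_smul 𝒜 𝒜 T deg (fun t ht => (hT t ht).2) f k
    rw [DirectSum.decompose_of_mem_same 𝒜 hr] at h1
    rw [h1, pow_succ']
    refine Ideal.sum_mem _ fun t ht => ?_
    rw [smul_eq_mul]
    refine Ideal.mul_mem_mul ?_ (hT t ht).1
    refine hirr (k - deg t) ?_ _ (SetLike.coe_mem _)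
    have h2 : deg t ≤ D := hD _ (Finset.mem_image_of_mem deg ht)
    have h3 : D + 1 ≤ k := le_trans (le_max_right _ _) hk
    omega

/-- The torsion of a finitely generated graded module is bounded above. -/
theorem exists_bound_gam [IsNoetherianRing R] [Module.Finite R M] (a : HomogeneousIdeal 𝒜)
    (hirr : ∀ n : ℤ, 0 < n → ∀ r ∈ 𝒜 n, r ∈ a.toIdeal) :
    ∃ r₀ : ℤ, ∀ n : ℤ, r₀ ≤ n → ∀ m ∈ ℳ n, m ∈ gam a.toIdeal M → m = 0 := by
  classical
  have : IsNoetherian R M := isNoetherian_of_isNoetherianRing_of_finite R M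
  obtain ⟨T, deg, hT, hspan⟩ := exists_finset_homogeneous_span (R := R) ℳ (gam a.toIdeal M)
    (gam_isHomogeneous 𝒜 ℳ a) (IsNoetherian.noetherian _)
  have hkill : ∀ t : M, ∃ N : ℕ, t ∈ T → ∀ r ∈ a.toIdeal ^ N, r • t = 0 := by
    intro t
    by_cases ht : t ∈ T
    · obtain ⟨N, hN⟩ := (hT t ht).1
      exact ⟨N, fun _ => hN⟩
    · exact ⟨0, fun h => absurd h ht⟩
  choose Nt hNt using hkill
  obtain ⟨k₀, hk₀⟩ := exists_piece_le_pow 𝒜 a hirr (T.sup Nt)
  obtain ⟨D, hD⟩ := Finset.exists_le (T.image deg)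
  refine ⟨D + k₀, fun n hn m hmn hmg => ?_⟩
  have hm' : m ∈ Submodule.span R (T : Set M) := by rw [hspan]; exact hmg
  obtain ⟨f, -, rfl⟩ := Submodule.mem_span_finset.mp hm'
  have h1 := decompose_sum_smul 𝒜 ℳ T deg (fun t ht => (hT t ht).2) f n
  rw [DirectSum.decompose_of_mem_same ℳ hmn] at h1
  rw [h1]
  refine Finset.sum_eq_zero fun t ht => ?_
  apply hNt t ht
  have h2 : deg t ≤ D := hD _ (Finset.mem_image_of_mem deg ht)
  have h3 : ((decompose 𝒜 (f t)) (n - deg t) : R) ∈ a.toIdeal ^ T.sup Nt :=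
    hk₀ (n - deg t) (by omega) _ (SetLike.coe_mem _)
  exact Ideal.pow_le_pow_right (Finset.le_sup ht) h3

end Int

end Groth.Agent.Lib.T2H3.GrIrr
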