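import Mathlib
import Groth.Agent.Lib.LeadCanF
import Groth.Agent.Lib.T2H3CanonDeg
import Groth.Agent.Lib.T2H3GrIrrB
import Groth.Agent.Lib.Helper29GrAss
import Groth.Agent.Lib.Helper28DepthAss
import Groth.Agent.Lib.Helper5RLR

/-!
# The Hilbert function of the *canonical module of a standard graded CM algebra (lead)

* `ringKrullDim_le_one_of_maximalIdeal_le_span`: a Noetherian local ring with principal maximal
  ideal has dimension `≤ 1`.
* `false_of_lin_dependence`: over a standard graded CM ring over a field of dimension `n ≥ 2` with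
  *canonical module `C`, for a nonzero homogeneous `u ∈ C` the `R_0`-space `R_1 u` is not spanned by
  a single element `x₀ u`.
-/

set_option autoImplicit false
set_option maxHeartbeats 400000
set_option linter.style.haveILetI false
set_option linter.unusedSectionVars false
set_option linter.unusedVariables false

universe u

namespace Groth.Agent.Lib.LeadCan

open CategoryTheory CategoryTheory.Abelian IsLocalRing

section local_

theorem ringKrullDim_le_one_of_maximalIdeal_le_span (B : Type u) [CommRing B] [IsLocalRing B]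
    [IsNoetherianRing B] (b : B) (hb : b ∈ maximalIdeal B)
    (h : maximalIdeal B ≤ Ideal.span {b}) : ringKrullDim B ≤ 1 := by
  have heq : maximalIdeal B = Ideal.span {b} :=
    le_antisymm h ((Ideal.span_singleton_le_iff_mem _).2 hb)
  haveI : (Ideal.span {b} : Ideal B).IsPrincipal := ⟨⟨b, rfl⟩⟩
  have hmin : maximalIdeal B ∈ (Ideal.span {b} : Ideal B).minimalPrimes := by
    rw [← heq, Ideal.minimalPrimes_eq_subsingleton_self]
    exact Set.mem_singleton _
  have hh := Ideal.height_le_one_of_isPrincipal_of_mem_minimalPrimes _ _ hmin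
  rw [← IsLocalRing.maximalIdeal_height_eq_ringKrullDim]
  exact_mod_cast hh

/-- For a nonzero element `z` of a finite module `N` of depth `n` over a Noetherian local ring
there is a prime `P ⊇ ann z` with `n ≤ dim A/P`. -/
theorem exists_prime_ann_le_of_depth (A : Type u) [CommRing A] [IsLocalRing A] [IsNoetherianRing A]
    (N : Type u) [AddCommGroup N] [Module A N] [Module.Finite A N] (n : ℕ)
    (hdepth : LocCoh.depth A N = n) (z : N) (hz : z ≠ 0) :
    ∃ P : Ideal A, P.IsPrime ∧ (∀ r : A, r • z = 0 → r ∈ P) ∧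
      (n : WithBot ℕ∞) ≤ ringKrullDim (A ⧸ P) := by
  obtain ⟨P, hP, hle⟩ := exists_le_isAssociatedPrime_of_isNoetherianRing A z hz
  refine ⟨P, hP.isPrime, fun r hr => hle ?_, ?_⟩
  · rw [Submodule.mem_colon_singleton, Submodule.mem_bot]
    exact hr
  · have h1 := Groth.Agent.Lib.Helper28.depth_le_ringKrullDim_quotient_of_mem_associatedPrimes
      (R := A) (M := N) hP
    rw [hdepth] at h1
    exact_mod_cast h1

end local_

section main

variable {R : Type u} [CommRing R] [hCM : LocCoh.IsCohenMacaulayRing R] (𝒜 : ℤ → AddSubgroup R)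
  [GradedRing 𝒜] (m : HomogeneousIdeal 𝒜) (hm : GrLC.IsStarLocal 𝒜 m) [hmax : m.toIdeal.IsMaximal]
  (n : ℕ) (hn : ringKrullDim R = n) (I : GrLC.StarInjRes 𝒜 𝒜)
  {E' : Type u} [AddCommGroup E'] [Module R E'] (𝓔 : ℤ → AddSubgroup E')
  [DirectSum.Decomposition 𝓔] [SetLike.GradedSMul 𝒜 𝓔] (e : (R ⧸ m.toIdeal) →ₗ[R] E')
  (he : GrLC.IsStarInjHull 𝒜 (GrLC.quotGr 𝒜 m) 𝓔 e)
  {C : Type u} [AddCommGroup C] [Module R C] (𝒞 : ℤ → AddSubgroup C) [DirectSum.Decomposition 𝒞]
  [SetLike.GradedSMul 𝒜 𝒞] (hC : GrLC.IsStarCanonical 𝒜 𝒞 𝓔 m n I)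

include hm hn he hC in
theorem false_of_lin_dependence (h2 : 2 ≤ n)
    (hmgen : m.toIdeal = Ideal.span ((𝒜 1 : AddSubgroup R) : Set R))
    {i : ℤ} {u : C} (hu : u ∈ 𝒞 i) (hu0 : u ≠ 0) (x₀ : R) (hx₀ : x₀ ∈ 𝒜 1)
    (H : ∀ x ∈ 𝒜 1, ∃ c ∈ 𝒜 0, (x - c * x₀) • u = 0) : False := by
  haveI := hmax.isPrime
  haveI : IsNoetherianRing R := inferInstance
  haveI : LocCoh.IsCohenMacaulayLocalRing (Localization.AtPrime m.toIdeal) :=
    hCM.isCohenMacaulayLocalRing_localization m.toIdeal
  obtain ⟨hdimA, hfin, ⟨eK⟩⟩ := local_data 𝒜 m hm n hn I 𝓔 e he 𝒞 hC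
  haveI := hfin
  obtain ⟨-, -, hCMN, hsd⟩ := Groth.Agent.S7700.result (Localization.AtPrime m.toIdeal) n hdimA
    (LocalizedModule m.toIdeal.primeCompl E') (hullMap 𝒜 m e)
    (hullMap_isInjectiveHull 𝒜 m 𝓔 e he) (LocalizedModule m.toIdeal.primeCompl C) eK
  have hdepth : LocCoh.depth (Localization.AtPrime m.toIdeal)
      (LocalizedModule m.toIdeal.primeCompl C) = n := by
    have h1 : Module.supportDim (Localization.AtPrime m.toIdeal)
        (LocalizedModule m.toIdeal.primeCompl C) =
      ((LocCoh.depth (Localization.AtPrime m.toIdeal)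
        (LocalizedModule m.toIdeal.primeCompl C) : ℕ∞) : WithBot ℕ∞) := hCMN
    rw [hsd] at h1
    have h3 : ((n : ℕ∞) : WithBot ℕ∞) = ((LocCoh.depth (Localization.AtPrime m.toIdeal)
        (LocalizedModule m.toIdeal.primeCompl C) : ℕ∞) : WithBot ℕ∞) := h1
    exact (WithBot.coe_injective h3).symm
  -- the element `z = u/1`
  obtain ⟨z, hzdef⟩ : ∃ z : LocalizedModule m.toIdeal.primeCompl C,
      z = LocalizedModule.mkLinearMap m.toIdeal.primeCompl C u := ⟨_, rfl⟩
  have hz : z ≠ 0 := by
    intro h0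
    rw [hzdef] at h0
    obtain ⟨s, hs⟩ := (IsLocalizedModule.eq_zero_iff m.toIdeal.primeCompl
      (LocalizedModule.mkLinearMap m.toIdeal.primeCompl C)).1 h0
    have hhom := Groth.Agent.Lib.Helper29GrAss.annihilator_span_singleton_isHomogeneous 𝒜 𝒞 hu
    have hne : (⟨(Submodule.span R {u}).annihilator, hhom⟩ : HomogeneousIdeal 𝒜) ≠ ⊤ := by
      intro htop
      have h1 : (1 : R) ∈ (Submodule.span R {u}).annihilator := by
        have := congrArg HomogeneousIdeal.toIdeal htop
        change (Submodule.span R {u}).annihilator = ⊤ at this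
        rw [this]
        exact Submodule.mem_top
      rw [Submodule.mem_annihilator_span_singleton, one_smul] at h1
      exact hu0 h1
    have hle := Groth.Agent.Lib.T2H3.CanonUniq.le_of_isStarLocal 𝒜 hm _ hne
    have hsm : (s : R) ∈ m.toIdeal := by
      apply hle
      change (s : R) ∈ (Submodule.span R {u}).annihilator
      rw [Submodule.mem_annihilator_span_singleton]
      exact hs
    exact s.2 hsm
  obtain ⟨P, hP, hann, hdimP⟩ := exists_prime_ann_le_of_depth (Localization.AtPrime m.toIdeal)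
    (LocalizedModule m.toIdeal.primeCompl C) n hdepth z hz
  haveI := hP
  haveI : IsLocalRing (Localization.AtPrime m.toIdeal ⧸ P) :=
    Groth.Agent.Lib.Helper5.isLocalRing_quotient hP.ne_top
  -- the maximal ideal of `A/P` is generated by the image of `x₀`
  have hkey : ∀ x ∈ 𝒜 1, ∃ c : R, Ideal.Quotient.mk P (algebraMap R _ x) =
      Ideal.Quotient.mk P (algebraMap R _ c) * Ideal.Quotient.mk P (algebraMap R _ x₀) := by
    intro x hx
    obtain ⟨c, -, hc⟩ := H x hx
    refine ⟨c, ?_⟩
    rw [← map_mul, ← map_mul, ← sub_eq_zero, ← map_sub, ← map_sub, Ideal.Quotient.eq_zero_iff_mem]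
    apply hann
    rw [hzdef, algebraMap_smul, ← map_smul, hc, map_zero]
  have hmaxB : maximalIdeal (Localization.AtPrime m.toIdeal ⧸ P) ≤
      Ideal.span {Ideal.Quotient.mk P (algebraMap R _ x₀)} := by
    rw [Groth.Agent.Lib.Helper5.maximalIdeal_quotient_eq_map,
      ← IsLocalization.AtPrime.map_eq_maximalIdeal m.toIdeal (Localization.AtPrime m.toIdeal),
      Ideal.map_map, Ideal.map_le_iff_le_comap]
    refine hmgen.le.trans (Ideal.span_le.2 ?_)
    intro x hx
    obtain ⟨c, hc⟩ := hkey x hx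
    rw [SetLike.mem_coe, Ideal.mem_comap, RingHom.comp_apply, hc]
    exact Ideal.mul_mem_left _ _ (Ideal.mem_span_singleton_self _)
  have hx₀m : Ideal.Quotient.mk P (algebraMap R _ x₀) ∈
      maximalIdeal (Localization.AtPrime m.toIdeal ⧸ P) := by
    rw [Groth.Agent.Lib.Helper5.maximalIdeal_quotient_eq_map,
      ← IsLocalization.AtPrime.map_eq_maximalIdeal m.toIdeal (Localization.AtPrime m.toIdeal)]
    apply Ideal.mem_map_of_mem
    apply Ideal.mem_map_of_mem
    exact hmgen.ge (Ideal.subset_span hx₀)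
  have hB := ringKrullDim_le_one_of_maximalIdeal_le_span _ _ hx₀m hmaxB
  have h3 : (n : WithBot ℕ∞) ≤ 1 := hdimP.trans hB
  have h4 : n ≤ 1 := by exact_mod_cast h3
  omega

end main

end Groth.Agent.Lib.LeadCan
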