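import Mathlib
import Groth.Agent.Lib.LeadCanJ

/-!
# `dim_k (K_R)_j ≥ 2` for `j > -a(R)` (lead)

Standard graded Cohen–Macaulay ring `R` over a field, of dimension `n ≥ 2`, with *canonical module
`C`: every piece `C_j` with `j > -a(R)` has dimension at least two.
-/

set_option autoImplicit false
set_option maxHeartbeats 400000
set_option linter.style.haveILetI false
set_option linter.unusedSectionVars false
set_option linter.unusedVariables false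

universe u

namespace Groth.Agent.Lib.LeadCan

open CategoryTheory CategoryTheory.Abelian IsLocalRing
open GrLC Groth.Agent.Lib.T2H3.GrLes Groth.Agent.Lib.Helper29GrBaer

section main

variable {R : Type u} [CommRing R] [hCM : LocCoh.IsCohenMacaulayRing R] (𝒜 : ℤ → AddSubgroup R)
  [GradedRing 𝒜] (hpos : ∀ n : ℤ, n < 0 → 𝒜 n = ⊥)
  (m : HomogeneousIdeal 𝒜) (hm : GrLC.IsStarLocal 𝒜 m) [hmax : m.toIdeal.IsMaximal]
  (n : ℕ) (hn : ringKrullDim R = n) (I : GrLC.StarInjRes 𝒜 𝒜)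
  {E' : Type u} [AddCommGroup E'] [Module R E'] (𝓔 : ℤ → AddSubgroup E')
  [DirectSum.Decomposition 𝓔] [SetLike.GradedSMul 𝒜 𝓔] (e : (R ⧸ m.toIdeal) →ₗ[R] E')
  (he : GrLC.IsStarInjHull 𝒜 (GrLC.quotGr 𝒜 m) 𝓔 e)
  {C : Type u} [AddCommGroup C] [Module R C] (𝒞 : ℤ → AddSubgroup C) [DirectSum.Decomposition 𝒞]
  [SetLike.GradedSMul 𝒜 𝒞] (hC : GrLC.IsStarCanonical 𝒜 𝒞 𝓔 m n I)

include hC in
/-- A nonzero piece of `H^n_m(R)` gives a nonzero homogeneous map `C → E'` of that degree. -/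
theorem exists_hom_of_Hgr_ne_bot (d : ℤ) (hd : I.Hgr m n d ≠ ⊥) :
    ∃ χ : C →ₗ[R] E', IsGrHomDeg 𝒞 𝓔 χ d ∧ χ ≠ 0 := by
  classical
  obtain ⟨hfin, φ, hφ⟩ := hC
  obtain ⟨h, hh, hh0⟩ : ∃ h : I.H m n, h ∈ I.Hgr m n d ∧ h ≠ 0 := by
    by_contra hcon
    push Not at hcon
    apply hd
    rw [AddSubgroup.eq_bot_iff_forall]
    exact hcon
  obtain ⟨ψ, rfl⟩ : ∃ ψ, φ ψ = h := ⟨φ.symm h, φ.apply_symm_apply h⟩
  obtain ⟨T, hT⟩ := exists_sum_part 𝒜 𝒞 𝓔 ψ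
  letI := HgrDecomposition I m n
  have hpart : ∀ d, φ (part 𝒜 𝒞 𝓔 ψ d) ∈ I.Hgr m n d := fun d =>
    hφ d _ (part_isGrHomDeg 𝒜 𝒞 𝓔 ψ d)
  have hsum : φ ψ = ∑ d ∈ T, φ (part 𝒜 𝒞 𝓔 ψ d) := by
    rw [← map_sum, hT]
  have h1 : ((DirectSum.decompose (I.Hgr m n) (φ ψ)) d : I.H m n) = φ ψ :=
    DirectSum.decompose_of_mem_same (I.Hgr m n) hh
  have h2 : ((DirectSum.decompose (I.Hgr m n) (φ ψ)) d : I.H m n) =
      if d ∈ T then φ (part 𝒜 𝒞 𝓔 ψ d) else 0 := by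
    rw [hsum, DirectSum.decompose_sum, DFinsupp.finsetSum_apply,
      AddSubmonoidClass.coe_finsetSum]
    split_ifs with hjT
    · rw [Finset.sum_eq_single d]
      · exact DirectSum.decompose_of_mem_same (I.Hgr m n) (hpart d)
      · intro b _ hb
        exact DirectSum.decompose_of_mem_ne (I.Hgr m n) (hpart b) hb
      · intro hcon
        exact absurd hjT hcon
    · apply Finset.sum_eq_zero
      intro b hb
      exact DirectSum.decompose_of_mem_ne (I.Hgr m n) (hpart b) (fun hbj => hjT (hbj ▸ hb))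
  have hcomp : φ ψ = φ (part 𝒜 𝒞 𝓔 ψ d) := by
    by_cases hjT : d ∈ T
    · rw [if_pos hjT] at h2
      exact h1.symm.trans h2
    · rw [if_neg hjT] at h2
      exact absurd (h1.symm.trans h2) hh0
  refine ⟨part 𝒜 𝒞 𝓔 ψ d, part_isGrHomDeg 𝒜 𝒞 𝓔 ψ d, ?_⟩
  intro h0
  apply hh0
  rw [hcomp, h0, map_zero]

theorem Hgr_ne_bot_of_endDeg_eq {M : Type u} [AddCommGroup M] (ℳ : ℤ → AddSubgroup M) (a : ℤ)
    (ha : GrLC.endDeg ℳ = ((a : WithTop ℤ) : WithBot (WithTop ℤ))) : ℳ a ≠ ⊥ := by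
  intro hb
  have hle : GrLC.endDeg ℳ ≤ (((a - 1 : ℤ) : WithTop ℤ) : WithBot (WithTop ℤ)) := by
    unfold GrLC.endDeg
    refine iSup₂_le fun j hj => ?_
    have h1 : (((j : ℤ) : WithTop ℤ) : WithBot (WithTop ℤ)) ≤ GrLC.endDeg ℳ := by
      unfold GrLC.endDeg
      exact le_iSup₂ (f := fun (k : ℤ) (_ : ℳ k ≠ ⊥) =>
        ((k : WithTop ℤ) : WithBot (WithTop ℤ))) j hj
    rw [ha] at h1
    have h2 : j ≤ a := by
      have := WithBot.coe_le_coe.1 h1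
      exact WithTop.coe_le_coe.1 this
    have h3 : j ≠ a := fun h => hj (h ▸ hb)
    have h4 : j ≤ a - 1 := by omega
    exact WithBot.coe_le_coe.2 (WithTop.coe_le_coe.2 h4)
  rw [ha] at hle
  have := WithTop.coe_le_coe.1 (WithBot.coe_le_coe.1 hle)
  omega

include hpos hm he hC in
/-- Some piece of `C` in degree `≤ -a` is nonzero. -/
theorem exists_piece_ne_bot (a : ℤ)
    (ha : GrLC.endDeg (I.Hgr m n) = ((a : WithTop ℤ) : WithBot (WithTop ℤ))) :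
    ∃ i : ℤ, i ≤ -a ∧ 𝒞 i ≠ ⊥ := by
  classical
  haveI : IsNoetherianRing R := inferInstance
  have hne := Hgr_ne_bot_of_endDeg_eq (I.Hgr m n) a ha
  obtain ⟨χ, hχ, hχ0⟩ := exists_hom_of_Hgr_ne_bot 𝒜 m n I 𝓔 𝒞 hC a hne
  obtain ⟨c, hc⟩ : ∃ c : C, χ c ≠ 0 := by
    by_contra hcon
    push Not at hcon
    exact hχ0 (LinearMap.ext hcon)
  have hsum : χ c = ∑ i ∈ (DirectSum.decompose 𝒞 c).support,
      χ ((DirectSum.decompose 𝒞 c) i : C) := by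
    conv_lhs => rw [← DirectSum.sum_support_decompose 𝒞 c, map_sum]
  obtain ⟨i, -, hi⟩ : ∃ i ∈ (DirectSum.decompose 𝒞 c).support,
      χ ((DirectSum.decompose 𝒞 c) i : C) ≠ 0 := by
    by_contra hcon
    push Not at hcon
    exact hc (hsum.trans (Finset.sum_eq_zero hcon))
  have hmem : χ ((DirectSum.decompose 𝒞 c) i : C) ∈ 𝓔 (i + a) :=
    hχ i _ (SetLike.coe_mem _)
  have hle := Groth.Agent.Lib.T2H3.CanonDeg.hull_le_zero 𝒜 hpos hm 𝓔 e he hmem hi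
  refine ⟨i, by omega, ?_⟩
  intro hb
  apply hi
  have h0 : ((DirectSum.decompose 𝒞 c) i : C) ∈ (⊥ : AddSubgroup C) := by
    rw [← hb]
    exact SetLike.coe_mem _
  rw [AddSubgroup.mem_bot] at h0
  rw [h0, map_zero]

include hm hn he hC in
/-- For a nonzero homogeneous `u`, some element of `R_1` does not kill `u`. -/
theorem exists_smul_ne_zero (h2 : 2 ≤ n)
    (hmgen : m.toIdeal = Ideal.span ((𝒜 1 : AddSubgroup R) : Set R))
    {i : ℤ} {u : C} (hu : u ∈ 𝒞 i) (hu0 : u ≠ 0) : ∃ x ∈ 𝒜 1, x • u ≠ 0 := by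
  by_contra hcon
  push Not at hcon
  refine false_of_lin_dependence 𝒜 m hm n hn I 𝓔 e he 𝒞 hC h2 hmgen hu hu0 0 (zero_mem _) ?_
  intro x hx
  refine ⟨0, zero_mem _, ?_⟩
  rw [zero_mul, sub_zero]
  exact hcon x hx

include hm hn he hC in
theorem piece_ne_bot_add (h2 : 2 ≤ n)
    (hmgen : m.toIdeal = Ideal.span ((𝒜 1 : AddSubgroup R) : Set R))
    {i : ℤ} (hi : 𝒞 i ≠ ⊥) (k : ℕ) : 𝒞 (i + k) ≠ ⊥ := by
  induction k with
  | zero => simpa using hi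
  | succ k ih =>
    obtain ⟨u, hu, hu0⟩ : ∃ u : C, u ∈ 𝒞 (i + k) ∧ u ≠ 0 := by
      by_contra hcon
      push Not at hcon
      apply ih
      rw [AddSubgroup.eq_bot_iff_forall]
      exact hcon
    obtain ⟨x, hx, hxu⟩ := exists_smul_ne_zero 𝒜 m hm n hn I 𝓔 e he 𝒞 hC h2 hmgen hu hu0
    have hmem : x • u ∈ 𝒞 (1 + (i + k)) := SetLike.GradedSMul.smul_mem hx hu
    intro hb
    apply hxu
    have h1 : (1 : ℤ) + (i + k) = i + ((k + 1 : ℕ) : ℤ) := by push_cast; ring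
    rw [h1, hb, AddSubgroup.mem_bot] at hmem
    exact hmem

include hm hn he hC in
/-- For a nonzero homogeneous `u`, there are `x₁, x₂ ∈ R_1` with `x₁ u, x₂ u` linearly independent
over the field `R_0`. -/
theorem exists_two_independent (h0 : IsField (GrLC.deg0 𝒜)) (h2 : 2 ≤ n)
    (hmgen : m.toIdeal = Ideal.span ((𝒜 1 : AddSubgroup R) : Set R))
    {i : ℤ} {u : C} (hu : u ∈ 𝒞 i) (hu0 : u ≠ 0) :
    ∃ x₁ ∈ 𝒜 1, ∃ x₂ ∈ 𝒜 1, ∀ c₁ ∈ 𝒜 0, ∀ c₂ ∈ 𝒜 0,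
      (c₁ * x₁ + c₂ * x₂) • u = 0 → c₁ = 0 ∧ c₂ = 0 := by
  obtain ⟨x₁, hx₁, hx₁u⟩ := exists_smul_ne_zero 𝒜 m hm n hn I 𝓔 e he 𝒞 hC h2 hmgen hu hu0
  by_contra hcon
  push Not at hcon
  refine false_of_lin_dependence 𝒜 m hm n hn I 𝓔 e he 𝒞 hC h2 hmgen hu hu0 x₁ hx₁ ?_
  intro x hx
  obtain ⟨c₁, hc₁, c₂, hc₂, hzero, hne⟩ := hcon x₁ hx₁ x hx
  -- inverse in the field `R_0`
  have hinv : ∀ c ∈ 𝒜 0, c ≠ 0 → ∃ d ∈ 𝒜 0, d * c = 1 := by
    intro c hc hc0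
    have hne' : (⟨c, hc⟩ : GrLC.deg0 𝒜) ≠ 0 := by
      intro h
      exact hc0 (congrArg Subtype.val h)
    obtain ⟨d, hd⟩ := h0.mul_inv_cancel hne'
    refine ⟨(d : R), d.2, ?_⟩
    have := congrArg Subtype.val hd
    rw [mul_comm]
    exact this
  by_cases hc₂0 : c₂ = 0
  · exfalso
    have hc₁0 : c₁ ≠ 0 := fun h => hne h hc₂0
    obtain ⟨d, -, hd⟩ := hinv c₁ hc₁ hc₁0
    apply hx₁u
    rw [hc₂0, zero_mul, add_zero] at hzero
    calc x₁ • u = (d * c₁) • x₁ • u := by rw [hd, one_smul]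
      _ = d • ((c₁ * x₁) • u) := by rw [mul_smul, mul_smul]
      _ = 0 := by rw [hzero, smul_zero]
  · obtain ⟨d, hd0, hd⟩ := hinv c₂ hc₂ hc₂0
    refine ⟨-(d * c₁), ?_, ?_⟩
    · have h1 : d * c₁ ∈ 𝒜 (0 + 0) := SetLike.GradedMul.mul_mem hd0 hc₁
      rw [add_zero] at h1
      exact neg_mem h1
    · have h1 : x - -(d * c₁) * x₁ = d * (c₁ * x₁ + c₂ * x) := by
        have : d * (c₁ * x₁ + c₂ * x) = d * c₁ * x₁ + (d * c₂) * x := by ring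
        rw [this, hd]
        ring
      rw [h1, mul_smul, hzero, smul_zero]

include hpos hm hn he hC in
theorem two_le_finrank_comp (h0 : IsField (GrLC.deg0 𝒜)) (h2 : 2 ≤ n)
    (hmgen : m.toIdeal = Ideal.span ((𝒜 1 : AddSubgroup R) : Set R)) (a : ℤ)
    (ha : GrLC.endDeg (I.Hgr m n) = ((a : WithTop ℤ) : WithBot (WithTop ℤ)))
    (j : ℤ) (hj : -a < j) : 2 ≤ Module.finrank (GrLC.deg0 𝒜) (GrLC.comp 𝒜 𝒞 j) := by
  classical
  haveI : IsNoetherianRing R := inferInstance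
  obtain ⟨i₀, hi₀, hne⟩ := exists_piece_ne_bot 𝒜 hpos m hm n I 𝓔 e he 𝒞 hC a ha
  have hne' := piece_ne_bot_add 𝒜 m hm n hn I 𝓔 e he 𝒞 hC h2 hmgen hne (j - 1 - i₀).toNat
  have hidx : i₀ + ((j - 1 - i₀).toNat : ℤ) = j - 1 := by
    rw [Int.toNat_of_nonneg (by omega)]
    ring
  rw [hidx] at hne'
  obtain ⟨u, hu, hu0⟩ : ∃ u : C, u ∈ 𝒞 (j - 1) ∧ u ≠ 0 := by
    by_contra hcon
    push Not at hcon
    apply hne'
    rw [AddSubgroup.eq_bot_iff_forall]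
    exact hcon
  obtain ⟨x₁, hx₁, x₂, hx₂, hind⟩ :=
    exists_two_independent 𝒜 m hm n hn I 𝓔 e he 𝒞 hC h0 h2 hmgen hu hu0
  have hdeg : (1 : ℤ) + (j - 1) = j := by ring
  have hw₁ : x₁ • u ∈ 𝒞 j := by
    have := SetLike.GradedSMul.smul_mem (A := 𝒜) (B := 𝒞) hx₁ hu
    rw [vadd_eq_add, hdeg] at this
    exact this
  have hw₂ : x₂ • u ∈ 𝒞 j := by
    have := SetLike.GradedSMul.smul_mem (A := 𝒜) (B := 𝒞) hx₂ hu
    rw [vadd_eq_add, hdeg] at this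
    exact this
  haveI := hC.1
  haveI : IsNoetherian R C := isNoetherian_of_isNoetherianRing_of_finite R C
  haveI : IsNoetherian (GrLC.deg0 𝒜) (GrLC.comp 𝒜 𝒞 j) :=
    Groth.Agent.Lib.T2H3.GrIrr.isNoetherian_comp 𝒜 𝒞 j
  haveI : Module.Finite (GrLC.deg0 𝒜) (GrLC.comp 𝒜 𝒞 j) := inferInstance
  haveI : Nontrivial (GrLC.deg0 𝒜) := h0.nontrivial
  let w₁ : GrLC.comp 𝒜 𝒞 j := ⟨x₁ • u, hw₁⟩
  let w₂ : GrLC.comp 𝒜 𝒞 j := ⟨x₂ • u, hw₂⟩
  have hli : LinearIndependent (GrLC.deg0 𝒜) ![w₁, w₂] := by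
    rw [LinearIndependent.pair_iff]
    intro s t hst
    have h1 : ((s : R) * x₁ + (t : R) * x₂) • u = 0 := by
      have := congrArg Subtype.val hst
      rw [add_smul, mul_smul, mul_smul]
      exact this
    obtain ⟨hs, ht⟩ := hind (s : R) s.2 (t : R) t.2 h1
    exact ⟨Subtype.ext hs, Subtype.ext ht⟩
  have := hli.fintype_card_le_finrank
  simpa using this

end main

end Groth.Agent.Lib.LeadCan
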