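import Mathlib

set_option autoImplicit false

universe u

namespace Groth.Agent.Lib.T2H2.SliceSep

open TensorProduct KaehlerDifferential IsLocalRing

section Cot

variable {k Abar K : Type u} [CommRing k] [CommRing Abar] [CommRing K] [Algebra k Abar]
  [Algebra k K] [Algebra Abar K] [IsScalarTower k Abar K]

/-- If `Ā → K` is a surjection of formally smooth `k`-algebras whose kernel is a nonzero finitely
generated ideal contained in the Jacobson radical, some element of the kernel has nonzero
differential in `K ⊗ Ω[Ā/k]`. -/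
theorem exists_mem_ker_D_ne_zero [Algebra.FormallySmooth k Abar] [Algebra.FormallySmooth k K]
    (hsurj : Function.Surjective (algebraMap Abar K))
    (hfg : (RingHom.ker (algebraMap Abar K)).FG)
    (hjac : RingHom.ker (algebraMap Abar K) ≤ Ideal.jacobson ⊥)
    (hne : RingHom.ker (algebraMap Abar K) ≠ ⊥) :
    ∃ h ∈ RingHom.ker (algebraMap Abar K), (1 : K) ⊗ₜ[Abar] (D k Abar h) ≠ 0 := by
  obtain ⟨l, hl⟩ := (Algebra.FormallySmooth.iff_split_injection (R := k) (P := Abar) (A := K)
    hsurj).mp inferInstance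
  have hinj : Function.Injective (kerCotangentToTensor k Abar K) := by
    intro a b hab
    have := congrArg l hab
    rwa [← LinearMap.comp_apply, ← LinearMap.comp_apply, hl] at this
  by_contra hcon
  push Not at hcon
  apply hne
  have hsub : Subsingleton (RingHom.ker (algebraMap Abar K)).Cotangent := by
    refine ⟨fun a b => ?_⟩
    obtain ⟨a, rfl⟩ := Ideal.toCotangent_surjective _ a
    obtain ⟨b, rfl⟩ := Ideal.toCotangent_surjective _ b
    apply hinj
    rw [kerCotangentToTensor_toCotangent, kerCotangentToTensor_toCotangent, hcon a.1 a.2,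
      hcon b.1 b.2]
  rw [Ideal.cotangent_subsingleton_iff] at hsub
  have hle : RingHom.ker (algebraMap Abar K) ≤
      RingHom.ker (algebraMap Abar K) • RingHom.ker (algebraMap Abar K) := by
    rw [smul_eq_mul]
    exact le_of_eq hsub.eq.symm
  exact Submodule.eq_bot_of_le_smul_of_le_jacobson_bot _ _ hfg hle hjac

end Cot

section Fibre

variable {R P : Type u} [CommRing R] [CommRing P] [IsLocalRing R] [IsLocalRing P] [Algebra R P]
  [IsLocalHom (algebraMap R P)]

set_option maxHeartbeats 1600000 in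
/-- `R → P` a local homomorphism of local rings, formally smooth and essentially of finite type,
with separable (formally smooth) residue field extension.  If the closed fibre `P / m_R P` is not a
field, some element of the maximal ideal of `P` has nonzero differential in `κ ⊗ Ω[P/R]`. -/
theorem exists_mem_maximalIdeal_D_ne_zero [Algebra.FormallySmooth R P] [Algebra.EssFiniteType R P]
    (hsep : letI := (ResidueField.map (algebraMap R P)).toAlgebra
      Algebra.FormallySmooth (ResidueField R) (ResidueField P))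
    (hne : maximalIdeal P ≠ (maximalIdeal R).map (algebraMap R P)) :
    ∃ h ∈ maximalIdeal P, (1 : ResidueField P) ⊗ₜ[P] (D R P h) ≠ 0 := by
  let I : Ideal P := (maximalIdeal R).map (algebraMap R P)
  have hIle : I ≤ maximalIdeal P := map_maximalIdeal_le (algebraMap R P)
  have hItop : I ≠ ⊤ := fun e => (IsLocalRing.maximalIdeal.isMaximal P).ne_top
    (top_le_iff.mp (e ▸ hIle))
  have : Nontrivial (P ⧸ I) := Ideal.Quotient.nontrivial_iff.mpr hItop
  have : IsLocalRing (P ⧸ I) := .of_surjective' _ Ideal.Quotient.mk_surjective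
  -- the algebra structures (with `k = R ⧸ m_R` literally)
  let algkK : Algebra (R ⧸ maximalIdeal R) (ResidueField P) :=
    (ResidueField.map (algebraMap R P)).toAlgebra
  let φ : P ⧸ I →+* ResidueField P :=
    Ideal.Quotient.lift I (residue P) (fun a ha => by
      rw [residue_eq_zero_iff]; exact hIle ha)
  let algAK : Algebra (P ⧸ I) (ResidueField P) := φ.toAlgebra
  have towPAK : IsScalarTower P (P ⧸ I) (ResidueField P) :=
    IsScalarTower.of_algebraMap_eq (fun a => rfl)
  have towkAK : IsScalarTower (R ⧸ maximalIdeal R) (P ⧸ I) (ResidueField P) := by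
    refine IsScalarTower.of_algebraMap_eq (fun a => ?_)
    obtain ⟨a, rfl⟩ := Ideal.Quotient.mk_surjective a
    rfl
  -- formal smoothness of the fibre
  have hfsA : Algebra.FormallySmooth (R ⧸ maximalIdeal R) (P ⧸ I) := by
    let e := Algebra.TensorProduct.quotIdealMapEquivQuotTensor P (maximalIdeal R)
    exact Algebra.FormallySmooth.of_equiv e.symm
  have hfsK : Algebra.FormallySmooth (R ⧸ maximalIdeal R) (ResidueField P) := hsep
  -- the kernel of `Ā → K`
  have hsurj : Function.Surjective (algebraMap (P ⧸ I) (ResidueField P)) := by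
    intro z
    obtain ⟨z, rfl⟩ := residue_surjective z
    exact ⟨Ideal.Quotient.mk I z, rfl⟩
  have hker : RingHom.ker (algebraMap (P ⧸ I) (ResidueField P)) = maximalIdeal (P ⧸ I) := by
    have : (RingHom.ker (algebraMap (P ⧸ I) (ResidueField P))).IsMaximal :=
      RingHom.ker_isMaximal_of_surjective _ hsurj
    exact IsLocalRing.eq_maximalIdeal this
  have heft : Algebra.EssFiniteType (R ⧸ maximalIdeal R) (P ⧸ I) :=
    Algebra.EssFiniteType.of_comp R (R ⧸ maximalIdeal R) (P ⧸ I)
  have : IsNoetherianRing (R ⧸ maximalIdeal R) :=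
    inferInstanceAs (IsNoetherianRing (ResidueField R))
  have hnoeth : IsNoetherianRing (P ⧸ I) :=
    Algebra.EssFiniteType.isNoetherianRing (R ⧸ maximalIdeal R) (P ⧸ I)
  have hfg : (RingHom.ker (algebraMap (P ⧸ I) (ResidueField P))).FG :=
    IsNoetherian.noetherian _
  have hjac : RingHom.ker (algebraMap (P ⧸ I) (ResidueField P)) ≤ Ideal.jacobson ⊥ := by
    rw [hker, IsLocalRing.jacobson_eq_maximalIdeal ⊥ bot_ne_top]
  have hne' : RingHom.ker (algebraMap (P ⧸ I) (ResidueField P)) ≠ ⊥ := by
    rw [hker]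
    intro hbot
    apply hne
    refine le_antisymm (fun y hy => ?_) hIle
    have h1 : Ideal.Quotient.mk I y ∈ maximalIdeal (P ⧸ I) := by
      rw [mem_maximalIdeal, mem_nonunits_iff]
      intro hu
      have h2 : IsUnit (φ (Ideal.Quotient.mk I y)) := hu.map φ
      have h3 : φ (Ideal.Quotient.mk I y) = 0 := (residue_eq_zero_iff y).mpr hy
      rw [h3] at h2
      exact not_isUnit_zero h2
    rw [hbot, Ideal.mem_bot, Ideal.Quotient.eq_zero_iff_mem] at h1
    exact h1
  obtain ⟨hbar, hhbar, hDbar⟩ := exists_mem_ker_D_ne_zero (k := R ⧸ maximalIdeal R)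
    (Abar := P ⧸ I) (K := ResidueField P) hsurj hfg hjac hne'
  obtain ⟨h, rfl⟩ := Ideal.Quotient.mk_surjective hbar
  have hhm : h ∈ maximalIdeal P := (residue_eq_zero_iff h).mp hhbar
  refine ⟨h, hhm, ?_⟩
  let g₁ : Ω[P⁄R] →ₗ[P] Ω[(P ⧸ I)⁄(R ⧸ maximalIdeal R)] :=
    KaehlerDifferential.map R (R ⧸ maximalIdeal R) P (P ⧸ I)
  let mk1 : Ω[(P ⧸ I)⁄(R ⧸ maximalIdeal R)] →ₗ[P]
      ResidueField P ⊗[P ⧸ I] Ω[(P ⧸ I)⁄(R ⧸ maximalIdeal R)] :=
    (TensorProduct.mk (P ⧸ I) (ResidueField P) Ω[(P ⧸ I)⁄(R ⧸ maximalIdeal R)] 1).restrictScalars P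
  let T : ResidueField P ⊗[P] Ω[P⁄R] →ₗ[ResidueField P]
      ResidueField P ⊗[P ⧸ I] Ω[(P ⧸ I)⁄(R ⧸ maximalIdeal R)] :=
    LinearMap.liftBaseChange (ResidueField P) (mk1 ∘ₗ g₁)
  intro hcon
  apply hDbar
  have h1 := congrArg T hcon
  rw [map_zero, LinearMap.liftBaseChange_tmul, one_smul] at h1
  have h2 : (mk1 ∘ₗ g₁) (D R P h) =
      (1 : ResidueField P) ⊗ₜ[P ⧸ I] (D (R ⧸ maximalIdeal R) (P ⧸ I) (Ideal.Quotient.mk I h)) := by
    change (1 : ResidueField P) ⊗ₜ[P ⧸ I] (g₁ (D R P h)) = _
    rw [KaehlerDifferential.map_D]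
    rfl
  rw [h2] at h1
  exact h1

end Fibre

end Groth.Agent.Lib.T2H2.SliceSep
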