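import Mathlib
import Groth.Agent.Lib.Helper3FibCritD
import Groth.Agent.S0387

set_option autoImplicit false

universe u

namespace Groth.Agent.Lib.T2H2.SliceFlat

open TensorProduct Polynomial Groth.Agent.Lib.Helper3.FibCritA Groth.Agent.Lib.Helper3.FlatLoc

section PID

variable {A : Type u} [CommRing A] (p : Ideal A) [p.IsPrime]

/-- `κ(p)[X] ≃ κ(p) ⊗ A[X]`. -/
noncomputable def polyEquiv : Polynomial p.ResidueField ≃ₐ[p.ResidueField] p.Fiber (Polynomial A) :=
  polyEquivTensor' A p.ResidueField

theorem polyEquiv_X : polyEquiv p (X : Polynomial p.ResidueField) = 1 ⊗ₜ[A] (X : Polynomial A) := by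
  have h : (polyEquiv p).symm (1 ⊗ₜ[A] (X : Polynomial A)) = X := by
    change (polyEquivTensor A p.ResidueField).symm (1 ⊗ₜ[A] (X : Polynomial A)) = X
    rw [polyEquivTensor_symm_apply_tmul_eq_smul, one_smul, Polynomial.map_X]
  rw [← h, AlgEquiv.apply_symm_apply]

instance : IsDomain (p.Fiber (Polynomial A)) :=
  (polyEquiv p).symm.toMulEquiv.isDomain

instance : IsPrincipalIdealRing (p.Fiber (Polynomial A)) :=
  IsPrincipalIdealRing.of_surjective (polyEquiv p).toRingEquiv.toRingHom (polyEquiv p).surjective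

/-- Every nonzero element of `κ(p) ⊗ A[X]` is a power of `X` times (a nonzero constant plus a
multiple of `X`). -/
theorem exists_decomp (r : p.Fiber (Polynomial A)) (hr : r ≠ 0) :
    ∃ (k : ℕ) (a : p.ResidueField) (r' : p.Fiber (Polynomial A)), a ≠ 0 ∧
      r = (1 ⊗ₜ[A] (X : Polynomial A)) ^ k *
        (algebraMap p.ResidueField _ a + (1 ⊗ₜ[A] (X : Polynomial A)) * r') := by
  classical
  obtain ⟨P, rfl⟩ := (polyEquiv p).surjective r
  have hP : P ≠ 0 := by
    rintro rfl
    exact hr (map_zero _)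
  obtain ⟨Q, hPQ, hQ⟩ := Polynomial.exists_eq_pow_rootMultiplicity_mul_and_not_dvd P hP 0
  rw [map_zero, sub_zero] at hPQ hQ
  refine ⟨P.rootMultiplicity 0, Q.coeff 0, polyEquiv p (Q.divX), ?_, ?_⟩
  · intro h0
    exact hQ (Polynomial.X_dvd_iff.mpr h0)
  · rw [← polyEquiv_X, ← AlgEquiv.commutes (polyEquiv p), ← map_mul, ← map_add, ← map_pow,
      ← map_mul]
    congr 1
    rw [← Polynomial.C_eq_algebraMap, add_comm, Polynomial.X_mul_divX_add]
    exact hPQ


/-- Nonzero elements of `κ(p) ⊗ A[X]` act as nonzerodivisors on a local algebra in which `X` is a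
nonzerodivisor of the maximal ideal. -/
theorem algebraMap_mem_nonZeroDivisors {L : Type*} [CommRing L] [IsLocalRing L]
    [Algebra (p.Fiber (Polynomial A)) L]
    (hm : algebraMap (p.Fiber (Polynomial A)) L (1 ⊗ₜ[A] (X : Polynomial A)) ∈
      IsLocalRing.maximalIdeal L)
    (hreg : algebraMap (p.Fiber (Polynomial A)) L (1 ⊗ₜ[A] (X : Polynomial A)) ∈ nonZeroDivisors L)
    (r : p.Fiber (Polynomial A)) (hr : r ≠ 0) :
    algebraMap (p.Fiber (Polynomial A)) L r ∈ nonZeroDivisors L := by
  obtain ⟨k, a, r', ha, rfl⟩ := exists_decomp p r hr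
  rw [map_mul, map_pow]
  refine mul_mem (pow_mem hreg k) ?_
  apply IsUnit.mem_nonZeroDivisors
  rw [map_add, map_mul]
  have hu : IsUnit (algebraMap (p.Fiber (Polynomial A)) L
      (algebraMap p.ResidueField (p.Fiber (Polynomial A)) a)) :=
    ((isUnit_iff_ne_zero.mpr ha).map _).map _
  have hnu : algebraMap (p.Fiber (Polynomial A)) L (1 ⊗ₜ[A] (X : Polynomial A)) *
      algebraMap (p.Fiber (Polynomial A)) L r' ∈ IsLocalRing.maximalIdeal L :=
    Ideal.mul_mem_right _ _ hm
  by_contra hcon
  have h1 : algebraMap (p.Fiber (Polynomial A)) L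
      (algebraMap p.ResidueField (p.Fiber (Polynomial A)) a) +
      algebraMap (p.Fiber (Polynomial A)) L (1 ⊗ₜ[A] (X : Polynomial A)) *
      algebraMap (p.Fiber (Polynomial A)) L r' ∈ IsLocalRing.maximalIdeal L := hcon
  have h2 := (Ideal.add_mem_iff_left _ hnu).mp h1
  exact h2 hu

/-- Such a local algebra is flat over `κ(p) ⊗ A[X]`. -/
theorem flat_of_X_regular {L : Type*} [CommRing L] [IsLocalRing L]
    [Algebra (p.Fiber (Polynomial A)) L]
    (hm : algebraMap (p.Fiber (Polynomial A)) L (1 ⊗ₜ[A] (X : Polynomial A)) ∈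
      IsLocalRing.maximalIdeal L)
    (hreg : algebraMap (p.Fiber (Polynomial A)) L (1 ⊗ₜ[A] (X : Polynomial A)) ∈ nonZeroDivisors L) :
    Module.Flat (p.Fiber (Polynomial A)) L := by
  rw [Module.Flat.flat_iff_torsion_eq_bot_of_isBezout, eq_bot_iff]
  intro x hx
  rw [Submodule.mem_torsion_iff] at hx
  obtain ⟨⟨r, hr⟩, hrx⟩ := hx
  have hr0 : r ≠ 0 := nonZeroDivisors.ne_zero hr
  have h1 := algebraMap_mem_nonZeroDivisors p hm hreg r hr0
  have h2 : algebraMap (p.Fiber (Polynomial A)) L r * x = 0 := by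
    rw [← Algebra.smul_def]; exact hrx
  rw [Submodule.mem_bot]
  exact (mul_left_mem_nonZeroDivisors_eq_zero_iff h1).mp h2

end PID

section Fib

variable {A C : Type u} [CommRing A] [CommRing C] [Algebra A C] (p : Ideal A) [p.IsPrime]

/-- If `1 ⊗ h` lies in `Q` and becomes a nonzerodivisor in `(κ(p) ⊗ C)_Q`, then `(κ(p) ⊗ C)_Q` is
flat over `κ(p) ⊗ A[X]` (where `X ↦ h`). -/
theorem flat_localizedModule_fiber [Algebra (p.Fiber (Polynomial A)) (p.Fiber C)] (h : C)
    (hX : algebraMap (p.Fiber (Polynomial A)) (p.Fiber C) (1 ⊗ₜ[A] (X : Polynomial A)) = 1 ⊗ₜ[A] h)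
    (Q : Ideal (p.Fiber C)) [Q.IsPrime] (hQ : (1 : p.ResidueField) ⊗ₜ[A] h ∈ Q)
    (hreg : algebraMap (p.Fiber C) (Localization.AtPrime Q) ((1 : p.ResidueField) ⊗ₜ[A] h) ∈
      nonZeroDivisors (Localization.AtPrime Q)) :
    Module.Flat (p.Fiber (Polynomial A)) (LocalizedModule Q.primeCompl (p.Fiber C)) := by
  have key : algebraMap (p.Fiber (Polynomial A)) (Localization.AtPrime Q)
      (1 ⊗ₜ[A] (X : Polynomial A)) =
      algebraMap (p.Fiber C) (Localization.AtPrime Q) ((1 : p.ResidueField) ⊗ₜ[A] h) := by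
    rw [IsScalarTower.algebraMap_apply (p.Fiber (Polynomial A)) (p.Fiber C)
      (Localization.AtPrime Q), hX]
  have hfl : Module.Flat (p.Fiber (Polynomial A)) (Localization.AtPrime Q) :=
    flat_of_X_regular p (L := Localization.AtPrime Q)
      (by rw [key]; exact (IsLocalization.AtPrime.to_map_mem_maximal_iff _ Q _).mpr hQ)
      (by rw [key]; exact hreg)
  let e : LocalizedModule Q.primeCompl (p.Fiber C) ≃ₗ[p.Fiber C] Localization.AtPrime Q :=
    IsLocalizedModule.iso Q.primeCompl (Algebra.linearMap (p.Fiber C) (Localization.AtPrime Q))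
  exact Module.Flat.of_linearEquiv (e.restrictScalars (p.Fiber (Polynomial A)))

end Fib

section Fib2

variable {A C : Type u} [CommRing A] [CommRing C] [Algebra A C] (p : Ideal A) [p.IsPrime]

theorem comap_includeRight_liesOver (Q : Ideal (p.Fiber C)) [Q.IsPrime] :
    (Q.comap (Algebra.TensorProduct.includeRight : C →ₐ[A] p.Fiber C)).LiesOver p := by
  constructor
  have h0 : Q.LiesOver p := inferInstance
  refine h0.over.trans ?_
  ext a
  simp only [Ideal.mem_comap, Ideal.under]
  rw [← AlgHom.commutes (Algebra.TensorProduct.includeRight : C →ₐ[A] p.Fiber C)]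

/-- The image of `1 ⊗ h` in `(κ(p) ⊗ C)_Q` is a nonzerodivisor as soon as the class of `h` in
`C_q / p C_q` is one, `q` the prime of `C` below `Q`. -/
theorem one_tmul_mem_nonZeroDivisors (Q : Ideal (p.Fiber C)) [Q.IsPrime] (h : C)
    (hreg : Ideal.Quotient.mk (p.map (algebraMap A (Localization.AtPrime
        (Q.comap (Algebra.TensorProduct.includeRight : C →ₐ[A] p.Fiber C)))))
      (algebraMap C (Localization.AtPrime
        (Q.comap (Algebra.TensorProduct.includeRight : C →ₐ[A] p.Fiber C))) h) ∈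
      nonZeroDivisors (Localization.AtPrime
        (Q.comap (Algebra.TensorProduct.includeRight : C →ₐ[A] p.Fiber C)) ⧸
        p.map (algebraMap A (Localization.AtPrime
          (Q.comap (Algebra.TensorProduct.includeRight : C →ₐ[A] p.Fiber C)))))) :
    algebraMap (p.Fiber C) (Localization.AtPrime Q) ((1 : p.ResidueField) ⊗ₜ[A] h) ∈
      nonZeroDivisors (Localization.AtPrime Q) := by
  have hlo := comap_includeRight_liesOver p Q
  let _ := Localization.AtPrime.algebraOfLiesOver p
    (Q.comap (Algebra.TensorProduct.includeRight : C →ₐ[A] p.Fiber C))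
  let eC := Ideal.Fiber.localizationAlgEquivQuotient p Q
  have h1 : eC (algebraMap (p.Fiber C) (Localization.AtPrime Q) (1 ⊗ₜ h)) =
      Ideal.Quotient.mk _ (algebraMap C (Localization.AtPrime
        (Q.comap (Algebra.TensorProduct.includeRight : C →ₐ[A] p.Fiber C))) h) :=
    localizationAlgEquivQuotient_one_tmul p Q h
  rw [← h1] at hreg
  rw [mem_nonZeroDivisors_iff_right] at hreg ⊢
  intro z hz
  have h2 := hreg (eC z) (by rw [← map_mul, hz, map_zero])
  exact (map_eq_zero_iff eC eC.injective).mp h2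

end Fib2

section Fib3

variable {A C : Type u} [CommRing A] [CommRing C] [Algebra A C] (p : Ideal A) [p.IsPrime]

theorem isUnit_algebraMap_fiber (r : A) (hr : r ∉ p) : IsUnit (algebraMap A (p.Fiber C) r) := by
  have h1 : algebraMap A (p.Fiber C) r = algebraMap p.ResidueField (p.Fiber C)
      (algebraMap A p.ResidueField r) := by
    rw [← IsScalarTower.algebraMap_apply]
  rw [h1]
  apply IsUnit.map
  rw [isUnit_iff_ne_zero, Ne, Ideal.algebraMap_residueField_eq_zero]
  exact hr

/-- Openness of the flat locus of the fibre over `κ(p) ⊗ A[X]`, with a basic open neighbourhood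
given by an element of `C`. -/
theorem exists_basicOpen_flat_fiber [Algebra.FiniteType A C]
    [Algebra (p.Fiber (Polynomial A)) (p.Fiber C)]
    [IsScalarTower p.ResidueField (p.Fiber (Polynomial A)) (p.Fiber C)]
    (Q : Ideal (p.Fiber C)) [Q.IsPrime]
    (hfl : Module.Flat (p.Fiber (Polynomial A)) (LocalizedModule Q.primeCompl (p.Fiber C))) :
    ∃ g₀ : C, (1 : p.ResidueField) ⊗ₜ[A] g₀ ∉ Q ∧
      ∀ (Q' : Ideal (p.Fiber C)) [Q'.IsPrime], (1 : p.ResidueField) ⊗ₜ[A] g₀ ∉ Q' →
        Module.Flat (p.Fiber (Polynomial A)) (LocalizedModule Q'.primeCompl (p.Fiber C)) := by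
  have : Algebra.FiniteType p.ResidueField (p.Fiber C) := inferInstance
  have : Algebra.FiniteType (p.Fiber (Polynomial A)) (p.Fiber C) :=
    Algebra.FiniteType.of_restrictScalars_finiteType p.ResidueField _ _
  have : Algebra.FinitePresentation (p.Fiber (Polynomial A)) (p.Fiber C) :=
    Algebra.FinitePresentation.of_finiteType.mp inferInstance
  have hopen := Groth.Agent.S0387.result (R := p.Fiber (Polynomial A)) (S := p.Fiber C)
    (M := p.Fiber C)
  have hmem : (⟨Q, inferInstance⟩ : PrimeSpectrum (p.Fiber C)) ∈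
      {q : PrimeSpectrum (p.Fiber C) | Module.Flat (p.Fiber (Polynomial A))
        (LocalizedModule q.asIdeal.primeCompl (p.Fiber C))} := hfl
  obtain ⟨_, ⟨g', rfl⟩, hQg', hsub⟩ :=
    PrimeSpectrum.isTopologicalBasis_basic_opens.exists_subset_of_mem_open hmem hopen
  obtain ⟨r, hr, s, e⟩ := Ideal.Fiber.exists_smul_eq_one_tmul p g'
  have hunit := isUnit_algebraMap_fiber (C := C) p r hr
  have e' : algebraMap A (p.Fiber C) r * g' = 1 ⊗ₜ s := by rw [← Algebra.smul_def]; exact e
  refine ⟨s, ?_, ?_⟩
  · rw [← e']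
    intro hcon
    have h1 : g' ∉ Q := hQg'
    rcases Ideal.IsPrime.mem_or_mem inferInstance hcon with h2 | h2
    · exact (Ideal.IsPrime.ne_top inferInstance) (Ideal.eq_top_of_isUnit_mem _ h2 hunit)
    · exact h1 h2
  · intro Q' _ hQ'
    have h1 : g' ∉ Q' := by
      intro hcon
      apply hQ'
      rw [← e']
      exact Ideal.mul_mem_left _ _ hcon
    exact hsub (show (⟨Q', inferInstance⟩ : PrimeSpectrum (p.Fiber C)) ∈
      (PrimeSpectrum.basicOpen g' : Set _) from h1)

end Fib3

section Powers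

/-- If `M_P` is `R`-flat for every prime `P` of `S` not containing `g`, then `M_g` is `R`-flat. -/
theorem flat_localizedModule_powers {R S M : Type*} [CommRing R] [CommRing S] [Algebra R S]
    [AddCommGroup M] [Module R M] [Module S M] [IsScalarTower R S M] (g : S)
    (H : ∀ (P : Ideal S) [P.IsPrime], g ∉ P →
      Module.Flat R (LocalizedModule P.primeCompl M)) :
    Module.Flat R (LocalizedModule (Submonoid.powers g) M) := by
  rw [flat_localizedModule_iff']
  intro I z hz
  let J : Ideal S := LinearMap.ker (LinearMap.toSpanSingleton S (M ⊗[R] I) z)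
  have hJ : ∀ s : S, s ∈ J ↔ s • z = 0 := fun s => by
    simp [J, LinearMap.mem_ker, LinearMap.toSpanSingleton_apply]
  have hg : g ∈ J.radical := by
    rw [Ideal.radical_eq_sInf, Ideal.mem_sInf]
    rintro P ⟨hJP, hP⟩
    by_contra hgP
    have hfl := H P hgP
    rw [flat_localizedModule_iff'] at hfl
    obtain ⟨s, hs, hsz⟩ := hfl I z hz
    exact hs (hJP ((hJ s).mpr hsz))
  obtain ⟨n, hn⟩ := hg
  exact ⟨g ^ n, ⟨n, rfl⟩, (hJ _).mp hn⟩

end Powers

section Away

variable {A C : Type u} [CommRing A] [CommRing C] [Algebra A C] (p : Ideal A) [p.IsPrime]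
  [Algebra (Polynomial A) C] [IsScalarTower A (Polynomial A) C]

/-- If the fibre `κ(p) ⊗ C` is flat over `κ(p) ⊗ A[X]` at all primes not containing `1 ⊗ g₀`, then
the map of fibres for `C[1/g₀]` is flat. -/
theorem fiberMap_flat_of_away (g₀ : C)
    (H : letI := (fiberMap (B := Polynomial A) (C := C) p).toRingHom.toAlgebra
      ∀ (Q' : Ideal (p.Fiber C)) [Q'.IsPrime], (1 : p.ResidueField) ⊗ₜ[A] g₀ ∉ Q' →
        Module.Flat (p.Fiber (Polynomial A)) (LocalizedModule Q'.primeCompl (p.Fiber C)))
    (C₀ : Type u) [CommRing C₀] [Algebra C C₀] [IsLocalization.Away g₀ C₀] [Algebra A C₀]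
    [IsScalarTower A C C₀] [Algebra (Polynomial A) C₀] [IsScalarTower (Polynomial A) C C₀]
    [IsScalarTower A (Polynomial A) C₀] :
    (fiberMap (B := Polynomial A) (C := C₀) p).toRingHom.Flat := by
  let algR : Algebra (p.Fiber (Polynomial A)) (p.Fiber C) :=
    (fiberMap (B := Polynomial A) (C := C) p).toRingHom.toAlgebra
  let algR₀ : Algebra (p.Fiber (Polynomial A)) (p.Fiber C₀) :=
    (fiberMap (B := Polynomial A) (C := C₀) p).toRingHom.toAlgebra
  let algFF₀ : Algebra (p.Fiber C) (p.Fiber C₀) :=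
    (Algebra.TensorProduct.map (AlgHom.id A p.ResidueField) (IsScalarTower.toAlgHom A C C₀)).toAlgebra
  have : IsScalarTower p.ResidueField (p.Fiber C) (p.Fiber C₀) :=
    IsScalarTower.of_algebraMap_eq (R := p.ResidueField) (S := p.Fiber C) (A := p.Fiber C₀)
      (fun x => by
        change _ = (Algebra.TensorProduct.map (AlgHom.id A p.ResidueField)
          (IsScalarTower.toAlgHom A C C₀)) _
        simp [Algebra.TensorProduct.algebraMap_apply])
  have hloc : IsLocalization
      ((Submonoid.powers g₀).map (Algebra.TensorProduct.includeRight (R := A) (A := p.ResidueField)))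
      (p.Fiber C₀) :=
    IsLocalization.tensorProduct_tensorProduct_right A p.ResidueField (Submonoid.powers g₀) C₀
      (by ext; simp [RingHom.algebraMap_toAlgebra])
  have hloc' : IsLocalization (Submonoid.powers ((1 : p.ResidueField) ⊗ₜ[A] g₀)) (p.Fiber C₀) := by
    have := hloc
    simp only [Submonoid.map_powers, Algebra.TensorProduct.includeRight_apply] at this
    exact this
  have : IsScalarTower (p.Fiber (Polynomial A)) (p.Fiber C) (p.Fiber C₀) := by
    refine IsScalarTower.of_algebraMap_eq' ?_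
    change (fiberMap (B := Polynomial A) (C := C₀) p).toRingHom =
      (Algebra.TensorProduct.map (AlgHom.id A p.ResidueField)
        (IsScalarTower.toAlgHom A C C₀)).toRingHom.comp
        (fiberMap (B := Polynomial A) (C := C) p).toRingHom
    apply RingHom.ext
    intro z
    induction z using TensorProduct.induction_on with
    | zero => simp
    | add a b ha hb => rw [map_add, map_add, ha, hb]
    | tmul a b =>
      simp [fiberMap, ← IsScalarTower.algebraMap_apply]
  have h1 : Module.Flat (p.Fiber (Polynomial A))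
      (LocalizedModule (Submonoid.powers ((1 : p.ResidueField) ⊗ₜ[A] g₀)) (p.Fiber C)) :=
    flat_localizedModule_powers _ (fun Q' _ hQ' => H Q' hQ')
  let e : LocalizedModule (Submonoid.powers ((1 : p.ResidueField) ⊗ₜ[A] g₀)) (p.Fiber C)
      ≃ₗ[p.Fiber C] p.Fiber C₀ :=
    IsLocalizedModule.iso (Submonoid.powers ((1 : p.ResidueField) ⊗ₜ[A] g₀))
      (Algebra.linearMap (p.Fiber C) (p.Fiber C₀))
  exact Module.Flat.of_linearEquiv (e.restrictScalars (p.Fiber (Polynomial A))).symm

end Away

section Step1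

variable {A C : Type u} [CommRing A] [CommRing C] [Algebra A C] (p : Ideal A) [p.IsPrime]
  [Algebra (Polynomial A) C] [IsScalarTower A (Polynomial A) C]

/-- **Step 1.**  If the class of `h` (the image of `X`) is a nonzerodivisor of `C_q / p C_q` and
`h ∈ q`, then after inverting some `g₀ ∉ q` the map of fibres `κ(p)[X] → κ(p) ⊗ C[1/g₀]` is flat. -/
theorem exists_fiberMap_flat_away [Algebra.FiniteType A C] (q : Ideal C) [q.IsPrime]
    (hq : q.under A = p) (hhq : algebraMap (Polynomial A) C X ∈ q)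
    (hreg : Ideal.Quotient.mk (p.map (algebraMap A (Localization.AtPrime q)))
      (algebraMap C (Localization.AtPrime q) (algebraMap (Polynomial A) C X)) ∈
      nonZeroDivisors (Localization.AtPrime q ⧸ p.map (algebraMap A (Localization.AtPrime q)))) :
    ∃ g₀ : C, g₀ ∉ q ∧ ∀ (C₀ : Type u) [CommRing C₀] [Algebra C C₀] [IsLocalization.Away g₀ C₀]
      [Algebra A C₀] [IsScalarTower A C C₀] [Algebra (Polynomial A) C₀]
      [IsScalarTower (Polynomial A) C C₀] [IsScalarTower A (Polynomial A) C₀],
      (fiberMap (B := Polynomial A) (C := C₀) p).toRingHom.Flat := by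
  obtain ⟨Q, hQprime, rfl⟩ : ∃ Q : Ideal (p.Fiber C), ∃ _ : Q.IsPrime,
      Q.comap (Algebra.TensorProduct.includeRight : C →ₐ[A] p.Fiber C) = q := by
    let Q := PrimeSpectrum.primesOverOrderIsoFiber A C p ⟨q, ⟨inferInstance, ⟨hq.symm⟩⟩⟩
    refine ⟨Q.asIdeal, Q.isPrime, ?_⟩
    have h := PrimeSpectrum.coe_primesOverOrderIsoFiber_symm_apply p Q
    rw [← h]
    simp [Q]
  let algR : Algebra (p.Fiber (Polynomial A)) (p.Fiber C) :=
    (fiberMap (B := Polynomial A) (C := C) p).toRingHom.toAlgebra
  have hX' : algebraMap (p.Fiber (Polynomial A)) (p.Fiber C) (1 ⊗ₜ[A] (X : Polynomial A)) =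
      1 ⊗ₜ[A] (algebraMap (Polynomial A) C X) := fiberMap_one_tmul p X
  have : IsScalarTower p.ResidueField (p.Fiber (Polynomial A)) (p.Fiber C) :=
    IsScalarTower.of_algebraMap_eq' (fiberMap (B := Polynomial A) (C := C) p).comp_algebraMap.symm
  have hQ : (1 : p.ResidueField) ⊗ₜ[A] (algebraMap (Polynomial A) C X) ∈ Q := hhq
  have hnzd := one_tmul_mem_nonZeroDivisors p Q _ hreg
  have hfl := flat_localizedModule_fiber p _ hX' Q hQ hnzd
  obtain ⟨g₀, hg₀, H⟩ := exists_basicOpen_flat_fiber p Q hfl
  refine ⟨g₀, hg₀, ?_⟩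
  intro C₀ _ _ _ _ _ _ _ _
  exact fiberMap_flat_of_away p g₀ H C₀

end Step1

section Step2

variable {A C : Type u} [CommRing A] [CommRing C] [Algebra A C] (p : Ideal A) [p.IsPrime]
  [Algebra (Polynomial A) C] [IsScalarTower A (Polynomial A) C]

/-- **Step 2.**  If the map of fibres is flat and `C_q` is flat over `A`, then some `C[1/g]`,
`g ∉ q`, is flat over `A[X]`. -/
theorem exists_flat_polynomial_away [Algebra.FinitePresentation A C] (q : Ideal C) [q.IsPrime]
    (hq : q.under A = p)
    (hfib : (fiberMap (B := Polynomial A) (C := C) p).toRingHom.Flat)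
    (hflat : Module.Flat A (LocalizedModule q.primeCompl C)) :
    ∃ g : C, g ∉ q ∧ Module.Flat (Polynomial A) (LocalizedModule (Submonoid.powers g) C) := by
  have h1 : Module.Flat (Polynomial A) (LocalizedModule q.primeCompl C) :=
    Groth.Agent.Lib.Helper3.FibCritD.flat_of_fiberMap_flat p q hq hfib hflat
  have : Algebra.FinitePresentation (Polynomial A) C :=
    Algebra.FinitePresentation.of_restrict_scalars_finitePresentation A (Polynomial A) C
  have hopen := Groth.Agent.S0387.result (R := Polynomial A) (S := C) (M := C)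
  have hmem : (⟨q, inferInstance⟩ : PrimeSpectrum C) ∈
      {q : PrimeSpectrum C | Module.Flat (Polynomial A)
        (LocalizedModule q.asIdeal.primeCompl C)} := h1
  obtain ⟨_, ⟨g, rfl⟩, hqg, hsub⟩ :=
    PrimeSpectrum.isTopologicalBasis_basic_opens.exists_subset_of_mem_open hmem hopen
  refine ⟨g, hqg, flat_localizedModule_powers g (fun P _ hP => ?_)⟩
  exact hsub (show (⟨P, inferInstance⟩ : PrimeSpectrum C) ∈
      (PrimeSpectrum.basicOpen g : Set _) from hP)

end Step2

section Step3

variable {A : Type u} [CommRing A] {C₁ : Type u} [CommRing C₁] [Algebra A C₁]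
  [Algebra (Polynomial A) C₁] [IsScalarTower A (Polynomial A) C₁]

/-- **Step 3.**  If `C₁` is flat over `A[X]`, then the image of `X` is a nonzerodivisor of `C₁` and
the quotient by it is flat over `A`. -/
theorem nzd_and_flat_quotient [Module.Flat (Polynomial A) C₁] :
    algebraMap (Polynomial A) C₁ X ∈ nonZeroDivisors C₁ ∧
      Module.Flat A (C₁ ⧸ Ideal.span {algebraMap (Polynomial A) C₁ X}) := by
  constructor
  · have hX : (X : Polynomial A) ∈ nonZeroDivisors (Polynomial A) :=
      Polynomial.X_mem_nonzeroDivisors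
    have h1 : IsSMulRegular C₁ (X : Polynomial A) :=
      Module.Flat.isSMulRegular_of_nonZeroDivisors (R := Polynomial A) (M := C₁) hX
    rw [mem_nonZeroDivisors_iff_right]
    intro z hz
    apply h1
    change (X : Polynomial A) • z = (X : Polynomial A) • (0 : C₁)
    rw [smul_zero, Algebra.smul_def, mul_comm]
    exact hz
  · let I : Ideal (Polynomial A) := Ideal.span {X - C (0 : A)}
    have hI : I.map (algebraMap (Polynomial A) C₁) =
        Ideal.span {algebraMap (Polynomial A) C₁ X} := by
      simp only [I, Ideal.map_span, Set.image_singleton, map_zero, sub_zero]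
    have h1 : Module.Flat (Polynomial A ⧸ I)
        (C₁ ⧸ I.map (algebraMap (Polynomial A) C₁)) :=
      Module.Flat.of_linearEquiv
        (Algebra.TensorProduct.quotIdealMapEquivQuotTensor C₁ I).toLinearEquiv
    have h2 : Module.Flat A (Polynomial A ⧸ I) :=
      Module.Flat.of_linearEquiv (Polynomial.quotientSpanXSubCAlgEquiv (0 : A)).toLinearEquiv
    have : IsScalarTower A (Polynomial A ⧸ I) (C₁ ⧸ I.map (algebraMap (Polynomial A) C₁)) := by
      refine IsScalarTower.of_algebraMap_eq (R := A) (S := Polynomial A ⧸ I)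
        (A := C₁ ⧸ I.map (algebraMap (Polynomial A) C₁)) (fun a => ?_)
      rw [IsScalarTower.algebraMap_apply A (Polynomial A) (Polynomial A ⧸ I),
        IsScalarTower.algebraMap_apply A C₁ (C₁ ⧸ I.map (algebraMap (Polynomial A) C₁)),
        IsScalarTower.algebraMap_apply A (Polynomial A) C₁]
      rfl
    have h3 : Module.Flat A (C₁ ⧸ I.map (algebraMap (Polynomial A) C₁)) :=
      Module.Flat.trans A (Polynomial A ⧸ I) _
    rw [hI] at h3
    exact h3

end Step3

section Step4

variable {A C : Type u} [CommRing A] [CommRing C] [Algebra A C] (p : Ideal A) [p.IsPrime]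
  [Algebra (Polynomial A) C] [IsScalarTower A (Polynomial A) C]

/-- **Steps 2+3.**  If the map of fibres is flat and `C_q` is flat over `A`, then for some
`g ∉ q` the image of `X` in `C[1/g]` is a nonzerodivisor with `A`-flat quotient. -/
theorem exists_away_nzd_flat_of_fiberMap_flat [Algebra.FinitePresentation A C] (q : Ideal C)
    [q.IsPrime] (hq : q.under A = p)
    (hfib : (fiberMap (B := Polynomial A) (C := C) p).toRingHom.Flat)
    (hflat : Module.Flat A (LocalizedModule q.primeCompl C)) :
    ∃ g : C, g ∉ q ∧ ∀ (C₁ : Type u) [CommRing C₁] [Algebra C C₁] [IsLocalization.Away g C₁]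
      [Algebra A C₁] [IsScalarTower A C C₁],
      algebraMap C C₁ (algebraMap (Polynomial A) C X) ∈ nonZeroDivisors C₁ ∧
      Module.Flat A (C₁ ⧸ Ideal.span {algebraMap C C₁ (algebraMap (Polynomial A) C X)}) := by
  obtain ⟨g, hg, hfl⟩ := exists_flat_polynomial_away p q hq hfib hflat
  refine ⟨g, hg, ?_⟩
  intro C₁ _ _ _ _ _
  let alg : Algebra (Polynomial A) C₁ :=
    ((algebraMap C C₁).comp (algebraMap (Polynomial A) C)).toAlgebra
  have : IsScalarTower (Polynomial A) C C₁ := IsScalarTower.of_algebraMap_eq' rfl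
  have : IsScalarTower A (Polynomial A) C₁ := by
    refine IsScalarTower.of_algebraMap_eq (fun a => ?_)
    change _ = algebraMap C C₁ (algebraMap (Polynomial A) C (algebraMap A (Polynomial A) a))
    rw [← IsScalarTower.algebraMap_apply A (Polynomial A) C, ← IsScalarTower.algebraMap_apply]
  let e : LocalizedModule (Submonoid.powers g) C ≃ₗ[C] C₁ :=
    IsLocalizedModule.iso (Submonoid.powers g) (Algebra.linearMap C C₁)
  have : Module.Flat (Polynomial A) C₁ :=
    Module.Flat.of_linearEquiv (e.restrictScalars (Polynomial A)).symm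
  exact nzd_and_flat_quotient (A := A) (C₁ := C₁)

end Step4

end Groth.Agent.Lib.T2H2.SliceFlat
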