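import Mathlib
import Groth.Agent.Lib.T2H2SliceFlat
import Groth.Agent.S0386

set_option autoImplicit false

universe u

namespace Groth.Agent.Lib.T2H2.SliceFlatSch

open AlgebraicGeometry CategoryTheory Limits TensorProduct Polynomial

/-- The zero scheme of `h₁` in an affine open `U` is flat over the base as soon as
`Γ(X, U) / h₁` is flat over the coordinate ring of an affine open of the base containing the image. -/
theorem flat_SpecMap_quotient_comp {X S : Scheme.{u}} (f : X ⟶ S) {S₀ : S.Opens}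
    (hS₀ : IsAffineOpen S₀) {U : X.Opens} (hU : IsAffineOpen U) (hUS : U ≤ f ⁻¹ᵁ S₀)
    (h₁ : Γ(X, U))
    (hfl : letI := (f.appLE S₀ U hUS).hom.toAlgebra
      Module.Flat Γ(S, S₀) (Γ(X, U) ⧸ Ideal.span {h₁})) :
    Flat (Spec.map (CommRingCat.ofHom (Ideal.Quotient.mk (Ideal.span {h₁}))) ≫
      hU.fromSpec ≫ f) := by
  rw [← hS₀.SpecMap_appLE_fromSpec f hU hUS, ← Spec.map_comp_assoc]
  have h1 : Flat (Spec.map (f.appLE S₀ U hUS ≫
      CommRingCat.ofHom (Ideal.Quotient.mk (Ideal.span {h₁})))) := by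
    rw [Flat.SpecMap_iff]
    exact hfl
  infer_instance

/-- The zero scheme of `h₁` in an affine open `U` is locally of finite presentation over the
base. -/
theorem lfp_SpecMap_quotient_comp {X S : Scheme.{u}} (f : X ⟶ S) [LocallyOfFinitePresentation f]
    {S₀ : S.Opens} (hS₀ : IsAffineOpen S₀) {U : X.Opens} (hU : IsAffineOpen U)
    (hUS : U ≤ f ⁻¹ᵁ S₀) (h₁ : Γ(X, U)) :
    LocallyOfFinitePresentation
      (Spec.map (CommRingCat.ofHom (Ideal.Quotient.mk (Ideal.span {h₁}))) ≫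
        hU.fromSpec ≫ f) := by
  rw [← hS₀.SpecMap_appLE_fromSpec f hU hUS, ← Spec.map_comp_assoc]
  have hfp : (f.appLE S₀ U hUS).hom.FinitePresentation :=
    HasRingHomProperty.appLE (P := @LocallyOfFinitePresentation) f inferInstance ⟨S₀, hS₀⟩
      ⟨U, hU⟩ hUS
  have hq : (Ideal.Quotient.mk (Ideal.span {h₁})).FinitePresentation := by
    refine RingHom.FinitePresentation.of_surjective _ Ideal.Quotient.mk_surjective ?_
    rw [Ideal.mk_ker]
    exact ⟨{h₁}, by simp⟩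
  have h1 : LocallyOfFinitePresentation (Spec.map (f.appLE S₀ U hUS ≫
      CommRingCat.ofHom (Ideal.Quotient.mk (Ideal.span {h₁})))) := by
    rw [HasRingHomProperty.Spec_iff (P := @LocallyOfFinitePresentation)]
    exact hq.comp hfp
  infer_instance

/-- Translation of the fibrewise regularity hypothesis to an affine chart. -/
theorem chart_nzd {X S : Scheme.{u}} (f : X ⟶ S) (x : X) {S₀ : S.Opens} (hS₀ : IsAffineOpen S₀)
    {V : X.Opens} (hV : IsAffineOpen V) (hVS : V ≤ f ⁻¹ᵁ S₀) (hxV : x ∈ V) (h' : Γ(X, V))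
    (hreg : Ideal.Quotient.mk (Ideal.map (f.stalkMap x).hom
        (IsLocalRing.maximalIdeal (S.presheaf.stalk (f x)))) (X.presheaf.germ V x hxV h') ∈
      nonZeroDivisors (X.presheaf.stalk x ⧸ Ideal.map (f.stalkMap x).hom
        (IsLocalRing.maximalIdeal (S.presheaf.stalk (f x))))) :
    letI := (f.appLE S₀ V hVS).hom.toAlgebra
    Ideal.Quotient.mk ((hS₀.primeIdealOf ⟨f x, hVS hxV⟩).asIdeal.map
        (algebraMap Γ(S, S₀) (Localization.AtPrime (hV.primeIdealOf ⟨x, hxV⟩).asIdeal)))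
      (algebraMap Γ(X, V) (Localization.AtPrime (hV.primeIdealOf ⟨x, hxV⟩).asIdeal) h') ∈
      nonZeroDivisors (Localization.AtPrime (hV.primeIdealOf ⟨x, hxV⟩).asIdeal ⧸
        (hS₀.primeIdealOf ⟨f x, hVS hxV⟩).asIdeal.map
          (algebraMap Γ(S, S₀) (Localization.AtPrime (hV.primeIdealOf ⟨x, hxV⟩).asIdeal))) := by
  let _ := (f.appLE S₀ V hVS).hom.toAlgebra
  let p := (hS₀.primeIdealOf ⟨f x, hVS hxV⟩).asIdeal
  let q := (hV.primeIdealOf ⟨x, hxV⟩).asIdeal
  let _ := S.presheaf.algebra_section_stalk ⟨f x, hVS hxV⟩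
  have := hS₀.isLocalization_stalk ⟨f x, hVS hxV⟩
  let _ := X.presheaf.algebra_section_stalk ⟨x, hxV⟩
  have := hV.isLocalization_stalk ⟨x, hxV⟩
  let σ : Localization.AtPrime q ≃ₐ[Γ(X, V)] X.presheaf.stalk x :=
    IsLocalization.algEquiv q.primeCompl _ _
  set I := Ideal.map (f.stalkMap x).hom (IsLocalRing.maximalIdeal (S.presheaf.stalk (f x)))
    with hI
  set J := p.map (algebraMap Γ(S, S₀) (Localization.AtPrime q)) with hJ
  have hIJ : I = J.map (σ : Localization.AtPrime q →+* X.presheaf.stalk x) := by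
    rw [hI, hJ, ← IsLocalization.AtPrime.map_eq_maximalIdeal p (S.presheaf.stalk (f x)),
      Ideal.map_map, Ideal.map_map]
    congr 1
    ext a
    simp only [RingHom.comp_apply]
    rw [IsScalarTower.algebraMap_apply Γ(S, S₀) Γ(X, V) (Localization.AtPrime q)]
    have h1 : (σ : Localization.AtPrime q →+* X.presheaf.stalk x)
        (algebraMap Γ(X, V) (Localization.AtPrime q) (algebraMap Γ(S, S₀) Γ(X, V) a)) =
        algebraMap Γ(X, V) (X.presheaf.stalk x) (algebraMap Γ(S, S₀) Γ(X, V) a) :=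
      σ.commutes _
    rw [h1]
    simp only [RingHom.algebraMap_toAlgebra, Scheme.Hom.germ_stalkMap_apply, Scheme.Hom.appLE,
      homOfLE_leOfHom, CommRingCat.hom_comp, RingHom.coe_comp, Function.comp_apply,
      X.presheaf.germ_res_apply]
  change Ideal.Quotient.mk J (algebraMap Γ(X, V) (Localization.AtPrime q) h') ∈
    nonZeroDivisors (Localization.AtPrime q ⧸ J)
  rw [mem_nonZeroDivisors_iff_right] at hreg ⊢
  intro z hz
  obtain ⟨z, rfl⟩ := Ideal.Quotient.mk_surjective z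
  rw [← map_mul, Ideal.Quotient.eq_zero_iff_mem] at hz
  rw [Ideal.Quotient.eq_zero_iff_mem]
  have h2 : σ z * X.presheaf.germ V x hxV h' ∈ I := by
    rw [hIJ]
    have h3 : σ (algebraMap Γ(X, V) (Localization.AtPrime q) h') = X.presheaf.germ V x hxV h' :=
      σ.commutes h'
    rw [← h3, ← map_mul]
    exact Ideal.mem_map_of_mem _ hz
  have h4 := hreg (Ideal.Quotient.mk I (σ z)) (by
    rw [← map_mul, Ideal.Quotient.eq_zero_iff_mem]; exact h2)
  rw [Ideal.Quotient.eq_zero_iff_mem, hIJ] at h4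
  have h5 : (σ.symm : X.presheaf.stalk x →+* Localization.AtPrime q) (σ z) ∈
      (J.map (σ : Localization.AtPrime q →+* X.presheaf.stalk x)).map
        (σ.symm : X.presheaf.stalk x →+* Localization.AtPrime q) := Ideal.mem_map_of_mem _ h4
  rw [Ideal.map_map] at h5
  have h6 : ((σ.symm : X.presheaf.stalk x →+* Localization.AtPrime q).comp
      (σ : Localization.AtPrime q →+* X.presheaf.stalk x)) = RingHom.id _ := by
    ext y
    simp
  rw [h6, Ideal.map_id] at h5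
  simpa using h5

theorem mem_basicOpen_iff {X : Scheme.{u}} {U : X.Opens} (hU : IsAffineOpen U)
    {x : X} (hx : x ∈ U) (g : Γ(X, U)) :
    x ∈ X.basicOpen g ↔ g ∉ (hU.primeIdealOf ⟨x, hx⟩).asIdeal := by
  let _ := TopCat.Presheaf.algebra_section_stalk X.presheaf ⟨x, hx⟩
  have := hU.isLocalization_stalk ⟨x, hx⟩
  rw [Scheme.mem_basicOpen _ _ _ hx]
  exact IsLocalization.AtPrime.isUnit_to_map_iff (X.presheaf.stalk x)
    (hU.primeIdealOf ⟨x, hx⟩).asIdeal g

theorem germ_mem_maximalIdeal_iff {X : Scheme.{u}} {U : X.Opens} (hU : IsAffineOpen U)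
    {x : X} (hx : x ∈ U) (g : Γ(X, U)) :
    X.presheaf.germ U x hx g ∈ IsLocalRing.maximalIdeal (X.presheaf.stalk x) ↔
      g ∈ (hU.primeIdealOf ⟨x, hx⟩).asIdeal := by
  rw [IsLocalRing.mem_maximalIdeal, mem_nonunits_iff, ← Scheme.mem_basicOpen _ _ _ hx,
    mem_basicOpen_iff hU hx, not_not]

set_option maxHeartbeats 1600000 in
/-- **Slicing, chart form.**  `f` locally of finite presentation and flat at `x`; `V ∋ x` an affine
open over an affine open `S₀` of the base and `h' ∈ Γ(X, V)` vanishing at `x` whose class in the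
local ring of the fibre is a nonzerodivisor.  Then on a smaller affine open `U ∋ x` the restriction of
`h'` is a nonzerodivisor and `Γ(X, U) / h'` is flat over `Γ(S, S₀)`. -/
theorem exists_slice {X S : Scheme.{u}} (f : X ⟶ S) [LocallyOfFinitePresentation f] (x : X)
    (hflat : (f.stalkMap x).hom.Flat) {S₀ : S.Opens} (hS₀ : IsAffineOpen S₀)
    {V : X.Opens} (hV : IsAffineOpen V) (hVS : V ≤ f ⁻¹ᵁ S₀) (hxV : x ∈ V) (h' : Γ(X, V))
    (hm : X.presheaf.germ V x hxV h' ∈ IsLocalRing.maximalIdeal (X.presheaf.stalk x))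
    (hreg : Ideal.Quotient.mk (Ideal.map (f.stalkMap x).hom
        (IsLocalRing.maximalIdeal (S.presheaf.stalk (f x)))) (X.presheaf.germ V x hxV h') ∈
      nonZeroDivisors (X.presheaf.stalk x ⧸ Ideal.map (f.stalkMap x).hom
        (IsLocalRing.maximalIdeal (S.presheaf.stalk (f x))))) :
    ∃ (U : X.Opens) (_ : IsAffineOpen U) (hUV : U ≤ V) (_ : x ∈ U),
      X.presheaf.map (homOfLE hUV).op h' ∈ nonZeroDivisors Γ(X, U) ∧
      ((Ideal.Quotient.mk (Ideal.span {X.presheaf.map (homOfLE hUV).op h'})).comp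
        (f.appLE S₀ U (hUV.trans hVS)).hom).Flat := by
  -- the chart
  let algAC : Algebra Γ(S, S₀) Γ(X, V) := (f.appLE S₀ V hVS).hom.toAlgebra
  let algBC : Algebra (Polynomial Γ(S, S₀)) Γ(X, V) :=
    (Polynomial.aeval (R := Γ(S, S₀)) h').toRingHom.toAlgebra
  have tow : IsScalarTower Γ(S, S₀) (Polynomial Γ(S, S₀)) Γ(X, V) :=
    IsScalarTower.of_algebraMap_eq' (Polynomial.aeval (R := Γ(S, S₀)) h').comp_algebraMap.symm
  have hfp : Algebra.FinitePresentation Γ(S, S₀) Γ(X, V) :=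
    HasRingHomProperty.appLE (P := @LocallyOfFinitePresentation) f inferInstance ⟨S₀, hS₀⟩
      ⟨V, hV⟩ hVS
  let p := (hS₀.primeIdealOf ⟨f x, hVS hxV⟩).asIdeal
  let q := (hV.primeIdealOf ⟨x, hxV⟩).asIdeal
  have hP : q.under Γ(S, S₀) = p :=
    congr($(IsAffineOpen.comap_primeIdealOf_appLE S₀ hS₀ V hV hVS hxV).1)
  have hX : algebraMap (Polynomial Γ(S, S₀)) Γ(X, V) Polynomial.X = h' := Polynomial.aeval_X h'
  have hhq : algebraMap (Polynomial Γ(S, S₀)) Γ(X, V) Polynomial.X ∈ q := by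
    rw [hX]
    exact (germ_mem_maximalIdeal_iff hV hxV h').mp hm
  have hreg' := chart_nzd f x hS₀ hV hVS hxV h' hreg
  rw [← hX] at hreg'
  obtain ⟨g₀, hg₀, Hfib⟩ := Groth.Agent.Lib.T2H2.SliceFlat.exists_fiberMap_flat_away p q hP hhq hreg'
  -- the first basic open
  have hV₀ : IsAffineOpen (X.basicOpen g₀) := hV.basicOpen g₀
  have hxV₀ : x ∈ X.basicOpen g₀ := (mem_basicOpen_iff hV hxV g₀).mpr hg₀
  have hV₀V : X.basicOpen g₀ ≤ V := X.basicOpen_le g₀
  have hV₀S : X.basicOpen g₀ ≤ f ⁻¹ᵁ S₀ := hV₀V.trans hVS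
  have hloc₀ : IsLocalization.Away g₀ Γ(X, X.basicOpen g₀) := hV.isLocalization_basicOpen g₀
  let algAC₀ : Algebra Γ(S, S₀) Γ(X, X.basicOpen g₀) := (f.appLE S₀ (X.basicOpen g₀) hV₀S).hom.toAlgebra
  have tow₀ : IsScalarTower Γ(S, S₀) Γ(X, V) Γ(X, X.basicOpen g₀) := by
    refine IsScalarTower.of_algebraMap_eq' ?_
    change (f.appLE S₀ (X.basicOpen g₀) hV₀S).hom =
      (X.presheaf.map (homOfLE hV₀V).op).hom.comp (f.appLE S₀ V hVS).hom
    rw [← CommRingCat.hom_comp, Scheme.Hom.appLE_map]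
  let algBC₀ : Algebra (Polynomial Γ(S, S₀)) Γ(X, X.basicOpen g₀) :=
    ((algebraMap Γ(X, V) Γ(X, X.basicOpen g₀)).comp
      (algebraMap (Polynomial Γ(S, S₀)) Γ(X, V))).toAlgebra
  have tow₁ : IsScalarTower (Polynomial Γ(S, S₀)) Γ(X, V) Γ(X, X.basicOpen g₀) :=
    IsScalarTower.of_algebraMap_eq' rfl
  have tow₂ : IsScalarTower Γ(S, S₀) (Polynomial Γ(S, S₀)) Γ(X, X.basicOpen g₀) := by
    refine IsScalarTower.of_algebraMap_eq (fun a => ?_)
    change _ = algebraMap Γ(X, V) Γ(X, X.basicOpen g₀)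
      (algebraMap (Polynomial Γ(S, S₀)) Γ(X, V) (algebraMap Γ(S, S₀) (Polynomial Γ(S, S₀)) a))
    rw [← IsScalarTower.algebraMap_apply Γ(S, S₀) (Polynomial Γ(S, S₀)) Γ(X, V),
      ← IsScalarTower.algebraMap_apply]
  have hfib₀ := Hfib Γ(X, X.basicOpen g₀)
  -- the second step on the first basic open
  have hfp₀ : Algebra.FinitePresentation Γ(S, S₀) Γ(X, X.basicOpen g₀) :=
    HasRingHomProperty.appLE (P := @LocallyOfFinitePresentation) f inferInstance ⟨S₀, hS₀⟩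
      ⟨X.basicOpen g₀, hV₀⟩ hV₀S
  let q₀ := (hV₀.primeIdealOf ⟨x, hxV₀⟩).asIdeal
  have hP₀ : q₀.under Γ(S, S₀) = p :=
    congr($(IsAffineOpen.comap_primeIdealOf_appLE S₀ hS₀ (X.basicOpen g₀) hV₀ hV₀S hxV₀).1)
  have hflat₀ : Module.Flat Γ(S, S₀) (LocalizedModule q₀.primeCompl Γ(X, X.basicOpen g₀)) :=
    (Groth.Agent.S0386.flat_stalkMap_iff_localizedModule S₀ hS₀ (X.basicOpen g₀) hV₀ hV₀S
      hxV₀).mp hflat
  obtain ⟨g₁, hg₁, H1⟩ := Groth.Agent.Lib.T2H2.SliceFlat.exists_away_nzd_flat_of_fiberMap_flat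
    p q₀ hP₀ hfib₀ hflat₀
  have hU : IsAffineOpen (X.basicOpen g₁) := hV₀.basicOpen g₁
  have hxU : x ∈ X.basicOpen g₁ := (mem_basicOpen_iff hV₀ hxV₀ g₁).mpr hg₁
  have hUV₀ : X.basicOpen g₁ ≤ X.basicOpen g₀ := X.basicOpen_le g₁
  have hUV : X.basicOpen g₁ ≤ V := hUV₀.trans hV₀V
  have hUS : X.basicOpen g₁ ≤ f ⁻¹ᵁ S₀ := hUV.trans hVS
  have hloc₁ : IsLocalization.Away g₁ Γ(X, X.basicOpen g₁) := hV₀.isLocalization_basicOpen g₁
  let algAC₁ : Algebra Γ(S, S₀) Γ(X, X.basicOpen g₁) :=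
    (f.appLE S₀ (X.basicOpen g₁) hUS).hom.toAlgebra
  have tow₃ : IsScalarTower Γ(S, S₀) Γ(X, X.basicOpen g₀) Γ(X, X.basicOpen g₁) := by
    refine IsScalarTower.of_algebraMap_eq' ?_
    change (f.appLE S₀ (X.basicOpen g₁) hUS).hom =
      (X.presheaf.map (homOfLE hUV₀).op).hom.comp (f.appLE S₀ (X.basicOpen g₀) hV₀S).hom
    rw [← CommRingCat.hom_comp, Scheme.Hom.appLE_map]
  obtain ⟨hnzd, hfl⟩ := H1 Γ(X, X.basicOpen g₁)
  have hres : algebraMap Γ(X, X.basicOpen g₀) Γ(X, X.basicOpen g₁)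
      (algebraMap (Polynomial Γ(S, S₀)) Γ(X, X.basicOpen g₀) Polynomial.X) =
      X.presheaf.map (homOfLE hUV).op h' := by
    change (X.presheaf.map (homOfLE hUV₀).op).hom ((X.presheaf.map (homOfLE hV₀V).op).hom
      (algebraMap (Polynomial Γ(S, S₀)) Γ(X, V) Polynomial.X)) = _
    rw [hX, ← CommRingCat.comp_apply, ← Functor.map_comp]
    rfl
  rw [hres] at hnzd hfl
  refine ⟨X.basicOpen g₁, hU, hUV, hxU, hnzd, ?_⟩
  exact RingHom.flat_algebraMap_iff.mpr hfl

end Groth.Agent.Lib.T2H2.SliceFlatSch
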