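import Mathlib

set_option autoImplicit false

universe u

namespace Groth.Agent.Lib.T2H2.SliceSmooth

open TensorProduct KaehlerDifferential IsLocalRing

section Jac

variable {A P : Type u} [CommRing A] [CommRing P] [Algebra A P] [IsLocalRing P]

/-- **Jacobian criterion for one equation.**  `P` a local `A`-algebra, formally smooth and
essentially of finite type; `h` in the maximal ideal with `dh ≠ 0` in `κ ⊗ Ω[P/A]`.  Then
`P / (h)` is formally smooth over `A`. -/
theorem formallySmooth_quotient_of_D_ne_zero [Algebra.FormallySmooth A P]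
    [Algebra.EssFiniteType A P] (h : P) (hm : h ∈ maximalIdeal P)
    (hd : (1 : ResidueField P) ⊗ₜ[P] (D A P h) ≠ 0) (I : Ideal P) (hI : I = Ideal.span {h}) :
    Algebra.FormallySmooth A (P ⧸ I) := by
  subst hI
  have hIle : Ideal.span {h} ≤ maximalIdeal P := by
    rw [Ideal.span_le]
    simpa using hm
  have hne : Ideal.span {h} ≠ ⊤ := fun e => (IsLocalRing.maximalIdeal.isMaximal P).ne_top
    (top_le_iff.mp (e ▸ hIle))
  have : Nontrivial (P ⧸ Ideal.span {h}) := Ideal.Quotient.nontrivial_iff.mpr hne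
  have : IsLocalRing (P ⧸ Ideal.span {h}) :=
    .of_surjective' _ Ideal.Quotient.mk_surjective
  have : Module.Free P Ω[P⁄A] := Module.free_of_flat_of_isLocalRing
  let φ : P ⧸ Ideal.span {h} →+* ResidueField P :=
    Ideal.Quotient.lift (Ideal.span {h}) (residue P) (fun a ha => by
      rw [residue_eq_zero_iff]; exact hIle ha)
  let _ : Algebra (P ⧸ Ideal.span {h}) (ResidueField P) := φ.toAlgebra
  have : IsScalarTower P (P ⧸ Ideal.span {h}) (ResidueField P) :=
    IsScalarTower.of_algebraMap_eq (fun a => rfl)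
  have h₁ : Function.Surjective (algebraMap P (P ⧸ Ideal.span {h})) :=
    Ideal.Quotient.mk_surjective
  have hker : RingHom.ker (algebraMap P (P ⧸ Ideal.span {h})) = Ideal.span {h} := Ideal.mk_ker
  have h₂ : (RingHom.ker (algebraMap P (P ⧸ Ideal.span {h}))).FG := by
    rw [hker]; exact ⟨{h}, by simp⟩
  have h₃ : maximalIdeal (P ⧸ Ideal.span {h}) ≤
      RingHom.ker (algebraMap (P ⧸ Ideal.span {h}) (ResidueField P)) := by
    intro z hz
    obtain ⟨z, rfl⟩ := Ideal.Quotient.mk_surjective z
    rw [RingHom.mem_ker]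
    change residue P z = 0
    rw [residue_eq_zero_iff]
    by_contra hcon
    have hu : IsUnit z := by
      rw [mem_maximalIdeal, mem_nonunits_iff, not_not] at hcon
      exact hcon
    exact hz (hu.map _)
  rw [Algebra.FormallySmooth.iff_injective_cotangentComplexBaseChange P (ResidueField P) h₁ h₂ h₃]
  have hh : h ∈ RingHom.ker (algebraMap P (P ⧸ Ideal.span {h})) := by
    rw [hker]; exact Ideal.subset_span rfl
  let x₀ : RingHom.ker (algebraMap P (P ⧸ Ideal.span {h})) := ⟨h, hh⟩
  have hform : ∀ z : ResidueField P ⊗[P] RingHom.ker (algebraMap P (P ⧸ Ideal.span {h})),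
      ∃ k : ResidueField P, z = k ⊗ₜ[P] x₀ := by
    intro z
    induction z using TensorProduct.induction_on with
    | zero => exact ⟨0, by rw [zero_tmul]⟩
    | add a b ha hb =>
      obtain ⟨k₁, rfl⟩ := ha
      obtain ⟨k₂, rfl⟩ := hb
      exact ⟨k₁ + k₂, by rw [add_tmul]⟩
    | tmul a b =>
      obtain ⟨b, hb⟩ := b
      have hb' : b ∈ Ideal.span {h} := by rw [← hker]; exact hb
      obtain ⟨c, rfl⟩ := Ideal.mem_span_singleton'.mp hb'
      refine ⟨c • a, ?_⟩
      rw [smul_tmul]
      congr 1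
  rw [injective_iff_map_eq_zero]
  intro z hz
  obtain ⟨k, rfl⟩ := hform z
  rw [cotangentComplexBaseChange_tmul] at hz
  have hz' : k • ((1 : ResidueField P) ⊗ₜ[P] (D A P h)) = 0 := hz
  rcases smul_eq_zero.mp hz' with hk | hk
  · rw [hk, zero_tmul]
  · exact absurd hk hd

end Jac

section Quot

variable {A C₁ P : Type u} [CommRing A] [CommRing C₁] [CommRing P] [Algebra A C₁] [Algebra C₁ P]
  [Algebra A P] [IsScalarTower A C₁ P]

theorem isScalarTower_quotient_map (I : Ideal C₁) :
    IsScalarTower A (C₁ ⧸ I) (P ⧸ I.map (algebraMap C₁ P)) := by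
  refine IsScalarTower.of_algebraMap_eq (fun a => ?_)
  rw [IsScalarTower.algebraMap_apply A C₁ (C₁ ⧸ I),
    IsScalarTower.algebraMap_apply A P (P ⧸ I.map (algebraMap C₁ P)),
    IsScalarTower.algebraMap_apply A C₁ P]
  rfl

/-- Smoothness of a quotient at a prime, read off from the quotient of the localization. -/
theorem isSmoothAt_quotient (q₁ : Ideal C₁) [q₁.IsPrime] [IsLocalization.AtPrime P q₁]
    (I : Ideal C₁) (q' : Ideal (C₁ ⧸ I)) [q'.IsPrime]
    (hq' : q'.comap (Ideal.Quotient.mk I) = q₁)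
    (hfs : Algebra.FormallySmooth A (P ⧸ I.map (algebraMap C₁ P))) :
    Algebra.IsSmoothAt A q' := by
  have hlo : q'.LiesOver q₁ := ⟨hq'.symm⟩
  have hsub : Algebra.algebraMapSubmonoid (C₁ ⧸ I) q₁.primeCompl = q'.primeCompl :=
    Ideal.algebraMapSubmonoid_primeCompl_of_liesOver_surjective q' q₁
      Ideal.Quotient.mk_surjective
  have hloc : IsLocalization (Algebra.algebraMapSubmonoid (C₁ ⧸ I) q₁.primeCompl)
      (P ⧸ I.map (algebraMap C₁ P)) := inferInstance
  rw [hsub] at hloc
  have := isScalarTower_quotient_map (A := A) (P := P) I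
  let e : (P ⧸ I.map (algebraMap C₁ P)) ≃ₐ[C₁ ⧸ I] Localization.AtPrime q' :=
    IsLocalization.algEquiv q'.primeCompl _ _
  exact Algebra.FormallySmooth.of_equiv (e.restrictScalars A)

end Quot

section Away

variable {A C₁ C₂ : Type u} [CommRing A] [CommRing C₁] [CommRing C₂] [Algebra A C₁] [Algebra C₁ C₂]
  [Algebra A C₂] [IsScalarTower A C₁ C₂]

/-- Smoothness of a localization of a quotient, read off as quotient of the localization. -/
theorem smooth_quotient_away (g : C₁) [IsLocalization.Away g C₂] (I : Ideal C₁)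
    (hsm : Algebra.Smooth A (Localization.Away (Ideal.Quotient.mk I g))) :
    Algebra.Smooth A (C₂ ⧸ I.map (algebraMap C₁ C₂)) := by
  have hloc : IsLocalization (Algebra.algebraMapSubmonoid (C₁ ⧸ I) (Submonoid.powers g))
      (C₂ ⧸ I.map (algebraMap C₁ C₂)) := inferInstance
  have hsub : Algebra.algebraMapSubmonoid (C₁ ⧸ I) (Submonoid.powers g) =
      Submonoid.powers (Ideal.Quotient.mk I g) := by
    simp [Algebra.algebraMapSubmonoid, Submonoid.map_powers]
  rw [hsub] at hloc
  have := isScalarTower_quotient_map (A := A) (P := C₂) I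
  let e : Localization.Away (Ideal.Quotient.mk I g) ≃ₐ[C₁ ⧸ I] (C₂ ⧸ I.map (algebraMap C₁ C₂)) :=
    IsLocalization.algEquiv (Submonoid.powers (Ideal.Quotient.mk I g)) _ _
  exact Algebra.Smooth.of_equiv (e.restrictScalars A)

end Away

end Groth.Agent.Lib.T2H2.SliceSmooth
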