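import Mathlib
import Groth.Agent.Lib.T2H2SliceFlatSch
import Groth.Agent.Lib.T2H2SliceSmooth
import Groth.Agent.Lib.Helper6SmNorm
import Groth.Agent.Lib.Helper11SmInt
import Groth.Agent.Lib.Helper3AppLE

set_option autoImplicit false

universe u

namespace Groth.Agent.Lib.T2H2.SliceSmoothSch

open AlgebraicGeometry CategoryTheory Limits TensorProduct Polynomial
open Groth.Agent.Lib.T2H2.SliceFlatSch Groth.Agent.Lib.T2H2.SliceFlat
open Groth.Agent.Lib.T2H2.SliceSmooth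

set_option maxHeartbeats 1600000 in
/-- **Slicing, chart form, finite presentation only on the chart.**  `f` locally of finite presentation and flat at `x`; `V ∋ x` an affine
open over an affine open `S₀` of the base and `h' ∈ Γ(X, V)` vanishing at `x` whose class in the
local ring of the fibre is a nonzerodivisor.  Then on a smaller affine open `U ∋ x` the restriction of
`h'` is a nonzerodivisor and `Γ(X, U) / h'` is flat over `Γ(S, S₀)`. -/
theorem exists_slice_of_fp {X S : Scheme.{u}} (f : X ⟶ S) (x : X)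
    (hflat : (f.stalkMap x).hom.Flat) {S₀ : S.Opens} (hS₀ : IsAffineOpen S₀)
    {V : X.Opens} (hV : IsAffineOpen V) (hVS : V ≤ f ⁻¹ᵁ S₀) (hxV : x ∈ V)
    (hfpV : (f.appLE S₀ V hVS).hom.FinitePresentation) (h' : Γ(X, V))
    (hm : X.presheaf.germ V x hxV h' ∈ IsLocalRing.maximalIdeal (X.presheaf.stalk x))
    (hreg : Ideal.Quotient.mk (Ideal.map (f.stalkMap x).hom
        (IsLocalRing.maximalIdeal (S.presheaf.stalk (f x)))) (X.presheaf.germ V x hxV h') ∈
      nonZeroDivisors (X.presheaf.stalk x ⧸ Ideal.map (f.stalkMap x).hom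
        (IsLocalRing.maximalIdeal (S.presheaf.stalk (f x))))) :
    ∃ (U : X.Opens) (_ : IsAffineOpen U) (hUV : U ≤ V) (_ : x ∈ U),
      X.presheaf.map (homOfLE hUV).op h' ∈ nonZeroDivisors Γ(X, U) ∧
      ((Ideal.Quotient.mk (Ideal.span {X.presheaf.map (homOfLE hUV).op h'})).comp
        (f.appLE S₀ U (hUV.trans hVS)).hom).Flat := by
  -- the chart
  let algAC : Algebra Γ(S, S₀) Γ(X, V) := (f.appLE S₀ V hVS).hom.toAlgebra
  let algBC : Algebra (Polynomial Γ(S, S₀)) Γ(X, V) :=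
    (Polynomial.aeval (R := Γ(S, S₀)) h').toRingHom.toAlgebra
  have tow : IsScalarTower Γ(S, S₀) (Polynomial Γ(S, S₀)) Γ(X, V) :=
    IsScalarTower.of_algebraMap_eq' (Polynomial.aeval (R := Γ(S, S₀)) h').comp_algebraMap.symm
  have hfp : Algebra.FinitePresentation Γ(S, S₀) Γ(X, V) := hfpV
  let p := (hS₀.primeIdealOf ⟨f x, hVS hxV⟩).asIdeal
  let q := (hV.primeIdealOf ⟨x, hxV⟩).asIdeal
  have hP : q.under Γ(S, S₀) = p :=
    congr($(IsAffineOpen.comap_primeIdealOf_appLE S₀ hS₀ V hV hVS hxV).1)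
  have hX : algebraMap (Polynomial Γ(S, S₀)) Γ(X, V) Polynomial.X = h' := Polynomial.aeval_X h'
  have hhq : algebraMap (Polynomial Γ(S, S₀)) Γ(X, V) Polynomial.X ∈ q := by
    rw [hX]
    exact (germ_mem_maximalIdeal_iff hV hxV h').mp hm
  have hreg' := chart_nzd f x hS₀ hV hVS hxV h' hreg
  rw [← hX] at hreg'
  obtain ⟨g₀, hg₀, Hfib⟩ := Groth.Agent.Lib.T2H2.SliceFlat.exists_fiberMap_flat_away p q hP hhq hreg'
  -- the first basic open
  have hV₀ : IsAffineOpen (X.basicOpen g₀) := hV.basicOpen g₀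
  have hxV₀ : x ∈ X.basicOpen g₀ := (mem_basicOpen_iff hV hxV g₀).mpr hg₀
  have hV₀V : X.basicOpen g₀ ≤ V := X.basicOpen_le g₀
  have hV₀S : X.basicOpen g₀ ≤ f ⁻¹ᵁ S₀ := hV₀V.trans hVS
  have hloc₀ : IsLocalization.Away g₀ Γ(X, X.basicOpen g₀) := hV.isLocalization_basicOpen g₀
  let algAC₀ : Algebra Γ(S, S₀) Γ(X, X.basicOpen g₀) := (f.appLE S₀ (X.basicOpen g₀) hV₀S).hom.toAlgebra
  have tow₀ : IsScalarTower Γ(S, S₀) Γ(X, V) Γ(X, X.basicOpen g₀) := by
    refine IsScalarTower.of_algebraMap_eq' ?_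
    change (f.appLE S₀ (X.basicOpen g₀) hV₀S).hom =
      (X.presheaf.map (homOfLE hV₀V).op).hom.comp (f.appLE S₀ V hVS).hom
    rw [← CommRingCat.hom_comp, Scheme.Hom.appLE_map]
  let algBC₀ : Algebra (Polynomial Γ(S, S₀)) Γ(X, X.basicOpen g₀) :=
    ((algebraMap Γ(X, V) Γ(X, X.basicOpen g₀)).comp
      (algebraMap (Polynomial Γ(S, S₀)) Γ(X, V))).toAlgebra
  have tow₁ : IsScalarTower (Polynomial Γ(S, S₀)) Γ(X, V) Γ(X, X.basicOpen g₀) :=
    IsScalarTower.of_algebraMap_eq' rfl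
  have tow₂ : IsScalarTower Γ(S, S₀) (Polynomial Γ(S, S₀)) Γ(X, X.basicOpen g₀) := by
    refine IsScalarTower.of_algebraMap_eq (fun a => ?_)
    change _ = algebraMap Γ(X, V) Γ(X, X.basicOpen g₀)
      (algebraMap (Polynomial Γ(S, S₀)) Γ(X, V) (algebraMap Γ(S, S₀) (Polynomial Γ(S, S₀)) a))
    rw [← IsScalarTower.algebraMap_apply Γ(S, S₀) (Polynomial Γ(S, S₀)) Γ(X, V),
      ← IsScalarTower.algebraMap_apply]
  have hfib₀ := Hfib Γ(X, X.basicOpen g₀)
  -- the second step on the first basic open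
  have hfp₀ : Algebra.FinitePresentation Γ(S, S₀) Γ(X, X.basicOpen g₀) := by
    have : Algebra.FinitePresentation Γ(X, V) Γ(X, X.basicOpen g₀) :=
      IsLocalization.Away.finitePresentation g₀
    exact Algebra.FinitePresentation.trans Γ(S, S₀) Γ(X, V) Γ(X, X.basicOpen g₀)
  let q₀ := (hV₀.primeIdealOf ⟨x, hxV₀⟩).asIdeal
  have hP₀ : q₀.under Γ(S, S₀) = p :=
    congr($(IsAffineOpen.comap_primeIdealOf_appLE S₀ hS₀ (X.basicOpen g₀) hV₀ hV₀S hxV₀).1)
  have hflat₀ : Module.Flat Γ(S, S₀) (LocalizedModule q₀.primeCompl Γ(X, X.basicOpen g₀)) :=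
    (Groth.Agent.S0386.flat_stalkMap_iff_localizedModule S₀ hS₀ (X.basicOpen g₀) hV₀ hV₀S
      hxV₀).mp hflat
  obtain ⟨g₁, hg₁, H1⟩ := Groth.Agent.Lib.T2H2.SliceFlat.exists_away_nzd_flat_of_fiberMap_flat
    p q₀ hP₀ hfib₀ hflat₀
  have hU : IsAffineOpen (X.basicOpen g₁) := hV₀.basicOpen g₁
  have hxU : x ∈ X.basicOpen g₁ := (mem_basicOpen_iff hV₀ hxV₀ g₁).mpr hg₁
  have hUV₀ : X.basicOpen g₁ ≤ X.basicOpen g₀ := X.basicOpen_le g₁
  have hUV : X.basicOpen g₁ ≤ V := hUV₀.trans hV₀V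
  have hUS : X.basicOpen g₁ ≤ f ⁻¹ᵁ S₀ := hUV.trans hVS
  have hloc₁ : IsLocalization.Away g₁ Γ(X, X.basicOpen g₁) := hV₀.isLocalization_basicOpen g₁
  let algAC₁ : Algebra Γ(S, S₀) Γ(X, X.basicOpen g₁) :=
    (f.appLE S₀ (X.basicOpen g₁) hUS).hom.toAlgebra
  have tow₃ : IsScalarTower Γ(S, S₀) Γ(X, X.basicOpen g₀) Γ(X, X.basicOpen g₁) := by
    refine IsScalarTower.of_algebraMap_eq' ?_
    change (f.appLE S₀ (X.basicOpen g₁) hUS).hom =
      (X.presheaf.map (homOfLE hUV₀).op).hom.comp (f.appLE S₀ (X.basicOpen g₀) hV₀S).hom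
    rw [← CommRingCat.hom_comp, Scheme.Hom.appLE_map]
  obtain ⟨hnzd, hfl⟩ := H1 Γ(X, X.basicOpen g₁)
  have hres : algebraMap Γ(X, X.basicOpen g₀) Γ(X, X.basicOpen g₁)
      (algebraMap (Polynomial Γ(S, S₀)) Γ(X, X.basicOpen g₀) Polynomial.X) =
      X.presheaf.map (homOfLE hUV).op h' := by
    change (X.presheaf.map (homOfLE hUV₀).op).hom ((X.presheaf.map (homOfLE hV₀V).op).hom
      (algebraMap (Polynomial Γ(S, S₀)) Γ(X, V) Polynomial.X)) = _
    rw [hX, ← CommRingCat.comp_apply, ← Functor.map_comp]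
    rfl
  rw [hres] at hnzd hfl
  refine ⟨X.basicOpen g₁, hU, hUV, hxU, hnzd, ?_⟩
  exact RingHom.flat_algebraMap_iff.mpr hfl

section RingDomain

variable {A C : Type u} [CommRing A] [CommRing C] [Algebra A C]

/-- The local rings of the fibres of a smooth algebra are domains. -/
theorem isDomain_fibre_localization [Algebra.Smooth A C] (p : Ideal A) [p.IsPrime] (q : Ideal C)
    [q.IsPrime] (hq : q.under A = p) :
    IsDomain (Localization.AtPrime q ⧸ p.map (algebraMap A (Localization.AtPrime q))) := by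
  obtain ⟨Q, hQprime, rfl⟩ : ∃ Q : Ideal (p.Fiber C), ∃ _ : Q.IsPrime,
      Q.comap (Algebra.TensorProduct.includeRight : C →ₐ[A] p.Fiber C) = q := by
    let Q := PrimeSpectrum.primesOverOrderIsoFiber A C p ⟨q, ⟨inferInstance, ⟨hq.symm⟩⟩⟩
    refine ⟨Q.asIdeal, Q.isPrime, ?_⟩
    have h := PrimeSpectrum.coe_primesOverOrderIsoFiber_symm_apply p Q
    rw [← h]
    simp [Q]
  have hlo := comap_includeRight_liesOver p Q
  let _ := Localization.AtPrime.algebraOfLiesOver p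
    (Q.comap (Algebra.TensorProduct.includeRight : C →ₐ[A] p.Fiber C))
  let eC := Ideal.Fiber.localizationAlgEquivQuotient p Q
  have hN := Groth.Agent.Lib.Helper6.SmNorm.isNormalRing_of_smooth p.ResidueField (p.Fiber C)
    (Groth.Agent.Lib.Helper11SmInt.isNormalRing_of_isField _ (Field.toIsField _))
  have hd : IsDomain (Localization.AtPrime Q) := (hN Q).1
  exact eC.symm.toMulEquiv.isDomain _

end RingDomain

/-- The local ring of the fibre, computed on a chart. -/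
theorem nonempty_chart_quotient_equiv {X S : Scheme.{u}} (f : X ⟶ S) (x : X) {S₀ : S.Opens}
    (hS₀ : IsAffineOpen S₀) {V : X.Opens} (hV : IsAffineOpen V) (hVS : V ≤ f ⁻¹ᵁ S₀)
    (hxV : x ∈ V) :
    letI := (f.appLE S₀ V hVS).hom.toAlgebra
    Nonempty ((Localization.AtPrime (hV.primeIdealOf ⟨x, hxV⟩).asIdeal ⧸
        (hS₀.primeIdealOf ⟨f x, hVS hxV⟩).asIdeal.map
          (algebraMap Γ(S, S₀) (Localization.AtPrime (hV.primeIdealOf ⟨x, hxV⟩).asIdeal))) ≃+*
      (X.presheaf.stalk x ⧸ Ideal.map (f.stalkMap x).hom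
        (IsLocalRing.maximalIdeal (S.presheaf.stalk (f x))))) := by
  let _ := (f.appLE S₀ V hVS).hom.toAlgebra
  let p := (hS₀.primeIdealOf ⟨f x, hVS hxV⟩).asIdeal
  let q := (hV.primeIdealOf ⟨x, hxV⟩).asIdeal
  let _ := S.presheaf.algebra_section_stalk ⟨f x, hVS hxV⟩
  have := hS₀.isLocalization_stalk ⟨f x, hVS hxV⟩
  let _ := X.presheaf.algebra_section_stalk ⟨x, hxV⟩
  have := hV.isLocalization_stalk ⟨x, hxV⟩
  let σ : Localization.AtPrime q ≃ₐ[Γ(X, V)] X.presheaf.stalk x :=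
    IsLocalization.algEquiv q.primeCompl _ _
  set I := Ideal.map (f.stalkMap x).hom (IsLocalRing.maximalIdeal (S.presheaf.stalk (f x)))
    with hI
  set J := p.map (algebraMap Γ(S, S₀) (Localization.AtPrime q)) with hJ
  have hIJ : I = J.map (σ : Localization.AtPrime q →+* X.presheaf.stalk x) := by
    rw [hI, hJ, ← IsLocalization.AtPrime.map_eq_maximalIdeal p (S.presheaf.stalk (f x)),
      Ideal.map_map, Ideal.map_map]
    congr 1
    ext a
    simp only [RingHom.comp_apply]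
    rw [IsScalarTower.algebraMap_apply Γ(S, S₀) Γ(X, V) (Localization.AtPrime q)]
    have h1 : (σ : Localization.AtPrime q →+* X.presheaf.stalk x)
        (algebraMap Γ(X, V) (Localization.AtPrime q) (algebraMap Γ(S, S₀) Γ(X, V) a)) =
        algebraMap Γ(X, V) (X.presheaf.stalk x) (algebraMap Γ(S, S₀) Γ(X, V) a) :=
      σ.commutes _
    rw [h1]
    simp only [RingHom.algebraMap_toAlgebra, Scheme.Hom.germ_stalkMap_apply, Scheme.Hom.appLE,
      homOfLE_leOfHom, CommRingCat.hom_comp, RingHom.coe_comp, Function.comp_apply,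
      X.presheaf.germ_res_apply]
  exact ⟨Ideal.quotientEquiv J I σ.toRingEquiv hIJ⟩

/-- An element of `m_s O_{X,x}` has vanishing differential in `κ(x) ⊗ Ω`. -/
theorem one_tmul_D_eq_zero_of_mem {R P : Type u} [CommRing R] [CommRing P] [IsLocalRing R]
    [IsLocalRing P] [Algebra R P] [IsLocalHom (algebraMap R P)] (y : P)
    (hy : y ∈ Ideal.map (algebraMap R P) (IsLocalRing.maximalIdeal R)) :
    (1 : IsLocalRing.ResidueField P) ⊗ₜ[P] (KaehlerDifferential.D R P y) = 0 := by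
  have key : y ∈ IsLocalRing.maximalIdeal P ∧
      (1 : IsLocalRing.ResidueField P) ⊗ₜ[P] (KaehlerDifferential.D R P y) = 0 := by
    rw [Ideal.map] at hy
    induction hy using Submodule.span_induction with
    | mem z hz =>
      obtain ⟨a, ha, rfl⟩ := hz
      refine ⟨?_, ?_⟩
      · exact IsLocalRing.map_maximalIdeal_le (algebraMap R P) (Ideal.mem_map_of_mem _ ha)
      · rw [Derivation.map_algebraMap, tmul_zero]
    | zero => exact ⟨Ideal.zero_mem _, by rw [map_zero, tmul_zero]⟩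
    | add a b _ _ ha hb =>
      exact ⟨Ideal.add_mem _ ha.1 hb.1, by rw [map_add, tmul_add, ha.2, hb.2, add_zero]⟩
    | smul c z _ hz =>
      refine ⟨Ideal.mul_mem_left _ _ hz.1, ?_⟩
      rw [smul_eq_mul, Derivation.leibniz, tmul_add, ← smul_tmul, ← smul_tmul]
      have h2 : (z • (1 : IsLocalRing.ResidueField P)) = 0 := by
        rw [Algebra.smul_def, mul_one]
        exact (IsLocalRing.residue_eq_zero_iff z).mpr hz.1
      rw [h2, zero_tmul, add_zero, ← smul_tmul', hz.2, smul_zero]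
  exact key.2

/-- On a smooth chart, an element with nonzero differential at `x` is a nonzerodivisor of the
local ring of the fibre. -/
theorem fibre_nzd_of_D_ne_zero {X S : Scheme.{u}} (f : X ⟶ S) (x : X) {S₀ : S.Opens}
    (hS₀ : IsAffineOpen S₀) {V : X.Opens} (hV : IsAffineOpen V) (hVS : V ≤ f ⁻¹ᵁ S₀)
    (hxV : x ∈ V) (hsm : (f.appLE S₀ V hVS).hom.Smooth) (h : X.presheaf.stalk x)
    (hd : letI := (f.stalkMap x).hom.toAlgebra
      (1 : IsLocalRing.ResidueField (X.presheaf.stalk x)) ⊗ₜ[X.presheaf.stalk x]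
        (KaehlerDifferential.D (S.presheaf.stalk (f x)) (X.presheaf.stalk x) h) ≠ 0) :
    Ideal.Quotient.mk (Ideal.map (f.stalkMap x).hom
        (IsLocalRing.maximalIdeal (S.presheaf.stalk (f x)))) h ∈
      nonZeroDivisors (X.presheaf.stalk x ⧸ Ideal.map (f.stalkMap x).hom
        (IsLocalRing.maximalIdeal (S.presheaf.stalk (f x)))) := by
  let _ := (f.appLE S₀ V hVS).hom.toAlgebra
  have : Algebra.Smooth Γ(S, S₀) Γ(X, V) := hsm
  obtain ⟨e⟩ := nonempty_chart_quotient_equiv f x hS₀ hV hVS hxV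
  have hdom := isDomain_fibre_localization (hS₀.primeIdealOf ⟨f x, hVS hxV⟩).asIdeal
    (hV.primeIdealOf ⟨x, hxV⟩).asIdeal
    congr($(IsAffineOpen.comap_primeIdealOf_appLE S₀ hS₀ V hV hVS hxV).1)
  have hdom' : IsDomain (X.presheaf.stalk x ⧸ Ideal.map (f.stalkMap x).hom
      (IsLocalRing.maximalIdeal (S.presheaf.stalk (f x)))) := e.symm.toMulEquiv.isDomain _
  apply mem_nonZeroDivisors_of_ne_zero
  intro hcon
  rw [Ideal.Quotient.eq_zero_iff_mem] at hcon
  let _ := (f.stalkMap x).hom.toAlgebra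
  have : IsLocalHom (algebraMap (S.presheaf.stalk (f x)) (X.presheaf.stalk x)) :=
    inferInstanceAs (IsLocalHom (f.stalkMap x).hom)
  exact hd (one_tmul_D_eq_zero_of_mem h hcon)

set_option maxHeartbeats 1600000 in
/-- On a smooth chart `U`, the quotient `Γ(X, U) / h₁` is smooth over the base at the prime of `x`,
if `h₁` vanishes at `x` and `dh₁ ≠ 0` at `x`. -/
theorem isSmoothAt_quotient_chart {X S : Scheme.{u}} (f : X ⟶ S) (x : X) {S₀ : S.Opens}
    (hS₀ : IsAffineOpen S₀) {U : X.Opens} (hU : IsAffineOpen U) (hUS : U ≤ f ⁻¹ᵁ S₀)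
    (hxU : x ∈ U) (hsm : (f.appLE S₀ U hUS).hom.Smooth) (h₁ : Γ(X, U))
    (hm : X.presheaf.germ U x hxU h₁ ∈ IsLocalRing.maximalIdeal (X.presheaf.stalk x))
    (hd : letI := (f.stalkMap x).hom.toAlgebra
      (1 : IsLocalRing.ResidueField (X.presheaf.stalk x)) ⊗ₜ[X.presheaf.stalk x]
        (KaehlerDifferential.D (S.presheaf.stalk (f x)) (X.presheaf.stalk x)
          (X.presheaf.germ U x hxU h₁)) ≠ 0)
    (q' : Ideal (Γ(X, U) ⧸ Ideal.span {h₁})) [q'.IsPrime]
    (hq' : q'.comap (Ideal.Quotient.mk (Ideal.span {h₁})) = (hU.primeIdealOf ⟨x, hxU⟩).asIdeal) :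
    letI := (f.appLE S₀ U hUS).hom.toAlgebra
    Algebra.IsSmoothAt Γ(S, S₀) q' := by
  let algAC : Algebra Γ(S, S₀) Γ(X, U) := (f.appLE S₀ U hUS).hom.toAlgebra
  have hSm : Algebra.Smooth Γ(S, S₀) Γ(X, U) := hsm
  let q₁ := (hU.primeIdealOf ⟨x, hxU⟩).asIdeal
  let algCP : Algebra Γ(X, U) (X.presheaf.stalk x) := X.presheaf.algebra_section_stalk ⟨x, hxU⟩
  have hlocP : IsLocalization.AtPrime (X.presheaf.stalk x) q₁ := hU.isLocalization_stalk ⟨x, hxU⟩
  let algAP : Algebra Γ(S, S₀) (X.presheaf.stalk x) :=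
    ((algebraMap Γ(X, U) (X.presheaf.stalk x)).comp (algebraMap Γ(S, S₀) Γ(X, U))).toAlgebra
  have towACP : IsScalarTower Γ(S, S₀) Γ(X, U) (X.presheaf.stalk x) :=
    IsScalarTower.of_algebraMap_eq' rfl
  have hfsCP : Algebra.FormallySmooth Γ(X, U) (X.presheaf.stalk x) :=
    Algebra.FormallySmooth.of_isLocalization q₁.primeCompl
  have hfsAP : Algebra.FormallySmooth Γ(S, S₀) (X.presheaf.stalk x) :=
    Algebra.FormallySmooth.comp Γ(S, S₀) Γ(X, U) (X.presheaf.stalk x)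
  have heftCP : Algebra.EssFiniteType Γ(X, U) (X.presheaf.stalk x) :=
    Algebra.EssFiniteType.of_isLocalization (X.presheaf.stalk x) q₁.primeCompl
  have heftAP : Algebra.EssFiniteType Γ(S, S₀) (X.presheaf.stalk x) :=
    Algebra.EssFiniteType.comp Γ(S, S₀) Γ(X, U) (X.presheaf.stalk x)
  -- compare the differentials over `Γ(S, S₀)` and over the local ring of the base
  let algAOs : Algebra Γ(S, S₀) (S.presheaf.stalk (f x)) :=
    S.presheaf.algebra_section_stalk ⟨f x, hUS hxU⟩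
  let algOsP : Algebra (S.presheaf.stalk (f x)) (X.presheaf.stalk x) :=
    (f.stalkMap x).hom.toAlgebra
  have towAOsP : IsScalarTower Γ(S, S₀) (S.presheaf.stalk (f x)) (X.presheaf.stalk x) := by
    refine IsScalarTower.of_algebraMap_eq (fun a => ?_)
    change X.presheaf.germ U x hxU ((f.appLE S₀ U hUS).hom a) =
      (f.stalkMap x).hom (S.presheaf.germ S₀ (f x) (hUS hxU) a)
    simp only [Scheme.Hom.germ_stalkMap_apply, Scheme.Hom.appLE,
      homOfLE_leOfHom, CommRingCat.hom_comp, RingHom.coe_comp, Function.comp_apply,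
      X.presheaf.germ_res_apply]
  have hd' : (1 : IsLocalRing.ResidueField (X.presheaf.stalk x)) ⊗ₜ[X.presheaf.stalk x]
      (KaehlerDifferential.D Γ(S, S₀) (X.presheaf.stalk x) (X.presheaf.germ U x hxU h₁)) ≠ 0 := by
    intro hcon
    apply hd
    have h2 := congrArg ((KaehlerDifferential.map Γ(S, S₀) (S.presheaf.stalk (f x))
      (X.presheaf.stalk x) (X.presheaf.stalk x)).lTensor
        (IsLocalRing.ResidueField (X.presheaf.stalk x))) hcon
    rw [LinearMap.lTensor_tmul, KaehlerDifferential.map_D, map_zero] at h2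
    exact h2
  have hfs := formallySmooth_quotient_of_D_ne_zero (A := Γ(S, S₀)) (P := X.presheaf.stalk x)
    (X.presheaf.germ U x hxU h₁) hm hd'
    ((Ideal.span {h₁}).map (algebraMap Γ(X, U) (X.presheaf.stalk x)))
    (by rw [Ideal.map_span, Set.image_singleton]; rfl)
  exact isSmoothAt_quotient (A := Γ(S, S₀)) (P := X.presheaf.stalk x) q₁ (Ideal.span {h₁}) q' hq'
    hfs

set_option maxHeartbeats 1600000 in
/-- **Smooth slicing, chart form.** -/
theorem exists_smooth_slice {X S : Scheme.{u}} (f : X ⟶ S) (x : X) {S₀ : S.Opens}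
    (hS₀ : IsAffineOpen S₀) {V : X.Opens} (hV : IsAffineOpen V) (hVS : V ≤ f ⁻¹ᵁ S₀)
    (hxV : x ∈ V)
    (hsmV : ∀ (U : X.Opens) (_ : IsAffineOpen U) (hUV : U ≤ V),
      (f.appLE S₀ U (hUV.trans hVS)).hom.Smooth)
    (h' : Γ(X, V))
    (hm : X.presheaf.germ V x hxV h' ∈ IsLocalRing.maximalIdeal (X.presheaf.stalk x))
    (hd : letI := (f.stalkMap x).hom.toAlgebra
      (1 : IsLocalRing.ResidueField (X.presheaf.stalk x)) ⊗ₜ[X.presheaf.stalk x]
        (KaehlerDifferential.D (S.presheaf.stalk (f x)) (X.presheaf.stalk x)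
          (X.presheaf.germ V x hxV h')) ≠ 0) :
    ∃ (U : X.Opens) (_ : IsAffineOpen U) (hUV : U ≤ V) (_ : x ∈ U),
      X.presheaf.map (homOfLE hUV).op h' ∈ nonZeroDivisors Γ(X, U) ∧
      ((Ideal.Quotient.mk (Ideal.span {X.presheaf.map (homOfLE hUV).op h'})).comp
        (f.appLE S₀ U (hUV.trans hVS)).hom).Smooth := by
  have hsmVV := hsmV V hV le_rfl
  have hreg := fibre_nzd_of_D_ne_zero f x hS₀ hV hVS hxV hsmVV _ hd
  have hflat : (f.stalkMap x).hom.Flat := by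
    let _ := (f.appLE S₀ V hVS).hom.toAlgebra
    have : Algebra.Smooth Γ(S, S₀) Γ(X, V) := hsmVV
    refine (Groth.Agent.S0386.flat_stalkMap_iff_localizedModule S₀ hS₀ V hV hVS hxV).mpr ?_
    exact Groth.Agent.Lib.Helper3.FlatLoc.flat_localizedModule_of_flat _
  obtain ⟨U, hU, hUV, hxU, hnzd, -⟩ :=
    exists_slice_of_fp f x hflat hS₀ hV hVS hxV hsmVV.finitePresentation h' hm hreg
  have hUS : U ≤ f ⁻¹ᵁ S₀ := hUV.trans hVS
  have hsmU := hsmV U hU hUV
  set h₁ := X.presheaf.map (homOfLE hUV).op h' with hh₁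
  have hgerm : X.presheaf.germ U x hxU h₁ = X.presheaf.germ V x hxV h' := by
    rw [hh₁, TopCat.Presheaf.germ_res_apply]
  let algAC : Algebra Γ(S, S₀) Γ(X, U) := (f.appLE S₀ U hUS).hom.toAlgebra
  have hSm : Algebra.Smooth Γ(S, S₀) Γ(X, U) := hsmU
  let q₁ := (hU.primeIdealOf ⟨x, hxU⟩).asIdeal
  have hh₁q : h₁ ∈ q₁ := (germ_mem_maximalIdeal_iff hU hxU h₁).mp (hgerm ▸ hm)
  have hIle : Ideal.span {h₁} ≤ q₁ := by
    rw [Ideal.span_le]; simpa using hh₁q
  let q' : Ideal (Γ(X, U) ⧸ Ideal.span {h₁}) := q₁.map (Ideal.Quotient.mk (Ideal.span {h₁}))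
  have hq'prime : q'.IsPrime :=
    Ideal.map_isPrime_of_surjective Ideal.Quotient.mk_surjective (by rw [Ideal.mk_ker]; exact hIle)
  have hq' : q'.comap (Ideal.Quotient.mk (Ideal.span {h₁})) = q₁ := Ideal.comap_map_mk hIle
  have hsa : Algebra.IsSmoothAt Γ(S, S₀) q' :=
    isSmoothAt_quotient_chart f x hS₀ hU hUS hxU hsmU h₁ (hgerm ▸ hm) (hgerm ▸ hd) q' hq'
  have hfpD : Algebra.FinitePresentation Γ(S, S₀) (Γ(X, U) ⧸ Ideal.span {h₁}) := by
    have : Algebra.FinitePresentation Γ(X, U) (Γ(X, U) ⧸ Ideal.span {h₁}) :=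
      Algebra.FinitePresentation.quotient ⟨{h₁}, by simp⟩
    exact Algebra.FinitePresentation.trans Γ(S, S₀) Γ(X, U) _
  obtain ⟨gbar, hgbar, hsmooth⟩ := Algebra.IsSmoothAt.exists_notMem_smooth Γ(S, S₀) q'
  obtain ⟨g, rfl⟩ := Ideal.Quotient.mk_surjective gbar
  have hg : g ∉ q₁ := fun hcon => hgbar (Ideal.mem_map_of_mem _ hcon)
  have hU' : IsAffineOpen (X.basicOpen g) := hU.basicOpen g
  have hxU' : x ∈ X.basicOpen g := (mem_basicOpen_iff hU hxU g).mpr hg
  have hU'U : X.basicOpen g ≤ U := X.basicOpen_le g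
  have hU'V : X.basicOpen g ≤ V := hU'U.trans hUV
  have hU'S : X.basicOpen g ≤ f ⁻¹ᵁ S₀ := hU'V.trans hVS
  have hloc : IsLocalization.Away g Γ(X, X.basicOpen g) := hU.isLocalization_basicOpen g
  let algAC₂ : Algebra Γ(S, S₀) Γ(X, X.basicOpen g) :=
    (f.appLE S₀ (X.basicOpen g) hU'S).hom.toAlgebra
  have tow : IsScalarTower Γ(S, S₀) Γ(X, U) Γ(X, X.basicOpen g) := by
    refine IsScalarTower.of_algebraMap_eq' ?_
    change (f.appLE S₀ (X.basicOpen g) hU'S).hom =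
      (X.presheaf.map (homOfLE hU'U).op).hom.comp (f.appLE S₀ U hUS).hom
    rw [← CommRingCat.hom_comp, Scheme.Hom.appLE_map]
  have hsm₂ := smooth_quotient_away (A := Γ(S, S₀)) (C₂ := Γ(X, X.basicOpen g)) g
    (Ideal.span {h₁}) hsmooth
  have hres : algebraMap Γ(X, U) Γ(X, X.basicOpen g) h₁ = X.presheaf.map (homOfLE hU'V).op h' := by
    change (X.presheaf.map (homOfLE hU'U).op).hom ((X.presheaf.map (homOfLE hUV).op).hom h') = _
    rw [← CommRingCat.comp_apply, ← Functor.map_comp]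
    rfl
  have hmap : (Ideal.span {h₁}).map (algebraMap Γ(X, U) Γ(X, X.basicOpen g)) =
      Ideal.span {X.presheaf.map (homOfLE hU'V).op h'} := by
    rw [Ideal.map_span, Set.image_singleton, hres]
  rw [hmap] at hsm₂
  refine ⟨X.basicOpen g, hU', hU'V, hxU', ?_, ?_⟩
  · rw [← hres]
    exact IsLocalization.nonZeroDivisors_le_comap (Submonoid.powers g) (S := Γ(X, X.basicOpen g)) hnzd
  · exact RingHom.smooth_algebraMap.mpr hsm₂

/-- The zero scheme of `h₁` in an affine open `U` is smooth over the base as soon as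
`Γ(S, S₀) → Γ(X, U) / h₁` is smooth. -/
theorem smooth_SpecMap_quotient_comp {X S : Scheme.{u}} (f : X ⟶ S) {S₀ : S.Opens}
    (hS₀ : IsAffineOpen S₀) {U : X.Opens} (hU : IsAffineOpen U) (hUS : U ≤ f ⁻¹ᵁ S₀)
    (h₁ : Γ(X, U))
    (hsm : ((Ideal.Quotient.mk (Ideal.span {h₁})).comp (f.appLE S₀ U hUS).hom).Smooth) :
    Smooth (Spec.map (CommRingCat.ofHom (Ideal.Quotient.mk (Ideal.span {h₁}))) ≫
      hU.fromSpec ≫ f) := by
  rw [← hS₀.SpecMap_appLE_fromSpec f hU hUS, ← Spec.map_comp_assoc]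
  have h1 : Smooth (Spec.map (f.appLE S₀ U hUS ≫
      CommRingCat.ofHom (Ideal.Quotient.mk (Ideal.span {h₁})))) := by
    rw [HasRingHomProperty.Spec_iff (P := @Smooth)]
    exact hsm
  infer_instance

/-- Smoothness of the charts inside an open on which the morphism is smooth. -/
theorem smooth_appLE_of_le {X S : Scheme.{u}} (f : X ⟶ S) (W : X.Opens) (hW : Smooth (W.ι ≫ f))
    {S₀ : S.Opens} (hS₀ : IsAffineOpen S₀) {U : X.Opens} (hU : IsAffineOpen U) (hUW : U ≤ W)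
    (hUS : U ≤ f ⁻¹ᵁ S₀) : (f.appLE S₀ U hUS).hom.Smooth := by
  have h1 : Smooth (U.ι ≫ f) := by
    rw [← X.homOfLE_ι hUW, Category.assoc]
    infer_instance
  exact Groth.Agent.Lib.Helper3.AppLE.appLE_of_ι_comp (P := @Smooth) f hS₀ hU hUS h1

end Groth.Agent.Lib.T2H2.SliceSmoothSch
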