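import Mathlib
import Groth.Agent.Lib.T2H2SliceSep
import Groth.Agent.Lib.T2H2SliceSmoothSch
import Groth.Agent.Lib.Helper20SmoothDescSch
import Groth.Agent.Lib.Helper5FiberStalk

set_option autoImplicit false

universe u

namespace Groth.Agent.Lib.T2H2.SliceSepSch

open AlgebraicGeometry CategoryTheory Limits TensorProduct

/-- The local ring at `x` is essentially of finite type over the local ring at `f x`, if some
affine chart is of finite type. -/
theorem essFiniteType_stalkMap_of_chart {X S : Scheme.{u}} (f : X ⟶ S) (x : X) {S₀ : S.Opens}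
    (hS₀ : IsAffineOpen S₀) {V : X.Opens} (hV : IsAffineOpen V) (hVS : V ≤ f ⁻¹ᵁ S₀)
    (hxV : x ∈ V) (hft : (f.appLE S₀ V hVS).hom.FiniteType) :
    letI := (f.stalkMap x).hom.toAlgebra
    Algebra.EssFiniteType (S.presheaf.stalk (f x)) (X.presheaf.stalk x) := by
  let algAC : Algebra Γ(S, S₀) Γ(X, V) := (f.appLE S₀ V hVS).hom.toAlgebra
  have hFT : Algebra.FiniteType Γ(S, S₀) Γ(X, V) := hft
  let q₁ := (hV.primeIdealOf ⟨x, hxV⟩).asIdeal
  let algCP : Algebra Γ(X, V) (X.presheaf.stalk x) := X.presheaf.algebra_section_stalk ⟨x, hxV⟩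
  have hlocP : IsLocalization.AtPrime (X.presheaf.stalk x) q₁ := hV.isLocalization_stalk ⟨x, hxV⟩
  let algAP : Algebra Γ(S, S₀) (X.presheaf.stalk x) :=
    ((algebraMap Γ(X, V) (X.presheaf.stalk x)).comp (algebraMap Γ(S, S₀) Γ(X, V))).toAlgebra
  have towACP : IsScalarTower Γ(S, S₀) Γ(X, V) (X.presheaf.stalk x) :=
    IsScalarTower.of_algebraMap_eq' rfl
  have heftCP : Algebra.EssFiniteType Γ(X, V) (X.presheaf.stalk x) :=
    Algebra.EssFiniteType.of_isLocalization (X.presheaf.stalk x) q₁.primeCompl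
  have heftAP : Algebra.EssFiniteType Γ(S, S₀) (X.presheaf.stalk x) :=
    Algebra.EssFiniteType.comp Γ(S, S₀) Γ(X, V) (X.presheaf.stalk x)
  let algAOs : Algebra Γ(S, S₀) (S.presheaf.stalk (f x)) :=
    S.presheaf.algebra_section_stalk ⟨f x, hVS hxV⟩
  let algOsP : Algebra (S.presheaf.stalk (f x)) (X.presheaf.stalk x) :=
    (f.stalkMap x).hom.toAlgebra
  have towAOsP : IsScalarTower Γ(S, S₀) (S.presheaf.stalk (f x)) (X.presheaf.stalk x) := by
    refine IsScalarTower.of_algebraMap_eq (fun a => ?_)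
    change X.presheaf.germ V x hxV ((f.appLE S₀ V hVS).hom a) =
      (f.stalkMap x).hom (S.presheaf.germ S₀ (f x) (hVS hxV) a)
    simp only [Scheme.Hom.germ_stalkMap_apply, Scheme.Hom.appLE,
      homOfLE_leOfHom, CommRingCat.hom_comp, RingHom.coe_comp, Function.comp_apply,
      X.presheaf.germ_res_apply]
  exact Algebra.EssFiniteType.of_comp Γ(S, S₀) (S.presheaf.stalk (f x)) (X.presheaf.stalk x)

end Groth.Agent.Lib.T2H2.SliceSepSch
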