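import Mathlib
import Groth.Agent.Lib.T2H2SliceSmoothSch
import Groth.Agent.Lib.T2H2SliceSepSch
import Groth.Agent.S9725

/-!
# Étale slices through closed points of smooth fibres (helper2)

For a smooth morphism `f : X ⟶ S` and a point `x` closed in its fibre with separable residue field
extension, there is a locally closed subscheme `Z` through `x`, étale over `S`, meeting the fibre
only in `x` (`exists_etale_slice`).  The proof is by induction on the dimension of the local ring
`O_{X,x} / m_{f x} O_{X,x}` of the fibre: if it is a field the morphism is unramified (hence étale,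
hence quasi-finite) at `x`; otherwise the separability of the residue field gives a function `h`
vanishing at `x` with `dh ≠ 0` in the cotangent space of the fibre, `V(h)` is smooth over `S`
near `x` (statement S9725) and its fibre has smaller dimension at `x`.
-/

set_option autoImplicit false
universe u

namespace Groth.Agent.Lib.T2H2.EtSlice

open AlgebraicGeometry CategoryTheory Limits IsLocalRing TensorProduct
open Groth.Agent.Lib.T2H2.SliceFlatSch Groth.Agent.Lib.T2H2.SliceFlat
open Groth.Agent.Lib.T2H2.SliceSmoothSch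

/-- A point is closed in its fibre iff it has no proper specializations inside the fibre. -/
theorem isClosed_singleton_asFiber_iff {X S : Scheme.{u}} (f : X ⟶ S) (x : X) :
    IsClosed ({f.asFiber x} : Set ↑(f.fiber (f x))) ↔
      ∀ x' : X, f x' = f x → x ⤳ x' → x' = x := by
  have hemb := (f.fiberι (f x)).isEmbedding
  have hx : f.fiberι (f x) (f.asFiber x) = x := f.fiberι_asFiber x
  constructor
  · intro hcl x' hx' hsp
    have hmem : x' ∈ Set.range (f.fiberι (f x)) := by
      rw [Scheme.Hom.range_fiberι]; exact hx'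
    obtain ⟨z, rfl⟩ := hmem
    have h1 : f.asFiber x ⤳ z := by
      rw [← hemb.toIsInducing.specializes_iff, hx]; exact hsp
    have h2 : z ∈ closure ({f.asFiber x} : Set ↑(f.fiber (f x))) :=
      specializes_iff_mem_closure.mp h1
    rw [hcl.closure_eq, Set.mem_singleton_iff] at h2
    rw [h2, hx]
  · intro H
    apply isClosed_of_closure_subset
    intro z hz
    have h1 : f.asFiber x ⤳ z := specializes_iff_mem_closure.mpr hz
    have h2 : x ⤳ f.fiberι (f x) z := by
      have := hemb.toIsInducing.specializes_iff.mpr h1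
      rwa [hx] at this
    have h3 : f (f.fiberι (f x) z) = f x := by
      have : f.fiberι (f x) z ∈ Set.range (f.fiberι (f x)) := ⟨z, rfl⟩
      rw [Scheme.Hom.range_fiberι] at this; exact this
    have h4 := H _ h3 h2
    rw [Set.mem_singleton_iff]
    apply hemb.injective
    rw [h4, hx]

/-- Dimension drop: if `h` is a nonzerodivisor modulo `I`, `ψ` is surjective and kills `h`, and
`ψ(I) ⊆ I'`, then `dim P'/I' + 1 ≤ dim P/I`. -/
theorem ringKrullDim_quotient_succ_le {P P' : Type*} [CommRing P] [CommRing P'] (I : Ideal P)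
    (I' : Ideal P') (ψ : P →+* P') (hψ : Function.Surjective ψ) (hI : I.map ψ ≤ I') (h : P)
    (hh : ψ h = 0) (hreg : Ideal.Quotient.mk I h ∈ nonZeroDivisors (P ⧸ I)) :
    ringKrullDim (P' ⧸ I') + 1 ≤ ringKrullDim (P ⧸ I) := by
  refine le_trans ?_ (ringKrullDim_quotient_succ_le_of_nonZeroDivisor hreg)
  gcongr
  let φ : P ⧸ I →+* P' ⧸ I' := Ideal.quotientMap I' ψ (Ideal.map_le_iff_le_comap.mp hI)
  have hφ : Function.Surjective φ := Ideal.quotientMap_surjective hψ
  have hker : Ideal.span {Ideal.Quotient.mk I h} ≤ RingHom.ker φ := by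
    rw [Ideal.span_le, Set.singleton_subset_iff, SetLike.mem_coe, RingHom.mem_ker]
    simp [φ, hh]
  let φ' : (P ⧸ I) ⧸ Ideal.span {Ideal.Quotient.mk I h} →+* P' ⧸ I' :=
    Ideal.Quotient.lift _ φ (fun a ha => hker ha)
  have hφ' : Function.Surjective φ' := by
    intro b
    obtain ⟨a, rfl⟩ := hφ b
    exact ⟨Ideal.Quotient.mk _ a, by simp [φ']⟩
  exact ringKrullDim_le_of_surjective φ' hφ'

section Ring

variable {A C : Type u} [CommRing A] [CommRing C] [Algebra A C]

/-- The local rings of the fibres of a finite type algebra are Noetherian. -/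
theorem isNoetherianRing_fibre_localization [Algebra.FiniteType A C] (p : Ideal A) [p.IsPrime]
    (q : Ideal C) [q.IsPrime] (hq : q.under A = p) :
    IsNoetherianRing (Localization.AtPrime q ⧸ p.map (algebraMap A (Localization.AtPrime q))) := by
  obtain ⟨Q, hQprime, rfl⟩ : ∃ Q : Ideal (p.Fiber C), ∃ _ : Q.IsPrime,
      Q.comap (Algebra.TensorProduct.includeRight : C →ₐ[A] p.Fiber C) = q := by
    let Q := PrimeSpectrum.primesOverOrderIsoFiber A C p ⟨q, ⟨inferInstance, ⟨hq.symm⟩⟩⟩
    refine ⟨Q.asIdeal, Q.isPrime, ?_⟩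
    have h := PrimeSpectrum.coe_primesOverOrderIsoFiber_symm_apply p Q
    rw [← h]
    simp [Q]
  have hlo := comap_includeRight_liesOver p Q
  let _ := Localization.AtPrime.algebraOfLiesOver p
    (Q.comap (Algebra.TensorProduct.includeRight : C →ₐ[A] p.Fiber C))
  let eC := Ideal.Fiber.localizationAlgEquivQuotient p Q
  have h1 : IsNoetherianRing (p.Fiber C) :=
    Algebra.FiniteType.isNoetherianRing p.ResidueField (p.Fiber C)
  have h2 : IsNoetherianRing (Localization.AtPrime Q) :=
    IsLocalization.isNoetherianRing Q.primeCompl _ h1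
  exact isNoetherianRing_of_ringEquiv _ eC.toRingEquiv

end Ring

/-- For a smooth morphism, `O_{X,x} / m_{f x} O_{X,x}` is a Noetherian domain. -/
theorem isDomain_isNoetherianRing_fibreQuot {X S : Scheme.{u}} (f : X ⟶ S) [Smooth f] (x : X) :
    IsDomain (X.presheaf.stalk x ⧸ Ideal.map (f.stalkMap x).hom
        (IsLocalRing.maximalIdeal (S.presheaf.stalk (f x)))) ∧
    IsNoetherianRing (X.presheaf.stalk x ⧸ Ideal.map (f.stalkMap x).hom
        (IsLocalRing.maximalIdeal (S.presheaf.stalk (f x)))) := by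
  obtain ⟨_, ⟨S₀, hS₀, rfl⟩, hxS₀, -⟩ :=
    S.isBasis_affineOpens.exists_subset_of_mem_open (Set.mem_univ (f x)) isOpen_univ
  obtain ⟨_, ⟨V, hV, rfl⟩, hxV, hVS⟩ :=
    X.isBasis_affineOpens.exists_subset_of_mem_open hxS₀ (S₀.2.preimage f.continuous)
  have hsm := f.smooth_appLE hS₀ hV hVS
  let _ := (f.appLE S₀ V hVS).hom.toAlgebra
  have : Algebra.Smooth Γ(S, S₀) Γ(X, V) := hsm
  obtain ⟨e⟩ := nonempty_chart_quotient_equiv f x hS₀ hV hVS hxV
  have hq := congr($(IsAffineOpen.comap_primeIdealOf_appLE S₀ hS₀ V hV hVS hxV).1)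
  have hdom := isDomain_fibre_localization (hS₀.primeIdealOf ⟨f x, hVS hxV⟩).asIdeal
    (hV.primeIdealOf ⟨x, hxV⟩).asIdeal hq
  have hnoeth := isNoetherianRing_fibre_localization (hS₀.primeIdealOf ⟨f x, hVS hxV⟩).asIdeal
    (hV.primeIdealOf ⟨x, hxV⟩).asIdeal hq
  exact ⟨e.symm.toMulEquiv.isDomain _, isNoetherianRing_of_ringEquiv _ e⟩

set_option backward.isDefEq.respectTransparency false in
/-- If a smooth morphism is unramified at `x` (on stalks), it is étale on a basic open
neighbourhood of `x` in any affine chart. -/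
theorem exists_etale_basicOpen {X S : Scheme.{u}} (f : X ⟶ S) [Smooth f] (x : X)
    (H : (f.stalkMap x).hom.FormallyUnramified) {S₀ : S.Opens} (hS₀ : IsAffineOpen S₀)
    {V : X.Opens} (hV : IsAffineOpen V) (hVS : V ≤ f ⁻¹ᵁ S₀) (hxV : x ∈ V) :
    ∃ r : Γ(X, V), x ∈ X.basicOpen r ∧
      (f.appLE S₀ (X.basicOpen r) ((X.basicOpen_le r).trans hVS)).hom.Etale := by
  have hft : (f.appLE S₀ V hVS).hom.FiniteType :=
    RingHom.FiniteType.of_finitePresentation (f.smooth_appLE hS₀ hV hVS).finitePresentation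
  algebraize [(f.appLE S₀ V hVS).hom]
  let p := (hS₀.primeIdealOf ⟨f x, hVS hxV⟩).asIdeal
  let q := (hV.primeIdealOf ⟨x, hxV⟩).asIdeal
  have : q.LiesOver p :=
    ⟨congr($(IsAffineOpen.comap_primeIdealOf_appLE S₀ hS₀ V hV hVS hxV).1).symm⟩
  let := Localization.AtPrime.algebraOfLiesOver p q
  have h1 : Algebra.FormallyUnramified (Localization.AtPrime p) (Localization.AtPrime q) := by
    rw [← RingHom.formallyUnramified_algebraMap]
    exact (RingHom.FormallyUnramified.respectsIso.arrow_mk_iso_iff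
      (IsAffineOpen.arrowStalkMapIso f S₀ hS₀ V hV hVS hxV)).mp H
  have h2 : Algebra.IsUnramifiedAt Γ(S, S₀) q :=
    Algebra.FormallyUnramified.comp _ (Localization.AtPrime p) _
  obtain ⟨r, hrq, hr⟩ := Algebra.exists_formallyUnramified_of_isUnramifiedAt (R := Γ(S, S₀)) q
  refine ⟨r, ?_, ?_⟩
  · rwa [← PrimeSpectrum.mem_basicOpen, IsAffineOpen.primeIdealOf,
      ← hV.fromSpec_preimage_basicOpen, Scheme.Hom.mem_preimage, ← Scheme.Hom.comp_apply,
      IsAffineOpen.isoSpec_hom, IsAffineOpen.toSpecΓ_fromSpec] at hrq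
  · rw [RingHom.etale_iff_formallyUnramified_and_smooth]
    refine ⟨?_, f.smooth_appLE hS₀ (hV.basicOpen r) _⟩
    have := hV.isLocalization_basicOpen r
    rw [← RingHom.formallyUnramified_algebraMap] at hr
    convert!
      RingHom.FormallyUnramified.respectsIso.1 _
        (IsLocalization.algEquiv (.powers r) _ Γ(X, X.basicOpen r)).toRingEquiv hr
    ext a
    dsimp
    simp only [IsScalarTower.algebraMap_apply Γ(S, S₀) Γ(X, V) (Localization _)]
    erw [AlgEquiv.commutes]
    simp only [RingHom.algebraMap_toAlgebra, ← CommRingCat.comp_apply, Scheme.Hom.appLE_map]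

/-- An étale ring map is quasi-finite. -/
theorem quasiFinite_of_etale {R A : Type u} [CommRing R] [CommRing A] (φ : R →+* A)
    (h : φ.Etale) : φ.QuasiFinite := by
  algebraize [φ]
  have : Algebra.FormallyUnramified R A := inferInstance
  have : Algebra.EssFiniteType R A := inferInstance
  exact (inferInstance : Algebra.QuasiFinite R A)

/-- **Base case.** A smooth morphism which is unramified at `x` on stalks is étale on an open
neighbourhood of `x` meeting the fibre only in `x`. -/
theorem exists_etale_nbhd {X S : Scheme.{u}} (f : X ⟶ S) [Smooth f] (x : X)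
    (H : (f.stalkMap x).hom.FormallyUnramified) :
    ∃ (Z : Scheme.{u}) (i : Z ⟶ X) (z : Z), IsImmersion i ∧ Etale (i ≫ f) ∧ i z = x ∧
      ∀ z' : ↥Z, f (i z') = f x → z' = z := by
  obtain ⟨_, ⟨S₀, hS₀, rfl⟩, hxS₀, -⟩ :=
    S.isBasis_affineOpens.exists_subset_of_mem_open (Set.mem_univ (f x)) isOpen_univ
  obtain ⟨_, ⟨V, hV, rfl⟩, hxV, hVS⟩ :=
    X.isBasis_affineOpens.exists_subset_of_mem_open hxS₀ (S₀.2.preimage f.continuous)
  obtain ⟨r, hxr, het⟩ := exists_etale_basicOpen f x H hS₀ hV hVS hxV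
  have hW : IsAffineOpen (X.basicOpen r) := hV.basicOpen r
  have hWS : X.basicOpen r ≤ f ⁻¹ᵁ S₀ := (X.basicOpen_le r).trans hVS
  let g : Spec Γ(X, X.basicOpen r) ⟶ S := hW.fromSpec ≫ f
  have hg : g = Spec.map (f.appLE S₀ (X.basicOpen r) hWS) ≫ hS₀.fromSpec :=
    (hS₀.SpecMap_appLE_fromSpec f hW hWS).symm
  have hg1 : Etale (Spec.map (f.appLE S₀ (X.basicOpen r) hWS)) := by
    rw [HasRingHomProperty.Spec_iff (P := @Etale)]
    exact het
  have hg2 : LocallyQuasiFinite (Spec.map (f.appLE S₀ (X.basicOpen r) hWS)) := by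
    rw [HasRingHomProperty.Spec_iff (P := @LocallyQuasiFinite)]
    exact quasiFinite_of_etale _ het
  have hgE : Etale g := by rw [hg]; infer_instance
  have hgQ : LocallyQuasiFinite g := by rw [hg]; infer_instance
  obtain ⟨z₀, hz₀⟩ : ∃ z₀ : Spec Γ(X, X.basicOpen r), hW.fromSpec z₀ = x := by
    have : x ∈ Set.range hW.fromSpec := by rw [hW.range_fromSpec]; exact hxr
    exact this
  have hdisc := g.isDiscrete_preimage_singleton (g z₀)
  rw [isDiscrete_iff_forall_mem_exists_isOpen] at hdisc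
  obtain ⟨N, hNo, hN⟩ := hdisc z₀ rfl
  let N' : (Spec Γ(X, X.basicOpen r)).Opens := ⟨N, hNo⟩
  have hz₀N : z₀ ∈ N' := by
    have : z₀ ∈ N ∩ g ⁻¹' {g z₀} := by rw [hN]; rfl
    exact this.1
  refine ⟨N'.toScheme, N'.ι ≫ hW.fromSpec, ⟨z₀, hz₀N⟩, inferInstance, ?_, ?_, ?_⟩
  · rw [Category.assoc]
    change Etale (N'.ι ≫ g)
    infer_instance
  · rw [Scheme.Hom.comp_apply]
    exact hz₀
  · intro z' hz'
    have h1 : (N'.ι z') ∈ N ∩ g ⁻¹' {g z₀} := by
      refine ⟨z'.2, ?_⟩
      rw [Set.mem_preimage, Set.mem_singleton_iff]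
      change f (hW.fromSpec (N'.ι z')) = f (hW.fromSpec z₀)
      rw [hz₀, ← hz']
      rfl
    rw [hN, Set.mem_singleton_iff] at h1
    exact Subtype.ext h1

/-- Sections of an affine open `U` killed by `φ` pull back to zero along
`Spec B ⟶ Spec Γ(X, U) ⟶ X`. -/
theorem comp_fromSpec_app_eq_zero {X : Scheme.{u}} {U : X.Opens} (hU : IsAffineOpen U)
    {B : CommRingCat.{u}} (φ : Γ(X, U) ⟶ B) (a : Γ(X, U)) (ha : φ a = 0) :
    (Spec.map φ ≫ hU.fromSpec).app U a = 0 := by
  have h1 : (Spec.map φ ≫ hU.fromSpec).app U =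
      φ ≫ (Scheme.ΓSpecIso B).inv ≫ (Spec B).presheaf.map (homOfLE le_top).op := by
    rw [Scheme.Hom.comp_app, hU.fromSpec_app_self, Category.assoc, Scheme.Hom.naturality,
      ← Category.assoc, ← Category.assoc]
    erw [← Scheme.ΓSpecIso_inv_naturality φ]
    rfl
  rw [h1, CommRingCat.comp_apply, ha, map_zero]

/-- Dimension drop along a preimmersion killing a fibrewise nonzerodivisor. -/
theorem ringKrullDim_fibreQuot_succ_le {X Y S : Scheme.{u}} (f : X ⟶ S) (j : Y ⟶ X)
    [IsPreimmersion j] (y : Y) (h : X.presheaf.stalk (j y)) (hh : j.stalkMap y h = 0)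
    (hreg : Ideal.Quotient.mk (Ideal.map (f.stalkMap (j y)).hom
        (maximalIdeal (S.presheaf.stalk (f (j y))))) h ∈
      nonZeroDivisors (X.presheaf.stalk (j y) ⧸ Ideal.map (f.stalkMap (j y)).hom
        (maximalIdeal (S.presheaf.stalk (f (j y)))))) :
    ringKrullDim (Y.presheaf.stalk y ⧸ Ideal.map ((j ≫ f).stalkMap y).hom
        (maximalIdeal (S.presheaf.stalk ((j ≫ f) y)))) + 1 ≤
      ringKrullDim (X.presheaf.stalk (j y) ⧸ Ideal.map (f.stalkMap (j y)).hom
        (maximalIdeal (S.presheaf.stalk (f (j y))))) := by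
  refine ringKrullDim_quotient_succ_le _ _ (j.stalkMap y).hom (j.stalkMap_surjective y) ?_ h hh hreg
  rw [Ideal.map_map]
  apply le_of_eq
  have : (j.stalkMap y).hom.comp (f.stalkMap (j y)).hom = ((j ≫ f).stalkMap y).hom := by
    rw [Scheme.Hom.stalkMap_comp]
    rfl
  rw [this]
  rfl

open Groth.Agent.Lib.T2H2.SliceFlatSch Groth.Agent.Lib.T2H2.SliceSmoothSch in
/-- **Slicing step.** -/
theorem exists_slice_data {X S : Scheme.{u}} (f : X ⟶ S) [Smooth f] (x : X)
    (hsep : letI := (f.residueFieldMap x).hom.toAlgebra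
      Algebra.IsSeparable (S.residueField (f x)) (X.residueField x))
    (hne : Ideal.map (f.stalkMap x).hom (maximalIdeal (S.presheaf.stalk (f x))) ≠
      maximalIdeal (X.presheaf.stalk x)) :
    ∃ (Y : Scheme.{u}) (j : Y ⟶ X) (y : Y), IsImmersion j ∧ Smooth (j ≫ f) ∧ j y = x ∧
      ringKrullDim (Y.presheaf.stalk y ⧸ Ideal.map ((j ≫ f).stalkMap y).hom
        (maximalIdeal (S.presheaf.stalk ((j ≫ f) y)))) + 1 ≤
      ringKrullDim (X.presheaf.stalk x ⧸ Ideal.map (f.stalkMap x).hom
        (maximalIdeal (S.presheaf.stalk (f x)))) := by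
  obtain ⟨_, ⟨S₀, hS₀, rfl⟩, hxS₀, -⟩ :=
    S.isBasis_affineOpens.exists_subset_of_mem_open (Set.mem_univ (f x)) isOpen_univ
  obtain ⟨_, ⟨V, hV, rfl⟩, hxV, hVS⟩ :=
    X.isBasis_affineOpens.exists_subset_of_mem_open hxS₀ (S₀.2.preimage f.continuous)
  have hsmV := f.smooth_appLE hS₀ hV hVS
  have hW : Smooth ((⊤ : X.Opens).ι ≫ f) := inferInstance
  obtain ⟨h, hhm, hd⟩ : ∃ h ∈ maximalIdeal (X.presheaf.stalk x),
      letI := (f.stalkMap x).hom.toAlgebra
      (1 : IsLocalRing.ResidueField (X.presheaf.stalk x)) ⊗ₜ[X.presheaf.stalk x]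
        (KaehlerDifferential.D (S.presheaf.stalk (f x)) (X.presheaf.stalk x) h) ≠ 0 := by
    let _ := (f.stalkMap x).hom.toAlgebra
    have : IsLocalHom (algebraMap ↑(S.presheaf.stalk (f x)) ↑(X.presheaf.stalk x)) :=
      inferInstanceAs (IsLocalHom (f.stalkMap x).hom)
    have hfs : Algebra.FormallySmooth ↑(S.presheaf.stalk (f x)) ↑(X.presheaf.stalk x) :=
      Groth.Agent.Lib.Helper20.FlatDesc.formallySmooth_stalkMap_of_nbhd f x ⊤ trivial
    have heft : Algebra.EssFiniteType ↑(S.presheaf.stalk (f x)) ↑(X.presheaf.stalk x) :=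
      Groth.Agent.Lib.T2H2.SliceSepSch.essFiniteType_stalkMap_of_chart f x hS₀ hV hVS hxV
        (RingHom.FiniteType.of_finitePresentation hsmV.finitePresentation)
    have hsep' : letI := (f.residueFieldMap x).hom.toAlgebra
        Algebra.FormallySmooth (S.residueField (f x)) (X.residueField x) := by
      let _ := (f.residueFieldMap x).hom.toAlgebra
      have := hsep
      have := Algebra.FormallyEtale.of_isSeparable (S.residueField (f x)) (X.residueField x)
      infer_instance
    exact Groth.Agent.Lib.T2H2.SliceSep.exists_mem_maximalIdeal_D_ne_zero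
      (R := ↑(S.presheaf.stalk (f x))) (P := ↑(X.presheaf.stalk x)) hsep' hne.symm
  obtain ⟨U, hU, hxU, h', hgerm, hnzd, hsm⟩ :=
    Groth.Agent.S9725.result f x ⊤ trivial hW h hhm hd
  have hreg := fibre_nzd_of_D_ne_zero f x hS₀ hV hVS hxV hsmV h hd
  have hcl : IsClosedImmersion
      (Spec.map (CommRingCat.ofHom (Ideal.Quotient.mk (Ideal.span {h'})))) :=
    IsClosedImmersion.spec_of_surjective _ Ideal.Quotient.mk_surjective
  have hq : h' ∈ (hU.primeIdealOf ⟨x, hxU⟩).asIdeal :=
    (germ_mem_maximalIdeal_iff hU hxU h').mp (hgerm ▸ hhm)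
  obtain ⟨y, hy⟩ : ∃ y, Spec.map (CommRingCat.ofHom (Ideal.Quotient.mk (Ideal.span {h'}))) y =
      hU.primeIdealOf ⟨x, hxU⟩ := by
    have : hU.primeIdealOf ⟨x, hxU⟩ ∈ Set.range
        (PrimeSpectrum.comap (Ideal.Quotient.mk (Ideal.span {h'}))) := by
      rw [range_comap_of_surjective _ _ Ideal.Quotient.mk_surjective,
        Ideal.mk_ker, PrimeSpectrum.mem_zeroLocus, SetLike.coe_subset_coe, Ideal.span_le,
        Set.singleton_subset_iff]
      exact hq
    exact this
  have hjy : (Spec.map (CommRingCat.ofHom (Ideal.Quotient.mk (Ideal.span {h'}))) ≫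
      hU.fromSpec) y = x := by
    rw [Scheme.Hom.comp_apply, hy, hU.fromSpec_primeIdealOf]
  refine ⟨_, Spec.map (CommRingCat.ofHom (Ideal.Quotient.mk (Ideal.span {h'}))) ≫ hU.fromSpec, y,
    inferInstance, by rw [Category.assoc]; exact hsm, hjy, ?_⟩
  subst hjy
  refine ringKrullDim_fibreQuot_succ_le f _ y h ?_ hreg
  rw [← hgerm, Scheme.Hom.germ_stalkMap_apply, comp_fromSpec_app_eq_zero hU _ h' ?_, map_zero]
  simp

/-- The case where the fibre local ring is a field. -/
theorem exists_of_map_eq {X S : Scheme.{u}} (f : X ⟶ S) [Smooth f] (x : X)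
    (hsep : letI := (f.residueFieldMap x).hom.toAlgebra
      Algebra.IsSeparable (S.residueField (f x)) (X.residueField x))
    (hm : Ideal.map (f.stalkMap x).hom (maximalIdeal (S.presheaf.stalk (f x))) =
      maximalIdeal (X.presheaf.stalk x)) :
    ∃ (Z : Scheme.{u}) (i : Z ⟶ X) (z : Z), IsImmersion i ∧ Etale (i ≫ f) ∧ i z = x ∧
      ∀ z' : ↥Z, f (i z') = f x → z' = z := by
  apply exists_etale_nbhd f x
  obtain ⟨_, ⟨S₀, hS₀, rfl⟩, hxS₀, -⟩ :=
    S.isBasis_affineOpens.exists_subset_of_mem_open (Set.mem_univ (f x)) isOpen_univ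
  obtain ⟨_, ⟨V, hV, rfl⟩, hxV, hVS⟩ :=
    X.isBasis_affineOpens.exists_subset_of_mem_open hxS₀ (S₀.2.preimage f.continuous)
  have hsmV := f.smooth_appLE hS₀ hV hVS
  let _ := (f.stalkMap x).hom.toAlgebra
  have : IsLocalHom (algebraMap ↑(S.presheaf.stalk (f x)) ↑(X.presheaf.stalk x)) :=
    inferInstanceAs (IsLocalHom (f.stalkMap x).hom)
  have heft : Algebra.EssFiniteType ↑(S.presheaf.stalk (f x)) ↑(X.presheaf.stalk x) :=
    Groth.Agent.Lib.T2H2.SliceSepSch.essFiniteType_stalkMap_of_chart f x hS₀ hV hVS hxV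
      (RingHom.FiniteType.of_finitePresentation hsmV.finitePresentation)
  have hsep' : Algebra.IsSeparable (ResidueField ↑(S.presheaf.stalk (f x)))
      (ResidueField ↑(X.presheaf.stalk x)) := by
    refine @Algebra.IsSeparable.of_equiv_equiv (S.residueField (f x)) (X.residueField x)
      (ResidueField ↑(S.presheaf.stalk (f x))) (ResidueField ↑(X.presheaf.stalk x)) _ _ _ _
      (f.residueFieldMap x).hom.toAlgebra _ (RingEquiv.refl _) (RingEquiv.refl _) ?_ hsep
    ext a
    obtain ⟨a, rfl⟩ := IsLocalRing.residue_surjective a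
    rfl
  exact Algebra.FormallyUnramified.of_map_maximalIdeal hm

/-- Separability of the residue field extension passes to an immersed subscheme. -/
theorem isSeparable_comp_of_isImmersion {X Y S : Scheme.{u}} (f : X ⟶ S) (j : Y ⟶ X)
    [IsImmersion j] (y : Y)
    (hsep : letI := (f.residueFieldMap (j y)).hom.toAlgebra
      Algebra.IsSeparable (S.residueField (f (j y))) (X.residueField (j y))) :
    letI := ((j ≫ f).residueFieldMap y).hom.toAlgebra
    Algebra.IsSeparable (S.residueField ((j ≫ f) y)) (Y.residueField y) := by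
  have hsurj : Function.Surjective (j.residueFieldMap y).hom := by
    intro b
    obtain ⟨b', rfl⟩ := IsLocalRing.residue_surjective b
    obtain ⟨a, rfl⟩ := j.stalkMap_surjective y b'
    exact ⟨IsLocalRing.residue _ a, rfl⟩
  have hbij : Function.Bijective (j.residueFieldMap y).hom :=
    ⟨(j.residueFieldMap y).hom.injective, hsurj⟩
  let _ := (f.residueFieldMap (j y)).hom.toAlgebra
  let _ := ((j ≫ f).residueFieldMap y).hom.toAlgebra
  have := hsep
  refine Algebra.IsSeparable.of_equiv_equiv (RingEquiv.refl (S.residueField (f (j y))))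
    (RingEquiv.ofBijective (j.residueFieldMap y).hom hbij) ?_
  ext a
  simp only [RingHom.algebraMap_toAlgebra]
  rw [Scheme.residueFieldMap_comp]
  rfl

/-- cancellation of `+ 1` in `WithBot ℕ∞` against a natural number. -/
theorem le_of_add_one_le_add_one {a : WithBot ℕ∞} {n : ℕ} (h : a + 1 ≤ (n : WithBot ℕ∞) + 1) :
    a ≤ n := by
  induction a using WithBot.recBotCoe with
  | bot => exact bot_le
  | coe e =>
    induction e using ENat.recTopCoe with
    | top =>
      exfalso
      have h1 : ((⊤ : ℕ∞) : WithBot ℕ∞) + 1 = ((⊤ : ℕ∞) : WithBot ℕ∞) := by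
        rw [← WithBot.coe_one, ← WithBot.coe_add, top_add]
      have h2 : ((n : ℕ∞) : WithBot ℕ∞) + 1 = (((n + 1 : ℕ) : ℕ∞) : WithBot ℕ∞) := by
        push_cast; rfl
      rw [h1] at h
      have h3 : ((⊤ : ℕ∞) : WithBot ℕ∞) ≤ (((n + 1 : ℕ) : ℕ∞) : WithBot ℕ∞) := h.trans (le_of_eq h2)
      rw [WithBot.coe_le_coe, top_le_iff] at h3
      exact ENat.natCast_ne_top _ h3
    | coe m =>
      have h1 : (((m + 1 : ℕ) : ℕ∞) : WithBot ℕ∞) ≤ (((n + 1 : ℕ) : ℕ∞) : WithBot ℕ∞) := by
        push_cast; exact h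
      rw [WithBot.coe_le_coe, Nat.cast_le] at h1
      have h2 : m ≤ n := by omega
      exact_mod_cast h2

/-- The induction. -/
theorem exists_etale_slice_aux (n : ℕ) : ∀ {X S : Scheme.{u}} (f : X ⟶ S) [Smooth f] (x : X)
    (_ : ∀ x' : X, f x' = f x → x ⤳ x' → x' = x)
    (_ : letI := (f.residueFieldMap x).hom.toAlgebra
      Algebra.IsSeparable (S.residueField (f x)) (X.residueField x))
    (_ : ringKrullDim (X.presheaf.stalk x ⧸ Ideal.map (f.stalkMap x).hom
        (maximalIdeal (S.presheaf.stalk (f x)))) ≤ n),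
    ∃ (Z : Scheme.{u}) (i : Z ⟶ X) (z : Z), IsImmersion i ∧ Etale (i ≫ f) ∧ i z = x ∧
      ∀ z' : ↥Z, f (i z') = f x → z' = z := by
  induction n with
  | zero =>
    intro X S f _ x hcl hsep hdim
    apply exists_of_map_eq f x hsep
    obtain ⟨hdom, -⟩ := isDomain_isNoetherianRing_fibreQuot f x
    have hK : Ring.KrullDimLE 0 (X.presheaf.stalk x ⧸ Ideal.map (f.stalkMap x).hom
        (maximalIdeal (S.presheaf.stalk (f x)))) := (Ring.krullDimLE_iff).mpr (by simpa using hdim)
    have hfield : IsField (X.presheaf.stalk x ⧸ Ideal.map (f.stalkMap x).hom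
        (maximalIdeal (S.presheaf.stalk (f x)))) := Ring.KrullDimLE.isField_of_isDomain
    have hmax := (Ideal.Quotient.maximal_ideal_iff_isField_quotient _).mpr hfield
    exact IsLocalRing.eq_maximalIdeal hmax
  | succ n ih =>
    intro X S f _ x hcl hsep hdim
    by_cases hm : Ideal.map (f.stalkMap x).hom (maximalIdeal (S.presheaf.stalk (f x))) =
        maximalIdeal (X.presheaf.stalk x)
    · exact exists_of_map_eq f x hsep hm
    · obtain ⟨Y, j, y, hjimm, hjsm, hjy, hdrop⟩ := exists_slice_data f x hsep hm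
      subst hjy
      have hdim' : ringKrullDim (Y.presheaf.stalk y ⧸ Ideal.map ((j ≫ f).stalkMap y).hom
          (maximalIdeal (S.presheaf.stalk ((j ≫ f) y)))) ≤ n := by
        apply le_of_add_one_le_add_one
        refine hdrop.trans ?_
        push_cast at hdim
        exact hdim
      have hcl' : ∀ y' : Y, (j ≫ f) y' = (j ≫ f) y → y ⤳ y' → y' = y := by
        intro y' hy' hsp
        apply j.isEmbedding.injective
        exact hcl (j y') hy' (hsp.map j.continuous)
      obtain ⟨Z, i, z, hi, het, hiz, huniq⟩ := ih (j ≫ f) y hcl'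
        (isSeparable_comp_of_isImmersion f j y hsep) hdim'
      refine ⟨Z, i ≫ j, z, inferInstance, ?_, ?_, ?_⟩
      · rw [Category.assoc]; exact het
      · rw [Scheme.Hom.comp_apply, hiz]
      · intro z' hz'
        exact huniq z' hz'

/-- **Étale slices through closed points of smooth fibres.** -/
theorem exists_etale_slice {X S : Scheme.{u}} (f : X ⟶ S) [Smooth f] (x : X)
    (hcl : IsClosed ({f.asFiber x} : Set ↑(f.fiber (f x))))
    (hsep : letI := (f.residueFieldMap x).hom.toAlgebra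
      Algebra.IsSeparable (S.residueField (f x)) (X.residueField x)) :
    ∃ (Z : Scheme.{u}) (i : Z ⟶ X) (z : Z), IsImmersion i ∧ Etale (i ≫ f) ∧ i z = x ∧
      ∀ z' : ↥Z, f (i z') = f x → z' = z := by
  obtain ⟨hdom, hnoeth⟩ := isDomain_isNoetherianRing_fibreQuot f x
  have hloc : IsLocalRing (X.presheaf.stalk x ⧸ Ideal.map (f.stalkMap x).hom
      (maximalIdeal (S.presheaf.stalk (f x)))) :=
    IsLocalRing.of_surjective' _ Ideal.Quotient.mk_surjective
  have hfin := ringKrullDim_lt_top (R := X.presheaf.stalk x ⧸ Ideal.map (f.stalkMap x).hom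
      (maximalIdeal (S.presheaf.stalk (f x))))
  obtain ⟨n, hn⟩ : ∃ n : ℕ, ringKrullDim (X.presheaf.stalk x ⧸ Ideal.map (f.stalkMap x).hom
      (maximalIdeal (S.presheaf.stalk (f x)))) ≤ n := by
    generalize ringKrullDim (X.presheaf.stalk x ⧸ Ideal.map (f.stalkMap x).hom
      (maximalIdeal (S.presheaf.stalk (f x)))) = d at hfin
    induction d using WithBot.recBotCoe with
    | bot => exact ⟨0, bot_le⟩
    | coe a =>
      induction a using ENat.recTopCoe with
      | top => exact absurd hfin (lt_irrefl _)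
      | coe m => exact ⟨m, le_rfl⟩
  exact exists_etale_slice_aux n f x ((isClosed_singleton_asFiber_iff f x).mp hcl) hsep hn

end Groth.Agent.Lib.T2H2.EtSlice
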