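import Mathlib
import Groth.Prelude.Def_Mor2
import Groth.Agent.Lib.Helper5RegImmComp

/-!
# Regular closed immersions: isomorphisms, restriction to opens, principal nonzerodivisor quotients
-/

set_option autoImplicit false
universe u

namespace Groth.Agent.Lib.T2H2.RegImmRestrict

open AlgebraicGeometry CategoryTheory Limits RingTheory.Sequence TopologicalSpace


/-- An isomorphism is a regular closed immersion (with the empty regular sequence). -/
theorem isRegularClosedImmersion_of_isIso {Z W : Scheme.{u}} (e : Z ⟶ W) [IsIso e] :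
    Mor2.IsRegularClosedImmersion e := by
  refine ⟨inferInstance, fun z => ?_⟩
  obtain ⟨_, ⟨U, hU, rfl⟩, hzU, -⟩ :=
    W.isBasis_affineOpens.exists_subset_of_mem_open (Set.mem_univ (e z)) isOpen_univ
  have hne : Nontrivial Γ(W, U) := by
    have : Nonempty U := ⟨⟨e z, hzU⟩⟩
    have : Nonempty (U : Scheme.{u}) := this
    exact (Scheme.component_nontrivial W U)
  refine ⟨U, hU, hzU, [], ⟨IsWeaklyRegular.nil _ _, ?_⟩, ?_⟩
  · rw [Ideal.ofList_nil, Submodule.bot_smul]
    exact bot_ne_top.symm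
  · rw [Scheme.Hom.ker_apply, Ideal.ofList_nil]
    exact (RingHom.injective_iff_ker_eq_bot _).mp
      (ConcreteCategory.bijective_of_isIso (e.app U)).1


open Groth.Agent.Lib.Helper5.RegImmComp

/-- The restriction of a regular closed immersion over an open subscheme of the target is a regular
closed immersion. -/
theorem isRegularClosedImmersion_morphismRestrict {Y T : Scheme.{u}} (φ : Y ⟶ T)
    (hφ : Mor2.IsRegularClosedImmersion φ) (V : T.Opens) :
    Mor2.IsRegularClosedImmersion (φ ∣_ V) := by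
  obtain ⟨hc, hreg⟩ := hφ
  have := hc
  refine ⟨inferInstance, fun z => ?_⟩
  -- the point of `Y`
  let y : Y := (φ ⁻¹ᵁ V).ι z
  have hy : V.ι ((φ ∣_ V) z) = φ y := by
    rw [← Scheme.Hom.comp_apply, morphismRestrict_ι, Scheme.Hom.comp_apply]
  obtain ⟨U₀, hU₀, hyU₀, rs, hrs, hker⟩ := hreg y
  -- an affine open of `V` around the point, mapping into `U₀`
  obtain ⟨_, ⟨U₁', hU₁', rfl⟩, hzU₁', hsub⟩ :=
    (V : Scheme.{u}).isBasis_affineOpens.exists_subset_of_mem_open
      (show (φ ∣_ V) z ∈ (V.ι ⁻¹ᵁ U₀ : Set V) from by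
        change V.ι ((φ ∣_ V) z) ∈ U₀
        rw [hy]; exact hyU₀) (V.ι ⁻¹ᵁ U₀).isOpen
  have hU₁ : IsAffineOpen (V.ι ''ᵁ U₁') := hU₁'.image_of_isOpenImmersion V.ι
  have hle : V.ι ''ᵁ U₁' ≤ U₀ := by
    rintro _ ⟨w, hw, rfl⟩
    exact hsub hw
  have hflat := flat_map_of_le hU₀ hU₁ hle
  have hker₁ : φ.ker.ideal ⟨V.ι ''ᵁ U₁', hU₁⟩ =
      Ideal.ofList (rs.map (T.presheaf.map (homOfLE hle).op).hom) := by
    rw [← φ.ker.map_ideal (U := ⟨V.ι ''ᵁ U₁', hU₁⟩) (V := ⟨U₀, hU₀⟩) hle, hker, Ideal.map_ofList]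
    rfl
  -- the kernels agree
  have hkerEq : ∀ a : Γ(T, V.ι ''ᵁ U₁'), ((φ ∣_ V).app U₁').hom a = 0 ↔
      (φ.app (V.ι ''ᵁ U₁')).hom a = 0 := by
    intro a
    have h1 := congr($(morphismRestrict_app φ V U₁') a)
    rw [CommRingCat.comp_apply] at h1
    have hinj : Function.Injective (Y.presheaf.map
        (eqToHom (image_morphismRestrict_preimage φ V U₁')).op).hom :=
      (ConcreteCategory.bijective_of_isIso _).1
    constructor
    · intro h0
      apply hinj
      rw [map_zero]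
      exact h1.symm.trans h0
    · intro h0
      refine h1.trans ?_
      erw [h0, map_zero]
      try rfl
  have hne : Nontrivial Γ((φ ⁻¹ᵁ V : Scheme.{u}), (φ ∣_ V) ⁻¹ᵁ U₁') := by
    have : Nonempty ((φ ∣_ V) ⁻¹ᵁ U₁' : Scheme.{u}) := ⟨⟨z, hzU₁'⟩⟩
    exact Scheme.component_nontrivial _ _
  have hregT : IsRegular Γ(T, V.ι ''ᵁ U₁') (rs.map (T.presheaf.map (homOfLE hle).op).hom) := by
    refine ⟨isWeaklyRegular_map_of_flat _ hflat rs hrs.toIsWeaklyRegular, ?_⟩
    rw [smul_eq_mul, Ideal.mul_top, ← hker₁, Scheme.Hom.ker_apply]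
    intro htop
    have h1 : (1 : Γ(T, V.ι ''ᵁ U₁')) ∈ RingHom.ker (φ.app (V.ι ''ᵁ U₁')).hom := by
      rw [← htop]; trivial
    rw [RingHom.mem_ker, ← hkerEq] at h1
    erw [map_one] at h1
    exact one_ne_zero h1
  have hkerV : (φ ∣_ V).ker.ideal ⟨U₁', hU₁'⟩ =
      Ideal.ofList (rs.map (T.presheaf.map (homOfLE hle).op).hom) := by
    rw [← hker₁]
    ext a
    rw [Scheme.Hom.ker_apply, Scheme.Hom.ker_apply, RingHom.mem_ker]
    exact hkerEq a
  exact ⟨U₁', hU₁', hzU₁', rs.map (T.presheaf.map (homOfLE hle).op).hom, hregT, hkerV⟩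



/-- The closed immersion `Spec A/(h) ⟶ Spec A` for a nonzerodivisor `h` is a regular closed
immersion. -/
theorem isRegularClosedImmersion_SpecMap_mk (A : CommRingCat.{u}) (h : A)
    (hh : h ∈ nonZeroDivisors A) :
    Mor2.IsRegularClosedImmersion
      (Spec.map (CommRingCat.ofHom (Ideal.Quotient.mk (Ideal.span {h})))) := by
  have hcl : IsClosedImmersion
      (Spec.map (CommRingCat.ofHom (Ideal.Quotient.mk (Ideal.span {h})))) :=
    IsClosedImmersion.spec_of_surjective _ Ideal.Quotient.mk_surjective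
  refine ⟨hcl, fun z => ?_⟩
  have hker : RingHom.ker ((Spec.map (CommRingCat.ofHom
      (Ideal.Quotient.mk (Ideal.span {h})))).appTop).hom =
      Ideal.span {(Scheme.ΓSpecIso A).inv.hom h} := by
    have hnat := Scheme.ΓSpecIso_naturality
      (CommRingCat.ofHom (Ideal.Quotient.mk (Ideal.span {h})))
    ext a
    rw [RingHom.mem_ker]
    have h2 : (Scheme.ΓSpecIso (CommRingCat.of (A ⧸ Ideal.span {h}))).hom.hom
        (((Spec.map (CommRingCat.ofHom (Ideal.Quotient.mk (Ideal.span {h})))).appTop).hom a) =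
        Ideal.Quotient.mk (Ideal.span {h}) ((Scheme.ΓSpecIso A).hom.hom a) :=
      congr($hnat a)
    have h1 : ((Spec.map (CommRingCat.ofHom (Ideal.Quotient.mk (Ideal.span {h})))).appTop).hom a = 0 ↔
        Ideal.Quotient.mk (Ideal.span {h}) ((Scheme.ΓSpecIso A).hom.hom a) = 0 := by
      constructor
      · intro h0
        rw [← h2, h0, map_zero]
      · intro h0
        have hinj : Function.Injective
            (Scheme.ΓSpecIso (CommRingCat.of (A ⧸ Ideal.span {h}))).hom.hom :=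
          (ConcreteCategory.bijective_of_isIso _).1
        apply hinj
        rw [map_zero]
        exact h2.trans h0
    rw [h1, Ideal.Quotient.eq_zero_iff_mem, Ideal.mem_span_singleton', Ideal.mem_span_singleton']
    constructor
    · rintro ⟨b, hb⟩
      refine ⟨(Scheme.ΓSpecIso A).inv.hom b, ?_⟩
      have h3 : (Scheme.ΓSpecIso A).inv.hom ((Scheme.ΓSpecIso A).hom.hom a) = a :=
        congr($((Scheme.ΓSpecIso A).hom_inv_id) a)
      rw [← h3, ← hb, map_mul]
    · rintro ⟨b, hb⟩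
      refine ⟨(Scheme.ΓSpecIso A).hom.hom b, ?_⟩
      have h3 : (Scheme.ΓSpecIso A).hom.hom ((Scheme.ΓSpecIso A).inv.hom h) = h :=
        congr($((Scheme.ΓSpecIso A).inv_hom_id) h)
      rw [← hb, map_mul]
      congr 1
      exact h3.symm
  have hnzd : IsSMulRegular Γ(Spec A, ⊤) ((Scheme.ΓSpecIso A).inv.hom h) := by
    intro a b hab
    simp only [smul_eq_mul] at hab
    have h3 : (Scheme.ΓSpecIso A).hom.hom ((Scheme.ΓSpecIso A).inv.hom h) = h :=
      congr($((Scheme.ΓSpecIso A).inv_hom_id) h)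
    have h1 : (Scheme.ΓSpecIso A).hom.hom a * h = (Scheme.ΓSpecIso A).hom.hom b * h := by
      have := congr_arg (Scheme.ΓSpecIso A).hom.hom hab
      rw [map_mul, map_mul, h3] at this
      rw [mul_comm _ h, mul_comm _ h]
      exact this
    have h2 : (Scheme.ΓSpecIso A).hom.hom a = (Scheme.ΓSpecIso A).hom.hom b := by
      have := (mem_nonZeroDivisors_iff_right.mp hh)
        ((Scheme.ΓSpecIso A).hom.hom a - (Scheme.ΓSpecIso A).hom.hom b)
        (by rw [sub_mul, h1, sub_self])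
      exact sub_eq_zero.mp this
    exact (ConcreteCategory.bijective_of_isIso (Scheme.ΓSpecIso A).hom).1 h2
  refine ⟨⊤, isAffineOpen_top _, trivial, [(Scheme.ΓSpecIso A).inv.hom h], ⟨?_, ?_⟩, ?_⟩
  · exact (isWeaklyRegular_cons_iff _ _ _).mpr ⟨hnzd, IsWeaklyRegular.nil _ _⟩
  · rw [smul_eq_mul, Ideal.mul_top, Ideal.ofList_singleton]
    intro htop
    have h1 : (1 : Γ(Spec A, ⊤)) ∈ RingHom.ker ((Spec.map (CommRingCat.ofHom
        (Ideal.Quotient.mk (Ideal.span {h})))).appTop).hom := by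
      rw [hker]
      exact htop ▸ Submodule.mem_top
    rw [RingHom.mem_ker, map_one] at h1
    have hne : Nontrivial Γ(Spec (CommRingCat.of (A ⧸ Ideal.span {h})), ⊤) := by
      have : Nonempty ((⊤ : (Spec (CommRingCat.of (A ⧸ Ideal.span {h}))).Opens) : Scheme.{u}) :=
        ⟨⟨z, trivial⟩⟩
      exact Scheme.component_nontrivial _ _
    exact one_ne_zero h1
  · rw [Scheme.Hom.ker_apply, Ideal.ofList_singleton]
    exact hker

end Groth.Agent.Lib.T2H2.RegImmRestrict
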