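import Groth.Agent.Lib.Helper28Normal
import Groth.Agent.Lib.Helper5RegImm

/-!
# Serre's condition on effective Cartier divisors (helper2, team 2)

Namespace `Groth.Agent.Lib.T2H2.SkCartier`.

* `depth_quotient_add_one`: for a nonzerodivisor `f` in the maximal ideal of a Noetherian local ring `R`,
  `depth (R/f) + 1 = depth R` (both as modules over themselves).
* `sk_quotient`: `(S_k)` at `R` gives `(S_{k-1})` at `R/f`.
-/

set_option autoImplicit false
universe u
open CategoryTheory AlgebraicGeometry IsLocalRing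
open scoped Pointwise

namespace Groth.Agent.Lib.T2H2.SkCartier

open Groth.Agent.Lib.Helper28

section Ring

variable {R : Type u} [CommRing R] [IsLocalRing R] [IsNoetherianRing R]

omit [IsNoetherianRing R] in
theorem span_ne_top {f : R} (hf : f ∈ maximalIdeal R) : Ideal.span {f} ≠ ⊤ := by
  intro h
  rw [Ideal.span_singleton_eq_top] at h
  exact hf h

theorem depth_quotient_add_one (f : R) (hf : f ∈ maximalIdeal R) (hreg : IsSMulRegular R f)
    [IsLocalRing (R ⧸ Ideal.span {f})] :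
    LocCoh.depth (R ⧸ Ideal.span {f}) (R ⧸ Ideal.span {f}) + 1 = LocCoh.depth R R := by
  have hloc : IsLocalHom (algebraMap R (R ⧸ Ideal.span {f})) :=
    IsLocalHom.of_surjective _ Ideal.Quotient.mk_surjective
  have h1 : LocCoh.depth R (R ⧸ Ideal.span {f}) =
      LocCoh.depth (R ⧸ Ideal.span {f}) (R ⧸ Ideal.span {f}) :=
    depth_eq_depth_of_isLocalHom_of_finite (A := R) (B := R ⧸ Ideal.span {f})
      (M := R ⧸ Ideal.span {f})
  rw [← h1]
  have hIM : maximalIdeal R • (⊤ : Submodule R R) ≠ ⊤ := by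
    rw [smul_eq_mul, Ideal.mul_top]
    exact Ideal.IsPrime.ne_top inferInstance
  have h2 := idealDepth_quotSMulTop_add_one (maximalIdeal R) R hIM f hf hreg
  have hspan : Ideal.span {f} = f • (⊤ : Submodule R R) := by
    simp [← Submodule.ideal_span_singleton_smul]
  have e : (R ⧸ Ideal.span {f}) ≃ₗ[R] QuotSMulTop f R :=
    Submodule.quotEquivOfEq _ _ hspan
  unfold LocCoh.depth
  rw [idealDepth_congr e, h2]

theorem sk_quotient (f : R) (hf : f ∈ maximalIdeal R) (hreg : IsSMulRegular R f)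
    [IsLocalRing (R ⧸ Ideal.span {f})] (k : ℕ)
    (h : min (k : WithBot ℕ∞) (ringKrullDim R) ≤ ((LocCoh.depth R R : ℕ∞) : WithBot ℕ∞)) :
    min ((k - 1 : ℕ) : WithBot ℕ∞) (ringKrullDim (R ⧸ Ideal.span {f})) ≤
      ((LocCoh.depth (R ⧸ Ideal.span {f}) (R ⧸ Ideal.span {f}) : ℕ∞) : WithBot ℕ∞) := by
  have hd := depth_quotient_add_one f hf hreg
  have hdim := ringKrullDim_quotient_span_singleton_succ_eq_ringKrullDim hreg hf
  rw [← hd, ← hdim] at h
  rcases Nat.eq_zero_or_pos k with rfl | hk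
  · refine le_trans (min_le_left _ _) ?_
    simp
  · obtain ⟨k', rfl⟩ : ∃ k', k = k' + 1 := ⟨k - 1, by omega⟩
    simp only [Nat.add_sub_cancel]
    have hnn : (0 : WithBot ℕ∞) ≤ ringKrullDim (R ⧸ Ideal.span {f}) := ringKrullDim_nonneg_of_nontrivial
    obtain ⟨d, hd'⟩ : ∃ d : ℕ∞, ringKrullDim (R ⧸ Ideal.span {f}) = (d : WithBot ℕ∞) := by
      cases hx : ringKrullDim (R ⧸ Ideal.span {f}) with
      | bot => rw [hx] at hnn; simp at hnn
      | coe d => exact ⟨d, rfl⟩
    rw [hd'] at h ⊢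
    have h' : min ((k' + 1 : ℕ) : ℕ∞) (d + 1) ≤
        LocCoh.depth (R ⧸ Ideal.span {f}) (R ⧸ Ideal.span {f}) + 1 := by
      have : (((k' + 1 : ℕ) : ℕ∞) : WithBot ℕ∞) = ((k' + 1 : ℕ) : WithBot ℕ∞) := rfl
      have h3 : ((min ((k' + 1 : ℕ) : ℕ∞) (d + 1) : ℕ∞) : WithBot ℕ∞) ≤
          ((LocCoh.depth (R ⧸ Ideal.span {f}) (R ⧸ Ideal.span {f}) + 1 : ℕ∞) : WithBot ℕ∞) := by
        rw [WithBot.coe_min]
        push_cast
        exact h
      exact WithBot.coe_le_coe.mp h3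
    have h4 : min (k' : ℕ∞) d ≤ LocCoh.depth (R ⧸ Ideal.span {f}) (R ⧸ Ideal.span {f}) := by
      have h5 : min ((k' + 1 : ℕ) : ℕ∞) (d + 1) = min (k' : ℕ∞) d + 1 := by
        rw [Nat.cast_add, Nat.cast_one, min_add_add_right]
      rw [h5] at h'
      exact (ENat.add_le_add_iff_right ENat.one_ne_top).mp h'
    have h6 : ((min (k' : ℕ∞) d : ℕ∞) : WithBot ℕ∞) ≤
        ((LocCoh.depth (R ⧸ Ideal.span {f}) (R ⧸ Ideal.span {f}) : ℕ∞) : WithBot ℕ∞) :=
      WithBot.coe_le_coe.mpr h4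
    rw [WithBot.coe_min] at h6
    exact h6

end Ring

end Groth.Agent.Lib.T2H2.SkCartier
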