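import Mathlib
import Groth.Prelude.Def_Mor2
import Groth.Agent.Lib.T2H2RegImmRestrict
import Groth.Agent.Lib.T2H2SkCartier
import Groth.Agent.Lib.Helper28PolyCM
import Groth.Agent.Lib.Helper5StalkSpec
import Groth.Agent.Lib.Helper5FiberStalk
import Groth.Agent.Lib.Helper20EtLocalSch
import Groth.Agent.Lib.T2H2EtSlice
import Groth.Agent.S0386
import Groth.Agent.S1348

/-!
# Slicing a Cohen–Macaulay morphism down to a quasi-finite one (helper2, team 2)

Namespace `Groth.Agent.Lib.T2H2.CMSlice`.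

* `ker_stalkMap_spec_mk`: the kernel of the stalk map of `Spec A/(h') ⟶ Spec A ⟶ X` is generated by
  the germ of `h'`.
* `isCohenMacaulayLocalRing_quotient`: CM local rings modulo a nonzerodivisor of the maximal ideal.
* `isCM_fibreQuot_of_surjective`: CM fibre rings pass to fibrewise Cartier divisors.
* `quasiFiniteAt_of_ringKrullDim_le_zero`: a point closed in its fibre with zero-dimensional fibre
  local ring is a quasi-finite point.
* `exists_of_quasiFiniteAt`: neighbourhood of a flat quasi-finite point.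
* `sliceConcl_of_comp`, `exists_cm_slice_aux`, `exists_cm_slice`: the induction.
-/

set_option autoImplicit false
universe u

namespace Groth.Agent.Lib.T2H2.CMSlice

open AlgebraicGeometry CategoryTheory Limits IsLocalRing


/-- Sections over `U` of `Spec B ⟶ Spec Γ(X, U) ⟶ X`. -/
theorem comp_fromSpec_app {X : Scheme.{u}} {U : X.Opens} (hU : IsAffineOpen U)
    {B : CommRingCat.{u}} (φ : Γ(X, U) ⟶ B) :
    (Spec.map φ ≫ hU.fromSpec).app U =
      φ ≫ (Scheme.ΓSpecIso B).inv ≫ (Spec B).presheaf.map (homOfLE le_top).op := by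
  rw [Scheme.Hom.comp_app, hU.fromSpec_app_self, Category.assoc, Scheme.Hom.naturality,
    ← Category.assoc, ← Category.assoc]
  erw [← Scheme.ΓSpecIso_inv_naturality φ]
  rfl

theorem comp_fromSpec_preimage {X : Scheme.{u}} {U : X.Opens} (hU : IsAffineOpen U)
    {B : CommRingCat.{u}} (φ : Γ(X, U) ⟶ B) :
    (Spec.map φ ≫ hU.fromSpec) ⁻¹ᵁ U = ⊤ := by
  rw [Scheme.Hom.comp_preimage, hU.fromSpec_preimage_self]
  rfl

theorem ker_stalkMap_spec_mk {X : Scheme.{u}} {U : X.Opens} (hU : IsAffineOpen U) (h' : Γ(X, U))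
    (y : Spec (CommRingCat.of (Γ(X, U) ⧸ Ideal.span {h'})))
    (hy : (Spec.map (CommRingCat.ofHom (Ideal.Quotient.mk (Ideal.span {h'}))) ≫ hU.fromSpec) y ∈ U) :
    RingHom.ker ((Spec.map (CommRingCat.ofHom (Ideal.Quotient.mk (Ideal.span {h'}))) ≫
        hU.fromSpec).stalkMap y).hom =
      Ideal.span {(X.presheaf.germ U _ hy).hom h'} := by
  set φ := CommRingCat.ofHom (Ideal.Quotient.mk (Ideal.span {h'})) with hφ
  set k := Spec.map φ ≫ hU.fromSpec with hk
  have hpre : k ⁻¹ᵁ U = ⊤ := comp_fromSpec_preimage hU φ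
  have hU' : IsAffineOpen (k ⁻¹ᵁ U) := by rw [hpre]; exact isAffineOpen_top _
  have hiso : IsIso ((Spec (CommRingCat.of (Γ(X, U) ⧸ Ideal.span {h'}))).presheaf.map
      (homOfLE (le_top : k ⁻¹ᵁ U ≤ ⊤)).op) := by
    have : homOfLE (le_top : k ⁻¹ᵁ U ≤ ⊤) = eqToHom hpre := Subsingleton.elim _ _
    rw [this]
    infer_instance
  have happ := comp_fromSpec_app hU φ
  have hbij : Function.Bijective ((Scheme.ΓSpecIso (CommRingCat.of (Γ(X, U) ⧸ Ideal.span {h'}))).inv ≫
      (Spec (CommRingCat.of (Γ(X, U) ⧸ Ideal.span {h'}))).presheaf.map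
      (homOfLE (le_top : k ⁻¹ᵁ U ≤ ⊤)).op).hom :=
    ConcreteCategory.bijective_of_isIso _
  have happ' : ∀ a, (k.app U).hom a = ((Scheme.ΓSpecIso (CommRingCat.of (Γ(X, U) ⧸ Ideal.span {h'}))).inv ≫
      (Spec (CommRingCat.of (Γ(X, U) ⧸ Ideal.span {h'}))).presheaf.map
      (homOfLE (le_top : k ⁻¹ᵁ U ≤ ⊤)).op).hom (Ideal.Quotient.mk (Ideal.span {h'}) a) := by
    intro a
    exact congr($happ a)
  have hsurj : Function.Surjective (k.app U).hom := by
    intro b
    obtain ⟨c, rfl⟩ := hbij.2 b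
    obtain ⟨a, rfl⟩ := Ideal.Quotient.mk_surjective c
    exact ⟨a, happ' a⟩
  have hker : RingHom.ker (k.app U).hom = Ideal.span {h'} := by
    ext a
    rw [RingHom.mem_ker, happ', ← Ideal.Quotient.eq_zero_iff_mem]
    constructor
    · intro h0
      apply hbij.1
      rw [h0, map_zero]
    · intro h0
      rw [h0, map_zero]
  have hsq : ∀ a, ((Spec (CommRingCat.of (Γ(X, U) ⧸ Ideal.span {h'}))).presheaf.germ
      (k ⁻¹ᵁ U) y hy).hom ((k.app U).hom a) = (k.stalkMap y).hom ((X.presheaf.germ U (k y) hy).hom a) :=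
    fun a => (k.germ_stalkMap_apply U y hy a).symm
  have h := Groth.Agent.Lib.Helper5.StalkSpec.ker_eq_map_of_isLocalization
    (X.presheaf.germ U (k y) hy).hom
    ((Spec (CommRingCat.of (Γ(X, U) ⧸ Ideal.span {h'}))).presheaf.germ (k ⁻¹ᵁ U) y hy).hom
    (k.app U).hom (k.stalkMap y).hom hsq hsurj _ (hU.isLocalization_stalk ⟨k y, hy⟩) _
    (hU'.isLocalization_stalk ⟨y, hy⟩)
  rw [h, hker, Ideal.map_span, Set.image_singleton]



theorem withBot_add_one_cancel {a b : WithBot ℕ∞} (h : a + 1 = b + 1) : a = b := by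
  induction a with
  | bot =>
    induction b with
    | bot => rfl
    | coe b =>
      exfalso
      rw [WithBot.bot_add] at h
      exact WithBot.bot_ne_coe h
  | coe a =>
    induction b with
    | bot =>
      exfalso
      rw [WithBot.bot_add] at h
      exact WithBot.coe_ne_bot h
    | coe b =>
      have h' : a + 1 = b + 1 := by exact_mod_cast h
      have : a = b := ENat.add_left_injective_of_ne_top ENat.one_ne_top h'
      rw [this]

/-- The quotient of a Cohen–Macaulay local ring by a nonzerodivisor in the maximal ideal is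
Cohen–Macaulay. -/
theorem isCohenMacaulayLocalRing_quotient {R : Type u} [CommRing R]
    [hR : LocCoh.IsCohenMacaulayLocalRing R] (r : R) (hr : r ∈ maximalIdeal R)
    (hreg : IsSMulRegular R r) : LocCoh.IsCohenMacaulayLocalRing (R ⧸ Ideal.span {r}) := by
  have hne : Ideal.span {r} ≠ ⊤ := Groth.Agent.Lib.T2H2.SkCartier.span_ne_top hr
  have : Nontrivial (R ⧸ Ideal.span {r}) := Ideal.Quotient.nontrivial_iff.mpr hne
  have hloc : IsLocalRing (R ⧸ Ideal.span {r}) :=
    IsLocalRing.of_surjective' (Ideal.Quotient.mk (Ideal.span {r})) Ideal.Quotient.mk_surjective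
  refine { supportDim_eq_depth := ?_ }
  have h := hR.supportDim_eq_depth
  rw [Module.supportDim_self_eq_ringKrullDim] at h ⊢
  have h1 := ringKrullDim_quotient_span_singleton_succ_eq_ringKrullDim hreg hr
  have h2 := Groth.Agent.Lib.T2H2.SkCartier.depth_quotient_add_one r hr hreg
  apply withBot_add_one_cancel
  rw [h1, h, ← h2]
  push_cast
  rfl


theorem isSMulRegular_of_mem_nonZeroDivisors {R : Type*} [CommRing R] {r : R}
    (hr : r ∈ nonZeroDivisors R) : IsSMulRegular R r := by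
  refine isSMulRegular_iff_right_eq_zero_of_smul.mpr (fun x hx => ?_)
  rw [smul_eq_mul, mul_comm] at hx
  exact (mem_nonZeroDivisors_iff_right.mp hr) x hx

/-- Cohen–Macaulayness of the fibre local ring passes to a fibrewise Cartier divisor. -/
theorem isCM_fibreQuot_of_surjective {R P P' : Type u} [CommRing R] [CommRing P] [CommRing P']
    [IsLocalRing P]
    (φ : R →+* P) (ψ : P →+* P') (hψ : Function.Surjective ψ) (m : Ideal R) (h : P)
    (hker : RingHom.ker ψ = Ideal.span {h}) (hm : h ∈ maximalIdeal P)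
    (hcm : LocCoh.IsCohenMacaulayLocalRing (P ⧸ m.map φ))
    (hreg : Ideal.Quotient.mk (m.map φ) h ∈ nonZeroDivisors (P ⧸ m.map φ)) :
    LocCoh.IsCohenMacaulayLocalRing (P' ⧸ m.map (ψ.comp φ)) := by
  set I := m.map φ with hI
  have hlocQ : IsLocalRing (P ⧸ I) := hcm.toIsLocalRing
  have hr : Ideal.Quotient.mk I h ∈ maximalIdeal (P ⧸ I) := by
    rw [mem_maximalIdeal, mem_nonunits_iff]
    intro hu
    have : IsLocalHom (Ideal.Quotient.mk I) :=
      IsLocalHom.of_surjective _ Ideal.Quotient.mk_surjective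
    exact hm (isUnit_of_map_unit (Ideal.Quotient.mk I) h hu)
  have hcm' := isCohenMacaulayLocalRing_quotient (Ideal.Quotient.mk I h) hr
    (isSMulRegular_of_mem_nonZeroDivisors hreg)
  set I' := m.map (ψ.comp φ) with hI'
  have hII' : I' = I.map ψ := by rw [hI', hI, Ideal.map_map]
  let g : P →+* P' ⧸ I' := (Ideal.Quotient.mk I').comp ψ
  have hg : Function.Surjective g := Ideal.Quotient.mk_surjective.comp hψ
  have hkerg : I ⊔ Ideal.span {h} = RingHom.ker g := by
    rw [← RingHom.comap_ker, Ideal.mk_ker, hII', Ideal.comap_map_of_surjective ψ hψ,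
      ← RingHom.ker_eq_comap_bot, hker]
  let e1 : P ⧸ RingHom.ker g ≃+* P' ⧸ I' := RingHom.quotientKerEquivOfSurjective hg
  let e2 : P ⧸ (I ⊔ Ideal.span {h}) ≃+* P ⧸ RingHom.ker g := Ideal.quotEquivOfEq hkerg
  let e3 : (P ⧸ I) ⧸ (Ideal.span {h}).map (Ideal.Quotient.mk I) ≃+* P ⧸ (I ⊔ Ideal.span {h}) :=
    DoubleQuot.quotQuotEquivQuotSup I (Ideal.span {h})
  let e4 : (P ⧸ I) ⧸ Ideal.span {Ideal.Quotient.mk I h} ≃+*
      (P ⧸ I) ⧸ (Ideal.span {h}).map (Ideal.Quotient.mk I) :=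
    Ideal.quotEquivOfEq (by rw [Ideal.map_span, Set.image_singleton])
  exact Groth.Agent.Lib.Helper28.isCohenMacaulayLocalRing_of_ringEquiv
    (((e4.trans e3).trans e2).trans e1)



/-- In a locally Noetherian Jacobson scheme, a closed point with no proper generizations is
isolated. -/
theorem isOpen_singleton_of_isClosed_of_forall_specializes {F : Scheme.{u}}
    [IsLocallyNoetherian F] [JacobsonSpace F] (z : F) (hcl : IsClosed ({z} : Set F))
    (hgen : ∀ y : F, y ⤳ z → y = z) : IsOpen ({z} : Set F) := by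
  obtain ⟨_, ⟨W, hW, rfl⟩, hzW, -⟩ :=
    F.isBasis_affineOpens.exists_subset_of_mem_open (Set.mem_univ z) isOpen_univ
  replace hW : IsAffineOpen W := hW
  have hN : IsNoetherianRing Γ(F, W) := IsLocallyNoetherian.component_noetherian ⟨W, hW⟩
  have hemb := hW.fromSpec.isOpenEmbedding
  have hJ : IsJacobsonRing Γ(F, W) := by
    rw [PrimeSpectrum.isJacobsonRing_iff_jacobsonSpace]
    exact JacobsonSpace.of_isOpenEmbedding hemb
  set p : Spec Γ(F, W) := hW.primeIdealOf ⟨z, hzW⟩ with hp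
  have hpz : hW.fromSpec p = z := hW.fromSpec_primeIdealOf ⟨z, hzW⟩
  have hpre : ({p} : Set (Spec Γ(F, W))) = hW.fromSpec ⁻¹' {z} := by
    ext q
    simp only [Set.mem_singleton_iff, Set.mem_preimage]
    constructor
    · rintro rfl; exact hpz
    · intro hq; exact hemb.injective (hq.trans hpz.symm)
  have h1 : IsClosed ({p} : Set (Spec Γ(F, W))) := by
    rw [hpre]
    exact hcl.preimage hW.fromSpec.continuous
  have h2 : StableUnderGeneralization ({p} : Set (Spec Γ(F, W))) := by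
    intro q q' hqq' hq
    rw [Set.mem_singleton_iff] at hq ⊢
    rw [hq] at hqq'
    have : hW.fromSpec q' ⤳ hW.fromSpec p := hqq'.map hW.fromSpec.continuous
    rw [hpz] at this
    exact hemb.injective ((hgen _ this).trans hpz.symm)
  have h3 : IsOpen ({p} : Set (Spec Γ(F, W))) :=
    ((PrimeSpectrum.isOpen_singleton_tfae_of_isNoetherian_of_isJacobsonRing
      (R := Γ(F, W)) p).out 2 0 rfl rfl).mp ⟨h1, h2⟩
  have h4 := hemb.isOpenMap _ h3
  have h5 : hW.fromSpec '' ({p} : Set (Spec Γ(F, W))) = {z} := by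
    rw [Set.image_singleton, hpz]
  rwa [h5] at h4

theorem eq_of_specializes_of_ringKrullDim_stalk_le_zero {F : Scheme.{u}} (z y : F)
    (hdim : ringKrullDim (F.presheaf.stalk z) ≤ 0) (h : y ⤳ z) : y = z := by
  have hmem : y ∈ Set.range (F.fromSpecStalk z) := by
    rw [Scheme.range_fromSpecStalk]; exact h
  obtain ⟨q, rfl⟩ := hmem
  have : Ring.KrullDimLE 0 (F.presheaf.stalk z) := (Ring.krullDimLE_iff).mpr (by simpa using hdim)
  have hss : Subsingleton (PrimeSpectrum (F.presheaf.stalk z)) :=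
    Ring.KrullDimLE.subsingleton_primeSpectrum _
  have : q = closedPoint (F.presheaf.stalk z) := hss.elim _ _
  rw [this, Scheme.fromSpecStalk_closedPoint]

theorem quasiFiniteAt_of_ringKrullDim_le_zero {X S : Scheme.{u}} (f : X ⟶ S)
    [LocallyOfFiniteType f] (x : X)
    (hcl : IsClosed ({f.asFiber x} : Set ↑(f.fiber (f x))))
    (hdim : ringKrullDim (X.presheaf.stalk x ⧸
      (maximalIdeal (S.presheaf.stalk (f x))).map (f.stalkMap x).hom) ≤ 0) :
    f.QuasiFiniteAt x := by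
  rw [Scheme.Hom.quasiFiniteAt_iff_isOpen_singleton_asFiber]
  have : LocallyOfFiniteType (f.fiberToSpecResidueField (f x)) :=
    MorphismProperty.pullback_snd _ _ inferInstance
  have : IsLocallyNoetherian (f.fiber (f x)) :=
    LocallyOfFiniteType.isLocallyNoetherian (f.fiberToSpecResidueField (f x))
  obtain ⟨e⟩ := Groth.Agent.Lib.Helper5.FiberStalk.nonempty_stalk_asFiber_equiv f x
  refine isOpen_singleton_of_isClosed_of_forall_specializes _ hcl (fun y hy => ?_)
  refine eq_of_specializes_of_ringKrullDim_stalk_le_zero _ _ ?_ hy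
  rw [ringKrullDim_eq_of_ringEquiv e]
  exact hdim



theorem exists_of_quasiFiniteAt {X S : Scheme.{u}} (f : X ⟶ S) [LocallyOfFinitePresentation f]
    (x : X) (hflat : (f.stalkMap x).hom.Flat) (hqf : f.QuasiFiniteAt x) :
    ∃ V : X.Opens, x ∈ V ∧ Flat (V.ι ≫ f) ∧ LocallyQuasiFinite (V.ι ≫ f) ∧
      ∀ v : V, f (V.ι v) = f x → V.ι v = x := by
  let V₁ : X.Opens := ⟨{x | (f.stalkMap x).hom.Flat}, Groth.Agent.S0386.result f⟩
  let V₂ : X.Opens := f.quasiFiniteLocus
  have hopen : IsOpen ({f.asFiber x} : Set ↑(f.fiber (f x))) :=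
    Scheme.Hom.quasiFiniteAt_iff_isOpen_singleton_asFiber.mp hqf
  have hemb := (f.fiberι (f x)).isEmbedding
  obtain ⟨V₃s, hV₃o, hV₃⟩ := hemb.toIsInducing.isOpen_iff.mp hopen
  let V₃ : X.Opens := ⟨V₃s, hV₃o⟩
  have hxV₃ : x ∈ V₃ := by
    have : f.asFiber x ∈ (f.fiberι (f x)) ⁻¹' V₃s := by rw [hV₃]; rfl
    have h2 : f.fiberι (f x) (f.asFiber x) ∈ V₃s := this
    rwa [f.fiberι_asFiber x] at h2
  refine ⟨V₁ ⊓ V₂ ⊓ V₃, ⟨⟨hflat, hqf⟩, hxV₃⟩, ?_, ?_, ?_⟩
  · rw [Flat.iff_flat_stalkMap]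
    intro v
    rw [Groth.Agent.Lib.Helper20.EtLocal.stalkMap_ι_comp_iff RingHom.Flat.respectsIso]
    exact v.2.1.1
  · rw [← Scheme.Hom.quasiFiniteLocus_eq_top_iff, Scheme.Hom.quasiFiniteLocus_comp, eq_top_iff]
    intro v _
    exact v.2.1.2
  · intro v hv
    have hmem : (V₁ ⊓ V₂ ⊓ V₃).ι v ∈ Set.range (f.fiberι (f x)) := by
      rw [Scheme.Hom.range_fiberι]; exact hv
    obtain ⟨w, hw⟩ := hmem
    have h1 : w ∈ (f.fiberι (f x)) ⁻¹' V₃s := by
      change f.fiberι (f x) w ∈ V₃s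
      rw [hw]; exact v.2.2
    rw [hV₃, Set.mem_singleton_iff] at h1
    rw [← hw, h1, f.fiberι_asFiber x]


open Groth.Agent.Lib.T2H2.RegImmRestrict


/-- The flexible form of the conclusion of the Cohen–Macaulay slicing theorem. -/
def SliceConcl {X S : Scheme.{u}} (f : X ⟶ S) (x : X) : Prop :=
  ∃ (W Z : Scheme.{u}) (j : W ⟶ X) (i : Z ⟶ W), IsOpenImmersion j ∧
    Mor2.IsRegularClosedImmersion i ∧ x ∈ Set.range ⇑(i ≫ j) ∧
    Flat (i ≫ j ≫ f) ∧ LocallyOfFinitePresentation (i ≫ j ≫ f) ∧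
    LocallyQuasiFinite (i ≫ j ≫ f) ∧ ∀ z : Z, f (j (i z)) = f x → j (i z) = x

/-- Transporting the conclusion along a principal Cartier divisor in an affine open. -/
theorem sliceConcl_of_comp {X S : Scheme.{u}} (f : X ⟶ S) {U : X.Opens} (hU : IsAffineOpen U)
    (h' : Γ(X, U)) (hnzd : h' ∈ nonZeroDivisors Γ(X, U))
    (y : Spec (CommRingCat.of (Γ(X, U) ⧸ Ideal.span {h'})))
    (H : SliceConcl ((Spec.map (CommRingCat.ofHom (Ideal.Quotient.mk (Ideal.span {h'}))) ≫
      hU.fromSpec) ≫ f) y) :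
    SliceConcl f ((Spec.map (CommRingCat.ofHom (Ideal.Quotient.mk (Ideal.span {h'}))) ≫
      hU.fromSpec) y) := by
  obtain ⟨W', Z, j', i, hj', hi, hyr, hfl, hfp, hqf, huniq⟩ := H
  set c₀ := Spec.map (CommRingCat.ofHom (Ideal.Quotient.mk (Ideal.span {h'}))) with hc₀
  have hcl : IsClosedImmersion c₀ :=
    IsClosedImmersion.spec_of_surjective _ Ideal.Quotient.mk_surjective
  have hc₀reg : Mor2.IsRegularClosedImmersion c₀ :=
    isRegularClosedImmersion_SpecMap_mk Γ(X, U) h' hnzd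
  -- the open subset of `Spec Γ(X, U)`
  have hclosed : IsClosed (c₀ '' (Set.range j')ᶜ) :=
    c₀.isClosedEmbedding.isClosedMap _ j'.isOpenEmbedding.isOpen_range.isClosed_compl
  let V' : (Spec Γ(X, U)).Opens := ⟨(c₀ '' (Set.range j')ᶜ)ᶜ, hclosed.isOpen_compl⟩
  have heq : j'.opensRange = c₀ ⁻¹ᵁ V' := by
    ext w
    change w ∈ Set.range j' ↔ c₀ w ∈ (c₀ '' (Set.range j')ᶜ)ᶜ
    rw [Set.mem_compl_iff, c₀.isClosedEmbedding.injective.mem_set_image, Set.mem_compl_iff,
      not_not]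
  let i' : Z ⟶ V' := i ≫ j'.isoOpensRange.hom ≫ (Scheme.isoOfEq _ heq).hom ≫ (c₀ ∣_ V')
  have hi'j : i' ≫ V'.ι ≫ hU.fromSpec = i ≫ j' ≫ c₀ ≫ hU.fromSpec := by
    simp only [i', Category.assoc]
    rw [← Category.assoc (c₀ ∣_ V'), morphismRestrict_ι, Category.assoc,
      ← Category.assoc (Scheme.isoOfEq _ heq).hom, Scheme.isoOfEq_hom_ι,
      Scheme.Hom.isoOpensRange_hom_ι_assoc]
  have hi'reg : Mor2.IsRegularClosedImmersion i' := by
    refine Groth.Agent.Lib.Helper5.RegImmComp.comp _ _ hi ?_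
    refine Groth.Agent.Lib.Helper5.RegImmComp.comp _ _ (isRegularClosedImmersion_of_isIso _) ?_
    refine Groth.Agent.Lib.Helper5.RegImmComp.comp _ _ (isRegularClosedImmersion_of_isIso _) ?_
    exact isRegularClosedImmersion_morphismRestrict c₀ hc₀reg V'
  have hcomp : i' ≫ (V'.ι ≫ hU.fromSpec) ≫ f = i ≫ j' ≫ (c₀ ≫ hU.fromSpec) ≫ f := by
    rw [← Category.assoc i', ← Category.assoc i', Category.assoc i', hi'j]
    simp only [Category.assoc]
  have hpt : ∀ z : Z, (V'.ι ≫ hU.fromSpec) (i' z) = (c₀ ≫ hU.fromSpec) (j' (i z)) := by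
    intro z
    have := congr($hi'j z)
    simpa only [Scheme.Hom.comp_apply] using this
  refine ⟨V', Z, V'.ι ≫ hU.fromSpec, i', inferInstance, hi'reg, ?_, ?_, ?_, ?_, ?_⟩
  · obtain ⟨z₀, hz₀⟩ := hyr
    refine ⟨z₀, ?_⟩
    rw [Scheme.Hom.comp_apply, hpt, ← hz₀]
    rfl
  · rw [hcomp]; exact hfl
  · rw [hcomp]; exact hfp
  · rw [hcomp]; exact hqf
  · intro z hz
    rw [hpt] at hz ⊢
    rw [huniq z hz]


open Groth.Agent.Lib.T2H2.RegImmRestrict Groth.Agent.Lib.T2H2.EtSlice

/-- A Cohen–Macaulay local ring of positive dimension has a nonzerodivisor in its maximal ideal. -/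
theorem exists_isSMulRegular_of_cm {R : Type u} [CommRing R]
    [hR : LocCoh.IsCohenMacaulayLocalRing R] (hdim : ¬ ringKrullDim R ≤ 0) :
    ∃ r ∈ maximalIdeal R, IsSMulRegular R r := by
  have h := hR.supportDim_eq_depth
  rw [Module.supportDim_self_eq_ringKrullDim] at h
  have hIM : maximalIdeal R • (⊤ : Submodule R R) ≠ ⊤ := by
    rw [smul_eq_mul, Ideal.mul_top]
    exact Ideal.IsPrime.ne_top inferInstance
  apply (Groth.Agent.Lib.Helper28.one_le_idealDepth_iff hIM).mp
  change 1 ≤ LocCoh.depth R R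
  rw [Order.one_le_iff_ne_zero]
  intro h0
  rw [h0] at h
  exact hdim (le_of_eq h)

/-- The base case. -/
theorem sliceConcl_of_ringKrullDim_le_zero {X S : Scheme.{u}} (f : X ⟶ S)
    [LocallyOfFinitePresentation f] (x : X) (hflat : (f.stalkMap x).hom.Flat)
    (hcl : IsClosed ({f.asFiber x} : Set ↑(f.fiber (f x))))
    (hdim : ringKrullDim (X.presheaf.stalk x ⧸
      (maximalIdeal (S.presheaf.stalk (f x))).map (f.stalkMap x).hom) ≤ 0) :
    SliceConcl f x := by
  have hqf := quasiFiniteAt_of_ringKrullDim_le_zero f x hcl hdim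
  obtain ⟨V, hxV, hfl, hlqf, huniq⟩ := exists_of_quasiFiniteAt f x hflat hqf
  refine ⟨V, V, V.ι, 𝟙 _, inferInstance, isRegularClosedImmersion_of_isIso _, ⟨⟨x, hxV⟩, rfl⟩, ?_, ?_,
    ?_, ?_⟩
  · rw [Category.id_comp]; exact hfl
  · rw [Category.id_comp]; infer_instance
  · rw [Category.id_comp]; exact hlqf
  · intro z hz
    exact huniq z hz


/-- The closed subscheme `V(h')` of an affine open, mapping to `X`. -/
noncomputable abbrev sliceMap {X : Scheme.{u}} {U : X.Opens} (hU : IsAffineOpen U) (h' : Γ(X, U)) :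
    Spec (CommRingCat.of (Γ(X, U) ⧸ Ideal.span {h'})) ⟶ X :=
  Spec.map (CommRingCat.ofHom (Ideal.Quotient.mk (Ideal.span {h'}))) ≫ hU.fromSpec

theorem cm_step_aux {X S : Scheme.{u}} (f : X ⟶ S) {U : X.Opens} (hU : IsAffineOpen U)
    (h' : Γ(X, U)) (y : Spec (CommRingCat.of (Γ(X, U) ⧸ Ideal.span {h'})))
    (hyU : sliceMap hU h' y ∈ U)
    (hcm : LocCoh.IsCohenMacaulayLocalRing (X.presheaf.stalk (sliceMap hU h' y) ⧸
      (maximalIdeal (S.presheaf.stalk (f (sliceMap hU h' y)))).map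
        (f.stalkMap (sliceMap hU h' y)).hom))
    (hm : (X.presheaf.germ U _ hyU).hom h' ∈ maximalIdeal (X.presheaf.stalk (sliceMap hU h' y)))
    (hreg : Ideal.Quotient.mk ((maximalIdeal (S.presheaf.stalk (f (sliceMap hU h' y)))).map
        (f.stalkMap (sliceMap hU h' y)).hom) ((X.presheaf.germ U _ hyU).hom h') ∈
      nonZeroDivisors (X.presheaf.stalk (sliceMap hU h' y) ⧸
        (maximalIdeal (S.presheaf.stalk (f (sliceMap hU h' y)))).map
          (f.stalkMap (sliceMap hU h' y)).hom)) :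
    LocCoh.IsCohenMacaulayLocalRing
      ((Spec (CommRingCat.of (Γ(X, U) ⧸ Ideal.span {h'}))).presheaf.stalk y ⧸
        (maximalIdeal (S.presheaf.stalk ((sliceMap hU h' ≫ f) y))).map
          ((sliceMap hU h' ≫ f).stalkMap y).hom) ∧
    ringKrullDim ((Spec (CommRingCat.of (Γ(X, U) ⧸ Ideal.span {h'}))).presheaf.stalk y ⧸
        (maximalIdeal (S.presheaf.stalk ((sliceMap hU h' ≫ f) y))).map
          ((sliceMap hU h' ≫ f).stalkMap y).hom) + 1 ≤
      ringKrullDim (X.presheaf.stalk (sliceMap hU h' y) ⧸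
        (maximalIdeal (S.presheaf.stalk (f (sliceMap hU h' y)))).map
          (f.stalkMap (sliceMap hU h' y)).hom) := by
  have hker : RingHom.ker ((sliceMap hU h').stalkMap y).hom =
      Ideal.span {(X.presheaf.germ U _ hyU).hom h'} := ker_stalkMap_spec_mk hU h' y hyU
  constructor
  · have hres := isCM_fibreQuot_of_surjective (f.stalkMap (sliceMap hU h' y)).hom
      ((sliceMap hU h').stalkMap y).hom
      ((sliceMap hU h').stalkMap_surjective y)
      (maximalIdeal (S.presheaf.stalk (f (sliceMap hU h' y)))) _ hker hm hcm hreg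
    have hcomp : ((sliceMap hU h').stalkMap y).hom.comp (f.stalkMap (sliceMap hU h' y)).hom =
        ((sliceMap hU h' ≫ f).stalkMap y).hom := by
      rw [Scheme.Hom.stalkMap_comp (sliceMap hU h') f y]
      rfl
    rw [hcomp] at hres
    exact hres
  · refine ringKrullDim_fibreQuot_succ_le f (sliceMap hU h') y _ ?_ hreg
    have : (X.presheaf.germ U _ hyU).hom h' ∈ RingHom.ker ((sliceMap hU h').stalkMap y).hom := by
      rw [hker]; exact Ideal.mem_span_singleton_self _
    exact this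


/-- The slicing step. -/
theorem exists_cm_slice_data {X S : Scheme.{u}} (f : X ⟶ S) [LocallyOfFinitePresentation f]
    (x : X) (hflat : (f.stalkMap x).hom.Flat)
    (hcm : LocCoh.IsCohenMacaulayLocalRing (X.presheaf.stalk x ⧸
      (maximalIdeal (S.presheaf.stalk (f x))).map (f.stalkMap x).hom))
    (hdim : ¬ ringKrullDim (X.presheaf.stalk x ⧸
      (maximalIdeal (S.presheaf.stalk (f x))).map (f.stalkMap x).hom) ≤ 0) :
    ∃ (U : X.Opens) (hU : IsAffineOpen U) (h' : Γ(X, U))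
      (y : Spec (CommRingCat.of (Γ(X, U) ⧸ Ideal.span {h'}))),
      h' ∈ nonZeroDivisors Γ(X, U) ∧ sliceMap hU h' y = x ∧
      LocallyOfFinitePresentation (sliceMap hU h' ≫ f) ∧
      ((sliceMap hU h' ≫ f).stalkMap y).hom.Flat ∧
      LocCoh.IsCohenMacaulayLocalRing
        ((Spec (CommRingCat.of (Γ(X, U) ⧸ Ideal.span {h'}))).presheaf.stalk y ⧸
          (maximalIdeal (S.presheaf.stalk ((sliceMap hU h' ≫ f) y))).map
            ((sliceMap hU h' ≫ f).stalkMap y).hom) ∧
      ringKrullDim ((Spec (CommRingCat.of (Γ(X, U) ⧸ Ideal.span {h'}))).presheaf.stalk y ⧸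
          (maximalIdeal (S.presheaf.stalk ((sliceMap hU h' ≫ f) y))).map
            ((sliceMap hU h' ≫ f).stalkMap y).hom) + 1 ≤
        ringKrullDim (X.presheaf.stalk x ⧸
          (maximalIdeal (S.presheaf.stalk (f x))).map (f.stalkMap x).hom) := by
  have hlocQ : IsLocalRing (X.presheaf.stalk x ⧸
      (maximalIdeal (S.presheaf.stalk (f x))).map (f.stalkMap x).hom) := hcm.toIsLocalRing
  obtain ⟨r, hrm, hrreg⟩ := exists_isSMulRegular_of_cm hdim
  obtain ⟨h, rfl⟩ := Ideal.Quotient.mk_surjective r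
  have hm : h ∈ maximalIdeal (X.presheaf.stalk x) := by
    rw [mem_maximalIdeal, mem_nonunits_iff]
    intro hu
    exact hrm (hu.map _)
  have hreg : Ideal.Quotient.mk ((maximalIdeal (S.presheaf.stalk (f x))).map (f.stalkMap x).hom) h ∈
      nonZeroDivisors (X.presheaf.stalk x ⧸
        (maximalIdeal (S.presheaf.stalk (f x))).map (f.stalkMap x).hom) := by
    refine mem_nonZeroDivisors_iff_right.mpr (fun a ha => ?_)
    apply hrreg.right_eq_zero_of_smul
    rw [smul_eq_mul, mul_comm]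
    exact ha
  obtain ⟨U, hU, hxU, h', hgerm, hnzd, hFlat, hLFP⟩ := Groth.Agent.S1348.result f x hflat h hm hreg
  have hq : h' ∈ (hU.primeIdealOf ⟨x, hxU⟩).asIdeal :=
    (Groth.Agent.Lib.T2H2.SliceFlatSch.germ_mem_maximalIdeal_iff hU hxU h').mp (hgerm ▸ hm)
  obtain ⟨y, hy⟩ : ∃ y, Spec.map (CommRingCat.ofHom (Ideal.Quotient.mk (Ideal.span {h'}))) y =
      hU.primeIdealOf ⟨x, hxU⟩ := by
    have : hU.primeIdealOf ⟨x, hxU⟩ ∈ Set.range
        (PrimeSpectrum.comap (Ideal.Quotient.mk (Ideal.span {h'}))) := by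
      rw [range_comap_of_surjective _ _ Ideal.Quotient.mk_surjective,
        Ideal.mk_ker, PrimeSpectrum.mem_zeroLocus, SetLike.coe_subset_coe, Ideal.span_le,
        Set.singleton_subset_iff]
      exact hq
    exact this
  have hjy : sliceMap hU h' y = x := by
    rw [Scheme.Hom.comp_apply, hy, hU.fromSpec_primeIdealOf]
  have hFlat' : Flat (sliceMap hU h' ≫ f) := by rw [Category.assoc]; exact hFlat
  have hLFP' : LocallyOfFinitePresentation (sliceMap hU h' ≫ f) := by
    rw [Category.assoc]; exact hLFP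
  refine ⟨U, hU, h', y, hnzd, hjy, hLFP', Flat.stalkMap _ y, ?_⟩
  subst hjy
  subst hgerm
  exact cm_step_aux f hU h' y hxU hcm hm hreg

/-- The induction. -/
theorem exists_cm_slice_aux (n : ℕ) : ∀ {X S : Scheme.{u}} (f : X ⟶ S)
    [LocallyOfFinitePresentation f] (x : X) (_ : (f.stalkMap x).hom.Flat)
    (_ : LocCoh.IsCohenMacaulayLocalRing (X.presheaf.stalk x ⧸
      (maximalIdeal (S.presheaf.stalk (f x))).map (f.stalkMap x).hom))
    (_ : IsClosed ({f.asFiber x} : Set ↑(f.fiber (f x))))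
    (_ : ringKrullDim (X.presheaf.stalk x ⧸
      (maximalIdeal (S.presheaf.stalk (f x))).map (f.stalkMap x).hom) ≤ n), SliceConcl f x := by
  induction n with
  | zero =>
    intro X S f _ x hflat hcm hcl hdim
    exact sliceConcl_of_ringKrullDim_le_zero f x hflat hcl (by simpa using hdim)
  | succ n ih =>
    intro X S f _ x hflat hcm hcl hdim
    by_cases h0 : ringKrullDim (X.presheaf.stalk x ⧸
      (maximalIdeal (S.presheaf.stalk (f x))).map (f.stalkMap x).hom) ≤ 0
    · exact sliceConcl_of_ringKrullDim_le_zero f x hflat hcl h0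
    · obtain ⟨U, hU, h', y, hnzd, hjy, hLFP, hfl, hcm', hdrop⟩ :=
        exists_cm_slice_data f x hflat hcm h0
      subst hjy
      have hdim' : ringKrullDim
          ((Spec (CommRingCat.of (Γ(X, U) ⧸ Ideal.span {h'}))).presheaf.stalk y ⧸
            (maximalIdeal (S.presheaf.stalk ((sliceMap hU h' ≫ f) y))).map
              ((sliceMap hU h' ≫ f).stalkMap y).hom) ≤ n := by
        apply le_of_add_one_le_add_one
        refine hdrop.trans ?_
        push_cast at hdim
        exact hdim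
      have hcl' : IsClosed ({(sliceMap hU h' ≫ f).asFiber y} :
          Set ↑((sliceMap hU h' ≫ f).fiber ((sliceMap hU h' ≫ f) y))) := by
        rw [isClosed_singleton_asFiber_iff] at hcl ⊢
        intro y' hy' hsp
        apply (sliceMap hU h').isEmbedding.injective
        exact hcl (sliceMap hU h' y') hy' (hsp.map (sliceMap hU h').continuous)
      have := ih (sliceMap hU h' ≫ f) y hfl hcm' hcl' hdim'
      exact sliceConcl_of_comp f hU h' hnzd y this

/-- **Slicing a Cohen–Macaulay morphism to a quasi-finite one.** -/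
theorem exists_cm_slice {X S : Scheme.{u}} (f : X ⟶ S) [LocallyOfFinitePresentation f] (x : X)
    (hflat : (f.stalkMap x).hom.Flat)
    (hcm : LocCoh.IsCohenMacaulayLocalRing ((f.fiber (f x)).presheaf.stalk (f.asFiber x)))
    (hcl : IsClosed ({f.asFiber x} : Set ↑(f.fiber (f x)))) :
    ∃ (V : X.Opens) (Z : Scheme.{u}) (i : Z ⟶ (V : Scheme.{u})),
      Mor2.IsRegularClosedImmersion i ∧ x ∈ Set.range ⇑(i ≫ V.ι) ∧
      Flat (i ≫ V.ι ≫ f) ∧ LocallyOfFinitePresentation (i ≫ V.ι ≫ f) ∧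
      LocallyQuasiFinite (i ≫ V.ι ≫ f) ∧
      ∀ z : Z, f (V.ι (i z)) = f x → V.ι (i z) = x := by
  obtain ⟨e⟩ := Groth.Agent.Lib.Helper5.FiberStalk.nonempty_stalk_asFiber_equiv f x
  have hcm' : LocCoh.IsCohenMacaulayLocalRing (X.presheaf.stalk x ⧸
      (maximalIdeal (S.presheaf.stalk (f x))).map (f.stalkMap x).hom) :=
    Groth.Agent.Lib.Helper28.isCohenMacaulayLocalRing_of_ringEquiv e
  have hN : IsNoetherianRing (X.presheaf.stalk x ⧸
      (maximalIdeal (S.presheaf.stalk (f x))).map (f.stalkMap x).hom) := inferInstance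
  have hloc : IsLocalRing (X.presheaf.stalk x ⧸
      (maximalIdeal (S.presheaf.stalk (f x))).map (f.stalkMap x).hom) := hcm'.toIsLocalRing
  have hfin := ringKrullDim_lt_top (R := X.presheaf.stalk x ⧸
      (maximalIdeal (S.presheaf.stalk (f x))).map (f.stalkMap x).hom)
  obtain ⟨n, hn⟩ : ∃ n : ℕ, ringKrullDim (X.presheaf.stalk x ⧸
      (maximalIdeal (S.presheaf.stalk (f x))).map (f.stalkMap x).hom) ≤ n := by
    generalize ringKrullDim (X.presheaf.stalk x ⧸
      (maximalIdeal (S.presheaf.stalk (f x))).map (f.stalkMap x).hom) = d at hfin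
    induction d using WithBot.recBotCoe with
    | bot => exact ⟨0, bot_le⟩
    | coe a =>
      induction a using ENat.recTopCoe with
      | top => exact absurd hfin (lt_irrefl _)
      | coe m => exact ⟨m, le_rfl⟩
  obtain ⟨W, Z, j, i, hj, hi, hxr, hfl, hfp, hqf, huniq⟩ :=
    exists_cm_slice_aux n f x hflat hcm' hcl hn
  have hcomp : (i ≫ j.isoOpensRange.hom) ≫ j.opensRange.ι = i ≫ j := by
    rw [Category.assoc, Scheme.Hom.isoOpensRange_hom_ι]
  have hcomp' : (i ≫ j.isoOpensRange.hom) ≫ j.opensRange.ι ≫ f = i ≫ j ≫ f := by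
    rw [← Category.assoc, hcomp, Category.assoc]
  have hpt : ∀ z : Z, j.opensRange.ι ((i ≫ j.isoOpensRange.hom) z) = j (i z) := by
    intro z
    have := congr($hcomp z)
    simpa only [Scheme.Hom.comp_apply] using this
  refine ⟨j.opensRange, Z, i ≫ j.isoOpensRange.hom,
    Groth.Agent.Lib.Helper5.RegImmComp.comp _ _ hi (isRegularClosedImmersion_of_isIso _), ?_, ?_, ?_,
    ?_, ?_⟩
  · rw [hcomp]; exact hxr
  · rw [hcomp']; exact hfl
  · rw [hcomp']; exact hfp
  · rw [hcomp']; exact hqf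
  · intro z hz
    rw [hpt] at hz ⊢
    exact huniq z hz

end Groth.Agent.Lib.T2H2.CMSlice
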