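import Mathlib
import Groth.Agent.Lib.Helper8LCDepth
import Groth.Agent.Lib.T2H2CMSlice
import Groth.Agent.Lib.Helper5RLR
import Groth.Agent.S11614
import Groth.Agent.S0343

set_option autoImplicit false
set_option maxHeartbeats 400000
set_option linter.style.haveILetI false
set_option linter.unusedSectionVars false
set_option linter.unusedVariables false

universe u

open CategoryTheory CategoryTheory.Limits IsLocalRing

namespace Groth.Agent.Lib.LeadCan

open Groth.Agent.Lib.Helper8.LC Groth.Agent.Lib.Helper28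

/-- Baer's criterion over the quotient `A ⧸ (x)`: a module `N` over the quotient which embeds
semilinearly into an injective `A`-module `H` with image the `x`-torsion of `H` is injective. -/
theorem injective_of_semilinear_embedding {A : Type u} [CommRing A] (x : A)
    (H : Type u) [AddCommGroup H] [Module A H] (hH : Module.Injective A H)
    (N : Type u) [AddCommGroup N] [Module (A ⧸ Ideal.span {x}) N]
    (ψ : N →+ H) (hψ : Function.Injective ψ)
    (hlin : ∀ (a : A) (n : N), ψ (Ideal.Quotient.mk (Ideal.span {x}) a • n) = a • ψ n)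
    (hrange : ∀ h : H, x • h = 0 → ∃ n, ψ n = h) :
    Module.Injective (A ⧸ Ideal.span {x}) N := by
  apply Module.Baer.injective
  intro J f
  have hmkx : Ideal.Quotient.mk (Ideal.span {x}) x = 0 :=
    Ideal.Quotient.eq_zero_iff_mem.mpr (Ideal.mem_span_singleton_self x)
  let J' : Ideal A := J.comap (Ideal.Quotient.mk (Ideal.span {x}))
  let f' : J' →ₗ[A] H :=
    { toFun := fun a => ψ (f ⟨Ideal.Quotient.mk (Ideal.span {x}) a.1, a.2⟩)
      map_add' := fun a b => by
        have : (⟨Ideal.Quotient.mk (Ideal.span {x}) (a + b : J').1, (a + b).2⟩ : J) =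
            ⟨Ideal.Quotient.mk (Ideal.span {x}) a.1, a.2⟩ +
              ⟨Ideal.Quotient.mk (Ideal.span {x}) b.1, b.2⟩ := by
          ext; simp
        rw [this, map_add, map_add]
      map_smul' := fun c a => by
        have : (⟨Ideal.Quotient.mk (Ideal.span {x}) (c • a : J').1, (c • a).2⟩ : J) =
            Ideal.Quotient.mk (Ideal.span {x}) c •
              (⟨Ideal.Quotient.mk (Ideal.span {x}) a.1, a.2⟩ : J) := by
          ext; simp
        rw [this, map_smul, hlin]; rfl }
  obtain ⟨g, hg⟩ := Module.Baer.of_injective hH J' f'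
  have hx : x ∈ J' := by
    show Ideal.Quotient.mk (Ideal.span {x}) x ∈ J
    rw [hmkx]; exact J.zero_mem
  have h1 : x • g 1 = 0 := by
    rw [← map_smul, smul_eq_mul, mul_one, hg x hx]
    show ψ (f ⟨Ideal.Quotient.mk (Ideal.span {x}) x, _⟩) = 0
    have : (⟨Ideal.Quotient.mk (Ideal.span {x}) x, hx⟩ : J) = 0 := by
      ext; exact hmkx
    rw [this, map_zero, map_zero]
  obtain ⟨n₀, hn₀⟩ := hrange _ h1
  refine ⟨LinearMap.toSpanSingleton _ N n₀, ?_⟩
  intro b hb
  obtain ⟨a, rfl⟩ := Ideal.Quotient.mk_surjective b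
  apply hψ
  rw [LinearMap.toSpanSingleton_apply, hlin, hn₀, ← map_smul, smul_eq_mul, mul_one]
  exact hg a hb


section Step

variable {A : Type u} [CommRing A]

theorem exact_lsmul_algebraMap (x : A) :
    Function.Exact (LinearMap.lsmul A A x) (Algebra.linearMap A (A ⧸ Ideal.span {x})) := by
  intro a
  rw [Algebra.linearMap_apply, Ideal.Quotient.algebraMap_eq, Ideal.Quotient.eq_zero_iff_mem,
    Ideal.mem_span_singleton']
  constructor
  · rintro ⟨c, rfl⟩
    exact ⟨c, by simp [mul_comm]⟩
  · rintro ⟨c, rfl⟩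
    exact ⟨c, by simp [mul_comm]⟩

variable [IsLocalRing A]

theorem maximalIdeal_smul_top_ne_top :
    maximalIdeal A • (⊤ : Submodule A A) ≠ ⊤ := by
  rw [smul_eq_mul, Ideal.mul_top]
  exact (maximalIdeal.isMaximal A).ne_top

variable [IsNoetherianRing A]

/-- Inductive step: if `H^{n+1}_m(A)` is injective and `x ∈ m` is regular on `A` (of depth
`≥ n+1`), then `H^n_{mB}(B)` is injective over `B = A/(x)`. -/
theorem injective_H_quotient (n : ℕ) (x : A) (hx : x ∈ maximalIdeal A) (hreg : IsSMulRegular A x)
    (hdepth : ((n + 1 : ℕ) : ℕ∞) ≤ LocCoh.idealDepth (maximalIdeal A) A)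
    (hinj : Module.Injective A (LocCoh.H (maximalIdeal A) (n + 1) A)) :
    Module.Injective (A ⧸ Ideal.span {x})
      (LocCoh.H ((maximalIdeal A).map (algebraMap A (A ⧸ Ideal.span {x}))) n
        (A ⧸ Ideal.span {x})) := by
  obtain ⟨φ, hφ⟩ := Groth.Agent.S11614.result A (A ⧸ Ideal.span {x}) (maximalIdeal A)
    (A ⧸ Ideal.span {x}) n
  have hf : Function.Injective (LinearMap.lsmul A A x) := hreg
  have hg : Function.Surjective (Algebra.linearMap A (A ⧸ Ideal.span {x})) :=
    Ideal.Quotient.mk_surjective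
  have hex := exact_lsmul_algebraMap x
  have hS := Sfg_shortExact _ _ hf hg hex
  have hvan : ∀ y : (localCohomology (maximalIdeal A) n).obj (ModuleCat.of A A), y = 0 :=
    H_eq_zero_of_lt_depth (maximalIdeal A) (n + 1) A maximalIdeal_smul_top_ne_top hdepth n
      (Nat.lt_succ_self n)
  refine injective_of_semilinear_embedding x _ hinj _
    ((Hδ (maximalIdeal A) n (Sfg _ _ hex) hS).hom.toAddMonoidHom.comp φ.toAddMonoidHom) ?_ ?_ ?_
  · intro a b hab
    apply φ.injective
    have h0 : Hδ (maximalIdeal A) n (Sfg _ _ hex) hS (φ a - φ b) = 0 := by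
      rw [map_sub]
      exact sub_eq_zero.mpr hab
    obtain ⟨y, hy⟩ := H_exact₃ _ n _ hS _ h0
    rw [hvan y, map_zero] at hy
    exact sub_eq_zero.mp hy.symm
  · intro a z
    show Hδ (maximalIdeal A) n (Sfg _ _ hex) hS (φ (Ideal.Quotient.mk _ a • z)) =
      a • Hδ (maximalIdeal A) n (Sfg _ _ hex) hS (φ z)
    rw [← Ideal.Quotient.algebraMap_eq, hφ, map_smul]
  · intro h hh
    rw [← H_map_lsmul] at hh
    obtain ⟨z, hz⟩ := H_exact₁ _ n _ hS h hh
    refine ⟨φ.symm z, ?_⟩
    show Hδ (maximalIdeal A) n (Sfg _ _ hex) hS (φ (φ.symm z)) = h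
    rw [AddEquiv.apply_symm_apply]
    exact hz

end Step

section Main

/-- In a local ring with nilpotent maximal ideal every element is `m`-power torsion. -/
theorem torsionSub_eq_top_of_isNilpotent {A : Type u} [CommRing A] [IsLocalRing A]
    (h : IsNilpotent (maximalIdeal A)) : DRing.torsionSub (maximalIdeal A) A = ⊤ := by
  obtain ⟨k, hk⟩ := h
  rw [eq_top_iff]
  intro a _
  refine ⟨k, fun b hb => ?_⟩
  rw [hk] at hb
  have : b = 0 := by simpa using hb
  rw [this, zero_smul]

theorem depth_eq_of_ringKrullDim_eq {A : Type u} [CommRing A]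
    [LocCoh.IsCohenMacaulayLocalRing A] (n : ℕ) (hdim : ringKrullDim A = n) :
    LocCoh.idealDepth (maximalIdeal A) A = n := by
  have hCM := LocCoh.IsCohenMacaulayLocalRing.supportDim_eq_depth (R := A)
  rw [Module.supportDim_self_eq_ringKrullDim, hdim] at hCM
  have h2 : ((n : ℕ∞) : WithBot ℕ∞) = ((LocCoh.depth A A : ℕ∞) : WithBot ℕ∞) := hCM
  have h3 : (n : ℕ∞) = LocCoh.depth A A := WithBot.coe_injective h2
  exact h3.symm

/-- A Cohen–Macaulay local ring of dimension `n` whose top local cohomology `H^n_m(A)` is an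
injective module is Gorenstein. -/
theorem isGorensteinLocalRing_of_injective_H : ∀ (n : ℕ) (A : Type u) [CommRing A]
    [LocCoh.IsCohenMacaulayLocalRing A], ringKrullDim A = n →
    Module.Injective A (LocCoh.H (maximalIdeal A) n A) → LocCoh.IsGorensteinLocalRing A := by
  intro n
  induction n with
  | zero =>
    intro A _ _ hdim hinj
    have hle : Ring.KrullDimLE 0 A := by
      rw [Ring.krullDimLE_iff, hdim]
    have hart : IsArtinianRing A := IsNoetherianRing.isArtinianRing_of_krullDimLE_zero
    have hnil := (isArtinianRing_iff_isNilpotent_maximalIdeal A).mp hart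
    have htop := torsionSub_eq_top_of_isNilpotent hnil
    let e : LocCoh.H (maximalIdeal A) 0 A ≃ₗ[A] A :=
      (ΦEquiv (maximalIdeal A) (ModuleCat.of A A)).trans
        ((LinearEquiv.ofEq _ _ htop).trans Submodule.topEquiv)
    have hA : Module.Injective A A :=
      Module.Baer.injective (Module.Baer.of_equiv e (Module.Baer.of_injective hinj))
    have : Injective (ModuleCat.of A A) := Module.injective_object_of_injective_module A A
    exact { exists_hasInjectiveDimensionLT := ⟨1, inferInstance⟩ }
  | succ n ih =>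
    intro A _ _ hdim hinj
    have hdepth := depth_eq_of_ringKrullDim_eq (n + 1) hdim
    obtain ⟨x, hx, hreg⟩ := (one_le_idealDepth_iff maximalIdeal_smul_top_ne_top).mp (by
      rw [hdepth]
      exact_mod_cast Nat.succ_le_succ (Nat.zero_le n))
    have hB := Groth.Agent.Lib.T2H2.CMSlice.isCohenMacaulayLocalRing_quotient x hx hreg
    have hdimB : ringKrullDim (A ⧸ Ideal.span {x}) = n := by
      have h1 := ringKrullDim_quotient_span_singleton_succ_eq_ringKrullDim hreg hx
      rw [hdim] at h1
      apply Groth.Agent.Lib.T2H2.CMSlice.withBot_add_one_cancel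
      rw [h1]
      push_cast
      rfl
    have hinjB := injective_H_quotient n x hx hreg (le_of_eq hdepth.symm) hinj
    have hGB : LocCoh.IsGorensteinLocalRing (A ⧸ Ideal.span {x}) := by
      apply ih (A ⧸ Ideal.span {x}) hdimB
      rw [Groth.Agent.Lib.Helper5.maximalIdeal_quotient_eq_map]
      exact hinjB
    exact (Groth.Agent.S0343.result A x hx hreg).mpr hGB

end Main

end Groth.Agent.Lib.LeadCan
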