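import Mathlib
import Groth.Agent.Lib.LeadCanC
import Groth.Agent.Lib.LeadCanD
import Groth.Agent.Lib.LeadCanL
import Groth.Agent.Lib.LeadBassF
import Groth.Agent.Lib.T2H3CanonUniq
import Groth.Agent.Lib.Helper8LC3
import Groth.Agent.S0345

/-!
# A Cohen–Macaulay *local ring whose top graded local cohomology is *injective is Gorenstein (lead)

* `injective_localizedModule_of_ass`: the localization at a homogeneous prime `m` of a *injective
  module all of whose associated primes contain `m` is an injective `R`-module.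
* `isGorensteinLocalRing_localization_of_isStarInj`: if `H^n_m(R) ≅ X` with `X` *injective then
  `R_m` is Gorenstein (for `R_m` Cohen–Macaulay of dimension `n`).
* `isGorensteinRing_of_isGorensteinLocalRing_localization`: a Noetherian `ℤ`-graded *local ring
  `(R, m)` with `R_m` Gorenstein is Gorenstein.
-/

set_option autoImplicit false
set_option maxHeartbeats 400000
set_option linter.style.haveILetI false
set_option linter.unusedSectionVars false
set_option linter.unusedVariables false

universe u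

namespace Groth.Agent.Lib.LeadCan

open CategoryTheory CategoryTheory.Abelian IsLocalRing

section ass

variable {R : Type u} [CommRing R] [IsNoetherianRing R]

/-- Associated primes of a `J`-power torsion module contain `J`. -/
theorem le_of_mem_associatedPrimes_of_isPowerTorsion (J : Ideal R) (X : Type u) [AddCommGroup X]
    [Module R X] (htors : ∀ y : X, ∃ k : ℕ, ∀ a ∈ J ^ k, a • y = 0) (P : Ideal R)
    (hP : P ∈ associatedPrimes R X) : J ≤ P := by
  obtain ⟨hPp, y, hy⟩ := (isAssociatedPrime_iff).mp (AssociatedPrimes.mem_iff.mp hP)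
  have hy' : ∀ r : R, r ∈ P ↔ r • y = 0 := by
    intro r
    rw [hy, Submodule.mem_colon_singleton, Submodule.mem_bot]
  obtain ⟨k, hk⟩ := htors y
  exact hPp.le_of_pow_le (fun a ha => (hy' a).mpr (hk a ha))

end ass

section graded

variable {ι : Type} [AddCommGroup ι] [DecidableEq ι] [Module.Free ℤ ι] [Module.Finite ℤ ι]
variable {R : Type u} [CommRing R] [IsNoetherianRing R] (𝒜 : ι → AddSubgroup R) [GradedRing 𝒜]

variable (m : HomogeneousIdeal 𝒜) [hmp : m.toIdeal.IsPrime]
  {X : Type u} [AddCommGroup X] [Module R X] (𝓧 : ι → AddSubgroup X)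
  [DirectSum.Decomposition 𝓧] [SetLike.GradedSMul 𝒜 𝓧]
  (hX : GrLC.IsStarInj 𝒜 𝓧) (hass : ∀ P ∈ associatedPrimes R X, m.toIdeal ≤ P)

include hX hass in
/-- The first Bass numbers of a *injective module with `Ass ⊆ V(m)` vanish at all primes inside
`m`. -/
theorem bassNum_one_eq_zero_of_le_of_ass (q : Ideal R) [hq : q.IsPrime] (hqm : q ≤ m.toIdeal) :
    GrLC.bassNum q X 1 = 0 := by
  by_cases hqh : q.IsHomogeneous 𝒜
  · exact bassNum_succ_eq_zero_of_isHomogeneous 𝒜 𝓧 hX q hqh 0
  · haveI hcp : (Ideal.homogeneousCore 𝒜 q).toIdeal.IsPrime := isPrime_homogeneousCore 𝒜 q hq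
    have hcore_le : (Ideal.homogeneousCore 𝒜 q).toIdeal ≤ q := Ideal.toIdeal_homogeneousCore_le 𝒜 q
    haveI hprime : (q.map (Ideal.Quotient.mk (Ideal.homogeneousCore 𝒜 q).toIdeal)).IsPrime :=
      Ideal.map_isPrime_of_surjective Ideal.Quotient.mk_surjective (by rwa [Ideal.mk_ker])
    obtain ⟨d, hd⟩ := ENat.ne_top_iff_exists.mp
      (Ideal.height_ne_top (Ideal.IsPrime.ne_top hprime))
    obtain ⟨h1, h2⟩ := Groth.Agent.S13233.result R 𝒜 X 𝓧 q d hd.symm
    have hd0 : d ≠ 0 := by
      intro h0
      apply hqh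
      rw [h0] at hd
      haveI : IsDomain (R ⧸ (Ideal.homogeneousCore 𝒜 q).toIdeal) := Ideal.Quotient.isDomain _
      have hbot : q.map (Ideal.Quotient.mk (Ideal.homogeneousCore 𝒜 q).toIdeal) = ⊥ :=
        Ideal.height_eq_zero_iff_eq_bot.mp (by rw [← hd]; rfl)
      have hle : q ≤ (Ideal.homogeneousCore 𝒜 q).toIdeal := by
        intro x hx
        rw [← Ideal.Quotient.eq_zero_iff_mem, ← Ideal.mem_bot, ← hbot]
        exact Ideal.mem_map_of_mem _ hx
      have hqc : q = (Ideal.homogeneousCore 𝒜 q).toIdeal := le_antisymm hle hcore_le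
      rw [hqc]
      exact (Ideal.homogeneousCore 𝒜 q).isHomogeneous
    by_cases hd1 : d = 1
    · rw [h2 1 (by omega), hd1, Nat.sub_self]
      by_contra hne
      have hmem := (LeadInj.bassNum_zero_ne_zero_iff _ X).mp hne
      have hle := hass _ hmem
      apply hqh
      have hqc : q = (Ideal.homogeneousCore 𝒜 q).toIdeal :=
        le_antisymm (hqm.trans hle) hcore_le
      rw [hqc]
      exact (Ideal.homogeneousCore 𝒜 q).isHomogeneous
    · exact h1 1 (by omega)

include hX hass in
/-- The localization at `m` of a *injective module with `Ass ⊆ V(m)` is an injective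
`R`-module. -/
theorem injective_localizedModule_of_ass :
    Module.Injective R (LocalizedModule m.toIdeal.primeCompl X) := by
  refine LeadInj.injective_of_bassNum_one _ (fun q hq => ?_)
  by_cases hqm : q ≤ m.toIdeal
  · have hS : m.toIdeal.primeCompl ≤ q.primeCompl := fun x hx hxq => hx (hqm hxq)
    rw [bassNum_localizedModule m.toIdeal.primeCompl q hS X 1]
    exact bassNum_one_eq_zero_of_le_of_ass 𝒜 m 𝓧 hX hass q hqm
  · obtain ⟨s, hsq, hsm⟩ := Set.not_subset.mp hqm
    refine bassNum_eq_zero_of_smul_bijective q _ s hsq ?_ 1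
    have hu := IsLocalizedModule.map_units
      (LocalizedModule.mkLinearMap m.toIdeal.primeCompl X) (⟨s, hsm⟩ : m.toIdeal.primeCompl)
    exact (Module.End.isUnit_iff _).mp hu

include hX in
/-- If `H^n_m(R) ≅ X` for a *injective `X`, then `H^n_{mR_m}(R_m)` is an injective
`R_m`-module. -/
theorem injective_H_localization (n : ℕ) (I : GrLC.StarInjRes 𝒜 𝒜) (φ : I.H m n ≃ₗ[R] X) :
    Module.Injective (Localization.AtPrime m.toIdeal)
      (LocCoh.H (IsLocalRing.maximalIdeal (Localization.AtPrime m.toIdeal)) n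
        (Localization.AtPrime m.toIdeal)) := by
  obtain ⟨ψ⟩ := Groth.Agent.S13224.result R 𝒜 m R 𝒜 I n
  have htors : ∀ y : X, ∃ k : ℕ, ∀ a ∈ m.toIdeal ^ k, a • y = 0 := by
    intro y
    obtain ⟨k, hk⟩ := Groth.Agent.Lib.Helper8.LC.isPowerTorsion_H m.toIdeal n (ModuleCat.of R R)
      (ψ (φ.symm y))
    refine ⟨k, fun a ha => ?_⟩
    have h1 := hk a ha
    rw [← map_smul, ← map_smul] at h1
    have h2 := ψ.injective (h1.trans (map_zero ψ).symm)
    exact φ.symm.injective (h2.trans (map_zero φ.symm).symm)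
  have hass := le_of_mem_associatedPrimes_of_isPowerTorsion m.toIdeal X htors
  haveI := injective_localizedModule_of_ass 𝒜 m 𝓧 hX hass
  haveI hinjA : Module.Injective (Localization.AtPrime m.toIdeal)
      (LocalizedModule m.toIdeal.primeCompl X) :=
    injective_of_isLocalization m.toIdeal.primeCompl (Localization.AtPrime m.toIdeal)
      (LocalizedModule m.toIdeal.primeCompl X)
  let e3 : LocalizedModule m.toIdeal.primeCompl X
      ≃ₗ[Localization.AtPrime m.toIdeal] LocalizedModule m.toIdeal.primeCompl (I.H m n) :=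
    IsLocalizedModule.mapEquiv m.toIdeal.primeCompl
      (LocalizedModule.mkLinearMap m.toIdeal.primeCompl _)
      (LocalizedModule.mkLinearMap m.toIdeal.primeCompl _) (Localization.AtPrime m.toIdeal) φ.symm
  let e4 : LocalizedModule m.toIdeal.primeCompl (I.H m n)
      ≃ₗ[Localization.AtPrime m.toIdeal]
      LocalizedModule m.toIdeal.primeCompl (LocCoh.H m.toIdeal n R) :=
    IsLocalizedModule.mapEquiv m.toIdeal.primeCompl
      (LocalizedModule.mkLinearMap m.toIdeal.primeCompl _)
      (LocalizedModule.mkLinearMap m.toIdeal.primeCompl _) (Localization.AtPrime m.toIdeal) ψ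
  obtain ⟨e5⟩ := Groth.Agent.S11618.result R m.toIdeal m.toIdeal.primeCompl R n
  let ρR : LocalizedModule m.toIdeal.primeCompl R ≃ₗ[R] Localization.AtPrime m.toIdeal :=
    IsLocalizedModule.iso m.toIdeal.primeCompl
      (Algebra.linearMap R (Localization.AtPrime m.toIdeal))
  let ρ : LocalizedModule m.toIdeal.primeCompl R ≃ₗ[Localization.AtPrime m.toIdeal]
      Localization.AtPrime m.toIdeal :=
    ρR.extendScalarsOfIsLocalization m.toIdeal.primeCompl (Localization.AtPrime m.toIdeal)
  obtain ⟨e6⟩ := nonempty_H_congr _ _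
    (Localization.AtPrime.map_eq_maximalIdeal (I := m.toIdeal)) n _ _ ρ
  exact Module.Baer.injective (Module.Baer.of_equiv (e3 ≪≫ₗ e4 ≪≫ₗ e5 ≪≫ₗ e6)
    (Module.Baer.of_injective hinjA))

include hX in
/-- If `H^n_m(R) ≅ X` for a *injective `X` and `R_m` is Cohen–Macaulay of dimension `n`, then `R_m`
is Gorenstein. -/
theorem isGorensteinLocalRing_localization_of_isStarInj (n : ℕ) (I : GrLC.StarInjRes 𝒜 𝒜)
    (φ : I.H m n ≃ₗ[R] X)
    [LocCoh.IsCohenMacaulayLocalRing (Localization.AtPrime m.toIdeal)]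
    (hdim : ringKrullDim (Localization.AtPrime m.toIdeal) = n) :
    LocCoh.IsGorensteinLocalRing (Localization.AtPrime m.toIdeal) :=
  isGorensteinLocalRing_of_injective_H n (Localization.AtPrime m.toIdeal) hdim
    (injective_H_localization 𝒜 m 𝓧 hX n I φ)

end graded

section transfer

variable {R : Type u} [CommRing R] [IsNoetherianRing R] (𝒜 : ℤ → AddSubgroup R) [GradedRing 𝒜]
  (m : HomogeneousIdeal 𝒜) (hm : GrLC.IsStarLocal 𝒜 m) [hmp : m.toIdeal.IsPrime]

include hm in
/-- A Noetherian `ℤ`-graded *local ring `(R, m)` whose localization `R_m` is Gorenstein is a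
Gorenstein ring. -/
theorem isGorensteinRing_of_isGorensteinLocalRing_localization
    (hG : LocCoh.IsGorensteinLocalRing (Localization.AtPrime m.toIdeal)) :
    LocCoh.IsGorensteinRing R := by
  obtain ⟨d, hd⟩ := hG.exists_hasInjectiveDimensionLT
  let ρR : LocalizedModule m.toIdeal.primeCompl R ≃ₗ[R] Localization.AtPrime m.toIdeal :=
    IsLocalizedModule.iso m.toIdeal.primeCompl
      (Algebra.linearMap R (Localization.AtPrime m.toIdeal))
  let ρ : LocalizedModule m.toIdeal.primeCompl R ≃ₗ[Localization.AtPrime m.toIdeal]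
      Localization.AtPrime m.toIdeal :=
    ρR.extendScalarsOfIsLocalization m.toIdeal.primeCompl (Localization.AtPrime m.toIdeal)
  have h1 : HasInjectiveDimensionLT (ModuleCat.of (Localization.AtPrime m.toIdeal)
      (LocalizedModule m.toIdeal.primeCompl R)) d :=
    hasInjectiveDimensionLT_of_iso ρ.symm.toModuleIso d
  have h1R : HasInjectiveDimensionLT
      (ModuleCat.of R (LocalizedModule m.toIdeal.primeCompl R)) d :=
    hasInjectiveDimensionLT_of_isLocalization m.toIdeal.primeCompl _ d h1
  have hhom : ∀ (p : Ideal R) [p.IsPrime], p.IsHomogeneous 𝒜 → ∀ j, d ≤ j →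
      GrLC.bassNum p R j = 0 := by
    intro p hp hph j hj
    have hle : (⟨p, hph⟩ : HomogeneousIdeal 𝒜) ≤ m :=
      Groth.Agent.Lib.T2H3.CanonUniq.le_of_isStarLocal 𝒜 hm _ (fun h => hp.ne_top
        (congrArg HomogeneousIdeal.toIdeal h))
    have hS : m.toIdeal.primeCompl ≤ p.primeCompl := fun x hx hxp => hx (hle hxp)
    rw [← bassNum_localizedModule m.toIdeal.primeCompl p hS R j]
    exact bassNum_eq_zero_of_hasInjectiveDimensionLT _ d h1R p j hj
  have hfin : HasInjectiveDimensionLT (ModuleCat.of R R) (d + 1) := by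
    apply LeadInj.hasInjectiveDimensionLT_succ_of_bassNum R d
    intro p hp
    by_cases hph : p.IsHomogeneous 𝒜
    · exact hhom p hph _ (by omega)
    · haveI := isPrime_homogeneousCore 𝒜 p hp
      have h := (LeadBass.bassNum_core_shift 𝒜 p R 𝒜 1
        (by rw [LeadBass.height_map_mk_core_eq_one 𝒜 p hph]; rfl)).2 d
      rw [h]
      exact hhom _ (Ideal.homogeneousCore 𝒜 p).isHomogeneous _ le_rfl
  exact ((Groth.Agent.S0345.result R).mp ⟨d + 1, hfin⟩).1

end transfer

end Groth.Agent.Lib.LeadCan
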