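import Groth.Agent.Lib.T2H3GrLesB
import Groth.Agent.Lib.Helper29GrShift

/-! Graded local cohomology: shifted graded modules / resolutions and binary products of
graded modules (helper3). -/

set_option autoImplicit false
open DirectSum

noncomputable section

namespace Groth.Agent.Lib.T2H3.GrLes

open GrLC Groth.Agent.Lib.Helper29GrShift

universe u

variable {ι : Type} [AddCommGroup ι] [DecidableEq ι]
variable {R : Type u} [CommRing R] {𝒜 : ι → AddSubgroup R} [GradedRing 𝒜]

section Shift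

instance shiftDecInst {L : Type u} [AddCommGroup L] (𝓛 : ι → AddSubgroup L)
    [DirectSum.Decomposition 𝓛] (d : ι) : DirectSum.Decomposition (shiftGr 𝓛 d) :=
  shiftDecomposition 𝓛 d

instance shiftGSInst {L : Type u} [AddCommGroup L] [Module R L] (𝓛 : ι → AddSubgroup L)
    [SetLike.GradedSMul 𝒜 𝓛] (d : ι) : SetLike.GradedSMul 𝒜 (shiftGr 𝓛 d) :=
  shift_gradedSMul 𝒜 𝓛 d

/-- The shifted graded module `X(d)`, `X(d)_j = X_{j+d}`. -/
def shiftGMod (X : GMod.{u} 𝒜) (d : ι) : GMod.{u} 𝒜 :=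
  GMod.of 𝒜 X.carrier (shiftGr X.gr d)

theorem isStarInj_shift (X : GMod.{u} 𝒜) (hX : IsStarInj 𝒜 X.gr) (d : ι) :
    IsStarInj 𝒜 (shiftGr X.gr d) := by
  intro A B f hf hinj g hg
  obtain ⟨h, hh, hhf⟩ := hX (shiftGMod A (-d)) (shiftGMod B (-d)) f
    (fun k x hx => hf (k + -d) x hx) hinj g (fun k x hx => by
      have h1 : g x ∈ X.gr (k + -d + d) := hg (k + -d) x hx
      rwa [neg_add_cancel_right] at h1)
  refine ⟨h, fun k x hx => ?_, hhf⟩
  have hx' : x ∈ B.gr (k + d + -d) := by rwa [add_neg_cancel_right]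
  exact hh (k + d) x hx'

variable {M : Type u} [AddCommGroup M] [Module R M] {ℳ : ι → AddSubgroup M}
  [DirectSum.Decomposition ℳ] [SetLike.GradedSMul 𝒜 ℳ]

/-- The shifted resolution: same modules and maps, all gradings shifted by `d`. -/
def shiftRes (E : StarInjRes 𝒜 ℳ) (d : ι) : StarInjRes 𝒜 (shiftGr ℳ d) where
  X n := shiftGMod (E.X n) d
  d := E.d
  ε := E.ε
  d_grHom n k x hx := E.d_grHom n (k + d) x hx
  ε_grHom k x hx := E.ε_grHom (k + d) x hx
  ε_injective := E.ε_injective
  exact_zero := E.exact_zero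
  exact_succ := E.exact_succ
  starInj n := isStarInj_shift (E.X n) (E.starInj n) d

theorem mem_Hcomp_shiftRes (E : StarInjRes 𝒜 ℳ) (d : ι) (a : HomogeneousIdeal 𝒜) (i : ℕ)
    (g : ι) (x : E.H a i) :
    x ∈ (shiftRes E d).Hcomp a i g ↔ x ∈ E.Hcomp a i (g + d) := Iff.rfl

end Shift

section Prod

variable (X Y : GMod.{u} 𝒜)

/-- Pieces of the product. -/
def prodGr : ι → AddSubgroup (X.carrier × Y.carrier) := fun g => (X.gr g).prod (Y.gr g)

theorem mem_prodGr {g : ι} {p : X.carrier × Y.carrier} :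
    p ∈ prodGr X Y g ↔ p.1 ∈ X.gr g ∧ p.2 ∈ Y.gr g := Iff.rfl

/-- Inclusion of pieces, left. -/
def inlPiece (g : ι) : ↥(X.gr g) →+ ↥(prodGr X Y g) where
  toFun x := ⟨((x : X.carrier), 0), x.2, zero_mem _⟩
  map_zero' := Subtype.ext rfl
  map_add' x y := Subtype.ext (by
    change (((x : X.carrier) + (y : X.carrier)), (0 : Y.carrier)) = ((x : X.carrier), 0) + ((y : X.carrier), 0)
    rw [Prod.mk_add_mk, add_zero])

/-- Inclusion of pieces, right. -/
def inrPiece (g : ι) : ↥(Y.gr g) →+ ↥(prodGr X Y g) where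
  toFun y := ⟨(0, (y : Y.carrier)), zero_mem _, y.2⟩
  map_zero' := Subtype.ext rfl
  map_add' x y := Subtype.ext (by
    change ((0 : X.carrier), ((x : Y.carrier) + (y : Y.carrier))) = (0, (x : Y.carrier)) + (0, (y : Y.carrier))
    rw [Prod.mk_add_mk, add_zero])

theorem coe_map_inlPiece (u : ⨁ g, X.gr g) :
    DirectSum.coeAddMonoidHom (prodGr X Y) (DirectSum.map (inlPiece X Y) u) =
      (DirectSum.coeAddMonoidHom X.gr u, 0) := by
  classical
  induction u using DirectSum.induction_on with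
  | zero => rw [map_zero, map_zero, map_zero]; rfl
  | of g x =>
    rw [DirectSum.map_of, DirectSum.coeAddMonoidHom_of, DirectSum.coeAddMonoidHom_of]
    rfl
  | add x y hx hy =>
    rw [map_add, map_add, map_add, hx, hy, Prod.mk_add_mk, add_zero]

theorem coe_map_inrPiece (u : ⨁ g, Y.gr g) :
    DirectSum.coeAddMonoidHom (prodGr X Y) (DirectSum.map (inrPiece X Y) u) =
      (0, DirectSum.coeAddMonoidHom Y.gr u) := by
  classical
  induction u using DirectSum.induction_on with
  | zero => rw [map_zero, map_zero, map_zero]; rfl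
  | of g x =>
    rw [DirectSum.map_of, DirectSum.coeAddMonoidHom_of, DirectSum.coeAddMonoidHom_of]
    rfl
  | add x y hx hy =>
    rw [map_add, map_add, map_add, hx, hy, Prod.mk_add_mk, add_zero]

/-- The decomposition map of the product. -/
def prodDec : X.carrier × Y.carrier →+ ⨁ g, prodGr X Y g :=
  ((DirectSum.map (inlPiece X Y)).comp
      ((DirectSum.decomposeAddEquiv X.gr).toAddMonoidHom.comp (AddMonoidHom.fst _ _))) +
    ((DirectSum.map (inrPiece X Y)).comp
      ((DirectSum.decomposeAddEquiv Y.gr).toAddMonoidHom.comp (AddMonoidHom.snd _ _)))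

theorem prodDec_apply (p : X.carrier × Y.carrier) :
    prodDec X Y p = DirectSum.map (inlPiece X Y) (DirectSum.decompose X.gr p.1) +
      DirectSum.map (inrPiece X Y) (DirectSum.decompose Y.gr p.2) := rfl

instance prodDecomposition : DirectSum.Decomposition (prodGr X Y) :=
  DirectSum.Decomposition.ofAddHom (prodGr X Y) (prodDec X Y)
    (by
      apply AddMonoidHom.ext
      intro p
      rw [AddMonoidHom.comp_apply, prodDec_apply, map_add, coe_map_inlPiece, coe_map_inrPiece]
      have h1 : DirectSum.coeAddMonoidHom X.gr (DirectSum.decompose X.gr p.1) = p.1 :=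
        DirectSum.Decomposition.left_inv p.1
      have h2 : DirectSum.coeAddMonoidHom Y.gr (DirectSum.decompose Y.gr p.2) = p.2 :=
        DirectSum.Decomposition.left_inv p.2
      rw [h1, h2, Prod.mk_add_mk, add_zero, zero_add]
      rfl)
    (by
      apply DirectSum.addHom_ext
      rintro g ⟨⟨x, y⟩, hx, hy⟩
      rw [AddMonoidHom.comp_apply, DirectSum.coeAddMonoidHom_of, prodDec_apply]
      change DirectSum.map (inlPiece X Y) (DirectSum.decompose X.gr x) +
        DirectSum.map (inrPiece X Y) (DirectSum.decompose Y.gr y) = _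
      rw [DirectSum.decompose_of_mem X.gr hx, DirectSum.decompose_of_mem Y.gr hy,
        DirectSum.map_of, DirectSum.map_of, ← map_add]
      change DirectSum.of (fun g => ↥(prodGr X Y g)) g _ = DirectSum.of _ g _
      congr 1
      apply Subtype.ext
      change ((x, (0 : Y.carrier)) + ((0 : X.carrier), y)) = (x, y)
      rw [Prod.mk_add_mk, add_zero, zero_add])

instance prodGradedSMul : SetLike.GradedSMul 𝒜 (prodGr X Y) where
  smul_mem := by
    rintro i j r ⟨x, y⟩ hr ⟨hx, hy⟩
    exact ⟨SetLike.GradedSMul.smul_mem (A := 𝒜) (B := X.gr) hr hx,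
      SetLike.GradedSMul.smul_mem (A := 𝒜) (B := Y.gr) hr hy⟩

/-- The product of two graded modules. -/
def prodGMod : GMod.{u} 𝒜 := GMod.of 𝒜 (X.carrier × Y.carrier) (prodGr X Y)

theorem isStarInj_prod (hX : IsStarInj 𝒜 X.gr) (hY : IsStarInj 𝒜 Y.gr) :
    IsStarInj 𝒜 (prodGr X Y) := by
  intro A B f hf hinj g hg
  obtain ⟨h1, hh1, hf1⟩ := hX A B f hf hinj (LinearMap.fst R _ _ ∘ₗ g)
    (fun k x hx => (hg k x hx).1)
  obtain ⟨h2, hh2, hf2⟩ := hY A B f hf hinj (LinearMap.snd R _ _ ∘ₗ g)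
    (fun k x hx => (hg k x hx).2)
  refine ⟨LinearMap.prod h1 h2, fun k x hx => ⟨hh1 k x hx, hh2 k x hx⟩, ?_⟩
  apply LinearMap.ext
  intro x
  apply Prod.ext
  · exact LinearMap.congr_fun hf1 x
  · exact LinearMap.congr_fun hf2 x

end Prod

end Groth.Agent.Lib.T2H3.GrLes
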