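import Groth.Agent.Lib.T2H3MatlisB
import Groth.Agent.Lib.T2H3GrLesC
import Groth.Agent.Lib.T2H3CanonUniq
import Groth.Agent.Lib.Helper29Socle
import Groth.Agent.S13220

/-! The summands of the graded Matlis decomposition as *injective hulls, and the torsion
`Γ_m` of a decomposed *injective module over a *local ring (helper3). -/

set_option autoImplicit false
open DirectSum

noncomputable section

namespace Groth.Agent.Lib.T2H3.Matlis

open Groth.Agent.Lib.Helper29GrHom Groth.Agent.Lib.Helper29GrEss Groth.Agent.Lib.Helper29GrSub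
  Groth.Agent.Lib.Helper29GrSummand Groth.Agent.Lib.Helper29GrAss Groth.Agent.Lib.Helper29GrGam
  Groth.Agent.Lib.Helper29GrShift Groth.Agent.Lib.T2H3.GrLes

universe u

variable {ι : Type} [AddCommGroup ι] [DecidableEq ι]
variable {R : Type u} [CommRing R] (𝒜 : ι → AddSubgroup R) [GradedRing 𝒜]
variable {I : Type u} [AddCommGroup I] [Module R I] (ℐ : ι → AddSubgroup I)
  [DirectSum.Decomposition ℐ] [SetLike.GradedSMul 𝒜 ℐ]

/-- A homogeneous submodule as a bundled graded module. -/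
def subGMod (J : Submodule R I) (hJ : J.IsHomogeneous ℐ) : GrLC.GMod.{u} 𝒜 :=
  { carrier := ↥J
    gr := subGr ℐ J
    dec := subDecomposition ℐ J hJ
    gsmul := sub_gradedSMul ℐ J 𝒜 }

variable {ℐ} in
/-- A graded retract of a *injective module is *injective. -/
theorem isStarInj_subGMod (hI : GrLC.IsStarInj 𝒜 ℐ) {J : Submodule R I} (hJ : IsRetr ℐ J) :
    GrLC.IsStarInj 𝒜 (subGMod 𝒜 ℐ J hJ.isHomogeneous).gr := by
  have hJ' := hJ
  obtain ⟨ρ, hρgr, hρmem, hρid⟩ := hJ'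
  intro A B f hf hinj g hg
  obtain ⟨k, hkgr, hk⟩ := hI A B f hf hinj (J.subtype ∘ₗ g) (fun d a ha => hg d a ha)
  refine ⟨LinearMap.codRestrict J (ρ ∘ₗ k) (fun b => hρmem _), ?_, ?_⟩
  · intro d b hb
    exact hρgr d _ (hkgr d b hb)
  · apply LinearMap.ext
    intro a
    apply Subtype.ext
    change ρ (k (f a)) = J.subtype (g a)
    have h1 : k (f a) = J.subtype (g a) := LinearMap.congr_fun hk a
    rw [h1]
    exact hρid _ (Submodule.coe_mem (show ↥J from g a))

/-- The corestriction of a map with range in `J` to the regraded summand. -/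
def summandMap (J : Submodule R I) (hJh : J.IsHomogeneous ℐ) (g : ι) {p : Ideal R}
    (f : (R ⧸ p) →ₗ[R] I) (hle : LinearMap.range f ≤ J) :
    (R ⧸ p) →ₗ[R] (shiftGMod (subGMod 𝒜 ℐ J hJh) g).carrier :=
  LinearMap.codRestrict J f (fun x => hle ⟨x, rfl⟩)

/-- The inclusion of the regraded summand. -/
def summandVal (J : Submodule R I) (hJh : J.IsHomogeneous ℐ) (g : ι) :
    (shiftGMod (subGMod 𝒜 ℐ J hJh) g).carrier →ₗ[R] I :=
  J.subtype

theorem summandVal_injective (J : Submodule R I) (hJh : J.IsHomogeneous ℐ) (g : ι) :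
    Function.Injective (summandVal 𝒜 ℐ J hJh g) :=
  Submodule.subtype_injective J

theorem summandVal_mem (J : Submodule R I) (hJh : J.IsHomogeneous ℐ) (g : ι)
    (x : (shiftGMod (subGMod 𝒜 ℐ J hJh) g).carrier) : summandVal 𝒜 ℐ J hJh g x ∈ J :=
  Submodule.coe_mem (show ↥J from x)

theorem summandVal_summandMap (J : Submodule R I) (hJh : J.IsHomogeneous ℐ) (g : ι) {p : Ideal R}
    (f : (R ⧸ p) →ₗ[R] I) (hle : LinearMap.range f ≤ J) (x : R ⧸ p) :
    summandVal 𝒜 ℐ J hJh g (summandMap 𝒜 ℐ J hJh g f hle x) = f x :=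
  rfl

theorem mem_summand_gr_iff (J : Submodule R I) (hJh : J.IsHomogeneous ℐ) (g : ι) (d : ι)
    (x : (shiftGMod (subGMod 𝒜 ℐ J hJh) g).carrier) :
    x ∈ (shiftGMod (subGMod 𝒜 ℐ J hJh) g).gr d ↔ summandVal 𝒜 ℐ J hJh g x ∈ ℐ (d + g) :=
  Iff.rfl

variable {ℐ} in
/-- A summand of the graded Matlis decomposition, regraded by its shift, is a *injective hull
of `R ⧸ p`. -/
theorem isStarInjHull_shift (hI : GrLC.IsStarInj 𝒜 ℐ) {J : Submodule R I} (hJ : IsRetr ℐ J)
    (p : HomogeneousIdeal 𝒜) (g : ι) (f : (R ⧸ p.toIdeal) →ₗ[R] I)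
    (hinj : Function.Injective f) (hdeg : GrLC.IsGrHomDeg (GrLC.quotGr 𝒜 p) ℐ f g)
    (hle : LinearMap.range f ≤ J)
    (hess : ∀ Q : Submodule R I, Q.IsHomogeneous ℐ → Q ≤ J → Q ≠ ⊥ →
      Q ⊓ LinearMap.range f ≠ ⊥) :
    GrLC.IsStarInjHull 𝒜 (GrLC.quotGr 𝒜 p)
      (shiftGMod (subGMod 𝒜 ℐ J hJ.isHomogeneous) g).gr
      (summandMap 𝒜 ℐ J hJ.isHomogeneous g f hle) := by
  classical
  have hJh := hJ.isHomogeneous
  refine { injective := ?_, grHom := ?_, essential := ?_, starInj := ?_ }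
  · intro x y hxy
    apply hinj
    have := congrArg (summandVal 𝒜 ℐ J hJh g) hxy
    rwa [summandVal_summandMap, summandVal_summandMap] at this
  · intro i x hx
    rw [mem_summand_gr_iff, summandVal_summandMap]
    exact hdeg i x hx
  · intro P hP hP0
    obtain ⟨y, hyP, hy0⟩ := Submodule.exists_mem_ne_zero_of_ne_bot hP0
    obtain ⟨d, hd⟩ := exists_component_ne_zero (shiftGMod (subGMod 𝒜 ℐ J hJh) g).gr hy0
    obtain ⟨yd, hydP, hydd, hyd0⟩ : ∃ yd : (shiftGMod (subGMod 𝒜 ℐ J hJh) g).carrier,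
        yd ∈ P ∧ yd ∈ (shiftGMod (subGMod 𝒜 ℐ J hJh) g).gr d ∧ yd ≠ 0 :=
      ⟨_, hP d hyP, SetLike.coe_mem _, hd⟩
    have hv0 : summandVal 𝒜 ℐ J hJh g yd ≠ 0 := fun h =>
      hyd0 (summandVal_injective 𝒜 ℐ J hJh g (h.trans (map_zero _).symm))
    have hvd : summandVal 𝒜 ℐ J hJh g yd ∈ ℐ (d + g) := hydd
    have hQ : (Submodule.span R {summandVal 𝒜 ℐ J hJh g yd}).IsHomogeneous ℐ :=
      span_singleton_isHomogeneous 𝒜 ℐ hvd
    have hQle : Submodule.span R {summandVal 𝒜 ℐ J hJh g yd} ≤ J :=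
      (Submodule.span_singleton_le_iff_mem _ _).mpr (summandVal_mem 𝒜 ℐ J hJh g yd)
    have hQ0 : Submodule.span R {summandVal 𝒜 ℐ J hJh g yd} ≠ ⊥ := by
      rw [Ne, Submodule.span_singleton_eq_bot]
      exact hv0
    obtain ⟨z, hz, hz0⟩ := Submodule.exists_mem_ne_zero_of_ne_bot (hess _ hQ hQle hQ0)
    obtain ⟨hzQ, x, rfl⟩ := hz
    obtain ⟨r, hr⟩ := Submodule.mem_span_singleton.mp hzQ
    intro hbot
    have hmem : r • yd ∈ P ⊓ LinearMap.range (summandMap 𝒜 ℐ J hJh g f hle) := by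
      refine ⟨P.smul_mem r hydP, x, ?_⟩
      apply summandVal_injective 𝒜 ℐ J hJh g
      rw [summandVal_summandMap, map_smul]
      exact hr.symm
    rw [hbot, Submodule.mem_bot] at hmem
    apply hz0
    rw [← hr, ← map_smul, hmem, map_zero]
  · exact isStarInj_shift (subGMod 𝒜 ℐ J hJ.isHomogeneous) (isStarInj_subGMod 𝒜 hI hJ) g

section Torsion

variable [Module.Free ℤ ι] [Module.Finite ℤ ι] [IsNoetherianRing R]

variable {ℐ} in
/-- A summand with prime `m` is `m`-torsion. -/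
theorem le_gam_of_summand (hI : GrLC.IsStarInj 𝒜 ℐ) {J : Submodule R I} (hJ : IsRetr ℐ J)
    (m : HomogeneousIdeal 𝒜) [m.toIdeal.IsPrime] (g : ι) (f : (R ⧸ m.toIdeal) →ₗ[R] I)
    (hinj : Function.Injective f) (hdeg : GrLC.IsGrHomDeg (GrLC.quotGr 𝒜 m) ℐ f g)
    (hle : LinearMap.range f ≤ J)
    (hess : ∀ Q : Submodule R I, Q.IsHomogeneous ℐ → Q ≤ J → Q ≠ ⊥ →
      Q ⊓ LinearMap.range f ≠ ⊥) :
    J ≤ GrLC.gam m.toIdeal I := by
  have hhull := isStarInjHull_shift 𝒜 hI hJ m g f hinj hdeg hle hess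
  have htop := Groth.Agent.S13220.result R 𝒜 m
    (shiftGMod (subGMod 𝒜 ℐ J hJ.isHomogeneous) g).carrier
    (shiftGMod (subGMod 𝒜 ℐ J hJ.isHomogeneous) g).gr _ hhull
  intro x hx
  have h1 : (⟨x, hx⟩ : ↥J) ∈ GrLC.gam m.toIdeal ↥J := by
    have h2 : (show (shiftGMod (subGMod 𝒜 ℐ J hJ.isHomogeneous) g).carrier from ⟨x, hx⟩) ∈
        GrLC.gam m.toIdeal (shiftGMod (subGMod 𝒜 ℐ J hJ.isHomogeneous) g).carrier := by
      rw [htop]
      exact Submodule.mem_top
    exact h2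
  obtain ⟨n, hn⟩ := h1
  exact ⟨n, fun r hr => congrArg (fun z : ↥J => (z : I)) (hn r hr)⟩

omit [Module.Free ℤ ι] [Module.Finite ℤ ι] [IsNoetherianRing R] in
variable {ℐ} in
/-- The kernel of multiplication by a homogeneous element is homogeneous. -/
theorem ker_smul_isHomogeneous {i : ι} {s : R} (hs : s ∈ 𝒜 i) :
    (LinearMap.ker (LinearMap.lsmul R I s)).IsHomogeneous ℐ := by
  intro d y hy
  rw [LinearMap.mem_ker, LinearMap.lsmul_apply] at hy ⊢
  have h1 := decompose_smul_of_mem 𝒜 ℐ hs y (d + i)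
  rw [hy, DirectSum.decompose_zero, add_sub_cancel_right] at h1
  exact h1.symm

variable {ℐ} in
/-- A summand whose prime is not the *maximal ideal has no `m`-torsion. -/
theorem gam_inf_eq_bot_of_ne {m : HomogeneousIdeal 𝒜} (hm : GrLC.IsStarLocal 𝒜 m)
    {J : Submodule R I} (hJh : J.IsHomogeneous ℐ)
    (p : HomogeneousIdeal 𝒜) (hp : p.toIdeal.IsPrime) (hpm : p ≠ m) (f : (R ⧸ p.toIdeal) →ₗ[R] I)
    (hinj : Function.Injective f)
    (hess : ∀ Q : Submodule R I, Q.IsHomogeneous ℐ → Q ≤ J → Q ≠ ⊥ →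
      Q ⊓ LinearMap.range f ≠ ⊥) :
    GrLC.gam m.toIdeal I ⊓ J = ⊥ := by
  classical
  have hple : p ≤ m := Groth.Agent.Lib.T2H3.CanonUniq.le_of_isStarLocal 𝒜 hm p (by
    intro h
    apply hp.ne_top
    rw [h]
    rfl)
  -- a homogeneous element of `m` outside `p`
  obtain ⟨i, s, hsi, hsm, hsp⟩ : ∃ (i : ι) (s : R), s ∈ 𝒜 i ∧ s ∈ m.toIdeal ∧ s ∉ p.toIdeal := by
    by_contra hcon
    push Not at hcon
    apply hpm
    apply le_antisymm hple
    intro r hr
    change r ∈ p.toIdeal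
    rw [← DirectSum.sum_support_decompose 𝒜 r]
    exact Ideal.sum_mem _ (fun i _ => hcon i _ (SetLike.coe_mem _) (m.isHomogeneous i hr))
  haveI : IsDomain (R ⧸ p.toIdeal) := Ideal.Quotient.isDomain _
  have hs0 : Ideal.Quotient.mk p.toIdeal s ≠ 0 := by
    rw [Ne, Ideal.Quotient.eq_zero_iff_mem]
    exact hsp
  -- `s` acts injectively on `J`
  have hsinj : ∀ y ∈ J, s • y = 0 → y = 0 := by
    intro y hyJ hsy
    by_contra hy0
    have hK : (J ⊓ LinearMap.ker (LinearMap.lsmul R I s)).IsHomogeneous ℐ :=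
      inf_isHomogeneous ℐ hJh (ker_smul_isHomogeneous 𝒜 hsi)
    have hK0 : J ⊓ LinearMap.ker (LinearMap.lsmul R I s) ≠ ⊥ := by
      intro h
      have h1 : y ∈ J ⊓ LinearMap.ker (LinearMap.lsmul R I s) := ⟨hyJ, hsy⟩
      rw [h, Submodule.mem_bot] at h1
      exact hy0 h1
    obtain ⟨z, hz, hz0⟩ := Submodule.exists_mem_ne_zero_of_ne_bot (hess _ hK inf_le_left hK0)
    obtain ⟨⟨-, hzker⟩, x, rfl⟩ := hz
    have hzker' : s • f x = 0 := hzker
    rw [← map_smul] at hzker'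
    have h2 : s • x = 0 := hinj (hzker'.trans (map_zero f).symm)
    have h3 : Ideal.Quotient.mk p.toIdeal s * x = 0 := by
      rw [← h2, Algebra.smul_def]
      rfl
    rcases mul_eq_zero.mp h3 with h4 | h4
    · exact hs0 h4
    · exact hz0 (by rw [h4, map_zero])
  rw [eq_bot_iff]
  rintro y ⟨⟨n, hn⟩, hyJ⟩
  rw [Submodule.mem_bot]
  have hsn : s ^ n • y = 0 := hn _ (Ideal.pow_mem_pow hsm n)
  clear hn
  induction n with
  | zero => rwa [pow_zero, one_smul] at hsn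
  | succ k ih =>
    apply ih
    apply hsinj _ (J.smul_mem _ hyJ)
    rw [smul_smul, ← pow_succ']
    exact hsn

variable {ℐ} in
/-- `Γ_m` of a decomposed *injective module over a *local ring is carried by the summands
whose prime is `m`. -/
theorem gam_le_iSup {m : HomogeneousIdeal 𝒜} (hm : GrLC.IsStarLocal 𝒜 m)
    {Λ : Type u} (P : Λ → HomogeneousIdeal 𝒜) (hP : ∀ α, (P α).toIdeal.IsPrime)
    (J : Λ → Submodule R I) (hJ : ∀ α, (J α).IsHomogeneous ℐ) (hind : iSupIndep J)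
    (htop : iSup J = ⊤) (f : ∀ α, (R ⧸ (P α).toIdeal) →ₗ[R] I)
    (hf : ∀ α, Function.Injective (f α) ∧
      ∀ Q : Submodule R I, Q.IsHomogeneous ℐ → Q ≤ J α → Q ≠ ⊥ →
        Q ⊓ LinearMap.range (f α) ≠ ⊥) :
    GrLC.gam m.toIdeal I ≤ ⨆ α : {α : Λ // P α = m}, J α.1 := by
  classical
  rintro x ⟨n, hn⟩
  have hx : x ∈ iSup J := by
    rw [htop]
    exact Submodule.mem_top
  obtain ⟨F, hF, hsum⟩ := (Submodule.mem_iSup_iff_exists_finsupp J x).mp hx
  rw [← hsum]
  apply Submodule.sum_mem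
  intro α hα
  change F α ∈ _
  have hgam : F α ∈ GrLC.gam m.toIdeal I := by
    refine ⟨n, fun r hr => ?_⟩
    refine Groth.Agent.Lib.Helper29Socle.eq_zero_of_sum_eq_zero hind F.support
      (fun β => r • F β) (fun β => (J β).smul_mem r (hF β)) ?_ α hα
    rw [← Finset.smul_sum]
    have h1 : ∑ β ∈ F.support, F β = x := hsum
    rw [h1]
    exact hn r hr
  by_cases hα' : P α = m
  · exact (le_iSup (fun α : {α : Λ // P α = m} => J α.1) ⟨α, hα'⟩) (hF α)
  · have h0 : F α ∈ GrLC.gam m.toIdeal I ⊓ J α := ⟨hgam, hF α⟩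
    rw [gam_inf_eq_bot_of_ne 𝒜 hm (hJ α) (P α) (hP α) hα' (f α) (hf α).1 (hf α).2,
      Submodule.mem_bot] at h0
    rw [h0]
    exact zero_mem _

/-- A *maximal homogeneous ideal is prime (grading group finitely generated torsion-free). -/
theorem isPrime_of_isStarLocal {m : HomogeneousIdeal 𝒜} (hm : GrLC.IsStarLocal 𝒜 m) :
    m.toIdeal.IsPrime := by
  classical
  refine isPrime_of_homogeneous_mem_or_mem' 𝒜 m.isHomogeneous ?_ ?_
  · intro h
    apply hm.1.1
    apply HomogeneousIdeal.toIdeal_injective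
    rw [h]
    rfl
  · intro x y hx hy hxy
    by_contra hcon
    push Not at hcon
    obtain ⟨hxm, hym⟩ := hcon
    let K : HomogeneousIdeal 𝒜 := m ⊔ ⟨Ideal.span {x}, Ideal.homogeneous_span 𝒜 {x} (by
      intro z hz
      rw [Set.mem_singleton_iff] at hz
      rw [hz]
      exact hx)⟩
    have hmK : m < K := by
      refine lt_of_le_of_ne le_sup_left ?_
      intro h
      apply hxm
      have h1 : x ∈ K.toIdeal := by
        change x ∈ (m ⊔ _ : HomogeneousIdeal 𝒜).toIdeal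
        rw [HomogeneousIdeal.toIdeal_sup]
        exact Ideal.mem_sup_right (Ideal.subset_span rfl)
      rw [← h] at h1
      exact h1
    have hK := hm.1.2 K hmK
    have h1 : (1 : R) ∈ K.toIdeal := by
      rw [hK]
      exact Submodule.mem_top
    change (1 : R) ∈ (m ⊔ _ : HomogeneousIdeal 𝒜).toIdeal at h1
    rw [HomogeneousIdeal.toIdeal_sup] at h1
    obtain ⟨a, ha, b, hb, hab⟩ := Submodule.mem_sup.mp h1
    obtain ⟨c, rfl⟩ := Ideal.mem_span_singleton'.mp hb
    apply hym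
    have h2 : y = a * y + c * (x * y) := by
      calc y = 1 * y := (one_mul y).symm
        _ = (a + c * x) * y := by rw [hab]
        _ = a * y + c * (x * y) := by ring
    rw [h2]
    exact m.toIdeal.add_mem (m.toIdeal.mul_mem_right _ ha) (m.toIdeal.mul_mem_left _ hxy)

end Torsion

end Groth.Agent.Lib.T2H3.Matlis
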