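import Groth.Agent.Lib.Helper29GrRes
import Groth.Agent.Lib.Helper29GrHull

/-! Existence of a *minimal* *injective resolution of a graded module: every term is a
*injective hull of the previous cosyzygy (helper3). -/

set_option autoImplicit false
open DirectSum CategoryTheory

noncomputable section

namespace Groth.Agent.Lib.T2H3.MinRes

open Groth.Agent.Lib.Helper29GrHom Groth.Agent.Lib.Helper29GrEss Groth.Agent.Lib.Helper29GrQuot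
  Groth.Agent.Lib.Helper29GrCofree Groth.Agent.Lib.Helper29GrRes Groth.Agent.Lib.Helper29GrHull

universe u

variable {ι : Type} [AddCommGroup ι] [DecidableEq ι]
variable {R : Type u} [CommRing R] (𝒜 : ι → AddSubgroup R) [GradedRing 𝒜]

theorem exists_hull (Y : GrLC.GMod.{u} 𝒜) :
    ∃ (E : GrLC.GMod.{u} 𝒜) (f : Y.carrier →ₗ[R] E.carrier),
      GrLC.IsStarInjHull 𝒜 Y.gr E.gr f := by
  obtain ⟨E, f, ψ, hE, -⟩ := exists_hull_of_injective 𝒜 Y.gr (pres 𝒜 Y).J (embOf 𝒜 Y)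
    (embOf_injective 𝒜 Y)
  exact ⟨E, f, hE⟩

/-- A chosen *injective hull of `Y`. -/
def HX (Y : GrLC.GMod.{u} 𝒜) : GrLC.GMod.{u} 𝒜 := (exists_hull 𝒜 Y).choose

/-- The hull embedding. -/
def hj (Y : GrLC.GMod.{u} 𝒜) : Y.carrier →ₗ[R] (HX 𝒜 Y).carrier :=
  (exists_hull 𝒜 Y).choose_spec.choose

theorem hj_hull (Y : GrLC.GMod.{u} 𝒜) : GrLC.IsStarInjHull 𝒜 Y.gr (HX 𝒜 Y).gr (hj 𝒜 Y) :=
  (exists_hull 𝒜 Y).choose_spec.choose_spec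

theorem range_hj_isHomogeneous (Y : GrLC.GMod.{u} 𝒜) :
    (LinearMap.range (hj 𝒜 Y)).IsHomogeneous (HX 𝒜 Y).gr :=
  range_isHomogeneous (HX 𝒜 Y).gr Y.gr (hj 𝒜 Y) (hj_hull 𝒜 Y).grHom

/-- The graded cokernel of `Y → HX Y`. -/
def next (Y : GrLC.GMod.{u} 𝒜) : GrLC.GMod.{u} 𝒜 :=
  { carrier := (HX 𝒜 Y).carrier ⧸ LinearMap.range (hj 𝒜 Y)
    gr := quotGr (HX 𝒜 Y).gr (LinearMap.range (hj 𝒜 Y))
    dec := quotDecomposition (HX 𝒜 Y).gr (LinearMap.range (hj 𝒜 Y)) (range_hj_isHomogeneous 𝒜 Y)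
    gsmul := quot_gradedSMul (HX 𝒜 Y).gr (LinearMap.range (hj 𝒜 Y)) 𝒜 }

/-- The projection `HX Y → next Y`. -/
def piY (Y : GrLC.GMod.{u} 𝒜) : (HX 𝒜 Y).carrier →ₗ[R] (next 𝒜 Y).carrier :=
  (LinearMap.range (hj 𝒜 Y)).mkQ

theorem piY_grHom (Y : GrLC.GMod.{u} 𝒜) : GrLC.IsGrHom (HX 𝒜 Y).gr (next 𝒜 Y).gr (piY 𝒜 Y) :=
  fun _ a ha => ⟨a, ha, rfl⟩

theorem piY_surjective (Y : GrLC.GMod.{u} 𝒜) : Function.Surjective (piY 𝒜 Y) :=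
  Submodule.mkQ_surjective _

theorem ker_piY (Y : GrLC.GMod.{u} 𝒜) : LinearMap.ker (piY 𝒜 Y) = LinearMap.range (hj 𝒜 Y) :=
  Submodule.ker_mkQ _

/-- The sequence of cosyzygies. -/
def Yseq (Y₀ : GrLC.GMod.{u} 𝒜) : ℕ → GrLC.GMod.{u} 𝒜
  | 0 => Y₀
  | n + 1 => next 𝒜 (Yseq Y₀ n)

/-- The differential at one step. -/
def dStep (Y : GrLC.GMod.{u} 𝒜) : (HX 𝒜 Y).carrier →ₗ[R] (HX 𝒜 (next 𝒜 Y)).carrier :=
  hj 𝒜 (next 𝒜 Y) ∘ₗ piY 𝒜 Y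

theorem dStep_grHom (Y : GrLC.GMod.{u} 𝒜) :
    GrLC.IsGrHom (HX 𝒜 Y).gr (HX 𝒜 (next 𝒜 Y)).gr (dStep 𝒜 Y) :=
  fun g a ha => (hj_hull 𝒜 _).grHom g _ (piY_grHom 𝒜 _ g a ha)

theorem ker_dStep (Y : GrLC.GMod.{u} 𝒜) :
    LinearMap.ker (dStep 𝒜 Y) = LinearMap.range (hj 𝒜 Y) := by
  rw [dStep, LinearMap.ker_comp_of_ker_eq_bot _
    (LinearMap.ker_eq_bot.mpr (hj_hull 𝒜 _).injective), ker_piY]

theorem range_dStep (Y : GrLC.GMod.{u} 𝒜) :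
    LinearMap.range (dStep 𝒜 Y) = LinearMap.range (hj 𝒜 (next 𝒜 Y)) := by
  rw [dStep, LinearMap.range_comp_of_range_eq_top _
    (LinearMap.range_eq_top.mpr (piY_surjective 𝒜 _))]

variable {M : Type u} [AddCommGroup M] [Module R M] (ℳ : ι → AddSubgroup M)
  [DirectSum.Decomposition ℳ] [SetLike.GradedSMul 𝒜 ℳ]

/-- A minimal *injective resolution of any graded module. -/
def minRes : GrLC.StarInjRes 𝒜 ℳ where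
  X n := HX 𝒜 (Yseq 𝒜 (GrLC.GMod.of 𝒜 M ℳ) n)
  d n := dStep 𝒜 (Yseq 𝒜 (GrLC.GMod.of 𝒜 M ℳ) n)
  ε := hj 𝒜 (GrLC.GMod.of 𝒜 M ℳ)
  d_grHom n := dStep_grHom 𝒜 _
  ε_grHom := (hj_hull 𝒜 (GrLC.GMod.of 𝒜 M ℳ)).grHom
  ε_injective := (hj_hull 𝒜 (GrLC.GMod.of 𝒜 M ℳ)).injective
  exact_zero := ker_dStep 𝒜 (GrLC.GMod.of 𝒜 M ℳ)
  exact_succ n := (ker_dStep 𝒜 _).trans (range_dStep 𝒜 _).symm
  starInj n := (hj_hull 𝒜 _).starInj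

theorem minRes_min0 (P : Submodule R ((minRes 𝒜 ℳ).X 0).carrier)
    (hP : P.IsHomogeneous ((minRes 𝒜 ℳ).X 0).gr) (hP0 : P ≠ ⊥) :
    P ⊓ LinearMap.range (minRes 𝒜 ℳ).ε ≠ ⊥ :=
  (hj_hull 𝒜 (GrLC.GMod.of 𝒜 M ℳ)).essential P hP hP0

theorem minRes_min (n : ℕ) (P : Submodule R ((minRes 𝒜 ℳ).X (n + 1)).carrier)
    (hP : P.IsHomogeneous ((minRes 𝒜 ℳ).X (n + 1)).gr) (hP0 : P ≠ ⊥) :
    P ⊓ LinearMap.range ((minRes 𝒜 ℳ).d n) ≠ ⊥ := by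
  have h := (hj_hull 𝒜 (Yseq 𝒜 (GrLC.GMod.of 𝒜 M ℳ) (n + 1))).essential P hP hP0
  have h2 : LinearMap.range ((minRes 𝒜 ℳ).d n) =
      LinearMap.range (hj 𝒜 (Yseq 𝒜 (GrLC.GMod.of 𝒜 M ℳ) (n + 1))) :=
    range_dStep 𝒜 (Yseq 𝒜 (GrLC.GMod.of 𝒜 M ℳ) n)
  rw [h2]
  exact h

end Groth.Agent.Lib.T2H3.MinRes
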