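import Groth.Agent.Lib.T2H3MatlisC
import Groth.Agent.Lib.Helper29GorHull
import Groth.Agent.Lib.LeadBassC
import Groth.Agent.S13214

/-! Three inputs for `H^n_m(R) ≅ *E(R/m)(-g)` over a Gorenstein *local ring (helper3):
* the cohomology of `Γ_a` of a resolution whose torsion is concentrated in one degree;
* the Bass numbers `μ^j(p, R) = δ_{j, ht p}` of a Gorenstein ring;
* a summand of the Matlis decomposition with prime `m` is a shifted copy of any *injective hull
  of `R ⧸ m`. -/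

set_option autoImplicit false
open DirectSum

noncomputable section

namespace Groth.Agent.Lib.T2H3.Matlis

open Groth.Agent.Lib.Helper29GrHom Groth.Agent.Lib.Helper29GrEss Groth.Agent.Lib.Helper29GrSub
  Groth.Agent.Lib.Helper29GrShift Groth.Agent.Lib.T2H3.GrLes

universe u

section Concentrated

variable {ι : Type} [AddCommGroup ι] [DecidableEq ι]
variable {R : Type u} [CommRing R] {𝒜 : ι → AddSubgroup R} [GradedRing 𝒜]
variable {M : Type u} [AddCommGroup M] [Module R M] {ℳ : ι → AddSubgroup M}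
  [DirectSum.Decomposition ℳ] [SetLike.GradedSMul 𝒜 ℳ]
variable (E : GrLC.StarInjRes 𝒜 ℳ) (a : HomogeneousIdeal 𝒜) (n : ℕ)

theorem cocyc_eq_gam (h : GrLC.gam a.toIdeal (E.X (n + 1)).carrier = ⊥) :
    E.cocyc a n = GrLC.gam a.toIdeal (E.X n).carrier := by
  apply le_antisymm inf_le_left
  intro x hx
  refine ⟨hx, ?_⟩
  have h1 : E.d n x ∈ GrLC.gam a.toIdeal (E.X (n + 1)).carrier := by
    obtain ⟨k, hk⟩ := hx
    exact ⟨k, fun r hr => by rw [← map_smul, hk r hr, map_zero]⟩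
  rw [h, Submodule.mem_bot] at h1
  exact h1

theorem cobdy_eq_bot (h : ∀ j, j + 1 = n → GrLC.gam a.toIdeal (E.X j).carrier = ⊥) :
    E.cobdy a n = ⊥ := by
  cases n with
  | zero => rfl
  | succ k =>
    change (GrLC.gam a.toIdeal (E.X k).carrier).map (E.d k) = ⊥
    rw [h k rfl, Submodule.map_bot]

/-- If `Γ_a` of the neighbouring terms vanishes, `H^n` is `Γ_a(X n)`. -/
def HEquivGam (h1 : GrLC.gam a.toIdeal (E.X (n + 1)).carrier = ⊥)
    (h2 : ∀ j, j + 1 = n → GrLC.gam a.toIdeal (E.X j).carrier = ⊥) :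
    E.H a n ≃ₗ[R] ↥(GrLC.gam a.toIdeal (E.X n).carrier) :=
  (Submodule.quotEquivOfEqBot _ (by
    rw [cobdy_eq_bot E a n h2, Submodule.comap_bot, Submodule.ker_subtype])).trans
    (LinearEquiv.ofEq _ _ (cocyc_eq_gam E a n h1))

theorem HEquivGam_toH (h1 : GrLC.gam a.toIdeal (E.X (n + 1)).carrier = ⊥)
    (h2 : ∀ j, j + 1 = n → GrLC.gam a.toIdeal (E.X j).carrier = ⊥) (z : ↥(E.cocyc a n)) :
    ((HEquivGam E a n h1 h2 (E.toH a n z) : ↥(GrLC.gam a.toIdeal (E.X n).carrier)) :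
      (E.X n).carrier) = (z : (E.X n).carrier) := by
  unfold HEquivGam
  rw [LinearEquiv.trans_apply, LinearEquiv.coe_ofEq_apply]
  change ((Submodule.quotEquivOfEqBot _ _ (Submodule.Quotient.mk z) : ↥(E.cocyc a n)) :
    (E.X n).carrier) = _
  rw [Submodule.quotEquivOfEqBot_apply_mk]

theorem HEquivGam_mem_gr (h1 : GrLC.gam a.toIdeal (E.X (n + 1)).carrier = ⊥)
    (h2 : ∀ j, j + 1 = n → GrLC.gam a.toIdeal (E.X j).carrier = ⊥) (d : ι) (x : E.H a n)
    (hx : x ∈ E.Hgr a n d) :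
    ((HEquivGam E a n h1 h2 x : ↥(GrLC.gam a.toIdeal (E.X n).carrier)) : (E.X n).carrier) ∈
      (E.X n).gr d := by
  obtain ⟨z, hz, rfl⟩ := hx
  rw [HEquivGam_toH]
  exact hz

end Concentrated

section Bass

open CategoryTheory CategoryTheory.Abelian IsLocalRing
open Groth.Agent.Lib.Helper29.GorHull Groth.Agent.Lib.LeadBass

theorem bassNumLocal_self_gor (A : Type u) [CommRing A] [hA : LocCoh.IsGorensteinLocalRing A]
    (n : ℕ) (hn : ringKrullDim A = n) (j : ℕ) :
    GrLC.bassNumLocal A A j = if j = n then 1 else 0 := by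
  split_ifs with h
  · subst h
    exact typ_eq_one_of_gorenstein A j hn
  · have := extVan A n hn j h
    unfold GrLC.bassNumLocal
    rw [Module.length_eq_zero_iff]
    exact this

/-- `S⁻¹R` as a localized module, linearly over `S⁻¹R`. -/
def locSelfEquiv (R : Type u) [CommRing R] (S : Submonoid R) :
    LocalizedModule S R ≃ₗ[Localization S] Localization S :=
  LinearEquiv.extendScalarsOfIsLocalization S (Localization S)
    (IsLocalizedModule.linearEquiv S (LocalizedModule.mkLinearMap S R)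
      (Algebra.linearMap R (Localization S)))

/-- The Bass numbers of a Gorenstein ring: `μ^j(p, R) = δ_{j, ht p}`. -/
theorem bassNum_self_gor (R : Type u) [CommRing R] [hR : LocCoh.IsGorensteinRing R] (p : Ideal R)
    [p.IsPrime] (n : ℕ) (hn : p.height = n) (j : ℕ) :
    GrLC.bassNum p R j = if j = n then 1 else 0 := by
  have := hR.isGorensteinLocalRing_localization p
  have hdim : ringKrullDim (Localization.AtPrime p) = n := by
    rw [IsLocalization.AtPrime.ringKrullDim_eq_height p, hn]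
    rfl
  unfold GrLC.bassNum
  rw [bassNumLocal_congr (Localization.AtPrime p) (locSelfEquiv R p.primeCompl) j]
  exact bassNumLocal_self_gor _ n hdim j

end Bass

section Hull

variable {ι : Type} [AddCommGroup ι] [DecidableEq ι] [Module.Free ℤ ι] [Module.Finite ℤ ι]
variable {R : Type u} [CommRing R] [IsNoetherianRing R] (𝒜 : ι → AddSubgroup R) [GradedRing 𝒜]
variable {I : Type u} [AddCommGroup I] [Module R I] {ℐ : ι → AddSubgroup I}
  [DirectSum.Decomposition ℐ] [SetLike.GradedSMul 𝒜 ℐ]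

/-- A summand of the Matlis decomposition with prime `m` is a copy of any *injective hull of
`R ⧸ m`, shifted by the degree of its generator. -/
theorem exists_equiv_hull (hI : GrLC.IsStarInj 𝒜 ℐ) {J : Submodule R I} (hJ : IsRetr ℐ J)
    (m : HomogeneousIdeal 𝒜) (g : ι) (f : (R ⧸ m.toIdeal) →ₗ[R] I)
    (hinj : Function.Injective f) (hdeg : GrLC.IsGrHomDeg (GrLC.quotGr 𝒜 m) ℐ f g)
    (hle : LinearMap.range f ≤ J)
    (hess : ∀ Q : Submodule R I, Q.IsHomogeneous ℐ → Q ≤ J → Q ≠ ⊥ →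
      Q ⊓ LinearMap.range f ≠ ⊥)
    {E' : Type u} [AddCommGroup E'] [Module R E'] (𝓔 : ι → AddSubgroup E')
    [DirectSum.Decomposition 𝓔] [SetLike.GradedSMul 𝒜 𝓔] (e : (R ⧸ m.toIdeal) →ₗ[R] E')
    (he : GrLC.IsStarInjHull 𝒜 (GrLC.quotGr 𝒜 m) 𝓔 e) :
    ∃ β : ↥J ≃ₗ[R] E', ∀ (d : ι) (x : ↥J), (x : I) ∈ ℐ d → β x ∈ 𝓔 (d + -g) := by
  have h1 := isStarInjHull_shift 𝒜 hI hJ m g f hinj hdeg hle hess
  letI decQ : DirectSum.Decomposition (GrLC.quotGr 𝒜 m) :=
    Groth.Agent.Lib.Helper29GrQuot.quotDecomposition 𝒜 (m.toIdeal : Submodule R R) m.isHomogeneous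
  haveI gsQ : SetLike.GradedSMul 𝒜 (GrLC.quotGr 𝒜 m) :=
    Groth.Agent.Lib.Helper29GrQuot.quot_gradedSMul 𝒜 (m.toIdeal : Submodule R R) 𝒜
  obtain ⟨β, hβgr, -⟩ := Groth.Agent.S13214.result R 𝒜 (R ⧸ m.toIdeal) (GrLC.quotGr 𝒜 m)
    (shiftGMod (subGMod 𝒜 ℐ J hJ.isHomogeneous) g).carrier
    (shiftGMod (subGMod 𝒜 ℐ J hJ.isHomogeneous) g).gr E' 𝓔
    (summandMap 𝒜 ℐ J hJ.isHomogeneous g f hle) e h1 he
  refine ⟨β, fun d x hx => ?_⟩
  have h2 : (show (shiftGMod (subGMod 𝒜 ℐ J hJ.isHomogeneous) g).carrier from x) ∈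
      (shiftGMod (subGMod 𝒜 ℐ J hJ.isHomogeneous) g).gr (d + -g) := by
    rw [mem_summand_gr_iff, neg_add_cancel_right]
    exact hx
  exact hβgr (d + -g) _ h2

end Hull

end Groth.Agent.Lib.T2H3.Matlis
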