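import Mathlib
import Groth.Agent.Lib.LeadCanM
import Groth.Agent.Lib.T2H3MinRes
import Groth.Agent.Lib.T2H3MatlisC
import Groth.Agent.Lib.T2H3GrLesC
import Groth.Agent.S13244

/-!
# Gorenstein *local rings: the top graded local cohomology is *injective (lead)

* `quotGMod`: the graded module `R ⧸ m` for a homogeneous ideal `m`.
* `exists_isStarInj_equiv_H_of_isGorensteinRing`: for a Gorenstein *local ring `(R, m)` with
  `ht m = n`, the graded local cohomology `H^n_m(R)` is isomorphic in the graded category to a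
  *injective graded module (a shift of the *injective hull of `R ⧸ m`).
-/

set_option autoImplicit false
set_option maxHeartbeats 400000
set_option linter.style.haveILetI false
set_option linter.unusedSectionVars false
set_option linter.unusedVariables false

universe u

namespace Groth.Agent.Lib.LeadCan

open Groth.Agent.Lib.Helper29GrQuot

section

variable {ι : Type} [AddCommGroup ι] [DecidableEq ι]
variable {R : Type u} [CommRing R] (𝒜 : ι → AddSubgroup R) [GradedRing 𝒜]
  (m : HomogeneousIdeal 𝒜)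

/-- The graded module `R ⧸ m`. -/
noncomputable def quotGMod : GrLC.GMod.{u} 𝒜 :=
  { carrier := R ⧸ m.toIdeal
    gr := GrLC.quotGr 𝒜 m
    dec := quotDecomposition 𝒜 (m.toIdeal : Submodule R R) m.isHomogeneous
    gsmul := quot_gradedSMul 𝒜 (m.toIdeal : Submodule R R) 𝒜 }

variable [Module.Free ℤ ι] [Module.Finite ℤ ι]

/-- For a Gorenstein *local ring `(R, m)` with `ht m = n`, `H^n_m(R)` is *injective. -/
theorem exists_isStarInj_equiv_H_of_isGorensteinRing [LocCoh.IsGorensteinRing R]
    (hm : GrLC.IsStarLocal 𝒜 m) (n : ℕ) (hn : m.toIdeal.height = n) (I : GrLC.StarInjRes 𝒜 𝒜) :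
    ∃ (X : GrLC.GMod.{u} 𝒜) (φ : I.H m n ≃ₗ[R] X.carrier),
      GrLC.IsStarInj 𝒜 X.gr ∧ GrLC.IsGrHom (I.Hgr m n) X.gr φ.toLinearMap := by
  obtain ⟨E, e, he⟩ := Groth.Agent.Lib.T2H3.MinRes.exists_hull 𝒜 (quotGMod 𝒜 m)
  obtain ⟨g, φ, hφ⟩ := Groth.Agent.S13244.result R 𝒜 m hm n hn I E.carrier E.gr e he
  exact ⟨Groth.Agent.Lib.T2H3.GrLes.shiftGMod E g, φ,
    Groth.Agent.Lib.T2H3.GrLes.isStarInj_shift E he.starInj g, fun k x hx => hφ k x hx⟩

end

end Groth.Agent.Lib.LeadCan
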