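import Mathlib.RingTheory.Ideal.KrullsHeightTheorem
import Mathlib.RingTheory.LocalRing.Module
import Mathlib.LinearAlgebra.Determinant
import Mathlib.LinearAlgebra.Matrix.InvariantBasisNumber
import Mathlib.RingTheory.Localization.Module
import Mathlib.RingTheory.Localization.Finiteness
import Mathlib.RingTheory.Flat.Stability
import Mathlib.LinearAlgebra.Matrix.ToLin

/-!
Lead library: a linear map between finite flat modules over a Noetherian ring which is bijective at
all primes of codimension `≤ 1` is bijective (determinant + Krull's principal ideal theorem).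
Part A: the elementary predicate `BijAt`, free modules and determinants.
-/

set_option autoImplicit false
set_option maxHeartbeats 400000
set_option linter.style.haveILetI false
set_option linter.unusedSectionVars false
set_option linter.unusedVariables false

open Module

namespace Groth.Agent.Lib.LeadCodim

section basic

variable {R : Type*} [CommRing R] {B C : Type*} [AddCommGroup B] [Module R B]
  [AddCommGroup C] [Module R C]

/-- `φ` becomes bijective after inverting `T`, in elementary terms. -/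
def BijAt (φ : B →ₗ[R] C) (T : Submonoid R) : Prop :=
  (∀ b, φ b = 0 → ∃ t ∈ T, t • b = 0) ∧ (∀ c, ∃ t ∈ T, ∃ b, φ b = t • c)

theorem BijAt.mono {φ : B →ₗ[R] C} {T T' : Submonoid R} (h : BijAt φ T) (hTT' : T ≤ T') :
    BijAt φ T' := by
  refine ⟨fun b hb => ?_, fun c => ?_⟩
  · obtain ⟨t, ht, h0⟩ := h.1 b hb
    exact ⟨t, hTT' ht, h0⟩
  · obtain ⟨t, ht, b, hb⟩ := h.2 c
    exact ⟨t, hTT' ht, b, hb⟩

theorem bijective_of_forall_bijAt (φ : B →ₗ[R] C)
    (h : ∀ (m : Ideal R) [m.IsMaximal], BijAt φ m.primeCompl) : Function.Bijective φ := by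
  constructor
  · rw [injective_iff_map_eq_zero]
    intro b hb
    by_contra hne
    have hI : (LinearMap.ker (LinearMap.toSpanSingleton R B b)) ≠ ⊤ := by
      intro htop
      have h1 : (1 : R) ∈ LinearMap.ker (LinearMap.toSpanSingleton R B b) := by
        rw [htop]; trivial
      rw [LinearMap.mem_ker, LinearMap.toSpanSingleton_apply, one_smul] at h1
      exact hne h1
    obtain ⟨m, hm, hle⟩ := Ideal.exists_le_maximal _ hI
    obtain ⟨t, ht, h0⟩ := (h m).1 b hb
    apply ht
    apply hle
    rw [LinearMap.mem_ker, LinearMap.toSpanSingleton_apply]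
    exact h0
  · intro c
    by_contra hne
    have hI : ((LinearMap.range φ).colon {c}) ≠ ⊤ := by
      intro htop
      have h1 : (1 : R) ∈ (LinearMap.range φ).colon {c} := by rw [htop]; trivial
      rw [Submodule.mem_colon_singleton, one_smul] at h1
      exact hne h1
    obtain ⟨m, hm, hle⟩ := Ideal.exists_le_maximal _ hI
    obtain ⟨t, ht, b, hb⟩ := (h m).2 c
    apply ht
    apply hle
    rw [Submodule.mem_colon_singleton]
    exact ⟨b, hb⟩

end basic

section free

variable {A : Type*} [CommRing A] (P : Ideal A) [P.IsPrime]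
  {B' C' : Type*} [AddCommGroup B'] [Module A B'] [AddCommGroup C'] [Module A C']
  {ι₁ ι₂ : Type*} [Fintype ι₁] [Fintype ι₂] [DecidableEq ι₁] [DecidableEq ι₂]

theorem exists_quasi_inverse (b : Basis ι₁ A B') (c : Basis ι₂ A C') (φ' : B' →ₗ[A] C')
    (h : BijAt φ' P.primeCompl) :
    ∃ (ψ : C' →ₗ[A] B') (t u : A), t ∉ P ∧ u ∉ P ∧ φ' ∘ₗ ψ = t • LinearMap.id ∧
      u • (ψ ∘ₗ φ' - t • LinearMap.id) = 0 := by
  classical
  choose tt htt vv hvv using fun i : ι₂ => h.2 (c i)
  let t : A := ∏ i, tt i
  have ht : t ∉ P := by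
    have h1 : t ∈ P.primeCompl := prod_mem (fun i _ => htt i)
    exact h1
  let w : ι₂ → B' := fun i => (∏ j ∈ Finset.univ.erase i, tt j) • vv i
  have hw : ∀ i, φ' (w i) = t • c i := by
    intro i
    simp only [w, map_smul, hvv i, smul_smul]
    congr 1
    rw [mul_comm]
    exact Finset.mul_prod_erase Finset.univ tt (Finset.mem_univ i)
  let ψ : C' →ₗ[A] B' := c.constr A w
  have h1 : φ' ∘ₗ ψ = t • LinearMap.id := by
    apply c.ext
    intro i
    simp only [LinearMap.comp_apply, ψ, Basis.constr_basis, hw, LinearMap.smul_apply,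
      LinearMap.id_apply]
  have hx : ∀ j : ι₁, φ' (ψ (φ' (b j)) - t • b j) = 0 := by
    intro j
    have h2 := LinearMap.congr_fun h1 (φ' (b j))
    simp only [LinearMap.comp_apply, LinearMap.smul_apply, LinearMap.id_apply] at h2
    rw [map_sub, h2, map_smul, sub_self]
  choose uu huu huu0 using fun j : ι₁ => h.1 _ (hx j)
  let u : A := ∏ j, uu j
  have hu : u ∉ P := by
    have h1 : u ∈ P.primeCompl := prod_mem (fun i _ => huu i)
    exact h1
  refine ⟨ψ, t, u, ht, hu, h1, ?_⟩
  apply b.ext
  intro j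
  simp only [LinearMap.smul_apply, LinearMap.sub_apply, LinearMap.comp_apply, LinearMap.id_apply,
    LinearMap.zero_apply]
  have h3 : u = (∏ k ∈ Finset.univ.erase j, uu k) * uu j := by
    rw [mul_comm]
    exact (Finset.mul_prod_erase Finset.univ uu (Finset.mem_univ j)).symm
  rw [h3, mul_smul, huu0 j, smul_zero]

theorem toMatrix_mul_of_quasi_inverse (b : Basis ι₁ A B') (c : Basis ι₂ A C') (φ' : B' →ₗ[A] C')
    (ψ : C' →ₗ[A] B') (t : A) (h1 : φ' ∘ₗ ψ = t • LinearMap.id) :
    LinearMap.toMatrix b c φ' * LinearMap.toMatrix c b ψ = t • (1 : Matrix ι₂ ι₂ A) := by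
  rw [← LinearMap.toMatrix_comp c b c, h1, map_smul, LinearMap.toMatrix_id]

theorem card_eq_of_bijAt (b : Basis ι₁ A B') (c : Basis ι₂ A C') (φ' : B' →ₗ[A] C')
    (h : BijAt φ' P.primeCompl) : Fintype.card ι₁ = Fintype.card ι₂ := by
  classical
  obtain ⟨ψ, t, u, ht, hu, h1, h2⟩ := exists_quasi_inverse P b c φ' h
  let K := FractionRing (A ⧸ P)
  let f : A →+* K := (algebraMap (A ⧸ P) K).comp (Ideal.Quotient.mk P)
  have hf : ∀ x, f x = 0 → x ∈ P := by
    intro x hx
    have h3 : (Ideal.Quotient.mk P x) = 0 := by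
      apply IsFractionRing.injective (A ⧸ P) K
      rw [map_zero]
      exact hx
    exact Ideal.Quotient.eq_zero_iff_mem.mp h3
  have hft : f t ≠ 0 := fun h0 => ht (hf t h0)
  have hfu : f u ≠ 0 := fun h0 => hu (hf u h0)
  set M := LinearMap.toMatrix b c φ' with hM
  set N := LinearMap.toMatrix c b ψ with hN
  have hMN : M * N = t • (1 : Matrix ι₂ ι₂ A) := toMatrix_mul_of_quasi_inverse b c φ' ψ t h1
  have hNM : u • (N * M - t • (1 : Matrix ι₁ ι₁ A)) = 0 := by
    rw [hM, hN, ← LinearMap.toMatrix_comp b c b, ← LinearMap.toMatrix_id b, ← map_smul, ← map_sub,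
      ← map_smul, h2, map_zero]
  have hMN' : M.map f * N.map f = f t • (1 : Matrix ι₂ ι₂ K) := by
    rw [← Matrix.map_mul, hMN]
    ext i j
    simp only [Matrix.map_apply, Matrix.smul_apply, Matrix.one_apply, smul_eq_mul]
    split_ifs <;> simp
  have hNM' : N.map f * M.map f = f t • (1 : Matrix ι₁ ι₁ K) := by
    have h3 : f u • (N.map f * M.map f - f t • (1 : Matrix ι₁ ι₁ K)) = 0 := by
      have h4 := congrArg (fun X : Matrix ι₁ ι₁ A => X.map f) hNM
      rw [← Matrix.map_mul]
      ext i j
      have h5 := congrFun (congrFun h4 i) j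
      simp only [Matrix.map_apply, Matrix.smul_apply, Matrix.sub_apply, Matrix.one_apply,
        smul_eq_mul, Matrix.zero_apply, map_mul, map_sub, map_zero, apply_ite f, map_one] at h5 ⊢
      exact h5
    have h6 := (smul_eq_zero.mp h3).resolve_left hfu
    exact sub_eq_zero.mp h6
  have e1 : M.map f * ((f t)⁻¹ • N.map f) = 1 := by
    rw [Matrix.mul_smul, hMN', smul_smul, inv_mul_cancel₀ hft, one_smul]
  have e2 : ((f t)⁻¹ • N.map f) * M.map f = 1 := by
    rw [Matrix.smul_mul, hNM', smul_smul, inv_mul_cancel₀ hft, one_smul]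
  exact (Matrix.square_of_invertible _ _ e1 e2).symm

theorem det_notMem_of_bijAt {ι : Type*} [Fintype ι] [DecidableEq ι] (b : Basis ι A B')
    (c : Basis ι A C') (φ' : B' →ₗ[A] C') (h : BijAt φ' P.primeCompl) :
    (LinearMap.toMatrix b c φ').det ∉ P := by
  obtain ⟨ψ, t, u, ht, hu, h1, h2⟩ := exists_quasi_inverse P b c φ' h
  intro hd
  have hMN := toMatrix_mul_of_quasi_inverse b c φ' ψ t h1
  have h3 := congrArg Matrix.det hMN
  rw [Matrix.det_mul, Matrix.det_smul, Matrix.det_one, mul_one] at h3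
  have h4 : t ^ Fintype.card ι ∈ P := by
    rw [← h3]
    exact P.mul_mem_right _ hd
  exact ht (Ideal.IsPrime.mem_of_pow_mem ‹_› _ h4)

end free

end Groth.Agent.Lib.LeadCodim
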