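import Groth.Agent.Lib.LeadCodimA

/-!
Lead library, part B: localization at a prime and the induction on the height.
Main result `bijective_of_codim_le_one`.
-/

set_option autoImplicit false
set_option maxHeartbeats 400000
set_option linter.style.haveILetI false
set_option linter.unusedSectionVars false
set_option linter.unusedVariables false

open Module

namespace Groth.Agent.Lib.LeadCodim

section loc

variable {R : Type*} [CommRing R] (q : Ideal R) [q.IsPrime]
  {B C : Type*} [AddCommGroup B] [Module R B] [AddCommGroup C] [Module R C] (φ : B →ₗ[R] C)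

theorem bijAt_of_bijective_map
    (hb : Function.Bijective (LocalizedModule.map q.primeCompl φ)) :
    BijAt φ q.primeCompl := by
  refine ⟨fun b hb0 => ?_, fun c => ?_⟩
  · have h1 : LocalizedModule.map q.primeCompl φ (LocalizedModule.mk b 1) = 0 := by
      rw [LocalizedModule.map_mk, hb0, LocalizedModule.zero_mk]
    have h2 : LocalizedModule.mk b (1 : q.primeCompl) = 0 := hb.1 (by rw [h1, map_zero])
    rw [← LocalizedModule.zero_mk (1 : q.primeCompl), LocalizedModule.mk_eq] at h2
    obtain ⟨u, hu⟩ := h2
    refine ⟨u.1, u.2, ?_⟩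
    simpa [Submonoid.smul_def] using hu
  · obtain ⟨x, hx⟩ := hb.2 (LocalizedModule.mk c 1)
    induction x using LocalizedModule.induction_on with
    | h b s =>
      rw [LocalizedModule.map_mk, LocalizedModule.mk_eq] at hx
      obtain ⟨u, hu⟩ := hx
      refine ⟨u.1 * s.1, mul_mem u.2 s.2, u.1 • b, ?_⟩
      rw [map_smul, mul_smul]
      simpa [Submonoid.smul_def] using hu

theorem bijAt_map_of_bijAt (P : Ideal (Localization.AtPrime q)) [P.IsPrime]
    (h : BijAt φ (P.comap (algebraMap R (Localization.AtPrime q))).primeCompl) :
    BijAt (LocalizedModule.map q.primeCompl φ) P.primeCompl := by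
  refine ⟨fun x hx => ?_, fun y => ?_⟩
  · induction x using LocalizedModule.induction_on with
    | h b s =>
      rw [LocalizedModule.map_mk, ← LocalizedModule.zero_mk (1 : q.primeCompl),
        LocalizedModule.mk_eq] at hx
      obtain ⟨u, hu⟩ := hx
      have h0 : φ (u.1 • b) = 0 := by
        rw [map_smul]
        simpa [Submonoid.smul_def] using hu
      obtain ⟨t, ht, ht0⟩ := h.1 _ h0
      refine ⟨algebraMap R (Localization.AtPrime q) t, ht, ?_⟩
      rw [algebraMap_smul, LocalizedModule.smul'_mk, ← LocalizedModule.zero_mk (1 : q.primeCompl),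
        LocalizedModule.mk_eq]
      refine ⟨u, ?_⟩
      rw [smul_zero, smul_zero, one_smul, Submonoid.smul_def, smul_comm]
      exact ht0
  · induction y using LocalizedModule.induction_on with
    | h c s =>
      obtain ⟨t, ht, b, hb⟩ := h.2 c
      refine ⟨algebraMap R (Localization.AtPrime q) t, ht, LocalizedModule.mk b s, ?_⟩
      rw [LocalizedModule.map_mk, hb, algebraMap_smul, LocalizedModule.smul'_mk]

variable [IsNoetherianRing R] [Module.Finite R B] [Module.Flat R B]
  [Module.Finite R C] [Module.Flat R C]

theorem bijAt_of_forall_lt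
    (hdim : ¬ ringKrullDim (Localization.AtPrime q) ≤ 1)
    (hlt : ∀ (p : Ideal R) [p.IsPrime], p < q → BijAt φ p.primeCompl) :
    BijAt φ q.primeCompl := by
  classical
  let A := Localization.AtPrime q
  let B' := LocalizedModule q.primeCompl B
  let C' := LocalizedModule q.primeCompl C
  let φ' : B' →ₗ[A] C' := LocalizedModule.map q.primeCompl φ
  haveI : Module.Free A B' := Module.free_of_flat_of_isLocalRing
  haveI : Module.Free A C' := Module.free_of_flat_of_isLocalRing
  have key : ∀ (P : Ideal A) [P.IsPrime], P ≠ IsLocalRing.maximalIdeal A →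
      BijAt φ' P.primeCompl := by
    intro P _ hP
    apply bijAt_map_of_bijAt
    apply hlt
    have hle : P.comap (algebraMap R A) ≤ q := by
      have h1 : (IsLocalRing.maximalIdeal A).comap (algebraMap R A) = q :=
        IsLocalization.AtPrime.under_maximalIdeal A q
      have h2 : P.comap (algebraMap R A) ≤ (IsLocalRing.maximalIdeal A).comap (algebraMap R A) :=
        Ideal.comap_mono (IsLocalRing.le_maximalIdeal (Ideal.IsPrime.ne_top ‹_›))
      exact h2.trans h1.le
    refine lt_of_le_of_ne hle ?_
    intro heq
    apply hP
    rw [← IsLocalization.map_under q.primeCompl A P]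
    have h5 : Ideal.under R P = q := heq
    rw [h5]
    exact Localization.AtPrime.map_eq_maximalIdeal
  obtain ⟨P₀, hP₀, hne₀⟩ : ∃ P : Ideal A, P.IsPrime ∧ P ≠ IsLocalRing.maximalIdeal A := by
    by_contra hcon
    push Not at hcon
    apply hdim
    have h0 : Ring.KrullDimLE 0 A :=
      Ring.KrullDimLE.mk₀ (fun I hI => by rw [hcon I hI]; infer_instance)
    exact (Ring.krullDimLE_iff.mp h0).trans (by norm_num)
  haveI := hP₀
  let b := Module.finBasis A B'
  let c₀ := Module.finBasis A C'
  have hcard : Module.finrank A C' = Module.finrank A B' := by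
    have h1 := card_eq_of_bijAt P₀ b c₀ φ' (key P₀ hne₀)
    simpa using h1.symm
  let c := Module.finBasisOfFinrankEq A C' hcard
  by_cases hd : IsUnit (LinearMap.toMatrix b c φ').det
  · apply bijAt_of_bijective_map
    have h1 := LinearEquiv.coe_ofIsUnitDet hd
    have h2 : (LocalizedModule.map q.primeCompl φ : B' → C') = (LinearEquiv.ofIsUnitDet hd) := by
      rw [← LinearEquiv.coe_coe, h1]
    rw [h2]
    exact (LinearEquiv.ofIsUnitDet hd).bijective
  · exfalso
    apply hdim
    rw [← IsLocalRing.maximalIdeal_height_eq_ringKrullDim]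
    have hmin : IsLocalRing.maximalIdeal A ∈
        (Ideal.span {(LinearMap.toMatrix b c φ').det}).minimalPrimes := by
      refine ⟨⟨inferInstance, ?_⟩, ?_⟩
      · rw [Ideal.span_singleton_le_iff_mem]
        exact (IsLocalRing.mem_maximalIdeal _).mpr hd
      · intro P ⟨hP, hdP⟩ hle
        by_contra hnle
        have hne : P ≠ IsLocalRing.maximalIdeal A := fun h => hnle (h ▸ le_rfl)
        have h3 := det_notMem_of_bijAt P b c φ' (key P hne)
        exact h3 (hdP (Ideal.mem_span_singleton_self _))
    have h4 := Ideal.height_le_one_of_isPrincipal_of_mem_minimalPrimes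
      (Ideal.span {(LinearMap.toMatrix b c φ').det}) _ hmin
    exact_mod_cast h4

theorem bijAt_of_codim_le_one
    (H : ∀ (p : Ideal R) [p.IsPrime], ringKrullDim (Localization.AtPrime p) ≤ 1 →
      BijAt φ p.primeCompl) :
    ∀ (q : Ideal R) [q.IsPrime], BijAt φ q.primeCompl := by
  have main : ∀ n : ℕ, ∀ (q : Ideal R) [q.IsPrime], q.height ≤ n → BijAt φ q.primeCompl := by
    intro n
    induction n with
    | zero =>
      intro q _ hq
      apply H q
      rw [IsLocalization.AtPrime.ringKrullDim_eq_height q]
      have h1 : q.height ≤ 1 := hq.trans (by norm_num)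
      exact_mod_cast h1
    | succ n ih =>
      intro q _ hq
      by_cases hdim : ringKrullDim (Localization.AtPrime q) ≤ 1
      · exact H q hdim
      · apply bijAt_of_forall_lt q φ hdim
        intro p _ hpq
        apply ih p
        have h1 := Ideal.height_add_one_le_of_lt_of_isPrime hpq
        have h2 : p.height + 1 ≤ (n : ℕ∞) + 1 := h1.trans (by exact_mod_cast hq)
        exact (ENat.add_le_add_iff_right (by simp)).mp h2
  intro q _
  have hfin : q.height ≠ ⊤ := Ideal.height_ne_top_of_isPrime
  obtain ⟨n, hn⟩ := ENat.ne_top_iff_exists.mp hfin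
  exact main n q (by rw [← hn])

/-- A linear map between finite flat modules over a Noetherian ring which is bijective at all primes
of codimension at most one is bijective. -/
theorem bijective_of_codim_le_one
    (H : ∀ (p : Ideal R) [p.IsPrime], ringKrullDim (Localization.AtPrime p) ≤ 1 →
      BijAt φ p.primeCompl) : Function.Bijective φ :=
  bijective_of_forall_bijAt φ (fun m _ => bijAt_of_codim_le_one φ H m)

end loc

end Groth.Agent.Lib.LeadCodim
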