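import Groth.Agent.Lib.LeadCodimB
import Mathlib.AlgebraicGeometry.Morphisms.Finite
import Mathlib.AlgebraicGeometry.Morphisms.Flat
import Mathlib.AlgebraicGeometry.Noetherian
import Mathlib.AlgebraicGeometry.Morphisms.IsIso

/-!
Lead library, part C: scheme-level bridging for `bijective_of_codim_le_one`.
-/

set_option autoImplicit false
set_option maxHeartbeats 400000
set_option linter.style.haveILetI false
set_option linter.unusedSectionVars false
set_option linter.unusedVariables false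

universe u
open CategoryTheory AlgebraicGeometry TopologicalSpace

namespace Groth.Agent.Lib.LeadCodim

/-- If `Ψ` is bijective on sections over the basic open `D(b)` of an affine open `V` (with affine
preimage), then kernel and cokernel of `Ψ.app V` are killed by powers of `b`. -/
theorem ker_coker_of_bijective_app_basicOpen {P Q : Scheme.{u}} (Ψ : P ⟶ Q) (V : Q.Opens)
    (hV : IsAffineOpen V) (hV' : IsAffineOpen (Ψ ⁻¹ᵁ V)) (b : Γ(Q, V))
    (hb : Function.Bijective (Ψ.app (Q.basicOpen b)).hom) :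
    (∀ x : Γ(Q, V), (Ψ.app V).hom x = 0 → ∃ n : ℕ, b ^ n * x = 0) ∧
    (∀ y : Γ(P, Ψ ⁻¹ᵁ V), ∃ (n : ℕ) (x : Γ(Q, V)),
      (Ψ.app V).hom x = ((Ψ.app V).hom b) ^ n * y) := by
  have hDV : Q.basicOpen b ≤ V := Q.basicOpen_le b
  have e : Ψ ⁻¹ᵁ Q.basicOpen b = P.basicOpen ((Ψ.app V).hom b) := Scheme.preimage_basicOpen Ψ b
  have hD'V' : Ψ ⁻¹ᵁ Q.basicOpen b ≤ Ψ ⁻¹ᵁ V := Ψ.preimage_mono hDV
  let ρQ : Γ(Q, V) →+* Γ(Q, Q.basicOpen b) := (Q.presheaf.map (homOfLE hDV).op).hom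
  let ρP : Γ(P, Ψ ⁻¹ᵁ V) →+* Γ(P, Ψ ⁻¹ᵁ Q.basicOpen b) :=
    (P.presheaf.map (homOfLE hD'V').op).hom
  have hnat : ∀ x, (Ψ.app (Q.basicOpen b)).hom (ρQ x) = ρP ((Ψ.app V).hom x) := by
    intro x
    have h1 := Ψ.naturality (homOfLE hDV).op
    exact congr($(h1).hom x)
  letI algQ : Algebra Γ(Q, V) Γ(Q, Q.basicOpen b) := ρQ.toAlgebra
  letI algP : Algebra Γ(P, Ψ ⁻¹ᵁ V) Γ(P, Ψ ⁻¹ᵁ Q.basicOpen b) := ρP.toAlgebra
  haveI locQ : IsLocalization.Away b Γ(Q, Q.basicOpen b) :=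
    hV.isLocalization_of_eq_basicOpen b (homOfLE hDV) rfl
  haveI locP : IsLocalization.Away ((Ψ.app V).hom b) Γ(P, Ψ ⁻¹ᵁ Q.basicOpen b) :=
    hV'.isLocalization_of_eq_basicOpen ((Ψ.app V).hom b) (homOfLE hD'V') e
  constructor
  · intro x hx
    have h1 : (Ψ.app (Q.basicOpen b)).hom (ρQ x) = 0 := by rw [hnat, hx, map_zero]
    have h2 : ρQ x = 0 := hb.1 (by rw [h1, map_zero])
    have h3 : algebraMap Γ(Q, V) Γ(Q, Q.basicOpen b) x = 0 := h2
    obtain ⟨m, hm⟩ := (IsLocalization.map_eq_zero_iff (Submonoid.powers b) _ x).mp h3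
    obtain ⟨n, hn⟩ := m.2
    have hn' : b ^ n = m.1 := hn
    exact ⟨n, by rw [hn']; exact hm⟩
  · intro y
    obtain ⟨β, hβ⟩ := hb.2 (ρP y)
    obtain ⟨⟨x, m⟩, hxm⟩ := IsLocalization.surj (Submonoid.powers b) β
    obtain ⟨n, hn⟩ := m.2
    have hn' : b ^ n = m.1 := hn
    have h1 : β * ρQ (b ^ n) = ρQ x := by
      have h2 : β * algebraMap Γ(Q, V) Γ(Q, Q.basicOpen b) m.1 =
          algebraMap Γ(Q, V) Γ(Q, Q.basicOpen b) x := hxm
      rw [← hn'] at h2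
      exact h2
    have h4 : ρP ((Ψ.app V).hom x - ((Ψ.app V).hom b) ^ n * y) = 0 := by
      rw [map_sub, map_mul, ← hnat, ← h1, map_mul, hβ, hnat, map_pow, map_pow, mul_comm, sub_self]
    have h5 : algebraMap Γ(P, Ψ ⁻¹ᵁ V) Γ(P, Ψ ⁻¹ᵁ Q.basicOpen b)
        ((Ψ.app V).hom x - ((Ψ.app V).hom b) ^ n * y) = 0 := h4
    obtain ⟨m', hm'⟩ := (IsLocalization.map_eq_zero_iff
      (Submonoid.powers ((Ψ.app V).hom b)) _ _).mp h5
    obtain ⟨k, hk⟩ := m'.2
    have hk' : ((Ψ.app V).hom b) ^ k = m'.1 := hk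
    refine ⟨k + n, b ^ k * x, ?_⟩
    rw [← hk', mul_sub, sub_eq_zero] at hm'
    rw [map_mul, map_pow, hm', pow_add, mul_assoc]

set_option backward.isDefEq.respectTransparency false in
/-- if `f` is an isomorphism over `W`, the comorphism over any `V ≤ W` is an isomorphism
(copied from the old-team lib `T2H6BlowUpFiniteBir`). -/
theorem isIso_app_of_isIso_morphismRestrict {X Y : Scheme.{u}} (f : X ⟶ Y) (W : Y.Opens)
    [IsIso (f ∣_ W)] (V : Y.Opens) (hVW : V ≤ W) : IsIso (f.app V) := by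
  have h1 : IsIso ((f ∣_ W).app (W.ι ⁻¹ᵁ V)) := inferInstance
  rw [morphismRestrict_app] at h1
  haveI := h1
  have h2 : IsIso (f.app (W.ι ''ᵁ W.ι ⁻¹ᵁ V)) := IsIso.of_isIso_comp_right _
    (X.presheaf.map (eqToHom (image_morphismRestrict_preimage f W (W.ι ⁻¹ᵁ V))).op)
  have h3 : W.ι ''ᵁ W.ι ⁻¹ᵁ V = V := by
    rw [Scheme.Hom.image_preimage_eq_opensRange_inf, Scheme.Opens.opensRange_ι]
    exact inf_eq_right.2 hVW
  rw [h3] at h2
  exact h2

/-- (copied from the old-team lib `Helper3IsoFibB`). -/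
theorem isIso_morphismRestrict_of_le {X Y : Scheme.{u}} (f : X ⟶ Y) {V V' : Y.Opens}
    (hle : V ≤ V') [IsIso (f ∣_ V')] : IsIso (f ∣_ V) := by
  have h1 : IsIso (f ∣_ V' ∣_ (V'.ι ⁻¹ᵁ V)) := inferInstance
  have e1 := morphismRestrictRestrict f V' (V'.ι ⁻¹ᵁ V)
  have hV : V'.ι ''ᵁ (V'.ι ⁻¹ᵁ V) = V := by
    rw [Scheme.Hom.image_preimage_eq_opensRange_inf, Scheme.Opens.opensRange_ι]
    exact inf_eq_right.mpr hle
  have e2 := morphismRestrictEq f hV
  exact ((MorphismProperty.isomorphisms Scheme).arrow_mk_iso_iff (e1 ≪≫ e2)).mp h1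

theorem bijective_app_congr {X Y : Scheme.{u}} (f : X ⟶ Y) {U U' : Y.Opens} (h : U = U')
    (hb : Function.Bijective (f.app U).hom) : Function.Bijective (f.app U').hom := by
  subst h
  exact hb

set_option backward.isDefEq.respectTransparency false in
/-- a morphism which is bijective on the sections over an affine open with affine preimage is an
isomorphism over it (copied from the old-team lib `T3H9Rig2`). -/
theorem isIso_morphismRestrict_of_bijective_app {X Y : Scheme.{u}} (f : X ⟶ Y) (D : Y.Opens)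
    (hD : IsAffineOpen D)
    (hD' : IsAffineOpen (f ⁻¹ᵁ D)) (hb : Function.Bijective (f.app D).hom) : IsIso (f ∣_ D) := by
  haveI : IsAffine (D : Scheme.{u}) := hD
  haveI : IsAffine ((f ⁻¹ᵁ D : X.Opens) : Scheme.{u}) := hD'
  have h1 : (MorphismProperty.isomorphisms Scheme.{u}) (f ∣_ D) := by
    rw [HasAffineProperty.iff_of_isAffine (P := MorphismProperty.isomorphisms Scheme.{u})]
    refine ⟨inferInstance, ?_⟩
    rw [morphismRestrict_appTop]
    have h2 : Function.Bijective (f.app (D.ι ''ᵁ ⊤)).hom :=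
      bijective_app_congr f (by simp) hb
    have h4 : IsIso (f.app (D.ι ''ᵁ ⊤)) := (ConcreteCategory.isIso_iff_bijective _).2 h2
    have h3 : IsIso (X.presheaf.map (eqToHom (image_morphismRestrict_preimage f D ⊤)).op) :=
      inferInstance
    exact @IsIso.comp_isIso _ _ _ _ _ _ _ h4 h3
  exact h1

/-- Over an affine open `W` of a locally Noetherian scheme `S`: a morphism `Ψ : P ⟶ Q` of finite flat
`S`-schemes which is an isomorphism near every point of `W` of codimension `≤ 1` is bijective on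
sections over `W`. -/
theorem bijective_app_of_codim_le_one {S P Q : Scheme.{u}} [IsLocallyNoetherian S]
    (Ψ : P ⟶ Q) (h : Q ⟶ S) [IsFinite h] [Flat h] [IsFinite (Ψ ≫ h)] [Flat (Ψ ≫ h)]
    (W : S.Opens) (hW : IsAffineOpen W)
    (H : ∀ s ∈ W, ringKrullDim (S.presheaf.stalk s) ≤ 1 →
      ∃ U : S.Opens, s ∈ U ∧ IsIso (Ψ ∣_ (h ⁻¹ᵁ U))) :
    Function.Bijective (Ψ.app (h ⁻¹ᵁ W)).hom := by
  have hQ : IsAffineOpen (h ⁻¹ᵁ W) := hW.preimage h
  have hP : IsAffineOpen (Ψ ⁻¹ᵁ h ⁻¹ᵁ W) := hW.preimage (Ψ ≫ h)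
  haveI : IsNoetherianRing Γ(S, W) := IsLocallyNoetherian.component_noetherian ⟨W, hW⟩
  letI algB : Algebra Γ(S, W) Γ(Q, h ⁻¹ᵁ W) := (h.app W).hom.toAlgebra
  letI algC : Algebra Γ(S, W) Γ(P, Ψ ⁻¹ᵁ h ⁻¹ᵁ W) := ((Ψ ≫ h).app W).hom.toAlgebra
  haveI : Module.Finite Γ(S, W) Γ(Q, h ⁻¹ᵁ W) := IsFinite.finite_app h W hW
  haveI : Module.Finite Γ(S, W) Γ(P, Ψ ⁻¹ᵁ h ⁻¹ᵁ W) := IsFinite.finite_app (Ψ ≫ h) W hW
  haveI : Module.Flat Γ(S, W) Γ(Q, h ⁻¹ᵁ W) := by
    have h1 := Flat.flat_appLE h hW hQ le_rfl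
    rw [← Scheme.Hom.app_eq_appLE] at h1
    exact h1
  haveI : Module.Flat Γ(S, W) Γ(P, Ψ ⁻¹ᵁ h ⁻¹ᵁ W) := by
    have h1 := Flat.flat_appLE (Ψ ≫ h) hW hP le_rfl
    have h2 : (Ψ ≫ h).app W = (Ψ ≫ h).appLE W (Ψ ⁻¹ᵁ h ⁻¹ᵁ W) le_rfl :=
      Scheme.Hom.app_eq_appLE (f := Ψ ≫ h)
    rw [← h2] at h1
    exact h1
  let φ : Γ(Q, h ⁻¹ᵁ W) →ₗ[Γ(S, W)] Γ(P, Ψ ⁻¹ᵁ h ⁻¹ᵁ W) :=
    { toFun := (Ψ.app (h ⁻¹ᵁ W)).hom
      map_add' := map_add _
      map_smul' := by
        intro r x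
        simp only [Algebra.smul_def, RingHom.algebraMap_toAlgebra, map_mul, RingHom.id_apply]
        rfl }
  have hφ : Function.Bijective φ := by
    apply bijective_of_codim_le_one
    intro p _ hp
    let y : PrimeSpectrum Γ(S, W) := ⟨p, inferInstance⟩
    have hy : hW.fromSpec y ∈ W := by
      have h1 : hW.fromSpec y ∈ Set.range hW.fromSpec := ⟨y, rfl⟩
      rw [hW.range_fromSpec] at h1
      exact h1
    letI alg : Algebra Γ(S, W) (S.presheaf.stalk (hW.fromSpec y)) :=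
      TopCat.Presheaf.algebra_section_stalk S.presheaf ⟨hW.fromSpec y, hy⟩
    haveI hloc : IsLocalization.AtPrime (S.presheaf.stalk (hW.fromSpec y)) p :=
      hW.isLocalization_stalk' y hy
    have hdim : ringKrullDim (S.presheaf.stalk (hW.fromSpec y)) ≤ 1 := by
      rw [IsLocalization.AtPrime.ringKrullDim_eq_height p (S.presheaf.stalk (hW.fromSpec y)),
        ← IsLocalization.AtPrime.ringKrullDim_eq_height p (Localization.AtPrime p)]
      exact hp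
    obtain ⟨U, hsU, hiso⟩ := H _ hy hdim
    obtain ⟨r, hrU, hsr⟩ := hW.exists_basicOpen_le ⟨hW.fromSpec y, hsU⟩ hy
    have hrp : r ∉ p := by
      have h1 : y ∈ hW.fromSpec ⁻¹ᵁ S.basicOpen r := hsr
      rw [hW.fromSpec_preimage_basicOpen] at h1
      exact h1
    refine BijAt.mono (T := Submonoid.powers r) ?_ ((Submonoid.powers_le).mpr hrp)
    haveI : IsIso (Ψ ∣_ (h ⁻¹ᵁ S.basicOpen r)) :=
      isIso_morphismRestrict_of_le Ψ (h.preimage_mono hrU)
    have e1 : h ⁻¹ᵁ S.basicOpen r = Q.basicOpen ((h.app W).hom r) := Scheme.preimage_basicOpen h r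
    have hbij : Function.Bijective (Ψ.app (Q.basicOpen ((h.app W).hom r))).hom := by
      rw [← e1]
      haveI := isIso_app_of_isIso_morphismRestrict Ψ (h ⁻¹ᵁ S.basicOpen r) _ le_rfl
      exact ConcreteCategory.bijective_of_isIso _
    obtain ⟨k1, k2⟩ :=
      ker_coker_of_bijective_app_basicOpen Ψ (h ⁻¹ᵁ W) hQ hP ((h.app W).hom r) hbij
    constructor
    · intro x hx
      obtain ⟨n, hn⟩ := k1 x hx
      refine ⟨r ^ n, ⟨n, rfl⟩, ?_⟩
      change (h.app W).hom (r ^ n) * x = 0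
      rw [map_pow]
      exact hn
    · intro c
      obtain ⟨n, x, hx⟩ := k2 c
      refine ⟨r ^ n, ⟨n, rfl⟩, x, ?_⟩
      change (Ψ.app (h ⁻¹ᵁ W)).hom x = (Ψ.app (h ⁻¹ᵁ W)).hom ((h.app W).hom (r ^ n)) * c
      rw [map_pow, map_pow]
      exact hx
  exact hφ

end Groth.Agent.Lib.LeadCodim
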