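import Groth.Agent.Lib.LeadCodimC
import Groth.Agent.Lib.Helper3IsoFibB
import Groth.Agent.Lib.Helper5StalkSpec

/-!
Lead library, part D: a morphism of finite flat schemes over a locally Noetherian base whose fibres
over all points of codimension `≤ 1` are isomorphisms is an isomorphism; surjectivity of a finite
morphism whose image contains all points of codimension `≤ 1`.
-/

set_option autoImplicit false
set_option maxHeartbeats 400000
set_option linter.style.haveILetI false
set_option linter.unusedSectionVars false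
set_option linter.unusedVariables false

universe u
open CategoryTheory AlgebraicGeometry TopologicalSpace Limits

namespace Groth.Agent.Lib.LeadCodim

theorem exists_isIso_nbhd_of_fibre_iso {X Y Z : Scheme.{u}} (f : X ⟶ Y) (g : X ⟶ Z) (h : Y ⟶ Z)
    (w : f ≫ h = g) [IsProper g] [IsProper h] [Flat g] [LocallyOfFinitePresentation g] (z : Z)
    (e1 : g ≫ 𝟙 Z = f ≫ h)
    (e2 : Z.fromSpecResidueField z ≫ 𝟙 Z = 𝟙 _ ≫ Z.fromSpecResidueField z)
    (hiso : IsIso (pullback.map g (Z.fromSpecResidueField z) h (Z.fromSpecResidueField z) f (𝟙 _)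
      (𝟙 Z) e1 e2)) :
    ∃ U : Z.Opens, z ∈ U ∧ IsIso (f ∣_ (h ⁻¹ᵁ U)) := by
  subst w
  haveI : IsIso (CohIII.fiberMapOver f (f ≫ h) h rfl z) := hiso
  exact Groth.Agent.Lib.Helper3.IsoFib.exists_isIso_morphismRestrict_of_fibre_iso f h z

theorem isIso_of_fibres_codim_le_one {S P Q : Scheme.{u}} [IsLocallyNoetherian S] (Ψ : P ⟶ Q)
    (g : P ⟶ S) (h : Q ⟶ S) (w : Ψ ≫ h = g) [IsFinite h] [Flat h] [IsFinite g] [Flat g]
    (hfib : ∀ s : S, ringKrullDim (S.presheaf.stalk s) ≤ 1 →
      ∃ (e1 : g ≫ 𝟙 S = Ψ ≫ h)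
        (e2 : S.fromSpecResidueField s ≫ 𝟙 S = 𝟙 _ ≫ S.fromSpecResidueField s),
        IsIso (pullback.map g (S.fromSpecResidueField s) h (S.fromSpecResidueField s) Ψ (𝟙 _)
          (𝟙 S) e1 e2)) : IsIso Ψ := by
  subst w
  have key : ∀ s : S, ringKrullDim (S.presheaf.stalk s) ≤ 1 →
      ∃ U : S.Opens, s ∈ U ∧ IsIso (Ψ ∣_ (h ⁻¹ᵁ U)) := by
    intro s hs
    obtain ⟨e1, e2, hiso⟩ := hfib s hs
    exact exists_isIso_nbhd_of_fibre_iso Ψ (Ψ ≫ h) h rfl s e1 e2 hiso
  show (MorphismProperty.isomorphisms Scheme) Ψ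
  refine IsZariskiLocalAtTarget.of_forall_exists_morphismRestrict (fun y => ?_)
  obtain ⟨W, hW, hyW, -⟩ := exists_isAffineOpen_mem_and_subset (x := h y) (U := ⊤) trivial
  refine ⟨h ⁻¹ᵁ W, hyW, ?_⟩
  exact isIso_morphismRestrict_of_bijective_app Ψ (h ⁻¹ᵁ W) (hW.preimage h)
    (hW.preimage (Ψ ≫ h)) (bijective_app_of_codim_le_one Ψ h W hW (fun s _ hs => key s hs))

theorem surjective_of_codim_le_one {S Y : Scheme.{u}} (f : Y ⟶ S) [IsFinite f]
    (hgen : ∀ s : S, ringKrullDim (S.presheaf.stalk s) ≤ 1 → s ∈ Set.range f.base) :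
    Function.Surjective f.base := by
  intro s
  obtain ⟨η, hη⟩ := QuasiSober.sober (isIrreducible_irreducibleComponent (x := s))
    isClosed_irreducibleComponent
  have hmax : ∀ z' : S, z' ⤳ η → z' = η := by
    intro z' hz'
    have h1 : closure {η} ⊆ closure {z'} := by
      apply closure_minimal _ isClosed_closure
      rw [Set.singleton_subset_iff]
      exact hz'.mem_closure
    have h2 : IsIrreducible (closure ({z'} : Set S)) := isIrreducible_singleton.closure
    have h3 : irreducibleComponent s ∈ irreducibleComponents S :=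
      irreducibleComponent_mem_irreducibleComponents s
    have h4 : closure {z'} ⊆ irreducibleComponent s := by
      apply h3.2 h2
      rw [← hη.def]
      exact h1
    have h5 : η ⤳ z' := by
      rw [specializes_iff_mem_closure, hη.def]
      exact h4 (subset_closure rfl)
    exact (hz'.antisymm h5).eq
  have hdim : ringKrullDim (S.presheaf.stalk η) ≤ 1 := by
    rw [Groth.Agent.Lib.Helper5.StalkSpec.ringKrullDim_stalk_eq_zero_of_maximal S η hmax]
    norm_num
  have hηr := hgen η hdim
  have hcl : IsClosed (Set.range f.base) := f.isClosedMap.isClosed_range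
  have hs : s ∈ closure ({η} : Set S) := by
    rw [hη.def]
    exact mem_irreducibleComponent
  exact closure_minimal (Set.singleton_subset_iff.mpr hηr) hcl hs

end Groth.Agent.Lib.LeadCodim
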