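import Mathlib

set_option maxHeartbeats 400000

/-!
# Sections of constant sheaves of modules

`T J Λ U : ModuleCat Λ ⥤ ModuleCat Λ` sends `M` to the sections over `U` of the constant sheaf on `M`.
It is additive, `Λ`-linear, left exact, and preserves epimorphisms (because the constant-sheaf
functor commutes with the forgetful functor to sets and every surjection of sets splits); hence it
is exact.  For a natural transformation between right exact additive endofunctors of `ModuleCat Λ`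
which is an isomorphism at `Λ`, it is an isomorphism at every finitely presented module.
-/

open CategoryTheory Opposite Limits MonoidalCategory

universe u

namespace Groth.Agent.Lib.LeadConstSheaf

section FP

variable {Λ : Type u} [CommRing Λ]
variable {F G : ModuleCat.{u} Λ ⥤ ModuleCat.{u} Λ} [F.Additive] [G.Additive]
  [PreservesFiniteColimits F] [PreservesFiniteColimits G] (θ : F ⟶ G)

/-- projection `Λ^n → Λ` -/
def prj (Λ : Type u) [CommRing Λ] (n : ℕ) (i : Fin n) :
    ModuleCat.of Λ (Fin n → Λ) ⟶ ModuleCat.of Λ Λ :=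
  ModuleCat.ofHom (LinearMap.proj i)

/-- inclusion `Λ → Λ^n` -/
def inj (Λ : Type u) [CommRing Λ] (n : ℕ) (i : Fin n) :
    ModuleCat.of Λ Λ ⟶ ModuleCat.of Λ (Fin n → Λ) :=
  ModuleCat.ofHom (LinearMap.single Λ (fun _ => Λ) i)

lemma sum_prj_inj (n : ℕ) :
    ∑ i, prj Λ n i ≫ inj Λ n i = 𝟙 (ModuleCat.of Λ (Fin n → Λ)) := by
  apply ModuleCat.hom_ext
  apply LinearMap.ext
  intro x
  rw [ModuleCat.hom_sum, LinearMap.sum_apply]
  exact Finset.univ_sum_single x

lemma isIso_app_free [IsIso (θ.app (ModuleCat.of Λ Λ))] (n : ℕ) :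
    IsIso (θ.app (ModuleCat.of Λ (Fin n → Λ))) := by
  refine ⟨⟨∑ i, G.map (prj Λ n i) ≫ inv (θ.app (ModuleCat.of Λ Λ)) ≫ F.map (inj Λ n i), ?_, ?_⟩⟩
  · rw [Preadditive.comp_sum]
    have h : ∀ i, θ.app _ ≫ G.map (prj Λ n i) ≫ inv (θ.app (ModuleCat.of Λ Λ)) ≫
        F.map (inj Λ n i) = F.map (prj Λ n i ≫ inj Λ n i) := by
      intro i
      rw [← θ.naturality_assoc, IsIso.hom_inv_id_assoc, F.map_comp]
    rw [Finset.sum_congr rfl (fun i _ => h i), ← Functor.map_sum, sum_prj_inj, F.map_id]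
  · rw [Preadditive.sum_comp]
    have h : ∀ i, (G.map (prj Λ n i) ≫ inv (θ.app (ModuleCat.of Λ Λ)) ≫
        F.map (inj Λ n i)) ≫ θ.app _ = G.map (prj Λ n i ≫ inj Λ n i) := by
      intro i
      rw [Category.assoc, Category.assoc, θ.naturality, IsIso.inv_hom_id_assoc, G.map_comp]
    rw [Finset.sum_congr rfl (fun i _ => h i), ← Functor.map_sum, sum_prj_inj, G.map_id]

lemma isIso_app_X₃ (S : ShortComplex (ModuleCat.{u} Λ)) (hS : S.Exact) [Epi S.g]
    [IsIso (θ.app S.X₁)] [IsIso (θ.app S.X₂)] : IsIso (θ.app S.X₃) := by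
  have tF : PreservesFiniteColimits F ↔ ∀ (S : ShortComplex (ModuleCat.{u} Λ)),
      S.Exact ∧ Epi S.g → (S.map F).Exact ∧ Epi (F.map S.g) :=
    (Functor.preservesFiniteColimits_tfae F).out 3 1
  have tG : PreservesFiniteColimits G ↔ ∀ (S : ShortComplex (ModuleCat.{u} Λ)),
      S.Exact ∧ Epi S.g → (S.map G).Exact ∧ Epi (G.map S.g) :=
    (Functor.preservesFiniteColimits_tfae G).out 3 1
  have hF := tF.1 ‹_› S ⟨hS, ‹_›⟩
  have hG := tG.1 ‹_› S ⟨hS, ‹_›⟩
  have hFg : Function.Surjective (F.map S.g).hom := (ModuleCat.epi_iff_surjective _).1 hF.2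
  have hGg : Function.Surjective (G.map S.g).hom := (ModuleCat.epi_iff_surjective _).1 hG.2
  have hGex := (ShortComplex.moduleCat_exact_iff (S.map G)).1 hG.1
  have bijA : Function.Bijective (θ.app S.X₁).hom :=
    (ConcreteCategory.isIso_iff_bijective _).1 inferInstance
  have bijB : Function.Bijective (θ.app S.X₂).hom :=
    (ConcreteCategory.isIso_iff_bijective _).1 inferInstance
  have natB : ∀ b, (θ.app S.X₃).hom ((F.map S.g).hom b) =
      (G.map S.g).hom ((θ.app S.X₂).hom b) := fun b =>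
    congrArg (fun h => h.hom b) (θ.naturality S.g)
  have natA : ∀ a, (θ.app S.X₂).hom ((F.map S.f).hom a) =
      (G.map S.f).hom ((θ.app S.X₁).hom a) := fun a =>
    congrArg (fun h => h.hom a) (θ.naturality S.f)
  have hFzero : ∀ a, (F.map S.g).hom ((F.map S.f).hom a) = 0 := fun a =>
    congrArg (fun h => h.hom a) (S.map F).zero
  refine (ConcreteCategory.isIso_iff_bijective _).2 ⟨?_, ?_⟩
  · refine (injective_iff_map_eq_zero (θ.app S.X₃).hom).2 ?_
    intro x hx
    obtain ⟨b, rfl⟩ := hFg x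
    have hx' : (G.map S.g).hom ((θ.app S.X₂).hom b) = 0 := (natB b).symm.trans hx
    obtain ⟨a', ha'⟩ := hGex _ hx'
    obtain ⟨a, rfl⟩ := bijA.2 a'
    have h2 : (θ.app S.X₂).hom ((F.map S.f).hom a) = (θ.app S.X₂).hom b := (natA a).trans ha'
    rw [← bijB.1 h2]
    exact hFzero a
  · intro y
    obtain ⟨b', rfl⟩ := hGg y
    obtain ⟨b, rfl⟩ := bijB.2 b'
    exact ⟨(F.map S.g).hom b, natB b⟩

theorem isIso_app_of_fp [IsIso (θ.app (ModuleCat.of Λ Λ))] (Q : ModuleCat.{u} Λ)
    [Module.FinitePresentation Λ Q] : IsIso (θ.app Q) := by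
  obtain ⟨n, m, f, g, hf, hgf⟩ := Module.FinitePresentation.exists_fin' Λ Q
  let S : ShortComplex (ModuleCat.{u} Λ) :=
    ShortComplex.moduleCatMk g f (LinearMap.ext fun x => hgf.apply_apply_eq_zero x)
  have hS : S.Exact := ModuleCat.shortComplex_exact S hgf
  haveI : Epi S.g := (ModuleCat.epi_iff_surjective _).2 hf
  haveI hA : IsIso (θ.app S.X₁) := isIso_app_free θ m
  haveI hB : IsIso (θ.app S.X₂) := isIso_app_free θ n
  exact isIso_app_X₃ θ S hS

end FP

section T

variable {C : Type u} [SmallCategory C] (J : GrothendieckTopology C) (Λ : Type u) [CommRing Λ]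
  (U : C)

/-- sections over `U` of the constant sheaf, as a functor -/
noncomputable def T : ModuleCat.{u} Λ ⥤ ModuleCat.{u} Λ :=
  constantSheaf J (ModuleCat.{u} Λ) ⋙ sheafToPresheaf J _ ⋙ (evaluation Cᵒᵖ _).obj (op U)

noncomputable instance : PreservesFiniteLimits (T J Λ U) := by
  unfold T constantSheaf; infer_instance

instance : (T J Λ U).Additive := by
  unfold T constantSheaf; infer_instance

instance : (T J Λ U).PreservesMonomorphisms :=
  preservesMonomorphisms_of_preservesLimitsOfShape _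

lemma T_map_eq {A B : ModuleCat.{u} Λ} (g : A ⟶ B) :
    (T J Λ U).map g = (sheafifyMap J ((Functor.const Cᵒᵖ).map g)).app (op U) := rfl

lemma epi_T_map {A B : ModuleCat.{u} Λ} (p : A ⟶ B) [Epi p] : Epi ((T J Λ U).map p) := by
  let F := forget (ModuleCat.{u} Λ)
  let E : Sheaf J (Type u) ⥤ Type u := sheafToPresheaf J _ ⋙ (evaluation Cᵒᵖ _).obj (op U)
  let α : (constantSheaf J (ModuleCat.{u} Λ) ⋙ sheafCompose J F) ⋙ E ≅
      (F ⋙ constantSheaf J (Type u)) ⋙ E :=
    Functor.isoWhiskerRight (constantCommuteCompose J F) E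
  haveI : Epi (F.map p) := inferInstance
  haveI : IsSplitEpi (F.map p) := isSplitEpi_of_epi _
  haveI h1 : Epi (((F ⋙ constantSheaf J (Type u)) ⋙ E).map p) := by
    show Epi ((constantSheaf J (Type u) ⋙ E).map (F.map p))
    infer_instance
  have h2 : ((constantSheaf J (ModuleCat.{u} Λ) ⋙ sheafCompose J F) ⋙ E).map p =
      α.hom.app A ≫ ((F ⋙ constantSheaf J (Type u)) ⋙ E).map p ≫ α.inv.app B := by
    rw [← α.hom.naturality_assoc, Iso.hom_inv_id_app, Category.comp_id]
  haveI h3 : Epi (((constantSheaf J (ModuleCat.{u} Λ) ⋙ sheafCompose J F) ⋙ E).map p) := by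
    rw [h2]; infer_instance
  have h4 : Epi (F.map ((T J Λ U).map p)) := h3
  exact F.epi_of_epi_map h4

noncomputable instance : PreservesFiniteColimits (T J Λ U) := by
  rw [Functor.preservesFiniteColimits_iff_forall_exact_map_and_epi]
  intro S hS
  have h := (Functor.preservesFiniteLimits_iff_forall_exact_map_and_mono (T J Λ U)).1
    inferInstance S hS
  haveI := hS.epi_g
  exact ⟨h.1, epi_T_map J Λ U S.g⟩

lemma sheafifyMap_smul_id (P : Cᵒᵖ ⥤ ModuleCat.{u} Λ) (c : Λ) :
    sheafifyMap J (c • 𝟙 P) = c • 𝟙 (sheafify J P) := by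
  apply sheafify_hom_ext J _ _ ((presheafToSheaf J _).obj P).property
  rw [← toSheafify_naturality, Linear.smul_comp, Linear.comp_smul, Category.id_comp,
    Category.comp_id]

lemma T_map_smul_id (A : ModuleCat.{u} Λ) (c : Λ) :
    (T J Λ U).map (c • 𝟙 A) = c • 𝟙 ((T J Λ U).obj A) := by
  have h1 : (Functor.const Cᵒᵖ).map (c • 𝟙 A) = c • 𝟙 ((Functor.const Cᵒᵖ).obj A) := by
    ext V; rfl
  rw [T_map_eq, h1, sheafifyMap_smul_id]
  rfl

lemma T_map_smul {A B : ModuleCat.{u} Λ} (g : A ⟶ B) (c : Λ) :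
    (T J Λ U).map (c • g) = c • (T J Λ U).map g := by
  have h : c • g = g ≫ (c • 𝟙 B) := by rw [Linear.comp_smul, Category.comp_id]
  rw [h, Functor.map_comp, T_map_smul_id, Linear.comp_smul, Category.comp_id]

/-- `m ↦ m ⊗ q` -/
def flipHom (A Q : ModuleCat.{u} Λ) (q : Q) : A ⟶ (tensorLeft A).obj Q :=
  ModuleCat.ofHom ((TensorProduct.mk Λ A Q).flip q)

lemma flipHom_add (A Q : ModuleCat.{u} Λ) (q₁ q₂ : Q) :
    flipHom Λ A Q (q₁ + q₂) = flipHom Λ A Q q₁ + flipHom Λ A Q q₂ :=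
  ModuleCat.hom_ext (LinearMap.ext fun a => TensorProduct.tmul_add a q₁ q₂)

lemma flipHom_smul (A Q : ModuleCat.{u} Λ) (c : Λ) (q : Q) :
    flipHom Λ A Q (c • q) = c • flipHom Λ A Q q :=
  ModuleCat.hom_ext (LinearMap.ext fun a => TensorProduct.tmul_smul c a q)

lemma flipHom_comp_whiskerLeft (A : ModuleCat.{u} Λ) {Q Q' : ModuleCat.{u} Λ} (f : Q ⟶ Q')
    (q : Q) : flipHom Λ A Q q ≫ (tensorLeft A).map f = flipHom Λ A Q' (f.hom q) :=
  ModuleCat.hom_ext (LinearMap.ext fun _ => rfl)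

/-- the right unitor, with the unit written as `of Λ Λ` -/
noncomputable def rhoHom (A : ModuleCat.{u} Λ) : (tensorLeft A).obj (ModuleCat.of Λ Λ) ⟶ A :=
  (ρ_ A).hom

instance (A : ModuleCat.{u} Λ) : IsIso (rhoHom Λ A) := by
  unfold rhoHom; infer_instance

lemma flipHom_comp_rhoHom (A : ModuleCat.{u} Λ) (c : Λ) :
    flipHom Λ A (ModuleCat.of Λ Λ) c ≫ rhoHom Λ A = c • 𝟙 A :=
  ModuleCat.hom_ext (LinearMap.ext fun a => TensorProduct.rid_tmul a c)

/-- the comparison map `T(A) ⊗ Q → T(A ⊗ Q)` -/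
noncomputable def thetaLin (A Q : ModuleCat.{u} Λ) :
    TensorProduct Λ ((T J Λ U).obj A) Q →ₗ[Λ] (T J Λ U).obj ((tensorLeft A).obj Q) :=
  TensorProduct.lift (LinearMap.mk₂ Λ
    (fun (s : (T J Λ U).obj A) (q : Q) => ((T J Λ U).map (flipHom Λ A Q q)).hom s)
    (fun s₁ s₂ q => map_add _ s₁ s₂)
    (fun c s q => map_smul _ c s)
    (fun s q₁ q₂ => by
      show ((T J Λ U).map (flipHom Λ A Q (q₁ + q₂))).hom s =
        ((T J Λ U).map (flipHom Λ A Q q₁)).hom s + ((T J Λ U).map (flipHom Λ A Q q₂)).hom s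
      rw [flipHom_add, Functor.map_add]; rfl)
    (fun c s q => by
      show ((T J Λ U).map (flipHom Λ A Q (c • q))).hom s =
        c • ((T J Λ U).map (flipHom Λ A Q q)).hom s
      rw [flipHom_smul, T_map_smul]; rfl))

lemma thetaLin_tmul (A Q : ModuleCat.{u} Λ) (s : (T J Λ U).obj A) (q : Q) :
    thetaLin J Λ U A Q (TensorProduct.tmul Λ s q) = ((T J Λ U).map (flipHom Λ A Q q)).hom s :=
  rfl

/-- the comparison as a natural transformation -/
noncomputable def theta (A : ModuleCat.{u} Λ) :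
    tensorLeft ((T J Λ U).obj A) ⟶ tensorLeft A ⋙ T J Λ U where
  app Q := ModuleCat.ofHom (thetaLin J Λ U A Q)
  naturality Q Q' f := by
    apply ModuleCat.MonoidalCategory.tensor_ext
    intro s q
    show thetaLin J Λ U A Q' (TensorProduct.tmul Λ s (f.hom q)) =
      ((T J Λ U).map ((tensorLeft A).map f)).hom (thetaLin J Λ U A Q (TensorProduct.tmul Λ s q))
    rw [thetaLin_tmul, thetaLin_tmul, ← flipHom_comp_whiskerLeft, Functor.map_comp]
    rfl

lemma theta_unit_comp (A : ModuleCat.{u} Λ) :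
    (theta J Λ U A).app (ModuleCat.of Λ Λ) ≫ (T J Λ U).map (rhoHom Λ A) =
      rhoHom Λ ((T J Λ U).obj A) := by
  apply ModuleCat.MonoidalCategory.tensor_ext
  intro s c
  have h1 : (T J Λ U).map (flipHom Λ A (ModuleCat.of Λ Λ) c) ≫ (T J Λ U).map (rhoHom Λ A) =
      c • 𝟙 _ := by
    rw [← Functor.map_comp, flipHom_comp_rhoHom, T_map_smul_id]
  have h2 := congrArg (fun g => g.hom s) h1
  exact h2.trans (TensorProduct.rid_tmul s c).symm

instance theta_unit_isIso (A : ModuleCat.{u} Λ) :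
    IsIso ((theta J Λ U A).app (ModuleCat.of Λ Λ)) :=
  IsIso.of_isIso_fac_right (theta_unit_comp J Λ U A)

theorem theta_isIso_of_fp (A Q : ModuleCat.{u} Λ) [Module.FinitePresentation Λ Q] :
    IsIso ((theta J Λ U A).app Q) :=
  isIso_app_of_fp (theta J Λ U A) Q

theorem flat_T (hΛ : ∀ I : Ideal Λ, I.FG → Module.FinitePresentation Λ I)
    (A : ModuleCat.{u} Λ) [Module.Flat Λ A] : Module.Flat Λ ((T J Λ U).obj A) := by
  rw [Module.Flat.iff_lTensor_injective]
  intro I hI
  haveI := hΛ I hI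
  let ι : ModuleCat.of Λ I ⟶ ModuleCat.of Λ Λ := ModuleCat.ofHom I.subtype
  haveI h1 : IsIso ((theta J Λ U A).app (ModuleCat.of Λ I)) :=
    theta_isIso_of_fp J Λ U A (ModuleCat.of Λ I)
  haveI h2 : Mono ((tensorLeft A).map ι) := (ModuleCat.mono_iff_injective _).2
    (Module.Flat.lTensor_preserves_injective_linearMap (M := A) I.subtype Subtype.val_injective)
  haveI h3 : Mono ((T J Λ U).map ((tensorLeft A).map ι)) := Functor.map_mono _ _
  have nat := (theta J Λ U A).naturality ι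
  have h1' : Mono ((theta J Λ U A).app (ModuleCat.of Λ I)) := IsIso.mono_of_iso _
  have h4' : Mono ((theta J Λ U A).app (ModuleCat.of Λ I) ≫
      (T J Λ U).map ((tensorLeft A).map ι)) := @mono_comp _ _ _ _ _ _ h1' _ h3
  haveI h4 : Mono ((tensorLeft ((T J Λ U).obj A)).map ι ≫
      (theta J Λ U A).app (ModuleCat.of Λ Λ)) := by
    rw [nat]; exact h4'
  haveI h5 : Mono ((tensorLeft ((T J Λ U).obj A)).map ι) :=
    mono_of_mono _ ((theta J Λ U A).app (ModuleCat.of Λ Λ))
  exact (ModuleCat.mono_iff_injective _).1 h5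

end T

end Groth.Agent.Lib.LeadConstSheaf
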