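import Mathlib
import Groth.Agent.Lib.Helper20BlowUp

set_option autoImplicit false
set_option linter.style.haveILetI false
universe u
open CategoryTheory CategoryTheory.Limits AlgebraicGeometry TopologicalSpace Opposite

namespace Groth.Agent.Lib.T2H2.IdealComapPow

/-- pullback of ideal sheaves commutes with powers. -/
theorem comap_pow {S T : Scheme.{u}} (g : S ⟶ T) (I : T.IdealSheafData) (n : ℕ) :
    (I ^ n).comap g = I.comap g ^ n := by
  induction n with
  | zero =>
    rw [pow_zero, pow_zero, Scheme.IdealSheafData.one_eq_top, Scheme.IdealSheafData.one_eq_top,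
      Scheme.IdealSheafData.comap_top]
  | succ n ih =>
    rw [pow_succ, Groth.Agent.Lib.Helper20.BlowUpBasic.comap_mul, ih, pow_succ]

/-- the ideal of the base change of a closed immersion is the pullback ideal. -/
theorem ker_eq_comap_of_isPullback {Y X Y' X' : Scheme.{u}} (f : Y ⟶ X) [IsClosedImmersion f]
    (v : X' ⟶ X) (u : Y' ⟶ Y) (f' : Y' ⟶ X') (hsq : IsPullback u f' f v) :
    f.ker.comap v = f'.ker := by
  rw [← Scheme.IdealSheafData.ker_fst_of_isClosedImmersion f v,
    ← hsq.flip.isoPullback_hom_fst, Scheme.Hom.ker_comp_of_isIso]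

end Groth.Agent.Lib.T2H2.IdealComapPow
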