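import Mathlib
import Groth.Agent.Lib.T2H2IdealComapPow

set_option maxHeartbeats 400000
set_option linter.style.haveILetI false
set_option linter.unusedSectionVars false
set_option autoImplicit false
universe u

/-!
# Contracting correspondences: connected components of the fixed locus meeting `Z` lie in `Z`
-/

namespace Groth.Agent.Lib.LeadContractFix

open AlgebraicGeometry CategoryTheory CategoryTheory.Limits TopologicalSpace

/-- for an idempotent `e` on an open `U`, zero locus of `e` inside `U` is the basic open of `1-e`. -/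
lemma zeroLocus_inter_of_idem (X : Scheme.{u}) {U : X.Opens} (e : Γ(X, U))
    (he : IsIdempotentElem e) :
    X.zeroLocus (U := U) ({e} : Set Γ(X, U)) ∩ U = (X.basicOpen (1 - e) : Set X) := by
  ext x
  simp only [Scheme.zeroLocus_singleton, Set.mem_inter_iff, Set.mem_compl_iff, SetLike.mem_coe]
  constructor
  · rintro ⟨hx, hxU⟩
    have h1 : x ∈ X.basicOpen (e + (1 - e)) := by
      rw [add_sub_cancel, X.basicOpen_of_isUnit isUnit_one]; exact hxU
    rcases X.basicOpen_add_le e (1 - e) h1 with h | h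
    · exact (hx h).elim
    · exact h
  · intro hx
    refine ⟨fun hx' => ?_, X.basicOpen_le _ hx⟩
    have : x ∈ X.basicOpen (e * (1 - e)) := by
      rw [X.basicOpen_mul]; exact ⟨hx', hx⟩
    have h0 : e * (1 - e) = 0 := by
      rw [mul_sub, mul_one, he.eq, sub_self]
    rw [h0, X.basicOpen_zero] at this
    exact this

/-- On a locally Noetherian scheme, the support of an idempotent ideal sheaf is open. -/
lemma isOpen_support_of_idem (X : Scheme.{u}) [IsLocallyNoetherian X] (J : X.IdealSheafData)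
    (hJJ : J * J = J) : IsOpen (J.support : Set X) := by
  have hloc : ∀ U : X.affineOpens, ∃ e : Γ(X, U.1), IsIdempotentElem e ∧
      J.ideal U = Ideal.span {e} := by
    intro U
    have hN : IsNoetherianRing Γ(X, U.1) := IsLocallyNoetherian.component_noetherian U
    have hfg : (J.ideal U).FG := (isNoetherianRing_iff_ideal_fg _).mp hN _
    have hid : IsIdempotentElem (J.ideal U) := by
      have := congrArg (fun K : X.IdealSheafData => K.ideal U) hJJ
      simpa [IsIdempotentElem] using this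
    exact (Ideal.isIdempotentElem_iff_of_fg _ hfg).mp hid
  rw [isOpen_iff_forall_mem_open]
  intro x hx
  obtain ⟨_, ⟨U, hU, rfl⟩, hxU, -⟩ :=
    X.isBasis_affineOpens.exists_subset_of_mem_open (Set.mem_univ x) isOpen_univ
  obtain ⟨e, he, hJe⟩ := hloc ⟨U, hU⟩
  have key : (J.support : Set X) ∩ U = (X.basicOpen (1 - e) : Set X) := by
    rw [J.coe_support_inter ⟨U, hU⟩, hJe, X.zeroLocus_span]
    exact zeroLocus_inter_of_idem X e he
  refine ⟨(X.basicOpen (1 - e) : Set X), ?_, (X.basicOpen (1 - e)).2, ?_⟩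
  · rw [← key]; exact Set.inter_subset_left
  · rw [← key]; exact ⟨hx, hxU⟩

theorem isClopen_preimage_support {C X Fx : Scheme.{u}} (k : Type u) [Field k]
    (pC : C ⟶ Spec (CommRingCat.of k)) [LocallyOfFiniteType pC]
    (pX : X ⟶ Spec (CommRingCat.of k)) (c₁ c₂ : C ⟶ X) (hc : c₁ ≫ pX = c₂ ≫ pX)
    (i : Fx ⟶ C) (δ : Fx ⟶ X) (hF : IsPullback i δ (pullback.lift c₁ c₂ hc) (pullback.diagonal pX))
    (I : X.IdealSheafData) (W : C.Opens) (hW : Set.range i.base ⊆ (W : Set C))
    (k₀ : ℕ) (hpow : I.comap (W.ι ≫ c₁) ^ k₀ ≤ I.comap (W.ι ≫ c₂) ^ (k₀ + 1)) :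
    IsClopen (δ.base ⁻¹' (I.support : Set X)) := by
  haveI : IsLocallyNoetherian (Spec (CommRingCat.of k)) := by
    rw [isLocallyNoetherian_Spec]
    infer_instance
  haveI : IsLocallyNoetherian C := LocallyOfFiniteType.isLocallyNoetherian pC
  haveI : IsImmersion i := MorphismProperty.of_isPullback (P := @IsImmersion) hF.flip inferInstance
  haveI : IsLocallyNoetherian Fx := LocallyOfFiniteType.isLocallyNoetherian i
  have h1 : i ≫ c₁ = δ := by
    have h := congrArg (fun f => f ≫ pullback.fst pX pX) hF.w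
    simp only [Category.assoc, pullback.lift_fst, pullback.diagonal_fst, Category.comp_id] at h
    exact h
  have h2 : i ≫ c₂ = δ := by
    have h := congrArg (fun f => f ≫ pullback.snd pX pX) hF.w
    simp only [Category.assoc, pullback.lift_snd, pullback.diagonal_snd, Category.comp_id] at h
    exact h
  have hWr : Set.range i.base ⊆ Set.range W.ι.base := by
    rw [Scheme.Opens.range_ι]; exact hW
  have hiW : IsOpenImmersion.lift W.ι i hWr ≫ W.ι = i := IsOpenImmersion.lift_fac _ _ _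
  have e1 : I.comap δ = (I.comap (W.ι ≫ c₁)).comap (IsOpenImmersion.lift W.ι i hWr) := by
    rw [← Scheme.IdealSheafData.comap_comp, ← Category.assoc, hiW, h1]
  have e2 : I.comap δ = (I.comap (W.ι ≫ c₂)).comap (IsOpenImmersion.lift W.ι i hWr) := by
    rw [← Scheme.IdealSheafData.comap_comp, ← Category.assoc, hiW, h2]
  have hle' : I.comap δ ^ k₀ ≤ I.comap δ ^ (k₀ + 1) := by
    calc I.comap δ ^ k₀
        = (I.comap (W.ι ≫ c₁) ^ k₀).comap (IsOpenImmersion.lift W.ι i hWr) := by
          rw [Groth.Agent.Lib.T2H2.IdealComapPow.comap_pow, ← e1]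
      _ ≤ (I.comap (W.ι ≫ c₂) ^ (k₀ + 1)).comap (IsOpenImmersion.lift W.ι i hWr) :=
          Scheme.IdealSheafData.comap_mono _ hpow
      _ = I.comap δ ^ (k₀ + 1) := by
          rw [Groth.Agent.Lib.T2H2.IdealComapPow.comap_pow, ← e2]
  have hEq : I.comap δ ^ k₀ = I.comap δ ^ (k₀ + 1) :=
    le_antisymm hle' (fun U => Ideal.pow_le_pow_right (Nat.le_succ k₀))
  have hall : ∀ m : ℕ, I.comap δ ^ (k₀ + m) = I.comap δ ^ k₀ := by
    intro m
    induction m with
    | zero => rfl
    | succ m ih => rw [← add_assoc, pow_succ, ih, ← pow_succ, ← hEq]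
  have hJJ : I.comap δ ^ (k₀ + 1) * I.comap δ ^ (k₀ + 1) = I.comap δ ^ (k₀ + 1) := by
    rw [← pow_add, show k₀ + 1 + (k₀ + 1) = k₀ + (1 + (k₀ + 1)) by omega, hall, hEq]
  have hclopen : IsClopen ((I.comap δ ^ (k₀ + 1)).support : Set Fx) :=
    ⟨(I.comap δ ^ (k₀ + 1)).support.2, isOpen_support_of_idem Fx _ hJJ⟩
  have hsup : ((I.comap δ ^ (k₀ + 1)).support : Set Fx) = δ.base ⁻¹' (I.support : Set X) := by
    rw [Scheme.IdealSheafData.support_pow_succ, Scheme.IdealSheafData.support_comap]; rfl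
  rw [← hsup]
  exact hclopen

theorem main {C X Fx : Scheme.{u}} (k : Type u) [Field k]
    (pC : C ⟶ Spec (CommRingCat.of k)) [LocallyOfFiniteType pC]
    (pX : X ⟶ Spec (CommRingCat.of k)) (c₁ c₂ : C ⟶ X) (hc : c₁ ≫ pX = c₂ ≫ pX)
    (i : Fx ⟶ C) (δ : Fx ⟶ X) (hF : IsPullback i δ (pullback.lift c₁ c₂ hc) (pullback.diagonal pX))
    (I : X.IdealSheafData) (W : C.Opens) (hW : Set.range i.base ⊆ (W : Set C))
    (k₀ : ℕ) (hpow : I.comap (W.ι ≫ c₁) ^ k₀ ≤ I.comap (W.ι ≫ c₂) ^ (k₀ + 1))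
    (β : Fx.Opens) (hβ : _root_.IsConnected (β : Set Fx))
    (hβZ : (δ.base '' (β : Set Fx) ∩ (I.support : Set X)).Nonempty) :
    (β : Set Fx) ⊆ δ.base ⁻¹' (I.support : Set X) := by
  have hcl := isClopen_preimage_support k pC pX c₁ c₂ hc i δ hF I W hW k₀ hpow
  apply hβ.isPreconnected.subset_isClopen hcl
  obtain ⟨_, ⟨y, hy, rfl⟩, hyZ⟩ := hβZ
  exact ⟨y, hy, hyZ⟩

end Groth.Agent.Lib.LeadContractFix
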