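import Mathlib
import Groth.Agent.S14670
import Groth.Agent.Lib.Helper28RegLoc
import Groth.Agent.Lib.Helper5RLR3
import Groth.Agent.Lib.Helper5RLR

/-!
# Regular finite over regular is free; unit retractions (lead)
-/

set_option autoImplicit false
set_option maxHeartbeats 400000
set_option linter.style.haveILetI false
set_option linter.unusedSectionVars false
set_option linter.unusedVariables false
universe u v w

noncomputable section

namespace Groth.Agent.Lib.LeadCop

open IsLocalRing

/-- same-universe version: a regular local ring, finite and injective over a regular local ring, is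
flat. -/
theorem flat_of_regular_finite_sameUniv (R A : Type v) [CommRing R] [IsRegularLocalRing R]
    [CommRing A] [IsRegularLocalRing A] [Algebra R A] [Module.Finite R A]
    (hinj : Function.Injective (algebraMap R A)) : Module.Flat R A := by
  haveI : IsDomain A := Groth.Agent.Lib.Helper5.isDomain_of_isRegularLocalRing A
  refine Groth.Agent.S14670.result R A hinj ?_
  intro q hq
  haveI : IsRegularLocalRing (Localization.AtPrime q) :=
    Groth.Agent.Lib.Helper28.isRegularLocalRing_localization_of_isRegularLocalRing A q
  exact Groth.Agent.Lib.Helper5.isCohenMacaulayLocalRing_of_isRegularLocalRing _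

/-- a regular local ring, finite and injective over a regular local ring, is free. -/
theorem free_of_regular_finite (R : Type u) (A : Type v) [CommRing R] [IsRegularLocalRing R]
    [CommRing A] [IsRegularLocalRing A] [Algebra R A] [Module.Finite R A]
    (hinj : Function.Injective (algebraMap R A)) : Module.Free R A := by
  let R' : Subring A := (algebraMap R A).range
  let e : R ≃+* R' := RingEquiv.ofBijective (algebraMap R A).rangeRestrict
    ⟨fun x y h => hinj (congrArg Subtype.val h), (algebraMap R A).rangeRestrict_surjective⟩
  haveI : IsRegularLocalRing R' := IsRegularLocalRing.of_ringEquiv e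
  letI : Algebra R R' := (algebraMap R A).rangeRestrict.toAlgebra
  haveI : IsScalarTower R R' A := IsScalarTower.of_algebraMap_eq' rfl
  haveI : Module.Finite R' A := Module.Finite.of_restrictScalars_finite R R' A
  haveI : Module.Flat R' A :=
    flat_of_regular_finite_sameUniv R' A Subtype.val_injective
  haveI : Module.Flat R R' := by
    let l : R ≃ₗ[R] R' :=
      { e with
        map_smul' := fun r x => by
          change e (r * x) = r • e x
          rw [map_mul, Algebra.smul_def]
          rfl }
    exact Module.Flat.of_linearEquiv l.symm
  haveI : Module.Flat R A := Module.Flat.trans R R' A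
  exact Module.free_of_flat_of_isLocalRing

/-- over a local ring, a free finite algebra `A` which is local with `R → A` local admits an
`R`-linear retraction of `R → A`. -/
theorem exists_retraction (R : Type u) (A : Type v) [CommRing R] [IsLocalRing R]
    [CommRing A] [IsLocalRing A] [Algebra R A] [IsLocalHom (algebraMap R A)]
    [Module.Free R A] [Module.Finite R A] :
    ∃ ρ : A →ₗ[R] R, ρ 1 = 1 := by
  classical
  let v := Module.Free.chooseBasis R A
  by_cases h : ∃ k, IsUnit (v.repr 1 k)
  · obtain ⟨k, hk⟩ := h
    refine ⟨(hk.unit⁻¹ : Rˣ).val • v.coord k, ?_⟩
    rw [LinearMap.smul_apply, Module.Basis.coord_apply, smul_eq_mul]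
    exact hk.val_inv_mul
  · exfalso
    push Not at h
    have h1 : (1 : A) ∈ maximalIdeal A := by
      rw [← v.sum_repr 1]
      apply Ideal.sum_mem
      intro k _
      rw [Algebra.smul_def]
      apply Ideal.mul_mem_right
      have hk : v.repr 1 k ∈ maximalIdeal R := h k
      by_contra hcon
      rw [IsLocalRing.mem_maximalIdeal, mem_nonunits_iff, not_not] at hcon
      exact h k (isUnit_of_map_unit (algebraMap R A) _ hcon)
    exact (maximalIdeal.isMaximal A).ne_top ((Ideal.eq_top_iff_one _).mpr h1)

end Groth.Agent.Lib.LeadCop
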