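import Mathlib
import Groth.Agent.Lib.LeadCopA

/-!
# Coproducts of subalgebras: retractions onto the factors (lead)
-/

set_option autoImplicit false
set_option maxHeartbeats 400000
set_option linter.style.haveILetI false
set_option linter.unusedSectionVars false
set_option linter.unusedVariables false
universe u v w

noncomputable section

namespace Groth.Agent.Lib.LeadCop

open PiTensorProduct
open scoped TensorProduct

section Tensor

variable {R : Type u} [CommRing R] {A : Type v} [CommRing A] [Algebra R A] {n : ℕ}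
  (B : Fin n → Subalgebra R A)

/-- the linear maps `B j → A`: inclusion for `j = i`, `ρ` followed by the structure map otherwise. -/
def gMap (ρ : A →ₗ[R] R) (i j : Fin n) : B j →ₗ[R] A :=
  if j = i then (B j).val.toLinearMap
  else (Algebra.linearMap R A) ∘ₗ ρ ∘ₗ (B j).val.toLinearMap

theorem gMap_self (ρ : A →ₗ[R] R) (i : Fin n) (b : B i) : gMap B ρ i i b = (b : A) := by
  simp [gMap]

theorem gMap_ne (ρ : A →ₗ[R] R) {i j : Fin n} (h : j ≠ i) (b : B j) :
    gMap B ρ i j b = algebraMap R A (ρ (b : A)) := by
  simp [gMap, h]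

theorem gMap_mem (ρ : A →ₗ[R] R) (i j : Fin n) (b : B j) : gMap B ρ i j b ∈ B i := by
  by_cases h : j = i
  · subst h
    rw [gMap_self]; exact b.2
  · rw [gMap_ne B ρ h]; exact (B i).algebraMap_mem _

/-- the projection `⨂ B j → A` onto the `i`-th factor. -/
def projT (ρ : A →ₗ[R] R) (i : Fin n) : (⨂[R] j, B j) →ₗ[R] A :=
  PiTensorProduct.lift ((MultilinearMap.mkPiAlgebra R (Fin n) A).compLinearMap (gMap B ρ i))

theorem projT_tprod (ρ : A →ₗ[R] R) (i : Fin n) (β : Π j, B j) :
    projT B ρ i (tprod R β) = ∏ j, gMap B ρ i j (β j) := by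
  simp [projT]

theorem projT_mem (ρ : A →ₗ[R] R) (i : Fin n) (t : ⨂[R] j, B j) : projT B ρ i t ∈ B i := by
  induction t using PiTensorProduct.induction_on with
  | smul_tprod r β =>
    rw [map_smul, projT_tprod]
    exact (B i).smul_mem ((B i).prod_mem (fun j _ => gMap_mem B ρ i j (β j))) r
  | add x y hx hy =>
    rw [map_add]; exact (B i).add_mem hx hy

theorem projT_single (ρ : A →ₗ[R] R) (hρ : ρ 1 = 1) (i : Fin n) (b : B i) :
    projT B ρ i (singleAlgHom (R := R) (A := fun j => B j) i b) = (b : A) := by
  classical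
  rw [singleAlgHom_apply, projT_tprod, Finset.prod_eq_single i]
  · rw [MonoidHom.mulSingle_apply, Pi.mulSingle_eq_same, gMap_self]
  · intro j _ hj
    rw [MonoidHom.mulSingle_apply, Pi.mulSingle_eq_of_ne hj, gMap_ne B ρ hj]
    simp [hρ]
  · intro h; exact absurd (Finset.mem_univ i) h

/-- if `A` receives a map to the tensor product extending the inclusions of the factors, every
factor is a retract of `A`. -/
theorem projective_of_coprod [Module.Projective R A] (ρ : A →ₗ[R] R) (hρ : ρ 1 = 1)
    (ψ : A →ₐ[R] ⨂[R] j, B j)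
    (hψ : ∀ i (b : B i), ψ (b : A) = singleAlgHom (R := R) (A := fun j => B j) i b) (i : Fin n) :
    Module.Projective R (B i) := by
  let r : A →ₗ[R] B i :=
    LinearMap.codRestrict (Subalgebra.toSubmodule (B i)) ((projT B ρ i) ∘ₗ ψ.toLinearMap)
      (fun a => projT_mem B ρ i _)
  refine Module.Projective.of_split (B i).val.toLinearMap r ?_
  ext b
  change projT B ρ i (ψ (b : A)) = (b : A)
  rw [hψ i b, projT_single B ρ hρ]

end Tensor

end Groth.Agent.Lib.LeadCop
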