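import Mathlib
import Groth.Agent.Lib.LeadCopB

/-!
# Coproducts of subalgebras: the product basis and freeness over a factor (lead)
-/

set_option autoImplicit false
set_option maxHeartbeats 400000
set_option linter.style.haveILetI false
set_option linter.unusedSectionVars false
set_option linter.unusedVariables false
universe u v w

noncomputable section

namespace Groth.Agent.Lib.LeadCop

open PiTensorProduct
open scoped TensorProduct

section Mul

variable {R : Type u} [CommRing R] {A : Type v} [CommRing A] [Algebra R A] {n : ℕ}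
  (B : Fin n → Subalgebra R A)

/-- the multiplication map `⨂ B j → A`. -/
def mulT : (⨂[R] j, B j) →ₐ[R] A :=
  PiTensorProduct.liftAlgHom
    ((MultilinearMap.mkPiAlgebra R (Fin n) A).compLinearMap (fun j => (B j).val.toLinearMap))
    (by simp) (by
      intro x y
      simp only [MultilinearMap.compLinearMap_apply, MultilinearMap.mkPiAlgebra_apply,
        AlgHom.toLinearMap_apply, Pi.mul_apply, map_mul]
      rw [Finset.prod_mul_distrib])

theorem mulT_tprod (β : Π j, B j) : mulT B (tprod R β) = ∏ j, (β j : A) := by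
  simp [mulT]

theorem mulT_single (i : Fin n) (b : B i) :
    mulT B (singleAlgHom (R := R) (A := fun j => B j) i b) = (b : A) := by
  classical
  rw [singleAlgHom_apply, mulT_tprod, Finset.prod_eq_single i]
  · rw [MonoidHom.mulSingle_apply, Pi.mulSingle_eq_same]
  · intro j _ hj
    rw [MonoidHom.mulSingle_apply, Pi.mulSingle_eq_of_ne hj]
    rfl
  · intro h; exact absurd (Finset.mem_univ i) h

/-- the isomorphism, given a map `ψ` extending the inclusions with `mulT ∘ ψ = id`. -/
def equivT (ψ : A →ₐ[R] ⨂[R] j, B j)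
    (hψ : ∀ i (b : B i), ψ (b : A) = singleAlgHom (R := R) (A := fun j => B j) i b)
    (hid : (mulT B).comp ψ = AlgHom.id R A) : (⨂[R] j, B j) ≃ₐ[R] A :=
  AlgEquiv.ofAlgHom (mulT B) ψ hid (by
    classical
    apply PiTensorProduct.algHom_ext
    intro i
    ext b
    simp only [AlgHom.comp_apply, AlgHom.id_apply]
    rw [mulT_single, hψ])

theorem equivT_tprod (ψ : A →ₐ[R] ⨂[R] j, B j)
    (hψ : ∀ i (b : B i), ψ (b : A) = singleAlgHom (R := R) (A := fun j => B j) i b)
    (hid : (mulT B).comp ψ = AlgHom.id R A) (β : Π j, B j) :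
    equivT B ψ hψ hid (tprod R β) = ∏ j, (β j : A) := mulT_tprod B β

end Mul

section FreeFactor

variable {R : Type u} [CommRing R] {A : Type v} [CommRing A] [Algebra R A] {n : ℕ}
  {B : Fin n → Subalgebra R A} {κ : Fin n → Type} [∀ j, Fintype (κ j)] [∀ j, DecidableEq (κ j)]

/-- if the products of basis elements of the factors form an `R`-basis of `A`, then `A` is free over
each factor. -/
theorem free_over_factor (b : Π j, Module.Basis (κ j) R (B j))
    (E : Module.Basis (Π j, κ j) R A) (hE : ∀ k, E k = ∏ j, (b j (k j) : A)) (i : Fin n) :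
    Module.Free (B i) A := by
  classical
  let ι' := Π j : {j // j ≠ i}, κ j
  let c : ι' → A := fun k' => ∏ j : {j // j ≠ i}, (b j (k' j) : A)
  let Φ : (ι' →₀ B i) →ₗ[B i] A := Finsupp.linearCombination (B i) c
  let F : Module.Basis (Σ _ : ι', κ i) R (ι' →₀ B i) := Finsupp.basis (fun _ => b i)
  let eidx : (Σ _ : ι', κ i) ≃ Π j, κ j :=
    (Equiv.sigmaEquivProd ι' (κ i)).trans ((Equiv.prodComm _ _).trans (Equiv.piSplitAt i κ).symm)
  let L : (ι' →₀ B i) ≃ₗ[R] A := F.equiv E eidx
  have hΦL : Φ.restrictScalars R = L.toLinearMap := by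
    apply F.ext
    rintro ⟨k', k⟩
    rw [LinearMap.restrictScalars_apply, LinearEquiv.coe_coe, Module.Basis.equiv_apply, hE,
      Finsupp.coe_basis]
    simp only [Φ, Finsupp.linearCombination_single]
    rw [Fintype.prod_eq_mul_prod_subtype_ne _ i]
    have h1 : eidx ⟨k', k⟩ i = k := by
      simp [eidx, Equiv.piSplitAt]
    have h2 : ∀ j : {j // j ≠ i}, eidx ⟨k', k⟩ j = k' j := by
      intro j
      simp [eidx, Equiv.piSplitAt, j.2]
    rw [h1]
    simp only [h2]
    rfl
  have hbij : Function.Bijective Φ := by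
    have h : (Φ : (ι' →₀ B i) → A) = L := by
      funext x
      exact LinearMap.congr_fun hΦL x
    rw [h]; exact L.bijective
  exact Module.Free.of_equiv (LinearEquiv.ofBijective Φ hbij)

end FreeFactor

end Groth.Agent.Lib.LeadCop
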