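import Mathlib
import Groth.Agent.Lib.LeadCopC
import Groth.Agent.Lib.Helper28RegLoc

/-!
# A regular coproduct of subalgebras has free regular factors (lead)
-/

set_option autoImplicit false
set_option maxHeartbeats 400000
set_option linter.style.haveILetI false
set_option linter.unusedSectionVars false
set_option linter.unusedVariables false
universe u v w

noncomputable section

namespace Groth.Agent.Lib.LeadCop

open PiTensorProduct IsLocalRing
open scoped TensorProduct

theorem free_and_regular_of_coprod
    (R : Type u) [CommRing R] [IsRegularLocalRing R]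
    (A : Type v) [CommRing A] [IsRegularLocalRing A]
    [Algebra R A] [Module.Finite R A] (hinj : Function.Injective (algebraMap R A))
    {n : ℕ} (B : Fin n → Subalgebra R A) (hloc : ∀ i, IsLocalRing (B i))
    (hcoprod : ∀ (C : Type (max u v)) [CommRing C] [Algebra R C] (φ : ∀ i, B i →ₐ[R] C),
      ∃! ψ : A →ₐ[R] C, ∀ i (x : B i), ψ x = φ i x) :
    ∀ i, Module.Free R (B i) ∧ IsRegularLocalRing (B i) := by
  classical
  haveI : Module.Free R A := free_of_regular_finite R A hinj
  haveI : Algebra.IsIntegral R A := Algebra.IsIntegral.of_finite R A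
  haveI : IsLocalHom (algebraMap R A) :=
    RingHom.IsIntegral.isLocalHom (algebraMap_isIntegral_iff.mpr inferInstance) hinj
  obtain ⟨ρ, hρ⟩ := exists_retraction R A
  -- the map to the tensor product
  obtain ⟨ψ, hψ, -⟩ := hcoprod (⨂[R] j, B j)
    (fun i => singleAlgHom (R := R) (A := fun j => B j) i)
  -- `mulT ∘ ψ = id`
  have hid : (mulT B).comp ψ = AlgHom.id R A := by
    obtain ⟨χ, -, huniq⟩ := hcoprod (ULift.{u} A)
      (fun i => (ULift.algEquiv (R := R) (A := A)).symm.toAlgHom.comp (B i).val)
    have h1 := huniq ((ULift.algEquiv (R := R) (A := A)).symm.toAlgHom.comp ((mulT B).comp ψ))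
      (fun i x => by
        simp only [AlgHom.comp_apply]
        rw [hψ i x, mulT_single]
        rfl)
    have h2 := huniq ((ULift.algEquiv (R := R) (A := A)).symm.toAlgHom) (fun i x => rfl)
    have h3 : (ULift.algEquiv (R := R) (A := A)).symm.toAlgHom.comp ((mulT B).comp ψ) =
        (ULift.algEquiv (R := R) (A := A)).symm.toAlgHom := h1.trans h2.symm
    ext a
    have h4 := DFunLike.congr_fun h3 a
    exact (ULift.algEquiv (R := R) (A := A)).symm.injective h4
  haveI : IsNoetherian R A := isNoetherian_of_isNoetherianRing_of_finite R A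
  have hfin : ∀ i, Module.Finite R (B i) := fun i =>
    Module.Finite.of_injective (B i).val.toLinearMap Subtype.val_injective
  -- freeness of the factors
  have hfree : ∀ i, Module.Free R (B i) := by
    intro i
    haveI := hloc i
    haveI := hfin i
    haveI : Module.Projective R (B i) := projective_of_coprod B ρ hρ ψ hψ i
    exact Module.free_of_flat_of_isLocalRing
  intro i
  refine ⟨hfree i, ?_⟩
  -- the product basis
  haveI := hfree
  haveI := hfin
  let b : Π j, Module.Basis (Fin (Module.finrank R (B j))) R (B j) := fun j => Module.finBasis R (B j)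
  let E : Module.Basis (Π j, Fin (Module.finrank R (B j))) R A :=
    (Basis.piTensorProduct b).map (equivT B ψ hψ hid).toLinearEquiv
  have hE : ∀ k, E k = ∏ j, (b j (k j) : A) := by
    intro k
    rw [Module.Basis.map_apply, Basis.piTensorProduct_apply]
    exact equivT_tprod B ψ hψ hid _
  haveI : Module.Free (B i) A := free_over_factor b E hE i
  haveI := hloc i
  haveI : IsNoetherianRing (B i) := IsNoetherianRing.of_finite R (B i)
  haveI : Algebra.IsIntegral (B i) A := Algebra.IsIntegral.tower_top (R := R)
  haveI : IsLocalHom (algebraMap (B i) A) :=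
    RingHom.IsIntegral.isLocalHom (algebraMap_isIntegral_iff.mpr inferInstance)
      Subtype.val_injective
  exact Groth.Agent.Lib.Helper28.isRegularLocalRing_of_flat_of_isLocalHom (B i) A

end Groth.Agent.Lib.LeadCop
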