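import Mathlib

/-! Abelian cosheaves are determined by their restriction to a generating full subcategory. -/

set_option autoImplicit false
universe w v u

namespace Groth.Agent.LeadCosheaf

open CategoryTheory CategoryTheory.Limits

variable {C : Type u} [Category.{v} C]

/-- the underlying additive map of `F.map g` -/
abbrev m (F : C ⥤ AddCommGrpCat.{w}) {X Y : C} (g : X ⟶ Y) : F.obj X →+ F.obj Y := (F.map g).hom

lemma m_comp (F : C ⥤ AddCommGrpCat.{w}) {X Y Z : C} (g : X ⟶ Y) (h : Y ⟶ Z) (x : F.obj X) :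
    m F (g ≫ h) x = m F h (m F g x) := by
  show (F.map (g ≫ h)).hom x = (F.map h).hom ((F.map g).hom x)
  rw [F.map_comp, AddCommGrpCat.hom_comp, AddMonoidHom.comp_apply]

lemma m_id (F : C ⥤ AddCommGrpCat.{w}) (X : C) (x : F.obj X) : m F (𝟙 X) x = x := by
  show (F.map (𝟙 X)).hom x = x
  rw [F.map_id, AddCommGrpCat.hom_id, AddMonoidHom.id_apply]

lemma m_congr (F : C ⥤ AddCommGrpCat.{w}) {X Y : C} {g g' : X ⟶ Y} (h : g = g') (x : F.obj X) :
    m F g x = m F g' x := by rw [h]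

variable [HasPullbacks C]

/-- the cosheaf condition -/
abbrev IsCosh (W : MorphismProperty C) : ObjectProperty (C ⥤ AddCommGrpCat.{w}) := fun F =>
  ∀ ⦃Y X : C⦄ (π : Y ⟶ X), W π → Function.Surjective (F.map π).hom ∧
    (F.map π).hom.ker = ((F.map (pullback.fst π π)).hom - (F.map (pullback.snd π π)).hom).range

variable (W : MorphismProperty C) [W.IsStableUnderBaseChange] [W.IsStableUnderComposition]
  (D : ObjectProperty C)

theorem key (hD : ∀ X : C, ∃ (Y : C) (π : Y ⟶ X), W π ∧ D Y)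
    (F G : C ⥤ AddCommGrpCat.{w}) (hF : IsCosh W F)
    (t : ∀ d : D.FullSubcategory, F.obj d.obj →+ G.obj d.obj)
    (nat : ∀ (d d' : D.FullSubcategory) (g : d.obj ⟶ d'.obj) (x : F.obj d.obj),
      t d' (m F g x) = m G g (t d x))
    {X : C} (d₀ : D.FullSubcategory) (π : d₀.obj ⟶ X) (hπ : W π) (y₀ : F.obj d₀.obj)
    (d : D.FullSubcategory) (f : d.obj ⟶ X) (y : F.obj d.obj) (hy : m F π y₀ = m F f y) :
    m G π (t d₀ y₀) = m G f (t d y) := by
  obtain ⟨Z, ρ, hρ, hZ⟩ := hD (pullback f π)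
  have hq1 : W (pullback.fst f π) := MorphismProperty.pullback_fst f π hπ
  have hq1ρ : W (ρ ≫ pullback.fst f π) := W.comp_mem _ _ hρ hq1
  obtain ⟨w, hw⟩ := (hF _ hq1ρ).1 y
  obtain ⟨dZ, hdZ⟩ : ∃ dZ : D.FullSubcategory, dZ = ⟨Z, hZ⟩ := ⟨_, rfl⟩
  have e1 : m F π (m F (ρ ≫ pullback.snd f π) w) = m F f y := by
    rw [← hw, ← m_comp, ← m_comp]
    apply m_congr
    rw [Category.assoc, Category.assoc, pullback.condition]
  have hker : y₀ - m F (ρ ≫ pullback.snd f π) w ∈ (F.map π).hom.ker := by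
    rw [AddMonoidHom.mem_ker, map_sub, sub_eq_zero]
    exact hy.trans e1.symm
  rw [(hF π hπ).2] at hker
  obtain ⟨z, hz⟩ := hker
  obtain ⟨Z', σ, hσ, hZ'⟩ := hD (pullback π π)
  obtain ⟨w', hw'⟩ := (hF σ hσ).1 z
  have hy0 : y₀ = m F (ρ ≫ pullback.snd f π) w +
      (m F (σ ≫ pullback.fst π π) w' - m F (σ ≫ pullback.snd π π) w') := by
    rw [m_comp F σ, m_comp F σ]
    have hw'' : m F σ w' = z := hw'
    rw [hw'']
    have hz' : m F (pullback.fst π π) z - m F (pullback.snd π π) z =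
        y₀ - m F (ρ ≫ pullback.snd f π) w := by
      rw [← hz, AddMonoidHom.sub_apply]
    rw [hz']; abel
  have c1 : (σ ≫ pullback.fst π π) ≫ π = (σ ≫ pullback.snd π π) ≫ π := by
    rw [Category.assoc, Category.assoc, pullback.condition]
  have c2 : (ρ ≫ pullback.snd f π) ≫ π = (ρ ≫ pullback.fst f π) ≫ f := by
    rw [Category.assoc, Category.assoc, pullback.condition]
  rw [hy0, map_add, map_sub, map_add, map_sub,
    nat ⟨Z, hZ⟩ d₀ (ρ ≫ pullback.snd f π) w, nat ⟨Z', hZ'⟩ d₀ (σ ≫ pullback.fst π π) w',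
    nat ⟨Z', hZ'⟩ d₀ (σ ≫ pullback.snd π π) w', ← m_comp, ← m_comp, ← m_comp,
    m_congr G c1, sub_self, add_zero, m_congr G c2, m_comp,
    ← nat ⟨Z, hZ⟩ d (ρ ≫ pullback.fst f π) w]
  have hw2 : m F (ρ ≫ pullback.fst f π) w = y := hw
  rw [hw2]

theorem full_aux (hD : ∀ X : C, ∃ (Y : C) (π : Y ⟶ X), W π ∧ D Y)
    (F G : C ⥤ AddCommGrpCat.{w}) (hF : IsCosh W F) (τ : D.ι ⋙ F ⟶ D.ι ⋙ G) :
    ∃ α : F ⟶ G, Functor.whiskerLeft D.ι α = τ := by
  classical
  obtain ⟨t, ht⟩ : ∃ t : ∀ d : D.FullSubcategory, F.obj d.obj →+ G.obj d.obj,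
      t = fun d => (τ.app d).hom := ⟨_, rfl⟩
  have nat : ∀ (d d' : D.FullSubcategory) (g : d.obj ⟶ d'.obj) (x : F.obj d.obj),
      t d' (m F g x) = m G g (t d x) := by
    intro d d' g x
    have h := congrArg (fun φ => φ.hom x) (τ.naturality (ObjectProperty.homMk g : d ⟶ d'))
    simp only [AddCommGrpCat.hom_comp, AddMonoidHom.comp_apply] at h
    rw [ht]
    exact h
  choose Yc πc hWc hDc using hD
  have hsurj : ∀ X, Function.Surjective (m F (πc X)) := fun X => (hF (πc X) (hWc X)).1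
  obtain ⟨a, ha⟩ : ∃ a : ∀ X : C, F.obj X → G.obj X,
      a = fun X x => m G (πc X) (t ⟨Yc X, hDc X⟩ (Function.surjInv (hsurj X) x)) := ⟨_, rfl⟩
  have K : ∀ (X : C) (d : D.FullSubcategory) (f : d.obj ⟶ X) (y : F.obj d.obj),
      a X (m F f y) = m G f (t d y) := by
    intro X d f y
    rw [ha]
    exact key W D (fun X => ⟨Yc X, πc X, hWc X, hDc X⟩) F G hF t nat ⟨Yc X, hDc X⟩ (πc X) (hWc X) _
      d f y (Function.surjInv_eq (hsurj X) _)
  have hadd : ∀ (X : C) (x₁ x₂ : F.obj X), a X (x₁ + x₂) = a X x₁ + a X x₂ := by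
    intro X x₁ x₂
    obtain ⟨y₁, rfl⟩ := hsurj X x₁
    obtain ⟨y₂, rfl⟩ := hsurj X x₂
    rw [← map_add, K X ⟨Yc X, hDc X⟩, K X ⟨Yc X, hDc X⟩, K X ⟨Yc X, hDc X⟩, map_add, map_add]
  have hnat : ∀ (X' X : C) (g : X' ⟶ X) (x' : F.obj X'), a X (m F g x') = m G g (a X' x') := by
    intro X' X g x'
    obtain ⟨y', rfl⟩ := hsurj X' x'
    rw [← m_comp, K X ⟨Yc X', hDc X'⟩, K X' ⟨Yc X', hDc X'⟩, m_comp]
  refine ⟨{ app := fun X => AddCommGrpCat.ofHom (AddMonoidHom.mk' (a X) (hadd X))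
            naturality := ?_ }, ?_⟩
  · intro X' X g
    apply AddCommGrpCat.hom_ext
    apply AddMonoidHom.ext
    intro x'
    rw [AddCommGrpCat.hom_comp, AddCommGrpCat.hom_comp, AddMonoidHom.comp_apply,
      AddMonoidHom.comp_apply, AddCommGrpCat.hom_ofHom, AddCommGrpCat.hom_ofHom]
    exact hnat X' X g x'
  · apply NatTrans.ext
    funext d
    apply AddCommGrpCat.hom_ext
    apply AddMonoidHom.ext
    intro x
    show a d.obj x = (τ.app d).hom x
    have h := K d.obj d (𝟙 d.obj) x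
    rw [m_id, m_id, ht] at h
    exact h

theorem faithful_aux (hD : ∀ X : C, ∃ (Y : C) (π : Y ⟶ X), W π ∧ D Y)
    (F G : C ⥤ AddCommGrpCat.{w}) (hF : IsCosh W F) (α β : F ⟶ G)
    (h : Functor.whiskerLeft D.ι α = Functor.whiskerLeft D.ι β) : α = β := by
  apply NatTrans.ext
  funext X
  apply AddCommGrpCat.hom_ext
  apply AddMonoidHom.ext
  intro x
  obtain ⟨Y, π, hπ, hY⟩ := hD X
  obtain ⟨y, rfl⟩ := (hF π hπ).1 x
  have hd : α.app Y = β.app Y :=
    congrArg (fun t => t.app (⟨Y, hY⟩ : D.FullSubcategory)) h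
  have n1 := congrArg (fun φ => φ.hom y) (α.naturality π)
  have n2 := congrArg (fun φ => φ.hom y) (β.naturality π)
  simp only [AddCommGrpCat.hom_comp, AddMonoidHom.comp_apply] at n1 n2
  rw [n1, n2, hd]

theorem main (hD : ∀ X : C, ∃ (Y : C) (π : Y ⟶ X), W π ∧ D Y) :
    (ObjectProperty.ι (IsCosh.{w} W) ⋙
      (Functor.whiskeringLeft D.FullSubcategory C AddCommGrpCat.{w}).obj D.ι).Full ∧
    (ObjectProperty.ι (IsCosh.{w} W) ⋙
      (Functor.whiskeringLeft D.FullSubcategory C AddCommGrpCat.{w}).obj D.ι).Faithful := by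
  constructor
  · constructor
    intro F' G' τ
    obtain ⟨α, hα⟩ := full_aux W D hD F'.obj G'.obj F'.property τ
    exact ⟨ObjectProperty.homMk α, hα⟩
  · constructor
    intro F' G' α β h
    apply ObjectProperty.hom_ext
    exact faithful_aux W D hD F'.obj G'.obj F'.property α.hom β.hom h

end Groth.Agent.LeadCosheaf
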