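import Mathlib

/-!
# Coskeleta: pointwise description and simplicial homotopies

For a category `E` with finite limits the coskeleton `cosk_n` is a pointwise right Kan extension.
We give a projection / joint monicity / lifting interface for the objects `(cosk_n T)_m`.
-/

universe v u

set_option maxHeartbeats 400000

open CategoryTheory CategoryTheory.Limits Opposite Simplicial

namespace Groth.Agent.Lib.LeadCosk

section fin

variable (n : ℕ)

/-- the opposite of the inclusion of the truncated simplex category -/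
abbrev L : (SimplexCategory.Truncated n)ᵒᵖ ⥤ SimplexCategoryᵒᵖ :=
  (SimplexCategory.Truncated.inclusion n).op

instance finite_structuredArrow (m : SimplexCategoryᵒᵖ) : Finite (StructuredArrow m (L n)) := by
  let f : (Σ k : Fin (n + 1), (⦋(k : ℕ)⦌ ⟶ m.unop)) → StructuredArrow m (L n) :=
    fun p => StructuredArrow.mk
      (Y := op (⟨⦋(p.1 : ℕ)⦌, Nat.le_of_lt_succ p.1.2⟩ : SimplexCategory.Truncated n)) p.2.op
  apply Finite.of_surjective f
  intro j
  exact ⟨⟨⟨j.right.unop.obj.len, Nat.lt_succ_of_le j.right.unop.property⟩, j.hom.unop⟩, rfl⟩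

instance finite_hom_structuredArrow (m : SimplexCategoryᵒᵖ) (j j' : StructuredArrow m (L n)) :
    Finite (j ⟶ j') := by
  apply Finite.of_injective (fun φ : j ⟶ j' => φ.right.unop.hom)
  intro φ ψ h
  apply StructuredArrow.ext
  apply Quiver.Hom.unop_inj
  exact ObjectProperty.hom_ext _ h

noncomputable instance finCategory_structuredArrow (m : SimplexCategoryᵒᵖ) :
    FinCategory (StructuredArrow m (L n)) where
  fintypeObj := Fintype.ofFinite _
  fintypeHom := fun _ _ => Fintype.ofFinite _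

instance hasPointwise {E : Type u} [Category.{v} E] [HasFiniteLimits E]
    (F : (SimplexCategory.Truncated n)ᵒᵖ ⥤ E) : (L n).HasPointwiseRightKanExtension F :=
  fun m => inferInstanceAs (HasLimit (StructuredArrow.proj m (L n) ⋙ F))

end fin

section proj

variable {E : Type u} [Category.{v} E] [HasFiniteLimits E] (n : ℕ)
  [∀ (F : (SimplexCategory.Truncated n)ᵒᵖ ⥤ E), (L n).HasRightKanExtension F]
  (T : SimplicialObject.Truncated E n)

/-- the coskeleton of `T` -/
noncomputable abbrev cY : SimplicialObject E := (SimplicialObject.Truncated.cosk n).obj T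

/-- the counit -/
noncomputable abbrev cα : (L n) ⋙ cY n T ⟶ T := (L n).ranCounit.app T

/-- the limit cone property -/
noncomputable def hpt (m : SimplexCategoryᵒᵖ) :
    IsLimit ((Functor.RightExtension.mk (cY n T) (cα n T)).coneAt m) :=
  Functor.isPointwiseRightKanExtensionRanCounit (L n) T m

/-- the projections -/
noncomputable def pr {m : SimplexCategory} (k : ℕ) (hk : k ≤ n) (θ : ⦋k⦌ ⟶ m) :
    (cY n T).obj (op m) ⟶ T.obj (op ⟨⦋k⦌, hk⟩) :=
  (cY n T).map θ.op ≫ (cα n T).app (op ⟨⦋k⦌, hk⟩)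

lemma map_pr {m m' : SimplexCategory} (ψ : m' ⟶ m) (k : ℕ) (hk : k ≤ n) (θ : ⦋k⦌ ⟶ m') :
    (cY n T).map ψ.op ≫ pr n T k hk θ = pr n T k hk (θ ≫ ψ) := by
  unfold pr
  rw [← Category.assoc, ← Functor.map_comp, ← op_comp]

lemma cα_naturality (k k' : ℕ) (hk : k ≤ n) (hk' : k' ≤ n) (χ : ⦋k'⦌ ⟶ ⦋k⦌) :
    (cY n T).map χ.op ≫ (cα n T).app (op ⟨⦋k'⦌, hk'⟩) =
      (cα n T).app (op ⟨⦋k⦌, hk⟩) ≫ T.map (SimplexCategory.Truncated.Hom.tr χ hk' hk).op :=
  (cα n T).naturality (SimplexCategory.Truncated.Hom.tr χ hk' hk).op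

lemma pr_map {m : SimplexCategory} (k k' : ℕ) (hk : k ≤ n) (hk' : k' ≤ n) (χ : ⦋k'⦌ ⟶ ⦋k⦌)
    (θ : ⦋k⦌ ⟶ m) :
    pr n T k hk θ ≫ T.map (SimplexCategory.Truncated.Hom.tr χ hk' hk).op =
      pr n T k' hk' (χ ≫ θ) := by
  calc pr n T k hk θ ≫ T.map (SimplexCategory.Truncated.Hom.tr χ hk' hk).op
      = (cY n T).map θ.op ≫ ((cα n T).app (op ⟨⦋k⦌, hk⟩) ≫
          T.map (SimplexCategory.Truncated.Hom.tr χ hk' hk).op) := Category.assoc _ _ _
    _ = (cY n T).map θ.op ≫ ((cY n T).map χ.op ≫ (cα n T).app (op ⟨⦋k'⦌, hk'⟩)) := by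
        rw [cα_naturality]
    _ = ((cY n T).map θ.op ≫ (cY n T).map χ.op) ≫ (cα n T).app (op ⟨⦋k'⦌, hk'⟩) :=
        (Category.assoc _ _ _).symm
    _ = (cY n T).map (χ ≫ θ).op ≫ (cα n T).app (op ⟨⦋k'⦌, hk'⟩) := by
        rw [← Functor.map_comp, ← op_comp]

lemma pr_hom_ext {m : SimplexCategory} {Z : E} (u v : Z ⟶ (cY n T).obj (op m))
    (h : ∀ (k : ℕ) (hk : k ≤ n) (θ : ⦋k⦌ ⟶ m), u ≫ pr n T k hk θ = v ≫ pr n T k hk θ) :
    u = v := by
  apply (hpt n T (op m)).hom_ext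
  intro j
  exact h j.right.unop.obj.len j.right.unop.property j.hom.unop

/-- lifting a compatible family -/
noncomputable def prLift {m : SimplexCategory} {Z : E}
    (c : ∀ (k : ℕ) (hk : k ≤ n) (_ : ⦋k⦌ ⟶ m), Z ⟶ T.obj (op ⟨⦋k⦌, hk⟩))
    (hc : ∀ (k k' : ℕ) (hk : k ≤ n) (hk' : k' ≤ n) (χ : ⦋k'⦌ ⟶ ⦋k⦌) (θ : ⦋k⦌ ⟶ m),
      c k hk θ ≫ T.map (SimplexCategory.Truncated.Hom.tr χ hk' hk).op = c k' hk' (χ ≫ θ)) :
    Z ⟶ (cY n T).obj (op m) :=
  (hpt n T (op m)).lift
    { pt := Z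
      π :=
        { app := fun j => c j.right.unop.obj.len j.right.unop.property j.hom.unop
          naturality := fun j j' φ => by
            have hw : j'.hom.unop = φ.right.unop.hom ≫ j.hom.unop := by
              rw [← StructuredArrow.w φ]
              rfl
            have h1 := hc j.right.unop.obj.len j'.right.unop.obj.len j.right.unop.property
              j'.right.unop.property φ.right.unop.hom j.hom.unop
            show 𝟙 Z ≫ c j'.right.unop.obj.len j'.right.unop.property j'.hom.unop =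
              c j.right.unop.obj.len j.right.unop.property j.hom.unop ≫ T.map φ.right
            rw [Category.id_comp]
            exact (congrArg (c j'.right.unop.obj.len j'.right.unop.property) hw).trans h1.symm } }

lemma prLift_pr {m : SimplexCategory} {Z : E}
    (c : ∀ (k : ℕ) (hk : k ≤ n) (_ : ⦋k⦌ ⟶ m), Z ⟶ T.obj (op ⟨⦋k⦌, hk⟩))
    (hc : ∀ (k k' : ℕ) (hk : k ≤ n) (hk' : k' ≤ n) (χ : ⦋k'⦌ ⟶ ⦋k⦌) (θ : ⦋k⦌ ⟶ m),
      c k hk θ ≫ T.map (SimplexCategory.Truncated.Hom.tr χ hk' hk).op = c k' hk' (χ ≫ θ))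
    (k : ℕ) (hk : k ≤ n) (θ : ⦋k⦌ ⟶ m) :
    prLift n T c hc ≫ pr n T k hk θ = c k hk θ :=
  (hpt n T (op m)).fac _ (StructuredArrow.mk (S := op m) (T := L n)
    (Y := op (⟨⦋k⦌, hk⟩ : SimplexCategory.Truncated n))
    (show op m ⟶ (L n).obj (op (⟨⦋k⦌, hk⟩ : SimplexCategory.Truncated n)) from θ.op))

end proj

end Groth.Agent.Lib.LeadCosk
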