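import Mathlib
import Groth.Agent.Lib.LeadCosk

/-!
# A simplicial homotopy between maps into a coskeleton agreeing in low degrees
-/

universe v u

set_option maxHeartbeats 400000

open CategoryTheory CategoryTheory.Limits Opposite Simplicial

namespace Groth.Agent.Lib.LeadCosk

section vals

lemma δ_val {m : ℕ} (i : Fin (m + 2)) (x : Fin (m + 1)) :
    (((SimplexCategory.δ i).toOrderHom x : Fin (m + 2)) : ℕ) =
      if (x : ℕ) < (i : ℕ) then (x : ℕ) else (x : ℕ) + 1 := by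
  have h : (SimplexCategory.δ i).toOrderHom x = i.succAbove x := rfl
  rw [h]
  by_cases hx : (x : ℕ) < (i : ℕ)
  · rw [if_pos hx, Fin.succAbove_of_castSucc_lt _ _ (by rw [Fin.lt_def]; simpa using hx)]
    simp
  · rw [if_neg hx, Fin.succAbove_of_le_castSucc _ _
      (by rw [Fin.le_def]; simpa using not_lt.1 hx)]
    simp

lemma σ_val {m : ℕ} (i : Fin (m + 1)) (x : Fin (m + 2)) :
    (((SimplexCategory.σ i).toOrderHom x : Fin (m + 1)) : ℕ) =
      if (x : ℕ) ≤ (i : ℕ) then (x : ℕ) else (x : ℕ) - 1 := by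
  have h : (SimplexCategory.σ i).toOrderHom x = i.predAbove x := rfl
  rw [h]
  by_cases hx : (x : ℕ) ≤ (i : ℕ)
  · rw [if_pos hx, Fin.predAbove_of_le_castSucc _ _ (by rw [Fin.le_def]; simpa using hx)]
    simp
  · rw [if_neg hx, Fin.predAbove_of_castSucc_lt _ _
      (by rw [Fin.lt_def]; simpa using not_le.1 hx)]
    simp

end vals

section homotopy

variable {E : Type u} [Category.{v} E] [HasFiniteLimits E] (n : ℕ)
  [∀ (F : (SimplexCategory.Truncated n)ᵒᵖ ⥤ E), (L n).HasRightKanExtension F]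
  (T : SimplicialObject.Truncated E n) {W : SimplicialObject E}

/-- the transpose components -/
noncomputable def adj (a : W ⟶ cY n T) (k : ℕ) (hk : k ≤ n) :
    W.obj (op ⦋k⦌) ⟶ T.obj (op ⟨⦋k⦌, hk⟩) :=
  a.app (op ⦋k⦌) ≫ (cα n T).app (op ⟨⦋k⦌, hk⟩)

lemma adj_nat (a : W ⟶ cY n T) (k k' : ℕ) (hk : k ≤ n) (hk' : k' ≤ n) (χ : ⦋k'⦌ ⟶ ⦋k⦌) :
    adj n T a k hk ≫ T.map (SimplexCategory.Truncated.Hom.tr χ hk' hk).op =
      W.map χ.op ≫ adj n T a k' hk' := by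
  have hnat : W.map χ.op ≫ a.app (op ⦋k'⦌) = a.app (op ⦋k⦌) ≫ (cY n T).map χ.op :=
    a.naturality χ.op
  calc adj n T a k hk ≫ T.map (SimplexCategory.Truncated.Hom.tr χ hk' hk).op
      = a.app (op ⦋k⦌) ≫ ((cα n T).app (op ⟨⦋k⦌, hk⟩) ≫
          T.map (SimplexCategory.Truncated.Hom.tr χ hk' hk).op) := Category.assoc _ _ _
    _ = a.app (op ⦋k⦌) ≫ ((cY n T).map χ.op ≫ (cα n T).app (op ⟨⦋k'⦌, hk'⟩)) := by
        rw [cα_naturality]
    _ = (a.app (op ⦋k⦌) ≫ (cY n T).map χ.op) ≫ (cα n T).app (op ⟨⦋k'⦌, hk'⟩) :=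
        (Category.assoc _ _ _).symm
    _ = (W.map χ.op ≫ a.app (op ⦋k'⦌)) ≫ (cα n T).app (op ⟨⦋k'⦌, hk'⟩) := by rw [hnat]
    _ = W.map χ.op ≫ adj n T a k' hk' := Category.assoc _ _ _

lemma app_pr (a : W ⟶ cY n T) {m : SimplexCategory} (k : ℕ) (hk : k ≤ n) (θ : ⦋k⦌ ⟶ m) :
    a.app (op m) ≫ pr n T k hk θ = W.map θ.op ≫ adj n T a k hk := by
  have hnat : W.map θ.op ≫ a.app (op ⦋k⦌) = a.app (op m) ≫ (cY n T).map θ.op :=
    a.naturality θ.op
  calc a.app (op m) ≫ pr n T k hk θ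
      = (a.app (op m) ≫ (cY n T).map θ.op) ≫ (cα n T).app (op ⟨⦋k⦌, hk⟩) :=
        (Category.assoc _ _ _).symm
    _ = (W.map θ.op ≫ a.app (op ⦋k⦌)) ≫ (cα n T).app (op ⟨⦋k⦌, hk⟩) := by rw [hnat]
    _ = W.map θ.op ≫ adj n T a k hk := Category.assoc _ _ _

/-- selection between the two transposes -/
noncomputable def sel (a b : W ⟶ cY n T) (k : ℕ) (hk : k ≤ n) (P : Prop) [Decidable P] :
    W.obj (op ⦋k⦌) ⟶ T.obj (op ⟨⦋k⦌, hk⟩) :=
  if P then adj n T a k hk else adj n T b k hk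

lemma sel_nat (a b : W ⟶ cY n T) (k k' : ℕ) (hk : k ≤ n) (hk' : k' ≤ n) (χ : ⦋k'⦌ ⟶ ⦋k⦌)
    (P : Prop) [Decidable P] :
    sel n T a b k hk P ≫ T.map (SimplexCategory.Truncated.Hom.tr χ hk' hk).op =
      W.map χ.op ≫ sel n T a b k' hk' P := by
  unfold sel
  split_ifs
  · exact adj_nat n T a k k' hk hk' χ
  · exact adj_nat n T b k k' hk hk' χ

lemma sel_congr (a b : W ⟶ cY n T) (k : ℕ) (hk : k ≤ n) {P Q : Prop} [Decidable P]
    [Decidable Q] (h : P ↔ Q) : sel n T a b k hk P = sel n T a b k hk Q := by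
  unfold sel
  by_cases hP : P
  · rw [if_pos hP, if_pos (h.1 hP)]
  · rw [if_neg hP, if_neg (fun hQ => hP (h.2 hQ))]

lemma sel_true (a b : W ⟶ cY n T) (k : ℕ) (hk : k ≤ n) {P : Prop} [Decidable P] (h : P) :
    sel n T a b k hk P = adj n T a k hk := if_pos h

lemma sel_false (a b : W ⟶ cY n T) (k : ℕ) (hk : k ≤ n) {P : Prop} [Decidable P] (h : ¬ P) :
    sel n T a b k hk P = adj n T b k hk := if_neg h

variable (a b : W ⟶ cY n T)
  (hab : ∀ (k : ℕ) (hk : k ≤ n), k < n → adj n T a k hk = adj n T b k hk)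

include hab

lemma key_same (k : ℕ) (hk : k ≤ n) (χ : ⦋k⦌ ⟶ ⦋k⦌) :
    (W.map χ.op ≫ adj n T a k hk = W.map χ.op ≫ adj n T b k hk) ∨ χ.toOrderHom 0 = 0 := by
  by_cases hinj : Function.Injective χ.toOrderHom
  · right
    have : Mono χ := SimplexCategory.mono_iff_injective.2 hinj
    rw [SimplexCategory.eq_id_of_mono χ]
    rfl
  · left
    cases k with
    | zero =>
      exfalso
      apply hinj
      intro x y _
      apply Fin.ext
      have hx : (x : ℕ) < 1 := x.2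
      have hy : (y : ℕ) < 1 := y.2
      omega
    | succ k₀ =>
      obtain ⟨i, θ', hθ'⟩ := SimplexCategory.eq_σ_comp_of_not_injective χ hinj
      have h3 : k₀ < n := by omega
      have h4 := adj_nat n T a k₀ (k₀ + 1) (by omega) hk (SimplexCategory.σ i)
      have h5 := adj_nat n T b k₀ (k₀ + 1) (by omega) hk (SimplexCategory.σ i)
      rw [hθ', op_comp, Functor.map_comp, Category.assoc, Category.assoc, ← h4, ← h5,
        hab k₀ (by omega) h3]

lemma key (k k' : ℕ) (hk : k ≤ n) (hk' : k' ≤ n) (χ : ⦋k'⦌ ⟶ ⦋k⦌) :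
    (W.map χ.op ≫ adj n T a k' hk' = W.map χ.op ≫ adj n T b k' hk') ∨
      χ.toOrderHom 0 = 0 := by
  by_cases h1 : k' < n
  · left
    rw [hab k' hk' h1]
  by_cases h2 : k < n
  · left
    rw [← adj_nat n T a k k' hk hk' χ, ← adj_nat n T b k k' hk hk' χ, hab k hk h2]
  obtain rfl : k' = k := by omega
  exact key_same n T a b hab _ hk' χ

/-- components of the cone defining the homotopy -/
noncomputable def cc {m : ℕ} (i : Fin (m + 1)) (k : ℕ) (hk : k ≤ n) (θ : ⦋k⦌ ⟶ ⦋m + 1⦌) :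
    W.obj (op ⦋m⦌) ⟶ T.obj (op ⟨⦋k⦌, hk⟩) :=
  W.map (θ ≫ SimplexCategory.σ i).op ≫
    sel n T a b k hk (((θ.toOrderHom 0 : Fin (m + 2)) : ℕ) ≤ (i : ℕ))

omit hab in
lemma cc_def {m : ℕ} (i : Fin (m + 1)) (k : ℕ) (hk : k ≤ n) (θ : ⦋k⦌ ⟶ ⦋m + 1⦌) :
    cc n T a b i k hk θ = W.map (θ ≫ SimplexCategory.σ i).op ≫
      sel n T a b k hk (((θ.toOrderHom 0 : Fin (m + 2)) : ℕ) ≤ (i : ℕ)) := rfl

lemma cc_compat {m : ℕ} (i : Fin (m + 1)) (k k' : ℕ) (hk : k ≤ n) (hk' : k' ≤ n)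
    (χ : ⦋k'⦌ ⟶ ⦋k⦌) (θ : ⦋k⦌ ⟶ ⦋m + 1⦌) :
    cc n T a b i k hk θ ≫ T.map (SimplexCategory.Truncated.Hom.tr χ hk' hk).op =
      cc n T a b i k' hk' (χ ≫ θ) := by
  have e1 : W.map ((χ ≫ θ) ≫ SimplexCategory.σ i).op =
      W.map (θ ≫ SimplexCategory.σ i).op ≫ W.map χ.op := by
    rw [← Functor.map_comp, ← op_comp, Category.assoc]
  have hsel : W.map χ.op ≫
      sel n T a b k' hk' (((θ.toOrderHom 0 : Fin (m + 2)) : ℕ) ≤ (i : ℕ)) =
      W.map χ.op ≫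
      sel n T a b k' hk' ((((χ ≫ θ).toOrderHom 0 : Fin (m + 2)) : ℕ) ≤ (i : ℕ)) := by
    rcases key n T a b hab k k' hk hk' χ with h | h
    · unfold sel
      split_ifs
      · rfl
      · exact h
      · exact h.symm
      · rfl
    · have h0 : (χ ≫ θ).toOrderHom 0 = θ.toOrderHom 0 := by
        show θ.toOrderHom (χ.toOrderHom 0) = θ.toOrderHom 0
        rw [h]
      rw [h0]
  calc cc n T a b i k hk θ ≫ T.map (SimplexCategory.Truncated.Hom.tr χ hk' hk).op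
      = W.map (θ ≫ SimplexCategory.σ i).op ≫
          (sel n T a b k hk (((θ.toOrderHom 0 : Fin (m + 2)) : ℕ) ≤ (i : ℕ)) ≫
            T.map (SimplexCategory.Truncated.Hom.tr χ hk' hk).op) := Category.assoc _ _ _
    _ = W.map (θ ≫ SimplexCategory.σ i).op ≫ (W.map χ.op ≫
          sel n T a b k' hk' (((θ.toOrderHom 0 : Fin (m + 2)) : ℕ) ≤ (i : ℕ))) := by
        rw [sel_nat]
    _ = W.map (θ ≫ SimplexCategory.σ i).op ≫ (W.map χ.op ≫
          sel n T a b k' hk' ((((χ ≫ θ).toOrderHom 0 : Fin (m + 2)) : ℕ) ≤ (i : ℕ))) := by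
        rw [hsel]
    _ = (W.map (θ ≫ SimplexCategory.σ i).op ≫ W.map χ.op) ≫
          sel n T a b k' hk' ((((χ ≫ θ).toOrderHom 0 : Fin (m + 2)) : ℕ) ≤ (i : ℕ)) :=
        (Category.assoc _ _ _).symm
    _ = cc n T a b i k' hk' (χ ≫ θ) := by rw [← e1, cc_def]

/-- the homotopy maps -/
noncomputable def hh {m : ℕ} (i : Fin (m + 1)) :
    W.obj (op ⦋m⦌) ⟶ (cY n T).obj (op ⦋m + 1⦌) :=
  prLift n T (fun k hk θ => cc n T a b i k hk θ)
    (fun k k' hk hk' χ θ => cc_compat n T a b hab i k k' hk hk' χ θ)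

lemma hh_map_pr {m : ℕ} (i : Fin (m + 1)) {m' : SimplexCategory} (ψ : m' ⟶ ⦋m + 1⦌) (k : ℕ)
    (hk : k ≤ n) (θ : ⦋k⦌ ⟶ m') :
    (hh n T a b hab i ≫ (cY n T).map ψ.op) ≫ pr n T k hk θ = cc n T a b i k hk (θ ≫ ψ) := by
  rw [Category.assoc, map_pr]
  exact prLift_pr n T _ _ k hk (θ ≫ ψ)

lemma hh_pr {m : ℕ} (i : Fin (m + 1)) (k : ℕ) (hk : k ≤ n) (θ : ⦋k⦌ ⟶ ⦋m + 1⦌) :
    hh n T a b hab i ≫ pr n T k hk θ = cc n T a b i k hk θ :=
  prLift_pr n T _ _ k hk θ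

lemma hh_comm {m m' : ℕ} (i : Fin (m + 1)) (j : Fin (m' + 1)) (ψ : ⦋m' + 1⦌ ⟶ ⦋m + 1⦌)
    (φ : ⦋m'⦌ ⟶ ⦋m⦌)
    (h1 : ψ ≫ SimplexCategory.σ i = SimplexCategory.σ j ≫ φ)
    (h2 : ∀ x : Fin (m' + 2),
      ((ψ.toOrderHom x : Fin (m + 2)) : ℕ) ≤ (i : ℕ) ↔ (x : ℕ) ≤ (j : ℕ)) :
    hh n T a b hab i ≫ (cY n T).map ψ.op = W.map φ.op ≫ hh n T a b hab j := by
  apply pr_hom_ext n T
  intro k hk θ
  have e2 : (W.map φ.op ≫ hh n T a b hab j) ≫ pr n T k hk θ =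
      W.map φ.op ≫ cc n T a b j k hk θ := by
    rw [Category.assoc, hh_pr]
  have e3 : W.map ((θ ≫ ψ) ≫ SimplexCategory.σ i).op =
      W.map φ.op ≫ W.map (θ ≫ SimplexCategory.σ j).op := by
    rw [← Functor.map_comp, ← op_comp, Category.assoc, h1, Category.assoc]
  have hPQ : (((θ ≫ ψ).toOrderHom 0 : Fin (m + 2)) : ℕ) ≤ (i : ℕ) ↔
      ((θ.toOrderHom 0 : Fin (m' + 2)) : ℕ) ≤ (j : ℕ) := h2 (θ.toOrderHom 0)
  rw [hh_map_pr, e2, cc_def, cc_def, e3, Category.assoc, sel_congr n T a b k hk hPQ]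

lemma hh_comm2 {m : ℕ} (i i' : Fin (m + 1)) {m' : SimplexCategory} (ψ : m' ⟶ ⦋m + 1⦌)
    (h1 : ψ ≫ SimplexCategory.σ i = ψ ≫ SimplexCategory.σ i')
    (h2 : ∀ x, ((ψ.toOrderHom x : Fin (m + 2)) : ℕ) ≤ (i : ℕ) ↔
      ((ψ.toOrderHom x : Fin (m + 2)) : ℕ) ≤ (i' : ℕ)) :
    hh n T a b hab i ≫ (cY n T).map ψ.op = hh n T a b hab i' ≫ (cY n T).map ψ.op := by
  apply pr_hom_ext n T
  intro k hk θ
  have e3 : (θ ≫ ψ) ≫ SimplexCategory.σ i = (θ ≫ ψ) ≫ SimplexCategory.σ i' := by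
    rw [Category.assoc, h1, Category.assoc]
  have hPQ : (((θ ≫ ψ).toOrderHom 0 : Fin (m + 2)) : ℕ) ≤ (i : ℕ) ↔
      (((θ ≫ ψ).toOrderHom 0 : Fin (m + 2)) : ℕ) ≤ (i' : ℕ) := h2 (θ.toOrderHom 0)
  rw [hh_map_pr, hh_map_pr, cc_def, cc_def, e3, sel_congr n T a b k hk hPQ]

lemma hh_endA {m : ℕ} (i : Fin (m + 1)) (ψ : ⦋m⦌ ⟶ ⦋m + 1⦌)
    (h1 : ψ ≫ SimplexCategory.σ i = 𝟙 _)
    (h2 : ∀ x, ((ψ.toOrderHom x : Fin (m + 2)) : ℕ) ≤ (i : ℕ)) :
    hh n T a b hab i ≫ (cY n T).map ψ.op = a.app (op ⦋m⦌) := by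
  apply pr_hom_ext n T
  intro k hk θ
  have e3 : (θ ≫ ψ) ≫ SimplexCategory.σ i = θ := by
    rw [Category.assoc, h1, Category.comp_id]
  have hP : (((θ ≫ ψ).toOrderHom 0 : Fin (m + 2)) : ℕ) ≤ (i : ℕ) := h2 (θ.toOrderHom 0)
  rw [hh_map_pr, app_pr, cc_def, e3, sel_true n T a b k hk hP]

lemma hh_endB {m : ℕ} (i : Fin (m + 1)) (ψ : ⦋m⦌ ⟶ ⦋m + 1⦌)
    (h1 : ψ ≫ SimplexCategory.σ i = 𝟙 _)
    (h2 : ∀ x, ¬ ((ψ.toOrderHom x : Fin (m + 2)) : ℕ) ≤ (i : ℕ)) :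
    hh n T a b hab i ≫ (cY n T).map ψ.op = b.app (op ⦋m⦌) := by
  apply pr_hom_ext n T
  intro k hk θ
  have e3 : (θ ≫ ψ) ≫ SimplexCategory.σ i = θ := by
    rw [Category.assoc, h1, Category.comp_id]
  have hP : ¬ (((θ ≫ ψ).toOrderHom 0 : Fin (m + 2)) : ℕ) ≤ (i : ℕ) := h2 (θ.toOrderHom 0)
  rw [hh_map_pr, app_pr, cc_def, e3, sel_false n T a b k hk hP]

/-- the simplicial homotopy -/
noncomputable def homotopy : SimplicialObject.Homotopy a b where
  h i := hh n T a b hab i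
  h_zero_comp_δ_zero m := by
    refine hh_endB n T a b hab (0 : Fin (m + 1)) (SimplexCategory.δ 0) ?_ ?_
    · have := SimplexCategory.δ_comp_σ_self (i := (0 : Fin (m + 1)))
      rwa [Fin.castSucc_zero] at this
    · intro x
      rw [δ_val]
      simp
  h_last_comp_δ_last m := by
    refine hh_endA n T a b hab (Fin.last m) (SimplexCategory.δ (Fin.last (m + 1))) ?_ ?_
    · have := SimplexCategory.δ_comp_σ_succ (i := Fin.last m)
      rwa [Fin.succ_last] at this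
    · intro x
      rw [δ_val]
      have hx : (x : ℕ) < m + 1 := x.2
      simp only [Fin.val_last]
      split_ifs <;> omega
  h_succ_comp_δ_castSucc_of_lt {m} i j hij := by
    refine hh_comm n T a b hab j.succ j (SimplexCategory.δ i.castSucc) (SimplexCategory.δ i)
      (SimplexCategory.δ_comp_σ_of_le hij) ?_
    intro x
    have hij' : (i : ℕ) ≤ (j : ℕ) := by simpa [Fin.le_def] using hij
    rw [δ_val]
    simp only [Fin.val_castSucc, Fin.val_succ]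
    split_ifs <;> omega
  h_succ_comp_δ_castSucc_succ {m} j := by
    refine hh_comm2 n T a b hab j.succ j.castSucc (SimplexCategory.δ j.castSucc.succ) ?_ ?_
    · have e1 : SimplexCategory.δ j.castSucc.succ ≫ SimplexCategory.σ j.succ = 𝟙 _ := by
        have := SimplexCategory.δ_comp_σ_self (i := j.succ)
        rwa [← Fin.succ_castSucc] at this
      have e2 : SimplexCategory.δ j.castSucc.succ ≫ SimplexCategory.σ j.castSucc = 𝟙 _ :=
        SimplexCategory.δ_comp_σ_succ (i := j.castSucc)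
      exact e1.trans e2.symm
    · intro x
      rw [δ_val]
      simp only [Fin.val_castSucc, Fin.val_succ]
      split_ifs <;> omega
  h_castSucc_comp_δ_succ_of_lt {m} i j hji := by
    refine hh_comm n T a b hab j.castSucc j (SimplexCategory.δ i.succ) (SimplexCategory.δ i)
      (SimplexCategory.δ_comp_σ_of_gt hji) ?_
    intro x
    have hji' : (j : ℕ) < (i : ℕ) := by simpa [Fin.lt_def] using hji
    rw [δ_val]
    simp only [Fin.val_castSucc, Fin.val_succ]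
    split_ifs <;> omega
  h_comp_σ_castSucc_of_le {m} i j hij := by
    have h1 : SimplexCategory.σ (Fin.castSucc i) ≫ SimplexCategory.σ j =
        SimplexCategory.σ j.succ ≫ SimplexCategory.σ i :=
      SimplexCategory.σ_comp_σ (n := m) (i := i) (j := j) hij
    refine hh_comm n T a b hab j j.succ (SimplexCategory.σ i.castSucc) (SimplexCategory.σ i)
      h1 ?_
    intro x
    have hij' : (i : ℕ) ≤ (j : ℕ) := hij
    rw [σ_val]
    simp only [Fin.val_castSucc, Fin.val_succ]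
    split_ifs <;> omega
  h_comp_σ_succ_of_lt {m} i j hji := by
    have h1 : SimplexCategory.σ i.succ ≫ SimplexCategory.σ j =
        SimplexCategory.σ (Fin.castSucc j) ≫ SimplexCategory.σ i :=
      (SimplexCategory.σ_comp_σ (n := m) (i := j) (j := i) hji).symm
    refine hh_comm n T a b hab j j.castSucc (SimplexCategory.σ i.succ) (SimplexCategory.σ i)
      h1 ?_
    intro x
    have hji' : (j : ℕ) ≤ (i : ℕ) := hji
    rw [σ_val]
    simp only [Fin.val_castSucc, Fin.val_succ]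
    split_ifs <;> omega

end homotopy

section final

variable {E : Type u} [Category.{v} E] [HasFiniteLimits E] (n : ℕ)
  [∀ (F : (SimplexCategory.Truncated n)ᵒᵖ ⥤ E),
    (SimplexCategory.Truncated.inclusion n).op.HasRightKanExtension F]

theorem main {X X' : SimplicialObject E} (f g : X ⟶ X')
    (hfg : ∀ p : ℕ, p < n →
      f.app (op (SimplexCategory.mk p)) = g.app (op (SimplexCategory.mk p))) :
    Nonempty (SimplicialObject.Homotopy ((SimplicialObject.cosk n).map f)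
      ((SimplicialObject.cosk n).map g)) := by
  refine ⟨homotopy n ((SimplicialObject.truncation n).obj X')
    ((SimplicialObject.cosk n).map f) ((SimplicialObject.cosk n).map g) ?_⟩
  intro k hk hkn
  have hf : ((SimplicialObject.cosk n).map f).app (op ⦋k⦌) ≫
      (cα n ((SimplicialObject.truncation n).obj X')).app (op ⟨⦋k⦌, hk⟩) =
      (cα n ((SimplicialObject.truncation n).obj X)).app (op ⟨⦋k⦌, hk⟩) ≫ f.app (op ⦋k⦌) :=
    NatTrans.congr_app ((L n).ranCounit.naturality ((SimplicialObject.truncation n).map f))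
      (op ⟨⦋k⦌, hk⟩)
  have hg : ((SimplicialObject.cosk n).map g).app (op ⦋k⦌) ≫
      (cα n ((SimplicialObject.truncation n).obj X')).app (op ⟨⦋k⦌, hk⟩) =
      (cα n ((SimplicialObject.truncation n).obj X)).app (op ⟨⦋k⦌, hk⟩) ≫ g.app (op ⦋k⦌) :=
    NatTrans.congr_app ((L n).ranCounit.naturality ((SimplicialObject.truncation n).map g))
      (op ⟨⦋k⦌, hk⟩)
  have hk2 : f.app (op ⦋k⦌) = g.app (op ⦋k⦌) := hfg k hkn
  unfold adj
  rw [hf, hg, hk2]

end final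

end Groth.Agent.Lib.LeadCosk
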