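import Groth.Agent.Lib.LeadCosk

set_option maxHeartbeats 400000
set_option autoImplicit false

/-!
# Coskeletal objects of `Over X` are coskeletal after forgetting to the base (for `k ≥ 1`)
-/

universe v u

open CategoryTheory CategoryTheory.Limits Opposite Simplicial

namespace Groth.Agent.Lib.LeadCosk

theorem forget_isCoskeletal {C : Type u} [Category.{v} C] [HasFiniteLimits C] (X : C) (k : ℕ)
    (hk : 1 ≤ k) (V : SimplicialObject (Over X)) [V.IsCoskeletal k] :
    SimplicialObject.IsCoskeletal (V ⋙ Over.forget X) k := by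
  haveI : NeZero k := ⟨by omega⟩
  haveI hconn : ∀ m : SimplexCategoryᵒᵖ, IsConnected (StructuredArrow m (L k)) :=
    fun m => Functor.Final.out m
  haveI : (Over.forget X).PreservesPointwiseRightKanExtension ((L k) ⋙ V) (L k) :=
    fun m => inferInstance
  haveI : (L k).HasPointwiseRightKanExtension ((L k) ⋙ V) := hasPointwise k _
  haveI : (Over.forget X).PreservesRightKanExtension ((L k) ⋙ V) (L k) := inferInstance
  have h := Functor.PreservesRightKanExtension.preserves (G := Over.forget X) V (𝟙 ((L k) ⋙ V))
  have e : (Functor.associator _ _ _).inv ≫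
      Functor.whiskerRight (𝟙 ((L k) ⋙ V)) (Over.forget X) = 𝟙 _ := by
    ext
    simp
  rw [e] at h
  exact ⟨h⟩

end Groth.Agent.Lib.LeadCosk
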