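import Groth.Prelude.Def_CycDet
import Mathlib

/-!
# Determinant of a finite-length module (`CycDet`): proportionality of symbols

Library by `lead` for S1838: every symbol of an admissible tuple is a multiple of the symbol of any
"good" admissible tuple (no entry in the span of the earlier ones); hence `DetOfLen R M l` has rank ≤ 1
when `l = length M`.  Main tools: the "append" linear map `Det(N) → Det(M)` for a submodule `N` and an
element `x` with `𝔪 x ⊆ N`, and an exchange argument on the last step of two composition series.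
-/

set_option autoImplicit false
universe u v
open CycDet

namespace Groth.Agent.LeadCycDet

open IsLocalRing

section Dev

variable {R : Type u} [CommRing R] [IsLocalRing R] {M : Type v} [AddCommGroup M] [Module R M]

/-! ### Part A: symbols and relations -/

/-- symbol of an admissible tuple in `DetOfLen` -/
noncomputable def S {l : ℕ} (e : Adm R M l) : DetOfLen R M l :=
  Submodule.Quotient.mk (sym R M e)

theorem S_congr {l : ℕ} (e e' : Adm R M l) (h : e.1 = e'.1) : S e = S e' := by
  rw [Subtype.ext h]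

theorem S_zero {l : ℕ} (e : Adm R M l) (a : Fin l) (h : e.1 a ∈ spanBefore R M e.1 a) :
    S e = 0 := by
  unfold S
  rw [Submodule.Quotient.mk_eq_zero]
  apply Submodule.subset_span
  left; left
  exact ⟨e, a, h, rfl⟩

theorem S_b {l : ℕ} (e e' : Adm R M l) (a : Fin l) (c : Rˣ) (h1 : ∀ j, j ≠ a → e.1 j = e'.1 j)
    (h2 : e.1 a - (c : R) • e'.1 a ∈ spanBefore R M e.1 a) :
    S e = residue R (c : R) • S e' := by
  unfold S
  rw [← Submodule.Quotient.mk_smul, ← sub_eq_zero, ← Submodule.Quotient.mk_sub,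
    Submodule.Quotient.mk_eq_zero]
  apply Submodule.subset_span
  left; right
  exact ⟨e, e', a, c, h1, h2, rfl⟩

theorem S_c {l : ℕ} (e e' : Adm R M l) (a b : Fin l) (hab : (b : ℕ) + 1 = a)
    (h : ∀ r ∈ maximalIdeal R, r • e.1 a ∈ spanBefore R M e.1 b)
    (he' : e'.1 = e.1 ∘ Equiv.swap a b) : S e = - S e' := by
  rw [eq_neg_iff_add_eq_zero]
  unfold S
  rw [← Submodule.Quotient.mk_add, Submodule.Quotient.mk_eq_zero]
  apply Submodule.subset_span
  right
  exact ⟨e, e', a, b, hab, h, he', rfl⟩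

/-! ### Part B: spanBefore lemmas -/

variable (R)

theorem sB_mono {l : ℕ} (e : Fin l → M) {i i' : ℕ} (h : i ≤ i') :
    spanBefore R M e i ≤ spanBefore R M e i' := by
  unfold spanBefore
  apply Submodule.span_mono
  apply Set.image_mono
  intro j hj
  exact lt_of_lt_of_le hj h

theorem mem_sB {l : ℕ} (e : Fin l → M) (j : Fin l) (i : ℕ) (h : (j : ℕ) < i) :
    e j ∈ spanBefore R M e i := by
  unfold spanBefore
  exact Submodule.subset_span ⟨j, h, rfl⟩

theorem sB_zero {l : ℕ} (e : Fin l → M) : spanBefore R M e 0 = ⊥ := by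
  unfold spanBefore
  simp

theorem sB_succ {l : ℕ} (e : Fin l → M) (a : Fin l) :
    spanBefore R M e ((a : ℕ) + 1) = spanBefore R M e a ⊔ Submodule.span R {e a} := by
  unfold spanBefore
  rw [← Submodule.span_union, ← Set.image_singleton, ← Set.image_union]
  congr 2
  ext j
  simp only [Set.mem_ofPred_eq, Set.mem_union, Set.mem_singleton_iff]
  constructor
  · intro h
    have h' : (j : ℕ) < a ∨ (j : ℕ) = a := by omega
    rcases h' with h' | h'
    · exact Or.inl h'
    · exact Or.inr (Fin.ext h')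
  · rintro (h | h)
    · omega
    · rw [h]; omega

theorem sB_top {l : ℕ} (e : Fin l → M) (i : ℕ) (hi : l ≤ i) :
    spanBefore R M e i = Submodule.span R (Set.range e) := by
  unfold spanBefore
  congr 1
  rw [← Set.image_univ]
  congr 1
  ext j
  simp only [Set.mem_ofPred_eq, Set.mem_univ, iff_true]
  exact lt_of_lt_of_le j.2 hi

variable {R}

/-- snoc for constant families -/
def sn {k : ℕ} (u : Fin k → M) (x : M) : Fin (k+1) → M := Fin.snoc (α := fun _ => M) u x

theorem sn_last {k : ℕ} (u : Fin k → M) (x : M) : sn u x (Fin.last k) = x :=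
  Fin.snoc_last (α := fun _ => M) x u

theorem sn_cast {k : ℕ} (u : Fin k → M) (x : M) (i : Fin k) : sn u x (Fin.castSucc i) = u i :=
  Fin.snoc_castSucc (α := fun _ => M) x u i

theorem sn_init {k : ℕ} (e : Fin (k+1) → M) :
    sn (fun i => e (Fin.castSucc i)) (e (Fin.last k)) = e := by
  funext j
  induction j using Fin.lastCases with
  | last => rw [sn_last]
  | cast i => rw [sn_cast]

variable (R)

theorem sB_sn {k : ℕ} (u : Fin k → M) (x : M) (i : ℕ) (hi : i ≤ k) :
    spanBefore R M (sn u x) i = spanBefore R M u i := by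
  unfold spanBefore
  congr 1
  ext m
  constructor
  · rintro ⟨j, hj, rfl⟩
    have hjk : (j : ℕ) < k := lt_of_lt_of_le hj hi
    refine ⟨⟨j, hjk⟩, hj, ?_⟩
    have h2 : Fin.castSucc (⟨j, hjk⟩ : Fin k) = j := Fin.ext rfl
    calc u ⟨j, hjk⟩ = sn u x (Fin.castSucc ⟨j, hjk⟩) := (sn_cast u x _).symm
      _ = sn u x j := by rw [h2]
  · rintro ⟨j, hj, rfl⟩
    exact ⟨Fin.castSucc j, hj, sn_cast u x j⟩

theorem sB_sn_last {k : ℕ} (u : Fin k → M) (x : M) :
    spanBefore R M (sn u x) (k + 1) = spanBefore R M u k ⊔ Submodule.span R {x} := by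
  have h := sB_succ R (sn u x) (Fin.last k)
  rw [Fin.val_last, sn_last, sB_sn R u x k le_rfl] at h
  exact h

theorem sB_init {k : ℕ} (e : Fin (k+1) → M) (i : ℕ) (hi : i ≤ k) :
    spanBefore R M e i = spanBefore R M (fun j => e (Fin.castSucc j)) i := by
  conv_lhs => rw [← sn_init e]
  exact sB_sn R _ _ i hi

/-- goodness: no entry in the span of the earlier ones -/
def Good {l : ℕ} (e : Fin l → M) : Prop := ∀ a : Fin l, e a ∉ spanBefore R M e a

variable {R}

theorem adm_sn {k : ℕ} (u : Fin k → M) (x : M) (hu : IsAdmissible R M u)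
    (hx : ∀ r ∈ maximalIdeal R, r • x ∈ spanBefore R M u k) :
    IsAdmissible R M (sn u x) := by
  intro i r hr
  induction i using Fin.lastCases with
  | last =>
    rw [sn_last, Fin.val_last, sB_sn R u x k le_rfl]
    exact hx r hr
  | cast j =>
    rw [sn_cast, Fin.val_castSucc, sB_sn R u x j j.2.le]
    exact hu j r hr

theorem good_sn {k : ℕ} (u : Fin k → M) (x : M) (hu : Good R u)
    (hx : x ∉ spanBefore R M u k) : Good R (sn u x) := by
  intro i
  induction i using Fin.lastCases with
  | last =>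
    rw [sn_last, Fin.val_last, sB_sn R u x k le_rfl]
    exact hx
  | cast j =>
    rw [sn_cast, Fin.val_castSucc, sB_sn R u x j j.2.le]
    exact hu j

theorem adm_init {k : ℕ} (e : Fin (k+1) → M) (he : IsAdmissible R M e) :
    IsAdmissible R M (fun j => e (Fin.castSucc j)) := by
  intro i r hr
  have := he (Fin.castSucc i) r hr
  rw [Fin.val_castSucc, sB_init R e i i.2.le] at this
  exact this

theorem good_init {k : ℕ} (e : Fin (k+1) → M) (he : Good R e) :
    Good R (fun j => e (Fin.castSucc j)) := by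
  intro i
  have := he (Fin.castSucc i)
  rw [Fin.val_castSucc, sB_init R e i i.2.le] at this
  exact this

/-- the underlying tuple in `M` of a tuple in a submodule -/
def vl (N : Submodule R M) {k : ℕ} (u : Fin k → ↥N) : Fin k → M := fun j => (u j : M)

theorem sB_vl {k : ℕ} (N : Submodule R M) (u : Fin k → ↥N) (i : ℕ) :
    spanBefore R M (vl N u) i = Submodule.map N.subtype (spanBefore R ↥N u i) := by
  unfold spanBefore
  rw [Submodule.map_span, ← Set.image_comp]
  rfl

theorem mem_sB_vl {k : ℕ} (N : Submodule R M) (u : Fin k → ↥N) (i : ℕ) (x : ↥N) :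
    (x : M) ∈ spanBefore R M (vl N u) i ↔ x ∈ spanBefore R ↥N u i := by
  rw [sB_vl]
  constructor
  · rintro ⟨y, hy, hyx⟩
    have : y = x := Subtype.ext hyx
    exact this ▸ hy
  · intro h
    exact ⟨x, h, rfl⟩

theorem adm_vl {k : ℕ} (N : Submodule R M) (u : Fin k → ↥N) :
    IsAdmissible R M (vl N u) ↔ IsAdmissible R ↥N u := by
  constructor
  · intro h i r hr
    exact (mem_sB_vl N u i (r • u i)).1 (h i r hr)
  · intro h i r hr
    exact (mem_sB_vl N u i (r • u i)).2 (h i r hr)

theorem good_vl {k : ℕ} (N : Submodule R M) (u : Fin k → ↥N) :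
    Good R (vl N u) ↔ Good R u := by
  constructor
  · intro h i hi
    exact h i ((mem_sB_vl N u i (u i)).2 hi)
  · intro h i hi
    exact h i ((mem_sB_vl N u i (u i)).1 hi)

theorem sB_vl_top {l : ℕ} (N : Submodule R M) (u : Fin l → ↥N)
    (h : Submodule.span R (Set.range u) = ⊤) : spanBefore R M (vl N u) l = N := by
  rw [sB_vl, sB_top R u l le_rfl, h, Submodule.map_subtype_top]

theorem gen_of_sB_eq {l : ℕ} (N : Submodule R M) (u : Fin l → ↥N)
    (h : spanBefore R M (vl N u) l = N) : Submodule.span R (Set.range u) = ⊤ := by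
  apply Submodule.map_injective_of_injective N.injective_subtype
  rw [Submodule.map_subtype_top, ← sB_top R u l le_rfl, ← sB_vl, h]

/-! ### Part C: length bookkeeping -/

theorem wcov (A : Submodule R M) (x : M) (hx : ∀ r ∈ maximalIdeal R, r • x ∈ A)
    (B : Submodule R M) (hAB : A ≤ B) (hB : B ≤ A ⊔ Submodule.span R {x}) :
    B = A ∨ B = A ⊔ Submodule.span R {x} := by
  by_cases h : B ≤ A
  · exact Or.inl (le_antisymm h hAB)
  · right
    obtain ⟨b, hbB, hbA⟩ := SetLike.not_le_iff_exists.1 h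
    obtain ⟨a, ha, y, hy, hab⟩ := Submodule.mem_sup.1 (hB hbB)
    obtain ⟨r, rfl⟩ := Submodule.mem_span_singleton.1 hy
    have hr : IsUnit r := by
      by_contra hnu
      have hrm : r ∈ maximalIdeal R := (IsLocalRing.mem_maximalIdeal r).2 hnu
      apply hbA
      rw [← hab]
      exact A.add_mem ha (hx r hrm)
    obtain ⟨c, rfl⟩ := hr
    apply le_antisymm hB
    apply sup_le hAB
    rw [Submodule.span_singleton_le_iff_mem]
    have hxe : x = ((c⁻¹ : Rˣ) : R) • (b - a) := by
      rw [← hab, add_sub_cancel_left, smul_smul, Units.inv_mul, one_smul]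
    rw [hxe]
    exact B.smul_mem _ (B.sub_mem hbB (hAB ha))

theorem cov (A : Submodule R M) (x : M) (hx : ∀ r ∈ maximalIdeal R, r • x ∈ A) (hxA : x ∉ A) :
    A ⋖ A ⊔ Submodule.span R {x} := by
  refine ⟨?_, fun B hAB hB => ?_⟩
  · apply lt_of_le_of_ne le_sup_left
    intro h
    apply hxA
    rw [h]
    exact Submodule.mem_sup_right (Submodule.mem_span_singleton_self x)
  · rcases wcov A x hx B hAB.le hB.le with h | h
    · exact hAB.ne' h
    · exact hB.ne h

theorem length_of_covBy {A B : Submodule R M} (h : A ⋖ B) :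
    Module.length R ↥B = Module.length R ↥A + 1 := by
  have hAB : A ≤ B := h.le
  have : IsSimpleModule R (↥B ⧸ Submodule.comap B.subtype A) :=
    (covBy_iff_quot_is_simple hAB).1 h
  rw [Module.length_eq_add_of_exact (Submodule.comap B.subtype A).subtype
    (Submodule.comap B.subtype A).mkQ (Submodule.injective_subtype _)
    (Submodule.mkQ_surjective _) (LinearMap.exact_subtype_mkQ _),
    Module.length_eq_one R (↥B ⧸ Submodule.comap B.subtype A),
    (Submodule.comapSubtypeEquivOfLe hAB).length_eq]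

theorem enat_cancel {a : ℕ∞} {k : ℕ} (h : a + 1 = ((k + 1 : ℕ) : ℕ∞)) : a = (k : ℕ∞) := by
  have hne : a ≠ ⊤ := by
    intro ht
    rw [ht, top_add] at h
    exact ENat.top_ne_natCast _ h
  obtain ⟨n, rfl⟩ := ENat.ne_top_iff_exists.1 hne
  have h' : n + 1 = k + 1 := by exact_mod_cast h
  have h'' : n = k := by omega
  rw [h'']

theorem length_sB {l : ℕ} (e : Fin l → M) (he : IsAdmissible R M e) (hg : Good R e) :
    ∀ i : ℕ, i ≤ l → Module.length R ↥(spanBefore R M e i) = (i : ℕ∞) := by
  intro i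
  induction i with
  | zero =>
    intro _
    rw [sB_zero R e, Module.length_bot]
    rfl
  | succ i ih =>
    intro hi
    have hil : i < l := hi
    have h1 : spanBefore R M e (i + 1) =
        spanBefore R M e i ⊔ Submodule.span R {e ⟨i, hil⟩} := sB_succ R e ⟨i, hil⟩
    have h2 := cov (spanBefore R M e i) (e ⟨i, hil⟩) (he ⟨i, hil⟩) (hg ⟨i, hil⟩)
    have h3 := length_of_covBy h2
    rw [h1, h3, ih hil.le]
    exact (Nat.cast_succ i).symm

theorem eq_top_of_length {l : ℕ} (hM : Module.length R M = (l : ℕ∞)) (A : Submodule R M)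
    (hA : Module.length R ↥A = (l : ℕ∞)) : A = ⊤ := by
  have hfin : IsFiniteLength R M :=
    Module.length_ne_top_iff.1 (by rw [hM]; exact ENat.natCast_ne_top l)
  obtain ⟨h1, h2⟩ := isFiniteLength_iff_isNoetherian_isArtinian.1 hfin
  by_contra hne
  have := Submodule.length_lt hne
  rw [hM, hA] at this
  exact lt_irrefl _ this

theorem gen_of_good {l : ℕ} (hM : Module.length R M = (l : ℕ∞)) (e : Fin l → M)
    (he : IsAdmissible R M e) (hg : Good R e) : Submodule.span R (Set.range e) = ⊤ := by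
  rw [← sB_top R e l le_rfl]
  exact eq_top_of_length hM _ (length_sB e he hg l le_rfl)

theorem smul_mem_of_covBy_top (A : Submodule R M) (hA : A ⋖ ⊤) (r : R)
    (hr : r ∈ maximalIdeal R) (x : M) : r • x ∈ A := by
  by_contra hrx
  have h1 : A ⊔ Submodule.span R {r • x} = ⊤ := by
    have hlt : A < A ⊔ Submodule.span R {r • x} := by
      apply lt_of_le_of_ne le_sup_left
      intro h
      apply hrx
      rw [h]
      exact Submodule.mem_sup_right (Submodule.mem_span_singleton_self _)
    by_contra hne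
    exact hA.2 hlt (lt_of_le_of_ne le_top hne)
  have hx : x ∈ A ⊔ Submodule.span R {r • x} := by rw [h1]; trivial
  obtain ⟨a, ha, y, hy, hab⟩ := Submodule.mem_sup.1 hx
  obtain ⟨s, rfl⟩ := Submodule.mem_span_singleton.1 hy
  have hu : IsUnit (1 - s * r) := by
    rcases IsLocalRing.isUnit_or_isUnit_one_sub_self (s * r) with h | h
    · exact absurd h ((IsLocalRing.mem_maximalIdeal _).1 (Ideal.mul_mem_left _ s hr))
    · exact h
  obtain ⟨c, hc⟩ := hu
  have hxa : (1 - s * r) • x = a := by
    rw [sub_smul, one_smul, mul_smul]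
    exact sub_eq_of_eq_add hab.symm
  have hxe : x = ((c⁻¹ : Rˣ) : R) • a := by
    rw [← hxa, ← hc, smul_smul, Units.inv_mul, one_smul]
  apply hrx
  rw [hxe]
  exact A.smul_mem _ (A.smul_mem _ ha)

theorem covBy_top_of_good {l : ℕ} (hM : Module.length R M = ((l + 1 : ℕ) : ℕ∞))
    (e : Fin (l+1) → M) (he : IsAdmissible R M e) (hg : Good R e) :
    spanBefore R M e l ⋖ ⊤ := by
  have h1 := sB_succ R e (Fin.last l)
  rw [Fin.val_last] at h1
  have h2 := cov (spanBefore R M e l) (e (Fin.last l))
    (by have := he (Fin.last l); rwa [Fin.val_last] at this)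
    (by have := hg (Fin.last l); rwa [Fin.val_last] at this)
  rw [← h1, sB_top R e (l+1) le_rfl, gen_of_good hM e he hg] at h2
  exact h2

theorem exists_unit_sub_mem (N : Submodule R M) (y x : M)
    (hy : ∀ r ∈ maximalIdeal R, r • y ∈ N)
    (htop : N ⊔ Submodule.span R {y} = ⊤) (hx : x ∉ N) : ∃ c : Rˣ, x - (c : R) • y ∈ N := by
  have hx' : x ∈ N ⊔ Submodule.span R {y} := by rw [htop]; trivial
  obtain ⟨n, hn, z, hz, hnz⟩ := Submodule.mem_sup.1 hx'
  obtain ⟨r, rfl⟩ := Submodule.mem_span_singleton.1 hz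
  have hr : IsUnit r := by
    by_contra hnu
    apply hx
    rw [← hnz]
    exact N.add_mem hn (hy r ((IsLocalRing.mem_maximalIdeal r).2 hnu))
  obtain ⟨c, rfl⟩ := hr
  refine ⟨c, ?_⟩
  rw [← hnz, add_sub_cancel_right]
  exact hn


/-! ### Part D: the append map -/

theorem adm_ext (N : Submodule R M) (x : M) (hx : ∀ r ∈ maximalIdeal R, r • x ∈ N)
    (l : ℕ) (u : Adm R ↥N l) (h : Submodule.span R (Set.range u.1) = ⊤) :
    IsAdmissible R M (sn (vl N u.1) x) :=
  adm_sn (vl N u.1) x ((adm_vl N u.1).2 u.2) (by rw [sB_vl_top N u.1 h]; exact hx)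

open Classical in
/-- values of the append map on basis elements -/
noncomputable def appFun (N : Submodule R M) (x : M) (hx : ∀ r ∈ maximalIdeal R, r • x ∈ N)
    (l : ℕ) (u : Adm R ↥N l) : DetOfLen R M (l+1) :=
  if h : Submodule.span R (Set.range u.1) = ⊤ then
    S ⟨sn (vl N u.1) x, adm_ext N x hx l u h⟩
  else 0

theorem appFun_pos (N : Submodule R M) (x : M) (hx : ∀ r ∈ maximalIdeal R, r • x ∈ N)
    (l : ℕ) (u : Adm R ↥N l) (h : Submodule.span R (Set.range u.1) = ⊤)
    (e : Adm R M (l+1)) (he : e.1 = sn (vl N u.1) x) : appFun N x hx l u = S e := by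
  unfold appFun
  rw [dif_pos h]
  exact S_congr _ _ he.symm

theorem appFun_neg (N : Submodule R M) (x : M) (hx : ∀ r ∈ maximalIdeal R, r • x ∈ N)
    (l : ℕ) (u : Adm R ↥N l) (h : ¬ Submodule.span R (Set.range u.1) = ⊤) :
    appFun N x hx l u = 0 := by
  unfold appFun
  rw [dif_neg h]

theorem sB_le_range {l : ℕ} (u : Fin l → M) (i : ℕ) :
    spanBefore R M u i ≤ Submodule.span R (Set.range u) := by
  unfold spanBefore
  exact Submodule.span_mono (Set.image_subset_range _ _)

theorem span_eq_of_b {l : ℕ} (u u' : Fin l → M) (a : Fin l) (c : Rˣ)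
    (h1 : ∀ j, j ≠ a → u j = u' j) (h2 : u a - (c : R) • u' a ∈ spanBefore R M u a) :
    Submodule.span R (Set.range u) = Submodule.span R (Set.range u') := by
  have hsb : spanBefore R M u a ≤ Submodule.span R (Set.range u') := by
    unfold spanBefore
    rw [Submodule.span_le]
    rintro _ ⟨j, hj, rfl⟩
    have hja : j ≠ a := fun h => by
      rw [h] at hj
      have hj' : (a : ℕ) < a := hj
      exact lt_irrefl _ hj'
    rw [h1 j hja]
    exact Submodule.subset_span ⟨j, rfl⟩
  apply le_antisymm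
  · rw [Submodule.span_le]
    rintro _ ⟨j, rfl⟩
    by_cases hja : j = a
    · rw [hja]
      have : u a = (u a - (c : R) • u' a) + (c : R) • u' a := by abel
      rw [this]
      exact Submodule.add_mem _ (hsb h2)
        (Submodule.smul_mem _ _ (Submodule.subset_span ⟨a, rfl⟩))
    · rw [h1 j hja]
      exact Submodule.subset_span ⟨j, rfl⟩
  · rw [Submodule.span_le]
    rintro _ ⟨j, rfl⟩
    by_cases hja : j = a
    · rw [hja]
      have : u' a = ((c⁻¹ : Rˣ) : R) • (u a - (u a - (c : R) • u' a)) := by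
        rw [sub_sub_cancel, smul_smul, Units.inv_mul, one_smul]
      rw [this]
      exact Submodule.smul_mem _ _ (Submodule.sub_mem _ (Submodule.subset_span ⟨a, rfl⟩)
        (sB_le_range u a h2))
    · rw [← h1 j hja]
      exact Submodule.subset_span ⟨j, rfl⟩

theorem exists_app (N : Submodule R M) (x : M) (hx : ∀ r ∈ maximalIdeal R, r • x ∈ N) (l : ℕ) :
    ∃ φ : DetOfLen R ↥N l →ₗ[ResidueField R] DetOfLen R M (l+1),
      ∀ (u : Adm R ↥N l) (e : Adm R M (l+1)), Submodule.span R (Set.range u.1) = ⊤ →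
        e.1 = sn (vl N u.1) x → φ (S u) = S e := by
  obtain ⟨L, hL⟩ : ∃ L : Free R ↥N l →ₗ[ResidueField R] DetOfLen R M (l+1),
      ∀ u, L (sym R ↥N u) = appFun N x hx l u :=
    ⟨Finsupp.linearCombination (ResidueField R) (appFun N x hx l), fun u => by
      unfold sym
      rw [Finsupp.linearCombination_single, one_smul]⟩
  have hker : Submodule.span (ResidueField R) (relSet R ↥N l) ≤ LinearMap.ker L := by
    rw [Submodule.span_le]
    rintro z ((⟨u, a, ha, rfl⟩ | ⟨u, u', a, c, h1, h2, rfl⟩) | ⟨u, u', a, b, hab, h, hu', rfl⟩)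
    · -- (a)
      rw [SetLike.mem_coe, LinearMap.mem_ker, hL]
      by_cases hgen : Submodule.span R (Set.range u.1) = ⊤
      · rw [appFun_pos N x hx l u hgen ⟨_, adm_ext N x hx l u hgen⟩ rfl]
        apply S_zero _ (Fin.castSucc a)
        show sn (vl N u.1) x (Fin.castSucc a) ∈
          spanBefore R M (sn (vl N u.1) x) ((Fin.castSucc a : Fin (l+1)) : ℕ)
        rw [sn_cast, Fin.val_castSucc, sB_sn R _ x a a.2.le]
        exact (mem_sB_vl N u.1 a (u.1 a)).2 ha
      · exact appFun_neg N x hx l u hgen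
    · -- (b)
      rw [SetLike.mem_coe, LinearMap.mem_ker, map_sub, map_smul, hL, hL]
      have hspan := span_eq_of_b u.1 u'.1 a c h1 h2
      by_cases hgen : Submodule.span R (Set.range u.1) = ⊤
      · have hgen' : Submodule.span R (Set.range u'.1) = ⊤ := hspan.symm.trans hgen
        rw [appFun_pos N x hx l u hgen ⟨_, adm_ext N x hx l u hgen⟩ rfl,
          appFun_pos N x hx l u' hgen' ⟨_, adm_ext N x hx l u' hgen'⟩ rfl, sub_eq_zero]
        apply S_b _ _ (Fin.castSucc a) c
        · intro j hj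
          show sn (vl N u.1) x j = sn (vl N u'.1) x j
          induction j using Fin.lastCases with
          | last => rw [sn_last, sn_last]
          | cast j' =>
            rw [sn_cast, sn_cast]
            have hne : j' ≠ a := fun h => hj (by rw [h])
            exact congrArg Subtype.val (h1 j' hne)
        · show sn (vl N u.1) x (Fin.castSucc a) - (c : R) • sn (vl N u'.1) x (Fin.castSucc a) ∈
            spanBefore R M (sn (vl N u.1) x) ((Fin.castSucc a : Fin (l+1)) : ℕ)
          rw [sn_cast, sn_cast, Fin.val_castSucc, sB_sn R _ x a a.2.le]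
          exact (mem_sB_vl N u.1 a (u.1 a - (c : R) • u'.1 a)).2 h2
      · have hgen' : ¬ Submodule.span R (Set.range u'.1) = ⊤ := fun h => hgen (hspan.trans h)
        rw [appFun_neg N x hx l u hgen, appFun_neg N x hx l u' hgen', smul_zero, sub_zero]
    · -- (c)
      rw [SetLike.mem_coe, LinearMap.mem_ker, map_add, hL, hL]
      have hspan : Submodule.span R (Set.range u'.1) = Submodule.span R (Set.range u.1) := by
        rw [hu', (Equiv.swap a b).surjective.range_comp]
      by_cases hgen : Submodule.span R (Set.range u.1) = ⊤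
      · have hgen' : Submodule.span R (Set.range u'.1) = ⊤ := hspan.trans hgen
        rw [appFun_pos N x hx l u hgen ⟨_, adm_ext N x hx l u hgen⟩ rfl,
          appFun_pos N x hx l u' hgen' ⟨_, adm_ext N x hx l u' hgen'⟩ rfl,
          ← eq_neg_iff_add_eq_zero]
        apply S_c _ _ (Fin.castSucc a) (Fin.castSucc b) hab
        · intro r hr
          show r • sn (vl N u.1) x (Fin.castSucc a) ∈
            spanBefore R M (sn (vl N u.1) x) ((Fin.castSucc b : Fin (l+1)) : ℕ)
          rw [sn_cast, Fin.val_castSucc, sB_sn R _ x b b.2.le]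
          exact (mem_sB_vl N u.1 b (r • u.1 a)).2 (h r hr)
        · show sn (vl N u'.1) x =
            sn (vl N u.1) x ∘ Equiv.swap (Fin.castSucc a) (Fin.castSucc b)
          funext j
          induction j using Fin.lastCases with
          | last =>
            rw [Function.comp_apply, Equiv.swap_apply_of_ne_of_ne
              (Fin.castSucc_ne_last a).symm (Fin.castSucc_ne_last b).symm, sn_last, sn_last]
          | cast j' =>
            rw [Function.comp_apply, (Fin.castSucc_injective l).swap_apply, sn_cast, sn_cast]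
            exact congrArg Subtype.val (congrFun hu' j')
      · have hgen' : ¬ Submodule.span R (Set.range u'.1) = ⊤ :=
          fun h => hgen (hspan.symm.trans h)
        rw [appFun_neg N x hx l u hgen, appFun_neg N x hx l u' hgen', add_zero]
  refine ⟨Submodule.liftQ _ L hker, ?_⟩
  intro u e hgen he
  show Submodule.liftQ _ L hker (Submodule.Quotient.mk (sym R ↥N u)) = S e
  rw [Submodule.liftQ_apply, hL]
  exact appFun_pos N x hx l u hgen e he


/-! ### Part E: the main induction -/

end Dev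

/-- The proportionality statement for modules of length `l`. -/
def Q (R : Type u) [CommRing R] [IsLocalRing R] (l : ℕ) : Prop :=
  ∀ (M : Type v) [AddCommGroup M] [Module R M], Module.length R M = (l : ℕ∞) →
    ∀ (e f : Adm R M l), Good R f.1 → ∃ c : ResidueField R, S e = c • S f

theorem case1 (R : Type u) [CommRing R] [IsLocalRing R] (l : ℕ) (ih : Q.{u,v} R l)
    (M : Type v) [AddCommGroup M] [Module R M]
    (hM : Module.length R M = ((l + 1 : ℕ) : ℕ∞)) (e f : Adm R M (l+1))
    (he : Good R e.1) (hf : Good R f.1)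
    (hEF : spanBefore R M e.1 l = spanBefore R M f.1 l) :
    ∃ c : ResidueField R, S e = c • S f := by
  obtain ⟨N, hN⟩ : ∃ N : Submodule R M, N = spanBefore R M f.1 l := ⟨_, rfl⟩
  have hNe : spanBefore R M e.1 l = N := hEF.trans hN.symm
  have hNf : spanBefore R M f.1 l = N := hN.symm
  obtain ⟨u, hu⟩ : ∃ u : Fin l → ↥N, ∀ i, (u i : M) = e.1 (Fin.castSucc i) :=
    ⟨fun i => ⟨e.1 (Fin.castSucc i), by
      rw [← hNe]; exact mem_sB R e.1 (Fin.castSucc i) l i.2⟩, fun i => rfl⟩
  obtain ⟨w, hw⟩ : ∃ w : Fin l → ↥N, ∀ i, (w i : M) = f.1 (Fin.castSucc i) :=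
    ⟨fun i => ⟨f.1 (Fin.castSucc i), by
      rw [← hNf]; exact mem_sB R f.1 (Fin.castSucc i) l i.2⟩, fun i => rfl⟩
  have hvu : vl N u = fun j => e.1 (Fin.castSucc j) := funext hu
  have hvw : vl N w = fun j => f.1 (Fin.castSucc j) := funext hw
  have hau : IsAdmissible R ↥N u := (adm_vl N u).1 (by rw [hvu]; exact adm_init e.1 e.2)
  have haw : IsAdmissible R ↥N w := (adm_vl N w).1 (by rw [hvw]; exact adm_init f.1 f.2)
  have hgw : Good R w := (good_vl N w).1 (by rw [hvw]; exact good_init f.1 hf)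
  have hsu : spanBefore R M (vl N u) l = N := by
    rw [hvu, ← sB_init R e.1 l le_rfl]; exact hNe
  have hsw : spanBefore R M (vl N w) l = N := by
    rw [hvw, ← sB_init R f.1 l le_rfl]; exact hNf
  have hgenu := gen_of_sB_eq N u hsu
  have hgenw := gen_of_sB_eq N w hsw
  have hlenN : Module.length R ↥N = (l : ℕ∞) := by
    rw [← hNf]; exact length_sB f.1 f.2 hf l (Nat.le_succ l)
  obtain ⟨c₁, hc₁⟩ := ih ↥N hlenN ⟨u, hau⟩ ⟨w, haw⟩ hgw
  have hx : ∀ r ∈ maximalIdeal R, r • e.1 (Fin.last l) ∈ N := by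
    intro r hr
    have := e.2 (Fin.last l) r hr
    rwa [Fin.val_last, hNe] at this
  obtain ⟨φ, hφ⟩ := exists_app N (e.1 (Fin.last l)) hx l
  have h1 : φ (S ⟨u, hau⟩) = S e := hφ ⟨u, hau⟩ e hgenu (by
    show e.1 = sn (vl N u) (e.1 (Fin.last l))
    rw [hvu, sn_init])
  have hadm' : IsAdmissible R M (sn (vl N w) (e.1 (Fin.last l))) :=
    adm_sn (vl N w) _ ((adm_vl N w).2 haw) (by rw [hsw]; exact hx)
  have h2 : φ (S ⟨w, haw⟩) = S ⟨sn (vl N w) (e.1 (Fin.last l)), hadm'⟩ :=
    hφ ⟨w, haw⟩ ⟨_, hadm'⟩ hgenw rfl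
  have htop : N ⊔ Submodule.span R {f.1 (Fin.last l)} = ⊤ := by
    have h3 := sB_succ R f.1 (Fin.last l)
    rw [Fin.val_last, hNf, sB_top R f.1 (l+1) le_rfl, gen_of_good hM f.1 f.2 hf] at h3
    exact h3.symm
  have hfy : ∀ r ∈ maximalIdeal R, r • f.1 (Fin.last l) ∈ N := by
    intro r hr
    have := f.2 (Fin.last l) r hr
    rwa [Fin.val_last, hNf] at this
  have hxN : e.1 (Fin.last l) ∉ N := by
    have := he (Fin.last l)
    rwa [Fin.val_last, hNe] at this
  obtain ⟨c, hc⟩ := exists_unit_sub_mem N (f.1 (Fin.last l)) (e.1 (Fin.last l)) hfy htop hxN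
  have h3 : S ⟨sn (vl N w) (e.1 (Fin.last l)), hadm'⟩ = residue R (c : R) • S f := by
    apply S_b _ _ (Fin.last l) c
    · intro j hj
      show sn (vl N w) (e.1 (Fin.last l)) j = f.1 j
      induction j using Fin.lastCases with
      | last => exact absurd rfl hj
      | cast j' => rw [sn_cast]; exact hw j'
    · show sn (vl N w) (e.1 (Fin.last l)) (Fin.last l) - (c : R) • f.1 (Fin.last l) ∈
        spanBefore R M (sn (vl N w) (e.1 (Fin.last l))) ((Fin.last l : Fin (l+1)) : ℕ)
      rw [sn_last, Fin.val_last, sB_sn R _ _ l le_rfl, hsw]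
      exact hc
  refine ⟨c₁ * residue R (c : R), ?_⟩
  rw [← h1, hc₁, map_smul, h2, h3, smul_smul]

theorem exists_good (R : Type u) [CommRing R] [IsLocalRing R] :
    ∀ (k : ℕ) (N : Type v) [AddCommGroup N] [Module R N],
    Module.length R N = (k : ℕ∞) → ∃ g : Fin k → N, IsAdmissible R N g ∧ Good R g := by
  intro k
  induction k with
  | zero =>
    intro N _ _ _
    exact ⟨fun i => i.elim0, fun i => i.elim0, fun i => i.elim0⟩
  | succ k ih =>
    intro N _ _ hN
    have hfin : IsFiniteLength R N :=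
      Module.length_ne_top_iff.1 (by rw [hN]; exact ENat.natCast_ne_top _)
    obtain ⟨hno, har⟩ := isFiniteLength_iff_isNoetherian_isArtinian.1 hfin
    have hnt : Nontrivial N :=
      Module.length_pos_iff.1 (by rw [hN]; exact_mod_cast Nat.succ_pos k)
    rcases IsCoatomic.eq_top_or_exists_le_coatom (⊥ : Submodule R N) with h | ⟨A, hA, -⟩
    · exact absurd h bot_ne_top
    · have hAc : A ⋖ ⊤ := covBy_top_iff.2 hA
      have hlenA : Module.length R ↥A = (k : ℕ∞) := by
        have h1 := length_of_covBy hAc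
        rw [Module.length_top, hN] at h1
        exact enat_cancel h1.symm
      obtain ⟨g', hg'a, hg'g⟩ := ih ↥A hlenA
      have hgen := gen_of_good hlenA g' hg'a hg'g
      have hs : spanBefore R N (vl A g') k = A := sB_vl_top A g' hgen
      obtain ⟨x, -, hxA⟩ := SetLike.exists_of_lt hAc.lt
      refine ⟨sn (vl A g') x, adm_sn _ x ((adm_vl A g').2 hg'a) ?_,
        good_sn _ x ((good_vl A g').2 hg'g) ?_⟩
      · intro r hr
        rw [hs]
        exact smul_mem_of_covBy_top A hAc r hr x
      · rw [hs]; exact hxA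

theorem case2 (R : Type u) [CommRing R] [IsLocalRing R] (k : ℕ) (ih : Q.{u,v} R (k+1))
    (M : Type v) [AddCommGroup M] [Module R M]
    (hM : Module.length R M = ((k + 1 + 1 : ℕ) : ℕ∞)) (e f : Adm R M (k+1+1))
    (he : Good R e.1) (hf : Good R f.1)
    (hEF : spanBefore R M e.1 (k+1) ≠ spanBefore R M f.1 (k+1)) :
    ∃ c : ResidueField R, S e = c • S f := by
  obtain ⟨E, hE⟩ : ∃ E : Submodule R M, E = spanBefore R M e.1 (k+1) := ⟨_, rfl⟩
  obtain ⟨F, hF⟩ : ∃ F : Submodule R M, F = spanBefore R M f.1 (k+1) := ⟨_, rfl⟩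
  rw [← hE, ← hF] at hEF
  have hEc : E ⋖ ⊤ := by rw [hE]; exact covBy_top_of_good hM e.1 e.2 he
  have hFc : F ⋖ ⊤ := by rw [hF]; exact covBy_top_of_good hM f.1 f.2 hf
  have hFE : ¬ F ≤ E := by
    intro h
    rcases hFc.eq_or_eq h le_top with h1 | h1
    · exact hEF h1
    · exact hEc.lt.ne h1
  have hsup : E ⊔ F = ⊤ := by
    by_contra hne
    refine hEc.2 (lt_of_le_of_ne le_sup_left ?_) (lt_of_le_of_ne le_top hne)
    intro h
    apply hFE
    rw [h]
    exact le_sup_right
  have hNE : E ⊓ F ⋖ E :=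
    inf_covBy_of_covBy_sup_of_covBy_sup_left (by rw [hsup]; exact hEc) (by rw [hsup]; exact hFc)
  have hNF : E ⊓ F ⋖ F :=
    inf_covBy_of_covBy_sup_of_covBy_sup_right (by rw [hsup]; exact hEc) (by rw [hsup]; exact hFc)
  obtain ⟨N, hN⟩ : ∃ N : Submodule R M, N = E ⊓ F := ⟨_, rfl⟩
  rw [← hN] at hNE hNF
  have hlenE : Module.length R ↥E = ((k+1 : ℕ) : ℕ∞) := by
    rw [hE]; exact length_sB e.1 e.2 he (k+1) (Nat.le_succ _)
  have hlenN : Module.length R ↥N = (k : ℕ∞) := by
    have h1 := length_of_covBy hNE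
    rw [hlenE] at h1
    exact enat_cancel h1.symm
  obtain ⟨g, hga, hgg⟩ := exists_good R k ↥N hlenN
  have hgen := gen_of_good hlenN g hga hgg
  have hs : spanBefore R M (vl N g) k = N := sB_vl_top N g hgen
  obtain ⟨x, hxE, hxN⟩ := SetLike.exists_of_lt hNE.lt
  obtain ⟨y, hyF, hyN⟩ := SetLike.exists_of_lt hNF.lt
  have hxF : x ∉ F := fun h => hxN (by rw [hN]; exact ⟨hxE, h⟩)
  have hyE : y ∉ E := fun h => hyN (by rw [hN]; exact ⟨h, hyF⟩)
  have hmx : ∀ r ∈ maximalIdeal R, r • x ∈ N := by
    intro r hr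
    rw [hN]
    exact ⟨E.smul_mem r hxE, smul_mem_of_covBy_top F hFc r hr x⟩
  have hmy : ∀ r ∈ maximalIdeal R, r • y ∈ N := by
    intro r hr
    rw [hN]
    exact ⟨smul_mem_of_covBy_top E hEc r hr y, F.smul_mem r hyF⟩
  have hNx : N ⊔ Submodule.span R {x} = E := by
    rcases hNE.eq_or_eq (le_sup_left : N ≤ N ⊔ Submodule.span R {x})
      (sup_le hNE.le ((Submodule.span_singleton_le_iff_mem x E).2 hxE)) with h | h
    · exfalso; apply hxN; rw [← h]
      exact Submodule.mem_sup_right (Submodule.mem_span_singleton_self x)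
    · exact h
  have hNy : N ⊔ Submodule.span R {y} = F := by
    rcases hNF.eq_or_eq (le_sup_left : N ≤ N ⊔ Submodule.span R {y})
      (sup_le hNF.le ((Submodule.span_singleton_le_iff_mem y F).2 hyF)) with h | h
    · exfalso; apply hyN; rw [← h]
      exact Submodule.mem_sup_right (Submodule.mem_span_singleton_self y)
    · exact h
  have hav : IsAdmissible R M (vl N g) := (adm_vl N g).2 hga
  have hgv : Good R (vl N g) := (good_vl N g).2 hgg
  have hp0a : IsAdmissible R M (sn (vl N g) x) := adm_sn _ x hav (by rw [hs]; exact hmx)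
  have hp0g : Good R (sn (vl N g) x) := good_sn _ x hgv (by rw [hs]; exact hxN)
  have hp0s : spanBefore R M (sn (vl N g) x) (k+1) = E := by rw [sB_sn_last, hs, hNx]
  have hpa : IsAdmissible R M (sn (sn (vl N g) x) y) := adm_sn _ y hp0a (by
    rw [hp0s]; intro r hr; exact smul_mem_of_covBy_top E hEc r hr y)
  have hpg : Good R (sn (sn (vl N g) x) y) := good_sn _ y hp0g (by rw [hp0s]; exact hyE)
  have hq0a : IsAdmissible R M (sn (vl N g) y) := adm_sn _ y hav (by rw [hs]; exact hmy)
  have hq0g : Good R (sn (vl N g) y) := good_sn _ y hgv (by rw [hs]; exact hyN)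
  have hq0s : spanBefore R M (sn (vl N g) y) (k+1) = F := by rw [sB_sn_last, hs, hNy]
  have hqa : IsAdmissible R M (sn (sn (vl N g) y) x) := adm_sn _ x hq0a (by
    rw [hq0s]; intro r hr; exact smul_mem_of_covBy_top F hFc r hr x)
  have hqg : Good R (sn (sn (vl N g) y) x) := good_sn _ x hq0g (by rw [hq0s]; exact hxF)
  obtain ⟨c₁, hc₁⟩ := case1 R (k+1) ih M hM e ⟨_, hpa⟩ he hpg (by
    show spanBefore R M e.1 (k+1) = spanBefore R M (sn (sn (vl N g) x) y) (k+1)
    rw [sB_sn R _ y (k+1) le_rfl, hp0s, hE])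
  obtain ⟨c₂, hc₂⟩ := case1 R (k+1) ih M hM ⟨_, hqa⟩ f hqg hf (by
    show spanBefore R M (sn (sn (vl N g) y) x) (k+1) = spanBefore R M f.1 (k+1)
    rw [sB_sn R _ x (k+1) le_rfl, hq0s, hF])
  have hsw : S (⟨_, hpa⟩ : Adm R M (k+1+1)) = - S (⟨_, hqa⟩ : Adm R M (k+1+1)) := by
    apply S_c _ _ (Fin.last (k+1)) (Fin.castSucc (Fin.last k)) rfl
    · intro r hr
      show r • sn (sn (vl N g) x) y (Fin.last (k+1)) ∈
        spanBefore R M (sn (sn (vl N g) x) y) ((Fin.castSucc (Fin.last k) : Fin (k+1+1)) : ℕ)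
      rw [sn_last, Fin.val_castSucc, Fin.val_last, sB_sn R _ y k (Nat.le_succ k),
        sB_sn R _ x k le_rfl, hs]
      exact hmy r hr
    · show sn (sn (vl N g) y) x =
        sn (sn (vl N g) x) y ∘ Equiv.swap (Fin.last (k+1)) (Fin.castSucc (Fin.last k))
      funext j
      rw [Function.comp_apply]
      induction j using Fin.lastCases with
      | last => rw [Equiv.swap_apply_left, sn_last, sn_cast, sn_last]
      | cast j1 =>
        induction j1 using Fin.lastCases with
        | last => rw [Equiv.swap_apply_right, sn_cast, sn_last, sn_last]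
        | cast j2 =>
          rw [Equiv.swap_apply_of_ne_of_ne (Fin.castSucc_ne_last _)
            (fun h => Fin.castSucc_ne_last j2 (Fin.castSucc_injective _ h)),
            sn_cast, sn_cast, sn_cast, sn_cast]
  refine ⟨-(c₁ * c₂), ?_⟩
  rw [hc₁, hsw, hc₂, smul_neg, smul_smul, neg_smul]

theorem main (R : Type u) [CommRing R] [IsLocalRing R] : ∀ l : ℕ, Q.{u,v} R l := by
  intro l
  induction l with
  | zero =>
    intro M _ _ _ e f _
    refine ⟨1, ?_⟩
    rw [one_smul]
    exact S_congr e f (funext fun i => i.elim0)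
  | succ l ih =>
    intro M _ _ hM e f hf
    by_cases he : Good R e.1
    · by_cases hEF : spanBefore R M e.1 l = spanBefore R M f.1 l
      · exact case1 R l ih M hM e f he hf hEF
      · cases l with
        | zero =>
          exfalso; apply hEF
          rw [sB_zero, sB_zero]
        | succ k => exact case2 R k ih M hM e f he hf hEF
    · refine ⟨0, ?_⟩
      rw [zero_smul]
      unfold Good at he
      rw [not_forall] at he
      obtain ⟨a, ha⟩ := he
      exact S_zero e a (not_not.1 ha)

theorem single_eq {R : Type u} [CommRing R] [IsLocalRing R] {M : Type v} [AddCommGroup M]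
    [Module R M] {l : ℕ} (e : Adm R M l) (c : ResidueField R) :
    (Submodule.Quotient.mk (Finsupp.single e c : Free R M l) : DetOfLen R M l) = c • S e := by
  have : (Finsupp.single e c : Free R M l) = c • sym R M e := by
    unfold sym
    rw [Finsupp.smul_single, smul_eq_mul, mul_one]
  rw [this, Submodule.Quotient.mk_smul]
  rfl

theorem rank_le (R : Type u) [CommRing R] [IsLocalRing R] (M : Type v) [AddCommGroup M]
    [Module R M] (l : ℕ) (hl : Module.length R M = (l : ℕ∞)) :
    Module.rank (ResidueField R) (DetOfLen R M l) ≤ 1 := by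
  rw [rank_le_one_iff]
  by_cases hex : ∃ f : Adm R M l, Good R f.1
  · obtain ⟨f, hf⟩ := hex
    refine ⟨S f, ?_⟩
    intro v
    obtain ⟨z, rfl⟩ := Submodule.Quotient.mk_surjective _ v
    induction z using Finsupp.induction_linear with
    | zero => exact ⟨0, by rw [zero_smul, Submodule.Quotient.mk_zero]⟩
    | add a b ha hb =>
      obtain ⟨r, hr⟩ := ha
      obtain ⟨s, hs⟩ := hb
      exact ⟨r + s, by rw [add_smul, hr, hs, Submodule.Quotient.mk_add]⟩
    | single e c =>
      obtain ⟨d, hd⟩ := main.{u,v} R l M hl e f hf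
      refine ⟨c * d, ?_⟩
      rw [single_eq, mul_smul, ← hd]
  · refine ⟨0, ?_⟩
    intro v
    obtain ⟨z, rfl⟩ := Submodule.Quotient.mk_surjective _ v
    induction z using Finsupp.induction_linear with
    | zero => exact ⟨0, by rw [zero_smul, Submodule.Quotient.mk_zero]⟩
    | add a b ha hb =>
      obtain ⟨r, hr⟩ := ha
      obtain ⟨s, hs⟩ := hb
      refine ⟨0, ?_⟩
      rw [smul_zero] at hr hs ⊢
      rw [Submodule.Quotient.mk_add, ← hr, ← hs, add_zero]
    | single e c =>
      refine ⟨0, ?_⟩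
      have hng : ¬ Good R e.1 := fun h => hex ⟨e, h⟩
      unfold Good at hng
      rw [not_forall] at hng
      obtain ⟨a, ha⟩ := hng
      have h0 : S e = 0 := S_zero e a (not_not.1 ha)
      rw [single_eq, h0, smul_zero, smul_zero]

end Groth.Agent.LeadCycDet
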