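import Groth.Agent.Lib.LeadCycDet

/-!
# Determinant of a finite-length module (`CycDet`): non-vanishing of symbols

Library by `lead` for S1839.  For a module `M` of length `l+1` and a nonzero socle element `x`,
we construct the "contraction" functional `Det(M) → κ` from a functional on `Det(M/Rx)`:
a good tuple `e` with `x ≡ c • e i` modulo the span of the earlier entries is sent to
`(-1)^i * c̄⁻¹ * ψ'[ē₀,…,ê_i,…,ē_l]`.  Compatibility with the three admissible relations is checked
case by case.
-/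

set_option autoImplicit false
universe u v
open CycDet

namespace Groth.Agent.LeadCycDet

open IsLocalRing

section Dev2

variable {R : Type u} [CommRing R] [IsLocalRing R] {M : Type v} [AddCommGroup M] [Module R M]

/-! ### Part F: generalities -/

theorem exists_unit_sub_mem' (N : Submodule R M) (y x : M)
    (hy : ∀ r ∈ maximalIdeal R, r • y ∈ N)
    (hx' : x ∈ N ⊔ Submodule.span R {y}) (hx : x ∉ N) : ∃ c : Rˣ, x - (c : R) • y ∈ N := by
  obtain ⟨n, hn, z, hz, hnz⟩ := Submodule.mem_sup.1 hx'
  obtain ⟨r, rfl⟩ := Submodule.mem_span_singleton.1 hz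
  have hr : IsUnit r := by
    by_contra hnu
    apply hx
    rw [← hnz]
    exact N.add_mem hn (hy r ((IsLocalRing.mem_maximalIdeal r).2 hnu))
  obtain ⟨c, rfl⟩ := hr
  refine ⟨c, ?_⟩
  rw [← hnz, add_sub_cancel_right]
  exact hn

theorem residue_unit_ne_zero (c : Rˣ) : residue R (c : R) ≠ 0 := by
  intro h
  rw [residue_eq_zero_iff] at h
  exact (IsLocalRing.mem_maximalIdeal _).1 h c.isUnit

theorem length_sB_defect {l : ℕ} (e : Fin l → M) (he : IsAdmissible R M e) (a : Fin l)
    (ha : e a ∈ spanBefore R M e a) :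
    ∀ i : ℕ, i ≤ l → ∃ n : ℕ, Module.length R ↥(spanBefore R M e i) = (n : ℕ∞) ∧
      n ≤ i ∧ ((a : ℕ) < i → n + 1 ≤ i) := by
  intro i
  induction i with
  | zero =>
    intro _
    refine ⟨0, ?_, le_rfl, fun h => absurd h (Nat.not_lt_zero _)⟩
    rw [sB_zero R e, Module.length_bot]
    rfl
  | succ i ih =>
    intro hi
    have hil : i < l := hi
    obtain ⟨n, hn, hn1, hn2⟩ := ih hil.le
    have h1 : spanBefore R M e (i + 1) =
        spanBefore R M e i ⊔ Submodule.span R {e ⟨i, hil⟩} := sB_succ R e ⟨i, hil⟩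
    by_cases hmem : e ⟨i, hil⟩ ∈ spanBefore R M e i
    · refine ⟨n, ?_, by omega, fun _ => by omega⟩
      rw [h1, sup_eq_left.2 ((Submodule.span_singleton_le_iff_mem _ _).2 hmem)]
      exact hn
    · refine ⟨n + 1, ?_, by omega, fun hlt => ?_⟩
      · have h2 := cov (spanBefore R M e i) (e ⟨i, hil⟩) (he ⟨i, hil⟩) hmem
        rw [h1, length_of_covBy h2, hn]
        exact (Nat.cast_succ n).symm
      · have hai : (a : ℕ) ≠ i := by
          intro h
          apply hmem
          have h3 : e ⟨i, hil⟩ = e a := congrArg e (Fin.ext h.symm)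
          rw [h3, ← h]
          exact ha
        have := hn2 (by omega)
        omega

theorem good_of_gen {l : ℕ} (hM : Module.length R M = (l : ℕ∞)) (e : Fin l → M)
    (he : IsAdmissible R M e) (hgen : Submodule.span R (Set.range e) = ⊤) : Good R e := by
  intro a ha
  obtain ⟨n, hn, -, hn2⟩ := length_sB_defect e he a ha l le_rfl
  rw [sB_top R e l le_rfl, hgen, Module.length_top, hM] at hn
  have h1 : l = n := by exact_mod_cast hn
  have h2 := hn2 a.2
  omega

theorem sB_eq_below {l : ℕ} (e e' : Fin l → M) (a : Fin l) (h1 : ∀ j, j ≠ a → e j = e' j)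
    (j : ℕ) (hj : j ≤ a) : spanBefore R M e j = spanBefore R M e' j := by
  unfold spanBefore
  congr 1
  apply Set.image_congr
  intro k hk
  have hk' : (k : ℕ) < j := hk
  exact h1 k (fun h => by rw [h] at hk'; omega)

theorem sB_le_of_b {l : ℕ} (e e' : Fin l → M) (a : Fin l) (c : R)
    (h1 : ∀ j, j ≠ a → e j = e' j) (h2 : e a - c • e' a ∈ spanBefore R M e a) (j : ℕ) :
    spanBefore R M e j ≤ spanBefore R M e' j := by
  rw [show spanBefore R M e j = Submodule.span R (e '' {k : Fin l | (k : ℕ) < j}) from rfl,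
    Submodule.span_le]
  rintro _ ⟨k, hk, rfl⟩
  have hk' : (k : ℕ) < j := hk
  by_cases hka : k = a
  · rw [hka] at hk' ⊢
    have h3 : e a = (e a - c • e' a) + c • e' a := by abel
    rw [h3]
    refine add_mem ?_ (Submodule.smul_mem _ _ (mem_sB R e' a j hk'))
    rw [sB_eq_below e e' a h1 a le_rfl] at h2
    exact sB_mono R e' hk'.le h2
  · rw [h1 k hka]
    exact mem_sB R e' k j hk'

theorem flag_eq_of_b {l : ℕ} (e e' : Fin l → M) (a : Fin l) (c : Rˣ)
    (h1 : ∀ j, j ≠ a → e j = e' j) (h2 : e a - (c : R) • e' a ∈ spanBefore R M e a) (j : ℕ) :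
    spanBefore R M e j = spanBefore R M e' j := by
  apply le_antisymm (sB_le_of_b e e' a (c : R) h1 h2 j)
  apply sB_le_of_b e' e a ((c⁻¹ : Rˣ) : R) (fun k hk => (h1 k hk).symm)
  rw [← sB_eq_below e e' a h1 a le_rfl]
  have h3 : e' a - ((c⁻¹ : Rˣ) : R) • e a = -(((c⁻¹ : Rˣ) : R) • (e a - (c : R) • e' a)) := by
    rw [smul_sub, smul_smul, Units.inv_mul, one_smul]
    abel
  rw [h3]
  exact neg_mem (Submodule.smul_mem _ _ h2)

variable (R)

theorem sB_swap_low {k : ℕ} (e : Fin k → M) (a b : Fin k) (hab : (b : ℕ) + 1 = a) (j : ℕ)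
    (hj : j ≤ b) : spanBefore R M (e ∘ Equiv.swap a b) j = spanBefore R M e j := by
  unfold spanBefore
  congr 1
  apply Set.image_congr
  intro m hm
  have hm' : (m : ℕ) < j := hm
  rw [Function.comp_apply, Equiv.swap_apply_of_ne_of_ne]
  · intro h; rw [h] at hm'; omega
  · intro h; rw [h] at hm'; omega

theorem sB_swap_high {k : ℕ} (e : Fin k → M) (a b : Fin k) (hab : (b : ℕ) + 1 = a) (j : ℕ)
    (hj : (a : ℕ) + 1 ≤ j) : spanBefore R M (e ∘ Equiv.swap a b) j = spanBefore R M e j := by
  unfold spanBefore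
  congr 1
  have hstab : ∀ m : Fin k, (m : ℕ) < j → ((Equiv.swap a b m : Fin k) : ℕ) < j := by
    intro m hm
    rw [Equiv.swap_apply_def]
    split_ifs <;> omega
  ext y
  constructor
  · rintro ⟨m, hm, rfl⟩
    exact ⟨Equiv.swap a b m, hstab m hm, rfl⟩
  · rintro ⟨m, hm, rfl⟩
    exact ⟨Equiv.swap a b m, hstab m hm, by rw [Function.comp_apply, Equiv.swap_apply_self]⟩

variable {R}

/-! ### Part G: omitting an entry and passing to a quotient -/

theorem sa_val {l : ℕ} (i : Fin (l+1)) (j : Fin l) :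
    ((i.succAbove j : Fin (l+1)) : ℕ) = if (j : ℕ) < (i : ℕ) then (j : ℕ) else (j : ℕ) + 1 := by
  split_ifs with h
  · rw [Fin.succAbove_of_castSucc_lt i j (by rw [Fin.lt_def]; exact h), Fin.val_castSucc]
  · rw [Fin.succAbove_of_le_castSucc i j (by rw [Fin.le_def]; exact not_lt.1 h), Fin.val_succ]

theorem swap_sa {l : ℕ} (a b : Fin (l+1)) (hab : (b : ℕ) + 1 = a) (j : Fin l) :
    Equiv.swap a b (a.succAbove j) = b.succAbove j := by
  rw [Equiv.swap_apply_def]
  have h1 := sa_val a j
  have h2 := sa_val b j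
  split_ifs with h3 h4
  · exact absurd h3 (Fin.succAbove_ne a j)
  · apply Fin.ext
    have h5 : ((a.succAbove j : Fin (l+1)) : ℕ) = b := by rw [h4]
    split_ifs at h1 h2 <;> omega
  · apply Fin.ext
    have h5 : ((a.succAbove j : Fin (l+1)) : ℕ) ≠ b := fun h => h4 (Fin.ext h)
    split_ifs at h1 h2 <;> omega

variable {M' : Type v} [AddCommGroup M'] [Module R M']

/-- omit the `i`-th entry and push forward along `π` -/
def om {l : ℕ} (π : M →ₗ[R] M') (e : Fin (l+1) → M) (i : Fin (l+1)) : Fin l → M' :=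
  fun j => π (e (i.succAbove j))

theorem om_mem {l : ℕ} (π : M →ₗ[R] M') (e : Fin (l+1) → M) (i : Fin (l+1)) (j : Fin l)
    (k : Fin (l+1)) (hki : k ≠ i) (hk : (k : ℕ) < ((i.succAbove j : Fin (l+1)) : ℕ)) :
    π (e k) ∈ spanBefore R M' (om π e i) j := by
  obtain ⟨k', rfl⟩ := Fin.exists_succAbove_eq hki
  have hlt : (k' : ℕ) < j := by
    have h1 := sa_val i k'
    have h2 := sa_val i j
    split_ifs at h1 h2 <;> omega
  exact mem_sB R (om π e i) k' j hlt

theorem KI {l : ℕ} (π : M →ₗ[R] M') (x : M) (hπx : π x = 0) (e : Fin (l+1) → M)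
    (i : Fin (l+1)) (c : Rˣ) (hD : x - (c : R) • e i ∈ spanBefore R M e i) (j : Fin l) :
    Submodule.map π (spanBefore R M e ((i.succAbove j : Fin (l+1)) : ℕ)) ≤
      spanBefore R M' (om π e i) j := by
  rw [show spanBefore R M e ((i.succAbove j : Fin (l+1)) : ℕ) =
    Submodule.span R (e '' {k : Fin (l+1) | (k : ℕ) < ((i.succAbove j : Fin (l+1)) : ℕ)}) from rfl,
    Submodule.map_span, Submodule.span_le]
  rintro _ ⟨_, ⟨k, hk, rfl⟩, rfl⟩
  have hk0 : (k : ℕ) < ((i.succAbove j : Fin (l+1)) : ℕ) := hk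
  by_cases hki : k = i
  · rw [hki] at hk0 ⊢
    have h3 : Submodule.map π (spanBefore R M e i) ≤ spanBefore R M' (om π e i) j := by
      rw [show spanBefore R M e i =
        Submodule.span R (e '' {k : Fin (l+1) | (k : ℕ) < (i : ℕ)}) from rfl,
        Submodule.map_span, Submodule.span_le]
      rintro _ ⟨_, ⟨k', hk', rfl⟩, rfl⟩
      have hk'' : (k' : ℕ) < i := hk'
      exact om_mem π e i j k' (fun h => by rw [h] at hk''; exact lt_irrefl _ hk'')
        (lt_trans hk'' hk0)
    have h4 : π (e i) = -(((c⁻¹ : Rˣ) : R) • π (x - (c : R) • e i)) := by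
      rw [map_sub, hπx, zero_sub, map_smul, smul_neg, neg_neg, smul_smul, Units.inv_mul, one_smul]
    rw [SetLike.mem_coe, h4]
    exact neg_mem (Submodule.smul_mem _ _ (h3 (Submodule.mem_map_of_mem hD)))
  · exact om_mem π e i j k hki hk0

theorem adm_om {l : ℕ} (π : M →ₗ[R] M') (x : M) (hπx : π x = 0) (e : Fin (l+1) → M)
    (he : IsAdmissible R M e) (i : Fin (l+1)) (c : Rˣ)
    (hD : x - (c : R) • e i ∈ spanBefore R M e i) : IsAdmissible R M' (om π e i) := by
  intro j r hr
  show r • π (e (i.succAbove j)) ∈ spanBefore R M' (om π e i) j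
  rw [← map_smul]
  exact KI π x hπx e i c hD j (Submodule.mem_map_of_mem (he (i.succAbove j) r hr))

theorem gen_om {l : ℕ} (π : M →ₗ[R] M') (x : M) (hπx : π x = 0)
    (hsurj : Function.Surjective π) (e : Fin (l+1) → M)
    (hgen : Submodule.span R (Set.range e) = ⊤) (i : Fin (l+1)) (c : Rˣ)
    (hD : x - (c : R) • e i ∈ spanBefore R M e i) :
    Submodule.span R (Set.range (om π e i)) = ⊤ := by
  have hk : ∀ k : Fin (l+1), k ≠ i → π (e k) ∈ Submodule.span R (Set.range (om π e i)) := by
    intro k hk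
    obtain ⟨k', rfl⟩ := Fin.exists_succAbove_eq hk
    exact Submodule.subset_span ⟨k', rfl⟩
  have hi : π (e i) ∈ Submodule.span R (Set.range (om π e i)) := by
    have h3 : Submodule.map π (spanBefore R M e i) ≤
        Submodule.span R (Set.range (om π e i)) := by
      rw [show spanBefore R M e i =
        Submodule.span R (e '' {k : Fin (l+1) | (k : ℕ) < (i : ℕ)}) from rfl,
        Submodule.map_span, Submodule.span_le]
      rintro _ ⟨_, ⟨k, hk', rfl⟩, rfl⟩
      have hk'' : (k : ℕ) < i := hk'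
      exact hk k (fun h => by rw [h] at hk''; exact lt_irrefl _ hk'')
    have h4 : π (e i) = -(((c⁻¹ : Rˣ) : R) • π (x - (c : R) • e i)) := by
      rw [map_sub, hπx, zero_sub, map_smul, smul_neg, neg_neg, smul_smul, Units.inv_mul, one_smul]
    rw [h4]
    exact neg_mem (Submodule.smul_mem _ _ (h3 (Submodule.mem_map_of_mem hD)))
  rw [eq_top_iff, ← LinearMap.range_eq_top.2 hsurj, ← Submodule.map_top, ← hgen,
    Submodule.map_span, Submodule.span_le]
  rintro _ ⟨_, ⟨k, rfl⟩, rfl⟩
  by_cases hki : k = i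
  · rw [hki]; exact hi
  · exact hk k hki

theorem x_not_mem {l : ℕ} (x : M) (e : Fin (l+1) → M) (hg : Good R e) (i : Fin (l+1)) (c : Rˣ)
    (hD : x - (c : R) • e i ∈ spanBefore R M e i) : x ∉ spanBefore R M e i := by
  intro hx
  apply hg i
  have h1 : (c : R) • e i ∈ spanBefore R M e i := by
    have h0 : (c : R) • e i = x - (x - (c : R) • e i) := by abel
    rw [h0]
    exact sub_mem hx hD
  have h2 : e i = ((c⁻¹ : Rˣ) : R) • ((c : R) • e i) := by
    rw [smul_smul, Units.inv_mul, one_smul]
  rw [h2]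
  exact Submodule.smul_mem _ _ h1

theorem x_mem_succ {l : ℕ} (x : M) (e : Fin (l+1) → M) (i : Fin (l+1)) (c : Rˣ)
    (hD : x - (c : R) • e i ∈ spanBefore R M e i) : x ∈ spanBefore R M e ((i : ℕ) + 1) := by
  have h0 : x = (x - (c : R) • e i) + (c : R) • e i := by abel
  rw [h0]
  exact add_mem (sB_mono R e (Nat.le_succ _) hD)
    (Submodule.smul_mem _ _ (mem_sB R e i _ (Nat.lt_succ_self _)))

theorem dat_unique {l : ℕ} (x : M) (e : Fin (l+1) → M) (hg : Good R e)
    (i i' : Fin (l+1)) (c c' : Rˣ)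
    (hD : x - (c : R) • e i ∈ spanBefore R M e i)
    (hD' : x - (c' : R) • e i' ∈ spanBefore R M e i') :
    i = i' ∧ residue R (c : R) = residue R (c' : R) := by
  have hii : i = i' := by
    apply Fin.ext
    apply le_antisymm
    · by_contra hlt
      rw [not_le] at hlt
      exact x_not_mem x e hg i c hD (sB_mono R e hlt (x_mem_succ x e i' c' hD'))
    · by_contra hlt
      rw [not_le] at hlt
      exact x_not_mem x e hg i' c' hD' (sB_mono R e hlt (x_mem_succ x e i c hD))
  subst hii
  refine ⟨rfl, ?_⟩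
  by_contra hne
  have hnm : (c : R) - (c' : R) ∉ maximalIdeal R := fun h => hne (Ideal.Quotient.eq.2 h)
  obtain ⟨d, hd⟩ := IsLocalRing.notMem_maximalIdeal.1 hnm
  apply hg i
  have h1 : ((c : R) - (c' : R)) • e i ∈ spanBefore R M e i := by
    have h0 : ((c : R) - (c' : R)) • e i = (x - (c' : R) • e i) - (x - (c : R) • e i) := by
      rw [sub_smul]; abel
    rw [h0]
    exact sub_mem hD' hD
  have h2 : e i = ((d⁻¹ : Rˣ) : R) • (((c : R) - (c' : R)) • e i) := by
    rw [← hd, smul_smul, Units.inv_mul, one_smul]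
  rw [h2]
  exact Submodule.smul_mem _ _ h1

theorem dat_exists {l : ℕ} (x : M) (hx0 : x ≠ 0) (e : Fin (l+1) → M) (he : IsAdmissible R M e)
    (hgen : Submodule.span R (Set.range e) = ⊤) :
    ∃ (i : Fin (l+1)) (c : Rˣ), x - (c : R) • e i ∈ spanBefore R M e i := by
  have key : ∀ j : ℕ, j ≤ l + 1 → x ∈ spanBefore R M e j →
      ∃ (i : Fin (l+1)) (c : Rˣ), x - (c : R) • e i ∈ spanBefore R M e i := by
    intro j
    induction j with
    | zero =>
      intro _ h
      rw [sB_zero] at h
      exact absurd ((Submodule.mem_bot R).1 h) hx0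
    | succ j ih =>
      intro hj h
      by_cases h' : x ∈ spanBefore R M e j
      · exact ih (Nat.le_of_succ_le hj) h'
      · have hjl : j < l + 1 := hj
        have h1 : spanBefore R M e (j + 1) =
            spanBefore R M e j ⊔ Submodule.span R {e ⟨j, hjl⟩} := sB_succ R e ⟨j, hjl⟩
        rw [h1] at h
        obtain ⟨c, hc⟩ := exists_unit_sub_mem' (spanBefore R M e j) (e ⟨j, hjl⟩) x
          (he ⟨j, hjl⟩) h h'
        exact ⟨⟨j, hjl⟩, c, hc⟩
  exact key (l + 1) le_rfl (by rw [sB_top R e (l+1) le_rfl, hgen]; trivial)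


/-! ### Part H: the contraction functional -/

/-- data for the inductive step -/
structure Ctx (R : Type u) [CommRing R] [IsLocalRing R] (M M' : Type v) [AddCommGroup M]
    [Module R M] [AddCommGroup M'] [Module R M'] (l : ℕ) where
  π : M →ₗ[R] M'
  x : M
  hπx : π x = 0
  hsurj : Function.Surjective π
  hx0 : x ≠ 0
  hM : Module.length R M = ((l + 1 : ℕ) : ℕ∞)
  hM' : Module.length R M' = (l : ℕ∞)
  ψ' : DetOfLen R M' l →ₗ[ResidueField R] ResidueField R
  hψ' : ∀ t : Adm R M' l, Good R t.1 → ψ' (S t) ≠ 0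

variable {l : ℕ}

/-- candidate value for given data -/
noncomputable def cval (C : Ctx R M M' l) (e : Adm R M (l+1)) (i : Fin (l+1)) (c : Rˣ)
    (hD : C.x - (c : R) • e.1 i ∈ spanBefore R M e.1 i) : ResidueField R :=
  (-1 : ResidueField R) ^ (i : ℕ) * (residue R (c : R))⁻¹ *
    C.ψ' (S ⟨om C.π e.1 i, adm_om C.π C.x C.hπx e.1 e.2 i c hD⟩)

def IsVal (C : Ctx R M M' l) (e : Adm R M (l+1)) (v : ResidueField R) : Prop :=
  ∃ (i : Fin (l+1)) (c : Rˣ) (hD : C.x - (c : R) • e.1 i ∈ spanBefore R M e.1 i),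
    v = cval C e i c hD

theorem isVal_unique (C : Ctx R M M' l) (e : Adm R M (l+1)) (hg : Good R e.1)
    (v v' : ResidueField R) (h : IsVal C e v) (h' : IsVal C e v') : v = v' := by
  obtain ⟨i, c, hD, rfl⟩ := h
  obtain ⟨i', c', hD', rfl⟩ := h'
  obtain ⟨hii, hres⟩ := dat_unique C.x e.1 hg i i' c c' hD hD'
  subst hii
  unfold cval
  rw [hres]

theorem exists_isVal (C : Ctx R M M' l) (e : Adm R M (l+1)) (hg : Good R e.1) :
    ∃ v, IsVal C e v := by
  obtain ⟨i, c, hD⟩ := dat_exists C.x C.hx0 e.1 e.2 (gen_of_good C.hM e.1 e.2 hg)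
  exact ⟨_, i, c, hD, rfl⟩

open Classical in
/-- the contraction functional on basis elements -/
noncomputable def val (C : Ctx R M M' l) (e : Adm R M (l+1)) : ResidueField R :=
  if hg : Good R e.1 then Classical.choose (exists_isVal C e hg) else 0

theorem val_eq (C : Ctx R M M' l) (e : Adm R M (l+1)) (hg : Good R e.1) (i : Fin (l+1)) (c : Rˣ)
    (hD : C.x - (c : R) • e.1 i ∈ spanBefore R M e.1 i) : val C e = cval C e i c hD := by
  unfold val
  rw [dif_pos hg]
  exact isVal_unique C e hg _ _ (Classical.choose_spec (exists_isVal C e hg)) ⟨i, c, hD, rfl⟩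

theorem val_neg (C : Ctx R M M' l) (e : Adm R M (l+1)) (hg : ¬ Good R e.1) : val C e = 0 := by
  unfold val
  rw [dif_neg hg]

theorem cval_ne_zero (C : Ctx R M M' l) (e : Adm R M (l+1)) (hg : Good R e.1) (i : Fin (l+1))
    (c : Rˣ) (hD : C.x - (c : R) • e.1 i ∈ spanBefore R M e.1 i) : cval C e i c hD ≠ 0 := by
  unfold cval
  have h1 : ((-1 : ResidueField R)) ^ (i : ℕ) ≠ 0 := pow_ne_zero _ (neg_ne_zero.2 one_ne_zero)
  have h2 : (residue R (c : R))⁻¹ ≠ 0 := inv_ne_zero (residue_unit_ne_zero c)
  have h3 : C.ψ' (S ⟨om C.π e.1 i, adm_om C.π C.x C.hπx e.1 e.2 i c hD⟩) ≠ 0 :=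
    C.hψ' _ (good_of_gen C.hM' _ (adm_om C.π C.x C.hπx e.1 e.2 i c hD)
      (gen_om C.π C.x C.hπx C.hsurj e.1 (gen_of_good C.hM e.1 e.2 hg) i c hD))
  exact mul_ne_zero (mul_ne_zero h1 h2) h3

theorem val_b (C : Ctx R M M' l) (e e' : Adm R M (l+1)) (a : Fin (l+1)) (c₀ : Rˣ)
    (h1 : ∀ j, j ≠ a → e.1 j = e'.1 j)
    (h2 : e.1 a - (c₀ : R) • e'.1 a ∈ spanBefore R M e.1 a) :
    val C e = residue R (c₀ : R) * val C e' := by
  have hspan := span_eq_of_b e.1 e'.1 a c₀ h1 h2
  by_cases hg : Good R e.1
  · have hgen : Submodule.span R (Set.range e.1) = ⊤ := gen_of_good C.hM e.1 e.2 hg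
    have hgen' : Submodule.span R (Set.range e'.1) = ⊤ := hspan.symm.trans hgen
    have hg' : Good R e'.1 := good_of_gen C.hM e'.1 e'.2 hgen'
    obtain ⟨i, c, hD⟩ := dat_exists C.x C.hx0 e.1 e.2 hgen
    have hFE : ∀ j, spanBefore R M e.1 j = spanBefore R M e'.1 j :=
      flag_eq_of_b e.1 e'.1 a c₀ h1 h2
    have hc₀ := residue_unit_ne_zero c₀
    by_cases hia : i = a
    · subst hia
      have hD' : C.x - ((c * c₀ : Rˣ) : R) • e'.1 i ∈ spanBefore R M e'.1 i := by
        rw [← hFE]
        have h0 : C.x - ((c * c₀ : Rˣ) : R) • e'.1 i =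
            (C.x - (c : R) • e.1 i) + (c : R) • (e.1 i - (c₀ : R) • e'.1 i) := by
          rw [Units.val_mul, mul_smul, smul_sub]; abel
        rw [h0]
        exact add_mem hD (Submodule.smul_mem _ _ h2)
      have htt : om C.π e'.1 i = om C.π e.1 i := by
        funext j
        show C.π (e'.1 (i.succAbove j)) = C.π (e.1 (i.succAbove j))
        rw [h1 _ (Fin.succAbove_ne i j)]
      rw [val_eq C e hg i c hD, val_eq C e' hg' i (c * c₀) hD']
      unfold cval
      rw [S_congr ⟨om C.π e'.1 i, _⟩ ⟨om C.π e.1 i, adm_om C.π C.x C.hπx e.1 e.2 i c hD⟩ htt,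
        Units.val_mul, map_mul, mul_inv]
      have hcc : residue R (c₀ : R) * (residue R (c₀ : R))⁻¹ = 1 := mul_inv_cancel₀ hc₀
      calc _ = (residue R (c₀ : R) * (residue R (c₀ : R))⁻¹) * ((-1 : ResidueField R) ^ (i : ℕ) *
            (residue R (c : R))⁻¹ *
            C.ψ' (S ⟨om C.π e.1 i, adm_om C.π C.x C.hπx e.1 e.2 i c hD⟩)) := by
              rw [hcc, one_mul]
        _ = _ := by ring
    · obtain ⟨a', ha'⟩ := Fin.exists_succAbove_eq (Ne.symm hia)
      have hD' : C.x - (c : R) • e'.1 i ∈ spanBefore R M e'.1 i := by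
        rw [← hFE, ← h1 i hia]; exact hD
      have hS : S (⟨om C.π e.1 i, adm_om C.π C.x C.hπx e.1 e.2 i c hD⟩ : Adm R M' l) =
          residue R (c₀ : R) •
            S (⟨om C.π e'.1 i, adm_om C.π C.x C.hπx e'.1 e'.2 i c hD'⟩ : Adm R M' l) := by
        apply S_b _ _ a' c₀
        · intro j hj
          show C.π (e.1 (i.succAbove j)) = C.π (e'.1 (i.succAbove j))
          rw [h1 _ (fun h => hj (Fin.succAbove_right_injective (h.trans ha'.symm)))]
        · show C.π (e.1 (i.succAbove a')) - (c₀ : R) • C.π (e'.1 (i.succAbove a')) ∈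
            spanBefore R M' (om C.π e.1 i) a'
          rw [← map_smul, ← map_sub]
          apply KI C.π C.x C.hπx e.1 i c hD a'
          apply Submodule.mem_map_of_mem
          rw [ha']; exact h2
      rw [val_eq C e hg i c hD, val_eq C e' hg' i c hD']
      unfold cval
      rw [hS, map_smul, smul_eq_mul]
      ring
  · have hg' : ¬ Good R e'.1 := fun hg' =>
      hg (good_of_gen C.hM e.1 e.2 (hspan.trans (gen_of_good C.hM e'.1 e'.2 hg')))
    rw [val_neg C e hg, val_neg C e' hg', mul_zero]


theorem val_c (C : Ctx R M M' l) (e e' : Adm R M (l+1)) (a b : Fin (l+1))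
    (hab : (b : ℕ) + 1 = a)
    (h : ∀ r ∈ maximalIdeal R, r • e.1 a ∈ spanBefore R M e.1 b)
    (he' : e'.1 = e.1 ∘ Equiv.swap a b) : val C e = - val C e' := by
  have hspan : Submodule.span R (Set.range e'.1) = Submodule.span R (Set.range e.1) := by
    rw [he', (Equiv.swap a b).surjective.range_comp]
  by_cases hg : Good R e.1
  · have hgen : Submodule.span R (Set.range e.1) = ⊤ := gen_of_good C.hM e.1 e.2 hg
    have hgen' : Submodule.span R (Set.range e'.1) = ⊤ := hspan.trans hgen
    have hg' : Good R e'.1 := good_of_gen C.hM e'.1 e'.2 hgen'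
    obtain ⟨i, c, hD⟩ := dat_exists C.x C.hx0 e.1 e.2 hgen
    have hlow : ∀ j : ℕ, j ≤ b → spanBefore R M e'.1 j = spanBefore R M e.1 j := by
      intro j hj
      rw [he']
      exact sB_swap_low R e.1 a b hab j hj
    have hhigh : ∀ j : ℕ, (a : ℕ) + 1 ≤ j → spanBefore R M e'.1 j = spanBefore R M e.1 j := by
      intro j hj
      rw [he']
      exact sB_swap_high R e.1 a b hab j hj
    have e'a : e'.1 a = e.1 b := by rw [he', Function.comp_apply, Equiv.swap_apply_left]
    have e'b : e'.1 b = e.1 a := by rw [he', Function.comp_apply, Equiv.swap_apply_right]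
    by_cases hib : i = b
    · -- `x` enters at position `b`
      subst hib
      have hD' : C.x - (c : R) • e'.1 a ∈ spanBefore R M e'.1 a := by
        rw [e'a]
        apply sB_mono R e'.1 (show (i : ℕ) ≤ a by omega)
        rw [hlow i le_rfl]
        exact hD
      have htt : om C.π e'.1 a = om C.π e.1 i := by
        funext j
        show C.π (e'.1 (a.succAbove j)) = C.π (e.1 (i.succAbove j))
        rw [he', Function.comp_apply, swap_sa a i hab j]
      rw [val_eq C e hg i c hD, val_eq C e' hg' a c hD']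
      unfold cval
      rw [S_congr ⟨om C.π e'.1 a, _⟩ ⟨om C.π e.1 i, adm_om C.π C.x C.hπx e.1 e.2 i c hD⟩ htt,
        ← hab, pow_succ]
      ring
    · by_cases hia : i = a
      · -- `x` enters at position `a`
        subst hia
        have hsplit : spanBefore R M e.1 i =
            spanBefore R M e.1 b ⊔ Submodule.span R {e.1 b} := by
          rw [← hab]
          exact sB_succ R e.1 b
        have hD2 := hD
        rw [hsplit] at hD2
        obtain ⟨n₀, hn₀, z, hz, hnz⟩ := Submodule.mem_sup.1 hD2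
        obtain ⟨s, rfl⟩ := Submodule.mem_span_singleton.1 hz
        by_cases hs : s ∈ maximalIdeal R
        · have hD' : C.x - (c : R) • e'.1 b ∈ spanBefore R M e'.1 b := by
            rw [e'b, hlow b le_rfl, ← hnz]
            exact add_mem hn₀ (e.2 b s hs)
          have htt : om C.π e'.1 b = om C.π e.1 i := by
            funext j
            show C.π (e'.1 (b.succAbove j)) = C.π (e.1 (i.succAbove j))
            rw [he', Function.comp_apply, ← swap_sa i b hab j, Equiv.swap_apply_self]
          rw [val_eq C e hg i c hD, val_eq C e' hg' b c hD']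
          unfold cval
          rw [S_congr ⟨om C.π e'.1 b, _⟩ ⟨om C.π e.1 i, adm_om C.π C.x C.hπx e.1 e.2 i c hD⟩ htt,
            ← hab, pow_succ]
          ring
        · obtain ⟨σ, rfl⟩ := IsLocalRing.notMem_maximalIdeal.1 hs
          have hσ := residue_unit_ne_zero σ
          have hxe : C.x = n₀ + (σ : R) • e.1 b + (c : R) • e.1 i := by
            rw [hnz]; abel
          have hsB' : spanBefore R M e'.1 i =
              spanBefore R M e.1 b ⊔ Submodule.span R {e.1 i} := by
            rw [← hab, sB_succ R e'.1 b, hlow b le_rfl, e'b]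
          have hD' : C.x - (σ : R) • e'.1 i ∈ spanBefore R M e'.1 i := by
            rw [e'a, hsB']
            have h0 : C.x - (σ : R) • e.1 b = n₀ + (c : R) • e.1 i := by rw [hxe]; abel
            rw [h0]
            exact add_mem (Submodule.mem_sup_left hn₀)
              (Submodule.mem_sup_right
                (Submodule.smul_mem _ _ (Submodule.mem_span_singleton_self _)))
          obtain ⟨b', hb'⟩ := Fin.exists_succAbove_eq (Ne.symm hib)
          have hS : S (⟨om C.π e'.1 i, adm_om C.π C.x C.hπx e'.1 e'.2 i σ hD'⟩ : Adm R M' l) =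
              residue R ((-(σ * c⁻¹) : Rˣ) : R) •
                S (⟨om C.π e.1 i, adm_om C.π C.x C.hπx e.1 e.2 i c hD⟩ : Adm R M' l) := by
            apply S_b _ _ b' (-(σ * c⁻¹))
            · intro j hj
              show C.π (e'.1 (i.succAbove j)) = C.π (e.1 (i.succAbove j))
              rw [he', Function.comp_apply, Equiv.swap_apply_of_ne_of_ne (Fin.succAbove_ne i j)
                (fun h => hj (Fin.succAbove_right_injective (h.trans hb'.symm)))]
            · show C.π (e'.1 (i.succAbove b')) -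
                  ((-(σ * c⁻¹) : Rˣ) : R) • C.π (e.1 (i.succAbove b')) ∈
                spanBefore R M' (om C.π e'.1 i) b'
              rw [hb', e'b]
              have h0 : C.π (n₀ + (σ : R) • e.1 b + (c : R) • e.1 i) = 0 := by
                rw [← hxe]; exact C.hπx
              rw [map_add, map_add, map_smul, map_smul] at h0
              have hcY : (c : R) • C.π (e.1 i) = -(C.π n₀ + (σ : R) • C.π (e.1 b)) := by
                rw [eq_neg_iff_add_eq_zero, add_comm]
                exact h0
              have hπ : C.π (e.1 i) - ((-(σ * c⁻¹) : Rˣ) : R) • C.π (e.1 b) =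
                  C.π (-(((c⁻¹ : Rˣ) : R) • n₀)) := by
                calc C.π (e.1 i) - ((-(σ * c⁻¹) : Rˣ) : R) • C.π (e.1 b)
                    = ((c⁻¹ : Rˣ) : R) • ((c : R) • C.π (e.1 i)) -
                        ((-(σ * c⁻¹) : Rˣ) : R) • C.π (e.1 b) := by
                      rw [smul_smul, Units.inv_mul, one_smul]
                  _ = ((c⁻¹ : Rˣ) : R) • (-(C.π n₀ + (σ : R) • C.π (e.1 b))) -
                        ((-(σ * c⁻¹) : Rˣ) : R) • C.π (e.1 b) := by rw [hcY]
                  _ = C.π (-(((c⁻¹ : Rˣ) : R) • n₀)) := by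
                      rw [map_neg, map_smul, Units.val_neg, Units.val_mul]
                      module
              rw [hπ]
              exact KI C.π C.x C.hπx e'.1 i σ hD' b' (Submodule.mem_map_of_mem (by
                rw [hb', hlow b le_rfl]
                exact neg_mem (Submodule.smul_mem _ _ hn₀)))
          rw [val_eq C e hg i c hD, val_eq C e' hg' i σ hD']
          unfold cval
          rw [hS, map_smul, smul_eq_mul, Units.val_neg, Units.val_mul, map_neg, map_mul,
            map_units_inv]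
          have hσσ : (residue R (σ : R))⁻¹ * residue R (σ : R) = 1 := inv_mul_cancel₀ hσ
          calc _ = ((residue R (σ : R))⁻¹ * residue R (σ : R)) * ((-1 : ResidueField R) ^ (i : ℕ) *
                (residue R (c : R))⁻¹ *
                C.ψ' (S ⟨om C.π e.1 i, adm_om C.π C.x C.hπx e.1 e.2 i c hD⟩)) := by
                  rw [hσσ, one_mul]
            _ = _ := by ring
      · -- `x` enters away from the swapped positions
        obtain ⟨a', ha'⟩ := Fin.exists_succAbove_eq (Ne.symm hia)
        obtain ⟨b', hb'⟩ := Fin.exists_succAbove_eq (Ne.symm hib)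
        have hb'a' : (b' : ℕ) + 1 = a' := by
          have h1 := sa_val i a'
          have h2 := sa_val i b'
          rw [ha'] at h1
          rw [hb'] at h2
          split_ifs at h1 h2 <;> omega
        have hival : (i : ℕ) < b ∨ (a : ℕ) < i := by
          have h1 : (i : ℕ) ≠ a := fun h => hia (Fin.ext h)
          have h2 : (i : ℕ) ≠ b := fun h => hib (Fin.ext h)
          omega
        have hsBi : spanBefore R M e'.1 i = spanBefore R M e.1 i := by
          rcases hival with h3 | h3
          · exact hlow i h3.le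
          · exact hhigh i h3
        have he'i : e'.1 i = e.1 i := by
          rw [he', Function.comp_apply, Equiv.swap_apply_of_ne_of_ne hia hib]
        have hD' : C.x - (c : R) • e'.1 i ∈ spanBefore R M e'.1 i := by
          rw [he'i, hsBi]; exact hD
        have hS : S (⟨om C.π e.1 i, adm_om C.π C.x C.hπx e.1 e.2 i c hD⟩ : Adm R M' l) =
            - S (⟨om C.π e'.1 i, adm_om C.π C.x C.hπx e'.1 e'.2 i c hD'⟩ : Adm R M' l) := by
          apply S_c _ _ a' b' hb'a'
          · intro r hr
            show r • C.π (e.1 (i.succAbove a')) ∈ spanBefore R M' (om C.π e.1 i) b'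
            rw [← map_smul, ha']
            exact KI C.π C.x C.hπx e.1 i c hD b' (Submodule.mem_map_of_mem (by
              rw [hb']; exact h r hr))
          · show om C.π e'.1 i = om C.π e.1 i ∘ Equiv.swap a' b'
            funext j
            show C.π (e'.1 (i.succAbove j)) = C.π (e.1 (i.succAbove (Equiv.swap a' b' j)))
            rw [he', Function.comp_apply, ← ha', ← hb',
              Fin.succAbove_right_injective.swap_apply]
        rw [val_eq C e hg i c hD, val_eq C e' hg' i c hD']
        unfold cval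
        rw [hS, map_neg]
        ring
  · have hg' : ¬ Good R e'.1 := fun hg' =>
      hg (good_of_gen C.hM e.1 e.2 (hspan.symm.trans (gen_of_good C.hM e'.1 e'.2 hg')))
    rw [val_neg C e hg, val_neg C e' hg', neg_zero]

theorem exists_contract (C : Ctx R M M' l) :
    ∃ ψ : DetOfLen R M (l+1) →ₗ[ResidueField R] ResidueField R,
      ∀ e : Adm R M (l+1), Good R e.1 → ψ (S e) ≠ 0 := by
  obtain ⟨L, hL⟩ : ∃ L : Free R M (l+1) →ₗ[ResidueField R] ResidueField R,
      ∀ e, L (sym R M e) = val C e :=
    ⟨Finsupp.linearCombination (ResidueField R) (val C), fun e => by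
      unfold sym
      rw [Finsupp.linearCombination_single, one_smul]⟩
  have hker : Submodule.span (ResidueField R) (relSet R M (l+1)) ≤ LinearMap.ker L := by
    rw [Submodule.span_le]
    rintro z ((⟨e, a, ha, rfl⟩ | ⟨e, e', a, c, h1, h2, rfl⟩) | ⟨e, e', a, b, hab, h, he', rfl⟩)
    · rw [SetLike.mem_coe, LinearMap.mem_ker, hL]
      exact val_neg C e (fun hg => hg a ha)
    · rw [SetLike.mem_coe, LinearMap.mem_ker, map_sub, map_smul, hL, hL, smul_eq_mul,
        val_b C e e' a c h1 h2, sub_self]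
    · rw [SetLike.mem_coe, LinearMap.mem_ker, map_add, hL, hL, val_c C e e' a b hab h he',
        neg_add_cancel]
  refine ⟨Submodule.liftQ _ L hker, ?_⟩
  intro e hg
  show Submodule.liftQ _ L hker (Submodule.Quotient.mk (sym R M e)) ≠ 0
  rw [Submodule.liftQ_apply, hL]
  obtain ⟨i, c, hD⟩ := dat_exists C.x C.hx0 e.1 e.2 (gen_of_good C.hM e.1 e.2 hg)
  rw [val_eq C e hg i c hD]
  exact cval_ne_zero C e hg i c hD

end Dev2

theorem exists_functional (R : Type u) [CommRing R] [IsLocalRing R] :
    ∀ (l : ℕ) (M : Type v) [AddCommGroup M] [Module R M], Module.length R M = (l : ℕ∞) →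
      ∃ ψ : DetOfLen R M l →ₗ[ResidueField R] ResidueField R,
        ∀ e : Adm R M l, Good R e.1 → ψ (S e) ≠ 0 := by
  intro l
  induction l with
  | zero =>
    intro M _ _ _
    obtain ⟨L, hL⟩ : ∃ L : Free R M 0 →ₗ[ResidueField R] ResidueField R,
        ∀ e, L (sym R M e) = 1 :=
      ⟨Finsupp.linearCombination (ResidueField R) (fun _ => 1), fun e => by
        unfold sym
        rw [Finsupp.linearCombination_single, one_smul]⟩
    have hker : Submodule.span (ResidueField R) (relSet R M 0) ≤ LinearMap.ker L := by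
      rw [Submodule.span_le]
      rintro z ((⟨e, a, -⟩ | ⟨e, e', a, -⟩) | ⟨e, e', a, -⟩)
      all_goals exact a.elim0
    refine ⟨Submodule.liftQ _ L hker, fun e _ => ?_⟩
    show Submodule.liftQ _ L hker (Submodule.Quotient.mk (sym R M e)) ≠ 0
    rw [Submodule.liftQ_apply, hL]
    exact one_ne_zero
  | succ l ih =>
    intro M _ _ hM
    obtain ⟨g, hga, hgg⟩ := exists_good R (l+1) M hM
    have hx0 : g 0 ≠ 0 := by
      intro h
      apply hgg 0
      rw [h]
      exact Submodule.zero_mem _
    have hmx : ∀ r ∈ maximalIdeal R, r • g 0 = 0 := by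
      intro r hr
      have h1 := hga 0 r hr
      rw [Fin.val_zero, sB_zero] at h1
      exact (Submodule.mem_bot R).1 h1
    obtain ⟨X, hX⟩ : ∃ X : Submodule R M, X = Submodule.span R {g 0} := ⟨_, rfl⟩
    have hlenX : Module.length R ↥X = 1 := by
      have hcov : (⊥ : Submodule R M) ⋖ ⊥ ⊔ Submodule.span R {g 0} :=
        cov ⊥ (g 0) (fun r hr => by rw [hmx r hr]; exact Submodule.zero_mem _)
          (fun h => hx0 ((Submodule.mem_bot R).1 h))
      rw [bot_sup_eq, ← hX] at hcov
      rw [length_of_covBy hcov, Module.length_bot, zero_add]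
    have hlenM' : Module.length R (M ⧸ X) = (l : ℕ∞) := by
      have h1 := Module.length_eq_add_of_exact X.subtype X.mkQ (Submodule.injective_subtype _)
        (Submodule.mkQ_surjective _) (LinearMap.exact_subtype_mkQ _)
      rw [hM, hlenX, add_comm (1 : ℕ∞) (Module.length R (M ⧸ X))] at h1
      exact enat_cancel h1.symm
    obtain ⟨ψ', hψ'⟩ := ih (M ⧸ X) hlenM'
    have hπx : X.mkQ (g 0) = 0 := by
      rw [Submodule.mkQ_apply, Submodule.Quotient.mk_eq_zero, hX]
      exact Submodule.mem_span_singleton_self _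
    exact exists_contract ⟨X.mkQ, g 0, hπx, Submodule.mkQ_surjective _, hx0, hM, hlenM', ψ', hψ'⟩

end Groth.Agent.LeadCycDet
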