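import Groth.Agent.Lib.LeadCycDet2

/-!
# Determinant of a finite-length module (`CycDet`): multiplicativity in short exact sequences

Library by `lead` for S1854.  For `0 → K → L → M → 0` we build, by induction on the length of `K`
(contracting along a socle element of `K` and its image in `L`), functionals `ψK`, `ψL` which together
with a fixed functional `ψM` satisfy `ψL[f(e), lifts of ē] = ψK[e] * ψM[ē]`.  Since all three determinant
spaces are lines, this gives the isomorphism `γ`.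
-/

set_option autoImplicit false
universe u v
open CycDet TensorProduct

namespace Groth.Agent.LeadCycDet

open IsLocalRing

section Dev3

variable {R : Type u} [CommRing R] [IsLocalRing R] {M : Type v} [AddCommGroup M] [Module R M]

theorem S_of_not_good {l : ℕ} (e : Adm R M l) (h : ¬ Good R e.1) : S e = 0 := by
  unfold Good at h
  rw [not_forall] at h
  obtain ⟨a, ha⟩ := h
  exact S_zero e a (not_not.1 ha)

theorem exists_smul_eq {l : ℕ} (hl : Module.length R M = (l : ℕ∞)) (f : Adm R M l)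
    (hf : Good R f.1) : ∀ z : DetOfLen R M l, ∃ r : ResidueField R, r • S f = z := by
  intro v
  obtain ⟨z, rfl⟩ := Submodule.Quotient.mk_surjective _ v
  induction z using Finsupp.induction_linear with
  | zero => exact ⟨0, by rw [zero_smul, Submodule.Quotient.mk_zero]⟩
  | add a b ha hb =>
    obtain ⟨r, hr⟩ := ha
    obtain ⟨s, hs⟩ := hb
    exact ⟨r + s, by rw [add_smul, hr, hs, Submodule.Quotient.mk_add]⟩
  | single e c =>
    obtain ⟨d, hd⟩ := main.{u,v} R l M hl e f hf
    refine ⟨c * d, ?_⟩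
    rw [single_eq, mul_smul, ← hd]

theorem exists_equiv_of_functional {l : ℕ} (hl : Module.length R M = (l : ℕ∞))
    (ψ : DetOfLen R M l →ₗ[ResidueField R] ResidueField R)
    (hψ : ∀ e : Adm R M l, Good R e.1 → ψ (S e) ≠ 0) :
    ∃ E : DetOfLen R M l ≃ₗ[ResidueField R] ResidueField R, ∀ z, E z = ψ z := by
  obtain ⟨g, hga, hgg⟩ := exists_good R l M hl
  have hsp := exists_smul_eq hl ⟨g, hga⟩ hgg
  have hd : ψ (S ⟨g, hga⟩) ≠ 0 := hψ _ hgg
  have hinj : Function.Injective ψ := by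
    rw [← LinearMap.ker_eq_bot, eq_bot_iff]
    intro z hz
    obtain ⟨r, rfl⟩ := hsp z
    rw [LinearMap.mem_ker, map_smul, smul_eq_mul] at hz
    rcases mul_eq_zero.1 hz with h | h
    · rw [h, zero_smul]; exact Submodule.zero_mem _
    · exact absurd h hd
  have hsurj : Function.Surjective ψ := by
    intro y
    refine ⟨(y * (ψ (S ⟨g, hga⟩))⁻¹) • S ⟨g, hga⟩, ?_⟩
    rw [map_smul, smul_eq_mul, mul_assoc, inv_mul_cancel₀ hd, mul_one]
  exact ⟨LinearEquiv.ofBijective ψ ⟨hinj, hsurj⟩, fun z => rfl⟩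

/-! ### functoriality of `DetOfLen` -/

variable {N : Type v} [AddCommGroup N] [Module R N]

theorem sB_comp {l : ℕ} (φ : M →ₗ[R] N) (e : Fin l → M) (i : ℕ) :
    spanBefore R N (φ ∘ e) i = Submodule.map φ (spanBefore R M e i) := by
  unfold spanBefore
  rw [Submodule.map_span, ← Set.image_comp]

theorem adm_comp {l : ℕ} (φ : M →ₗ[R] N) (e : Fin l → M) (he : IsAdmissible R M e) :
    IsAdmissible R N (φ ∘ e) := by
  intro i r hr
  rw [sB_comp, Function.comp_apply, ← map_smul]
  exact Submodule.mem_map_of_mem (he i r hr)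

theorem exists_detMap (φ : M →ₗ[R] N) (l : ℕ) :
    ∃ Φ : DetOfLen R M l →ₗ[ResidueField R] DetOfLen R N l,
      ∀ (e : Adm R M l) (e' : Adm R N l), e'.1 = φ ∘ e.1 → Φ (S e) = S e' := by
  obtain ⟨L, hL⟩ : ∃ L : Free R M l →ₗ[ResidueField R] DetOfLen R N l,
      ∀ e, L (sym R M e) = S (⟨φ ∘ e.1, adm_comp φ e.1 e.2⟩ : Adm R N l) :=
    ⟨Finsupp.linearCombination (ResidueField R)
      (fun e => S (⟨φ ∘ e.1, adm_comp φ e.1 e.2⟩ : Adm R N l)), fun e => by
      unfold sym
      rw [Finsupp.linearCombination_single, one_smul]⟩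
  have hker : Submodule.span (ResidueField R) (relSet R M l) ≤ LinearMap.ker L := by
    rw [Submodule.span_le]
    rintro z ((⟨e, a, ha, rfl⟩ | ⟨e, e', a, c, h1, h2, rfl⟩) | ⟨e, e', a, b, hab, h, he', rfl⟩)
    · rw [SetLike.mem_coe, LinearMap.mem_ker, hL]
      apply S_zero _ a
      show φ (e.1 a) ∈ spanBefore R N (φ ∘ e.1) a
      rw [sB_comp]
      exact Submodule.mem_map_of_mem ha
    · rw [SetLike.mem_coe, LinearMap.mem_ker, map_sub, map_smul, hL, hL, sub_eq_zero]
      apply S_b _ _ a c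
      · intro j hj
        show φ (e.1 j) = φ (e'.1 j)
        rw [h1 j hj]
      · show φ (e.1 a) - (c : R) • φ (e'.1 a) ∈ spanBefore R N (φ ∘ e.1) a
        rw [sB_comp, ← map_smul, ← map_sub]
        exact Submodule.mem_map_of_mem h2
    · rw [SetLike.mem_coe, LinearMap.mem_ker, map_add, hL, hL, ← eq_neg_iff_add_eq_zero]
      apply S_c _ _ a b hab
      · intro r hr
        show r • φ (e.1 a) ∈ spanBefore R N (φ ∘ e.1) b
        rw [sB_comp, ← map_smul]
        exact Submodule.mem_map_of_mem (h r hr)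
      · show φ ∘ e'.1 = (φ ∘ e.1) ∘ Equiv.swap a b
        rw [he']
        rfl
  refine ⟨Submodule.liftQ _ L hker, ?_⟩
  intro e e' he'
  show Submodule.liftQ _ L hker (Submodule.Quotient.mk (sym R M e)) = S e'
  rw [Submodule.liftQ_apply, hL]
  exact S_congr _ _ he'.symm

/-! ### contraction with its formula -/

theorem exists_contract_formula {M' : Type v} [AddCommGroup M'] [Module R M'] {l : ℕ}
    (C : Ctx R M M' l) :
    ∃ ψ : DetOfLen R M (l+1) →ₗ[ResidueField R] ResidueField R,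
      (∀ e : Adm R M (l+1), Good R e.1 → ψ (S e) ≠ 0) ∧
      (∀ (e : Adm R M (l+1)), Good R e.1 → ∀ (i : Fin (l+1)) (c : Rˣ)
        (hD : C.x - (c : R) • e.1 i ∈ spanBefore R M e.1 i), ψ (S e) = cval C e i c hD) := by
  obtain ⟨L, hL⟩ : ∃ L : Free R M (l+1) →ₗ[ResidueField R] ResidueField R,
      ∀ e, L (sym R M e) = val C e :=
    ⟨Finsupp.linearCombination (ResidueField R) (val C), fun e => by
      unfold sym
      rw [Finsupp.linearCombination_single, one_smul]⟩
  have hker : Submodule.span (ResidueField R) (relSet R M (l+1)) ≤ LinearMap.ker L := by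
    rw [Submodule.span_le]
    rintro z ((⟨e, a, ha, rfl⟩ | ⟨e, e', a, c, h1, h2, rfl⟩) | ⟨e, e', a, b, hab, h, he', rfl⟩)
    · rw [SetLike.mem_coe, LinearMap.mem_ker, hL]
      exact val_neg C e (fun hg => hg a ha)
    · rw [SetLike.mem_coe, LinearMap.mem_ker, map_sub, map_smul, hL, hL, smul_eq_mul,
        val_b C e e' a c h1 h2, sub_self]
    · rw [SetLike.mem_coe, LinearMap.mem_ker, map_add, hL, hL, val_c C e e' a b hab h he',
        neg_add_cancel]
  refine ⟨Submodule.liftQ _ L hker, ?_, ?_⟩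
  · intro e hg
    show Submodule.liftQ _ L hker (Submodule.Quotient.mk (sym R M e)) ≠ 0
    rw [Submodule.liftQ_apply, hL]
    obtain ⟨i, c, hD⟩ := dat_exists C.x C.hx0 e.1 e.2 (gen_of_good C.hM e.1 e.2 hg)
    rw [val_eq C e hg i c hD]
    exact cval_ne_zero C e hg i c hD
  · intro e hg i c hD
    show Submodule.liftQ _ L hker (Submodule.Quotient.mk (sym R M e)) = _
    rw [Submodule.liftQ_apply, hL]
    exact val_eq C e hg i c hD

theorem length_quot_socle {l : ℕ} (hM : Module.length R M = ((l + 1 : ℕ) : ℕ∞)) (x : M)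
    (hx0 : x ≠ 0) (hmx : ∀ r ∈ maximalIdeal R, r • x = 0) :
    Module.length R (M ⧸ Submodule.span R {x}) = (l : ℕ∞) := by
  obtain ⟨X, hX⟩ : ∃ X : Submodule R M, X = Submodule.span R {x} := ⟨_, rfl⟩
  rw [← hX]
  have hlenX : Module.length R ↥X = 1 := by
    have hcov : (⊥ : Submodule R M) ⋖ ⊥ ⊔ Submodule.span R {x} :=
      cov ⊥ x (fun r hr => by rw [hmx r hr]; exact Submodule.zero_mem _)
        (fun h => hx0 ((Submodule.mem_bot R).1 h))
    rw [bot_sup_eq, ← hX] at hcov
    rw [length_of_covBy hcov, Module.length_bot, zero_add]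
  have h1 := Module.length_eq_add_of_exact X.subtype X.mkQ (Submodule.injective_subtype _)
    (Submodule.mkQ_surjective _) (LinearMap.exact_subtype_mkQ _)
  rw [hM, hlenX, add_comm (1 : ℕ∞) (Module.length R (M ⧸ X))] at h1
  exact enat_cancel h1.symm

theorem mkQ_self (x : M) : (Submodule.span R {x}).mkQ x = 0 := by
  rw [Submodule.mkQ_apply, Submodule.Quotient.mk_eq_zero]
  exact Submodule.mem_span_singleton_self x

/-- the context for contracting along a socle element -/
noncomputable def mkCtx {l : ℕ} (hM : Module.length R M = ((l + 1 : ℕ) : ℕ∞)) (x : M)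
    (hx0 : x ≠ 0) (hmx : ∀ r ∈ maximalIdeal R, r • x = 0)
    (ψ' : DetOfLen R (M ⧸ Submodule.span R {x}) l →ₗ[ResidueField R] ResidueField R)
    (hψ' : ∀ t : Adm R (M ⧸ Submodule.span R {x}) l, Good R t.1 → ψ' (S t) ≠ 0) :
    Ctx R M (M ⧸ Submodule.span R {x}) l :=
  ⟨(Submodule.span R {x}).mkQ, x, mkQ_self x, Submodule.mkQ_surjective _, hx0, hM,
    length_quot_socle hM x hx0 hmx, ψ', hψ'⟩

/-! ### the quotient short exact sequence -/

section Quot

variable {K L : Type v} [AddCommGroup K] [Module R K] [AddCommGroup L] [Module R L]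
  (f : K →ₗ[R] L) (g : L →ₗ[R] M) (x : K)

theorem le_comap_span : Submodule.span R {x} ≤ Submodule.comap f (Submodule.span R {f x}) := by
  rw [Submodule.span_le]
  intro z hz
  rw [Set.mem_singleton_iff] at hz
  rw [hz]
  exact Submodule.subset_span (Set.mem_singleton _)

theorem span_le_ker (hfg : LinearMap.range f = LinearMap.ker g) :
    Submodule.span R {f x} ≤ LinearMap.ker g := by
  rw [Submodule.span_le]
  intro z hz
  rw [Set.mem_singleton_iff] at hz
  rw [hz, ← hfg]
  exact LinearMap.mem_range_self f x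

/-- induced map on quotients -/
noncomputable def fq : (K ⧸ Submodule.span R {x}) →ₗ[R] (L ⧸ Submodule.span R {f x}) :=
  Submodule.mapQ _ _ f (le_comap_span f x)

/-- induced map from the quotient -/
noncomputable def gq (hfg : LinearMap.range f = LinearMap.ker g) :
    (L ⧸ Submodule.span R {f x}) →ₗ[R] M :=
  Submodule.liftQ _ g (span_le_ker f g x hfg)

theorem fq_mk (k : K) : fq f x ((Submodule.span R {x}).mkQ k) = (Submodule.span R {f x}).mkQ (f k) := by
  unfold fq
  rw [Submodule.mkQ_apply, Submodule.mkQ_apply, Submodule.mapQ_apply]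

theorem gq_mk (hfg : LinearMap.range f = LinearMap.ker g) (y : L) :
    gq f g x hfg ((Submodule.span R {f x}).mkQ y) = g y := by
  unfold gq
  rw [Submodule.mkQ_apply, Submodule.liftQ_apply]

theorem fq_injective (hf : Function.Injective f) : Function.Injective (fq f x) := by
  rw [← LinearMap.ker_eq_bot, eq_bot_iff]
  intro z hz
  obtain ⟨k, rfl⟩ := Submodule.mkQ_surjective _ z
  rw [LinearMap.mem_ker, fq_mk, Submodule.mkQ_apply, Submodule.Quotient.mk_eq_zero] at hz
  obtain ⟨r, hr⟩ := Submodule.mem_span_singleton.1 hz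
  have hk : k = r • x := hf (by rw [map_smul, hr])
  rw [Submodule.mem_bot, Submodule.mkQ_apply, Submodule.Quotient.mk_eq_zero, hk]
  exact Submodule.smul_mem _ _ (Submodule.mem_span_singleton_self x)

theorem gq_surjective (hfg : LinearMap.range f = LinearMap.ker g) (hg : Function.Surjective g) :
    Function.Surjective (gq f g x hfg) := by
  intro m
  obtain ⟨y, rfl⟩ := hg m
  exact ⟨(Submodule.span R {f x}).mkQ y, gq_mk f g x hfg y⟩

theorem range_fq (hfg : LinearMap.range f = LinearMap.ker g) :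
    LinearMap.range (fq f x) = LinearMap.ker (gq f g x hfg) := by
  ext z
  obtain ⟨y, rfl⟩ := Submodule.mkQ_surjective _ z
  constructor
  · rintro ⟨w, hw⟩
    obtain ⟨k, rfl⟩ := Submodule.mkQ_surjective _ w
    rw [fq_mk] at hw
    rw [← hw, LinearMap.mem_ker, gq_mk]
    have h1 : f k ∈ LinearMap.ker g := by rw [← hfg]; exact LinearMap.mem_range_self f k
    exact h1
  · intro hz
    rw [LinearMap.mem_ker, gq_mk] at hz
    have hy : y ∈ LinearMap.range f := by rw [hfg]; exact hz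
    obtain ⟨k, rfl⟩ := hy
    exact ⟨(Submodule.span R {x}).mkQ k, fq_mk f x k⟩

end Quot


/-! ### generation in a short exact sequence -/

section Gen

variable {K L : Type v} [AddCommGroup K] [Module R K] [AddCommGroup L] [Module R L]

theorem gen_L_of_gen (f : K →ₗ[R] L) (g : L →ₗ[R] M)
    (hfg : LinearMap.range f = LinearMap.ker g) (a b n : ℕ) (hn : n = a + b)
    (eK : Fin a → K) (eM : Fin b → M) (eL : Fin n → L)
    (hV1 : ∀ (i : Fin a) (h : (i : ℕ) < n), eL ⟨i, h⟩ = f (eK i))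
    (hV2 : ∀ (j : Fin b) (h : a + (j : ℕ) < n), g (eL ⟨a + j, h⟩) = eM j)
    (hgK : Submodule.span R (Set.range eK) = ⊤) (hgM : Submodule.span R (Set.range eM) = ⊤) :
    Submodule.span R (Set.range eL) = ⊤ := by
  obtain ⟨P, hP⟩ : ∃ P : Submodule R L, P = Submodule.span R (Set.range eL) := ⟨_, rfl⟩
  rw [← hP]
  have hfK : LinearMap.range f ≤ P := by
    rw [← Submodule.map_top, ← hgK, Submodule.map_span, Submodule.span_le]
    rintro _ ⟨_, ⟨i, rfl⟩, rfl⟩
    have hi : (i : ℕ) < n := by have := i.2; omega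
    rw [← hV1 i hi, hP]
    exact Submodule.subset_span ⟨_, rfl⟩
  have hM : (⊤ : Submodule R M) ≤ Submodule.map g P := by
    rw [← hgM, Submodule.span_le]
    rintro _ ⟨j, rfl⟩
    have hj : a + (j : ℕ) < n := by have := j.2; omega
    exact ⟨eL ⟨a + j, hj⟩, by rw [hP]; exact Submodule.subset_span ⟨_, rfl⟩, hV2 j hj⟩
  rw [eq_top_iff]
  intro y _
  obtain ⟨p, hp, hpy⟩ := hM (Submodule.mem_top : g y ∈ ⊤)
  have h1 : y - p ∈ LinearMap.ker g := by rw [LinearMap.mem_ker, map_sub, hpy, sub_self]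
  rw [← hfg] at h1
  have h2 := P.add_mem (hfK h1) hp
  rwa [sub_add_cancel] at h2

theorem gen_M_of_gen (f : K →ₗ[R] L) (g : L →ₗ[R] M) (hg : Function.Surjective g)
    (hfg : LinearMap.range f = LinearMap.ker g) (a b n : ℕ) (hn : n = a + b)
    (eK : Fin a → K) (eM : Fin b → M) (eL : Fin n → L)
    (hV1 : ∀ (i : Fin a) (h : (i : ℕ) < n), eL ⟨i, h⟩ = f (eK i))
    (hV2 : ∀ (j : Fin b) (h : a + (j : ℕ) < n), g (eL ⟨a + j, h⟩) = eM j)
    (hgL : Submodule.span R (Set.range eL) = ⊤) :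
    Submodule.span R (Set.range eM) = ⊤ := by
  rw [eq_top_iff, ← LinearMap.range_eq_top.2 hg, ← Submodule.map_top, ← hgL, Submodule.map_span,
    Submodule.span_le]
  rintro _ ⟨_, ⟨k, rfl⟩, rfl⟩
  by_cases hk : (k : ℕ) < a
  · have h1 : eL k = f (eK ⟨k, hk⟩) := hV1 ⟨k, hk⟩ k.2
    have h0 : g (f (eK ⟨k, hk⟩)) = 0 := by
      have h2 : f (eK ⟨k, hk⟩) ∈ LinearMap.ker g := by
        rw [← hfg]; exact LinearMap.mem_range_self f _
      exact h2
    rw [SetLike.mem_coe, h1, h0]
    exact Submodule.zero_mem _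
  · have hkb : (k : ℕ) - a < b := by have := k.2; omega
    have hh : a + ((⟨(k : ℕ) - a, hkb⟩ : Fin b) : ℕ) < n := by
      show a + ((k : ℕ) - a) < n
      have := k.2; omega
    have h3 := hV2 ⟨(k : ℕ) - a, hkb⟩ hh
    have h2 : k = ⟨a + ((⟨(k : ℕ) - a, hkb⟩ : Fin b) : ℕ), hh⟩ :=
      Fin.ext (by show (k : ℕ) = a + ((k : ℕ) - a); omega)
    have h4 : eL k = eL ⟨a + ((⟨(k : ℕ) - a, hkb⟩ : Fin b) : ℕ), hh⟩ := congrArg eL h2
    rw [SetLike.mem_coe, h4, h3]
    exact Submodule.subset_span ⟨_, rfl⟩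

end Gen

end Dev3

/-! ### compatible functionals -/

theorem compat_functionals (R : Type u) [CommRing R] [IsLocalRing R] (M : Type v) [AddCommGroup M]
    [Module R M] (b : ℕ) (hMb : Module.length R M = (b : ℕ∞))
    (ψM : DetOfLen R M b →ₗ[ResidueField R] ResidueField R)
    (hψM : ∀ t : Adm R M b, Good R t.1 → ψM (S t) ≠ 0) :
    ∀ (a n : ℕ), n = a + b → ∀ (K L : Type v) [AddCommGroup K] [Module R K] [AddCommGroup L]
      [Module R L] (f : K →ₗ[R] L) (g : L →ₗ[R] M), Function.Injective f → Function.Surjective g →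
      LinearMap.range f = LinearMap.ker g → Module.length R K = (a : ℕ∞) →
      Module.length R L = (n : ℕ∞) →
      ∃ (ψK : DetOfLen R K a →ₗ[ResidueField R] ResidueField R)
        (ψL : DetOfLen R L n →ₗ[ResidueField R] ResidueField R),
        (∀ e : Adm R K a, Good R e.1 → ψK (S e) ≠ 0) ∧
        (∀ e : Adm R L n, Good R e.1 → ψL (S e) ≠ 0) ∧
        ∀ (eK : Adm R K a) (eM : Adm R M b) (eL : Adm R L n), Good R eK.1 → Good R eM.1 →
          Good R eL.1 → (∀ (i : Fin a) (h : (i : ℕ) < n), eL.1 ⟨i, h⟩ = f (eK.1 i)) →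
          (∀ (j : Fin b) (h : a + (j : ℕ) < n), g (eL.1 ⟨a + j, h⟩) = eM.1 j) →
          ψL (S eL) = ψK (S eK) * ψM (S eM) := by
  intro a
  induction a with
  | zero =>
    intro n hn K L _ _ _ _ f g hf hg hfg hK hL
    obtain rfl : n = b := by omega
    obtain ⟨ψK, hψK⟩ := exists_functional R 0 K hK
    obtain ⟨Φ, hΦ⟩ := exists_detMap g n
    obtain ⟨e0, -⟩ : ∃ e0 : Adm R K 0, True :=
      ⟨⟨fun i => i.elim0, fun i => i.elim0⟩, trivial⟩
    have hall : ∀ e : Adm R K 0, S e = S e0 := fun e => S_congr e e0 (funext fun i => i.elim0)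
    have hd : ψK (S e0) ≠ 0 := hψK e0 (fun i => i.elim0)
    have hgood : ∀ eL : Adm R L n, Good R eL.1 → Good R (g ∘ eL.1) := by
      intro eL hgL
      apply good_of_gen hMb _ (adm_comp g eL.1 eL.2)
      rw [Set.range_comp, ← Submodule.map_span, gen_of_good hL eL.1 eL.2 hgL, Submodule.map_top,
        LinearMap.range_eq_top.2 hg]
    refine ⟨ψK, ψK (S e0) • (ψM ∘ₗ Φ), hψK, ?_, ?_⟩
    · intro eL hgL
      rw [LinearMap.smul_apply, LinearMap.comp_apply,
        hΦ eL ⟨g ∘ eL.1, adm_comp g eL.1 eL.2⟩ rfl, smul_eq_mul]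
      exact mul_ne_zero hd (hψM _ (hgood eL hgL))
    · intro eK eM eL _ _ _ _ hV2
      have heM : eM.1 = g ∘ eL.1 := by
        funext j
        have hj : 0 + (j : ℕ) < n := by have := j.2; omega
        rw [← hV2 j hj]
        exact congrArg (fun t => g (eL.1 t)) (Fin.ext (Nat.zero_add _))
      rw [LinearMap.smul_apply, LinearMap.comp_apply, hΦ eL eM heM, smul_eq_mul, hall eK]
  | succ a ih =>
    intro n hn K L _ _ _ _ f g hf hg hfg hK hL
    obtain ⟨n', rfl⟩ : ∃ n', n = n' + 1 := ⟨a + b, by omega⟩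
    have hn' : n' = a + b := by omega
    obtain ⟨gK, hgKa, hgKg⟩ := exists_good R (a+1) K hK
    obtain ⟨x, hx⟩ : ∃ x : K, x = gK 0 := ⟨_, rfl⟩
    have hx0 : x ≠ 0 := by
      rw [hx]
      intro h
      apply hgKg 0
      rw [h]
      exact Submodule.zero_mem _
    have hmx : ∀ r ∈ maximalIdeal R, r • x = 0 := by
      intro r hr
      have h1 := hgKa 0 r hr
      rw [Fin.val_zero, sB_zero] at h1
      rw [hx]
      exact (Submodule.mem_bot R).1 h1
    have hfx0 : f x ≠ 0 := fun h => hx0 (hf (by rw [h, map_zero]))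
    have hmfx : ∀ r ∈ maximalIdeal R, r • f x = 0 := by
      intro r hr
      rw [← map_smul, hmx r hr, map_zero]
    have hlenK' := length_quot_socle hK x hx0 hmx
    have hlenL' := length_quot_socle hL (f x) hfx0 hmfx
    obtain ⟨ψK', ψL', hK', hL', hmul'⟩ := ih n' hn' (K ⧸ Submodule.span R {x})
      (L ⧸ Submodule.span R {f x}) (fq f x) (gq f g x hfg) (fq_injective f x hf)
      (gq_surjective f g x hfg hg) (range_fq f g x hfg) hlenK' hlenL'
    obtain ⟨ψK, hψK1, hψK2⟩ := exists_contract_formula (mkCtx hK x hx0 hmx ψK' hK')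
    obtain ⟨ψL, hψL1, hψL2⟩ := exists_contract_formula (mkCtx hL (f x) hfx0 hmfx ψL' hL')
    refine ⟨ψK, ψL, hψK1, hψL1, ?_⟩
    intro eK eM eL hgK hgM hgL hV1 hV2
    obtain ⟨i, c, hD⟩ := dat_exists x hx0 eK.1 eK.2 (gen_of_good hK eK.1 eK.2 hgK)
    obtain ⟨iL, hiL⟩ : ∃ iL : Fin (n'+1), (iL : ℕ) = i :=
      ⟨⟨i, by have := i.2; omega⟩, rfl⟩
    have hMF : ∀ j' : ℕ, Submodule.map f (spanBefore R K eK.1 j') ≤ spanBefore R L eL.1 j' := by
      intro j'
      rw [show spanBefore R K eK.1 j' =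
        Submodule.span R (eK.1 '' {k : Fin (a+1) | (k : ℕ) < j'}) from rfl,
        Submodule.map_span, Submodule.span_le]
      rintro _ ⟨_, ⟨k, hk, rfl⟩, rfl⟩
      have hk' : (k : ℕ) < j' := hk
      have hkn : (k : ℕ) < n' + 1 := by have := k.2; omega
      rw [← hV1 k hkn]
      exact mem_sB R eL.1 ⟨k, hkn⟩ j' hk'
    have heLi : eL.1 iL = f (eK.1 i) := by
      have hin : (i : ℕ) < n' + 1 := by have := i.2; omega
      rw [← hV1 i hin]
      exact congrArg eL.1 (Fin.ext hiL)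
    have hDL : f x - (c : R) • eL.1 iL ∈ spanBefore R L eL.1 iL := by
      rw [heLi, hiL, ← map_smul, ← map_sub]
      exact hMF i (Submodule.mem_map_of_mem hD)
    have hadmK : IsAdmissible R (K ⧸ Submodule.span R {x})
        (om (Submodule.span R {x}).mkQ eK.1 i) :=
      adm_om _ x (mkQ_self x) eK.1 eK.2 i c hD
    have hadmL : IsAdmissible R (L ⧸ Submodule.span R {f x})
        (om (Submodule.span R {f x}).mkQ eL.1 iL) :=
      adm_om _ (f x) (mkQ_self (f x)) eL.1 eL.2 iL c hDL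
    have hgtK : Good R (om (Submodule.span R {x}).mkQ eK.1 i) :=
      good_of_gen hlenK' _ hadmK (gen_om _ x (mkQ_self x) (Submodule.mkQ_surjective _) eK.1
        (gen_of_good hK eK.1 eK.2 hgK) i c hD)
    have hgtL : Good R (om (Submodule.span R {f x}).mkQ eL.1 iL) :=
      good_of_gen hlenL' _ hadmL (gen_om _ (f x) (mkQ_self (f x)) (Submodule.mkQ_surjective _)
        eL.1 (gen_of_good hL eL.1 eL.2 hgL) iL c hDL)
    have hV1' : ∀ (i' : Fin a) (h : (i' : ℕ) < n'),
        om (Submodule.span R {f x}).mkQ eL.1 iL ⟨i', h⟩ =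
          fq f x (om (Submodule.span R {x}).mkQ eK.1 i i') := by
      intro i' h
      have hlt : ((i.succAbove i' : Fin (a+1)) : ℕ) < n' + 1 := by
        have := (i.succAbove i').2; omega
      have hidx : iL.succAbove ⟨i', h⟩ = ⟨(i.succAbove i' : Fin (a+1)), hlt⟩ :=
        Fin.ext (by
          show ((iL.succAbove ⟨i', h⟩ : Fin (n'+1)) : ℕ) = ((i.succAbove i' : Fin (a+1)) : ℕ)
          rw [sa_val, sa_val, hiL])
      show (Submodule.span R {f x}).mkQ (eL.1 (iL.succAbove ⟨i', h⟩)) =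
        fq f x ((Submodule.span R {x}).mkQ (eK.1 (i.succAbove i')))
      rw [fq_mk, hidx, hV1 (i.succAbove i') hlt]
    have hV2' : ∀ (j : Fin b) (h : a + (j : ℕ) < n'),
        gq f g x hfg (om (Submodule.span R {f x}).mkQ eL.1 iL ⟨a + j, h⟩) = eM.1 j := by
      intro j h
      have hlt2 : a + 1 + (j : ℕ) < n' + 1 := by omega
      have hidx2 : iL.succAbove ⟨a + j, h⟩ = ⟨a + 1 + j, hlt2⟩ :=
        Fin.ext (by
          show ((iL.succAbove ⟨a + j, h⟩ : Fin (n'+1)) : ℕ) = a + 1 + j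
          rw [sa_val, hiL]
          show (if a + (j : ℕ) < (i : ℕ) then a + (j : ℕ) else a + (j : ℕ) + 1) = a + 1 + j
          have := i.2
          split_ifs <;> omega)
      show gq f g x hfg ((Submodule.span R {f x}).mkQ (eL.1 (iL.succAbove ⟨a + j, h⟩))) = eM.1 j
      rw [gq_mk, hidx2]
      exact hV2 j hlt2
    rw [hψL2 eL hgL iL c hDL, hψK2 eK hgK i c hD]
    show (-1 : ResidueField R) ^ (iL : ℕ) * (residue R (c : R))⁻¹ *
        ψL' (S ⟨om (Submodule.span R {f x}).mkQ eL.1 iL, hadmL⟩) =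
      (-1 : ResidueField R) ^ (i : ℕ) * (residue R (c : R))⁻¹ *
        ψK' (S ⟨om (Submodule.span R {x}).mkQ eK.1 i, hadmK⟩) * ψM (S eM)
    rw [hmul' ⟨_, hadmK⟩ eM ⟨_, hadmL⟩ hgtK hgM hgtL hV1' hV2', hiL]
    ring

/-! ### the isomorphism `γ` -/

theorem exists_gamma (R : Type u) [CommRing R] [IsLocalRing R] (K L M : Type v) [AddCommGroup K]
    [Module R K] [AddCommGroup L] [Module R L] [AddCommGroup M] [Module R M]
    (f : K →ₗ[R] L) (g : L →ₗ[R] M) (hf : Function.Injective f) (hg : Function.Surjective g)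
    (hfg : LinearMap.range f = LinearMap.ker g) (a b n : ℕ) (hn : n = a + b)
    (hK : Module.length R K = (a : ℕ∞)) (hM : Module.length R M = (b : ℕ∞))
    (hL : Module.length R L = (n : ℕ∞)) :
    ∃ γ : (DetOfLen R K a ⊗[ResidueField R] DetOfLen R M b) ≃ₗ[ResidueField R] DetOfLen R L n,
      ∀ (eK : Adm R K a) (eM : Adm R M b) (eL : Adm R L n), S eK ≠ 0 →
        (∀ (i : Fin a) (h : (i : ℕ) < n), eL.1 ⟨i, h⟩ = f (eK.1 i)) →
        (∀ (j : Fin b) (h : a + (j : ℕ) < n), g (eL.1 ⟨a + j, h⟩) = eM.1 j) →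
        γ (S eK ⊗ₜ[ResidueField R] S eM) = S eL := by
  obtain ⟨ψM, hψM⟩ := exists_functional R b M hM
  obtain ⟨ψK, ψL, hψK, hψL, hmul⟩ :=
    compat_functionals R M b hM ψM hψM a n hn K L f g hf hg hfg hK hL
  obtain ⟨EK, hEK⟩ := exists_equiv_of_functional hK ψK hψK
  obtain ⟨EM, hEM⟩ := exists_equiv_of_functional hM ψM hψM
  obtain ⟨EL, hEL⟩ := exists_equiv_of_functional hL ψL hψL
  refine ⟨(TensorProduct.congr EK EM).trans
    ((TensorProduct.lid (ResidueField R) (ResidueField R)).trans EL.symm), ?_⟩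
  intro eK eM eL h0 hV1 hV2
  have hgK : Good R eK.1 := by
    by_contra hng
    exact h0 (S_of_not_good eK hng)
  rw [LinearEquiv.trans_apply, LinearEquiv.trans_apply, TensorProduct.congr_tmul,
    TensorProduct.lid_tmul, hEK, hEM, smul_eq_mul, LinearEquiv.symm_apply_eq, hEL]
  by_cases hgM : Good R eM.1
  · have hgL : Good R eL.1 := good_of_gen hL eL.1 eL.2
      (gen_L_of_gen f g hfg a b n hn eK.1 eM.1 eL.1 hV1 hV2 (gen_of_good hK eK.1 eK.2 hgK)
        (gen_of_good hM eM.1 eM.2 hgM))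
    exact (hmul eK eM eL hgK hgM hgL hV1 hV2).symm
  · have hgL : ¬ Good R eL.1 := fun h => hgM (good_of_gen hM eM.1 eM.2
      (gen_M_of_gen f g hg hfg a b n hn eK.1 eM.1 eL.1 hV1 hV2 (gen_of_good hL eL.1 eL.2 h)))
    rw [S_of_not_good eM hgM, S_of_not_good eL hgL, map_zero, map_zero, mul_zero]

end Groth.Agent.LeadCycDet
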