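import Mathlib
import Groth.Agent.Lib.Helper6ReducedSmooth
import Groth.Prelude.Def_Omega4

/-!
# The derivation of a smooth proper scheme over a field kills global functions (lead)

Namespace `Groth.Agent.Lib.LeadDGlob`.

* `separable_minpoly_of_isGeometricallyReduced`: in a geometrically reduced algebra over a field, every
  integral element has a separable minimal polynomial.
* `isGeometricallyReduced_of_smooth`: a smooth algebra over a field is geometrically reduced.
* `isGeometricallyReduced_pi`: finite products of geometrically reduced algebras are geometrically reduced.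
* `derivation_eq_zero_of_separable`: a derivation kills every element with separable minimal polynomial.
* `main_S15533`.
-/

set_option autoImplicit false
set_option maxHeartbeats 400000
set_option linter.style.haveILetI false
set_option linter.unusedSectionVars false
set_option linter.unusedVariables false

universe u

open CategoryTheory AlgebraicGeometry TensorProduct Opposite TopologicalSpace

namespace Groth.Agent.Lib.LeadDGlob

theorem separable_minpoly_of_isGeometricallyReduced (k B : Type u) [Field k] [CommRing B]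
    [Algebra k B] [Algebra.IsGeometricallyReduced k B] (s : B) (hs : IsIntegral k s) :
    (minpoly k s).Separable := by
  classical
  obtain ⟨L, hL⟩ : ∃ L : Type u, L = AlgebraicClosure k := ⟨_, rfl⟩
  subst hL
  haveI : IsReduced (AlgebraicClosure k ⊗[k] B) := inferInstance
  obtain ⟨t, ht⟩ : ∃ t : AlgebraicClosure k ⊗[k] B, t = (1 : AlgebraicClosure k) ⊗ₜ[k] s := ⟨_, rfl⟩
  have ht' : t = (Algebra.TensorProduct.includeRight : B →ₐ[k] AlgebraicClosure k ⊗[k] B) s := by
    rw [ht]; rfl
  have ht0 : Polynomial.aeval t ((minpoly k s).map (algebraMap k (AlgebraicClosure k))) = 0 := by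
    rw [Polynomial.aeval_map_algebraMap, ht', Polynomial.aeval_algHom_apply, minpoly.aeval, map_zero]
  have htint : IsIntegral (AlgebraicClosure k) t :=
    ⟨(minpoly k s).map (algebraMap k (AlgebraicClosure k)), (minpoly.monic hs).map _, by
      rw [← Polynomial.aeval_def]; exact ht0⟩
  have hMdvd : minpoly (AlgebraicClosure k) t ∣
      (minpoly k s).map (algebraMap k (AlgebraicClosure k)) := minpoly.dvd _ t ht0
  have hMrad : IsRadical (minpoly (AlgebraicClosure k) t) := minpoly.isRadical _ t
  have hMmonic : (minpoly (AlgebraicClosure k) t).Monic := minpoly.monic htint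
  have hdeg : (minpoly k s).natDegree ≤ (minpoly (AlgebraicClosure k) t).natDegree := by
    by_contra hlt
    rw [not_le] at hlt
    have hli : LinearIndependent (AlgebraicClosure k)
        (fun i : Fin (minpoly k s).natDegree => (1 : AlgebraicClosure k) ⊗ₜ[k] (s ^ (i : ℕ))) :=
      Module.Flat.linearIndependent_one_tmul (S := AlgebraicClosure k) (linearIndependent_pow s)
    have h0 : Polynomial.aeval t (minpoly (AlgebraicClosure k) t) = 0 := minpoly.aeval _ t
    rw [Polynomial.aeval_eq_sum_range' hlt, Finset.sum_range] at h0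
    have h1 : ∑ i : Fin (minpoly k s).natDegree,
        (minpoly (AlgebraicClosure k) t).coeff i • ((1 : AlgebraicClosure k) ⊗ₜ[k] (s ^ (i : ℕ))) = 0 := by
      rw [← h0]
      refine Finset.sum_congr rfl fun i _ => ?_
      rw [ht, Algebra.TensorProduct.tmul_pow, one_pow]
    have h2 := Fintype.linearIndependent_iff.1 hli
      (fun i => (minpoly (AlgebraicClosure k) t).coeff i) h1
      ⟨(minpoly (AlgebraicClosure k) t).natDegree, hlt⟩
    rw [Polynomial.Monic.coeff_natDegree hMmonic] at h2
    exact one_ne_zero h2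
  have heq : (minpoly k s).map (algebraMap k (AlgebraicClosure k)) =
      minpoly (AlgebraicClosure k) t :=
    Polynomial.eq_of_monic_of_dvd_of_natDegree_le hMmonic ((minpoly.monic hs).map _) hMdvd
      (by rw [Polynomial.natDegree_map]; exact hdeg)
  have hsq : Squarefree ((minpoly k s).map (algebraMap k (AlgebraicClosure k))) := by
    rw [heq]
    exact hMrad.squarefree hMmonic.ne_zero
  have hsepL : ((minpoly k s).map (algebraMap k (AlgebraicClosure k))).Separable :=
    PerfectField.separable_iff_squarefree.2 hsq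
  exact (Polynomial.separable_map (algebraMap k (AlgebraicClosure k))).1 hsepL

theorem isGeometricallyReduced_of_smooth (k A : Type u) [Field k] [CommRing A] [Algebra k A]
    [Algebra.Smooth k A] : Algebra.IsGeometricallyReduced k A := by
  rw [Algebra.isGeometricallyReduced_field_iff]
  haveI : Algebra.Smooth (AlgebraicClosure k) (AlgebraicClosure k ⊗[k] A) := inferInstance
  exact Groth.Agent.Lib.Helper6.isReduced_of_smooth (AlgebraicClosure k)
    (AlgebraicClosure k ⊗[k] A)

theorem isGeometricallyReduced_pi (k : Type u) [Field k] {ι : Type u} [Finite ι]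
    (A : ι → Type u) [∀ i, CommRing (A i)] [∀ i, Algebra k (A i)]
    [∀ i, Algebra.IsGeometricallyReduced k (A i)] :
    Algebra.IsGeometricallyReduced k (∀ i, A i) := by
  classical
  haveI := Fintype.ofFinite ι
  rw [Algebra.isGeometricallyReduced_field_iff]
  haveI : ∀ i, IsReduced (AlgebraicClosure k ⊗[k] A i) := fun i =>
    (Algebra.isGeometricallyReduced_field_iff k (A i)).1 inferInstance
  exact isReduced_of_injective
    (Algebra.TensorProduct.piRight k (AlgebraicClosure k) (AlgebraicClosure k) A)
    (Algebra.TensorProduct.piRight k (AlgebraicClosure k) (AlgebraicClosure k) A).injective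

theorem derivation_eq_zero_of_separable {k B M : Type*} [Field k] [CommRing B] [Algebra k B]
    [AddCommGroup M] [Module B M] [Module k M] [IsScalarTower k B M]
    (D : Derivation k B M) (s : B) (hsep : (minpoly k s).Separable) : D s = 0 := by
  have h0 : D (Polynomial.aeval s (minpoly k s)) = 0 := by rw [minpoly.aeval, map_zero]
  rw [Derivation.map_aeval] at h0
  obtain ⟨a, b, hab⟩ := hsep
  have h1 : Polynomial.aeval s b * Polynomial.aeval s (Polynomial.derivative (minpoly k s)) = 1 := by
    have := congrArg (Polynomial.aeval s) hab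
    simpa [minpoly.aeval] using this
  calc D s = (1 : B) • D s := (one_smul _ _).symm
    _ = 0 := by rw [← h1, mul_smul, h0, smul_zero]

theorem main_S15533 (k : Type u) [Field k] (X : Scheme.{u})
    (f : X ⟶ Spec (CommRingCat.of k)) [IsProper f] [Smooth f] (s : Γ(X, ⊤)) :
    (OmegaSh.dOmega f).app ⊤ s = 0 := by
  classical
  haveI : CompactSpace X := (quasiCompact_iff_compactSpace f).mp inferInstance
  have hle : ∀ U : X.Opens, U ≤ f ⁻¹ᵁ ⊤ := fun U => by simp
  have hres : ∀ (U : X.Opens), f.appTop ≫ X.presheaf.map (homOfLE (le_top : U ≤ ⊤)).op =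
      f.appLE ⊤ U (hle U) := fun U => rfl
  -- the `k`-algebra structure on global functions
  obtain ⟨F, hF⟩ : ∃ F : CommRingCat.of k ⟶ Γ(X, ⊤),
      F = (Scheme.ΓSpecIso (CommRingCat.of k)).inv ≫ f.appTop := ⟨_, rfl⟩
  letI algB : Algebra k Γ(X, ⊤) := F.hom.toAlgebra
  have hint : F.hom.IsIntegral := by
    rw [hF]
    apply RingHom.isIntegral_respectsIso.2
      (e := (Scheme.ΓSpecIso (CommRingCat.of k)).symm.commRingCatIsoToRingEquiv)
    exact isIntegral_appTop_of_universallyClosed f
  have hs : IsIntegral k s := hint s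
  -- a finite affine cover
  obtain ⟨t, ht⟩ := isCompact_univ.elim_finite_subcover
    (fun U : X.affineOpens => ((U : X.Opens) : Set X)) (fun U => U.1.2) (by
      intro x _
      obtain ⟨_, ⟨U, hU, rfl⟩, hxU, -⟩ :=
        X.isBasis_affineOpens.exists_subset_of_mem_open (Set.mem_univ x) isOpen_univ
      exact Set.mem_iUnion.2 ⟨⟨U, hU⟩, hxU⟩)
  obtain ⟨G, hG⟩ : ∃ G : ∀ i : t, CommRingCat.of k ⟶ Γ(X, (i.1 : X.Opens)),
      G = fun i : t => (Scheme.ΓSpecIso (CommRingCat.of k)).inv ≫ f.appLE ⊤ (i.1 : X.Opens) (hle _) :=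
    ⟨_, rfl⟩
  have hFG : ∀ i : t, F ≫ X.presheaf.map (homOfLE (le_top : (i.1 : X.Opens) ≤ ⊤)).op = G i := by
    intro i
    rw [hF, hG, Category.assoc, hres]
  letI algA : ∀ i : t, Algebra k Γ(X, (i.1 : X.Opens)) := fun i => (G i).hom.toAlgebra
  haveI smA : ∀ i : t, Algebra.Smooth k Γ(X, (i.1 : X.Opens)) := fun i => by
    have h1 : (f.appLE ⊤ (i.1 : X.Opens) (hle _)).hom.Smooth :=
      f.smooth_appLE (isAffineOpen_top _) i.1.2 (hle _)
    have h2 : ((Scheme.ΓSpecIso (CommRingCat.of k)).inv).hom.Smooth :=
      RingHom.Smooth.of_bijective (ConcreteCategory.bijective_of_isIso _)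
    have h3 := h2.comp h1
    have h4 : (G i).hom = (f.appLE ⊤ (i.1 : X.Opens) (hle _)).hom.comp
        ((Scheme.ΓSpecIso (CommRingCat.of k)).inv).hom := by rw [hG]; rfl
    change (G i).hom.Smooth
    rw [h4]; exact h3
  haveI grA : ∀ i : t, Algebra.IsGeometricallyReduced k Γ(X, (i.1 : X.Opens)) := fun i =>
    isGeometricallyReduced_of_smooth k _
  -- restriction maps
  let res : ∀ i : t, Γ(X, ⊤) →ₐ[k] Γ(X, (i.1 : X.Opens)) := fun i =>
    { (X.presheaf.map (homOfLE (le_top : (i.1 : X.Opens) ≤ ⊤)).op).hom with
      commutes' := fun a => ConcreteCategory.congr_hom (hFG i) a }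
  have hπ : Function.Injective (AlgHom.pi (R := k) (A := fun i : t => Γ(X, (i.1 : X.Opens))) res) := by
    rw [injective_iff_map_eq_zero]
    intro b hb
    refine X.sheaf.eq_of_locally_eq' (fun i : t => (i.1 : X.Opens)) ⊤
      (fun i => homOfLE le_top) ?_ b 0 ?_
    · intro x _
      obtain ⟨U, hUt, hxU⟩ := Set.mem_iUnion₂.1 (ht (Set.mem_univ x))
      exact Opens.mem_iSup.2 ⟨⟨U, hUt⟩, hxU⟩
    · intro i
      change (X.presheaf.map (homOfLE (le_top : (i.1 : X.Opens) ≤ ⊤)).op).hom b =
        (X.presheaf.map (homOfLE (le_top : (i.1 : X.Opens) ≤ ⊤)).op).hom 0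
      rw [map_zero]
      exact congrFun hb i
  haveI : Algebra.IsGeometricallyReduced k (∀ i : t, Γ(X, (i.1 : X.Opens))) :=
    isGeometricallyReduced_pi k _
  haveI : Algebra.IsGeometricallyReduced k Γ(X, ⊤) :=
    Algebra.IsGeometricallyReduced.of_injective _ hπ
  have hsep := separable_minpoly_of_isGeometricallyReduced k Γ(X, ⊤) s hs
  -- the derivation
  letI modM : Module k Γ(Omega.sheaf f, ⊤) := Module.compHom _ F.hom
  haveI : IsScalarTower k Γ(X, ⊤) Γ(Omega.sheaf f, ⊤) := ⟨fun a b m => by
    change (F.hom a * b) • m = F.hom a • (b • m)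
    exact mul_smul _ _ _⟩
  have hconst : ∀ a : k, (OmegaSh.dOmega f).app ⊤ (F.hom a) = 0 := fun a => by
    rw [hF]
    exact (OmegaSh.dOmega f).d_app (X := Opposite.op ⊤)
      ((Scheme.ΓSpecIso (CommRingCat.of k)).inv.hom a)
  have hleib : ∀ a b : Γ(X, ⊤), (OmegaSh.dOmega f).app ⊤ (a * b) =
      a • (OmegaSh.dOmega f).app ⊤ b + b • (OmegaSh.dOmega f).app ⊤ a :=
    fun a b => (OmegaSh.dOmega f).d_mul (X := Opposite.op ⊤) a b
  let D : Derivation k Γ(X, ⊤) Γ(Omega.sheaf f, ⊤) :=
    { toFun := fun b => (OmegaSh.dOmega f).app ⊤ b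
      map_add' := fun a b => map_add _ a b
      map_smul' := fun a b => by
        change (OmegaSh.dOmega f).app ⊤ (F.hom a * b) = F.hom a • (OmegaSh.dOmega f).app ⊤ b
        rw [hleib, hconst, smul_zero, add_zero]
      map_one_eq_zero' := by
        change (OmegaSh.dOmega f).app ⊤ 1 = 0
        have := hconst 1
        rwa [map_one] at this
      leibniz' := hleib }
  exact derivation_eq_zero_of_separable D s hsep

end Groth.Agent.Lib.LeadDGlob
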