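import Mathlib
import Groth.Prelude.Def_DTen3
import Groth.Agent.Lib.Helper1DT3

/-!
# D(A) with the derived tensor product: basic calculus (lead, DTen monoidal part 1)

`tH f g` is `(LTen₂ A).map (f, g)`; functoriality, naturality of the associator and unitors of
`Def_DTen3`, the dictionary lemma `assoc_ε` (the counit `ε` is compatible with the associators)
and naturality of `ε`.
-/

set_option autoImplicit false
set_option maxHeartbeats 400000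
universe u
open CategoryTheory CategoryTheory.Limits MonoidalCategory
attribute [local instance] HasDerivedCategory.standard

namespace Groth.Agent.Lib.Lead.DTMon

open DTen DerivedCategory

variable {A : Type u} [CommRing A] [HasLTen A]

/-- `X ⊗^L Y` -/
noncomputable abbrev tO (X Y : Dual.D A) : Dual.D A := (LTen₂ A).obj (X, Y)

/-- `f ⊗^L g` -/
noncomputable abbrev tH {X X' Y Y' : Dual.D A} (f : X ⟶ X') (g : Y ⟶ Y') :
    tO X Y ⟶ tO X' Y' := (LTen₂ A).map (Prod.mkHom f g)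

lemma tH_id (X Y : Dual.D A) : tH (𝟙 X) (𝟙 Y) = 𝟙 (tO X Y) := by
  show (LTen₂ A).map (Prod.mkHom (𝟙 X) (𝟙 Y)) = _
  rw [← prod_id, CategoryTheory.Functor.map_id]

@[reassoc]
lemma tH_comp {X X' X'' Y Y' Y'' : Dual.D A} (f : X ⟶ X') (f' : X' ⟶ X'') (g : Y ⟶ Y')
    (g' : Y' ⟶ Y'') : tH f g ≫ tH f' g' = tH (f ≫ f') (g ≫ g') := by
  show (LTen₂ A).map _ ≫ (LTen₂ A).map _ = (LTen₂ A).map _
  rw [← Functor.map_comp]
  rfl

@[reassoc]
lemma tH_comp_left {X X' X'' : Dual.D A} (f : X ⟶ X') (f' : X' ⟶ X'') (Z : Dual.D A) :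
    tH f (𝟙 Z) ≫ tH f' (𝟙 Z) = tH (f ≫ f') (𝟙 Z) := by
  rw [tH_comp, Category.comp_id]

@[reassoc]
lemma tH_comp_right (Z : Dual.D A) {Y Y' Y'' : Dual.D A} (g : Y ⟶ Y') (g' : Y' ⟶ Y'') :
    tH (𝟙 Z) g ≫ tH (𝟙 Z) g' = tH (𝟙 Z) (g ≫ g') := by
  rw [tH_comp, Category.comp_id]

@[reassoc]
lemma tH_left_right {X X' Y Y' : Dual.D A} (f : X ⟶ X') (g : Y ⟶ Y') :
    tH f (𝟙 Y) ≫ tH (𝟙 X') g = tH f g := by
  rw [tH_comp, Category.comp_id, Category.id_comp]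

@[reassoc]
lemma tH_right_left {X X' Y Y' : Dual.D A} (f : X ⟶ X') (g : Y ⟶ Y') :
    tH (𝟙 X) g ≫ tH f (𝟙 Y') = tH f g := by
  rw [tH_comp, Category.comp_id, Category.id_comp]

instance isIso_tH {X X' Y Y' : Dual.D A} (f : X ⟶ X') (g : Y ⟶ Y') [IsIso f] [IsIso g] :
    IsIso (tH f g) := by
  have : IsIso (Prod.mkHom f g) := by
    rw [isIso_prod_iff]
    exact ⟨inferInstanceAs (IsIso f), inferInstanceAs (IsIso g)⟩
  exact Functor.map_isIso _ _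

/-- naturality of the counit `ε` in both complexes -/
@[reassoc]
lemma ε_nat {X X' Y Y' : DRing.Cx A} (f : X ⟶ X') (g : Y ⟶ Y') :
    tH (Q.map f) (Q.map g) ≫ (ε A).app (X', Y') = (ε A).app (X, Y) ≫ Q.map (f ⊗ₘ g) := by
  have e := (ε A).naturality (Prod.mkHom f g : (X, Y) ⟶ (X', Y'))
  rw [MonoidalCategory.tensorHom_def]
  exact e

@[reassoc]
lemma ε_nat_left {X X' : DRing.Cx A} (f : X ⟶ X') (Y : DRing.Cx A) :
    tH (Q.map f) (𝟙 (Q.obj Y)) ≫ (ε A).app (X', Y) = (ε A).app (X, Y) ≫ Q.map (f ▷ Y) := by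
  have h := ε_nat f (𝟙 Y)
  rw [CategoryTheory.Functor.map_id, MonoidalCategory.tensorHom_id] at h
  exact h

@[reassoc]
lemma ε_nat_right (X : DRing.Cx A) {Y Y' : DRing.Cx A} (g : Y ⟶ Y') :
    tH (𝟙 (Q.obj X)) (Q.map g) ≫ (ε A).app (X, Y') = (ε A).app (X, Y) ≫ Q.map (X ◁ g) := by
  have h := ε_nat (𝟙 X) g
  rw [CategoryTheory.Functor.map_id, MonoidalCategory.id_tensorHom] at h
  exact h

lemma isIso_ε_left (X Y : DRing.Cx A) (hX : Groth.Agent.Lib.Helper1.KF.KFlat X) :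
    IsIso ((ε A).app (X, Y)) :=
  Groth.Agent.Lib.Helper1.DT.isIso_ε_of_kflat X Y (Or.inl hX)

lemma isIso_ε_right (X Y : DRing.Cx A) (hY : Groth.Agent.Lib.Helper1.KF.KFlat Y) :
    IsIso ((ε A).app (X, Y)) :=
  Groth.Agent.Lib.Helper1.DT.isIso_ε_of_kflat X Y (Or.inr hY)

section Sym

variable [HasLTen₃ A] [IsSymMonoidal A]

/-- naturality of the associator of `Def_DTen3` -/
@[reassoc]
lemma assoc_nat {X₁ X₂ X₃ Y₁ Y₂ Y₃ : Dual.D A} (f₁ : X₁ ⟶ Y₁) (f₂ : X₂ ⟶ Y₂) (f₃ : X₃ ⟶ Y₃) :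
    tH (tH f₁ f₂) f₃ ≫ (associator Y₁ Y₂ Y₃).hom =
      (associator X₁ X₂ X₃).hom ≫ tH f₁ (tH f₂ f₃) := by
  have h := (assocL A ≫ (asIso (assocR A)).inv).naturality
    (X := (X₁, (X₂, X₃))) (Y := (Y₁, (Y₂, Y₃))) (Prod.mkHom f₁ (Prod.mkHom f₂ f₃))
  simp only [NatTrans.comp_app, Category.assoc] at h
  simp only [DTen.associator, Iso.trans_hom, Iso.symm_hom, Iso.app_hom, Iso.app_inv, asIso_hom,
    asIso_inv, Category.assoc]
  simp only [asIso_inv] at h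
  dsimp [LTenL, LTenR] at h
  exact h

@[reassoc]
lemma leftUnitor_nat {X Y : Dual.D A} (f : X ⟶ Y) :
    tH (𝟙 (unit A)) f ≫ (leftUnitor Y).hom = (leftUnitor X).hom ≫ f :=
  (unitL A).naturality f

@[reassoc]
lemma rightUnitor_nat {X Y : Dual.D A} (f : X ⟶ Y) :
    tH f (𝟙 (unit A)) ≫ (rightUnitor Y).hom = (rightUnitor X).hom ≫ f :=
  (unitR A).naturality f

/-- dictionary lemma: the counit `ε` intertwines the associator of `D(A)` with `Q` of the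
associator of complexes (for ALL complexes). -/
@[reassoc]
lemma assoc_ε (X Y Z : DRing.Cx A) :
    (associator (Q.obj X) (Q.obj Y) (Q.obj Z)).hom ≫ tH (𝟙 (Q.obj X)) ((ε A).app (Y, Z)) ≫
        (ε A).app (X, Y ⊗ Z) =
      tH ((ε A).app (X, Y)) (𝟙 (Q.obj Z)) ≫ (ε A).app (X ⊗ Y, Z) ≫ Q.map (α_ X Y Z).hom := by
  have h1 := assocR_fac A (X, (Y, Z))
  have h2 := assocL_fac A (X, (Y, Z))
  have h3 := associator_hom_assocR (Q.obj X) (Q.obj Y) (Q.obj Z)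
  calc (associator (Q.obj X) (Q.obj Y) (Q.obj Z)).hom ≫ tH (𝟙 (Q.obj X)) ((ε A).app (Y, Z)) ≫
        (ε A).app (X, Y ⊗ Z)
      = (associator (Q.obj X) (Q.obj Y) (Q.obj Z)).hom ≫ (βR A).app (X, (Y, Z)) := rfl
    _ = (associator (Q.obj X) (Q.obj Y) (Q.obj Z)).hom ≫
          ((assocR A).app ((QQQ A).obj (X, (Y, Z))) ≫ (ε₃ A).app (X, (Y, Z))) := by rw [h1]
    _ = (assocL A).app ((QQQ A).obj (X, (Y, Z))) ≫ (ε₃ A).app (X, (Y, Z)) := by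
        rw [← Category.assoc]
        exact congrArg (· ≫ (ε₃ A).app (X, (Y, Z))) h3
    _ = (βL A).app (X, (Y, Z)) := h2
    _ = _ := rfl

lemma leftUnitor_Q (Y : DRing.Cx A) :
    (leftUnitor (Q.obj Y)).hom = (ε A).app (𝟙_ (DRing.Cx A), Y) ≫ Q.map (λ_ Y).hom :=
  unitL_app A Y

lemma rightUnitor_Q (X : DRing.Cx A) :
    (rightUnitor (Q.obj X)).hom = (ε A).app (X, 𝟙_ (DRing.Cx A)) ≫ Q.map (ρ_ X).hom :=
  unitR_app A X

end Sym

/-- the counit `ε` with syntactically normalised source and target -/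
noncomputable def eε (X Y : DRing.Cx A) : tO (Q.obj X) (Q.obj Y) ⟶ Q.obj (X ⊗ Y) :=
  (ε A).app (X, Y)

lemma eε_def (X Y : DRing.Cx A) : eε X Y = (ε A).app (X, Y) := rfl

@[reassoc]
lemma eε_nat {X X' Y Y' : DRing.Cx A} (f : X ⟶ X') (g : Y ⟶ Y') :
    tH (Q.map f) (Q.map g) ≫ eε X' Y' = eε X Y ≫ Q.map (f ⊗ₘ g) := ε_nat f g

@[reassoc]
lemma eε_nat_left {X X' : DRing.Cx A} (f : X ⟶ X') (Y : DRing.Cx A) :
    tH (Q.map f) (𝟙 (Q.obj Y)) ≫ eε X' Y = eε X Y ≫ Q.map (f ▷ Y) := ε_nat_left f Y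

@[reassoc]
lemma eε_nat_right (X : DRing.Cx A) {Y Y' : DRing.Cx A} (g : Y ⟶ Y') :
    tH (𝟙 (Q.obj X)) (Q.map g) ≫ eε X Y' = eε X Y ≫ Q.map (X ◁ g) := ε_nat_right X g

lemma isIso_eε_left (X Y : DRing.Cx A) (hX : Groth.Agent.Lib.Helper1.KF.KFlat X) :
    IsIso (eε X Y) := isIso_ε_left X Y hX

lemma isIso_eε_right (X Y : DRing.Cx A) (hY : Groth.Agent.Lib.Helper1.KF.KFlat Y) :
    IsIso (eε X Y) := isIso_ε_right X Y hY

section Sym2

variable [HasLTen₃ A] [IsSymMonoidal A]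

@[reassoc]
lemma assoc_eε (X Y Z : DRing.Cx A) :
    (associator (Q.obj X) (Q.obj Y) (Q.obj Z)).hom ≫ tH (𝟙 (Q.obj X)) (eε Y Z) ≫
        eε X (Y ⊗ Z) =
      tH (eε X Y) (𝟙 (Q.obj Z)) ≫ eε (X ⊗ Y) Z ≫ Q.map (α_ X Y Z).hom := assoc_ε X Y Z

lemma leftUnitor_eε (Y : DRing.Cx A) :
    (leftUnitor (Q.obj Y)).hom = eε (𝟙_ (DRing.Cx A)) Y ≫ Q.map (λ_ Y).hom :=
  unitL_app A Y

lemma rightUnitor_eε (X : DRing.Cx A) :
    (rightUnitor (Q.obj X)).hom = eε X (𝟙_ (DRing.Cx A)) ≫ Q.map (ρ_ X).hom :=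
  unitR_app A X

end Sym2

end Groth.Agent.Lib.Lead.DTMon
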