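import Mathlib
import Groth.Agent.Lib.LeadDTMon1

/-!
# D(A) with the derived tensor product is a monoidal category (lead, DTen monoidal part 2)

Pentagon and triangle for the associator / unitors of `Def_DTen3`, proved on K-flat
representatives through the dictionary lemma `assoc_eε`, then transported by naturality.
-/

set_option autoImplicit false
set_option maxHeartbeats 400000
universe u
open CategoryTheory CategoryTheory.Limits MonoidalCategory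
attribute [local instance] HasDerivedCategory.standard

namespace Groth.Agent.Lib.Lead.DTMon

open DTen DerivedCategory
open Groth.Agent.Lib.Helper1.KF (KFlat)

variable {A : Type u} [CommRing A] [HasLTen A] [HasLTen₃ A] [IsSymMonoidal A]

@[reassoc]
lemma assoc_nat_left {X₁ Y₁ : Dual.D A} (f : X₁ ⟶ Y₁) (X₂ X₃ : Dual.D A) :
    tH (tH f (𝟙 X₂)) (𝟙 X₃) ≫ (associator Y₁ X₂ X₃).hom =
      (associator X₁ X₂ X₃).hom ≫ tH f (𝟙 (tO X₂ X₃)) := by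
  have h := assoc_nat f (𝟙 X₂) (𝟙 X₃)
  rw [tH_id] at h
  exact h

@[reassoc]
lemma assoc_nat_right (X₁ X₂ : Dual.D A) {X₃ Y₃ : Dual.D A} (g : X₃ ⟶ Y₃) :
    tH (𝟙 (tO X₁ X₂)) g ≫ (associator X₁ X₂ Y₃).hom =
      (associator X₁ X₂ X₃).hom ≫ tH (𝟙 X₁) (tH (𝟙 X₂) g) := by
  have h := assoc_nat (𝟙 X₁) (𝟙 X₂) g
  rw [tH_id] at h
  exact h

section squares

variable (W X Y Z : DRing.Cx A)

@[reassoc]
lemma sq12 :
    tH (associator (Q.obj W) (Q.obj X) (Q.obj Y)).hom (𝟙 (Q.obj Z)) ≫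
      tH (tH (𝟙 (Q.obj W)) (eε X Y)) (𝟙 (Q.obj Z)) ≫
        tH (eε W (X ⊗ Y)) (𝟙 (Q.obj Z)) ≫ eε (W ⊗ (X ⊗ Y)) Z =
    tH (tH (eε W X) (𝟙 (Q.obj Y))) (𝟙 (Q.obj Z)) ≫
        tH (eε (W ⊗ X) Y) (𝟙 (Q.obj Z)) ≫ eε ((W ⊗ X) ⊗ Y) Z ≫
      Q.map ((α_ W X Y).hom ▷ Z) := by
  have h := assoc_eε W X Y
  calc _ = tH ((associator (Q.obj W) (Q.obj X) (Q.obj Y)).hom ≫
            tH (𝟙 (Q.obj W)) (eε X Y) ≫ eε W (X ⊗ Y)) (𝟙 (Q.obj Z)) ≫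
            eε (W ⊗ (X ⊗ Y)) Z := by
        simp only [tH_comp_left_assoc]
    _ = tH (tH (eε W X) (𝟙 (Q.obj Y)) ≫ eε (W ⊗ X) Y ≫
            Q.map (α_ W X Y).hom) (𝟙 (Q.obj Z)) ≫ eε (W ⊗ (X ⊗ Y)) Z := by rw [h]
    _ = tH (tH (eε W X) (𝟙 (Q.obj Y))) (𝟙 (Q.obj Z)) ≫
          tH (eε (W ⊗ X) Y) (𝟙 (Q.obj Z)) ≫
          tH (Q.map (α_ W X Y).hom) (𝟙 (Q.obj Z)) ≫ eε (W ⊗ (X ⊗ Y)) Z := by
        simp only [tH_comp_left_assoc]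
    _ = _ := by
        rw [eε_nat_left]

@[reassoc]
lemma sq23 :
    (associator (Q.obj W) (tO (Q.obj X) (Q.obj Y)) (Q.obj Z)).hom ≫
      tH (𝟙 (Q.obj W)) (tH (eε X Y) (𝟙 (Q.obj Z))) ≫
        tH (𝟙 (Q.obj W)) (eε (X ⊗ Y) Z) ≫ eε W ((X ⊗ Y) ⊗ Z) =
    tH (tH (𝟙 (Q.obj W)) (eε X Y)) (𝟙 (Q.obj Z)) ≫
        tH (eε W (X ⊗ Y)) (𝟙 (Q.obj Z)) ≫ eε (W ⊗ (X ⊗ Y)) Z ≫
      Q.map (α_ W (X ⊗ Y) Z).hom := by
  rw [← assoc_nat_assoc, assoc_eε]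

@[reassoc]
lemma sq34 :
    tH (𝟙 (Q.obj W)) (associator (Q.obj X) (Q.obj Y) (Q.obj Z)).hom ≫
      tH (𝟙 (Q.obj W)) (tH (𝟙 (Q.obj X)) (eε Y Z)) ≫
        tH (𝟙 (Q.obj W)) (eε X (Y ⊗ Z)) ≫ eε W (X ⊗ (Y ⊗ Z)) =
    tH (𝟙 (Q.obj W)) (tH (eε X Y) (𝟙 (Q.obj Z))) ≫
        tH (𝟙 (Q.obj W)) (eε (X ⊗ Y) Z) ≫ eε W ((X ⊗ Y) ⊗ Z) ≫
      Q.map (W ◁ (α_ X Y Z).hom) := by
  have h := assoc_eε X Y Z
  calc _ = tH (𝟙 (Q.obj W)) ((associator (Q.obj X) (Q.obj Y) (Q.obj Z)).hom ≫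
            tH (𝟙 (Q.obj X)) (eε Y Z) ≫ eε X (Y ⊗ Z)) ≫
            eε W (X ⊗ (Y ⊗ Z)) := by
        simp only [tH_comp_right_assoc]
    _ = tH (𝟙 (Q.obj W)) (tH (eε X Y) (𝟙 (Q.obj Z)) ≫ eε (X ⊗ Y) Z ≫
            Q.map (α_ X Y Z).hom) ≫ eε W (X ⊗ (Y ⊗ Z)) := by rw [h]
    _ = tH (𝟙 (Q.obj W)) (tH (eε X Y) (𝟙 (Q.obj Z))) ≫
          tH (𝟙 (Q.obj W)) (eε (X ⊗ Y) Z) ≫
          tH (𝟙 (Q.obj W)) (Q.map (α_ X Y Z).hom) ≫ eε W (X ⊗ (Y ⊗ Z)) := by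
        simp only [tH_comp_right_assoc]
    _ = _ := by
        rw [eε_nat_right]

@[reassoc]
lemma sq15 :
    (associator (tO (Q.obj W) (Q.obj X)) (Q.obj Y) (Q.obj Z)).hom ≫
      tH (eε W X) (eε Y Z) ≫ eε (W ⊗ X) (Y ⊗ Z) =
    tH (tH (eε W X) (𝟙 (Q.obj Y))) (𝟙 (Q.obj Z)) ≫
        tH (eε (W ⊗ X) Y) (𝟙 (Q.obj Z)) ≫ eε ((W ⊗ X) ⊗ Y) Z ≫
      Q.map (α_ (W ⊗ X) Y Z).hom := by
  rw [← tH_left_right (eε W X) (eε Y Z), Category.assoc,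
    ← assoc_nat_left_assoc, assoc_eε]

@[reassoc]
lemma sq54 :
    (associator (Q.obj W) (Q.obj X) (tO (Q.obj Y) (Q.obj Z))).hom ≫
      tH (𝟙 (Q.obj W)) (tH (𝟙 (Q.obj X)) (eε Y Z)) ≫
        tH (𝟙 (Q.obj W)) (eε X (Y ⊗ Z)) ≫ eε W (X ⊗ (Y ⊗ Z)) =
    tH (eε W X) (eε Y Z) ≫ eε (W ⊗ X) (Y ⊗ Z) ≫
      Q.map (α_ W X (Y ⊗ Z)).hom := by
  rw [← assoc_nat_right_assoc, assoc_eε, tH_right_left_assoc]

end squares

lemma pentagon_Q (W X Y Z : DRing.Cx A) (hW : KFlat W) (hX : KFlat X) (hY : KFlat Y) :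
    tH (associator (Q.obj W) (Q.obj X) (Q.obj Y)).hom (𝟙 (Q.obj Z)) ≫
        (associator (Q.obj W) (tO (Q.obj X) (Q.obj Y)) (Q.obj Z)).hom ≫
        tH (𝟙 (Q.obj W)) (associator (Q.obj X) (Q.obj Y) (Q.obj Z)).hom =
      (associator (tO (Q.obj W) (Q.obj X)) (Q.obj Y) (Q.obj Z)).hom ≫
        (associator (Q.obj W) (Q.obj X) (tO (Q.obj Y) (Q.obj Z))).hom := by
  have i1 : IsIso (eε Y Z) := isIso_eε_left Y Z hY
  have i2 : IsIso (eε X (Y ⊗ Z)) := isIso_eε_left X _ hX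
  have i3 : IsIso (eε W (X ⊗ (Y ⊗ Z))) := isIso_eε_left W _ hW
  have iΘ : IsIso (tH (𝟙 (Q.obj W)) (tH (𝟙 (Q.obj X)) (eε Y Z)) ≫
        tH (𝟙 (Q.obj W)) (eε X (Y ⊗ Z)) ≫ eε W (X ⊗ (Y ⊗ Z))) := inferInstance
  rw [← cancel_mono (tH (𝟙 (Q.obj W)) (tH (𝟙 (Q.obj X)) (eε Y Z)) ≫
        tH (𝟙 (Q.obj W)) (eε X (Y ⊗ Z)) ≫ eε W (X ⊗ (Y ⊗ Z)))]
  have hp := congrArg (fun t => Q.map t) (MonoidalCategory.pentagon W X Y Z)
  simp only [Functor.map_comp] at hp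
  simp only [Category.assoc]
  rw [sq34, sq23_assoc, sq12_assoc, sq54, sq15_assoc, hp]

lemma pentagon_natL {w x y z w' x' y' z' : Dual.D A} (fw : w ⟶ w') (fx : x ⟶ x') (fy : y ⟶ y')
    (fz : z ⟶ z') :
    tH (tH (tH fw fx) fy) fz ≫ (tH (associator w' x' y').hom (𝟙 z') ≫
        (associator w' (tO x' y') z').hom ≫ tH (𝟙 w') (associator x' y' z').hom) =
      (tH (associator w x y).hom (𝟙 z) ≫ (associator w (tO x y) z).hom ≫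
        tH (𝟙 w) (associator x y z).hom) ≫ tH fw (tH fx (tH fy fz)) := by
  have s1 : tH (tH (tH fw fx) fy) fz ≫ tH (associator w' x' y').hom (𝟙 z') =
      tH (associator w x y).hom (𝟙 z) ≫ tH (tH fw (tH fx fy)) fz := by
    rw [tH_comp, tH_comp, assoc_nat, Category.comp_id, Category.id_comp]
  have s2 := assoc_nat fw (tH fx fy) fz
  have s3 : tH fw (tH (tH fx fy) fz) ≫ tH (𝟙 w') (associator x' y' z').hom =
      tH (𝟙 w) (associator x y z).hom ≫ tH fw (tH fx (tH fy fz)) := by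
    rw [tH_comp, tH_comp, assoc_nat, Category.comp_id, Category.id_comp]
  rw [reassoc_of% s1, reassoc_of% s2, s3]
  simp only [Category.assoc]

lemma pentagon_natR {w x y z w' x' y' z' : Dual.D A} (fw : w ⟶ w') (fx : x ⟶ x') (fy : y ⟶ y')
    (fz : z ⟶ z') :
    tH (tH (tH fw fx) fy) fz ≫ ((associator (tO w' x') y' z').hom ≫
        (associator w' x' (tO y' z')).hom) =
      ((associator (tO w x) y z).hom ≫ (associator w x (tO y z)).hom) ≫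
        tH fw (tH fx (tH fy fz)) := by
  rw [assoc_nat_assoc, assoc_nat]
  simp only [Category.assoc]

theorem pentagon (w x y z : Dual.D A) :
    tH (associator w x y).hom (𝟙 z) ≫ (associator w (tO x y) z).hom ≫
        tH (𝟙 w) (associator x y z).hom =
      (associator (tO w x) y z).hom ≫ (associator w x (tO y z)).hom := by
  obtain ⟨W, hW, -, ⟨iw⟩⟩ := Groth.Agent.Lib.Helper1.DT.exists_kproj_iso w
  obtain ⟨X, hX, -, ⟨ix⟩⟩ := Groth.Agent.Lib.Helper1.DT.exists_kproj_iso x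
  obtain ⟨Y, hY, -, ⟨iy⟩⟩ := Groth.Agent.Lib.Helper1.DT.exists_kproj_iso y
  obtain ⟨Z, hZ, -, ⟨iz⟩⟩ := Groth.Agent.Lib.Helper1.DT.exists_kproj_iso z
  have hQ := pentagon_Q W X Y Z (Groth.Agent.Lib.Helper1.KF.kflat_of_isKProjective W)
    (Groth.Agent.Lib.Helper1.KF.kflat_of_isKProjective X)
    (Groth.Agent.Lib.Helper1.KF.kflat_of_isKProjective Y)
  rw [← cancel_epi (tH (tH (tH iw.hom ix.hom) iy.hom) iz.hom), pentagon_natL, pentagon_natR, hQ]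

lemma triangle_Q (X Y : DRing.Cx A) (hX : KFlat X) :
    (associator (Q.obj X) (unit A) (Q.obj Y)).hom ≫ tH (𝟙 (Q.obj X)) (leftUnitor (Q.obj Y)).hom =
      tH (rightUnitor (Q.obj X)).hom (𝟙 (Q.obj Y)) := by
  have i1 : IsIso (eε X Y) := isIso_eε_left X Y hX
  rw [← cancel_mono (eε X Y), leftUnitor_eε, rightUnitor_eε]
  calc ((associator (Q.obj X) (unit A) (Q.obj Y)).hom ≫
          tH (𝟙 (Q.obj X)) (eε (𝟙_ (DRing.Cx A)) Y ≫ Q.map (λ_ Y).hom)) ≫ eε X Y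
      = (associator (Q.obj X) (Q.obj (𝟙_ (DRing.Cx A))) (Q.obj Y)).hom ≫
          tH (𝟙 (Q.obj X)) (eε (𝟙_ (DRing.Cx A)) Y) ≫
          tH (𝟙 (Q.obj X)) (Q.map (λ_ Y).hom) ≫ eε X Y := by
        simp only [tH_comp_right_assoc, Category.assoc]
    _ = (associator (Q.obj X) (Q.obj (𝟙_ (DRing.Cx A))) (Q.obj Y)).hom ≫
          tH (𝟙 (Q.obj X)) (eε (𝟙_ (DRing.Cx A)) Y) ≫
          eε X (𝟙_ (DRing.Cx A) ⊗ Y) ≫ Q.map (X ◁ (λ_ Y).hom) := by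
        rw [eε_nat_right]
    _ = tH (eε X (𝟙_ (DRing.Cx A))) (𝟙 (Q.obj Y)) ≫
          eε (X ⊗ 𝟙_ (DRing.Cx A)) Y ≫
          Q.map ((α_ X (𝟙_ (DRing.Cx A)) Y).hom ≫ X ◁ (λ_ Y).hom) := by
        rw [assoc_eε_assoc, Functor.map_comp]
    _ = tH (eε X (𝟙_ (DRing.Cx A))) (𝟙 (Q.obj Y)) ≫
          eε (X ⊗ 𝟙_ (DRing.Cx A)) Y ≫ Q.map ((ρ_ X).hom ▷ Y) := by
        rw [MonoidalCategory.triangle]
    _ = tH (eε X (𝟙_ (DRing.Cx A))) (𝟙 (Q.obj Y)) ≫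
          tH (Q.map (ρ_ X).hom) (𝟙 (Q.obj Y)) ≫ eε X Y := by
        rw [eε_nat_left]
    _ = _ := by
        simp only [tH_comp_left_assoc]

theorem triangle (x y : Dual.D A) :
    (associator x (unit A) y).hom ≫ tH (𝟙 x) (leftUnitor y).hom =
      tH (rightUnitor x).hom (𝟙 y) := by
  obtain ⟨X, hX, -, ⟨ix⟩⟩ := Groth.Agent.Lib.Helper1.DT.exists_kproj_iso x
  obtain ⟨Y, hY, -, ⟨iy⟩⟩ := Groth.Agent.Lib.Helper1.DT.exists_kproj_iso y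
  have hQ := triangle_Q X Y (Groth.Agent.Lib.Helper1.KF.kflat_of_isKProjective X)
  have s1 : tH (tH ix.hom (𝟙 (unit A))) iy.hom ≫
      ((associator x (unit A) y).hom ≫ tH (𝟙 x) (leftUnitor y).hom) =
      ((associator (Q.obj X) (unit A) (Q.obj Y)).hom ≫
        tH (𝟙 (Q.obj X)) (leftUnitor (Q.obj Y)).hom) ≫ tH ix.hom iy.hom := by
    rw [assoc_nat_assoc, tH_comp, leftUnitor_nat, Category.comp_id, Category.assoc, tH_comp,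
      Category.id_comp]
  have s2 : tH (tH ix.hom (𝟙 (unit A))) iy.hom ≫ tH (rightUnitor x).hom (𝟙 y) =
      tH (rightUnitor (Q.obj X)).hom (𝟙 (Q.obj Y)) ≫ tH ix.hom iy.hom := by
    rw [tH_comp, tH_comp, rightUnitor_nat, Category.comp_id, Category.id_comp]
  rw [← cancel_epi (tH (tH ix.hom (𝟙 (unit A))) iy.hom), s1, s2, hQ]

/-- the monoidal structure data on `D(A)` -/
@[reducible] noncomputable def mStruct : MonoidalCategoryStruct (Dual.D A) where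
  tensorObj X Y := tO X Y
  whiskerLeft X _ _ f := tH (𝟙 X) f
  whiskerRight f Y := tH f (𝟙 Y)
  tensorHom f g := tH f g
  tensorUnit := unit A
  associator := associator
  leftUnitor := leftUnitor
  rightUnitor := rightUnitor

/-- `D(A)` with `⊗^L` is a monoidal category. -/
@[reducible] noncomputable def mCat : MonoidalCategory (Dual.D A) :=
  @MonoidalCategory.ofTensorHom (Dual.D A) _ mStruct
    (fun X Y => tH_id X Y)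
    (fun _ _ _ _ => rfl)
    (fun _ _ => rfl)
    (fun f₁ f₂ g₁ g₂ => tH_comp f₁ g₁ f₂ g₂)
    (fun f₁ f₂ f₃ => assoc_nat f₁ f₂ f₃)
    (fun f => leftUnitor_nat f)
    (fun f => rightUnitor_nat f)
    (fun W X Y Z => pentagon W X Y Z)
    (fun X Y => triangle X Y)

end Groth.Agent.Lib.Lead.DTMon
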