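import Mathlib

/-!
# Evaluation maps against dualizable objects (lead; abstract monoidal category theory)

`C` a monoidal category, `G` a right adjoint of `tensorRight M` (an "internal hom `[M, -]`").
The canonical map `K ⊗ [M, L] ⟶ [M, K ⊗ L]` (adjunct of associator followed by `K ◁ ev`) is an
isomorphism as soon as `M` has a right dual (`ExactPairing M M'`) or `K` has one
(`ExactPairing K K'`).
-/

set_option autoImplicit false
set_option maxHeartbeats 400000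
universe v u
open CategoryTheory MonoidalCategory

namespace Groth.Agent.Lib.Lead.RigidEval

variable {C : Type u} [Category.{v} C] [MonoidalCategory C]

/-- the canonical map `K ⊗ G L ⟶ G (K ⊗ L)` -/
def evT {M : C} {G : C ⥤ C} (adj : tensorRight M ⊣ G) (K L : C) :
    K ⊗ G.obj L ⟶ G.obj (K ⊗ L) :=
  adj.homEquiv (K ⊗ G.obj L) (K ⊗ L) ((α_ K (G.obj L) M).hom ≫ K ◁ adj.counit.app L)

lemma evT_symm {M : C} {G : C ⥤ C} (adj : tensorRight M ⊣ G) (K L : C) :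
    (adj.homEquiv (K ⊗ G.obj L) (K ⊗ L)).symm (evT adj K L) =
      (α_ K (G.obj L) M).hom ≫ K ◁ adj.counit.app L :=
  Equiv.symm_apply_apply _ _

/-- counit of the duality adjunction `tensorRight M ⊣ tensorRight M'` -/
def cR (M M' : C) [ExactPairing M M'] (x : C) : (x ⊗ M') ⊗ M ⟶ x :=
  (α_ x M' M).hom ≫ x ◁ ExactPairing.evaluation M M' ≫ (ρ_ x).hom

lemma tensorRightAdjunction_counit_app (M M' : C) [ExactPairing M M'] (x : C) :
    (tensorRightAdjunction M M').counit.app x = cR M M' x := by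
  simp [tensorRightAdjunction, tensorRightHomEquiv, cR]

lemma cR_assoc (K L M M' : C) [ExactPairing M M'] :
    (α_ K L M').inv ▷ M ≫ cR M M' (K ⊗ L) = (α_ K (L ⊗ M') M).hom ≫ K ◁ cR M M' L := by
  dsimp only [cR]
  monoidal

/-- `M` dualizable: `K ⊗ [M, L] ⟶ [M, K ⊗ L]` is an isomorphism. -/
theorem isIso_evT_of_exactPairing_right (M M' : C) [ExactPairing M M'] {G : C ⥤ C}
    (adj : tensorRight M ⊣ G) (K L : C) : IsIso (evT adj K L) := by
  obtain ⟨adj', hadj'⟩ : ∃ a, a = tensorRightAdjunction M M' := ⟨_, rfl⟩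
  obtain ⟨φ, hφ⟩ : ∃ φ, φ = adj.rightAdjointUniq adj' := ⟨_, rfl⟩
  have hc : ∀ x : C, (φ.hom.app x) ▷ M ≫ cR M M' x = adj.counit.app x := by
    intro x
    have h := Adjunction.rightAdjointUniq_hom_app_counit adj adj' x
    rw [hadj', tensorRightAdjunction_counit_app] at h
    rw [hφ, hadj']
    exact h
  have key : evT adj K L ≫ φ.hom.app (K ⊗ L) = K ◁ φ.hom.app L ≫ (α_ K L M').inv := by
    apply (adj'.homEquiv _ _).symm.injective
    rw [Adjunction.homEquiv_counit, Adjunction.homEquiv_counit, hadj',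
      tensorRightAdjunction_counit_app]
    change (evT adj K L ≫ φ.hom.app (K ⊗ L)) ▷ M ≫ cR M M' (K ⊗ L) =
      (K ◁ φ.hom.app L ≫ (α_ K L M').inv) ▷ M ≫ cR M M' (K ⊗ L)
    have h1 : (evT adj K L ≫ φ.hom.app (K ⊗ L)) ▷ M ≫ cR M M' (K ⊗ L) =
        (α_ K (G.obj L) M).hom ≫ K ◁ adj.counit.app L := by
      rw [comp_whiskerRight, Category.assoc, hc]
      have h2 := evT_symm adj K L
      rw [Adjunction.homEquiv_counit] at h2
      exact h2
    have h3 : (K ◁ φ.hom.app L ≫ (α_ K L M').inv) ▷ M ≫ cR M M' (K ⊗ L) =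
        (α_ K (G.obj L) M).hom ≫ K ◁ adj.counit.app L := by
      have hn : (K ◁ φ.hom.app L) ▷ M ≫ (α_ K (L ⊗ M') M).hom =
          (α_ K (G.obj L) M).hom ≫ K ◁ (φ.hom.app L ▷ M) :=
        associator_naturality_middle K (φ.hom.app L) M
      rw [comp_whiskerRight, Category.assoc, cR_assoc, reassoc_of% hn,
        ← whiskerLeft_comp, hc]
    rw [h1, h3]
  have e : evT adj K L = (K ◁ φ.hom.app L ≫ (α_ K L M').inv) ≫ φ.inv.app (K ⊗ L) := by
    rw [← key, Category.assoc, Iso.hom_inv_id_app, Category.comp_id]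
  rw [e]
  infer_instance

lemma struct_left (K K' T M : C) [ExactPairing K K'] :
    ((λ_ T).inv ≫ ExactPairing.coevaluation K K' ▷ T ≫ (α_ K K' T).hom) ▷ M ≫
        (α_ K (K' ⊗ T) M).hom =
      (λ_ (T ⊗ M)).inv ≫ ExactPairing.coevaluation K K' ▷ (T ⊗ M) ≫ (α_ K K' (T ⊗ M)).hom ≫
        K ◁ (α_ K' T M).inv := by
  monoidal

/-- `K` dualizable: `K ⊗ [M, L] ⟶ [M, K ⊗ L]` is an isomorphism. -/
theorem isIso_evT_of_exactPairing_left (K K' : C) [ExactPairing K K'] {M : C} {G : C ⥤ C}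
    (adj : tensorRight M ⊣ G) (L : C) : IsIso (evT adj K L) := by
  apply isIso_of_yoneda_map_bijective
  intro T
  let e1 : (T ⟶ K ⊗ G.obj L) ≃ (K' ⊗ T ⟶ G.obj L) := (tensorLeftHomEquiv T K K' (G.obj L)).symm
  let e2 : (K' ⊗ T ⟶ G.obj L) ≃ ((K' ⊗ T) ⊗ M ⟶ L) := (adj.homEquiv (K' ⊗ T) L).symm
  let e3 : ((K' ⊗ T) ⊗ M ⟶ L) ≃ (K' ⊗ (T ⊗ M) ⟶ L) := (α_ K' T M).homFromEquiv
  let e4 : (K' ⊗ (T ⊗ M) ⟶ L) ≃ (T ⊗ M ⟶ K ⊗ L) := tensorLeftHomEquiv (T ⊗ M) K K' L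
  let e5 : (T ⊗ M ⟶ K ⊗ L) ≃ (T ⟶ G.obj (K ⊗ L)) := adj.homEquiv T (K ⊗ L)
  have key : ∀ g : K' ⊗ T ⟶ G.obj L, e5 (e4 (e3 (e2 g))) = e1.symm g ≫ evT adj K L := by
    intro g
    apply (adj.homEquiv _ _).symm.injective
    rw [Equiv.symm_apply_apply, Adjunction.homEquiv_naturality_left_symm, evT_symm]
    simp only [e1, e2, e3, e4, Equiv.symm_symm, Iso.homFromEquiv_apply]
    dsimp only [tensorLeftHomEquiv, Equiv.coe_fn_mk]
    rw [Adjunction.homEquiv_counit]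
    change (λ_ (T ⊗ M)).inv ≫ ExactPairing.coevaluation K K' ▷ (T ⊗ M) ≫
        (α_ K K' (T ⊗ M)).hom ≫ K ◁ ((α_ K' T M).inv ≫ g ▷ M ≫ adj.counit.app L) =
      ((λ_ T).inv ≫ ExactPairing.coevaluation K K' ▷ T ≫ (α_ K K' T).hom ≫ K ◁ g) ▷ M ≫
        (α_ K (G.obj L) M).hom ≫ K ◁ adj.counit.app L
    have h := struct_left K K' T M
    calc (λ_ (T ⊗ M)).inv ≫ ExactPairing.coevaluation K K' ▷ (T ⊗ M) ≫
            (α_ K K' (T ⊗ M)).hom ≫ K ◁ ((α_ K' T M).inv ≫ g ▷ M ≫ adj.counit.app L)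
        = ((λ_ (T ⊗ M)).inv ≫ ExactPairing.coevaluation K K' ▷ (T ⊗ M) ≫
            (α_ K K' (T ⊗ M)).hom ≫ K ◁ (α_ K' T M).inv) ≫
            K ◁ (g ▷ M) ≫ K ◁ adj.counit.app L := by
          simp only [whiskerLeft_comp, Category.assoc]
      _ = (((λ_ T).inv ≫ ExactPairing.coevaluation K K' ▷ T ≫ (α_ K K' T).hom) ▷ M ≫
            (α_ K (K' ⊗ T) M).hom) ≫ K ◁ (g ▷ M) ≫ K ◁ adj.counit.app L := by rw [h]
      _ = ((λ_ T).inv ≫ ExactPairing.coevaluation K K' ▷ T ≫ (α_ K K' T).hom ≫ K ◁ g) ▷ M ≫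
            (α_ K (G.obj L) M).hom ≫ K ◁ adj.counit.app L := by
          simp only [comp_whiskerRight, Category.assoc, associator_naturality_middle_assoc]
  have hfun : (fun x : T ⟶ K ⊗ G.obj L => x ≫ evT adj K L) = e5 ∘ e4 ∘ e3 ∘ e2 ∘ e1 := by
    funext x
    simp only [Function.comp_apply]
    rw [key, Equiv.symm_apply_apply]
  rw [hfun]
  exact e5.bijective.comp (e4.bijective.comp (e3.bijective.comp (e2.bijective.comp e1.bijective)))

/-! ### The map `[L,M] ⊗ K ⟶ [[K,L],M]` for `K` with a left dual -/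

/-- the canonical map `[L,M] ⊗ K ⟶ [H,M]` built from a pairing `σ : K ⊗ H ⟶ L`
(for `H = [K,L]` and `σ` = swap followed by evaluation this is `[L,M] ⊗ K ⟶ [[K,L],M]`) -/
def evH {K L H : C} {RL RH : C ⥤ C} (adjL : tensorRight L ⊣ RL)
    (adjH : tensorRight H ⊣ RH) (σ : K ⊗ H ⟶ L) (M : C) :
    RL.obj M ⊗ K ⟶ RH.obj M :=
  adjH.homEquiv (RL.obj M ⊗ K) M
    ((α_ (RL.obj M) K H).hom ≫ RL.obj M ◁ σ ≫ adjL.counit.app M)

lemma evH_symm {K L H : C} {RL RH : C ⥤ C} (adjL : tensorRight L ⊣ RL)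
    (adjH : tensorRight H ⊣ RH) (σ : K ⊗ H ⟶ L) (M : C) :
    (adjH.homEquiv (RL.obj M ⊗ K) M).symm (evH adjL adjH σ M) =
      (α_ (RL.obj M) K H).hom ≫ RL.obj M ◁ σ ≫ adjL.counit.app M :=
  Equiv.symm_apply_apply _ _

lemma struct_H (T K'' K H L : C) [ExactPairing K'' K] (σ : K ⊗ H ⟶ L) :
    T ◁ ((λ_ H).inv ≫ ExactPairing.coevaluation K'' K ▷ H ≫ (α_ K'' K H).hom ≫ K'' ◁ σ) ≫
        (α_ T K'' L).inv =
      ((ρ_ T).inv ≫ T ◁ ExactPairing.coevaluation K'' K ≫ (α_ T K'' K).inv) ▷ H ≫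
        (α_ (T ⊗ K'') K H).hom ≫ (T ⊗ K'') ◁ σ := by
  monoidal

/-- If the adjunct `H ⟶ K'' ⊗ L` of `σ : K ⊗ H ⟶ L` is an isomorphism (`K''` a left dual of
`K`), then `[L,M] ⊗ K ⟶ [H,M]` is an isomorphism. -/
theorem isIso_evH (K'' : C) {K L H : C} [ExactPairing K'' K] {RL RH : C ⥤ C}
    (adjL : tensorRight L ⊣ RL) (adjH : tensorRight H ⊣ RH) (σ : K ⊗ H ⟶ L) (M : C)
    (hσ : IsIso (tensorLeftHomEquiv H K'' K L σ)) :
    IsIso (evH adjL adjH σ M) := by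
  apply isIso_of_yoneda_map_bijective
  intro T
  let i : H ≅ K'' ⊗ L := asIso (tensorLeftHomEquiv H K'' K L σ)
  let e1 : (T ⟶ RL.obj M ⊗ K) ≃ (T ⊗ K'' ⟶ RL.obj M) :=
    (tensorRightHomEquiv T K'' K (RL.obj M)).symm
  let e2 : (T ⊗ K'' ⟶ RL.obj M) ≃ ((T ⊗ K'') ⊗ L ⟶ M) := (adjL.homEquiv (T ⊗ K'') M).symm
  let e3 : ((T ⊗ K'') ⊗ L ⟶ M) ≃ (T ⊗ (K'' ⊗ L) ⟶ M) := (α_ T K'' L).homFromEquiv
  let e4 : (T ⊗ (K'' ⊗ L) ⟶ M) ≃ (T ⊗ H ⟶ M) := (whiskerLeftIso T i).homFromEquiv.symm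
  let e5 : (T ⊗ H ⟶ M) ≃ (T ⟶ RH.obj M) := adjH.homEquiv T M
  have key : ∀ g : T ⊗ K'' ⟶ RL.obj M,
      e5 (e4 (e3 (e2 g))) = e1.symm g ≫ evH adjL adjH σ M := by
    intro g
    apply (adjH.homEquiv _ _).symm.injective
    rw [Equiv.symm_apply_apply, Adjunction.homEquiv_naturality_left_symm, evH_symm]
    simp only [e1, e2, e3, e4, i, Equiv.symm_symm, Iso.homFromEquiv_apply,
      Iso.homFromEquiv_symm_apply, whiskerLeftIso_hom, asIso_hom]
    dsimp only [tensorRightHomEquiv, tensorLeftHomEquiv, Equiv.coe_fn_mk]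
    rw [Adjunction.homEquiv_counit]
    change T ◁ ((λ_ H).inv ≫ ExactPairing.coevaluation K'' K ▷ H ≫
          (α_ K'' K H).hom ≫ K'' ◁ σ) ≫ (α_ T K'' L).inv ≫ g ▷ L ≫ adjL.counit.app M =
      ((ρ_ T).inv ≫ T ◁ ExactPairing.coevaluation K'' K ≫ (α_ T K'' K).inv ≫ g ▷ K) ▷ H ≫
        (α_ (RL.obj M) K H).hom ≫ RL.obj M ◁ σ ≫ adjL.counit.app M
    have h := struct_H T K'' K H L σ
    calc T ◁ ((λ_ H).inv ≫ ExactPairing.coevaluation K'' K ▷ H ≫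
            (α_ K'' K H).hom ≫ K'' ◁ σ) ≫ (α_ T K'' L).inv ≫ g ▷ L ≫ adjL.counit.app M
        = (((ρ_ T).inv ≫ T ◁ ExactPairing.coevaluation K'' K ≫ (α_ T K'' K).inv) ▷ H ≫
            (α_ (T ⊗ K'') K H).hom ≫ (T ⊗ K'') ◁ σ) ≫ g ▷ L ≫ adjL.counit.app M := by
          rw [← h]
          simp only [Category.assoc]
      _ = ((ρ_ T).inv ≫ T ◁ ExactPairing.coevaluation K'' K ≫ (α_ T K'' K).inv) ▷ H ≫
            (α_ (T ⊗ K'') K H).hom ≫ g ▷ (K ⊗ H) ≫ RL.obj M ◁ σ ≫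
            adjL.counit.app M := by
          simp only [Category.assoc]
          rw [whisker_exchange_assoc]
      _ = ((ρ_ T).inv ≫ T ◁ ExactPairing.coevaluation K'' K ≫ (α_ T K'' K).inv) ▷ H ≫
            (g ▷ K) ▷ H ≫ (α_ (RL.obj M) K H).hom ≫ RL.obj M ◁ σ ≫
            adjL.counit.app M := by
          rw [associator_naturality_left_assoc]
      _ = _ := by
          simp only [comp_whiskerRight, Category.assoc]
  have hfun : (fun x : T ⟶ RL.obj M ⊗ K => x ≫ evH adjL adjH σ M) =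
      e5 ∘ e4 ∘ e3 ∘ e2 ∘ e1 := by
    funext x
    simp only [Function.comp_apply]
    rw [key, Equiv.symm_apply_apply]
  rw [hfun]
  exact e5.bijective.comp (e4.bijective.comp (e3.bijective.comp (e2.bijective.comp e1.bijective)))

/-- With `S : K ⊗ - ≅ - ⊗ K` natural and `K''` a left dual of `K`, the adjunct `[K,L] ⟶ K'' ⊗ L`
of `S ≫ ev` is an isomorphism. -/
theorem isIso_adjunct_swap (K'' : C) {K : C} [ExactPairing K'' K] {RK : C ⥤ C}
    (adjK : tensorRight K ⊣ RK) (S : tensorLeft K ≅ tensorRight K) (L : C) :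
    IsIso (tensorLeftHomEquiv (RK.obj L) K'' K L
      (S.hom.app (RK.obj L) ≫ adjK.counit.app L)) := by
  apply isIso_of_yoneda_map_bijective
  intro T
  let e1 : (T ⟶ RK.obj L) ≃ (T ⊗ K ⟶ L) := (adjK.homEquiv T L).symm
  let e2 : (T ⊗ K ⟶ L) ≃ (K ⊗ T ⟶ L) := (S.app T).homFromEquiv.symm
  let e3 : (K ⊗ T ⟶ L) ≃ (T ⟶ K'' ⊗ L) := tensorLeftHomEquiv T K'' K L
  have key : ∀ f : T ⟶ RK.obj L, e3 (e2 (e1 f)) =
      f ≫ tensorLeftHomEquiv (RK.obj L) K'' K L (S.hom.app (RK.obj L) ≫ adjK.counit.app L) := by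
    intro f
    apply (tensorLeftHomEquiv T K'' K L).symm.injective
    rw [Equiv.symm_apply_apply, tensorLeftHomEquiv_symm_naturality, Equiv.symm_apply_apply]
    simp only [e1, e2, Iso.homFromEquiv_symm_apply, Iso.app_hom, Adjunction.homEquiv_counit]
    have hn := S.hom.naturality f
    change K ◁ f ≫ S.hom.app (RK.obj L) = S.hom.app T ≫ f ▷ K at hn
    change S.hom.app T ≫ f ▷ K ≫ adjK.counit.app L =
      K ◁ f ≫ S.hom.app (RK.obj L) ≫ adjK.counit.app L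
    rw [reassoc_of% hn]
  have hfun : (fun x : T ⟶ RK.obj L => x ≫ tensorLeftHomEquiv (RK.obj L) K'' K L
      (S.hom.app (RK.obj L) ≫ adjK.counit.app L)) = e3 ∘ e2 ∘ e1 := by
    funext x
    simp only [Function.comp_apply]
    rw [key]
  rw [hfun]
  exact e3.bijective.comp (e2.bijective.comp e1.bijective)

end Groth.Agent.Lib.Lead.RigidEval
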