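import Mathlib
import Groth.Agent.Lib.LeadDTMon2
import Groth.Agent.Lib.LeadRigidEval

/-!
# Duals in D(A) from duals of K-flat complexes; evalTen for dualizable objects (lead, DTen part 3)
-/

set_option autoImplicit false
set_option maxHeartbeats 400000
universe u
open CategoryTheory CategoryTheory.Limits MonoidalCategory
attribute [local instance] HasDerivedCategory.standard

namespace Groth.Agent.Lib.Lead.DTMon

open DTen DerivedCategory
open Groth.Agent.Lib.Helper1.KF (KFlat)

variable {A : Type u} [CommRing A] [HasLTen A] [HasLTen₃ A] [IsSymMonoidal A]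

@[reassoc]
lemma assoc_eε_inv (X Y Z : DRing.Cx A) :
    (associator (Q.obj X) (Q.obj Y) (Q.obj Z)).inv ≫ tH (eε X Y) (𝟙 (Q.obj Z)) ≫ eε (X ⊗ Y) Z =
      tH (𝟙 (Q.obj X)) (eε Y Z) ≫ eε X (Y ⊗ Z) ≫ Q.map (α_ X Y Z).inv := by
  rw [Iso.inv_comp_eq, assoc_eε_assoc, ← Functor.map_comp, Iso.hom_inv_id,
    CategoryTheory.Functor.map_id, Category.comp_id]

section zigzag

variable (P P' : DRing.Cx A) [ExactPairing P P'] [IsIso (eε P P')]

lemma zig1 :
    tH (Q.map (ExactPairing.coevaluation P P') ≫ inv (eε P P')) (𝟙 (Q.obj P)) ≫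
        (associator (Q.obj P) (Q.obj P') (Q.obj P)).hom ≫
        tH (𝟙 (Q.obj P)) (eε P' P ≫ Q.map (ExactPairing.evaluation P P')) =
      (leftUnitor (Q.obj P)).hom ≫ (rightUnitor (Q.obj P)).inv := by
  rw [Iso.eq_comp_inv, leftUnitor_eε, rightUnitor_eε, ← tH_comp_right]
  simp only [Category.assoc]
  rw [eε_nat_right_assoc, assoc_eε_assoc, tH_comp_left_assoc, Category.assoc, IsIso.inv_hom_id,
    Category.comp_id, eε_nat_left_assoc]
  simp only [← Functor.map_comp]
  rw [ExactPairing.evaluation_coevaluation_assoc, Iso.inv_hom_id, Category.comp_id]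

lemma zig2 :
    tH (𝟙 (Q.obj P')) (Q.map (ExactPairing.coevaluation P P') ≫ inv (eε P P')) ≫
        (associator (Q.obj P') (Q.obj P) (Q.obj P')).inv ≫
        tH (eε P' P ≫ Q.map (ExactPairing.evaluation P P')) (𝟙 (Q.obj P')) =
      (rightUnitor (Q.obj P')).hom ≫ (leftUnitor (Q.obj P')).inv := by
  rw [Iso.eq_comp_inv, leftUnitor_eε, rightUnitor_eε, ← tH_comp_left]
  simp only [Category.assoc]
  rw [eε_nat_left_assoc, assoc_eε_inv_assoc, tH_comp_right_assoc, Category.assoc, IsIso.inv_hom_id,
    Category.comp_id, eε_nat_right_assoc]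
  simp only [← Functor.map_comp]
  rw [ExactPairing.coevaluation_evaluation_assoc, Iso.inv_hom_id, Category.comp_id]

end zigzag

attribute [local instance] mCat

/-- an exact pairing of complexes, one of which is K-flat, gives an exact pairing in `D(A)` -/
@[instance_reducible] noncomputable def exactPairingQ (P P' : DRing.Cx A) [ExactPairing P P'] [IsIso (eε P P')] :
    ExactPairing (Q.obj P) (Q.obj P') where
  coevaluation' := Q.map (ExactPairing.coevaluation P P') ≫ inv (eε P P')
  evaluation' := eε P' P ≫ Q.map (ExactPairing.evaluation P P')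
  coevaluation_evaluation' := zig2 P P'
  evaluation_coevaluation' := zig1 P P'

variable [HasRHom A]

/-- the adjunction `- ⊗^L M ⊣ RHom(M, -)` in the language of the monoidal structure -/
noncomputable def rAdj (M : Dual.D A) : tensorRight M ⊣ RHomR A M := rhomAdj A M

lemma evalTen_eq (K L M : Dual.D A) : evalTen K L M = RigidEval.evT (rAdj M) K L := rfl

theorem isIso_evalTen_of_exactPairing_right (K L M M' : Dual.D A) [ExactPairing M M'] :
    IsIso (evalTen K L M) := by
  rw [evalTen_eq]
  exact RigidEval.isIso_evT_of_exactPairing_right M M' (rAdj M) K L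

theorem isIso_evalTen_of_exactPairing_left (K K' L M : Dual.D A) [ExactPairing K K'] :
    IsIso (evalTen K L M) := by
  rw [evalTen_eq]
  exact RigidEval.isIso_evT_of_exactPairing_left K K' (rAdj M) L

/-- the complex-level input (a bounded complex of finite projectives has a dual) -/
def HasDuals (A : Type u) [CommRing A] : Prop :=
  ∀ (P : DRing.Cx A) (a b : ℤ), DRing.VanishesOutside P a b → DRing.TermwiseFiniteProjective P →
    ∃ P' : DRing.Cx A, DRing.VanishesOutside P' (-b) (-a) ∧ DRing.TermwiseFiniteProjective P' ∧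
      Nonempty (ExactPairing P P')

lemma kflat_of_bounded_projective (P : DRing.Cx A) (a b : ℤ) (hv : DRing.VanishesOutside P a b)
    (hp : DRing.TermwiseFiniteProjective P) : KFlat P := by
  haveI : P.IsStrictlyLE b := by
    rw [CochainComplex.isStrictlyLE_iff]
    intro i hi
    exact hv i (Or.inr hi)
  haveI : ∀ n, Projective (P.X n) := fun n => by
    haveI := (hp n).2
    exact (IsProjective.iff_projective (P.X n)).1 inferInstance
  haveI : P.IsKProjective := CochainComplex.isKProjective_of_projective P b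
  exact Groth.Agent.Lib.Helper1.KF.kflat_of_isKProjective P

/-- a perfect object of `D(A)` has a dual for the derived tensor product -/
theorem exists_exactPairing_of_isPerfect (hA : HasDuals A) (K : Dual.D A)
    (hK : DRing.IsPerfect A K) : ∃ K' : Dual.D A, Nonempty (ExactPairing K K') := by
  obtain ⟨E, a, b, hv, hp, ⟨e⟩⟩ := hK
  obtain ⟨E', hv', hp', ⟨pair⟩⟩ := hA E a b hv hp
  haveI := pair
  haveI : IsIso (eε E E') := isIso_eε_left E E' (kflat_of_bounded_projective E a b hv hp)
  haveI : ExactPairing (Q.obj E) (Q.obj E') := exactPairingQ E E'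
  exact ⟨Q.obj E', ⟨exactPairingCongrLeft e.symm⟩⟩

theorem isIso_evalTen_of_isPerfect_right (hA : HasDuals A) (K L M : Dual.D A)
    (hM : DRing.IsPerfect A M) : IsIso (evalTen K L M) := by
  obtain ⟨M', ⟨h⟩⟩ := exists_exactPairing_of_isPerfect hA M hM
  haveI := h
  exact isIso_evalTen_of_exactPairing_right K L M M'

theorem isIso_evalTen_of_isPerfect_left (hA : HasDuals A) (K L M : Dual.D A)
    (hK : DRing.IsPerfect A K) : IsIso (evalTen K L M) := by
  obtain ⟨K', ⟨h⟩⟩ := exists_exactPairing_of_isPerfect hA K hK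
  haveI := h
  exact isIso_evalTen_of_exactPairing_left K K' L M

/-! ### evalHom -/

/-- the swap natural isomorphism `K ⊗^L - ≅ - ⊗^L K` given by `symm` -/
noncomputable def swapIso (K : Dual.D A) : tensorLeft K ≅ tensorRight K :=
  NatIso.ofComponents (fun X => braiding X K) (fun {X Y} f =>
    (symm A).naturality (Prod.mkHom f (𝟙 K) : (X, K) ⟶ (Y, K)))

lemma evalHom_eq (K L M : Dual.D A) :
    evalHom K L M = RigidEval.evH (rAdj L) (rAdj ((RHomR A K).obj L))
      ((symm A).app ((RHomR A K).obj L, K) ≫ ev K L) M := rfl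

theorem isIso_evalHom_of_exactPairing (K K'' L M : Dual.D A) [ExactPairing K'' K] :
    IsIso (evalHom K L M) := by
  rw [evalHom_eq]
  apply RigidEval.isIso_evH K''
  exact RigidEval.isIso_adjunct_swap K'' (rAdj K) (swapIso K) L

/-- the complex-level input, left-handed version -/
def HasLeftDuals (A : Type u) [CommRing A] : Prop :=
  ∀ (P : DRing.Cx A) (a b : ℤ), DRing.VanishesOutside P a b → DRing.TermwiseFiniteProjective P →
    ∃ P'' : DRing.Cx A, Nonempty (ExactPairing P'' P)

theorem exists_left_exactPairing_of_isPerfect (hA : HasLeftDuals A) (K : Dual.D A)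
    (hK : DRing.IsPerfect A K) : ∃ K'' : Dual.D A, Nonempty (ExactPairing K'' K) := by
  obtain ⟨E, a, b, hv, hp, ⟨e⟩⟩ := hK
  obtain ⟨E'', ⟨pair⟩⟩ := hA E a b hv hp
  haveI := pair
  haveI : IsIso (eε E'' E) := isIso_eε_right E'' E (kflat_of_bounded_projective E a b hv hp)
  haveI : ExactPairing (Q.obj E'') (Q.obj E) := exactPairingQ E'' E
  exact ⟨Q.obj E'', ⟨exactPairingCongrRight e.symm⟩⟩

theorem isIso_evalHom_of_isPerfect (hA : HasLeftDuals A) (K L M : Dual.D A)
    (hK : DRing.IsPerfect A K) : IsIso (evalHom K L M) := by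
  obtain ⟨K'', ⟨h⟩⟩ := exists_left_exactPairing_of_isPerfect hA K hK
  haveI := h
  exact isIso_evalHom_of_exactPairing K K'' L M

end Groth.Agent.Lib.Lead.DTMon
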