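import Groth.Agent.Lib.T2H9KoszulH1
import Groth.Agent.S2103

set_option autoImplicit false
set_option linter.style.haveILetI false
universe u
open CategoryTheory

namespace Groth.Agent.Lib.T2H9.KoszulCot
open Groth.Agent.Lib.T2H9.KoszulH1

/-- Koszul-regular sequences given by a function are quasi-regular -/
theorem isQuasiRegular_of_isKoszulRegularSeq_ofFn {R : Type u} [CommRing R] {r : ℕ} (g : Fin r → R)
    (hg : LCI.IsKoszulRegularSeq R (List.ofFn g)) : CAlgX.IsQuasiRegular g := by
  have h1 := isH1Regular_of_isKoszulRegularSeq _ hg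
  have h2 : CAlgX.IsH1Regular g := by
    refine Groth.Agent.Lib.T2H9.RegImmBC.h1_congr (List.length_ofFn) _ _ ?_ h1
    intro i
    simp only [List.get_eq_getElem, List.getElem_ofFn]
    rfl
  exact Groth.Agent.S2103.result g h2

theorem linearIndependent_toCotangent_of_isQuasiRegular {R : Type u} [CommRing R] {I : Ideal R}
    (r : ℕ) (f : Fin r → I) (hq : CAlgX.IsQuasiRegular (fun i => (f i : R)))
    (hfI : Ideal.span (Set.range (fun i => (f i : R))) = I) :
    LinearIndependent (R ⧸ I) (fun i => I.toCotangent (f i)) := by
  classical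
  rw [Fintype.linearIndependent_iff]
  intro c hc i
  choose a ha using fun i => Ideal.Quotient.mk_surjective (c i)
  have h1 : I.toCotangent (∑ j, a j • f j) = 0 := by
    rw [map_sum, ← hc]
    apply Finset.sum_congr rfl
    intro j _
    rw [map_smul, ← ha j]
    rfl
  rw [Ideal.toCotangent_eq_zero] at h1
  let P : MvPolynomial (Fin r) R := ∑ j, MvPolynomial.C (a j) * MvPolynomial.X j
  have hP : P.IsHomogeneous 1 := by
    apply MvPolynomial.IsHomogeneous.sum
    intro j _
    have := (MvPolynomial.isHomogeneous_C (Fin r) (a j)).mul (MvPolynomial.isHomogeneous_X R j)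
    simpa using this
  have heval : MvPolynomial.eval (fun i => (f i : R)) P ∈
      Ideal.span (Set.range (fun i => (f i : R))) ^ (1 + 1) := by
    rw [hfI]
    have : MvPolynomial.eval (fun i => (f i : R)) P = ((∑ j, a j • f j : I) : R) := by
      simp only [P, map_sum, map_mul, MvPolynomial.eval_C, MvPolynomial.eval_X]
      rw [Submodule.coe_sum]
      rfl
    rw [this]
    exact h1
  have hcoef := hq 1 P hP heval (Finsupp.single i 1)
  rw [hfI] at hcoef
  have hcoef' : P.coeff (Finsupp.single i 1) = a i := by
    simp only [P, MvPolynomial.coeff_sum, MvPolynomial.coeff_C_mul, MvPolynomial.coeff_X]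
    rw [Finset.sum_eq_single i]
    · simp
    · intro b _ hb
      have : Finsupp.single b 1 ≠ Finsupp.single i 1 := by
        intro h
        exact hb ((Finsupp.single_left_injective one_ne_zero) h)
      simp [this]
    · intro h; exact absurd (Finset.mem_univ i) h
  rw [hcoef'] at hcoef
  rw [← ha i]
  exact Ideal.Quotient.eq_zero_iff_mem.mpr hcoef

theorem span_toCotangent_eq_top {R : Type u} [CommRing R] {I : Ideal R}
    (r : ℕ) (f : Fin r → I) (hfI : Ideal.span (Set.range (fun i => (f i : R))) = I) :
    Submodule.span (R ⧸ I) (Set.range fun i => I.toCotangent (f i)) = ⊤ := by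
  have h1 : Submodule.span R (Set.range f) = ⊤ := by
    apply Submodule.map_injective_of_injective (f := I.subtype) I.subtype_injective
    rw [Submodule.map_span, Submodule.map_top, Submodule.range_subtype, ← Set.range_comp]
    exact hfI
  have h2 : Submodule.span R (Set.range fun i => I.toCotangent (f i)) = ⊤ := by
    have : (Set.range fun i => I.toCotangent (f i)) = I.toCotangent '' Set.range f := by
      rw [← Set.range_comp]
      rfl
    rw [this, ← Submodule.map_span, h1, Submodule.map_top, LinearMap.range_eq_top]
    exact Ideal.toCotangent_surjective I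
  rw [eq_top_iff]
  intro x _
  have hx : x ∈ Submodule.span R (Set.range fun i => I.toCotangent (f i)) := by
    rw [h2]; trivial
  exact Submodule.span_le_restrictScalars R (R ⧸ I) _ hx

theorem exists_basis_cotangent {R : Type u} [CommRing R] {I : Ideal R}
    (r : ℕ) (f : Fin r → I) (hf : LCI.IsKoszulRegularSeq R (List.ofFn (fun i => (f i : R))))
    (hfI : Ideal.span (Set.range (fun i => (f i : R))) = I) :
    ∃ b : Module.Basis (Fin r) (R ⧸ I) I.Cotangent, ∀ i, b i = I.toCotangent (f i) := by
  have hq := isQuasiRegular_of_isKoszulRegularSeq_ofFn _ hf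
  have hli := linearIndependent_toCotangent_of_isQuasiRegular r f hq hfI
  have hsp := span_toCotangent_eq_top r f hfI
  exact ⟨Module.Basis.mk hli hsp.ge, fun i => Module.Basis.mk_apply hli hsp.ge i⟩

end Groth.Agent.Lib.T2H9.KoszulCot
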