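import Mathlib
import Groth.Agent.Lib.T2H9KoszulCot

/-!
# Jacobian criterion in matrix form (helper7)

`linearIndependent_row_iff_exists_minor`: rows of a matrix over a field are independent iff some
maximal minor on distinct columns is nonzero.
`formallySmooth_iff_linearIndependent_jac`: for a local algebra `S` which is a quotient of a
formally smooth algebra `P` with finite free differentials by a Koszul-regular sequence, formal
smoothness of `S` is equivalent to linear independence of the rows of the Jacobian matrix over a
field receiving the residue field.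
-/

set_option autoImplicit false
set_option linter.unusedSectionVars false

namespace Groth.Agent.Lib.T2H7.JacCrit

open Module TensorProduct KaehlerDifferential

universe u

/-- a `c × n` matrix over a field has linearly independent rows iff some `c × c` minor
on distinct columns is nonzero -/
theorem linearIndependent_row_iff_exists_minor {K : Type*} [Field K] {c n : ℕ}
    (M : Matrix (Fin c) (Fin n) K) :
    LinearIndependent K M.row ↔ ∃ I : Fin c ↪ Fin n, (M.submatrix id I).det ≠ 0 := by
  constructor
  · intro h
    have hr : M.rank = c := by simpa using h.rank_matrix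
    rw [Matrix.rank_eq_finrank_span_cols] at hr
    obtain ⟨κ, a, ha, hsp, hli⟩ := exists_linearIndependent' K M.col
    have hfin : finrank K (Submodule.span K (Set.range (M.col ∘ a))) = c := by
      rw [hsp]; exact hr
    have : Finite κ := Finite.of_injective a ha
    cases nonempty_fintype κ
    have hcard : Fintype.card κ = c := by
      rw [← hfin]
      exact linearIndependent_iff_card_eq_finrank_span.mp hli
    let e : Fin c ≃ κ := (Fintype.equivFinOfCardEq hcard).symm
    refine ⟨⟨a ∘ e, ha.comp e.injective⟩, ?_⟩
    have hcols : LinearIndependent K (M.submatrix id (a ∘ e)).col :=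
      hli.comp e e.injective
    have hu := Matrix.linearIndependent_cols_iff_isUnit.mp hcols
    exact ((Matrix.isUnit_iff_isUnit_det _).mp hu).ne_zero
  · rintro ⟨I, hI⟩
    have hu : IsUnit (M.submatrix id I) :=
      (Matrix.isUnit_iff_isUnit_det _).mpr (isUnit_iff_ne_zero.mpr hI)
    have hrows := Matrix.linearIndependent_rows_iff_isUnit.mpr hu
    exact LinearIndependent.of_comp (LinearMap.funLeft K K I) hrows


section Local

variable {R P S K : Type u} [CommRing R] [CommRing P] [CommRing S] [Field K]
  [Algebra R P] [Algebra R S] [Algebra P S] [IsScalarTower R P S] [Algebra S K] [Algebra P K]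
  [IsScalarTower P S K]

variable {c n : ℕ} (f : Fin c → P)
  (hf : Ideal.span (Set.range f) = RingHom.ker (algebraMap P S))

include hf in
lemma f_mem (i : Fin c) : f i ∈ RingHom.ker (algebraMap P S) := by
  rw [← hf]; exact Ideal.subset_span (Set.mem_range_self i)

/-- the generators `1 ⊗ f i` -/
noncomputable def gen (i : Fin c) : K ⊗[P] RingHom.ker (algebraMap P S) :=
  (1 : K) ⊗ₜ[P] ⟨f i, f_mem f hf i⟩

lemma span_gen : Submodule.span K (Set.range (gen (K := K) f hf)) = ⊤ := by
  suffices h : ∀ x, x ∈ Submodule.span K (Set.range (gen (K := K) f hf)) from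
    eq_top_iff.mpr fun x _ => h x
  intro x
  induction x using TensorProduct.induction_on with
  | zero => exact Submodule.zero_mem _
  | add x y hx hy => exact Submodule.add_mem _ hx hy
  | tmul a y =>
    obtain ⟨y, hy⟩ := y
    have hy' := hy
    rw [← hf, Ideal.mem_span_range_iff_exists_fun] at hy'
    obtain ⟨g, hg⟩ := hy'
    have h1 : (⟨y, hy⟩ : RingHom.ker (algebraMap P S)) =
        ∑ i, g i • (⟨f i, f_mem f hf i⟩ : RingHom.ker (algebraMap P S)) := by
      apply Subtype.ext
      rw [Submodule.coe_sum]
      simp only [Submodule.coe_smul, smul_eq_mul]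
      exact hg.symm
    rw [h1, TensorProduct.tmul_sum]
    refine Submodule.sum_mem _ fun i _ => ?_
    have h2 : a ⊗ₜ[P] (g i • (⟨f i, f_mem f hf i⟩ : RingHom.ker (algebraMap P S))) =
        (algebraMap P K (g i) * a) • gen (K := K) f hf i := by
      unfold gen
      rw [TensorProduct.tmul_smul, TensorProduct.smul_tmul', TensorProduct.smul_tmul',
        smul_eq_mul, mul_one, Algebra.smul_def]
    rw [h2]
    exact Submodule.smul_mem _ _ (Submodule.subset_span ⟨i, rfl⟩)

lemma linearIndependent_gen (hreg : LCI.IsKoszulRegularSeq P (List.ofFn f)) :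
    LinearIndependent K (gen (K := K) f hf) := by
  obtain ⟨bc, hbc⟩ := Groth.Agent.Lib.T2H9.KoszulCot.exists_basis_cotangent
    (I := RingHom.ker (algebraMap P S)) c (fun i => ⟨f i, f_mem f hf i⟩) hreg hf
  have hker : ∀ a ∈ RingHom.ker (algebraMap P S), Algebra.ofId P K a = 0 := by
    intro a ha
    show algebraMap P K a = 0
    rw [IsScalarTower.algebraMap_apply P S K, (RingHom.mem_ker).mp ha, map_zero]
  let χ : (P ⧸ RingHom.ker (algebraMap P S)) →ₐ[P] K :=
    Ideal.Quotient.liftₐ _ (Algebra.ofId P K) hker
  let Φ : RingHom.ker (algebraMap P S) →ₗ[P] (Fin c → K) :=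
    LinearMap.pi fun i => χ.toLinearMap ∘ₗ
      ((Finsupp.lapply i ∘ₗ bc.repr.toLinearMap).restrictScalars P) ∘ₗ
        (RingHom.ker (algebraMap P S)).toCotangent
  let Ψ : K ⊗[P] RingHom.ker (algebraMap P S) →ₗ[K] (Fin c → K) := LinearMap.liftBaseChange K Φ
  have hΨ : ∀ j, Ψ (gen (K := K) f hf j) = Pi.single j 1 := by
    intro j
    show LinearMap.liftBaseChange K Φ (1 ⊗ₜ _) = _
    rw [LinearMap.liftBaseChange_tmul, one_smul]
    ext i
    show χ (bc.repr ((RingHom.ker (algebraMap P S)).toCotangent ⟨f j, _⟩) i) = _
    rw [← hbc j, bc.repr_self, Finsupp.single_apply, Pi.single_apply]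
    by_cases hij : j = i
    · subst hij; simp
    · rw [if_neg hij, if_neg (Ne.symm hij), map_zero]
  apply LinearIndependent.of_comp Ψ
  have h3 : Ψ ∘ gen (K := K) f hf = fun j => Pi.single j (1 : K) := funext hΨ
  rw [h3]
  have h4 := (Pi.basisFun K (Fin c)).linearIndependent
  convert h4 using 1
  funext j
  rw [Pi.basisFun_apply]

variable (b : Basis (Fin n) P Ω[P⁄R])

/-- the Jacobian matrix with values in `K` -/
noncomputable def jac (i : Fin c) (j : Fin n) : K := algebraMap P K (b.repr (D R P (f i)) j)

lemma equivFun_cotangentComplexBaseChange_gen (i : Fin c) :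
    (b.baseChange K).equivFun (cotangentComplexBaseChange R S P K (gen (K := K) f hf i)) =
      jac (K := K) f b i := by
  funext j
  rw [Basis.equivFun_apply]
  unfold gen jac
  rw [cotangentComplexBaseChange_tmul, one_smul, kerToTensor_apply, Basis.baseChange_repr_tmul,
    Algebra.smul_def, mul_one]

include hf in
/-- the Jacobian criterion in matrix form, for a local algebra presented by a Koszul-regular
sequence -/
theorem formallySmooth_iff_linearIndependent_jac [IsLocalRing S] [Algebra.FormallySmooth R P]
    (h₁ : Function.Surjective (algebraMap P S))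
    (h₃ : IsLocalRing.maximalIdeal S ≤ RingHom.ker (algebraMap S K))
    (hreg : LCI.IsKoszulRegularSeq P (List.ofFn f)) :
    Algebra.FormallySmooth R S ↔ LinearIndependent K (jac (K := K) f b) := by
  have : Module.Free P Ω[P⁄R] := Module.Free.of_basis b
  have : Module.Finite P Ω[P⁄R] := Module.Finite.of_basis b
  have h₂ : (RingHom.ker (algebraMap P S)).FG := by
    rw [← hf]; exact Submodule.fg_span (Set.finite_range f)
  rw [Algebra.FormallySmooth.iff_injective_cotangentComplexBaseChange P K h₁ h₂ h₃]
  have hT := equivFun_cotangentComplexBaseChange_gen (R := R) (K := K) f hf b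
  have hli := linearIndependent_gen (K := K) f hf hreg
  have hsp := span_gen (K := K) f hf
  constructor
  · intro hinj
    have h1 : LinearIndependent K (cotangentComplexBaseChange R S P K ∘ gen (K := K) f hf) :=
      hli.map' _ (LinearMap.ker_eq_bot.mpr hinj)
    have h2 := h1.map' (b.baseChange K).equivFun.toLinearMap (LinearEquiv.ker _)
    have h6 : jac (K := K) f b = ((b.baseChange K).equivFun.toLinearMap ∘
        (cotangentComplexBaseChange R S P K ∘ gen (K := K) f hf)) :=
      funext fun i => (hT i).symm
    rw [h6]
    exact h2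
  · intro hrows
    have h1 : LinearIndependent K (cotangentComplexBaseChange R S P K ∘ gen (K := K) f hf) := by
      apply LinearIndependent.of_comp (b.baseChange K).equivFun.toLinearMap
      have h6 : ((b.baseChange K).equivFun.toLinearMap ∘
          (cotangentComplexBaseChange R S P K ∘ gen (K := K) f hf)) = jac (K := K) f b :=
        funext fun i => hT i
      rw [h6]
      exact hrows
    let B := Basis.mk hli hsp.ge
    rw [← LinearMap.ker_eq_bot, LinearMap.ker_eq_bot']
    intro x hx
    have hx' : x = ∑ i, B.repr x i • gen (K := K) f hf i := by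
      conv_lhs => rw [← B.sum_repr x]
      refine Finset.sum_congr rfl fun i _ => ?_
      rw [Basis.mk_apply]
    rw [hx', map_sum] at hx
    simp only [map_smul] at hx
    have h5 := (Fintype.linearIndependent_iff.mp h1) (fun i => B.repr x i) hx
    rw [hx']
    refine Finset.sum_eq_zero fun i _ => ?_
    rw [h5 i, zero_smul]

end Local

end Groth.Agent.Lib.T2H7.JacCrit
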