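import Mathlib
import Groth.Agent.Lib.LeadJacDim
import Groth.Agent.Lib.T2H7JacCrit

/-!
# A finite type algebra is locally a closed subscheme of a standard smooth one of the minimal
relative dimension (lead)
-/

set_option autoImplicit false
set_option maxHeartbeats 400000
set_option linter.style.haveILetI false
set_option linter.unusedSectionVars false

universe u

namespace Groth.Agent.Lib.LeadStdSm

open TensorProduct KaehlerDifferential MvPolynomial

/-- the localization of a pre-submersive presentation at its jacobian is standard smooth of the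
expected relative dimension. -/
theorem isStandardSmoothOfRelativeDimension_away_jacobian {A E : Type u} [CommRing A] [CommRing E]
    [Algebra A E] {ι σ : Type} [Finite ι] [Finite σ]
    (P : Algebra.PreSubmersivePresentation A E ι σ) (r : ℕ) (hr : P.dimension = r) :
    Algebra.IsStandardSmoothOfRelativeDimension r A (Localization.Away P.jacobian) := by
  have hΔ : IsUnit (algebraMap E (Localization.Away P.jacobian) P.jacobian) :=
    IsLocalization.Away.algebraMap_isUnit _
  let Q : Algebra.SubmersivePresentation A (Localization.Away P.jacobian) _ _ :=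
    { toPreSubmersivePresentation :=
        .comp (.localizationAway (Localization.Away P.jacobian) P.jacobian) P
      jacobian_isUnit := by simp [Algebra.smul_def, -isUnit_map_iff, hΔ] }
  exact Q.isStandardSmoothOfRelativeDimension (by
    simp only [Algebra.PreSubmersivePresentation.dimension_comp_eq_dimension_add_dimension, Q]
    simp [Algebra.Presentation.dimension] at hr ⊢
    exact hr)

section Family

variable {R A S K : Type u} [CommRing R] [CommRing A] [CommRing S] [Field K]
  [Algebra R A] [Algebra R S] [Algebra A S] [IsScalarTower R A S]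
  [Algebra S K] [Algebra A K] [IsScalarTower A S K]

/-- a family of equations with independent differentials at `K`, of the complementary size. -/
theorem exists_indep_family [Nontrivial A] [Module.Free A Ω[A⁄R]] [Module.Finite A Ω[A⁄R]]
    (hsurj : Function.Surjective (algebraMap A S)) :
    ∃ (c : ℕ) (f : Fin c → A), (∀ i, f i ∈ RingHom.ker (algebraMap A S)) ∧
      LinearIndependent K (fun i => (1 : K) ⊗ₜ[A] D R A (f i)) ∧
      Module.finrank K (K ⊗[S] Ω[S⁄R]) + c = Module.finrank A Ω[A⁄R] := by
  obtain ⟨v, hvmem, hvspan, hvind⟩ := Submodule.exists_fun_fin_finrank_span_eq K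
    ((fun a : A => (1 : K) ⊗ₜ[A] D R A a) '' (RingHom.ker (algebraMap A S) : Set A))
  have hvmem' : ∀ i, ∃ a, a ∈ RingHom.ker (algebraMap A S) ∧ (1 : K) ⊗ₜ[A] D R A a = v i :=
    fun i => hvmem i
  choose f hfI hfv using hvmem'
  have hfv' : (fun i => (1 : K) ⊗ₜ[A] D R A (f i)) = v := funext hfv
  refine ⟨_, f, hfI, ?_, Groth.Agent.Lib.LeadJacDim.finrank_add_finrank_span hsurj⟩
  rw [hfv']
  exact hvind

end Family

theorem main_aux (A B : Type u) [CommRing A] [CommRing B] [Algebra A B] [Algebra.FiniteType A B]
    (q : Ideal B) [q.IsPrime] (K : Type u) [Field K] [Algebra B K]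
    (hK : RingHom.ker (algebraMap B K) = q) (r : ℕ)
    (hr : Module.finrank K (K ⊗[B] Ω[B⁄A]) = r) :
    ∃ g : B, g ∉ q ∧ ∃ (D : Type u) (_ : CommRing D) (_ : Algebra A D),
      Algebra.IsStandardSmoothOfRelativeDimension r A D ∧
        ∃ φ : D →ₐ[A] Localization.Away g, Function.Surjective φ := by
  classical
  obtain ⟨N, π, hπ⟩ := Algebra.FiniteType.iff_quotient_mvPolynomial''.mp
    (inferInstance : Algebra.FiniteType A B)
  letI : Algebra (MvPolynomial (Fin N) A) B := π.toRingHom.toAlgebra
  haveI : IsScalarTower A (MvPolynomial (Fin N) A) B :=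
    IsScalarTower.of_algebraMap_eq' π.comp_algebraMap.symm
  letI : Algebra (MvPolynomial (Fin N) A) K :=
    ((algebraMap B K).comp (algebraMap (MvPolynomial (Fin N) A) B)).toAlgebra
  haveI : IsScalarTower (MvPolynomial (Fin N) A) B K :=
    IsScalarTower.of_algebraMap_eq' rfl
  haveI : Nontrivial A :=
    RingHom.domain_nontrivial ((algebraMap B K).comp (algebraMap A B))
  have hχ : ∀ p : MvPolynomial (Fin N) A,
      algebraMap (MvPolynomial (Fin N) A) K p = algebraMap B K (π p) :=
    fun p => rfl
  obtain ⟨c, f, hfI, hind, hsum⟩ := exists_indep_family (R := A) (A := MvPolynomial (Fin N) A)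
    (S := B) (K := K) hπ
  have hN : Module.finrank (MvPolynomial (Fin N) A) Ω[MvPolynomial (Fin N) A⁄A] = N := by
    rw [Module.finrank_eq_card_basis (mvPolynomialBasis A (Fin N)), Fintype.card_fin]
  rw [hN, hr] at hsum
  -- the Jacobian matrix at `q`
  let M : Matrix (Fin c) (Fin N) K := fun i j =>
    algebraMap (MvPolynomial (Fin N) A) K (pderiv j (f i))
  have hrows : LinearIndependent K M.row := by
    let b := (mvPolynomialBasis A (Fin N)).baseChange K
    have h1 := hind.map' b.equivFun.toLinearMap (LinearEquiv.ker _)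
    have h2 : (b.equivFun.toLinearMap ∘ fun i => (1 : K) ⊗ₜ[MvPolynomial (Fin N) A]
        D A (MvPolynomial (Fin N) A) (f i)) = M.row := by
      funext i j
      simp only [Function.comp, LinearEquiv.coe_coe, Module.Basis.equivFun_apply, b,
        Module.Basis.baseChange_repr_tmul, mvPolynomialBasis_repr_apply, Algebra.smul_def,
        mul_one]
      rfl
    rw [h2] at h1
    exact h1
  obtain ⟨a, ha⟩ :=
    (Groth.Agent.Lib.T2H7.JacCrit.linearIndependent_row_iff_exists_minor M).mp hrows
  -- the presentation
  let Pre : Algebra.PreSubmersivePresentation A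
      (MvPolynomial (Fin N) A ⧸ Ideal.span (Set.range f)) (Fin N) (Fin c) :=
    Algebra.PreSubmersivePresentation.naive (v := f) a a.injective
  have hdim : Pre.dimension = r := by
    simp only [Algebra.Presentation.dimension, Nat.card_eq_fintype_card, Fintype.card_fin]
    omega
  have hzero : ∀ x ∈ Ideal.span (Set.range f), π x = 0 := by
    intro x hx
    have hle : Ideal.span (Set.range f) ≤ RingHom.ker (algebraMap (MvPolynomial (Fin N) A) B) := by
      rw [Ideal.span_le]
      rintro _ ⟨i, rfl⟩
      exact hfI i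
    exact RingHom.mem_ker.mp (hle hx)
  let ψ : (MvPolynomial (Fin N) A ⧸ Ideal.span (Set.range f)) →ₐ[A] B :=
    Ideal.Quotient.liftₐ _ π hzero
  have hψmk : ∀ p, ψ (Ideal.Quotient.mk _ p) = π p := fun p => rfl
  have hψ : Function.Surjective ψ := by
    intro s
    obtain ⟨p, rfl⟩ := hπ s
    exact ⟨Ideal.Quotient.mk _ p, hψmk p⟩
  have hjac : ψ Pre.jacobian = π Pre.jacobiMatrix.det := by
    rw [Algebra.PreSubmersivePresentation.jacobian_eq_jacobiMatrix_det]
    rfl
  refine ⟨ψ Pre.jacobian, ?_, Localization.Away Pre.jacobian, inferInstance, inferInstance,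
    isStandardSmoothOfRelativeDimension_away_jacobian Pre r hdim,
    Localization.awayMapₐ ψ Pre.jacobian,
    IsLocalization.Away.mapₐ_surjective_of_surjective _ hψ⟩
  intro hmem
  have h0 : algebraMap B K (ψ Pre.jacobian) = 0 := by
    rw [← RingHom.mem_ker, hK]
    exact hmem
  rw [hjac, ← hχ, RingHom.map_det] at h0
  have hmat : (algebraMap (MvPolynomial (Fin N) A) K).mapMatrix Pre.jacobiMatrix =
      (M.submatrix id a).transpose := by
    ext i j
    rw [RingHom.mapMatrix_apply, Matrix.map_apply,
      Algebra.PreSubmersivePresentation.jacobiMatrix_naive]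
    rfl
  rw [hmat, Matrix.det_transpose] at h0
  exact ha h0

theorem main_S7634 (A B : Type u) [CommRing A] [CommRing B] [Algebra A B] [Algebra.FiniteType A B]
    (q : Ideal B) [q.IsPrime] (r : ℕ)
    (hr : Module.finrank q.ResidueField (q.ResidueField ⊗[B] Ω[B⁄A]) = r) :
    ∃ g : B, g ∉ q ∧ ∃ (D : Type u) (_ : CommRing D) (_ : Algebra A D),
      Algebra.IsStandardSmoothOfRelativeDimension r A D ∧
        ∃ φ : D →ₐ[A] Localization.Away g, Function.Surjective φ :=
  main_aux A B q q.ResidueField (Ideal.ker_algebraMap_residueField q) r hr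

/-- from a family of `c` equations with independent differentials at `q`: a principal open
neighbourhood of `q` is closed in a standard smooth algebra of relative dimension `N - c`. -/
theorem core (A B : Type u) [CommRing A] [CommRing B] [Algebra A B]
    (q : Ideal B) [q.IsPrime] (K : Type u) [Field K] [Algebra B K]
    (hK : RingHom.ker (algebraMap B K) = q) {N c : ℕ}
    (π : MvPolynomial (Fin N) A →ₐ[A] B) (hπ : Function.Surjective π)
    (f : Fin c → MvPolynomial (Fin N) A) (hfI : ∀ i, π (f i) = 0)
    (hind : letI : Algebra (MvPolynomial (Fin N) A) K :=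
        ((algebraMap B K).comp π.toRingHom).toAlgebra
      LinearIndependent K (fun i => (1 : K) ⊗ₜ[MvPolynomial (Fin N) A]
        D A (MvPolynomial (Fin N) A) (f i))) :
    ∃ g : B, g ∉ q ∧ ∃ (D : Type u) (_ : CommRing D) (_ : Algebra A D),
      Algebra.IsStandardSmoothOfRelativeDimension (N - c) A D ∧
        ∃ φ : D →ₐ[A] Localization.Away g, Function.Surjective φ := by
  classical
  letI : Algebra (MvPolynomial (Fin N) A) K := ((algebraMap B K).comp π.toRingHom).toAlgebra
  have hχ : ∀ p : MvPolynomial (Fin N) A,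
      algebraMap (MvPolynomial (Fin N) A) K p = algebraMap B K (π p) :=
    fun p => rfl
  let M : Matrix (Fin c) (Fin N) K := fun i j =>
    algebraMap (MvPolynomial (Fin N) A) K (pderiv j (f i))
  have hrows : LinearIndependent K M.row := by
    let b := (mvPolynomialBasis A (Fin N)).baseChange K
    have h1 := hind.map' b.equivFun.toLinearMap (LinearEquiv.ker _)
    have h2 : (b.equivFun.toLinearMap ∘ fun i => (1 : K) ⊗ₜ[MvPolynomial (Fin N) A]
        D A (MvPolynomial (Fin N) A) (f i)) = M.row := by
      funext i j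
      simp only [Function.comp, LinearEquiv.coe_coe, Module.Basis.equivFun_apply, b,
        Module.Basis.baseChange_repr_tmul, mvPolynomialBasis_repr_apply, Algebra.smul_def,
        mul_one]
      rfl
    rw [h2] at h1
    exact h1
  obtain ⟨a, ha⟩ :=
    (Groth.Agent.Lib.T2H7.JacCrit.linearIndependent_row_iff_exists_minor M).mp hrows
  let Pre : Algebra.PreSubmersivePresentation A
      (MvPolynomial (Fin N) A ⧸ Ideal.span (Set.range f)) (Fin N) (Fin c) :=
    Algebra.PreSubmersivePresentation.naive (v := f) a a.injective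
  have hdim : Pre.dimension = N - c := by
    simp only [Algebra.Presentation.dimension, Nat.card_eq_fintype_card, Fintype.card_fin]
  have hzero : ∀ x ∈ Ideal.span (Set.range f), π x = 0 := by
    intro x hx
    have hle : Ideal.span (Set.range f) ≤ RingHom.ker π.toRingHom := by
      rw [Ideal.span_le]
      rintro _ ⟨i, rfl⟩
      exact hfI i
    exact RingHom.mem_ker.mp (hle hx)
  let ψ : (MvPolynomial (Fin N) A ⧸ Ideal.span (Set.range f)) →ₐ[A] B :=
    Ideal.Quotient.liftₐ _ π hzero
  have hψmk : ∀ p, ψ (Ideal.Quotient.mk _ p) = π p := fun p => rfl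
  have hψ : Function.Surjective ψ := by
    intro s
    obtain ⟨p, rfl⟩ := hπ s
    exact ⟨Ideal.Quotient.mk _ p, hψmk p⟩
  have hjac : ψ Pre.jacobian = π Pre.jacobiMatrix.det := by
    rw [Algebra.PreSubmersivePresentation.jacobian_eq_jacobiMatrix_det]
    rfl
  refine ⟨ψ Pre.jacobian, ?_, Localization.Away Pre.jacobian, inferInstance, inferInstance,
    isStandardSmoothOfRelativeDimension_away_jacobian Pre (N - c) hdim,
    Localization.awayMapₐ ψ Pre.jacobian,
    IsLocalization.Away.mapₐ_surjective_of_surjective _ hψ⟩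
  intro hmem
  have h0 : algebraMap B K (ψ Pre.jacobian) = 0 := by
    rw [← RingHom.mem_ker, hK]
    exact hmem
  rw [hjac, ← hχ, RingHom.map_det] at h0
  have hmat : (algebraMap (MvPolynomial (Fin N) A) K).mapMatrix Pre.jacobiMatrix =
      (M.submatrix id a).transpose := by
    ext i j
    rw [RingHom.mapMatrix_apply, Matrix.map_apply,
      Algebra.PreSubmersivePresentation.jacobiMatrix_naive]
    rfl
  rw [hmat, Matrix.det_transpose] at h0
  exact ha h0

/-- a presentation with at least `p` variables. -/
theorem exists_surjective_mvPolynomial_add (A B : Type u) [CommRing A] [CommRing B] [Algebra A B]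
    [Algebra.FiniteType A B] (p : ℕ) :
    ∃ (N : ℕ) (π : MvPolynomial (Fin (N + p)) A →ₐ[A] B), Function.Surjective π := by
  obtain ⟨N, π₀, hπ₀⟩ := Algebra.FiniteType.iff_quotient_mvPolynomial''.mp
    (inferInstance : Algebra.FiniteType A B)
  refine ⟨N, aeval (Fin.addCases (fun i => π₀ (X i)) (fun _ => 0)), ?_⟩
  intro b
  obtain ⟨P, rfl⟩ := hπ₀ b
  refine ⟨rename (Fin.castAdd p) P, ?_⟩
  rw [aeval_rename]
  have h1 : (Fin.addCases (fun i => π₀ (X i)) (fun _ => (0 : B)) ∘ Fin.castAdd p) =
      fun i => π₀ (X i) := by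
    funext i
    simp only [Function.comp, Fin.addCases_left]
  rw [h1]
  conv_rhs => rw [aeval_unique π₀]
  rfl

/-- **any relative dimension `p ≥ dim Ω ⊗ κ(q)` is achieved.** -/
theorem main_aux_ge (A B : Type u) [CommRing A] [CommRing B] [Algebra A B] [Algebra.FiniteType A B]
    (q : Ideal B) [q.IsPrime] (K : Type u) [Field K] [Algebra B K]
    (hK : RingHom.ker (algebraMap B K) = q) (p : ℕ)
    (hr : Module.finrank K (K ⊗[B] Ω[B⁄A]) ≤ p) :
    ∃ g : B, g ∉ q ∧ ∃ (D : Type u) (_ : CommRing D) (_ : Algebra A D),
      Algebra.IsStandardSmoothOfRelativeDimension p A D ∧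
        ∃ φ : D →ₐ[A] Localization.Away g, Function.Surjective φ := by
  classical
  obtain ⟨N, π, hπ⟩ := exists_surjective_mvPolynomial_add A B p
  letI : Algebra (MvPolynomial (Fin (N + p)) A) B := π.toRingHom.toAlgebra
  haveI : IsScalarTower A (MvPolynomial (Fin (N + p)) A) B :=
    IsScalarTower.of_algebraMap_eq' π.comp_algebraMap.symm
  letI : Algebra (MvPolynomial (Fin (N + p)) A) K :=
    ((algebraMap B K).comp π.toRingHom).toAlgebra
  haveI : IsScalarTower (MvPolynomial (Fin (N + p)) A) B K :=
    IsScalarTower.of_algebraMap_eq' rfl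
  haveI : Nontrivial A :=
    RingHom.domain_nontrivial ((algebraMap B K).comp (algebraMap A B))
  obtain ⟨c, f, hfI, hind, hsum⟩ := exists_indep_family (R := A)
    (A := MvPolynomial (Fin (N + p)) A) (S := B) (K := K) hπ
  have hN : Module.finrank (MvPolynomial (Fin (N + p)) A) Ω[MvPolynomial (Fin (N + p)) A⁄A] =
      N + p := by
    rw [Module.finrank_eq_card_basis (mvPolynomialBasis A (Fin (N + p))), Fintype.card_fin]
  rw [hN] at hsum
  have hNc : N ≤ c := by omega
  have h := core A B q K hK π hπ (f ∘ Fin.castLE hNc) (fun i => RingHom.mem_ker.mp (hfI _))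
    (hind.comp _ (Fin.castLE_injective hNc))
  have hNp : N + p - N = p := by omega
  rw [hNp] at h
  exact h

end Groth.Agent.Lib.LeadStdSm
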