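import Mathlib
import Groth.Agent.Lib.LeadStdSm
import Groth.Agent.Lib.Helper18FittSh6
import Groth.Agent.Lib.Helper20OmegaQCoh
import Groth.Agent.Lib.Helper20ConormalStalk

/-!
# The Jacobian locus `J^p(X/Y)` and local closed immersions into smooth schemes (lead)
-/

set_option autoImplicit false
set_option maxHeartbeats 400000
set_option linter.style.haveILetI false
set_option linter.unusedSectionVars false

universe u

namespace Groth.Agent.Lib.LeadFittSm

open CategoryTheory CategoryTheory.Limits AlgebraicGeometry TopologicalSpace TensorProduct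
  KaehlerDifferential

/-- differentials of a quotient of a standard smooth algebra of relative dimension `p` are
generated by `p` elements. -/
theorem exists_gens_kaehler_of_surjective {A D B' : Type u} [CommRing A] [CommRing D] [CommRing B']
    [Algebra A D] [Algebra A B'] (p : ℕ) [hD : Algebra.IsStandardSmoothOfRelativeDimension p A D]
    (ρ : D →+* B') (hρ : Function.Surjective ρ)
    (hcomp : ∀ a, ρ (algebraMap A D a) = algebraMap A B' a) :
    ∃ g : Fin p → Ω[B'⁄A], Submodule.span B' (Set.range g) = ⊤ := by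
  by_cases hnt : Nontrivial D
  · letI : Algebra D B' := ρ.toAlgebra
    haveI : IsScalarTower A D B' := IsScalarTower.of_algebraMap_eq (fun a => (hcomp a).symm)
    have hsurj := KaehlerDifferential.map_surjective_of_surjective A A D B' hρ
    haveI : Algebra.IsStandardSmooth A D := hD.isStandardSmooth
    have hrank : Module.finrank D Ω[D⁄A] = p :=
      Module.finrank_eq_of_rank_eq
        (Algebra.IsStandardSmoothOfRelativeDimension.rank_kaehlerDifferential p)
    let b : Module.Basis (Fin p) D Ω[D⁄A] := Module.finBasisOfFinrankEq _ _ hrank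
    refine ⟨fun i => KaehlerDifferential.map A A D B' (b i), ?_⟩
    rw [eq_top_iff]
    intro ω _
    obtain ⟨ω', rfl⟩ := hsurj ω
    rw [← b.sum_repr ω', map_sum]
    refine Submodule.sum_mem _ (fun i _ => ?_)
    rw [map_smul, ← algebraMap_smul B' (b.repr ω' i)]
    exact Submodule.smul_mem _ _ (Submodule.subset_span ⟨i, rfl⟩)
  · rw [not_nontrivial_iff_subsingleton] at hnt
    haveI : Subsingleton B' := by
      refine ⟨fun a b => ?_⟩
      obtain ⟨a', rfl⟩ := hρ a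
      obtain ⟨b', rfl⟩ := hρ b
      rw [Subsingleton.elim a' b']
    haveI : Subsingleton Ω[B'⁄A] := Module.subsingleton B' _
    exact ⟨fun _ => 0, Subsingleton.elim _ _⟩

section Geo

variable {X Y : Scheme.{u}} (f : X ⟶ Y)

/-- the geometric construction: a surjection from a standard smooth algebra onto the sections
over a basic open gives a closed immersion into a smooth scheme. -/
theorem exists_closedImmersion_of_surjective {V : Y.Opens} (hV : IsAffineOpen V) {W : X.Opens}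
    (hW : IsAffineOpen W) (hWV : W ≤ f ⁻¹ᵁ V) (g : Γ(X, W)) (p : ℕ)
    (D : Type u) [CommRing D] [Algebra Γ(Y, V) D]
    [hD : Algebra.IsStandardSmoothOfRelativeDimension p Γ(Y, V) D]
    (φ : letI : Algebra Γ(Y, V) Γ(X, W) := (f.appLE V W hWV).hom.toAlgebra
      D →ₐ[Γ(Y, V)] Localization.Away g)
    (hφ : Function.Surjective φ) :
    ∃ (U' : Scheme.{u}) (i : ((X.basicOpen g : X.Opens) : Scheme.{u}) ⟶ U') (g' : U' ⟶ Y),
      IsClosedImmersion i ∧ SmoothOfRelativeDimension p g' ∧ i ≫ g' = (X.basicOpen g).ι ≫ f := by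
  letI : Algebra Γ(Y, V) Γ(X, W) := (f.appLE V W hWV).hom.toAlgebra
  have hU : IsAffineOpen (X.basicOpen g) := hW.basicOpen g
  haveI hloc : IsLocalization.Away g Γ(X, X.basicOpen g) := hW.isLocalization_basicOpen g
  let eloc : Localization.Away g ≃ₐ[Γ(X, W)] Γ(X, X.basicOpen g) :=
    IsLocalization.algEquiv (Submonoid.powers g) _ _
  let ρ : D →+* Γ(X, X.basicOpen g) := (eloc : Localization.Away g →+* _).comp φ.toRingHom
  have hρ : Function.Surjective ρ := eloc.surjective.comp hφ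
  have hUV : X.basicOpen g ≤ f ⁻¹ᵁ V := (X.basicOpen_le g).trans hWV
  have hcomp : CommRingCat.ofHom (algebraMap Γ(Y, V) D) ≫ CommRingCat.ofHom ρ =
      f.appLE V (X.basicOpen g) hUV := by
    ext a
    show eloc (φ (algebraMap _ D a)) = _
    rw [φ.commutes, IsScalarTower.algebraMap_apply Γ(Y, V) Γ(X, W) (Localization.Away g),
      eloc.commutes, ← f.appLE_map hWV (homOfLE (X.basicOpen_le g)).op]
    rfl
  refine ⟨Spec (CommRingCat.of D), hU.isoSpec.hom ≫ Spec.map (CommRingCat.ofHom ρ),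
    Spec.map (CommRingCat.ofHom (algebraMap Γ(Y, V) D)) ≫ hV.fromSpec, ?_, ?_, ?_⟩
  · haveI := IsClosedImmersion.spec_of_surjective (CommRingCat.ofHom ρ) hρ
    infer_instance
  · haveI h1 : SmoothOfRelativeDimension p
        (Spec.map (CommRingCat.ofHom (algebraMap Γ(Y, V) D))) := by
      rw [HasRingHomProperty.Spec_iff (P := @SmoothOfRelativeDimension p)]
      exact RingHom.locally_of RingHom.isStandardSmoothOfRelativeDimension_respectsIso _
        ((RingHom.isStandardSmoothOfRelativeDimension_algebraMap p).mpr hD)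
    have h2 : SmoothOfRelativeDimension (p + 0)
        (Spec.map (CommRingCat.ofHom (algebraMap Γ(Y, V) D)) ≫ hV.fromSpec) := inferInstance
    exact h2
  · rw [Category.assoc, ← Category.assoc (Spec.map (CommRingCat.ofHom ρ)), ← Spec.map_comp, hcomp,
      IsAffineOpen.SpecMap_appLE_fromSpec f hV hU hUV, ← Category.assoc,
      hU.isoSpec_hom_fromSpec]

end Geo

section Main

open Groth.Agent.Helper18FittSh Groth.Agent.Helper18Fitt Groth.Agent.Lib.Helper20.OmegaQCoh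

variable {X Y : Scheme.{u}} (f : X ⟶ Y)

theorem exists_of_notMem_support [LocallyOfFinitePresentation f] [QuasiSeparated f] (p : ℕ)
    (x : ↥X) (hx : x ∉ (Fitt.sheafIdeal (Omega.sheaf f) p).support) :
    ∃ (U : X.Opens) (U' : Scheme.{u}) (i : (U : Scheme.{u}) ⟶ U') (g : U' ⟶ Y),
      x ∈ U ∧ IsClosedImmersion i ∧ SmoothOfRelativeDimension p g ∧ i ≫ g = U.ι ≫ f := by
  haveI := isQuasicoherent_omega f
  have hfin : ∀ V : X.affineOpens, Module.Finite Γ(X, V.1) Γ(Omega.sheaf f, V.1) :=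
    fun V => finite_sections_omega f V.2
  obtain ⟨V, hV, hfxV, -⟩ := exists_isAffineOpen_mem_and_subset (x := f x) (U := ⊤) trivial
  obtain ⟨W, hW, hxW, hWV⟩ := exists_isAffineOpen_mem_and_subset (x := x) (U := f ⁻¹ᵁ V) hfxV
  letI : Algebra Γ(Y, V) Γ(X, W) := (f.appLE V W hWV).hom.toAlgebra
  haveI : Algebra.FinitePresentation Γ(Y, V) Γ(X, W) := f.finitePresentation_appLE hV hW hWV
  haveI := hfin ⟨W, hW⟩
  rw [mem_support_iff (Omega.sheaf f) p hfin x ⟨W, hW⟩ hxW] at hx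
  haveI : (hW.primeIdealOf ⟨x, hxW⟩).asIdeal.IsPrime := (hW.primeIdealOf ⟨x, hxW⟩).isPrime
  rw [not_le_iff_finrank] at hx
  obtain ⟨e⟩ := nonempty_sections_omega_equiv f hW hV hWV
  have hr : Module.finrank (hW.primeIdealOf ⟨x, hxW⟩).asIdeal.ResidueField
      ((hW.primeIdealOf ⟨x, hxW⟩).asIdeal.ResidueField ⊗[Γ(X, W)] Ω[Γ(X, W)⁄Γ(Y, V)]) ≤ p := by
    rw [← (AlgebraTensorModule.congr
      (LinearEquiv.refl (hW.primeIdealOf ⟨x, hxW⟩).asIdeal.ResidueField
        (hW.primeIdealOf ⟨x, hxW⟩).asIdeal.ResidueField) e).finrank_eq]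
    exact hx
  obtain ⟨g, hgq, D, _, _, hD, φ, hφ⟩ := Groth.Agent.Lib.LeadStdSm.main_aux_ge Γ(Y, V) Γ(X, W)
    (hW.primeIdealOf ⟨x, hxW⟩).asIdeal (hW.primeIdealOf ⟨x, hxW⟩).asIdeal.ResidueField
    (Ideal.ker_algebraMap_residueField _) p hr
  obtain ⟨U', i, g', hi, hg', hcomm⟩ :=
    exists_closedImmersion_of_surjective f hV hW hWV g p D φ hφ
  exact ⟨X.basicOpen g, U', i, g',
    (Groth.Agent.Lib.Helper2.mem_basicOpen_iff_notMem_primeIdealOf hW x hxW g).mpr hgq,
    hi, hg', hcomm⟩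

theorem notMem_support_of_exists [LocallyOfFinitePresentation f] [QuasiSeparated f] (p : ℕ)
    (x : ↥X) (U : X.Opens) (U' : Scheme.{u}) (i : (U : Scheme.{u}) ⟶ U') (g : U' ⟶ Y)
    (hxU : x ∈ U) [hi : IsClosedImmersion i] [hg : SmoothOfRelativeDimension p g]
    (hcomm : i ≫ g = U.ι ≫ f) :
    x ∉ (Fitt.sheafIdeal (Omega.sheaf f) p).support := by
  haveI := isQuasicoherent_omega f
  have hfin : ∀ V : X.affineOpens, Module.Finite Γ(X, V.1) Γ(Omega.sheaf f, V.1) :=
    fun V => finite_sections_omega f V.2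
  obtain ⟨V, hV, W', hW', hxW', e, hstd⟩ :=
    hg.exists_isStandardSmoothOfRelativeDimension (i ⟨x, hxU⟩)
  have hcob : W' ≤ i.coborderRange := by
    intro y _
    show y ∈ coborder (Set.range i)
    rw [i.isClosedEmbedding.isClosed_range.coborder_eq]
    trivial
  have hT : IsAffineOpen (i ⁻¹ᵁ W') :=
    Groth.Agent.Lib.Helper20.ConormalStalk.isAffineOpen_preimage i hW' hcob
  have hsurj : Function.Surjective (i.app W') :=
    Groth.Agent.Lib.Helper20.ConormalStalk.app_surjective i hW' hcob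
  have hTX : IsAffineOpen (U.ι ''ᵁ (i ⁻¹ᵁ W')) := hT.image_of_isOpenImmersion U.ι
  have hxTX : x ∈ U.ι ''ᵁ (i ⁻¹ᵁ W') := ⟨⟨x, hxU⟩, hxW', rfl⟩
  have hTV : i ⁻¹ᵁ W' ≤ (U.ι ≫ f) ⁻¹ᵁ V := by
    rw [← hcomm]
    intro y hy
    exact e hy
  have hTXV : U.ι ''ᵁ (i ⁻¹ᵁ W') ≤ f ⁻¹ᵁ V := by
    rintro _ ⟨y, hy, rfl⟩
    exact hTV hy
  letI : Algebra Γ(Y, V) Γ(U', W') := (g.appLE V W' e).hom.toAlgebra
  haveI hstd' : Algebra.IsStandardSmoothOfRelativeDimension p Γ(Y, V) Γ(U', W') := hstd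
  letI : Algebra Γ(Y, V) Γ(X, U.ι ''ᵁ (i ⁻¹ᵁ W')) := (f.appLE V _ hTXV).hom.toAlgebra
  -- the surjection
  have hbij : Function.Bijective (U.ι.appIso (i ⁻¹ᵁ W')).inv.hom :=
    ConcreteCategory.bijective_of_isIso (U.ι.appIso (i ⁻¹ᵁ W')).inv
  have hcompat : g.appLE V W' e ≫ i.app W' ≫ (U.ι.appIso (i ⁻¹ᵁ W')).inv =
      f.appLE V (U.ι ''ᵁ (i ⁻¹ᵁ W')) hTXV := by
    rw [← Category.assoc, Iso.comp_inv_eq]
    have h1 : g.appLE V W' e ≫ i.app W' = (i ≫ g).appLE V (i ⁻¹ᵁ W') (by rw [hcomm]; exact hTV) := by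
      rw [← Scheme.Hom.appLE_eq_app, Scheme.Hom.appLE_comp_appLE]
    have key : ∀ (φ ψ : (U : Scheme.{u}) ⟶ Y) (_ : φ = ψ) (h1 : i ⁻¹ᵁ W' ≤ φ ⁻¹ᵁ V)
        (h2 : i ⁻¹ᵁ W' ≤ ψ ⁻¹ᵁ V), φ.appLE V (i ⁻¹ᵁ W') h1 = ψ.appLE V (i ⁻¹ᵁ W') h2 := by
      rintro φ _ rfl _ _
      rfl
    rw [h1, Scheme.Hom.appIso_hom', Scheme.Hom.appLE_comp_appLE]
    exact key _ _ hcomm _ _
  obtain ⟨gens, hgens⟩ := exists_gens_kaehler_of_surjective (A := Γ(Y, V)) (D := Γ(U', W'))
    (B' := Γ(X, U.ι ''ᵁ (i ⁻¹ᵁ W'))) p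
    (((U.ι.appIso (i ⁻¹ᵁ W')).inv.hom).comp (i.app W').hom)
    (hbij.surjective.comp hsurj)
    (fun a => by
      have := congrArg (fun φ => φ.hom a) hcompat
      exact this)
  obtain ⟨e'⟩ := nonempty_sections_omega_equiv f hTX hV hTXV
  have hspan : Submodule.span Γ(X, U.ι ''ᵁ (i ⁻¹ᵁ W'))
      (Set.range (fun j => e'.symm (gens j))) = ⊤ := by
    have h2 : Set.range (fun j => e'.symm (gens j)) = e'.symm '' Set.range gens := by
      rw [← Set.range_comp]
      rfl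
    have h3 : Submodule.span Γ(X, U.ι ''ᵁ (i ⁻¹ᵁ W')) (e'.symm '' Set.range gens) =
        (Submodule.span Γ(X, U.ι ''ᵁ (i ⁻¹ᵁ W')) (Set.range gens)).map
          (e'.symm : _ →ₗ[Γ(X, U.ι ''ᵁ (i ⁻¹ᵁ W'))] _) := (Submodule.map_span _ _).symm
    rw [h2, h3, hgens, Submodule.map_top, LinearMap.range_eq_top]
    exact e'.symm.surjective
  haveI := hfin ⟨_, hTX⟩
  rw [mem_support_iff (Omega.sheaf f) p hfin x ⟨_, hTX⟩ hxTX, fitt_top_of_gens p _ hspan]
  intro h
  exact (hTX.primeIdealOf ⟨x, hxTX⟩).isPrime.ne_top (top_le_iff.mp h)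

theorem main_S16253 [LocallyOfFinitePresentation f] [QuasiSeparated f] (p : ℕ) (x : ↥X) :
    x ∉ (Fitt.sheafIdeal (Omega.sheaf f) p).support ↔
      ∃ (U : X.Opens) (U' : Scheme.{u}) (i : (U : Scheme.{u}) ⟶ U') (g : U' ⟶ Y),
        x ∈ U ∧ IsClosedImmersion i ∧ SmoothOfRelativeDimension p g ∧ i ≫ g = U.ι ≫ f := by
  constructor
  · exact exists_of_notMem_support f p x
  · rintro ⟨U, U', i, g, hxU, hi, hg, hcomm⟩
    exact notMem_support_of_exists f p x U U' i g hxU hcomm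

end Main

end Groth.Agent.Lib.LeadFittSm
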