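import Mathlib
import Groth.Prelude.Def_Omega4
import Groth.Prelude.Def_FlatMod2
import Groth.Agent.Lib.LeadFlatSm
import Groth.Agent.Lib.LeadFittSm
import Groth.Agent.Lib.Helper18OmLS24
import Groth.Agent.Lib.Helper4DimFormulaU

/-!
# The singular locus of a flat morphism with equidimensional fibres is cut out by `Fit_d Ω` (lead)

* `finrank_tensor_eq_of_ker`: the fibre dimension of a module at a prime may be computed in any field
  with that kernel.
* `isSmoothAt_of_flat_of_finrank_le`: `R → S` finitely presented, flat at `q`,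
  `dim κ(q) ⊗ Ω_{S/R} ≤` local dimension of the fibre at `q`: smooth at `q`.
* `notMem_support_iff_finrank`: chart description of the support of `Fit_p Ω_{X/Y}`.
* `main_S8916`.
-/

set_option autoImplicit false
set_option maxHeartbeats 400000
set_option linter.style.haveILetI false
set_option linter.unusedSectionVars false
set_option linter.unusedVariables false

universe u

open TensorProduct IsLocalRing Algebra

namespace Groth.Agent.Lib.LeadFittSing

open Groth.Agent.Lib.LeadFlatSm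

/-- the dimension of the fibre of a module at a prime, computed in any field with that kernel. -/
theorem finrank_tensor_eq_of_ker {T : Type u} [CommRing T] (M : Type u) [AddCommGroup M] [Module T M]
    (q : Ideal T) [q.IsPrime] (K : Type u) [Field K] [Algebra T K]
    (hK : RingHom.ker (algebraMap T K) = q) :
    Module.finrank K (K ⊗[T] M) = Module.finrank q.ResidueField (q.ResidueField ⊗[T] M) := by
  have hf₂ : q.primeCompl ≤ (IsUnit.submonoid K).comap (algebraMap T K) := by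
    intro t ht
    show IsUnit (algebraMap T K t)
    rw [isUnit_iff_ne_zero]
    intro h0
    exact ht (hK ▸ (RingHom.mem_ker.mpr h0))
  letI : Algebra q.ResidueField K :=
    (Ideal.ResidueField.lift q (algebraMap T K) hK.ge hf₂).toAlgebra
  haveI : IsScalarTower T q.ResidueField K := IsScalarTower.of_algebraMap_eq
    (fun t => (Ideal.ResidueField.lift_algebraMap q _ hK.ge hf₂ t).symm)
  rw [← (AlgebraTensorModule.cancelBaseChange T q.ResidueField K K M).finrank_eq,
    Module.finrank_baseChange]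

/-- `K`-form of the Jacobian criterion by dimension. -/
theorem isSmoothAt_of_finrank_le (k S : Type u) [Field k] [CommRing S] [Algebra k S]
    [Algebra.FiniteType k S] (q : Ideal S) [q.IsPrime] (K : Type u) [Field K] [Algebra S K]
    (hK : RingHom.ker (algebraMap S K) = q)
    (h : ((Module.finrank K (K ⊗[S] Ω[S⁄k]) : ℕ∞) : WithBot ℕ∞) ≤
      FlatMor.localDim (PrimeSpectrum S) ⟨q, inferInstance⟩) : Algebra.IsSmoothAt k q := by
  rw [Groth.Agent.Lib.LeadJacDim.main_S2063 (k := k) (S := S) q,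
    ← finrank_tensor_eq_of_ker Ω[S⁄k] q K hK]
  exact h

variable {R S : Type u} [CommRing R] [CommRing S] [Algebra R S]

attribute [local instance] Algebra.TensorProduct.rightAlgebra in
/-- if `dim κ(q) ⊗ Ω_{S/R} ≤` the local dimension of the fibre at `Q`, the fibre is smooth at `Q`. -/
theorem isSmoothAt_fiber_of_finrank_le [Algebra.FiniteType R S] (p : Ideal R) [p.IsPrime]
    (Q : Ideal (p.Fiber S)) [Q.IsPrime]
    (hdim : ((Module.finrank (Q.comap Algebra.TensorProduct.includeRight).ResidueField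
        ((Q.comap Algebra.TensorProduct.includeRight).ResidueField ⊗[S] Ω[S⁄R]) : ℕ∞) :
          WithBot ℕ∞) ≤
      FlatMor.localDim (PrimeSpectrum (p.Fiber S)) ⟨Q, inferInstance⟩) :
    Algebra.IsSmoothAt p.ResidueField Q := by
  let e : p.Fiber S ⊗[S] Ω[S⁄R] ≃ₗ[p.Fiber S] Ω[p.Fiber S⁄p.ResidueField] :=
    KaehlerDifferential.tensorKaehlerEquiv R p.ResidueField S (p.Fiber S)
  have hK : RingHom.ker (algebraMap S Q.ResidueField) =
      Q.comap Algebra.TensorProduct.includeRight := by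
    ext s
    rw [RingHom.mem_ker, Ideal.mem_comap,
      IsScalarTower.algebraMap_apply S (p.Fiber S) Q.ResidueField, ← RingHom.mem_ker,
      Ideal.ker_algebraMap_residueField]
    rfl
  refine isSmoothAt_of_finrank_le p.ResidueField (p.Fiber S) Q Q.ResidueField
    (Ideal.ker_algebraMap_residueField Q) ?_
  have h1 : Module.finrank Q.ResidueField
      (Q.ResidueField ⊗[p.Fiber S] Ω[p.Fiber S⁄p.ResidueField]) =
      Module.finrank Q.ResidueField (Q.ResidueField ⊗[S] Ω[S⁄R]) := by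
    rw [← (AlgebraTensorModule.congr (LinearEquiv.refl Q.ResidueField Q.ResidueField)
        e).finrank_eq,
      (AlgebraTensorModule.cancelBaseChange S (p.Fiber S) Q.ResidueField Q.ResidueField
        Ω[S⁄R]).finrank_eq]
  rw [h1, finrank_tensor_eq_of_ker Ω[S⁄R] _ Q.ResidueField hK]
  exact hdim

open Groth.Agent.Lib.Helper4.FibDim in
/-- **Ring form**: finitely presented, flat at `q`, `dim κ(q) ⊗ Ω ≤` local fibre dimension
implies smooth at `q`. -/
theorem isSmoothAt_of_flat_of_finrank_le [Algebra.FinitePresentation R S] (q : Ideal S) [q.IsPrime]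
    (hflat : Module.Flat R (Localization.AtPrime q))
    (hdim : ((Module.finrank q.ResidueField (q.ResidueField ⊗[S] Ω[S⁄R]) : ℕ∞) : WithBot ℕ∞) ≤
      fibLD (PrimeSpectrum.comap (algebraMap R S)) ⟨q, inferInstance⟩) :
    Algebra.IsSmoothAt R q := by
  obtain ⟨q', hq'⟩ : ∃ q' : PrimeSpectrum S, q' = ⟨q, inferInstance⟩ := ⟨_, rfl⟩
  rw [← hq', fibLD_comap_eq] at hdim
  obtain ⟨p, hp⟩ : ∃ p : PrimeSpectrum R, p = PrimeSpectrum.comap (algebraMap R S) q' :=
    ⟨_, rfl⟩
  obtain ⟨Q, hQ⟩ : ∃ Q : PrimeSpectrum (p.asIdeal.Fiber S),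
      Q = PrimeSpectrum.preimageHomeomorphFiber R S p ⟨q', hp.symm⟩ := ⟨_, rfl⟩
  have hQq : PrimeSpectrum.comap Algebra.TensorProduct.includeRight.toRingHom Q = q' := by
    rw [hQ]
    exact comap_includeRight_preimageHomeomorphFiber p.asIdeal ⟨q', hp.symm⟩
  have hdim' : ((Module.finrank q.ResidueField (q.ResidueField ⊗[S] Ω[S⁄R]) : ℕ∞) :
      WithBot ℕ∞) ≤ FlatMor.localDim (PrimeSpectrum (p.asIdeal.Fiber S)) Q := by
    subst hp
    rw [hQ]
    exact hdim
  have hI : Q.asIdeal.comap Algebra.TensorProduct.includeRight = q := by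
    have h1 := congrArg PrimeSpectrum.asIdeal hQq
    rw [hq'] at h1
    exact h1
  haveI : Algebra.FiniteType R S := inferInstance
  have key0 : ∀ (I : Ideal S) (hIq : I = q) [I.IsPrime],
      ((Module.finrank I.ResidueField (I.ResidueField ⊗[S] Ω[S⁄R]) : ℕ∞) : WithBot ℕ∞) ≤
        FlatMor.localDim (PrimeSpectrum (p.asIdeal.Fiber S)) Q := by
    rintro I rfl _
    exact hdim'
  haveI hsm : Algebra.IsSmoothAt p.asIdeal.ResidueField Q.asIdeal :=
    isSmoothAt_fiber_of_finrank_le p.asIdeal Q.asIdeal (key0 _ hI)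
  have key : ∀ (I : Ideal S) (hIq : I = q) [I.IsPrime], Module.Flat R (Localization.AtPrime I) := by
    rintro I rfl _
    exact hflat
  have res := isSmoothAt_of_flat_of_isSmoothAt_fiber p.asIdeal Q.asIdeal (key _ hI)
  have key2 : ∀ (I : Ideal S) (hIq : I = q) [I.IsPrime], Algebra.IsSmoothAt R I →
      Algebra.IsSmoothAt R q := by
    rintro I rfl _ h
    exact h
  exact key2 _ hI res

section scheme

open CategoryTheory CategoryTheory.Limits AlgebraicGeometry TopologicalSpace Opposite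
open Groth.Agent.Helper18OmLS Groth.Agent.Lib.Helper2.LocFree Groth.Agent.Lib.Helper20.PullbackAff
  Groth.Agent.Lib.Helper20.Thickening Groth.Agent.Lib.Helper20.LocFree
open Groth.Agent.Lib.Helper4.FibDim
open Groth.Agent.Helper18FittSh Groth.Agent.Helper18Fitt Groth.Agent.Lib.Helper20.OmegaQCoh

variable {X Y : Scheme.{u}} (f : X ⟶ Y)

/-- chart description of the support of `Fit_p Ω_{X/Y}`. -/
theorem notMem_support_iff_finrank [LocallyOfFinitePresentation f] [QuasiSeparated f] (p : ℕ)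
    (x : X) {V : Y.Opens} (hV : IsAffineOpen V) {W : X.Opens} (hW : IsAffineOpen W) (hxW : x ∈ W)
    (hWV : W ≤ f ⁻¹ᵁ V) :
    letI := (f.appLE V W hWV).hom.toAlgebra
    x ∉ (Fitt.sheafIdeal (Omega.sheaf f) p).support ↔
      Module.finrank (hW.primeIdealOf ⟨x, hxW⟩).asIdeal.ResidueField
        ((hW.primeIdealOf ⟨x, hxW⟩).asIdeal.ResidueField ⊗[Γ(X, W)] Ω[Γ(X, W)⁄Γ(Y, V)]) ≤ p := by
  haveI := isQuasicoherent_omega f
  have hfin : ∀ V : X.affineOpens, Module.Finite Γ(X, V.1) Γ(Omega.sheaf f, V.1) :=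
    fun V => finite_sections_omega f V.2
  letI : Algebra Γ(Y, V) Γ(X, W) := (f.appLE V W hWV).hom.toAlgebra
  haveI := hfin ⟨W, hW⟩
  rw [mem_support_iff (Omega.sheaf f) p hfin x ⟨W, hW⟩ hxW]
  haveI : (hW.primeIdealOf ⟨x, hxW⟩).asIdeal.IsPrime := (hW.primeIdealOf ⟨x, hxW⟩).isPrime
  rw [not_le_iff_finrank]
  obtain ⟨e⟩ := nonempty_sections_omega_equiv f hW hV hWV
  have hfe := (AlgebraTensorModule.congr
      (LinearEquiv.refl (hW.primeIdealOf ⟨x, hxW⟩).asIdeal.ResidueField
        (hW.primeIdealOf ⟨x, hxW⟩).asIdeal.ResidueField) e).finrank_eq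
  exact ⟨fun h => hfe.symm.le.trans h, fun h => hfe.le.trans h⟩

theorem smooth_iff_le_smoothLocus [LocallyOfFinitePresentation f] (U : X.Opens) :
    Smooth (U.ι ≫ f) ↔ U ≤ f.smoothLocus := by
  rw [← Scheme.Hom.smoothLocus_eq_top_iff, ← Scheme.Hom.preimage_smoothLocus_eq U.ι f]
  constructor
  · intro h y hy
    have h1 : (⟨y, hy⟩ : U) ∈ U.ι ⁻¹ᵁ f.smoothLocus := h ▸ trivial
    exact h1
  · intro h
    rw [_root_.eq_top_iff]
    rintro y -
    exact h y.2

theorem mem_smoothLocus_of_notMem_support [Flat f] [LocallyOfFinitePresentation f]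
    [QuasiSeparated f] (d : ℕ) (x : X) (hd : FlatMor.fibreDimAt f x = (d : WithBot ℕ∞))
    (hx : x ∉ (Fitt.sheafIdeal (Omega.sheaf f) d).support) : x ∈ f.smoothLocus := by
  obtain ⟨V, hV, hfxV, -⟩ := exists_isAffineOpen_mem_and_subset (x := f x) (U := ⊤) trivial
  obtain ⟨W, hW, hxW, hWV⟩ := exists_isAffineOpen_mem_and_subset (x := x) (U := f ⁻¹ᵁ V) hfxV
  rw [Scheme.Hom.mem_smoothLocus, formallySmooth_stalkMap_iff V hV W hW hWV hxW]
  letI := (f.appLE V W hWV).hom.toAlgebra
  haveI : Algebra.FinitePresentation Γ(Y, V) Γ(X, W) := f.finitePresentation_appLE hV hW hWV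
  have hfl := flat_localization_of_flat_stalkMap f V hV W hW hWV hxW (Flat.stalkMap f x)
  have hr := (notMem_support_iff_finrank f d x hV hW hxW hWV).mp hx
  have hz : hW.fromSpec (hW.primeIdealOf ⟨x, hxW⟩) = x := hW.fromSpec_primeIdealOf ⟨x, hxW⟩
  have h1 : fibLD f x = fibLD (Spec.map (f.appLE V W hWV)) (hW.primeIdealOf ⟨x, hxW⟩) := by
    have h := fibLD_fromSpec f hW hV hWV (hW.primeIdealOf ⟨x, hxW⟩)
    rwa [hz] at h
  have hfib : fibLD (PrimeSpectrum.comap (algebraMap Γ(Y, V) Γ(X, W)))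
      ⟨(hW.primeIdealOf ⟨x, hxW⟩).asIdeal, inferInstance⟩ = (d : WithBot ℕ∞) :=
    h1.symm.trans ((fibreDimAt_eq_fibLD f x).symm.trans hd)
  show Algebra.IsSmoothAt Γ(Y, V) (hW.primeIdealOf ⟨x, hxW⟩).asIdeal
  refine isSmoothAt_of_flat_of_finrank_le _ hfl ?_
  rw [hfib]
  exact_mod_cast hr

theorem notMem_support_of_mem_smoothLocus [LocallyOfFinitePresentation f] [QuasiSeparated f]
    (d : ℕ) (x : X) (hd : FlatMor.fibreDimAt f x = (d : WithBot ℕ∞)) (hx : x ∈ f.smoothLocus) :
    x ∉ (Fitt.sheafIdeal (Omega.sheaf f) d).support := by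
  obtain ⟨-, U₀, n, hxU₀, ⟨e₀⟩, hdim⟩ :=
    (main_S5022 f (Omega.sheaf f) (OmegaSh.dOmega f) (isUniversal_dOmega f) x).mp hx
  have hnd : n = d := by
    have h := hdim.symm.trans hd
    exact_mod_cast h
  subst hnd
  obtain ⟨V, hV, hfxV, -⟩ := exists_isAffineOpen_mem_and_subset (x := f x) (U := ⊤) trivial
  obtain ⟨W, hW, hxW, hWle⟩ := exists_isAffineOpen_mem_and_subset (x := x)
    (U := f ⁻¹ᵁ V ⊓ U₀) ⟨hfxV, hxU₀⟩
  have hWV : W ≤ f ⁻¹ᵁ V := hWle.trans inf_le_left
  have hWU₀ : W ≤ U₀ := hWle.trans inf_le_right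
  rw [notMem_support_iff_finrank f n x hV hW hxW hWV]
  letI := (f.appLE V W hWV).hom.toAlgebra
  haveI := isQuasicoherent_omega f
  obtain ⟨b⟩ := Groth.Agent.Lib.Helper26.ModRank.nonempty_basis_of_restrict_iso (Omega.sheaf f)
    e₀ hW hWU₀
  let b' := b.map (ΓUFIso f (OmegaSh.dOmega f) (isUniversal_dOmega f) hW hV hWV rfl).toLinearEquiv
  haveI : Module.Free Γ(X, W) Ω[Γ(X, W)⁄Γ(Y, V)] := Module.Free.of_basis b'
  haveI : Nonempty W := ⟨⟨x, hxW⟩⟩
  haveI : Nontrivial Γ(X, W) := inferInstance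
  rw [Module.finrank_baseChange, Module.finrank_eq_card_basis b', Fintype.card_fin]

theorem main_S8916 [Flat f] [LocallyOfFinitePresentation f] [QuasiSeparated f] (d : ℕ) (x : X)
    (hd : FlatMor.fibreDimAt f x = (d : WithBot ℕ∞)) :
    x ∈ (Fitt.sheafIdeal (Omega.sheaf f) d).support ↔
      ¬ ∃ U : X.Opens, x ∈ U ∧ Smooth (U.ι ≫ f) := by
  rw [← not_iff_not, not_not]
  constructor
  · intro hx
    exact ⟨f.smoothLocus, mem_smoothLocus_of_notMem_support f d x hd hx,
      (smooth_iff_le_smoothLocus f _).mpr le_rfl⟩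
  · rintro ⟨U, hxU, hU⟩
    exact notMem_support_of_mem_smoothLocus f d x hd ((smooth_iff_le_smoothLocus f U).mp hU hxU)

end scheme

end Groth.Agent.Lib.LeadFittSing
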