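import Mathlib
import Groth.Agent.Lib.LeadFittSing
import Groth.Agent.Lib.Helper7TopDim

/-!
# Smoothness at the closed point of a section over a DVR (lead)

* `finrank_eq_fibLD_of_isSmoothAt`: at a smooth point `q` of a finitely presented `R → S`,
  `dim κ(q) ⊗ Ω_{S/R}` is the local dimension at `q` of the fibre through `q`.
* `fibLD_le_of_le`: the local fibre dimension does not drop under specialisation (Chevalley).
* `main_S6841`.
-/

set_option autoImplicit false
set_option maxHeartbeats 400000
set_option linter.style.haveILetI false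
set_option linter.unusedSectionVars false
set_option linter.unusedVariables false

universe u

open TensorProduct KaehlerDifferential AlgebraicGeometry CategoryTheory

namespace Groth.Agent.Lib.LeadDVRSm

open Groth.Agent.Lib.Helper4.FibDim Groth.Agent.Lib.LeadFittSing

variable {R S : Type u} [CommRing R] [CommRing S] [Algebra R S]

/-- at a smooth point the dimension of the fibre of `Ω` is the local dimension of the fibre of the
morphism. -/
theorem finrank_eq_fibLD_of_isSmoothAt [Algebra.FinitePresentation R S] (q : Ideal S) [q.IsPrime]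
    [hsm : Algebra.IsSmoothAt R q] (K : Type u) [Field K] [Algebra S K]
    (hK : RingHom.ker (algebraMap S K) = q) :
    ((Module.finrank K (K ⊗[S] Ω[S⁄R]) : ℕ∞) : WithBot ℕ∞) =
      fibLD (PrimeSpectrum.comap (algebraMap R S)) ⟨q, inferInstance⟩ := by
  obtain ⟨g, hg, hstd⟩ := Algebra.IsSmoothAt.exists_notMem_isStandardSmooth R q
  obtain ⟨m, hm⟩ : ∃ m, Algebra.IsStandardSmoothOfRelativeDimension m R (Localization.Away g) := by
    obtain ⟨_, _, _, _, ⟨P⟩⟩ := hstd
    exact ⟨_, ⟨_, _, _, ‹_›, P, rfl⟩⟩
  -- (i) the local fibre dimension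
  have hdisj : Disjoint (Submonoid.powers g : Set S) (q : Set S) := by
    rwa [Ideal.disjoint_powers_iff_notMem_of_isPrime]
  haveI hqg : (q.map (algebraMap S (Localization.Away g))).IsPrime :=
    IsLocalization.isPrime_of_isPrime_disjoint (Submonoid.powers g) _ _ ‹_› hdisj
  have hcomap : (q.map (algebraMap S (Localization.Away g))).comap
      (algebraMap S (Localization.Away g)) = q :=
    IsLocalization.under_map_of_isPrime_disjoint (Submonoid.powers g) _ ‹_› hdisj
  have hemb := PrimeSpectrum.localization_away_isOpenEmbedding (Localization.Away g) g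
  have h1 := fibLD_comp_isOpenEmbedding (PrimeSpectrum.comap (algebraMap R S))
    (PrimeSpectrum.comap (algebraMap S (Localization.Away g))) hemb
    ⟨q.map (algebraMap S (Localization.Away g)), hqg⟩
  have hf : (CommRingCat.ofHom
      (algebraMap R (Localization.Away g))).hom.IsStandardSmoothOfRelativeDimension m :=
    (RingHom.isStandardSmoothOfRelativeDimension_algebraMap m).mpr hm
  have h2 := Groth.Agent.Lib.Helper3.SmDim.fibreDimAt_SpecMap_of_isStandardSmoothOfRelativeDimension
    (CommRingCat.ofHom (algebraMap R (Localization.Away g))) m hf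
    ⟨q.map (algebraMap S (Localization.Away g)), hqg⟩
  have h2' : fibLD (PrimeSpectrum.comap (algebraMap R (Localization.Away g)))
      ⟨q.map (algebraMap S (Localization.Away g)), hqg⟩ = (m : WithBot ℕ∞) :=
    (fibreDimAt_eq_fibLD _ _).symm.trans h2
  have hcomp : (PrimeSpectrum.comap (algebraMap R S)) ∘
      (PrimeSpectrum.comap (algebraMap S (Localization.Away g))) =
      PrimeSpectrum.comap (algebraMap R (Localization.Away g)) := by
    funext z
    apply PrimeSpectrum.ext
    show Ideal.comap (algebraMap R S) (Ideal.comap (algebraMap S _) z.asIdeal) =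
      Ideal.comap (algebraMap R _) z.asIdeal
    rw [Ideal.comap_comap, ← IsScalarTower.algebraMap_eq]
  have hpt : PrimeSpectrum.comap (algebraMap S (Localization.Away g))
      ⟨q.map (algebraMap S (Localization.Away g)), hqg⟩ = ⟨q, inferInstance⟩ :=
    PrimeSpectrum.ext hcomap
  rw [hcomp, hpt] at h1
  rw [← h1, h2']
  -- (ii) the rank
  have hu : IsUnit (algebraMap S K g) := by
    rw [isUnit_iff_ne_zero]
    intro h0
    exact hg (hK ▸ (RingHom.mem_ker.mpr h0))
  letI : Algebra (Localization.Away g) K := (IsLocalization.Away.lift g hu).toAlgebra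
  haveI : IsScalarTower S (Localization.Away g) K :=
    IsScalarTower.of_algebraMap_eq (fun a => (IsLocalization.Away.lift_eq g hu a).symm)
  haveI : Algebra.FormallyEtale S (Localization.Away g) :=
    Algebra.FormallyEtale.of_isLocalization (Submonoid.powers g)
  haveI : Nontrivial (Localization.Away g) :=
    RingHom.domain_nontrivial (algebraMap (Localization.Away g) K)
  let e1 : K ⊗[Localization.Away g] (Localization.Away g ⊗[S] Ω[S⁄R]) ≃ₗ[K] K ⊗[S] Ω[S⁄R] :=
    AlgebraTensorModule.cancelBaseChange S (Localization.Away g) K K Ω[S⁄R]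
  let e2 : Localization.Away g ⊗[S] Ω[S⁄R] ≃ₗ[Localization.Away g] Ω[Localization.Away g⁄R] :=
    tensorKaehlerEquivOfFormallyEtale R S (Localization.Away g)
  let e3 : K ⊗[Localization.Away g] (Localization.Away g ⊗[S] Ω[S⁄R]) ≃ₗ[K]
      K ⊗[Localization.Away g] Ω[Localization.Away g⁄R] :=
    AlgebraTensorModule.congr (LinearEquiv.refl K K) e2
  have h3 : Module.finrank K (K ⊗[S] Ω[S⁄R]) =
      Module.finrank K (K ⊗[Localization.Away g] Ω[Localization.Away g⁄R]) :=
    (e1.symm.trans e3).finrank_eq
  have h4 : Module.finrank (Localization.Away g) Ω[Localization.Away g⁄R] = m :=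
    Module.finrank_eq_of_rank_eq
      (Algebra.IsStandardSmoothOfRelativeDimension.rank_kaehlerDifferential m)
  rw [h3, Module.finrank_baseChange, h4]
  rfl

/-- the local fibre dimension does not drop under specialisation. -/
theorem fibLD_le_of_le [Algebra.FiniteType R S] (q p : PrimeSpectrum S)
    (h : q.asIdeal ≤ p.asIdeal) :
    fibLD (PrimeSpectrum.comap (algebraMap R S)) q ≤
      fibLD (PrimeSpectrum.comap (algebraMap R S)) p := by
  have h0 : (0 : WithBot ℕ∞) ≤ fibLD (PrimeSpectrum.comap (algebraMap R S)) p :=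
    Groth.Agent.Lib.Helper7.TopDim.localDim_nonneg _
  by_cases htop : fibLD (PrimeSpectrum.comap (algebraMap R S)) p = ⊤
  · rw [htop]; exact le_top
  · have hbot : fibLD (PrimeSpectrum.comap (algebraMap R S)) p ≠ ⊥ := by
      intro hb
      rw [hb] at h0
      exact absurd h0 (by simp)
    obtain ⟨y, hy⟩ := WithBot.ne_bot_iff_exists.mp hbot
    have hytop : y ≠ ⊤ := by
      rintro rfl
      exact htop hy.symm
    obtain ⟨n, hn⟩ := ENat.ne_top_iff_exists.mp hytop
    have hpn : fibLD (PrimeSpectrum.comap (algebraMap R S)) p = ((n : ℕ) : WithBot ℕ∞) := by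
      rw [← hy, ← hn]; rfl
    have hop := isOpen_setOf_fibLD_comap_le R S n
    have hsp : q ⤳ p := (PrimeSpectrum.le_iff_specializes q p).mp h
    have hq : fibLD (PrimeSpectrum.comap (algebraMap R S)) q ≤ ((n : ℕ) : WithBot ℕ∞) :=
      hsp.mem_open hop hpn.le
    exact hq.trans hpn.ge

section main

variable {Λ A : Type u} [CommRing Λ] [IsDomain Λ] [IsLocalRing Λ] [CommRing A] [Algebra R A]
  [Algebra A Λ]

theorem ker_algebraMap_fractionRing :
    RingHom.ker (algebraMap A (FractionRing Λ)) = RingHom.ker (algebraMap A Λ) := by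
  ext a
  rw [RingHom.mem_ker, RingHom.mem_ker, IsScalarTower.algebraMap_apply A Λ (FractionRing Λ)]
  exact (IsFractionRing.injective Λ (FractionRing Λ)).eq_iff' (map_zero _)

theorem ker_algebraMap_residueField :
    RingHom.ker (algebraMap A (IsLocalRing.ResidueField Λ)) =
      (IsLocalRing.maximalIdeal Λ).comap (algebraMap A Λ) := by
  ext a
  rw [RingHom.mem_ker, Ideal.mem_comap,
    IsScalarTower.algebraMap_apply A Λ (IsLocalRing.ResidueField Λ)]
  exact IsLocalRing.residue_eq_zero_iff _

theorem finrank_tensor_of_free (M : Type u) [AddCommGroup M] [Module A M]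
    [Module.Free Λ (Λ ⊗[A] M)] (K : Type u) [Field K] [Algebra Λ K] [Algebra A K]
    [IsScalarTower A Λ K] :
    Module.finrank K (K ⊗[A] M) = Module.finrank Λ (Λ ⊗[A] M) := by
  rw [← (AlgebraTensorModule.cancelBaseChange A Λ K K M).finrank_eq, Module.finrank_baseChange]

theorem main_S6841 [IsNoetherianRing R] [Module.Flat R A] [Algebra.FiniteType R A]
    [(RingHom.ker (algebraMap A Λ)).IsPrime]
    (hq : Algebra.IsSmoothAt R (RingHom.ker (algebraMap A Λ)))
    (hfree : Module.Free Λ (Λ ⊗[A] Ω[A⁄R])) :
    Algebra.IsSmoothAt R ((IsLocalRing.maximalIdeal Λ).comap (algebraMap A Λ)) := by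
  haveI : Algebra.FinitePresentation R A := Algebra.FinitePresentation.of_finiteType.mp inferInstance
  have hflat : Module.Flat R
      (Localization.AtPrime ((IsLocalRing.maximalIdeal Λ).comap (algebraMap A Λ))) :=
    Module.Flat.trans R A _
  refine isSmoothAt_of_flat_of_finrank_le _ hflat ?_
  rw [← finrank_tensor_eq_of_ker Ω[A⁄R] _ (IsLocalRing.ResidueField Λ)
      (ker_algebraMap_residueField (Λ := Λ) (A := A)),
    finrank_tensor_of_free (Λ := Λ) Ω[A⁄R] (IsLocalRing.ResidueField Λ),
    ← finrank_tensor_of_free (Λ := Λ) Ω[A⁄R] (FractionRing Λ),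
    finrank_eq_fibLD_of_isSmoothAt (RingHom.ker (algebraMap A Λ)) (FractionRing Λ)
      (ker_algebraMap_fractionRing (Λ := Λ) (A := A))]
  refine fibLD_le_of_le _ _ ?_
  intro a ha
  show algebraMap A Λ a ∈ IsLocalRing.maximalIdeal Λ
  rw [RingHom.mem_ker.mp ha]
  exact zero_mem _

end main

end Groth.Agent.Lib.LeadDVRSm
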