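import Mathlib

/-!
# Flat deformations of formally smooth algebras over Artinian bases are trivial (ring level)

* `bijective_of_flat_of_nilpotent`: a linear map into a flat module which is bijective modulo a
  nilpotent ideal is bijective.
* `exists_algEquiv_trivial`: `A` a `k`-algebra with a `k`-augmentation `e` whose kernel is
  nilpotent, `B'` flat over `A`, `π : B' → B₀` a surjection of `k`-algebras with kernel `(ker e)B'`
  and `B₀` formally smooth over `k`.  Then `A ⊗_k B₀ ≃ B'` as `A`-algebras, compatibly with the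
  projections to `B₀`.
-/

set_option autoImplicit false
set_option maxHeartbeats 400000
set_option linter.style.haveILetI false
set_option linter.unusedSectionVars false
set_option linter.unusedVariables false

universe u

open TensorProduct

namespace Groth.Agent.Lib.LeadTrivDef

section genlemma

variable {A : Type u} [CommRing A] {M N : Type u} [AddCommGroup M] [Module A M]
  [AddCommGroup N] [Module A N]

theorem le_pow_smul_of_le_smul (I : Ideal A) (K : Submodule A M) (h : K ≤ I • K) (n : ℕ) :
    K ≤ I ^ n • K := by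
  induction n with
  | zero => rw [pow_zero, Ideal.one_eq_top, Submodule.top_smul]
  | succ n ih =>
    calc K ≤ I • K := h
      _ ≤ I • (I ^ n • K) := Submodule.smul_mono le_rfl ih
      _ = I ^ (n + 1) • K := by rw [← Submodule.smul_assoc, smul_eq_mul, ← pow_succ']

theorem eq_bot_of_le_smul_of_nilpotent (I : Ideal A) (hI : IsNilpotent I) (K : Submodule A M)
    (h : K ≤ I • K) : K = ⊥ := by
  obtain ⟨n, hn⟩ := hI
  have := le_pow_smul_of_le_smul I K h n
  rw [hn, Ideal.zero_eq_bot, Submodule.bot_smul] at this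
  exact le_bot_iff.mp this

/-- surjectivity modulo a nilpotent ideal implies surjectivity. -/
theorem surjective_of_nilpotent (I : Ideal A) (hI : IsNilpotent I) (f : M →ₗ[A] N)
    (hsurj : ∀ n : N, ∃ m : M, n - f m ∈ I • (⊤ : Submodule A N)) : Function.Surjective f := by
  have h1 : (⊤ : Submodule A N) ≤ LinearMap.range f ⊔ I • (⊤ : Submodule A N) := by
    intro n _
    obtain ⟨m, hm⟩ := hsurj n
    have : n = f m + (n - f m) := by abel
    rw [this]
    exact Submodule.add_mem_sup ⟨m, rfl⟩ hm
  have h2 : ∀ k : ℕ, (⊤ : Submodule A N) ≤ LinearMap.range f ⊔ I ^ k • (⊤ : Submodule A N) := by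
    intro k
    induction k with
    | zero => rw [pow_zero, Ideal.one_eq_top, Submodule.top_smul]; exact le_sup_right
    | succ k ih =>
      refine ih.trans (sup_le le_sup_left ?_)
      calc I ^ k • (⊤ : Submodule A N)
          ≤ I ^ k • (LinearMap.range f ⊔ I • (⊤ : Submodule A N)) :=
            Submodule.smul_mono le_rfl h1
        _ = I ^ k • LinearMap.range f ⊔ I ^ k • (I • (⊤ : Submodule A N)) :=
            Submodule.smul_sup _ _ _
        _ ≤ LinearMap.range f ⊔ I ^ (k + 1) • (⊤ : Submodule A N) := by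
            refine sup_le_sup Submodule.smul_le_right ?_
            rw [← Submodule.smul_assoc, smul_eq_mul, ← pow_succ]
  obtain ⟨n, hn⟩ := hI
  have h3 := h2 n
  rw [hn, Ideal.zero_eq_bot, Submodule.bot_smul, sup_bot_eq] at h3
  exact LinearMap.range_eq_top.mp (top_le_iff.mp h3)

/-- a surjection onto a flat module which is injective modulo a nilpotent ideal is injective. -/
theorem injective_of_flat_of_nilpotent [Module.Flat A N] (I : Ideal A) (hI : IsNilpotent I)
    (f : M →ₗ[A] N) (hsurj : Function.Surjective f)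
    (hinj : ∀ m : M, f m ∈ I • (⊤ : Submodule A N) → m ∈ I • (⊤ : Submodule A M)) :
    Function.Injective f := by
  rw [← LinearMap.ker_eq_bot]
  refine eq_bot_of_le_smul_of_nilpotent I hI _ ?_
  intro x hx
  have hx0 : f x = 0 := hx
  have hxI : x ∈ I • (⊤ : Submodule A M) := hinj x (by rw [hx0]; exact zero_mem _)
  have hspan : (⊤ : Submodule A M) = Submodule.span A (Set.range (id : M → M)) := by
    rw [Set.range_id, Submodule.span_univ]
  rw [hspan, Submodule.mem_ideal_smul_span_iff_exists_sum] at hxI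
  obtain ⟨a, ha, hax⟩ := hxI
  -- finite index type
  have hsum : ∑ i : a.support, a i • (i : M) = x := by
    rw [← hax, Finsupp.sum]
    exact Finset.sum_coe_sort a.support (fun i => a i • i)
  have hrel : ∑ i : a.support, a i • f (i : M) = 0 := by
    rw [← hx0, ← hsum, map_sum]
    exact Finset.sum_congr rfl fun i _ => (map_smul f _ _).symm
  obtain ⟨κ, b, y, hy, hb⟩ := Module.Flat.isTrivialRelation_of_sum_smul_eq_zero (R := A) (M := N)
    (f := fun i : a.support => a i) (x := fun i : a.support => f (i : M)) hrel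
  choose m' hm' using fun j => hsurj (y j)
  -- the corrected elements lie in the kernel
  have hk : ∀ i : a.support, (i : M) - ∑ j, b i j • m' j ∈ LinearMap.ker f := by
    intro i
    have hyi : f (i : M) = ∑ j, b i j • y j := hy i
    rw [LinearMap.mem_ker, map_sub, map_sum, hyi, sub_eq_zero]
    refine Finset.sum_congr rfl fun j _ => ?_
    rw [map_smul, hm']
  have hx' : x = ∑ i : a.support, a i • ((i : M) - ∑ j, b i j • m' j) := by
    have h1 : ∑ i : a.support, a i • ∑ j, b i j • m' j = 0 := by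
      simp_rw [Finset.smul_sum, smul_smul]
      rw [Finset.sum_comm]
      refine Finset.sum_eq_zero fun j _ => ?_
      have hbj : ∑ i : a.support, a i * b i j = 0 := hb j
      rw [← Finset.sum_smul, hbj, zero_smul]
    simp_rw [smul_sub]
    rw [Finset.sum_sub_distrib, h1, sub_zero, hsum]
  rw [hx']
  exact Submodule.sum_mem _ fun i _ => Submodule.smul_mem_smul (ha i) (hk i)

theorem bijective_of_flat_of_nilpotent [Module.Flat A N] (I : Ideal A) (hI : IsNilpotent I)
    (f : M →ₗ[A] N)
    (hsurj : ∀ n : N, ∃ m : M, n - f m ∈ I • (⊤ : Submodule A N))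
    (hinj : ∀ m : M, f m ∈ I • (⊤ : Submodule A N) → m ∈ I • (⊤ : Submodule A M)) :
    Function.Bijective f :=
  have hs := surjective_of_nilpotent I hI f hsurj
  ⟨injective_of_flat_of_nilpotent I hI f hs hinj, hs⟩

end genlemma

section ringlevel

variable {k A B' B₀ : Type u} [Field k] [CommRing A] [Algebra k A] [CommRing B'] [Algebra A B']
  [Algebra k B'] [IsScalarTower k A B'] [CommRing B₀] [Algebra k B₀]

/-- the augmentation `e ⊗ id : A ⊗_k B₀ → B₀`. -/
noncomputable def augTensor (e : A →ₐ[k] k) : A ⊗[k] B₀ →ₐ[k] B₀ :=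
  Algebra.TensorProduct.lift ((Algebra.ofId k B₀).comp e) (AlgHom.id k B₀)
    (fun _ _ => Commute.all _ _)

theorem augTensor_tmul (e : A →ₐ[k] k) (a : A) (b : B₀) :
    augTensor e (a ⊗ₜ[k] b) = e a • b := by
  unfold augTensor
  rw [Algebra.TensorProduct.lift_tmul, AlgHom.comp_apply, Algebra.ofId_apply, AlgHom.id_apply,
    Algebra.smul_def]

theorem sub_one_tmul_augTensor_mem (e : A →ₐ[k] k) (z : A ⊗[k] B₀) :
    z - (1 : A) ⊗ₜ[k] (augTensor e z) ∈ (RingHom.ker e) • (⊤ : Submodule A (A ⊗[k] B₀)) := by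
  induction z using TensorProduct.induction_on with
  | zero => rw [map_zero, TensorProduct.tmul_zero, sub_zero]; exact zero_mem _
  | add x y hx hy =>
    rw [map_add, TensorProduct.tmul_add, add_sub_add_comm]
    exact add_mem hx hy
  | tmul a b =>
    rw [augTensor_tmul, TensorProduct.tmul_smul, TensorProduct.smul_tmul']
    have h2 : a ⊗ₜ[k] b - (e a • (1 : A)) ⊗ₜ[k] b =
        (a - algebraMap k A (e a)) • ((1 : A) ⊗ₜ[k] b) := by
      rw [TensorProduct.smul_tmul', smul_eq_mul, mul_one, TensorProduct.sub_tmul,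
        Algebra.smul_def, mul_one]
    rw [h2]
    refine Submodule.smul_mem_smul ?_ trivial
    rw [RingHom.mem_ker, map_sub, AlgHom.commutes, sub_eq_zero]
    rfl

/-- the kernel of `e ⊗ id : A ⊗_k B₀ → B₀` is `(ker e)·(A ⊗ B₀)`. -/
theorem mem_smul_top_of_augmentation (e : A →ₐ[k] k) (z : A ⊗[k] B₀)
    (hz : augTensor e z = 0) :
    z ∈ (RingHom.ker e) • (⊤ : Submodule A (A ⊗[k] B₀)) := by
  have := sub_one_tmul_augTensor_mem e z
  rwa [hz, TensorProduct.tmul_zero, sub_zero] at this

/-- **Trivialization of a flat deformation of a formally smooth algebra.** -/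
theorem exists_algEquiv_trivial (e : A →ₐ[k] k) (hnil : IsNilpotent (RingHom.ker e))
    [Module.Flat A B'] [Algebra.FormallySmooth k B₀] (π : B' →ₐ[k] B₀)
    (hπ : Function.Surjective π)
    (hπA : ∀ (a : A) (b : B'), π (a • b) = e a • π b)
    (hker : ∀ b : B', π b = 0 → b ∈ (RingHom.ker e) • (⊤ : Submodule A B')) :
    ∃ ψ : A ⊗[k] B₀ ≃ₐ[A] B', ∀ (a : A) (b₀ : B₀), π (ψ (a ⊗ₜ[k] b₀)) = e a • b₀ := by
  -- the kernel of `π` is nilpotent
  have hkerπ : ∀ b : B', b ∈ (RingHom.ker e) • (⊤ : Submodule A B') → π b = 0 := by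
    intro b hb
    refine Submodule.smul_induction_on hb ?_ ?_
    · intro a ha b' _
      rw [hπA, RingHom.mem_ker.mp ha, zero_smul]
    · intro x y hx hy
      rw [map_add, hx, hy, add_zero]
  have hnilπ : IsNilpotent (RingHom.ker (π : B' →+* B₀)) := by
    obtain ⟨n, hn⟩ := hnil
    refine ⟨n, ?_⟩
    have h1 : RingHom.ker (π : B' →+* B₀) ≤ (RingHom.ker e).map (algebraMap A B') := by
      intro b hb
      have := hker b hb
      rwa [Ideal.smul_top_eq_map] at this
    have h2 := Ideal.pow_right_mono h1 n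
    rw [← Ideal.map_pow, hn, Ideal.zero_eq_bot, Ideal.map_bot] at h2
    exact le_bot_iff.mp h2
  -- a section
  let s : B₀ →ₐ[k] B' := Algebra.FormallySmooth.liftOfSurjective (AlgHom.id k B₀) π hπ hnilπ
  have hs : ∀ b₀, π (s b₀) = b₀ := fun b₀ =>
    Algebra.FormallySmooth.liftOfSurjective_apply (AlgHom.id k B₀) π hπ hnilπ b₀
  let ψ₀ : A ⊗[k] B₀ →ₐ[A] B' :=
    Algebra.TensorProduct.lift (Algebra.ofId A B') s (fun _ _ => Commute.all _ _)
  have hψ₀ : ∀ (a : A) (b₀ : B₀), ψ₀ (a ⊗ₜ[k] b₀) = a • s b₀ := by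
    intro a b₀
    rw [Algebra.TensorProduct.lift_tmul, Algebra.ofId_apply, Algebra.smul_def]
  have hπψ : ∀ z : A ⊗[k] B₀, π (ψ₀ z) = augTensor e z := by
    intro z
    induction z using TensorProduct.induction_on with
    | zero => rw [map_zero, map_zero, map_zero]
    | add x y hx hy => rw [map_add, map_add, map_add, hx, hy]
    | tmul a b₀ => rw [hψ₀, hπA, hs, augTensor_tmul]
  haveI : Module.Flat A (A ⊗[k] B₀) := inferInstance
  have hbij : Function.Bijective ψ₀.toLinearMap := by
    refine bijective_of_flat_of_nilpotent (RingHom.ker e) hnil ψ₀.toLinearMap ?_ ?_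
    · intro b
      refine ⟨(1 : A) ⊗ₜ[k] π b, hker _ ?_⟩
      rw [map_sub, AlgHom.toLinearMap_apply, hψ₀, one_smul, hs, sub_self]
    · intro z hz
      refine mem_smul_top_of_augmentation e z ?_
      rw [← hπψ]
      exact hkerπ _ hz
  have hbij' : Function.Bijective ψ₀ := hbij
  refine ⟨AlgEquiv.ofBijective ψ₀ hbij', fun a b₀ => ?_⟩
  have h1 : (AlgEquiv.ofBijective ψ₀ hbij') (a ⊗ₜ[k] b₀) = ψ₀ (a ⊗ₜ[k] b₀) := rfl
  rw [h1, hψ₀, hπA, hs]

end ringlevel

end Groth.Agent.Lib.LeadTrivDef
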