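import Groth.Prelude.Def_DefoSh
import Groth.Agent.Lib.LeadTrivDef
import Groth.Agent.Lib.Helper19Cotangent
import Groth.Agent.S8890

/-!
# Morphisms of deformations of a module over a local Artinian algebra are isomorphisms
-/

set_option autoImplicit false
set_option maxHeartbeats 400000
set_option linter.style.haveILetI false
set_option linter.unusedSectionVars false
set_option linter.unusedVariables false

universe u

open CategoryTheory AlgebraicGeometry DefoSh ArtFun

namespace Groth.Agent.Lib.LeadDefoSh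

variable {k : Type u} [Field k] {X : Scheme.{u}} [X.Over (Spec (CommRingCat.of k))]
  {E : X.Modules} {A : ArtFun.Art k k}

theorem isNilpotent_maximalIdeal (A : ArtFun.Art k k) :
    IsNilpotent (IsLocalRing.maximalIdeal A) := by
  have h := IsArtinianRing.isNilpotent_jacobson_bot (R := A)
  rwa [IsLocalRing.jacobson_eq_maximalIdeal _ bot_ne_top] at h

/-- `π` kills `m_A · stalk`. -/
theorem π_eq_zero_of_mem (D : DefoSh.Defo E A) (p : X) (v : ↑(D.sheaf.presheaf.stalk p))
    (hv : letI := D.stalkMod p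
      v ∈ IsLocalRing.maximalIdeal A • (⊤ : Submodule A ↑(D.sheaf.presheaf.stalk p))) :
    RefHull.stalkMapₗ D.π p v = 0 := by
  letI := D.stalkMod p
  refine Submodule.smul_induction_on hv ?_ ?_
  · intro a ha w _
    have hres : A.res a = 0 :=
      (Groth.Agent.Lib.Helper19.mem_maximalIdeal_iff_res A.res A.res_surjective a).1 ha
    have h1 : a • w = RefHull.stalkMapₗ (D.act a) p w := rfl
    rw [h1, ← DefoSh.stalkMapₗ_comp_apply, D.act_π a hres, DefoSh.stalkMapₗ_zero_apply]
  · intro x y hx hy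
    rw [map_add, hx, hy, add_zero]

/-- the stalk map of a morphism commuting with the actions, as an `A`-linear map. -/
noncomputable def stalkLin (D D' : DefoSh.Defo E A) (φ : D.sheaf ⟶ D'.sheaf)
    (hact : ∀ a : A, D.act a ≫ φ = φ ≫ D'.act a) (p : X) :
    letI := D.stalkMod p
    letI := D'.stalkMod p
    ↑(D.sheaf.presheaf.stalk p) →ₗ[A] ↑(D'.sheaf.presheaf.stalk p) :=
  letI := D.stalkMod p
  letI := D'.stalkMod p
  { toFun := RefHull.stalkMapₗ φ p
    map_add' := map_add _
    map_smul' := by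
      intro a v
      change RefHull.stalkMapₗ φ p (RefHull.stalkMapₗ (D.act a) p v) =
        RefHull.stalkMapₗ (D'.act a) p (RefHull.stalkMapₗ φ p v)
      rw [← DefoSh.stalkMapₗ_comp_apply, ← DefoSh.stalkMapₗ_comp_apply, hact a] }

theorem bijective_stalkMap (D D' : DefoSh.Defo E A) (φ : D.sheaf ⟶ D'.sheaf)
    (hact : ∀ a : A, D.act a ≫ φ = φ ≫ D'.act a) (hπ : φ ≫ D'.π = D.π) (p : X) :
    Function.Bijective (RefHull.stalkMapₗ φ p) := by
  letI := D.stalkMod p
  letI := D'.stalkMod p
  haveI : Module.Flat A ↑(D'.sheaf.presheaf.stalk p) := D'.flat p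
  have hcomp : ∀ v, RefHull.stalkMapₗ D'.π p (RefHull.stalkMapₗ φ p v) =
      RefHull.stalkMapₗ D.π p v := by
    intro v
    rw [← DefoSh.stalkMapₗ_comp_apply, hπ]
  have key := Groth.Agent.Lib.LeadTrivDef.bijective_of_flat_of_nilpotent
    (IsLocalRing.maximalIdeal A) (isNilpotent_maximalIdeal A) (stalkLin D D' φ hact p) ?_ ?_
  · exact key
  · intro n
    obtain ⟨m, hm⟩ := D.surj p (RefHull.stalkMapₗ D'.π p n)
    refine ⟨m, D'.ker_le p _ ?_⟩
    change RefHull.stalkMapₗ D'.π p (n - RefHull.stalkMapₗ φ p m) = 0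
    rw [map_sub, hcomp, hm, sub_self]
  · intro m hm
    refine D.ker_le p m ?_
    rw [← hcomp]
    exact π_eq_zero_of_mem D' p _ hm

theorem isIso_of_comm (D D' : DefoSh.Defo E A) (φ : D.sheaf ⟶ D'.sheaf)
    (hact : ∀ a : A, D.act a ≫ φ = φ ≫ D'.act a) (hπ : φ ≫ D'.π = D.π) : IsIso φ := by
  apply Groth.Agent.S8890.isIso_of_stalk_bijective
  intro p
  exact bijective_stalkMap D D' φ hact hπ p

end Groth.Agent.Lib.LeadDefoSh
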