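import Mathlib
import Groth.Prelude.Def_W4c6puncthilbintroLift
import Groth.Agent.Lib.Helper5NilFlat
import Groth.Agent.Lib.Helper5JacFlat

set_option autoImplicit false

universe u

namespace Groth.Agent.Lib.T2H7.DualLift

open TrivSqZeroExt DualNumber W4c6puncthilbintro TensorProduct

attribute [local instance] W4c6puncthilbintro.dualAlgebra

section Basic

variable {A : Type u} [CommRing A]

/-- An element of the dual numbers killed by `ε` is a multiple of `ε`. -/
theorem exists_eq_eps_mul_of_eps_mul_eq_zero (a : DualNumber A) (h : (ε : DualNumber A) * a = 0) :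
    ∃ b : DualNumber A, a = ε * b := by
  refine ⟨inl a.snd, ?_⟩
  have h1 : a.fst = 0 := by
    have := congrArg TrivSqZeroExt.snd h
    simpa using this
  apply TrivSqZeroExt.ext
  · simp [h1]
  · simp

/-- Over the dual numbers, an element of a flat module killed by `ε` is a multiple of `ε`. -/
theorem exists_eq_eps_smul_of_flat {M : Type*} [AddCommGroup M] [Module (DualNumber A) M]
    [Module.Flat (DualNumber A) M] (m : M) (h : (ε : DualNumber A) • m = 0) :
    ∃ m' : M, m = (ε : DualNumber A) • m' := by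
  have h1 : ∑ i : Fin 1, (fun _ => (ε : DualNumber A)) i • (fun _ => m) i = 0 := by
    simpa using h
  obtain ⟨k, a, y, hx, ha⟩ := Module.Flat.isTrivialRelation_of_sum_smul_eq_zero h1
  have ha' : ∀ j, ∃ b : DualNumber A, a 0 j = ε * b := by
    intro j
    apply exists_eq_eps_mul_of_eps_mul_eq_zero
    simpa using ha j
  choose b hb using ha'
  refine ⟨∑ j, b j • y j, ?_⟩
  have hx0 : m = ∑ j, a 0 j • y j := hx 0
  rw [Finset.smul_sum]
  refine hx0.trans (Finset.sum_congr rfl fun j _ => ?_)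
  rw [hb j, mul_smul]

end Basic

section Lift

variable {A : Type u} [CommRing A] {R : Type u} [CommRing R] [Algebra A R]

theorem eps_smul (x : DualNumber R) : (ε : DualNumber A) • x = (ε : DualNumber R) * x := by
  rw [Algebra.smul_def]
  change dualMap A R ε * x = _
  rw [dualMap_eps]

theorem inl_smul (a : A) (x : DualNumber R) : (inl a : DualNumber A) • x = a • x := by
  rw [Algebra.smul_def]
  change dualMap A R (inl a) * x = _
  rw [dualMap_inl, ← Algebra.smul_def]

theorem mk_smul (J : Ideal (DualNumber R)) (a : DualNumber A) (x : DualNumber R) :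
    a • (Ideal.Quotient.mk J x) = Ideal.Quotient.mk J (a • x) := rfl

theorem mem_liftIdeal {I : Ideal R} {φ : I →ₗ[R] R ⧸ I} {x : DualNumber R} :
    x ∈ liftIdeal I φ ↔ ∃ h : x.fst ∈ I, Ideal.Quotient.mk I x.snd = φ ⟨x.fst, h⟩ := Iff.rfl

/-- For a flat quotient of `R[ε]` reducing to `I`, `b ε ∈ J` forces `b ∈ I`. -/
theorem mem_of_inr_mem_of_flat (I : Ideal R) (J : Ideal (DualNumber R))
    [Module.Flat (DualNumber A) (DualNumber R ⧸ J)]
    (hJ : Ideal.map (TrivSqZeroExt.fstHom A R R) J = I) (b : R)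
    (hb : (inr b : DualNumber R) ∈ J) : b ∈ I := by
  have h1 : (ε : DualNumber A) • (Ideal.Quotient.mk J (inl b)) = 0 := by
    rw [mk_smul, eps_smul, Ideal.Quotient.eq_zero_iff_mem]
    have : (ε : DualNumber R) * inl b = inr b := by
      apply TrivSqZeroExt.ext <;> simp
    rw [this]
    exact hb
  obtain ⟨m', hm'⟩ := exists_eq_eps_smul_of_flat (A := A) (M := DualNumber R ⧸ J) _ h1
  obtain ⟨y, rfl⟩ := Ideal.Quotient.mk_surjective m'
  rw [mk_smul, eps_smul, Ideal.Quotient.eq] at hm'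
  have h2 := Ideal.mem_map_of_mem (TrivSqZeroExt.fstHom A R R) hm'
  rw [hJ] at h2
  simpa using h2

/-- A flat first-order lifting of `I` is of the form `liftIdeal I φ`. -/
theorem exists_eq_liftIdeal (I : Ideal R) (J : Ideal (DualNumber R))
    [Module.Flat (DualNumber A) (DualNumber R ⧸ J)]
    (hJ : Ideal.map (TrivSqZeroExt.fstHom A R R) J = I) :
    ∃ φ : I →ₗ[R] R ⧸ I, J = liftIdeal I φ := by
  have hsurj : Function.Surjective (TrivSqZeroExt.fstHom A R R) := fun r => ⟨inl r, rfl⟩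
  have hfst : ∀ x ∈ J, x.fst ∈ I := fun x hx => by
    have := Ideal.mem_map_of_mem (TrivSqZeroExt.fstHom A R R) hx
    rw [hJ] at this
    exact this
  have hex : ∀ a : I, ∃ y ∈ J, y.fst = (a : R) := by
    intro a
    have : (a : R) ∈ Ideal.map (TrivSqZeroExt.fstHom A R R) J := hJ ▸ a.2
    obtain ⟨y, hy, hya⟩ := (Ideal.mem_map_iff_of_surjective _ hsurj).mp this
    exact ⟨y, hy, hya⟩
  choose Y hYJ hYfst using hex
  have hwd : ∀ x ∈ J, ∀ y ∈ J, x.fst = y.fst →
      Ideal.Quotient.mk I x.snd = Ideal.Quotient.mk I y.snd := by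
    intro x hx y hy hxy
    rw [Ideal.Quotient.eq]
    apply mem_of_inr_mem_of_flat (A := A) I J hJ
    have : (inr (x.snd - y.snd) : DualNumber R) = x - y := by
      apply TrivSqZeroExt.ext <;> simp [hxy]
    rw [this]
    exact J.sub_mem hx hy
  let φ : I →ₗ[R] R ⧸ I :=
    { toFun := fun a => Ideal.Quotient.mk I (Y a).snd
      map_add' := fun a b => by
        rw [← map_add]
        exact hwd _ (hYJ _) _ (J.add_mem (hYJ a) (hYJ b)) (by simp [hYfst])
      map_smul' := fun r a => by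
        simp only [RingHom.id_apply]
        rw [Algebra.smul_def, Ideal.Quotient.algebraMap_eq, ← map_mul]
        have h3 : r * (Y a).snd = (inl r * Y a).snd := by simp
        rw [h3]
        refine hwd _ (hYJ _) _ (J.mul_mem_left (inl r) (hYJ a)) ?_
        simp [hYfst] }
  refine ⟨φ, ?_⟩
  ext x
  rw [mem_liftIdeal]
  constructor
  · intro hx
    refine ⟨hfst x hx, ?_⟩
    exact hwd x hx _ (hYJ _) (hYfst ⟨x.fst, hfst x hx⟩).symm
  · rintro ⟨h, hφ⟩
    have hc : x.snd - (Y ⟨x.fst, h⟩).snd ∈ I := Ideal.Quotient.eq.mp hφ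
    have h1 : x = Y ⟨x.fst, h⟩ + inr (x.snd - (Y ⟨x.fst, h⟩).snd) := by
      apply TrivSqZeroExt.ext <;> simp [hYfst]
    rw [h1]
    refine J.add_mem (hYJ _) ?_
    have h2 : (inr (x.snd - (Y ⟨x.fst, h⟩).snd) : DualNumber R) = ε * Y ⟨_, hc⟩ := by
      apply TrivSqZeroExt.ext <;> simp [hYfst]
    rw [h2]
    exact J.mul_mem_left _ (hYJ _)

theorem mem_liftIdeal_of {I : Ideal R} {φ : I →ₗ[R] R ⧸ I} {x : DualNumber R} (a : R)
    (ha : a ∈ I) (h1 : x.fst = a) (h2 : Ideal.Quotient.mk I x.snd = φ ⟨a, ha⟩) :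
    x ∈ liftIdeal I φ := by
  subst h1
  exact ⟨ha, h2⟩

theorem map_fstHom_liftIdeal (I : Ideal R) (φ : I →ₗ[R] R ⧸ I) :
    Ideal.map (TrivSqZeroExt.fstHom A R R) (liftIdeal I φ) = I := by
  have hsurj : Function.Surjective (TrivSqZeroExt.fstHom A R R) := fun r => ⟨inl r, rfl⟩
  ext a
  rw [Ideal.mem_map_iff_of_surjective _ hsurj]
  constructor
  · rintro ⟨y, ⟨hy, -⟩, rfl⟩
    exact hy
  · intro ha
    obtain ⟨c, hc⟩ := Ideal.Quotient.mk_surjective (φ ⟨a, ha⟩)
    refine ⟨inl a + inr c, mem_liftIdeal_of a ha (by simp) (by simpa using hc), by simp⟩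

theorem liftIdeal_injective (I : Ideal R) : Function.Injective (liftIdeal I) := by
  intro φ ψ h
  ext a
  obtain ⟨c, hc⟩ := Ideal.Quotient.mk_surjective (φ a)
  have h1 : (inl (a : R) + inr c : DualNumber R) ∈ liftIdeal I φ :=
    mem_liftIdeal_of (a : R) a.2 (by simp) (by simpa using hc)
  rw [h] at h1
  obtain ⟨h2, h3⟩ := h1
  have h4 : (⟨(inl (a : R) + inr c : DualNumber R).fst, h2⟩ : I) = a := Subtype.ext (by simp)
  rw [h4] at h3
  rw [← hc, ← h3]
  simp

end Lift

section Flat

variable {A : Type u} [CommRing A]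

/-- `M ⊗ (ε) → M` is injective as soon as `ker ε = im ε` on `M`. -/
theorem lTensor_injective (M : Type*) [AddCommGroup M] [Module (DualNumber A) M]
    (hM : ∀ m : M, (ε : DualNumber A) • m = 0 → ∃ m' : M, m = (ε : DualNumber A) • m') :
    Function.Injective ((Ideal.span {(ε : DualNumber A)}).subtype.lTensor M) := by
  let ε₀ : (Ideal.span {(ε : DualNumber A)} : Ideal (DualNumber A)) :=
    ⟨ε, Ideal.mem_span_singleton_self _⟩
  have hrep : ∀ z : M ⊗[DualNumber A] (Ideal.span {(ε : DualNumber A)} : Ideal (DualNumber A)),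
      ∃ m : M, z = m ⊗ₜ ε₀ := by
    intro z
    induction z using TensorProduct.induction_on with
    | zero => exact ⟨0, (TensorProduct.zero_tmul _ _).symm⟩
    | tmul m e =>
      obtain ⟨a, ha⟩ := Ideal.mem_span_singleton'.mp e.2
      refine ⟨a • m, ?_⟩
      rw [TensorProduct.smul_tmul]
      congr 1
      exact Subtype.ext (by simpa [ε₀] using ha.symm)
    | add x y hx hy =>
      obtain ⟨m₁, rfl⟩ := hx
      obtain ⟨m₂, rfl⟩ := hy
      exact ⟨m₁ + m₂, (TensorProduct.add_tmul _ _ _).symm⟩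
  rw [injective_iff_map_eq_zero]
  intro z hz
  obtain ⟨m, rfl⟩ := hrep z
  rw [LinearMap.lTensor_tmul] at hz
  have h1 : (ε : DualNumber A) • m = 0 := by
    have := congrArg (TensorProduct.rid (DualNumber A) M) hz
    simpa [ε₀] using this
  obtain ⟨m', rfl⟩ := hM m h1
  rw [TensorProduct.smul_tmul]
  have h2 : (ε : DualNumber A) • ε₀ = 0 := Subtype.ext (by simp [ε₀])
  rw [h2, TensorProduct.tmul_zero]

theorem isNilpotent_span_eps : IsNilpotent (Ideal.span {(ε : DualNumber A)}) := by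
  refine ⟨2, ?_⟩
  rw [Ideal.span_singleton_pow, pow_two, eps_mul_eps, Ideal.zero_eq_bot,
    Ideal.span_singleton_eq_bot]

/-- `(B/I) ⊗[B] M ≃ M/IM`, linear over `B/I`. -/
noncomputable def quotTensorEquiv {B : Type*} [CommRing B] (I : Ideal B) (M : Type*)
    [AddCommGroup M] [Module B M] :
    ((B ⧸ I) ⊗[B] M) ≃ₗ[B ⧸ I] M ⧸ (I • (⊤ : Submodule B M)) :=
  LinearEquiv.extendScalarsOfSurjective (R := B) (S := B ⧸ I) Ideal.Quotient.mk_surjective
    (TensorProduct.quotTensorEquivQuotSMul M I)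

/-- The reduction `A[ε] → A`. -/
noncomputable def red : DualNumber A →+* A := (TrivSqZeroExt.fstHom A A A).toRingHom

theorem red_apply (a : DualNumber A) : red a = a.fst := rfl

theorem red_eq_zero_of_mem {a : DualNumber A} (ha : a ∈ Ideal.span {(ε : DualNumber A)}) :
    red a = 0 := by
  obtain ⟨c, rfl⟩ := Ideal.mem_span_singleton'.mp ha
  simp [red_apply]

theorem mem_span_eps_of_red_eq_zero {a : DualNumber A} (ha : red a = 0) :
    a ∈ Ideal.span {(ε : DualNumber A)} := by
  rw [Ideal.mem_span_singleton']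
  refine ⟨inl a.snd, ?_⟩
  rw [red_apply] at ha
  apply TrivSqZeroExt.ext
  · simp [ha]
  · simp

/-- `A[ε]/(ε) ≃ A`. -/
noncomputable def sigma : (DualNumber A ⧸ Ideal.span {(ε : DualNumber A)}) ≃+* A :=
  RingEquiv.ofBijective (Ideal.Quotient.lift _ red fun _ ha => red_eq_zero_of_mem ha) (by
    constructor
    · rw [injective_iff_map_eq_zero]
      intro x hx
      obtain ⟨a, rfl⟩ := Ideal.Quotient.mk_surjective x
      rw [Ideal.Quotient.lift_mk] at hx
      exact Ideal.Quotient.eq_zero_iff_mem.mpr (mem_span_eps_of_red_eq_zero hx)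
    · intro a
      exact ⟨Ideal.Quotient.mk _ (inl a), by rw [Ideal.Quotient.lift_mk]; rfl⟩)

theorem sigma_mk (a : DualNumber A) : sigma (Ideal.Quotient.mk _ a) = red a := rfl

end Flat

section Flat2

variable {A : Type u} [CommRing A] {R : Type u} [CommRing R] [Algebra A R]

theorem fst_dualMap (a : DualNumber A) : (dualMap A R a).fst = algebraMap A R a.fst := by
  have h : (TrivSqZeroExt.fstHom A R R).comp (dualMap A R) =
      (Algebra.ofId A R).comp (TrivSqZeroExt.fstHom A A A) := by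
    apply DualNumber.algHom_ext
    simp
  exact DFunLike.congr_fun h a

theorem fst_smul (a : DualNumber A) (x : DualNumber R) : (a • x).fst = a.fst • x.fst := by
  rw [Algebra.smul_def]
  change (dualMap A R a * x).fst = _
  rw [TrivSqZeroExt.fst_mul, fst_dualMap, Algebra.smul_def]

variable (I : Ideal R) (φ : I →ₗ[R] R ⧸ I)

theorem exists_eq_eps_smul_mk (x : DualNumber R) (hx : x.fst ∈ I) :
    ∃ m' : DualNumber R ⧸ liftIdeal I φ,
      Ideal.Quotient.mk (liftIdeal I φ) x = (ε : DualNumber A) • m' := by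
  obtain ⟨c, hc⟩ := Ideal.Quotient.mk_surjective (Ideal.Quotient.mk I x.snd - φ ⟨x.fst, hx⟩)
  refine ⟨Ideal.Quotient.mk _ (inl c), ?_⟩
  rw [mk_smul, eps_smul, Ideal.Quotient.eq]
  refine mem_liftIdeal_of x.fst hx (by simp) ?_
  have h1 : (x - ε * inl c).snd = x.snd - c := by simp
  rw [h1, map_sub, hc]
  abel

theorem fst_mem_of_eps_smul_mk_eq_zero (x : DualNumber R)
    (h : (ε : DualNumber A) • Ideal.Quotient.mk (liftIdeal I φ) x = 0) : x.fst ∈ I := by
  rw [mk_smul, eps_smul, Ideal.Quotient.eq_zero_iff_mem] at h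
  obtain ⟨h0, h1⟩ := h
  have h2 : (⟨((ε : DualNumber R) * x).fst, h0⟩ : I) = 0 := Subtype.ext (by simp)
  rw [h2, map_zero] at h1
  have h3 : ((ε : DualNumber R) * x).snd = x.fst := by simp
  rw [h3] at h1
  exact Ideal.Quotient.eq_zero_iff_mem.mp h1

/-- The reduction `R[ε]/J_φ → R/I` as a ring homomorphism. -/
noncomputable def psi1 : (DualNumber R ⧸ liftIdeal I φ) →+* R ⧸ I :=
  Ideal.Quotient.lift _ ((Ideal.Quotient.mk I).comp (TrivSqZeroExt.fstHom A R R).toRingHom)
    fun x hx => by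
      obtain ⟨h, -⟩ := hx
      exact Ideal.Quotient.eq_zero_iff_mem.mpr h

theorem psi1_mk (x : DualNumber R) :
    psi1 (A := A) I φ (Ideal.Quotient.mk _ x) = Ideal.Quotient.mk I x.fst := rfl

/-- The reduction as a semilinear map. -/
noncomputable def psiG : (DualNumber R ⧸ liftIdeal I φ) →ₛₗ[red (A := A)] R ⧸ I where
  toFun := psi1 (A := A) I φ
  map_add' := map_add _
  map_smul' := by
    intro a m
    obtain ⟨x, rfl⟩ := Ideal.Quotient.mk_surjective m
    rw [mk_smul, psi1_mk, psi1_mk, fst_smul, red_apply]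
    rfl

theorem psiG_mk (x : DualNumber R) :
    psiG (A := A) I φ (Ideal.Quotient.mk _ x) = Ideal.Quotient.mk I x.fst := rfl

/-- The reduction on `M/εM`. -/
noncomputable def psi :
    ((DualNumber R ⧸ liftIdeal I φ) ⧸ (Ideal.span {(ε : DualNumber A)} •
      (⊤ : Submodule (DualNumber A) (DualNumber R ⧸ liftIdeal I φ)))) →ₛₗ[red (A := A)] R ⧸ I :=
  Submodule.liftQ _ (psiG (A := A) I φ) (Submodule.smul_le.mpr fun a ha m _ => by
    rw [LinearMap.mem_ker, map_smulₛₗ, red_eq_zero_of_mem ha, zero_smul])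

theorem psi_mk (x : DualNumber R) :
    psi (A := A) I φ (Submodule.Quotient.mk (Ideal.Quotient.mk _ x)) = Ideal.Quotient.mk I x.fst :=
  rfl

theorem psi_bijective : Function.Bijective (psi (A := A) I φ) := by
  constructor
  · rw [injective_iff_map_eq_zero]
    intro y hy
    obtain ⟨m, rfl⟩ := Submodule.Quotient.mk_surjective _ y
    obtain ⟨x, rfl⟩ := Ideal.Quotient.mk_surjective m
    rw [psi_mk, Ideal.Quotient.eq_zero_iff_mem] at hy
    obtain ⟨m', hm'⟩ := exists_eq_eps_smul_mk (A := A) I φ x hy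
    rw [hm', Submodule.Quotient.mk_eq_zero]
    exact Submodule.smul_mem_smul (Ideal.mem_span_singleton_self _) trivial
  · intro n
    obtain ⟨r, rfl⟩ := Ideal.Quotient.mk_surjective n
    exact ⟨Submodule.Quotient.mk (Ideal.Quotient.mk _ (inl r)), rfl⟩

theorem flat_quotient_liftIdeal [Module.Flat A (R ⧸ I)] :
    Module.Flat (DualNumber A) (DualNumber R ⧸ liftIdeal I φ) := by
  apply Groth.Agent.Lib.Helper5.flat_of_isNilpotent (Ideal.span {(ε : DualNumber A)})
    isNilpotent_span_eps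
  · apply lTensor_injective
    intro m hm
    obtain ⟨x, rfl⟩ := Ideal.Quotient.mk_surjective m
    exact exists_eq_eps_smul_mk I φ x (fst_mem_of_eps_smul_mk_eq_zero I φ x hm)
  · suffices h : Module.Flat (DualNumber A ⧸ Ideal.span {(ε : DualNumber A)})
        ((DualNumber R ⧸ liftIdeal I φ) ⧸ (Ideal.span {(ε : DualNumber A)} •
          (⊤ : Submodule (DualNumber A) (DualNumber R ⧸ liftIdeal I φ)))) from
      Module.Flat.of_linearEquiv (quotTensorEquiv _ _)
    let Ψe := AddEquiv.ofBijective (psi (A := A) I φ).toAddMonoidHom (psi_bijective I φ)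
    refine Groth.Agent.Lib.Helper5.flat_of_ringEquiv_of_addEquiv (S := A)
      (S' := DualNumber A ⧸ Ideal.span {(ε : DualNumber A)}) (sigma (A := A)).symm
      (M := R ⧸ I) (M' := (DualNumber R ⧸ liftIdeal I φ) ⧸ (Ideal.span {(ε : DualNumber A)} •
          (⊤ : Submodule (DualNumber A) (DualNumber R ⧸ liftIdeal I φ)))) Ψe.symm ?_
      inferInstance
    intro s n
    apply Ψe.injective
    rw [AddEquiv.apply_symm_apply]
    obtain ⟨y, rfl⟩ := Ψe.surjective n
    obtain ⟨r, rfl⟩ := (sigma (A := A)).surjective s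
    rw [AddEquiv.symm_apply_apply, RingEquiv.symm_apply_apply]
    obtain ⟨a, rfl⟩ := Ideal.Quotient.mk_surjective r
    obtain ⟨m, rfl⟩ := Submodule.Quotient.mk_surjective _ y
    change sigma (Ideal.Quotient.mk _ a) • psi (A := A) I φ (Submodule.Quotient.mk m) =
      psi (A := A) I φ (Submodule.Quotient.mk (a • m))
    rw [sigma_mk]
    exact (map_smulₛₗ (psiG (A := A) I φ) a m).symm

end Flat2

end Groth.Agent.Lib.T2H7.DualLift
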