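import Mathlib
import Groth.Prelude.Def_Exal
import Groth.Agent.Lib.T2H7DualLift
import Groth.Agent.Lib.Helper5NilFlat

/-!
# First-order deformations of an affine scheme and extensions (ring level, for S12293)
-/

set_option autoImplicit false
set_option maxHeartbeats 400000
set_option linter.style.haveILetI false
set_option linter.unusedSectionVars false
set_option linter.unusedVariables false

universe u

open CategoryTheory Limits TensorProduct

namespace Groth.Agent.Lib.LeadDualDef

open DualNumber

/-- a bijection of quotients from a bi-total relation compatible with the equivalence relations. -/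
theorem nonempty_quotient_equiv {α : Type*} {β : Type*} (sα : Setoid α) (sβ : Setoid β)
    (P : α → β → Prop) (ha : ∀ a, ∃ b, P a b) (hb : ∀ b, ∃ a, P a b)
    (hc : ∀ a a' b b', P a b → P a' b' → (sα.r a a' ↔ sβ.r b b')) :
    Nonempty (Quotient sα ≃ Quotient sβ) := by
  choose F hF using ha
  choose G hG using hb
  have hFG : ∀ b, sβ.r (F (G b)) b := fun b =>
    (hc (G b) (G b) (F (G b)) b (hF (G b)) (hG b)).mp (sα.iseqv.refl _)
  have hGF : ∀ a, sα.r (G (F a)) a := fun a =>
    (hc (G (F a)) a (F a) (F a) (hG (F a)) (hF a)).mpr (sβ.iseqv.refl _)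
  refine ⟨⟨Quotient.lift (fun a => Quotient.mk sβ (F a))
      (fun a a' h => Quotient.sound ((hc a a' _ _ (hF a) (hF a')).mp h)),
    Quotient.lift (fun b => Quotient.mk sα (G b))
      (fun b b' h => Quotient.sound ((hc _ _ b b' (hG b) (hG b')).mpr h)), ?_, ?_⟩⟩
  · intro q
    induction q using Quotient.inductionOn with
    | h a => exact Quotient.sound (hGF a)
  · intro q
    induction q using Quotient.inductionOn with
    | h b => exact Quotient.sound (hFG b)

section incl

variable {k B' B : Type u} [CommRing k] [CommRing B'] [CommRing B] [Algebra k B'] [Algebra k B]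

/-- a surjection `π : B' → B` with kernel `tB'`, `t² = 0` and `Ann t = tB'` is an extension of
`B` by `B`, with inclusion `π y ↦ t y`. -/
theorem exists_incl (π : B' →ₐ[k] B) (hπ : Function.Surjective π) (t : B') (htt : t * t = 0)
    (hπt : π t = 0) (hker : ∀ y, π y = 0 → ∃ z, y = t * z)
    (hann : ∀ y, t * y = 0 → ∃ z, y = t * z) :
    ∃ incl : B →+ B', Exal.IsExtension π incl ∧ ∀ y, incl (π y) = t * y := by
  have hwd : ∀ y y', π y = π y' → t * y = t * y' := by
    intro y y' h
    have h0 : π (y - y') = 0 := by rw [map_sub, h, sub_self]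
    obtain ⟨z, hz⟩ := hker _ h0
    have h1 : t * (y - y') = 0 := by rw [hz, ← mul_assoc, htt, zero_mul]
    rw [mul_sub] at h1
    exact sub_eq_zero.mp h1
  obtain ⟨s, hs⟩ : ∃ s : B → B', ∀ b, π (s b) = b :=
    ⟨Function.surjInv hπ, Function.surjInv_eq hπ⟩
  let incl : B →+ B' := AddMonoidHom.mk' (fun b => t * s b) (fun a b => by
    rw [← mul_add]
    apply hwd
    rw [map_add, hs, hs, hs])
  have hincl : ∀ y, incl (π y) = t * y := fun y => hwd _ _ (hs _)
  refine ⟨incl, ⟨hπ, ?_, ?_, ?_⟩, hincl⟩
  · rw [injective_iff_map_eq_zero]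
    intro b hb
    obtain ⟨y, rfl⟩ := hπ b
    rw [hincl] at hb
    obtain ⟨z, rfl⟩ := hann y hb
    rw [map_mul, hπt, zero_mul]
  · intro x
    constructor
    · intro hx
      obtain ⟨z, rfl⟩ := hker x hx
      exact ⟨π z, hincl z⟩
    · rintro ⟨b, rfl⟩
      obtain ⟨y, rfl⟩ := hπ b
      rw [hincl, map_mul, hπt, zero_mul]
  · intro x z
    obtain ⟨y, rfl⟩ := hπ z
    rw [hincl, smul_eq_mul, ← map_mul, hincl]
    ring

end incl

section dual

variable {k : Type u} [Field k]

/-- every element of `k[ε]` is `a + bε`. -/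
theorem exists_eq_add (d : DualNumber k) : ∃ a b : k,
    d = algebraMap k (DualNumber k) a + algebraMap k (DualNumber k) b * ε := by
  refine ⟨d.fst, d.snd, ?_⟩
  apply TrivSqZeroExt.ext
  · simp [TrivSqZeroExt.algebraMap_eq_inl]
  · simp [TrivSqZeroExt.algebraMap_eq_inl]

theorem dual_ringHom_ext {R : Type*} [Semiring R] (f g : DualNumber k →+* R)
    (h1 : ∀ c : k, f (algebraMap k (DualNumber k) c) = g (algebraMap k (DualNumber k) c))
    (h2 : f ε = g ε) : f = g := by
  refine RingHom.ext fun d => ?_
  obtain ⟨a, b, rfl⟩ := exists_eq_add d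
  rw [map_add, map_add, map_mul, map_mul, h1, h1, h2]

/-- the `k`-algebra map `k[ε] → R` sending `ε` to a square-zero element. -/
noncomputable def dualLift {R : Type u} [CommRing R] [Algebra k R] (t : R) (ht : t * t = 0) :
    DualNumber k →ₐ[k] R :=
  DualNumber.lift ⟨(Algebra.ofId k R, t), ht, fun _ => Commute.all _ _⟩

theorem dualLift_eps {R : Type u} [CommRing R] [Algebra k R] (t : R) (ht : t * t = 0) :
    dualLift t ht (ε : DualNumber k) = t := DualNumber.lift_apply_eps _

/-- flatness over the dual numbers. -/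
theorem flat_of_eps (M : Type u) [AddCommGroup M] [Module (DualNumber k) M]
    (hM : ∀ m : M, (ε : DualNumber k) • m = 0 → ∃ m' : M, m = (ε : DualNumber k) • m') :
    Module.Flat (DualNumber k) M := by
  have hmax : (Ideal.span {(ε : DualNumber k)}).IsMaximal :=
    Ideal.Quotient.maximal_of_isField _
      (MulEquiv.isField (Field.toIsField k)
        (Groth.Agent.Lib.T2H7.DualLift.sigma (A := k)).toMulEquiv)
  apply Groth.Agent.Lib.Helper5.flat_of_isNilpotent (Ideal.span {(ε : DualNumber k)})
    Groth.Agent.Lib.T2H7.DualLift.isNilpotent_span_eps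
  · exact Groth.Agent.Lib.T2H7.DualLift.lTensor_injective M hM
  · letI := Ideal.Quotient.field (Ideal.span {(ε : DualNumber k)})
    infer_instance

end dual

section ext

variable {k B : Type u} [Field k] [CommRing B] [Algebra k B] (E : Exal.Ext k B B)

theorem incl_proj (y : E.E) : E.incl (E.proj y) = E.incl 1 * y := by
  have h := E.isExtension.mul_incl y 1
  rw [smul_eq_mul, mul_one] at h
  rw [← h, mul_comm]

theorem proj_incl (b : B) : E.proj (E.incl b) = 0 := (E.isExtension.exact _).mpr ⟨b, rfl⟩

theorem incl_one_mul_self : E.incl 1 * E.incl 1 = 0 := by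
  rw [← incl_proj, proj_incl, map_zero]

theorem exists_of_proj_eq_zero (y : E.E) (hy : E.proj y = 0) : ∃ z, y = E.incl 1 * z := by
  obtain ⟨b, rfl⟩ := (E.isExtension.exact y).mp hy
  obtain ⟨z, rfl⟩ := E.isExtension.proj_surjective b
  exact ⟨z, incl_proj E z⟩

theorem exists_of_mul_eq_zero (y : E.E) (hy : E.incl 1 * y = 0) : ∃ z, y = E.incl 1 * z := by
  apply exists_of_proj_eq_zero
  rw [← incl_proj] at hy
  exact E.isExtension.incl_injective (hy.trans (map_zero _).symm)

/-- the structure map `k[ε] → E` of an extension of `B` by `B`. -/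
noncomputable def gamE : DualNumber k →ₐ[k] E.E := dualLift (E.incl 1) (incl_one_mul_self E)

theorem gamE_eps : gamE E ε = E.incl 1 := dualLift_eps _ _

theorem gamE_algebraMap (c : k) : gamE E (algebraMap k (DualNumber k) c) = algebraMap k E.E c :=
  (gamE E).commutes c

variable {E}

theorem equiv_gamE {E' : Exal.Ext k B B} (ψ : Exal.Ext.Equiv E E') (d : DualNumber k) :
    ψ.toAlgEquiv (gamE E d) = gamE E' d := by
  have h1 : ∀ c : k, ((ψ.toAlgEquiv : E.E →+* E'.E).comp (gamE E : DualNumber k →+* E.E))
      (algebraMap k (DualNumber k) c) =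
      (gamE E' : DualNumber k →+* E'.E) (algebraMap k (DualNumber k) c) := by
    intro c
    change ψ.toAlgEquiv (gamE E (algebraMap k _ c)) = gamE E' (algebraMap k _ c)
    rw [gamE_algebraMap, gamE_algebraMap, AlgEquiv.commutes]
  have h2 : ((ψ.toAlgEquiv : E.E →+* E'.E).comp (gamE E : DualNumber k →+* E.E)) ε =
      (gamE E' : DualNumber k →+* E'.E) ε := by
    change ψ.toAlgEquiv (gamE E ε) = gamE E' ε
    rw [gamE_eps, gamE_eps, ψ.apply_incl]
  exact RingHom.congr_fun (dual_ringHom_ext _ _ h1 h2) d

end ext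

section pushout

/-- a commutative square of commutative rings with two parallel surjections is a pushout
as soon as the kernel of one is generated by the kernel of the other. -/
theorem isPushout_of_surjective {R S A B : CommRingCat.{u}} (f : R ⟶ S) (g : R ⟶ A) (p : S ⟶ B)
    (q : A ⟶ B) (hcomm : f ≫ p = g ≫ q) (hp : Function.Surjective p.hom)
    (hg : Function.Surjective g.hom)
    (hker : RingHom.ker p.hom ≤ (RingHom.ker g.hom).map f.hom) :
    IsPushout f g p q := by
  have key : ∀ (s : PushoutCocone f g), RingHom.ker p.hom ≤ RingHom.ker s.inl.hom := by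
    intro s
    refine hker.trans ?_
    rw [Ideal.map_le_iff_le_comap]
    intro r hr
    rw [Ideal.mem_comap, RingHom.mem_ker]
    have h1 : s.inl.hom (f.hom r) = s.inr.hom (g.hom r) :=
      congrArg (fun m => m.hom r) s.condition
    rw [h1, RingHom.mem_ker.mp hr, map_zero]
  refine ⟨⟨hcomm⟩, ⟨PushoutCocone.IsColimit.mk _
    (fun s => CommRingCat.ofHom (p.hom.liftOfSurjective hp ⟨s.inl.hom, key s⟩)) ?_ ?_ ?_⟩⟩
  · intro s
    ext y
    exact RingHom.liftOfSurjective_comp_apply p.hom hp ⟨s.inl.hom, key s⟩ y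
  · intro s
    ext a
    obtain ⟨r, rfl⟩ := hg a
    have h1 : q.hom (g.hom r) = p.hom (f.hom r) := (congrArg (fun m => m.hom r) hcomm).symm
    change (p.hom.liftOfSurjective hp ⟨s.inl.hom, key s⟩) (q.hom (g.hom r)) = s.inr.hom (g.hom r)
    rw [h1, RingHom.liftOfSurjective_comp_apply]
    exact congrArg (fun m => m.hom r) s.condition
  · intro s m h1 h2
    ext b
    obtain ⟨y, rfl⟩ := hp b
    change m.hom (p.hom y) = (p.hom.liftOfSurjective hp ⟨s.inl.hom, key s⟩) (p.hom y)
    rw [RingHom.liftOfSurjective_comp_apply]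
    exact congrArg (fun m' => m'.hom y) h1

end pushout

end Groth.Agent.Lib.LeadDualDef
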