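import Mathlib
import Groth.Agent.Lib.Helper1KBC2
import Groth.Agent.Lib.Helper23Extend2

/-!
# T2H5StalkIso: local isomorphisms are stalkwise isomorphisms; stalks detect exactness (helper5)
-/

set_option autoImplicit false
universe u

open CategoryTheory CategoryTheory.Limits AlgebraicGeometry TopologicalSpace Opposite

namespace Groth.Agent.Lib.T2H5.StalkIso

open Groth.Agent.Lib.Helper1.StalkTensor Groth.Agent.Lib.Helper1.Sky Groth.Agent.Lib.Helper1.KBC
  Groth.Agent.Lib.Helper23.Extend

variable {X : Scheme.{u}}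

theorem bijective_sm_of_isoOn {A B : X.Modules} (m : A ⟶ B) (W : X.Opens) (h : IsoOn m W)
    (x : X) (hx : x ∈ W) : Function.Bijective (sm (toPMMap m) x) := by
  have hbij : ∀ W' : X.Opens, W' ≤ W → Function.Bijective ((toPMMap m).app (op W')) := by
    intro W' hle
    have := h W' hle
    exact (ConcreteCategory.isIso_iff_bijective (m.app W')).1 this
  constructor
  · intro a a' haa
    obtain ⟨U, hU, p, p', rfl, rfl⟩ := exists_rep₂ a a'
    rw [sm_gm, sm_gm] at haa
    obtain ⟨V, hV, iU, iV, hres⟩ := gm_eq hU hU _ _ haa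
    -- restrict to `V ⊓ W`
    have hxVW : x ∈ V ⊓ W := ⟨hV, hx⟩
    let i : (V ⊓ W : Opens X) ⟶ U := homOfLE (inf_le_left.trans iU.le)
    have e1 : (toPMMap m).app (op (V ⊓ W)) (rs (toPM A) i p) =
        (toPMMap m).app (op (V ⊓ W)) (rs (toPM A) i p') := by
      have n1 : (toPMMap m).app (op (V ⊓ W)) (rs (toPM A) i p) =
          rs (toPM B) i ((toPMMap m).app (op U) p) :=
        PresheafOfModules.naturality_apply (toPMMap m) i.op p
      have n2 : (toPMMap m).app (op (V ⊓ W)) (rs (toPM A) i p') =
          rs (toPM B) i ((toPMMap m).app (op U) p') :=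
        PresheafOfModules.naturality_apply (toPMMap m) i.op p'
      have hres' : rs (toPM B) i ((toPMMap m).app (op U) p) =
          rs (toPM B) i ((toPMMap m).app (op U) p') := by
        have e : i = (homOfLE inf_le_left : (V ⊓ W : Opens X) ⟶ V) ≫ iU := rfl
        have hiV : iU = iV := Subsingleton.elim _ _
        subst hiV
        rw [e, ← rs_rs, ← rs_rs, hres]
      exact (n1.trans hres').trans n2.symm
    have e2 := (hbij (V ⊓ W) inf_le_right).1 e1
    rw [← gm_rs (P := toPM A) i hxVW p, ← gm_rs (P := toPM A) i hxVW p', e2]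
  · intro b
    obtain ⟨U, hU, q, rfl⟩ := exists_gm_eq b
    have hxUW : x ∈ U ⊓ W := ⟨hU, hx⟩
    let i : (U ⊓ W : Opens X) ⟶ U := homOfLE inf_le_left
    obtain ⟨p, hp⟩ := (hbij (U ⊓ W) inf_le_right).2 (rs (toPM B) i q)
    refine ⟨gm (toPM A) x (U ⊓ W) hxUW p, ?_⟩
    rw [sm_gm, hp, gm_rs]

/-- a local isomorphism induces an isomorphism on the stalks at the points of the open -/
theorem isIso_stalkFun_map_of_isoOn {A B : X.Modules} (m : A ⟶ B) (W : X.Opens) (h : IsoOn m W)
    (x : X) (hx : x ∈ W) : IsIso ((stalkFun x).map m) := by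
  rw [ConcreteCategory.isIso_iff_bijective]
  exact bijective_sm_of_isoOn m W h x hx

/-- stalks detect exactness of short complexes -/
theorem exact_of_forall_stalk (T : ShortComplex X.Modules)
    (h : ∀ x : X, (T.map (stalkFun x)).Exact) : T.Exact := by
  rw [ShortComplex.exact_iff_isZero_homology]
  apply isZero_of_forall_isZero_stalk
  intro y
  have h1 := (ShortComplex.exact_iff_isZero_homology _).1 (h y)
  exact IsZero.of_iso h1 (T.mapHomologyIso (stalkFun y)).symm

/-- stalks detect monomorphisms -/
theorem mono_of_forall_stalk {A B : X.Modules} (f : A ⟶ B)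
    (h : ∀ x : X, Mono ((stalkFun x).map f)) : Mono f := by
  apply mono_of_sm_injective
  intro x
  have := h x
  exact (ModuleCat.mono_iff_injective _).1 this

end Groth.Agent.Lib.T2H5.StalkIso
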