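import Groth.Prelude.Def_DefoSh2
import Groth.Agent.Lib.LeadDefoSh
import Groth.Agent.Lib.LeadDualDef
import Groth.Agent.Lib.Helper21Ext1
import Groth.Agent.Lib.Helper26FpqcMod
import Groth.Agent.Lib.T2H5StalkIso
import Groth.Agent.Lib.Helper23StalkLin

/-!
# First-order deformations of an `O_X`-module and `Ext¹(E, E)` (lead)

For a first-order deformation `D` of `E` (over `k[ε]`) there is a unique `i : E ⟶ D.sheaf` with
`π ≫ i = ε`, and `0 → E → D.sheaf → E → 0` is short exact.  Its extension class identifies the set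
of isomorphism classes of first-order deformations with `Ext¹(E, E)`.
-/

set_option autoImplicit false
set_option maxHeartbeats 400000
set_option linter.style.haveILetI false
set_option linter.unusedSectionVars false
set_option linter.unusedVariables false

universe u

open CategoryTheory CategoryTheory.Limits AlgebraicGeometry DefoSh ArtFun

namespace Groth.Agent.Lib.LeadDefoExt

open Groth.Agent.Lib.Helper1.Sky Groth.Agent.Lib.Helper1.StalkTensor

variable {k : Type u} [Field k] {X : Scheme.{u}} [X.Over (Spec (CommRingCat.of k))]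
  {E : X.Modules}

/-! ### dual numbers -/

theorem eps_mul_of_fst_eq_zero (a : DualNumber k) (ha : a.fst = 0) :
    (DualNumber.eps : DualNumber k) * a = 0 := by
  apply TrivSqZeroExt.ext
  · simp [ha]
  · simp [ha]

theorem eq_eps_mul_inl (a : DualNumber k) (ha : a.fst = 0) :
    a = (DualNumber.eps : DualNumber k) * TrivSqZeroExt.inl a.snd := by
  apply TrivSqZeroExt.ext
  · simp [ha]
  · simp

/-! ### stalk-level facts -/

section stalk

variable (D : DefoSh.Defo E (Art.dual k k)) (p : X)

/-- the action, as an algebra map out of the dual numbers. -/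
noncomputable def actD : DualNumber k →ₐ[k] End D.sheaf := D.act

theorem actD_eps_π : actD D (DualNumber.eps : DualNumber k) ≫ D.π = 0 := D.act_π _ rfl

theorem actD_comp (a b : DualNumber k) : actD D b ≫ actD D a = actD D (a * b) := by
  rw [map_mul, End.mul_def]

theorem actD_eps_eps :
    actD D (DualNumber.eps : DualNumber k) ≫ actD D (DualNumber.eps : DualNumber k) = 0 := by
  rw [actD_comp, DualNumber.eps_mul_eps, map_zero]

theorem ker_le' (v : ↑(D.sheaf.presheaf.stalk p)) (hv : RefHull.stalkMapₗ D.π p v = 0) :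
    letI : Module (DualNumber k) ↑(D.sheaf.presheaf.stalk p) := D.stalkMod p
    v ∈ IsLocalRing.maximalIdeal (DualNumber k) •
      (⊤ : Submodule (DualNumber k) ↑(D.sheaf.presheaf.stalk p)) := D.ker_le p v hv

theorem fst_eq_zero_of_mem (a : DualNumber k) (ha : a ∈ IsLocalRing.maximalIdeal (DualNumber k)) :
    TrivSqZeroExt.fst a = 0 := ((Art.dual k k).mem_maximalIdeal_iff a).1 ha

/-- `ε` kills `m • ⊤`. -/
theorem eps_eq_zero_of_mem (v : ↑(D.sheaf.presheaf.stalk p))
    (hv : letI : Module (DualNumber k) ↑(D.sheaf.presheaf.stalk p) := D.stalkMod p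
      v ∈ IsLocalRing.maximalIdeal (DualNumber k) •
        (⊤ : Submodule (DualNumber k) ↑(D.sheaf.presheaf.stalk p))) :
    RefHull.stalkMapₗ (actD D (DualNumber.eps : DualNumber k)) p v = 0 := by
  letI : Module (DualNumber k) ↑(D.sheaf.presheaf.stalk p) := D.stalkMod p
  refine Submodule.smul_induction_on hv ?_ ?_
  · intro a ha w _
    have h0 : (DualNumber.eps : DualNumber k) * a = 0 :=
      eps_mul_of_fst_eq_zero a (fst_eq_zero_of_mem a ha)
    change RefHull.stalkMapₗ (actD D (DualNumber.eps : DualNumber k)) p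
      (RefHull.stalkMapₗ (actD D a) p w) = 0
    rw [← DefoSh.stalkMapₗ_comp_apply, actD_comp, h0, map_zero, DefoSh.stalkMapₗ_zero_apply]
  · intro x y hx hy
    rw [map_add, hx, hy, add_zero]

/-- the kernel of `π_p` is `ε · D_p`. -/
theorem exists_eps_of_π_eq_zero (v : ↑(D.sheaf.presheaf.stalk p))
    (hv : RefHull.stalkMapₗ D.π p v = 0) :
    ∃ u, v = RefHull.stalkMapₗ (actD D (DualNumber.eps : DualNumber k)) p u := by
  letI : Module (DualNumber k) ↑(D.sheaf.presheaf.stalk p) := D.stalkMod p
  have h := ker_le' D p v hv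
  refine Submodule.smul_induction_on h ?_ ?_
  · intro a ha w _
    have h0 : a = (DualNumber.eps : DualNumber k) * TrivSqZeroExt.inl (TrivSqZeroExt.snd a) :=
      eq_eps_mul_inl a (fst_eq_zero_of_mem a ha)
    refine ⟨RefHull.stalkMapₗ (actD D (TrivSqZeroExt.inl (TrivSqZeroExt.snd a) : DualNumber k)) p w, ?_⟩
    change RefHull.stalkMapₗ (actD D a) p w = _
    rw [← DefoSh.stalkMapₗ_comp_apply, actD_comp, ← h0]
  · rintro x y ⟨u, rfl⟩ ⟨u', rfl⟩
    exact ⟨u + u', (map_add _ _ _).symm⟩

/-- flatness over the dual numbers: the kernel of `ε` is `ε · D_p`. -/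
theorem exists_eps_of_eps_eq_zero (v : ↑(D.sheaf.presheaf.stalk p))
    (hv : RefHull.stalkMapₗ (actD D (DualNumber.eps : DualNumber k)) p v = 0) :
    ∃ u, v = RefHull.stalkMapₗ (actD D (DualNumber.eps : DualNumber k)) p u := by
  letI : Module (DualNumber k) ↑(D.sheaf.presheaf.stalk p) := D.stalkMod p
  haveI : Module.Flat (DualNumber k) ↑(D.sheaf.presheaf.stalk p) := D.flat p
  obtain ⟨u, hu⟩ := Groth.Agent.Lib.T2H7.DualLift.exists_eq_eps_smul_of_flat (A := k) v hv
  exact ⟨u, hu⟩

end stalk

/-! ### the inclusion `E ⟶ D.sheaf` -/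

section iota

variable (D : DefoSh.Defo E (Art.dual k k))

theorem stalkFun_map_apply {M N : X.Modules} (φ : M ⟶ N) (x : X) (v : ↑(M.presheaf.stalk x)) :
    ((stalkFun x).map φ).hom v = RefHull.stalkMapₗ φ x v := rfl

instance epi_π : Epi D.π :=
  Groth.Agent.Lib.Helper26.FpqcMod.epi_of_stalk_surjective D.π (fun x v => D.surj x v)

theorem eq_zero_of_stalkMapₗ {M N : X.Modules} (φ : M ⟶ N)
    (h : ∀ (x : X) (v : ↑(M.presheaf.stalk x)), RefHull.stalkMapₗ φ x v = 0) : φ = 0 := by
  apply Groth.Agent.Lib.Helper26.FpqcMod.eq_zero_of_stalk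
  intro x
  ext v
  exact h x v

theorem kernel_ι_act_eps : kernel.ι D.π ≫ actD D (DualNumber.eps : DualNumber k) = 0 := by
  apply eq_zero_of_stalkMapₗ
  intro x v
  rw [DefoSh.stalkMapₗ_comp_apply]
  apply eps_eq_zero_of_mem
  apply ker_le'
  rw [← DefoSh.stalkMapₗ_comp_apply, kernel.condition, DefoSh.stalkMapₗ_zero_apply]

/-- the inclusion `E ⟶ D.sheaf`, "multiplication by `ε`". -/
noncomputable def iota : E ⟶ D.sheaf :=
  Abelian.epiDesc D.π (actD D (DualNumber.eps : DualNumber k)) (kernel_ι_act_eps D)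

theorem π_iota : D.π ≫ iota D = actD D (DualNumber.eps : DualNumber k) :=
  Abelian.comp_epiDesc _ _ _

theorem eq_iota (i : E ⟶ D.sheaf) (hi : D.π ≫ i = actD D (DualNumber.eps : DualNumber k)) :
    i = iota D := by
  rw [← cancel_epi D.π, hi, π_iota]

theorem iota_π : iota D ≫ D.π = 0 := by
  rw [← cancel_epi D.π, ← Category.assoc, π_iota, actD_eps_π, comp_zero]

theorem iota_stalk (p : X) (u : ↑(D.sheaf.presheaf.stalk p)) :
    RefHull.stalkMapₗ (iota D) p (RefHull.stalkMapₗ D.π p u) =
      RefHull.stalkMapₗ (actD D (DualNumber.eps : DualNumber k)) p u := by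
  rw [← DefoSh.stalkMapₗ_comp_apply, π_iota]

instance mono_iota : Mono (iota D) := by
  apply mono_of_sm_injective
  intro x
  change Function.Injective (RefHull.stalkMapₗ (iota D) x)
  rw [injective_iff_map_eq_zero]
  intro w hw
  obtain ⟨u, rfl⟩ := D.surj x w
  rw [iota_stalk] at hw
  obtain ⟨u', rfl⟩ := exists_eps_of_eps_eq_zero D x u hw
  rw [← DefoSh.stalkMapₗ_comp_apply, actD_eps_π, DefoSh.stalkMapₗ_zero_apply]

/-- the short complex `E ⟶ D.sheaf ⟶ E`. -/
noncomputable abbrev sc : ShortComplex X.Modules := ShortComplex.mk (iota D) D.π (iota_π D)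

theorem sc_exact : (sc D).Exact := by
  apply Groth.Agent.Lib.T2H5.StalkIso.exact_of_forall_stalk
  intro x
  rw [ShortComplex.moduleCat_exact_iff]
  intro v hv
  have hv' : RefHull.stalkMapₗ D.π x v = 0 := hv
  obtain ⟨u, rfl⟩ := exists_eps_of_π_eq_zero D x v hv'
  exact ⟨RefHull.stalkMapₗ D.π x u, iota_stalk D x u⟩

theorem sc_shortExact : (sc D).ShortExact :=
  { exact := sc_exact D
    mono_f := mono_iota D
    epi_g := epi_π D }

end iota

/-! ### the extension class -/

section ext

open Abelian

variable [HasExt.{u} X.Modules]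

theorem extClass_eq_zero_of_section {S : ShortComplex X.Modules} (hS : S.ShortExact)
    (s : S.X₃ ⟶ S.X₂) (hs : s ≫ S.g = 𝟙 _) : hS.extClass = 0 := by
  rw [← Ext.mk₀_id_comp hS.extClass, ← hs, ← Ext.mk₀_comp_mk₀_assoc, hS.comp_extClass,
    Ext.comp_zero]

/-- the extension class of a first-order deformation. -/
noncomputable def extOf (D : DefoSh.Defo E (Art.dual k k)) : Ext E E 1 :=
  (sc_shortExact D).extClass

theorem extOf_eq (D : DefoSh.Defo E (Art.dual k k)) (i : E ⟶ D.sheaf)
    (hi : D.π ≫ i = D.act (DualNumber.eps : DualNumber k)) (h0 : i ≫ D.π = 0)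
    (hS : (ShortComplex.mk i D.π h0).ShortExact) : extOf D = hS.extClass := by
  have hi' : i = iota D := eq_iota D i hi
  subst hi'
  rfl

theorem extOf_eq_of_iso {D D' : DefoSh.Defo E (Art.dual k k)} (φ : DefoSh.Defo.Iso D D') :
    extOf D = extOf D' := by
  have h1 : actD D (DualNumber.eps : DualNumber k) ≫ φ.iso.hom =
      φ.iso.hom ≫ actD D' (DualNumber.eps : DualNumber k) := φ.act_hom _
  have hi : iota D ≫ φ.iso.hom = iota D' := by
    rw [← cancel_epi D.π, ← Category.assoc, π_iota, h1, ← π_iota D', ← Category.assoc, φ.hom_π]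
  let f : sc D ⟶ sc D' :=
    { τ₁ := 𝟙 E
      τ₂ := φ.iso.hom
      τ₃ := 𝟙 E
      comm₁₂ := by
        change 𝟙 E ≫ iota D' = iota D ≫ φ.iso.hom
        rw [Category.id_comp, hi]
      comm₂₃ := by
        change φ.iso.hom ≫ D'.π = D.π ≫ 𝟙 E
        rw [Category.comp_id, φ.hom_π] }
  have h := ShortComplex.ShortExact.extClass_naturality (sc_shortExact D) (sc_shortExact D') f
  have h' : (extOf D).comp (Ext.mk₀ (𝟙 E)) (add_zero 1) =
      (Ext.mk₀ (𝟙 E)).comp (extOf D') (zero_add 1) := h
  rwa [Ext.comp_mk₀_id, Ext.mk₀_id_comp] at h'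

/-- `ε` as an endomorphism of the deformed module. -/
noncomputable def epsHom (D : DefoSh.Defo E (Art.dual k k)) : D.sheaf ⟶ D.sheaf :=
  actD D (DualNumber.eps : DualNumber k)

/-- the action of `a`, as an endomorphism of the deformed module. -/
noncomputable def actHom (D : DefoSh.Defo E (Art.dual k k)) (a : DualNumber k) :
    D.sheaf ⟶ D.sheaf := actD D a

/-- the action is determined by `ε`. -/
theorem actHom_eq (D : DefoSh.Defo E (Art.dual k k)) (a : DualNumber k) :
    actHom D a = TrivSqZeroExt.fst a • 𝟙 D.sheaf + TrivSqZeroExt.snd a • epsHom D := by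
  obtain ⟨c, d, rfl⟩ := Groth.Agent.Lib.LeadDualDef.exists_eq_add a
  have h : actD D (algebraMap k (DualNumber k) c +
      algebraMap k (DualNumber k) d * (DualNumber.eps : DualNumber k)) =
      c • (1 : End D.sheaf) + d • actD D (DualNumber.eps : DualNumber k) := by
    rw [map_add, map_mul, AlgHom.commutes, AlgHom.commutes, Algebra.algebraMap_eq_smul_one,
      Algebra.algebraMap_eq_smul_one, smul_mul_assoc, one_mul]
  have hc : TrivSqZeroExt.fst (algebraMap k (DualNumber k) c +
      algebraMap k (DualNumber k) d * (DualNumber.eps : DualNumber k)) = c := by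
    simp [TrivSqZeroExt.algebraMap_eq_inl]
  have hd : TrivSqZeroExt.snd (algebraMap k (DualNumber k) c +
      algebraMap k (DualNumber k) d * (DualNumber.eps : DualNumber k)) = d := by
    simp [TrivSqZeroExt.algebraMap_eq_inl]
  rw [hc, hd]
  exact h

theorem act_comm_of_eps {D D' : DefoSh.Defo E (Art.dual k k)} (m : D.sheaf ⟶ D'.sheaf)
    (h : epsHom D ≫ m = m ≫ epsHom D') (a : DualNumber k) :
    actHom D a ≫ m = m ≫ actHom D' a := by
  rw [actHom_eq D a, actHom_eq D' a, Preadditive.add_comp, Preadditive.comp_add, Linear.smul_comp,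
    Linear.smul_comp, Linear.comp_smul, Linear.comp_smul, Category.id_comp, Category.comp_id, h]

theorem cl_eq_of_extOf_eq {D D' : DefoSh.Defo E (Art.dual k k)} (h : extOf D = extOf D') :
    D.cl = D'.cl := by
  have h' : (sc_shortExact D).extClass.comp (Ext.mk₀ (𝟙 E)) (add_zero 1) =
      (Ext.mk₀ (𝟙 E)).comp (sc_shortExact D').extClass (zero_add 1) := by
    rw [Ext.comp_mk₀_id, Ext.mk₀_id_comp]
    exact h
  obtain ⟨m, hm1, hm2⟩ := Groth.Agent.Lib.Helper21.Ext1.exists_hom_of_extClass_comp_eq
    (sc_shortExact D) (sc_shortExact D') (𝟙 E) (𝟙 E) h'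
  have hm1' : iota D ≫ m = iota D' := by
    have : iota D ≫ m = 𝟙 E ≫ iota D' := hm1
    rwa [Category.id_comp] at this
  have hm2' : m ≫ D'.π = D.π := by
    have : m ≫ D'.π = D.π ≫ 𝟙 E := hm2
    rwa [Category.comp_id] at this
  have heps : epsHom D ≫ m = m ≫ epsHom D' := by
    change actD D (DualNumber.eps : DualNumber k) ≫ m = m ≫ actD D' (DualNumber.eps : DualNumber k)
    rw [← π_iota D, ← π_iota D', Category.assoc, hm1', ← Category.assoc, hm2']
  have hact : ∀ a : (Art.dual k k), D.act a ≫ m = m ≫ D'.act a := fun a => act_comm_of_eps m heps a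
  haveI : IsIso m := Groth.Agent.Lib.LeadDefoSh.isIso_of_comm D D' m hact hm2'
  exact Quotient.sound ⟨⟨asIso m, hact, hm2'⟩⟩

end ext

/-! ### building a deformation from an extension -/

section build

variable {B : X.Modules} (f : E ⟶ B) (g : B ⟶ E) (w : f ≫ g = 0)

/-- `g ≫ f` as an endomorphism. -/
noncomputable def gfEnd : End B := g ≫ f

include w in
theorem gfEnd_mul_self : gfEnd f g * gfEnd f g = 0 := by
  rw [End.mul_def]
  change (g ≫ f) ≫ (g ≫ f) = 0
  rw [Category.assoc, ← Category.assoc f g f, w, zero_comp, comp_zero]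

/-- the action of the dual numbers on the middle term of an extension of `E` by `E`. -/
noncomputable def buildAct : DualNumber k →ₐ[k] End B :=
  DualNumber.lift ⟨(Algebra.ofId k (End B), gfEnd f g), gfEnd_mul_self f g w,
    fun a => (Algebra.commutes a (gfEnd f g)).symm⟩

theorem buildAct_eps : buildAct (k := k) f g w (DualNumber.eps : DualNumber k) = gfEnd f g :=
  DualNumber.lift_apply_eps _

theorem buildAct_apply (z : DualNumber k) :
    buildAct f g w z = TrivSqZeroExt.fst z • (1 : End B) + TrivSqZeroExt.snd z • gfEnd f g := by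
  change algebraMap k (End B) (TrivSqZeroExt.fst z) +
    (algebraMap k (End B) (TrivSqZeroExt.snd z)) * gfEnd f g = _
  rw [Algebra.algebraMap_eq_smul_one, Algebra.algebraMap_eq_smul_one, smul_mul_assoc, one_mul]

/-- the action, as a morphism. -/
noncomputable def buildHom (z : DualNumber k) : B ⟶ B := buildAct f g w z

theorem buildHom_eq (z : DualNumber k) :
    buildHom f g w z = TrivSqZeroExt.fst z • 𝟙 B + TrivSqZeroExt.snd z • (g ≫ f) :=
  buildAct_apply f g w z

theorem buildHom_eps : buildHom (k := k) f g w (DualNumber.eps : DualNumber k) = g ≫ f :=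
  buildAct_eps f g w

theorem buildHom_comp_g (z : DualNumber k) (hz : TrivSqZeroExt.fst z = 0) :
    buildHom f g w z ≫ g = 0 := by
  rw [buildHom_eq, hz, Preadditive.add_comp, Linear.smul_comp, Linear.smul_comp, Category.assoc, w,
    comp_zero, smul_zero, zero_smul, zero_add]

variable (hS : (ShortComplex.mk f g w).ShortExact)

include hS in
theorem stalk_surj (p : X) : Function.Surjective (RefHull.stalkMapₗ g p) := by
  haveI : Epi g := hS.epi_g
  exact fun v => Groth.Agent.Lib.Helper26.FpqcMod.stalk_surjective_of_epi g p v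

include hS in
theorem stalk_inj (p : X) : Function.Injective (RefHull.stalkMapₗ f p) := by
  haveI : Mono f := hS.mono_f
  exact Groth.Agent.Lib.Helper23.StalkLin.stalkLin_injective f p

include hS in
theorem stalk_exact (p : X) (v : ↑(B.presheaf.stalk p)) (hv : RefHull.stalkMapₗ g p v = 0) :
    ∃ u, RefHull.stalkMapₗ f p u = v :=
  ((Groth.Agent.Lib.Helper23.StalkLin.stalkLin_exact (ShortComplex.mk f g w) hS p) v).1 hv

include hS in
/-- the kernel of `g_p` consists of the multiples of `ε`. -/
theorem exists_eps_of_g_eq_zero (p : X) (v : ↑(B.presheaf.stalk p))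
    (hv : RefHull.stalkMapₗ g p v = 0) : ∃ u, v = RefHull.stalkMapₗ (g ≫ f) p u := by
  obtain ⟨e, rfl⟩ := stalk_exact f g w hS p v hv
  obtain ⟨u, rfl⟩ := stalk_surj f g w hS p e
  exact ⟨u, (DefoSh.stalkMapₗ_comp_apply p g f u).symm⟩

/-- the first-order deformation defined by an extension of `E` by `E`. -/
noncomputable def build : DefoSh.Defo E (Art.dual k k) where
  sheaf := B
  act := buildAct f g w
  π := g
  act_π a ha := buildHom_comp_g f g w a ha
  surj p := stalk_surj f g w hS p
  ker_le p v hv := by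
    letI : Module (Art.dual k k) ↑(B.presheaf.stalk p) :=
      DefoSh.stalkModule (A := Art.dual k k) B (buildAct (k := k) f g w).toRingHom p
    let ε : (Art.dual k k) := (DualNumber.eps : DualNumber k)
    have hε : ε ∈ IsLocalRing.maximalIdeal (Art.dual k k) := by
      rw [Art.mem_maximalIdeal_iff]
      rfl
    obtain ⟨u, hu⟩ := exists_eps_of_g_eq_zero f g w hS p v hv
    have hv' : v = ε • u := by
      change v = RefHull.stalkMapₗ (buildHom (k := k) f g w (DualNumber.eps : DualNumber k)) p u
      rw [buildHom_eps]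
      exact hu
    rw [hv']
    exact Submodule.smul_mem_smul hε Submodule.mem_top
  flat p := by
    letI : Module (DualNumber k) ↑(B.presheaf.stalk p) :=
      DefoSh.stalkModule B (buildAct (k := k) f g w).toRingHom p
    have e1 : ∀ m : ↑(B.presheaf.stalk p),
        (DualNumber.eps : DualNumber k) • m = RefHull.stalkMapₗ (g ≫ f) p m := by
      intro m
      change RefHull.stalkMapₗ (buildHom (k := k) f g w (DualNumber.eps : DualNumber k)) p m = _
      rw [buildHom_eps]
    have hfl : Module.Flat (DualNumber k) ↑(B.presheaf.stalk p) := by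
      apply Groth.Agent.Lib.LeadDualDef.flat_of_eps
      intro m hm
      rw [e1, DefoSh.stalkMapₗ_comp_apply] at hm
      have hm' : RefHull.stalkMapₗ g p m = 0 :=
        stalk_inj f g w hS p (hm.trans (map_zero _).symm)
      obtain ⟨u, hu⟩ := exists_eps_of_g_eq_zero f g w hS p m hm'
      exact ⟨u, hu.trans (e1 u).symm⟩
    exact hfl

theorem build_π_iota :
    (build (k := k) f g w hS).π ≫ f =
      (build (k := k) f g w hS).act (DualNumber.eps : DualNumber k) :=
  (buildAct_eps f g w).symm

end build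

/-! ### the main theorem -/

section main

open Abelian

variable [HasExt.{u} X.Modules]

theorem extOf_build {B : X.Modules} (f : E ⟶ B) (g : B ⟶ E) (w : f ≫ g = 0)
    (hS : (ShortComplex.mk f g w).ShortExact) :
    extOf (build (k := k) f g w hS) = hS.extClass :=
  extOf_eq (build (k := k) f g w hS) f (build_π_iota f g w hS) w hS

theorem extOf_trivDual : extOf (DefoSh.Defo.trivDual k E) = 0 := by
  apply extClass_eq_zero_of_section (sc_shortExact (DefoSh.Defo.trivDual k E)) biprod.inl
  exact biprod.inl_fst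

variable (k E) in
/-- the extension class, on isomorphism classes. -/
noncomputable def eFun : DefoSh.FirstOrder k E → Ext E E 1 :=
  Quotient.lift (fun D : DefoSh.Defo E (Art.dual k k) => extOf D)
    (fun _ _ ⟨φ⟩ => extOf_eq_of_iso φ)

theorem eFun_cl (D : DefoSh.Defo E (Art.dual k k)) : eFun k E D.cl = extOf D := rfl

theorem eFun_bijective : Function.Bijective (eFun k E) := by
  constructor
  · intro a b hab
    induction a using Quotient.inductionOn with
    | h D =>
      induction b using Quotient.inductionOn with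
      | h D' => exact cl_eq_of_extOf_eq hab
  · intro x
    obtain ⟨B, f, g, w, hS, hx⟩ := Groth.Agent.Lib.Helper21.Ext1.exists_extClass x
    exact ⟨(build (k := k) f g w hS).cl, (extOf_build f g w hS).trans hx⟩

theorem main_S17435 (k : Type u) [Field k] (X : Scheme.{u})
    [X.Over (Spec (CommRingCat.of k))] (E : X.Modules) [HasExt.{u} X.Modules] :
    ∃ e : DefoSh.FirstOrder k E ≃ Abelian.Ext E E 1,
      e (DefoSh.Defo.trivDual k E).cl = 0 ∧
      ∀ (D : DefoSh.Defo E (ArtFun.Art.dual k k)) (i : E ⟶ D.sheaf)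
        (hi : D.π ≫ i = D.act (DualNumber.eps : DualNumber k))
        (h0 : i ≫ D.π = 0) (hS : (ShortComplex.mk i D.π h0).ShortExact),
        e D.cl = hS.extClass :=
  ⟨Equiv.ofBijective (eFun k E) eFun_bijective, extOf_trivDual,
    fun D i hi h0 hS => extOf_eq D i hi h0 hS⟩

end main

end Groth.Agent.Lib.LeadDefoExt
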