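import Mathlib
import Groth.Prelude.Def_DescFam

/-!
Lead: a Yoneda-style criterion for an endofunctor of `Desc.SchDDFam f` to be isomorphic to the identity,
and pullback of descent data along `S`-endomorphisms / `S`-morphisms admitting a morphism back.
-/

set_option autoImplicit false
set_option backward.isDefEq.respectTransparency false
set_option backward.isDefEq.respectTransparency.types false
universe w u
open CategoryTheory CategoryTheory.Limits AlgebraicGeometry Desc

namespace Groth.Agent.Lib.LeadDescYoneda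

variable {S : Scheme.{u}} {ι : Type w} {X : ι → Scheme.{u}} {f : ∀ i, X i ⟶ S}

/-- A natural family of bijections on points, compatible with the gluing bijections. -/
structure PtEquiv (D D' : SchDDFam f) where
  e : ∀ ⦃T : Scheme.{u}⦄ ⦃i : ι⦄ (x : T ⟶ X i), Lifts (D.obj i) x ≃ Lifts (D'.obj i) x
  nat : ∀ ⦃T T' : Scheme.{u}⦄ (g : T' ⟶ T) ⦃i : ι⦄ (x : T ⟶ X i) (y : T' ⟶ X i) (_ : g ≫ x = y)
    (v : Lifts (D.obj i) x) (v' : Lifts (D.obj i) y), v'.1 = g ≫ v.1 → (e y v').1 = g ≫ (e x v).1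
  compat : ∀ ⦃T : Scheme.{u}⦄ ⦃i j : ι⦄ (x₀ : T ⟶ X i) (x₁ : T ⟶ X j) (h : x₀ ≫ f i = x₁ ≫ f j)
    (v : Lifts (D.obj i) x₀), e x₁ (D.φ x₀ x₁ h v) = D'.φ x₀ x₁ h (e x₀ v)

namespace PtEquiv

variable {D D' : SchDDFam f}

/-- the universal point -/
def univ (D : SchDDFam f) (i : ι) : Lifts (D.obj i) (D.obj i).hom := ⟨𝟙 _, Category.id_comp _⟩

/-- the inverse family -/
def symm (m : PtEquiv D D') : PtEquiv D' D where
  e T i x := (m.e x).symm
  nat T T' g i x y hy v v' hv := by
    obtain ⟨u, rfl⟩ := (m.e x).surjective v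
    have hu' : (g ≫ u.1) ≫ (D.obj i).hom = y := by rw [Category.assoc, u.2, hy]
    have key := m.nat g x y hy u ⟨g ≫ u.1, hu'⟩ rfl
    have e1 : m.e y ⟨g ≫ u.1, hu'⟩ = v' := Subtype.ext (by rw [key, hv])
    rw [← e1]
    simp
  compat T i j x₀ x₁ h v := by
    apply (m.e x₁).injective
    rw [m.compat]
    simp

/-- the morphism of descent data attached to a natural family of bijections -/
def toHom (m : PtEquiv D D') : D ⟶ D' where
  hom i := Over.homMk (m.e (D.obj i).hom (univ D i)).1 (m.e (D.obj i).hom (univ D i)).2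
  comm T i j x₀ x₁ h v w hw := by
    have s0 : (m.e x₀ v).1 = v.1 ≫ (m.e (D.obj i).hom (univ D i)).1 :=
      m.nat v.1 (D.obj i).hom x₀ v.2 (univ D i) v (by simp [univ])
    have e0 : w = m.e x₀ v := Subtype.ext (by rw [s0]; simpa using hw)
    rw [e0, ← m.compat]
    exact m.nat (D.φ x₀ x₁ h v).1 (D.obj j).hom x₁ (D.φ x₀ x₁ h v).2 (univ D j) _ (by simp [univ])

lemma toHom_spec (m : PtEquiv D D') {T : Scheme.{u}} {i : ι} (x : T ⟶ X i) (v : Lifts (D.obj i) x) :
    v.1 ≫ ((toHom m).hom i).left = (m.e x v).1 :=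
  (m.nat v.1 (D.obj i).hom x v.2 (univ D i) v (by simp [univ])).symm

lemma toHom_symm_toHom (m : PtEquiv D D') : toHom m ≫ toHom m.symm = 𝟙 D := by
  apply SchDDFam.hom_ext
  funext i
  apply Over.OverMorphism.ext
  have := toHom_spec m.symm (D.obj i).hom (m.e (D.obj i).hom (univ D i))
  simp only [SchDDFam.comp_hom, Over.comp_left, SchDDFam.id_hom, Over.id_left]
  refine (this.trans ?_)
  simp [symm, univ]

/-- the isomorphism of descent data attached to a natural family of bijections -/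
def toIso (m : PtEquiv D D') : D ≅ D' where
  hom := toHom m
  inv := toHom m.symm
  hom_inv_id := toHom_symm_toHom m
  inv_hom_id := by
    have := toHom_symm_toHom m.symm
    exact this

end PtEquiv

/-- An endofunctor of descent data with natural bijections between the points of `F D` and of `D`
is isomorphic to the identity. -/
theorem nonempty_iso_id (F : SchDDFam f ⥤ SchDDFam f) (m : ∀ D, PtEquiv (F.obj D) D)
    (natD : ∀ ⦃D₁ D₂ : SchDDFam f⦄ (a : D₁ ⟶ D₂) ⦃i : ι⦄,
      (((m D₂).e ((F.obj D₁).obj i).hom ⟨((F.map a).hom i).left, Over.w _⟩).1 : _ ⟶ (D₂.obj i).left) =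
        ((m D₁).e ((F.obj D₁).obj i).hom (PtEquiv.univ _ i)).1 ≫ (a.hom i).left) :
    Nonempty (F ≅ 𝟭 (SchDDFam f)) := by
  refine ⟨NatIso.ofComponents (fun D => (m D).toIso) ?_⟩
  intro D₁ D₂ a
  apply SchDDFam.hom_ext
  funext i
  apply Over.OverMorphism.ext
  simp only [SchDDFam.comp_hom, Over.comp_left, Functor.id_map, PtEquiv.toIso]
  have h1 := PtEquiv.toHom_spec (m D₂) ((F.obj D₁).obj i).hom ⟨((F.map a).hom i).left, Over.w _⟩
  rw [h1, natD a]
  rfl

end Groth.Agent.Lib.LeadDescYoneda
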