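import Mathlib
import Groth.Prelude.Def_DescFam
import Groth.Agent.Lib.LeadDescYoneda

/-!
Lead: pullback of descent data along `S`-endomorphisms is isomorphic to the identity; pullback along
`S`-morphisms admitting an `S`-morphism back is an equivalence.
-/

set_option autoImplicit false
set_option backward.isDefEq.respectTransparency false
set_option backward.isDefEq.respectTransparency.types false
universe w u
open CategoryTheory CategoryTheory.Limits AlgebraicGeometry Desc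

namespace Groth.Agent.Lib.LeadDescEndo

open Groth.Agent.Lib.LeadDescYoneda

section general

variable {S : Scheme.{u}} {ι : Type w} {X : ι → Scheme.{u}} {f : ∀ i, X i ⟶ S}
  {S' : Scheme.{u}} {ι' : Type w} {X' : ι' → Scheme.{u}} {f' : ∀ j, X' j ⟶ S'}
  {α : ι' → ι} {p : S' ⟶ S} {p' : ∀ j, X' j ⟶ X (α j)} (w : ∀ j, p' j ≫ f (α j) = f' j ≫ p)

lemma pull_obj_φ (D : SchDDFam f) {T : Scheme.{u}} {j₀ j₁ : ι'} (x₀ : T ⟶ X' j₀) (x₁ : T ⟶ X' j₁)
    (h : x₀ ≫ f' j₀ = x₁ ≫ f' j₁) (v : Lifts (((pullDDFam w).obj D).obj j₀) x₀) :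
    ((pullDDFam w).obj D).φ x₀ x₁ h v =
      (liftsPullbackEquiv (D.obj (α j₁)) (p' j₁) x₁).symm
        (D.φ (x₀ ≫ p' j₀) (x₁ ≫ p' j₁) (pull_compat w x₀ x₁ h)
          (liftsPullbackEquiv (D.obj (α j₀)) (p' j₀) x₀ v)) := rfl

lemma lpe_pull_obj_φ (D : SchDDFam f) {T : Scheme.{u}} {j₀ j₁ : ι'} (x₀ : T ⟶ X' j₀) (x₁ : T ⟶ X' j₁)
    (h : x₀ ≫ f' j₀ = x₁ ≫ f' j₁) (v : Lifts (((pullDDFam w).obj D).obj j₀) x₀) :
    liftsPullbackEquiv (D.obj (α j₁)) (p' j₁) x₁ (((pullDDFam w).obj D).φ x₀ x₁ h v) =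
        (D.φ (x₀ ≫ p' j₀) (x₁ ≫ p' j₁) (pull_compat w x₀ x₁ h)
          (liftsPullbackEquiv (D.obj (α j₀)) (p' j₀) x₀ v)) :=
  (liftsPullbackEquiv (D.obj (α j₁)) (p' j₁) x₁).apply_symm_apply _

lemma pull_map_fst {D D' : SchDDFam f} (a : D ⟶ D') (j : ι') :
    (((pullDDFam w).map a).hom j).left ≫ pullback.fst (D'.obj (α j)).hom (p' j) =
      pullback.fst (D.obj (α j)).hom (p' j) ≫ (a.hom (α j)).left := by
  simp [pullDDFam]

end general

section endo

variable {S : Scheme.{u}} {ι : Type w} {X : ι → Scheme.{u}} (f : ∀ i, X i ⟶ S)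
  (q : ∀ i, X i ⟶ X i) (w : ∀ i, q i ≫ f i = f i ≫ 𝟙 S)

include w in
lemma hx_endo {T : Scheme.{u}} {i : ι} (x : T ⟶ X i) : (x ≫ q i) ≫ f i = x ≫ f i := by
  rw [Category.assoc, w, Category.comp_id]

/-- the pullback functor along the endomorphisms `q i` -/
noncomputable abbrev pullEndo : SchDDFam f ⥤ SchDDFam f :=
  pullDDFam (f := f) (f' := f) (α := fun j => j) (p := 𝟙 S) (p' := q) w

noncomputable def ptEndo (D : SchDDFam f) : PtEquiv ((pullEndo f q w).obj D) D where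
  e T i x := (liftsPullbackEquiv (D.obj i) (q i) x).trans (D.φ (x ≫ q i) x (hx_endo f q w x))
  nat T T' g i x y hy v v' hv :=
    D.φ_natural g (x ≫ q i) x (hx_endo f q w x) (y ≫ q i) y (by rw [← hy, Category.assoc]) hy
      (hx_endo f q w y) (liftsPullbackEquiv (D.obj i) (q i) x v) (liftsPullbackEquiv (D.obj i) (q i) y v')
      (by simp [liftsPullbackEquiv, hv])
  compat T i j x₀ x₁ h v := by
    refine (congrArg (D.φ (x₁ ≫ q j) x₁ (hx_endo f q w x₁)) (lpe_pull_obj_φ w D x₀ x₁ h v)).trans ?_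
    exact (D.φ_comp _ _ _ _ _ _).trans (D.φ_comp _ _ _ _ _ _).symm

theorem nonempty_pullEndo_iso_id : Nonempty (pullEndo f q w ≅ 𝟭 (SchDDFam f)) := by
  refine nonempty_iso_id (pullEndo f q w) (ptEndo f q w) ?_
  intro D₁ D₂ a i
  exact a.comm _ _ (hx_endo f q w _) _ _
    (by simpa [liftsPullbackEquiv, PtEquiv.univ] using pull_map_fst w a i)

end endo

section back

variable {S : Scheme.{u}} {ι : Type w} {X X' : ι → Scheme.{u}} (a : ∀ i, X i ⟶ S) (a' : ∀ i, X' i ⟶ S)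
  (f : ∀ i, X' i ⟶ X i) (g : ∀ i, X i ⟶ X' i)
  (w : ∀ i, f i ≫ a i = a' i ≫ 𝟙 S) (w' : ∀ i, g i ≫ a' i = a i ≫ 𝟙 S)

/-- the pullback functor along `f` -/
noncomputable abbrev pullF : SchDDFam a ⥤ SchDDFam a' :=
  pullDDFam (f := a) (f' := a') (α := fun j => j) (p := 𝟙 S) (p' := f) w

/-- the pullback functor along `g` -/
noncomputable abbrev pullG : SchDDFam a' ⥤ SchDDFam a :=
  pullDDFam (f := a') (f' := a) (α := fun j => j) (p := 𝟙 S) (p' := g) w'

include w w' in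
lemma hx_back {T : Scheme.{u}} {i : ι} (x : T ⟶ X i) : ((x ≫ g i) ≫ f i) ≫ a i = x ≫ a i := by
  rw [Category.assoc, w, Category.comp_id, Category.assoc, w', Category.comp_id]

noncomputable def ptBack (D : SchDDFam a) : PtEquiv ((pullF a a' f w ⋙ pullG a a' g w').obj D) D where
  e T i x := (liftsPullbackEquiv (((pullF a a' f w).obj D).obj i) (g i) x).trans
    ((liftsPullbackEquiv (D.obj i) (f i) (x ≫ g i)).trans
      (D.φ ((x ≫ g i) ≫ f i) x (hx_back a a' f g w w' x)))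
  nat T T' r i x y hy v v' hv :=
    D.φ_natural r ((x ≫ g i) ≫ f i) x (hx_back a a' f g w w' x) ((y ≫ g i) ≫ f i) y
      (by rw [← hy]; simp only [Category.assoc]) hy
      (hx_back a a' f g w w' y)
      (liftsPullbackEquiv (D.obj i) (f i) (x ≫ g i)
        (liftsPullbackEquiv (((pullF a a' f w).obj D).obj i) (g i) x v))
      (liftsPullbackEquiv (D.obj i) (f i) (y ≫ g i)
        (liftsPullbackEquiv (((pullF a a' f w).obj D).obj i) (g i) y v'))
      (by simp [liftsPullbackEquiv, hv])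
  compat T i j x₀ x₁ h v := by
    have h1 := lpe_pull_obj_φ w' ((pullF a a' f w).obj D) x₀ x₁ h v
    have h2 := lpe_pull_obj_φ w D (x₀ ≫ g i) (x₁ ≫ g j) (pull_compat w' x₀ x₁ h)
      (liftsPullbackEquiv (((pullF a a' f w).obj D).obj i) (g i) x₀ v)
    refine (congrArg (fun z => D.φ ((x₁ ≫ g j) ≫ f j) x₁ (hx_back a a' f g w w' x₁)
      (liftsPullbackEquiv (D.obj j) (f j) (x₁ ≫ g j) z)) h1).trans ?_
    refine (congrArg (D.φ ((x₁ ≫ g j) ≫ f j) x₁ (hx_back a a' f g w w' x₁)) h2).trans ?_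
    exact (D.φ_comp _ _ _ _ _ _).trans (D.φ_comp _ _ _ _ _ _).symm

theorem nonempty_back_iso_id :
    Nonempty (pullF a a' f w ⋙ pullG a a' g w' ≅ 𝟭 (SchDDFam a)) := by
  refine nonempty_iso_id (pullF a a' f w ⋙ pullG a a' g w') (ptBack a a' f g w w') ?_
  intro D₁ D₂ b i
  refine b.comm _ _ (hx_back a a' f g w w' _) _ _ ?_
  have h1 := pull_map_fst w' ((pullF a a' f w).map b) i
  have h2 := pull_map_fst w b i
  simp only [liftsPullbackEquiv, PtEquiv.univ, Equiv.coe_fn_mk, Functor.comp_map, Category.id_comp,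
    Category.assoc]
  rw [reassoc_of% h1, h2]

end back

section equiv

variable {S : Scheme.{u}} {ι : Type w} {X X' : ι → Scheme.{u}} (a : ∀ i, X i ⟶ S) (a' : ∀ i, X' i ⟶ S)
  (f : ∀ i, X' i ⟶ X i) (g : ∀ i, X i ⟶ X' i)
  (w : ∀ i, f i ≫ a i = a' i ≫ 𝟙 S) (w' : ∀ i, g i ≫ a' i = a i ≫ 𝟙 S)

include w' in
theorem isEquivalence_pullF : (pullF a a' f w).IsEquivalence := by
  obtain ⟨η⟩ := nonempty_back_iso_id a a' f g w w'
  obtain ⟨ε⟩ := nonempty_back_iso_id a' a g f w' w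
  exact (CategoryTheory.Equivalence.mk (pullF a a' f w) (pullG a a' g w') η.symm ε).isEquivalence_functor

end equiv

end Groth.Agent.Lib.LeadDescEndo
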