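import Mathlib
import Groth.Agent.Lib.Helper15ExtBC

/-!
# The determinant of a stably free module

If `Q × R^r ≃ R^(m+r)` then `⋀^m Q ≃ R`.  The map `⋀^m Q → R` is
`q₁ ∧ … ∧ q_m ↦ det [e(q₁,0), …, e(q_m,0), e(0,ε₁), …, e(0,ε_r)]`; it is shown to be bijective by
reduction modulo every maximal ideal.
-/

set_option autoImplicit false
set_option maxHeartbeats 400000
set_option linter.style.haveILetI false
set_option linter.unusedSectionVars false
set_option linter.unusedVariables false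

universe u
open TensorProduct

namespace Groth.Agent.Lib.LeadDetA

section restrict
variable {R V N : Type*} [CommRing R] [AddCommGroup V] [Module R V] [AddCommGroup N] [Module R N]
  {ι₁ ι₂ : Type*}

/-- Fixing the `ι₂`-entries of an alternating map on `ι₁ ⊕ ι₂`. -/
noncomputable def restrictInl (F : V [⋀^(ι₁ ⊕ ι₂)]→ₗ[R] N) (w : ι₂ → V) : V [⋀^ι₁]→ₗ[R] N where
  toFun v := F (Sum.elim v w)
  map_update_add' := by
    intro _ v i x y
    classical
    simp only [← Sum.update_elim_inl]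
    exact F.map_update_add _ _ _ _
  map_update_smul' := by
    intro _ v i c x
    classical
    simp only [← Sum.update_elim_inl]
    exact F.map_update_smul _ _ _ _
  map_eq_zero_of_eq' := by
    intro v i j hij hne
    exact F.map_eq_zero_of_eq (Sum.elim v w) (i := Sum.inl i) (j := Sum.inl j) hij
      (fun h => hne (Sum.inl_injective h))

@[simp] lemma restrictInl_apply (F : V [⋀^(ι₁ ⊕ ι₂)]→ₗ[R] N) (w : ι₂ → V) (v : ι₁ → V) :
    restrictInl F w v = F (Sum.elim v w) := rfl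

end restrict

section phi
variable {R : Type u} [CommRing R] {Q : Type u} [AddCommGroup Q] [Module R Q] {m r : ℕ}

/-- the standard vectors `(0, ε_j)` -/
noncomputable def stdV (R : Type u) [CommRing R] (Q : Type u) [AddCommGroup Q] [Module R Q]
    (r : ℕ) : Fin r → Q × (Fin r → R) :=
  fun j => (0, Pi.single j 1)

/-- the full list `(q_i, 0), (0, ε_j)` -/
noncomputable def vecs (q : Fin m → Q) : Fin m ⊕ Fin r → Q × (Fin r → R) :=
  Sum.elim (fun i => (q i, 0)) (stdV R Q r)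

noncomputable def bigAlt (e : (Q × (Fin r → R)) ≃ₗ[R] (Fin m ⊕ Fin r → R)) :
    (Q × (Fin r → R)) [⋀^(Fin m ⊕ Fin r)]→ₗ[R] R :=
  (Matrix.detRowAlternating (n := Fin m ⊕ Fin r) (R := R)).compLinearMap e.toLinearMap

noncomputable def phiAlt (e : (Q × (Fin r → R)) ≃ₗ[R] (Fin m ⊕ Fin r → R)) :
    Q [⋀^Fin m]→ₗ[R] R :=
  (restrictInl (bigAlt e) (stdV R Q r)).compLinearMap (LinearMap.inl R Q (Fin r → R))

lemma phiAlt_apply (e : (Q × (Fin r → R)) ≃ₗ[R] (Fin m ⊕ Fin r → R)) (q : Fin m → Q) :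
    phiAlt e q = Matrix.det (Matrix.of fun i => e (vecs q i)) := by
  rfl

/-- the determinant map `⋀^m Q → R` -/
noncomputable def phi (e : (Q × (Fin r → R)) ≃ₗ[R] (Fin m ⊕ Fin r → R)) :
    ⋀[R]^m Q →ₗ[R] R :=
  exteriorPower.alternatingMapLinearEquiv (phiAlt e)

lemma phi_ιMulti (e : (Q × (Fin r → R)) ≃ₗ[R] (Fin m ⊕ Fin r → R)) (q : Fin m → Q) :
    phi e (exteriorPower.ιMulti R m q) = Matrix.det (Matrix.of fun i => e (vecs q i)) := by
  rw [phi, exteriorPower.alternatingMapLinearEquiv_apply_ιMulti, phiAlt_apply]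

end phi

section field
variable {k : Type u} [Field k] {W : Type u} [AddCommGroup W] [Module k W] {m r : ℕ}

lemma finite_of_equiv (E : (W × (Fin r → k)) ≃ₗ[k] (Fin m ⊕ Fin r → k)) : Module.Finite k W :=
  Module.Finite.of_surjective ((LinearMap.fst k W (Fin r → k)) ∘ₗ E.symm.toLinearMap) (by
    intro w
    exact ⟨E (w, 0), by simp⟩)

lemma finrank_eq_of_equiv (E : (W × (Fin r → k)) ≃ₗ[k] (Fin m ⊕ Fin r → k)) :
    Module.finrank k W = m := by
  haveI := finite_of_equiv E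
  have h := LinearEquiv.finrank_eq E
  rw [Module.finrank_prod, Module.finrank_fin_fun, Module.finrank_pi, Fintype.card_sum,
    Fintype.card_fin, Fintype.card_fin] at h
  omega

lemma exists_phiAlt_ne_zero (E : (W × (Fin r → k)) ≃ₗ[k] (Fin m ⊕ Fin r → k)) :
    ∃ q : Fin m → W, phiAlt E q ≠ 0 := by
  haveI := finite_of_equiv E
  let b : Module.Basis (Fin m) k W := Module.finBasisOfFinrankEq k W (finrank_eq_of_equiv E)
  let B := (b.prod (Pi.basisFun k (Fin r))).map E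
  refine ⟨b, ?_⟩
  rw [phiAlt_apply]
  have h1 := Module.Basis.isUnit_det (Pi.basisFun k (Fin m ⊕ Fin r)) B
  rw [Pi.basisFun_det_apply] at h1
  have h2 : (fun i => E (vecs (⇑b) i)) = fun i => B i := by
    funext i
    rw [Module.Basis.map_apply, Module.Basis.prod_apply]
    cases i <;> simp [vecs, stdV]
  rw [h2]
  exact h1.ne_zero

end field

section bc
variable {R : Type u} [CommRing R] {Q : Type u} [AddCommGroup Q] [Module R Q] {m r : ℕ}

/-- the reduction of `e` modulo an ideal -/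
noncomputable def Ek (e : (Q × (Fin r → R)) ≃ₗ[R] (Fin m ⊕ Fin r → R)) (I : Ideal R) :
    (((R ⧸ I) ⊗[R] Q) × (Fin r → R ⧸ I)) ≃ₗ[R ⧸ I] (Fin m ⊕ Fin r → R ⧸ I) :=
  (LinearEquiv.prodCongr (LinearEquiv.refl _ _)
      (TensorProduct.piScalarRight R (R ⧸ I) (R ⧸ I) (Fin r)).symm) ≪≫ₗ
  (TensorProduct.prodRight R (R ⧸ I) (R ⧸ I) Q (Fin r → R)).symm ≪≫ₗ
  (LinearEquiv.baseChange R (R ⧸ I) _ _ e) ≪≫ₗ
  (TensorProduct.piScalarRight R (R ⧸ I) (R ⧸ I) (Fin m ⊕ Fin r))

lemma piScalarRight_one_tmul (I : Ideal R) {ι : Type} [Fintype ι] [DecidableEq ι] (c : ι → R) :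
    TensorProduct.piScalarRight R (R ⧸ I) (R ⧸ I) ι ((1 : R ⧸ I) ⊗ₜ[R] c) =
      fun j => Ideal.Quotient.mk I (c j) := by
  rw [TensorProduct.piScalarRight_apply, TensorProduct.piScalarRightHom_tmul]
  funext j
  rw [Algebra.smul_def, mul_one]
  rfl

lemma Ek_apply (e : (Q × (Fin r → R)) ≃ₗ[R] (Fin m ⊕ Fin r → R)) (I : Ideal R)
    (q : Q) (c : Fin r → R) :
    Ek e I ((1 : R ⧸ I) ⊗ₜ[R] q, fun j => Ideal.Quotient.mk I (c j)) =
      fun i => Ideal.Quotient.mk I (e (q, c) i) := by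
  have h1 : (TensorProduct.piScalarRight R (R ⧸ I) (R ⧸ I) (Fin r)).symm
      (fun j => Ideal.Quotient.mk I (c j)) = (1 : R ⧸ I) ⊗ₜ[R] c := by
    rw [LinearEquiv.symm_apply_eq, piScalarRight_one_tmul]
  simp only [Ek, LinearEquiv.trans_apply, LinearEquiv.prodCongr_apply, LinearEquiv.refl_apply, h1]
  rw [TensorProduct.prodRight_symm_tmul, LinearEquiv.baseChange_tmul, piScalarRight_one_tmul]

lemma Ek_vecs (e : (Q × (Fin r → R)) ≃ₗ[R] (Fin m ⊕ Fin r → R)) (I : Ideal R)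
    (q : Fin m → Q) (a : Fin m ⊕ Fin r) :
    Ek e I (vecs (fun i => (1 : R ⧸ I) ⊗ₜ[R] q i) a) =
      fun i => Ideal.Quotient.mk I (e (vecs q a) i) := by
  cases a with
  | inl i =>
    have : vecs (fun i => (1 : R ⧸ I) ⊗ₜ[R] q i) (Sum.inl i) =
        ((1 : R ⧸ I) ⊗ₜ[R] q i, fun j => Ideal.Quotient.mk I ((0 : Fin r → R) j)) := by
      simp only [vecs, Sum.elim_inl, Pi.zero_apply, map_zero]
      rfl
    rw [this, Ek_apply]
    rfl
  | inr j =>
    have : vecs (fun i => (1 : R ⧸ I) ⊗ₜ[R] q i) (Sum.inr j) =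
        ((1 : R ⧸ I) ⊗ₜ[R] (0 : Q),
          fun j' => Ideal.Quotient.mk I ((Pi.single j (1 : R) : Fin r → R) j')) := by
      simp only [vecs, Sum.elim_inr, stdV, TensorProduct.tmul_zero]
      congr 1
      funext j'
      by_cases h : j' = j
      · subst h; simp
      · simp [Pi.single_eq_of_ne h]
    rw [this, Ek_apply]
    rfl

lemma phiAlt_Ek (e : (Q × (Fin r → R)) ≃ₗ[R] (Fin m ⊕ Fin r → R)) (I : Ideal R)
    (q : Fin m → Q) :
    phiAlt (Ek e I) (fun i => (1 : R ⧸ I) ⊗ₜ[R] q i) = Ideal.Quotient.mk I (phiAlt e q) := by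
  rw [phiAlt_apply, phiAlt_apply, RingHom.map_det]
  congr 1
  ext a b
  simp only [Matrix.of_apply, RingHom.mapMatrix_apply, Matrix.map_apply]
  rw [Ek_vecs]

/-- for every maximal ideal there are `q₁, …, q_m` with determinant outside it -/
lemma exists_phiAlt_notMem (e : (Q × (Fin r → R)) ≃ₗ[R] (Fin m ⊕ Fin r → R)) (I : Ideal R)
    [I.IsMaximal] : ∃ q : Fin m → Q, phiAlt e q ∉ I := by
  letI : Field (R ⧸ I) := Ideal.Quotient.field I
  obtain ⟨q', hq'⟩ := exists_phiAlt_ne_zero (Ek e I)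
  have hsurj := TensorProduct.mk_surjective R Q (R ⧸ I) Ideal.Quotient.mk_surjective
  choose q hq using fun i => hsurj (q' i)
  refine ⟨q, fun hmem => hq' ?_⟩
  have : q' = fun i => (1 : R ⧸ I) ⊗ₜ[R] q i := by
    funext i
    exact (hq i).symm
  rw [this, phiAlt_Ek]
  exact Ideal.Quotient.eq_zero_iff_mem.mpr hmem

lemma phi_surjective (e : (Q × (Fin r → R)) ≃ₗ[R] (Fin m ⊕ Fin r → R)) :
    Function.Surjective (phi e) := by
  rw [← LinearMap.range_eq_top]
  by_contra hne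
  obtain ⟨I, hI, hle⟩ := Ideal.exists_le_maximal (LinearMap.range (phi e)) hne
  obtain ⟨q, hq⟩ := exists_phiAlt_notMem e I
  apply hq
  apply hle
  refine ⟨exteriorPower.ιMulti R m q, ?_⟩
  rw [phi, exteriorPower.alternatingMapLinearEquiv_apply_ιMulti]

end bc

section inj
variable {R : Type u} [CommRing R] {M : Type u} [AddCommGroup M] [Module R M]

/-- a finitely generated submodule with `N ≤ I • N` for all maximal `I` is zero -/
lemma eq_bot_of_forall_le_smul (N : Submodule R M) (hfg : N.FG)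
    (h : ∀ (I : Ideal R), I.IsMaximal → N ≤ I • N) : N = ⊥ := by
  rw [← Submodule.annihilator_eq_top_iff]
  by_contra hne
  obtain ⟨I, hI, hle⟩ := Ideal.exists_le_maximal _ hne
  obtain ⟨a, ha1, ha2⟩ :=
    Submodule.exists_sub_one_mem_and_smul_eq_zero_of_fg_of_le_smul I N hfg (h I hI)
  have ha : a ∈ N.annihilator := Submodule.mem_annihilator.mpr ha2
  have : (1 : R) ∈ I := by
    have h3 := I.sub_mem (hle ha) ha1
    simpa using h3
  exact hI.ne_top ((Ideal.eq_top_iff_one I).mpr this)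

/-- a surjection `M → R` from a finite module of fibre rank `≤ 1` is injective -/
lemma injective_of_finrank_le_one [Module.Finite R M] (φ : M →ₗ[R] R)
    (hφ : Function.Surjective φ)
    (h : ∀ (I : Ideal R), I.IsMaximal → Module.finrank (R ⧸ I) ((R ⧸ I) ⊗[R] M) ≤ 1) :
    Function.Injective φ := by
  obtain ⟨ξ, hξ⟩ := hφ 1
  let π : M →ₗ[R] M := LinearMap.id - (LinearMap.toSpanSingleton R M ξ) ∘ₗ φ
  have hπ : ∀ x, π x = x - φ x • ξ := fun x => rfl
  have hrange : Submodule.map π ⊤ = LinearMap.ker φ := by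
    apply le_antisymm
    · rintro _ ⟨x, -, rfl⟩
      rw [LinearMap.mem_ker, hπ, map_sub, map_smul, hξ, smul_eq_mul, mul_one, sub_self]
    · intro x hx
      refine ⟨x, trivial, ?_⟩
      rw [hπ, LinearMap.mem_ker.mp hx, zero_smul, sub_zero]
  have hfg : (LinearMap.ker φ).FG := by
    rw [← hrange]
    exact (Module.Finite.fg_top).map π
  have hbot : LinearMap.ker φ = ⊥ := by
    apply eq_bot_of_forall_le_smul _ hfg
    intro I hI x hx
    letI : Field (R ⧸ I) := Ideal.Quotient.field I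
    obtain ⟨v, hv⟩ := (finrank_le_one_iff (K := R ⧸ I) (V := (R ⧸ I) ⊗[R] M)).mp (h I hI)
    let ψ : (R ⧸ I) ⊗[R] M →ₗ[R ⧸ I] (R ⧸ I) :=
      (TensorProduct.AlgebraTensorModule.rid R (R ⧸ I) (R ⧸ I)).toLinearMap ∘ₗ
        (LinearMap.baseChange (R ⧸ I) φ)
    have hψ : ∀ y : M, ψ ((1 : R ⧸ I) ⊗ₜ[R] y) = Ideal.Quotient.mk I (φ y) := by
      intro y
      simp only [ψ, LinearMap.coe_comp, LinearEquiv.coe_coe, Function.comp_apply,
        LinearMap.baseChange_tmul, TensorProduct.AlgebraTensorModule.rid_tmul]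
      rw [Algebra.smul_def, mul_one]
      rfl
    obtain ⟨c₁, hc₁⟩ := hv ((1 : R ⧸ I) ⊗ₜ[R] ξ)
    obtain ⟨c₂, hc₂⟩ := hv ((1 : R ⧸ I) ⊗ₜ[R] x)
    have h1 : c₁ * ψ v = 1 := by
      have := hψ ξ
      rw [← hc₁, map_smul, smul_eq_mul, hξ, map_one] at this
      exact this
    have h2 : c₂ * ψ v = 0 := by
      have := hψ x
      rw [← hc₂, map_smul, smul_eq_mul, LinearMap.mem_ker.mp hx, map_zero] at this
      exact this
    have hv0 : ψ v ≠ 0 := by
      intro h0
      rw [h0, mul_zero] at h1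
      exact zero_ne_one h1
    have hc20 : c₂ = 0 := (mul_eq_zero.mp h2).resolve_right hv0
    have hx0 : (1 : R ⧸ I) ⊗ₜ[R] x = 0 := by rw [← hc₂, hc20, zero_smul]
    have hxI : x ∈ I • (⊤ : Submodule R M) := by
      have := congrArg (TensorProduct.quotTensorEquivQuotSMul M I) hx0
      rw [TensorProduct.quotTensorEquivQuotSMul_mk_one_tmul, map_zero,
        Submodule.Quotient.mk_eq_zero] at this
      exact this
    have hπx : π x = x := by
      rw [hπ, LinearMap.mem_ker.mp hx, zero_smul, sub_zero]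
    rw [← hrange, ← Submodule.map_smul'', ← hπx]
    exact Submodule.mem_map_of_mem hxI
  exact LinearMap.ker_eq_bot.mp hbot

end inj

section main
variable {R : Type u} [CommRing R] {Q : Type u} [AddCommGroup Q] [Module R Q] {m r : ℕ}

lemma finite_of_equiv' (e : (Q × (Fin r → R)) ≃ₗ[R] (Fin m ⊕ Fin r → R)) : Module.Finite R Q :=
  Module.Finite.of_surjective ((LinearMap.fst R Q (Fin r → R)) ∘ₗ e.symm.toLinearMap) (by
    intro w
    exact ⟨e (w, 0), by simp⟩)

lemma finrank_extPow_le_one (e : (Q × (Fin r → R)) ≃ₗ[R] (Fin m ⊕ Fin r → R)) (I : Ideal R)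
    (hI : I.IsMaximal) :
    Module.finrank (R ⧸ I) ((R ⧸ I) ⊗[R] (⋀[R]^m Q)) ≤ 1 := by
  letI : Field (R ⧸ I) := Ideal.Quotient.field I
  haveI := finite_of_equiv (Ek e I)
  rw [LinearEquiv.finrank_eq (Groth.Agent.Lib.Helper15ExtBC.bcEquiv R (R ⧸ I) Q m),
    exteriorPower.finrank_eq, finrank_eq_of_equiv (Ek e I), Nat.choose_self]

theorem phi_bijective (e : (Q × (Fin r → R)) ≃ₗ[R] (Fin m ⊕ Fin r → R)) :
    Function.Bijective (phi e) := by
  haveI := finite_of_equiv' e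
  exact ⟨injective_of_finrank_le_one (phi e) (phi_surjective e) (finrank_extPow_le_one e),
    phi_surjective e⟩

/-- **determinant of a stably free module**: if `Q × R^r ≃ R^(m+r)` then `⋀^m Q ≃ R`. -/
theorem nonempty_equiv (e : (Q × (Fin r → R)) ≃ₗ[R] (Fin m ⊕ Fin r → R)) :
    Nonempty (⋀[R]^m Q ≃ₗ[R] R) :=
  ⟨LinearEquiv.ofBijective (phi e) (phi_bijective e)⟩

theorem nonempty_equiv' {n : ℕ} (hrn : r ≤ n) (e : (Q × (Fin r → R)) ≃ₗ[R] (Fin n → R)) :
    Nonempty (⋀[R]^(n - r) Q ≃ₗ[R] R) := by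
  let σ : Fin (n - r) ⊕ Fin r ≃ Fin n :=
    finSumFinEquiv.trans (finCongr (by omega : n - r + r = n))
  exact nonempty_equiv (e ≪≫ₗ LinearEquiv.funCongrLeft R R σ)

end main

end Groth.Agent.Lib.LeadDetA
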