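import Mathlib
import Groth.Agent.Lib.LeadDetA
import Groth.Agent.Lib.T2H9KoszulCot
import Groth.Agent.S5802

/-!
# The canonical module of a smooth complete intersection in affine space

For `B = P/I` smooth over `A`, `P` formally smooth with `Ω[P⁄A]` free of rank `n` and `I/I²` free of
rank `r`, the module `(⋀^r I/I²)^∨ ⊗ (B ⊗ ⋀^n Ω[P⁄A])` is isomorphic to `⋀^(n-r) Ω[B⁄A]`: both are
free of rank one, the second by the determinant of the split conormal sequence.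
-/

set_option autoImplicit false
set_option maxHeartbeats 400000
set_option linter.style.haveILetI false
set_option linter.unusedSectionVars false
set_option linter.unusedVariables false

universe u
open TensorProduct

namespace Groth.Agent.Lib.LeadDetB

open Groth.Agent.Lib.LeadDetA

/-- the top exterior power of a free module of rank `n` is free of rank one -/
lemma nonempty_top_equiv {R : Type u} [CommRing R] {M : Type u} [AddCommGroup M] [Module R M]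
    {n : ℕ} (b : Module.Basis (Fin n) R M) : Nonempty (⋀[R]^n M ≃ₗ[R] R) := by
  let e : (M × (Fin 0 → R)) ≃ₗ[R] (Fin n → R) :=
    (LinearEquiv.prodUnique (R := R) (M := M) (M₂ := Fin 0 → R)) ≪≫ₗ b.equivFun
  exact nonempty_equiv' (r := 0) (n := n) (Nat.zero_le n) e

lemma cotangentCongr {P : Type u} [CommRing P] (J I : Ideal P) (h : J = I) :
    Nonempty (J.Cotangent ≃ₗ[P] I.Cotangent) := by
  subst h
  exact ⟨LinearEquiv.refl _ _⟩

section
variable (A : Type u) [CommRing A] (P : Type u) [CommRing P] [Algebra A P]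
  (I : Ideal P) {n r : ℕ}

/-- the split conormal sequence gives `Ω[B⁄A] × B^r ≃ B^n` -/
lemma nonempty_conormal_equiv [Algebra.FormallySmooth A P] [Algebra.FormallySmooth A (P ⧸ I)]
    (bI : Module.Basis (Fin r) (P ⧸ I) I.Cotangent) (bΩ : Module.Basis (Fin n) P (Ω[P⁄A])) :
    Nonempty ((Ω[(P ⧸ I)⁄A] × (Fin r → P ⧸ I)) ≃ₗ[P ⧸ I] (Fin n → P ⧸ I)) := by
  have hsurj : Function.Surjective (algebraMap P (P ⧸ I)) := Ideal.Quotient.mk_surjective
  obtain ⟨l, hl⟩ := (Algebra.FormallySmooth.iff_split_injection (R := A) (P := P)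
    (A := P ⧸ I) hsurj).mp inferInstance
  have hex : Function.Exact (KaehlerDifferential.kerCotangentToTensor A P (P ⧸ I))
      ((KaehlerDifferential.mapBaseChange A P (P ⧸ I)).restrictScalars P) :=
    KaehlerDifferential.exact_kerCotangentToTensor_mapBaseChange A P (P ⧸ I) hsurj
  have hg : Function.Surjective ((KaehlerDifferential.mapBaseChange A P (P ⧸ I)).restrictScalars P) :=
    KaehlerDifferential.mapBaseChange_surjective A P (P ⧸ I) hsurj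
  let e₁ := ((hex.splitInjectiveEquiv hg) ⟨l, hl⟩).1
  obtain ⟨e₂⟩ := cotangentCongr (RingHom.ker (algebraMap P (P ⧸ I))) I (Ideal.mk_ker)
  let eI : I.Cotangent ≃ₗ[P] (Fin r → P ⧸ I) := bI.equivFun.restrictScalars P
  let eΩ : (P ⧸ I) ⊗[P] (Ω[P⁄A]) ≃ₗ[P] (Fin n → P ⧸ I) :=
    ((bΩ.baseChange (P ⧸ I)).equivFun).restrictScalars P
  let e : (Ω[(P ⧸ I)⁄A] × (Fin r → P ⧸ I)) ≃ₗ[P] (Fin n → P ⧸ I) :=
    (LinearEquiv.prodComm P _ _) ≪≫ₗ
    (LinearEquiv.prodCongr (eI.symm ≪≫ₗ e₂.symm) (LinearEquiv.refl P _)) ≪≫ₗ e₁.symm ≪≫ₗ eΩ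
  exact ⟨e.extendScalarsOfSurjective hsurj⟩

/-- the "canonical module" side is free of rank one -/
lemma nonempty_lhs_equiv
    (bI : Module.Basis (Fin r) (P ⧸ I) I.Cotangent) (bΩ : Module.Basis (Fin n) P (Ω[P⁄A])) :
    Nonempty ((Module.Dual (P ⧸ I) (⋀[P ⧸ I]^r I.Cotangent)) ⊗[P ⧸ I]
        ((P ⧸ I) ⊗[P] (⋀[P]^n (Ω[P⁄A]))) ≃ₗ[P ⧸ I] (P ⧸ I)) := by
  obtain ⟨t₁⟩ := nonempty_top_equiv bI
  obtain ⟨t₂⟩ := nonempty_top_equiv bΩ
  let d₁ : Module.Dual (P ⧸ I) (⋀[P ⧸ I]^r I.Cotangent) ≃ₗ[P ⧸ I] (P ⧸ I) :=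
    t₁.symm.dualMap ≪≫ₗ (LinearMap.ringLmapEquivSelf (P ⧸ I) (P ⧸ I) (P ⧸ I))
  let d₂ : (P ⧸ I) ⊗[P] (⋀[P]^n (Ω[P⁄A])) ≃ₗ[P ⧸ I] (P ⧸ I) :=
    (LinearEquiv.baseChange P (P ⧸ I) _ _ t₂) ≪≫ₗ
      TensorProduct.AlgebraTensorModule.rid P (P ⧸ I) (P ⧸ I)
  exact ⟨TensorProduct.congr d₁ d₂ ≪≫ₗ TensorProduct.lid (P ⧸ I) (P ⧸ I)⟩

theorem main_general (hrn : r ≤ n)
    [Algebra.FormallySmooth A P] [Algebra.FormallySmooth A (P ⧸ I)]
    (bI : Module.Basis (Fin r) (P ⧸ I) I.Cotangent) (bΩ : Module.Basis (Fin n) P (Ω[P⁄A])) :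
    Nonempty ((Module.Dual (P ⧸ I) (⋀[P ⧸ I]^r I.Cotangent)) ⊗[P ⧸ I]
        ((P ⧸ I) ⊗[P] (⋀[P]^n (Ω[P⁄A]))) ≃ₗ[P ⧸ I] (⋀[P ⧸ I]^(n - r) (Ω[(P ⧸ I)⁄A]))) := by
  obtain ⟨e₁⟩ := nonempty_lhs_equiv A P I bI bΩ
  obtain ⟨e₂⟩ := nonempty_conormal_equiv A P I bI bΩ
  obtain ⟨e₃⟩ := nonempty_equiv' hrn e₂
  exact ⟨e₁ ≪≫ₗ e₃.symm⟩

end

theorem main (A : Type u) [CommRing A]
    (n r : ℕ) (hrn : r ≤ n) (F : Fin r → MvPolynomial (Fin n) A)
    (hreg : RingTheory.Sequence.IsWeaklyRegular (MvPolynomial (Fin n) A) (List.ofFn F))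
    (I : Ideal (MvPolynomial (Fin n) A)) (hI : I = Ideal.span (Set.range F))
    [Algebra.Smooth A (MvPolynomial (Fin n) A ⧸ I)] :
    Nonempty ((Module.Dual (MvPolynomial (Fin n) A ⧸ I)
        (⋀[MvPolynomial (Fin n) A ⧸ I]^r I.Cotangent)) ⊗[MvPolynomial (Fin n) A ⧸ I]
        ((MvPolynomial (Fin n) A ⧸ I) ⊗[MvPolynomial (Fin n) A]
          (⋀[MvPolynomial (Fin n) A]^n (Ω[MvPolynomial (Fin n) A⁄A])))
      ≃ₗ[MvPolynomial (Fin n) A ⧸ I]
        (⋀[MvPolynomial (Fin n) A ⧸ I]^(n - r) (Ω[(MvPolynomial (Fin n) A ⧸ I)⁄A]))) := by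
  have hq : CAlgX.IsQuasiRegular F := Groth.Agent.S5802.result _ r F hreg
  have hmem : ∀ i, F i ∈ I := fun i => hI ▸ Ideal.subset_span ⟨i, rfl⟩
  let f : Fin r → I := fun i => ⟨F i, hmem i⟩
  have hfI : Ideal.span (Set.range (fun i => (f i : MvPolynomial (Fin n) A))) = I := hI.symm
  have hli := Groth.Agent.Lib.T2H9.KoszulCot.linearIndependent_toCotangent_of_isQuasiRegular
    r f hq hfI
  have hsp := Groth.Agent.Lib.T2H9.KoszulCot.span_toCotangent_eq_top r f hfI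
  let bI : Module.Basis (Fin r) (MvPolynomial (Fin n) A ⧸ I) I.Cotangent :=
    Module.Basis.mk hli hsp.ge
  exact main_general A (MvPolynomial (Fin n) A) I hrn bI
    (KaehlerDifferential.mvPolynomialBasis A (Fin n))

end Groth.Agent.Lib.LeadDetB
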