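import Mathlib

/-!
# Closure of images of `Spec (κ(p_n) ⊗_k κ(p_m))` meets the diagonal (helper for S10422)
-/

namespace Groth.Agent.LeadDiag

open TensorProduct

universe u

section CommonField

variable (k : Type u) [Field k] (K : ℕ → Type u) [∀ n, Field (K n)] [∀ n, Algebra k (K n)]

lemma exists_common_field : ∀ j : ℕ, ∃ (Ω : Type u) (_ : Field Ω) (_ : Algebra k Ω),
    ∀ i ≤ j, Nonempty (K i →ₐ[k] Ω) := by
  intro j
  induction j with
  | zero =>
    refine ⟨K 0, inferInstance, inferInstance, fun i hi => ?_⟩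
    obtain rfl : i = 0 := Nat.le_zero.1 hi
    exact ⟨AlgHom.id k _⟩
  | succ j ih =>
    obtain ⟨Ω, hΩ, hA, h⟩ := ih
    letI := hΩ
    letI := hA
    obtain ⟨M, hM⟩ := Ideal.exists_maximal (Ω ⊗[k] K (j + 1))
    letI : Field ((Ω ⊗[k] K (j + 1)) ⧸ M) := Ideal.Quotient.field M
    refine ⟨(Ω ⊗[k] K (j + 1)) ⧸ M, inferInstance, inferInstance, ?_⟩
    intro i hi
    rcases Nat.lt_or_ge i (j + 1) with hlt | hge
    · obtain ⟨σ⟩ := h i (by omega)
      exact ⟨((Ideal.Quotient.mkₐ k M).comp Algebra.TensorProduct.includeLeft).comp σ⟩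
    · obtain rfl : i = j + 1 := by omega
      exact ⟨(Ideal.Quotient.mkₐ k M).comp Algebra.TensorProduct.includeRight⟩

end CommonField

section Main

variable (A : Type u) [CommRing A] (k : Type u) [Field k] (K : ℕ → Type u) [∀ n, Field (K n)]
  [∀ n, Algebra A (K n)] [∀ n, Algebra k (K n)]

lemma no_f (φ : ∀ n m, A ⊗[ℤ] A →+* K n ⊗[k] K m)
    (hφ : ∀ n m a b, φ n m (a ⊗ₜ b) = algebraMap A (K n) a ⊗ₜ algebraMap A (K m) b)
    (f : A ⊗[ℤ] A) (hf1 : Algebra.TensorProduct.lmul' ℤ f = 1)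
    (hfz : ∀ n m, n ≠ m → ∀ 𝔮 : Ideal (K n ⊗[k] K m), 𝔮.IsPrime → φ n m f ∈ 𝔮) : False := by
  classical
  obtain ⟨S, hS⟩ := TensorProduct.exists_finset f
  obtain ⟨r, hr⟩ : ∃ r, r = S.card := ⟨_, rfl⟩
  obtain ⟨Ω, hΩ, hA, h⟩ := exists_common_field k K r
  letI := hΩ
  letI := hA
  obtain ⟨σ, -⟩ : ∃ σ : ∀ i : Fin (r + 1), K i →ₐ[k] Ω, True :=
    ⟨fun i => (h i (Nat.lt_succ_iff.1 i.2)).some, trivial⟩
  -- diagonal values
  have hdiag : ∀ n : Fin (r + 1), ∑ i ∈ S, σ n (algebraMap A (K n) i.1) * σ n (algebraMap A (K n) i.2)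
      = 1 := by
    intro n
    have h1 : Algebra.TensorProduct.lmul' ℤ f = ∑ i ∈ S, i.1 * i.2 := by
      rw [hS, map_sum]
      exact Finset.sum_congr rfl (fun i _ => Algebra.TensorProduct.lmul'_apply_tmul _ _)
    rw [hf1] at h1
    have h2 := congrArg (fun x => σ n (algebraMap A (K n) x)) h1
    simp only [map_one, map_sum, map_mul] at h2
    exact h2.symm
  have hoff : ∀ n m : Fin (r + 1), n ≠ m →
      ∑ i ∈ S, σ n (algebraMap A (K n) i.1) * σ m (algebraMap A (K m) i.2) = 0 := by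
    intro n m hnm
    have hnm' : (n : ℕ) ≠ (m : ℕ) := fun h => hnm (Fin.ext h)
    have h1 := hfz n m hnm' (RingHom.ker (Algebra.TensorProduct.productMap (σ n) (σ m)))
      (RingHom.ker_isPrime _)
    rw [RingHom.mem_ker, hS, map_sum, map_sum] at h1
    rw [← h1]
    refine Finset.sum_congr rfl (fun i _ => ?_)
    rw [hφ, Algebra.TensorProduct.productMap_apply_tmul]
  -- matrices
  obtain ⟨U, hU⟩ : ∃ U : Matrix (Fin (r + 1)) S Ω,
      U = fun n i => σ n (algebraMap A (K n) i.1.1) := ⟨_, rfl⟩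
  obtain ⟨V, hV⟩ : ∃ V : Matrix S (Fin (r + 1)) Ω,
      V = fun i m => σ m (algebraMap A (K m) i.1.2) := ⟨_, rfl⟩
  have hUV : U * V = 1 := by
    ext n m
    rw [Matrix.mul_apply, hU, hV]
    simp only
    rw [Finset.sum_coe_sort S (fun i => σ n (algebraMap A (K n) i.1) * σ m (algebraMap A (K m) i.2))]
    by_cases hnm : n = m
    · subst hnm
      rw [hdiag, Matrix.one_apply_eq]
    · rw [hoff n m hnm, Matrix.one_apply_ne hnm]
  have h1 : (U * V).rank ≤ U.rank := Matrix.rank_mul_le_left U V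
  have h2 : U.rank ≤ Fintype.card S := Matrix.rank_le_card_width U
  rw [hUV, Matrix.rank_one, Fintype.card_fin] at h1
  rw [Fintype.card_coe] at h2
  omega

end Main

end Groth.Agent.LeadDiag
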