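import Mathlib
import Groth.Agent.Lib.LeadTrivDef
import Groth.Agent.Lib.Helper22ThickAffine
import Groth.Agent.Lib.Helper20IdealComap
import Groth.Agent.Lib.LeadNonsing

/-!
# Deformations of smooth affine schemes over Artinian bases are trivial (scheme level)

`exists_iso_trivial`: `X` affine and smooth over a field `k`, `A` a `k`-algebra with a
`k`-augmentation `e` with nilpotent kernel, `X' → Spec A` flat with fibre `X` over the point `e`.
Then `X' ≅ X ×_k Spec A` over `Spec A`, inducing the identity on `X`.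
-/

set_option autoImplicit false
set_option maxHeartbeats 400000
set_option linter.style.haveILetI false
set_option linter.unusedSectionVars false
set_option linter.unusedVariables false

universe u

open AlgebraicGeometry CategoryTheory Limits TensorProduct

namespace Groth.Agent.Lib.LeadTrivDefSch

/-- a morphism from an affine scheme to `Spec R` in terms of global sections. -/
theorem eq_isoSpec_hom_comp {Y : Scheme.{u}} [IsAffine Y] (R : CommRingCat.{u}) (f : Y ⟶ Spec R) :
    f = Y.isoSpec.hom ≫ Spec.map ((Scheme.ΓSpecIso R).inv ≫ f.appTop) := by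
  rw [Spec.map_comp, ← Category.assoc, Scheme.isoSpec_hom_naturality, Scheme.isoSpec_Spec_hom,
    Category.assoc, ← Spec.map_comp, Iso.inv_hom_id, Spec.map_id, Category.comp_id]

section aug

variable {k : Type u} [Field k] {A : Type u} [CommRing A] [Algebra k A] (e : A →ₐ[k] k)

theorem surjective_aug : Function.Surjective e := fun c => ⟨algebraMap k A c, e.commutes c⟩

theorem surjective_specMap_of_nilpotent_ker (hnil : IsNilpotent (RingHom.ker e)) :
    Function.Surjective (Spec.map (CommRingCat.ofHom e.toRingHom)) := by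
  intro p
  have hmax : (RingHom.ker e.toRingHom).IsMaximal :=
    RingHom.ker_isMaximal_of_surjective e.toRingHom (surjective_aug e)
  haveI : p.asIdeal.IsPrime := p.isPrime
  have hle : RingHom.ker e.toRingHom ≤ p.asIdeal := by
    obtain ⟨n, hn⟩ := hnil
    refine Ideal.IsPrime.le_of_pow_le (n := n) ?_
    have : RingHom.ker e.toRingHom ^ n = ⊥ := hn
    rw [this]
    exact bot_le
  have heq : RingHom.ker e.toRingHom = p.asIdeal := hmax.eq_of_le p.isPrime.ne_top hle
  refine ⟨(⟨⊥, Ideal.isPrime_bot⟩ : PrimeSpectrum k), ?_⟩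
  apply PrimeSpectrum.ext
  change Ideal.comap e.toRingHom ⊥ = p.asIdeal
  rw [← RingHom.ker_eq_comap_bot]
  exact heq

variable {X X' : Scheme.{u}} (hX : X ⟶ Spec (CommRingCat.of k))
  (g : X' ⟶ Spec (CommRingCat.of A)) (i : X ⟶ X')
  (hsq : IsPullback i hX g (Spec.map (CommRingCat.ofHom e.toRingHom)))

include hsq in
theorem isClosedImmersion_of_isPullback : IsClosedImmersion i := by
  have h : IsClosedImmersion (Spec.map (CommRingCat.ofHom e.toRingHom)) :=
    IsClosedImmersion.spec_of_surjective _ (surjective_aug e)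
  exact MorphismProperty.of_isPullback hsq.flip h

include hsq in
theorem surjective_of_isPullback (hnil : IsNilpotent (RingHom.ker e)) : Surjective i := by
  have h : Surjective (Spec.map (CommRingCat.ofHom e.toRingHom)) :=
    ⟨surjective_specMap_of_nilpotent_ker e hnil⟩
  exact MorphismProperty.of_isPullback hsq.flip h

include hsq in
theorem isAffine_of_isPullback [IsAffine X] (hnil : IsNilpotent (RingHom.ker e)) : IsAffine X' := by
  haveI := isClosedImmersion_of_isPullback e hX g i hsq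
  haveI := surjective_of_isPullback e hX g i hsq hnil
  exact Groth.Agent.Lib.Helper22.ThickAffine.isAffine_of_thickening i i.surjective

include hsq in
/-- the commutative square on global sections. -/
theorem appTop_comm :
    ((Scheme.ΓSpecIso (CommRingCat.of A)).inv ≫ g.appTop) ≫ i.appTop =
      CommRingCat.ofHom e.toRingHom ≫ ((Scheme.ΓSpecIso (CommRingCat.of k)).inv ≫ hX.appTop) := by
  have h1 : g.appTop ≫ i.appTop = (Spec.map (CommRingCat.ofHom e.toRingHom)).appTop ≫ hX.appTop := by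
    rw [← Scheme.Hom.comp_appTop, ← Scheme.Hom.comp_appTop, hsq.w]
  rw [Category.assoc, h1, ← Category.assoc, ← Scheme.ΓSpecIso_inv_naturality, Category.assoc]

include hsq in
/-- the kernel of `Γ(X') → Γ(X)` is generated by the augmentation ideal. -/
theorem ker_appTop_le [IsAffine X] [IsAffine X'] :
    RingHom.ker i.appTop.hom ≤
      (RingHom.ker e.toRingHom).map ((Scheme.ΓSpecIso (CommRingCat.of A)).inv ≫ g.appTop).hom := by
  haveI hci : IsClosedImmersion (Spec.map (CommRingCat.ofHom e.toRingHom)) :=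
    IsClosedImmersion.spec_of_surjective _ (surjective_aug e)
  haveI := isClosedImmersion_of_isPullback e hX g i hsq
  have h1 : i.ker = (Spec.map (CommRingCat.ofHom e.toRingHom)).ker.comap g := by
    rw [← Scheme.IdealSheafData.ker_fst_of_isClosedImmersion
      (Spec.map (CommRingCat.ofHom e.toRingHom)) g, ← hsq.isoPullback_hom_fst,
      Scheme.Hom.ker_comp_of_isIso]
  have h2 := congrArg (fun J : X'.IdealSheafData => J.ideal ⟨⊤, isAffineOpen_top X'⟩) h1
  simp only at h2
  rw [Groth.Agent.Lib.Helper20.IdealComap.ideal_comap_top_of_isAffine, Scheme.Hom.ker_apply,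
    Scheme.Hom.ker_apply] at h2
  have h3 : RingHom.ker i.appTop.hom =
      (RingHom.ker (Spec.map (CommRingCat.ofHom e.toRingHom)).appTop.hom).map g.appTop.hom := h2
  rw [h3, Ideal.map_le_iff_le_comap]
  intro x hx
  rw [Ideal.mem_comap]
  -- `x = ΓSpecIso.inv a` with `a ∈ ker e`
  have hxa : x = (Scheme.ΓSpecIso (CommRingCat.of A)).inv.hom
      ((Scheme.ΓSpecIso (CommRingCat.of A)).hom.hom x) := by
    have := congrArg (fun f => f.hom x) (Scheme.ΓSpecIso (CommRingCat.of A)).hom_inv_id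
    exact this.symm
  have ha : (Scheme.ΓSpecIso (CommRingCat.of A)).hom.hom x ∈ RingHom.ker e.toRingHom := by
    rw [RingHom.mem_ker]
    have hnat := congrArg (fun f => f.hom x)
      (Scheme.ΓSpecIso_naturality (CommRingCat.ofHom e.toRingHom))
    have hnat' : (Scheme.ΓSpecIso (CommRingCat.of k)).hom.hom
        ((Spec.map (CommRingCat.ofHom e.toRingHom)).appTop.hom x) =
        e.toRingHom ((Scheme.ΓSpecIso (CommRingCat.of A)).hom.hom x) := hnat
    rw [← hnat', RingHom.mem_ker.mp hx, map_zero]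
  have hgx : g.appTop.hom x = ((Scheme.ΓSpecIso (CommRingCat.of A)).inv ≫ g.appTop).hom
      ((Scheme.ΓSpecIso (CommRingCat.of A)).hom.hom x) := by
    conv_lhs => rw [hxa]
    rfl
  rw [hgx]
  exact Ideal.mem_map_of_mem _ ha

end aug

section main

set_option maxHeartbeats 1600000 in
/-- **Deformations of a smooth affine scheme over an Artinian base are trivial.** -/
theorem exists_iso_trivial (k : Type u) [Field k] {X : Scheme.{u}}
    (hX : X ⟶ Spec (CommRingCat.of k)) [IsAffine X] [Smooth hX]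
    (A : Type u) [CommRing A] [Algebra k A] (e : A →ₐ[k] k) (hnil : IsNilpotent (RingHom.ker e))
    {X' : Scheme.{u}} (g : X' ⟶ Spec (CommRingCat.of A)) [Flat g] (i : X ⟶ X')
    (hsq : IsPullback i hX g (Spec.map (CommRingCat.ofHom e.toRingHom))) :
    ∃ φ : X' ≅ pullback hX (Spec.map (CommRingCat.ofHom (algebraMap k A))),
      φ.hom ≫ pullback.snd hX (Spec.map (CommRingCat.ofHom (algebraMap k A))) = g ∧
      i ≫ φ.hom ≫ pullback.fst hX (Spec.map (CommRingCat.ofHom (algebraMap k A))) = 𝟙 X := by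
  haveI : IsAffine X' := isAffine_of_isPullback e hX g i hsq hnil
  haveI hci : IsClosedImmersion i := isClosedImmersion_of_isPullback e hX g i hsq
  -- rings
  obtain ⟨β, hβ⟩ : ∃ β : CommRingCat.of k ⟶ Γ(X, ⊤),
      β = (Scheme.ΓSpecIso (CommRingCat.of k)).inv ≫ hX.appTop := ⟨_, rfl⟩
  obtain ⟨γ, hγ⟩ : ∃ γ : CommRingCat.of A ⟶ Γ(X', ⊤),
      γ = (Scheme.ΓSpecIso (CommRingCat.of A)).inv ≫ g.appTop := ⟨_, rfl⟩
  have hgγ : g = X'.isoSpec.hom ≫ Spec.map γ := by
    rw [hγ]; exact eq_isoSpec_hom_comp _ g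
  have hXβ : hX = X.isoSpec.hom ≫ Spec.map β := by
    rw [hβ]; exact eq_isoSpec_hom_comp _ hX
  have hcomm : γ ≫ i.appTop = CommRingCat.ofHom e.toRingHom ≫ β := by
    rw [hγ, hβ]; exact appTop_comm e hX g i hsq
  have hcomm' : ∀ a : A, i.appTop.hom (γ.hom a) = β.hom (e a) := fun a =>
    congrArg (fun f => f.hom a) hcomm
  have hkerle : RingHom.ker i.appTop.hom ≤ (RingHom.ker e.toRingHom).map γ.hom := by
    rw [hγ]; exact ker_appTop_le e hX g i hsq
  letI algkB : Algebra k Γ(X, ⊤) := β.hom.toAlgebra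
  letI algAB' : Algebra A Γ(X', ⊤) := γ.hom.toAlgebra
  letI algkB' : Algebra k Γ(X', ⊤) := (γ.hom.comp (algebraMap k A)).toAlgebra
  haveI : IsScalarTower k A Γ(X', ⊤) := IsScalarTower.of_algebraMap_eq' rfl
  -- flatness
  haveI hflat : Module.Flat A Γ(X', ⊤) := by
    have h1 : g.appTop.hom.Flat := (HasRingHomProperty.iff_of_isAffine (P := @Flat)).mp inferInstance
    have h2 : γ.hom.Flat := by
      rw [hγ]
      exact (RingHom.Flat.respectsIso.cancel_left_isIso
        (Scheme.ΓSpecIso (CommRingCat.of A)).inv g.appTop).mpr h1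
    exact h2
  -- smoothness
  haveI hfs : Algebra.FormallySmooth k Γ(X, ⊤) := by
    have h1 : (hX.appLE ⊤ ⊤ le_top).hom.Smooth :=
      hX.smooth_appLE (isAffineOpen_top _) (isAffineOpen_top X) le_top
    have h1' : hX.appTop.hom.FormallySmooth := by
      have h0 : hX.appLE ⊤ ⊤ le_top = hX.appTop := Scheme.Hom.appLE_eq_app hX (U := ⊤)
      rw [h0] at h1
      exact h1.1
    have h2 : β.hom.FormallySmooth := by
      rw [hβ]
      exact (RingHom.FormallySmooth.respectsIso.cancel_left_isIso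
        (Scheme.ΓSpecIso (CommRingCat.of k)).inv hX.appTop).mpr h1'
    exact h2
  -- the projection
  let π : Γ(X', ⊤) →ₐ[k] Γ(X, ⊤) :=
    { i.appTop.hom with
      commutes' := fun c => by
        change i.appTop.hom (γ.hom (algebraMap k A c)) = β.hom c
        rw [hcomm', e.commutes]
        rfl }
  have hπapp : ∀ b, π b = i.appTop.hom b := fun b => rfl
  have hπsurj : Function.Surjective π :=
    (IsClosedImmersion.isAffine_surjective_of_isAffine i).2
  have hπA : ∀ (a : A) (b : Γ(X', ⊤)), π (a • b) = e a • π b := by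
    intro a b
    rw [hπapp, hπapp, Algebra.smul_def, map_mul, Algebra.smul_def]
    congr 1
    exact hcomm' a
  have hker : ∀ b : Γ(X', ⊤), π b = 0 →
      b ∈ (RingHom.ker e) • (⊤ : Submodule A Γ(X', ⊤)) := by
    intro b hb
    rw [Ideal.smul_top_eq_map]
    exact hkerle hb
  obtain ⟨ψ, hψ⟩ := Groth.Agent.Lib.LeadTrivDef.exists_algEquiv_trivial e hnil π hπsurj hπA hker
  -- the ring isomorphism `Γ(X) ⊗ A ≃ Γ(X')`
  let E : (Γ(X, ⊤) ⊗[k] A) ≃+* Γ(X', ⊤) :=
    (Algebra.TensorProduct.comm k Γ(X, ⊤) A).toRingEquiv.trans ψ.toRingEquiv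
  have hE : ∀ (b : Γ(X, ⊤)) (a : A), E (b ⊗ₜ[k] a) = ψ (a ⊗ₜ[k] b) := fun b a => rfl
  let Ecat : CommRingCat.of (Γ(X, ⊤) ⊗[k] A) ⟶ Γ(X', ⊤) := CommRingCat.ofHom E.toRingHom
  haveI : IsIso Ecat := by
    have : Ecat = E.toCommRingCatIso.hom := rfl
    rw [this]; infer_instance
  -- compatibilities of `Ecat`
  have hE1 : CommRingCat.ofHom (RingHomClass.toRingHom (Algebra.TensorProduct.includeRight :
      A →ₐ[k] Γ(X, ⊤) ⊗[k] A)) ≫ Ecat = γ := by
    ext a
    change E ((1 : Γ(X, ⊤)) ⊗ₜ[k] a) = γ.hom a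
    rw [hE]
    have : a ⊗ₜ[k] (1 : Γ(X, ⊤)) = a • ((1 : A) ⊗ₜ[k] (1 : Γ(X, ⊤))) := by
      rw [TensorProduct.smul_tmul', smul_eq_mul, mul_one]
    rw [this, map_smul, ← Algebra.TensorProduct.one_def, map_one, Algebra.smul_def, mul_one]
    rfl
  have hE2 : (CommRingCat.ofHom (Algebra.TensorProduct.includeLeftRingHom :
      Γ(X, ⊤) →+* Γ(X, ⊤) ⊗[k] A) ≫ Ecat) ≫ i.appTop = 𝟙 _ := by
    ext b
    change i.appTop.hom (E (b ⊗ₜ[k] (1 : A))) = b
    rw [hE, ← hπapp, hψ, map_one, one_smul]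
  -- the isomorphisms
  have hfst : Spec.map (CommRingCat.ofHom (algebraMap k Γ(X, ⊤))) ≫ 𝟙 _ = X.isoSpec.inv ≫ hX := by
    rw [Category.comp_id, hXβ, Iso.inv_hom_id_assoc]
    rfl
  have hsnd : Spec.map (CommRingCat.ofHom (algebraMap k A)) ≫ 𝟙 _ =
      𝟙 _ ≫ Spec.map (CommRingCat.ofHom (algebraMap k A)) := by
    rw [Category.comp_id, Category.id_comp]
  let Λ : pullback (Spec.map (CommRingCat.ofHom (algebraMap k Γ(X, ⊤))))
      (Spec.map (CommRingCat.ofHom (algebraMap k A))) ⟶
      pullback hX (Spec.map (CommRingCat.ofHom (algebraMap k A))) :=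
    pullback.map _ _ _ _ X.isoSpec.inv (𝟙 _) (𝟙 _) hfst hsnd
  haveI : IsIso Λ := by
    change IsIso (pullback.map _ _ _ _ X.isoSpec.inv (𝟙 _) (𝟙 _) hfst hsnd)
    infer_instance
  let Φ : X' ⟶ pullback hX (Spec.map (CommRingCat.ofHom (algebraMap k A))) :=
    X'.isoSpec.hom ≫ Spec.map Ecat ≫ (pullbackSpecIso k Γ(X, ⊤) A).inv ≫ Λ
  haveI : IsIso Φ := by
    change IsIso (X'.isoSpec.hom ≫ Spec.map Ecat ≫ (pullbackSpecIso k Γ(X, ⊤) A).inv ≫ Λ)
    infer_instance
  refine ⟨asIso Φ, ?_, ?_⟩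
  · change (X'.isoSpec.hom ≫ Spec.map Ecat ≫ (pullbackSpecIso k Γ(X, ⊤) A).inv ≫ Λ) ≫
      pullback.snd _ _ = g
    have h1 : Λ ≫ pullback.snd hX (Spec.map (CommRingCat.ofHom (algebraMap k A))) =
        pullback.snd _ _ := by
      change pullback.map _ _ _ _ X.isoSpec.inv (𝟙 _) (𝟙 _) hfst hsnd ≫ pullback.snd _ _ = _
      rw [pullback.lift_snd, Category.comp_id]
    rw [Category.assoc, Category.assoc, Category.assoc, h1, pullbackSpecIso_inv_snd,
      ← Spec.map_comp, hE1, ← hgγ]
  · change i ≫ (X'.isoSpec.hom ≫ Spec.map Ecat ≫ (pullbackSpecIso k Γ(X, ⊤) A).inv ≫ Λ) ≫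
      pullback.fst _ _ = 𝟙 X
    have h1 : Λ ≫ pullback.fst hX (Spec.map (CommRingCat.ofHom (algebraMap k A))) =
        pullback.fst _ _ ≫ X.isoSpec.inv := by
      change pullback.map _ _ _ _ X.isoSpec.inv (𝟙 _) (𝟙 _) hfst hsnd ≫ pullback.fst _ _ = _
      rw [pullback.lift_fst]
    rw [Category.assoc, Category.assoc, Category.assoc, h1, pullbackSpecIso_inv_fst_assoc,
      ← Spec.map_comp_assoc, ← Category.assoc, ← Scheme.isoSpec_hom_naturality, Category.assoc,
      ← Spec.map_comp_assoc, hE2, Spec.map_id]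
    change X.isoSpec.hom ≫ 𝟙 (Spec Γ(X, ⊤)) ≫ X.isoSpec.inv = 𝟙 X
    rw [Category.id_comp, Iso.hom_inv_id]

/-- the augmentation ideal of a local Artinian ring is nilpotent. -/
theorem isNilpotent_ker_aug {k : Type u} [Field k] {A : Type u} [CommRing A] [IsLocalRing A]
    [IsArtinianRing A] [Algebra k A] (e : A →ₐ[k] k) : IsNilpotent (RingHom.ker e) := by
  have hmax : (RingHom.ker e.toRingHom).IsMaximal :=
    RingHom.ker_isMaximal_of_surjective e.toRingHom (surjective_aug e)
  have h1 : RingHom.ker e.toRingHom = IsLocalRing.maximalIdeal A := IsLocalRing.eq_maximalIdeal hmax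
  have h2 := IsArtinianRing.isNilpotent_jacobson_bot (R := A)
  rw [IsLocalRing.jacobson_eq_maximalIdeal ⊥ bot_ne_top, ← h1] at h2
  exact h2

/-- **S11452.** -/
theorem main_S11452 (k : Type u) [Field k]
    [IsAlgClosed k] (X : Scheme.{u}) (hX : X ⟶ Spec (CommRingCat.of k)) [IsAffine X]
    [LocallyOfFiniteType hX] (hreg : ∀ x : X, IsRegularLocalRing (X.presheaf.stalk x))
    (A : Type u) [CommRing A] [IsLocalRing A] [IsArtinianRing A] [Algebra k A] (e : A →ₐ[k] k)
    (X' : Scheme.{u}) (g : X' ⟶ Spec (CommRingCat.of A)) [Flat g] (i : X ⟶ X')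
    (hsq : IsPullback i hX g (Spec.map (CommRingCat.ofHom e.toRingHom))) :
    ∃ φ : X' ≅ Limits.pullback hX (Spec.map (CommRingCat.ofHom (algebraMap k A))),
      φ.hom ≫ Limits.pullback.snd hX (Spec.map (CommRingCat.ofHom (algebraMap k A))) = g := by
  letI : X.Over (Spec (CommRingCat.of k)) := ⟨hX⟩
  haveI : LocallyOfFiniteType (X ↘ Spec (CommRingCat.of k)) := ‹LocallyOfFiniteType hX›
  haveI hsm : Smooth hX := Groth.Agent.Lib.LeadNonsing.smooth_of_regular k X hreg
  obtain ⟨φ, hφ, -⟩ := exists_iso_trivial k hX A e (isNilpotent_ker_aug e) g i hsq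
  exact ⟨φ, hφ⟩

end main

end Groth.Agent.Lib.LeadTrivDefSch
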