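import Mathlib
import Groth.Prelude.Def_ArtFun4
import Groth.Prelude.Def_Exal
import Groth.Agent.Lib.LeadDualDef
import Groth.Agent.Lib.LeadTrivDefSch

/-!
# First-order deformations of an affine scheme and extensions (scheme level, for S12293)
-/

set_option autoImplicit false
set_option maxHeartbeats 400000
set_option linter.style.haveILetI false
set_option linter.unusedSectionVars false
set_option linter.unusedVariables false

universe u

open AlgebraicGeometry CategoryTheory Limits TensorProduct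

namespace Groth.Agent.Lib.LeadDualDefSch

open Groth.Agent.Lib.LeadDualDef Groth.Agent.Lib.LeadTrivDefSch DualNumber

variable {k : Type u} [Field k] {B : Type u} [CommRing B] [Algebra k B]

section gam

variable {T T' : Scheme.{u}}

/-- the structure map `k[ε] → Γ(T)` of a scheme over `Spec k[ε]`. -/
noncomputable def gam (f : T ⟶ Spec (CommRingCat.of (DualNumber k))) :
    CommRingCat.of (DualNumber k) ⟶ Γ(T, ⊤) :=
  (Scheme.ΓSpecIso (CommRingCat.of (DualNumber k))).inv ≫ f.appTop

theorem gam_comp (φ : T ⟶ T') (f' : T' ⟶ Spec (CommRingCat.of (DualNumber k))) :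
    gam (φ ≫ f') = gam f' ≫ φ.appTop := by
  unfold gam
  rw [Scheme.Hom.comp_appTop, Category.assoc]

theorem eq_isoSpec_gam [IsAffine T] (f : T ⟶ Spec (CommRingCat.of (DualNumber k))) :
    f = T.isoSpec.hom ≫ Spec.map (gam f) := eq_isoSpec_hom_comp _ f

theorem gam_SpecMap {R : CommRingCat.{u}} (φ : CommRingCat.of (DualNumber k) ⟶ R)
    (d : DualNumber k) :
    (Scheme.ΓSpecIso R).hom.hom ((gam (Spec.map φ)).hom d) = φ.hom d := by
  have h : gam (Spec.map φ) ≫ (Scheme.ΓSpecIso R).hom = φ := by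
    unfold gam
    rw [Category.assoc, Scheme.ΓSpecIso_naturality, ← Category.assoc, Iso.inv_hom_id,
      Category.id_comp]
  exact congrArg (fun m => m.hom d) h

end gam

/-- the relation between a deformation of `Spec B` over the dual numbers and an extension of
`B` by `B`: the ring of global sections of the total space is the middle ring. -/
def Rel {T : Scheme.{u}} (f : T ⟶ Spec (CommRingCat.of (DualNumber k)))
    (i : Spec (CommRingCat.of B) ⟶ T) (E : Exal.Ext k B B) : Prop :=
  ∃ θ : Γ(T, ⊤) ≃+* E.E,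
    (∀ d : DualNumber k, θ ((gam f).hom d) = gamE E d) ∧
    ∀ y, E.proj (θ y) = (Scheme.ΓSpecIso (CommRingCat.of B)).hom.hom (i.appTop.hom y)

set_option maxHeartbeats 1600000 in
/-- (a) every deformation is related to an extension. -/
theorem exists_rel_of_isPullback {T : Scheme.{u}}
    (f : T ⟶ Spec (CommRingCat.of (DualNumber k))) [Flat f]
    (i : Spec (CommRingCat.of B) ⟶ T)
    (hsq : IsPullback i (Spec.map (CommRingCat.ofHom (algebraMap k B))) f
      (Spec.map (CommRingCat.ofHom (TrivSqZeroExt.fstHom k k k).toRingHom))) :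
    ∃ E : Exal.Ext k B B, Rel f i E := by
  obtain ⟨e, he⟩ : ∃ e : DualNumber k →ₐ[k] k, e = TrivSqZeroExt.fstHom k k k := ⟨_, rfl⟩
  rw [← he] at hsq
  obtain ⟨x, hx⟩ : ∃ x : Spec (CommRingCat.of B) ⟶ Spec (CommRingCat.of k),
      x = Spec.map (CommRingCat.ofHom (algebraMap k B)) := ⟨_, rfl⟩
  rw [← hx] at hsq
  haveI : IsArtinianRing (DualNumber k) := ArtFun.Art.isArtinianRing_tsze k k
  have hnil : IsNilpotent (RingHom.ker e) := isNilpotent_ker_aug e
  haveI : IsAffine T := isAffine_of_isPullback e x f i hsq hnil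
  haveI hci : IsClosedImmersion i := isClosedImmersion_of_isPullback e x f i hsq
  obtain ⟨γ, hγ⟩ : ∃ γ : CommRingCat.of (DualNumber k) ⟶ Γ(T, ⊤), γ = gam f := ⟨_, rfl⟩
  obtain ⟨β, hβ⟩ : ∃ β : CommRingCat.of k ⟶ Γ(Spec (CommRingCat.of B), ⊤),
      β = (Scheme.ΓSpecIso (CommRingCat.of k)).inv ≫ x.appTop := ⟨_, rfl⟩
  have hcomm : γ ≫ i.appTop = CommRingCat.ofHom e.toRingHom ≫ β := by
    rw [hγ, hβ]; exact appTop_comm e x f i hsq
  have hcomm' : ∀ d : DualNumber k, i.appTop.hom (γ.hom d) = β.hom (e d) := fun d =>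
    congrArg (fun m => m.hom d) hcomm
  have hkerle : RingHom.ker i.appTop.hom ≤ (RingHom.ker e.toRingHom).map γ.hom := by
    rw [hγ]; exact ker_appTop_le e x f i hsq
  have hρβ : ∀ c : k,
      (Scheme.ΓSpecIso (CommRingCat.of B)).hom.hom (β.hom c) = algebraMap k B c := by
    intro c
    rw [hβ, hx]
    have hnat := Scheme.ΓSpecIso_naturality (CommRingCat.ofHom (algebraMap k B))
    have h1 := congrArg (fun m => m.hom ((Scheme.ΓSpecIso (CommRingCat.of k)).inv.hom c)) hnat
    have h2 : (Scheme.ΓSpecIso (CommRingCat.of k)).hom.hom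
        ((Scheme.ΓSpecIso (CommRingCat.of k)).inv.hom c) = c :=
      congrArg (fun m => m.hom c) (Scheme.ΓSpecIso (CommRingCat.of k)).inv_hom_id
    have h3 : (Scheme.ΓSpecIso (CommRingCat.of B)).hom.hom
        ((Spec.map (CommRingCat.ofHom (algebraMap k B))).appTop.hom
          ((Scheme.ΓSpecIso (CommRingCat.of k)).inv.hom c)) =
        algebraMap k B ((Scheme.ΓSpecIso (CommRingCat.of k)).hom.hom
          ((Scheme.ΓSpecIso (CommRingCat.of k)).inv.hom c)) := h1
    rw [h2] at h3
    exact h3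
  letI algDB' : Algebra (DualNumber k) Γ(T, ⊤) := γ.hom.toAlgebra
  letI algkB' : Algebra k Γ(T, ⊤) := (γ.hom.comp (algebraMap k (DualNumber k))).toAlgebra
  haveI hflat : Module.Flat (DualNumber k) Γ(T, ⊤) := by
    have h1 : f.appTop.hom.Flat :=
      (HasRingHomProperty.iff_of_isAffine (P := @Flat)).mp inferInstance
    have h2 : γ.hom.Flat := by
      rw [hγ]
      unfold gam
      exact (RingHom.Flat.respectsIso.cancel_left_isIso
        (Scheme.ΓSpecIso (CommRingCat.of (DualNumber k))).inv f.appTop).mpr h1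
    exact h2
  obtain ⟨t, ht⟩ : ∃ t : Γ(T, ⊤), t = γ.hom ε := ⟨_, rfl⟩
  have htt : t * t = 0 := by rw [ht, ← map_mul, DualNumber.eps_mul_eps, map_zero]
  have heε : e ε = 0 := by rw [he]; exact DualNumber.fst_eps
  let π : Γ(T, ⊤) →ₐ[k] B :=
    { ((Scheme.ΓSpecIso (CommRingCat.of B)).hom.hom.comp i.appTop.hom) with
      commutes' := fun c => by
        change (Scheme.ΓSpecIso (CommRingCat.of B)).hom.hom
          (i.appTop.hom (γ.hom (algebraMap k (DualNumber k) c))) = algebraMap k B c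
        rw [hcomm', e.commutes]
        exact hρβ c }
  have hπapp : ∀ y, π y = (Scheme.ΓSpecIso (CommRingCat.of B)).hom.hom (i.appTop.hom y) :=
    fun y => rfl
  have hπsurj : Function.Surjective π := by
    intro b
    obtain ⟨z, hz⟩ :=
      (Scheme.ΓSpecIso (CommRingCat.of B)).commRingCatIsoToRingEquiv.surjective b
    obtain ⟨y, hy⟩ := (IsClosedImmersion.isAffine_surjective_of_isAffine i).2 z
    refine ⟨y, ?_⟩
    rw [hπapp]
    have hy' : i.appTop.hom y = z := hy
    rw [hy']
    exact hz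
  have hπt : π t = 0 := by
    rw [hπapp, ht, hcomm', heε, map_zero, map_zero]
  have hker : ∀ y, π y = 0 → ∃ z, y = t * z := by
    intro y hy
    have h1 : i.appTop.hom y = 0 := by
      apply (Scheme.ΓSpecIso (CommRingCat.of B)).commRingCatIsoToRingEquiv.injective
      rw [map_zero]
      exact hy
    have h2 : y ∈ (RingHom.ker e.toRingHom).map γ.hom := hkerle (RingHom.mem_ker.mpr h1)
    have h3 : (RingHom.ker e.toRingHom).map γ.hom ≤ Ideal.span {t} := by
      rw [Ideal.map_le_iff_le_comap]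
      intro d hd
      rw [Ideal.mem_comap, Ideal.mem_span_singleton']
      have hd1 : d ∈ Ideal.span {(ε : DualNumber k)} := by
        apply Groth.Agent.Lib.T2H7.DualLift.mem_span_eps_of_red_eq_zero
        rw [he] at hd
        exact RingHom.mem_ker.mp hd
      obtain ⟨a, rfl⟩ := Ideal.mem_span_singleton'.mp hd1
      exact ⟨γ.hom a, by rw [ht, ← map_mul]⟩
    obtain ⟨a, ha⟩ := Ideal.mem_span_singleton'.mp (h3 h2)
    exact ⟨a, by rw [← ha, mul_comm]⟩
  have hann : ∀ y, t * y = 0 → ∃ z, y = t * z := by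
    intro y hy
    have hsm : ∀ z : Γ(T, ⊤), (ε : DualNumber k) • z = t * z := by
      intro z
      rw [Algebra.smul_def, ht]
      rfl
    have h1 : (ε : DualNumber k) • y = 0 := by rw [hsm]; exact hy
    obtain ⟨m', hm'⟩ := Groth.Agent.Lib.T2H7.DualLift.exists_eq_eps_smul_of_flat (A := k) (M := Γ(T, ⊤)) y h1
    exact ⟨m', hm'.trans (hsm m')⟩
  obtain ⟨incl, hext, hincl⟩ := exists_incl π hπsurj t htt hπt hker hann
  let E : Exal.Ext k B B := Exal.Ext.mk Γ(T, ⊤) π incl hext
  have hgam : ∀ d : DualNumber k, γ.hom d = gamE E d := by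
    have h1 : ∀ c : k, γ.hom (algebraMap k (DualNumber k) c) =
        (gamE E : DualNumber k →+* E.E) (algebraMap k (DualNumber k) c) := by
      intro c
      change _ = gamE E (algebraMap k (DualNumber k) c)
      rw [gamE_algebraMap]
      rfl
    have h2 : γ.hom ε = (gamE E : DualNumber k →+* E.E) ε := by
      change _ = gamE E ε
      rw [gamE_eps]
      change γ.hom ε = incl 1
      rw [← map_one π, hincl, mul_one, ht]
    intro d
    exact RingHom.congr_fun (dual_ringHom_ext γ.hom (gamE E : DualNumber k →+* E.E) h1 h2) d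
  refine ⟨E, RingEquiv.refl _, ?_, ?_⟩
  · intro d
    rw [← hγ]
    exact hgam d
  · intro y
    rfl

/-- (b) every extension is related to a deformation. -/
theorem exists_def_of_ext (E : Exal.Ext k B B) :
    ∃ (T : Scheme.{u}) (f : T ⟶ Spec (CommRingCat.of (DualNumber k)))
      (i : Spec (CommRingCat.of B) ⟶ T),
      Flat f ∧ IsPullback i (Spec.map (CommRingCat.ofHom (algebraMap k B))) f
        (Spec.map (CommRingCat.ofHom (TrivSqZeroExt.fstHom k k k).toRingHom)) ∧ Rel f i E := by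
  refine ⟨Spec (CommRingCat.of E.E), Spec.map (CommRingCat.ofHom (gamE E).toRingHom),
    Spec.map (CommRingCat.ofHom E.proj.toRingHom), ?_, ?_, ?_⟩
  · rw [Flat.SpecMap_iff]
    change (gamE E).toRingHom.Flat
    letI : Algebra (DualNumber k) E.E := (gamE E).toRingHom.toAlgebra
    change Module.Flat (DualNumber k) E.E
    have hsm : ∀ z : E.E, (ε : DualNumber k) • z = E.incl 1 * z := by
      intro z
      rw [Algebra.smul_def, ← gamE_eps]
      rfl
    apply flat_of_eps
    intro m hm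
    rw [hsm] at hm
    obtain ⟨z, hz⟩ := exists_of_mul_eq_zero E m hm
    exact ⟨z, hz.trans (hsm z).symm⟩
  · apply isPullback_SpecMap_of_isPushout
    apply isPushout_of_surjective
    · rw [← CommRingCat.ofHom_comp, ← CommRingCat.ofHom_comp]
      congr 1
      apply dual_ringHom_ext
      · intro c
        change E.proj (gamE E (algebraMap k _ c)) =
          algebraMap k B ((TrivSqZeroExt.fstHom k k k) (algebraMap k _ c))
        rw [gamE_algebraMap, AlgHom.commutes, AlgHom.commutes]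
        rfl
      · change E.proj (gamE E ε) = algebraMap k B ((TrivSqZeroExt.fstHom k k k) ε)
        rw [gamE_eps, proj_incl]
        have h0 : (TrivSqZeroExt.fstHom k k k) (ε : DualNumber k) = 0 := DualNumber.fst_eps
        rw [h0, map_zero]
    · exact E.isExtension.proj_surjective
    · exact fun c => ⟨TrivSqZeroExt.inl c, rfl⟩
    · intro y hy
      obtain ⟨z, rfl⟩ := exists_of_proj_eq_zero E y (RingHom.mem_ker.mp hy)
      rw [← gamE_eps]
      refine Ideal.mul_mem_right _ _ (Ideal.mem_map_of_mem _ ?_)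
      rw [RingHom.mem_ker]
      exact DualNumber.fst_eps
  · refine ⟨(Scheme.ΓSpecIso (CommRingCat.of E.E)).commRingCatIsoToRingEquiv, ?_, ?_⟩
    · intro d
      exact gam_SpecMap (CommRingCat.ofHom (gamE E).toRingHom) d
    · intro y
      have hnat := Scheme.ΓSpecIso_naturality (CommRingCat.ofHom E.proj.toRingHom)
      exact (congrArg (fun m => m.hom y) hnat).symm

section compare

variable {T T' : Scheme.{u}} {f : T ⟶ Spec (CommRingCat.of (DualNumber k))}
  {i : Spec (CommRingCat.of B) ⟶ T} {f' : T' ⟶ Spec (CommRingCat.of (DualNumber k))}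
  {i' : Spec (CommRingCat.of B) ⟶ T'} {E E' : Exal.Ext k B B}

/-- (c→) isomorphic deformations are related to equivalent extensions. -/
theorem equiv_of_iso (h : Rel f i E) (h' : Rel f' i' E') (φ : T ≅ T') (hf : φ.hom ≫ f' = f)
    (hi : i ≫ φ.hom = i') : Nonempty (Exal.Ext.Equiv E E') := by
  obtain ⟨θ, h1, h2⟩ := h
  obtain ⟨θ', h1', h2'⟩ := h'
  have hγ : ∀ d, φ.hom.appTop.hom ((gam f').hom d) = (gam f).hom d := by
    intro d
    have h0 := gam_comp φ.hom f'
    rw [hf] at h0
    exact (congrArg (fun m => m.hom d) h0).symm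
  have hiφ : ∀ z, i.appTop.hom (φ.hom.appTop.hom z) = i'.appTop.hom z := by
    intro z
    have h0 : φ.hom.appTop ≫ i.appTop = i'.appTop := by rw [← Scheme.Hom.comp_appTop, hi]
    exact congrArg (fun m => m.hom z) h0
  have hinv1 : ∀ z, φ.inv.appTop.hom (φ.hom.appTop.hom z) = z := by
    intro z
    have h0 : φ.hom.appTop ≫ φ.inv.appTop = 𝟙 _ := by
      rw [← Scheme.Hom.comp_appTop, φ.inv_hom_id, Scheme.Hom.id_appTop]
    exact congrArg (fun m => m.hom z) h0
  have hinv2 : ∀ z, φ.hom.appTop.hom (φ.inv.appTop.hom z) = z := by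
    intro z
    have h0 : φ.inv.appTop ≫ φ.hom.appTop = 𝟙 _ := by
      rw [← Scheme.Hom.comp_appTop, φ.hom_inv_id, Scheme.Hom.id_appTop]
    exact congrArg (fun m => m.hom z) h0
  let χ : Γ(T', ⊤) ≃+* Γ(T, ⊤) :=
    { toFun := φ.hom.appTop.hom
      invFun := φ.inv.appTop.hom
      left_inv := hinv1
      right_inv := hinv2
      map_mul' := map_mul _
      map_add' := map_add _ }
  let ψ : E'.E ≃+* E.E := θ'.symm.trans (χ.trans θ)
  have hψ : ∀ y, ψ y = θ (φ.hom.appTop.hom (θ'.symm y)) := fun y => rfl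
  have hθ'symm : ∀ d, θ'.symm (gamE E' d) = (gam f').hom d := fun d => by
    rw [RingEquiv.symm_apply_eq]; exact (h1' d).symm
  have hψgam : ∀ d, ψ (gamE E' d) = gamE E d := by
    intro d; rw [hψ, hθ'symm, hγ, h1]
  have hψproj : ∀ y, E.proj (ψ y) = E'.proj y := by
    intro y
    rw [hψ, h2, hiφ, ← h2', RingEquiv.apply_symm_apply]
  have hψalg : ∀ c : k, ψ (algebraMap k E'.E c) = algebraMap k E.E c := by
    intro c
    rw [← gamE_algebraMap, hψgam, gamE_algebraMap]
  have hψincl : ∀ b : B, ψ (E'.incl b) = E.incl b := by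
    intro b
    obtain ⟨y, rfl⟩ := E'.isExtension.proj_surjective b
    rw [incl_proj, map_mul, ← gamE_eps E', hψgam, gamE_eps E, ← hψproj, incl_proj]
  exact ⟨Exal.Ext.Equiv.symm ⟨AlgEquiv.ofRingEquiv (f := ψ) hψalg, hψproj, hψincl⟩⟩

/-- (c←) equivalent extensions are related to isomorphic deformations. -/
theorem iso_of_equiv [IsAffine T] [IsAffine T'] (h : Rel f i E) (h' : Rel f' i' E')
    (ψ : Exal.Ext.Equiv E E') : ∃ φ : T ≅ T', φ.hom ≫ f' = f ∧ i ≫ φ.hom = i' := by
  obtain ⟨θ, h1, h2⟩ := h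
  obtain ⟨θ', h1', h2'⟩ := h'
  let χ : Γ(T, ⊤) ≃+* Γ(T', ⊤) := θ.trans (ψ.toAlgEquiv.toRingEquiv.trans θ'.symm)
  have hχ : ∀ y, χ y = θ'.symm (ψ.toAlgEquiv (θ y)) := fun y => rfl
  have hχsymm : ∀ z, χ.symm z = θ.symm (ψ.toAlgEquiv.symm (θ' z)) := fun z => rfl
  obtain ⟨a, ha⟩ : ∃ a : Γ(T', ⊤) ⟶ Γ(T, ⊤), a = CommRingCat.ofHom χ.symm.toRingHom :=
    ⟨_, rfl⟩
  obtain ⟨b, hb⟩ : ∃ b : Γ(T, ⊤) ⟶ Γ(T', ⊤), b = CommRingCat.ofHom χ.toRingHom := ⟨_, rfl⟩
  have hab : a ≫ b = 𝟙 _ := by
    rw [ha, hb]; ext z; exact χ.apply_symm_apply z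
  have hba : b ≫ a = 𝟙 _ := by
    rw [ha, hb]; ext y; exact χ.symm_apply_apply y
  have haz : ∀ z, a.hom z = χ.symm z := fun z => by rw [ha]; rfl
  have hγ : gam f' ≫ a = gam f := by
    refine CommRingCat.hom_ext (RingHom.ext fun d => ?_)
    change a.hom ((gam f').hom d) = (gam f).hom d
    rw [haz, RingEquiv.symm_apply_eq, hχ, h1, equiv_gamE, ← h1', RingEquiv.symm_apply_apply]
  have hia : a ≫ i.appTop = i'.appTop := by
    ext z
    change i.appTop.hom (a.hom z) = i'.appTop.hom z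
    apply (Scheme.ΓSpecIso (CommRingCat.of B)).commRingCatIsoToRingEquiv.injective
    change (Scheme.ΓSpecIso (CommRingCat.of B)).hom.hom _ =
      (Scheme.ΓSpecIso (CommRingCat.of B)).hom.hom _
    rw [← h2, ← h2', haz, hχsymm, RingEquiv.apply_symm_apply]
    exact (Exal.Ext.Equiv.symm ψ).proj_apply (θ' z)
  refine ⟨⟨T.isoSpec.hom ≫ Spec.map a ≫ T'.isoSpec.inv,
    T'.isoSpec.hom ≫ Spec.map b ≫ T.isoSpec.inv, ?_, ?_⟩, ?_, ?_⟩
  · rw [Category.assoc, Category.assoc, Iso.inv_hom_id_assoc, ← Spec.map_comp_assoc, hba,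
      Spec.map_id, Category.id_comp, Iso.hom_inv_id]
  · rw [Category.assoc, Category.assoc, Iso.inv_hom_id_assoc, ← Spec.map_comp_assoc, hab,
      Spec.map_id, Category.id_comp, Iso.hom_inv_id]
  · calc (T.isoSpec.hom ≫ Spec.map a ≫ T'.isoSpec.inv) ≫ f'
        = (T.isoSpec.hom ≫ Spec.map a ≫ T'.isoSpec.inv) ≫
            T'.isoSpec.hom ≫ Spec.map (gam f') := by rw [← eq_isoSpec_gam f']
      _ = T.isoSpec.hom ≫ Spec.map (gam f' ≫ a) := by
          simp only [Category.assoc, Iso.inv_hom_id_assoc, Spec.map_comp]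
      _ = f := by rw [hγ, ← eq_isoSpec_gam f]
  · calc i ≫ T.isoSpec.hom ≫ Spec.map a ≫ T'.isoSpec.inv
        = (i ≫ T.isoSpec.hom) ≫ Spec.map a ≫ T'.isoSpec.inv := (Category.assoc _ _ _).symm
      _ = ((Spec (CommRingCat.of B)).isoSpec.hom ≫ Spec.map i.appTop) ≫
            Spec.map a ≫ T'.isoSpec.inv := by rw [Scheme.isoSpec_hom_naturality]
      _ = (Spec (CommRingCat.of B)).isoSpec.hom ≫ Spec.map (a ≫ i.appTop) ≫
            T'.isoSpec.inv := by rw [Spec.map_comp, Category.assoc, Category.assoc]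
      _ = (Spec (CommRingCat.of B)).isoSpec.hom ≫ Spec.map i'.appTop ≫ T'.isoSpec.inv := by
          rw [hia]
      _ = ((Spec (CommRingCat.of B)).isoSpec.hom ≫ Spec.map i'.appTop) ≫ T'.isoSpec.inv :=
          (Category.assoc _ _ _).symm
      _ = (i' ≫ T'.isoSpec.hom) ≫ T'.isoSpec.inv := by rw [Scheme.isoSpec_hom_naturality]
      _ = i' := by rw [Category.assoc, Iso.hom_inv_id, Category.comp_id]

end compare

/-- the total space of a deformation of `Spec B` over the dual numbers is affine. -/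
theorem isAffine_total
    (ξ : ArtFun.DefSch (Spec (CommRingCat.of B)) (Spec.map (CommRingCat.ofHom (algebraMap k B)))
      (ArtFun.Art.dual k k)) : IsAffine ξ.total := by
  haveI : IsArtinianRing (DualNumber k) := ArtFun.Art.isArtinianRing_tsze k k
  exact isAffine_of_isPullback (TrivSqZeroExt.fstHom k k k)
    (Spec.map (CommRingCat.ofHom (algebraMap k B))) ξ.f ξ.i ξ.isPullback
    (isNilpotent_ker_aug (TrivSqZeroExt.fstHom k k k))

/-- **S12293** up to `Exalcom`: first-order deformations of `Spec B` are classified by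
extensions of `B` by `B`. -/
theorem main_S12293 (k B : Type u) [Field k] [CommRing B] [Algebra k B] :
    Nonempty ((ArtFun.defFunctor (Λ := k) (Spec (CommRingCat.of B))
      (Spec.map (CommRingCat.ofHom (algebraMap k B)))).obj (ArtFun.Art.dual k k) ≃
        Exal.Exalcom k B B) := by
  change Nonempty (Quotient (ArtFun.DefSch.setoid (Spec (CommRingCat.of B))
      (Spec.map (CommRingCat.ofHom (algebraMap k B))) (ArtFun.Art.dual k k)) ≃
        Quotient (Exal.Ext.setoid k B B))
  refine nonempty_quotient_equiv _ _ (fun ξ E => Rel (k := k) ξ.f ξ.i E) ?_ ?_ ?_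
  · intro ξ
    exact @exists_rel_of_isPullback k _ B _ _ ξ.total ξ.f ξ.flat ξ.i ξ.isPullback
  · intro E
    obtain ⟨T, f, i, hfl, hsq, hrel⟩ := exists_def_of_ext E
    exact ⟨⟨T, f, hfl, i, hsq⟩, hrel⟩
  · intro ξ ξ' E E' h h'
    haveI := isAffine_total ξ
    haveI := isAffine_total ξ'
    constructor
    · rintro ⟨I⟩
      exact equiv_of_iso h h' I.iso I.hom_f I.i_hom
    · rintro ⟨ψ⟩
      obtain ⟨φ, hφ1, hφ2⟩ := iso_of_equiv h h' ψ
      exact ⟨⟨φ, hφ1, hφ2⟩⟩

end Groth.Agent.Lib.LeadDualDefSch
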