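import Mathlib
import Groth.Prelude.Def_W4c2filtblowupsingRees

/-!
# The extended Rees algebra of a filtration (lead), part a: structure

`R' = ⊕_{n ∈ ℤ} F_n T^n ⊆ A[T;T⁻¹]`, `u = T⁻¹`.

* `u_regular`: `u` is a nonzerodivisor of `R'`;
* `isLocalization_u`: `A[T;T⁻¹] = R'[u⁻¹]`;
* `reesIncl`, `finiteType_extRees`, `isNoetherianRing_extRees`: `R'` is of finite type over `A` when
  the Rees algebra is.
-/

set_option autoImplicit false
set_option maxHeartbeats 400000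
set_option linter.style.haveILetI false
set_option linter.unusedSectionVars false
set_option linter.unusedVariables false

universe u

noncomputable section

namespace Groth.Agent.Lib.LeadER

open scoped Polynomial
open LaurentPolynomial

variable {A : Type u} [CommRing A] (𝓕 : FiltBl.IdealFiltration A)

lemma coe_u : ((𝓕.u : 𝓕.extRees) : A[T;T⁻¹]) = T (-1) := rfl

lemma algebraMap_extRees (x : 𝓕.extRees) :
    algebraMap 𝓕.extRees A[T;T⁻¹] x = (x : A[T;T⁻¹]) := rfl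

/-- `u` is a nonzerodivisor -/
lemma u_regular : IsSMulRegular 𝓕.extRees 𝓕.u := by
  intro x y h
  apply Subtype.ext
  have h' : (T (-1) : A[T;T⁻¹]) * (x : A[T;T⁻¹]) = T (-1) * (y : A[T;T⁻¹]) :=
    congrArg Subtype.val h
  exact (isUnit_T (-1)).mul_right_injective h'

/-- the homogeneous element `a T^n` -/
def mono (n : ℤ) (a : A) (ha : a ∈ 𝓕.F n.toNat) : 𝓕.extRees :=
  ⟨AddMonoidAlgebra.single n a, fun m => by
    rw [AddMonoidAlgebra.coeff_single, Finsupp.single_apply]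
    split_ifs with h
    · subst h; exact ha
    · exact Ideal.zero_mem _⟩

lemma coe_mono (n : ℤ) (a : A) (ha : a ∈ 𝓕.F n.toNat) :
    ((mono 𝓕 n a ha : 𝓕.extRees) : A[T;T⁻¹]) = AddMonoidAlgebra.single n a := rfl

lemma C_mul_T_mem (n : ℤ) (a : A) (ha : a ∈ 𝓕.F n.toNat) : C a * T n ∈ 𝓕.extRees := by
  rw [← single_eq_C_mul_T]
  exact (mono 𝓕 n a ha).2

lemma exists_bound (z : A[T;T⁻¹]) : ∃ N : ℕ, ∀ i : ℤ, (N : ℤ) < i → z.coeff i = 0 := by
  refine ⟨z.coeff.support.sup (fun i => i.toNat), fun i hi => ?_⟩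
  by_contra hne
  have hmem : i ∈ z.coeff.support := Finsupp.mem_support_iff.mpr hne
  have := Finset.le_sup (f := fun i : ℤ => i.toNat) hmem
  omega

lemma coeff_mul_T (z : A[T;T⁻¹]) (m n : ℤ) : (z * T m).coeff n = z.coeff (n - m) := by
  rw [LaurentPolynomial.T, AddMonoidAlgebra.coeff_mul_single_apply, mul_one, sub_eq_add_neg]

lemma mul_T_neg_mem (z : A[T;T⁻¹]) {N : ℕ} (hN : ∀ i : ℤ, (N : ℤ) < i → z.coeff i = 0) :
    z * T (-(N : ℤ)) ∈ 𝓕.extRees := by
  intro n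
  rw [coeff_mul_T, sub_neg_eq_add]
  rcases le_or_gt n 0 with hn | hn
  · rw [Int.toNat_of_nonpos hn, 𝓕.zero_eq]
    exact Submodule.mem_top
  · rw [hN (n + N) (by omega)]
    exact Ideal.zero_mem _

/-- `A[T;T⁻¹]` is the localization of the extended Rees algebra at `u` -/
instance isLocalization_u : IsLocalization (Submonoid.powers 𝓕.u) A[T;T⁻¹] := by
  refine (isLocalization_iff _ _).mpr ⟨?_, ?_, ?_⟩
  · rintro ⟨_, n, rfl⟩
    show IsUnit (algebraMap 𝓕.extRees A[T;T⁻¹] (𝓕.u ^ n))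
    rw [map_pow]
    exact (isUnit_T (-1)).pow n
  · intro z
    obtain ⟨N, hN⟩ := exists_bound z
    refine ⟨(⟨z * T (-(N : ℤ)), mul_T_neg_mem 𝓕 z hN⟩, ⟨𝓕.u ^ N, N, rfl⟩), ?_⟩
    show z * algebraMap 𝓕.extRees A[T;T⁻¹] (𝓕.u ^ N) = z * T (-(N : ℤ))
    rw [map_pow]
    show z * (T (-1) : A[T;T⁻¹]) ^ N = _
    rw [T_pow, mul_neg_one]
  · intro x y h
    exact ⟨1, by rw [Subtype.ext h]⟩

section Noeth

lemma toLaurent_mem (g : A[X]) (hg : ∀ n, g.coeff n ∈ 𝓕.F n) :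
    Polynomial.toLaurent g ∈ 𝓕.extRees := by
  have h : Polynomial.toLaurent g =
      ∑ i ∈ g.support, Polynomial.toLaurent (Polynomial.monomial i (g.coeff i)) := by
    conv_lhs => rw [Polynomial.as_sum_support g]
    rw [map_sum]
  rw [h]
  refine Subalgebra.sum_mem _ fun i _ => ?_
  rw [Polynomial.toLaurent_C_mul_T]
  exact C_mul_T_mem 𝓕 _ _ (by rw [Int.toNat_natCast]; exact hg i)

/-- the inclusion of the Rees algebra in the extended Rees algebra -/
def reesIncl : 𝓕.rees →ₐ[A] 𝓕.extRees :=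
  (Polynomial.toLaurentAlg.comp 𝓕.rees.val).codRestrict 𝓕.extRees
    (fun g => toLaurent_mem 𝓕 (g : A[X]) g.2)

lemma coe_reesIncl (g : 𝓕.rees) :
    ((reesIncl 𝓕 g : 𝓕.extRees) : A[T;T⁻¹]) = Polynomial.toLaurent (g : A[X]) := rfl

/-- the monomial `a X^m` of the Rees algebra -/
def rmono (m : ℕ) (a : A) (ha : a ∈ 𝓕.F m) : 𝓕.rees :=
  ⟨Polynomial.monomial m a, fun k => by
    rw [Polynomial.coeff_monomial]
    split_ifs with h
    · subst h; exact ha
    · exact Ideal.zero_mem _⟩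

lemma reesIncl_rmono (m : ℕ) (a : A) (ha : a ∈ 𝓕.F m) :
    reesIncl 𝓕 (rmono 𝓕 m a ha) =
      mono 𝓕 (m : ℤ) a (by rw [Int.toNat_natCast]; exact ha) := by
  apply Subtype.ext
  rw [coe_reesIncl, coe_mono]
  show Polynomial.toLaurent (Polynomial.monomial m a) = _
  rw [Polynomial.toLaurent_C_mul_T, single_eq_C_mul_T]

lemma mono_neg_eq (n : ℤ) (hn : n < 0) (a : A) (ha : a ∈ 𝓕.F n.toNat) :
    mono 𝓕 n a ha = a • 𝓕.u ^ (-n).toNat := by
  apply Subtype.ext
  rw [coe_mono, Subalgebra.coe_smul, SubmonoidClass.coe_pow, coe_u, T_pow,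
    LaurentPolynomial.smul_eq_C_mul, single_eq_C_mul_T]
  have h1 : (((-n).toNat : ℕ) : ℤ) * -1 = n := by omega
  rw [h1]

/-- the extended Rees algebra is of finite type when the Rees algebra is -/
theorem finiteType_extRees (hfg : Algebra.FiniteType A 𝓕.rees) :
    Algebra.FiniteType A 𝓕.extRees := by
  classical
  obtain ⟨s, hs⟩ := hfg.out
  refine ⟨⟨s.image (reesIncl 𝓕) ∪ {𝓕.u}, ?_⟩⟩
  rw [eq_top_iff]
  rintro x -
  set S : Subalgebra A 𝓕.extRees :=
    Algebra.adjoin A (↑(s.image (reesIncl 𝓕) ∪ {𝓕.u}) : Set 𝓕.extRees) with hS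
  have hrange : ∀ g : 𝓕.rees, reesIncl 𝓕 g ∈ S := by
    intro g
    have hg : g ∈ Algebra.adjoin A (↑s : Set 𝓕.rees) := by
      rw [hs]
      exact Algebra.mem_top
    have h1 : reesIncl 𝓕 g ∈ (Algebra.adjoin A (↑s : Set 𝓕.rees)).map (reesIncl 𝓕) :=
      ⟨g, hg, rfl⟩
    rw [AlgHom.map_adjoin] at h1
    refine Algebra.adjoin_mono ?_ h1
    intro y hy
    obtain ⟨g', hg', rfl⟩ := hy
    rw [Finset.coe_union, Finset.coe_image]
    exact Or.inl ⟨g', hg', rfl⟩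
  have hu : 𝓕.u ∈ S := Algebra.subset_adjoin (by
    rw [Finset.coe_union]
    exact Or.inr (by simp))
  have hmono : ∀ (n : ℤ) (a : A) (ha : a ∈ 𝓕.F n.toNat), mono 𝓕 n a ha ∈ S := by
    intro n a ha
    rcases lt_or_ge n 0 with hn | hn
    · rw [mono_neg_eq 𝓕 n hn a ha]
      exact Subalgebra.smul_mem _ (Subalgebra.pow_mem _ hu _) a
    · obtain ⟨m, rfl⟩ := Int.eq_ofNat_of_zero_le hn
      have ha' : a ∈ 𝓕.F m := by rwa [Int.toNat_natCast] at ha
      have := hrange (rmono 𝓕 m a ha')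
      rwa [reesIncl_rmono] at this
  have hx : x = ∑ n ∈ (x : A[T;T⁻¹]).coeff.support,
      mono 𝓕 n ((x : A[T;T⁻¹]).coeff n) (x.2 n) := by
    apply Subtype.ext
    rw [AddSubmonoidClass.coe_finsetSum]
    exact (AddMonoidAlgebra.sum_coeff_single (x : A[T;T⁻¹])).symm
  rw [hx]
  exact Subalgebra.sum_mem _ fun n _ => hmono n _ _

theorem isNoetherianRing_extRees [IsNoetherianRing A] (hfg : Algebra.FiniteType A 𝓕.rees) :
    IsNoetherianRing 𝓕.extRees := by
  haveI := finiteType_extRees 𝓕 hfg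
  exact Algebra.FiniteType.isNoetherianRing A 𝓕.extRees

end Noeth

end Groth.Agent.Lib.LeadER
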