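import Groth.Agent.Lib.Helper28DepthMore
import Groth.Agent.Lib.Helper28DepthBC
import Groth.Agent.Lib.Helper28Normal
import Mathlib.RingTheory.Ideal.KrullsHeightTheorem
import Mathlib.RingTheory.Ideal.GoingDown
import Mathlib.RingTheory.QuotSMulTop

/-!
# Hochster–Eagon type descent of depth along a split finite extension with going-down (lead)

Let `A → R` be a module-finite ring map of Noetherian rings such that `A` is a direct summand of `R` as an
`A`-module (`s : R →ₗ[A] A` with `s (algebraMap a) = a`) and going-down holds.  If `f (ht n) ≤ depth R_n`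
for all primes `n` of `R` (`f` monotone; `f = id` for Cohen–Macaulay `R`, `f = min r` for `(S_r)`), then
`f (ht p) ≤ depth A_p` and `f (ht p) ≤ depth_{A_p} R_p` for all primes `p` of `A`.
-/

set_option autoImplicit false
set_option maxHeartbeats 400000
set_option linter.style.haveILetI false
set_option linter.unusedSectionVars false
set_option linter.unusedVariables false

universe u v

noncomputable section

namespace Groth.Agent.Lib.LeadHE

open RingTheory.Sequence Groth.Agent.Lib.Helper28

section Split

variable {A : Type u} [CommRing A]

/-- A sequence weakly regular on `M` is weakly regular on every direct summand of `M`. -/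
theorem isWeaklyRegular_of_split : ∀ (rs : List A) {N M : Type v} [AddCommGroup N] [Module A N]
    [AddCommGroup M] [Module A M] (i : N →ₗ[A] M) (s : M →ₗ[A] N)
    (_hs : s ∘ₗ i = LinearMap.id), IsWeaklyRegular M rs → IsWeaklyRegular N rs := by
  intro rs
  induction rs with
  | nil => intro N M _ _ _ _ i s _ _; exact IsWeaklyRegular.nil A N
  | cons r rs ih =>
    intro N M _ _ _ _ i s hs h
    rw [isWeaklyRegular_cons_iff] at h ⊢
    have hinj : Function.Injective i := by
      intro x y hxy
      have := congrArg s hxy
      have h1 : ∀ z, s (i z) = z := fun z => LinearMap.congr_fun hs z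
      rwa [h1, h1] at this
    refine ⟨h.1.of_injective i hinj, ?_⟩
    refine ih (QuotSMulTop.map r i) (QuotSMulTop.map r s) ?_ h.2
    rw [← QuotSMulTop.map_comp, hs, QuotSMulTop.map_id]

theorem idealDepth_le_of_split (I : Ideal A) {N M : Type v} [AddCommGroup N] [Module A N]
    [AddCommGroup M] [Module A M] (i : N →ₗ[A] M) (s : M →ₗ[A] N)
    (hs : s ∘ₗ i = LinearMap.id) :
    LocCoh.idealDepth I M ≤ LocCoh.idealDepth I N := by
  by_cases hN : I • (⊤ : Submodule A N) = ⊤
  · rw [idealDepth_eq_top_of_smul_top_eq_top I N hN]; exact le_top
  · have hM : I • (⊤ : Submodule A M) ≠ ⊤ := by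
      intro hM
      apply hN
      rw [eq_top_iff]
      intro x _
      have h1 : i x ∈ I • (⊤ : Submodule A M) := by rw [hM]; exact Submodule.mem_top
      have h2 : s (i x) ∈ (I • (⊤ : Submodule A M)).map s := Submodule.mem_map_of_mem h1
      rw [Submodule.map_smul''] at h2
      have h3 : s (i x) = x := LinearMap.congr_fun hs x
      rw [h3] at h2
      exact Submodule.smul_mono (le_refl I) le_top h2
    rw [idealDepth_eq_iSup_of_smul_top_ne_top I M hM, idealDepth_eq_iSup_of_smul_top_ne_top I N hN]
    refine iSup₂_le fun rs hrs => ?_
    exact le_iSup₂_of_le rs ⟨isWeaklyRegular_of_split rs i s hs hrs.1, hrs.2⟩ le_rfl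

end Split

section HE

variable {A R : Type u} [CommRing A] [CommRing R] [Algebra A R] [IsNoetherianRing A]
  [Module.Finite A R] [Algebra.HasGoingDown A R]

/-- Going-down: the height of the contraction is at most the height. -/
theorem height_under_le [IsNoetherianRing R] (n : Ideal R) [n.IsPrime] :
    (n.under A).height ≤ n.height := by
  rw [Ideal.height_eq_height_add_of_liesOver_of_hasGoingDown (n.under A) n]
  exact le_self_add

theorem le_idealDepth_of_forall [IsNoetherianRing R] (f : ℕ∞ → ℕ∞) (hf : Monotone f)
    (hR : ∀ (n : Ideal R) [n.IsPrime],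
      f n.height ≤ LocCoh.depth (Localization.AtPrime n) (Localization.AtPrime n))
    (p : Ideal A) [p.IsPrime] : f p.height ≤ LocCoh.idealDepth p R := by
  rw [idealDepth_restrictScalars_eq_idealDepth_map (B := R) p R,
    idealDepth_eq_iInf_depth_localization]
  refine le_iInf₂ fun n hn => ?_
  rw [depth_localizedModule_self]
  refine le_trans (hf ?_) (hR n.asIdeal)
  have h1 : p ≤ n.asIdeal.under A := Ideal.map_le_iff_le_comap.mp hn
  exact (Ideal.height_mono h1).trans (height_under_le n.asIdeal)

variable (s : R →ₗ[A] A) (hs : ∀ a : A, s (algebraMap A R a) = a)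

include hs in
theorem le_depth_localization_self [IsNoetherianRing R] (f : ℕ∞ → ℕ∞) (hf : Monotone f)
    (hR : ∀ (n : Ideal R) [n.IsPrime],
      f n.height ≤ LocCoh.depth (Localization.AtPrime n) (Localization.AtPrime n))
    (p : Ideal A) [p.IsPrime] :
    f p.height ≤ LocCoh.depth (Localization.AtPrime p) (Localization.AtPrime p) := by
  have h1 := le_idealDepth_of_forall (A := A) f hf hR p
  have h2 : LocCoh.idealDepth p R ≤ LocCoh.idealDepth p A :=
    idealDepth_le_of_split p (Algebra.linearMap A R) s (by
      ext
      simpa using hs 1)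
  have h3 := idealDepth_le_depth_localization p A (le_refl p)
  rw [depth_localizedModule_self] at h3
  exact h1.trans (h2.trans h3)

theorem le_depth_localizedModule [IsNoetherianRing R] (f : ℕ∞ → ℕ∞) (hf : Monotone f)
    (hR : ∀ (n : Ideal R) [n.IsPrime],
      f n.height ≤ LocCoh.depth (Localization.AtPrime n) (Localization.AtPrime n))
    (p : Ideal A) [p.IsPrime] :
    f p.height ≤ LocCoh.depth (Localization.AtPrime p) (LocalizedModule p.primeCompl R) :=
  (le_idealDepth_of_forall (A := A) f hf hR p).trans
    (idealDepth_le_depth_localization p R (le_refl p))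

include hs in
theorem nontrivial_localizedModule (p : Ideal A) [p.IsPrime] :
    Nontrivial (LocalizedModule p.primeCompl R) := by
  refine ⟨⟨LocalizedModule.mk 1 1, 0, ?_⟩⟩
  intro h
  rw [← LocalizedModule.zero_mk 1, LocalizedModule.mk_eq] at h
  obtain ⟨t, ht⟩ := h
  have h1 : (t : A) • (1 : R) = 0 := by
    have := ht
    simp only [smul_zero, one_smul] at this
    exact this
  have h2 : s ((t : A) • (1 : R)) = (t : A) := by
    rw [Algebra.smul_def, mul_one, hs]
  rw [h1, map_zero] at h2
  exact t.2 (h2 ▸ p.zero_mem)

theorem supportDim_localizedModule_le (p : Ideal A) [p.IsPrime] :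
    Module.supportDim (Localization.AtPrime p) (LocalizedModule p.primeCompl R) ≤
      ((p.height : ℕ∞) : WithBot ℕ∞) := by
  refine (Module.supportDim_le_ringKrullDim _ _).trans (le_of_eq ?_)
  exact IsLocalization.AtPrime.ringKrullDim_eq_height p (Localization.AtPrime p)

/-- `(S_r)` descends along a split finite extension with going-down. -/
theorem hasSk_of_split [IsNoetherianRing R] (r : ℕ) (hR : LocCoh.HasSk r R R) :
    LocCoh.HasSk r A R ∧ (∀ (s : R →ₗ[A] A), (∀ a : A, s (algebraMap A R a) = a) →
      LocCoh.HasSk r A A) := by
  have hmono : Monotone (fun x : ℕ∞ => min (r : ℕ∞) x) := fun x y hxy => min_le_min le_rfl hxy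
  have hR' : ∀ (n : Ideal R) [n.IsPrime],
      min (r : ℕ∞) n.height ≤ LocCoh.depth (Localization.AtPrime n) (Localization.AtPrime n) := by
    intro n _
    have := (hasSk_self_iff r).mp hR n
    exact_mod_cast this
  constructor
  · intro p _
    have h1 := le_depth_localizedModule (A := A) _ hmono hR' p
    have h2 := supportDim_localizedModule_le (A := A) (R := R) p
    refine le_trans (min_le_min le_rfl h2) ?_
    exact_mod_cast h1
  · intro s hs
    rw [hasSk_self_iff]
    intro p _
    have h1 := le_depth_localization_self (A := A) s hs _ hmono hR' p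
    exact_mod_cast h1

include hs in
/-- Hochster–Eagon: a direct summand `A` of a module-finite Cohen–Macaulay extension `R` with
going-down is Cohen–Macaulay, and `R` is maximal Cohen–Macaulay over `A`. -/
theorem isCohenMacaulayRing_of_split [IsNoetherianRing R] (hR : LocCoh.IsCohenMacaulayRing R) :
    LocCoh.IsCohenMacaulayRing A ∧ ∀ (p : Ideal A) [p.IsPrime],
      LocCoh.IsCohenMacaulayModule (Localization.AtPrime p) (LocalizedModule p.primeCompl R) ∧
        Module.supportDim (Localization.AtPrime p) (LocalizedModule p.primeCompl R) =
          ringKrullDim (Localization.AtPrime p) := by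
  have hR' : ∀ (n : Ideal R) [n.IsPrime],
      (fun x : ℕ∞ => x) n.height ≤
        LocCoh.depth (Localization.AtPrime n) (Localization.AtPrime n) := by
    intro n _
    have h := (hR.isCohenMacaulayLocalRing_localization n).supportDim_eq_depth
    rw [supportDim_localization_self] at h
    exact le_of_eq (WithBot.coe_injective h)
  have hmono : Monotone (fun x : ℕ∞ => x) := fun x y hxy => hxy
  constructor
  · refine { isCohenMacaulayLocalRing_localization := fun p _ => ?_ }
    have h1 := le_depth_localization_self (A := A) s hs _ hmono hR' p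
    refine { supportDim_eq_depth := ?_ }
    apply le_antisymm
    · rw [supportDim_localization_self]
      exact_mod_cast h1
    · exact depth_le_supportDim
  · intro p _
    have h1 := le_depth_localizedModule (A := A) _ hmono hR' p
    have h2 := supportDim_localizedModule_le (A := A) (R := R) p
    have := nontrivial_localizedModule s hs p
    have h3 : ((LocCoh.depth (Localization.AtPrime p) (LocalizedModule p.primeCompl R) : ℕ∞) :
        WithBot ℕ∞) ≤ Module.supportDim (Localization.AtPrime p)
          (LocalizedModule p.primeCompl R) := depth_le_supportDim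
    have h1' : ((p.height : ℕ∞) : WithBot ℕ∞) ≤
        ((LocCoh.depth (Localization.AtPrime p) (LocalizedModule p.primeCompl R) : ℕ∞) :
          WithBot ℕ∞) := by exact_mod_cast h1
    have hk : ringKrullDim (Localization.AtPrime p) = ((p.height : ℕ∞) : WithBot ℕ∞) :=
      IsLocalization.AtPrime.ringKrullDim_eq_height p (Localization.AtPrime p)
    refine ⟨le_antisymm (h2.trans h1') h3, ?_⟩
    rw [hk]
    exact le_antisymm h2 (h1'.trans h3)

end HE

end Groth.Agent.Lib.LeadHE
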