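import Mathlib
import Groth.Agent.Lib.LeadHEa

/-!
# Hochster–Eagon for the degree-zero part of a grading by a finite abelian group (lead)

A grading of a commutative ring `B` by an abelian group `ι` is encoded by a ring homomorphism
`ρ : B → B[ι]` (`b ↦ ∑ b_i t^i`) which is counital and coassociative (`IsGrCoaction`).  The elements with
`ρ b = b t^j` are the homogeneous elements of degree `j` (`IsHom ρ j b`); those of degree `0` form the subring
`zeroSubring ρ`.

For `ι` finite and `B` Noetherian: `B` is module-finite over `B₀ = zeroSubring ρ`, `B₀` is a direct summand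
(`retr`), `B₀` is Noetherian, the fibres of `Spec B → Spec B₀` are "orbits" (`exists_prime_comap_eq`, via the
circulant norm), hence going-down holds, and `B₀` inherits `(S_k)` and Cohen–Macaulayness from `B`.
-/

set_option autoImplicit false
set_option maxHeartbeats 400000
set_option linter.style.haveILetI false
set_option linter.unusedSectionVars false
set_option linter.unusedVariables false

universe u

noncomputable section

namespace Groth.Agent.Lib.LeadGrHE

open AddMonoidAlgebra

section Basic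

variable {ι : Type} [AddCommGroup ι] [DecidableEq ι] {B : Type u} [CommRing B]

/-- A ring map `ρ : B → B[ι]` which is counital and coassociative: the same as an `ι`-grading of `B`. -/
structure IsGrCoaction (ρ : B →+* AddMonoidAlgebra B ι) : Prop where
  counit : ∀ b, (ρ b).coeff.sum (fun _ c => c) = b
  coassoc : ∀ b j, ρ ((ρ b).coeff j) = single j ((ρ b).coeff j)

/-- `b` is homogeneous of degree `j`. -/
def IsHom (ρ : B →+* AddMonoidAlgebra B ι) (j : ι) (b : B) : Prop := ρ b = single j b

variable {ρ : B →+* AddMonoidAlgebra B ι}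

theorem IsHom.zero (ρ : B →+* AddMonoidAlgebra B ι) (j : ι) : IsHom ρ j 0 := by
  unfold IsHom; rw [map_zero, single_zero]

theorem IsHom.add {j : ι} {a b : B} (ha : IsHom ρ j a) (hb : IsHom ρ j b) : IsHom ρ j (a + b) := by
  unfold IsHom at *; rw [map_add, ha, hb, single_add]

theorem IsHom.neg {j : ι} {a : B} (ha : IsHom ρ j a) : IsHom ρ j (-a) := by
  unfold IsHom at *; rw [map_neg, ha, single_neg]

theorem IsHom.mul {i j : ι} {a b : B} (ha : IsHom ρ i a) (hb : IsHom ρ j b) :
    IsHom ρ (i + j) (a * b) := by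
  unfold IsHom at *; rw [map_mul, ha, hb, single_mul_single]

theorem IsHom.one (ρ : B →+* AddMonoidAlgebra B ι) : IsHom ρ 0 1 := by
  unfold IsHom; rw [map_one]; rfl

theorem IsHom.zsmul {j : ι} {a : B} (n : ℤ) (ha : IsHom ρ j a) : IsHom ρ j (n • a) := by
  unfold IsHom at *; rw [map_zsmul, ha, smul_single]

theorem IsHom.sum {α : Type*} {j : ι} (s : Finset α) (c : α → B) (h : ∀ i ∈ s, IsHom ρ j (c i)) :
    IsHom ρ j (∑ i ∈ s, c i) := by
  classical
  induction s using Finset.induction_on with
  | empty => simpa using IsHom.zero ρ j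
  | insert a s ha ih =>
    rw [Finset.sum_insert ha]
    exact (h a (Finset.mem_insert_self a s)).add
      (ih fun i hi => h i (Finset.mem_insert_of_mem hi))

theorem IsHom.prod {α : Type*} (s : Finset α) (d : α → ι) (c : α → B)
    (h : ∀ i ∈ s, IsHom ρ (d i) (c i)) : IsHom ρ (∑ i ∈ s, d i) (∏ i ∈ s, c i) := by
  unfold IsHom at *
  rw [map_prod, Finset.prod_congr rfl h, prod_single]

theorem IsHom.pow {j : ι} {a : B} (ha : IsHom ρ j a) (n : ℕ) : IsHom ρ (n • j) (a ^ n) := by
  induction n with
  | zero => simpa using IsHom.one ρ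
  | succ n ih =>
    rw [pow_succ, succ_nsmul]
    exact ih.mul ha

/-- The subring of homogeneous elements of degree zero. -/
def zeroSubring (ρ : B →+* AddMonoidAlgebra B ι) : Subring B where
  carrier := {b | IsHom ρ 0 b}
  mul_mem' ha hb := by
    have := IsHom.mul ha hb
    rwa [add_zero] at this
  one_mem' := IsHom.one ρ
  add_mem' ha hb := IsHom.add ha hb
  zero_mem' := IsHom.zero ρ 0
  neg_mem' ha := IsHom.neg ha

theorem mem_zeroSubring {b : B} : b ∈ zeroSubring ρ ↔ IsHom ρ 0 b := Iff.rfl

theorem IsGrCoaction.isHom_coeff (hρ : IsGrCoaction ρ) (b : B) (j : ι) :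
    IsHom ρ j ((ρ b).coeff j) := hρ.coassoc b j

theorem coeff_of_isHom {i : ι} {b : B} (hb : IsHom ρ i b) (j : ι) :
    (ρ b).coeff j = if i = j then b else 0 := by
  rw [hb, coeff_single, Finsupp.single_apply]

theorem coeff_self_of_isHom {i : ι} {b : B} (hb : IsHom ρ i b) : (ρ b).coeff i = b := by
  rw [coeff_of_isHom hb, if_pos rfl]

theorem coeff_mul_right_of_isHom {i : ι} {t : B} (ht : IsHom ρ i t) (c : B) (j : ι) :
    (ρ (c * t)).coeff (j + i) = (ρ c).coeff j * t := by
  rw [map_mul, ht, coeff_mul_single_add]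

theorem coeff_mul_left_of_isHom {i : ι} {a : B} (ha : IsHom ρ i a) (b : B) (j : ι) :
    (ρ (a * b)).coeff (i + j) = a * (ρ b).coeff j := by
  rw [map_mul, ha, coeff_single_mul_add]

theorem coeff_finset_sum {α : Type*} (s : Finset α) (g : α → B) (i : ι) :
    (ρ (∑ a ∈ s, g a)).coeff i = ∑ a ∈ s, (ρ (g a)).coeff i := by
  rw [map_sum, coeff_sum, Finsupp.finsetSum_apply]

theorem IsGrCoaction.sum_coeff [Fintype ι] (hρ : IsGrCoaction ρ) (b : B) :
    ∑ j, (ρ b).coeff j = b := by
  have := hρ.counit b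
  rwa [Finsupp.sum_fintype _ _ (fun _ => rfl)] at this

theorem algebraMap_eq_single (b : B) :
    algebraMap B (AddMonoidAlgebra B ι) b = single 0 b := by
  rw [coe_algebraMap]
  rfl

/-- The projection onto the degree-zero part, as a `B₀`-linear retraction. -/
def retr (hρ : IsGrCoaction ρ) : B →ₗ[↥(zeroSubring ρ)] ↥(zeroSubring ρ) where
  toFun b := ⟨(ρ b).coeff 0, hρ.isHom_coeff b 0⟩
  map_add' a b := by
    apply Subtype.ext
    change (ρ (a + b)).coeff 0 = (ρ a).coeff 0 + (ρ b).coeff 0
    rw [map_add, coeff_add, Finsupp.add_apply]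
  map_smul' a b := by
    apply Subtype.ext
    change (ρ (a • b)).coeff 0 = (a : B) * (ρ b).coeff 0
    have h := coeff_mul_left_of_isHom (ρ := ρ) a.2 b 0
    rw [add_zero] at h
    rw [← h]
    rfl

theorem retr_coe (hρ : IsGrCoaction ρ) (b : B) : ((retr hρ b : ↥(zeroSubring ρ)) : B) = (ρ b).coeff 0 :=
  rfl

theorem retr_algebraMap (hρ : IsGrCoaction ρ) (a : ↥(zeroSubring ρ)) :
    retr hρ (algebraMap ↥(zeroSubring ρ) B a) = a := by
  apply Subtype.ext
  rw [retr_coe]
  exact coeff_self_of_isHom a.2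

/-- `B` is module-finite over its degree-zero part (finite grading group, `B` Noetherian). -/
theorem finite_zeroSubring [Fintype ι] [IsNoetherianRing B] (hρ : IsGrCoaction ρ) :
    Module.Finite ↥(zeroSubring ρ) B := by
  classical
  have hfg : ∀ i : ι, ∃ T : Finset B, (∀ t ∈ T, IsHom ρ i t) ∧
      ∀ b, IsHom ρ i b → b ∈ Ideal.span (T : Set B) := by
    intro i
    have h1 : (Ideal.span {b | IsHom ρ i b}).FG := IsNoetherian.noetherian _
    obtain ⟨T, hT, hspan⟩ := (Submodule.fg_span_iff_fg_span_finset_subset _).mp h1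
    refine ⟨T, fun t ht => hT ht, fun b hb => ?_⟩
    have : b ∈ Ideal.span {b | IsHom ρ i b} := Ideal.subset_span hb
    rw [Ideal.span, hspan] at this
    exact this
  choose T hT hTspan using hfg
  refine ⟨⟨Finset.univ.biUnion T, ?_⟩⟩
  rw [eq_top_iff]
  intro b _
  rw [← hρ.sum_coeff b]
  refine Submodule.sum_mem _ fun i _ => ?_
  have hbi := hρ.isHom_coeff b i
  obtain ⟨c, -, hc⟩ := Submodule.mem_span_finset.mp (hTspan i _ hbi)
  have h2 : (ρ b).coeff i = ∑ t ∈ T i, (retr hρ (c t) : ↥(zeroSubring ρ)) • t := by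
    conv_lhs => rw [← coeff_self_of_isHom hbi, ← hc, coeff_finset_sum]
    refine Finset.sum_congr rfl fun t ht => ?_
    have h3 := coeff_mul_right_of_isHom (ρ := ρ) (hT i t ht) (c t) 0
    rw [zero_add] at h3
    rw [smul_eq_mul, h3]
    rfl
  rw [h2]
  refine Submodule.sum_mem _ fun t ht => Submodule.smul_mem _ _ (Submodule.subset_span ?_)
  rw [Finset.mem_coe, Finset.mem_biUnion]
  exact ⟨i, Finset.mem_univ i, ht⟩

end Basic

section Retract

/-- A ring which is a direct summand (as a module over itself) of a Noetherian ring extension is Noetherian. -/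
theorem isNoetherianRing_of_retraction {A R : Type*} [CommRing A] [CommRing R] [Algebra A R]
    [IsNoetherianRing R] (s : R →ₗ[A] A) (hs : ∀ a, s (algebraMap A R a) = a) :
    IsNoetherianRing A := by
  have hcomap : ∀ I : Ideal A, (I.map (algebraMap A R)).comap (algebraMap A R) = I := by
    intro I
    refine le_antisymm ?_ Ideal.le_comap_map
    intro a ha
    rw [Ideal.mem_comap] at ha
    have h1 : algebraMap A R a ∈ (I • ⊤ : Submodule A R) := by
      rw [Ideal.smul_top_eq_map]; exact ha
    have h2 : s (algebraMap A R a) ∈ (I • ⊤ : Submodule A R).map s := Submodule.mem_map_of_mem h1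
    rw [Submodule.map_smul'', hs] at h2
    have h3 : I • (⊤ : Submodule A R).map s ≤ I • (⊤ : Submodule A A) :=
      Submodule.smul_mono (le_refl I) le_top
    have h4 := h3 h2
    rwa [smul_eq_mul, Ideal.mul_top] at h4
  have hmono : StrictMono (fun I : Ideal A => I.map (algebraMap A R)) := by
    refine Monotone.strictMono_of_injective (fun _ _ h => Ideal.map_mono h) ?_
    intro I J h
    have h' : I.map (algebraMap A R) = J.map (algebraMap A R) := h
    rw [← hcomap I, ← hcomap J, h']
  haveI : WellFoundedGT (Ideal R) := isNoetherian_iff'.mp inferInstance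
  rw [isNoetherianRing_iff, isNoetherian_iff']
  exact hmono.wellFoundedGT

end Retract

section Norm

variable {ι : Type} [AddCommGroup ι] [DecidableEq ι] [Fintype ι]

/-- The circulant matrix of an element of the group algebra: the matrix of multiplication by it. -/
def circ {C : Type*} [CommRing C] (x : AddMonoidAlgebra C ι) : Matrix ι ι C :=
  Matrix.circulant (fun i => x.coeff i)

theorem circ_apply {C : Type*} [CommRing C] (x : AddMonoidAlgebra C ι) (i j : ι) :
    circ x i j = x.coeff (i - j) := rfl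

theorem circ_mul {C : Type*} [CommRing C] (x y : AddMonoidAlgebra C ι) :
    circ (x * y) = circ x * circ y := by
  unfold circ
  rw [Matrix.circulant_mul]
  congr 1
  ext g
  rw [coeff_mul_apply_right, Finsupp.sum_fintype _ _ (fun _ => mul_zero _)]
  simp only [Matrix.mulVec, Matrix.circulant_apply, dotProduct, sub_eq_add_neg]

theorem circ_one {C : Type*} [CommRing C] : circ (1 : AddMonoidAlgebra C ι) = 1 := by
  unfold circ
  rw [← Matrix.circulant_single_one]
  congr 1
  ext i
  rw [one_def, coeff_single, Finsupp.single_apply, Pi.single_apply]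
  by_cases h : i = 0
  · rw [if_pos h, if_pos h.symm]
  · rw [if_neg h, if_neg (fun h' => h h'.symm)]

theorem isUnit_det_circ_of_isUnit {C : Type*} [CommRing C] {x : AddMonoidAlgebra C ι}
    (hx : IsUnit x) : IsUnit (circ x).det := by
  obtain ⟨y, hy⟩ := hx.exists_right_inv
  have := congrArg Matrix.det (circ_mul x y)
  rw [hy, circ_one, Matrix.det_one, Matrix.det_mul] at this
  exact IsUnit.of_mul_eq_one _ this.symm

theorem det_circ_map {C D : Type*} [CommRing C] [CommRing D] (θ : C →+* D)
    (x : AddMonoidAlgebra C ι) : (circ (mapRingHom ι θ x)).det = θ (circ x).det := by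
  rw [RingHom.map_det]
  congr 1

variable {B : Type u} [CommRing B]

theorem dvd_det_of_mulVec_one (M : Matrix ι ι B) (r : B)
    (h : M.mulVec 1 = r • (1 : ι → B)) : r ∣ M.det := by
  set M' := M - r • (1 : Matrix ι ι B) with hM'
  have h1 : M'.mulVec 1 = 0 := by
    rw [hM', Matrix.sub_mulVec, Matrix.smul_mulVec, Matrix.one_mulVec, h, sub_self]
  have h2 : M'.det = 0 := by
    have h3 : (M'.adjugate * M').mulVec 1 = 0 := by
      rw [← Matrix.mulVec_mulVec, h1, Matrix.mulVec_zero]
    rw [Matrix.adjugate_mul, Matrix.smul_mulVec, Matrix.one_mulVec] at h3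
    have := congrFun h3 0
    simpa using this
  have h4 : Ideal.Quotient.mk (Ideal.span {r}) M.det = 0 := by
    rw [RingHom.map_det]
    have h5 : (Ideal.Quotient.mk (Ideal.span {r})).mapMatrix M =
        (Ideal.Quotient.mk (Ideal.span {r})).mapMatrix M' := by
      rw [hM', map_sub]
      have : (Ideal.Quotient.mk (Ideal.span {r})).mapMatrix (r • (1 : Matrix ι ι B)) = 0 := by
        ext i j
        have hr : Ideal.Quotient.mk (Ideal.span {r}) r = 0 :=
          Ideal.Quotient.eq_zero_iff_mem.mpr (Ideal.mem_span_singleton_self r)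
        simp [Matrix.smul_apply, hr]
      rw [this, sub_zero]
    rw [h5, ← RingHom.map_det, h2, map_zero]
  exact Ideal.mem_span_singleton.mp (Ideal.Quotient.eq_zero_iff_mem.mp h4)

variable {ρ : B →+* AddMonoidAlgebra B ι}

/-- The norm of `ρ r` is homogeneous of degree zero. -/
theorem isHom_det_circ (hρ : IsGrCoaction ρ) (r : B) : IsHom ρ 0 (circ (ρ r)).det := by
  rw [Matrix.det_apply]
  refine IsHom.sum _ _ fun σ _ => ?_
  rw [Units.smul_def]
  refine IsHom.zsmul _ ?_
  have h := IsHom.prod (ρ := ρ) Finset.univ (fun i => σ i - i) (fun i => circ (ρ r) (σ i) i)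
    (fun i _ => hρ.isHom_coeff r (σ i - i))
  have hz : ∑ i, (σ i - i) = 0 := by
    rw [Finset.sum_sub_distrib, Equiv.sum_comp σ (fun i => i), sub_self]
  rwa [hz] at h

/-- `r` divides the norm of `ρ r`. -/
theorem dvd_det_circ (hρ : IsGrCoaction ρ) (r : B) : r ∣ (circ (ρ r)).det := by
  apply dvd_det_of_mulVec_one
  ext g
  simp only [Matrix.mulVec, dotProduct, circ_apply, Pi.one_apply, mul_one, Pi.smul_apply,
    smul_eq_mul]
  conv_rhs => rw [← hρ.sum_coeff r]
  exact (Equiv.subLeft g).sum_comp (fun j => (ρ r).coeff j)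

end Norm

section Orbits

variable {ι : Type} [AddCommGroup ι] [DecidableEq ι] [Fintype ι] {B : Type u} [CommRing B]
  {ρ : B →+* AddMonoidAlgebra B ι}

local notation "ιB" => (algebraMap B (AddMonoidAlgebra B ι))

theorem coact_eq_algebraMap_of_mem {a : B} (ha : a ∈ zeroSubring ρ) : ρ a = ιB a := by
  rw [algebraMap_eq_single]
  exact ha

theorem comap_coact_comap_eq (Q : Ideal (AddMonoidAlgebra B ι)) :
    (Q.comap ρ).comap (algebraMap ↥(zeroSubring ρ) B) =
      (Q.comap ιB).comap (algebraMap ↥(zeroSubring ρ) B) := by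
  ext a
  simp only [Ideal.mem_comap]
  have : ρ (algebraMap ↥(zeroSubring ρ) B a) = ιB (algebraMap ↥(zeroSubring ρ) B a) :=
    coact_eq_algebraMap_of_mem a.2
  rw [this]

/-- Incomparability for an integral extension. -/
theorem eq_of_le_of_comap_eq [Algebra.IsIntegral ↥(zeroSubring ρ) B] {n P : Ideal B} [n.IsPrime]
    [P.IsPrime] (hle : n ≤ P)
    (h : n.comap (algebraMap ↥(zeroSubring ρ) B) = P.comap (algebraMap ↥(zeroSubring ρ) B)) :
    n = P := by
  by_contra hne
  have hlt : n < P := lt_of_le_of_ne hle hne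
  obtain ⟨x, hxP, hxn⟩ := Set.exists_of_ssubset hlt
  have := Ideal.comap_lt_comap_of_integral_mem_sdiff hle ⟨hxP, hxn⟩
    (Algebra.IsIntegral.isIntegral (R := ↥(zeroSubring ρ)) x)
  exact this.ne h

/-- The fibres of `Spec B → Spec B₀` are orbits. -/
theorem exists_prime_comap_eq (hρ : IsGrCoaction ρ) [Algebra.IsIntegral ↥(zeroSubring ρ) B]
    (n₀ n : Ideal B) [n₀.IsPrime] [n.IsPrime]
    (h : n₀.comap (algebraMap ↥(zeroSubring ρ) B) = n.comap (algebraMap ↥(zeroSubring ρ) B)) :
    ∃ Q : Ideal (AddMonoidAlgebra B ι), Q.IsPrime ∧ Q.comap ιB = n₀ ∧ Q.comap ρ = n := by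
  classical
  let K := n₀.ResidueField
  let θ : B →+* K := algebraMap B K
  let π : AddMonoidAlgebra B ι →+* AddMonoidAlgebra K ι := mapRingHom ι θ
  let ρb : B →+* AddMonoidAlgebra K ι := π.comp ρ
  haveI : IsArtinianRing (AddMonoidAlgebra K ι) := IsArtinianRing.of_finite K _
  haveI : Fintype (MaximalSpectrum (AddMonoidAlgebra K ι)) := Fintype.ofFinite _
  have hθ : ∀ r : B, θ r = 0 ↔ r ∈ n₀ := fun r => Ideal.algebraMap_residueField_eq_zero
  have hπι : ∀ r : B, π (ιB r) = algebraMap K (AddMonoidAlgebra K ι) (θ r) := by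
    intro r
    rw [algebraMap_eq_single, algebraMap_eq_single]
    exact mapRingHom_single θ 0 r
  -- Step 1: some maximal ideal of `K[ι]` contains the image of `n`.
  have key : ∃ 𝔐 : MaximalSpectrum (AddMonoidAlgebra K ι), n ≤ 𝔐.asIdeal.comap ρb := by
    by_contra hcon
    push Not at hcon
    have hnot : ¬ ((n : Set B) ⊆ ⋃ i ∈ (Finset.univ : Finset (MaximalSpectrum (AddMonoidAlgebra K ι))),
        ((i.asIdeal.comap ρb : Ideal B) : Set B)) := by
      intro hsub
      by_cases hemp : Nonempty (MaximalSpectrum (AddMonoidAlgebra K ι))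
      · obtain ⟨a⟩ := hemp
        obtain ⟨i, -, hi⟩ := (Ideal.subset_union_prime (R := B)
          (s := (Finset.univ : Finset (MaximalSpectrum (AddMonoidAlgebra K ι))))
          (f := fun i => i.asIdeal.comap ρb) a a
          (fun i _ _ _ => Ideal.comap_isPrime ρb i.asIdeal)).mp hsub
        exact hcon i hi
      · rw [not_nonempty_iff] at hemp
        have h0 : (0 : B) ∈ (n : Set B) := n.zero_mem
        have := hsub h0
        simp only [Set.mem_iUnion] at this
        obtain ⟨i, -⟩ := this
        exact hemp.elim i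
    rw [Set.not_subset] at hnot
    obtain ⟨r, hrn, hr⟩ := hnot
    simp only [Set.mem_iUnion, not_exists] at hr
    have hunit : IsUnit (ρb r) := by
      by_contra hnu
      obtain ⟨I, hI, hrI⟩ := exists_max_ideal_of_mem_nonunits hnu
      exact hr ⟨I, hI⟩ (Finset.mem_univ _) hrI
    -- the norm of `ρ r`
    set c := (circ (ρ r)).det with hc
    have hc0A : c ∈ zeroSubring ρ := isHom_det_circ hρ r
    have hdvd : r ∣ c := dvd_det_circ hρ r
    have hcn : c ∈ n := Ideal.mem_of_dvd n hdvd hrn
    have hcn₀ : c ∈ n₀ := by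
      have h1 : (⟨c, hc0A⟩ : ↥(zeroSubring ρ)) ∈ n.comap (algebraMap ↥(zeroSubring ρ) B) := hcn
      rw [← h] at h1
      exact h1
    have h2 : (circ (ρb r)).det = θ c := det_circ_map θ (ρ r)
    have h3 : IsUnit (circ (ρb r)).det := isUnit_det_circ_of_isUnit hunit
    rw [h2, (hθ c).mpr hcn₀] at h3
    exact not_isUnit_zero h3
  obtain ⟨𝔐, h𝔐⟩ := key
  have h𝔐max : 𝔐.asIdeal.IsMaximal := 𝔐.isMaximal
  have hι : (𝔐.asIdeal.comap π).comap ιB = n₀ := by
    ext r
    simp only [Ideal.mem_comap]
    rw [hπι]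
    constructor
    · intro hmem
      by_contra hrn
      have hne : θ r ≠ 0 := fun h0 => hrn ((hθ r).mp h0)
      have hu : IsUnit (algebraMap K (AddMonoidAlgebra K ι) (θ r)) :=
        (isUnit_iff_ne_zero.mpr hne).map _
      exact h𝔐max.ne_top (Ideal.eq_top_of_isUnit_mem _ hmem hu)
    · intro hrn
      rw [(hθ r).mpr hrn, map_zero]
      exact Ideal.zero_mem _
  refine ⟨𝔐.asIdeal.comap π, Ideal.comap_isPrime _ _, hι, ?_⟩
  symm
  have hle : n ≤ (𝔐.asIdeal.comap π).comap ρ := by
    rw [Ideal.comap_comap]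
    exact h𝔐
  haveI : ((𝔐.asIdeal.comap π).comap ρ).IsPrime := Ideal.comap_isPrime _ _
  refine eq_of_le_of_comap_eq (ρ := ρ) hle ?_
  rw [comap_coact_comap_eq, ← h, hι]

/-- Going-down for the degree-zero part of a grading by a finite group. -/
theorem hasGoingDown_zeroSubring (hρ : IsGrCoaction ρ) [Algebra.IsIntegral ↥(zeroSubring ρ) B] :
    Algebra.HasGoingDown ↥(zeroSubring ρ) B := by
  refine ⟨fun {p'} _ n _ hlt => ?_⟩
  -- lying over for `p'`
  obtain ⟨n₀', -, hn₀'prime, hn₀'⟩ := Ideal.exists_ideal_over_prime_of_isIntegral p'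
    (⊥ : Ideal B) (by
      rw [← RingHom.ker_eq_comap_bot]
      have hinj : Function.Injective (algebraMap ↥(zeroSubring ρ) B) := Subtype.val_injective
      rw [(RingHom.injective_iff_ker_eq_bot _).mp hinj]
      exact bot_le)
  haveI := hn₀'prime
  -- going up
  haveI : (n.under ↥(zeroSubring ρ)).IsPrime := Ideal.comap_isPrime _ _
  obtain ⟨n₀, hn₀le, hn₀prime, hn₀⟩ := Ideal.exists_ideal_over_prime_of_isIntegral
    (n.under ↥(zeroSubring ρ)) n₀' (by rw [hn₀']; exact hlt.le)
  haveI := hn₀prime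
  -- transitivity
  obtain ⟨Q, hQprime, hQι, hQρ⟩ := exists_prime_comap_eq hρ n₀ n hn₀
  haveI := hQprime
  -- flat going-down for `ιB`
  haveI : Q.LiesOver n₀ := ⟨hQι.symm⟩
  obtain ⟨Q', hQ'le, hQ'prime, hQ'over⟩ :=
    Ideal.exists_ideal_le_liesOver_of_le (p := n₀') (q := n₀) Q hn₀le
  haveI := hQ'prime
  refine ⟨Q'.comap ρ, ?_, Ideal.comap_isPrime _ _, ⟨?_⟩⟩
  · rw [← hQρ]
    exact Ideal.comap_mono hQ'le
  · change p' = (Q'.comap ρ).comap (algebraMap ↥(zeroSubring ρ) B)
    rw [comap_coact_comap_eq, ← hn₀']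
    congr 1
    exact hQ'over.over

end Orbits

section Main

variable {ι : Type} [AddCommGroup ι] [DecidableEq ι] [Fintype ι] {B : Type u} [CommRing B]
  {ρ : B →+* AddMonoidAlgebra B ι}

theorem isNoetherianRing_zeroSubring [IsNoetherianRing B] (hρ : IsGrCoaction ρ) :
    IsNoetherianRing ↥(zeroSubring ρ) :=
  isNoetherianRing_of_retraction (retr hρ) (retr_algebraMap hρ)

/-- `(S_k)` descends to the degree-zero part of a grading by a finite group. -/
theorem hasSk_zeroSubring [IsNoetherianRing B] (hρ : IsGrCoaction ρ) (k : ℕ)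
    (hB : LocCoh.HasSk k B B) : LocCoh.HasSk k ↥(zeroSubring ρ) ↥(zeroSubring ρ) := by
  haveI := isNoetherianRing_zeroSubring hρ
  haveI := finite_zeroSubring hρ
  haveI : Algebra.IsIntegral ↥(zeroSubring ρ) B := Algebra.IsIntegral.of_finite _ _
  haveI := hasGoingDown_zeroSubring hρ
  exact (Groth.Agent.Lib.LeadHE.hasSk_of_split (A := ↥(zeroSubring ρ)) (R := B) k hB).2
    (retr hρ) (retr_algebraMap hρ)

/-- Cohen–Macaulayness descends to the degree-zero part of a grading by a finite group. -/
theorem isCohenMacaulayRing_zeroSubring (hρ : IsGrCoaction ρ)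
    (hB : LocCoh.IsCohenMacaulayRing B) : LocCoh.IsCohenMacaulayRing ↥(zeroSubring ρ) := by
  haveI : IsNoetherianRing B := by haveI := hB; infer_instance
  haveI := isNoetherianRing_zeroSubring hρ
  haveI := finite_zeroSubring hρ
  haveI : Algebra.IsIntegral ↥(zeroSubring ρ) B := Algebra.IsIntegral.of_finite _ _
  haveI := hasGoingDown_zeroSubring hρ
  exact (Groth.Agent.Lib.LeadHE.isCohenMacaulayRing_of_split (A := ↥(zeroSubring ρ)) (R := B)
    (retr hρ) (retr_algebraMap hρ) hB).1

end Main

end Groth.Agent.Lib.LeadGrHE
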