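import Mathlib
import Groth.Agent.Lib.LeadGrHEa
import Groth.Agent.Lib.Helper28DepthFlat3
import Groth.Agent.Lib.Helper28PolyCM
import Groth.Agent.Lib.Helper28SkLift
import Groth.Agent.Lib.Helper5TensorFieldsCM
import Groth.Agent.Lib.Helper5TensorSk

/-!
# The degree-zero localization `A_(f)` of a Cohen–Macaulay / `(S_k)` graded ring (lead)

`A` an `ℕ`-graded ring, `f` homogeneous of degree `m > 0`, `B = A_f`.  For a homomorphism `φ : ℕ → κ` to an
abelian group the grading of `A` induces a coaction `coactB φ : B → B[κ]` (`a / f^k ↦ (a / f^k) t^{φ n - k φ m}` for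
`a ∈ A_n`).  With `κ = ℤ` the degree-zero part is `A_(f)`; with `κ = ℤ/m` the degree-zero part `B₀'` is a free
`A_(f)`-module (basis `f^k`, `k ∈ ℤ`).  Hochster–Eagon for the `ℤ/m`-grading (`LeadGrHEa`) and faithfully flat
descent give: `A_(f)` is Cohen–Macaulay, resp. `(S_k)`, when `A` is.
-/

set_option autoImplicit false
set_option maxHeartbeats 400000
set_option linter.style.haveILetI false
set_option linter.unusedSectionVars false
set_option linter.unusedVariables false

universe u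

noncomputable section

namespace Groth.Agent.Lib.LeadGrHE

open AddMonoidAlgebra HomogeneousLocalization

section CoactA

variable {A : Type u} [CommRing A] (𝒜 : ℕ → AddSubgroup A) [GradedRing 𝒜]
variable {κ : Type} [AddCommGroup κ] [DecidableEq κ] (φ : ℕ →+ κ)

/-- The coaction `a_n ↦ a_n t^{φ n}` of a graded ring. -/
def coactA : A →+* AddMonoidAlgebra A κ :=
  (DirectSum.toSemiring
    (fun n => (AddMonoidAlgebra.singleAddHom (φ n)).comp (𝒜 n).subtype)
    (by
      change AddMonoidAlgebra.single (φ 0) (1 : A) = 1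
      rw [map_zero]
      rfl)
    (by
      intro i j ai aj
      change AddMonoidAlgebra.single (φ (i + j)) ((ai : A) * (aj : A)) =
        AddMonoidAlgebra.single (φ i) (ai : A) * AddMonoidAlgebra.single (φ j) (aj : A)
      rw [AddMonoidAlgebra.single_mul_single, map_add])).comp
    (DirectSum.decomposeRingEquiv 𝒜).toRingHom

theorem coactA_of_mem {n : ℕ} {a : A} (ha : a ∈ 𝒜 n) : coactA 𝒜 φ a = single (φ n) a := by
  unfold coactA
  rw [RingHom.comp_apply]
  change DirectSum.toSemiring _ _ _ (DirectSum.decompose 𝒜 a) = _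
  rw [DirectSum.decompose_of_mem 𝒜 ha, DirectSum.toSemiring_of]
  rfl

end CoactA

section CoactB

variable {A : Type u} [CommRing A] (𝒜 : ℕ → AddSubgroup A) [GradedRing 𝒜]
variable {κ : Type} [AddCommGroup κ] [DecidableEq κ] (φ : ℕ →+ κ)
variable {f : A} {m : ℕ} (hf : f ∈ 𝒜 m)

/-- `f ^ k` as an element of the submonoid of powers. -/
def pw (f : A) (k : ℕ) : Submonoid.powers f := ⟨f ^ k, ⟨k, rfl⟩⟩

include hf in
theorem isUnit_coact_f :
    IsUnit (((mapRingHom κ (algebraMap A (Localization.Away f))).comp (coactA 𝒜 φ)) f) := by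
  rw [RingHom.comp_apply, coactA_of_mem 𝒜 φ hf, mapRingHom_single]
  obtain ⟨u, hu⟩ := IsLocalization.Away.algebraMap_isUnit (S := Localization.Away f) f
  rw [← hu]
  refine IsUnit.of_mul_eq_one
    (single (-(φ m)) ((u⁻¹ : (Localization.Away f)ˣ) : Localization.Away f)) ?_
  rw [single_mul_single, add_neg_cancel, Units.mul_inv]
  rfl

/-- The coaction on `A_f`. -/
def coactB : Localization.Away f →+* AddMonoidAlgebra (Localization.Away f) κ :=
  IsLocalization.Away.lift f
    (g := (mapRingHom κ (algebraMap A (Localization.Away f))).comp (coactA 𝒜 φ))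
    (isUnit_coact_f 𝒜 φ hf)

theorem coactB_algebraMap (a : A) :
    coactB 𝒜 φ hf (algebraMap A (Localization.Away f) a) =
      mapRingHom κ (algebraMap A (Localization.Away f)) (coactA 𝒜 φ a) :=
  IsLocalization.Away.lift_eq _ _ _

/-- Homogeneous fractions are homogeneous. -/
theorem isHom_coactB_mk {n : ℕ} {a : A} (ha : a ∈ 𝒜 n) (k : ℕ) :
    IsHom (coactB 𝒜 φ hf) (φ n - k • φ m) (Localization.mk a (pw f k)) := by
  unfold IsHom
  set x := Localization.mk a (pw f k) with hx
  obtain ⟨v, hv⟩ := IsLocalization.map_units (Localization.Away f) (pw f k)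
  have h1 : x * (v : Localization.Away f) = algebraMap A (Localization.Away f) a := by
    rw [hv, hx, Localization.mk_eq_mk']
    exact IsLocalization.mk'_spec _ _ _
  have hfk : f ^ k ∈ 𝒜 (k • m) := SetLike.pow_mem_graded k hf
  have h2 : coactB 𝒜 φ hf (v : Localization.Away f) =
      single (k • φ m) (v : Localization.Away f) := by
    rw [hv]
    change coactB 𝒜 φ hf (algebraMap A _ (f ^ k)) = single (k • φ m) (algebraMap A _ (f ^ k))
    rw [coactB_algebraMap, coactA_of_mem 𝒜 φ hfk, mapRingHom_single, map_nsmul]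
  have h3 := congrArg (coactB 𝒜 φ hf) h1
  rw [map_mul, h2, coactB_algebraMap, coactA_of_mem 𝒜 φ ha, mapRingHom_single] at h3
  have h4 : coactB 𝒜 φ hf x = coactB 𝒜 φ hf x * single (k • φ m) (v : Localization.Away f) *
      single (-(k • φ m)) ((v⁻¹ : (Localization.Away f)ˣ) : Localization.Away f) := by
    rw [mul_assoc, single_mul_single, add_neg_cancel, Units.mul_inv, ← one_def, mul_one]
  rw [h4, h3, single_mul_single, ← sub_eq_add_neg]
  congr 1
  rw [← h1, mul_assoc, Units.mul_inv, mul_one]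

/-- The coaction on `A_f` is a grading coaction. -/
theorem isGrCoaction_coactB : IsGrCoaction (coactB 𝒜 φ hf) := by
  set ρ := coactB 𝒜 φ hf with hρdef
  let Q : Localization.Away f → Prop := fun b =>
    (ρ b).coeff.sum (fun _ c => c) = b ∧ ∀ j, IsHom ρ j ((ρ b).coeff j)
  have hQ0 : ∀ (d : κ) (b : Localization.Away f), IsHom ρ d b → Q b := by
    intro d b hb
    constructor
    · rw [hb, coeff_single, Finsupp.sum_single_index rfl]
    · intro j
      rw [coeff_of_isHom hb]
      split_ifs with h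
      · subst h; exact hb
      · exact IsHom.zero ρ j
  have hQadd : ∀ b b', Q b → Q b' → Q (b + b') := by
    intro b b' h h'
    constructor
    · rw [map_add, coeff_add, Finsupp.sum_add_index' (fun _ => rfl) (fun _ _ _ => rfl), h.1, h'.1]
    · intro j
      rw [map_add, coeff_add, Finsupp.add_apply]
      exact (h.2 j).add (h'.2 j)
  have hQzero : Q 0 := by
    constructor
    · rw [map_zero, coeff_zero, Finsupp.sum_zero_index]
    · intro j
      rw [map_zero, coeff_zero, Finsupp.zero_apply]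
      exact IsHom.zero ρ j
  have hall : ∀ b, Q b := by
    intro b
    induction b using Localization.induction_on with
    | H y =>
      obtain ⟨a, ⟨_, k, rfl⟩⟩ := y
      change Q (Localization.mk a (pw f k))
      induction a using DirectSum.Decomposition.inductionOn 𝒜 with
      | zero => rw [Localization.mk_zero]; exact hQzero
      | @homogeneous n a => exact hQ0 _ _ (isHom_coactB_mk 𝒜 φ hf a.2 k)
      | add a a' h h' => rw [← Localization.add_mk_self]; exact hQadd _ _ h h'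
  exact ⟨fun b => (hall b).1, fun b j => (hall b).2 j⟩

/-- Compatibility with a change of grading group. -/
theorem coactB_comp {κ' : Type} [AddCommGroup κ'] [DecidableEq κ'] (ψ : κ →+ κ') :
    coactB 𝒜 (ψ.comp φ) hf =
      (mapDomainRingHom (Localization.Away f) ψ).comp (coactB 𝒜 φ hf) := by
  apply IsLocalization.ringHom_ext (Submonoid.powers f)
  refine RingHom.ext fun a => ?_
  simp only [RingHom.comp_apply]
  rw [coactB_algebraMap, coactB_algebraMap]
  induction a using DirectSum.Decomposition.inductionOn 𝒜 with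
  | zero => simp
  | @homogeneous n a =>
    rw [coactA_of_mem 𝒜 _ a.2, coactA_of_mem 𝒜 _ a.2, mapRingHom_single, mapRingHom_single,
      mapDomainRingHom_apply, mapDomain_single]
    rfl
  | add a a' h h' => rw [map_add, map_add, map_add, map_add, map_add, h, h']

theorem IsHom.comp_coactB {κ' : Type} [AddCommGroup κ'] [DecidableEq κ'] (ψ : κ →+ κ') {d : κ}
    {b : Localization.Away f} (h : IsHom (coactB 𝒜 φ hf) d b) :
    IsHom (coactB 𝒜 (ψ.comp φ) hf) (ψ d) b := by
  unfold IsHom at *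
  rw [coactB_comp, RingHom.comp_apply, h, mapDomainRingHom_apply, mapDomain_single]

/-- Elements of `A_(f)` are homogeneous of degree zero. -/
theorem isHom_val (z : Away 𝒜 f) : IsHom (coactB 𝒜 φ hf) 0 z.val := by
  obtain ⟨k, a, ha, rfl⟩ := Away.mk_surjective 𝒜 hf z
  rw [Away.val_mk]
  have := isHom_coactB_mk 𝒜 φ hf ha k
  rwa [map_nsmul, sub_self] at this

end CoactB

section DegZ

variable {A : Type u} [CommRing A] (𝒜 : ℕ → AddSubgroup A) [GradedRing 𝒜]
variable {f : A} {m : ℕ} (hf : f ∈ 𝒜 m)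

/-- For the `ℤ`-grading of `A_f`, the degree-zero elements are exactly `A_(f)`. -/
theorem exists_val_eq_of_isHom_zero {x : Localization.Away f}
    (hx : IsHom (coactB 𝒜 (Nat.castAddMonoidHom ℤ) hf) 0 x) : ∃ z : Away 𝒜 f, z.val = x := by
  induction x using Localization.induction_on with
  | H y =>
    obtain ⟨a, ⟨_, k, rfl⟩⟩ := y
    change IsHom _ 0 (Localization.mk a (pw f k)) at hx
    change ∃ z : Away 𝒜 f, z.val = Localization.mk a (pw f k)
    have key : ∀ a' : A, ((coactB 𝒜 (Nat.castAddMonoidHom ℤ) hf)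
        (Localization.mk a' (pw f k))).coeff 0 =
        Localization.mk ((DirectSum.decompose 𝒜 a' (k • m) : A)) (pw f k) := by
      intro a'
      induction a' using DirectSum.Decomposition.inductionOn 𝒜 with
      | zero => simp [Localization.mk_zero]
      | @homogeneous n a' =>
        rw [coeff_of_isHom (isHom_coactB_mk 𝒜 (Nat.castAddMonoidHom ℤ) hf a'.2 k)]
        by_cases h : n = k • m
        · subst h
          rw [if_pos (by simp), DirectSum.decompose_of_mem_same 𝒜 a'.2]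
        · rw [if_neg, DirectSum.decompose_of_mem_ne 𝒜 a'.2 h, Localization.mk_zero]
          intro h0
          apply h
          simp only [Nat.coe_castAddMonoidHom, nsmul_eq_mul, smul_eq_mul] at h0 ⊢
          have : (n : ℤ) = (k : ℤ) * (m : ℤ) := by linarith
          exact_mod_cast this
      | add a₁ a₂ h₁ h₂ =>
        rw [← Localization.add_mk_self, map_add, coeff_add, Finsupp.add_apply, h₁, h₂,
          DirectSum.decompose_add, DirectSum.add_apply, AddMemClass.coe_add,
          Localization.add_mk_self]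
    have h2 := key a
    rw [coeff_self_of_isHom hx] at h2
    refine ⟨Away.mk 𝒜 hf k _ (DirectSum.decompose 𝒜 a (k • m)).2, ?_⟩
    rw [Away.val_mk]
    exact h2.symm

end DegZ

section General

open Groth.Agent.Lib.Helper28

/-- `(S_k)` passes to localizations. -/
theorem hasSk_of_isLocalization {A : Type u} [CommRing A] [IsNoetherianRing A] (T : Submonoid A)
    (B : Type u) [CommRing B] [Algebra A B] [IsLocalization T B] (k : ℕ)
    (h : LocCoh.HasSk k A A) : LocCoh.HasSk k B B := by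
  haveI : IsNoetherianRing B := IsLocalization.isNoetherianRing T B inferInstance
  rw [hasSk_self_iff_enat] at h ⊢
  intro Q hQ
  have hp : (Q.comap (algebraMap A B)).IsPrime := Ideal.comap_isPrime _ _
  haveI : IsLocalization.AtPrime (Localization.AtPrime Q) (Q.comap (algebraMap A B)) :=
    IsLocalization.isLocalization_isLocalization_atPrime_isLocalization T
      (Localization.AtPrime Q) Q
  have e := (IsLocalization.algEquiv (Q.comap (algebraMap A B)).primeCompl
    (Localization.AtPrime (Q.comap (algebraMap A B))) (Localization.AtPrime Q)).toRingEquiv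
  have h1 := depth_self_eq_of_ringEquiv e
  have h2 : (Q.comap (algebraMap A B)).height = Q.height := IsLocalization.height_under T Q
  rw [← h1, ← h2]
  exact h (Q.comap (algebraMap A B))

theorem hasSk_of_isCohenMacaulayRing {R : Type u} [CommRing R]
    (hR : LocCoh.IsCohenMacaulayRing R) (k : ℕ) : LocCoh.HasSk k R R := by
  rw [hasSk_self_iff_enat]
  intro p hp
  have h := (hR.isCohenMacaulayLocalRing_localization p).supportDim_eq_depth
  rw [supportDim_localization_self] at h
  have h' : p.height = LocCoh.depth (Localization.AtPrime p) (Localization.AtPrime p) :=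
    WithBot.coe_injective h
  rw [← h']
  exact min_le_right _ _

theorem isCohenMacaulayRing_of_forall_hasSk {R : Type u} [CommRing R] [IsNoetherianRing R]
    (h : ∀ k : ℕ, LocCoh.HasSk k R R) : LocCoh.IsCohenMacaulayRing R := by
  refine { isCohenMacaulayLocalRing_localization := fun p hp => ?_ }
  refine { supportDim_eq_depth := ?_ }
  apply le_antisymm
  · rw [supportDim_localization_self]
    have hfin : p.height ≠ ⊤ := Ideal.height_ne_top hp.ne_top
    obtain ⟨n, hn⟩ := ENat.ne_top_iff_exists.mp hfin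
    have := (hasSk_self_iff_enat n).mp (h n) p
    rw [← hn, min_self] at this
    rw [← hn]
    exact_mod_cast this
  · exact depth_le_supportDim

end General

section Free

variable {A : Type u} [CommRing A] (𝒜 : ℕ → AddSubgroup A) [GradedRing 𝒜]
variable {f : A} {m : ℕ} (hf : f ∈ 𝒜 m)
variable {κ : Type} [AddCommGroup κ] [DecidableEq κ] (ψ : ℤ →+ κ)

/-- The `ℤ`-grading coaction on `A_f`. -/
abbrev ρZ : Localization.Away f →+* AddMonoidAlgebra (Localization.Away f) ℤ :=
  coactB 𝒜 (Nat.castAddMonoidHom ℤ) hf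

/-- The coarsened `κ`-grading coaction on `A_f` (`ψ : ℤ → κ`). -/
abbrev ρψ : Localization.Away f →+* AddMonoidAlgebra (Localization.Away f) κ :=
  coactB 𝒜 (ψ.comp (Nat.castAddMonoidHom ℤ)) hf

theorem isHom_ρψ_of_isHom_ρZ {n : ℤ} {b : Localization.Away f} (h : IsHom (ρZ 𝒜 hf) n b) :
    IsHom (ρψ 𝒜 hf ψ) (ψ n) b :=
  IsHom.comp_coactB 𝒜 (Nat.castAddMonoidHom ℤ) hf ψ h

/-- The unit `f ^ k`, `k ∈ ℤ`, of `A_f`. -/
def ek (f : A) (k : ℤ) : Localization.Away f :=
  Localization.mk (f ^ k.toNat) (pw f (-k).toNat)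

theorem isHom_ek (k : ℤ) : IsHom (ρZ 𝒜 hf) (k * m) (ek f k) := by
  have h := isHom_coactB_mk 𝒜 (Nat.castAddMonoidHom ℤ) hf (SetLike.pow_mem_graded k.toNat hf)
    (-k).toNat
  have hd : (Nat.castAddMonoidHom ℤ) (k.toNat • m) - (-k).toNat • (Nat.castAddMonoidHom ℤ) m =
      k * m := by
    simp only [Nat.coe_castAddMonoidHom, nsmul_eq_mul, smul_eq_mul, Nat.cast_mul]
    rw [← sub_mul, Int.toNat_sub_toNat_neg]
  rwa [hd] at h

theorem ek_mul_ek_neg (k : ℤ) : ek f k * ek f (-k) = 1 := by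
  unfold ek
  rw [neg_neg, Localization.mk_mul]
  have : f ^ k.toNat * f ^ (-k).toNat =
      ((pw f (-k).toNat * pw f k.toNat : Submonoid.powers f) : A) := by
    simp [pw, mul_comm]
  rw [this, Localization.mk_self]

theorem coeff_ρZ_sum (hm : m ≠ 0) (c : ℤ →₀ Away 𝒜 f) (k₀ : ℤ) :
    ((ρZ 𝒜 hf) (c.sum fun k r => r.val * ek f k)).coeff (k₀ * m) = (c k₀).val * ek f k₀ := by
  classical
  rw [Finsupp.sum, coeff_finset_sum]
  have hterm : ∀ k ∈ c.support, ((ρZ 𝒜 hf) ((c k).val * ek f k)).coeff (k₀ * m) =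
      if k = k₀ then (c k₀).val * ek f k₀ else 0 := by
    intro k _
    have h1 : IsHom (ρZ 𝒜 hf) (0 + k * m) ((c k).val * ek f k) :=
      (isHom_val 𝒜 _ hf (c k)).mul (isHom_ek 𝒜 hf k)
    rw [zero_add] at h1
    rw [coeff_of_isHom h1]
    by_cases h : k = k₀
    · subst h; rw [if_pos rfl, if_pos rfl]
    · rw [if_neg h, if_neg]
      intro h'
      exact h (mul_right_cancel₀ (Int.natCast_ne_zero.mpr hm) h')
  rw [Finset.sum_congr rfl hterm, Finset.sum_ite_eq' c.support k₀]
  split_ifs with h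
  · rfl
  · rw [Finsupp.notMem_support_iff.mp h, HomogeneousLocalization.val_zero, zero_mul]

include hf in
theorem eq_zero_of_sum_eq_zero (hm : m ≠ 0) (c : ℤ →₀ Away 𝒜 f)
    (h : (c.sum fun k r => r.val * ek f k) = 0) : c = 0 := by
  ext k₀
  have h1 := coeff_ρZ_sum 𝒜 hf hm c k₀
  rw [h] at h1
  have h0 : ((ρZ 𝒜 hf) 0).coeff (k₀ * m) = 0 := by simp
  rw [h0] at h1
  have h2 : (c k₀).val = 0 := by
    calc (c k₀).val = (c k₀).val * ek f k₀ * ek f (-k₀) := by
          rw [mul_assoc, ek_mul_ek_neg, mul_one]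
      _ = 0 := by rw [← h1, zero_mul]
  rw [h2, Finsupp.zero_apply, HomogeneousLocalization.val_zero]

theorem exists_sum_eq_of_isHom_zero (hψ : ∀ n : ℤ, ψ n = 0 ↔ (m : ℤ) ∣ n)
    {x : Localization.Away f} (hx : IsHom (ρψ 𝒜 hf ψ) 0 x) :
    ∃ c : ℤ →₀ Away 𝒜 f, (c.sum fun k r => r.val * ek f k) = x := by
  classical
  have hρZ := isGrCoaction_coactB 𝒜 (Nat.castAddMonoidHom ℤ) hf
  set S := ((ρZ 𝒜 hf) x).coeff.support with hS
  have hsum : x = ∑ n ∈ S, ((ρZ 𝒜 hf) x).coeff n := (hρZ.counit x).symm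
  have hS2 : ∀ n : ℤ, ¬ ((m : ℤ) ∣ n) → ((ρZ 𝒜 hf) x).coeff n = 0 := by
    intro n hn
    have hj : ψ n ≠ 0 := fun h0 => hn ((hψ n).mp h0)
    have hy0 : ((ρψ 𝒜 hf ψ) x).coeff (ψ n) = 0 := by
      rw [coeff_of_isHom hx, if_neg (Ne.symm hj)]
    have hy1 : ((ρψ 𝒜 hf ψ) x).coeff (ψ n) = ∑ n' ∈ S,
        if ψ n' = ψ n then ((ρZ 𝒜 hf) x).coeff n' else 0 := by
      conv_lhs => rw [hsum, coeff_finset_sum]
      refine Finset.sum_congr rfl fun n' _ => ?_
      rw [coeff_of_isHom (isHom_ρψ_of_isHom_ρZ 𝒜 hf ψ (hρZ.isHom_coeff x n'))]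
    have hy2 : ((ρZ 𝒜 hf) (∑ n' ∈ S,
        if ψ n' = ψ n then ((ρZ 𝒜 hf) x).coeff n' else 0)).coeff n =
        ((ρZ 𝒜 hf) x).coeff n := by
      rw [coeff_finset_sum]
      have hterm : ∀ n' ∈ S, ((ρZ 𝒜 hf) (if ψ n' = ψ n then
          ((ρZ 𝒜 hf) x).coeff n' else 0)).coeff n =
          if n' = n then ((ρZ 𝒜 hf) x).coeff n else 0 := by
        intro n' _
        by_cases h1 : n' = n
        · subst h1
          rw [if_pos rfl, if_pos rfl, coeff_self_of_isHom (hρZ.isHom_coeff x n')]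
        · rw [if_neg h1]
          split_ifs
          · rw [coeff_of_isHom (hρZ.isHom_coeff x n'), if_neg h1]
          · simp
      rw [Finset.sum_congr rfl hterm, Finset.sum_ite_eq' S n]
      split_ifs with h
      · rfl
      · exact (Finsupp.notMem_support_iff.mp h).symm
    rw [← hy2, ← hy1, hy0]
    simp
  rw [hsum]
  refine Finset.sum_induction _
    (fun y => ∃ c : ℤ →₀ Away 𝒜 f, (c.sum fun k r => r.val * ek f k) = y) ?_ ?_ ?_
  · rintro a b ⟨c, rfl⟩ ⟨c', rfl⟩
    refine ⟨c + c', ?_⟩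
    rw [Finsupp.sum_add_index' (by intro k; simp) (by intro k r r'; simp [add_mul])]
  · exact ⟨0, by simp⟩
  · intro n _
    by_cases hn : (m : ℤ) ∣ n
    · obtain ⟨k, rfl⟩ := hn
      have h1 : IsHom (ρZ 𝒜 hf) 0 (((ρZ 𝒜 hf) x).coeff (m * k) * ek f (-k)) := by
        have := (hρZ.isHom_coeff x (m * k)).mul (isHom_ek 𝒜 hf (-k))
        have hd : (m : ℤ) * k + (-k) * m = 0 := by ring
        rwa [hd] at this
      obtain ⟨z, hz⟩ := exists_val_eq_of_isHom_zero 𝒜 hf h1
      refine ⟨Finsupp.single k z, ?_⟩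
      rw [Finsupp.sum_single_index (by simp), hz, mul_assoc, mul_comm (ek f (-k)),
        ek_mul_ek_neg, mul_one]
    · exact ⟨0, by rw [hS2 n hn]; simp⟩

/-- `A_(f) → B₀'`. -/
def toZero : Away 𝒜 f →+* ↥(zeroSubring (ρψ 𝒜 hf ψ)) :=
  (algebraMap (Away 𝒜 f) (Localization.Away f)).codRestrict (zeroSubring (ρψ 𝒜 hf ψ))
    (fun z => by
      rw [HomogeneousLocalization.algebraMap_apply]
      exact isHom_val 𝒜 _ hf z)

theorem ek_mem (hψ : ∀ n : ℤ, ψ n = 0 ↔ (m : ℤ) ∣ n) (k : ℤ) :
    ek f k ∈ zeroSubring (ρψ 𝒜 hf ψ) := by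
  have := isHom_ρψ_of_isHom_ρZ 𝒜 hf ψ (isHom_ek 𝒜 hf k)
  rwa [(hψ (k * m)).mpr (dvd_mul_left _ _)] at this

/-- The degree-zero part of the `ℤ/m`-grading of `A_f` is a free `A_(f)`-module (on the powers of `f`). -/
theorem faithfullyFlat_zeroSubring (hm : m ≠ 0) (hψ : ∀ n : ℤ, ψ n = 0 ↔ (m : ℤ) ∣ n) :
    letI := (toZero 𝒜 hf ψ).toAlgebra
    Module.FaithfullyFlat (Away 𝒜 f) ↥(zeroSubring (ρψ 𝒜 hf ψ)) := by
  letI := (toZero 𝒜 hf ψ).toAlgebra
  classical
  let Φ : (ℤ →₀ Away 𝒜 f) →ₗ[Away 𝒜 f] ↥(zeroSubring (ρψ 𝒜 hf ψ)) :=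
    Finsupp.linearCombination _ (fun k => ⟨ek f k, ek_mem 𝒜 hf ψ hψ k⟩)
  have hΦ : ∀ c, ((Φ c : ↥(zeroSubring (ρψ 𝒜 hf ψ))) : Localization.Away f) =
      c.sum fun k r => r.val * ek f k := by
    intro c
    simp only [Φ, Finsupp.linearCombination_apply, Finsupp.sum]
    rw [AddSubmonoidClass.coe_finsetSum]
    refine Finset.sum_congr rfl fun k _ => ?_
    rfl
  have hinj : Function.Injective Φ := by
    rw [← LinearMap.ker_eq_bot, LinearMap.ker_eq_bot']
    intro c hc
    apply eq_zero_of_sum_eq_zero 𝒜 hf hm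
    rw [← hΦ, hc]
    rfl
  have hsurj : Function.Surjective Φ := by
    intro x
    obtain ⟨c, hc⟩ := exists_sum_eq_of_isHom_zero 𝒜 hf ψ hψ x.2
    exact ⟨c, Subtype.ext (by rw [hΦ, hc])⟩
  exact Module.FaithfullyFlat.of_linearEquiv _ (ℤ →₀ Away 𝒜 f)
    (LinearEquiv.ofBijective Φ ⟨hinj, hsurj⟩).symm

end Free

section Main

variable {A : Type u} [CommRing A] (𝒜 : ℕ → AddSubgroup A) [GradedRing 𝒜]
variable {f : A} {m : ℕ} (hf : f ∈ 𝒜 m)
variable {κ : Type} [AddCommGroup κ] [DecidableEq κ] [Fintype κ] (ψ : ℤ →+ κ)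

include hf in
theorem hasSk_away_aux [IsNoetherianRing A] (hm : m ≠ 0) (hψ : ∀ n : ℤ, ψ n = 0 ↔ (m : ℤ) ∣ n)
    (k : ℕ) (hA : LocCoh.HasSk k A A) :
    IsNoetherianRing (Away 𝒜 f) ∧ LocCoh.HasSk k (Away 𝒜 f) (Away 𝒜 f) := by
  letI := (toZero 𝒜 hf ψ).toAlgebra
  haveI := faithfullyFlat_zeroSubring 𝒜 hf ψ hm hψ
  have hρ := isGrCoaction_coactB 𝒜 (ψ.comp (Nat.castAddMonoidHom ℤ)) hf
  haveI : IsNoetherianRing (Localization.Away f) :=
    IsLocalization.isNoetherianRing (Submonoid.powers f) _ inferInstance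
  have hB : LocCoh.HasSk k (Localization.Away f) (Localization.Away f) :=
    hasSk_of_isLocalization (Submonoid.powers f) _ k hA
  have h0 := hasSk_zeroSubring hρ k hB
  haveI := isNoetherianRing_zeroSubring hρ
  exact ⟨Groth.Agent.Lib.Helper28.isNoetherianRing_of_faithfullyFlat (R := Away 𝒜 f)
    (S := ↥(zeroSubring (ρψ 𝒜 hf ψ))),
    Groth.Agent.Lib.Helper28.hasSk_of_faithfullyFlat (R := Away 𝒜 f)
    (S := ↥(zeroSubring (ρψ 𝒜 hf ψ))) k h0⟩

end Main

section Final

variable {A : Type u} [CommRing A] (𝒜 : ℕ → AddSubgroup A) [GradedRing 𝒜]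
variable {f : A} {m : ℕ} (hf : f ∈ 𝒜 m)

include hf in
theorem hasSk_away_aux' [IsNoetherianRing A] (hm : m ≠ 0) (k : ℕ) (hA : LocCoh.HasSk k A A) :
    IsNoetherianRing (Away 𝒜 f) ∧ LocCoh.HasSk k (Away 𝒜 f) (Away 𝒜 f) := by
  haveI : NeZero m := ⟨hm⟩
  exact hasSk_away_aux 𝒜 hf (Int.castAddHom (ZMod m)) hm
    (fun n => ZMod.intCast_zmod_eq_zero_iff_dvd n m) k hA

include hf in
/-- `A_(f)` satisfies `(S_k)` if `A` does (`deg f > 0`). -/
theorem hasSk_away [IsNoetherianRing A] (hm : m ≠ 0) (k : ℕ) (hA : LocCoh.HasSk k A A) :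
    LocCoh.HasSk k (Away 𝒜 f) (Away 𝒜 f) :=
  (hasSk_away_aux' 𝒜 hf hm k hA).2

include hf in
/-- `A_(f)` is Cohen–Macaulay if `A` is (`deg f > 0`). -/
theorem isCohenMacaulayRing_away (hm : m ≠ 0) (hA : LocCoh.IsCohenMacaulayRing A) :
    LocCoh.IsCohenMacaulayRing (Away 𝒜 f) := by
  haveI : IsNoetherianRing A := by haveI := hA; infer_instance
  haveI := (hasSk_away_aux' 𝒜 hf hm 0 (hasSk_of_isCohenMacaulayRing hA 0)).1
  exact isCohenMacaulayRing_of_forall_hasSk fun k =>
    hasSk_away 𝒜 hf hm k (hasSk_of_isCohenMacaulayRing hA k)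

end Final

end Groth.Agent.Lib.LeadGrHE
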