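import Groth.Agent.Lib.Helper28FormalFibres
import Groth.Agent.Lib.Helper28DepthFlat3
import Groth.Agent.Lib.Helper5RLR3
import Groth.Agent.Lib.Helper5TensorSk
import Groth.Agent.Lib.Helper6FSReg
import Groth.Agent.Lib.Helper6SmRk

set_option autoImplicit false
set_option linter.style.haveILetI false
set_option linter.unusedSectionVars false
universe u

open AlgebraicGeometry CategoryTheory CategoryTheory.Limits
open Groth.Agent.Lib.Helper28

namespace Groth.Agent.Lib.T2H9.SmSk

/-- A regular ring satisfies `(S_k)` for all `k`. -/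
theorem hasSk_of_isRegularRing (k : ℕ) (C : Type u) [CommRing C] [IsRegularRing C] :
    LocCoh.HasSk k C C := by
  rw [hasSk_self_iff]
  intro p hp
  haveI : IsRegularLocalRing (Localization.AtPrime p) := isRegularRing_iff.mp ‹_› p
  have hCM := Groth.Agent.Lib.Helper5.isCohenMacaulayLocalRing_of_isRegularLocalRing
    (R := Localization.AtPrime p)
  have h1 := hCM.supportDim_eq_depth
  rw [supportDim_localization_self] at h1
  rw [← h1]
  exact min_le_right _ _

/-- `(R_k)` is invariant under ring isomorphisms. -/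
theorem hasRk_of_ringEquiv {R S : Type u} [CommRing R] [CommRing S] (e : R ≃+* S) (k : ℕ)
    (h : LocCoh.HasRk k R) : LocCoh.HasRk k S := by
  intro q hq hht
  have hp : (q.comap (e : R →+* S)).IsPrime := Ideal.comap_isPrime _ _
  have h2 : (q.comap (e : R →+* S)).height = q.height := RingEquiv.height_comap e q
  have h3 := h (q.comap (e : R →+* S)) (h2 ▸ hht)
  exact IsRegularLocalRing.of_ringEquiv
    (Localization.localRingEquiv (q.comap (e : R →+* S)) q e rfl)

section Ascent

variable {A B : Type u} [CommRing A] [CommRing B] [IsNoetherianRing A] [IsNoetherianRing B]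
  [Algebra A B] [Module.Flat A B] [Algebra.FormallySmooth A B]

theorem isRegularRing_fiber (P : Ideal A) [P.IsPrime] : IsRegularRing (P.Fiber B) := by
  haveI := isNoetherianRing_fiber (B := B) P
  haveI : Algebra.FormallySmooth P.ResidueField (P.Fiber B) := inferInstance
  exact Groth.Agent.Lib.Helper6.FSReg.isRegularRing_of_formallySmooth P.ResidueField (P.Fiber B)

theorem hasSk_of_formallySmooth (n : ℕ) (hA : LocCoh.HasSk n A A) : LocCoh.HasSk n B B :=
  hasSk_of_flat_of_forall_hasSk_fiber n hA fun P _ => by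
    haveI := isRegularRing_fiber (B := B) P
    exact hasSk_of_isRegularRing n _

theorem hasRk_of_formallySmooth (n : ℕ) (hA : LocCoh.HasRk n A) : LocCoh.HasRk n B :=
  hasRk_of_flat_of_forall_hasRk_fiber n hA fun P _ => by
    haveI := isRegularRing_fiber (B := B) P
    exact Groth.Agent.Lib.Helper6.SmRk.hasRk_of_isRegularRing n _

end Ascent

theorem stalk_iff_of_smooth {A' B' : Scheme.{u}} [IsLocallyNoetherian B'] (g : A' ⟶ B') [Smooth g]
    (a : A') (n : ℕ) :
    (LocCoh.HasSk n (A'.presheaf.stalk a) (A'.presheaf.stalk a) ↔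
      LocCoh.HasSk n (B'.presheaf.stalk (g a)) (B'.presheaf.stalk (g a))) ∧
    (LocCoh.HasRk n (A'.presheaf.stalk a) ↔ LocCoh.HasRk n (B'.presheaf.stalk (g a))) := by
  haveI : IsLocallyNoetherian A' := LocallyOfFiniteType.isLocallyNoetherian g
  have hfl : (g.stalkMap a).hom.Flat := Flat.stalkMap g a
  have hloc : IsLocalHom (g.stalkMap a).hom := inferInstance
  have hfs : (g.stalkMap a).hom.FormallySmooth := by
    have : a ∈ g.smoothLocus := by rw [g.smoothLocus_eq_top]; trivial
    exact this
  algebraize [(g.stalkMap a).hom]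
  haveI : IsLocalHom (algebraMap (B'.presheaf.stalk (g a)) (A'.presheaf.stalk a)) := hloc
  haveI : Module.FaithfullyFlat (B'.presheaf.stalk (g a)) (A'.presheaf.stalk a) :=
    Module.FaithfullyFlat.of_flat_of_isLocalHom
  exact ⟨⟨fun h => hasSk_of_faithfullyFlat (R := B'.presheaf.stalk (g a))
      (S := A'.presheaf.stalk a) n h, fun h => hasSk_of_formallySmooth n h⟩,
    ⟨fun h => (hasRk_of_faithfullyFlat (R := B'.presheaf.stalk (g a))
      (S := A'.presheaf.stalk a) n h).2, fun h => hasRk_of_formallySmooth n h⟩⟩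

end Groth.Agent.Lib.T2H9.SmSk
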