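import Mathlib
import Groth.Agent.Lib.LeadERa
import Groth.Agent.Lib.Helper5CMLocusOpen
import Groth.Agent.Lib.Helper5GorRing
import Groth.Agent.Lib.Helper29GorAnn
import Groth.Agent.Lib.T2H9SmSk
import Groth.Agent.Lib.Helper28FGDim
import Groth.Agent.Lib.Helper28CMFib1
import Groth.Agent.Lib.Helper28SkLift
import Groth.Agent.Lib.LeadGrHEb
import Groth.Agent.S0343

/-!
# The extended Rees algebra (lead), part b: local algebra toolkit

Generic statements (nothing about Rees algebras):

* `cmLocal_quotient`, `cmLocal_of_quotient`: Cohen–Macaulay local rings modulo a regular element;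
* `cm_localization_quotient_iff`, `gor_localization_quotient_iff`: `B_P` versus `(B/b)_{P/b}`;
* `cm_localization_surjective_iff`, `gor_localization_surjective_iff`: the same for a surjection
  with principal kernel;
* `cm_comap_iff_of_isLocalization`, `gor_comap_iff_of_isLocalization`: `B_{P ∩ B}` versus
  `A_{P ∩ A}` for `L = M⁻¹ B` flat over `A` with Cohen–Macaulay (Gorenstein) fibres;
* `gorLocal_localization_of_le`: the Gorenstein property generizes;
* `hasSk_quotient_of_hasSk_succ`, `min_height_le_depth_of_isLocalization`;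
* Laurent polynomial rings: `primeOver`, fibres.
-/

set_option autoImplicit false
set_option maxHeartbeats 400000
set_option linter.style.haveILetI false
set_option linter.unusedSectionVars false
set_option linter.unusedVariables false

universe u

noncomputable section

namespace Groth.Agent.Lib.LeadER

open scoped Polynomial
open LaurentPolynomial IsLocalRing Groth.Agent.Lib.Helper28

section Local

theorem withBot_add_one_cancel {a b : WithBot ℕ∞} (h : a + 1 = b + 1) : a = b := by
  induction a with
  | bot =>
    induction b with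
    | bot => rfl
    | coe b =>
      exfalso
      rw [WithBot.bot_add] at h
      exact WithBot.bot_ne_coe h
  | coe a =>
    induction b with
    | bot =>
      exfalso
      rw [WithBot.bot_add] at h
      exact WithBot.coe_ne_bot h
    | coe b =>
      have h' : a + 1 = b + 1 := by exact_mod_cast h
      have : a = b := ENat.add_left_injective_of_ne_top ENat.one_ne_top h'
      rw [this]

/-- The quotient of a Cohen–Macaulay local ring by a nonzerodivisor in the maximal ideal is
Cohen–Macaulay. -/
theorem cmLocal_quotient {R : Type u} [CommRing R] [hR : LocCoh.IsCohenMacaulayLocalRing R] (r : R)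
    (hr : r ∈ maximalIdeal R) (hreg : IsSMulRegular R r) :
    LocCoh.IsCohenMacaulayLocalRing (R ⧸ Ideal.span {r}) := by
  have hne : Ideal.span {r} ≠ ⊤ := by
    intro h
    rw [Ideal.span_singleton_eq_top] at h
    exact hr h
  haveI : Nontrivial (R ⧸ Ideal.span {r}) := Ideal.Quotient.nontrivial_iff.mpr hne
  haveI hloc : IsLocalRing (R ⧸ Ideal.span {r}) :=
    IsLocalRing.of_surjective' (Ideal.Quotient.mk (Ideal.span {r})) Ideal.Quotient.mk_surjective
  refine { supportDim_eq_depth := ?_ }
  have h := hR.supportDim_eq_depth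
  rw [Module.supportDim_self_eq_ringKrullDim] at h ⊢
  have h1 := ringKrullDim_quotient_span_singleton_succ_eq_ringKrullDim hreg hr
  have h2 := depth_quotient_span_singleton_add_one r hr hreg
  apply withBot_add_one_cancel
  rw [h1, h, ← h2]
  push_cast
  rfl

/-- A Noetherian local ring is Cohen–Macaulay if its quotient by a nonzerodivisor in the maximal
ideal is. -/
theorem cmLocal_of_quotient {R : Type u} [CommRing R] [IsNoetherianRing R] [IsLocalRing R] (r : R)
    (hr : r ∈ maximalIdeal R) (hreg : IsSMulRegular R r)
    (h : LocCoh.IsCohenMacaulayLocalRing (R ⧸ Ideal.span {r})) :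
    LocCoh.IsCohenMacaulayLocalRing R := by
  haveI := h.toIsLocalRing
  refine { supportDim_eq_depth := ?_ }
  have h0 := h.supportDim_eq_depth
  rw [Module.supportDim_self_eq_ringKrullDim] at h0 ⊢
  have h1 := ringKrullDim_quotient_span_singleton_succ_eq_ringKrullDim hreg hr
  have h2 := depth_quotient_span_singleton_add_one r hr hreg
  rw [← h1, h0, ← h2]
  push_cast
  rfl

end Local

section Quot

variable {B : Type u} [CommRing B]

/-- `B_P` is Cohen–Macaulay iff `(B/b)_{P/b}` is, for a nonzerodivisor `b ∈ P` -/
theorem cm_localization_quotient_iff [IsNoetherianRing B] (b : B) (hb : IsSMulRegular B b)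
    (P : Ideal B) [P.IsPrime] (hbP : b ∈ P) (P' : Ideal (B ⧸ Ideal.span {b})) [P'.IsPrime]
    (hP' : P' = P.map (Ideal.Quotient.mk (Ideal.span {b}))) :
    LocCoh.IsCohenMacaulayLocalRing (Localization.AtPrime P) ↔
      LocCoh.IsCohenMacaulayLocalRing (Localization.AtPrime P') := by
  subst hP'
  have hIP : Ideal.span {b} ≤ P := (Ideal.span_singleton_le_iff_mem _).mpr hbP
  have inst : IsLocalization (Algebra.algebraMapSubmonoid (B ⧸ Ideal.span {b}) P.primeCompl)
      (Localization.AtPrime P ⧸ (Ideal.span {b}).map (algebraMap B (Localization.AtPrime P))) :=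
    inferInstance
  rw [algebraMapSubmonoid_quotient_primeCompl (Ideal.span {b}) P hIP] at inst
  haveI inst' : IsLocalization.AtPrime
      (Localization.AtPrime P ⧸ (Ideal.span {b}).map (algebraMap B (Localization.AtPrime P)))
      (P.map (Ideal.Quotient.mk (Ideal.span {b}))) := inst
  haveI : IsNoetherianRing (Localization.AtPrime P) :=
    IsLocalization.isNoetherianRing P.primeCompl _ inferInstance
  have hmem : algebraMap B (Localization.AtPrime P) b ∈ maximalIdeal (Localization.AtPrime P) :=
    (IsLocalization.AtPrime.to_map_mem_maximal_iff (Localization.AtPrime P) P b).mpr hbP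
  have hreg : IsSMulRegular (Localization.AtPrime P) (algebraMap B (Localization.AtPrime P) b) :=
    hb.of_flat
  have hspan : (Ideal.span {b}).map (algebraMap B (Localization.AtPrime P)) =
      Ideal.span {algebraMap B (Localization.AtPrime P) b} := by
    rw [Ideal.map_span, Set.image_singleton]
  have e1 : (Localization.AtPrime P ⧸
      (Ideal.span {b}).map (algebraMap B (Localization.AtPrime P))) ≃+*
      Localization.AtPrime (P.map (Ideal.Quotient.mk (Ideal.span {b}))) :=
    (IsLocalization.algEquiv (P.map (Ideal.Quotient.mk (Ideal.span {b}))).primeCompl _ _).toRingEquiv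
  have e2 : (Localization.AtPrime P ⧸
      Ideal.span {algebraMap B (Localization.AtPrime P) b}) ≃+*
      (Localization.AtPrime P ⧸ (Ideal.span {b}).map (algebraMap B (Localization.AtPrime P))) :=
    Ideal.quotEquivOfEq hspan.symm
  constructor
  · intro h
    haveI := h
    haveI := cmLocal_quotient (algebraMap B (Localization.AtPrime P) b) hmem hreg
    exact isCohenMacaulayLocalRing_of_ringEquiv (e2.trans e1)
  · intro h
    haveI := h
    have h1 : LocCoh.IsCohenMacaulayLocalRing (Localization.AtPrime P ⧸
        Ideal.span {algebraMap B (Localization.AtPrime P) b}) :=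
      isCohenMacaulayLocalRing_of_ringEquiv (e2.trans e1).symm
    exact cmLocal_of_quotient _ hmem hreg h1

open Groth.Agent.Lib.Helper5.GorRing in
/-- `B_P` is Gorenstein iff `(B/b)_{P/b}` is, for a nonzerodivisor `b ∈ P` -/
theorem gor_localization_quotient_iff [IsNoetherianRing B] (b : B) (hb : IsSMulRegular B b)
    (P : Ideal B) [P.IsPrime] (hbP : b ∈ P) (P' : Ideal (B ⧸ Ideal.span {b})) [P'.IsPrime]
    (hP' : P' = P.map (Ideal.Quotient.mk (Ideal.span {b}))) :
    LocCoh.IsGorensteinLocalRing (Localization.AtPrime P) ↔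
      LocCoh.IsGorensteinLocalRing (Localization.AtPrime P') := by
  subst hP'
  have hIP : Ideal.span {b} ≤ P := (Ideal.span_singleton_le_iff_mem _).mpr hbP
  have inst : IsLocalization (Algebra.algebraMapSubmonoid (B ⧸ Ideal.span {b}) P.primeCompl)
      (Localization.AtPrime P ⧸ (Ideal.span {b}).map (algebraMap B (Localization.AtPrime P))) :=
    inferInstance
  rw [algebraMapSubmonoid_quotient_primeCompl (Ideal.span {b}) P hIP] at inst
  haveI inst' : IsLocalization.AtPrime
      (Localization.AtPrime P ⧸ (Ideal.span {b}).map (algebraMap B (Localization.AtPrime P)))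
      (P.map (Ideal.Quotient.mk (Ideal.span {b}))) := inst
  haveI : IsNoetherianRing (Localization.AtPrime P) :=
    IsLocalization.isNoetherianRing P.primeCompl _ inferInstance
  have hmem : algebraMap B (Localization.AtPrime P) b ∈ maximalIdeal (Localization.AtPrime P) :=
    (IsLocalization.AtPrime.to_map_mem_maximal_iff (Localization.AtPrime P) P b).mpr hbP
  have hreg : IsSMulRegular (Localization.AtPrime P) (algebraMap B (Localization.AtPrime P) b) :=
    hb.of_flat
  have hspan : (Ideal.span {b}).map (algebraMap B (Localization.AtPrime P)) =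
      Ideal.span {algebraMap B (Localization.AtPrime P) b} := by
    rw [Ideal.map_span, Set.image_singleton]
  have e1 : (Localization.AtPrime P ⧸
      (Ideal.span {b}).map (algebraMap B (Localization.AtPrime P))) ≃+*
      Localization.AtPrime (P.map (Ideal.Quotient.mk (Ideal.span {b}))) :=
    (IsLocalization.algEquiv (P.map (Ideal.Quotient.mk (Ideal.span {b}))).primeCompl _ _).toRingEquiv
  have e2 : (Localization.AtPrime P ⧸
      Ideal.span {algebraMap B (Localization.AtPrime P) b}) ≃+*
      (Localization.AtPrime P ⧸ (Ideal.span {b}).map (algebraMap B (Localization.AtPrime P))) :=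
    Ideal.quotEquivOfEq hspan.symm
  have key := Groth.Agent.S0343.result (Localization.AtPrime P) _ hmem hreg
  constructor
  · intro h
    haveI := key.mp h
    exact gorLocal_of_ringEquiv (e2.trans e1)
  · intro h
    haveI := h
    exact key.mpr (gorLocal_of_ringEquiv (e2.trans e1).symm)

end Quot

section Surj

variable {B : Type u} [CommRing B] [IsNoetherianRing B] {G : Type u} [CommRing G]
  (φ : B →+* G) (hφ : Function.Surjective φ) (b : B) (hker : RingHom.ker φ = Ideal.span {b})
  (hb : IsSMulRegular B b)

/-- the isomorphism `B/b ≅ G` -/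
def quotEquivOfKer : (B ⧸ Ideal.span {b}) ≃+* G :=
  (Ideal.quotEquivOfEq hker.symm).trans (RingHom.quotientKerEquivOfSurjective hφ)

lemma quotEquivOfKer_mk (x : B) :
    quotEquivOfKer φ hφ b hker (Ideal.Quotient.mk (Ideal.span {b}) x) = φ x := by
  rw [quotEquivOfKer, RingEquiv.trans_apply, Ideal.quotEquivOfEq_mk]
  exact RingHom.quotientKerEquivOfSurjective_apply_mk hφ x

include hφ hker in
lemma mem_comap_of_ker (p : Ideal G) : b ∈ p.comap φ := by
  rw [Ideal.mem_comap]
  have h1 : b ∈ RingHom.ker φ := by
    rw [hker]
    exact Ideal.subset_span rfl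
  rw [(RingHom.mem_ker).mp h1]
  exact Ideal.zero_mem _

include hφ hker hb in
theorem cm_localization_surjective_iff (p : Ideal G) [p.IsPrime] :
    LocCoh.IsCohenMacaulayLocalRing (Localization.AtPrime (p.comap φ)) ↔
      LocCoh.IsCohenMacaulayLocalRing (Localization.AtPrime p) := by
  have hbP := mem_comap_of_ker φ hφ b hker p
  have hIP : Ideal.span {b} ≤ p.comap φ := (Ideal.span_singleton_le_iff_mem _).mpr hbP
  set e₀ := quotEquivOfKer φ hφ b hker with he₀
  have hP' : p.comap e₀ = (p.comap φ).map (Ideal.Quotient.mk (Ideal.span {b})) := by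
    ext y
    obtain ⟨x, rfl⟩ := Ideal.Quotient.mk_surjective y
    rw [Ideal.mem_comap, he₀, quotEquivOfKer_mk, Ideal.mem_quotient_iff_mem hIP, Ideal.mem_comap]
  have h1 := cm_localization_quotient_iff b hb (p.comap φ) hbP (p.comap e₀) hP'
  rw [h1]
  have e : Localization.AtPrime (p.comap e₀) ≃+* Localization.AtPrime p :=
    Localization.localRingEquiv (p.comap e₀) p e₀ rfl
  constructor
  · intro h
    haveI := h
    exact isCohenMacaulayLocalRing_of_ringEquiv e
  · intro h
    haveI := h
    exact isCohenMacaulayLocalRing_of_ringEquiv e.symm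

open Groth.Agent.Lib.Helper5.GorRing in
include hφ hker hb in
theorem gor_localization_surjective_iff (p : Ideal G) [p.IsPrime] :
    LocCoh.IsGorensteinLocalRing (Localization.AtPrime (p.comap φ)) ↔
      LocCoh.IsGorensteinLocalRing (Localization.AtPrime p) := by
  have hbP := mem_comap_of_ker φ hφ b hker p
  have hIP : Ideal.span {b} ≤ p.comap φ := (Ideal.span_singleton_le_iff_mem _).mpr hbP
  set e₀ := quotEquivOfKer φ hφ b hker with he₀
  have hP' : p.comap e₀ = (p.comap φ).map (Ideal.Quotient.mk (Ideal.span {b})) := by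
    ext y
    obtain ⟨x, rfl⟩ := Ideal.Quotient.mk_surjective y
    rw [Ideal.mem_comap, he₀, quotEquivOfKer_mk, Ideal.mem_quotient_iff_mem hIP, Ideal.mem_comap]
  have h1 := gor_localization_quotient_iff b hb (p.comap φ) hbP (p.comap e₀) hP'
  rw [h1]
  have e : Localization.AtPrime (p.comap e₀) ≃+* Localization.AtPrime p :=
    Localization.localRingEquiv (p.comap e₀) p e₀ rfl
  constructor
  · intro h
    haveI := h
    exact gorLocal_of_ringEquiv e
  · intro h
    haveI := h
    exact gorLocal_of_ringEquiv e.symm

end Surj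

section Loc

variable {A B L : Type u} [CommRing A] [CommRing B] [CommRing L] [IsNoetherianRing A]
  [IsNoetherianRing L] (M : Submonoid B) [Algebra B L] [IsLocalization M L] [Algebra A L]
  [Module.Flat A L]

include M in
theorem cm_comap_iff_of_isLocalization
    (hF : ∀ (Q : Ideal L) [Q.IsPrime], LocCoh.IsCohenMacaulayLocalRing (EGA4.FibLocRing A L Q))
    (P' : Ideal L) [P'.IsPrime] :
    LocCoh.IsCohenMacaulayLocalRing (Localization.AtPrime (P'.comap (algebraMap B L))) ↔
      LocCoh.IsCohenMacaulayLocalRing (Localization.AtPrime (P'.comap (algebraMap A L))) := by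
  haveI : IsLocalization.AtPrime (Localization.AtPrime P') (P'.comap (algebraMap B L)) :=
    IsLocalization.isLocalization_isLocalization_atPrime_isLocalization M
      (Localization.AtPrime P') P'
  have e : Localization.AtPrime (P'.comap (algebraMap B L)) ≃+* Localization.AtPrime P' :=
    (IsLocalization.algEquiv (P'.comap (algebraMap B L)).primeCompl _ _).toRingEquiv
  have key := Groth.Agent.Lib.Helper5.CMLocusOpen.cm_iff_of_cm_fibre (A := A) P' (hF P')
  constructor
  · intro h
    haveI := h
    exact key.mp (isCohenMacaulayLocalRing_of_ringEquiv e)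
  · intro h
    haveI := key.mpr h
    exact isCohenMacaulayLocalRing_of_ringEquiv e.symm

open Groth.Agent.Lib.Helper5.GorRing in
include M in
theorem gor_comap_iff_of_isLocalization
    (hF : ∀ (Q : Ideal L) [Q.IsPrime], LocCoh.IsGorensteinLocalRing (EGA4.FibLocRing A L Q))
    (P' : Ideal L) [P'.IsPrime] :
    LocCoh.IsGorensteinLocalRing (Localization.AtPrime (P'.comap (algebraMap B L))) ↔
      LocCoh.IsGorensteinLocalRing (Localization.AtPrime (P'.comap (algebraMap A L))) := by
  haveI : IsLocalization.AtPrime (Localization.AtPrime P') (P'.comap (algebraMap B L)) :=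
    IsLocalization.isLocalization_isLocalization_atPrime_isLocalization M
      (Localization.AtPrime P') P'
  have e : Localization.AtPrime (P'.comap (algebraMap B L)) ≃+* Localization.AtPrime P' :=
    (IsLocalization.algEquiv (P'.comap (algebraMap B L)).primeCompl _ _).toRingEquiv
  have key := gor_localization_iff (A := A) P'
  constructor
  · intro h
    haveI := h
    exact (key.mp (gorLocal_of_ringEquiv e)).1
  · intro h
    haveI := key.mpr ⟨h, hF P'⟩
    exact gorLocal_of_ringEquiv e.symm

omit [IsNoetherianRing A] [IsNoetherianRing L] [Algebra A L] [Module.Flat A L] in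
include M in
theorem min_height_le_depth_of_isLocalization [IsNoetherianRing B] (k : ℕ)
    (hL : LocCoh.HasSk k L L) (P' : Ideal L) [P'.IsPrime] :
    min (k : ℕ∞) (P'.comap (algebraMap B L)).height ≤
      LocCoh.depth (Localization.AtPrime (P'.comap (algebraMap B L)))
        (Localization.AtPrime (P'.comap (algebraMap B L))) := by
  haveI : IsNoetherianRing L := IsLocalization.isNoetherianRing M L inferInstance
  rw [hasSk_self_iff_enat] at hL
  haveI : IsLocalization.AtPrime (Localization.AtPrime P') (P'.comap (algebraMap B L)) :=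
    IsLocalization.isLocalization_isLocalization_atPrime_isLocalization M
      (Localization.AtPrime P') P'
  have e := (IsLocalization.algEquiv (P'.comap (algebraMap B L)).primeCompl
    (Localization.AtPrime (P'.comap (algebraMap B L))) (Localization.AtPrime P')).toRingEquiv
  have h1 := depth_self_eq_of_ringEquiv e
  have h2 : (P'.comap (algebraMap B L)).height = P'.height := IsLocalization.height_under M P'
  rw [h1, h2]
  exact hL P'

end Loc

section GorGen

open Groth.Agent.Lib.Helper5.GorRing in
/-- the Gorenstein property of `B_{r'}` passes to `B_r` for `r ≤ r'` -/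
theorem gorLocal_localization_of_le {B : Type u} [CommRing B] (r r' : Ideal B) [r.IsPrime]
    [r'.IsPrime] (h : r ≤ r') (hG : LocCoh.IsGorensteinLocalRing (Localization.AtPrime r')) :
    LocCoh.IsGorensteinLocalRing (Localization.AtPrime r) := by
  haveI := hG
  have h1 : LocCoh.IsGorensteinRing (Localization.AtPrime r') :=
    Groth.Agent.Lib.Helper29.GorAnn.isGorensteinRing_of_isGorensteinLocalRing _
  have hd : Disjoint (r'.primeCompl : Set B) (r : Set B) := by
    rw [Set.disjoint_left]
    intro x hx hxr
    exact hx (h hxr)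
  have hP : (r.map (algebraMap B (Localization.AtPrime r'))).IsPrime :=
    IsLocalization.isPrime_of_isPrime_disjoint r'.primeCompl _ r inferInstance hd
  have hc : (r.map (algebraMap B (Localization.AtPrime r'))).comap
      (algebraMap B (Localization.AtPrime r')) = r :=
    IsLocalization.under_map_of_isPrime_disjoint r'.primeCompl _ inferInstance hd
  have h1' := h1.isGorensteinLocalRing_localization
    (r.map (algebraMap B (Localization.AtPrime r')))
  have h2 := IsLocalization.isLocalization_isLocalization_atPrime_isLocalization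
    (M := r'.primeCompl)
    (Localization.AtPrime (r.map (algebraMap B (Localization.AtPrime r'))))
    (r.map (algebraMap B (Localization.AtPrime r')))
  have key : ∀ (p' : Ideal B) [p'.IsPrime], p' = r →
      IsLocalization.AtPrime
        (Localization.AtPrime (r.map (algebraMap B (Localization.AtPrime r')))) p' →
      LocCoh.IsGorensteinLocalRing (Localization.AtPrime r) := by
    intro p' hp' he h3
    subst he
    exact gorLocal_of_ringEquiv (IsLocalization.algEquiv p'.primeCompl
      (Localization.AtPrime (p'.map (algebraMap B (Localization.AtPrime r'))))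
      (Localization.AtPrime p')).toRingEquiv
  exact key _ hc h2

end GorGen

section SkQuot

theorem hasSk_quotient_of_hasSk_succ {A : Type u} [CommRing A] [IsNoetherianRing A] (k : ℕ)
    (t : A) (hreg : IsSMulRegular A t) (hS : LocCoh.HasSk (k + 1) A A) :
    LocCoh.HasSk k (A ⧸ Ideal.span {t}) (A ⧸ Ideal.span {t}) := by
  rw [hasSk_self_iff_enat] at hS ⊢
  intro qbar hqbar
  set q' : Ideal A := qbar.comap (Ideal.Quotient.mk (Ideal.span {t})) with hq'
  set R := Localization.AtPrime q' with hR
  set x : R := algebraMap A R t with hx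
  have htq' : t ∈ q' := by
    rw [hq', Ideal.mem_comap]
    have h0 : Ideal.Quotient.mk (Ideal.span {t}) t = 0 :=
      Ideal.Quotient.eq_zero_iff_mem.mpr (Ideal.subset_span rfl)
    rw [h0]
    exact Ideal.zero_mem _
  have hxm : x ∈ IsLocalRing.maximalIdeal R := by
    rw [← Localization.AtPrime.map_eq_maximalIdeal]
    exact Ideal.mem_map_of_mem _ htq'
  have hregx : IsSMulRegular R x := hreg.of_flat
  have hmapI : (Ideal.span {t}).map (algebraMap A R) = Ideal.span {x} := by
    rw [Ideal.map_span, Set.image_singleton]
  let e1 : Localization.AtPrime qbar ≃+* (R ⧸ (Ideal.span {t}).map (algebraMap A R)) :=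
    localizationQuotientEquiv (Ideal.span {t}) qbar
  let e2 : (R ⧸ (Ideal.span {t}).map (algebraMap A R)) ≃+* (R ⧸ Ideal.span {x}) :=
    Ideal.quotEquivOfEq hmapI
  let e := e1.trans e2
  haveI hloc : IsLocalRing (R ⧸ Ideal.span {x}) := e.isLocalRing
  have hSq := hS q'
  have hd1 := ringKrullDim_quotient_span_singleton_succ_eq_ringKrullDim hregx hxm
  have hdep := depth_quotient_span_singleton_add_one x hxm hregx
  have hh : qbar.height + 1 = q'.height := by
    have h1 : ringKrullDim (R ⧸ Ideal.span {x}) = (qbar.height : WithBot ℕ∞) := by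
      rw [← ringKrullDim_eq_of_ringEquiv e,
        IsLocalization.AtPrime.ringKrullDim_eq_height qbar (Localization.AtPrime qbar)]
    have h2 : ringKrullDim R = (q'.height : WithBot ℕ∞) :=
      IsLocalization.AtPrime.ringKrullDim_eq_height q' R
    rw [h1, h2] at hd1
    exact_mod_cast hd1
  rw [depth_self_eq_of_ringEquiv e]
  rw [← hh, ← hdep] at hSq
  have h4 : min ((k : ℕ∞) + 1) (qbar.height + 1) = min (k : ℕ∞) qbar.height + 1 :=
    min_add_add_right _ _ _
  push_cast at hSq
  rw [h4] at hSq
  exact (ENat.add_le_add_iff_right ENat.one_ne_top).mp hSq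

end SkQuot

section Laurent

variable (A : Type u) [CommRing A]

instance isScalarTower_laurent : IsScalarTower A A[X] A[T;T⁻¹] :=
  IsScalarTower.of_algebraMap_eq' (by
    ext a
    rw [RingHom.comp_apply, Polynomial.algebraMap_apply, Algebra.algebraMap_self_apply,
      LaurentPolynomial.algebraMap_eq_toLaurent, Polynomial.toLaurent_C,
      ← LaurentPolynomial.C_eq_algebraMap])

instance formallySmooth_laurent : Algebra.FormallySmooth A A[T;T⁻¹] :=
  haveI : Algebra.FormallySmooth A[X] A[T;T⁻¹] :=
    Algebra.FormallySmooth.of_isLocalization (Submonoid.powers (Polynomial.X : A[X]))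
  Algebra.FormallySmooth.comp A A[X] A[T;T⁻¹]

theorem isNoetherianRing_laurent [IsNoetherianRing A] : IsNoetherianRing A[T;T⁻¹] :=
  IsLocalization.isNoetherianRing (Submonoid.powers (Polynomial.X : A[X])) A[T;T⁻¹] inferInstance

theorem cm_fibLocRing_laurent [IsNoetherianRing A] (Q : Ideal A[T;T⁻¹]) [Q.IsPrime] :
    LocCoh.IsCohenMacaulayLocalRing (EGA4.FibLocRing A A[T;T⁻¹] Q) := by
  haveI := isNoetherianRing_laurent A
  refine (forall_isCohenMacaulayRing_fiber_iff (A := A) (B := A[T;T⁻¹])).mp ?_ Q
  intro p hp
  haveI : IsRegularRing (p.Fiber A[T;T⁻¹]) :=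
    Groth.Agent.Lib.T2H9.SmSk.isRegularRing_fiber (B := A[T;T⁻¹]) p
  refine { isCohenMacaulayLocalRing_localization := fun q _ => ?_ }
  exact Groth.Agent.Lib.Helper5.isCohenMacaulayLocalRing_of_isRegularLocalRing
    (R := Localization.AtPrime q)

open Groth.Agent.Lib.Helper5.GorRing in
theorem gor_fibLocRing_laurent [IsNoetherianRing A] (Q : Ideal A[T;T⁻¹]) [Q.IsPrime] :
    LocCoh.IsGorensteinLocalRing (EGA4.FibLocRing A A[T;T⁻¹] Q) := by
  haveI := isNoetherianRing_laurent A
  refine (forall_gor_fiber_iff (A := A) (B := A[T;T⁻¹])).mp ?_ Q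
  intro p hp
  haveI : IsRegularRing (p.Fiber A[T;T⁻¹]) :=
    Groth.Agent.Lib.T2H9.SmSk.isRegularRing_fiber (B := A[T;T⁻¹]) p
  exact gorRing_of_isRegularRing _

theorem hasSk_laurent [IsNoetherianRing A] (k : ℕ) (hA : LocCoh.HasSk k A A) :
    LocCoh.HasSk k A[T;T⁻¹] A[T;T⁻¹] := by
  haveI := isNoetherianRing_laurent A
  exact Groth.Agent.Lib.T2H9.SmSk.hasSk_of_formallySmooth k hA

theorem hasSk_of_hasSk_laurent [IsNoetherianRing A] [Nontrivial A] (k : ℕ)
    (hL : LocCoh.HasSk k A[T;T⁻¹] A[T;T⁻¹]) : LocCoh.HasSk k A A := by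
  haveI := isNoetherianRing_laurent A
  exact hasSk_of_faithfullyFlat (R := A) (S := A[T;T⁻¹]) k hL

/-- the prime `q A[T;T⁻¹]` -/
def primeOver (q : Ideal A) : Ideal A[T;T⁻¹] :=
  RingHom.ker (AddMonoidAlgebra.mapRingHom ℤ (Ideal.Quotient.mk q))

variable {A}

lemma mem_primeOver {q : Ideal A} {f : A[T;T⁻¹]} : f ∈ primeOver A q ↔ ∀ n, f.coeff n ∈ q := by
  rw [primeOver, RingHom.mem_ker]
  constructor
  · intro h n
    have h1 : (AddMonoidAlgebra.mapRingHom ℤ (Ideal.Quotient.mk q) f).coeff n = 0 := by
      rw [h]
      rfl
    rw [AddMonoidAlgebra.coeff_mapRingHom] at h1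
    exact Ideal.Quotient.eq_zero_iff_mem.mp h1
  · intro h
    apply LaurentPolynomial.ext
    intro n
    rw [AddMonoidAlgebra.coeff_mapRingHom]
    exact Ideal.Quotient.eq_zero_iff_mem.mpr (h n)

instance primeOver_isPrime (q : Ideal A) [q.IsPrime] : (primeOver A q).IsPrime :=
  RingHom.ker_isPrime _

lemma comap_primeOver (q : Ideal A) : (primeOver A q).comap (algebraMap A A[T;T⁻¹]) = q := by
  ext a
  rw [Ideal.mem_comap, mem_primeOver, ← LaurentPolynomial.C_eq_algebraMap]
  constructor
  · intro h
    have h0 := h 0
    rwa [LaurentPolynomial.C_apply, if_pos rfl] at h0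
  · intro h n
    rw [LaurentPolynomial.C_apply]
    split_ifs
    · exact h
    · exact q.zero_mem

end Laurent

end Groth.Agent.Lib.LeadER
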