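import Mathlib
import Groth.Agent.Lib.LeadERb

/-!
# The extended Rees algebra (lead), part c: Cohen–Macaulay, Gorenstein and `(S_k)`

`R' = ⊕ F_n T^n`, `u = T⁻¹`, `G = R'/uR'`, over a Noetherian local ring `A` with `⋂ F_n = 0` and a
finitely generated Rees algebra.

* `forall_localization_iff`: for a "good" local property `Pr` (stable under generization, passing
  through regular quotients and through Laurent polynomial extensions), all localizations of `R'`
  have `Pr` iff all localizations of `G` do;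
* `isCohenMacaulayRing_extRees_iff`, `isGorensteinRing_extRees_iff`;
* `hasSk_succ_extRees_iff`: `R'` is `(S_{k+1})` iff `G` is `(S_k)` and `A` is `(S_{k+1})`.
-/

set_option autoImplicit false
set_option maxHeartbeats 400000
set_option linter.style.haveILetI false
set_option linter.unusedSectionVars false
set_option linter.unusedVariables false

universe u

noncomputable section

namespace Groth.Agent.Lib.LeadER

open scoped Polynomial
open LaurentPolynomial IsLocalRing Groth.Agent.Lib.Helper28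

/-- local properties of rings to which the extended Rees algebra argument applies -/
structure GoodProp (Pr : ∀ (R : Type u) [CommRing R], Prop) : Prop where
  quot : ∀ {B : Type u} [CommRing B] [IsNoetherianRing B] (b : B) (hb : IsSMulRegular B b)
    (P : Ideal B) [P.IsPrime] (hbP : b ∈ P) (P' : Ideal (B ⧸ Ideal.span {b})) [P'.IsPrime]
    (hP' : P' = P.map (Ideal.Quotient.mk (Ideal.span {b}))),
    Pr (Localization.AtPrime P) ↔ Pr (Localization.AtPrime P')
  laurent : ∀ {A B : Type u} [CommRing A] [CommRing B] [IsNoetherianRing A] (M : Submonoid B)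
    [Algebra B A[T;T⁻¹]] [IsLocalization M A[T;T⁻¹]] (P' : Ideal A[T;T⁻¹]) [P'.IsPrime],
    Pr (Localization.AtPrime (P'.comap (algebraMap B A[T;T⁻¹]))) ↔
      Pr (Localization.AtPrime (P'.comap (algebraMap A A[T;T⁻¹])))
  gen : ∀ {B : Type u} [CommRing B] (r r' : Ideal B) [r.IsPrime] [r'.IsPrime], r ≤ r' →
    Pr (Localization.AtPrime r') → Pr (Localization.AtPrime r)
  equiv : ∀ {R S : Type u} [CommRing R] [CommRing S], (R ≃+* S) → Pr R → Pr S

/-- the version of `GoodProp.quot` for a surjection with principal kernel -/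
theorem GoodProp.surj {Pr : ∀ (R : Type u) [CommRing R], Prop} (hPr : GoodProp Pr)
    {B G : Type u} [CommRing B] [IsNoetherianRing B] [CommRing G]
    (φ : B →+* G) (hφ : Function.Surjective φ) (b : B) (hker : RingHom.ker φ = Ideal.span {b})
    (hb : IsSMulRegular B b) (p : Ideal G) [p.IsPrime] :
    Pr (Localization.AtPrime (p.comap φ)) ↔ Pr (Localization.AtPrime p) := by
  have hbP := mem_comap_of_ker φ hφ b hker p
  have hIP : Ideal.span {b} ≤ p.comap φ := (Ideal.span_singleton_le_iff_mem _).mpr hbP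
  set e₀ := quotEquivOfKer φ hφ b hker with he₀
  have hP' : p.comap e₀ = (p.comap φ).map (Ideal.Quotient.mk (Ideal.span {b})) := by
    ext y
    obtain ⟨x, rfl⟩ := Ideal.Quotient.mk_surjective y
    rw [Ideal.mem_comap, he₀, quotEquivOfKer_mk, Ideal.mem_quotient_iff_mem hIP, Ideal.mem_comap]
  have h1 := hPr.quot b hb (p.comap φ) hbP (p.comap e₀) hP'
  rw [h1]
  have e : Localization.AtPrime (p.comap e₀) ≃+* Localization.AtPrime p :=
    Localization.localRingEquiv (p.comap e₀) p e₀ rfl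
  exact ⟨hPr.equiv e, hPr.equiv e.symm⟩

theorem goodProp_cm : GoodProp (fun R _ => LocCoh.IsCohenMacaulayLocalRing R) where
  quot := fun b hb P _ hbP P' _ hP' => cm_localization_quotient_iff b hb P hbP P' hP'
  laurent := fun {A B} _ _ _ M _ _ P' _ => by
    haveI := isNoetherianRing_laurent A
    exact cm_comap_iff_of_isLocalization (A := A) M (fun Q _ => cm_fibLocRing_laurent A Q) P'
  gen := fun r r' _ _ h hCM =>
    Groth.Agent.Lib.Helper28.CMFib.isCohenMacaulayLocalRing_localization_of_le r r' h hCM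
  equiv := fun e h => by
    haveI := h
    exact isCohenMacaulayLocalRing_of_ringEquiv e

theorem goodProp_gor : GoodProp (fun R _ => LocCoh.IsGorensteinLocalRing R) where
  quot := fun b hb P _ hbP P' _ hP' => gor_localization_quotient_iff b hb P hbP P' hP'
  laurent := fun {A B} _ _ _ M _ _ P' _ => by
    haveI := isNoetherianRing_laurent A
    exact gor_comap_iff_of_isLocalization (A := A) M (fun Q _ => gor_fibLocRing_laurent A Q) P'
  gen := fun r r' _ _ h hG => gorLocal_localization_of_le r r' h hG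
  equiv := fun e h => by
    haveI := h
    exact Groth.Agent.Lib.Helper5.GorRing.gorLocal_of_ringEquiv e

variable {A : Type u} [CommRing A] (𝓕 : FiltBl.IdealFiltration A)

lemma F_one_ne_top [Nontrivial A] (hsep : ⨅ n, 𝓕.F n = ⊥) : 𝓕.F 1 ≠ ⊤ := by
  intro h1
  have hall : ∀ n, 𝓕.F n = ⊤ := by
    intro n
    induction n with
    | zero => exact 𝓕.zero_eq
    | succ n ih =>
      have h2 := 𝓕.mul_le n 1
      rw [ih, h1, Ideal.top_mul] at h2
      exact top_le_iff.mp h2
  have h3 : (⨅ n, 𝓕.F n) = ⊤ := by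
    simp only [hall, iInf_top]
  rw [hsep] at h3
  exact bot_ne_top h3

/-- primes of `R'` not containing `u` come from `A[T;T⁻¹]` -/
lemma exists_prime_comap_eq (Q : Ideal 𝓕.extRees) [hQ : Q.IsPrime] (hu : 𝓕.u ∉ Q) :
    ∃ P' : Ideal A[T;T⁻¹], P'.IsPrime ∧ P'.comap (algebraMap 𝓕.extRees A[T;T⁻¹]) = Q := by
  have hd : Disjoint ((Submonoid.powers 𝓕.u : Submonoid 𝓕.extRees) : Set 𝓕.extRees)
      (Q : Set 𝓕.extRees) := by
    rw [Set.disjoint_left]
    rintro x ⟨n, rfl⟩ hx
    exact hu (hQ.mem_of_pow_mem n hx)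
  exact ⟨Q.map (algebraMap 𝓕.extRees A[T;T⁻¹]),
    IsLocalization.isPrime_of_isPrime_disjoint (Submonoid.powers 𝓕.u) _ Q hQ hd,
    IsLocalization.under_map_of_isPrime_disjoint (Submonoid.powers 𝓕.u) _ hQ hd⟩

lemma coe_one_coeff_zero : (((1 : 𝓕.extRees) : A[T;T⁻¹])).coeff 0 = 1 := by
  rw [Subalgebra.coe_one, ← T_zero, T_apply, if_pos rfl]

lemma sup_span_u_ne_top [IsLocalRing A] (hF1 : 𝓕.F 1 ≤ maximalIdeal A) :
    ((primeOver A (maximalIdeal A)).comap (algebraMap 𝓕.extRees A[T;T⁻¹])) ⊔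
      Ideal.span {𝓕.u} ≠ ⊤ := by
  intro htop
  have h1 : (1 : 𝓕.extRees) ∈
      ((primeOver A (maximalIdeal A)).comap (algebraMap 𝓕.extRees A[T;T⁻¹])) ⊔
        Ideal.span {𝓕.u} := by
    rw [htop]
    exact Submodule.mem_top
  obtain ⟨q, hq, y, hy, hqy⟩ := Submodule.mem_sup.mp h1
  obtain ⟨r, rfl⟩ := Ideal.mem_span_singleton'.mp hy
  have hq' : ∀ n, (q : A[T;T⁻¹]).coeff n ∈ maximalIdeal A := mem_primeOver.mp hq
  have h0 : ((q + r * 𝓕.u : 𝓕.extRees) : A[T;T⁻¹]).coeff 0 =
      (((1 : 𝓕.extRees) : A[T;T⁻¹])).coeff 0 := by rw [hqy]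
  have e1 : ((q + r * 𝓕.u : 𝓕.extRees) : A[T;T⁻¹]).coeff 0 =
      (q : A[T;T⁻¹]).coeff 0 + (r : A[T;T⁻¹]).coeff 1 := by
    rw [Subalgebra.coe_add, Subalgebra.coe_mul, coe_u, AddMonoidAlgebra.coeff_add,
      Finsupp.add_apply, coeff_mul_T]
    norm_num
  rw [e1, coe_one_coeff_zero] at h0
  have hr1 : (r : A[T;T⁻¹]).coeff 1 ∈ maximalIdeal A := by
    have h2 := r.2 1
    exact hF1 h2
  have h3 : (1 : A) ∈ maximalIdeal A := by
    rw [← h0]
    exact Ideal.add_mem _ (hq' 0) hr1
  exact (Ideal.ne_top_iff_one _).mp (IsLocalRing.maximalIdeal.isMaximal A).ne_top h3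

section Main

variable [IsNoetherianRing A] [IsLocalRing A] (hsep : ⨅ n, 𝓕.F n = ⊥)
  (hfg : Algebra.FiniteType A 𝓕.rees)
  {Pr : ∀ (R : Type u) [CommRing R], Prop} (hPr : GoodProp Pr)

include hsep hfg hPr in
theorem forall_localization_iff {G : Type u} [CommRing G] (φ : 𝓕.extRees →+* G)
    (hφ : Function.Surjective φ) (hker : RingHom.ker φ = Ideal.span {𝓕.u}) :
    (∀ (Q : Ideal 𝓕.extRees) [Q.IsPrime], Pr (Localization.AtPrime Q)) ↔
      (∀ (q : Ideal G) [q.IsPrime], Pr (Localization.AtPrime q)) := by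
  haveI : IsNoetherianRing 𝓕.extRees := isNoetherianRing_extRees 𝓕 hfg
  have hreg := u_regular 𝓕
  have transport : ∀ (Q₁ Q₂ : Ideal 𝓕.extRees) [Q₁.IsPrime] [Q₂.IsPrime], Q₁ = Q₂ →
      Pr (Localization.AtPrime Q₁) → Pr (Localization.AtPrime Q₂) := by
    intro Q₁ Q₂ _ _ e h
    subst e
    exact h
  have transportA : ∀ (q₁ q₂ : Ideal A) [q₁.IsPrime] [q₂.IsPrime], q₁ = q₂ →
      Pr (Localization.AtPrime q₁) → Pr (Localization.AtPrime q₂) := by
    intro q₁ q₂ _ _ e h
    subst e
    exact h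
  constructor
  · intro h q hq
    exact (hPr.surj φ hφ 𝓕.u hker hreg q).mp (h _)
  · intro h
    -- primes containing `u`
    have key : ∀ (Q : Ideal 𝓕.extRees) [Q.IsPrime], 𝓕.u ∈ Q → Pr (Localization.AtPrime Q) := by
      intro Q hQ huQ
      have hle : RingHom.ker φ ≤ Q := by
        rw [hker]
        exact (Ideal.span_singleton_le_iff_mem _).mpr huQ
      haveI hQ' : (Q.map φ).IsPrime := Ideal.map_isPrime_of_surjective hφ hle
      have hc : (Q.map φ).comap φ = Q := by
        rw [Ideal.comap_map_of_surjective φ hφ, ← RingHom.ker_eq_comap_bot, sup_eq_left]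
        exact hle
      exact transport _ _ hc ((hPr.surj φ hφ 𝓕.u hker hreg (Q.map φ)).mpr (h _))
    -- the base ring
    have hF1 : 𝓕.F 1 ≤ maximalIdeal A := IsLocalRing.le_maximalIdeal (F_one_ne_top 𝓕 hsep)
    have hbase : Pr (Localization.AtPrime (maximalIdeal A)) := by
      obtain ⟨𝔐, h𝔐, hle⟩ := Ideal.exists_le_maximal _ (sup_span_u_ne_top 𝓕 hF1)
      haveI := h𝔐.isPrime
      have hu𝔐 : 𝓕.u ∈ 𝔐 := hle (Ideal.mem_sup_right (Ideal.subset_span rfl))
      have h1 := key 𝔐 hu𝔐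
      have h2 := hPr.gen _ 𝔐 (le_trans le_sup_left hle) h1
      have h3 := (hPr.laurent (A := A) (Submonoid.powers 𝓕.u)
        (primeOver A (maximalIdeal A))).mp h2
      exact transportA _ _ (comap_primeOver (maximalIdeal A)) h3
    have hA : ∀ (q : Ideal A) [q.IsPrime], Pr (Localization.AtPrime q) := by
      intro q hq
      exact hPr.gen q (maximalIdeal A) (IsLocalRing.le_maximalIdeal hq.ne_top) hbase
    intro Q hQ
    by_cases huQ : 𝓕.u ∈ Q
    · exact key Q huQ
    · obtain ⟨P', hP', hc⟩ := exists_prime_comap_eq 𝓕 Q huQ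
      have h1 := (hPr.laurent (A := A) (Submonoid.powers 𝓕.u) P').mpr (hA _)
      exact transport _ _ hc h1

include hsep hfg in
theorem isCohenMacaulayRing_extRees_iff :
    LocCoh.IsCohenMacaulayRing 𝓕.extRees ↔ LocCoh.IsCohenMacaulayRing 𝓕.Gr := by
  haveI : IsNoetherianRing 𝓕.extRees := isNoetherianRing_extRees 𝓕 hfg
  haveI : IsNoetherianRing 𝓕.Gr := inferInstance
  have key := forall_localization_iff 𝓕 hsep hfg goodProp_cm (G := 𝓕.Gr)
    (Ideal.Quotient.mk (Ideal.span {𝓕.u})) Ideal.Quotient.mk_surjective Ideal.mk_ker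
  constructor
  · intro h
    exact ⟨key.mp (fun Q _ => h.isCohenMacaulayLocalRing_localization Q)⟩
  · intro h
    exact ⟨key.mpr (fun q _ => h.isCohenMacaulayLocalRing_localization q)⟩

include hsep hfg in
theorem isGorensteinRing_extRees_iff :
    LocCoh.IsGorensteinRing 𝓕.extRees ↔ LocCoh.IsGorensteinRing 𝓕.Gr := by
  haveI : IsNoetherianRing 𝓕.extRees := isNoetherianRing_extRees 𝓕 hfg
  haveI : IsNoetherianRing 𝓕.Gr := inferInstance
  have key := forall_localization_iff 𝓕 hsep hfg goodProp_gor (G := 𝓕.Gr)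
    (Ideal.Quotient.mk (Ideal.span {𝓕.u})) Ideal.Quotient.mk_surjective Ideal.mk_ker
  constructor
  · intro h
    exact ⟨key.mp (fun Q _ => h.isGorensteinLocalRing_localization Q)⟩
  · intro h
    exact ⟨key.mpr (fun q _ => h.isGorensteinLocalRing_localization q)⟩

include hfg in
theorem hasSk_succ_extRees_iff (k : ℕ) :
    LocCoh.HasSk (k + 1) 𝓕.extRees 𝓕.extRees ↔
      (LocCoh.HasSk k 𝓕.Gr 𝓕.Gr ∧ LocCoh.HasSk (k + 1) A A) := by
  haveI : IsNoetherianRing 𝓕.extRees := isNoetherianRing_extRees 𝓕 hfg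
  have hreg := u_regular 𝓕
  constructor
  · intro h
    refine ⟨hasSk_quotient_of_hasSk_succ k 𝓕.u hreg h, ?_⟩
    exact hasSk_of_hasSk_laurent A (k + 1)
      (Groth.Agent.Lib.LeadGrHE.hasSk_of_isLocalization (Submonoid.powers 𝓕.u) A[T;T⁻¹] (k + 1) h)
  · rintro ⟨hG, hA⟩
    rw [hasSk_self_iff_enat]
    intro Q hQ
    by_cases huQ : 𝓕.u ∈ Q
    · exact min_succ_height_le_depth_localization_of_hasSk_quotient k 𝓕.u hreg hG Q huQ
    · obtain ⟨P', hP', hc⟩ := exists_prime_comap_eq 𝓕 Q huQ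
      have h1 := min_height_le_depth_of_isLocalization (Submonoid.powers 𝓕.u) (k + 1)
        (hasSk_laurent A (k + 1) hA) P'
      have transport : ∀ (Q₁ : Ideal 𝓕.extRees) [Q₁.IsPrime], Q₁ = Q →
          min (((k + 1 : ℕ) : ℕ∞)) Q₁.height ≤
            LocCoh.depth (Localization.AtPrime Q₁) (Localization.AtPrime Q₁) →
          min (((k + 1 : ℕ) : ℕ∞)) Q.height ≤
            LocCoh.depth (Localization.AtPrime Q) (Localization.AtPrime Q) := by
        intro Q₁ _ e h
        subst e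
        exact h
      exact transport _ hc h1

end Main

end Groth.Agent.Lib.LeadER
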