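import Mathlib
import Groth.Agent.Lib.LeadERc

/-!
# The extended Rees algebra (lead), part d: Cohen–Macaulayness off `V(R_+ R')`

For a "good" local property `Pr` (see `GoodProp`): `R'_P` has `Pr` for every prime `P ⊉ R_+R'` iff
`G_p` has `Pr` for every prime `p ⊉ G_+` and `A_q` has `Pr` for every prime `q ⊉ F^1`.
-/

set_option autoImplicit false
set_option maxHeartbeats 400000
set_option linter.style.haveILetI false
set_option linter.unusedSectionVars false
set_option linter.unusedVariables false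

universe u

noncomputable section

namespace Groth.Agent.Lib.LeadER

open scoped Polynomial
open LaurentPolynomial IsLocalRing Groth.Agent.Lib.Helper28

variable {A : Type u} [CommRing A] (𝓕 : FiltBl.IdealFiltration A)

/-- the ideal `R_+ R'` -/
def posIdeal : Ideal 𝓕.extRees :=
  Ideal.span {x : 𝓕.extRees | ∃ n : ℕ, 0 < n ∧ ∃ a ∈ 𝓕.F n,
    (x : LaurentPolynomial A) = LaurentPolynomial.C a * LaurentPolynomial.T (n : ℤ)}

lemma mono_one_mem_posIdeal (a : A) (ha : a ∈ 𝓕.F 1) :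
    mono 𝓕 1 a (by simpa using ha) ∈ posIdeal 𝓕 := by
  apply Ideal.subset_span
  refine ⟨1, Nat.one_pos, a, ha, ?_⟩
  rw [coe_mono, single_eq_C_mul_T]
  rfl

/-- if `F^1 ⊆ q = P' ∩ A` then `R_+R' ⊆ P' ∩ R'` -/
lemma posIdeal_le_comap (P' : Ideal A[T;T⁻¹])
    (h : 𝓕.F 1 ≤ P'.comap (algebraMap A A[T;T⁻¹])) :
    posIdeal 𝓕 ≤ P'.comap (algebraMap 𝓕.extRees A[T;T⁻¹]) := by
  rw [posIdeal, Ideal.span_le]
  rintro x ⟨n, hn, a, ha, hx⟩
  change x ∈ P'.comap (algebraMap 𝓕.extRees A[T;T⁻¹])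
  rw [Ideal.mem_comap, algebraMap_extRees, hx]
  have ha1 : a ∈ 𝓕.F 1 := 𝓕.antitone hn ha
  have h2 := h ha1
  rw [Ideal.mem_comap, ← LaurentPolynomial.C_eq_algebraMap] at h2
  exact Ideal.mul_mem_right _ _ h2

/-- if `F^1 ⊄ q` then `R_+R' ⊄ qA[T;T⁻¹] ∩ R'` -/
lemma not_posIdeal_le_comap_primeOver (q : Ideal A) (h : ¬ 𝓕.F 1 ≤ q) :
    ¬ posIdeal 𝓕 ≤ (primeOver A q).comap (algebraMap 𝓕.extRees A[T;T⁻¹]) := by
  intro hle
  apply h
  intro a ha
  have h1 := hle (mono_one_mem_posIdeal 𝓕 a ha)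
  rw [Ideal.mem_comap, algebraMap_extRees, coe_mono, mem_primeOver] at h1
  have h2 := h1 1
  rwa [AddMonoidAlgebra.coeff_single, Finsupp.single_eq_same] at h2

section Main

variable [IsNoetherianRing A] (hfg : Algebra.FiniteType A 𝓕.rees)
  {Pr : ∀ (R : Type u) [CommRing R], Prop} (hPr : GoodProp Pr)

include hfg hPr in
theorem forall_localization_off_posIdeal_iff {G : Type u} [CommRing G] (φ : 𝓕.extRees →+* G)
    (hφ : Function.Surjective φ) (hker : RingHom.ker φ = Ideal.span {𝓕.u}) :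
    (∀ (P : Ideal 𝓕.extRees) [P.IsPrime], ¬ posIdeal 𝓕 ≤ P → Pr (Localization.AtPrime P)) ↔
      ((∀ (p : Ideal G) [p.IsPrime], ¬ Ideal.map φ (posIdeal 𝓕) ≤ p →
          Pr (Localization.AtPrime p)) ∧
        (∀ (q : Ideal A) [q.IsPrime], ¬ 𝓕.F 1 ≤ q → Pr (Localization.AtPrime q))) := by
  haveI : IsNoetherianRing 𝓕.extRees := isNoetherianRing_extRees 𝓕 hfg
  have hreg := u_regular 𝓕
  have transport : ∀ (Q₁ Q₂ : Ideal 𝓕.extRees) [Q₁.IsPrime] [Q₂.IsPrime], Q₁ = Q₂ →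
      Pr (Localization.AtPrime Q₁) → Pr (Localization.AtPrime Q₂) := by
    intro Q₁ Q₂ _ _ e h
    subst e
    exact h
  have transportA : ∀ (q₁ q₂ : Ideal A) [q₁.IsPrime] [q₂.IsPrime], q₁ = q₂ →
      Pr (Localization.AtPrime q₁) → Pr (Localization.AtPrime q₂) := by
    intro q₁ q₂ _ _ e h
    subst e
    exact h
  constructor
  · intro h
    refine ⟨fun p hp hnp => ?_, fun q hq hnq => ?_⟩
    · have h1 : ¬ posIdeal 𝓕 ≤ p.comap φ := fun hle => hnp (Ideal.map_le_iff_le_comap.mpr hle)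
      exact (hPr.surj φ hφ 𝓕.u hker hreg p).mp (h _ h1)
    · have h1 := h _ (not_posIdeal_le_comap_primeOver 𝓕 q hnq)
      have h2 := (hPr.laurent (A := A) (Submonoid.powers 𝓕.u) (primeOver A q)).mp h1
      exact transportA _ _ (comap_primeOver q) h2
  · rintro ⟨hG, hA⟩ P hP hnP
    by_cases huP : 𝓕.u ∈ P
    · have hle : RingHom.ker φ ≤ P := by
        rw [hker]
        exact (Ideal.span_singleton_le_iff_mem _).mpr huP
      haveI hP' : (P.map φ).IsPrime := Ideal.map_isPrime_of_surjective hφ hle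
      have hc : (P.map φ).comap φ = P := by
        rw [Ideal.comap_map_of_surjective φ hφ, ← RingHom.ker_eq_comap_bot, sup_eq_left]
        exact hle
      have h1 : ¬ Ideal.map φ (posIdeal 𝓕) ≤ P.map φ := by
        intro hle'
        apply hnP
        have h2 := Ideal.map_le_iff_le_comap.mp hle'
        rwa [hc] at h2
      exact transport _ _ hc ((hPr.surj φ hφ 𝓕.u hker hreg (P.map φ)).mpr (hG _ h1))
    · obtain ⟨P', hP', hc⟩ := exists_prime_comap_eq 𝓕 P huP
      have h1 : ¬ 𝓕.F 1 ≤ P'.comap (algebraMap A A[T;T⁻¹]) := by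
        intro hle
        apply hnP
        rw [← hc]
        exact posIdeal_le_comap 𝓕 P' hle
      have h2 := (hPr.laurent (A := A) (Submonoid.powers 𝓕.u) P').mpr (hA _ h1)
      exact transport _ _ hc h2

end Main

end Groth.Agent.Lib.LeadER
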