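import Mathlib
import Groth.Agent.Lib.LeadCotSm
import Groth.Agent.Lib.LeadFittSing
import Groth.Agent.Lib.Helper5IntDim

/-!
# Hypersurface singularities: the number of generators of the differentials (lead)

Namespace `Groth.Agent.Lib.LeadHypSing`.

* `span_one_tmul_eq_top`: pure tensors `1 ⊗ x` span `F ⊗_R N` over `F`.
* `exists_finset_span_localizedModule`: Nakayama, `N_p` is generated by `dim κ(p) ⊗ N` elements.
* `finrank_fiber_le_of_le`: upper semicontinuity of the fibre dimension under specialisation.
* `finrank_fiber_omega_baseChange`: the fibre dimension of the differentials is invariant under base change.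
* `finrank_fiber_le_cotangentSpace`: at a closed point over an algebraically closed field the fibre of the
  differentials is at most the embedding dimension.
* `main_S17877`.
-/

set_option autoImplicit false
set_option maxHeartbeats 400000
set_option linter.style.haveILetI false
set_option linter.unusedSectionVars false
set_option linter.unusedVariables false

universe u

open TensorProduct KaehlerDifferential IsLocalRing

namespace Groth.Agent.Lib.LeadHypSing

theorem span_one_tmul_eq_top (R F N : Type*) [CommRing R] [CommRing F] [Algebra R F]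
    [AddCommGroup N] [Module R N] :
    Submodule.span F (Set.range fun x : N => (1 : F) ⊗ₜ[R] x) = ⊤ := by
  rw [eq_top_iff]
  rintro z -
  induction z using TensorProduct.induction_on with
  | zero => exact zero_mem _
  | tmul c x =>
    have h : c ⊗ₜ[R] x = c • ((1 : F) ⊗ₜ[R] x) := by
      rw [TensorProduct.smul_tmul', smul_eq_mul, mul_one]
    rw [h]
    exact Submodule.smul_mem _ _ (Submodule.subset_span ⟨x, rfl⟩)
  | add a b ha hb => exact add_mem ha hb

theorem finrank_le_card_of_span_eq_top {F V ι : Type*} [Field F] [AddCommGroup V] [Module F V]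
    [Fintype ι] (b : ι → V) (hb : Submodule.span F (Set.range b) = ⊤) :
    Module.finrank F V ≤ Fintype.card ι := by
  have h1 : (Set.range b).finrank F ≤ Fintype.card ι := finrank_range_le_card b
  have h2 : (Set.range b).finrank F = Module.finrank F V := by
    show Module.finrank F (Submodule.span F (Set.range b)) = _
    rw [hb, finrank_top]
  rw [← h2]
  exact h1

/-- Nakayama: the localisation of a finite module at a prime is generated by as many elements as the
dimension of its fibre. -/
theorem exists_finset_span_localizedModule {R N : Type u} [CommRing R] [AddCommGroup N]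
    [Module R N] [Module.Finite R N] (p : Ideal R) [p.IsPrime] :
    ∃ s : Finset (LocalizedModule p.primeCompl N),
      s.card = Module.finrank p.ResidueField (p.ResidueField ⊗[R] N) ∧
      Submodule.span (Localization.AtPrime p) (s : Set (LocalizedModule p.primeCompl N)) = ⊤ := by
  have fg : (⊤ : Submodule (Localization.AtPrime p) (LocalizedModule p.primeCompl N)).FG :=
    Module.Finite.fg_top
  obtain ⟨s, hs1, hs2⟩ := Submodule.FG.exists_span_finset_card_eq_spanFinrank fg
  refine ⟨s, ?_, hs2⟩
  rw [hs1, ← TensorProduct.spanFinrank_top_eq_of_residueField _ fg,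
    ← Module.finrank_eq_spanFinrank_of_free]
  let e1 : ↥(⊤ : Submodule (Localization.AtPrime p) (LocalizedModule p.primeCompl N)) ≃ₗ[
      Localization.AtPrime p] LocalizedModule p.primeCompl N := Submodule.topEquiv
  let e2 : LocalizedModule p.primeCompl N ≃ₗ[Localization.AtPrime p]
      Localization.AtPrime p ⊗[R] N := LocalizedModule.equivTensorProduct p.primeCompl N
  let e3 := AlgebraTensorModule.congr (LinearEquiv.refl p.ResidueField p.ResidueField)
    (e1 ≪≫ₗ e2)
  let e4 := AlgebraTensorModule.cancelBaseChange R (Localization.AtPrime p) p.ResidueField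
    p.ResidueField N
  exact (e3 ≪≫ₗ e4).finrank_eq

/-- upper semicontinuity of the fibre dimension of a finite module. -/
theorem finrank_fiber_le_of_le {R N : Type u} [CommRing R] [AddCommGroup N] [Module R N]
    [Module.Finite R N] (q m : Ideal R) [q.IsPrime] [m.IsPrime] (hqm : q ≤ m) :
    Module.finrank q.ResidueField (q.ResidueField ⊗[R] N) ≤
      Module.finrank m.ResidueField (m.ResidueField ⊗[R] N) := by
  classical
  obtain ⟨t, hts, htcard, htspan, -⟩ := Submodule.exists_finset_span_eq_linearIndepOn
    m.ResidueField (Set.range fun x : N => (1 : m.ResidueField) ⊗ₜ[R] x)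
  rw [span_one_tmul_eq_top R m.ResidueField N] at htspan htcard
  rw [finrank_top] at htcard
  have hex : ∀ z : t, ∃ x : N,
      (1 : m.ResidueField) ⊗ₜ[R] x = (z : m.ResidueField ⊗[R] N) := fun z => hts z.2
  choose g hg using hex
  obtain ⟨W, hW⟩ : ∃ W : Submodule R N, W = Submodule.span R (Set.range g) := ⟨_, rfl⟩
  have h1 : Subsingleton (m.ResidueField ⊗[R] (N ⧸ W)) := by
    have hsurj : Function.Surjective (LinearMap.baseChange m.ResidueField W.mkQ) := by
      rw [LinearMap.baseChange_eq_ltensor]
      exact LinearMap.lTensor_surjective _ W.mkQ_surjective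
    have hzero : ∀ y : m.ResidueField ⊗[R] N,
        LinearMap.baseChange m.ResidueField W.mkQ y = 0 := by
      intro y
      have hy : y ∈ Submodule.span m.ResidueField (t : Set (m.ResidueField ⊗[R] N)) := by
        rw [htspan]; trivial
      induction hy using Submodule.span_induction with
      | mem z hz =>
        have hz' : (1 : m.ResidueField) ⊗ₜ[R] g ⟨z, hz⟩ = z := hg ⟨z, hz⟩
        rw [← hz', LinearMap.baseChange_tmul]
        have h0 : W.mkQ (g ⟨z, hz⟩) = 0 := by
          rw [Submodule.mkQ_apply, Submodule.Quotient.mk_eq_zero, hW]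
          exact Submodule.subset_span ⟨_, rfl⟩
        rw [h0, TensorProduct.tmul_zero]
      | zero => exact map_zero _
      | add a b _ _ ha hb => rw [map_add, ha, hb, add_zero]
      | smul c a _ ha => rw [map_smul, ha, smul_zero]
    refine ⟨fun a b => ?_⟩
    obtain ⟨a', rfl⟩ := hsurj a
    obtain ⟨b', rfl⟩ := hsurj b
    rw [hzero, hzero]
  have h2 : Subsingleton (q.ResidueField ⊗[R] (N ⧸ W)) := by
    by_contra hne
    rw [not_subsingleton_iff_nontrivial] at hne
    have hq : (⟨q, inferInstance⟩ : PrimeSpectrum R) ∈ Module.support R (N ⧸ W) :=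
      (Module.mem_support_iff_nontrivial_residueField_tensorProduct ⟨q, inferInstance⟩).mpr hne
    have hm : (⟨m, inferInstance⟩ : PrimeSpectrum R) ∈ Module.support R (N ⧸ W) :=
      Module.mem_support_mono (p := ⟨q, inferInstance⟩) (q := ⟨m, inferInstance⟩) hqm hq
    have hnt := (Module.mem_support_iff_nontrivial_residueField_tensorProduct
      ⟨m, inferInstance⟩).mp hm
    exact not_subsingleton _ h1
  have hexact : Function.Exact (LinearMap.lTensor q.ResidueField W.subtype)
      (LinearMap.lTensor q.ResidueField W.mkQ) :=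
    lTensor_exact q.ResidueField (LinearMap.exact_subtype_mkQ W) W.mkQ_surjective
  have key : ∀ n ∈ Submodule.span R (Set.range g), (1 : q.ResidueField) ⊗ₜ[R] n ∈
      Submodule.span q.ResidueField (Set.range fun z : t => (1 : q.ResidueField) ⊗ₜ[R] g z) := by
    intro n hn
    induction hn using Submodule.span_induction with
    | mem x hx =>
      obtain ⟨z, rfl⟩ := hx
      exact Submodule.subset_span ⟨z, rfl⟩
    | zero => rw [TensorProduct.tmul_zero]; exact zero_mem _
    | add a b _ _ ha hb => rw [TensorProduct.tmul_add]; exact add_mem ha hb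
    | smul r a _ ha =>
      rw [TensorProduct.tmul_smul, ← algebraMap_smul q.ResidueField r]
      exact Submodule.smul_mem _ _ ha
  have key2 : ∀ w : q.ResidueField ⊗[R] W,
      LinearMap.baseChange q.ResidueField W.subtype w ∈
        Submodule.span q.ResidueField
          (Set.range fun z : t => (1 : q.ResidueField) ⊗ₜ[R] g z) := by
    intro w
    have hw : w ∈ Submodule.span q.ResidueField
        (Set.range fun x : W => (1 : q.ResidueField) ⊗ₜ[R] x) := by
      rw [span_one_tmul_eq_top R q.ResidueField W]; trivial
    induction hw using Submodule.span_induction with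
    | mem z hz =>
      obtain ⟨x, rfl⟩ := hz
      rw [LinearMap.baseChange_tmul]
      exact key _ (hW ▸ x.2)
    | zero => rw [map_zero]; exact zero_mem _
    | add a b _ _ ha hb => rw [map_add]; exact add_mem ha hb
    | smul c a _ ha => rw [map_smul]; exact Submodule.smul_mem _ _ ha
  have hspanq : Submodule.span q.ResidueField
      (Set.range fun z : t => (1 : q.ResidueField) ⊗ₜ[R] g z) = ⊤ := by
    rw [eq_top_iff]
    rintro y -
    have hy0 : LinearMap.lTensor q.ResidueField W.mkQ y = 0 := Subsingleton.elim _ _
    obtain ⟨w, rfl⟩ := (hexact y).mp hy0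
    exact key2 w
  have hfin := finrank_le_card_of_span_eq_top _ hspanq
  rw [Fintype.card_coe, htcard] at hfin
  exact hfin

attribute [local instance] Algebra.TensorProduct.rightAlgebra in
/-- the fibre dimension of the differentials is invariant under base change. -/
theorem finrank_fiber_omega_baseChange (R T S : Type u) [CommRing R] [CommRing T] [CommRing S]
    [Algebra R T] [Algebra R S] (Q : Ideal (T ⊗[R] S)) [Q.IsPrime] :
    Module.finrank Q.ResidueField (Q.ResidueField ⊗[T ⊗[R] S] Ω[T ⊗[R] S⁄T]) =
      Module.finrank (Q.comap Algebra.TensorProduct.includeRight).ResidueField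
        ((Q.comap Algebra.TensorProduct.includeRight).ResidueField ⊗[S] Ω[S⁄R]) := by
  let e : (T ⊗[R] S) ⊗[S] Ω[S⁄R] ≃ₗ[T ⊗[R] S] Ω[T ⊗[R] S⁄T] :=
    KaehlerDifferential.tensorKaehlerEquiv R T S (T ⊗[R] S)
  have hK : RingHom.ker (algebraMap S Q.ResidueField) =
      Q.comap Algebra.TensorProduct.includeRight := by
    ext s
    rw [RingHom.mem_ker, Ideal.mem_comap,
      IsScalarTower.algebraMap_apply S (T ⊗[R] S) Q.ResidueField, ← RingHom.mem_ker,
      Ideal.ker_algebraMap_residueField]
    rfl
  have h1 : Module.finrank Q.ResidueField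
      (Q.ResidueField ⊗[T ⊗[R] S] Ω[T ⊗[R] S⁄T]) =
      Module.finrank Q.ResidueField (Q.ResidueField ⊗[S] Ω[S⁄R]) := by
    rw [← (AlgebraTensorModule.congr (LinearEquiv.refl Q.ResidueField Q.ResidueField)
        e).finrank_eq,
      (AlgebraTensorModule.cancelBaseChange S (T ⊗[R] S) Q.ResidueField Q.ResidueField
        Ω[S⁄R]).finrank_eq]
  rw [h1, Groth.Agent.Lib.LeadFittSing.finrank_tensor_eq_of_ker Ω[S⁄R] _ Q.ResidueField hK]

section closedpt

variable {k R : Type u} [Field k] [CommRing R] [Algebra k R]

/-- the differentials of a generating set of an ideal contained in the kernel span the image of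
the differentials of the ideal. -/
theorem one_tmul_D_mem_span (F : Type u) [Field F] [Algebra R F] {ι : Type*} (x : ι → R)
    (hI : Ideal.span (Set.range x) ≤ RingHom.ker (algebraMap R F)) (b : R)
    (hb : b ∈ Ideal.span (Set.range x)) :
    (1 : F) ⊗ₜ[R] D k R b ∈
      Submodule.span F (Set.range fun i => (1 : F) ⊗ₜ[R] D k R (x i)) := by
  induction hb using Submodule.span_induction with
  | mem y hy =>
    obtain ⟨i, rfl⟩ := hy
    exact Submodule.subset_span ⟨i, rfl⟩
  | zero => rw [map_zero, TensorProduct.tmul_zero]; exact zero_mem _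
  | add a b _ _ ha hb => rw [map_add, TensorProduct.tmul_add]; exact add_mem ha hb
  | smul r a ha iha =>
    have h0 : algebraMap R F a = 0 := RingHom.mem_ker.mp (hI ha)
    have h1 : (1 : F) ⊗ₜ[R] D k R (r • a) =
        algebraMap R F r • ((1 : F) ⊗ₜ[R] D k R a) := by
      rw [smul_eq_mul, Derivation.leibniz, TensorProduct.tmul_add, TensorProduct.tmul_smul,
        TensorProduct.tmul_smul, ← algebraMap_smul F r, ← algebraMap_smul F a, h0, zero_smul,
        add_zero]
    rw [h1]
    exact Submodule.smul_mem _ _ iha

/-- at a closed point of a finite type algebra over an algebraically closed field, the fibre of the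
differentials has dimension at most the embedding dimension. -/
theorem finrank_fiber_le_cotangentSpace [IsAlgClosed k] [Algebra.FiniteType k R] (m : Ideal R)
    [m.IsMaximal] :
    Module.finrank m.ResidueField (m.ResidueField ⊗[R] Ω[R⁄k]) ≤
      Module.finrank (ResidueField (Localization.AtPrime m))
        (CotangentSpace (Localization.AtPrime m)) := by
  classical
  haveI : IsNoetherianRing R := Algebra.FiniteType.isNoetherianRing k R
  haveI : IsNoetherianRing (Localization.AtPrime m) :=
    IsLocalization.isNoetherianRing m.primeCompl _ inferInstance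
  have hbij : Function.Bijective (algebraMap k m.ResidueField) :=
    Groth.Agent.Lib.LeadCotSm.bijective_algebraMap_residueField (k := k) (RingEquiv.refl k) m
  have hker : RingHom.ker (algebraMap R m.ResidueField) = m := Ideal.ker_algebraMap_residueField m
  rw [← spanFinrank_maximalIdeal_eq_finrank_cotangentSpace]
  obtain ⟨s, hs1, hs2⟩ := Submodule.FG.exists_span_finset_card_eq_spanFinrank
    (maximalIdeal (Localization.AtPrime m)).fg_of_isNoetherianRing
  rw [← hs1]
  have hex : ∀ y : s, ∃ x : R, ∃ t : m.primeCompl,
      (y : Localization.AtPrime m) * algebraMap R (Localization.AtPrime m) t =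
        algebraMap R (Localization.AtPrime m) x := fun y => by
    obtain ⟨⟨x, t⟩, h⟩ := IsLocalization.surj m.primeCompl (y : Localization.AtPrime m)
    exact ⟨x, t, h⟩
  choose x t hx using hex
  have hys : ∀ y : s, (y : Localization.AtPrime m) ∈ maximalIdeal (Localization.AtPrime m) := by
    intro y
    rw [← hs2]
    exact Submodule.subset_span y.2
  have hxm : ∀ y : s, x y ∈ m := by
    intro y
    rw [← IsLocalization.AtPrime.to_map_mem_maximal_iff (Localization.AtPrime m) m, ← hx y]
    exact Ideal.mul_mem_right _ _ (hys y)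
  have hI : Ideal.span (Set.range x) ≤ m :=
    Ideal.span_le.mpr (by rintro _ ⟨y, rfl⟩; exact hxm y)
  have hmap : (Ideal.span (Set.range x)).map (algebraMap R (Localization.AtPrime m)) =
      maximalIdeal (Localization.AtPrime m) := by
    apply le_antisymm
    · rw [← Localization.AtPrime.map_eq_maximalIdeal]
      exact Ideal.map_mono hI
    · rw [← hs2]
      refine Submodule.span_le.mpr ?_
      intro y hy
      have hu : IsUnit (algebraMap R (Localization.AtPrime m) (t ⟨y, hy⟩)) :=
        IsLocalization.map_units _ (t ⟨y, hy⟩)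
      have h1 : algebraMap R (Localization.AtPrime m) (x ⟨y, hy⟩) ∈
          (Ideal.span (Set.range x)).map (algebraMap R (Localization.AtPrime m)) :=
        Ideal.mem_map_of_mem _ (Ideal.subset_span ⟨_, rfl⟩)
      rw [← hx ⟨y, hy⟩] at h1
      exact (Ideal.mul_unit_mem_iff_mem _ hu).mp h1
  have hclear : ∀ a ∈ m, ∃ u ∈ m.primeCompl, u * a ∈ Ideal.span (Set.range x) := by
    intro a ha
    rw [← IsLocalization.algebraMap_mem_map_algebraMap_iff m.primeCompl
      (Localization.AtPrime m), hmap,
      IsLocalization.AtPrime.to_map_mem_maximal_iff (Localization.AtPrime m) m]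
    exact ha
  obtain ⟨V, hV⟩ : ∃ V : Submodule m.ResidueField (m.ResidueField ⊗[R] Ω[R⁄k]),
      V = Submodule.span m.ResidueField
        (Set.range fun y : s => (1 : m.ResidueField) ⊗ₜ[R] D k R (x y)) := ⟨_, rfl⟩
  have hI' : Ideal.span (Set.range x) ≤ RingHom.ker (algebraMap R m.ResidueField) := by
    rw [hker]; exact hI
  have h5 : ∀ a ∈ m, (1 : m.ResidueField) ⊗ₜ[R] D k R a ∈ V := by
    intro a ha
    obtain ⟨u, hu, hua⟩ := hclear a ha
    have h1 := one_tmul_D_mem_span (k := k) m.ResidueField x hI' (u * a) hua
    rw [← hV] at h1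
    have h0 : algebraMap R m.ResidueField a = 0 := by
      rw [← RingHom.mem_ker, hker]; exact ha
    have hu0 : algebraMap R m.ResidueField u ≠ 0 := by
      intro h
      apply hu
      rw [← hker]
      exact RingHom.mem_ker.mpr h
    have h2 : (1 : m.ResidueField) ⊗ₜ[R] D k R (u * a) =
        algebraMap R m.ResidueField u • ((1 : m.ResidueField) ⊗ₜ[R] D k R a) := by
      rw [Derivation.leibniz, TensorProduct.tmul_add, TensorProduct.tmul_smul,
        TensorProduct.tmul_smul, ← algebraMap_smul m.ResidueField u,
        ← algebraMap_smul m.ResidueField a, h0, zero_smul, add_zero]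
    rw [h2] at h1
    exact (Submodule.smul_mem_iff _ hu0).mp h1
  have h6 : ∀ ω : Ω[R⁄k], (1 : m.ResidueField) ⊗ₜ[R] ω ∈ V := by
    intro ω
    obtain ⟨a, ha, hω⟩ := Groth.Agent.Lib.LeadCotSm.exists_D_sub_mem (C := k) (A := R)
      m.ResidueField hbij.2 ω
    have h1 := Groth.Agent.Lib.LeadCotSm.one_tmul_eq_zero_of_mem m.ResidueField _ hω
    rw [TensorProduct.tmul_sub, sub_eq_zero] at h1
    rw [h1]
    exact h5 a (hker ▸ ha)
  have h7 : V = ⊤ := by
    rw [eq_top_iff, ← span_one_tmul_eq_top R m.ResidueField Ω[R⁄k]]
    exact Submodule.span_le.mpr (by rintro _ ⟨ω, rfl⟩; exact h6 ω)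
  rw [hV] at h7
  have hfin := finrank_le_card_of_span_eq_top _ h7
  rwa [Fintype.card_coe] at hfin

end closedpt

section main

attribute [local instance] Algebra.TensorProduct.rightAlgebra in
/-- a prime of `K̄ ⊗ A` over a given prime of `A`. -/
theorem exists_prime_over {K A : Type u} [Field K] [CommRing A] [Algebra K A] (p : Ideal A)
    [p.IsPrime] :
    ∃ q : Ideal (AlgebraicClosure K ⊗[K] A), q.IsPrime ∧
      q.comap (Algebra.TensorProduct.includeRight :
        A →ₐ[K] AlgebraicClosure K ⊗[K] A) = p := by
  have hinj0 := Algebra.TensorProduct.includeLeft_injective (R := K) (S := K) (A := A)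
    (B := AlgebraicClosure K) (FaithfulSMul.algebraMap_injective K (AlgebraicClosure K))
  have hinj : Function.Injective (algebraMap A (A ⊗[K] AlgebraicClosure K)) := by
    intro a b h
    exact hinj0 h
  have hker : (⊥ : Ideal (A ⊗[K] AlgebraicClosure K)).comap
      (algebraMap A (A ⊗[K] AlgebraicClosure K)) ≤ p := by
    rw [← RingHom.ker_eq_comap_bot, (RingHom.injective_iff_ker_eq_bot _).mp hinj]
    exact bot_le
  obtain ⟨Q, -, hQ, hQp⟩ := Ideal.exists_ideal_over_prime_of_isIntegral p
    (⊥ : Ideal (A ⊗[K] AlgebraicClosure K)) hker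
  refine ⟨Q.comap (Algebra.TensorProduct.comm K (AlgebraicClosure K) A).toAlgHom,
    Ideal.comap_isPrime _ _, ?_⟩
  rw [← hQp]
  ext a
  simp only [Ideal.mem_comap]
  have h1 : (Algebra.TensorProduct.comm K (AlgebraicClosure K) A).toAlgHom
      ((Algebra.TensorProduct.includeRight : A →ₐ[K] AlgebraicClosure K ⊗[K] A) a) =
      algebraMap A (A ⊗[K] AlgebraicClosure K) a := by
    simp [Algebra.TensorProduct.algebraMap_apply]
  rw [h1]

theorem ringKrullDim_geom_le {K A : Type u} [Field K] [CommRing A] [Algebra K A] :
    ringKrullDim (AlgebraicClosure K ⊗[K] A) ≤ ringKrullDim A := by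
  rw [ringKrullDim_eq_of_ringEquiv
    (Algebra.TensorProduct.comm K (AlgebraicClosure K) A).toRingEquiv]
  exact Groth.Agent.Lib.Helper5.ringKrullDim_le_of_isIntegral A (A ⊗[K] AlgebraicClosure K)

theorem main_S17877 {K : Type u} [Field K] {A : Type u} [CommRing A] [Algebra K A]
    [Algebra.FiniteType K A]
    [IsDomain (TensorProduct K (AlgebraicClosure K) A)]
    (hhyp : ∀ (q : Ideal (TensorProduct K (AlgebraicClosure K) A)) [q.IsPrime],
      (Module.finrank (IsLocalRing.ResidueField (Localization.AtPrime q))
          (IsLocalRing.CotangentSpace (Localization.AtPrime q)) : ℕ∞) ≤ q.height + 1)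
    (d : ℕ) (hd : ringKrullDim A = d) (p : Ideal A) [p.IsPrime] :
    ∃ s : Finset (LocalizedModule p.primeCompl (KaehlerDifferential K A)),
      s.card ≤ d + 1 ∧ Submodule.span (Localization.AtPrime p)
        (s : Set (LocalizedModule p.primeCompl (KaehlerDifferential K A))) = ⊤ := by
  obtain ⟨s, hs1, hs2⟩ := exists_finset_span_localizedModule (N := Ω[A⁄K]) p
  refine ⟨s, ?_, hs2⟩
  rw [hs1]
  obtain ⟨q, hqprime, hqp⟩ := exists_prime_over (K := K) p
  obtain ⟨m, hm, hqm⟩ := Ideal.exists_le_maximal q hqprime.ne_top
  have h1 := finrank_fiber_omega_baseChange K (AlgebraicClosure K) A q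
  have h2 := finrank_fiber_le_of_le
    (N := Ω[AlgebraicClosure K ⊗[K] A⁄AlgebraicClosure K]) q m hqm
  have h3 := finrank_fiber_le_cotangentSpace (k := AlgebraicClosure K)
    (R := AlgebraicClosure K ⊗[K] A) m
  have h4 := hhyp m
  have h5 : (m.height : WithBot ℕ∞) ≤ ((d : ℕ∞) : WithBot ℕ∞) := by
    refine (Ideal.height_le_ringKrullDim_of_ne_top hm.ne_top).trans ?_
    refine (ringKrullDim_geom_le (K := K) (A := A)).trans ?_
    rw [hd]
    exact le_of_eq rfl
  have h6 : m.height ≤ (d : ℕ∞) := WithBot.coe_le_coe.mp h5
  subst hqp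
  rw [← h1]
  have h7 : ((Module.finrank q.ResidueField
      (q.ResidueField ⊗[AlgebraicClosure K ⊗[K] A]
        Ω[AlgebraicClosure K ⊗[K] A⁄AlgebraicClosure K]) : ℕ) : ℕ∞) ≤ (d : ℕ∞) + 1 := by
    refine le_trans ?_ (h4.trans (add_le_add_left h6 1))
    exact_mod_cast h2.trans h3
  exact_mod_cast h7

end main

end Groth.Agent.Lib.LeadHypSing
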