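import Mathlib
import Groth.Agent.Lib.LeadEtCoord
import Groth.Agent.Lib.LeadEtChart
import Groth.Agent.Lib.LeadHypSing

/-!
# Étale local structure of a smooth closed subscheme of a smooth scheme (lead)

Namespace `Groth.Agent.Lib.LeadEtChart2`.

* `exists_min_generators`: a finitely generated ideal is generated at a prime `q` by `dim κ(q) ⊗ J` of its elements.
* `main_S2818'`: form of `LeadEtCoord.main_S2818` for an arbitrary localisation away from `f`.
* `exists_etale_coordinates`: ring-level package for a surjection of smooth algebras.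
* `main_S1479`.
-/

set_option autoImplicit false
set_option maxHeartbeats 400000
set_option linter.style.haveILetI false
set_option linter.unusedSectionVars false
set_option linter.unusedVariables false

universe u

open TensorProduct CategoryTheory AlgebraicGeometry Limits

namespace Groth.Agent.Lib.LeadEtChart2

open Groth.Agent.Lib.LeadHypSing Groth.Agent.Lib.LeadEtChart

section algebra

theorem subsingleton_tensor_quotient_span {R N : Type u} [CommRing R] [AddCommGroup N]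
    [Module R N] (F : Type u) [Field F] [Algebra R F] {ι : Type*} (g : ι → N)
    (hspan : Submodule.span F (Set.range fun i => (1 : F) ⊗ₜ[R] g i) = ⊤) :
    Subsingleton (F ⊗[R] (N ⧸ Submodule.span R (Set.range g))) := by
  obtain ⟨W, hW⟩ : ∃ W : Submodule R N, W = Submodule.span R (Set.range g) := ⟨_, rfl⟩
  rw [← hW]
  have hsurj : Function.Surjective (LinearMap.baseChange F W.mkQ) := by
    rw [LinearMap.baseChange_eq_ltensor]
    exact LinearMap.lTensor_surjective _ W.mkQ_surjective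
  have hzero : ∀ y : F ⊗[R] N, LinearMap.baseChange F W.mkQ y = 0 := by
    intro y
    have hy : y ∈ Submodule.span F (Set.range fun i => (1 : F) ⊗ₜ[R] g i) := by
      rw [hspan]; trivial
    induction hy using Submodule.span_induction with
    | mem z hz =>
      obtain ⟨i, rfl⟩ := hz
      rw [LinearMap.baseChange_tmul]
      have h0 : W.mkQ (g i) = 0 := by
        rw [Submodule.mkQ_apply, Submodule.Quotient.mk_eq_zero, hW]
        exact Submodule.subset_span ⟨i, rfl⟩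
      rw [h0, TensorProduct.tmul_zero]
    | zero => exact map_zero _
    | add a b _ _ ha hb => rw [map_add, ha, hb, add_zero]
    | smul c a _ ha => rw [map_smul, ha, smul_zero]
  refine ⟨fun a b => ?_⟩
  obtain ⟨a', rfl⟩ := hsurj a
  obtain ⟨b', rfl⟩ := hsurj b
  rw [hzero, hzero]

/-- Nakayama: a finitely generated ideal `J` is generated at a prime `q` by `dim κ(q) ⊗ J` of its
elements. -/
theorem exists_min_generators {B : Type u} [CommRing B] (J : Ideal B) (hJ : J.FG) (q : Ideal B)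
    [q.IsPrime] :
    ∃ g : Fin (Module.finrank q.ResidueField (q.ResidueField ⊗[B] J)) → B,
      (∀ i, g i ∈ J) ∧ J.map (algebraMap B (Localization.AtPrime q)) =
        Ideal.span (Set.range fun i => algebraMap B (Localization.AtPrime q) (g i)) := by
  classical
  haveI : Module.Finite B J := Module.Finite.iff_fg.mpr hJ
  obtain ⟨t, hts, htcard, htspan, -⟩ := Submodule.exists_finset_span_eq_linearIndepOn
    q.ResidueField (Set.range fun x : J => (1 : q.ResidueField) ⊗ₜ[B] x)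
  rw [span_one_tmul_eq_top B q.ResidueField J] at htspan htcard
  rw [finrank_top] at htcard
  have hex : ∀ z : t, ∃ x : J,
      (1 : q.ResidueField) ⊗ₜ[B] x = (z : q.ResidueField ⊗[B] J) := fun z => hts z.2
  choose g₀ hg₀ using hex
  let e : Fin (Module.finrank q.ResidueField (q.ResidueField ⊗[B] J)) ≃ t :=
    (Finset.equivFinOfCardEq htcard).symm
  refine ⟨fun i => (g₀ (e i) : B), fun i => (g₀ (e i)).2, ?_⟩
  have hspan' : Submodule.span q.ResidueField
      (Set.range fun z : t => (1 : q.ResidueField) ⊗ₜ[B] g₀ z) = ⊤ := by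
    rw [← htspan]
    congr 1
    ext v
    constructor
    · rintro ⟨z, rfl⟩
      show (1 : q.ResidueField) ⊗ₜ[B] g₀ z ∈ (t : Set (q.ResidueField ⊗[B] J))
      rw [hg₀]
      exact z.2
    · intro hv
      exact ⟨⟨v, hv⟩, hg₀ ⟨v, hv⟩⟩
  have h1 := subsingleton_tensor_quotient_span q.ResidueField g₀ hspan'
  have h2 : (⟨q, inferInstance⟩ : PrimeSpectrum B) ∉
      Module.support B (J ⧸ Submodule.span B (Set.range g₀)) := by
    rw [Module.mem_support_iff_nontrivial_residueField_tensorProduct]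
    exact not_nontrivial_iff_subsingleton.mpr h1
  rw [Module.notMem_support_iff'] at h2
  apply le_antisymm
  · rw [Ideal.map_le_iff_le_comap]
    intro x hx
    rw [Ideal.mem_comap]
    obtain ⟨s, hs, hsx⟩ := h2 ((Submodule.span B (Set.range g₀)).mkQ ⟨x, hx⟩)
    have h3 : s • (⟨x, hx⟩ : J) ∈ Submodule.span B (Set.range g₀) := by
      rw [← Submodule.Quotient.mk_eq_zero, Submodule.Quotient.mk_smul]
      exact hsx
    have h4 : s * x ∈ Ideal.span (Set.range fun i => (g₀ (e i) : B)) := by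
      have h5 := Submodule.mem_map_of_mem (f := J.subtype) h3
      rw [Submodule.map_span, ← Set.range_comp] at h5
      have h6 : Set.range (fun i => (g₀ (e i) : B)) = Set.range (J.subtype ∘ g₀) := by
        have := e.surjective.range_comp (J.subtype ∘ g₀)
        rw [← this]
        rfl
      rw [h6]
      exact h5
    have h5 : algebraMap B (Localization.AtPrime q) (s * x) ∈
        Ideal.span (Set.range fun i => algebraMap B (Localization.AtPrime q) (g₀ (e i))) := by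
      have h6 := Ideal.mem_map_of_mem (algebraMap B (Localization.AtPrime q)) h4
      rwa [Ideal.map_span, ← Set.range_comp] at h6
    rw [map_mul] at h5
    have hu : IsUnit (algebraMap B (Localization.AtPrime q) s) :=
      IsLocalization.map_units _ (⟨s, hs⟩ : q.primeCompl)
    exact (Ideal.unit_mul_mem_iff_mem _ hu).mp h5
  · rw [Ideal.span_le]
    rintro _ ⟨i, rfl⟩
    exact Ideal.mem_map_of_mem _ (g₀ (e i)).2

/-- `LeadEtCoord.main_S2818` with minimal generators chosen, for any localisation away from `f`. -/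
theorem main_S2818' (A B : Type u) [CommRing A] [CommRing B] [Algebra A B]
    [Algebra.FinitePresentation A B] (J : Ideal B) (hJ : J.FG) (q : Ideal B) [q.IsPrime]
    (hJq : J ≤ q) [Algebra.IsSmoothAt A q] (Q : Ideal (B ⧸ J)) [Q.IsPrime]
    (hQ : Q.comap (Ideal.Quotient.mk J) = q) [Algebra.IsSmoothAt A Q] :
    ∃ (f : B) (_ : f ∉ q) (m r : ℕ) (g : Fin r → B), (∀ i, g i ∈ J) ∧
      ∀ (Bf : Type u) [CommRing Bf] [Algebra B Bf] [Algebra A Bf] [IsScalarTower A B Bf]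
        [IsLocalization.Away f Bf],
        ∃ g' : Fin m → Bf,
          (MvPolynomial.aeval (Sum.elim g' (fun i => algebraMap B Bf (g i))) :
            MvPolynomial (Fin m ⊕ Fin r) A →ₐ[A] Bf).toRingHom.Etale ∧
          J.map (algebraMap B Bf) = Ideal.span (Set.range fun i => algebraMap B Bf (g i)) := by
  obtain ⟨g, hg, hgen⟩ := exists_min_generators J hJ q
  obtain ⟨f, hf, m, g', hE, hspan⟩ :=
    Groth.Agent.Lib.LeadEtCoord.main_S2818 A B J hJ q hJq Q hQ _ g hg hgen rfl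
  refine ⟨f, hf, m, _, g, hg, ?_⟩
  intro Bf _ _ _ _ _
  let e : Localization.Away f ≃ₐ[B] Bf := IsLocalization.algEquiv (Submonoid.powers f) _ _
  refine ⟨fun a => e (g' a), ?_, ?_⟩
  · let eA : Localization.Away f ≃ₐ[A] Bf := e.restrictScalars A
    let sw : MvPolynomial (Fin m ⊕ Fin (Module.finrank q.ResidueField (q.ResidueField ⊗[B] J))) A ≃ₐ[A]
        MvPolynomial (Fin (Module.finrank q.ResidueField (q.ResidueField ⊗[B] J)) ⊕ Fin m) A :=
      MvPolynomial.renameEquiv A (Equiv.sumComm _ _)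
    have h1 := RingHom.Etale.respectsIso.1 _ eA.toRingEquiv
      (RingHom.Etale.respectsIso.2 _ sw.toRingEquiv hE)
    convert h1 using 1
    apply MvPolynomial.ringHom_ext
    · intro a
      simp [sw, eA]
      exact (eA.commutes a).symm
    · intro j
      rcases j with a | b
      · simp [sw, eA]
      · simp [sw, eA]
  · have h1 := congrArg (Ideal.map (e : Localization.Away f →+* Bf)) hspan
    rw [Ideal.map_map, Ideal.map_span, ← Set.range_comp] at h1
    have h2 : (e : Localization.Away f →+* Bf).comp (algebraMap B (Localization.Away f)) =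
        algebraMap B Bf := by
      ext b
      exact e.commutes b
    rw [h2] at h1
    rw [h1]
    congr 2
    ext i
    simp

/-- ring-level package: étale coordinates adapted to a surjection of smooth algebras. -/
theorem exists_etale_coordinates (A B C : Type u) [CommRing A] [CommRing B] [CommRing C]
    [Algebra A B] [Algebra A C] [Algebra B C] [IsScalarTower A B C] [Algebra.Smooth A B]
    [Algebra.Smooth A C] (hsurj : Function.Surjective (algebraMap B C)) (q : Ideal B) [q.IsPrime]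
    (hq : RingHom.ker (algebraMap B C) ≤ q) :
    ∃ (f : B) (_ : f ∉ q) (m r : ℕ) (g : Fin r → B), (∀ i, algebraMap B C (g i) = 0) ∧
      ∀ (Bf : Type u) [CommRing Bf] [Algebra B Bf] [Algebra A Bf] [IsScalarTower A B Bf]
        [IsLocalization.Away f Bf],
        ∃ g' : Fin m → Bf,
          (MvPolynomial.aeval (Sum.elim g' (fun i => algebraMap B Bf (g i))) :
            MvPolynomial (Fin m ⊕ Fin r) A →ₐ[A] Bf).toRingHom.Etale ∧
          (RingHom.ker (algebraMap B C)).map (algebraMap B Bf) =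
            Ideal.span (Set.range fun i => algebraMap B Bf (g i)) := by
  let φ : B →ₐ[A] C := IsScalarTower.toAlgHom A B C
  have hφ : Function.Surjective φ := hsurj
  have hJ' : RingHom.ker φ = RingHom.ker (algebraMap B C) := Ideal.ext fun _ => Iff.rfl
  have hfg : (RingHom.ker φ).FG := by
    have := Algebra.FinitePresentation.ker_fG_of_surjective φ hφ
    exact this
  let eq : (B ⧸ RingHom.ker φ) ≃ₐ[A] C := Ideal.quotientKerAlgEquivOfSurjective hφ
  haveI : Algebra.Smooth A (B ⧸ RingHom.ker φ) := Algebra.Smooth.of_equiv eq.symm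
  haveI : Algebra.FormallyEtale B (Localization.AtPrime q) :=
    Algebra.FormallyEtale.of_isLocalization q.primeCompl
  haveI : Algebra.IsSmoothAt A q := Algebra.FormallySmooth.comp A B (Localization.AtPrime q)
  have hJq : RingHom.ker φ ≤ q := hJ' ▸ hq
  obtain ⟨Q, hQdef⟩ : ∃ Q : Ideal (B ⧸ RingHom.ker φ),
      Q = q.map (Ideal.Quotient.mk (RingHom.ker φ)) := ⟨_, rfl⟩
  haveI : Q.IsPrime := by
    rw [hQdef]
    exact Ideal.map_isPrime_of_surjective Ideal.Quotient.mk_surjective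
      (by rw [Ideal.mk_ker]; exact hJq)
  have hQ : Q.comap (Ideal.Quotient.mk (RingHom.ker φ)) = q := by
    rw [hQdef]
    exact Ideal.comap_map_mk hJq
  haveI : Algebra.FormallyEtale (B ⧸ RingHom.ker φ) (Localization.AtPrime Q) :=
    Algebra.FormallyEtale.of_isLocalization Q.primeCompl
  haveI : Algebra.IsSmoothAt A Q :=
    Algebra.FormallySmooth.comp A (B ⧸ RingHom.ker φ) (Localization.AtPrime Q)
  obtain ⟨f, hf, m, r, g, hg, H⟩ := main_S2818' A B (RingHom.ker φ) hfg q hJq Q hQ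
  refine ⟨f, hf, m, r, g, fun i => hg i, ?_⟩
  intro Bf _ _ _ _ _
  obtain ⟨g', h1, h2⟩ := H Bf
  exact ⟨g', h1, hJ' ▸ h2⟩

end algebra

section scheme

variable {S X Y : Scheme.{u}}

/-- étale chart from an étale ring map, with an explicit formula for the coordinates. -/
theorem etale_homOfVector_of_appLE' (f : X ⟶ Y) {U₀ : Y.Opens} {V₁ : X.Opens}
    (hU₀ : IsAffineOpen U₀) (hV₁ : IsAffineOpen V₁) (e₁ : V₁ ≤ f ⁻¹ᵁ U₀) (σ : Type) [Finite σ]
    (g : MvPolynomial σ Γ(Y, U₀) →+* Γ(X, V₁))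
    (hgC : g.comp MvPolynomial.C = (f.appLE U₀ V₁ e₁).hom) (hg : g.Etale) :
    Etale (AffineSpace.homOfVector (f.resLE U₀ V₁ e₁)
      (fun j : ULift.{u} σ => V₁.topIso.inv (g (MvPolynomial.X j.down)))) := by
  haveI : IsAffine ↑U₀ := hU₀
  haveI : IsAffine ↑V₁ := hV₁
  let eU : Γ(U₀, ⊤) ≃+* Γ(Y, U₀) := U₀.topIso.commRingCatIsoToRingEquiv
  let eV : Γ(V₁, ⊤) ≃+* Γ(X, V₁) := V₁.topIso.commRingCatIsoToRingEquiv
  let ρ : MvPolynomial (ULift.{u} σ) Γ(U₀, ⊤) ≃+* MvPolynomial σ Γ(Y, U₀) :=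
    (MvPolynomial.renameEquiv Γ(U₀, ⊤) Equiv.ulift).toRingEquiv.trans
      (MvPolynomial.mapEquiv σ eU)
  let G : MvPolynomial (ULift.{u} σ) Γ(U₀, ⊤) →+* Γ(V₁, ⊤) :=
    eV.symm.toRingHom.comp (g.comp ρ.toRingHom)
  have hG : G.Etale :=
    RingHom.Etale.respectsIso.1 _ eV.symm (RingHom.Etale.respectsIso.2 _ ρ hg)
  have hGC : G.comp MvPolynomial.C = (f.resLE U₀ V₁ e₁).appTop.hom := by
    ext a
    have h1 : ρ (MvPolynomial.C a) = MvPolynomial.C (eU a) := by simp [ρ]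
    have h2 : (f.resLE U₀ V₁ e₁).appTop =
        U₀.topIso.hom ≫ f.appLE U₀ V₁ e₁ ≫ V₁.topIso.inv := Scheme.Hom.resLE_app_top ..
    have h3 := RingHom.congr_fun hgC (eU a)
    rw [RingHom.comp_apply] at h3
    simp only [G, RingHom.comp_apply, RingEquiv.toRingHom_eq_coe, RingHom.coe_coe, h1, h3]
    rw [h2]
    rfl
  have key := etale_homOfVector_of_ringHom (f.resLE U₀ V₁ e₁) G hGC hG
  have hfun : (fun j : ULift.{u} σ => V₁.topIso.inv (g (MvPolynomial.X j.down))) =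
      fun j => G (MvPolynomial.X j) := by
    funext j
    have h1 : ρ (MvPolynomial.X j) = MvPolynomial.X j.down := by simp [ρ]
    simp only [G, RingHom.comp_apply, RingEquiv.toRingHom_eq_coe, RingHom.coe_coe, h1]
    rfl
  rw [hfun]
  exact key

/-- an étale chart over an open of the base is an étale chart over the base. -/
theorem etale_homOfVector_ι_comp (pX : X ⟶ S) (W : S.Opens) (U : X.Opens)
    (e : U ≤ pX ⁻¹ᵁ W) {n : Type u} (v : n → Γ(U, ⊤))
    [Etale (AffineSpace.homOfVector (pX.resLE W U e) v)] :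
    Etale (AffineSpace.homOfVector (U.ι ≫ pX) v) := by
  have h1 : AffineSpace.homOfVector (U.ι ≫ pX) v =
      AffineSpace.homOfVector (pX.resLE W U e) v ≫ AffineSpace.map n W.ι := by
    apply AffineSpace.hom_ext
    · rw [AffineSpace.homOfVector_over, Category.assoc, AffineSpace.map_over,
        AffineSpace.homOfVector_over_assoc, Scheme.Hom.resLE_comp_ι]
    · intro j
      rw [AffineSpace.homOfVector_appTop_coord, Scheme.Hom.comp_appTop, CommRingCat.comp_apply,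
        AffineSpace.map_appTop_coord, AffineSpace.homOfVector_appTop_coord]
  rw [h1]
  haveI : IsOpenImmersion (AffineSpace.map n W.ι) :=
    MorphismProperty.of_isPullback (P := @IsOpenImmersion)
      (AffineSpace.isPullback_map (n := n) W.ι).flip inferInstance
  infer_instance

theorem morphismRestrict_appTop_topIso_inv (i : Y ⟶ X) (U : X.Opens) (z : Γ(X, U)) :
    (i ∣_ U).appTop (U.topIso.inv z) = (i ⁻¹ᵁ U).topIso.inv (i.app U z) := by
  have h1 : i ∣_ U = i.resLE U (i ⁻¹ᵁ U) le_rfl := by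
    simp [Scheme.Hom.resLE]
  have h2 : (i.resLE U (i ⁻¹ᵁ U) le_rfl).appTop =
      U.topIso.hom ≫ i.appLE U (i ⁻¹ᵁ U) le_rfl ≫ (i ⁻¹ᵁ U).topIso.inv :=
    Scheme.Hom.resLE_app_top ..
  rw [h1, h2, Scheme.Hom.appLE_eq_app, CommRingCat.comp_apply, CommRingCat.comp_apply]
  congr 2
  exact U.topIso.inv_hom_id_apply z

theorem ker_app_basicOpen (i : Y ⟶ X) [IsClosedImmersion i] {V₀ : X.Opens}
    (hV₀ : IsAffineOpen V₀) (f : Γ(X, V₀)) :
    RingHom.ker (i.app (X.basicOpen f)).hom =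
      (RingHom.ker (i.app V₀).hom).map (algebraMap Γ(X, V₀) Γ(X, X.basicOpen f)) := by
  have h1 := i.ker.map_ideal_basicOpen ⟨V₀, hV₀⟩ f
  rw [Scheme.Hom.ker_apply, Scheme.Hom.ker_apply] at h1
  exact h1.symm

theorem appLE_comp_app_eq (pX : X ⟶ S) (pY : Y ⟶ S) (i : Y ⟶ X) (w : i ≫ pX = pY)
    (W : S.Opens) (V : X.Opens) (e : V ≤ pX ⁻¹ᵁ W) (e' : i ⁻¹ᵁ V ≤ pY ⁻¹ᵁ W) :
    pX.appLE W V e ≫ i.app V = pY.appLE W (i ⁻¹ᵁ V) e' := by
  subst w
  rw [Scheme.Hom.app_eq_appLE, Scheme.Hom.appLE_comp_appLE]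

/-- the cartesian square exhibiting a closed subscheme cut out by the last coordinates of a chart. -/
theorem isPullback_chart (pX : X ⟶ S) (pY : Y ⟶ S) (i : Y ⟶ X) [IsClosedImmersion i]
    (w : i ≫ pX = pY) (U : X.Opens) (hU : IsAffineOpen U) (m n : ℕ)
    (v : ULift.{u} (Fin m ⊕ Fin n) → Γ(U, ⊤))
    (hv0 : ∀ b : Fin n, (i ∣_ U).appTop (v ⟨Sum.inr b⟩) = 0)
    (hker : ∀ z : Γ(U, ⊤), (i ∣_ U).appTop z = 0 →
      z ∈ Ideal.span (Set.range fun b : Fin n => v ⟨Sum.inr b⟩)) :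
    IsPullback
      (AffineSpace.homOfVector ((i ⁻¹ᵁ U).ι ≫ pY)
        (fun a : ULift.{u} (Fin m) => (i ∣_ U).appTop (v ⟨Sum.inl a.down⟩)))
      (i ∣_ U)
      (AffineSpace.homOfVector (𝔸(ULift.{u} (Fin m); S) ↘ S)
        (fun j : ULift.{u} (Fin m ⊕ Fin n) =>
          Sum.elim (fun a => AffineSpace.coord S (ULift.up a)) (fun _ => 0) j.down))
      (AffineSpace.homOfVector (U.ι ≫ pX) v) := by
  obtain ⟨ρ, hρ⟩ : ∃ ρ, ρ = AffineSpace.homOfVector ((i ⁻¹ᵁ U).ι ≫ pY)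
    (fun a : ULift.{u} (Fin m) => (i ∣_ U).appTop (v ⟨Sum.inl a.down⟩)) := ⟨_, rfl⟩
  obtain ⟨ι₀, hι₀⟩ : ∃ ι₀, ι₀ = AffineSpace.homOfVector (𝔸(ULift.{u} (Fin m); S) ↘ S)
    (fun j : ULift.{u} (Fin m ⊕ Fin n) =>
      Sum.elim (fun a => AffineSpace.coord S (ULift.up a)) (fun _ => 0) j.down) := ⟨_, rfl⟩
  obtain ⟨π, hπ⟩ : ∃ π, π = AffineSpace.homOfVector (U.ι ≫ pX) v := ⟨_, rfl⟩
  rw [← hρ, ← hι₀, ← hπ]
  have hρ_over : ρ ≫ 𝔸(ULift.{u} (Fin m); S) ↘ S = (i ⁻¹ᵁ U).ι ≫ pY := by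
    rw [hρ]; exact AffineSpace.homOfVector_over _ _
  have hρ_coord : ∀ a, ρ.appTop (AffineSpace.coord S a) =
      (i ∣_ U).appTop (v ⟨Sum.inl a.down⟩) := by
    intro a; rw [hρ]; exact AffineSpace.homOfVector_appTop_coord _ _ _
  have hι₀_over : ι₀ ≫ 𝔸(ULift.{u} (Fin m ⊕ Fin n); S) ↘ S =
      𝔸(ULift.{u} (Fin m); S) ↘ S := by
    rw [hι₀]; exact AffineSpace.homOfVector_over _ _
  have hι₀_inl : ∀ a : Fin m, ι₀.appTop (AffineSpace.coord S ⟨Sum.inl a⟩) =
      AffineSpace.coord S ⟨a⟩ := by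
    intro a; rw [hι₀]; exact AffineSpace.homOfVector_appTop_coord _ _ _
  have hι₀_inr : ∀ b : Fin n, ι₀.appTop (AffineSpace.coord S ⟨Sum.inr b⟩) = 0 := by
    intro b; rw [hι₀]; exact AffineSpace.homOfVector_appTop_coord _ _ _
  have hπ_over : π ≫ 𝔸(ULift.{u} (Fin m ⊕ Fin n); S) ↘ S = U.ι ≫ pX := by
    rw [hπ]; exact AffineSpace.homOfVector_over _ _
  have hπ_coord : ∀ j, π.appTop (AffineSpace.coord S j) = v j := by
    intro j; rw [hπ]; exact AffineSpace.homOfVector_appTop_coord _ _ _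
  have hcomm : ρ ≫ ι₀ = (i ∣_ U) ≫ π := by
    apply AffineSpace.hom_ext
    · rw [Category.assoc, hι₀_over, hρ_over, Category.assoc, hπ_over,
        morphismRestrict_ι_assoc, w]
    · rintro ⟨a | b⟩
      · rw [Scheme.Hom.comp_appTop, Scheme.Hom.comp_appTop, CommRingCat.comp_apply,
          CommRingCat.comp_apply, hι₀_inl, hρ_coord, hπ_coord]
      · rw [Scheme.Hom.comp_appTop, Scheme.Hom.comp_appTop, CommRingCat.comp_apply,
          CommRingCat.comp_apply, hι₀_inr, map_zero, hπ_coord, hv0]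
  have hkerle : ∀ (T : Scheme.{u}) (a : T ⟶ 𝔸(ULift.{u} (Fin m); S)) (b : T ⟶ ↑U),
      a ≫ ι₀ = b ≫ π → (i ∣_ U).ker ≤ b.ker := by
    intro T a b hab
    have hb0 : ∀ b' : Fin n, b.appTop (v ⟨Sum.inr b'⟩) = 0 := by
      intro b'
      rw [← hπ_coord, ← CommRingCat.comp_apply, ← Scheme.Hom.comp_appTop, ← hab,
        Scheme.Hom.comp_appTop, CommRingCat.comp_apply, hι₀_inr, map_zero]
    show (i ∣_ U).ker ≤ Scheme.IdealSheafData.ofIdeals _
    rw [Scheme.IdealSheafData.le_ofIdeals_iff]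
    intro W'
    haveI : IsAffine ↑U := hU
    have hle : W' ≤ (⟨⊤, isAffineOpen_top _⟩ : (↑U : Scheme.{u}).affineOpens) :=
      fun _ _ => trivial
    rw [← Scheme.IdealSheafData.map_ideal (i ∣_ U).ker hle, Ideal.map_le_iff_le_comap]
    intro z hz
    rw [Scheme.Hom.ker_apply] at hz
    have hz' : (i ∣_ U).appTop z = 0 := hz
    have hmem := hker z hz'
    refine (Ideal.span_le.mpr ?_) hmem
    rintro _ ⟨b', rfl⟩
    show _ ∈ Ideal.comap _ (RingHom.ker (b.app W'.1).hom)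
    rw [Ideal.mem_comap, RingHom.mem_ker]
    have hnat := b.naturality (homOfLE hle).op
    have h1 := congr($hnat (v ⟨Sum.inr b'⟩))
    rw [CommRingCat.comp_apply, CommRingCat.comp_apply] at h1
    have h0 : (b.app ⊤) (v ⟨Sum.inr b'⟩) = 0 := hb0 b'
    rw [h0, map_zero] at h1
    exact h1
  refine IsPullback.of_isLimit (c := PullbackCone.mk ρ (i ∣_ U) hcomm) ?_
  refine PullbackCone.IsLimit.mk hcomm
    (fun s => IsClosedImmersion.lift (i ∣_ U) s.snd (hkerle _ s.fst s.snd s.condition)) ?_ ?_ ?_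
  · intro s
    obtain ⟨l, hl⟩ : ∃ l, l = IsClosedImmersion.lift (i ∣_ U) s.snd
      (hkerle _ s.fst s.snd s.condition) := ⟨_, rfl⟩
    rw [← hl]
    have hfac : l ≫ (i ∣_ U) = s.snd := by rw [hl]; exact IsClosedImmersion.lift_fac _ _ _
    apply AffineSpace.hom_ext
    · calc (l ≫ ρ) ≫ 𝔸(ULift.{u} (Fin m); S) ↘ S = l ≫ (i ⁻¹ᵁ U).ι ≫ pY := by
            rw [Category.assoc, hρ_over]
        _ = l ≫ (i ∣_ U) ≫ U.ι ≫ pX := by rw [morphismRestrict_ι_assoc, w]
        _ = s.snd ≫ π ≫ 𝔸(ULift.{u} (Fin m ⊕ Fin n); S) ↘ S := by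
            rw [← Category.assoc, hfac, hπ_over]
        _ = s.fst ≫ ι₀ ≫ 𝔸(ULift.{u} (Fin m ⊕ Fin n); S) ↘ S := by
            rw [← Category.assoc, ← s.condition, Category.assoc]
        _ = s.fst ≫ 𝔸(ULift.{u} (Fin m); S) ↘ S := by rw [hι₀_over]
    · intro a
      rw [Scheme.Hom.comp_appTop, CommRingCat.comp_apply, hρ_coord, ← CommRingCat.comp_apply,
        ← Scheme.Hom.comp_appTop, hfac, ← hπ_coord, ← CommRingCat.comp_apply,
        ← Scheme.Hom.comp_appTop, ← s.condition, Scheme.Hom.comp_appTop, CommRingCat.comp_apply,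
        hι₀_inl]
  · intro s
    exact IsClosedImmersion.lift_fac _ _ _
  · intro s m' _ hm'
    rw [← cancel_mono (i ∣_ U), hm', IsClosedImmersion.lift_fac]

theorem main_S1479 (pX : X ⟶ S) (pY : Y ⟶ S) [Smooth pX] [Smooth pY]
    (i : Y ⟶ X) [IsClosedImmersion i] (w : i ≫ pX = pY) (y : Y) :
    ∃ (U : X.Opens) (m n : ℕ) (π : (U : Scheme.{u}) ⟶ 𝔸(ULift.{u} (Fin m ⊕ Fin n); S))
      (ρ : (↑(i ⁻¹ᵁ U) : Scheme.{u}) ⟶ 𝔸(ULift.{u} (Fin m); S)),
      i y ∈ U ∧ Etale π ∧ π ≫ (𝔸(ULift.{u} (Fin m ⊕ Fin n); S) ↘ S) = U.ι ≫ pX ∧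
      IsPullback ρ (i ∣_ U)
        (AffineSpace.homOfVector (𝔸(ULift.{u} (Fin m); S) ↘ S)
          (fun j : ULift.{u} (Fin m ⊕ Fin n) =>
            Sum.elim (fun a => AffineSpace.coord S (ULift.up a)) (fun _ => 0) j.down))
        π := by
  have hpi : ∀ z : Y, pX.base (i.base z) = pY.base z := fun z => by rw [← w]; rfl
  obtain ⟨W, hW, hsW, -⟩ :=
    exists_isAffineOpen_mem_and_subset (x := pX.base (i.base y)) (U := ⊤) trivial
  obtain ⟨V₀, hV₀, hxV₀, hV₀W⟩ :=
    exists_isAffineOpen_mem_and_subset (x := i.base y) (U := pX ⁻¹ᵁ W) hsW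
  have hV₀' : IsAffineOpen (i ⁻¹ᵁ V₀) := hV₀.preimage i
  have hV₀'W : i ⁻¹ᵁ V₀ ≤ pY ⁻¹ᵁ W := by
    intro z hz
    have h1 : pX.base (i.base z) ∈ W := hV₀W hz
    rw [hpi] at h1
    exact h1
  letI algAB : Algebra Γ(S, W) Γ(X, V₀) := (pX.appLE W V₀ hV₀W).hom.toAlgebra
  letI algAC : Algebra Γ(S, W) Γ(Y, i ⁻¹ᵁ V₀) := (pY.appLE W (i ⁻¹ᵁ V₀) hV₀'W).hom.toAlgebra
  letI algBC : Algebra Γ(X, V₀) Γ(Y, i ⁻¹ᵁ V₀) := (i.app V₀).hom.toAlgebra
  haveI : IsScalarTower Γ(S, W) Γ(X, V₀) Γ(Y, i ⁻¹ᵁ V₀) := by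
    refine IsScalarTower.of_algebraMap_eq fun a => ?_
    exact (congr($(appLE_comp_app_eq pX pY i w W V₀ hV₀W hV₀'W) a)).symm
  haveI : Algebra.Smooth Γ(S, W) Γ(X, V₀) := pX.smooth_appLE hW hV₀ hV₀W
  haveI : Algebra.Smooth Γ(S, W) Γ(Y, i ⁻¹ᵁ V₀) := pY.smooth_appLE hW hV₀' hV₀'W
  have hsurj : Function.Surjective (algebraMap Γ(X, V₀) Γ(Y, i ⁻¹ᵁ V₀)) :=
    i.app_surjective V₀ hV₀
  obtain ⟨q, hqdef⟩ : ∃ q : PrimeSpectrum Γ(X, V₀),
      q = hV₀.primeIdealOf ⟨i.base y, hxV₀⟩ := ⟨_, rfl⟩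
  have hq : RingHom.ker (algebraMap Γ(X, V₀) Γ(Y, i ⁻¹ᵁ V₀)) ≤ q.asIdeal := by
    intro z hz
    have h1 := IsAffineOpen.comap_primeIdealOf_appLE (f := i) (x := y) V₀ hV₀ (i ⁻¹ᵁ V₀) hV₀'
      le_rfl hxV₀
    rw [hqdef, ← h1]
    show (i.appLE V₀ (i ⁻¹ᵁ V₀) le_rfl).hom z ∈ (hV₀'.primeIdealOf ⟨y, hxV₀⟩).asIdeal
    rw [Scheme.Hom.appLE_eq_app]
    have h2 : (i.app V₀).hom z = 0 := hz
    rw [h2]
    exact zero_mem _
  haveI : q.asIdeal.IsPrime := q.isPrime
  obtain ⟨f, hf, m, r, g, hg, H⟩ := exists_etale_coordinates Γ(S, W) Γ(X, V₀)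
    Γ(Y, i ⁻¹ᵁ V₀) hsurj q.asIdeal hq
  have hU : IsAffineOpen (X.basicOpen f) := hV₀.basicOpen f
  have hUV₀ : X.basicOpen f ≤ V₀ := X.basicOpen_le f
  have hUW : X.basicOpen f ≤ pX ⁻¹ᵁ W := hUV₀.trans hV₀W
  have hxU : i.base y ∈ X.basicOpen f := by
    rw [hqdef] at hf
    have h1 : hV₀.primeIdealOf ⟨i.base y, hxV₀⟩ ∈ PrimeSpectrum.basicOpen f := hf
    have h2 : hV₀.primeIdealOf ⟨i.base y, hxV₀⟩ ∈ hV₀.fromSpec ⁻¹ᵁ X.basicOpen f := by
      rw [hV₀.fromSpec_preimage_basicOpen]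
      exact h1
    have h3 : hV₀.fromSpec (hV₀.primeIdealOf ⟨i.base y, hxV₀⟩) ∈ X.basicOpen f := h2
    rwa [hV₀.fromSpec_primeIdealOf] at h3
  letI algABf : Algebra Γ(S, W) Γ(X, X.basicOpen f) :=
    (pX.appLE W (X.basicOpen f) hUW).hom.toAlgebra
  haveI : IsScalarTower Γ(S, W) Γ(X, V₀) Γ(X, X.basicOpen f) := by
    refine IsScalarTower.of_algebraMap_eq fun a => ?_
    exact (congr($(pX.appLE_map hV₀W (homOfLE hUV₀).op) a)).symm
  haveI : IsLocalization.Away f Γ(X, X.basicOpen f) := hV₀.isLocalization_basicOpen f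
  obtain ⟨g', hE, hkerspan⟩ := H Γ(X, X.basicOpen f)
  -- the étale ring map
  obtain ⟨g₁, hg₁⟩ : ∃ g₁ : MvPolynomial (Fin m ⊕ Fin r) Γ(S, W) →+* Γ(X, X.basicOpen f),
      g₁ = (MvPolynomial.aeval (Sum.elim g' (fun i' => algebraMap Γ(X, V₀)
        Γ(X, X.basicOpen f) (g i'))) :
          MvPolynomial (Fin m ⊕ Fin r) Γ(S, W) →ₐ[Γ(S, W)] Γ(X, X.basicOpen f)).toRingHom :=
    ⟨_, rfl⟩
  have hg₁C : g₁.comp MvPolynomial.C = (pX.appLE W (X.basicOpen f) hUW).hom := by
    rw [hg₁]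
    ext a
    simp [RingHom.algebraMap_toAlgebra]
  have hg₁inl : ∀ a : Fin m, g₁ (MvPolynomial.X (Sum.inl a)) = g' a := by
    intro a; rw [hg₁]; simp
  have hg₁inr : ∀ b : Fin r, g₁ (MvPolynomial.X (Sum.inr b)) =
      algebraMap Γ(X, V₀) Γ(X, X.basicOpen f) (g b) := by
    intro b; rw [hg₁]; simp
  have hE₁ : g₁.Etale := hg₁ ▸ hE
  obtain ⟨v, hv⟩ : ∃ v : ULift.{u} (Fin m ⊕ Fin r) → Γ(X.basicOpen f, ⊤),
      v = fun j => (X.basicOpen f).topIso.inv (g₁ (MvPolynomial.X j.down)) := ⟨_, rfl⟩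
  haveI hE2 : Etale (AffineSpace.homOfVector (pX.resLE W (X.basicOpen f) hUW) v) := by
    rw [hv]
    exact etale_homOfVector_of_appLE' pX hW hU hUW (Fin m ⊕ Fin r) g₁ hg₁C hE₁
  have hE3 : Etale (AffineSpace.homOfVector ((X.basicOpen f).ι ≫ pX) v) :=
    etale_homOfVector_ι_comp pX W (X.basicOpen f) hUW v
  have hvinr : ∀ b : Fin r, v ⟨Sum.inr b⟩ =
      (X.basicOpen f).topIso.inv (algebraMap Γ(X, V₀) Γ(X, X.basicOpen f) (g b)) := by
    intro b; rw [hv]; show (X.basicOpen f).topIso.inv _ = _; rw [hg₁inr]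
  -- kernel
  have hkerU : RingHom.ker (i.app (X.basicOpen f)).hom =
      Ideal.span (Set.range fun b : Fin r =>
        algebraMap Γ(X, V₀) Γ(X, X.basicOpen f) (g b)) := by
    rw [ker_app_basicOpen i hV₀ f]
    exact hkerspan
  have hv0 : ∀ b : Fin r, (i ∣_ (X.basicOpen f)).appTop (v ⟨Sum.inr b⟩) = 0 := by
    intro b
    rw [hvinr, morphismRestrict_appTop_topIso_inv]
    have h1 : (i.app (X.basicOpen f)) (algebraMap Γ(X, V₀) Γ(X, X.basicOpen f) (g b)) = 0 := by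
      have : algebraMap Γ(X, V₀) Γ(X, X.basicOpen f) (g b) ∈
          RingHom.ker (i.app (X.basicOpen f)).hom := by
        rw [hkerU]
        exact Ideal.subset_span ⟨b, rfl⟩
      exact this
    rw [h1, map_zero]
  have hker : ∀ z : Γ(X.basicOpen f, ⊤), (i ∣_ (X.basicOpen f)).appTop z = 0 →
      z ∈ Ideal.span (Set.range fun b : Fin r => v ⟨Sum.inr b⟩) := by
    intro z hz
    obtain ⟨z', rfl⟩ : ∃ z', z = (X.basicOpen f).topIso.inv z' :=
      ⟨(X.basicOpen f).topIso.hom z, ((X.basicOpen f).topIso.hom_inv_id_apply z).symm⟩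
    rw [morphismRestrict_appTop_topIso_inv] at hz
    have hz0 : (i.app (X.basicOpen f)) z' = 0 := by
      have h1 := congrArg (i ⁻¹ᵁ X.basicOpen f).topIso.hom hz
      rw [Iso.inv_hom_id_apply, map_zero] at h1
      exact h1
    have hz1 : z' ∈ RingHom.ker (i.app (X.basicOpen f)).hom := hz0
    rw [hkerU] at hz1
    have hz2 := Ideal.mem_map_of_mem ((X.basicOpen f).topIso.inv.hom) hz1
    rw [Ideal.map_span, ← Set.range_comp] at hz2
    have hfun : ((X.basicOpen f).topIso.inv.hom ∘ fun b : Fin r =>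
        algebraMap Γ(X, V₀) Γ(X, X.basicOpen f) (g b)) = fun b : Fin r => v ⟨Sum.inr b⟩ := by
      funext b
      rw [hvinr]
      rfl
    rw [hfun] at hz2
    exact hz2
  refine ⟨X.basicOpen f, m, r, AffineSpace.homOfVector ((X.basicOpen f).ι ≫ pX) v,
    AffineSpace.homOfVector ((i ⁻¹ᵁ X.basicOpen f).ι ≫ pY)
      (fun a : ULift.{u} (Fin m) => (i ∣_ (X.basicOpen f)).appTop (v ⟨Sum.inl a.down⟩)),
    hxU, hE3, AffineSpace.homOfVector_over _ _, ?_⟩
  exact isPullback_chart pX pY i w (X.basicOpen f) hU m r v hv0 hker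

end scheme

end Groth.Agent.Lib.LeadEtChart2
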