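import Mathlib
import Groth.Prelude.Def_EtCore

set_option maxHeartbeats 400000

/-!
# Inverse image of étale sheaves along the identity
-/

namespace Groth.Agent.LeadEtPullId

open CategoryTheory CategoryTheory.Limits AlgebraicGeometry Opposite

universe u

/-- base change along the identity, on objects -/
noncomputable def bcIdApp (Y : Scheme.{u}) (V : Y.Etale) : (EtCoh.bc (𝟙 Y)).obj V ≅ V :=
  MorphismProperty.Over.isoMk
    (@asIso _ _ _ _ (pullback.fst V.hom (𝟙 Y)) (pullback_fst_iso_of_right_iso V.hom (𝟙 Y)))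
    (by
      show pullback.fst V.hom (𝟙 Y) ≫ V.hom = pullback.snd V.hom (𝟙 Y)
      rw [pullback.condition, Category.comp_id])

lemma bcIdApp_hom_left (Y : Scheme.{u}) (V : Y.Etale) :
    (bcIdApp Y V).hom.left = pullback.fst V.hom (𝟙 Y) := rfl

/-- base change along the identity -/
noncomputable def bcId (Y : Scheme.{u}) : EtCoh.bc (𝟙 Y) ≅ 𝟭 Y.Etale :=
  NatIso.ofComponents (fun V => bcIdApp Y V)
    (fun {V W} φ => by
      apply MorphismProperty.Over.Hom.ext
      show ((EtCoh.bc (𝟙 Y)).map φ).left ≫ pullback.fst W.hom (𝟙 Y) =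
        pullback.fst V.hom (𝟙 Y) ≫ φ.left
      dsimp [EtCoh.bc]
      exact pullback.lift_fst _ _ _)

/-- direct image along the identity -/
noncomputable def pushId (Y : Scheme.{u}) : EtCoh.push (𝟙 Y) ≅ 𝟭 _ :=
  Functor.sheafPushforwardContinuousId' (bcId Y) AddCommGrpCat.{u + 1} Y.smallEtaleTopology

/-- inverse image along the identity -/
noncomputable def pullId (Y : Scheme.{u}) : EtCoh.pull (𝟙 Y) ≅ 𝟭 _ :=
  Adjunction.leftAdjointUniq (EtCoh.pullPushAdj (𝟙 Y))
    (Adjunction.id.ofNatIsoRight (pushId Y).symm)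

end Groth.Agent.LeadEtPullId
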