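import Mathlib

set_option maxHeartbeats 400000

/-!
# Retractions on `Ext` groups induced by a pair of exact functors composing to the identity
-/

namespace Groth.Agent.LeadExtRetract

open CategoryTheory CategoryTheory.Limits Abelian

universe w w' w'' v v' v'' u u' u''

section Iso

variable {𝒜 : Type u} [Category.{v} 𝒜] [Abelian 𝒜] [HasExt.{w} 𝒜]

lemma postcomp_iso_bijective {X Y Y' : 𝒜} (φ : Y ≅ Y') (n : ℕ) :
    Function.Bijective (fun e : Ext X Y n => e.comp (Ext.mk₀ φ.hom) (add_zero n)) := by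
  refine Function.bijective_iff_has_inverse.mpr
    ⟨fun e => e.comp (Ext.mk₀ φ.inv) (add_zero n), ?_, ?_⟩
  · intro e
    show (e.comp (Ext.mk₀ φ.hom) (add_zero n)).comp (Ext.mk₀ φ.inv) (add_zero n) = e
    rw [Ext.comp_assoc_of_third_deg_zero, Ext.mk₀_comp_mk₀, φ.hom_inv_id, Ext.comp_mk₀_id]
  · intro e
    show (e.comp (Ext.mk₀ φ.inv) (add_zero n)).comp (Ext.mk₀ φ.hom) (add_zero n) = e
    rw [Ext.comp_assoc_of_third_deg_zero, Ext.mk₀_comp_mk₀, φ.inv_hom_id, Ext.comp_mk₀_id]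

lemma precomp_iso_bijective {X X' Y : 𝒜} (φ : X' ≅ X) (n : ℕ) :
    Function.Bijective (fun e : Ext X Y n => (Ext.mk₀ φ.hom).comp e (zero_add n)) := by
  refine Function.bijective_iff_has_inverse.mpr
    ⟨fun e => (Ext.mk₀ φ.inv).comp e (zero_add n), ?_, ?_⟩
  · intro e
    show (Ext.mk₀ φ.inv).comp ((Ext.mk₀ φ.hom).comp e (zero_add n)) (zero_add n) = e
    rw [Ext.mk₀_comp_mk₀_assoc, φ.inv_hom_id, Ext.mk₀_id_comp]
  · intro e
    show (Ext.mk₀ φ.hom).comp ((Ext.mk₀ φ.inv).comp e (zero_add n)) (zero_add n) = e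
    rw [Ext.mk₀_comp_mk₀_assoc, φ.hom_inv_id, Ext.mk₀_id_comp]

end Iso

section Comp

variable {𝒜 : Type u} [Category.{v} 𝒜] [Abelian 𝒜] [HasExt.{w} 𝒜]
  {ℬ : Type u'} [Category.{v'} ℬ] [Abelian ℬ] [HasExt.{w'} ℬ]
  {𝒞 : Type u''} [Category.{v''} 𝒞] [Abelian 𝒞] [HasExt.{w''} 𝒞]
  (F : 𝒜 ⥤ ℬ) [F.Additive] [PreservesFiniteLimits F] [PreservesFiniteColimits F]
  (G : ℬ ⥤ 𝒞) [G.Additive] [PreservesFiniteLimits G] [PreservesFiniteColimits G]

lemma mapExactFunctor_comp_functor [EnoughInjectives 𝒜] {X Y : 𝒜} {n : ℕ} (e : Ext X Y n) :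
    e.mapExactFunctor (F ⋙ G) = (e.mapExactFunctor F).mapExactFunctor G := by
  induction n generalizing Y with
  | zero =>
    obtain ⟨f, rfl⟩ := (Ext.mk₀_bijective X Y).2 e
    rw [Ext.mapExactFunctor_mk₀, Ext.mapExactFunctor_mk₀, Ext.mapExactFunctor_mk₀]
    rfl
  | succ n ih =>
    let I : InjectivePresentation Y := Classical.arbitrary _
    let S := ShortComplex.mk _ _ (cokernel.condition I.f)
    have hS : S.ShortExact := { exact := ShortComplex.exact_cokernel I.f }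
    have hI : Injective S.X₂ := I.injective
    obtain ⟨x₃, rfl⟩ := Ext.covariant_sequence_exact₁ X hS e (Ext.eq_zero_of_injective _) rfl
    have hF := Ext.mapExactFunctor_extClass F hS
    have hFG := Ext.mapExactFunctor_extClass (F ⋙ G) hS
    have hG := Ext.mapExactFunctor_extClass G (hS.map_of_exact F)
    have hext : hS.extClass.mapExactFunctor (F ⋙ G) =
        (hS.extClass.mapExactFunctor F).mapExactFunctor G :=
      hFG.trans ((congrArg (fun t : Ext (F.obj S.X₃) (F.obj S.X₁) 1 => t.mapExactFunctor G)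
        hF).trans hG).symm
    calc (x₃.comp hS.extClass rfl).mapExactFunctor (F ⋙ G)
        = (x₃.mapExactFunctor (F ⋙ G)).comp (hS.extClass.mapExactFunctor (F ⋙ G)) rfl :=
          Ext.mapExactFunctor_comp (F ⋙ G) x₃ hS.extClass rfl
      _ = ((x₃.mapExactFunctor F).mapExactFunctor G).comp
            ((hS.extClass.mapExactFunctor F).mapExactFunctor G) rfl := by
          rw [ih x₃, hext]
      _ = ((x₃.mapExactFunctor F).comp (hS.extClass.mapExactFunctor F) rfl).mapExactFunctor G :=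
          (Ext.mapExactFunctor_comp G _ _ rfl).symm
      _ = ((x₃.comp hS.extClass rfl).mapExactFunctor F).mapExactFunctor G := by
          rw [Ext.mapExactFunctor_comp F x₃ hS.extClass rfl]

end Comp

section Retract

variable {𝒜 : Type u} [Category.{v} 𝒜] [Abelian 𝒜] [HasExt.{w} 𝒜]
  {ℬ : Type u'} [Category.{v'} ℬ] [Abelian ℬ] [HasExt.{w'} ℬ]

lemma mapExt_bijective_of_iso_id [EnoughInjectives 𝒜] (Φ : 𝒜 ⥤ 𝒜) [Φ.Additive]
    [PreservesFiniteLimits Φ] [PreservesFiniteColimits Φ] (η : Φ ≅ 𝟭 𝒜) (X Y : 𝒜) (n : ℕ) :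
    Function.Bijective (fun e : Ext X Y n => e.mapExactFunctor Φ) := by
  have : Φ.Full := Functor.Full.of_iso η.symm
  have : Φ.Faithful := Functor.Faithful.of_iso η.symm
  have : Φ.PreservesInjectiveObjects :=
    ⟨fun {X} hX => Injective.of_iso (η.app X).symm hX⟩
  exact Functor.mapExt_bijective_of_preservesInjectiveObjects Φ X Y n

variable (Lg : 𝒜 ⥤ ℬ) [Lg.Additive] [PreservesFiniteLimits Lg] [PreservesFiniteColimits Lg]
  (Lt : ℬ ⥤ 𝒜) [Lt.Additive] [PreservesFiniteLimits Lt] [PreservesFiniteColimits Lt]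

/-- the pullback map on `Ext` along an exact functor, with identifications. -/
noncomputable def pullMap {𝒜 : Type u} [Category.{v} 𝒜] [Abelian 𝒜] [HasExt.{w} 𝒜]
    {ℬ : Type u'} [Category.{v'} ℬ] [Abelian ℬ] [HasExt.{w'} ℬ]
    (L : 𝒜 ⥤ ℬ) [L.Additive] [PreservesFiniteLimits L] [PreservesFiniteColimits L]
    {Z A : 𝒜} {Z' A' : ℬ} (c : Z' ≅ L.obj Z) (α : L.obj A ≅ A') (n : ℕ) :
    Ext Z A n →+ Ext Z' A' n :=
  ((Ext.mk₀ c.hom).precomp A' (zero_add n)).comp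
    (((Ext.mk₀ α.hom).postcomp (L.obj Z) (add_zero n)).comp (L.mapExtAddHom Z A n))

lemma pullMap_apply {𝒜 : Type u} [Category.{v} 𝒜] [Abelian 𝒜] [HasExt.{w} 𝒜]
    {ℬ : Type u'} [Category.{v'} ℬ] [Abelian ℬ] [HasExt.{w'} ℬ]
    (L : 𝒜 ⥤ ℬ) [L.Additive] [PreservesFiniteLimits L] [PreservesFiniteColimits L]
    {Z A : 𝒜} {Z' A' : ℬ} (c : Z' ≅ L.obj Z) (α : L.obj A ≅ A') (n : ℕ) (e : Ext Z A n) :
    pullMap L c α n e =
      (Ext.mk₀ c.hom).comp ((e.mapExactFunctor L).comp (Ext.mk₀ α.hom) (add_zero n))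
        (zero_add n) := rfl

theorem retract_bijective [EnoughInjectives 𝒜] (η : Lg ⋙ Lt ≅ 𝟭 𝒜)
    {Z A : 𝒜} {Z' A' : ℬ} (cg : Z' ≅ Lg.obj Z) (ct : Z ≅ Lt.obj Z')
    (α : Lg.obj A ≅ A') (β : Lt.obj A' ≅ A) (n : ℕ) :
    ∃ (a : Ext Z A n →+ Ext Z' A' n) (b : Ext Z' A' n →+ Ext Z A n),
      Function.Bijective (b ∘ a) := by
  refine ⟨pullMap Lg cg α n, pullMap Lt ct β n, ?_⟩
  let γ₁ : Z ≅ (Lg ⋙ Lt).obj Z := ct ≪≫ Lt.mapIso cg
  let γ₂ : (Lg ⋙ Lt).obj A ≅ A := Lt.mapIso α ≪≫ β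
  have key : (pullMap Lt ct β n ∘ pullMap Lg cg α n) =
      (fun e : Ext ((Lg ⋙ Lt).obj Z) A n => (Ext.mk₀ γ₁.hom).comp e (zero_add n)) ∘
      (fun e : Ext ((Lg ⋙ Lt).obj Z) ((Lg ⋙ Lt).obj A) n =>
        e.comp (Ext.mk₀ γ₂.hom) (add_zero n)) ∘
      (fun e : Ext Z A n => e.mapExactFunctor (Lg ⋙ Lt)) := by
    funext e
    show pullMap Lt ct β n (pullMap Lg cg α n e) =
      (Ext.mk₀ γ₁.hom).comp (((e.mapExactFunctor (Lg ⋙ Lt)).comp (Ext.mk₀ γ₂.hom) (add_zero n)))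
        (zero_add n)
    rw [pullMap_apply, pullMap_apply, mapExactFunctor_comp_functor Lg Lt e,
      Ext.mapExactFunctor_comp, Ext.mapExactFunctor_comp, Ext.mapExactFunctor_mk₀,
      Ext.mapExactFunctor_mk₀]
    have h1 : γ₁.hom = ct.hom ≫ Lt.map cg.hom := rfl
    have h2 : γ₂.hom = Lt.map α.hom ≫ β.hom := rfl
    rw [h1, h2, ← Ext.mk₀_comp_mk₀, ← Ext.mk₀_comp_mk₀]
    simp only [Ext.comp_assoc_of_third_deg_zero, Ext.mk₀_comp_mk₀_assoc, Ext.mk₀_comp_mk₀]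
  rw [key]
  exact (precomp_iso_bijective γ₁ n).comp
    ((postcomp_iso_bijective γ₂ n).comp (mapExt_bijective_of_iso_id (Lg ⋙ Lt) η Z A n))

end Retract

end Groth.Agent.LeadExtRetract
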