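import Mathlib
import Groth.Prelude.Def_SpSeq

set_option maxHeartbeats 400000

/-!
# A first-quadrant `E₁`-spectral sequence with split rows

Given objects `G p q` (`p, q : ℕ`) with split monomorphisms `G p q ⟶ G (p+1) q` and split
monomorphisms `H q ⟶ G 0 q`, we build differentials on the rows making the augmented rows
`0 → H q → G 0 q → G 1 q → ⋯` contractible, and the resulting `E₁`-spectral sequence (degenerating at
`E₂`) together with its abutment `H`.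
-/

namespace Groth.Agent.LeadSplitSS

open CategoryTheory CategoryTheory.Limits

universe v u

variable {C : Type u} [Category.{v} C] [Abelian C]

/-- exactness from a contracting homotopy. -/
lemma exact_of_homotopy (S : ShortComplex C) (h₁ : S.X₂ ⟶ S.X₁) (h₂ : S.X₃ ⟶ S.X₂)
    (h : h₁ ≫ S.f + S.g ≫ h₂ = 𝟙 S.X₂) : S.Exact := by
  rw [ShortComplex.exact_iff_exact_up_to_refinements]
  intro A x₂ hx₂
  refine ⟨A, 𝟙 A, inferInstance, x₂ ≫ h₁, ?_⟩
  rw [Category.id_comp]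
  calc x₂ = x₂ ≫ (h₁ ≫ S.f + S.g ≫ h₂) := by rw [h, Category.comp_id]
    _ = (x₂ ≫ h₁) ≫ S.f + (x₂ ≫ S.g) ≫ h₂ := by
        rw [Preadditive.comp_add, Category.assoc, Category.assoc]
    _ = (x₂ ≫ h₁) ≫ S.f := by rw [hx₂, zero_comp, add_zero]

/-- a split kernel. -/
noncomputable def isLimitKernelFork {H G₀ G₁ : C} (ε : H ⟶ G₀) (ρ : G₀ ⟶ H) (d : G₀ ⟶ G₁)
    (r : G₁ ⟶ G₀) (h1 : ε ≫ ρ = 𝟙 H) (h2 : ε ≫ d = 0) (h3 : ρ ≫ ε + d ≫ r = 𝟙 G₀) :
    IsLimit (KernelFork.ofι ε h2) :=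
  KernelFork.IsLimit.ofι ε h2 (fun g' _ => g' ≫ ρ)
    (fun g' eq' => by
      calc (g' ≫ ρ) ≫ ε = g' ≫ (ρ ≫ ε + d ≫ r) - (g' ≫ d) ≫ r := by
            rw [Preadditive.comp_add, Category.assoc, Category.assoc, add_sub_cancel_right]
        _ = g' := by rw [h3, eq', zero_comp, sub_zero, Category.comp_id])
    (fun g' _ m hm => by
      calc m = m ≫ (ε ≫ ρ) := by rw [h1, Category.comp_id]
        _ = g' ≫ ρ := by rw [← Category.assoc, hm])

lemma one_sub_idem {X : C} (T : X ⟶ X) (hT : T ≫ T = T) : (𝟙 X - T) ≫ (𝟙 X - T) = 𝟙 X - T := by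
  simp only [Preadditive.sub_comp, Preadditive.comp_sub, Category.id_comp, Category.comp_id, hT,
    sub_self, sub_zero]

/-- The input data. -/
structure SplitData (C : Type u) [Category.{v} C] [Abelian C] where
  G : ℕ → ℕ → C
  H : ℕ → C
  i (p q : ℕ) : G p q ⟶ G (p + 1) q
  r (p q : ℕ) : G (p + 1) q ⟶ G p q
  ir (p q : ℕ) : i p q ≫ r p q = 𝟙 _
  ε (q : ℕ) : H q ⟶ G 0 q
  ρ (q : ℕ) : G 0 q ⟶ H q
  ερ (q : ℕ) : ε q ≫ ρ q = 𝟙 _

/-- Input data where the retractions are only retractions up to an automorphism. -/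
noncomputable def SplitData.ofIsIso (G : ℕ → ℕ → C) (H : ℕ → C)
    (i : ∀ p q : ℕ, G p q ⟶ G (p + 1) q) (r : ∀ p q : ℕ, G (p + 1) q ⟶ G p q)
    (hir : ∀ p q, IsIso (i p q ≫ r p q))
    (ε : ∀ q : ℕ, H q ⟶ G 0 q) (ρ : ∀ q : ℕ, G 0 q ⟶ H q) (hερ : ∀ q, IsIso (ε q ≫ ρ q)) :
    SplitData C where
  G := G
  H := H
  i := i
  r p q := haveI := hir p q; r p q ≫ inv (i p q ≫ r p q)
  ir p q := by
    haveI := hir p q
    rw [← Category.assoc, IsIso.hom_inv_id]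
  ε := ε
  ρ q := haveI := hερ q; ρ q ≫ inv (ε q ≫ ρ q)
  ερ q := by
    haveI := hερ q
    rw [← Category.assoc, IsIso.hom_inv_id]

namespace SplitData

variable (D : SplitData C)

/-- the complementary idempotents -/
noncomputable def e (q : ℕ) : (p : ℕ) → (D.G p q ⟶ D.G p q)
  | 0 => 𝟙 _ - D.ρ q ≫ D.ε q
  | p + 1 => 𝟙 _ - D.r p q ≫ e q p ≫ D.i p q

lemma e_zero (q : ℕ) : D.e q 0 = 𝟙 _ - D.ρ q ≫ D.ε q := rfl

lemma e_succ (q p : ℕ) : D.e q (p + 1) = 𝟙 _ - D.r p q ≫ D.e q p ≫ D.i p q := rfl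

lemma e_idem (q p : ℕ) : D.e q p ≫ D.e q p = D.e q p := by
  induction p with
  | zero =>
    rw [e_zero]
    apply one_sub_idem
    calc (D.ρ q ≫ D.ε q) ≫ (D.ρ q ≫ D.ε q) = D.ρ q ≫ (D.ε q ≫ D.ρ q) ≫ D.ε q := by
          simp only [Category.assoc]
      _ = D.ρ q ≫ D.ε q := by rw [D.ερ, Category.id_comp]
  | succ p ih =>
    rw [e_succ]
    apply one_sub_idem
    calc (D.r p q ≫ D.e q p ≫ D.i p q) ≫ (D.r p q ≫ D.e q p ≫ D.i p q)
        = D.r p q ≫ D.e q p ≫ (D.i p q ≫ D.r p q) ≫ D.e q p ≫ D.i p q := by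
          simp only [Category.assoc]
      _ = D.r p q ≫ (D.e q p ≫ D.e q p) ≫ D.i p q := by
          rw [D.ir, Category.id_comp, Category.assoc]
      _ = D.r p q ≫ D.e q p ≫ D.i p q := by rw [ih]

/-- the differential -/
noncomputable def dd (p q : ℕ) : D.G p q ⟶ D.G (p + 1) q := D.e q p ≫ D.i p q

lemma i_e_succ (p q : ℕ) : D.i p q ≫ D.e q (p + 1) = D.i p q - D.e q p ≫ D.i p q := by
  rw [e_succ, Preadditive.comp_sub, Category.comp_id]
  congr 1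
  calc D.i p q ≫ D.r p q ≫ D.e q p ≫ D.i p q = (D.i p q ≫ D.r p q) ≫ D.e q p ≫ D.i p q := by
        simp only [Category.assoc]
    _ = D.e q p ≫ D.i p q := by rw [D.ir, Category.id_comp]

lemma dd_comp (p q : ℕ) : D.dd p q ≫ D.dd (p + 1) q = 0 := by
  unfold dd
  calc (D.e q p ≫ D.i p q) ≫ D.e q (p + 1) ≫ D.i (p + 1) q
      = D.e q p ≫ (D.i p q ≫ D.e q (p + 1)) ≫ D.i (p + 1) q := by simp only [Category.assoc]
    _ = D.e q p ≫ (D.i p q - D.e q p ≫ D.i p q) ≫ D.i (p + 1) q := by rw [i_e_succ]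
    _ = (D.e q p ≫ D.i p q - (D.e q p ≫ D.e q p) ≫ D.i p q) ≫ D.i (p + 1) q := by
        simp only [Preadditive.comp_sub, Preadditive.sub_comp, Category.assoc]
    _ = 0 := by rw [e_idem, sub_self, zero_comp]

lemma homotopy_succ (p q : ℕ) :
    D.r p q ≫ D.dd p q + D.dd (p + 1) q ≫ D.r (p + 1) q = 𝟙 _ := by
  unfold dd
  rw [Category.assoc (D.e q (p + 1)), D.ir, Category.comp_id, e_succ]
  abel

lemma homotopy_zero (q : ℕ) : D.ρ q ≫ D.ε q + D.dd 0 q ≫ D.r 0 q = 𝟙 _ := by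
  unfold dd
  rw [Category.assoc, D.ir, Category.comp_id, e_zero]
  abel

lemma ε_dd (q : ℕ) : D.ε q ≫ D.dd 0 q = 0 := by
  unfold dd
  have h : D.ε q ≫ D.e q 0 = 0 := by
    rw [e_zero, Preadditive.comp_sub, Category.comp_id, ← Category.assoc, D.ερ, Category.id_comp,
      sub_self]
  rw [← Category.assoc, h, zero_comp]

end SplitData

/-- The shape of the rows. -/
def c₁ : ComplexShape (ℕ × ℕ) where
  Rel a b := a.1 + 1 = b.1 ∧ a.2 = b.2
  next_eq := by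
    rintro ⟨a1, a2⟩ ⟨b1, b2⟩ ⟨c1, c2⟩ ⟨h1, h2⟩ ⟨h3, h4⟩
    dsimp only at h1 h2 h3 h4
    exact Prod.ext (by dsimp only; omega) (by dsimp only; omega)
  prev_eq := by
    rintro ⟨a1, a2⟩ ⟨b1, b2⟩ ⟨c1, c2⟩ ⟨h1, h2⟩ ⟨h3, h4⟩
    dsimp only at h1 h2 h3 h4
    exact Prod.ext (by dsimp only; omega) (by dsimp only; omega)

lemma c₁_rel (p q : ℕ) : c₁.Rel (p, q) (p + 1, q) := ⟨rfl, rfl⟩

namespace SplitData

variable (D : SplitData C)

/-- The first page before extension by zero. -/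
noncomputable def K₁ : HomologicalComplex C c₁ where
  X a := D.G a.1 a.2
  d a b := if h : a.1 + 1 = b.1 ∧ a.2 = b.2 then
      D.dd a.1 a.2 ≫ eqToHom (by rw [h.1, h.2]) else 0
  shape a b h := dif_neg h
  d_comp_d' a b c hab hbc := by
    obtain ⟨a1, a2⟩ := a
    obtain ⟨b1, b2⟩ := b
    obtain ⟨c1, c2⟩ := c
    obtain ⟨h1, h2⟩ := hab
    obtain ⟨h3, h4⟩ := hbc
    dsimp only at h1 h2 h3 h4
    subst h1 h2 h3 h4
    rw [dif_pos ⟨rfl, rfl⟩, dif_pos ⟨rfl, rfl⟩]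
    simp only [eqToHom_refl, Category.comp_id]
    exact D.dd_comp a1 a2

lemma K₁_d (p q : ℕ) : D.K₁.d (p, q) (p + 1, q) = D.dd p q := by
  show (if h : (p, q).1 + 1 = (p + 1, q).1 ∧ (p, q).2 = (p + 1, q).2 then
      D.dd (p, q).1 (p, q).2 ≫ eqToHom (by rw [h.1, h.2]) else 0) = _
  rw [dif_pos ⟨rfl, rfl⟩]
  simp only [eqToHom_refl, Category.comp_id]

lemma K₁_exactAt_succ (p q : ℕ) : D.K₁.ExactAt (p + 1, q) := by
  rw [HomologicalComplex.exactAt_iff' D.K₁ (p, q) (p + 1, q) (p + 1 + 1, q)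
    (c₁.prev_eq' (c₁_rel p q)) (c₁.next_eq' (c₁_rel (p + 1) q))]
  have e1 : (D.K₁.sc' (p, q) (p + 1, q) (p + 1 + 1, q)).f = D.dd p q := D.K₁_d p q
  have e2 : (D.K₁.sc' (p, q) (p + 1, q) (p + 1 + 1, q)).g = D.dd (p + 1) q := D.K₁_d (p + 1) q
  refine exact_of_homotopy _ (D.r p q) (D.r (p + 1) q) ?_
  rw [e1, e2]
  exact D.homotopy_succ p q

/-- the homology of the row `q` in degree `0`. -/
noncomputable def K₁_homologyIso_zero (q : ℕ) : D.K₁.homology (0, q) ≅ D.H q := by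
  have hf : (D.K₁.sc' (c₁.prev (0, q)) (0, q) (0 + 1, q)).f = 0 :=
    D.K₁.shape (c₁.prev (0, q)) (0, q) (by
      rintro ⟨h, _⟩
      exact Nat.succ_ne_zero _ h)
  have hg : (D.K₁.sc' (c₁.prev (0, q)) (0, q) (0 + 1, q)).g = D.dd 0 q := D.K₁_d 0 q
  have w : D.ε q ≫ (D.K₁.sc' (c₁.prev (0, q)) (0, q) (0 + 1, q)).g = 0 := by
    rw [hg]; exact D.ε_dd q
  have h3 : (D.ρ q ≫ D.ε q : D.G 0 q ⟶ D.G 0 q) +
      ((D.K₁.sc' (c₁.prev (0, q)) (0, q) (0 + 1, q)).g ≫ D.r 0 q : D.G 0 q ⟶ D.G 0 q) =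
        𝟙 (D.G 0 q) := by
    rw [hg]; exact D.homotopy_zero q
  let hl : (D.K₁.sc' (c₁.prev (0, q)) (0, q) (0 + 1, q)).LeftHomologyData :=
    ShortComplex.LeftHomologyData.ofIsLimitKernelFork _ hf (KernelFork.ofι (D.ε q) w)
      (isLimitKernelFork (D.ε q) (D.ρ q) (D.K₁.sc' (c₁.prev (0, q)) (0, q) (0 + 1, q)).g
        (D.r 0 q) (D.ερ q) w h3)
  exact ShortComplex.homologyMapIso
    (D.K₁.isoSc' (c₁.prev (0, q)) (0, q) (0 + 1, q) rfl (c₁.next_eq' (c₁_rel 0 q))) ≪≫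
    hl.homologyIso

end SplitData

/-- The embedding of the quadrant. -/
def e₁ : c₁.Embedding (ComplexShape.up' (⟨(1 : ℤ), 1 - (1 : ℤ)⟩ : ℤ × ℤ)) where
  f a := ((a.1 : ℤ), (a.2 : ℤ))
  injective_f := by
    rintro ⟨a1, a2⟩ ⟨b1, b2⟩ h
    have h1 : (a1 : ℤ) = b1 := congrArg Prod.fst h
    have h2 : (a2 : ℤ) = b2 := congrArg Prod.snd h
    exact Prod.ext (by exact_mod_cast h1) (by exact_mod_cast h2)
  rel := by
    rintro ⟨a1, a2⟩ ⟨b1, b2⟩ ⟨h1, h2⟩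
    dsimp only at h1 h2
    subst h1 h2
    show (((a1 : ℤ), (a2 : ℤ)) : ℤ × ℤ) + ((1 : ℤ), 1 - (1 : ℤ)) = (((a1 + 1 : ℕ) : ℤ), (a2 : ℤ))
    refine Prod.ext ?_ ?_
    · show (a1 : ℤ) + 1 = ((a1 + 1 : ℕ) : ℤ)
      push_cast; ring
    · show (a2 : ℤ) + (1 - 1) = (a2 : ℤ)
      ring

lemma e₁_f (p q : ℕ) : e₁.f (p, q) = ((p : ℤ), (q : ℤ)) := rfl

lemma e₁_f_ne (pq : ℤ × ℤ) (h : ¬(0 ≤ pq.1 ∧ 0 ≤ pq.2)) (a : ℕ × ℕ) : e₁.f a ≠ pq := by
  intro ha
  apply h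
  rw [← ha]
  exact ⟨Int.natCast_nonneg _, Int.natCast_nonneg _⟩

namespace SplitData

variable (D : SplitData C)

/-- the objects of the pages `≥ 2`. -/
noncomputable def X2 (Z : C) (pq : ℤ × ℤ) : C :=
  if pq.1 = 0 ∧ 0 ≤ pq.2 then D.H pq.2.toNat else Z

/-- the pages `≥ 2`. -/
noncomputable def P2 (Z : C) (r : ℤ) :
    HomologicalComplex C (ComplexShape.up' (⟨r, 1 - r⟩ : ℤ × ℤ)) where
  X := D.X2 Z
  d _ _ := 0
  shape _ _ _ := rfl
  d_comp_d' _ _ _ _ _ := zero_comp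

/-- the pages. -/
noncomputable def page (Z : C) (r : ℤ) :
    HomologicalComplex C (ComplexShape.up' (⟨r, 1 - r⟩ : ℤ × ℤ)) :=
  if h : r = 1 then by subst h; exact D.K₁.extend e₁ else D.P2 Z r

lemma page_one (Z : C) : D.page Z 1 = D.K₁.extend e₁ := by
  unfold page
  rw [dif_pos rfl]

lemma page_of_ne (Z : C) (r : ℤ) (h : r ≠ 1) : D.page Z r = D.P2 Z r := by
  unfold page
  rw [dif_neg h]

lemma page_d_zero (Z : C) (r : ℤ) (h : r ≠ 1) (a b : ℤ × ℤ) : (D.page Z r).d a b = 0 := by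
  rw [D.page_of_ne Z r h]
  rfl

end SplitData

/-- transport of homology along an equality of complexes -/
noncomputable def homologyIsoOfEq {ι : Type*} {c : ComplexShape ι} {K L : HomologicalComplex C c}
    (h : K = L) (j : ι) : K.homology j ≅ L.homology j := by
  subst h
  exact Iso.refl _

/-- transport of objects along an equality of complexes -/
noncomputable def XIsoOfEq {ι : Type*} {c : ComplexShape ι} {K L : HomologicalComplex C c}
    (h : K = L) (j : ι) : K.X j ≅ L.X j := by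
  subst h
  exact Iso.refl _

namespace SplitData

variable (D : SplitData C)

lemma isZero_X2 (Z : C) (hZ : IsZero Z) (pq : ℤ × ℤ) (h : ¬(pq.1 = 0 ∧ 0 ≤ pq.2)) :
    IsZero (D.X2 Z pq) := by
  unfold X2
  rw [if_neg h]
  exact hZ

lemma X2_iso (Z : C) (q : ℕ) : Nonempty (D.X2 Z (e₁.f (0, q)) ≅ D.H q) := by
  have h : D.X2 Z (e₁.f (0, q)) = D.H q := by
    unfold X2
    rw [e₁_f, if_pos ⟨Nat.cast_zero, Int.natCast_nonneg q⟩]
    show D.H ((q : ℤ)).toNat = D.H q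
    rw [Int.toNat_natCast]
  exact ⟨eqToIso h⟩

/-- homology of the first page is the second page. -/
lemma iso₁ (Z : C) (hZ : IsZero Z) (pq : ℤ × ℤ) :
    Nonempty ((D.K₁.extend e₁).homology pq ≅ D.X2 Z pq) := by
  by_cases hpq : 0 ≤ pq.1 ∧ 0 ≤ pq.2
  · obtain ⟨p, q⟩ := pq
    dsimp only at hpq
    obtain ⟨p, rfl⟩ := Int.eq_ofNat_of_zero_le hpq.1
    obtain ⟨q, rfl⟩ := Int.eq_ofNat_of_zero_le hpq.2
    have hf : e₁.f (p, q) = ((p : ℤ), (q : ℤ)) := rfl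
    cases p with
    | zero =>
      obtain ⟨e⟩ := D.X2_iso Z q
      exact ⟨D.K₁.extendHomologyIso e₁ hf ≪≫ D.K₁_homologyIso_zero q ≪≫ e.symm⟩
    | succ p =>
      have h1 : IsZero ((D.K₁.extend e₁).homology (((p + 1 : ℕ) : ℤ), (q : ℤ))) := by
        rw [← HomologicalComplex.exactAt_iff_isZero_homology,
          D.K₁.extend_exactAt_iff e₁ hf]
        exact D.K₁_exactAt_succ p q
      have h2 : IsZero (D.X2 Z (((p + 1 : ℕ) : ℤ), (q : ℤ))) := by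
        apply D.isZero_X2 Z hZ
        rintro ⟨h, _⟩
        dsimp only at h
        omega
      exact ⟨h1.iso h2⟩
  · have h1 : IsZero ((D.K₁.extend e₁).homology pq) := by
      rw [← HomologicalComplex.exactAt_iff_isZero_homology]
      exact D.K₁.extend_exactAt e₁ pq (e₁_f_ne pq hpq)
    have h2 : IsZero (D.X2 Z pq) := by
      apply D.isZero_X2 Z hZ
      rintro ⟨h, h'⟩
      exact hpq ⟨by omega, h'⟩
    exact ⟨h1.iso h2⟩

/-- homology of the later pages. -/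
noncomputable def P2_homologyIso (Z : C) (r : ℤ) (pq : ℤ × ℤ) :
    (D.P2 Z r).homology pq ≅ D.X2 Z pq :=
  (ShortComplex.HomologyData.ofZeros ((D.P2 Z r).sc pq) rfl rfl).left.homologyIso

lemma ssIso_nonempty (Z : C) (hZ : IsZero Z) (r r' : ℤ) (pq : ℤ × ℤ) (hrr' : r + 1 = r')
    (hr : 1 ≤ r) : Nonempty ((D.page Z r).homology pq ≅ (D.page Z r').X pq) := by
  subst hrr'
  by_cases h : r = 1
  · subst h
    obtain ⟨e⟩ := D.iso₁ Z hZ pq
    exact ⟨homologyIsoOfEq (D.page_one Z) pq ≪≫ e ≪≫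
      (XIsoOfEq (D.page_of_ne Z (1 + 1) (by norm_num)) pq).symm⟩
  · exact ⟨homologyIsoOfEq (D.page_of_ne Z r h) pq ≪≫ D.P2_homologyIso Z r pq ≪≫
      (XIsoOfEq (D.page_of_ne Z (r + 1) (by omega)) pq).symm⟩

/-- The spectral sequence. -/
noncomputable def E (Z : C) (hZ : IsZero Z) : CohomologicalSpectralSequence C 1 where
  page r _ := D.page Z r
  iso r r' pq hrr' hr := (D.ssIso_nonempty Z hZ r r' pq hrr' hr).some

lemma isZero_page_one_X (Z : C) (pq : ℤ × ℤ) (h : ¬(0 ≤ pq.1 ∧ 0 ≤ pq.2)) :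
    IsZero ((D.page Z 1).X pq) := by
  rw [D.page_one Z]
  exact D.K₁.isZero_extend_X e₁ pq (e₁_f_ne pq h)

lemma page_one_X_iso (Z : C) (hZ : IsZero Z) (p q : ℤ) :
    Nonempty ((D.page Z 1).X (p, q) ≅ if 0 ≤ p ∧ 0 ≤ q then D.G p.toNat q.toNat else Z) := by
  by_cases h : 0 ≤ p ∧ 0 ≤ q
  · have hf : e₁.f (p.toNat, q.toNat) = (p, q) :=
      Prod.ext (Int.toNat_of_nonneg h.1) (Int.toNat_of_nonneg h.2)
    exact ⟨XIsoOfEq (D.page_one Z) (p, q) ≪≫ D.K₁.extendXIso e₁ hf ≪≫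
      eqToIso (if_pos h).symm⟩
  · have h2 : IsZero (if 0 ≤ p ∧ 0 ≤ q then D.G p.toNat q.toNat else Z) := by
      rw [if_neg h]
      exact hZ
    exact ⟨(D.isZero_page_one_X Z (p, q) h).iso h2⟩

end SplitData

section Abut

variable {X : C}

lemma isZero_subquot_of_eq (A B : Subobject X) (h : B ≤ A) (heq : A = B) :
    IsZero (SpSeq.subquot A B h) := by
  subst heq
  unfold SpSeq.subquot
  have : IsIso (A.ofLE A h) := by
    rw [Subobject.ofLE_refl]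
    infer_instance
  exact isZero_cokernel_of_epi _

lemma isZero_subquot_of_isZero (A B : Subobject X) (h : B ≤ A) (hX : IsZero X) :
    IsZero (SpSeq.subquot A B h) := by
  unfold SpSeq.subquot
  have hA : IsZero (A : C) := IsZero.of_mono A.arrow hX
  exact IsZero.of_epi (cokernel.π (B.ofLE A h)) hA

lemma subquot_top_bot (A B : Subobject X) (h : B ≤ A) (hA : A = ⊤) (hB : B = ⊥) :
    Nonempty (SpSeq.subquot A B h ≅ X) := by
  subst hA hB
  unfold SpSeq.subquot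
  have hz : IsZero ((⊥ : Subobject X) : C) :=
    IsZero.of_iso (isZero_zero C) Subobject.botCoeIsoZero
  have h0 : (⊥ : Subobject X).ofLE ⊤ h = 0 := hz.eq_of_src _ _
  exact ⟨cokernelIsoOfEq h0 ≪≫ cokernelZeroIsoTarget ≪≫ asIso (⊤ : Subobject X).arrow⟩

/-- the two-step filtration. -/
noncomputable def fil (Hab : ℤ → C) (n : ℤ) (p : ℤ) : Subobject (Hab n) := if p ≤ 0 then ⊤ else ⊥

lemma fil_anti (Hab : ℤ → C) (n : ℤ) : Antitone (fil Hab n) := by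
  intro p p' h
  unfold fil
  by_cases h1 : p' ≤ 0
  · have h2 : p ≤ 0 := le_trans h h1
    rw [if_pos h1, if_pos h2]
  · rw [if_neg h1]
    exact bot_le

end Abut

namespace SplitData

variable (D : SplitData C)

lemma β_nonempty (Z : C) (hZ : IsZero Z) (Hab : ℤ → C)
    (hHab : ∀ n : ℕ, Nonempty (Hab (n : ℤ) ≅ D.H n)) (hneg : ∀ n : ℤ, n < 0 → IsZero (Hab n))
    (pq : ℤ × ℤ) :
    Nonempty (D.X2 Z pq ≅
      SpSeq.grPiece (fil Hab (pq.1 + pq.2)) (fil_anti Hab (pq.1 + pq.2)) pq.1) := by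
  obtain ⟨p, q⟩ := pq
  dsimp only
  by_cases h : p = 0 ∧ 0 ≤ q
  · obtain ⟨rfl, hq⟩ := h
    obtain ⟨e1⟩ := subquot_top_bot (fil Hab (0 + q) 0) (fil Hab (0 + q) (0 + 1))
      (fil_anti Hab (0 + q) (Int.le_add_one le_rfl)) (by unfold fil; exact if_pos le_rfl)
      (by unfold fil; exact if_neg (by norm_num))
    obtain ⟨e2⟩ := hHab q.toNat
    have h3 : ((q.toNat : ℕ) : ℤ) = 0 + q := by omega
    have h4 : D.X2 Z (0, q) = D.H q.toNat := by
      unfold X2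
      rw [if_pos ⟨rfl, hq⟩]
    exact ⟨eqToIso h4 ≪≫ e2.symm ≪≫ eqToIso (congrArg Hab h3) ≪≫ e1.symm⟩
  · have h1 : IsZero (D.X2 Z (p, q)) := D.isZero_X2 Z hZ (p, q) h
    have h2 : IsZero (SpSeq.grPiece (fil Hab (p + q)) (fil_anti Hab (p + q)) p) := by
      unfold SpSeq.grPiece
      by_cases hp : p = 0
      · subst hp
        have hq : q < 0 := by
          by_contra hcon
          exact h ⟨rfl, by omega⟩
        exact isZero_subquot_of_isZero _ _ _ (hneg (0 + q) (by omega))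
      · apply isZero_subquot_of_eq
        unfold fil
        by_cases hp' : p ≤ 0
        · rw [if_pos hp', if_pos (by omega)]
        · rw [if_neg hp', if_neg (by omega)]
    exact ⟨h1.iso h2⟩

/-- The abutment. -/
noncomputable def abut (Z : C) (hZ : IsZero Z) (Hab : ℤ → C)
    (hHab : ∀ n : ℕ, Nonempty (Hab (n : ℤ) ≅ D.H n)) (hneg : ∀ n : ℤ, n < 0 → IsZero (Hab n)) :
    SpSeq.Abutment (D.E Z hZ) Hab where
  fil n := fil Hab n
  anti n := fil_anti Hab n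
  rk _ := 2
  stat pq := ⟨by norm_num, fun r' _ h2 =>
    ⟨D.page_d_zero Z r' (by omega) _ _, D.page_d_zero Z r' (by omega) _ _⟩⟩
  β pq := XIsoOfEq (D.page_of_ne Z 2 (by norm_num)) pq ≪≫
    (D.β_nonempty Z hZ Hab hHab hneg pq).some

theorem exists_ss (Z : C) (hZ : IsZero Z) (Hab : ℤ → C)
    (hHab : ∀ n : ℕ, Nonempty (Hab (n : ℤ) ≅ D.H n)) (hneg : ∀ n : ℤ, n < 0 → IsZero (Hab n)) :
    ∃ (E : CohomologicalSpectralSequence C 1) (a : SpSeq.Abutment E Hab),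
      (∀ n, a.IsFinite n) ∧ SpSeq.IsBounded E ∧
      ∀ p q : ℤ, Nonempty ((E.page 1 le_rfl).X (p, q) ≅
        if 0 ≤ p ∧ 0 ≤ q then D.G p.toNat q.toNat else Z) := by
  refine ⟨D.E Z hZ, D.abut Z hZ Hab hHab hneg, ?_, ?_, ?_⟩
  · intro n
    refine ⟨⟨0, ?_⟩, ⟨1, ?_⟩⟩
    · show fil Hab n 0 = ⊤
      unfold fil
      exact if_pos le_rfl
    · show fil Hab n 1 = ⊥
      unfold fil
      exact if_neg (by norm_num)
  · intro n
    refine (Set.finite_Icc (0 : ℤ) n).subset (fun p hp => ?_)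
    by_contra hcon
    apply hp
    apply D.isZero_page_one_X Z (p, n - p)
    rintro ⟨h1, h2⟩
    dsimp only at h1 h2
    exact hcon ⟨h1, by omega⟩
  · intro p q
    exact D.page_one_X_iso Z hZ p q

end SplitData

end Groth.Agent.LeadSplitSS
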