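import Mathlib

set_option maxHeartbeats 400000

/-!
# The Čech nerve of a morphism with a section: projections and extra degeneracies
-/

namespace Groth.Agent.LeadWPSec

open CategoryTheory CategoryTheory.Limits

universe v u

variable {𝒮 : Type u} [Category.{v} 𝒮] [HasFiniteWidePullbacks 𝒮] {X S : 𝒮} (f : X ⟶ S)

/-- the `(p+1)`-fold fibre product -/
noncomputable abbrev Xp (p : ℕ) : 𝒮 := widePullback S (fun _ : Fin (p + 1) => X) (fun _ => f)

/-- its structure map -/
noncomputable abbrev bp (p : ℕ) : Xp f p ⟶ S := WidePullback.base (fun _ : Fin (p + 1) => f)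

/-- forget the first factor -/
noncomputable def pr (p : ℕ) : Xp f (p + 1) ⟶ Xp f p :=
  WidePullback.lift (bp f (p + 1))
    (fun j : Fin (p + 1) => WidePullback.π (fun _ : Fin (p + 1 + 1) => f) j.succ)
    (fun j => WidePullback.π_arrow (fun _ : Fin (p + 1 + 1) => f) j.succ)

lemma pr_bp (p : ℕ) : pr f p ≫ bp f p = bp f (p + 1) :=
  WidePullback.lift_base _ _ _ _

variable (s : S ⟶ X) (hs : s ≫ f = 𝟙 S)

/-- insert the section as first factor -/
noncomputable def σ (p : ℕ) : Xp f p ⟶ Xp f (p + 1) :=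
  WidePullback.lift (bp f p)
    (fun j : Fin (p + 1 + 1) => Fin.cases (bp f p ≫ s)
      (fun j' => WidePullback.π (fun _ : Fin (p + 1) => f) j') j)
    (fun j => by
      refine Fin.cases ?_ (fun j' => ?_) j
      · rw [Fin.cases_zero, Category.assoc, hs, Category.comp_id]
      · rw [Fin.cases_succ]
        exact WidePullback.π_arrow (fun _ : Fin (p + 1) => f) j')

lemma σ_bp (p : ℕ) : σ f s hs p ≫ bp f (p + 1) = bp f p :=
  WidePullback.lift_base _ _ _ _

lemma σ_pr (p : ℕ) : σ f s hs p ≫ pr f p = 𝟙 _ := by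
  apply WidePullback.hom_ext
  · intro j
    rw [Category.assoc, Category.id_comp]
    unfold pr
    rw [WidePullback.lift_π]
    unfold σ
    rw [WidePullback.lift_π, Fin.cases_succ]
  · rw [Category.assoc, Category.id_comp, pr_bp, σ_bp]

/-- the section into the `0`-th term -/
noncomputable def s₀ : S ⟶ Xp f 0 :=
  WidePullback.lift (𝟙 S) (fun _ => s) (fun _ => hs)

lemma s₀_bp : s₀ f s hs ≫ bp f 0 = 𝟙 S :=
  WidePullback.lift_base _ _ _ _

end Groth.Agent.LeadWPSec
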