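import Mathlib
import Groth.Prelude.Def_EtCore
import Groth.Prelude.Def_SpSeq
import Groth.Agent.S0101
import Groth.Agent.Lib.LeadSplitSS
import Groth.Agent.Lib.LeadExtRetract
import Groth.Agent.Lib.LeadWPSec
import Groth.Agent.Lib.LeadEtPullId

set_option maxHeartbeats 400000

/-!
# The descent spectral sequence for a morphism of schemes with a section (étale cohomology)
-/

namespace Groth.Agent.LeadEtDesc

open CategoryTheory CategoryTheory.Limits AlgebraicGeometry Opposite
open Groth.Agent.LeadEtPullId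

universe u

section Pull

instance pull_preservesFiniteLimits {X Y : Scheme.{u}} (f : X ⟶ Y) :
    PreservesFiniteLimits (EtCoh.pull f) := Groth.Agent.S0101.result f

theorem retract_et {Y Y' : Scheme.{u}} (g : Y' ⟶ Y) (t : Y ⟶ Y') (hs : t ≫ g = 𝟙 Y)
    (A : EtCoh.Ab Y) (A' : EtCoh.Ab Y') (α : (EtCoh.pull g).obj A ≅ A')
    (β : (EtCoh.pull t).obj A' ≅ A) (n : ℕ) :
    ∃ (a : EtCoh.H Y A n →+ EtCoh.H Y' A' n) (b : EtCoh.H Y' A' n →+ EtCoh.H Y A n),
      Function.Bijective (b ∘ a) :=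
  LeadExtRetract.retract_bijective (EtCoh.pull g) (EtCoh.pull t)
    ((EtCore.pullComp t g).symm ≪≫ EtCore.pullCongr hs ≪≫ pullId Y)
    (EtCore.pullConst g ℤ).symm (EtCore.pullConst t ℤ).symm α β n

end Pull

section Main

open LeadWPSec

variable {X Y : Scheme.{u}} (f : X ⟶ Y) (s : Y ⟶ X) (hs : s ≫ f = 𝟙 Y) (F : EtCoh.Ab Y)

/-- the inverse image of `F` on the `(p+1)`-fold fibre product -/
noncomputable abbrev Fp (p : ℕ) : EtCoh.Ab (Xp f p) := (EtCoh.pull (bp f p)).obj F

include s hs in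
lemma exists_ir (p q : ℕ) :
    ∃ (a : EtCoh.H _ (Fp f F p) q →+ EtCoh.H _ (Fp f F (p + 1)) q)
      (b : EtCoh.H _ (Fp f F (p + 1)) q →+ EtCoh.H _ (Fp f F p) q), Function.Bijective (b ∘ a) :=
  retract_et (pr f p) (σ f s hs p) (σ_pr f s hs p) (Fp f F p) (Fp f F (p + 1))
    (((EtCore.pullComp (pr f p) (bp f p)).symm ≪≫ EtCore.pullCongr (pr_bp f p)).app F)
    (((EtCore.pullComp (σ f s hs p) (bp f (p + 1))).symm ≪≫
      EtCore.pullCongr (σ_bp f s hs p)).app F) q

include s hs in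
lemma exists_ερ (q : ℕ) :
    ∃ (a : EtCoh.H Y F q →+ EtCoh.H _ (Fp f F 0) q)
      (b : EtCoh.H _ (Fp f F 0) q →+ EtCoh.H Y F q), Function.Bijective (b ∘ a) :=
  retract_et (bp f 0) (s₀ f s hs) (s₀_bp f s hs) F (Fp f F 0) (Iso.refl _)
    (((EtCore.pullComp (s₀ f s hs) (bp f 0)).symm ≪≫ EtCore.pullCongr (s₀_bp f s hs) ≪≫
      pullId Y).app F) q

/-- the split data -/
noncomputable def splitData : LeadSplitSS.SplitData AddCommGrpCat.{u + 1} :=
  LeadSplitSS.SplitData.ofIsIso
    (fun p q => AddCommGrpCat.of (EtCoh.H _ (Fp f F p) q))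
    (fun q => AddCommGrpCat.of (EtCoh.H Y F q))
    (fun p q => AddCommGrpCat.ofHom (exists_ir f s hs F p q).choose)
    (fun p q => AddCommGrpCat.ofHom (exists_ir f s hs F p q).choose_spec.choose)
    (fun p q => by
      rw [← AddCommGrpCat.ofHom_comp]
      exact (ConcreteCategory.isIso_iff_bijective _).mpr
        (exists_ir f s hs F p q).choose_spec.choose_spec)
    (fun q => AddCommGrpCat.ofHom (exists_ερ f s hs F q).choose)
    (fun q => AddCommGrpCat.ofHom (exists_ερ f s hs F q).choose_spec.choose)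
    (fun q => by
      rw [← AddCommGrpCat.ofHom_comp]
      exact (ConcreteCategory.isIso_iff_bijective _).mpr
        (exists_ερ f s hs F q).choose_spec.choose_spec)

include s hs in
theorem main :
    ∃ (E : CohomologicalSpectralSequence AddCommGrpCat.{u + 1} 1)
      (a : SpSeq.Abutment E (fun n : ℤ =>
        if 0 ≤ n then AddCommGrpCat.of (EtCoh.H Y F n.toNat) else AddCommGrpCat.of PUnit.{u + 2})),
      (∀ n, a.IsFinite n) ∧ SpSeq.IsBounded E ∧
      ∀ p q : ℤ, Nonempty ((E.page 1 le_rfl).X (p, q) ≅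
        (if 0 ≤ p ∧ 0 ≤ q then
          AddCommGrpCat.of (EtCoh.H (widePullback Y (fun _ : Fin (p.toNat + 1) => X) (fun _ => f))
            ((EtCoh.pull (WidePullback.base (fun _ : Fin (p.toNat + 1) => f) :
              widePullback Y (fun _ : Fin (p.toNat + 1) => X) (fun _ => f) ⟶ Y)).obj F) q.toNat)
         else AddCommGrpCat.of PUnit.{u + 2})) := by
  refine (splitData f s hs F).exists_ss (AddCommGrpCat.of PUnit.{u + 2})
    (AddCommGrpCat.isZero_of_subsingleton _) _ (fun n => ?_) (fun n hn => ?_)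
  · refine ⟨eqToIso ?_⟩
    show (if 0 ≤ (n : ℤ) then AddCommGrpCat.of (EtCoh.H Y F (n : ℤ).toNat)
      else AddCommGrpCat.of PUnit.{u + 2}) = AddCommGrpCat.of (EtCoh.H Y F n)
    rw [if_pos (Int.natCast_nonneg n), Int.toNat_natCast]
  · show IsZero (if 0 ≤ n then AddCommGrpCat.of (EtCoh.H Y F n.toNat)
      else AddCommGrpCat.of PUnit.{u + 2})
    rw [if_neg (not_le.mpr hn)]
    exact AddCommGrpCat.isZero_of_subsingleton _

end Main

end Groth.Agent.LeadEtDesc
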