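import Mathlib

/-! Euler characteristic of the pages of a spectral sequence of modules of finite length. -/

set_option autoImplicit false
universe u

namespace Groth.Agent.LeadEulerSS

open CategoryTheory CategoryTheory.Limits

variable {A : Type u} [Ring A]

lemma length_sub_add_quot {M : Type*} [AddCommGroup M] [Module A M] (N : Submodule A M) :
    Module.length A M = Module.length A N + Module.length A (M ⧸ N) :=
  Module.length_eq_add_of_exact N.subtype N.mkQ N.injective_subtype N.mkQ_surjective
    (LinearMap.exact_subtype_mkQ N)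

/-- length of the image of a morphism of modules -/
noncomputable def rlen {M N : ModuleCat.{u} A} (f : M ⟶ N) : ℕ∞ :=
  Module.length A (LinearMap.range f.hom)

lemma rlen_le_left {M N : ModuleCat.{u} A} (f : M ⟶ N) : rlen f ≤ Module.length A M :=
  Module.length_le_of_surjective f.hom.rangeRestrict (LinearMap.surjective_rangeRestrict _)

lemma rlen_le_right {M N : ModuleCat.{u} A} (f : M ⟶ N) : rlen f ≤ Module.length A N :=
  Module.length_le_of_injective (LinearMap.range f.hom).subtype (Submodule.injective_subtype _)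

lemma length_sc (S : ShortComplex (ModuleCat.{u} A)) :
    Module.length A S.X₂ = rlen S.f + Module.length A S.homology + rlen S.g := by
  have h1 := length_sub_add_quot (A := A) (LinearMap.ker S.g.hom)
  have h2 : Module.length A (S.X₂ ⧸ LinearMap.ker S.g.hom) = rlen S.g :=
    (LinearMap.quotKerEquivRange S.g.hom).length_eq
  have h3 := length_sub_add_quot (A := A) (LinearMap.range S.moduleCatToCycles)
  have h4 : Module.length A (LinearMap.range S.moduleCatToCycles) = rlen S.f := by
    have e1 := (LinearMap.quotKerEquivRange S.moduleCatToCycles).length_eq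
    have e2 := (LinearMap.quotKerEquivRange S.f.hom).length_eq
    have hk : LinearMap.ker S.moduleCatToCycles = LinearMap.ker S.f.hom :=
      LinearMap.ker_codRestrict _ _ _
    have e3 := (Submodule.quotEquivOfEq _ _ hk).length_eq
    unfold rlen
    rw [← e1, ← e2]
    exact e3
  have h5 : Module.length A S.homology =
      Module.length A (LinearMap.ker S.g.hom ⧸ LinearMap.range S.moduleCatToCycles) :=
    S.moduleCatHomologyIso.toLinearEquiv.length_eq
  rw [h1, h2, h3, h4, h5]

lemma length_X {ι : Type*} {c : ComplexShape ι} (K : HomologicalComplex (ModuleCat.{u} A) c)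
    (i j k : ι) (hi : c.prev j = i) (hk : c.next j = k) :
    Module.length A (K.X j) =
      rlen (K.d i j) + Module.length A (K.homology j) + rlen (K.d j k) := by
  have h := length_sc (K.sc' i j k)
  have e : Module.length A (K.homology j) = Module.length A (K.sc' i j k).homology :=
    (K.homologyIsoSc' i j k hi hk).toLinearEquiv.length_eq
  rw [e]
  exact h

/-- the sign `(-1)^(p+q)` -/
def eps (j : ℤ × ℤ) : ℤ := (((j.1 + j.2).negOnePow : ℤˣ) : ℤ)

lemma eps_add (v : ℤ × ℤ) (hv : v.1 + v.2 = 1) (j : ℤ × ℤ) : eps (j + v) = - eps j := by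
  unfold eps
  have : (j + v).1 + (j + v).2 = (j.1 + j.2) + 1 := by
    simp only [Prod.fst_add, Prod.snd_add]; omega
  rw [this, Int.negOnePow_succ, Units.val_neg]

theorem euler_homology (v : ℤ × ℤ) (hv : v.1 + v.2 = 1)
    (K : HomologicalComplex (ModuleCat.{u} A) (ComplexShape.up' v)) (s : Finset (ℤ × ℤ))
    (hs : ∀ j, j ∉ s → Module.length A (K.X j) = 0)
    (hfl : ∀ j, Module.length A (K.X j) ≠ ⊤) :
    (∀ j, Module.length A (K.homology j) ≤ Module.length A (K.X j)) ∧
    ∑ j ∈ s, eps j * ((Module.length A (K.X j)).toNat : ℤ) =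
      ∑ j ∈ s, eps j * ((Module.length A (K.homology j)).toNat : ℤ) := by
  classical
  have hrel : ∀ j, Module.length A (K.X j) =
      rlen (K.d (j - v) j) + Module.length A (K.homology j) + rlen (K.d j (j + v)) := by
    intro j
    apply length_X K (j - v) j (j + v)
    · exact (ComplexShape.up' v).prev_eq' (sub_add_cancel j v)
    · exact (ComplexShape.up' v).next_eq' rfl
  obtain ⟨b, hb⟩ : ∃ b : ℤ × ℤ → ℤ × ℤ → ℕ, b = fun i j => (rlen (K.d i j)).toNat := ⟨_, rfl⟩
  have hb0 : ∀ i j, (i ∉ s ∨ j ∉ s) → b i j = 0 := by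
    intro i j hij
    have h0 : rlen (K.d i j) = 0 := by
      rcases hij with h | h
      · exact nonpos_iff_eq_zero.mp ((rlen_le_left _).trans (hs i h).le)
      · exact nonpos_iff_eq_zero.mp ((rlen_le_right _).trans (hs j h).le)
    rw [hb]
    show (rlen (K.d i j)).toNat = 0
    rw [h0]; rfl
  have hx : ∀ j, (Module.length A (K.X j)).toNat =
      b (j - v) j + (Module.length A (K.homology j)).toNat + b j (j + v) := by
    intro j
    have hne := hfl j
    have hr := hrel j
    rw [hr] at hne
    have n12 : rlen (K.d (j - v) j) + Module.length A (K.homology j) ≠ ⊤ :=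
      ne_top_of_le_ne_top hne le_self_add
    have n1 : rlen (K.d (j - v) j) ≠ ⊤ := ne_top_of_le_ne_top n12 le_self_add
    have n2 : Module.length A (K.homology j) ≠ ⊤ := ne_top_of_le_ne_top n12 le_add_self
    have n3 : rlen (K.d j (j + v)) ≠ ⊤ := ne_top_of_le_ne_top hne le_add_self
    rw [hr, ENat.toNat_add n12 n3, ENat.toNat_add n1 n2, hb]
  obtain ⟨G, hG⟩ : ∃ G : ℤ × ℤ → ℤ, G = fun j => eps j * (b j (j + v) : ℤ) := ⟨_, rfl⟩
  have hGsupp : ∀ j, G j ≠ 0 → j ∈ s ∧ j + v ∈ s := by
    intro j hj
    by_contra hcon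
    apply hj
    have h0 : b j (j + v) = 0 := hb0 j (j + v) (by tauto)
    rw [hG]
    show eps j * (b j (j + v) : ℤ) = 0
    rw [h0]; simp
  have hterm : ∀ j, eps j * ((Module.length A (K.X j)).toNat : ℤ) =
      eps j * ((Module.length A (K.homology j)).toNat : ℤ) + (G j - G (j - v)) := by
    intro j
    have e1 : eps (j - v) = - eps j := by
      have := eps_add v hv (j - v)
      rw [sub_add_cancel] at this
      rw [this]; ring
    have e2 : b (j - v) (j - v + v) = b (j - v) j := by rw [sub_add_cancel]
    rw [hx j, hG]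
    show eps j * ((b (j - v) j + (Module.length A (K.homology j)).toNat + b j (j + v) : ℕ) : ℤ) =
      eps j * ((Module.length A (K.homology j)).toNat : ℤ) +
        (eps j * (b j (j + v) : ℤ) - eps (j - v) * (b (j - v) (j - v + v) : ℤ))
    rw [e2, e1]
    push_cast
    ring
  have hsumG : ∑ j ∈ s, G j = ∑ j ∈ s, G (j - v) := by
    have l1 : ∑ j ∈ s.filter (fun j => j + v ∈ s), G j = ∑ j ∈ s, G j :=
      Finset.sum_filter_of_ne (fun j _ hj => (hGsupp j hj).2)
    have l2 : ∑ j ∈ s.filter (fun j => j - v ∈ s), G (j - v) = ∑ j ∈ s, G (j - v) :=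
      Finset.sum_filter_of_ne (fun j _ hj => (hGsupp (j - v) hj).1)
    rw [← l1, ← l2]
    symm
    apply Finset.sum_nbij' (fun j => j - v) (fun i => i + v)
    · intro a ha
      rw [Finset.mem_filter] at ha ⊢
      exact ⟨ha.2, by rw [sub_add_cancel]; exact ha.1⟩
    · intro a ha
      rw [Finset.mem_filter] at ha ⊢
      exact ⟨ha.2, by rw [add_sub_cancel_right]; exact ha.1⟩
    · intro a _; exact sub_add_cancel a v
    · intro a _; exact add_sub_cancel_right a v
    · intro a _; rfl
  refine ⟨fun j => ?_, ?_⟩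
  · rw [hrel j]; exact le_add_right le_add_self
  · rw [Finset.sum_congr rfl (fun j _ => hterm j), Finset.sum_add_distrib,
      Finset.sum_sub_distrib, hsumG, sub_self, add_zero]

/-- the inductive property of the pages -/
def PageProp (E : E₂CohomologicalSpectralSequence (ModuleCat.{u} A)) (s : Finset (ℤ × ℤ))
    (r : ℤ) (hr : 2 ≤ r) : Prop :=
  (∀ pq, pq ∉ s → Module.length A ((E.page r hr).X pq) = 0) ∧
  (∀ pq, Module.length A ((E.page r hr).X pq) ≠ ⊤) ∧
  ∑ pq ∈ s, eps pq * ((Module.length A ((E.page r hr).X pq)).toNat : ℤ) =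
    ∑ pq ∈ s, eps pq * ((Module.length A ((E.page 2).X pq)).toNat : ℤ)

theorem pageProp (E : E₂CohomologicalSpectralSequence (ModuleCat.{u} A)) (s : Finset (ℤ × ℤ))
    (hs : ∀ pq : ℤ × ℤ, pq ∉ s → IsZero ((E.page 2).X pq))
    (hfl : ∀ pq : ℤ × ℤ, IsFiniteLength A ((E.page 2).X pq)) (r : ℤ) (hr : 2 ≤ r) :
    PageProp E s r hr := by
  have base : PageProp E s 2 le_rfl := by
    refine ⟨fun pq hpq => ?_, fun pq => ?_, rfl⟩
    · haveI := ModuleCat.subsingleton_of_isZero (hs pq hpq)
      exact Module.length_eq_zero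
    · exact Module.length_ne_top_iff.mpr (hfl pq)
  have step : ∀ (n : ℤ) (hn : 2 ≤ n), PageProp E s n hn →
      PageProp E s (n + 1) (le_trans hn (by omega)) := by
    intro n hn ih
    obtain ⟨h0, h1, h2⟩ := ih
    obtain ⟨hle, hsum⟩ := euler_homology (n, 1 - n) (by simp) (E.page n hn) s h0 h1
    have hiso : ∀ pq, Module.length A ((E.page (n + 1) (le_trans hn (by omega))).X pq) =
        Module.length A ((E.page n hn).homology pq) :=
      fun pq => ((E.iso n (n + 1) pq rfl hn).toLinearEquiv.length_eq).symm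
    refine ⟨fun pq hpq => ?_, fun pq => ?_, ?_⟩
    · rw [hiso pq]
      exact nonpos_iff_eq_zero.mp ((hle pq).trans (h0 pq hpq).le)
    · rw [hiso pq]
      exact ne_top_of_le_ne_top (h1 pq) (hle pq)
    · rw [← h2, hsum]
      apply Finset.sum_congr rfl
      intro pq _
      rw [hiso pq]
  exact Int.le_induction (motive := fun r hr => PageProp E s r hr) base step r hr

end Groth.Agent.LeadEulerSS
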