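import Mathlib
import Groth.Agent.Lib.Helper19PsLiftComplete
import Groth.Agent.Lib.Helper19Normalization
import Groth.Agent.Lib.Helper28CTensorJ
import Groth.Agent.Lib.Helper28ComplNagata
import Groth.Agent.Lib.Helper5RLR

/-!
# Wild quotient singularities: finiteness over the ring of invariants (lead)

`A` complete Noetherian local with coefficient field `k`, `G` finite acting `k`-linearly:
`A` is a finite module over `A^G`.
-/

set_option autoImplicit false
set_option maxHeartbeats 400000
set_option linter.style.haveILetI false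
set_option linter.unusedSectionVars false
set_option linter.unusedVariables false
universe u v w

noncomputable section

namespace Groth.Agent.Lib.LeadWQ

open IsLocalRing Polynomial

section Charpoly

variable {A : Type u} [CommRing A] {G : Type w} [Group G] [Fintype G] [MulSemiringAction G A]

theorem natDegree_charpoly [Nontrivial A] (a : A) :
    (MulSemiringAction.charpoly G a).natDegree = Fintype.card G := by
  rw [MulSemiringAction.charpoly_eq,
    Polynomial.natDegree_prod_of_monic _ _ (fun g _ => monic_X_sub_C _)]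
  simp

theorem coeff_charpoly_mem (P : Ideal A) (a : A) (ha : ∀ σ : G, σ • a ∈ P) (i : ℕ)
    (hi : i < Fintype.card G) : (MulSemiringAction.charpoly G a).coeff i ∈ P := by
  rw [← Ideal.Quotient.eq_zero_iff_mem, ← Polynomial.coeff_map]
  have h1 : (MulSemiringAction.charpoly G a).map (Ideal.Quotient.mk P) = X ^ Fintype.card G := by
    rw [MulSemiringAction.charpoly_eq, Polynomial.map_prod]
    have h2 : ∀ g : G, (X - C (g • a)).map (Ideal.Quotient.mk P) = X := by
      intro g
      rw [Polynomial.map_sub, Polynomial.map_X, Polynomial.map_C,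
        Ideal.Quotient.eq_zero_iff_mem.mpr (ha g), C_0, sub_zero]
    simp [h2]
  rw [h1, coeff_X_pow, if_neg (ne_of_lt hi)]

theorem pow_card_mem (a : A) (J : Ideal A)
    (hJ : ∀ i, i < Fintype.card G → (MulSemiringAction.charpoly G a).coeff i ∈ J) :
    a ^ Fintype.card G ∈ J := by
  nontriviality A
  have h0 := MulSemiringAction.eval_charpoly G a
  have hm := MulSemiringAction.monic_charpoly G a
  have hd := natDegree_charpoly (G := G) a
  have hc : (MulSemiringAction.charpoly G a).coeff (Fintype.card G) = 1 := by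
    rw [← hd]; exact hm.coeff_natDegree
  rw [Polynomial.eval_eq_sum_range, hd, Finset.sum_range_succ, hc, one_mul] at h0
  have h1 : a ^ Fintype.card G =
      -∑ i ∈ Finset.range (Fintype.card G), (MulSemiringAction.charpoly G a).coeff i * a ^ i := by
    rw [eq_neg_iff_add_eq_zero, add_comm]; exact h0
  rw [h1]
  refine neg_mem ?_
  apply Ideal.sum_mem
  intro i hi
  exact Ideal.mul_mem_right _ _ (hJ i (Finset.mem_range.mp hi))

theorem smul_mem_maximalIdeal [IsLocalRing A] (σ : G) (a : A) (ha : a ∈ maximalIdeal A) :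
    σ • a ∈ maximalIdeal A := by
  rw [mem_maximalIdeal, mem_nonunits_iff] at ha ⊢
  intro h
  apply ha
  have := h.map (MulSemiringAction.toRingHom G A σ⁻¹)
  simpa using this

end Charpoly

section Finite

variable (k : Type v) [Field k] (A : Type u) [CommRing A] [Algebra k A] [IsLocalRing A]
  [IsNoetherianRing A]

theorem finite_quot (hk : Function.Surjective (IsLocalRing.residue A ∘ algebraMap k A))
    (J : Ideal A) (hJ : J ≤ maximalIdeal A) (N : ℕ) (hN : maximalIdeal A ^ N ≤ J) :
    Module.Finite k (A ⧸ J) := by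
  have hJne : J ≠ ⊤ := fun h =>
    (maximalIdeal.isMaximal A).ne_top (top_le_iff.mp (h ▸ hJ))
  haveI : Nontrivial (A ⧸ J) := Ideal.Quotient.nontrivial_iff.mpr hJne
  haveI : IsLocalRing (A ⧸ J) :=
    IsLocalRing.of_surjective' (Ideal.Quotient.mk J) Ideal.Quotient.mk_surjective
  haveI : IsArtinianRing (A ⧸ J) := by
    rw [isArtinianRing_iff_isNilpotent_maximalIdeal]
    refine ⟨N, ?_⟩
    rw [Groth.Agent.Lib.Helper5.maximalIdeal_quotient_eq_map, ← Ideal.map_pow, Ideal.zero_eq_bot,
      Ideal.map_eq_bot_iff_le_ker, Ideal.mk_ker]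
    exact hN
  apply Groth.Agent.Lib.Helper19.Normalization.finite_of_isArtinianRing_of_residue (s := 1)
    (fun _ => (1 : A ⧸ J))
  intro r
  obtain ⟨a, rfl⟩ := Ideal.Quotient.mk_surjective r
  obtain ⟨c, hc⟩ := hk (IsLocalRing.residue A a)
  refine ⟨fun _ => c, ?_⟩
  rw [Groth.Agent.Lib.Helper5.maximalIdeal_quotient_eq_map]
  have h1 : Ideal.Quotient.mk J a - ∑ l : Fin 1, c • (1 : A ⧸ J) =
      Ideal.Quotient.mk J (a - algebraMap k A c) := by
    rw [Fin.sum_univ_one, map_sub, Algebra.smul_def, mul_one]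
    rfl
  rw [h1]
  apply Ideal.mem_map_of_mem
  rw [← Ideal.Quotient.eq_zero_iff_mem (I := maximalIdeal A)]
  have h2 : IsLocalRing.residue A (a - algebraMap k A c) = 0 := by
    rw [map_sub, sub_eq_zero]; exact hc.symm
  exact h2

end Finite

section PS

open MvPowerSeries Groth.Agent.Lib.Helper19

variable (k : Type v) [Field k] (A : Type u) [CommRing A] [Algebra k A] [IsLocalRing A]
  [IsNoetherianRing A] [IsAdicComplete (maximalIdeal A) A]

theorem exists_finite_ps (hk : Function.Surjective (IsLocalRing.residue A ∘ algebraMap k A))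
    (r : ℕ) (y : Fin r → A) (hy : ∀ i, y i ∈ maximalIdeal A) (N : ℕ)
    (hN : maximalIdeal A ^ N ≤ Ideal.span (Set.range y)) :
    ∃ φ : MvPowerSeries (Fin r) k →ₐ[k] A, (∀ i, φ (MvPowerSeries.X i) = y i) ∧
      φ.toRingHom.Finite := by
  classical
  set J : Ideal A := Ideal.span (Set.range y) with hJdef
  have hJm : J ≤ maximalIdeal A := by
    rw [hJdef, Ideal.span_le]
    rintro _ ⟨i, rfl⟩
    exact hy i
  haveI : IsAdicComplete J A := Groth.Agent.Lib.Helper28.isAdicComplete_of_le (maximalIdeal A) J hJm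
  haveI : Module.Finite k (A ⧸ J) := finite_quot k A hk J hJm N hN
  have ham : ∀ i, y i ∈ J := fun i => Ideal.subset_span ⟨i, rfl⟩
  obtain ⟨ev, hev⟩ := exists_algHom_X_eq_of_isAdicComplete (Λ := k) J y ham
  refine ⟨ev, hev, ?_⟩
  letI : Algebra (MvPowerSeries (Fin r) k) A := ev.toRingHom.toAlgebra
  have halg : ∀ g : MvPowerSeries (Fin r) k, algebraMap (MvPowerSeries (Fin r) k) A g = ev g :=
    fun g => rfl
  haveI : IsScalarTower k (MvPowerSeries (Fin r) k) A :=
    IsScalarTower.of_algebraMap_eq fun x => (ev.commutes x).symm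
  haveI : IsAdicComplete (maximalIdeal k) k := Groth.Agent.Lib.Helper28.CTensor.isAdicComplete_field k
  haveI : IsAdicComplete (maximalIdeal (MvPowerSeries (Fin r) k)) (MvPowerSeries (Fin r) k) :=
    isAdicComplete_mvPowerSeries
  have hmap : (maximalIdeal (MvPowerSeries (Fin r) k)).map
      (algebraMap (MvPowerSeries (Fin r) k) A) = J := by
    rw [Groth.Agent.Lib.Helper28.CTensor.maximalIdeal_mvPowerSeries_field, varsIdeal,
      Ideal.map_span, ← Set.range_comp, hJdef]
    congr 2
    funext i
    exact hev i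
  haveI : IsHausdorff (maximalIdeal (MvPowerSeries (Fin r) k)) A :=
    IsHausdorff.of_map (J := J) (le_of_eq hmap)
  show Module.Finite (MvPowerSeries (Fin r) k) A
  apply Normalization.finite_of_finite_quotient_of_isAdicComplete
    (maximalIdeal (MvPowerSeries (Fin r) k))
  rw [Ideal.smul_top_eq_map, hmap]
  haveI : Module.Finite (MvPowerSeries (Fin r) k) (A ⧸ J) :=
    Module.Finite.of_restrictScalars_finite k (MvPowerSeries (Fin r) k) (A ⧸ J)
  exact Module.Finite.equiv
    (Submodule.Quotient.restrictScalarsEquiv (MvPowerSeries (Fin r) k) J).symm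

variable {G : Type w} [Group G] [MulSemiringAction G A]

theorem smul_ps_eq (hGk : ∀ (σ : G) (c : k), σ • algebraMap k A c = algebraMap k A c)
    {r : ℕ} (φ : MvPowerSeries (Fin r) k →ₐ[k] A)
    (hm : ∀ i, φ (MvPowerSeries.X i) ∈ maximalIdeal A)
    (hinv : ∀ (σ : G) i, σ • φ (MvPowerSeries.X i) = φ (MvPowerSeries.X i))
    (σ : G) (f : MvPowerSeries (Fin r) k) : σ • φ f = φ f := by
  let ψ : A →ₐ[k] A :=
    { MulSemiringAction.toRingHom G A σ with
      commutes' := fun c => hGk σ c }
  have hψ : ∀ a, ψ a = σ • a := fun a => rfl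
  haveI : IsHausdorff (maximalIdeal A) A := inferInstance
  have h := algHom_ext_of_X_of_isHausdorff (maximalIdeal A) (ψ.comp φ) φ
    (fun s => by rw [AlgHom.comp_apply, hψ, hinv]; exact hm s)
    (fun s => by rw [AlgHom.comp_apply, hψ, hinv])
  have := AlgHom.congr_fun h f
  rwa [AlgHom.comp_apply, hψ] at this

theorem finite_of_ps {r : ℕ} (φ : MvPowerSeries (Fin r) k →ₐ[k] A) (hφ : φ.toRingHom.Finite)
    (hinv : ∀ (σ : G) (f : MvPowerSeries (Fin r) k), σ • φ f = φ f) :
    Module.Finite (FixedPoints.subring A G) A := by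
  let φB : MvPowerSeries (Fin r) k →+* FixedPoints.subring A G :=
    φ.toRingHom.codRestrict (FixedPoints.subring A G) (fun f σ => hinv σ f)
  letI : Algebra (MvPowerSeries (Fin r) k) A := φ.toRingHom.toAlgebra
  letI : Algebra (MvPowerSeries (Fin r) k) (FixedPoints.subring A G) := φB.toAlgebra
  haveI : IsScalarTower (MvPowerSeries (Fin r) k) (FixedPoints.subring A G) A :=
    IsScalarTower.of_algebraMap_eq fun x => rfl
  haveI : Module.Finite (MvPowerSeries (Fin r) k) A := hφ
  exact Module.Finite.of_restrictScalars_finite (MvPowerSeries (Fin r) k)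
    (FixedPoints.subring A G) A

theorem finite_fixedPoints [Finite G]
    (hk : Function.Surjective (IsLocalRing.residue A ∘ algebraMap k A))
    (hGk : ∀ (σ : G) (c : k), σ • algebraMap k A c = algebraMap k A c) :
    Module.Finite (FixedPoints.subring A G) A := by
  classical
  haveI : Fintype G := Fintype.ofFinite G
  obtain ⟨n, u, hu⟩ := Submodule.fg_iff_exists_fin_generating_family.1
    (IsNoetherian.noetherian (maximalIdeal A))
  have hum : ∀ j, u j ∈ maximalIdeal A := fun j => by
    rw [← hu]; exact Submodule.subset_span ⟨j, rfl⟩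
  set d := Fintype.card G with hd
  let y : Fin (n * d) → A := fun t =>
    (MulSemiringAction.charpoly G (u (finProdFinEquiv.symm t).1)).coeff
      ((finProdFinEquiv.symm t).2 : ℕ)
  have hy : ∀ t, y t ∈ maximalIdeal A := fun t =>
    coeff_charpoly_mem (maximalIdeal A) _ (fun σ => smul_mem_maximalIdeal σ _ (hum _)) _
      (finProdFinEquiv.symm t).2.isLt
  have hrad : maximalIdeal A ≤ (Ideal.span (Set.range y)).radical := by
    rw [← hu]
    change Ideal.span (Set.range u) ≤ _
    rw [Ideal.span_le]
    rintro _ ⟨j, rfl⟩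
    refine ⟨d, ?_⟩
    apply pow_card_mem (G := G)
    intro i hi
    apply Ideal.subset_span
    refine ⟨finProdFinEquiv (j, ⟨i, hi⟩), ?_⟩
    simp only [y, Equiv.symm_apply_apply]
  obtain ⟨N, hN⟩ := Ideal.exists_pow_le_of_le_radical_of_fg hrad
    (IsNoetherian.noetherian (maximalIdeal A))
  obtain ⟨φ, hφy, hφf⟩ := exists_finite_ps k A hk (n * d) y hy N hN
  apply finite_of_ps k A φ hφf
  apply smul_ps_eq k A hGk φ
  · intro i; rw [hφy]; exact hy i
  · intro σ i
    rw [hφy]
    exact MulSemiringAction.smul_coeff_charpoly _ _ σ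

end PS

end Groth.Agent.Lib.LeadWQ
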