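import Mathlib
import Groth.Agent.Lib.LeadWQa

/-!
# Wild quotient singularities: non-flatness over the ring of invariants (lead)
-/

set_option autoImplicit false
set_option maxHeartbeats 400000
set_option linter.style.haveILetI false
set_option linter.unusedSectionVars false
set_option linter.unusedVariables false
universe u v w

noncomputable section

namespace Groth.Agent.Lib.LeadWQ

open IsLocalRing Polynomial

section Local

variable (A : Type u) [CommRing A] (G : Type w) [Group G] [MulSemiringAction G A]

instance isLocalHom_subtype : IsLocalHom (FixedPoints.subring A G).subtype := by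
  constructor
  intro b hb
  obtain ⟨a', ha'⟩ := hb.exists_right_inv
  have hinv : ∀ σ : G, σ • a' = a' := by
    intro σ
    have hb' : σ • (b : A) = b := b.2 σ
    have h1 : σ • a' * (b : A) = 1 := by
      have : σ • (a' * (b : A)) = 1 := by
        rw [mul_comm]
        change σ • ((FixedPoints.subring A G).subtype b * a') = 1
        rw [ha', smul_one]
      rwa [smul_mul', hb'] at this
    calc σ • a' = σ • a' * ((b : A) * a') := by
          change _ = σ • a' * ((FixedPoints.subring A G).subtype b * a')
          rw [ha', mul_one]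
      _ = (σ • a' * (b : A)) * a' := by ring
      _ = a' := by rw [h1, one_mul]
  refine ⟨⟨b, ⟨a', hinv⟩, ?_, ?_⟩, rfl⟩
  · apply Subtype.ext
    exact ha'
  · apply Subtype.ext
    change a' * (b : A) = 1
    rw [mul_comm]
    exact ha'

theorem isLocalRing_fixedPoints [IsLocalRing A] : IsLocalRing (FixedPoints.subring A G) :=
  RingHom.domain_isLocalRing (FixedPoints.subring A G).subtype

theorem faithful_of_inertia_bot (h : (⊥ : Ideal A).inertia G = ⊥) : FaithfulSMul G A := by
  constructor
  intro σ τ hστ
  have h1 : τ⁻¹ * σ ∈ (⊥ : Ideal A).inertia G := by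
    intro x
    change (τ⁻¹ * σ) • x - x ∈ (⊥ : Ideal A)
    rw [Ideal.mem_bot, sub_eq_zero, mul_smul, hστ x, inv_smul_smul]
  rw [h, Subgroup.mem_bot] at h1
  rw [inv_mul_eq_one] at h1
  exact h1.symm

theorem isGaloisGroup_fixedPoints [FaithfulSMul G A] :
    IsGaloisGroup G (FixedPoints.subring A G) A where
  faithful := inferInstance
  commutes := inferInstance
  isInvariant := ⟨fun a ha => ⟨⟨a, ha⟩, rfl⟩⟩

end Local

section Main

variable {A : Type u} [CommRing A] {G : Type w} [Group G] [MulSemiringAction G A]

/-- the matrix `(σ_i b_j)` -/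
def conjMatrix {p : ℕ} (e : Fin p ≃ G) (b : Fin p → A) : Matrix (Fin p) (Fin p) A :=
  Matrix.of fun i j => e i • b j

/-- Dedekind independence: at a prime with trivial inertia, `det (σ_i b_j)` does not vanish. -/
theorem det_conjMatrix_notMem {p : ℕ} (e : Fin p ≃ G)
    (b : Module.Basis (Fin p) (FixedPoints.subring A G) A)
    (P : Ideal A) [P.IsPrime] (hP : P.inertia G = ⊥) :
    (conjMatrix e (fun j => b j)).det ∉ P := by
  classical
  intro hdet
  let L := A ⧸ P
  let M := conjMatrix e (fun j => b j)
  have hdet0 : ((Ideal.Quotient.mk P).mapMatrix M).det = 0 := by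
    rw [← RingHom.map_det]
    exact Ideal.Quotient.eq_zero_iff_mem.mpr hdet
  obtain ⟨v, hv0, hv⟩ := Matrix.exists_vecMul_eq_zero_iff.mpr hdet0
  -- the characters
  let χ : Fin p → (A →* L) := fun i =>
    ((Ideal.Quotient.mk P).comp (MulSemiringAction.toRingHom G A (e i))).toMonoidHom
  have hχ : ∀ i a, χ i a = Ideal.Quotient.mk P (e i • a) := fun i a => rfl
  have hχinj : Function.Injective χ := by
    intro i i' h
    have h1 : e i * (e i')⁻¹ ∈ P.inertia G := by
      intro x
      change (e i * (e i')⁻¹) • x - x ∈ P
      have h2 := DFunLike.congr_fun h ((e i')⁻¹ • x)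
      rw [hχ, hχ, smul_inv_smul, ← mul_smul] at h2
      exact Ideal.Quotient.eq.mp h2
    rw [hP, Subgroup.mem_bot, mul_inv_eq_one] at h1
    exact e.injective h1
  have hli : LinearIndependent L (fun i => (χ i : A → L)) :=
    (linearIndependent_monoidHom A L).comp χ hχinj
  rw [Fintype.linearIndependent_iff] at hli
  apply hv0
  funext i
  refine hli v ?_ i
  funext a
  rw [Finset.sum_apply, Pi.zero_apply]
  simp only [Pi.smul_apply, smul_eq_mul, hχ]
  -- expand `a` in the basis
  have ha : a = ∑ j, ((b.repr a j : FixedPoints.subring A G) : A) * b j := by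
    conv_lhs => rw [← b.sum_repr a]
    apply Finset.sum_congr rfl
    intro j _
    rfl
  have hsm : ∀ i, e i • a = ∑ j, ((b.repr a j : FixedPoints.subring A G) : A) * (e i • b j) := by
    intro i
    conv_lhs => rw [ha]
    rw [Finset.smul_sum]
    apply Finset.sum_congr rfl
    intro j _
    rw [smul_mul', (b.repr a j).2 (e i)]
  have hvj : ∀ j, ∑ i, v i * Ideal.Quotient.mk P (e i • b j) = 0 := by
    intro j
    have := congrFun hv j
    simpa [Matrix.vecMul, dotProduct, M, conjMatrix] using this
  calc ∑ i, v i * Ideal.Quotient.mk P (e i • a)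
      = ∑ i, v i * ∑ j, Ideal.Quotient.mk P ((b.repr a j : FixedPoints.subring A G) : A) *
          Ideal.Quotient.mk P (e i • b j) := by
        apply Finset.sum_congr rfl
        intro i _
        rw [hsm i, map_sum]
        simp only [map_mul]
    _ = ∑ j, Ideal.Quotient.mk P ((b.repr a j : FixedPoints.subring A G) : A) *
          ∑ i, v i * Ideal.Quotient.mk P (e i • b j) := by
        simp only [Finset.mul_sum]
        rw [Finset.sum_comm]
        apply Finset.sum_congr rfl
        intro j _
        apply Finset.sum_congr rfl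
        intro i _
        ring
    _ = 0 := by
        simp only [hvj, mul_zero, Finset.sum_const_zero]

end Main

section Final

variable {A : Type u} [CommRing A] {G : Type w} [Group G] [MulSemiringAction G A]

/-- Hauptidealsatz: an element outside every non-maximal prime of a Noetherian local ring of
dimension `≥ 2` is a unit. -/
theorem isUnit_of_notMem_primes [IsLocalRing A] [IsNoetherianRing A] (hdim : 2 ≤ ringKrullDim A)
    (D : A) (hD : ∀ P : Ideal A, P.IsPrime → P ≠ maximalIdeal A → D ∉ P) : IsUnit D := by
  by_contra hu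
  have hDm : D ∈ maximalIdeal A := hu
  have hle : Ideal.span {D} ≤ maximalIdeal A := by
    rw [Ideal.span_le, Set.singleton_subset_iff]; exact hDm
  obtain ⟨P, hPmin, hPm⟩ := Ideal.exists_minimalPrimes_le hle
  have hPprime : P.IsPrime := hPmin.1.1
  have hht : P.height ≤ 1 :=
    Ideal.height_le_one_of_isPrincipal_of_mem_minimalPrimes (Ideal.span {D}) P hPmin
  have hne : P ≠ maximalIdeal A := by
    intro h
    rw [h] at hht
    have h1 : ((maximalIdeal A).height : WithBot ℕ∞) ≤ 1 := by exact_mod_cast hht
    rw [IsLocalRing.maximalIdeal_height_eq_ringKrullDim] at h1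
    have h2 : (2 : WithBot ℕ∞) ≤ 1 := hdim.trans h1
    exact absurd h2 (by decide)
  exact hD P hPprime hne (hPmin.1.2 (Ideal.subset_span rfl))

theorem det_conjMatrix_mem_maximalIdeal [IsLocalRing A] {p : ℕ} (hp : 2 ≤ p) (e : Fin p ≃ G)
    (b : Fin p → A) (hin : ∀ (σ : G) (a : A), σ • a - a ∈ maximalIdeal A) :
    (conjMatrix e b).det ∈ maximalIdeal A := by
  classical
  rw [← Ideal.Quotient.eq_zero_iff_mem, RingHom.map_det]
  have h01 : (⟨0, by omega⟩ : Fin p) ≠ ⟨1, by omega⟩ := by
    intro h
    simpa using congrArg Fin.val h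
  apply Matrix.det_zero_of_row_eq h01
  funext j
  simp only [RingHom.mapMatrix_apply, Matrix.map_apply, conjMatrix, Matrix.of_apply]
  rw [Ideal.Quotient.eq]
  have h1 := hin (e ⟨0, by omega⟩) (b j)
  have h2 := hin (e ⟨1, by omega⟩) (b j)
  have : e ⟨0, by omega⟩ • b j - e ⟨1, by omega⟩ • b j =
      (e ⟨0, by omega⟩ • b j - b j) - (e ⟨1, by omega⟩ • b j - b j) := by ring
  rw [this]
  exact Ideal.sub_mem _ h1 h2

/-- inertia at the maximal ideal is everything when `G` fixes a coefficient field -/
theorem smul_sub_mem_maximalIdeal [IsLocalRing A] [Finite G] (k : Type v) [Field k] [Algebra k A]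
    (hk : Function.Surjective (IsLocalRing.residue A ∘ algebraMap k A))
    (hGk : ∀ (σ : G) (c : k), σ • algebraMap k A c = algebraMap k A c) (σ : G) (a : A) :
    σ • a - a ∈ maximalIdeal A := by
  haveI : Fintype G := Fintype.ofFinite G
  obtain ⟨c, hc⟩ := hk (IsLocalRing.residue A a)
  have ht : a - algebraMap k A c ∈ maximalIdeal A := by
    rw [← Ideal.Quotient.eq_zero_iff_mem (I := maximalIdeal A)]
    have h2 : IsLocalRing.residue A (a - algebraMap k A c) = 0 := by
      rw [map_sub, sub_eq_zero]; exact hc.symm
    exact h2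
  have h1 : σ • a - a = σ • (a - algebraMap k A c) - (a - algebraMap k A c) := by
    rw [smul_sub, hGk]; ring
  rw [h1]
  exact Ideal.sub_mem _ (smul_mem_maximalIdeal σ _ ht) ht

end Final

section Thm

theorem not_flat_fixedPoints
    (p : ℕ) [Fact p.Prime] (A : Type u) [CommRing A] [IsRegularLocalRing A]
    [IsAdicComplete (IsLocalRing.maximalIdeal A) A] (hdim : 2 ≤ ringKrullDim A)
    (k : Type v) [Field k] [Algebra k A]
    (hk : Function.Surjective (IsLocalRing.residue A ∘ algebraMap k A))
    (G : Type w) [Group G] [Finite G] [MulSemiringAction G A] (hcard : Nat.card G = p)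
    (hGk : ∀ (σ : G) (c : k), σ • algebraMap k A c = algebraMap k A c)
    (hram : ∀ P : Ideal A, P.IsPrime → P ≠ IsLocalRing.maximalIdeal A → P.inertia G = ⊥) :
    ¬ Module.Flat (FixedPoints.subring A G) A := by
  classical
  intro hflat
  haveI : IsDomain A := Groth.Agent.Lib.Helper5.isDomain_of_isRegularLocalRing A
  haveI : Module.Finite (FixedPoints.subring A G) A := finite_fixedPoints k A hk hGk
  haveI : IsLocalRing (FixedPoints.subring A G) := isLocalRing_fixedPoints A G
  haveI : Module.Free (FixedPoints.subring A G) A := Module.free_of_flat_of_isLocalRing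
  -- faithful
  have hbotne : (⊥ : Ideal A) ≠ maximalIdeal A := by
    intro h
    have h1 : ringKrullDim A = 0 := by
      rw [← IsLocalRing.maximalIdeal_height_eq_ringKrullDim, ← h]
      simp
    rw [h1] at hdim
    exact absurd hdim (by decide)
  haveI : FaithfulSMul G A := faithful_of_inertia_bot A G (hram ⊥ Ideal.isPrime_bot hbotne)
  haveI : IsGaloisGroup G (FixedPoints.subring A G) A := isGaloisGroup_fixedPoints A G
  have hrank : Module.finrank (FixedPoints.subring A G) A = p := by
    rw [← hcard]
    exact (IsGaloisGroup.card_eq_finrank' G (FixedPoints.subring A G) A).symm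
  let b := Module.finBasisOfFinrankEq (FixedPoints.subring A G) A hrank
  haveI : Fintype G := Fintype.ofFinite G
  have hcard' : Fintype.card G = p := by rw [← Nat.card_eq_fintype_card]; exact hcard
  let e : Fin p ≃ G := (Fintype.equivFinOfCardEq hcard').symm
  have hp2 : 2 ≤ p := (Fact.out : p.Prime).two_le
  have hunit : IsUnit (conjMatrix e (fun j => b j)).det := by
    apply isUnit_of_notMem_primes hdim
    intro P hP hPne
    haveI := hP
    exact det_conjMatrix_notMem e b P (hram P hP hPne)
  have hmem := det_conjMatrix_mem_maximalIdeal hp2 e (fun j => b j)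
    (smul_sub_mem_maximalIdeal k hk hGk)
  exact hmem hunit

end Thm

end Groth.Agent.Lib.LeadWQ
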