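import Mathlib
import Groth.Agent.Lib.LeadWQb
import Groth.Agent.S2082
import Groth.Agent.Lib.Helper18ComplProd
import Groth.Agent.Lib.Helper5IntDim
import Groth.Agent.Lib.Helper5RLR3
import Groth.Agent.Lib.Helper28Catenary

/-!
# Wild quotient singularities: the ring of invariants is a complete normal non-regular local
domain (lead)
-/

set_option autoImplicit false
set_option maxHeartbeats 400000
set_option linter.style.haveILetI false
set_option linter.unusedSectionVars false
set_option linter.unusedVariables false
universe u v w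

noncomputable section

namespace Groth.Agent.Lib.LeadWQ

open IsLocalRing Polynomial

section PSInv

open MvPowerSeries Groth.Agent.Lib.Helper19

variable (k : Type v) [Field k] (A : Type u) [CommRing A] [Algebra k A] [IsLocalRing A]
  [IsNoetherianRing A] [IsAdicComplete (maximalIdeal A) A]
  {G : Type w} [Group G] [MulSemiringAction G A]

/-- invariant elements generating an `m`-primary ideal -/
theorem exists_invariant_sop [Finite G] :
    ∃ (r : ℕ) (y : Fin r → A), (∀ t, y t ∈ maximalIdeal A) ∧ (∀ (σ : G) t, σ • y t = y t) ∧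
      ∃ N : ℕ, maximalIdeal A ^ N ≤ Ideal.span (Set.range y) := by
  classical
  haveI : Fintype G := Fintype.ofFinite G
  obtain ⟨n, u, hu⟩ := Submodule.fg_iff_exists_fin_generating_family.1
    (IsNoetherian.noetherian (maximalIdeal A))
  have hum : ∀ j, u j ∈ maximalIdeal A := fun j => by
    rw [← hu]; exact Submodule.subset_span ⟨j, rfl⟩
  set d := Fintype.card G with hd
  let y : Fin (n * d) → A := fun t =>
    (MulSemiringAction.charpoly G (u (finProdFinEquiv.symm t).1)).coeff
      ((finProdFinEquiv.symm t).2 : ℕ)
  have hy : ∀ t, y t ∈ maximalIdeal A := fun t =>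
    coeff_charpoly_mem (maximalIdeal A) _ (fun σ => smul_mem_maximalIdeal σ _ (hum _)) _
      (finProdFinEquiv.symm t).2.isLt
  have hrad : maximalIdeal A ≤ (Ideal.span (Set.range y)).radical := by
    rw [← hu]
    change Ideal.span (Set.range u) ≤ _
    rw [Ideal.span_le]
    rintro _ ⟨j, rfl⟩
    refine ⟨d, ?_⟩
    apply pow_card_mem (G := G)
    intro i hi
    apply Ideal.subset_span
    refine ⟨finProdFinEquiv (j, ⟨i, hi⟩), ?_⟩
    simp only [y, Equiv.symm_apply_apply]
  refine ⟨n * d, y, hy, fun σ t => MulSemiringAction.smul_coeff_charpoly _ _ σ, ?_⟩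
  exact Ideal.exists_pow_le_of_le_radical_of_fg hrad (IsNoetherian.noetherian (maximalIdeal A))

theorem exists_invariant_ps [Finite G]
    (hk : Function.Surjective (IsLocalRing.residue A ∘ algebraMap k A))
    (hGk : ∀ (σ : G) (c : k), σ • algebraMap k A c = algebraMap k A c) :
    ∃ (r : ℕ) (φ : MvPowerSeries (Fin r) k →ₐ[k] A), φ.toRingHom.Finite ∧
      ∀ (σ : G) (f : MvPowerSeries (Fin r) k), σ • φ f = φ f := by
  obtain ⟨r, y, hy, hinv, N, hN⟩ := exists_invariant_sop A (G := G)
  obtain ⟨φ, hφy, hφf⟩ := exists_finite_ps k A hk r y hy N hN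
  refine ⟨r, φ, hφf, ?_⟩
  apply smul_ps_eq k A hGk φ
  · intro i; rw [hφy]; exact hy i
  · intro σ i
    rw [hφy]
    exact hinv σ i

theorem comap_subtype_maximalIdeal [IsLocalRing (FixedPoints.subring A G)] :
    Ideal.comap (FixedPoints.subring A G).subtype (maximalIdeal A) =
      maximalIdeal (FixedPoints.subring A G) := by
  ext b
  rw [Ideal.mem_comap, mem_maximalIdeal, mem_maximalIdeal, mem_nonunits_iff, mem_nonunits_iff,
    isUnit_map_iff]

theorem noeth_complete_fixedPoints [Finite G]
    (hk : Function.Surjective (IsLocalRing.residue A ∘ algebraMap k A))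
    (hGk : ∀ (σ : G) (c : k), σ • algebraMap k A c = algebraMap k A c) :
    IsNoetherianRing (FixedPoints.subring A G) ∧
      IsAdicComplete (Ideal.comap (FixedPoints.subring A G).subtype (maximalIdeal A))
        (FixedPoints.subring A G) := by
  obtain ⟨r, φ, hφ, hinv⟩ := exists_invariant_ps k A (G := G) hk hGk
  let φB : MvPowerSeries (Fin r) k →+* FixedPoints.subring A G :=
    φ.toRingHom.codRestrict (FixedPoints.subring A G) (fun f σ => hinv σ f)
  letI : Algebra (MvPowerSeries (Fin r) k) A := φ.toRingHom.toAlgebra
  letI : Algebra (MvPowerSeries (Fin r) k) (FixedPoints.subring A G) := φB.toAlgebra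
  haveI : IsScalarTower (MvPowerSeries (Fin r) k) (FixedPoints.subring A G) A :=
    IsScalarTower.of_algebraMap_eq fun x => rfl
  haveI : Module.Finite (MvPowerSeries (Fin r) k) A := hφ
  haveI : IsNoetherian (MvPowerSeries (Fin r) k) A := isNoetherian_of_isNoetherianRing_of_finite _ _
  haveI : Module.Finite (MvPowerSeries (Fin r) k) (FixedPoints.subring A G) :=
    Module.Finite.of_injective
      (IsScalarTower.toAlgHom (MvPowerSeries (Fin r) k) (FixedPoints.subring A G) A).toLinearMap
      Subtype.val_injective
  haveI : IsLocalRing (FixedPoints.subring A G) := isLocalRing_fixedPoints A G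
  haveI : IsAdicComplete (maximalIdeal k) k := Groth.Agent.Lib.Helper28.CTensor.isAdicComplete_field k
  haveI : IsAdicComplete (maximalIdeal (MvPowerSeries (Fin r) k)) (MvPowerSeries (Fin r) k) :=
    isAdicComplete_mvPowerSeries
  obtain ⟨h1, h2⟩ := Groth.Agent.Lib.Helper18ComplProd.isAdicComplete_of_finite
    (MvPowerSeries (Fin r) k) (FixedPoints.subring A G)
  refine ⟨h1, ?_⟩
  rw [comap_subtype_maximalIdeal]
  exact h2

end PSInv

section Normal

variable (A : Type u) [CommRing A] (G : Type w) [Group G] [MulSemiringAction G A]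

theorem isIntegrallyClosed_fixedPoints [IsDomain A] [IsIntegrallyClosed A] :
    IsIntegrallyClosed (FixedPoints.subring A G) := by
  haveI : FaithfulSMul (FixedPoints.subring A G) (FractionRing A) := by
    rw [faithfulSMul_iff_algebraMap_injective]
    have : (algebraMap (FixedPoints.subring A G) (FractionRing A) : _ → _) =
        algebraMap A (FractionRing A) ∘ (FixedPoints.subring A G).subtype := rfl
    rw [this]
    exact (IsFractionRing.injective A (FractionRing A)).comp Subtype.val_injective
  letI : Algebra (FractionRing (FixedPoints.subring A G)) (FractionRing A) :=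
    FractionRing.liftAlgebra (FixedPoints.subring A G) (FractionRing A)
  rw [isIntegrallyClosed_iff (FractionRing (FixedPoints.subring A G))]
  intro x hx
  obtain ⟨b, c, hc, rfl⟩ := IsFractionRing.div_surjective (A := FixedPoints.subring A G) x
  have hc0 : (c : A) ≠ 0 := by
    intro h
    have : c = 0 := Subtype.ext h
    rw [this] at hc
    exact (nonZeroDivisors.ne_zero hc) rfl
  have hx' : IsIntegral A (algebraMap (FractionRing (FixedPoints.subring A G)) (FractionRing A)
      (algebraMap _ _ b / algebraMap _ _ c)) :=
    (hx.map (IsScalarTower.toAlgHom (FixedPoints.subring A G)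
      (FractionRing (FixedPoints.subring A G)) (FractionRing A))).tower_top
  obtain ⟨a, ha⟩ := (isIntegrallyClosed_iff (FractionRing A)).mp inferInstance hx'
  have hac : a * (c : A) = b := by
    apply IsFractionRing.injective A (FractionRing A)
    rw [map_mul, ha, map_div₀, ← IsScalarTower.algebraMap_apply,
      ← IsScalarTower.algebraMap_apply]
    have h1 : algebraMap (FixedPoints.subring A G) (FractionRing A) c =
        algebraMap A (FractionRing A) (c : A) := rfl
    have h2 : algebraMap (FixedPoints.subring A G) (FractionRing A) b =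
        algebraMap A (FractionRing A) (b : A) := rfl
    rw [h1, h2]
    have h3 : algebraMap A (FractionRing A) (c : A) ≠ 0 := by
      rw [Ne, map_eq_zero_iff _ (IsFractionRing.injective A (FractionRing A))]
      exact hc0
    field_simp
  have hinv : ∀ σ : G, σ • a = a := by
    intro σ
    have h1 : σ • a * (c : A) = a * (c : A) := by
      have : σ • (a * (c : A)) = a * (c : A) := by
        rw [hac]; exact b.2 σ
      rwa [smul_mul', c.2 σ] at this
    exact mul_right_cancel₀ hc0 h1
  refine ⟨⟨a, hinv⟩, ?_⟩
  rw [eq_div_iff]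
  · rw [← map_mul]
    congr 1
    exact Subtype.ext hac
  · rw [Ne, map_eq_zero_iff _ (IsFractionRing.injective _ _)]
    intro h
    rw [h] at hc
    exact (nonZeroDivisors.ne_zero hc) rfl

end Normal

section NotRegular

variable (A : Type u) [CommRing A] (G : Type w) [Group G] [MulSemiringAction G A]

/-- the fibre ring `A / n A` has dimension `0` -/
theorem ringKrullDim_fibre_eq_zero [IsLocalRing A] [IsNoetherianRing A] [Finite G]
    [IsLocalRing (FixedPoints.subring A G)] :
    ringKrullDim (A ⧸ (maximalIdeal (FixedPoints.subring A G)).map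
      (algebraMap (FixedPoints.subring A G) A)) = 0 := by
  classical
  haveI : Fintype G := Fintype.ofFinite G
  set J := (maximalIdeal (FixedPoints.subring A G)).map (algebraMap (FixedPoints.subring A G) A)
    with hJdef
  have hJm : J ≤ maximalIdeal A := by
    rw [hJdef, Ideal.map_le_iff_le_comap]
    intro b hb
    rw [Ideal.mem_comap]
    rw [mem_maximalIdeal, mem_nonunits_iff] at hb ⊢
    intro h
    apply hb
    exact (isUnit_map_iff (FixedPoints.subring A G).subtype b).mp h
  have hrad : maximalIdeal A ≤ J.radical := by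
    intro a ha
    refine ⟨Fintype.card G, ?_⟩
    apply pow_card_mem (G := G)
    intro i hi
    have h1 : (MulSemiringAction.charpoly G a).coeff i ∈ maximalIdeal A :=
      coeff_charpoly_mem (maximalIdeal A) a (fun σ => smul_mem_maximalIdeal σ a ha) i hi
    have h2 : ∀ σ : G, σ • (MulSemiringAction.charpoly G a).coeff i =
        (MulSemiringAction.charpoly G a).coeff i :=
      fun σ => MulSemiringAction.smul_coeff_charpoly a i σ
    have h3 : (⟨_, h2⟩ : FixedPoints.subring A G) ∈ maximalIdeal (FixedPoints.subring A G) := by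
      rw [mem_maximalIdeal, mem_nonunits_iff]
      intro h
      exact h1 (h.map (FixedPoints.subring A G).subtype)
    exact Ideal.mem_map_of_mem (algebraMap (FixedPoints.subring A G) A) h3
  obtain ⟨N, hN⟩ := Ideal.exists_pow_le_of_le_radical_of_fg hrad
    (IsNoetherian.noetherian (maximalIdeal A))
  have hJne : J ≠ ⊤ := fun h =>
    (maximalIdeal.isMaximal A).ne_top (top_le_iff.mp (h ▸ hJm))
  haveI : Nontrivial (A ⧸ J) := Ideal.Quotient.nontrivial_iff.mpr hJne
  haveI : IsLocalRing (A ⧸ J) :=
    IsLocalRing.of_surjective' (Ideal.Quotient.mk J) Ideal.Quotient.mk_surjective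
  haveI : IsArtinianRing (A ⧸ J) := by
    rw [isArtinianRing_iff_isNilpotent_maximalIdeal]
    refine ⟨N, ?_⟩
    rw [Groth.Agent.Lib.Helper5.maximalIdeal_quotient_eq_map, ← Ideal.map_pow, Ideal.zero_eq_bot,
      Ideal.map_eq_bot_iff_le_ker, Ideal.mk_ker]
    exact hN
  exact ringKrullDimZero_iff_ringKrullDim_eq_zero.mp inferInstance

end NotRegular

section Thm

theorem fixedPoints_props
    (p : ℕ) [Fact p.Prime] (A : Type u) [CommRing A] [IsRegularLocalRing A] [CharP A p]
    [IsAdicComplete (IsLocalRing.maximalIdeal A) A] (hdim : 2 ≤ ringKrullDim A)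
    (k : Type v) [Field k] [Algebra k A]
    (hk : Function.Surjective (IsLocalRing.residue A ∘ algebraMap k A))
    (G : Type w) [Group G] [Finite G] [MulSemiringAction G A] (hcard : Nat.card G = p)
    (hGk : ∀ (σ : G) (c : k), σ • algebraMap k A c = algebraMap k A c)
    (hram : ∀ P : Ideal A, P.IsPrime → P ≠ IsLocalRing.maximalIdeal A → P.inertia G = ⊥) :
    IsNoetherianRing (FixedPoints.subring A G) ∧ Module.Finite (FixedPoints.subring A G) A ∧
      IsIntegrallyClosed (FixedPoints.subring A G) ∧
      ringKrullDim (FixedPoints.subring A G) = ringKrullDim A ∧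
      IsAdicComplete (Ideal.comap (FixedPoints.subring A G).subtype (IsLocalRing.maximalIdeal A))
        (FixedPoints.subring A G) ∧
      ¬ IsRegularLocalRing (FixedPoints.subring A G) := by
  haveI : IsDomain A := Groth.Agent.Lib.Helper5.isDomain_of_isRegularLocalRing A
  haveI : IsIntegrallyClosed A := Groth.Agent.Lib.Helper28.isIntegrallyClosed_of_isRegularLocalRing A
  have hfin : Module.Finite (FixedPoints.subring A G) A := finite_fixedPoints k A hk hGk
  obtain ⟨hN, hC⟩ := noeth_complete_fixedPoints k A (G := G) hk hGk
  haveI := hfin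
  haveI : Algebra.IsIntegral (FixedPoints.subring A G) A := Algebra.IsIntegral.of_finite _ _
  have hdimeq : ringKrullDim A = ringKrullDim (FixedPoints.subring A G) :=
    Groth.Agent.Lib.Helper5.ringKrullDim_eq_of_isIntegral_of_injective (FixedPoints.subring A G) A
      Subtype.val_injective
  refine ⟨hN, hfin, isIntegrallyClosed_fixedPoints A G, hdimeq.symm, hC, ?_⟩
  intro hreg
  haveI := hreg
  haveI : LocCoh.IsCohenMacaulayLocalRing A :=
    Groth.Agent.Lib.Helper5.isCohenMacaulayLocalRing_of_isRegularLocalRing A
  haveI : IsLocalHom (algebraMap (FixedPoints.subring A G) A) := isLocalHom_subtype A G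
  have h0 := ringKrullDim_fibre_eq_zero A G
  have hflat : Module.Flat (FixedPoints.subring A G) A :=
    Groth.Agent.S2082.result (R := FixedPoints.subring A G) (S := A) (by rw [h0, add_zero, hdimeq])
  exact not_flat_fixedPoints p A hdim k hk G hcard hGk hram hflat

end Thm

end Groth.Agent.Lib.LeadWQ
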