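import Mathlib
import Groth.Agent.Lib.LeadWQc

/-!
# Wild quotient singularities: the invariant ring is regular away from the closed point (lead)

Chase–Harrison–Rosenberg style dual bases: where the inertia groups are trivial, `A` is locally a
projective module over `A^G`.
-/

set_option autoImplicit false
set_option maxHeartbeats 400000
set_option linter.style.haveILetI false
set_option linter.unusedSectionVars false
set_option linter.unusedVariables false
universe u v w

noncomputable section

namespace Groth.Agent.Lib.LeadWQ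

open IsLocalRing

section AlmostRetract

/-- If `s • id_M` factors through a flat module, then the localization of `M` at a submonoid
containing `s` is flat. -/
theorem flat_of_almost_retract {R : Type*} [CommRing R] (S : Submonoid R) (s : R) (hs : s ∈ S)
    {M M' F : Type*} [AddCommGroup M] [Module R M] [AddCommGroup M'] [Module R M']
    [AddCommGroup F] [Module R F] [Module.Flat R F]
    (f : M →ₗ[R] M') [IsLocalizedModule S f] (i : M →ₗ[R] F) (r : F →ₗ[R] M)
    (h : r ∘ₗ i = s • LinearMap.id) : Module.Flat R M' := by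
  let g := LocalizedModule.mkLinearMap S F
  haveI : Module.Flat R (LocalizedModule S F) := by
    haveI : Module.Flat (Localization S) (LocalizedModule S F) :=
      Module.Flat.of_isLocalizedModule (Localization S) S g
    haveI := IsLocalization.flat (Localization S) S
    exact Module.Flat.trans R (Localization S) (LocalizedModule S F)
  let i' := IsLocalizedModule.map S f g i
  let r' := IsLocalizedModule.map S g f r
  have hcomp : r' ∘ₗ i' = s • LinearMap.id := by
    rw [← IsLocalizedModule.map_comp', h, map_smul, IsLocalizedModule.map_id]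
  obtain ⟨u, hu⟩ := IsLocalizedModule.map_units f (⟨s, hs⟩ : S)
  have hu' : (u : Module.End R M') = s • LinearMap.id := by
    rw [hu]
    ext x
    simp
  apply Module.Flat.of_retract i' ((u⁻¹ : (Module.End R M')ˣ).val ∘ₗ r')
  rw [LinearMap.comp_assoc, hcomp, ← hu']
  exact u.inv_mul

end AlmostRetract

section Trace

variable (A : Type u) [CommRing A] (G : Type w) [Group G] [Fintype G] [MulSemiringAction G A]

/-- the trace `A → A^G` as an `A^G`-linear map -/
def trB : A →ₗ[FixedPoints.subring A G] FixedPoints.subring A G where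
  toFun a := ⟨∑ σ : G, σ • a, fun τ => by
    rw [Finset.smul_sum]
    simp only [← mul_smul]
    exact Fintype.sum_equiv (Equiv.mulLeft τ) _ _ (fun σ => rfl)⟩
  map_add' a b := by
    apply Subtype.ext
    simp [smul_add, Finset.sum_add_distrib]
  map_smul' b a := by
    apply Subtype.ext
    change ∑ σ : G, σ • ((b : A) * a) = (b : A) * ∑ σ : G, σ • a
    rw [Finset.mul_sum]
    apply Finset.sum_congr rfl
    intro σ _
    rw [smul_mul', b.2 σ]

theorem coe_trB (a : A) : ((trB A G a : FixedPoints.subring A G) : A) = ∑ σ : G, σ • a := rfl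

variable {A G}

/-- the evaluation `y ↦ (τ • y)_τ` -/
def evG : A →* (G → A) where
  toFun y τ := τ • y
  map_one' := by funext τ; simp
  map_mul' a b := by funext τ; simp [smul_mul']

theorem evG_apply (y : A) (τ : G) : evG (A := A) (G := G) y τ = τ • y := rfl

/-- the subalgebra of `G → A` generated by the `evG y` -/
def evAlg : Subalgebra A (G → A) := Algebra.adjoin A (Set.range (evG (A := A) (G := G)))

theorem evAlg_toSubmodule :
    Subalgebra.toSubmodule (evAlg (A := A) (G := G)) =
      Submodule.span A (Set.range (evG (A := A) (G := G))) := by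
  rw [evAlg, Algebra.adjoin_eq_span]
  congr 1
  have : (Set.range (evG (A := A) (G := G))) = ((MonoidHom.mrange (evG (A := A) (G := G)) :
      Submonoid (G → A)) : Set (G → A)) := by
    rw [MonoidHom.coe_mrange]
  rw [this, Submonoid.closure_eq]

/-- a dual basis identity from an element of `evAlg` supported at `1` -/
theorem exists_dual_basis (s : A) (F : G → A) (hF : F ∈ evAlg (A := A) (G := G))
    (h1 : F 1 = s) (hne : ∀ σ : G, σ ≠ 1 → F σ = 0) :
    ∃ (n : ℕ) (x y : Fin n → A), ∀ a : A,
      ∑ j, x j * ((trB A G (y j * a) : FixedPoints.subring A G) : A) = s * a := by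
  classical
  have hF' : F ∈ Submodule.span A (Set.range (evG (A := A) (G := G))) := by
    rw [← evAlg_toSubmodule]; exact hF
  obtain ⟨n, x, g, hg⟩ := Submodule.mem_span_set'.mp hF'
  choose y hy using fun j => (g j).2
  refine ⟨n, x, y, fun a => ?_⟩
  have hFσ : ∀ σ : G, F σ = ∑ j, x j * σ • y j := by
    intro σ
    rw [← hg, Finset.sum_apply]
    apply Finset.sum_congr rfl
    intro j _
    rw [Pi.smul_apply, ← hy j, evG_apply, smul_eq_mul]
  calc ∑ j, x j * ((trB A G (y j * a) : FixedPoints.subring A G) : A)
      = ∑ j, ∑ σ : G, x j * (σ • y j * σ • a) := by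
        apply Finset.sum_congr rfl
        intro j _
        rw [coe_trB, Finset.mul_sum]
        apply Finset.sum_congr rfl
        intro σ _
        rw [smul_mul']
    _ = ∑ σ : G, F σ * σ • a := by
        rw [Finset.sum_comm]
        apply Finset.sum_congr rfl
        intro σ _
        rw [hFσ σ, Finset.sum_mul]
        apply Finset.sum_congr rfl
        intro j _
        ring
    _ = s * a := by
        rw [Finset.sum_eq_single (1 : G)]
        · rw [h1, one_smul]
        · intro σ _ hσ
          rw [hne σ hσ, zero_mul]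
        · intro h
          exact absurd (Finset.mem_univ _) h

/-- the ideal generated by the `τ • a - a` -/
def moveIdeal (τ : G) : Ideal A := Ideal.span (Set.range fun a : A => τ • a - a)

/-- every element of `moveIdeal τ` is `g τ - g 1` for some `g ∈ evAlg` -/
theorem exists_evAlg_of_mem_moveIdeal (τ : G) (t : A) (ht : t ∈ moveIdeal (A := A) τ) :
    ∃ g ∈ evAlg (A := A) (G := G), g τ - g 1 = t := by
  let D : (G → A) →ₗ[A] A := LinearMap.proj (R := A) (φ := fun _ : G => A) τ -
    LinearMap.proj (R := A) (φ := fun _ : G => A) 1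
  have hD : ∀ g : G → A, D g = g τ - g 1 := fun g => rfl
  have hmap : Submodule.map D (Submodule.span A (Set.range (evG (A := A) (G := G)))) =
      moveIdeal (A := A) τ := by
    rw [Submodule.map_span, ← Set.range_comp, moveIdeal]
    congr 2
    funext a
    simp [hD, evG_apply]
  rw [← hmap] at ht
  obtain ⟨g, hg, hgt⟩ := ht
  refine ⟨g, ?_, hgt⟩
  change g ∈ Subalgebra.toSubmodule (evAlg (A := A) (G := G))
  rw [evAlg_toSubmodule]
  exact hg

/-- combining: if each `moveIdeal τ` (`τ ≠ 1`) contains `t τ`, then `∏ t τ` times the indicator of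
`1` lies in `evAlg`. -/
theorem exists_indicator [DecidableEq G] (t : G → A) (ht : ∀ τ : G, τ ≠ 1 → t τ ∈ moveIdeal (A := A) τ) :
    ∃ F ∈ evAlg (A := A) (G := G), F 1 = ∏ τ ∈ Finset.univ.erase (1 : G), t τ ∧
      ∀ σ : G, σ ≠ 1 → F σ = 0 := by
  have hex : ∀ τ : G, ∃ f ∈ evAlg (A := A) (G := G), (τ ≠ 1 → f 1 = t τ ∧ f τ = 0) := by
    intro τ
    by_cases hτ : τ = 1
    · exact ⟨1, Subalgebra.one_mem _, fun h => absurd hτ h⟩
    · obtain ⟨g, hg, hgt⟩ := exists_evAlg_of_mem_moveIdeal τ (t τ) (ht τ hτ)
      refine ⟨algebraMap A (G → A) (g τ) - g, Subalgebra.sub_mem _ (Subalgebra.algebraMap_mem _ _) hg,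
        fun _ => ⟨?_, ?_⟩⟩
      · rw [Pi.sub_apply, Pi.algebraMap_apply, Algebra.algebraMap_self_apply, hgt]
      · rw [Pi.sub_apply, Pi.algebraMap_apply, Algebra.algebraMap_self_apply, sub_self]
  choose f hf hfv using hex
  refine ⟨∏ τ ∈ Finset.univ.erase (1 : G), f τ, Subalgebra.prod_mem _ (fun τ _ => hf τ), ?_, ?_⟩
  · rw [Finset.prod_apply]
    apply Finset.prod_congr rfl
    intro τ hτ
    exact (hfv τ (Finset.ne_of_mem_erase hτ)).1
  · intro σ hσ
    rw [Finset.prod_apply]
    apply Finset.prod_eq_zero (Finset.mem_erase.mpr ⟨hσ, Finset.mem_univ σ⟩)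
    exact (hfv σ hσ).2

end Trace

end Groth.Agent.Lib.LeadWQ
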