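import Mathlib
import Groth.Agent.Lib.LeadWQd
import Groth.Agent.Lib.Helper28RegDescent
import Groth.Agent.Lib.Helper28RegLoc
import Groth.Agent.Lib.Helper19GRLoc

/-!
# Wild quotient singularities: regularity of `A^G` away from the closed point (lead)
-/

set_option autoImplicit false
set_option maxHeartbeats 400000
set_option linter.style.haveILetI false
set_option linter.unusedSectionVars false
set_option linter.unusedVariables false
universe u v w

noncomputable section

namespace Groth.Agent.Lib.LeadWQ

open IsLocalRing

section FlatLoc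

variable {A : Type u} [CommRing A] {G : Type w} [Group G] [Fintype G] [MulSemiringAction G A]

/-- dual basis ⟹ the localization `A_s` is flat over `A^G` -/
theorem flat_localization_of_dual_basis (s : FixedPoints.subring A G) {n : ℕ} (x y : Fin n → A)
    (h : ∀ a : A, ∑ j, x j * ((trB A G (y j * a) : FixedPoints.subring A G) : A) = (s : A) * a) :
    Module.Flat (FixedPoints.subring A G)
      (Localization (Algebra.algebraMapSubmonoid A (Submonoid.powers s))) := by
  let B := FixedPoints.subring A G
  let i : A →ₗ[B] (Fin n → B) :=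
    LinearMap.pi fun j => (trB A G).comp (LinearMap.mulLeft B (y j))
  let r : (Fin n → B) →ₗ[B] A :=
    ∑ j, (LinearMap.proj (R := B) (φ := fun _ : Fin n => B) j).smulRight (x j)
  have hr : ∀ b : Fin n → B, r b = ∑ j, (b j : A) * x j := by
    intro b
    simp only [r, LinearMap.sum_apply, LinearMap.smulRight_apply, LinearMap.proj_apply]
    rfl
  have hri : r ∘ₗ i = s • LinearMap.id := by
    ext a
    rw [LinearMap.comp_apply, hr, LinearMap.smul_apply, LinearMap.id_apply]
    have : ∀ j, ((i a j : B) : A) = ((trB A G (y j * a) : B) : A) := fun j => rfl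
    simp only [this]
    have hs : s • a = (s : A) * a := rfl
    rw [hs, ← h a]
    apply Finset.sum_congr rfl
    intro j _
    ring
  exact flat_of_almost_retract (Submonoid.powers s) s (Submonoid.mem_powers s)
    (IsScalarTower.toAlgHom B A
      (Localization (Algebra.algebraMapSubmonoid A (Submonoid.powers s)))).toLinearMap i r hri

end FlatLoc

section Assembly

variable {A : Type u} [CommRing A] {G : Type w} [Group G] [MulSemiringAction G A]

theorem exists_notMem_mem_moveIdeal [IsLocalRing A] [IsLocalRing (FixedPoints.subring A G)]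
    (hram : ∀ P : Ideal A, P.IsPrime → P ≠ maximalIdeal A → P.inertia G = ⊥)
    (P : Ideal (FixedPoints.subring A G)) [P.IsPrime] (hP : ¬ P.IsMaximal) (τ : G) (hτ : τ ≠ 1) :
    ∃ t : FixedPoints.subring A G, t ∉ P ∧ (t : A) ∈ moveIdeal (A := A) τ := by
  by_contra hcon
  push Not at hcon
  let SA : Submonoid A := P.primeCompl.map (FixedPoints.subring A G).subtype
  have hdisj : Disjoint (moveIdeal (A := A) τ : Set A) SA := by
    rw [Set.disjoint_left]
    rintro a ha ⟨t, ht, rfl⟩
    exact hcon t ht ha
  obtain ⟨Q', hQ'prime, hIQ', hQ'disj⟩ := Ideal.exists_le_prime_disjoint _ SA hdisj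
  have hne : Q' ≠ maximalIdeal A := by
    intro h
    have hPle : P ≤ maximalIdeal (FixedPoints.subring A G) :=
      IsLocalRing.le_maximalIdeal (Ideal.IsPrime.ne_top inferInstance)
    have hex : ∃ b ∈ maximalIdeal (FixedPoints.subring A G), b ∉ P := by
      by_contra hall
      push Not at hall
      have : P = maximalIdeal (FixedPoints.subring A G) := le_antisymm hPle hall
      exact hP (this ▸ maximalIdeal.isMaximal _)
    obtain ⟨b, hbn, hbP⟩ := hex
    have hbm : (b : A) ∈ maximalIdeal A := by
      rw [mem_maximalIdeal, mem_nonunits_iff] at hbn ⊢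
      intro hu
      exact hbn ((isUnit_map_iff (FixedPoints.subring A G).subtype b).mp hu)
    rw [Set.disjoint_left] at hQ'disj
    exact hQ'disj (h ▸ hbm) ⟨b, hbP, rfl⟩
  have hin := hram Q' hQ'prime hne
  have hτin : τ ∈ Q'.inertia G := by
    intro x
    exact hIQ' (Ideal.subset_span ⟨x, rfl⟩)
  rw [hin, Subgroup.mem_bot] at hτin
  exact hτ hτin

theorem isRegularLocalRing_congr {B : Type u} [CommRing B] (P P' : Ideal B) [P.IsPrime]
    [P'.IsPrime] (h : P = P') (hreg : IsRegularLocalRing (Localization.AtPrime P)) :
    IsRegularLocalRing (Localization.AtPrime P') := by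
  subst h
  exact hreg

theorem isRegularLocalRing_localization_fixedPoints
    (p : ℕ) [Fact p.Prime] (A : Type u) [CommRing A] [IsRegularLocalRing A] [CharP A p]
    [IsAdicComplete (IsLocalRing.maximalIdeal A) A] (hdim : 2 ≤ ringKrullDim A)
    (k : Type v) [Field k] [Algebra k A]
    (hk : Function.Surjective (IsLocalRing.residue A ∘ algebraMap k A))
    (G : Type w) [Group G] [Finite G] [MulSemiringAction G A] (hcard : Nat.card G = p)
    (hGk : ∀ (σ : G) (c : k), σ • algebraMap k A c = algebraMap k A c)
    (hram : ∀ P : Ideal A, P.IsPrime → P ≠ IsLocalRing.maximalIdeal A → P.inertia G = ⊥)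
    (P : Ideal (FixedPoints.subring A G)) [P.IsPrime] (hP : ¬ P.IsMaximal) :
    IsRegularLocalRing (Localization.AtPrime P) := by
  classical
  haveI : Fintype G := Fintype.ofFinite G
  haveI : IsLocalRing (FixedPoints.subring A G) := isLocalRing_fixedPoints A G
  obtain ⟨hN, -⟩ := noeth_complete_fixedPoints k A (G := G) hk hGk
  haveI := hN
  haveI : Module.Finite (FixedPoints.subring A G) A := finite_fixedPoints k A hk hGk
  haveI : Algebra.IsIntegral (FixedPoints.subring A G) A := Algebra.IsIntegral.of_finite _ _
  have hex : ∀ τ : G, ∃ t : FixedPoints.subring A G,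
      τ ≠ 1 → (t ∉ P ∧ (t : A) ∈ moveIdeal (A := A) τ) := by
    intro τ
    by_cases hτ : τ = 1
    · exact ⟨1, fun h => absurd hτ h⟩
    · obtain ⟨t, ht1, ht2⟩ := exists_notMem_mem_moveIdeal hram P hP τ hτ
      exact ⟨t, fun _ => ⟨ht1, ht2⟩⟩
  choose t ht using hex
  set s : FixedPoints.subring A G := ∏ τ ∈ Finset.univ.erase (1 : G), t τ with hs
  have hsP : s ∉ P := by
    rw [hs, Ideal.IsPrime.prod_mem_iff]
    rintro ⟨τ, hτ, hτP⟩
    exact (ht τ (Finset.ne_of_mem_erase hτ)).1 hτP
  obtain ⟨F, hF, hF1, hFne⟩ := exists_indicator (fun τ => (t τ : A))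
    (fun τ hτ => (ht τ hτ).2)
  have hF1' : F 1 = (s : A) := by
    rw [hF1, hs]
    exact (map_prod (FixedPoints.subring A G).subtype _ _).symm
  obtain ⟨n, x, y, hxy⟩ := exists_dual_basis (s : A) F hF hF1' hFne
  have hflat := flat_localization_of_dual_basis s x y hxy
  set M := Algebra.algebraMapSubmonoid A (Submonoid.powers s) with hM
  haveI : IsRegularRing A := by
    rw [isRegularRing_iff]
    intro q hq
    exact Groth.Agent.Lib.Helper28.isRegularLocalRing_localization_of_isRegularLocalRing A q
  haveI : IsRegularRing (Localization M) :=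
    Groth.Agent.Lib.Helper19.GR.isRegularRing_of_isLocalization M
  have hbot : Ideal.comap (algebraMap (FixedPoints.subring A G) A) ⊥ ≤ P := by
    intro b hb
    rw [Ideal.mem_comap, Ideal.mem_bot] at hb
    have : b = 0 := Subtype.ext hb
    rw [this]
    exact Ideal.zero_mem _
  obtain ⟨Q, -, hQprime, hQP⟩ := Ideal.exists_ideal_over_prime_of_isIntegral P (⊥ : Ideal A) hbot
  have hdisj : Disjoint (M : Set A) (Q : Set A) := by
    rw [Set.disjoint_left]
    rintro _ ⟨b, ⟨m, rfl⟩, rfl⟩ hbQ
    have h1 : s ^ m ∈ P := by
      rw [← hQP, Ideal.mem_comap]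
      exact hbQ
    exact hsP (Ideal.IsPrime.mem_of_pow_mem inferInstance m h1)
  haveI hqprime : (Q.map (algebraMap A (Localization M))).IsPrime :=
    IsLocalization.isPrime_of_isPrime_disjoint M (Localization M) Q hQprime hdisj
  have hcomap : (Q.map (algebraMap A (Localization M))).comap (algebraMap A (Localization M)) = Q :=
    IsLocalization.under_map_of_isPrime_disjoint M (Localization M) hQprime hdisj
  have hqP : (Q.map (algebraMap A (Localization M))).comap
      (algebraMap (FixedPoints.subring A G) (Localization M)) = P := by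
    rw [IsScalarTower.algebraMap_eq (FixedPoints.subring A G) A (Localization M),
      ← Ideal.comap_comap, hcomap, hQP]
  haveI := hflat
  have hreg := Groth.Agent.Lib.Helper28.isRegularLocalRing_localization_comap_of_flat
    (R := FixedPoints.subring A G) (S := Localization M) (Q.map (algebraMap A (Localization M)))
  exact isRegularLocalRing_congr _ P hqP hreg

end Assembly

end Groth.Agent.Lib.LeadWQ
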