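import Mathlib
import Groth.Agent.Lib.LeadWQe

/-!
# Chase–Harrison–Rosenberg: trivial inertia implies étale (lead)

`G` a finite group acting on `B` by `R`-algebra automorphisms with `B^G = R`.  If the inertia
groups of all primes of `B` over generizations of a prime `𝔭` of `R` are trivial, then there is
`s ∈ R ∖ 𝔭` such that `R → B_s` is étale.
-/

set_option autoImplicit false
set_option maxHeartbeats 400000
set_option linter.style.haveILetI false
set_option linter.unusedSectionVars false
set_option linter.unusedVariables false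
universe u v w

noncomputable section

namespace Groth.Agent.Lib.LeadInr

open Groth.Agent.Lib.LeadWQ TensorProduct

section DualBasis

variable {B : Type v} [CommRing B] {G : Type w} [Group G] [Fintype G] [MulSemiringAction G B]

/-- strong form of the dual basis: `∑ x_j σ(y_j) = s δ_{σ,1}`. -/
theorem exists_strong_dual_basis (s : B) (F : G → B) (hF : F ∈ evAlg (A := B) (G := G))
    (h1 : F 1 = s) (hne : ∀ σ : G, σ ≠ 1 → F σ = 0) :
    ∃ (n : ℕ) (x y : Fin n → B), (∑ j, x j * y j = s) ∧
      ∀ σ : G, σ ≠ 1 → ∑ j, x j * σ • y j = 0 := by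
  classical
  have hF' : F ∈ Submodule.span B (Set.range (evG (A := B) (G := G))) := by
    rw [← evAlg_toSubmodule]; exact hF
  obtain ⟨n, x, g, hg⟩ := Submodule.mem_span_set'.mp hF'
  choose y hy using fun j => (g j).2
  have hFσ : ∀ σ : G, F σ = ∑ j, x j * σ • y j := by
    intro σ
    rw [← hg, Finset.sum_apply]
    apply Finset.sum_congr rfl
    intro j _
    rw [Pi.smul_apply, ← hy j, evG_apply, smul_eq_mul]
  refine ⟨n, x, y, ?_, fun σ hσ => ?_⟩
  · rw [← h1, hFσ 1]
    simp only [one_smul]
  · rw [← hFσ σ, hne σ hσ]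

/-- the dual basis formula from the strong form. -/
theorem dual_basis_formula (s : B) {n : ℕ} (x y : Fin n → B) (hs : ∑ j, x j * y j = s)
    (hσ : ∀ σ : G, σ ≠ 1 → ∑ j, x j * σ • y j = 0) (b : B) :
    ∑ j, x j * ∑ σ : G, σ • (y j * b) = s * b := by
  classical
  calc ∑ j, x j * ∑ σ : G, σ • (y j * b)
      = ∑ j, ∑ σ : G, x j * (σ • y j * σ • b) := by
        apply Finset.sum_congr rfl
        intro j _
        rw [Finset.mul_sum]
        apply Finset.sum_congr rfl
        intro σ _
        rw [smul_mul']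
    _ = ∑ σ : G, (∑ j, x j * σ • y j) * σ • b := by
        rw [Finset.sum_comm]
        apply Finset.sum_congr rfl
        intro σ _
        rw [Finset.sum_mul]
        apply Finset.sum_congr rfl
        intro j _
        ring
    _ = s * b := by
        rw [Finset.sum_eq_single (1 : G)]
        · simp only [one_smul]
          rw [hs]
        · intro σ _ hσ1
          rw [hσ σ hσ1, zero_mul]
        · intro h
          exact absurd (Finset.mem_univ _) h

end DualBasis

section Move

variable {R : Type u} [CommRing R] {B : Type v} [CommRing B] [Algebra R B]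
  {G : Type w} [Group G] [Fintype G] [MulSemiringAction G B]

/-- if the inertia groups over generizations of `𝔭` are trivial, each `moveIdeal τ` (`τ ≠ 1`)
contains an element of `R ∖ 𝔭`. -/
theorem exists_notMem_mem_moveIdeal (𝔭 : Ideal R) [𝔭.IsPrime]
    (hram : ∀ Q : Ideal B, Q.IsPrime → Q.comap (algebraMap R B) ≤ 𝔭 → Q.inertia G = ⊥)
    (τ : G) (hτ : τ ≠ 1) :
    ∃ t : R, t ∉ 𝔭 ∧ algebraMap R B t ∈ moveIdeal (A := B) τ := by
  by_contra hcon
  push Not at hcon
  let SB : Submonoid B := 𝔭.primeCompl.map (algebraMap R B)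
  have hdisj : Disjoint (moveIdeal (A := B) τ : Set B) SB := by
    rw [Set.disjoint_left]
    rintro _ hb ⟨t, ht, rfl⟩
    exact hcon t ht hb
  obtain ⟨Q, hQ, hle, hQdisj⟩ := Ideal.exists_le_prime_disjoint _ _ hdisj
  have hQp : Q.comap (algebraMap R B) ≤ 𝔭 := by
    intro r hr
    by_contra hr'
    exact Set.disjoint_left.mp hQdisj hr ⟨r, hr', rfl⟩
  have hin : τ ∈ Q.inertia G := by
    intro b
    exact hle (Ideal.subset_span ⟨b, rfl⟩)
  rw [hram Q hQ hQp, Subgroup.mem_bot] at hin
  exact hτ hin

/-- the Galois datum: `s ∈ R ∖ 𝔭` and a strong dual basis with `∑ x_j σ(y_j) = s δ_{σ,1}`. -/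
theorem exists_galois_datum (𝔭 : Ideal R) [𝔭.IsPrime]
    (hram : ∀ Q : Ideal B, Q.IsPrime → Q.comap (algebraMap R B) ≤ 𝔭 → Q.inertia G = ⊥) :
    ∃ (s : R) (n : ℕ) (x y : Fin n → B), s ∉ 𝔭 ∧ (∑ j, x j * y j = algebraMap R B s) ∧
      ∀ σ : G, σ ≠ 1 → ∑ j, x j * σ • y j = 0 := by
  classical
  have hex : ∀ τ : G, ∃ t : R, t ∉ 𝔭 ∧ (τ ≠ 1 → algebraMap R B t ∈ moveIdeal (A := B) τ) := by
    intro τ
    by_cases hτ : τ = 1
    · exact ⟨1, fun h => (Ideal.IsPrime.ne_top ‹_›) ((Ideal.eq_top_iff_one _).mpr h),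
        fun h => absurd hτ h⟩
    · obtain ⟨t, ht, htm⟩ := exists_notMem_mem_moveIdeal 𝔭 hram τ hτ
      exact ⟨t, ht, fun _ => htm⟩
  choose t ht htm using hex
  obtain ⟨F, hF, hF1, hFσ⟩ := exists_indicator (A := B) (G := G)
    (fun τ => algebraMap R B (t τ)) htm
  obtain ⟨n, x, y, hs, hσ⟩ := exists_strong_dual_basis _ F hF hF1 hFσ
  refine ⟨∏ τ ∈ Finset.univ.erase (1 : G), t τ, n, x, y, ?_, ?_, hσ⟩
  · intro hmem
    obtain ⟨τ, _, hτ⟩ := (Ideal.IsPrime.prod_mem_iff (hp := ‹𝔭.IsPrime›)).mp hmem
    exact ht τ hτ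
  · rw [hs, map_prod]

end Move

section Trace

variable {R : Type u} [CommRing R] {B : Type v} [CommRing B] [Algebra R B]
  {G : Type w} [Group G] [Fintype G] [MulSemiringAction G B] [SMulCommClass G R B]

theorem sum_smul_invariant (b : B) (τ : G) : τ • ∑ σ : G, σ • b = ∑ σ : G, σ • b := by
  rw [Finset.smul_sum]
  simp only [← mul_smul]
  exact Fintype.sum_equiv (Equiv.mulLeft τ) _ _ (fun σ => rfl)

/-- the trace `B → R`. -/
def trR (hinj : Function.Injective (algebraMap R B))
    (hfix : ∀ b : B, (∀ g : G, g • b = b) → b ∈ Set.range (algebraMap R B)) : B →ₗ[R] R where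
  toFun b := (hfix (∑ σ : G, σ • b) (sum_smul_invariant b)).choose
  map_add' a b := by
    apply hinj
    rw [map_add, (hfix _ (sum_smul_invariant (a + b))).choose_spec,
      (hfix _ (sum_smul_invariant a)).choose_spec, (hfix _ (sum_smul_invariant b)).choose_spec]
    simp only [smul_add, Finset.sum_add_distrib]
  map_smul' r b := by
    apply hinj
    rw [RingHom.id_apply, smul_eq_mul, map_mul,
      (hfix _ (sum_smul_invariant (r • b))).choose_spec,
      (hfix _ (sum_smul_invariant b)).choose_spec, ← Algebra.smul_def, Finset.smul_sum]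
    apply Finset.sum_congr rfl
    intro σ _
    rw [smul_comm]

theorem algebraMap_trR (hinj : Function.Injective (algebraMap R B))
    (hfix : ∀ b : B, (∀ g : G, g • b = b) → b ∈ Set.range (algebraMap R B)) (b : B) :
    algebraMap R B (trR hinj hfix b) = ∑ σ : G, σ • b :=
  (hfix _ (sum_smul_invariant b)).choose_spec

/-- dual basis ⟹ `B_s` is flat over `R`. -/
theorem flat_away (hinj : Function.Injective (algebraMap R B))
    (hfix : ∀ b : B, (∀ g : G, g • b = b) → b ∈ Set.range (algebraMap R B))
    (s : R) {n : ℕ} (x y : Fin n → B)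
    (hdual : ∀ b : B, ∑ j, x j * ∑ σ : G, σ • (y j * b) = algebraMap R B s * b) :
    Module.Flat R (Localization.Away (algebraMap R B s)) := by
  let i : B →ₗ[R] (Fin n → R) :=
    LinearMap.pi fun j => (trR hinj hfix).comp (LinearMap.mulLeft R (y j))
  let r : (Fin n → R) →ₗ[R] B :=
    ∑ j, (LinearMap.proj (R := R) (φ := fun _ : Fin n => R) j).smulRight (x j)
  have hr : ∀ c : Fin n → R, r c = ∑ j, algebraMap R B (c j) * x j := by
    intro c
    simp only [r, LinearMap.sum_apply, LinearMap.smulRight_apply, LinearMap.proj_apply,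
      Algebra.smul_def]
  have hri : r ∘ₗ i = s • LinearMap.id := by
    ext b
    rw [LinearMap.comp_apply, hr, LinearMap.smul_apply, LinearMap.id_apply, Algebra.smul_def,
      ← hdual b]
    apply Finset.sum_congr rfl
    intro j _
    have : i b j = trR hinj hfix (y j * b) := rfl
    rw [this, algebraMap_trR, mul_comm]
  have hS : Algebra.algebraMapSubmonoid B (Submonoid.powers s) =
      Submonoid.powers (algebraMap R B s) := Submonoid.map_powers _ _
  haveI : IsLocalization (Algebra.algebraMapSubmonoid B (Submonoid.powers s))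
      (Localization.Away (algebraMap R B s)) := by
    rw [hS]; infer_instance
  exact flat_of_almost_retract (Submonoid.powers s) s (Submonoid.mem_powers s)
    (IsScalarTower.toAlgHom R B (Localization.Away (algebraMap R B s))).toLinearMap i r hri

end Trace

end Groth.Agent.Lib.LeadInr
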