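import Mathlib
import Groth.Agent.Lib.LeadInrA

/-!
# Chase–Harrison–Rosenberg II: the Galois map and unramifiedness (lead)
-/

set_option autoImplicit false
set_option maxHeartbeats 400000
set_option linter.style.haveILetI false
set_option linter.unusedSectionVars false
set_option linter.unusedVariables false
universe u v w

noncomputable section

namespace Groth.Agent.Lib.LeadInr

open Groth.Agent.Lib.LeadWQ TensorProduct

section Galois

variable {R : Type u} [CommRing R] {B : Type v} [CommRing B] [Algebra R B]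
  {G : Type w} [Group G] [Fintype G] [MulSemiringAction G B] [SMulCommClass G R B]

/-- `a ⊗ b ↦ a * σ b`. -/
def hσ (σ : G) : B ⊗[R] B →ₐ[R] B :=
  Algebra.TensorProduct.productMap (AlgHom.id R B) (MulSemiringAction.toAlgHom R B σ)

theorem hσ_tmul (σ : G) (a b : B) : hσ (R := R) σ (a ⊗ₜ[R] b) = a * σ • b := by
  simp [hσ]

/-- `Φ z = Σ_j Σ_σ (h_σ z * σ • y_j) ⊗ x_j`. -/
def Phi {n : ℕ} (x y : Fin n → B) : B ⊗[R] B →ₗ[R] B ⊗[R] B :=
  ∑ j, ∑ σ : G, ((TensorProduct.mk R B B).flip (x j)) ∘ₗ (LinearMap.mulRight R (σ • y j)) ∘ₗ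
    (hσ (R := R) σ).toLinearMap

theorem Phi_apply {n : ℕ} (x y : Fin n → B) (z : B ⊗[R] B) :
    Phi (R := R) (G := G) x y z = ∑ j, ∑ σ : G, (hσ (R := R) σ z * σ • y j) ⊗ₜ[R] x j := by
  simp only [Phi, LinearMap.sum_apply, LinearMap.comp_apply, AlgHom.toLinearMap_apply,
    LinearMap.mulRight_apply, LinearMap.flip_apply, TensorProduct.mk_apply]

theorem Phi_eq (hfix : ∀ b : B, (∀ g : G, g • b = b) → b ∈ Set.range (algebraMap R B))
    (s : R) {n : ℕ} (x y : Fin n → B)
    (hdual : ∀ b : B, ∑ j, x j * ∑ σ : G, σ • (y j * b) = algebraMap R B s * b) :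
    Phi (R := R) (G := G) x y = s • LinearMap.id := by
  apply TensorProduct.ext'
  intro a b
  rw [Phi_apply, LinearMap.smul_apply, LinearMap.id_apply]
  have h1 : ∀ j, ∑ σ : G, (hσ (R := R) σ (a ⊗ₜ[R] b) * σ • y j) ⊗ₜ[R] x j =
      a ⊗ₜ[R] (x j * ∑ σ : G, σ • (y j * b)) := by
    intro j
    obtain ⟨r, hr⟩ := hfix (∑ σ : G, σ • (y j * b)) (sum_smul_invariant _)
    rw [← TensorProduct.sum_tmul, ← hr, mul_comm (x j), ← Algebra.smul_def,
      ← TensorProduct.smul_tmul, Algebra.smul_def, hr, mul_comm, Finset.mul_sum]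
    congr 1
    apply Finset.sum_congr rfl
    intro σ _
    rw [hσ_tmul, smul_mul']
    ring
  rw [Finset.sum_congr rfl (fun j _ => h1 j), ← TensorProduct.tmul_sum, hdual b,
    ← Algebra.smul_def, TensorProduct.tmul_smul]

/-- the Galois map `B ⊗ B → ∏_σ B` is injective up to `s`. -/
theorem smul_eq_zero_of_hσ (hfix : ∀ b : B, (∀ g : G, g • b = b) → b ∈ Set.range (algebraMap R B))
    (s : R) {n : ℕ} (x y : Fin n → B)
    (hdual : ∀ b : B, ∑ j, x j * ∑ σ : G, σ • (y j * b) = algebraMap R B s * b)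
    (z : B ⊗[R] B) (hz : ∀ σ : G, hσ (R := R) σ z = 0) : s • z = 0 := by
  have h := LinearMap.congr_fun (Phi_eq hfix s x y hdual) z
  rw [Phi_apply, LinearMap.smul_apply, LinearMap.id_apply] at h
  rw [← h]
  apply Finset.sum_eq_zero
  intro j _
  apply Finset.sum_eq_zero
  intro σ _
  rw [hz σ, zero_mul, TensorProduct.zero_tmul]

end Galois

section Unramified

variable {R : Type u} [CommRing R] {B : Type v} [CommRing B] [Algebra R B]
  {G : Type w} [Group G] [Fintype G] [MulSemiringAction G B] [SMulCommClass G R B]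

/-- `s² • (1 ⊗ b - b ⊗ 1) ∈ J²`. -/
theorem smul_smul_mem_sq (hfix : ∀ b : B, (∀ g : G, g • b = b) → b ∈ Set.range (algebraMap R B))
    (s : R) {n : ℕ} (x y : Fin n → B) (hs : ∑ j, x j * y j = algebraMap R B s)
    (hσ1 : ∀ σ : G, σ ≠ 1 → ∑ j, x j * σ • y j = 0) (b : B) :
    s • s • ((1 : B) ⊗ₜ[R] b - b ⊗ₜ[R] (1 : B)) ∈ KaehlerDifferential.ideal R B ^ 2 := by
  classical
  have hdual : ∀ b : B, ∑ j, x j * ∑ σ : G, σ • (y j * b) = algebraMap R B s * b :=
    fun b => dual_basis_formula _ x y hs hσ1 b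
  set X : B ⊗[R] B := (1 : B) ⊗ₜ[R] b - b ⊗ₜ[R] (1 : B) with hX
  have hXJ : X ∈ KaehlerDifferential.ideal R B :=
    KaehlerDifferential.one_smul_sub_smul_one_mem_ideal R b
  set t' : B ⊗[R] B := ∑ j, x j ⊗ₜ[R] y j with ht'
  set u : B ⊗[R] B := algebraMap R (B ⊗[R] B) s - t' with hu
  have huJ : u ∈ KaehlerDifferential.ideal R B := by
    rw [KaehlerDifferential.ideal, RingHom.mem_ker, hu, map_sub, ht', map_sum]
    simp only [AlgHom.commutes, Algebra.TensorProduct.lmul'_apply_tmul]
    rw [hs, sub_self]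
  have hz : ∀ σ : G, hσ (R := R) σ (X * t') = 0 := by
    intro σ
    rw [map_mul, hX, map_sub, hσ_tmul, hσ_tmul, ht', map_sum]
    simp only [hσ_tmul, smul_one, one_mul, mul_one]
    by_cases hσ : σ = 1
    · subst hσ
      rw [one_smul, sub_self, zero_mul]
    · rw [hσ1 σ hσ, mul_zero]
  have h0 : s • (X * t') = 0 := smul_eq_zero_of_hσ hfix s x y hdual _ hz
  have h1 : s • X = X * u + X * t' := by
    rw [← mul_add, hu, sub_add_cancel, Algebra.smul_def, mul_comm]
  rw [h1, smul_add, h0, add_zero, pow_two]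
  exact Submodule.smul_of_tower_mem _ s (Ideal.mul_mem_mul hXJ huJ)

/-- `s² • D b = 0` in `Ω[B/R]`. -/
theorem smul_smul_D_eq_zero
    (hfix : ∀ b : B, (∀ g : G, g • b = b) → b ∈ Set.range (algebraMap R B))
    (s : R) {n : ℕ} (x y : Fin n → B) (hs : ∑ j, x j * y j = algebraMap R B s)
    (hσ1 : ∀ σ : G, σ ≠ 1 → ∑ j, x j * σ • y j = 0) (b : B) :
    s • s • KaehlerDifferential.D R B b = 0 := by
  have hD : KaehlerDifferential.D R B b = KaehlerDifferential.fromIdeal R B
      ⟨(1 : B) ⊗ₜ[R] b - b ⊗ₜ[R] (1 : B),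
        KaehlerDifferential.one_smul_sub_smul_one_mem_ideal R b⟩ := rfl
  rw [hD, ← LinearMap.map_smul_of_tower (KaehlerDifferential.fromIdeal R B),
    ← LinearMap.map_smul_of_tower (KaehlerDifferential.fromIdeal R B)]
  exact (Ideal.toCotangent_eq_zero _ _).mpr (smul_smul_mem_sq hfix s x y hs hσ1 b)

/-- `R → B_s` is formally unramified. -/
theorem formallyUnramified_away
    (hfix : ∀ b : B, (∀ g : G, g • b = b) → b ∈ Set.range (algebraMap R B))
    (s : R) {n : ℕ} (x y : Fin n → B) (hs : ∑ j, x j * y j = algebraMap R B s)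
    (hσ1 : ∀ σ : G, σ ≠ 1 → ∑ j, x j * σ • y j = 0) :
    Algebra.FormallyUnramified R (Localization.Away (algebraMap R B s)) := by
  rw [Algebra.formallyUnramified_iff]
  have e := IsLocalizedModule.iso (Submonoid.powers (algebraMap R B s))
    (KaehlerDifferential.map R R B (Localization.Away (algebraMap R B s)))
  rw [← e.subsingleton_congr, LocalizedModule.subsingleton_iff]
  intro m
  refine ⟨algebraMap R B s ^ 2, ⟨2, rfl⟩, ?_⟩
  have hm : m ∈ Submodule.span B (Set.range (KaehlerDifferential.D R B)) := by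
    rw [KaehlerDifferential.span_range_derivation]; trivial
  induction hm using Submodule.span_induction with
  | mem m hm =>
    obtain ⟨b, rfl⟩ := hm
    rw [pow_two, mul_smul, algebraMap_smul, algebraMap_smul]
    exact smul_smul_D_eq_zero hfix s x y hs hσ1 b
  | zero => rw [smul_zero]
  | add m m' _ _ hm hm' => rw [smul_add, hm, hm', add_zero]
  | smul c m _ hm => rw [smul_comm, hm, smul_zero]

end Unramified

section Etale

variable {R : Type u} [CommRing R] [IsNoetherianRing R] {B : Type v} [CommRing B] [Algebra R B]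
  [Module.Finite R B]
  {G : Type w} [Group G] [Fintype G] [MulSemiringAction G B] [SMulCommClass G R B]

/-- Chase–Harrison–Rosenberg: if the inertia groups over all generizations of `𝔭` are trivial,
then `R → B_s` is étale for some `s ∈ R ∖ 𝔭`. -/
theorem exists_etale_away (hinj : Function.Injective (algebraMap R B))
    (hfix : ∀ b : B, (∀ g : G, g • b = b) → b ∈ Set.range (algebraMap R B))
    (𝔭 : Ideal R) [𝔭.IsPrime]
    (hram : ∀ Q : Ideal B, Q.IsPrime → Q.comap (algebraMap R B) ≤ 𝔭 → Q.inertia G = ⊥) :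
    ∃ s : R, s ∉ 𝔭 ∧ Algebra.Etale R (Localization.Away (algebraMap R B s)) := by
  obtain ⟨s, n, x, y, hsp, hs, hσ1⟩ := exists_galois_datum (G := G) 𝔭 hram
  refine ⟨s, hsp, ?_⟩
  have hdual : ∀ b : B, ∑ j, x j * ∑ σ : G, σ • (y j * b) = algebraMap R B s * b :=
    fun b => dual_basis_formula _ x y hs hσ1 b
  haveI : Module.Flat R (Localization.Away (algebraMap R B s)) :=
    flat_away hinj hfix s x y hdual
  haveI : Algebra.FormallyUnramified R (Localization.Away (algebraMap R B s)) :=
    formallyUnramified_away hfix s x y hs hσ1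
  haveI : Module.FinitePresentation R B := Module.finitePresentation_of_finite R B
  haveI : Algebra.FinitePresentation R B := inferInstance
  haveI : Algebra.FinitePresentation B (Localization.Away (algebraMap R B s)) :=
    IsLocalization.Away.finitePresentation (algebraMap R B s)
  haveI : Algebra.FinitePresentation R (Localization.Away (algebraMap R B s)) :=
    Algebra.FinitePresentation.trans R B _
  exact Algebra.Etale.of_formallyUnramified_of_flat

/-- pointwise version. -/
theorem isEtaleAt_of_trivial_inertia (hinj : Function.Injective (algebraMap R B))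
    (hfix : ∀ b : B, (∀ g : G, g • b = b) → b ∈ Set.range (algebraMap R B))
    (𝔮 : Ideal B) [𝔮.IsPrime]
    (hram : ∀ Q : Ideal B, Q.IsPrime →
      Q.comap (algebraMap R B) ≤ 𝔮.comap (algebraMap R B) → Q.inertia G = ⊥) :
    Algebra.IsEtaleAt R 𝔮 := by
  obtain ⟨s, hs, hEt⟩ := exists_etale_away hinj hfix (𝔮.comap (algebraMap R B)) hram
  have hsub := (Algebra.basicOpen_subset_etaleLocus_iff (R := R)
    (f := algebraMap R B s)).mpr inferInstance
  exact hsub (show (⟨𝔮, inferInstance⟩ : PrimeSpectrum B) ∈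
    PrimeSpectrum.basicOpen (algebraMap R B s) from hs)

end Etale

end Groth.Agent.Lib.LeadInr
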