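import Groth.Agent.Lib.T2H3PurityM

/-!
# Purity of the branch locus for normal domains finite over a regular local ring
-/

set_option autoImplicit false
set_option linter.unusedSectionVars false
set_option linter.style.haveILetI false
universe u

open TensorProduct IsLocalRing
open scoped Pointwise

namespace Groth.Agent.Lib.T2H3.Purity

section SecCongr

variable {A : Type u} [CommRing A] {ι : Type} (x : ι → A)
  {M M' : Type u} [AddCommGroup M] [Module A M] [AddCommGroup M'] [Module A M']

/-- `Sec` of isomorphic modules. -/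
noncomputable def Sec.congr (e : M ≃ₗ[A] M') : Sec x M ≃ₗ[A] Sec x M' :=
  LinearEquiv.ofLinearMap (Sec.map x e.toLinearMap) (Sec.map x e.symm.toLinearMap)
    (by
      ext σ : 1
      rw [LinearMap.comp_apply, ← Sec.map_comp, LinearEquiv.comp_symm]
      exact Sec.map_id x σ)
    (by
      ext σ : 1
      rw [LinearMap.comp_apply, ← Sec.map_comp, LinearEquiv.symm_comp]
      exact Sec.map_id x σ)

end SecCongr

theorem etale_of_algEquiv {A R B : Type u} [CommRing A] [CommRing R] [Algebra A R] [CommRing B]
    [Algebra A B] [Algebra.Etale A R] (e : R ≃ₐ[A] B) : Algebra.Etale A B :=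
  Algebra.Etale.of_equiv e

section Normal

variable (A B : Type u) [CommRing A] [IsRegularLocalRing A] [CommRing B] [IsDomain B]
  [IsIntegrallyClosed B] [Algebra A B] [Module.Finite A B]

/-- purity of the branch locus (Zariski–Nagata), algebraic form. -/
theorem etale_of_normal (hA : (2 : WithBot ℕ∞) ≤ ringKrullDim A)
    (hinj : Function.Injective (algebraMap A B))
    (h : ∀ (q : Ideal B) (_ : q.IsPrime), q.comap (algebraMap A B) ≠ maximalIdeal A →
      Algebra.IsEtaleAt A q) : Algebra.Etale A B := by
  classical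
  haveI : Module.FinitePresentation A B := Module.finitePresentation_of_finite A B
  -- étaleness on the basic open sets `D(s)`, `s ∈ m`
  have hEt : ∀ s ∈ maximalIdeal A, Algebra.Etale A (Localization.Away (algebraMap A B s)) := by
    intro s hs
    rw [← Algebra.basicOpen_subset_etaleLocus_iff_etale]
    intro p hp
    rw [Algebra.mem_etaleLocus_iff]
    apply h p.asIdeal p.isPrime
    intro hcon
    have h1 : s ∈ p.asIdeal.comap (algebraMap A B) := by rw [hcon]; exact hs
    exact hp h1
  have hd : maximalIdeal A ≤ (diffIdeal A B).radical := by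
    intro s hs
    haveI := hEt s hs
    exact mem_radical_diffIdeal_of_formallyUnramified s
  have hp : maximalIdeal A ≤ (projIdeal A B).radical := by
    intro s hs
    haveI := hEt s hs
    exact mem_radical_projIdeal_of_flat s
  -- generators of the maximal ideal
  obtain ⟨n, x, hx⟩ := Submodule.fg_iff_exists_fin_generating_family.mp
    (maximalIdeal A).fg_of_isNoetherianRing
  have hx' : Ideal.span (Set.range x) = maximalIdeal A := hx
  have hrad : ∀ {a : A}, a ∈ maximalIdeal A → a ∈ (Ideal.span (Set.range x)).radical :=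
    fun ha => Ideal.le_radical (hx'.symm ▸ ha)
  have hxm : ∀ i, x i ∈ maximalIdeal A := fun i => hx' ▸ Ideal.subset_span ⟨i, rfl⟩
  obtain ⟨f, a, hf, ha, hfreg, hfa⟩ := exists_regular_param_pair A hA
  -- nonzero elements of `A` are regular on `B`
  have hregB : ∀ c : A, c ≠ 0 → IsSMulRegular B c := by
    intro c hc b₁ b₂ hbb
    have h1 : algebraMap A B c ≠ 0 := fun h0 => hc (hinj (by rw [h0, map_zero]))
    have h2 : algebraMap A B c * b₁ = algebraMap A B c * b₂ := by
      simpa [Algebra.smul_def] using hbb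
    exact mul_left_cancel₀ h1 h2
  have hf0 : f ≠ 0 := by
    intro h0
    have h1 : (1 : A) = 0 := hfreg (by simp [h0])
    exact one_ne_zero h1
  have hfB : IsSMulRegular B f := hregB f hf0
  have hinjB : Function.Injective (toSec x B) := toSec_injective_of_regular x B (hrad hf) hfB
  -- finiteness of the ring of sections
  have hbijA : Function.Bijective (toSec x A) := toSec_bijective x A (hrad hf) (hrad ha) hfreg hfa
  haveI : Module.Finite A (Sec x A) := Module.Finite.of_surjective (toSec x A) hbijA.2
  haveI : Module.Finite A (Sec x (A ⊗[A] B)) :=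
    finite_sec_tensor (M := B) (Q := A) x (fun i => hp (hxm i))
  haveI hfinSec : Module.Finite A (Sec x B) :=
    Module.Finite.equiv (Sec.congr x (TensorProduct.lid A B))
  haveI hfinR : Module.Finite A (SecAlg x B) := Module.Finite.equiv (secAlgEquivSec x B).symm
  have hinjAlg : Function.Injective (toSecAlg x B) := by
    intro z z' hzz
    apply hinjB
    rw [← secAlgEquivSec_toSecAlg, ← secAlgEquivSec_toSecAlg, hzz]
  -- the purity hypotheses for `B' = SecAlg x B`
  let θ : (A ⊗[A] B) →ₐ[A] SecAlg x B :=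
    (toSecAlg x B).comp (Algebra.TensorProduct.lid A B).toAlgHom
  have hθ : Function.Injective θ := hinjAlg.comp (Algebra.TensorProduct.lid A B).injective
  have htor : ∀ s ∈ maximalIdeal A, ∃ l : ℕ, ∀ y : SecAlg x B,
      ∃ n : A ⊗[A] B, θ n = s ^ l • y := by
    intro s hs
    obtain ⟨l, hl⟩ := exists_pow_forall_smul_eq_toSec x B (hrad hs)
    refine ⟨l, fun y => ?_⟩
    obtain ⟨b, hb⟩ := hl (secAlgEquivSec x _ y)
    refine ⟨(Algebra.TensorProduct.lid A B).symm b, ?_⟩
    apply (secAlgEquivSec x _).injective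
    show secAlgEquivSec x B (toSecAlg x B ((Algebra.TensorProduct.lid A B)
      ((Algebra.TensorProduct.lid A B).symm b))) = _
    rw [AlgEquiv.apply_symm_apply, secAlgEquivSec_toSecAlg, hb, map_smul]
  have hdepth : ∃ a ∈ maximalIdeal A, ∃ b ∈ maximalIdeal A,
      IsSMulRegular (SecAlg x B) a ∧ RegMod a b (SecAlg x B) := by
    obtain ⟨a₁, ha₁, b₁, hb₁, hreg₁, hab₁⟩ := exists_regular_pair_sec x hx' B hinjB
    refine ⟨a₁, ha₁, b₁, hb₁, ?_, RegMod.of_linearEquiv (secAlgEquivSec x _).symm hab₁⟩
    intro y y' hyy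
    apply (secAlgEquivSec x _).injective
    apply hreg₁
    show a₁ • secAlgEquivSec x _ y = a₁ • secAlgEquivSec x _ y'
    rw [← map_smul, ← map_smul]
    exact congrArg _ hyy
  have hPD : PurityData A (SecAlg x B) :=
    PurityData.transfer (A := A) (Λ := A) (B := B) Function.surjective_id θ hθ hfinR htor hdepth
      hd hp
  haveI hEtR : Algebra.Etale A (SecAlg x B) := purity_algebraic A hA _ hPD
  -- `B → B'` is surjective because `B` is integrally closed
  have hex : ∃ i₀, x i₀ ≠ 0 := by
    by_contra hcon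
    push Not at hcon
    have h0 : maximalIdeal A = ⊥ := by
      rw [← hx', Ideal.span_eq_bot]
      rintro _ ⟨i, rfl⟩
      exact hcon i
    rw [h0, Ideal.mem_bot] at hf
    exact hf0 hf
  obtain ⟨i₀, hi₀⟩ := hex
  have hxK : IsUnit (algebraMap A (FractionRing B) (x i₀)) := by
    rw [IsScalarTower.algebraMap_apply A B (FractionRing B)]
    apply IsUnit.mk0
    intro h0
    have h1 : algebraMap A B (x i₀) = 0 :=
      (IsFractionRing.injective B (FractionRing B)) (by rw [h0, map_zero])
    exact hi₀ (hinj (by rw [h1, map_zero]))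
  let ψ₁ : Loc x i₀ →ₐ[A] FractionRing B :=
    IsLocalization.liftAlgHom (M := Submonoid.powers (x i₀))
      (f := Algebra.ofId A (FractionRing B)) (by
        rintro ⟨_, n, rfl⟩
        simpa using hxK.pow n)
  let ψ₂ : B →ₐ[A] FractionRing B := IsScalarTower.toAlgHom A B (FractionRing B)
  let Ψ : Loc x i₀ ⊗[A] B →ₐ[A] FractionRing B :=
    Algebra.TensorProduct.lift ψ₁ ψ₂ (fun _ _ => Commute.all _ _)
  have hΨ1 : ∀ b : B, Ψ ((1 : Loc x i₀) ⊗ₜ[A] b) = algebraMap B (FractionRing B) b := by
    intro b
    simp [Ψ, ψ₂]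
  let ev : SecAlg x B →ₐ[A] FractionRing B := Ψ.comp (SecAlg.eval x B i₀)
  have hev_inj : Function.Injective ev := by
    rw [injective_iff_map_eq_zero]
    intro τ hτ
    have hτ' : Ψ (τ.1 i₀) = 0 := hτ
    obtain ⟨n', b₁, hn'⟩ := exists_rep (x i₀) B (τ.1 i₀)
    have h1 : algebraMap B (FractionRing B) b₁ = 0 := by
      rw [← hΨ1, ← hn', map_smul, hτ', smul_zero]
    have h2 : b₁ = 0 := (IsFractionRing.injective B (FractionRing B)) (by rw [h1, map_zero])
    rw [h2, tmul_zero] at hn'
    have h3 : τ.1 i₀ = 0 := eq_zero_of_pow_smul (x i₀) B hn'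
    ext j
    have h4 := (secAlgEquivSec x B τ).2 i₀ j
    simp only [secAlgEquivSec_apply] at h4
    rw [h3, map_zero] at h4
    obtain ⟨k, hk⟩ := exists_pow_smul_eq_zero_of_resR x B i₀ j (τ.1 j) h4.symm
    exact ((isSMulRegular_loc (x j) B (hregB (x i₀) hi₀)).pow k) (by simpa using hk)
  have hsurj : Function.Surjective (toSecAlg x B) := by
    intro σ
    have hint : IsIntegral A σ := Algebra.IsIntegral.isIntegral σ
    have hint' : IsIntegral B (ev σ) := (hint.map ev).tower_top
    obtain ⟨b, hb⟩ := IsIntegrallyClosed.algebraMap_eq_of_integral hint'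
    refine ⟨b, hev_inj ?_⟩
    show Ψ ((toSecAlg x B b).1 i₀) = _
    rw [toSecAlg_apply, hΨ1, hb]
  let e : B ≃ₐ[A] SecAlg x B := AlgEquiv.ofBijective (toSecAlg x B) ⟨hinjAlg, hsurj⟩
  exact etale_of_algEquiv (R := SecAlg x B) e.symm

end Normal

end Groth.Agent.Lib.T2H3.Purity
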