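import Mathlib
import Groth.Agent.Lib.T2H3PurityN
import Groth.Agent.Lib.Helper28RegLoc

/-!
# Purity of the branch locus in all dimensions (lead)

On top of helper3's `etale_of_normal` (Zariski–Nagata purity for a regular local ring of dimension
`≥ 2`, étale on the punctured spectrum): a finite normal domain over a regular local ring which is
étale at all primes over primes of height `≤ 1` is étale.
-/

set_option autoImplicit false
set_option maxHeartbeats 400000
set_option linter.style.haveILetI false
set_option linter.unusedSectionVars false
set_option linter.unusedVariables false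
universe u

noncomputable section

namespace Groth.Agent.Lib.LeadInr

open IsLocalRing

/-- étaleness at a prime of a localization is étaleness at its contraction. -/
theorem isEtaleAt_comap_iff {R A : Type*} [CommRing R] [CommRing A] [Algebra R A] (M : Submonoid A)
    {A' : Type*} [CommRing A'] [Algebra A A'] [Algebra R A'] [IsScalarTower R A A']
    [IsLocalization M A'] (p : Ideal A') [p.IsPrime] :
    Algebra.IsEtaleAt R (p.comap (algebraMap A A')) ↔ Algebra.IsEtaleAt R p := by
  have : IsLocalization.AtPrime (Localization.AtPrime p) (p.comap (algebraMap A A')) :=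
    IsLocalization.isLocalization_isLocalization_atPrime_isLocalization M _ p
  refine Algebra.FormallyEtale.iff_of_equiv ?_
  exact (IsLocalization.algEquiv (p.comap (algebraMap A A')).primeCompl _ _).restrictScalars R

section Purity

variable (R B : Type u) [CommRing R] [IsRegularLocalRing R] [CommRing B] [IsDomain B]
  [IsIntegrallyClosed B] [Algebra R B] [Module.Finite R B]

/-- the inductive step: if `B` is étale over `R` at all primes over strict generizations of
`𝔭 = q ∩ R`, and `ht 𝔭 ≥ 2`, then `B` is étale over `R` at `q`. -/
theorem isEtaleAt_of_generizations (hinj : Function.Injective (algebraMap R B))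
    (q : Ideal B) [q.IsPrime] (h2 : 2 ≤ (q.comap (algebraMap R B)).height)
    (hgen : ∀ (q' : Ideal B) (_ : q'.IsPrime),
      q'.comap (algebraMap R B) < q.comap (algebraMap R B) → Algebra.IsEtaleAt R q') :
    Algebra.IsEtaleAt R q := by
  set 𝔭 : Ideal R := q.comap (algebraMap R B) with h𝔭
  let Rp := Localization.AtPrime 𝔭
  let M : Submonoid B := Algebra.algebraMapSubmonoid B 𝔭.primeCompl
  let Bp := Localization M
  have hM : M ≤ nonZeroDivisors B := by
    rintro _ ⟨r, hr, rfl⟩
    apply mem_nonZeroDivisors_of_ne_zero
    intro h0
    have : r = 0 := hinj (by rw [h0, map_zero])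
    exact hr (this ▸ 𝔭.zero_mem)
  haveI : IsRegularLocalRing Rp :=
    Groth.Agent.Lib.Helper28.isRegularLocalRing_localization_of_isRegularLocalRing R 𝔭
  haveI : IsDomain Bp := IsLocalization.isDomain_localization hM
  haveI : IsIntegrallyClosed Bp := isIntegrallyClosed_of_isLocalization Bp M hM
  haveI : Module.Finite Rp Bp := Module.Finite.of_isLocalization R B 𝔭.primeCompl
  have hinj' : Function.Injective (algebraMap Rp Bp) :=
    localizationAlgebra_injective (Rₘ := Rp) (Sₘ := Bp) (M := 𝔭.primeCompl) hinj
  have hdim : (2 : WithBot ℕ∞) ≤ ringKrullDim Rp := by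
    rw [IsLocalization.AtPrime.ringKrullDim_eq_height 𝔭 Rp]
    exact WithBot.coe_le_coe.mpr h2
  have hEt : Algebra.Etale Rp Bp := by
    apply Groth.Agent.Lib.T2H3.Purity.etale_of_normal Rp Bp hdim hinj'
    intro q' hq' hne
    haveI := hq'
    -- the contraction to `B`
    have hlt : (q'.comap (algebraMap B Bp)).comap (algebraMap R B) < 𝔭 := by
      have hcc : (q'.comap (algebraMap B Bp)).comap (algebraMap R B) =
          (q'.comap (algebraMap Rp Bp)).comap (algebraMap R Rp) := by
        rw [Ideal.comap_comap, Ideal.comap_comap, ← IsScalarTower.algebraMap_eq,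
          ← IsScalarTower.algebraMap_eq]
      rw [hcc]
      have hle : (q'.comap (algebraMap Rp Bp)).comap (algebraMap R Rp) ≤ 𝔭 := by
        have h1 : q'.comap (algebraMap Rp Bp) ≤ maximalIdeal Rp :=
          IsLocalRing.le_maximalIdeal (Ideal.IsPrime.ne_top inferInstance)
        have h2 := Ideal.comap_mono (f := algebraMap R Rp) h1
        have h3 : (maximalIdeal Rp).comap (algebraMap R Rp) = 𝔭 :=
          Localization.AtPrime.under_maximalIdeal
        rwa [h3] at h2
      refine lt_of_le_of_ne hle ?_
      intro heq
      apply hne
      have hmc : Ideal.map (algebraMap R Rp)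
          ((q'.comap (algebraMap Rp Bp)).comap (algebraMap R Rp)) =
          q'.comap (algebraMap Rp Bp) := IsLocalization.map_under 𝔭.primeCompl Rp _
      rw [← hmc, heq, Localization.AtPrime.map_eq_maximalIdeal]
    have h1 : Algebra.IsEtaleAt R (q'.comap (algebraMap B Bp)) := hgen _ inferInstance hlt
    have h2 : Algebra.IsEtaleAt R q' := (isEtaleAt_comap_iff (R := R) M q').mp h1
    exact Algebra.FormallyEtale.localization_base 𝔭.primeCompl
  -- conclusion
  have hdisj : Disjoint (M : Set B) (q : Set B) := by
    rw [Set.disjoint_left]
    rintro _ ⟨r, hr, rfl⟩ hq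
    exact hr hq
  haveI hq'prime : (q.map (algebraMap B Bp)).IsPrime :=
    IsLocalization.isPrime_of_isPrime_disjoint M Bp q inferInstance hdisj
  have hcomap : (q.map (algebraMap B Bp)).comap (algebraMap B Bp) = q :=
    IsLocalization.under_map_of_isPrime_disjoint M Bp inferInstance hdisj
  have h3 : Algebra.IsEtaleAt R (q.map (algebraMap B Bp)) := by
    haveI : Algebra.FormallyEtale R Rp := Algebra.FormallyEtale.of_isLocalization 𝔭.primeCompl
    haveI : Algebra.FormallyEtale Rp Bp := hEt.1
    haveI : Algebra.FormallyEtale R Bp := Algebra.FormallyEtale.comp R Rp Bp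
    haveI : Algebra.FormallyEtale Bp (Localization.AtPrime (q.map (algebraMap B Bp))) :=
      Algebra.FormallyEtale.of_isLocalization (q.map (algebraMap B Bp)).primeCompl
    exact Algebra.FormallyEtale.comp R Bp _
  have h4 := (isEtaleAt_comap_iff (R := R) M (q.map (algebraMap B Bp))).mpr h3
  have key : ∀ (q₁ : Ideal B) [q₁.IsPrime], q₁ = q → Algebra.IsEtaleAt R q₁ →
      Algebra.IsEtaleAt R q := by
    intro q₁ _ h
    subst h
    exact id
  exact key _ hcomap h4

/-- **Purity of the branch locus, all dimensions**: a normal domain finite over a regular local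
ring which is étale over all primes of height `≤ 1` is étale. -/
theorem etale_of_codim_one (hinj : Function.Injective (algebraMap R B))
    (h : ∀ (q : Ideal B) (_ : q.IsPrime), (q.comap (algebraMap R B)).height ≤ 1 →
      Algebra.IsEtaleAt R q) : Algebra.Etale R B := by
  haveI : Module.FinitePresentation R B := Module.finitePresentation_of_finite R B
  haveI : Algebra.FinitePresentation R B := inferInstance
  have key : ∀ (n : ℕ) (q : Ideal B) (_ : q.IsPrime),
      (q.comap (algebraMap R B)).height = n → Algebra.IsEtaleAt R q := by
    intro n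
    induction n using Nat.strong_induction_on with
    | _ n ih =>
      intro q hq hn
      haveI := hq
      by_cases hle : n ≤ 1
      · exact h q hq (by rw [hn]; exact_mod_cast hle)
      · push Not at hle
        apply isEtaleAt_of_generizations R B hinj q (by rw [hn]; exact_mod_cast hle)
        intro q' hq' hlt
        haveI := hq'
        have hlt' : (q'.comap (algebraMap R B)).height < (q.comap (algebraMap R B)).height :=
          Ideal.height_strict_mono_of_isPrime_of_isPrime hlt
        obtain ⟨m, hm⟩ := ENat.ne_top_iff_exists.mp
          (Ideal.height_ne_top (I := q'.comap (algebraMap R B)) (Ideal.IsPrime.ne_top inferInstance))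
        refine ih m ?_ q' hq' hm.symm
        rw [hn, ← hm] at hlt'
        exact_mod_cast hlt'
  rw [← Algebra.etaleLocus_eq_univ_iff_etale, Set.eq_univ_iff_forall]
  intro x
  obtain ⟨n, hn⟩ := ENat.ne_top_iff_exists.mp
    (Ideal.height_ne_top (I := x.asIdeal.comap (algebraMap R B)) (Ideal.IsPrime.ne_top inferInstance))
  exact key n x.asIdeal x.isPrime hn.symm

end Purity

end Groth.Agent.Lib.LeadInr
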