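import Mathlib
import Groth.Agent.Lib.LeadInrB
import Groth.Agent.Lib.LeadInrC
import Groth.Agent.Lib.Helper6EquiSubH

/-!
# No Galois covers of degree `p` of a complete regular local ring, unramified in codimension one,
when the residue field has no Galois extension of degree `p` (lead)
-/

set_option autoImplicit false
set_option maxHeartbeats 400000
set_option linter.style.haveILetI false
set_option linter.unusedSectionVars false
set_option linter.unusedVariables false
universe u v w

noncomputable section

namespace Groth.Agent.Lib.LeadExt

open Groth.Agent.Lib.LeadInr IsLocalRing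
open scoped TensorProduct Pointwise

section Unramified

variable {R : Type u} [CommRing R] {B : Type v} [CommRing B] [IsDomain B] [Algebra R B]
  {G : Type w} [Group G] [Fintype G] [MulSemiringAction G B] [SMulCommClass G R B]

theorem hσ_sub_lmul'_mem (γ : G) (Q : Ideal B) (hγ : γ ∈ Q.inertia G) (z : B ⊗[R] B) :
    hσ (R := R) γ z - Algebra.TensorProduct.lmul' R z ∈ Q := by
  induction z using TensorProduct.induction_on with
  | zero => simp
  | tmul a b =>
    rw [hσ_tmul, Algebra.TensorProduct.lmul'_apply_tmul]
    have h : γ • b - b ∈ Q := hγ b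
    have : a * γ • b - a * b = a * (γ • b - b) := by ring
    rw [this]
    exact Ideal.mul_mem_left _ _ h
  | add x y hx hy =>
    have : hσ (R := R) γ (x + y) - Algebra.TensorProduct.lmul' R (x + y) =
        (hσ (R := R) γ x - Algebra.TensorProduct.lmul' R x) +
        (hσ (R := R) γ y - Algebra.TensorProduct.lmul' R y) := by
      rw [map_add, map_add]; ring
    rw [this]
    exact Q.add_mem hx hy

/-- a faithful action on a domain unramified over the base has no inertia. -/
theorem inertia_eq_bot_of_formallyUnramified [Algebra.FormallyUnramified R B]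
    [Algebra.EssFiniteType R B] [FaithfulSMul G B] (Q : Ideal B) (hQ : Q ≠ ⊤) :
    Q.inertia G = ⊥ := by
  obtain ⟨t, ht1, ht2⟩ := (Algebra.FormallyUnramified.iff_exists_tensorProduct (R := R)
    (S := B)).mp inferInstance
  rw [eq_bot_iff]
  intro γ hγ
  rw [Subgroup.mem_bot]
  have ha : ∀ s : B, (γ • s - s) * hσ (R := R) γ t = 0 := by
    intro s
    have h := congrArg (hσ (R := R) γ) (ht1 s)
    rw [map_mul, map_sub, hσ_tmul, hσ_tmul, map_zero, one_mul, smul_one, mul_one] at h
    exact h
  have hb : hσ (R := R) γ t - 1 ∈ Q := by
    rw [← ht2]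
    exact hσ_sub_lmul'_mem γ Q hγ t
  by_cases he : hσ (R := R) γ t = 0
  · exfalso
    apply hQ
    rw [he, zero_sub, Ideal.neg_mem_iff] at hb
    exact (Ideal.eq_top_iff_one Q).mpr hb
  · apply eq_of_smul_eq_smul (α := B)
    intro s
    have h := ha s
    rw [mul_eq_zero] at h
    rcases h with h | h
    · rw [one_smul]; exact sub_eq_zero.mp h
    · exact absurd h he

end Unramified

end Groth.Agent.Lib.LeadExt
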