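import Mathlib
import Groth.Agent.Lib.LeadExtA

/-!
# Residue field extension of an unramified Galois cover of a local ring (lead)
-/

set_option autoImplicit false
set_option maxHeartbeats 400000
set_option linter.style.haveILetI false
set_option linter.unusedSectionVars false
set_option linter.unusedVariables false
universe u v w

noncomputable section

namespace Groth.Agent.Lib.LeadExt

open Groth.Agent.Lib.LeadInr IsLocalRing
open scoped TensorProduct Pointwise

section Residue

attribute [local instance] Ideal.Quotient.field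

variable (A : Type u) [CommRing A] [IsLocalRing A] (D : Type v) [CommRing D] [IsDomain D]
  [IsLocalRing D] [Algebra A D] [Module.Finite A D] [Algebra.FormallyUnramified A D]
  (Γ : Type w) [Group Γ] [Fintype Γ] [MulSemiringAction Γ D] [SMulCommClass Γ A D]
  [FaithfulSMul Γ D] [(maximalIdeal D).LiesOver (maximalIdeal A)]

theorem stabilizer_maximalIdeal : MulAction.stabilizer Γ (maximalIdeal D) = ⊤ := by
  rw [eq_top_iff]
  intro γ _
  rw [MulAction.mem_stabilizer_iff]
  ext x
  rw [Ideal.mem_pointwise_smul_iff_inv_smul_mem, mem_maximalIdeal, mem_maximalIdeal,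
    mem_nonunits_iff, mem_nonunits_iff]
  exact not_congr (isUnit_map_iff (MulSemiringAction.toRingEquiv Γ D γ⁻¹) x)

theorem residue_isGalois
    (hfix : ∀ d : D, (∀ γ : Γ, γ • d = d) → d ∈ Set.range (algebraMap A D)) :
    IsGalois (A ⧸ maximalIdeal A) (D ⧸ maximalIdeal D) ∧
      Module.finrank (A ⧸ maximalIdeal A) (D ⧸ maximalIdeal D) = Nat.card Γ := by
  haveI : Algebra.IsInvariant A D Γ := ⟨hfix⟩
  haveI : Algebra.EssFiniteType A D := inferInstance
  have hI : (maximalIdeal D).inertia Γ = ⊥ :=
    inertia_eq_bot_of_formallyUnramified (R := A) _ (Ideal.IsMaximal.ne_top inferInstance)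
  haveI : Algebra.FormallyUnramified D (D ⧸ maximalIdeal D) := .quotient _
  haveI : Algebra.FormallyUnramified A (D ⧸ maximalIdeal D) := .comp A D _
  haveI : Algebra.FormallyUnramified (A ⧸ maximalIdeal A) (D ⧸ maximalIdeal D) :=
    .of_restrictScalars A _ _
  haveI : Module.Finite A (D ⧸ maximalIdeal D) := Module.Finite.trans D _
  haveI : Module.Finite (A ⧸ maximalIdeal A) (D ⧸ maximalIdeal D) :=
    Module.Finite.of_restrictScalars_finite A _ _
  haveI : Algebra.IsSeparable (A ⧸ maximalIdeal A) (D ⧸ maximalIdeal D) :=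
    Algebra.FormallyUnramified.isSeparable _ _
  haveI : Normal (A ⧸ maximalIdeal A) (D ⧸ maximalIdeal D) :=
    Ideal.Quotient.normal Γ (maximalIdeal A) (maximalIdeal D)
  haveI hG : IsGalois (A ⧸ maximalIdeal A) (D ⧸ maximalIdeal D) := ⟨⟩
  refine ⟨hG, ?_⟩
  rw [← IsGalois.card_aut_eq_finrank,
    ← Nat.card_congr (Ideal.Quotient.stabilizerQuotientInertiaEquiv Γ (maximalIdeal A)
      (maximalIdeal D)).toEquiv]
  have hN : Nat.card ((maximalIdeal D).inertia (MulAction.stabilizer Γ (maximalIdeal D))) = 1 := by
    rw [Nat.card_eq_one_iff_unique]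
    refine ⟨⟨?_⟩, ⟨1⟩⟩
    rintro ⟨a, ha⟩ ⟨b, hb⟩
    have ha' : (a : Γ) ∈ (maximalIdeal D).inertia Γ := ha
    have hb' : (b : Γ) ∈ (maximalIdeal D).inertia Γ := hb
    rw [hI, Subgroup.mem_bot] at ha' hb'
    apply Subtype.ext
    apply Subtype.ext
    rw [ha', hb']
  have hS : Nat.card (MulAction.stabilizer Γ (maximalIdeal D)) = Nat.card Γ := by
    rw [stabilizer_maximalIdeal]
    exact Subgroup.card_top
  have h := Subgroup.card_eq_card_quotient_mul_card_subgroup
    ((maximalIdeal D).inertia (MulAction.stabilizer Γ (maximalIdeal D)))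
  rw [hN, mul_one, hS] at h
  exact h.symm

end Residue

section Transport

/-- a finite Galois extension of a field isomorphic to `k` gives one of `k`, in the universe
of `k`. -/
theorem exists_galois_small (k : Type v) [Field k] (F : Type u) [Field F] (f₀ : k →+* F)
    (hf₀ : Function.Surjective f₀) (E : Type u) [Field E] [Algebra F E] [IsGalois F E]
    [FiniteDimensional F E] :
    ∃ (N : Type v) (_ : Field N) (_ : Algebra k N), IsGalois k N ∧
      Module.finrank k N = Module.finrank F E := by
  let e₁ : F ≃+* k := (RingEquiv.ofBijective f₀ ⟨f₀.injective, hf₀⟩).symm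
  have he₁ : ∀ x : F, f₀ (e₁ x) = x := fun x =>
    (RingEquiv.ofBijective f₀ ⟨f₀.injective, hf₀⟩).apply_symm_apply x
  haveI : Small.{v} E := by
    obtain ⟨n, s, hs⟩ := Module.Finite.exists_fin (R := F) (M := E)
    let g : (Fin n → k) → E := fun c => ∑ i, f₀ (c i) • s i
    have hg : Function.Surjective g := by
      intro x
      have hx : x ∈ Submodule.span F (Set.range s) := by rw [hs]; trivial
      obtain ⟨a, ha⟩ := (Submodule.mem_span_range_iff_exists_fun F).mp hx
      refine ⟨fun i => e₁ (a i), ?_⟩
      change ∑ i, f₀ (e₁ (a i)) • s i = x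
      simp only [he₁]
      exact ha
    exact small_of_surjective hg
  let e₂ : E ≃+* Shrink.{v} E := (Shrink.ringEquiv E).symm
  letI : Algebra k (Shrink.{v} E) :=
    ((e₂ : E →+* Shrink.{v} E).comp ((algebraMap F E).comp f₀)).toAlgebra
  have hcomp : (algebraMap k (Shrink.{v} E)).comp (e₁ : F →+* k) =
      (e₂ : E →+* Shrink.{v} E).comp (algebraMap F E) := by
    apply RingHom.ext
    intro x
    change e₂ (algebraMap F E (f₀ (e₁ x))) = e₂ (algebraMap F E x)
    rw [he₁]
  refine ⟨Shrink.{v} E, inferInstance, inferInstance, IsGalois.of_equiv_equiv hcomp, ?_⟩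
  exact (Algebra.finrank_eq_of_equiv_equiv e₁ e₂ hcomp).symm

end Transport

section Core

/-- the core lemma: a complete regular local ring whose residue field has no Galois extension of
degree `p` has no normal finite cover which is Galois of degree `p` and without inertia in
codimension one. -/
theorem no_cover (p : ℕ) (A : Type u) [CommRing A] [IsRegularLocalRing A]
    [IsAdicComplete (maximalIdeal A) A]
    (k : Type v) [Field k] [Algebra k A]
    (hk : Function.Surjective (IsLocalRing.residue A ∘ algebraMap k A))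
    (hkp : ∀ (L : Type v) [Field L] [Algebra k L], IsGalois k L → Module.finrank k L ≠ p)
    (D : Type u) [CommRing D] [IsDomain D] [IsIntegrallyClosed D] [Algebra A D] [Module.Finite A D]
    (hinj : Function.Injective (algebraMap A D))
    (Γ : Type w) [Group Γ] [Fintype Γ] [MulSemiringAction Γ D] [SMulCommClass Γ A D]
    [FaithfulSMul Γ D] (hcard : Nat.card Γ = p) (hp : 0 < p)
    (hfix : ∀ d : D, (∀ γ : Γ, γ • d = d) → d ∈ Set.range (algebraMap A D))
    (hram : ∀ Q : Ideal D, Q.IsPrime → (Q.comap (algebraMap A D)).height ≤ 1 →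
      Q.inertia Γ = ⊥) : False := by
  haveI : IsNoetherianRing A := inferInstance
  haveI hEt : Algebra.Etale A D := etale_of_codim_one A D hinj (fun q hq hht => by
    haveI := hq
    exact isEtaleAt_of_trivial_inertia hinj hfix q
      (fun Q hQ hle => hram Q hQ ((Ideal.height_mono hle).trans hht)))
  haveI : IsLocalRing D :=
    Groth.Agent.Lib.Helper6.EquiSub.isLocalRing_of_finite_domain_over_henselian A D
  haveI : Algebra.IsIntegral A D := Algebra.IsIntegral.of_finite A D
  have hover : (maximalIdeal D).comap (algebraMap A D) = maximalIdeal A := by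
    haveI : ((maximalIdeal D).comap (algebraMap A D)).IsMaximal :=
      Ideal.isMaximal_comap_of_isIntegral_of_isMaximal _
    exact IsLocalRing.eq_maximalIdeal this
  haveI : (maximalIdeal D).LiesOver (maximalIdeal A) := ⟨hover.symm⟩
  letI := Ideal.Quotient.field (maximalIdeal A)
  letI := Ideal.Quotient.field (maximalIdeal D)
  obtain ⟨hG, hrank⟩ := residue_isGalois A D Γ hfix
  haveI := hG
  haveI : FiniteDimensional (A ⧸ maximalIdeal A) (D ⧸ maximalIdeal D) :=
    Module.finite_of_finrank_pos (by rw [hrank, hcard]; exact hp)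
  obtain ⟨N, hN1, hN2, hNG, hNr⟩ := exists_galois_small k (A ⧸ maximalIdeal A)
    ((Ideal.Quotient.mk (maximalIdeal A)).comp (algebraMap k A)) hk (D ⧸ maximalIdeal D)
  exact hkp N hNG (by rw [hNr, hrank, hcard])

end Core

end Groth.Agent.Lib.LeadExt
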