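import Mathlib

/-!
# Lagrange interpolation over a ring of invariants (lead)
-/

set_option autoImplicit false
set_option maxHeartbeats 400000
set_option linter.style.haveILetI false
set_option linter.unusedSectionVars false
set_option linter.unusedVariables false
universe u v w

noncomputable section

namespace Groth.Agent.Lib.LeadExt

open Polynomial

section Interp

variable {A : Type u} [CommRing A] {G : Type w} [Group G] [Fintype G] [DecidableEq G]
  [MulSemiringAction G A]

/-- the interpolation polynomial `∑_g (g a) ∏_{h ≠ g} (X - h z)`. -/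
def interp (a z : A) : A[X] :=
  ∑ g : G, C (g • a) * ∏ h ∈ Finset.univ.erase g, (X - C (h • z))

theorem smul_interp (τ : G) (a z : A) : τ • interp (G := G) a z = interp (G := G) a z := by
  unfold interp
  rw [Finset.smul_sum]
  refine Fintype.sum_equiv (Equiv.mulLeft τ) _ _ (fun g => ?_)
  rw [smul_mul', smul_C, ← mul_smul, Equiv.coe_mulLeft]
  congr 1
  rw [Finset.smul_prod']
  refine Finset.prod_equiv (Equiv.mulLeft τ) (fun h => ?_) (fun h _ => ?_)
  · simp only [Finset.mem_erase, Finset.mem_univ, and_true, Equiv.coe_mulLeft, ne_eq,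
      mul_right_inj]
  · rw [smul_sub, smul_X, smul_C, ← mul_smul, Equiv.coe_mulLeft]

theorem eval_interp (a z : A) :
    (interp (G := G) a z).eval z = a * ∏ h ∈ Finset.univ.erase (1 : G), (z - h • z) := by
  unfold interp
  rw [eval_finsetSum, Finset.sum_eq_single (1 : G)]
  · rw [eval_mul, eval_C, one_smul, eval_prod]
    simp only [eval_sub, eval_X, eval_C]
  · intro g _ hg
    rw [eval_mul, eval_prod, Finset.prod_eq_zero (i := (1 : G)), mul_zero]
    · exact Finset.mem_erase.mpr ⟨Ne.symm hg, Finset.mem_univ _⟩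
    · rw [eval_sub, eval_X, eval_C, one_smul, sub_self]
  · intro h
    exact absurd (Finset.mem_univ _) h

variable {R₀ : Type v} [CommRing R₀] [Algebra R₀ A] [Algebra.IsInvariant R₀ A G]

theorem interp_mem_lifts (a z : A) :
    interp (G := G) a z ∈ Polynomial.lifts (algebraMap R₀ A) :=
  (interp (G := G) a z).lifts_iff_coeff_lifts.mpr fun n =>
    Algebra.IsInvariant.isInvariant (G := G) _ (fun g => by rw [← coeff_smul, smul_interp])

/-- `a * c_z = F_a(z)` with `F_a`, `F_1` over the invariants and `c_z = F_1(z) = ∏_{h ≠ 1} (z - h z)`. -/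
theorem exists_lifts (a z : A) : ∃ Fa F1 : R₀[X], a * aeval z F1 = aeval z Fa ∧
    aeval z F1 = ∏ h ∈ Finset.univ.erase (1 : G), (z - h • z) := by
  obtain ⟨Fa, hFa⟩ := interp_mem_lifts (R₀ := R₀) (G := G) a z
  obtain ⟨F1, hF1⟩ := interp_mem_lifts (R₀ := R₀) (G := G) 1 z
  have h1 : aeval z F1 = ∏ h ∈ Finset.univ.erase (1 : G), (z - h • z) := by
    rw [← eval_map_algebraMap, ← coe_mapRingHom, hF1, eval_interp, one_mul]
  refine ⟨Fa, F1, ?_, h1⟩
  rw [h1, ← eval_interp, ← hFa, coe_mapRingHom, eval_map_algebraMap]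

theorem prod_sub_ne_zero [IsDomain A] (z : A) (hz : ∀ g : G, g ≠ 1 → g • z ≠ z) :
    ∏ h ∈ Finset.univ.erase (1 : G), (z - h • z) ≠ 0 := by
  rw [Finset.prod_ne_zero_iff]
  intro h hh
  exact sub_ne_zero.mpr (Ne.symm (hz h (Finset.ne_of_mem_erase hh)))

theorem map_aeval_eq {Ω : Type*} [CommRing Ω] (θ : A →+* Ω) (z : A) (F : R₀[X]) :
    θ (aeval z F) = eval₂ (θ.comp (algebraMap R₀ A)) (θ z) F := by
  rw [aeval_def, hom_eval₂]

/-- two ring homomorphisms to a domain agreeing on the invariants and at a point with trivial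
stabilizer agree. -/
theorem ringHom_ext_of_invariant [IsDomain A] {Ω : Type*} [CommRing Ω] [IsDomain Ω]
    (θ₁ θ₂ : A →+* Ω) (hθ₁ : Function.Injective θ₁) (z : A) (hz : ∀ g : G, g ≠ 1 → g • z ≠ z)
    (hB : ∀ r : R₀, θ₁ (algebraMap R₀ A r) = θ₂ (algebraMap R₀ A r)) (hzz : θ₁ z = θ₂ z) :
    θ₁ = θ₂ := by
  have hcomp : θ₁.comp (algebraMap R₀ A) = θ₂.comp (algebraMap R₀ A) := RingHom.ext hB
  have hF : ∀ F : R₀[X], θ₁ (aeval z F) = θ₂ (aeval z F) := by
    intro F
    rw [map_aeval_eq, map_aeval_eq, hcomp, hzz]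
  apply RingHom.ext
  intro a
  obtain ⟨Fa, F1, h1, h2⟩ := exists_lifts (R₀ := R₀) (G := G) a z
  have hc : θ₁ (aeval z F1) ≠ 0 := by
    rw [h2]
    exact (map_ne_zero_iff θ₁ hθ₁).mpr (prod_sub_ne_zero z hz)
  have h3 := congrArg θ₁ h1
  have h4 := congrArg θ₂ h1
  rw [map_mul] at h3 h4
  rw [hF Fa, ← h4, ← hF F1] at h3
  exact mul_right_cancel₀ hc h3

/-- the image of a ring homomorphism to a field lies in any subfield containing the image of the
invariants and of a point with trivial stabilizer. -/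
theorem map_mem_subfield [IsDomain A] {Ω : Type*} [Field Ω]
    (θ : A →+* Ω) (hθ : Function.Injective θ) (z : A) (hz : ∀ g : G, g ≠ 1 → g • z ≠ z)
    (S : Subfield Ω) (hB : ∀ r : R₀, θ (algebraMap R₀ A r) ∈ S) (hzS : θ z ∈ S) (a : A) :
    θ a ∈ S := by
  have hF : ∀ F : R₀[X], θ (aeval z F) ∈ S := by
    intro F
    rw [map_aeval_eq, eval₂_eq_sum_range]
    apply Subfield.sum_mem
    intro i _
    exact S.mul_mem (hB _) (S.pow_mem hzS i)
  obtain ⟨Fa, F1, h1, h2⟩ := exists_lifts (R₀ := R₀) (G := G) a z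
  have hc : θ (aeval z F1) ≠ 0 := by
    rw [h2]
    exact (map_ne_zero_iff θ hθ).mpr (prod_sub_ne_zero z hz)
  have h3 := congrArg θ h1
  rw [map_mul] at h3
  have h4 : θ a = θ (aeval z Fa) / θ (aeval z F1) := by
    rw [← h3, mul_div_assoc, div_self hc, mul_one]
  rw [h4]
  exact S.div_mem (hF Fa) (hF F1)

theorem map_charpoly {Ω : Type*} [CommRing Ω] (θ : A →+* Ω) (a : A) :
    (MulSemiringAction.charpoly G a).map θ = ∏ g : G, (X - C (θ (g • a))) := by
  rw [MulSemiringAction.charpoly_eq, Polynomial.map_prod]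
  simp only [Polynomial.map_sub, map_X, map_C]

end Interp

end Groth.Agent.Lib.LeadExt
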