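import Mathlib
import Groth.Agent.Lib.LeadExtC

/-!
# Twisting an embedding into an algebraic closure by an automorphism of the invariants (lead)
-/

set_option autoImplicit false
set_option maxHeartbeats 400000
set_option linter.style.haveILetI false
set_option linter.unusedSectionVars false
set_option linter.unusedVariables false
universe u v w

noncomputable section

namespace Groth.Agent.Lib.LeadExt

open Polynomial

section Twist

variable {A : Type u} [CommRing A] [IsDomain A]
  {R₀ : Type v} [CommRing R₀] [Algebra R₀ A]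
  {G : Type w} [Group G] [Fintype G] [DecidableEq G] [MulSemiringAction G A] [FaithfulSMul G A]
  [Algebra.IsInvariant R₀ A G]
  (hGR : ∀ (g : G) (r : R₀), g • algebraMap R₀ A r = algebraMap R₀ A r)
  (φ₀ : R₀ →+* R₀)
  (θ : A →+* AlgebraicClosure (FractionRing A)) (hθinj : Function.Injective θ)
  (hθ : ∀ r : R₀, θ (algebraMap R₀ A r) =
    algebraMap A (AlgebraicClosure (FractionRing A)) (algebraMap R₀ A (φ₀ r)))
  (z : A) (hz : ∀ g : G, g ≠ 1 → g • z ≠ z)
  (M : IntermediateField (FractionRing A) (AlgebraicClosure (FractionRing A)))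
  (hM : M = IntermediateField.adjoin (FractionRing A) (Set.range fun g : G => θ (g • z)))

include hθinj hθ hz hM in
theorem theta_mem (a : A) : θ a ∈ M := by
  apply map_mem_subfield (R₀ := R₀) (G := G) θ hθinj z hz M.toSubfield
  · intro r
    rw [hθ, IsScalarTower.algebraMap_apply A (FractionRing A) (AlgebraicClosure (FractionRing A))]
    exact M.algebraMap_mem _
  · rw [hM]
    apply IntermediateField.subset_adjoin
    exact ⟨1, by simp⟩

/-- `θ` as a map to `M`. -/
def thetaM (hmem : ∀ a : A, θ a ∈ M) : A →+* M := θ.codRestrict M hmem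

theorem coe_thetaM (hmem : ∀ a : A, θ a ∈ M) (a : A) :
    ((thetaM θ M hmem a : M) : AlgebraicClosure (FractionRing A)) = θ a := rfl

include hGR hθinj hθ hz in
theorem exists_smul_eq (hmem : ∀ a : A, θ a ∈ M) (σ : M ≃ₐ[FractionRing A] M) :
    ∃ g : G, ∀ a : A,
      ((σ (thetaM θ M hmem a) : M) : AlgebraicClosure (FractionRing A)) = θ (g • a) := by
  obtain ⟨P₀, hP₀⟩ := Algebra.IsInvariant.charpoly_mem_lifts R₀ A G z
  rw [Polynomial.coe_mapRingHom] at hP₀
  let ρ : R₀ →+* FractionRing A :=
    (algebraMap A (FractionRing A)).comp ((algebraMap R₀ A).comp φ₀)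
  have hρ : θ.comp (algebraMap R₀ A) =
      (algebraMap (FractionRing A) (AlgebraicClosure (FractionRing A))).comp ρ := by
    apply RingHom.ext
    intro r
    change θ (algebraMap R₀ A r) = _
    rw [hθ, IsScalarTower.algebraMap_apply A (FractionRing A) (AlgebraicClosure (FractionRing A))]
    rfl
  have hmap : (MulSemiringAction.charpoly G z).map θ =
      (P₀.map ρ).map (algebraMap (FractionRing A) (AlgebraicClosure (FractionRing A))) := by
    rw [← hP₀, Polynomial.map_map, Polynomial.map_map, hρ]
  -- `θ z` is a root of `P₀.map ρ`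
  have hroot : aeval (thetaM θ M hmem z) (P₀.map ρ) = 0 := by
    apply Subtype.ext
    have h1 : ((aeval (thetaM θ M hmem z) (P₀.map ρ) : M) : AlgebraicClosure (FractionRing A)) =
        aeval (θ z) (P₀.map ρ) := by
      have := Polynomial.aeval_algHom_apply M.val (thetaM θ M hmem z) (P₀.map ρ)
      exact this.symm
    rw [h1, ← eval_map_algebraMap, ← hmap, eval_map, Polynomial.eval₂_at_apply,
      MulSemiringAction.eval_charpoly, map_zero]
    rfl
  have hroot' : aeval (σ (thetaM θ M hmem z)) (P₀.map ρ) = 0 := by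
    rw [← AlgEquiv.coe_toAlgHom, Polynomial.aeval_algHom_apply, hroot, map_zero]
  have hroot'' : eval ((σ (thetaM θ M hmem z) : M) : AlgebraicClosure (FractionRing A))
      ((MulSemiringAction.charpoly G z).map θ) = 0 := by
    rw [hmap, eval_map_algebraMap]
    have := Polynomial.aeval_algHom_apply M.val (σ (thetaM θ M hmem z)) (P₀.map ρ)
    rw [hroot', map_zero] at this
    exact this
  rw [map_charpoly, eval_prod, Finset.prod_eq_zero_iff] at hroot''
  obtain ⟨g, _, hg⟩ := hroot''
  rw [eval_sub, eval_X, eval_C, sub_eq_zero] at hg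
  refine ⟨g, ?_⟩
  have hext := ringHom_ext_of_invariant (R₀ := R₀) (G := G)
    (θ.comp (MulSemiringAction.toRingHom G A g))
    ((M.val : M →+* AlgebraicClosure (FractionRing A)).comp
      ((σ : M →+* M).comp (thetaM θ M hmem)))
    (hθinj.comp (MulAction.injective g)) z hz ?_ ?_
  · intro a
    exact (RingHom.congr_fun hext a).symm
  · intro r
    change θ (g • algebraMap R₀ A r) = ((σ (thetaM θ M hmem (algebraMap R₀ A r)) : M) :
      AlgebraicClosure (FractionRing A))
    rw [hGR]
    have h1 : thetaM θ M hmem (algebraMap R₀ A r) = algebraMap (FractionRing A) M (ρ r) := by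
      apply Subtype.ext
      rw [coe_thetaM]
      exact RingHom.congr_fun hρ r
    rw [h1, σ.commutes, ← h1, coe_thetaM]
  · change θ (g • z) = ((σ (thetaM θ M hmem z) : M) : AlgebraicClosure (FractionRing A))
    exact hg.symm

include hGR hθinj hθ hz hM in
/-- the Galois group of `M` over `Frac A` embeds in `G`, compatibly with `θ`. -/
theorem exists_monoidHom (hmem : ∀ a : A, θ a ∈ M) :
    ∃ c : (M ≃ₐ[FractionRing A] M) →* G, Function.Injective c ∧
      ∀ (σ : M ≃ₐ[FractionRing A] M) (a : A),
        ((σ (thetaM θ M hmem a) : M) : AlgebraicClosure (FractionRing A)) = θ (c σ • a) := by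
  choose c hc using exists_smul_eq hGR φ₀ θ hθinj hθ z hz M hmem
  have huniq : ∀ (σ : M ≃ₐ[FractionRing A] M) (g : G),
      (∀ a : A, ((σ (thetaM θ M hmem a) : M) : AlgebraicClosure (FractionRing A)) = θ (g • a)) →
      g = c σ := by
    intro σ g hg
    apply eq_of_smul_eq_smul (α := A)
    intro a
    apply hθinj
    rw [← hg a, hc σ a]
  have hthetaM : ∀ (σ : M ≃ₐ[FractionRing A] M) (a : A),
      σ (thetaM θ M hmem a) = thetaM θ M hmem (c σ • a) := by
    intro σ a
    apply Subtype.ext
    rw [hc σ a, coe_thetaM]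
  have hmul : ∀ σ τ : M ≃ₐ[FractionRing A] M, c (σ * τ) = c σ * c τ := by
    intro σ τ
    symm
    apply huniq
    intro a
    rw [AlgEquiv.mul_apply, hthetaM τ a, hc σ, mul_smul]
  refine ⟨MonoidHom.mk' c hmul, ?_, hc⟩
  rw [injective_iff_map_eq_one]
  intro σ hσ
  change c σ = 1 at hσ
  have h1 : (σ : M →ₐ[FractionRing A] M) = AlgHom.id _ M := by
    have h2 : (M.val.comp (σ : M →ₐ[FractionRing A] M)) = M.val.comp (AlgHom.id _ M) := by
      apply IntermediateField.algHom_ext_of_eq_adjoin _ hM
      rintro _ ⟨g, rfl⟩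
      change ((σ ⟨θ (g • z), _⟩ : M) : AlgebraicClosure (FractionRing A)) = θ (g • z)
      have h3 := hc σ (g • z)
      rw [hσ, one_smul] at h3
      exact h3
    apply AlgHom.ext
    intro m
    apply Subtype.ext
    exact AlgHom.congr_fun h2 m
  apply AlgEquiv.ext
  intro m
  exact AlgHom.congr_fun h1 m

end Twist

end Groth.Agent.Lib.LeadExt
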