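import Mathlib
import Groth.Agent.Lib.LeadExtD

/-!
# The integral closure in the twisted compositum as a Galois cover (lead)
-/

set_option autoImplicit false
set_option maxHeartbeats 400000
set_option linter.style.haveILetI false
set_option linter.unusedSectionVars false
set_option linter.unusedVariables false
universe u v w

noncomputable section

namespace Groth.Agent.Lib.LeadExt

open Polynomial IsLocalRing

section Cover

variable {A : Type u} [CommRing A] [IsDomain A] [IsIntegrallyClosed A]
  (M : IntermediateField (FractionRing A) (AlgebraicClosure (FractionRing A)))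
  [FiniteDimensional (FractionRing A) M] [IsGalois (FractionRing A) M]

theorem inj_D : Function.Injective (algebraMap A (integralClosure A M)) := by
  intro x y hxy
  have h := congrArg Subtype.val hxy
  change algebraMap A M x = algebraMap A M y at h
  rw [IsScalarTower.algebraMap_apply A (FractionRing A) M,
    IsScalarTower.algebraMap_apply A (FractionRing A) M] at h
  exact IsFractionRing.injective A (FractionRing A) ((algebraMap (FractionRing A) M).injective h)

theorem fix_D (d : integralClosure A M)
    (hd : ∀ γ : M ≃ₐ[FractionRing A] M, γ • d = d) :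
    d ∈ Set.range (algebraMap A (integralClosure A M)) := by
  have h1 : (d : M) ∈ Set.range (algebraMap (FractionRing A) M) := by
    rw [IsGalois.mem_range_algebraMap_iff_fixed]
    intro γ
    exact congrArg Subtype.val (hd γ)
  obtain ⟨l, hl⟩ := h1
  have hint : IsIntegral A l := by
    have h2 : IsIntegral A (algebraMap (FractionRing A) M l) := by rw [hl]; exact d.2
    exact (isIntegral_algebraMap_iff (algebraMap (FractionRing A) M).injective).mp h2
  obtain ⟨y, hy⟩ := IsIntegrallyClosed.algebraMap_eq_of_integral hint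
  refine ⟨y, ?_⟩
  apply Subtype.ext
  change algebraMap A M y = d
  rw [IsScalarTower.algebraMap_apply A (FractionRing A) M, hy, hl]

theorem faithful_D : FaithfulSMul (M ≃ₐ[FractionRing A] M) (integralClosure A M) := by
  haveI : IsFractionRing (integralClosure A M) M :=
    integralClosure.isFractionRing_of_finite_extension (FractionRing A) M
  constructor
  intro γ₁ γ₂ h
  apply AlgEquiv.ext
  intro m
  obtain ⟨d₁, d₂, hd₂, rfl⟩ := IsFractionRing.div_surjective (A := integralClosure A M) m
  have e₁ := congrArg Subtype.val (h d₁)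
  have e₂ := congrArg Subtype.val (h d₂)
  change γ₁ (d₁ : M) = γ₂ (d₁ : M) at e₁
  change γ₁ (d₂ : M) = γ₂ (d₂ : M) at e₂
  change γ₁ ((d₁ : M) / (d₂ : M)) = γ₂ ((d₁ : M) / (d₂ : M))
  rw [map_div₀, map_div₀, e₁, e₂]

end Cover

section Inertia

variable {A : Type u} [CommRing A] [IsDomain A] [IsIntegrallyClosed A]
  {R₀ : Type v} [CommRing R₀] [Algebra R₀ A]
  {G : Type w} [Group G] [Fintype G] [DecidableEq G] [MulSemiringAction G A] [FaithfulSMul G A]
  [Algebra.IsIntegral R₀ A]
  (φ₀ : R₀ ≃+* R₀)
  (θ : A →+* AlgebraicClosure (FractionRing A))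
  (hθ : ∀ r : R₀, θ (algebraMap R₀ A r) =
    algebraMap A (AlgebraicClosure (FractionRing A)) (algebraMap R₀ A (φ₀ r)))
  (M : IntermediateField (FractionRing A) (AlgebraicClosure (FractionRing A)))
  (hmem : ∀ a : A, θ a ∈ M)

include hθ in
theorem isIntegral_thetaM (a : A) : IsIntegral A (thetaM θ M hmem a) := by
  obtain ⟨P, hmonic, hP⟩ := Algebra.IsIntegral.isIntegral (R := R₀) a
  refine ⟨P.map ((algebraMap R₀ A).comp (φ₀ : R₀ →+* R₀)), hmonic.map _, ?_⟩
  apply Subtype.ext
  have h1 := Polynomial.hom_eval₂ (P.map ((algebraMap R₀ A).comp (φ₀ : R₀ →+* R₀)))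
    (algebraMap A M) (M.val : M →+* AlgebraicClosure (FractionRing A)) (thetaM θ M hmem a)
  have h2 : (M.val : M →+* AlgebraicClosure (FractionRing A)).comp (algebraMap A M) =
      algebraMap A (AlgebraicClosure (FractionRing A)) := rfl
  rw [h2] at h1
  change M.val (eval₂ (algebraMap A M) (thetaM θ M hmem a)
    (P.map ((algebraMap R₀ A).comp (φ₀ : R₀ →+* R₀)))) = _
  have h0 : ∀ x : M, (M.val : M →+* AlgebraicClosure (FractionRing A)) x = M.val x := fun _ => rfl
  rw [← h0, h1, eval₂_map]
  have h3 : (algebraMap A (AlgebraicClosure (FractionRing A))).comp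
      ((algebraMap R₀ A).comp (φ₀ : R₀ →+* R₀)) = θ.comp (algebraMap R₀ A) := by
    apply RingHom.ext
    intro r
    exact (hθ r).symm
  have h4 : (M.val : M →+* AlgebraicClosure (FractionRing A)) (thetaM θ M hmem a) = θ a := rfl
  rw [h3, h4, ← Polynomial.hom_eval₂, hP, map_zero]
  rfl

/-- `θ` as a map to the integral closure. -/
def thetaD (hint : ∀ a : A, IsIntegral A (thetaM θ M hmem a)) : A →+* integralClosure A M :=
  (thetaM θ M hmem).codRestrict (integralClosure A M) hint

theorem coe_thetaD (hint : ∀ a : A, IsIntegral A (thetaM θ M hmem a)) (a : A) :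
    ((thetaD θ M hmem hint a : integralClosure A M) : M) = thetaM θ M hmem a := rfl

/-- inertia in the cover comes from inertia in `A`. -/
theorem inertia_trivial (hint : ∀ a : A, IsIntegral A (thetaM θ M hmem a))
    (c : (M ≃ₐ[FractionRing A] M) →* G) (hcinj : Function.Injective c)
    (hc : ∀ (σ : M ≃ₐ[FractionRing A] M) (a : A),
      ((σ (thetaM θ M hmem a) : M) : AlgebraicClosure (FractionRing A)) = θ (c σ • a))
    (q : Ideal (integralClosure A M))
    (hq' : (q.comap (thetaD θ M hmem hint)).inertia G = ⊥) :
    q.inertia (M ≃ₐ[FractionRing A] M) = ⊥ := by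
  rw [eq_bot_iff]
  intro σ hσ
  rw [Subgroup.mem_bot]
  apply hcinj
  rw [map_one, ← Subgroup.mem_bot, ← hq']
  intro a
  change c σ • a - a ∈ q.comap (thetaD θ M hmem hint)
  rw [Ideal.mem_comap, map_sub]
  have h1 : thetaD θ M hmem hint (c σ • a) = σ • thetaD θ M hmem hint a := by
    apply Subtype.ext
    apply Subtype.ext
    change θ (c σ • a) = ((σ (thetaM θ M hmem a) : M) : AlgebraicClosure (FractionRing A))
    exact (hc σ a).symm
  rw [h1]
  exact hσ (thetaD θ M hmem hint a)

include hθ in
theorem comap_thetaD_ne_maximalIdeal [IsLocalRing A]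
    (hint : ∀ a : A, IsIntegral A (thetaM θ M hmem a))
    (hφm : ∀ r : R₀, algebraMap R₀ A r ∈ maximalIdeal A ↔
      algebraMap R₀ A (φ₀ r) ∈ maximalIdeal A)
    (q : Ideal (integralClosure A M)) [q.IsPrime]
    (hq : q.comap (algebraMap A (integralClosure A M)) ≠ maximalIdeal A) :
    q.comap (thetaD θ M hmem hint) ≠ maximalIdeal A := by
  intro hcon
  apply hq
  have hle : (maximalIdeal A).comap (algebraMap R₀ A) ≤
      (q.comap (algebraMap A (integralClosure A M))).comap (algebraMap R₀ A) := by
    intro r' hr'
    rw [Ideal.mem_comap] at hr'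
    have hr : algebraMap R₀ A (φ₀.symm r') ∈ maximalIdeal A := by
      rw [hφm, φ₀.apply_symm_apply]
      exact hr'
    rw [← hcon, Ideal.mem_comap] at hr
    rw [Ideal.mem_comap, Ideal.mem_comap]
    have h1 : thetaD θ M hmem hint (algebraMap R₀ A (φ₀.symm r')) =
        algebraMap A (integralClosure A M) (algebraMap R₀ A r') := by
      apply Subtype.ext
      apply Subtype.ext
      change θ (algebraMap R₀ A (φ₀.symm r')) = _
      rw [hθ, φ₀.apply_symm_apply]
      rfl
    rw [← h1]
    exact hr
  haveI hmax : ((maximalIdeal A).comap (algebraMap R₀ A)).IsMaximal :=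
    Ideal.isMaximal_comap_of_isIntegral_of_isMaximal _
  have hne : (q.comap (algebraMap A (integralClosure A M))).comap (algebraMap R₀ A) ≠ ⊤ :=
    Ideal.IsPrime.ne_top inferInstance
  have heq := hmax.eq_of_le hne hle
  haveI : ((q.comap (algebraMap A (integralClosure A M))).comap (algebraMap R₀ A)).IsMaximal :=
    heq ▸ hmax
  haveI : (q.comap (algebraMap A (integralClosure A M))).IsMaximal :=
    Ideal.isMaximal_of_isIntegral_of_isMaximal_comap (R := R₀) _ this
  exact IsLocalRing.eq_maximalIdeal inferInstance

end Inertia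

end Groth.Agent.Lib.LeadExt
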