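import Mathlib
import Groth.Agent.Lib.LeadExtE

/-!
# Lifting an automorphism of the invariants to an embedding into an algebraic closure (lead)
-/

set_option autoImplicit false
set_option maxHeartbeats 400000
set_option linter.style.haveILetI false
set_option linter.unusedSectionVars false
set_option linter.unusedVariables false
universe u v w

noncomputable section

namespace Groth.Agent.Lib.LeadExt

open Polynomial IsLocalRing

/-- an automorphism of a subring over which `A` is integral extends to an embedding of `A` in
the algebraic closure of its fraction field. -/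
theorem exists_theta {A : Type u} [CommRing A] [IsDomain A] {R₀ : Type v} [CommRing R₀]
    [Algebra R₀ A] [Algebra.IsIntegral R₀ A]
    (hinj₀ : Function.Injective (algebraMap R₀ A)) (φ₀ : R₀ ≃+* R₀) :
    ∃ θ : A →+* AlgebraicClosure (FractionRing A), Function.Injective θ ∧
      ∀ r : R₀, θ (algebraMap R₀ A r) =
        algebraMap A (AlgebraicClosure (FractionRing A)) (algebraMap R₀ A (φ₀ r)) := by
  haveI : IsDomain R₀ := hinj₀.isDomain
  letI algΩ : Algebra R₀ (AlgebraicClosure (FractionRing A)) :=
    ((algebraMap A (AlgebraicClosure (FractionRing A))).comp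
      ((algebraMap R₀ A).comp (φ₀ : R₀ →+* R₀))).toAlgebra
  haveI : Module.IsTorsionFree R₀ A := Module.isTorsionFree_iff_algebraMap_injective.mpr hinj₀
  have hinjΩ : Function.Injective (algebraMap R₀ (AlgebraicClosure (FractionRing A))) := by
    change Function.Injective ((algebraMap A (AlgebraicClosure (FractionRing A))).comp
      ((algebraMap R₀ A).comp (φ₀ : R₀ →+* R₀)))
    rw [RingHom.coe_comp, RingHom.coe_comp]
    refine Function.Injective.comp ?_ (hinj₀.comp φ₀.injective)
    rw [IsScalarTower.algebraMap_eq A (FractionRing A) (AlgebraicClosure (FractionRing A)),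
      RingHom.coe_comp]
    exact (algebraMap (FractionRing A) (AlgebraicClosure (FractionRing A))).injective.comp
      (IsFractionRing.injective A (FractionRing A))
  haveI : Module.IsTorsionFree R₀ (AlgebraicClosure (FractionRing A)) :=
    Module.isTorsionFree_iff_algebraMap_injective.mpr hinjΩ
  haveI : Algebra.IsAlgebraic R₀ A := inferInstance
  let θ' : A →ₐ[R₀] AlgebraicClosure (FractionRing A) := IsAlgClosed.lift
  refine ⟨θ'.toRingHom, ?_, fun r => θ'.commutes r⟩
  rw [injective_iff_map_eq_zero]
  intro a ha
  have hker : RingHom.ker θ'.toRingHom = ⊥ := by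
    apply Ideal.eq_bot_of_comap_eq_bot (R := R₀)
    rw [eq_bot_iff]
    intro r hr
    rw [Ideal.mem_comap, RingHom.mem_ker] at hr
    have h1 : θ'.toRingHom (algebraMap R₀ A r) =
      algebraMap R₀ (AlgebraicClosure (FractionRing A)) r := θ'.commutes r
    rw [h1] at hr
    rw [Ideal.mem_bot]
    exact hinjΩ (hr.trans (map_zero _).symm)
  have : a ∈ RingHom.ker θ'.toRingHom := ha
  rw [hker] at this
  exact this

/-- a faithful action of a group of prime order has a point with trivial stabiliser. -/
theorem exists_free_point (p : ℕ) [Fact p.Prime] {A : Type u} [CommRing A] {G : Type w} [Group G]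
    [MulSemiringAction G A] [FaithfulSMul G A] (hcard : Nat.card G = p) :
    ∃ z : A, ∀ g : G, g ≠ 1 → g • z ≠ z := by
  haveI : Fact (Nat.card G).Prime := ⟨hcard ▸ Fact.out⟩
  haveI : Finite G :=
    Nat.finite_of_card_ne_zero (by rw [hcard]; exact (Fact.out : p.Prime).ne_zero)
  haveI : Nontrivial G :=
    Finite.one_lt_card_iff_nontrivial.mp (by rw [hcard]; exact (Fact.out : p.Prime).one_lt)
  obtain ⟨g₀, hg₀⟩ := exists_ne (1 : G)
  have hex : ∃ z : A, g₀ • z ≠ z := by
    by_contra hcon
    push Not at hcon
    exact hg₀ (eq_of_smul_eq_smul (α := A) (fun a => by rw [hcon a, one_smul]))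
  obtain ⟨z, hz⟩ := hex
  refine ⟨z, fun g hg hgz => ?_⟩
  rcases (MulAction.stabilizer G z).eq_bot_or_eq_top_of_prime_card with h | h
  · have h1 : g ∈ MulAction.stabilizer G z := hgz
    rw [h, Subgroup.mem_bot] at h1
    exact hg h1
  · have h1 : g₀ ∈ MulAction.stabilizer G z := by rw [h]; trivial
    exact hz h1

/-- the field generated by the conjugates of `θ z` is finite Galois over `Frac A`. -/
theorem isGalois_M {A : Type u} [CommRing A] [IsDomain A] {R₀ : Type v} [CommRing R₀]
    [Algebra R₀ A] {G : Type w} [Group G] [Fintype G] [DecidableEq G] [MulSemiringAction G A]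
    [Algebra.IsInvariant R₀ A G]
    (φ₀ : R₀ →+* R₀)
    (θ : A →+* AlgebraicClosure (FractionRing A)) (hθinj : Function.Injective θ)
    (hθ : ∀ r : R₀, θ (algebraMap R₀ A r) =
      algebraMap A (AlgebraicClosure (FractionRing A)) (algebraMap R₀ A (φ₀ r)))
    (z : A) (hz : ∀ g : G, g ≠ 1 → g • z ≠ z) :
    FiniteDimensional (FractionRing A) (IntermediateField.adjoin (FractionRing A)
      (Set.range fun g : G => θ (g • z))) ∧
    IsGalois (FractionRing A) (IntermediateField.adjoin (FractionRing A)
      (Set.range fun g : G => θ (g • z))) := by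
  obtain ⟨P₀, hP₀⟩ := Algebra.IsInvariant.charpoly_mem_lifts R₀ A G z
  rw [Polynomial.coe_mapRingHom] at hP₀
  let ρ : R₀ →+* FractionRing A :=
    (algebraMap A (FractionRing A)).comp ((algebraMap R₀ A).comp φ₀)
  have hρ : θ.comp (algebraMap R₀ A) =
      (algebraMap (FractionRing A) (AlgebraicClosure (FractionRing A))).comp ρ := by
    apply RingHom.ext
    intro r
    change θ (algebraMap R₀ A r) = _
    rw [hθ, IsScalarTower.algebraMap_apply A (FractionRing A) (AlgebraicClosure (FractionRing A))]
    rfl
  have hmap : (P₀.map ρ).map (algebraMap (FractionRing A) (AlgebraicClosure (FractionRing A))) =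
      ∏ g : G, (X - C (θ (g • z))) := by
    rw [← map_charpoly, ← hP₀, Polynomial.map_map, Polynomial.map_map, hρ]
  have hne : P₀.map ρ ≠ 0 := by
    intro h0
    have h1 : (∏ g : G, (X - C (θ (g • z)))) = 0 := by rw [← hmap, h0, Polynomial.map_zero]
    exact (monic_prod_of_monic _ _ (fun g _ => monic_X_sub_C _)).ne_zero h1
  have hroot : (P₀.map ρ).rootSet (AlgebraicClosure (FractionRing A)) =
      Set.range fun g : G => θ (g • z) := by
    ext x
    rw [Polynomial.mem_rootSet, ← eval_map_algebraMap, hmap, eval_prod, Finset.prod_eq_zero_iff]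
    constructor
    · rintro ⟨_, g, _, hg⟩
      rw [eval_sub, eval_X, eval_C, sub_eq_zero] at hg
      exact ⟨g, hg.symm⟩
    · rintro ⟨g, rfl⟩
      exact ⟨hne, g, Finset.mem_univ _, by simp⟩
  have hsplit : ((P₀.map ρ).map
      (algebraMap (FractionRing A) (AlgebraicClosure (FractionRing A)))).Splits :=
    IsAlgClosed.splits _
  have hsf := IntermediateField.adjoin_rootSet_isSplittingField hsplit
  rw [hroot] at hsf
  haveI := hsf
  have hsep : (P₀.map ρ).Separable := by
    rw [← Polynomial.separable_map
      (algebraMap (FractionRing A) (AlgebraicClosure (FractionRing A))), hmap,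
      separable_prod_X_sub_C_iff]
    intro g h hgh
    have h1 : g • z = h • z := hθinj hgh
    by_contra hne'
    apply hz (h⁻¹ * g)
    · intro h2
      apply hne'
      have := congrArg (fun t => h * t) h2
      simpa using this
    · rw [mul_smul, h1, inv_smul_smul]
  exact ⟨Polynomial.IsSplittingField.finiteDimensional _ (P₀.map ρ),
    IsGalois.of_separable_splitting_field hsep⟩

theorem exists_ringHom_of_forall_exists {A Ω : Type*} [CommRing A] [CommRing Ω] (ι : A →+* Ω)
    (hι : Function.Injective ι) (θ : A →+* Ω) (h : ∀ a, ∃ a', ι a' = θ a) :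
    ∃ ψ : A →+* A, ∀ a, ι (ψ a) = θ a := by
  choose f hf using h
  refine ⟨{ toFun := f
            map_one' := hι (by rw [hf, map_one, map_one])
            map_mul' := fun x y => hι (by rw [hf, map_mul, map_mul, hf, hf])
            map_zero' := hι (by rw [hf, map_zero, map_zero])
            map_add' := fun x y => hι (by rw [hf, map_add, map_add, hf, hf]) }, hf⟩

theorem not_height_maximalIdeal_le_one (A : Type u) [CommRing A] [IsLocalRing A]
    (hdim : 2 ≤ ringKrullDim A) : ¬ (maximalIdeal A).height ≤ 1 := by
  intro h
  rw [← IsLocalRing.maximalIdeal_height_eq_ringKrullDim] at hdim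
  have h2 : ((2 : ℕ∞) : WithBot ℕ∞) ≤ ((maximalIdeal A).height : WithBot ℕ∞) := hdim
  rw [WithBot.coe_le_coe] at h2
  have := h2.trans h
  revert this
  decide

end Groth.Agent.Lib.LeadExt
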