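import Mathlib
import Groth.Agent.Lib.LeadExtF
import Groth.Agent.Lib.LeadExtB
import Groth.Agent.Lib.Helper5RLR
import Groth.Agent.Lib.Helper28Catenary

/-!
# Automorphisms of the invariants of a wild `ℤ/p` quotient singularity extend (lead)
-/

set_option autoImplicit false
set_option maxHeartbeats 400000
set_option linter.style.haveILetI false
set_option linter.unusedSectionVars false
set_option linter.unusedVariables false
universe u v w

noncomputable section

namespace Groth.Agent.Lib.LeadExt

open Polynomial IsLocalRing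

theorem exists_ringHom_extending (p : ℕ) [Fact p.Prime] (A : Type u) [CommRing A]
    [IsRegularLocalRing A] [IsAdicComplete (maximalIdeal A) A] (hdim : 2 ≤ ringKrullDim A)
    (k : Type v) [Field k] [Algebra k A]
    (hk : Function.Surjective (IsLocalRing.residue A ∘ algebraMap k A))
    (hkp : ∀ (L : Type v) [Field L] [Algebra k L], IsGalois k L → Module.finrank k L ≠ p)
    (G : Type w) [Group G] [Fintype G] [DecidableEq G] [MulSemiringAction G A] [FaithfulSMul G A]
    (hcard : Nat.card G = p)
    (hram : ∀ P : Ideal A, P.IsPrime → P ≠ maximalIdeal A → P.inertia G = ⊥)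
    (R₀ : Type u) [CommRing R₀] [Algebra R₀ A] [Algebra.IsInvariant R₀ A G]
    (hinj₀ : Function.Injective (algebraMap R₀ A))
    (hGR : ∀ (g : G) (r : R₀), g • algebraMap R₀ A r = algebraMap R₀ A r)
    (φ₀ : R₀ ≃+* R₀)
    (hφm : ∀ r : R₀, algebraMap R₀ A r ∈ maximalIdeal A ↔
      algebraMap R₀ A (φ₀ r) ∈ maximalIdeal A) :
    ∃ ψ₀ : A →+* A, ∀ r : R₀, ψ₀ (algebraMap R₀ A r) = algebraMap R₀ A (φ₀ r) := by
  haveI : IsDomain A := Groth.Agent.Lib.Helper5.isDomain_of_isRegularLocalRing A
  haveI : IsIntegrallyClosed A :=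
    Groth.Agent.Lib.Helper28.isIntegrallyClosed_of_isRegularLocalRing A
  haveI : Algebra.IsIntegral R₀ A := Algebra.IsInvariant.isIntegral R₀ A G
  obtain ⟨θ, hθinj, hθ⟩ := exists_theta hinj₀ φ₀
  obtain ⟨z, hz⟩ := exists_free_point p (G := G) (A := A) hcard
  obtain ⟨hfd, hgal⟩ := isGalois_M (R₀ := R₀) (φ₀ : R₀ →+* R₀) θ hθinj hθ z hz
  let M : IntermediateField (FractionRing A) (AlgebraicClosure (FractionRing A)) :=
    IntermediateField.adjoin (FractionRing A) (Set.range fun g : G => θ (g • z))
  haveI : FiniteDimensional (FractionRing A) M := hfd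
  haveI : IsGalois (FractionRing A) M := hgal
  have hM : M = IntermediateField.adjoin (FractionRing A)
    (Set.range fun g : G => θ (g • z)) := rfl
  have hmem : ∀ a : A, θ a ∈ M :=
    theta_mem (R₀ := R₀) (G := G) (φ₀ : R₀ →+* R₀) θ hθinj hθ z hz M hM
  obtain ⟨c, hcinj, hc⟩ := exists_monoidHom hGR (φ₀ : R₀ →+* R₀) θ hθinj hθ z hz M hM hmem
  have hint : ∀ a : A, IsIntegral A (thetaM θ M hmem a) := isIntegral_thetaM φ₀ θ hθ M hmem
  have hιinj : Function.Injective (algebraMap A (AlgebraicClosure (FractionRing A))) := by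
    rw [IsScalarTower.algebraMap_eq A (FractionRing A) (AlgebraicClosure (FractionRing A)),
      RingHom.coe_comp]
    exact (algebraMap (FractionRing A) (AlgebraicClosure (FractionRing A))).injective.comp
      (IsFractionRing.injective A (FractionRing A))
  by_cases htriv : Nat.card (M ≃ₐ[FractionRing A] M) = 1
  · -- trivial Galois group: `θ` lands in `A`
    haveI : Subsingleton (M ≃ₐ[FractionRing A] M) :=
      (Nat.card_eq_one_iff_unique.mp htriv).1
    have key : ∀ a : A, ∃ a' : A, algebraMap A (AlgebraicClosure (FractionRing A)) a' = θ a := by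
      intro a
      obtain ⟨a', ha'⟩ := fix_D M (thetaD θ M hmem hint a) (fun γ => by
        rw [Subsingleton.elim γ 1, one_smul])
      refine ⟨a', ?_⟩
      have h1 := congrArg (fun d : integralClosure A M =>
        ((d : M) : AlgebraicClosure (FractionRing A))) ha'
      exact h1
    obtain ⟨ψ₀, hψ₀⟩ := exists_ringHom_of_forall_exists _ hιinj θ key
    refine ⟨ψ₀, fun r => hιinj ?_⟩
    rw [hψ₀, hθ]
  · exfalso
    have hp : p.Prime := Fact.out
    have hdvd : Nat.card (M ≃ₐ[FractionRing A] M) ∣ p := by
      rw [← hcard]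
      exact Subgroup.card_dvd_of_injective c hcinj
    have hcardΓ : Nat.card (M ≃ₐ[FractionRing A] M) = p := by
      rcases (Nat.dvd_prime hp).mp hdvd with h | h
      · exact absurd h htriv
      · exact h
    haveI : IsNoetherianRing A := inferInstance
    haveI : IsIntegrallyClosed (integralClosure A M) :=
      integralClosure.isIntegrallyClosedOfFiniteExtension (FractionRing A)
    haveI : Module.Finite A (integralClosure A M) :=
      IsIntegralClosure.finite A (FractionRing A) M (integralClosure A M)
    haveI : FaithfulSMul (M ≃ₐ[FractionRing A] M) (integralClosure A M) := faithful_D M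
    letI : Fintype (M ≃ₐ[FractionRing A] M) := Fintype.ofFinite _
    refine no_cover p A k hk hkp (integralClosure A M) (inj_D M) (M ≃ₐ[FractionRing A] M)
      hcardΓ hp.pos (fix_D M) ?_
    intro Q hQ hht
    haveI := hQ
    apply inertia_trivial θ M hmem hint c hcinj hc Q
    apply hram _ (Ideal.comap_isPrime _ _)
    apply comap_thetaD_ne_maximalIdeal φ₀ θ hθ M hmem hint hφm Q
    intro hcon
    rw [hcon] at hht
    exact not_height_maximalIdeal_le_one A hdim hht

end Groth.Agent.Lib.LeadExt
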