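import Mathlib
import Groth.Agent.Lib.LeadExtG

/-!
# Automorphisms of the invariants of a wild `ℤ/p` quotient singularity extend: assembly (lead)
-/

set_option autoImplicit false
set_option maxHeartbeats 400000
set_option linter.style.haveILetI false
set_option linter.unusedSectionVars false
set_option linter.unusedVariables false
universe u v w

noncomputable section

namespace Groth.Agent.Lib.LeadExt

open Polynomial IsLocalRing

/-- an injective endomorphism of an algebraic torsion-free domain is bijective. -/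
theorem algHom_bijective_of_injective {K L : Type*} [CommRing K] [IsDomain K] [CommRing L]
    [IsDomain L] [Algebra K L] [Module.IsTorsionFree K L] [Algebra.IsAlgebraic K L]
    (f : L →ₐ[K] L) (hf : Function.Injective f) : Function.Bijective f := by
  refine ⟨hf, fun b ↦ ?_⟩
  obtain ⟨p, hp, he⟩ := Algebra.IsAlgebraic.isAlgebraic (R := K) b
  let f' : p.rootSet L → p.rootSet L := (rootSet_maps_to' (fun x ↦ x) f).restrict f _ _
  have : f'.Surjective := Finite.injective_iff_surjective.1
    fun _ _ h ↦ Subtype.ext <| hf <| Subtype.ext_iff.1 h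
  obtain ⟨a, ha⟩ := this ⟨b, mem_rootSet.2 ⟨hp, he⟩⟩
  exact ⟨a, Subtype.ext_iff.1 ha⟩

section Fixed

variable {k : Type v} [Field k] {A : Type u} [CommRing A] [Algebra k A]
  {G : Type w} [Group G] [MulSemiringAction G A] [SMulCommClass G k A]

theorem isUnit_coe_iff (b : FixedPoints.subalgebra k A G) : IsUnit (b : A) ↔ IsUnit b := by
  constructor
  · intro h
    obtain ⟨u, hu⟩ := h.exists_right_inv
    have hfix : u ∈ FixedPoints.subalgebra k A G := by
      intro g
      have h1 : (b : A) * (g • u) = 1 := by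
        have := congrArg (fun t => g • t) hu
        simp only [smul_mul', smul_one] at this
        rw [b.2 g] at this
        exact this
      calc g • u = (g • u) * ((b : A) * u) := by rw [hu, mul_one]
        _ = ((b : A) * (g • u)) * u := by ring
        _ = u := by rw [h1, one_mul]
    exact IsUnit.of_mul_eq_one ⟨u, hfix⟩ (Subtype.ext hu)
  · intro h
    exact h.map (FixedPoints.subalgebra k A G).val

theorem mem_maximalIdeal_iff_of_algEquiv [IsLocalRing A]
    (φ : FixedPoints.subalgebra k A G ≃ₐ[k] FixedPoints.subalgebra k A G)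
    (r : FixedPoints.subalgebra k A G) :
    (r : A) ∈ maximalIdeal A ↔ ((φ r : FixedPoints.subalgebra k A G) : A) ∈ maximalIdeal A := by
  rw [IsLocalRing.mem_maximalIdeal, IsLocalRing.mem_maximalIdeal, mem_nonunits_iff,
    mem_nonunits_iff, isUnit_coe_iff, isUnit_coe_iff]
  constructor
  · intro h hu
    apply h
    have := hu.map φ.symm
    rwa [φ.symm_apply_apply] at this
  · intro h hu
    exact h (hu.map φ)

end Fixed

theorem faithful_of_hram (A : Type u) [CommRing A] [IsLocalRing A] [IsDomain A]
    (hdim : 2 ≤ ringKrullDim A) (G : Type w) [Group G] [MulSemiringAction G A]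
    (hram : ∀ P : Ideal A, P.IsPrime → P ≠ maximalIdeal A → P.inertia G = ⊥) :
    FaithfulSMul G A := by
  have hbot : (⊥ : Ideal A) ≠ maximalIdeal A := by
    intro h
    apply not_height_maximalIdeal_le_one A hdim
    rw [← h, Ideal.height_bot]
    exact zero_le_one
  have h0 := hram ⊥ Ideal.isPrime_bot hbot
  constructor
  intro g₁ g₂ h
  have hmem : g₂⁻¹ * g₁ ∈ (⊥ : Ideal A).inertia G := by
    intro a
    rw [mul_smul, h a, inv_smul_smul, sub_self]
    exact zero_mem _
  rw [h0, Subgroup.mem_bot] at hmem
  have := congrArg (fun t => g₂ * t) hmem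
  simpa using this

theorem exists_algEquiv_extending
    (p : ℕ) [Fact p.Prime] (A : Type u) [CommRing A] [IsRegularLocalRing A]
    [IsAdicComplete (IsLocalRing.maximalIdeal A) A] (hdim : 2 ≤ ringKrullDim A)
    (k : Type v) [Field k] [Algebra k A]
    (hk : Function.Surjective (IsLocalRing.residue A ∘ algebraMap k A))
    (hkp : ∀ (L : Type v) [Field L] [Algebra k L], IsGalois k L → Module.finrank k L ≠ p)
    (G : Type w) [Group G] [Finite G] [MulSemiringAction G A] (hcard : Nat.card G = p)
    [SMulCommClass G k A]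
    (hram : ∀ P : Ideal A, P.IsPrime → P ≠ IsLocalRing.maximalIdeal A → P.inertia G = ⊥)
    (φ : FixedPoints.subalgebra k A G ≃ₐ[k] FixedPoints.subalgebra k A G) :
    ∃ ψ : A ≃ₐ[k] A, ∀ x : FixedPoints.subalgebra k A G, ψ x = φ x := by
  haveI : IsDomain A := Groth.Agent.Lib.Helper5.isDomain_of_isRegularLocalRing A
  haveI : FaithfulSMul G A := faithful_of_hram A hdim G hram
  letI : Fintype G := Fintype.ofFinite G
  letI : DecidableEq G := Classical.decEq G
  haveI : Algebra.IsInvariant (FixedPoints.subalgebra k A G) A G :=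
    ⟨fun x h => ⟨⟨x, h⟩, rfl⟩⟩
  haveI : Algebra.IsIntegral (FixedPoints.subalgebra k A G) A :=
    Algebra.IsInvariant.isIntegral (FixedPoints.subalgebra k A G) A G
  have hinj₀ : Function.Injective (algebraMap (FixedPoints.subalgebra k A G) A) :=
    Subtype.val_injective
  have hGR : ∀ (g : G) (r : FixedPoints.subalgebra k A G),
      g • algebraMap (FixedPoints.subalgebra k A G) A r =
        algebraMap (FixedPoints.subalgebra k A G) A r := fun g r => r.2 g
  obtain ⟨ψ₁, hψ₁⟩ := exists_ringHom_extending p A hdim k hk hkp G hcard hram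
    (FixedPoints.subalgebra k A G) hinj₀ hGR φ.toRingEquiv
    (fun r => mem_maximalIdeal_iff_of_algEquiv φ r)
  obtain ⟨ψ₂, hψ₂⟩ := exists_ringHom_extending p A hdim k hk hkp G hcard hram
    (FixedPoints.subalgebra k A G) hinj₀ hGR φ.symm.toRingEquiv
    (fun r => mem_maximalIdeal_iff_of_algEquiv φ.symm r)
  have hψ₁' : ∀ r : FixedPoints.subalgebra k A G,
      ψ₁ (r : A) = ((φ r : FixedPoints.subalgebra k A G) : A) := hψ₁
  have hψ₂' : ∀ r : FixedPoints.subalgebra k A G,
      ψ₂ (r : A) = ((φ.symm r : FixedPoints.subalgebra k A G) : A) := hψ₂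
  have hinj : ∀ (χ : A →+* A) (φ' : FixedPoints.subalgebra k A G ≃+* FixedPoints.subalgebra k A G),
      (∀ r : FixedPoints.subalgebra k A G, χ (r : A) = (φ' r : A)) → Function.Injective χ := by
    intro χ φ' hχ
    rw [injective_iff_map_eq_zero]
    intro a ha
    have hker : RingHom.ker χ = ⊥ := by
      apply Ideal.eq_bot_of_comap_eq_bot (R := FixedPoints.subalgebra k A G)
      rw [eq_bot_iff]
      intro r hr
      rw [Ideal.mem_comap, RingHom.mem_ker] at hr
      have h1 : χ (algebraMap (FixedPoints.subalgebra k A G) A r) = (φ' r : A) := hχ r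
      rw [h1] at hr
      rw [Ideal.mem_bot]
      have h2 : φ' r = 0 := Subtype.ext hr
      exact φ'.injective (h2.trans (map_zero φ').symm)
    have : a ∈ RingHom.ker χ := ha
    rw [hker] at this
    exact this
  have hinj₁ : Function.Injective ψ₁ := hinj ψ₁ φ.toRingEquiv hψ₁
  have hinj₂ : Function.Injective ψ₂ := hinj ψ₂ φ.symm.toRingEquiv hψ₂
  -- `ψ₁ ∘ ψ₂` is an injective endomorphism over the invariants, hence bijective
  haveI : IsDomain (FixedPoints.subalgebra k A G) := hinj₀.isDomain
  haveI : Module.IsTorsionFree (FixedPoints.subalgebra k A G) A :=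
    Module.isTorsionFree_iff_algebraMap_injective.mpr hinj₀
  haveI : Algebra.IsAlgebraic (FixedPoints.subalgebra k A G) A := inferInstance
  let χ : A →ₐ[FixedPoints.subalgebra k A G] A :=
    { (ψ₁.comp ψ₂) with
      commutes' := fun r => by
        change ψ₁ (ψ₂ (r : A)) = (r : A)
        rw [hψ₂' r, hψ₁', φ.apply_symm_apply] }
  have hχ : Function.Bijective χ := algHom_bijective_of_injective χ (hinj₁.comp hinj₂)
  have hsurj₁ : Function.Surjective ψ₁ := by
    intro a
    obtain ⟨b, hb⟩ := hχ.2 a
    exact ⟨ψ₂ b, hb⟩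
  let ψk : A →ₐ[k] A :=
    { ψ₁ with
      commutes' := fun c => by
        have h1 := hψ₁' (algebraMap k (FixedPoints.subalgebra k A G) c)
        rw [φ.commutes] at h1
        exact h1 }
  refine ⟨AlgEquiv.ofBijective ψk ⟨hinj₁, hsurj₁⟩, fun x => ?_⟩
  exact hψ₁' x

end Groth.Agent.Lib.LeadExt
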