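import Mathlib
import Groth.Agent.Lib.LeadExtH

/-!
# Counting automorphisms of a domain over a subring (lead)
-/

set_option autoImplicit false
set_option maxHeartbeats 400000
set_option linter.style.haveILetI false
set_option linter.unusedSectionVars false
set_option linter.unusedVariables false
universe u v w

noncomputable section

namespace Groth.Agent.Lib.LeadExt

open Polynomial IsLocalRing

/-- a domain finite over a subring has at most rank-many automorphisms. -/
theorem card_algEquiv_le_finrank (R : Type v) (A : Type u) [CommRing R] [CommRing A] [IsDomain A]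
    [Algebra R A] [Module.Finite R A] (hinj : Function.Injective (algebraMap R A)) :
    Finite (A ≃ₐ[R] A) ∧ Nat.card (A ≃ₐ[R] A) ≤ Module.finrank R A := by
  haveI : FaithfulSMul R A := (faithfulSMul_iff_algebraMap_injective R A).mpr hinj
  haveI : IsDomain R := hinj.isDomain
  letI := FractionRing.liftAlgebra R (FractionRing A)
  haveI := FractionRing.isScalarTower_liftAlgebra R (FractionRing A)
  have hfr : Module.finrank (FractionRing R) (FractionRing A) = Module.finrank R A :=
    IsFractionRing.finrank_eq R (FractionRing R) A (FractionRing A)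
  have hpos : 0 < Module.finrank R A := Module.finrank_pos
  haveI : FiniteDimensional (FractionRing R) (FractionRing A) :=
    Module.finite_of_finrank_pos (hfr ▸ hpos)
  have hinj' := IsFractionRing.fieldEquivOfAlgEquivHom_injective R A
    (FractionRing R) (FractionRing A)
  haveI : Finite (A ≃ₐ[R] A) := Finite.of_injective _ hinj'
  refine ⟨inferInstance, ?_⟩
  calc Nat.card (A ≃ₐ[R] A)
      ≤ Nat.card (FractionRing A ≃ₐ[FractionRing R] FractionRing A) :=
        Nat.card_le_card_of_injective _ hinj'
    _ = Fintype.card (FractionRing A ≃ₐ[FractionRing R] FractionRing A) :=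
        Nat.card_eq_fintype_card
    _ ≤ Module.finrank (FractionRing R) (FractionRing A) := AlgEquiv.card_le
    _ = Module.finrank R A := hfr

theorem card_algEquiv_eq_finrank
    (p : ℕ) [Fact p.Prime] (A : Type u) [CommRing A] [IsRegularLocalRing A]
    [IsAdicComplete (IsLocalRing.maximalIdeal A) A] (hdim : 2 ≤ ringKrullDim A)
    (k : Type v) [Field k] [Algebra k A]
    (hk : Function.Surjective (IsLocalRing.residue A ∘ algebraMap k A))
    (hkp : ∀ (L : Type v) [Field L] [Algebra k L], IsGalois k L → Module.finrank k L ≠ p)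
    (G : Type w) [Group G] [Finite G] [MulSemiringAction G A] (hcard : Nat.card G = p)
    [SMulCommClass G k A]
    (hram : ∀ P : Ideal A, P.IsPrime → P ≠ IsLocalRing.maximalIdeal A → P.inertia G = ⊥)
    (R : Type v) [CommRing R] [Algebra k R] [Algebra R A] [IsScalarTower k R A] [Module.Finite R A]
    (hRinj : Function.Injective (algebraMap R A))
    (hRG : ∀ (σ : G) (r : R), σ • algebraMap R A r = algebraMap R A r)
    (hgal : p * Nat.card {φ : FixedPoints.subalgebra k A G ≃ₐ[k] FixedPoints.subalgebra k A G //
        ∀ b : FixedPoints.subalgebra k A G, (b : A) ∈ Set.range (algebraMap R A) → (φ b : A) = b} =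
      Module.finrank R A) :
    Nat.card (A ≃ₐ[R] A) = Module.finrank R A := by
  haveI : IsDomain A := Groth.Agent.Lib.Helper5.isDomain_of_isRegularLocalRing A
  haveI : FaithfulSMul G A := faithful_of_hram A hdim G hram
  obtain ⟨hfin, hle⟩ := card_algEquiv_le_finrank R A hRinj
  haveI := hfin
  apply le_antisymm hle
  rw [← hgal]
  have hext : ∀ φ : {φ : FixedPoints.subalgebra k A G ≃ₐ[k] FixedPoints.subalgebra k A G //
        ∀ b : FixedPoints.subalgebra k A G, (b : A) ∈ Set.range (algebraMap R A) → (φ b : A) = b},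
      ∃ Ψ : A ≃ₐ[R] A, ∀ x : FixedPoints.subalgebra k A G, Ψ (x : A) = (φ.1 x : A) := by
    intro φ
    obtain ⟨ψ, hψ⟩ := exists_algEquiv_extending p A hdim k hk hkp G hcard hram φ.1
    refine ⟨AlgEquiv.ofRingEquiv (f := ψ.toRingEquiv) (fun r => ?_), hψ⟩
    have hb : algebraMap R A r ∈ FixedPoints.subalgebra k A G := fun g => hRG g r
    have h1 := hψ ⟨algebraMap R A r, hb⟩
    have h2 := φ.2 ⟨algebraMap R A r, hb⟩ ⟨r, rfl⟩
    exact h1.trans h2
  choose Ψ hΨ using hext
  let gR : G → (A ≃ₐ[R] A) := fun g =>
    AlgEquiv.ofRingEquiv (f := MulSemiringAction.toRingEquiv G A g) (fun r => hRG g r)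
  let F : {φ : FixedPoints.subalgebra k A G ≃ₐ[k] FixedPoints.subalgebra k A G //
        ∀ b : FixedPoints.subalgebra k A G, (b : A) ∈ Set.range (algebraMap R A) → (φ b : A) = b} × G →
      (A ≃ₐ[R] A) := fun x => (Ψ x.1) * (gR x.2)
  have hF : Function.Injective F := by
    rintro ⟨φ, g⟩ ⟨φ', g'⟩ h
    have h1 : ∀ a : A, Ψ φ (g • a) = Ψ φ' (g' • a) := fun a => AlgEquiv.congr_fun h a
    have hφ : φ = φ' := by
      apply Subtype.ext
      apply AlgEquiv.ext
      intro b
      apply Subtype.ext
      have := h1 (b : A)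
      rw [b.2 g, b.2 g', hΨ, hΨ] at this
      exact this
    subst hφ
    have hg : g = g' := by
      apply eq_of_smul_eq_smul (α := A)
      intro a
      exact (Ψ φ).injective (h1 a)
    rw [hg]
  calc p * Nat.card {φ : FixedPoints.subalgebra k A G ≃ₐ[k] FixedPoints.subalgebra k A G //
        ∀ b : FixedPoints.subalgebra k A G, (b : A) ∈ Set.range (algebraMap R A) → (φ b : A) = b}
      = Nat.card ({φ : FixedPoints.subalgebra k A G ≃ₐ[k] FixedPoints.subalgebra k A G //
        ∀ b : FixedPoints.subalgebra k A G, (b : A) ∈ Set.range (algebraMap R A) →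
          (φ b : A) = b} × G) := by rw [Nat.card_prod, hcard, mul_comm]
    _ ≤ Nat.card (A ≃ₐ[R] A) := Nat.card_le_card_of_injective F hF

end Groth.Agent.Lib.LeadExt
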