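import Mathlib.LinearAlgebra.Determinant
import Mathlib.LinearAlgebra.Charpoly.ToMatrix
import Mathlib.LinearAlgebra.Charpoly.BaseChange
import Mathlib.LinearAlgebra.Matrix.Charpoly.Basic
import Mathlib.LinearAlgebra.Dimension.Constructions

/-!
Lead library (S14073), part A: multiplicativity of the characteristic polynomial in short exact
sequences of finite free modules.
-/

set_option autoImplicit false
set_option maxHeartbeats 400000
set_option linter.style.haveILetI false
set_option linter.unusedSectionVars false
set_option linter.unusedVariables false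

open Module

namespace Groth.Agent.Lib.LeadFFR

section sub

variable {R V : Type*} [CommRing R] [AddCommGroup V]
    [Module R V] [Module.Finite R V] [Module.Free R V]
    (W : Submodule R V) [Module.Free R W] [Module.Finite R W] [Module.Free R (V ⧸ W)]

open Module.Basis in
/-- charpoly version of `LinearMap.det_eq_det_mul_det` (same proof). -/
theorem charpoly_eq_charpoly_mul_charpoly (e : V →ₗ[R] V) (he : W ≤ W.comap e) :
    e.charpoly = (e.restrict he).charpoly * (W.mapQ W e he).charpoly := by
  let m := Module.Free.ChooseBasisIndex R W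
  let bW : Basis m R W := Module.Free.chooseBasis R W
  let n := Module.Free.ChooseBasisIndex R (V ⧸ W)
  let bQ : Basis n R (V ⧸ W) := Module.Free.chooseBasis R (V ⧸ W)
  let b := sumQuot bW bQ
  let A : Matrix m m R := LinearMap.toMatrix bW bW (e.restrict he)
  let B : Matrix m n R := Matrix.of fun i l ↦
    ((sumQuot bW bQ).repr (e ((sumQuot bW bQ) (Sum.inr l)))) (Sum.inl i)
  let D : Matrix n n R := LinearMap.toMatrix bQ bQ (W.mapQ W e he)
  suffices LinearMap.toMatrix b b e = Matrix.fromBlocks A B 0 D by
    rw [← LinearMap.charpoly_toMatrix e b, this, ← LinearMap.charpoly_toMatrix (e.restrict he) bW,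
      ← LinearMap.charpoly_toMatrix (W.mapQ W e he) bQ, Matrix.charpoly_fromBlocks_zero₂₁]
  ext u v
  cases u with
  | inl i =>
    cases v with
    | inl k =>
      simp only [b, sumQuot_inl, Matrix.fromBlocks_apply₁₁, A, LinearMap.toMatrix_apply]
      apply sumQuot_repr_inl_of_mem
    | inr l => simp [b, LinearMap.toMatrix_apply, Matrix.fromBlocks_apply₁₂, B]
  | inr j =>
    cases v with
    | inl k =>
      suffices W.mkQ (e (bW k)) = 0 by simp [LinearMap.toMatrix_apply, b, this]
      rw [← LinearMap.mem_ker, Submodule.ker_mkQ]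
      exact he (Submodule.coe_mem (bW k))
    | inr l =>
      simp only [LinearMap.toMatrix_apply, sumQuot_repr_inr,
        Matrix.fromBlocks_apply₂₂, b, D]
      rw [← sumQuot_inr bW bQ l, W.mapQ_apply]
      simp

end sub

section ses

variable {B : Type*} [CommRing B] {K V M : Type*} [AddCommGroup K] [Module B K]
  [AddCommGroup V] [Module B V] [AddCommGroup M] [Module B M]
  [Module.Finite B K] [Module.Free B K] [Module.Finite B V] [Module.Free B V]
  [Module.Finite B M] [Module.Free B M]

/-- Characteristic polynomials are multiplicative in short exact sequences. -/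
theorem charpoly_of_exact (i : K →ₗ[B] V) (q : V →ₗ[B] M) (hi : Function.Injective i)
    (hq : Function.Surjective q) (hex : Function.Exact i q)
    (α : K →ₗ[B] K) (β : V →ₗ[B] V) (γ : M →ₗ[B] M)
    (h1 : i ∘ₗ α = β ∘ₗ i) (h2 : q ∘ₗ β = γ ∘ₗ q) :
    β.charpoly = α.charpoly * γ.charpoly := by
  let W : Submodule B V := LinearMap.range i
  have hW : W = LinearMap.ker q := (hex.linearMap_ker_eq).symm
  let eK : K ≃ₗ[B] W := LinearEquiv.ofInjective i hi
  let eM : (V ⧸ W) ≃ₗ[B] M := (Submodule.quotEquivOfEq W (LinearMap.ker q) hW).trans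
    (q.quotKerEquivOfSurjective hq)
  haveI : Module.Free B W := Module.Free.of_equiv eK
  haveI : Module.Finite B W := Module.Finite.equiv eK
  haveI : Module.Free B (V ⧸ W) := Module.Free.of_equiv eM.symm
  have he : W ≤ W.comap β := by
    rintro _ ⟨x, rfl⟩
    rw [Submodule.mem_comap]
    exact ⟨α x, LinearMap.congr_fun h1 x⟩
  rw [charpoly_eq_charpoly_mul_charpoly W β he]
  congr 1
  · rw [← LinearEquiv.charpoly_conj eK α]
    congr 1
    ext x
    obtain ⟨y, hy⟩ : ∃ y, eK y = x := eK.surjective x
    subst hy
    simp only [LinearEquiv.conj_apply, LinearMap.comp_apply, LinearEquiv.coe_coe,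
      LinearEquiv.symm_apply_apply, LinearMap.coe_restrict_apply]
    exact (LinearMap.congr_fun h1 y).symm
  · rw [← LinearEquiv.charpoly_conj eM (W.mapQ W β he)]
    congr 1
    ext x
    obtain ⟨y, hy⟩ : ∃ y, eM y = x := eM.surjective x
    subst hy
    obtain ⟨v, rfl⟩ := Submodule.Quotient.mk_surjective W y
    simp only [LinearEquiv.conj_apply, LinearMap.comp_apply, LinearEquiv.coe_coe,
      LinearEquiv.symm_apply_apply]
    have h3 : ∀ v : V, eM (Submodule.Quotient.mk v) = q v := fun v => rfl
    rw [h3]
    have h4 : (W.mapQ W β he) (Submodule.Quotient.mk v) = Submodule.Quotient.mk (β v) := rfl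
    rw [h4, h3]
    exact LinearMap.congr_fun h2 v

end ses

end Groth.Agent.Lib.LeadFFR
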