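import Groth.Agent.Lib.LeadFFRa
import Mathlib.RingTheory.Localization.Module
import Mathlib.RingTheory.Localization.Finiteness
import Mathlib.RingTheory.LocalProperties.Projective
import Mathlib.Algebra.Module.LocalizedModule.Exact
import Mathlib.RingTheory.Flat.Stability
import Mathlib.RingTheory.LocalRing.Module

/-!
Lead library (S14073), part B: `LocalizedModule.map` — functoriality, exactness, characteristic
polynomials.
-/

set_option autoImplicit false
set_option maxHeartbeats 400000
set_option linter.style.haveILetI false
set_option linter.unusedSectionVars false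
set_option linter.unusedVariables false

open Module

namespace Groth.Agent.Lib.LeadFFR

section loc

variable {A : Type*} [CommRing A] (S : Submonoid A)
  {M N P : Type*} [AddCommGroup M] [Module A M] [AddCommGroup N] [Module A N]
  [AddCommGroup P] [Module A P]

theorem map_comp (f : M →ₗ[A] N) (g : N →ₗ[A] P) :
    LocalizedModule.map S (g ∘ₗ f) = LocalizedModule.map S g ∘ₗ LocalizedModule.map S f := by
  ext x
  induction x using LocalizedModule.induction_on with
  | h m s => simp only [LocalizedModule.map_mk, LinearMap.comp_apply]

theorem map_exact (f : M →ₗ[A] N) (g : N →ₗ[A] P) (hex : Function.Exact f g) :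
    Function.Exact (LocalizedModule.map S f) (LocalizedModule.map S g) := by
  intro y
  constructor
  · intro hy
    induction y using LocalizedModule.induction_on with
    | h n s =>
      rw [LocalizedModule.map_mk, ← LocalizedModule.zero_mk (1 : S), LocalizedModule.mk_eq] at hy
      obtain ⟨u, hu⟩ := hy
      have h0 : g (u.1 • n) = 0 := by
        rw [map_smul]
        simpa [Submonoid.smul_def] using hu
      obtain ⟨m, hm⟩ := (hex _).mp h0
      refine ⟨LocalizedModule.mk m (u * s), ?_⟩
      rw [LocalizedModule.map_mk, hm, LocalizedModule.mk_eq]
      refine ⟨1, ?_⟩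
      simp only [one_smul, Submonoid.smul_def, mul_smul]
      rw [smul_comm]
  · rintro ⟨x, rfl⟩
    induction x using LocalizedModule.induction_on with
    | h m s =>
      rw [LocalizedModule.map_mk, LocalizedModule.map_mk, hex.apply_apply_eq_zero,
        LocalizedModule.zero_mk]

variable [Module.Finite A N] [Module.Free A N]

instance free_localizedModule : Module.Free (Localization S) (LocalizedModule S N) :=
  Module.free_of_isLocalizedModule S (LocalizedModule.mkLinearMap S N)

theorem charpoly_map (ψ : N →ₗ[A] N) :
    (LocalizedModule.map S ψ).charpoly = ψ.charpoly.map (algebraMap A (Localization S)) := by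
  classical
  let b := Module.Free.chooseBasis A N
  let b' := b.ofIsLocalizedModule (Localization S) S (LocalizedModule.mkLinearMap S N)
  rw [← LinearMap.charpoly_toMatrix (LocalizedModule.map S ψ) b', ← LinearMap.charpoly_toMatrix ψ b,
    ← Matrix.charpoly_map]
  congr 1
  ext i j
  rw [LinearMap.toMatrix_apply, Matrix.map_apply, LinearMap.toMatrix_apply]
  have h1 : b' j = LocalizedModule.mkLinearMap S N (b j) :=
    Basis.ofIsLocalizedModule_apply (Localization S) S _ b j
  rw [h1, LocalizedModule.mkLinearMap_apply, LocalizedModule.map_mk]
  exact Basis.ofIsLocalizedModule_repr_apply (Localization S) S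
    (LocalizedModule.mkLinearMap S N) b (ψ (b j)) i

end loc

end Groth.Agent.Lib.LeadFFR
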