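import Groth.Agent.Lib.LeadFFRb
import Groth.Prelude.Def_W4c1famcyclesFFR
import Mathlib.LinearAlgebra.TensorProduct.Quotient
import Mathlib.RingTheory.Ideal.AssociatedPrime.Basic
import Mathlib.RingTheory.Localization.AtPrime.Basic

/-!
Lead library (S14073), part C: over a local ring of depth zero the cokernel of an injective map of
finite free modules is free; modules with a finite free resolution are free at associated primes.
-/

set_option autoImplicit false
set_option maxHeartbeats 400000
set_option linter.style.haveILetI false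
set_option linter.unusedSectionVars false
set_option linter.unusedVariables false

open Module TensorProduct

namespace Groth.Agent.Lib.LeadFFR

section loc1

variable {B : Type*} [CommRing B] [IsLocalRing B]
  {K F M : Type*} [AddCommGroup K] [Module B K] [AddCommGroup F] [Module B F]
  [AddCommGroup M] [Module B M]

theorem tmul_one_eq_zero_iff (x : F) :
    (1 : B ⧸ IsLocalRing.maximalIdeal B) ⊗ₜ[B] x = 0 ↔
      x ∈ (IsLocalRing.maximalIdeal B) • (⊤ : Submodule B F) := by
  rw [← (quotTensorEquivQuotSMul F (IsLocalRing.maximalIdeal B)).map_eq_zero_iff,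
    quotTensorEquivQuotSMul_mk_one_tmul, Submodule.Quotient.mk_eq_zero]

theorem smul_eq_zero_of_mem_smul_top (z : B)
    (hz : ∀ x ∈ IsLocalRing.maximalIdeal B, x * z = 0) (w : F)
    (hw : w ∈ (IsLocalRing.maximalIdeal B) • (⊤ : Submodule B F)) : z • w = 0 := by
  refine Submodule.smul_induction_on hw (fun a ha y _ => ?_) (fun x y hx hy => ?_)
  · rw [smul_smul, mul_comm, hz a ha, zero_smul]
  · rw [smul_add, hx, hy, add_zero]

variable [Module.Finite B K] [Module.Free B K] [Module.Finite B F] [Module.Free B F]

theorem lTensor_residueField_injective_of_socle (z : B) (hz0 : z ≠ 0)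
    (hz : ∀ x ∈ IsLocalRing.maximalIdeal B, x * z = 0)
    (i : K →ₗ[B] F) (hi : Function.Injective i) :
    Function.Injective (i.lTensor (IsLocalRing.ResidueField B)) := by
  rw [injective_iff_map_eq_zero]
  intro x hx
  obtain ⟨v, rfl⟩ := TensorProduct.mk_surjective B K (IsLocalRing.ResidueField B)
    Ideal.Quotient.mk_surjective x
  change (1 : B ⧸ IsLocalRing.maximalIdeal B) ⊗ₜ[B] i v = 0 at hx
  change (1 : B ⧸ IsLocalRing.maximalIdeal B) ⊗ₜ[B] v = 0
  rw [tmul_one_eq_zero_iff] at hx ⊢
  have h1 : z • i v = 0 := smul_eq_zero_of_mem_smul_top z hz _ hx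
  have h2 : z • v = 0 := hi (by rw [map_smul, h1, map_zero])
  let b := Module.Free.chooseBasis B K
  have h3 : ∀ j, b.repr v j ∈ IsLocalRing.maximalIdeal B := by
    intro j
    by_contra hne
    have hu : IsUnit (b.repr v j) := by
      by_contra hnu
      exact hne ((IsLocalRing.mem_maximalIdeal _).mpr hnu)
    have h4 : z * b.repr v j = 0 := by
      have h5 := congrArg (fun w => b.repr w j) h2
      simpa using h5
    exact hz0 (hu.mul_left_eq_zero.mp h4)
  rw [← b.sum_repr v]
  exact Submodule.sum_mem _ (fun j _ => Submodule.smul_mem_smul (h3 j) Submodule.mem_top)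

theorem free_of_exact_of_socle (z : B) (hz0 : z ≠ 0)
    (hz : ∀ x ∈ IsLocalRing.maximalIdeal B, x * z = 0)
    (i : K →ₗ[B] F) (q : F →ₗ[B] M) (hi : Function.Injective i)
    (hq : Function.Surjective q) (hex : Function.Exact i q) : Module.Free B M :=
  Module.free_of_lTensor_residueField_injective i q hq hex
    (lTensor_residueField_injective_of_socle z hz0 hz i hi)

end loc1

end Groth.Agent.Lib.LeadFFR
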