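import Groth.Agent.Lib.LeadFFRc
import Mathlib.RingTheory.Polynomial.Basic
import Mathlib.Algebra.Polynomial.Div

/-!
Lead library (S14073), part D: freeness at associated primes, the characteristic ratio.
-/

set_option autoImplicit false
set_option maxHeartbeats 400000
set_option linter.style.haveILetI false
set_option linter.unusedSectionVars false
set_option linter.unusedVariables false

universe u

open Module Polynomial

namespace Groth.Agent.Lib.LeadFFR

section split

variable {B : Type*} [CommRing B] [IsLocalRing B]
  {K F M : Type*} [AddCommGroup K] [Module B K] [AddCommGroup F] [Module B F]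
  [AddCommGroup M] [Module B M]
  [Module.Finite B K] [Module.Finite B F] [Module.Free B F] [Module.Free B M]

theorem free_of_exact_of_free (i : K →ₗ[B] F) (q : F →ₗ[B] M) (hi : Function.Injective i)
    (hq : Function.Surjective q) (hex : Function.Exact i q) : Module.Free B K := by
  obtain ⟨σ, hσ⟩ := Module.projective_lifting_property q LinearMap.id hq
  let e : K ≃ₗ[B] LinearMap.range i := LinearEquiv.ofInjective i hi
  have hmem : ∀ v : F, ((LinearMap.id : F →ₗ[B] F) - σ ∘ₗ q) v ∈ LinearMap.range i := by
    intro v
    rw [← hex.linearMap_ker_eq, LinearMap.mem_ker]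
    simp only [LinearMap.sub_apply, LinearMap.id_apply, LinearMap.comp_apply, map_sub]
    have h1 := LinearMap.congr_fun hσ (q v)
    simp only [LinearMap.comp_apply, LinearMap.id_apply] at h1
    rw [h1, sub_self]
  let ρ : F →ₗ[B] K := e.symm.toLinearMap ∘ₗ
    (LinearMap.codRestrict (LinearMap.range i) ((LinearMap.id : F →ₗ[B] F) - σ ∘ₗ q) hmem)
  have H : ρ ∘ₗ i = LinearMap.id := by
    ext k
    simp only [ρ, LinearMap.comp_apply, LinearEquiv.coe_coe, LinearMap.id_apply]
    apply e.injective
    rw [LinearEquiv.apply_symm_apply]
    apply Subtype.ext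
    simp only [LinearMap.codRestrict_apply, LinearMap.sub_apply, LinearMap.id_apply,
      LinearMap.comp_apply]
    rw [hex.apply_apply_eq_zero, map_zero, sub_zero]
    rfl
  haveI : Module.Projective B K := Module.Projective.of_split i ρ H
  exact Module.free_of_flat_of_isLocalRing

end split

section ass

variable {A : Type u} [CommRing A] [IsNoetherianRing A]

theorem eq_zero_of_forall_ass (a : A)
    (h : ∀ (P : Ideal A) [P.IsPrime], P ∈ associatedPrimes A A →
      algebraMap A (Localization.AtPrime P) a = 0) : a = 0 := by
  by_contra hne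
  obtain ⟨P, hP, hle⟩ := exists_le_isAssociatedPrime_of_isNoetherianRing A a hne
  haveI := hP.isPrime
  obtain ⟨t, ht⟩ := (IsLocalization.map_eq_zero_iff P.primeCompl (Localization.AtPrime P) a).mp
    (h P hP)
  apply t.2
  apply hle
  rw [Submodule.mem_colon_singleton]
  simpa [smul_eq_mul] using ht

theorem exists_socle (P : Ideal A) [P.IsPrime] (hP : P ∈ associatedPrimes A A) :
    ∃ z : Localization.AtPrime P, z ≠ 0 ∧
      ∀ x ∈ IsLocalRing.maximalIdeal (Localization.AtPrime P), x * z = 0 := by
  obtain ⟨-, x, hx⟩ := (isAssociatedPrime_iff).mp hP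
  refine ⟨algebraMap A (Localization.AtPrime P) x, ?_, ?_⟩
  · intro h0
    obtain ⟨t, ht⟩ := (IsLocalization.map_eq_zero_iff P.primeCompl (Localization.AtPrime P) x).mp h0
    apply t.2
    change (t : A) ∈ P
    have h1 : (t : A) ∈ (⊥ : Submodule A A).colon {x} := by
      rw [Submodule.mem_colon_singleton]
      simpa [smul_eq_mul] using ht
    exact (SetLike.ext_iff.mp hx (t : A)).mpr h1
  · intro y hy
    obtain ⟨a, s, rfl⟩ := IsLocalization.exists_mk'_eq P.primeCompl y
    have ha : a ∈ P := (IsLocalization.AtPrime.mk'_mem_maximal_iff (Localization.AtPrime P) P a s).mp hy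
    have h0 : a * x = 0 := by
      have ha' := (SetLike.ext_iff.mp hx a).mp ha
      rw [Submodule.mem_colon_singleton] at ha'
      simpa [smul_eq_mul] using ha'
    rw [mul_comm, IsLocalization.mul_mk'_eq_mk'_of_mul, mul_comm, h0, IsLocalization.mk'_zero]

theorem finite_of_hasFFR : ∀ (n : ℕ) (M : Type u) [AddCommGroup M] [Module A M],
    FamCyc.HasFiniteFreeResolutionLE A n M → Module.Finite A M := by
  intro n
  cases n with
  | zero =>
    intro M _ _ h
    exact h.2
  | succ n =>
    intro M _ _ h
    obtain ⟨k, f, hf, -⟩ := h
    exact Module.Finite.of_surjective f hf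

theorem free_localizedModule_of_mem_associatedPrimes (P : Ideal A) [P.IsPrime]
    (hP : P ∈ associatedPrimes A A) :
    ∀ (n : ℕ) (M : Type u) [AddCommGroup M] [Module A M],
      FamCyc.HasFiniteFreeResolutionLE A n M →
      Module.Free (Localization.AtPrime P) (LocalizedModule P.primeCompl M) := by
  intro n
  induction n with
  | zero =>
    intro M _ _ h
    haveI := h.1
    haveI := h.2
    exact free_localizedModule P.primeCompl
  | succ n ih =>
    intro M _ _ h
    obtain ⟨k, f, hf, hK⟩ := h
    haveI := ih (LinearMap.ker f) hK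
    haveI : Module.Finite A (LinearMap.ker f) := Module.IsNoetherian.finite A _
    obtain ⟨z, hz0, hz⟩ := exists_socle P hP
    exact free_of_exact_of_socle (K := LocalizedModule P.primeCompl (LinearMap.ker f))
      (F := LocalizedModule P.primeCompl (Fin k → A)) z hz0 hz
      (LocalizedModule.map P.primeCompl (LinearMap.ker f).subtype)
      (LocalizedModule.map P.primeCompl f)
      (LocalizedModule.map_injective _ _ (Submodule.subtype_injective _))
      (LocalizedModule.map_surjective _ _ hf)
      (map_exact P.primeCompl _ _ (LinearMap.exact_subtype_ker_map f))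

end ass

end Groth.Agent.Lib.LeadFFR
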