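import Groth.Agent.Lib.LeadFFRd

/-!
Lead library (S14073), part E: the characteristic ratio of an endomorphism of a module with a finite
free resolution, and the determinant.
-/

set_option autoImplicit false
set_option maxHeartbeats 400000
set_option linter.style.haveILetI false
set_option linter.unusedSectionVars false
set_option linter.unusedVariables false

universe u

open Module Polynomial

namespace Groth.Agent.Lib.LeadFFR

variable {A : Type u} [CommRing A] [IsNoetherianRing A]

/-- `P / Q` is the characteristic polynomial of `φ` at every prime where `M` is free. -/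
def CharData (M : Type u) [AddCommGroup M] [Module A M] [Module.Finite A M] (φ : M →ₗ[A] M)
    (P Q : A[X]) : Prop :=
  P.Monic ∧ Q.Monic ∧ ∀ (p : Ideal A) [p.IsPrime]
    [Module.Free (Localization.AtPrime p) (LocalizedModule p.primeCompl M)],
    (LocalizedModule.map p.primeCompl φ).charpoly * Q.map (algebraMap A (Localization.AtPrime p)) =
      P.map (algebraMap A (Localization.AtPrime p))

theorem exists_charData : ∀ (n : ℕ) (M : Type u) [AddCommGroup M] [Module A M] [Module.Finite A M],
    FamCyc.HasFiniteFreeResolutionLE A n M → ∀ φ : M →ₗ[A] M,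
      ∃ P Q : A[X], CharData M φ P Q := by
  intro n
  induction n with
  | zero =>
    intro M _ _ _ h φ
    haveI := h.1
    refine ⟨φ.charpoly, 1, LinearMap.charpoly_monic φ, monic_one, ?_⟩
    intro p _ _
    rw [Polynomial.map_one, mul_one]
    exact charpoly_map p.primeCompl φ
  | succ n ih =>
    intro M _ _ _ h φ
    obtain ⟨k, f, hf, hK⟩ := h
    haveI : Module.Finite A (LinearMap.ker f) := Module.IsNoetherian.finite A _
    obtain ⟨ψ, hψ⟩ := Module.projective_lifting_property f (φ ∘ₗ f) hf
    have hker : ∀ x ∈ LinearMap.ker f, ψ x ∈ LinearMap.ker f := by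
      intro x hx
      rw [LinearMap.mem_ker] at hx ⊢
      have h1 := LinearMap.congr_fun hψ x
      simp only [LinearMap.comp_apply] at h1
      rw [h1, hx, map_zero]
    obtain ⟨PK, QK, hPK, hQK, hK'⟩ := ih (LinearMap.ker f) hK (ψ.restrict hker)
    refine ⟨ψ.charpoly * QK, PK, (LinearMap.charpoly_monic ψ).mul hQK, hPK, ?_⟩
    intro p _ _
    have hi : Function.Injective (LocalizedModule.map p.primeCompl (LinearMap.ker f).subtype) :=
      LocalizedModule.map_injective _ _ (Submodule.subtype_injective _)
    have hq : Function.Surjective (LocalizedModule.map p.primeCompl f) :=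
      LocalizedModule.map_surjective _ _ hf
    have hex : Function.Exact (LocalizedModule.map p.primeCompl (LinearMap.ker f).subtype)
        (LocalizedModule.map p.primeCompl f) :=
      map_exact p.primeCompl _ _ (LinearMap.exact_subtype_ker_map f)
    haveI : Module.Free (Localization.AtPrime p)
        (LocalizedModule p.primeCompl (LinearMap.ker f)) :=
      free_of_exact_of_free (K := LocalizedModule p.primeCompl (LinearMap.ker f))
        (F := LocalizedModule p.primeCompl (Fin k → A)) _ _ hi hq hex
    have h1 : (LocalizedModule.map p.primeCompl (LinearMap.ker f).subtype) ∘ₗ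
        (LocalizedModule.map p.primeCompl (ψ.restrict hker)) =
        (LocalizedModule.map p.primeCompl ψ) ∘ₗ
          (LocalizedModule.map p.primeCompl (LinearMap.ker f).subtype) := by
      rw [← map_comp, ← map_comp]
      congr 1
    have h2 : (LocalizedModule.map p.primeCompl f) ∘ₗ (LocalizedModule.map p.primeCompl ψ) =
        (LocalizedModule.map p.primeCompl φ) ∘ₗ (LocalizedModule.map p.primeCompl f) := by
      rw [← map_comp, ← map_comp, hψ]
    have hmul := charpoly_of_exact (K := LocalizedModule p.primeCompl (LinearMap.ker f))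
      (V := LocalizedModule p.primeCompl (Fin k → A)) _ _ hi hq hex
      (LocalizedModule.map p.primeCompl (ψ.restrict hker))
      (LocalizedModule.map p.primeCompl ψ) (LocalizedModule.map p.primeCompl φ) h1 h2
    have hK'' := hK' p
    rw [Polynomial.map_mul, ← charpoly_map p.primeCompl ψ, hmul, ← hK'']
    ring

theorem existsUnique_det (M : Type u) [AddCommGroup M] [Module A M] (n : ℕ)
    (hM : FamCyc.HasFiniteFreeResolutionLE A n M) (φ : M →ₗ[A] M) :
    ∃! a : A, ∀ (p : Ideal A) [p.IsPrime],
      Module.Free (Localization.AtPrime p) (LocalizedModule p.primeCompl M) →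
        algebraMap A (Localization.AtPrime p) a =
          LinearMap.det (LocalizedModule.map p.primeCompl φ) := by
  haveI := finite_of_hasFFR n M hM
  obtain ⟨P, Q, hP, hQ, hPQ⟩ := exists_charData n M hM φ
  have hfreeAss : ∀ (p : Ideal A) [p.IsPrime], p ∈ associatedPrimes A A →
      Module.Free (Localization.AtPrime p) (LocalizedModule p.primeCompl M) :=
    fun p _ hp => free_localizedModule_of_mem_associatedPrimes p hp n M hM
  have key : ∀ (p : Ideal A) [p.IsPrime]
      [Module.Free (Localization.AtPrime p) (LocalizedModule p.primeCompl M)],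
      (P %ₘ Q).map (algebraMap A (Localization.AtPrime p)) = 0 ∧
      (P /ₘ Q).map (algebraMap A (Localization.AtPrime p)) =
        (LocalizedModule.map p.primeCompl φ).charpoly := by
    intro p _ _
    have h1 := hPQ p
    have hQ' : (Q.map (algebraMap A (Localization.AtPrime p))).Monic := hQ.map _
    have h2 := Polynomial.div_modByMonic_unique
      (f := P.map (algebraMap A (Localization.AtPrime p)))
      ((LocalizedModule.map p.primeCompl φ).charpoly) 0 hQ'
      ⟨by rw [zero_add, mul_comm]; exact h1, by
        rw [degree_zero]
        exact bot_lt_iff_ne_bot.mpr (degree_ne_bot.mpr hQ'.ne_zero)⟩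
    rw [Polynomial.map_modByMonic _ hQ, Polynomial.map_divByMonic _ hQ]
    exact ⟨h2.2, h2.1⟩
  have hR : P %ₘ Q = 0 := by
    ext j
    rw [coeff_zero]
    apply eq_zero_of_forall_ass
    intro p _ hp
    haveI := hfreeAss p hp
    have h3 := congrArg (fun r => r.coeff j) (key p).1
    simpa [coeff_map] using h3
  have hPS : P = Q * (P /ₘ Q) := by
    have h4 := Polynomial.modByMonic_add_div P Q
    rw [hR, zero_add] at h4
    exact h4.symm
  have hSmonic : (P /ₘ Q).Monic := hQ.of_mul_monic_left (hPS ▸ hP)
  have hdet : ∀ (p : Ideal A) [p.IsPrime],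
      Module.Free (Localization.AtPrime p) (LocalizedModule p.primeCompl M) →
        algebraMap A (Localization.AtPrime p) ((-1) ^ (P /ₘ Q).natDegree * (P /ₘ Q).coeff 0) =
          LinearMap.det (LocalizedModule.map p.primeCompl φ) := by
    intro p _ hfree
    haveI := hfree
    have h1 := (key p).2
    rw [LinearMap.det_eq_sign_charpoly_coeff,
      ← LinearMap.charpoly_natDegree (LocalizedModule.map p.primeCompl φ), ← h1,
      hSmonic.natDegree_map, coeff_map]
    simp [map_mul, map_pow]
  refine ⟨(-1) ^ (P /ₘ Q).natDegree * (P /ₘ Q).coeff 0, hdet, ?_⟩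
  intro a' ha'
  rw [← sub_eq_zero]
  apply eq_zero_of_forall_ass
  intro p _ hp
  have hfree := hfreeAss p hp
  rw [map_sub, ha' p hfree, hdet p hfree, sub_self]

end Groth.Agent.Lib.LeadFFR
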