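import Mathlib
import Groth.Agent.Lib.Helper3FlatBC

/-!
# Transfer of pointwise conditions along a surjection of rings (lead)

For a surjection `B₀ → B`, a `B`-module `N'` and a prime `q` of `B` with contraction `Q`,
the localizations `N'_Q` and `N'_q` agree.  Also the converse of
`isBaseChange_restrictScalars_of_isPushout`.
-/

set_option autoImplicit false
set_option maxHeartbeats 400000
set_option linter.style.haveILetI false
set_option linter.unusedSectionVars false
set_option linter.unusedVariables false

universe u

namespace Groth.Agent.Lib.LeadFT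

open TensorProduct

section TL

variable {C B₀ B : Type u} [CommRing C] [CommRing B₀] [CommRing B] [Algebra C B₀] [Algebra C B]
  [Algebra B₀ B] [IsScalarTower C B₀ B]
  {N N' : Type u} [AddCommGroup N] [Module B₀ N] [Module C N] [IsScalarTower C B₀ N]
  [AddCommGroup N'] [Module B N'] [Module B₀ N'] [IsScalarTower B₀ B N'] [Module C N']
  [IsScalarTower C B N'] [IsScalarTower C B₀ N']

theorem algebraMapSubmonoid_primeCompl_comap (hs : Function.Surjective (algebraMap B₀ B))
    (q : Ideal B) [q.IsPrime] :
    Algebra.algebraMapSubmonoid B (q.comap (algebraMap B₀ B)).primeCompl = q.primeCompl := by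
  ext x
  constructor
  · rintro ⟨y, hy, rfl⟩
    exact hy
  · intro hx
    obtain ⟨y, rfl⟩ := hs x
    exact ⟨y, hx, rfl⟩

theorem isLocalizedModule_restrictScalars_primeCompl
    (hs : Function.Surjective (algebraMap B₀ B)) (q : Ideal B) [q.IsPrime] :
    IsLocalizedModule (q.comap (algebraMap B₀ B)).primeCompl
      ((LocalizedModule.mkLinearMap q.primeCompl N').restrictScalars B₀) := by
  haveI : IsLocalizedModule
      (Algebra.algebraMapSubmonoid B (q.comap (algebraMap B₀ B)).primeCompl)
      (LocalizedModule.mkLinearMap q.primeCompl N') := by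
    rw [algebraMapSubmonoid_primeCompl_comap hs q]
    infer_instance
  exact IsLocalizedModule.restrictScalars _ _

/-- The `C`-linear identification `N_Q ≃ N'_q` for `Q` the contraction of `q`. -/
theorem nonempty_locEquiv (hs : Function.Surjective (algebraMap B₀ B)) (e : N ≃ₗ[B₀] N')
    (q : Ideal B) [q.IsPrime] :
    Nonempty (LocalizedModule (q.comap (algebraMap B₀ B)).primeCompl N ≃ₗ[C]
      LocalizedModule q.primeCompl N') := by
  set Q := q.comap (algebraMap B₀ B) with hQ
  haveI := isLocalizedModule_restrictScalars_primeCompl (N' := N') hs q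
  let g : N →ₗ[B₀] LocalizedModule q.primeCompl N' :=
    ((LocalizedModule.mkLinearMap q.primeCompl N').restrictScalars B₀) ∘ₗ e.toLinearMap
  haveI : IsLocalizedModule Q.primeCompl g := IsLocalizedModule.of_linearEquiv_right _ _ e
  exact ⟨(IsLocalizedModule.linearEquiv Q.primeCompl
    (LocalizedModule.mkLinearMap Q.primeCompl N) g).restrictScalars C⟩

/-- If the kernel of `B₀ → B` is not contained in the prime `Q`, then `N_Q = 0` for any
`B₀`-module `N` isomorphic to a `B`-module. -/
theorem subsingleton_localizedModule_of_not_le (e : N ≃ₗ[B₀] N')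
    (Q : Ideal B₀) [Q.IsPrime] (hQ : ¬ RingHom.ker (algebraMap B₀ B) ≤ Q) :
    Subsingleton (LocalizedModule Q.primeCompl N) := by
  rw [IsLocalizedModule.subsingleton_iff Q.primeCompl (LocalizedModule.mkLinearMap Q.primeCompl N)]
  intro m
  obtain ⟨s, hsk, hsQ⟩ := SetLike.not_le_iff_exists.mp hQ
  refine ⟨s, hsQ, ?_⟩
  apply e.injective
  rw [map_smul, map_zero, ← algebraMap_smul B s (e m), (RingHom.mem_ker).mp hsk, zero_smul]

/-- **Transfer along a surjection.**  A property `Φ` of `C`-modules, invariant under linear
equivalence and true for zero modules, holds at all localizations of `N'` at primes of `B`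
satisfying `P` iff it holds for `N` at all primes of `B₀` satisfying the contracted condition. -/
theorem forall_prime_iff (hs : Function.Surjective (algebraMap B₀ B)) (e : N ≃ₗ[B₀] N')
    (Φ : ∀ (X : Type u) [AddCommGroup X] [Module C X], Prop)
    (hΦe : ∀ (X Y : Type u) [AddCommGroup X] [Module C X] [AddCommGroup Y] [Module C Y],
      (X ≃ₗ[C] Y) → Φ X → Φ Y)
    (hΦ0 : ∀ (X : Type u) [AddCommGroup X] [Module C X], Subsingleton X → Φ X)
    (𝔪 : Ideal C) :
    (∀ (q : Ideal B) [q.IsPrime], q.comap (algebraMap C B) = 𝔪 →
        Φ (LocalizedModule q.primeCompl N')) ↔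
      (∀ (Q : Ideal B₀) [Q.IsPrime], Q.comap (algebraMap C B₀) = 𝔪 →
        Φ (LocalizedModule Q.primeCompl N)) := by
  constructor
  · intro h Q _ hQ
    by_cases hk : RingHom.ker (algebraMap B₀ B) ≤ Q
    · have hcm : (Q.map (algebraMap B₀ B)).comap (algebraMap B₀ B) = Q := by
        rw [Ideal.comap_map_of_surjective' _ hs, sup_eq_left]
        exact hk
      haveI : (Q.map (algebraMap B₀ B)).IsPrime := Ideal.map_isPrime_of_surjective hs hk
      have h1 := h (Q.map (algebraMap B₀ B)) (by
        rw [IsScalarTower.algebraMap_eq C B₀ B, ← Ideal.comap_comap, hcm, hQ])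
      obtain ⟨E⟩ := nonempty_locEquiv (C := C) hs e (Q.map (algebraMap B₀ B))
      have h2 := hΦe _ _ E.symm h1
      have hprime : (Q.map (algebraMap B₀ B)).comap (algebraMap B₀ B) = Q := hcm
      revert h2
      generalize_proofs
      rw [show ((Q.map (algebraMap B₀ B)).comap (algebraMap B₀ B)).primeCompl = Q.primeCompl from by
        rw [Submonoid.ext_iff]; intro x; rw [Ideal.mem_primeCompl_iff, Ideal.mem_primeCompl_iff, hcm]]
      exact id
    · exact hΦ0 _ (subsingleton_localizedModule_of_not_le e Q hk)
  · intro h q _ hq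
    have h1 := h (q.comap (algebraMap B₀ B)) (by
      rw [Ideal.comap_comap, ← IsScalarTower.algebraMap_eq, hq])
    obtain ⟨E⟩ := nonempty_locEquiv (C := C) hs e q
    exact hΦe _ _ E h1

end TL

section Pushout

/-- Converse of `isBaseChange_restrictScalars_of_isPushout`: along a pushout square, a map which
is a base change along `A → R` is a base change along `P_A → P_R`. -/
theorem isBaseChange_of_restrictScalars_of_isPushout {A R PA PR X Y : Type*} [CommRing A]
    [CommRing R] [CommRing PA] [CommRing PR] [Algebra A R] [Algebra A PA] [Algebra A PR]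
    [Algebra R PR] [Algebra PA PR] [IsScalarTower A PA PR] [IsScalarTower A R PR]
    [Algebra.IsPushout A R PA PR]
    [AddCommGroup X] [Module PA X] [Module A X] [IsScalarTower A PA X]
    [AddCommGroup Y] [Module PR Y] [Module PA Y] [IsScalarTower PA PR Y] [Module R Y]
    [IsScalarTower R PR Y] [Module A Y] [IsScalarTower A R Y] [IsScalarTower A PA Y]
    (f : X →ₗ[PA] Y) (hf : IsBaseChange R (f.restrictScalars A)) : IsBaseChange PR f := by
  have hcomp : ∀ y : R ⊗[A] X, LinearMap.liftBaseChange PR f
      ((Algebra.IsPushout.cancelBaseChange A R PA PR X).symm y) = hf.equiv y := by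
    intro y
    induction y with
    | zero => simp
    | add a b ha hb => simp only [map_add, ha, hb]
    | tmul r x =>
      rw [Algebra.IsPushout.cancelBaseChange_symm_tmul, LinearMap.liftBaseChange_tmul,
        IsBaseChange.equiv_tmul, algebraMap_smul, LinearMap.coe_restrictScalars]
  have hbij : Function.Bijective (LinearMap.liftBaseChange PR f) := by
    have h1 : (LinearMap.liftBaseChange PR f : PR ⊗[PA] X → Y) =
        (hf.equiv : R ⊗[A] X → Y) ∘ (Algebra.IsPushout.cancelBaseChange A R PA PR X) := by
      funext z
      rw [Function.comp_apply, ← hcomp, LinearEquiv.symm_apply_apply]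
    rw [h1]
    exact hf.equiv.bijective.comp (Algebra.IsPushout.cancelBaseChange A R PA PR X).bijective
  refine IsBaseChange.of_equiv (LinearEquiv.ofBijective (LinearMap.liftBaseChange PR f) hbij) ?_
  intro x
  rw [LinearEquiv.ofBijective_apply, LinearMap.liftBaseChange_tmul, one_smul]

end Pushout

end Groth.Agent.Lib.LeadFT
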