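import Mathlib
import Groth.Agent.Lib.LeadFTa
import Groth.Agent.Lib.Helper3FlatDescE

/-!
# Polynomial models of a finite module over a finite type algebra (lead)
-/

set_option autoImplicit false
set_option maxHeartbeats 400000
set_option linter.style.haveILetI false
set_option linter.unusedSectionVars false
set_option linter.unusedVariables false

universe u

namespace Groth.Agent.Lib.LeadFT

open TensorProduct MvPolynomial IsLocalRing Groth.Agent.Lib.Helper3.FlatLoc
  Groth.Agent.Lib.Helper3.FlatDesc Groth.Agent.Lib.Helper3.FlatOpen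

attribute [local instance] MvPolynomial.algebraMvPolynomial

/-- tower criterion for module structures defined through a big ring -/
theorem isScalarTower_of_forall_smul {X Y Z M : Type*} [CommRing X] [CommRing Y] [CommRing Z]
    [Algebra X Y] [Algebra Y Z] [Algebra X Z] [IsScalarTower X Y Z] [AddCommGroup M] [Module Z M]
    [Module Y M] [IsScalarTower Y Z M] [Module X M]
    (h : ∀ (x : X) (m : M), x • m = algebraMap X Z x • m) : IsScalarTower X Y M := by
  refine ⟨fun x y m => ?_⟩
  rw [h x (y • m), ← algebraMap_smul Z (x • y) m, ← algebraMap_smul Z y m, ← mul_smul,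
    Algebra.smul_def, map_mul, ← IsScalarTower.algebraMap_apply]

/-- The presented module. -/
abbrev Mod {Λ : Type u} [CommRing Λ] {n k m : ℕ}
    (w : Fin m → Fin k → MvPolynomial (Fin n) Λ) (T : Type u) [CommRing T] [Algebra Λ T] : Type u :=
  (Fin k → MvPolynomial (Fin n) T) ⧸ KT w (MvPolynomial (Fin n) T)

/-- The presented module over the base polynomial ring. -/
abbrev Mod₀ {Λ : Type u} [CommRing Λ] {n k m : ℕ}
    (w : Fin m → Fin k → MvPolynomial (Fin n) Λ) : Type u :=
  (Fin k → MvPolynomial (Fin n) Λ) ⧸ KT w (MvPolynomial (Fin n) Λ)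

section Setup

variable {Λ S R' S' : Type u} [CommRing Λ] [CommRing S] [CommRing R'] [CommRing S']
  [Algebra Λ S] [Algebra Λ R'] [Algebra S S'] [Algebra R' S'] [Algebra Λ S']
  [IsScalarTower Λ S S'] [IsScalarTower Λ R' S'] [Algebra.IsPushout Λ S R' S']
  {M M' : Type u} [AddCommGroup M] [Module S M] [Module Λ M] [IsScalarTower Λ S M]
  [AddCommGroup M'] [Module S' M'] [Module R' M'] [IsScalarTower R' S' M'] [Module S M']
  [IsScalarTower S S' M']
  {n k m : ℕ}
  -- the presentation of `S`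
  [Algebra (MvPolynomial (Fin n) Λ) S] [IsScalarTower Λ (MvPolynomial (Fin n) Λ) S]
  [Module (MvPolynomial (Fin n) Λ) M] [IsScalarTower (MvPolynomial (Fin n) Λ) S M]
  [IsScalarTower Λ (MvPolynomial (Fin n) Λ) M]
  -- `Λ`-structure on `M'`
  [Module Λ M'] [IsScalarTower Λ R' M'] [IsScalarTower Λ S M']
  -- the presentation of `S'`
  [Algebra (MvPolynomial (Fin n) R') S'] [IsScalarTower R' (MvPolynomial (Fin n) R') S']
  [Algebra (MvPolynomial (Fin n) Λ) S'] [IsScalarTower (MvPolynomial (Fin n) Λ) S S']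
  [IsScalarTower (MvPolynomial (Fin n) Λ) (MvPolynomial (Fin n) R') S']
  [Module (MvPolynomial (Fin n) R') M'] [IsScalarTower (MvPolynomial (Fin n) R') S' M']
  [IsScalarTower R' (MvPolynomial (Fin n) R') M']
  [Module (MvPolynomial (Fin n) Λ) M'] [IsScalarTower (MvPolynomial (Fin n) Λ) S M']
  [IsScalarTower (MvPolynomial (Fin n) Λ) (MvPolynomial (Fin n) R') M']
  [IsScalarTower Λ (MvPolynomial (Fin n) Λ) M']
  (f : M →ₗ[S] M') (hf : IsBaseChange S' f)
  (w : Fin m → Fin k → MvPolynomial (Fin n) Λ)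
  (e : Mod₀ w ≃ₗ[MvPolynomial (Fin n) Λ] M)

include hf in
theorem isBaseChange_poly :
    IsBaseChange (MvPolynomial (Fin n) R') (f.restrictScalars (MvPolynomial (Fin n) Λ)) := by
  haveI : Algebra.IsPushout Λ R' S S' := Algebra.IsPushout.symm inferInstance
  have h1 : IsBaseChange R' (f.restrictScalars Λ) :=
    isBaseChange_restrictScalars_of_isPushout (A := Λ) (R := R') (PA := S) (PR := S') f hf
  exact isBaseChange_of_restrictScalars_of_isPushout (A := Λ) (R := R')
    (PA := MvPolynomial (Fin n) Λ) (PR := MvPolynomial (Fin n) R')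
    (f.restrictScalars (MvPolynomial (Fin n) Λ)) h1

include hf e in
theorem nonempty_modelEquiv :
    Nonempty (Mod w R' ≃ₗ[MvPolynomial (Fin n) R'] M') := by
  have h1 := isBaseChange_poly (Λ := Λ) (R' := R') (n := n) f hf
  have h2 : IsBaseChange (MvPolynomial (Fin n) R')
      (Mmap w (MvPolynomial (Fin n) Λ) (MvPolynomial (Fin n) R')) := isBaseChange_Mmap w _ _
  exact ⟨h2.equiv.symm ≪≫ₗ
    (TensorProduct.AlgebraTensorModule.congr
      (LinearEquiv.refl (MvPolynomial (Fin n) R') (MvPolynomial (Fin n) R')) e) ≪≫ₗ h1.equiv⟩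

include hf e in
/-- Step 1: pointwise flatness of `M'` over `S'` gives pointwise flatness of the model. -/
theorem flat_model_of_flatAt (hπ' : Function.Surjective (algebraMap (MvPolynomial (Fin n) R') S'))
    (𝔪' : Ideal R')
    (h : ∀ (q' : Ideal S') [q'.IsPrime], q'.comap (algebraMap R' S') = 𝔪' →
      Module.Flat R' (LocalizedModule q'.primeCompl M'))
    (Q : Ideal (MvPolynomial (Fin n) R')) [Q.IsPrime]
    (hQ : Q.comap (algebraMap R' (MvPolynomial (Fin n) R')) = 𝔪') :
    Module.Flat R' (LocalizedModule Q.primeCompl (Mod w R')) := by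
  obtain ⟨e'⟩ := nonempty_modelEquiv (Λ := Λ) (R' := R') f hf w e
  exact (forall_prime_iff (C := R') (B₀ := MvPolynomial (Fin n) R') (B := S') hπ' e'
    (fun X _ _ => Module.Flat R' X)
    (fun X Y _ _ _ _ E hX => Module.Flat.of_linearEquiv E.symm)
    (fun X _ _ hX => inferInstance) 𝔪').mp h Q hQ

include e in
/-- The flattening conditions for `(S, M)` and for the polynomial model agree. -/
theorem flatCond_iff (hπ : Function.Surjective (algebraMap (MvPolynomial (Fin n) Λ) S))
    (𝔪 J : Ideal Λ) :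
    (∀ (q : Ideal S) [q.IsPrime], q.comap (algebraMap Λ S) = 𝔪 →
        Module.Flat (Λ ⧸ J) ((Λ ⧸ J) ⊗[Λ] LocalizedModule q.primeCompl M)) ↔
      (∀ (Q : Ideal (MvPolynomial (Fin n) Λ)) [Q.IsPrime],
        Q.comap (algebraMap Λ (MvPolynomial (Fin n) Λ)) = 𝔪 →
        Module.Flat (Λ ⧸ J) ((Λ ⧸ J) ⊗[Λ] LocalizedModule Q.primeCompl (Mod₀ w))) :=
  forall_prime_iff (C := Λ) (B₀ := MvPolynomial (Fin n) Λ) (B := S) hπ e
    (fun X _ _ => Module.Flat (Λ ⧸ J) ((Λ ⧸ J) ⊗[Λ] X))
    (fun X Y _ _ _ _ E hX => Module.Flat.of_linearEquiv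
      (TensorProduct.AlgebraTensorModule.congr (LinearEquiv.refl (Λ ⧸ J) (Λ ⧸ J)) E.symm))
    (fun X _ _ hX => inferInstance) 𝔪

end Setup

end Groth.Agent.Lib.LeadFT
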