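import Mathlib
import Groth.Agent.Lib.Helper13KzLiftH
import Groth.Agent.S15821

/-!
# Koszul-regularity is a local property (helper7)

`subsingleton_KH_tensor`: Koszul homology commutes with flat tensor products (vanishing form).
`isKoszulRegularSeq_of_localization`: a sequence is Koszul-regular as soon as its images in the
localizations at the maximal ideals containing it are Koszul-regular.
-/

set_option autoImplicit false

namespace Groth.Agent.Lib.T2H7.SyntD
open CategoryTheory CochainComplex MonoidalCategory CohIII
open Groth.Agent.Helper13Kz Groth.Agent.Helper13KzLift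
open scoped TensorProduct

universe u
variable {B : Type u} [CommRing B]

/-- Koszul homology commutes with tensoring with a flat module (vanishing form) -/
theorem subsingleton_KH_tensor (F : Type u) [AddCommGroup F] [Module B F] [Module.Flat B F]
    (M : Type u) [AddCommGroup M] [Module B M] (l : List B) (i : ℤ)
    (h : Subsingleton (KH l (M ⊗[B] F) i)) : Subsingleton (KH l M i ⊗[B] F) := by
  set K := koszulCx (ModuleCat.of B M) l with hK
  have e1 : (((tensorRight (ModuleCat.of B F)).mapHomologicalComplex (ComplexShape.up ℤ)).obj
      K).homology i ≅ (koszulCx (ModuleCat.of B M ⊗ ModuleCat.of B F) l).homology i :=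
    (HomologicalComplex.homologyFunctor _ _ i).mapIso (tensIso (ModuleCat.of B F) (ModuleCat.of B M) l)
  have e2 : ((K.sc i).map (tensorRight (ModuleCat.of B F))).homology ≅
      (tensorRight (ModuleCat.of B F)).obj ((K.sc i).homology) :=
    (K.sc i).mapHomologyIso (tensorRight (ModuleCat.of B F))
  have h0 : Limits.IsZero ((koszulCx (ModuleCat.of B M ⊗ ModuleCat.of B F) l).homology i) :=
    ModuleCat.isZero_of_subsingleton _
  have h1 : Limits.IsZero ((tensorRight (ModuleCat.of B F)).obj ((K.sc i).homology)) :=
    Limits.IsZero.of_iso (Limits.IsZero.of_iso h0 e1) e2.symm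
  exact ModuleCat.subsingleton_of_isZero h1

/-- Koszul-regularity is local at the maximal ideals containing the sequence -/
theorem isKoszulRegularSeq_of_localization (l : List B)
    (h : ∀ (m : Ideal B) [m.IsMaximal], Ideal.ofList l ≤ m →
      LCI.IsKoszulRegularSeq (Localization.AtPrime m)
        (l.map (algebraMap B (Localization.AtPrime m)))) :
    LCI.IsKoszulRegularSeq B l := by
  rw [isKoszulRegularSeq_iff]
  intro i hi
  suffices hz : ∀ z : KH l B i, z = 0 from ⟨fun a b => by rw [hz a, hz b]⟩
  intro z
  by_contra hz
  let I : Ideal B := LinearMap.ker (LinearMap.toSpanSingleton B (KH l B i) z)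
  have hI : I ≠ ⊤ := by
    intro htop
    have h1 : (1 : B) ∈ I := htop ▸ Submodule.mem_top
    have h2 : LinearMap.toSpanSingleton B (KH l B i) z 1 = 0 := h1
    rw [LinearMap.toSpanSingleton_apply, one_smul] at h2
    exact hz h2
  obtain ⟨m, hm, hIm⟩ := Ideal.exists_le_maximal I hI
  have hlm : Ideal.ofList l ≤ m := by
    refine le_trans ?_ hIm
    intro a ha
    show LinearMap.toSpanSingleton B _ z a = 0
    rw [LinearMap.toSpanSingleton_apply]
    exact smul_KH_eq_zero_of_mem B l a ha i z
  have hK := h m hlm
  rw [isKoszulRegularSeq_iff] at hK
  have h1 := hK i hi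
  have h2 : Limits.IsZero ((koszulCx ((ModuleCat.restrictScalars
      (algebraMap B (Localization.AtPrime m))).obj
        (ModuleCat.of (Localization.AtPrime m) (Localization.AtPrime m))) l).homology i) :=
    isZero_homology_restrict (algebraMap B (Localization.AtPrime m))
      (ModuleCat.of (Localization.AtPrime m) (Localization.AtPrime m)) l i
      (ModuleCat.isZero_of_subsingleton _)
  have h3 : Subsingleton (KH l ((ModuleCat.restrictScalars
      (algebraMap B (Localization.AtPrime m))).obj
        (ModuleCat.of (Localization.AtPrime m) (Localization.AtPrime m))) i) :=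
    ModuleCat.subsingleton_of_isZero h2
  let e0 : ((ModuleCat.restrictScalars (algebraMap B (Localization.AtPrime m))).obj
        (ModuleCat.of (Localization.AtPrime m) (Localization.AtPrime m))) ≃ₗ[B]
      Localization.AtPrime m :=
    { toFun := fun x => x
      invFun := fun x => x
      map_add' := fun _ _ => rfl
      map_smul' := fun b x => by
        show algebraMap B (Localization.AtPrime m) b • (id x : Localization.AtPrime m) =
          b • (id x : Localization.AtPrime m)
        rw [Algebra.smul_def b (id x : Localization.AtPrime m), smul_eq_mul]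
      left_inv := fun _ => rfl
      right_inv := fun _ => rfl }
  have h4 : Subsingleton (KH l (B ⊗[B] Localization.AtPrime m) i) :=
    subsingleton_KH_of_equiv l (e0.trans (TensorProduct.lid B (Localization.AtPrime m)).symm) i h3
  have h5 : Subsingleton (KH l B i ⊗[B] Localization.AtPrime m) :=
    subsingleton_KH_tensor (Localization.AtPrime m) B l i h4
  have h6 : Subsingleton (Localization.AtPrime m ⊗[B] KH l B i) :=
    (TensorProduct.comm B (Localization.AtPrime m) (KH l B i)).toEquiv.subsingleton
  have h7 : TensorProduct.mk B (Localization.AtPrime m) (KH l B i) 1 z = 0 :=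
    Subsingleton.elim _ _
  obtain ⟨c, hc⟩ := (IsLocalizedModule.eq_zero_iff m.primeCompl
    (TensorProduct.mk B (Localization.AtPrime m) (KH l B i) 1)).mp h7
  apply c.2
  apply hIm
  show LinearMap.toSpanSingleton B _ z c = 0
  rw [LinearMap.toSpanSingleton_apply]
  exact hc

end Groth.Agent.Lib.T2H7.SyntD
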