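import Groth.Agent.Lib.T2H9RegImmBC
import Groth.Agent.Lib.Helper13KzLiftH
import Groth.Agent.Lib.Helper13KzTor
import Groth.Prelude.Def_RegImm

/-!
# Composition of Koszul-regular sequences and Koszul-regular immersions (T2 helper9)

* `quasiIso_coneMap`: the map induced on mapping cones by two quasi-isomorphisms is a quasi-isomorphism.
* `konC`, `koszulCx_append`, `konMap`, `quasiIso_konMap`: iterated cones over an arbitrary complex.
* `nonempty_homology_append_iso`: if `K(fs; M)` is acyclic off `0` with `H⁰ ≅ N` then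
  `H^i K(gs ++ fs; M) ≅ H^i K(gs; N)`.
* `isKoszulRegularSeq_append`: `fs` Koszul-regular in `R`, `gs` Koszul-regular in `R/(fs)` ⟹ `gs ++ fs`
  Koszul-regular in `R`.
* `restrict_data`: the local data of a regular immersion restricts to smaller affine opens.
* `atLen_koszul_comp`: composition of Koszul-regular immersions, pointwise with lengths.
-/

set_option autoImplicit false
set_option linter.style.haveILetI false
set_option linter.unusedSectionVars false
universe u
open CategoryTheory CochainComplex Limits CohIII AlgebraicGeometry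

namespace Groth.Agent.Lib.T2H9.KoszulComp

open Groth.Agent.Lib.T2H9.RegImmBC

variable {A : Type u} [CommRing A]

/-- the map induced on mapping cones by a pair of quasi-isomorphisms is a quasi-isomorphism -/
theorem quasiIso_coneMap {K₁ L₁ K₂ L₂ : CochainComplex (ModuleCat.{u} A) ℤ} (φ₁ : K₁ ⟶ L₁)
    (φ₂ : K₂ ⟶ L₂) (a : K₁ ⟶ K₂) (b : L₁ ⟶ L₂) (comm : φ₁ ≫ b = a ≫ φ₂) [QuasiIso a] [QuasiIso b] :
    QuasiIso (mappingCone.map φ₁ φ₂ a b comm) := by
  letI : HasDerivedCategory.{u + 1} (ModuleCat.{u} A) := HasDerivedCategory.standard _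
  rw [← DerivedCategory.isIso_Q_map_iff_quasiIso]
  have h1 := DerivedCategory.mappingCone_triangle_distinguished φ₁
  have h2 := DerivedCategory.mappingCone_triangle_distinguished φ₂
  let t := DerivedCategory.Q.mapTriangle.map (mappingCone.triangleMap φ₁ φ₂ a b comm)
  have ha : IsIso t.hom₁ := (DerivedCategory.isIso_Q_map_iff_quasiIso (φ := a)).mpr inferInstance
  have hb : IsIso t.hom₂ := (DerivedCategory.isIso_Q_map_iff_quasiIso (φ := b)).mpr inferInstance
  exact Pretriangulated.isIso₃_of_isIso₁₂ t h1 h2 ha hb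


/-- iterated cones of multiplications over an arbitrary complex -/
noncomputable def konC (C : CochainComplex (ModuleCat.{u} A) ℤ) :
    List A → CochainComplex (ModuleCat.{u} A) ℤ
  | [] => C
  | g :: gs => mappingCone (g • 𝟙 (konC C gs))

theorem koszulCx_append (M : ModuleCat.{u} A) (fs : List A) : ∀ gs : List A,
    koszulCx M (gs ++ fs) = konC (koszulCx M fs) gs
  | [] => rfl
  | g :: gs => by
    show mappingCone (g • 𝟙 (koszulCx M (gs ++ fs))) = mappingCone (g • 𝟙 (konC (koszulCx M fs) gs))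
    rw [koszulCx_append M fs gs]

theorem konC_single (N : ModuleCat.{u} A) : ∀ gs : List A,
    konC ((HomologicalComplex.single (ModuleCat.{u} A) (ComplexShape.up ℤ) 0).obj N) gs =
      koszulCx N gs
  | [] => rfl
  | g :: gs => by
    show mappingCone (g • 𝟙 (konC _ gs)) = mappingCone (g • 𝟙 (koszulCx N gs))
    rw [konC_single N gs]

noncomputable def konMap {C D : CochainComplex (ModuleCat.{u} A) ℤ} (φ : C ⟶ D) :
    ∀ gs : List A, konC C gs ⟶ konC D gs
  | [] => φ
  | g :: gs => mappingCone.map (g • 𝟙 (konC C gs)) (g • 𝟙 (konC D gs)) (konMap φ gs) (konMap φ gs)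
      (by simp only [Linear.smul_comp, Linear.comp_smul, Category.id_comp, Category.comp_id])

theorem quasiIso_konMap {C D : CochainComplex (ModuleCat.{u} A) ℤ} (φ : C ⟶ D) [QuasiIso φ] :
    ∀ gs : List A, QuasiIso (konMap φ gs)
  | [] => by
    show QuasiIso φ
    infer_instance
  | g :: gs => by
    haveI := quasiIso_konMap φ gs
    exact quasiIso_coneMap _ _ _ _ _

/-- isomorphic complexes have isomorphic iterated cones -/
noncomputable def konIso {C D : CochainComplex (ModuleCat.{u} A) ℤ} (e : C ≅ D) :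
    ∀ gs : List A, konC C gs ≅ konC D gs
  | [] => e
  | g :: gs => Groth.Agent.Helper13Kz.coneIso (konIso e gs) g


theorem isStrictlyLE_koszulCx (M : ModuleCat.{u} A) : ∀ fs : List A,
    (koszulCx M fs).IsStrictlyLE 0
  | [] => by
    show ((CochainComplex.singleFunctor (ModuleCat.{u} A) 0).obj M).IsStrictlyLE 0
    infer_instance
  | f :: fs => by
    haveI := isStrictlyLE_koszulCx M fs
    rw [CochainComplex.isStrictlyLE_iff]
    intro i hi
    show IsZero ((mappingCone (f • 𝟙 (koszulCx M fs))).X i)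
    have h1 : IsZero ((koszulCx M fs).X (i + 1)) :=
      CochainComplex.isZero_of_isStrictlyLE _ 0 (i + 1) (by omega)
    have h2 : IsZero ((koszulCx M fs).X i) :=
      CochainComplex.isZero_of_isStrictlyLE _ 0 i (by omega)
    rw [IsZero.iff_id_eq_zero]
    apply mappingCone.ext_to _ i (i + 1) rfl
    · apply h1.eq_of_tgt
    · apply h2.eq_of_tgt


/-- a complex strictly `≤ 0` and acyclic off `0` is quasi-isomorphic to its `H⁰` -/
theorem exists_quasiIso_single (K : CochainComplex (ModuleCat.{u} A) ℤ) [K.IsStrictlyLE 0]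
    (hK : ∀ i : ℤ, i ≠ 0 → IsZero (K.homology i)) :
    ∃ (N : ModuleCat.{u} A) (φ : K ⟶ (HomologicalComplex.single (ModuleCat.{u} A)
      (ComplexShape.up ℤ) 0).obj N), QuasiIso φ ∧ Nonempty (K.homology 0 ≅ N) := by
  haveI : K.IsGE 0 := by
    rw [CochainComplex.isGE_iff]
    intro i hi
    rw [HomologicalComplex.exactAt_iff_isZero_homology]
    exact hK i (by omega)
  haveI : (K.truncGE 0).IsStrictlyLE 0 := by
    rw [CochainComplex.isStrictlyLE_iff]
    intro i hi
    exact IsZero.of_iso (CochainComplex.isZero_of_isStrictlyLE K 0 i hi) (K.truncGEXIso 0 i hi)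
  obtain ⟨N, ⟨e⟩⟩ := CochainComplex.exists_iso_single (K.truncGE 0) 0
  refine ⟨N, K.πTruncGE 0 ≫ e.hom, inferInstance, ⟨?_⟩⟩
  haveI : QuasiIso (K.πTruncGE 0 ≫ e.hom) := inferInstance
  exact (asIso (HomologicalComplex.homologyMap (K.πTruncGE 0 ≫ e.hom) 0)) ≪≫
    HomologicalComplex.singleObjHomologySelfIso (ComplexShape.up ℤ) 0 N


/-- If `K(fs; M)` is acyclic off degree `0` with `H⁰ ≅ N`, then `K(gs ++ fs; M)` has the homology
of `K(gs; N)`. -/
theorem nonempty_homology_append_iso (M : ModuleCat.{u} A) (fs gs : List A)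
    (hK : ∀ i : ℤ, i ≠ 0 → IsZero ((koszulCx M fs).homology i)) (N : ModuleCat.{u} A)
    (e : (koszulCx M fs).homology 0 ≅ N) (i : ℤ) :
    Nonempty ((koszulCx M (gs ++ fs)).homology i ≅ (koszulCx N gs).homology i) := by
  haveI := isStrictlyLE_koszulCx M fs
  obtain ⟨N', φ, hφ, ⟨e'⟩⟩ := exists_quasiIso_single (koszulCx M fs) hK
  haveI := hφ
  haveI := quasiIso_konMap φ gs
  have e1 : (konC (koszulCx M fs) gs).homology i ≅
      (konC ((HomologicalComplex.single (ModuleCat.{u} A) (ComplexShape.up ℤ) 0).obj N') gs).homology i :=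
    asIso (HomologicalComplex.homologyMap (konMap φ gs) i)
  have e2 : (koszulCx N' gs).homology i ≅ (koszulCx N gs).homology i :=
    (HomologicalComplex.homologyFunctor _ _ i).mapIso
      ((Groth.Agent.Helper13Kz.KF gs).mapIso (e'.symm ≪≫ e))
  rw [koszulCx_append]
  rw [konC_single] at e1
  exact ⟨e1 ≪≫ e2⟩


open Groth.Agent.Helper13Kz Groth.Agent.Helper13KzLift in
/-- composition of Koszul-regular sequences: if `fs` is Koszul-regular in `R`, `S = R/(fs)` and
the image of `gs` is Koszul-regular in `S`, then `gs ++ fs` is Koszul-regular in `R`. -/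
theorem isKoszulRegularSeq_append {R S : Type u} [CommRing R] [CommRing S] (π : R →+* S)
    (hπ : Function.Surjective π) (fs gs : List R) (hker : RingHom.ker π = Ideal.ofList fs)
    (hfs : LCI.IsKoszulRegularSeq R fs) (hgs : LCI.IsKoszulRegularSeq S (gs.map π)) :
    LCI.IsKoszulRegularSeq R (gs ++ fs) := by
  rw [isKoszulRegularSeq_iff] at hfs hgs ⊢
  intro i hi
  have hK : ∀ i : ℤ, i ≠ 0 → IsZero ((koszulCx (ModuleCat.of R R) fs).homology i) :=
    fun i hi => by
      haveI := hfs i hi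
      exact ModuleCat.isZero_of_subsingleton _
  -- the identification `H⁰(K(fs; R)) ≅ S`
  let πl : R →ₗ[R] ((ModuleCat.restrictScalars π).obj (ModuleCat.of S S)) :=
    { toFun := fun r => π r
      map_add' := fun a b => map_add π a b
      map_smul' := fun a b => by
        show π (a * b) = π a * π b
        exact map_mul π a b }
  have hπl : Function.Surjective πl := hπ
  have hkerl : LinearMap.ker (aug (ModuleCat.of R R) fs).hom = LinearMap.ker πl := by
    rw [aug_ker]
    ext x
    rw [LinearMap.mem_ker]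
    show x ∈ Ideal.ofList fs • (⊤ : Ideal R) ↔ π x = 0
    rw [smul_eq_mul, Ideal.mul_top, ← hker, RingHom.mem_ker]
  let e0 : ((koszulCx (ModuleCat.of R R) fs).homology 0) ≃ₗ[R]
      ((ModuleCat.restrictScalars π).obj (ModuleCat.of S S)) :=
    ((aug (ModuleCat.of R R) fs).hom.quotKerEquivOfSurjective
      (aug_surjective (ModuleCat.of R R) fs)).symm ≪≫ₗ
      (Submodule.quotEquivOfEq _ _ hkerl) ≪≫ₗ (πl.quotKerEquivOfSurjective hπl)
  obtain ⟨e1⟩ := nonempty_homology_append_iso (ModuleCat.of R R) fs gs hK _ e0.toModuleIso i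
  haveI := hgs i hi
  have h2 := isZero_homology_restrict π (ModuleCat.of S S) gs i (ModuleCat.isZero_of_subsingleton _)
  exact ModuleCat.subsingleton_of_isZero (IsZero.of_iso h2 e1)


/-- kernel of a composite of a surjection with kernel `(fs)` and a map with kernel `(gs')` -/
theorem exists_ker_comp_eq_ofList {R S T : Type u} [CommRing R] [CommRing S] [CommRing T]
    (π : R →+* S) (ψ : S →+* T) (hπ : Function.Surjective π) (fs : List R) (gs' : List S)
    (hπk : RingHom.ker π = Ideal.ofList fs) (hψk : RingHom.ker ψ = Ideal.ofList gs') :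
    ∃ gs : List R, gs.map π = gs' ∧ RingHom.ker (ψ.comp π) = Ideal.ofList (gs ++ fs) := by
  refine ⟨gs'.map (Function.surjInv hπ), ?_, ?_⟩
  · rw [List.map_map]
    conv_rhs => rw [← List.map_id gs']
    apply List.map_congr_left
    intro a _
    exact Function.surjInv_eq hπ a
  · have h1 : (gs'.map (Function.surjInv hπ)).map π = gs' := by
      rw [List.map_map]
      conv_rhs => rw [← List.map_id gs']
      apply List.map_congr_left
      intro a _
      exact Function.surjInv_eq hπ a
    rw [← RingHom.comap_ker, hψk, Ideal.ofList_append, ← hπk]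
    conv_lhs => rw [← h1, ← Ideal.map_ofList]
    rw [Ideal.comap_map_of_surjective' π hπ]

/-- the data of a regular immersion at a point, with the length of the sequence recorded -/
def AtLen {X Z : Scheme.{u}} (k : RegImm.Kind) (d : ℕ) (i : Z ⟶ X) (z : Z) : Prop :=
  ∃ U : X.affineOpens, i z ∈ U.1 ∧ IsClosedImmersion (i ∣_ U.1) ∧
    ∃ rs : List Γ(X, U.1), rs.length = d ∧ k.Seq Γ(X, U.1) rs ∧
      RingHom.ker (i.app U.1).hom = Ideal.ofList rs

/-- restriction of the local data of a regular immersion to a smaller affine open -/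
theorem restrict_data {X Y : Scheme.{u}} (k : RegImm.Kind) (i : Y ⟶ X) {U : X.Opens}
    (hU : IsAffineOpen U) [IsClosedImmersion (i ∣_ U)] (rs : List Γ(X, U))
    (hseq : k.Seq Γ(X, U) rs) (hker : RingHom.ker (i.app U).hom = Ideal.ofList rs)
    {U' : X.Opens} (hU' : IsAffineOpen U') (hle : U' ≤ U) (y : Y) (hy : i y ∈ U') :
    IsClosedImmersion (i ∣_ U') ∧ ∃ rs' : List Γ(X, U'), rs'.length = rs.length ∧
      k.Seq Γ(X, U') rs' ∧ RingHom.ker (i.app U').hom = Ideal.ofList rs' := by
  have sq : IsPullback i (𝟙 Y) (𝟙 X) i := IsPullback.of_vert_isIso ⟨by simp⟩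
  have e : U' ≤ (𝟙 X) ⁻¹ᵁ U := hle
  haveI hcl' : IsClosedImmersion (i ∣_ U') :=
    isClosedImmersion_morphismRestrict_of_isPullback sq U U' e
  have hk : RingHom.ker (i.app U').hom = Ideal.ofList (rs.map (Scheme.Hom.appLE (𝟙 X) U U' e).hom) := by
    rw [ker_app_eq sq hU hU' e, hker, Ideal.map_ofList]
  refine ⟨hcl', rs.map (Scheme.Hom.appLE (𝟙 X) U U' e).hom, List.length_map _, ?_, hk⟩
  refine seq_map_of_flat k _ (Flat.flat_appLE (𝟙 X) hU hU' e) rs hseq ?_
  haveI : Nonempty ↥(i ⁻¹ᵁ U') := ⟨⟨y, hy⟩⟩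
  rw [← hk]
  exact RingHom.ker_ne_top _


theorem atLen_koszul_comp {X Y Z : Scheme.{u}} (n m : ℕ) (i : Y ⟶ X) (j : Z ⟶ Y)
    [IsImmersion i] (z : Z) (hi : AtLen .koszul n i (j z)) (hj : AtLen .koszul m j z) :
    AtLen .koszul (m + n) (j ≫ i) z := by
  obtain ⟨U, hyU, hclU, fs, hfl, hfseq, hfker⟩ := hi
  obtain ⟨V, hzV, hclV, gs, hgl, hgseq, hgker⟩ := hj
  haveI := hclU
  haveI := hclV
  -- an open `O` of `X` with `i⁻¹ O = V`
  obtain ⟨O, hO, hOV⟩ := (i.isEmbedding.isInducing.isOpen_iff).mp V.1.2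
  have hxO : i (j z) ∈ (⟨O, hO⟩ : X.Opens) ⊓ U.1 := by
    refine ⟨?_, hyU⟩
    show j z ∈ i ⁻¹' O
    rw [hOV]
    exact hzV
  obtain ⟨U', hU', hxU', hle⟩ :=
    TopologicalSpace.Opens.isBasis_iff_nbhd.mp X.isBasis_affineOpens hxO
  have hleU : U' ≤ U.1 := hle.trans inf_le_right
  obtain ⟨hclU', fs', hfl', hfseq', hfker'⟩ :=
    restrict_data .koszul i U.2 fs hfseq hfker hU' hleU (j z) hxU'
  haveI := hclU'
  have hW : IsAffineOpen (i ⁻¹ᵁ U') := isAffineOpen_preimage_of_restrict i hU'
  have hWV : i ⁻¹ᵁ U' ≤ V.1 := by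
    intro y hy
    have h1 : i y ∈ O := (hle hy).1
    have h2 : y ∈ i ⁻¹' O := h1
    rw [hOV] at h2
    exact h2
  have hzW : j z ∈ i ⁻¹ᵁ U' := hxU'
  obtain ⟨hclW, gs', hgl', hgseq', hgker'⟩ :=
    restrict_data .koszul j V.2 gs hgseq hgker hW hWV z hzW
  haveI := hclW
  have hπ : Function.Surjective (i.app U').hom := app_surjective_of_restrict i hU'
  obtain ⟨gs'', hgs'', hkk⟩ := exists_ker_comp_eq_ofList (i.app U').hom (j.app (i ⁻¹ᵁ U')).hom hπ
    fs' gs' hfker' hgker'
  refine ⟨⟨U', hU'⟩, hxU', ?_, gs'' ++ fs', ?_, ?_, ?_⟩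
  · show IsClosedImmersion ((j ≫ i) ∣_ U')
    rw [morphismRestrict_comp]
    exact @IsClosedImmersion.comp _ _ _ _ _ hclW hclU'
  · rw [List.length_append, hfl', hfl, ← hgl, ← hgl', ← hgs'', List.length_map]
  · have h1 : LCI.IsKoszulRegularSeq Γ(X, U') fs' := hfseq'
    have h2 : LCI.IsKoszulRegularSeq Γ(Y, i ⁻¹ᵁ U') gs' := hgseq'
    rw [← hgs''] at h2
    exact isKoszulRegularSeq_append (i.app U').hom hπ fs' gs'' hfker' h1 h2
  · exact hkk


end Groth.Agent.Lib.T2H9.KoszulComp
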