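import Mathlib
import Groth.Agent.Lib.Helper13KzLiftH
import Groth.Agent.Lib.T2H9KoszulComp
import Groth.Agent.Lib.T2H7SyntD
import Groth.Agent.S15821

/-!
# Koszul-regularity after inverting an element, as torsion of Koszul homology (helper7)

* `TorsM`, `TorsAt`: Koszul homology in nonzero degrees is `g`-power torsion.
* `restrictHomologyIso`, `torsM_restrict_iff`: compatibility with restriction of scalars.
* `subsingleton_KH_tensor_iff`: flat tensor products (both directions).
* `isKoszulRegularSeq_away_iff`: `l` is Koszul-regular in `C[1/g]` iff `TorsAt g l`.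
* `torsAt_append_iff`: for `π : R → S` surjective with kernel generated by a Koszul-regular
  sequence `fs`, `TorsAt G (gs ++ fs) ↔ TorsAt (π G) (gs.map π)`.
-/

set_option autoImplicit false

namespace Groth.Agent.Lib.T2H7.KRegA
open CategoryTheory CochainComplex MonoidalCategory CohIII
open Groth.Agent.Helper13Kz Groth.Agent.Helper13KzLift
open scoped TensorProduct

universe u

section Defs
variable {C : Type u} [CommRing C]

/-- all Koszul homology classes of `M` in nonzero degree are `g`-power torsion -/
def TorsM (g : C) (l : List C) (M : ModuleCat.{u} C) : Prop :=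
  ∀ i : ℤ, i ≠ 0 → ∀ z : (koszulCx M l).homology i, ∃ k : ℕ, g ^ k • z = 0

/-- all Koszul homology classes in nonzero degree are `g`-power torsion -/
def TorsAt (g : C) (l : List C) : Prop := TorsM g l (ModuleCat.of C C)

theorem TorsM.of_iso {g : C} {l : List C} {M N : ModuleCat.{u} C} (e : M ≅ N)
    (h : TorsM g l M) : TorsM g l N := by
  intro i hi z
  have E : (koszulCx M l).homology i ≅ (koszulCx N l).homology i :=
    (HomologicalComplex.homologyFunctor _ _ i).mapIso ((KF l).mapIso e)
  obtain ⟨k, hk⟩ := h i hi (E.toLinearEquiv.symm z)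
  refine ⟨k, ?_⟩
  rw [← E.toLinearEquiv.apply_symm_apply z, ← map_smul, hk, map_zero]

end Defs

section Restrict
variable {S T : Type u} [CommRing S] [CommRing T] (φ : S →+* T)

/-- Koszul homology commutes with restriction of scalars -/
noncomputable def restrictHomologyIso (M : ModuleCat.{u} T) (l : List S) (i : ℤ) :
    (ModuleCat.restrictScalars φ).obj ((koszulCx M (l.map φ)).homology i) ≅
      (koszulCx ((ModuleCat.restrictScalars φ).obj M) l).homology i :=
  (((koszulCx M (l.map φ)).sc i).mapHomologyIso (ModuleCat.restrictScalars φ)).symm ≪≫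
    (HomologicalComplex.homologyFunctor _ _ i).mapIso (restrictIso φ M l)

theorem torsM_restrict_iff (M : ModuleCat.{u} T) (l : List S) (G : S) :
    TorsM (φ G) (l.map φ) M ↔ TorsM G l ((ModuleCat.restrictScalars φ).obj M) := by
  constructor
  · intro h i hi w
    let E := (restrictHomologyIso φ M l i).toLinearEquiv
    obtain ⟨k, hk⟩ := h i hi (E.symm w)
    refine ⟨k, ?_⟩
    have h2 : G ^ k • (E.symm w) = 0 := by
      rw [ModuleCat.restrictScalars.smul_def, map_pow]
      exact hk
    rw [← E.apply_symm_apply w, ← map_smul, h2, map_zero]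
  · intro h i hi z
    let E := (restrictHomologyIso φ M l i).toLinearEquiv
    obtain ⟨k, hk⟩ := h i hi (E z)
    refine ⟨k, ?_⟩
    rw [← map_smul] at hk
    have h3 := E.map_eq_zero_iff.mp hk
    rw [ModuleCat.restrictScalars.smul_def, map_pow] at h3
    exact h3

end Restrict

section Tensor
variable {B : Type u} [CommRing B]

/-- Koszul homology commutes with tensoring with a flat module (vanishing form, both ways) -/
theorem subsingleton_KH_tensor_iff (F : Type u) [AddCommGroup F] [Module B F] [Module.Flat B F]
    (M : Type u) [AddCommGroup M] [Module B M] (l : List B) (i : ℤ) :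
    Subsingleton (KH l (M ⊗[B] F) i) ↔ Subsingleton (KH l M i ⊗[B] F) := by
  set K := koszulCx (ModuleCat.of B M) l with hK
  have e1 : (((tensorRight (ModuleCat.of B F)).mapHomologicalComplex (ComplexShape.up ℤ)).obj
      K).homology i ≅ (koszulCx (ModuleCat.of B M ⊗ ModuleCat.of B F) l).homology i :=
    (HomologicalComplex.homologyFunctor _ _ i).mapIso (tensIso (ModuleCat.of B F) (ModuleCat.of B M) l)
  have e2 : ((K.sc i).map (tensorRight (ModuleCat.of B F))).homology ≅
      (tensorRight (ModuleCat.of B F)).obj ((K.sc i).homology) :=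
    (K.sc i).mapHomologyIso (tensorRight (ModuleCat.of B F))
  constructor
  · intro h
    have h0 : Limits.IsZero ((koszulCx (ModuleCat.of B M ⊗ ModuleCat.of B F) l).homology i) :=
      ModuleCat.isZero_of_subsingleton _
    have h1 : Limits.IsZero ((tensorRight (ModuleCat.of B F)).obj ((K.sc i).homology)) :=
      Limits.IsZero.of_iso (Limits.IsZero.of_iso h0 e1) e2.symm
    exact ModuleCat.subsingleton_of_isZero h1
  · intro h
    have h1 : Limits.IsZero ((tensorRight (ModuleCat.of B F)).obj ((K.sc i).homology)) := by
      have h' : Subsingleton ↑((tensorRight (ModuleCat.of B F)).obj ((K.sc i).homology)) := h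
      exact ModuleCat.isZero_of_subsingleton _
    have h0 : Limits.IsZero ((koszulCx (ModuleCat.of B M ⊗ ModuleCat.of B F) l).homology i) :=
      Limits.IsZero.of_iso (Limits.IsZero.of_iso h1 e2) e1.symm
    exact ModuleCat.subsingleton_of_isZero h0

end Tensor

section Away
variable {C : Type u} [CommRing C]

lemma subsingleton_tensor_away_iff (g : C) (N : Type u) [AddCommGroup N] [Module C N] :
    Subsingleton (N ⊗[C] Localization.Away g) ↔ ∀ z : N, ∃ k : ℕ, g ^ k • z = 0 := by
  constructor
  · intro h z
    have h6 : Subsingleton (Localization.Away g ⊗[C] N) :=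
      (TensorProduct.comm C (Localization.Away g) N).toEquiv.subsingleton
    have h7 : TensorProduct.mk C (Localization.Away g) N 1 z = 0 := Subsingleton.elim _ _
    obtain ⟨c, hc⟩ := (IsLocalizedModule.eq_zero_iff (Submonoid.powers g)
      (TensorProduct.mk C (Localization.Away g) N 1)).mp h7
    obtain ⟨k, hk⟩ := c.2
    refine ⟨k, ?_⟩
    have hk' : g ^ k = (c : C) := hk
    rw [hk']
    exact hc
  · intro h
    have h6 : Subsingleton (Localization.Away g ⊗[C] N) := by
      refine ⟨fun a b => ?_⟩
      have hz : ∀ y : Localization.Away g ⊗[C] N, y = 0 := by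
        intro y
        obtain ⟨⟨z, s⟩, rfl⟩ := IsLocalizedModule.mk'_surjective (Submonoid.powers g)
          (TensorProduct.mk C (Localization.Away g) N 1) y
        rw [Function.uncurry_apply_pair, IsLocalizedModule.mk'_eq_zero]
        obtain ⟨k, hk⟩ := h z
        exact (IsLocalizedModule.eq_zero_iff (Submonoid.powers g)
          (TensorProduct.mk C (Localization.Away g) N 1)).mpr ⟨⟨g ^ k, k, rfl⟩, hk⟩
      rw [hz a, hz b]
    exact (TensorProduct.comm C N (Localization.Away g)).toEquiv.subsingleton

/-- Koszul-regularity in `C[1/g]` is `g`-power torsion of Koszul homology -/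
theorem isKoszulRegularSeq_away_iff (g : C) (l : List C) :
    LCI.IsKoszulRegularSeq (Localization.Away g) (l.map (algebraMap C (Localization.Away g))) ↔
      TorsAt g l := by
  rw [isKoszulRegularSeq_iff]
  refine forall_congr' fun i => forall_congr' fun hi => ?_
  let φ := algebraMap C (Localization.Away g)
  let E := (restrictHomologyIso φ (ModuleCat.of (Localization.Away g) (Localization.Away g))
    l i).toLinearEquiv
  let e0 : ((ModuleCat.restrictScalars φ).obj
        (ModuleCat.of (Localization.Away g) (Localization.Away g))) ≃ₗ[C] Localization.Away g :=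
    { toFun := fun x => x
      invFun := fun x => x
      map_add' := fun _ _ => rfl
      map_smul' := fun b x => by
        show algebraMap C (Localization.Away g) b • (id x : Localization.Away g) =
          b • (id x : Localization.Away g)
        rw [Algebra.smul_def b (id x : Localization.Away g), smul_eq_mul]
      left_inv := fun _ => rfl
      right_inv := fun _ => rfl }
  let e1 := e0.trans (TensorProduct.lid C (Localization.Away g)).symm
  have s1 : Subsingleton (KH (l.map φ) (Localization.Away g) i) ↔
      Subsingleton (KH l ((ModuleCat.restrictScalars φ).obj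
        (ModuleCat.of (Localization.Away g) (Localization.Away g))) i) :=
    ⟨fun h => by
      have h' : Subsingleton ↑((ModuleCat.restrictScalars φ).obj
        ((koszulCx (ModuleCat.of (Localization.Away g) (Localization.Away g))
          (l.map φ)).homology i)) := h
      exact E.symm.toEquiv.subsingleton, fun h => E.toEquiv.subsingleton⟩
  have s2 : Subsingleton (KH l ((ModuleCat.restrictScalars φ).obj
        (ModuleCat.of (Localization.Away g) (Localization.Away g))) i) ↔
      Subsingleton (KH l (C ⊗[C] Localization.Away g) i) :=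
    ⟨fun h => subsingleton_KH_of_equiv l e1 i h, fun h => subsingleton_KH_of_equiv l e1.symm i h⟩
  rw [s1, s2, subsingleton_KH_tensor_iff, subsingleton_tensor_away_iff]

end Away

section Append
variable {R S : Type u} [CommRing R] [CommRing S]

open Groth.Agent.Lib.T2H9.KoszulComp in
/-- torsion of Koszul homology passes to the quotient by a Koszul-regular sequence -/
theorem torsAt_append_iff (π : R →+* S) (hπ : Function.Surjective π) (fs gs : List R)
    (hker : RingHom.ker π = Ideal.ofList fs) (hfs : LCI.IsKoszulRegularSeq R fs) (G : R) :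
    TorsAt G (gs ++ fs) ↔ TorsAt (π G) (gs.map π) := by
  unfold TorsAt
  rw [torsM_restrict_iff]
  rw [isKoszulRegularSeq_iff] at hfs
  have hK : ∀ i : ℤ, i ≠ 0 → Limits.IsZero ((koszulCx (ModuleCat.of R R) fs).homology i) :=
    fun i hi => by
      have := hfs i hi
      exact ModuleCat.isZero_of_subsingleton _
  let πl : R →ₗ[R] ((ModuleCat.restrictScalars π).obj (ModuleCat.of S S)) :=
    { toFun := fun r => π r
      map_add' := fun a b => map_add π a b
      map_smul' := fun a b => by
        show π (a * b) = π a * π b
        exact map_mul π a b }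
  have hπl : Function.Surjective πl := hπ
  have hkerl : LinearMap.ker (aug (ModuleCat.of R R) fs).hom = LinearMap.ker πl := by
    rw [aug_ker]
    ext x
    rw [LinearMap.mem_ker]
    show x ∈ Ideal.ofList fs • (⊤ : Ideal R) ↔ π x = 0
    rw [smul_eq_mul, Ideal.mul_top, ← hker, RingHom.mem_ker]
  let e0 : ((koszulCx (ModuleCat.of R R) fs).homology 0) ≃ₗ[R]
      ((ModuleCat.restrictScalars π).obj (ModuleCat.of S S)) :=
    ((aug (ModuleCat.of R R) fs).hom.quotKerEquivOfSurjective
      (aug_surjective (ModuleCat.of R R) fs)).symm ≪≫ₗ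
      (Submodule.quotEquivOfEq _ _ hkerl) ≪≫ₗ (πl.quotKerEquivOfSurjective hπl)
  have key : ∀ i : ℤ, Nonempty ((koszulCx (ModuleCat.of R R) (gs ++ fs)).homology i ≅
      (koszulCx ((ModuleCat.restrictScalars π).obj (ModuleCat.of S S)) gs).homology i) :=
    fun i => nonempty_homology_append_iso (ModuleCat.of R R) fs gs hK _ e0.toModuleIso i
  constructor
  · intro h i hi z
    obtain ⟨e⟩ := key i
    obtain ⟨k, hk⟩ := h i hi (e.toLinearEquiv.symm z)
    refine ⟨k, ?_⟩
    rw [← e.toLinearEquiv.apply_symm_apply z, ← map_smul, hk, map_zero]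
  · intro h i hi z
    obtain ⟨e⟩ := key i
    obtain ⟨k, hk⟩ := h i hi (e.toLinearEquiv z)
    refine ⟨k, ?_⟩
    rw [← map_smul] at hk
    exact e.toLinearEquiv.map_eq_zero_iff.mp hk

end Append

end Groth.Agent.Lib.T2H7.KRegA
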