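import Mathlib
import Groth.Agent.Lib.Helper2GenFree2

/-!
# Fibrewise flatness criterion for finitely presented modules (helper7)

Elementary version: `Z` finitely presented over `B`, flat over `A`, with all fibres
`(B ⊗_A κ(p)) ⊗_B Z` flat over `B ⊗_A κ(p)`; then `Z` is flat over `B`.
-/

set_option autoImplicit false
universe u

namespace Groth.Agent.Lib.T2H7.PdFibA

open TensorProduct

section Transfer

variable {R : Type*} [CommRing R] {A' : Type*} [CommRing A'] [Algebra R A'] {κ : Type*} [CommRing κ]
  [Algebra R κ] [Algebra A' κ] [IsScalarTower R A' κ]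
  {X Y : Type*} [AddCommGroup X] [Module R X] [AddCommGroup Y] [Module R Y]

/-- Injectivity of `κ ⊗_R w` can be tested after base change to an intermediate algebra. -/
theorem lTensor_baseChange_injective_iff (w : X →ₗ[R] Y) :
    Function.Injective ((w.baseChange A').lTensor κ) ↔ Function.Injective (w.lTensor κ) := by
  have hnat := Groth.Agent.Lib.Helper2.GenFree.cancelBaseChange_natural (R := R) (A' := A')
    (κ := κ) w
  let eX := AlgebraTensorModule.cancelBaseChange R A' κ κ X
  let eY := AlgebraTensorModule.cancelBaseChange R A' κ κ Y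
  constructor
  · intro h a b hab
    obtain ⟨a', rfl⟩ := eX.surjective a
    obtain ⟨b', rfl⟩ := eX.surjective b
    rw [← hnat, ← hnat] at hab
    rw [h (eY.injective hab)]
  · intro h a b hab
    apply eX.injective
    apply h
    rw [← hnat, ← hnat, hab]

end Transfer

section Assoc

variable {A B : Type*} [CommRing A] [CommRing B] [Algebra A B]
  {K F : Type*} [AddCommGroup K] [Module B K] [Module A K] [IsScalarTower A B K]
  [AddCommGroup F] [Module B F] [Module A F] [IsScalarTower A B F]
  (N : Type*) [AddCommGroup N] [Module A N]

/-- `(B ⊗_A N) ⊗_B K ≃ K ⊗_A N`. -/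
noncomputable def assocEquiv : ((B ⊗[A] N) ⊗[B] K) ≃ₗ[B] K ⊗[A] N :=
  TensorProduct.comm B (B ⊗[A] N) K ≪≫ₗ AlgebraTensorModule.cancelBaseChange A B B K N

theorem assocEquiv_tmul (b : B) (n : N) (x : K) :
    assocEquiv (K := K) N ((b ⊗ₜ[A] n) ⊗ₜ[B] x) = (b • x) ⊗ₜ[A] n := by
  simp [assocEquiv]

theorem assocEquiv_natural (u : K →ₗ[B] F) (t : (B ⊗[A] N) ⊗[B] K) :
    assocEquiv (K := F) N (u.lTensor (B ⊗[A] N) t) =
      (u.restrictScalars A).rTensor N (assocEquiv (K := K) N t) := by
  induction t using TensorProduct.induction_on with
  | zero => simp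
  | tmul c x =>
    induction c using TensorProduct.induction_on with
    | zero => simp
    | tmul b n =>
      rw [LinearMap.lTensor_tmul, assocEquiv_tmul, assocEquiv_tmul, LinearMap.rTensor_tmul,
        LinearMap.coe_restrictScalars, map_smul]
    | add c₁ c₂ h₁ h₂ => simp only [add_tmul, map_add, h₁, h₂]
  | add t₁ t₂ h₁ h₂ => simp only [map_add, h₁, h₂]

/-- If `0 → K → F → Z → 0` is exact with `Z` flat over `A`, then `K → F` stays injective after
tensoring over `B` with any `B ⊗_A N`. -/
theorem lTensor_fibre_injective {Z : Type*} [AddCommGroup Z] [Module B Z] [Module A Z]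
    [IsScalarTower A B Z] [Module.Flat A Z] (u : K →ₗ[B] F) (π : F →ₗ[B] Z)
    (hu : Function.Injective u) (hπ : Function.Surjective π) (hex : Function.Exact u π) :
    Function.Injective (u.lTensor (B ⊗[A] N)) := by
  have h1 : Function.Injective ((u.restrictScalars A).lTensor N) :=
    LinearMap.lTensor_injective_of_exact_of_flat (π.restrictScalars A) hπ (u.restrictScalars A) hu
      (fun x => hex x) N
  have h2 : Function.Injective ((u.restrictScalars A).rTensor N) :=
    (LinearMap.lTensor_inj_iff_rTensor_inj _ _).mp h1
  intro a b hab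
  apply (assocEquiv (K := K) N).injective
  apply h2
  rw [← assocEquiv_natural, ← assocEquiv_natural, hab]

end Assoc

section Residue

variable {A B : Type u} [CommRing A] [CommRing B] [Algebra A B]

/-- The residue field of the contraction maps to the residue field of a prime. -/
noncomputable def residueMap (Q : Ideal B) [Q.IsPrime] (p : Ideal A) [p.IsPrime]
    (hpQ : Q.comap (algebraMap A B) = p) : p.ResidueField →ₐ[A] Q.ResidueField :=
  Ideal.ResidueField.liftₐ p (Algebra.ofId A Q.ResidueField)
    (by
      intro a ha
      rw [RingHom.mem_ker]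
      change algebraMap A Q.ResidueField a = 0
      rw [IsScalarTower.algebraMap_apply A B Q.ResidueField, Ideal.algebraMap_residueField_eq_zero]
      rw [← hpQ] at ha
      exact ha)
    (by
      intro a ha
      change IsUnit (algebraMap A Q.ResidueField a)
      rw [isUnit_iff_ne_zero, Ne, IsScalarTower.algebraMap_apply A B Q.ResidueField,
        Ideal.algebraMap_residueField_eq_zero]
      intro h
      apply ha
      rw [← hpQ]
      exact h)

/-- The fibre ring over the contraction maps to the residue field of a prime. -/
noncomputable def fibreToResidue (Q : Ideal B) [Q.IsPrime] (p : Ideal A) [p.IsPrime]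
    (hpQ : Q.comap (algebraMap A B) = p) : B ⊗[A] p.ResidueField →ₐ[B] Q.ResidueField :=
  Algebra.TensorProduct.lift (Algebra.ofId B Q.ResidueField) (residueMap Q p hpQ)
    (fun _ _ => Commute.all _ _)

end Residue

section FC

variable {A B : Type u} [CommRing A] [CommRing B] [Algebra A B]
  {Z : Type u} [AddCommGroup Z] [Module B Z] [Module A Z] [IsScalarTower A B Z]

/-- Local form of the fibrewise criterion: the localization at `Q` is free. -/
theorem free_localization_of_fibre_flat [Module.FinitePresentation B Z] [Module.Flat A Z]
    (Q : Ideal B) [Q.IsPrime]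
    (h : Module.Flat (B ⊗[A] (Q.comap (algebraMap A B)).ResidueField)
      ((B ⊗[A] (Q.comap (algebraMap A B)).ResidueField) ⊗[B] Z)) :
    Module.Free (Localization.AtPrime Q) (Localization.AtPrime Q ⊗[B] Z) := by
  obtain ⟨k, π, hπ⟩ := Module.Finite.exists_fin' B Z
  have hK : (LinearMap.ker π).FG := Module.FinitePresentation.fg_ker π hπ
  have : Module.Finite B (LinearMap.ker π) := Module.Finite.iff_fg.mpr hK
  have hex : Function.Exact (LinearMap.ker π).subtype π := LinearMap.exact_subtype_ker_map π
  let _ : Algebra (B ⊗[A] (Q.comap (algebraMap A B)).ResidueField) Q.ResidueField :=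
    (fibreToResidue Q (Q.comap (algebraMap A B)) rfl).toRingHom.toAlgebra
  have : IsScalarTower B (B ⊗[A] (Q.comap (algebraMap A B)).ResidueField) Q.ResidueField :=
    IsScalarTower.of_algebraMap_eq'
      (fibreToResidue Q (Q.comap (algebraMap A B)) rfl).comp_algebraMap.symm
  have h1 : Function.Injective ((LinearMap.ker π).subtype.baseChange
      (B ⊗[A] (Q.comap (algebraMap A B)).ResidueField)) := by
    rw [LinearMap.baseChange_eq_ltensor]
    exact lTensor_fibre_injective (Q.comap (algebraMap A B)).ResidueField
      (LinearMap.ker π).subtype π (Submodule.injective_subtype _) hπ hex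
  have hex1 : Function.Exact ((LinearMap.ker π).subtype.baseChange
      (B ⊗[A] (Q.comap (algebraMap A B)).ResidueField))
      (π.baseChange (B ⊗[A] (Q.comap (algebraMap A B)).ResidueField)) := by
    rw [LinearMap.baseChange_eq_ltensor, LinearMap.baseChange_eq_ltensor]
    exact lTensor_exact _ hex hπ
  have hs1 : Function.Surjective
      (π.baseChange (B ⊗[A] (Q.comap (algebraMap A B)).ResidueField)) := by
    rw [LinearMap.baseChange_eq_ltensor]
    exact LinearMap.lTensor_surjective _ hπ
  have h2 : Function.Injective (((LinearMap.ker π).subtype.baseChange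
      (B ⊗[A] (Q.comap (algebraMap A B)).ResidueField)).lTensor Q.ResidueField) :=
    LinearMap.lTensor_injective_of_exact_of_flat _ hs1 _ h1 hex1 Q.ResidueField
  have h3 : Function.Injective ((LinearMap.ker π).subtype.lTensor Q.ResidueField) :=
    (lTensor_baseChange_injective_iff
      (A' := B ⊗[A] (Q.comap (algebraMap A B)).ResidueField) _).mp h2
  have h4 : Function.Injective (((LinearMap.ker π).subtype.baseChange
      (Localization.AtPrime Q)).lTensor Q.ResidueField) :=
    (lTensor_baseChange_injective_iff (A' := Localization.AtPrime Q) _).mpr h3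
  have hex2 : Function.Exact ((LinearMap.ker π).subtype.baseChange (Localization.AtPrime Q))
      (π.baseChange (Localization.AtPrime Q)) := by
    rw [LinearMap.baseChange_eq_ltensor, LinearMap.baseChange_eq_ltensor]
    exact lTensor_exact _ hex hπ
  have hs2 : Function.Surjective (π.baseChange (Localization.AtPrime Q)) := by
    rw [LinearMap.baseChange_eq_ltensor]
    exact LinearMap.lTensor_surjective _ hπ
  exact Module.free_of_lTensor_residueField_injective _ _ hs2 hex2 h4

/-- **Fibrewise flatness criterion for finitely presented modules**: if `Z` is finitely presented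
over `B`, flat over `A`, and all its fibres are flat over the fibre rings, then `Z` is flat over
`B`. -/
theorem flat_of_fibre_flat [Module.FinitePresentation B Z] [Module.Flat A Z]
    (h : ∀ p : PrimeSpectrum A, Module.Flat (B ⊗[A] p.asIdeal.ResidueField)
      ((B ⊗[A] p.asIdeal.ResidueField) ⊗[B] Z)) : Module.Flat B Z := by
  refine Module.flat_of_isLocalized_maximal B Z (fun Q _ => Localization.AtPrime Q ⊗[B] Z)
    (fun Q _ => TensorProduct.mk B (Localization.AtPrime Q) Z 1) ?_
  intro Q hQ
  have := free_localization_of_fibre_flat (A := A) Q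
    (h ⟨Q.comap (algebraMap A B), inferInstance⟩)
  have : Module.Flat (Localization.AtPrime Q) (Localization.AtPrime Q ⊗[B] Z) := inferInstance
  exact Module.Flat.trans B (Localization.AtPrime Q) _

end FC

end Groth.Agent.Lib.T2H7.PdFibA
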