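import Mathlib
import Groth.Agent.Lib.Helper2GenFree2
import Groth.Agent.Lib.Helper3FlatDescA

/-!
# Syzygies of finitely presented modules: general lemmas (helper7)
-/

set_option autoImplicit false

namespace Groth.Agent.Lib.T2H7.PdTorA

open TensorProduct Groth.Agent.Lib.Helper3.FlatDesc

section FlatKer

variable {R : Type*} [CommRing R]

/-- In a short exact sequence `0 → M' → M → M'' → 0` with `M` and `M''` flat, `M'` is flat. -/
theorem flat_ker {M' M M'' : Type*} [AddCommGroup M'] [AddCommGroup M] [AddCommGroup M'']
    [Module R M'] [Module R M] [Module R M''] [Module.Flat R M] [Module.Flat R M'']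
    (ι : M' →ₗ[R] M) (δ : M →ₗ[R] M'') (hι : Function.Injective ι) (hδ : Function.Surjective δ)
    (hex : Function.Exact ι δ) : Module.Flat R M' := by
  rw [Module.Flat.iff_rTensor_injective']
  intro I
  have h1 : Function.Injective (ι.lTensor I) :=
    LinearMap.lTensor_injective_of_exact_of_flat δ hδ ι hι hex I
  have h2 : Function.Injective (LinearMap.rTensor M (Submodule.subtype I)) :=
    Module.Flat.rTensor_preserves_injective_linearMap _ (Submodule.subtype_injective I)
  have h3 : (LinearMap.rTensor M (Submodule.subtype I)) ∘ₗ (ι.lTensor I) =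
      (ι.lTensor R) ∘ₗ (LinearMap.rTensor M' (Submodule.subtype I)) := by
    rw [LinearMap.rTensor_comp_lTensor, LinearMap.lTensor_comp_rTensor]
  have h4 : Function.Injective ((ι.lTensor R) ∘ₗ (LinearMap.rTensor M' (Submodule.subtype I))) := by
    rw [← h3]
    exact h2.comp h1
  exact Function.Injective.of_comp h4

end FlatKer

section BaseChangeKer

/-- Kernels commute with base change when the cokernel is flat: if `F → G → H → Q → 0` is exact
over `R` with `Q` flat, and `G → G'`, `H → H'` are base changes along `R → R'`, then the kernel of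
`G' → H'` is spanned by the image of `F`. -/
theorem mem_span_of_flat_coker {R R' : Type*} [CommRing R] [CommRing R'] [Algebra R R']
    {F G H Q G' H' : Type*} [AddCommGroup F] [Module R F] [AddCommGroup G] [Module R G]
    [AddCommGroup H] [Module R H] [AddCommGroup Q] [Module R Q]
    [AddCommGroup G'] [Module R G'] [Module R' G'] [IsScalarTower R R' G']
    [AddCommGroup H'] [Module R H'] [Module R' H'] [IsScalarTower R R' H']
    (u : F →ₗ[R] G) (v : G →ₗ[R] H) (q : H →ₗ[R] Q) (hq : Function.Surjective q)
    (huv : Function.Exact u v) (hvq : Function.Exact v q) [Module.Flat R Q]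
    (g : G →ₗ[R] G') (h : H →ₗ[R] H') (hg : IsBaseChange R' g) (hh : IsBaseChange R' h)
    (v' : G' →ₗ[R'] H') (hcomm : ∀ x, v' (g x) = h (v x)) {c : G'} (hc : v' c = 0) :
    c ∈ Submodule.span R' (Set.range fun x => g (u x)) := by
  have hex := Groth.Agent.Lib.Helper2.GenFree.exact_lTensor_of_flat_coker u v q hq huv hvq R'
  have hnat : ∀ z : R' ⊗[R] G, hh.equiv (v.lTensor R' z) = v' (hg.equiv z) := by
    intro z
    induction z using TensorProduct.induction_on with
    | zero => simp
    | tmul r x =>
      rw [LinearMap.lTensor_tmul, IsBaseChange.equiv_tmul, IsBaseChange.equiv_tmul, map_smul,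
        hcomm]
    | add a b ha hb => rw [map_add, map_add, ha, hb, map_add, map_add]
  have hz : v.lTensor R' (hg.equiv.symm c) = 0 := by
    apply hh.equiv.injective
    rw [hnat, LinearEquiv.apply_symm_apply, hc, map_zero]
  obtain ⟨y, hy⟩ := (hex _).mp hz
  have key : ∀ y : R' ⊗[R] F, hg.equiv (u.lTensor R' y) ∈
      Submodule.span R' (Set.range fun x => g (u x)) := by
    intro y
    induction y using TensorProduct.induction_on with
    | zero => simp
    | tmul r x =>
      rw [LinearMap.lTensor_tmul, IsBaseChange.equiv_tmul]
      exact Submodule.smul_mem _ _ (Submodule.subset_span ⟨x, rfl⟩)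
    | add a b ha hb =>
      rw [map_add, map_add]
      exact Submodule.add_mem _ ha hb
  have := key y
  rwa [hy, LinearEquiv.apply_symm_apply] at this

end BaseChangeKer

section Surj

variable {P B : Type*} [CommRing P] [CommRing B] [Algebra P B]

/-- The `B`-linear extension of a `P`-linear map out of `P^r` is compatible with the coordinatewise
map `P^r → B^r`. -/
theorem linearCombination_Fmap {N : Type*} [AddCommGroup N] [Module P N]
    [Module B N] [IsScalarTower P B N] {r : ℕ} (f : (Fin r → P) →ₗ[P] N) (a : Fin r → P) :
    Fintype.linearCombination B (fun i => f (Pi.single i 1)) (Fmap P B (Fin r) a) = f a := by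
  classical
  rw [Fintype.linearCombination_apply]
  conv_rhs => rw [LinearMap.pi_apply_eq_sum_univ f a]
  refine Finset.sum_congr rfl fun i _ => ?_
  rw [Fmap_apply, algebraMap_smul]
  congr 2
  funext j
  simp [Pi.single_apply, eq_comm]

/-- Finitely presented over `P` implies finitely presented over a quotient `B` of `P`. -/
theorem finitePresentation_of_surjective_algebraMap
    (hs : Function.Surjective (algebraMap P B)) (N : Type*) [AddCommGroup N] [Module P N]
    [Module B N] [IsScalarTower P B N] [Module.FinitePresentation P N] :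
    Module.FinitePresentation B N := by
  classical
  obtain ⟨r, s, f, g, hf, hex⟩ := Module.FinitePresentation.exists_fin' P N
  let fB : (Fin r → B) →ₗ[B] N := Fintype.linearCombination B (fun i => f (Pi.single i 1))
  have hfB : ∀ a : Fin r → P, fB (Fmap P B (Fin r) a) = f a := by
    intro a
    rw [Fintype.linearCombination_apply]
    conv_rhs => rw [LinearMap.pi_apply_eq_sum_univ f a]
    refine Finset.sum_congr rfl fun i _ => ?_
    rw [Fmap_apply, algebraMap_smul]
    congr 2
    funext j
    simp [Pi.single_apply, eq_comm]
  have hsingle : ∀ j : Fin s, (fun j' => if j = j' then (1 : P) else 0) = Pi.single j 1 := by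
    intro j
    funext j'
    simp [Pi.single_apply, eq_comm]
  have hlift : ∀ b : Fin r → B, ∃ a : Fin r → P, Fmap P B (Fin r) a = b := by
    intro b
    choose a ha using fun i => hs (b i)
    exact ⟨a, funext ha⟩
  have hsurj : Function.Surjective fB := by
    intro x
    obtain ⟨a, rfl⟩ := hf x
    exact ⟨_, hfB a⟩
  refine Module.finitePresentation_of_surjective fB hsurj ?_
  have hker : LinearMap.ker fB =
      Submodule.span B (Set.range fun j : Fin s => Fmap P B (Fin r) (g (Pi.single j 1))) := by
    apply le_antisymm
    · intro b hb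
      obtain ⟨a, rfl⟩ := hlift b
      have ha : f a = 0 := by rw [← hfB]; exact hb
      obtain ⟨c, rfl⟩ := (hex a).mp ha
      rw [LinearMap.pi_apply_eq_sum_univ g c, map_sum]
      refine Submodule.sum_mem _ fun j _ => ?_
      rw [Fmap_smul', hsingle]
      exact Submodule.smul_mem _ _ (Submodule.subset_span ⟨j, rfl⟩)
    · rw [Submodule.span_le]
      rintro _ ⟨j, rfl⟩
      rw [SetLike.mem_coe, LinearMap.mem_ker, hfB]
      exact (hex _).mpr ⟨_, rfl⟩
  rw [hker]
  exact Submodule.fg_span (Set.finite_range _)

/-- Passing a presentation `P^k → Z` with finitely presented kernel to the quotient `B` of `P`. -/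
theorem finitePresentation_ker_of_surjective_algebraMap
    (hs : Function.Surjective (algebraMap P B)) (hI : (RingHom.ker (algebraMap P B)).FG)
    {Z : Type*} [AddCommGroup Z] [Module P Z] [Module B Z] [IsScalarTower P B Z] {k : ℕ}
    (π₀ : (Fin k → P) →ₗ[P] Z) (π : (Fin k → B) →ₗ[B] Z)
    (hπ : ∀ x, π (Fmap P B (Fin k) x) = π₀ x)
    [Module.FinitePresentation P (LinearMap.ker π₀)] :
    Module.FinitePresentation B (LinearMap.ker π) := by
  let ρ : LinearMap.ker π₀ →ₗ[P] LinearMap.ker π :=
    { toFun := fun x => ⟨Fmap P B (Fin k) x.1, by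
        rw [LinearMap.mem_ker, hπ]; exact x.2⟩
      map_add' := fun x y => by
        apply Subtype.ext
        simp
      map_smul' := fun p x => by
        apply Subtype.ext
        simp }
  have hρ : ∀ x : LinearMap.ker π₀, ((ρ x : LinearMap.ker π) : Fin k → B) =
      Fmap P B (Fin k) x.1 := fun x => rfl
  have hρs : Function.Surjective ρ := by
    intro y
    choose a ha using fun i => hs (y.1 i)
    have hay : Fmap P B (Fin k) a = y.1 := funext ha
    have hak : a ∈ LinearMap.ker π₀ := by
      rw [LinearMap.mem_ker, ← hπ, hay]
      exact y.2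
    exact ⟨⟨a, hak⟩, Subtype.ext hay⟩
  let J : Submodule P (Fin k → P) :=
    Submodule.pi Set.univ (fun _ => (RingHom.ker (algebraMap P B) : Submodule P P))
  have hJfg : J.FG := Submodule.fg_pi (fun _ => hI)
  have hJ : ∀ x : Fin k → P, x ∈ J ↔ Fmap P B (Fin k) x = 0 := by
    intro x
    constructor
    · intro hx
      funext i
      exact hx i (Set.mem_univ i)
    · intro hx i _
      exact congrFun hx i
  have hmap : (LinearMap.ker ρ).map (LinearMap.ker π₀).subtype = J := by
    ext x
    constructor
    · rintro ⟨y, hy, rfl⟩
      rw [hJ]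
      have : ρ y = 0 := hy
      change Fmap P B (Fin k) y.1 = 0
      rw [← hρ, this]
      rfl
    · intro hx
      have hx0 := (hJ x).mp hx
      have hxk : x ∈ LinearMap.ker π₀ := by
        rw [LinearMap.mem_ker, ← hπ, hx0, map_zero]
      refine ⟨⟨x, hxk⟩, ?_, rfl⟩
      rw [SetLike.mem_coe, LinearMap.mem_ker]
      exact Subtype.ext hx0
  have hρk : (LinearMap.ker ρ).FG :=
    Submodule.fg_of_fg_map_injective (LinearMap.ker π₀).subtype (Submodule.injective_subtype _)
      (by rw [hmap]; exact hJfg)
  have : Module.FinitePresentation P (LinearMap.ker π) :=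
    Module.finitePresentation_of_surjective ρ hρs hρk
  exact finitePresentation_of_surjective_algebraMap hs (LinearMap.ker π)

end Surj

end Groth.Agent.Lib.T2H7.PdTorA
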