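import Mathlib
import Groth.Agent.Lib.T2H7PdTorA
import Groth.Agent.Lib.Helper3FlatDescE

/-!
# Syzygies of finitely presented flat modules are finitely presented (helper7)
-/

set_option autoImplicit false
universe u

namespace Groth.Agent.Lib.T2H7.PdTorB

open TensorProduct MvPolynomial Groth.Agent.Lib.Helper3.FlatLoc Groth.Agent.Lib.Helper3.FlatDesc
  Groth.Agent.Lib.Helper3.FlatOpen Groth.Agent.Lib.T2H7.PdTorA

attribute [local instance] MvPolynomial.algebraMvPolynomial

section Model

/-- Kernel elements of the presentation matrix come from the Noetherian model. -/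
theorem mem_span_ker_model {Λ A₀ A : Type*} [CommRing Λ] [CommRing A₀] [CommRing A]
    [Algebra Λ A₀] [Algebra Λ A] [Algebra A₀ A] [IsScalarTower Λ A₀ A] [IsNoetherianRing A₀]
    {n k m : ℕ} (w : Fin m → Fin k → MvPolynomial (Fin n) Λ)
    (hflat₀ : Module.Flat A₀
      ((Fin k → MvPolynomial (Fin n) A₀) ⧸ KT w (MvPolynomial (Fin n) A₀))) 
    (c : Fin m → MvPolynomial (Fin n) A) (hc : WT w (MvPolynomial (Fin n) A) c = 0) :
    c ∈ Submodule.span A (Set.range fun x : LinearMap.ker
          (WT w (MvPolynomial (Fin n) A₀)) =>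
          Fmap (MvPolynomial (Fin n) A₀) (MvPolynomial (Fin n) A) (Fin m) x.1) := by
  classical
  have := isScalarTower_mvPolynomial (σ := Fin n) Λ A₀ A
  have hbm : IsBaseChange A
      ((Fmap (MvPolynomial (Fin n) A₀) (MvPolynomial (Fin n) A) (Fin m)).restrictScalars A₀) :=
    isBaseChange_restrictScalars_of_isPushout _
      (IsBaseChange.finitePow (Fin m) (IsBaseChange.linearMap _ _))
  have hbk : IsBaseChange A
      ((Fmap (MvPolynomial (Fin n) A₀) (MvPolynomial (Fin n) A) (Fin k)).restrictScalars A₀) :=
    isBaseChange_restrictScalars_of_isPushout _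
      (IsBaseChange.finitePow (Fin k) (IsBaseChange.linearMap _ _))
  let u : LinearMap.ker (WT w (MvPolynomial (Fin n) A₀)) →ₗ[A₀] (Fin m → MvPolynomial (Fin n) A₀) :=
    (LinearMap.ker (WT w (MvPolynomial (Fin n) A₀))).subtype.restrictScalars A₀
  let v : (Fin m → MvPolynomial (Fin n) A₀) →ₗ[A₀] (Fin k → MvPolynomial (Fin n) A₀) :=
    (WT w (MvPolynomial (Fin n) A₀)).restrictScalars A₀
  let q : (Fin k → MvPolynomial (Fin n) A₀) →ₗ[A₀]
      ((Fin k → MvPolynomial (Fin n) A₀) ⧸ KT w (MvPolynomial (Fin n) A₀)) :=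
    (KT w (MvPolynomial (Fin n) A₀)).mkQ.restrictScalars A₀
  have hq : Function.Surjective q := fun y => Submodule.mkQ_surjective (KT w (MvPolynomial (Fin n) A₀)) y
  have huv : Function.Exact u v := fun x => LinearMap.exact_subtype_ker_map _ x
  have hvq : Function.Exact v q := fun x => LinearMap.exact_map_mkQ_range (WT w (MvPolynomial (Fin n) A₀)) x
  exact mem_span_of_flat_coker (R := A₀) (R' := A) u v q hq huv hvq
    ((Fmap (MvPolynomial (Fin n) A₀) (MvPolynomial (Fin n) A) (Fin m)).restrictScalars A₀)
    ((Fmap (MvPolynomial (Fin n) A₀) (MvPolynomial (Fin n) A) (Fin k)).restrictScalars A₀)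
    hbm hbk ((WT w (MvPolynomial (Fin n) A)).restrictScalars A)
    (fun x => WT_Fmap w (MvPolynomial (Fin n) A₀) (MvPolynomial (Fin n) A) x) hc

/-- If the presented module is flat over a Noetherian ring `A₀`, then the kernel of the presentation
matrix over any `A₀`-algebra `A` is finitely generated. -/
theorem fg_ker_WT_of_model {Λ A₀ A : Type*} [CommRing Λ] [CommRing A₀] [CommRing A]
    [Algebra Λ A₀] [Algebra Λ A] [Algebra A₀ A] [IsScalarTower Λ A₀ A] [IsNoetherianRing A₀]
    {n k m : ℕ} (w : Fin m → Fin k → MvPolynomial (Fin n) Λ)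
    (hflat₀ : Module.Flat A₀
      ((Fin k → MvPolynomial (Fin n) A₀) ⧸ KT w (MvPolynomial (Fin n) A₀))) :
    (LinearMap.ker (WT w (MvPolynomial (Fin n) A))).FG := by
  classical
  have := isScalarTower_mvPolynomial (σ := Fin n) Λ A₀ A
  obtain ⟨S₀, hS₀⟩ :=
    (IsNoetherian.noetherian (LinearMap.ker (WT w (MvPolynomial (Fin n) A₀))))
  have hspan : LinearMap.ker (WT w (MvPolynomial (Fin n) A)) =
      Submodule.span (MvPolynomial (Fin n) A)
        (Fmap (MvPolynomial (Fin n) A₀) (MvPolynomial (Fin n) A) (Fin m) '' (S₀ : Set _)) := by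
    apply le_antisymm
    · intro c hc
      have h1 := mem_span_ker_model (A₀ := A₀) (A := A) w hflat₀ c hc
      have h2 : Submodule.span A (Set.range fun x : LinearMap.ker
          (WT w (MvPolynomial (Fin n) A₀)) =>
          Fmap (MvPolynomial (Fin n) A₀) (MvPolynomial (Fin n) A) (Fin m) x.1) ≤
          (Submodule.span (MvPolynomial (Fin n) A)
            (Fmap (MvPolynomial (Fin n) A₀) (MvPolynomial (Fin n) A) (Fin m) ''
              (S₀ : Set _))).restrictScalars A := by
        rw [Submodule.span_le]
        rintro _ ⟨x, rfl⟩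
        have hx : x.1 ∈ Submodule.span (MvPolynomial (Fin n) A₀) (S₀ : Set _) := by
          rw [hS₀]; exact x.2
        have key : ∀ y ∈ Submodule.span (MvPolynomial (Fin n) A₀) (S₀ : Set _),
            Fmap (MvPolynomial (Fin n) A₀) (MvPolynomial (Fin n) A) (Fin m) y ∈
              Submodule.span (MvPolynomial (Fin n) A)
                (Fmap (MvPolynomial (Fin n) A₀) (MvPolynomial (Fin n) A) (Fin m) ''
                  (S₀ : Set _)) := by
          intro y hy
          induction hy using Submodule.span_induction with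
          | mem y hy => exact Submodule.subset_span ⟨y, hy, rfl⟩
          | zero => rw [map_zero]; exact Submodule.zero_mem _
          | add y z _ _ hy hz => rw [map_add]; exact Submodule.add_mem _ hy hz
          | smul a y _ hy => rw [Fmap_smul']; exact Submodule.smul_mem _ _ hy
        exact key _ hx
      exact h2 h1
    · rw [Submodule.span_le]
      rintro _ ⟨y, hy, rfl⟩
      have hyk : y ∈ LinearMap.ker (WT w (MvPolynomial (Fin n) A₀)) := by
        rw [← hS₀]; exact Submodule.subset_span hy
      rw [SetLike.mem_coe, LinearMap.mem_ker, WT_Fmap, LinearMap.mem_ker.mp hyk, map_zero]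
  rw [hspan]
  exact Submodule.fg_span ((Finset.finite_toSet S₀).image _)

/-- The kernel of the presentation matrix is finitely generated when the presented module is flat
over the base. -/
theorem fg_ker_WT {A : Type u} [CommRing A] {n k m : ℕ} (Λ : Subalgebra ℤ A) (hΛ : Λ.FG)
    (w : Fin m → Fin k → MvPolynomial (Fin n) Λ)
    (hflat : Module.Flat A
      ((Fin k → MvPolynomial (Fin n) A) ⧸ KT w (MvPolynomial (Fin n) A))) :
    (LinearMap.ker (WT w (MvPolynomial (Fin n) A))).FG := by
  classical
  have : Algebra.FiniteType ℤ Λ := (Subalgebra.fg_iff_finiteType Λ).mp hΛ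
  have : IsNoetherianRing Λ := Algebra.FiniteType.isNoetherianRing ℤ Λ
  obtain ⟨A₀, hA₀fg, -, hflat₀⟩ := exists_fg_subalgebra_flat_global (Λ := Λ) (R := A) w hflat ∅
  have : Algebra.FiniteType Λ A₀ := (Subalgebra.fg_iff_finiteType A₀).mp hA₀fg
  have : IsNoetherianRing A₀ := Algebra.FiniteType.isNoetherianRing Λ A₀
  exact fg_ker_WT_of_model (Λ := Λ) (A₀ := A₀) (A := A) w hflat₀

end Model

section Syzygy

/-- **First syzygies stay finitely presented**: for `B` a finitely presented flat `A`-algebra and
`Z` a finitely presented `B`-module flat over `A`, there is a surjection `B^k → Z` whose kernel is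
again finitely presented over `B` and flat over `A`. -/
theorem exists_syzygy (A B Z : Type u) [CommRing A] [CommRing B] [Algebra A B]
    [Algebra.FinitePresentation A B] [Module.Flat A B] [AddCommGroup Z] [Module B Z] [Module A Z]
    [IsScalarTower A B Z] [Module.FinitePresentation B Z] [Module.Flat A Z] :
    ∃ (k : ℕ) (π : (Fin k → B) →ₗ[B] Z), Function.Surjective π ∧
      Module.FinitePresentation B (LinearMap.ker π) ∧ Module.Flat A (LinearMap.ker π) := by
  classical
  obtain ⟨n, f, hf, hker⟩ := Algebra.FinitePresentation.out (R := A) (A := B)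
  let _ : Algebra (MvPolynomial (Fin n) A) B := f.toRingHom.toAlgebra
  have : IsScalarTower A (MvPolynomial (Fin n) A) B :=
    .of_algebraMap_eq' f.comp_algebraMap.symm
  let _ : Module (MvPolynomial (Fin n) A) Z := Module.compHom Z f.toRingHom
  have : IsScalarTower (MvPolynomial (Fin n) A) B Z :=
    ⟨fun p s m => by
      change (f p * s) • m = f p • (s • m)
      rw [mul_smul]⟩
  have : IsScalarTower A (MvPolynomial (Fin n) A) Z :=
    ⟨fun r p m => by
      change f (r • p) • m = r • (f p • m)
      rw [map_smul, smul_assoc]⟩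
  have : Module.FinitePresentation (MvPolynomial (Fin n) A) B :=
    Module.finitePresentation_of_surjective (Algebra.linearMap (MvPolynomial (Fin n) A) B) hf
      hker
  have : Module.FinitePresentation (MvPolynomial (Fin n) A) Z :=
    Module.FinitePresentation.trans (MvPolynomial (Fin n) A) Z B
  obtain ⟨k, m, Λ, hΛ, w, ⟨e⟩⟩ := exists_model_equiv (R := A) (n := n) (M := Z)
  have hflat : Module.Flat A
      ((Fin k → MvPolynomial (Fin n) A) ⧸ KT w (MvPolynomial (Fin n) A)) :=
    Module.Flat.of_linearEquiv (e.restrictScalars A)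
  have hfg := fg_ker_WT Λ hΛ w hflat
  have hKT : Module.FinitePresentation (MvPolynomial (Fin n) A)
      (LinearMap.range (WT w (MvPolynomial (Fin n) A))) :=
    Module.finitePresentation_of_surjective (WT w (MvPolynomial (Fin n) A)).rangeRestrict
      (LinearMap.surjective_rangeRestrict _) (by rw [LinearMap.ker_rangeRestrict]; exact hfg)
  let π₀ : (Fin k → MvPolynomial (Fin n) A) →ₗ[MvPolynomial (Fin n) A] Z :=
    e.toLinearMap ∘ₗ (KT w (MvPolynomial (Fin n) A)).mkQ
  have hπ₀s : Function.Surjective π₀ := fun z => by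
    obtain ⟨x, hx⟩ := Submodule.mkQ_surjective (KT w (MvPolynomial (Fin n) A)) (e.symm z)
    exact ⟨x, by simp [π₀, hx]⟩
  have hπ₀k : LinearMap.ker π₀ = KT w (MvPolynomial (Fin n) A) := by
    ext x
    simp only [π₀, LinearMap.mem_ker, LinearMap.comp_apply, LinearEquiv.coe_coe,
      LinearEquiv.map_eq_zero_iff, Submodule.mkQ_apply, Submodule.Quotient.mk_eq_zero]
  let π : (Fin k → B) →ₗ[B] Z := Fintype.linearCombination B (fun i => π₀ (Pi.single i 1))
  have hπ : ∀ x, π (Fmap (MvPolynomial (Fin n) A) B (Fin k) x) = π₀ x :=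
    fun x => linearCombination_Fmap π₀ x
  have hπs : Function.Surjective π := fun z => by
    obtain ⟨x, rfl⟩ := hπ₀s z
    exact ⟨_, hπ x⟩
  have hfp₀ : Module.FinitePresentation (MvPolynomial (Fin n) A) (LinearMap.ker π₀) := by
    rw [hπ₀k]; exact hKT
  have hfp : Module.FinitePresentation B (LinearMap.ker π) :=
    finitePresentation_ker_of_surjective_algebraMap hf hker π₀ π hπ
  refine ⟨k, π, hπs, hfp, ?_⟩
  have : Module.Flat A (Fin k → B) :=
    Module.Flat.of_linearEquiv
      (DFinsupp.linearEquivFunOnFintype (R := A) (M := fun _ : Fin k => B)).symm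
  exact flat_ker (R := A) ((LinearMap.ker π).subtype.restrictScalars A) (π.restrictScalars A)
    (Submodule.injective_subtype _) hπs (fun x => LinearMap.exact_subtype_ker_map π x)

end Syzygy

end Groth.Agent.Lib.T2H7.PdTorB
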