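import Mathlib
import Groth.Agent.Lib.T2H7PdTorB
import Groth.Agent.Lib.Helper13TorMore
import Groth.Agent.S6313

/-!
# Projective dimension versus Tor dimension (helper7)
-/

set_option autoImplicit false
universe u

namespace Groth.Agent.Lib.T2H7.PdTorC

open CategoryTheory CategoryTheory.Limits MonoidalCategory Groth.Agent.Helper13Tor

section General

variable {R : Type u} [CommRing R]

/-- The short complex `0 → ker π → F → Z → 0` of a linear map. -/
noncomputable def kerSC {F Z : Type u} [AddCommGroup F] [Module R F] [AddCommGroup Z] [Module R Z]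
    (π : F →ₗ[R] Z) : ShortComplex (ModuleCat.{u} R) :=
  ShortComplex.mk (ModuleCat.ofHom (LinearMap.ker π).subtype) (ModuleCat.ofHom π) (by
    ext x
    exact x.2)

theorem kerSC_shortExact {F Z : Type u} [AddCommGroup F] [Module R F] [AddCommGroup Z]
    [Module R Z] (π : F →ₗ[R] Z) (hπ : Function.Surjective π) : (kerSC π).ShortExact := by
  refine ShortComplex.ShortExact.mk' ?_ ?_ ?_
  · rw [ShortComplex.ShortExact.moduleCat_exact_iff_function_exact]
    exact fun x => LinearMap.exact_subtype_ker_map π x
  · rw [ModuleCat.mono_iff_injective]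
    exact Subtype.val_injective
  · rw [ModuleCat.epi_iff_surjective]
    exact hπ

theorem isZero_tor_zero_of_isZero (M N : ModuleCat.{u} R) (hM : IsZero M) :
    IsZero (((Tor (ModuleCat.{u} R) 0).obj M).obj N) := by
  refine IsZero.of_iso ?_ ((tL M).leftDerivedZeroIsoSelf.app N)
  rw [IsZero.iff_id_eq_zero]
  change 𝟙 (M ⊗ N) = 0
  rw [← id_whiskerRight, hM.eq_of_src (𝟙 M) 0, MonoidalPreadditive.zero_whiskerRight]

theorem isZero_of_tor_zero (M : ModuleCat.{u} R)
    (h : ∀ N : ModuleCat.{u} R, IsZero (((Tor (ModuleCat.{u} R) 0).obj M).obj N)) : IsZero M := by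
  have h1 : IsZero ((tL M).obj (𝟙_ (ModuleCat.{u} R))) :=
    IsZero.of_iso (h _) ((tL M).leftDerivedZeroIsoSelf.app _).symm
  exact IsZero.of_iso h1 (ρ_ M).symm

theorem projective_of_module_projective (F : Type u) [AddCommGroup F] [Module R F]
    [Module.Projective R F] : Projective (ModuleCat.of R F) :=
  (IsProjective.iff_projective (ModuleCat.of R F)).mp ‹_›

/-- Vanishing of `Tor_i(M, -)` for a module of projective dimension `< i`. -/
theorem isZero_tor_of_hasProjectiveDimensionLT : ∀ (i : ℕ) (M : Type u) [AddCommGroup M]
    [Module R M], HasProjectiveDimensionLT (ModuleCat.of R M) i → ∀ N : ModuleCat.{u} R,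
      IsZero (((Tor (ModuleCat.{u} R) i).obj (ModuleCat.of R M)).obj N) := by
  intro i
  induction i with
  | zero =>
    intro M _ _ h N
    exact isZero_tor_zero_of_isZero _ N (isZero_of_hasProjectiveDimensionLT_zero _)
  | succ i ih =>
    intro M _ _ h N
    rcases i with _ | i
    · have hp : Projective (ModuleCat.of R M) := inferInstance
      have : Module.Projective R M := (IsProjective.iff_projective (ModuleCat.of R M)).mpr hp
      have : Module.Flat R M := inferInstance
      exact isZero_tor_of_flat N (ModuleCat.of R M) 1 (by omega)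
    · let π : (M →₀ R) →ₗ[R] M := Finsupp.linearCombination R id
      have hπ : Function.Surjective π := Finsupp.linearCombination_id_surjective R M
      have hS := kerSC_shortExact π hπ
      have hproj : Projective (kerSC π).X₂ := projective_of_module_projective (M →₀ R)
      have h3 : HasProjectiveDimensionLT (kerSC π).X₃ (i + 2) := h
      have h1 : HasProjectiveDimensionLT (kerSC π).X₁ (i + 1) :=
        (hS.hasProjectiveDimensionLT_X₃_iff i hproj).mp h3
      have hK := ih (LinearMap.ker π) h1 N
      have hF : IsZero (((Tor (ModuleCat.{u} R) (i + 1 + 1)).obj (kerSC π).X₂).obj N) :=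
        isZero_tor_of_flat N (ModuleCat.of R (M →₀ R)) (i + 1 + 1) (by omega)
      exact isZero_tor_X₃ (kerSC π) hS N (i + 1) hF hK

end General

section Main

variable (A B : Type u) [CommRing A] [CommRing B] [Algebra A B]
  [Algebra.FinitePresentation A B] [Module.Flat A B]

/-- Vanishing of `Tor_i(Z, -)` bounds the projective dimension for finitely presented modules flat
over the base. -/
theorem hasProjectiveDimensionLT_of_isZero_tor : ∀ (i : ℕ) (Z : Type u) [AddCommGroup Z]
    [Module B Z] [Module A Z] [IsScalarTower A B Z] [Module.FinitePresentation B Z]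
    [Module.Flat A Z],
    (∀ N : ModuleCat.{u} B, IsZero (((Tor (ModuleCat.{u} B) i).obj (ModuleCat.of B Z)).obj N)) →
      HasProjectiveDimensionLT (ModuleCat.of B Z) i := by
  intro i
  induction i with
  | zero =>
    intro Z _ _ _ _ _ _ h
    exact (isZero_of_tor_zero _ h).hasProjectiveDimensionLT_zero
  | succ i ih =>
    intro Z _ _ _ _ _ _ h
    rcases i with _ | i
    · have hflat : Module.Flat B Z := by
        rw [Groth.Agent.S6313.result B Z]
        intro I _
        exact h _
      have : Module.Projective B Z := Module.Flat.projective_of_finitePresentation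
      have : Projective (ModuleCat.of B Z) := projective_of_module_projective Z
      infer_instance
    · obtain ⟨k, π, hπs, hfp, hfl⟩ := Groth.Agent.Lib.T2H7.PdTorB.exists_syzygy A B Z
      have hS := kerSC_shortExact π hπs
      have hproj : Projective (kerSC π).X₂ := projective_of_module_projective (Fin k → B)
      have hK : ∀ N : ModuleCat.{u} B,
          IsZero (((Tor (ModuleCat.{u} B) (i + 1)).obj (ModuleCat.of B (LinearMap.ker π))).obj N) := by
        intro N
        have hF : IsZero (((Tor (ModuleCat.{u} B) (i + 1)).obj (kerSC π).X₂).obj N) :=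
          isZero_tor_of_flat N (ModuleCat.of B (Fin k → B)) (i + 1) (by omega)
        exact isZero_tor_X₁ (kerSC π) hS N (i + 1) (h N) hF
      have h1 : HasProjectiveDimensionLT (kerSC π).X₁ (i + 1) := ih (LinearMap.ker π) hK
      exact (hS.hasProjectiveDimensionLT_X₃_iff i hproj).mpr h1

/-- Projective dimension equals Tor dimension. -/
theorem projectiveDimension_eq (M : Type u) [AddCommGroup M] [Module B M] [Module A M]
    [IsScalarTower A B M] [Module.FinitePresentation B M] [Module.Flat A M] :
    projectiveDimension (ModuleCat.of B M) =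
      sInf {n : WithBot ℕ∞ | ∀ i : ℕ, n < i → ∀ N : ModuleCat.{u} B,
        Limits.IsZero (((Tor (ModuleCat.{u} B) i).obj (ModuleCat.of B M)).obj N)} := by
  have key : ∀ i : ℕ, HasProjectiveDimensionLT (ModuleCat.of B M) i ↔
      ∀ N : ModuleCat.{u} B,
        IsZero (((Tor (ModuleCat.{u} B) i).obj (ModuleCat.of B M)).obj N) := fun i =>
    ⟨fun h => isZero_tor_of_hasProjectiveDimensionLT i M h,
      fun h => hasProjectiveDimensionLT_of_isZero_tor A B i M h⟩
  have hset : {n : WithBot ℕ∞ | ∀ i : ℕ, n < i → HasProjectiveDimensionLT (ModuleCat.of B M) i} =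
      {n : WithBot ℕ∞ | ∀ i : ℕ, n < i → ∀ N : ModuleCat.{u} B,
        Limits.IsZero (((Tor (ModuleCat.{u} B) i).obj (ModuleCat.of B M)).obj N)} := by
    ext n
    exact forall_congr' fun i => imp_congr_right fun _ => key i
  rw [← hset]
  rfl

end Main

end Groth.Agent.Lib.T2H7.PdTorC
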