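import Mathlib
import Groth.Agent.Lib.T2H7PdTorC
import Groth.Agent.Lib.T2H7PdFibA

/-!
# Projective dimension as the supremum of the fibrewise projective dimensions (helper7)
-/

set_option autoImplicit false
universe u

namespace Groth.Agent.Lib.T2H7.PdFibB

open CategoryTheory CategoryTheory.Limits TensorProduct Groth.Agent.Lib.T2H7.PdTorC
  Groth.Agent.Lib.T2H7.PdFibA

section General

variable {R : Type u} [CommRing R]

/-- The short complex of two composable linear maps with zero composition. -/
noncomputable def mkSC {K F Z : Type u} [AddCommGroup K] [Module R K] [AddCommGroup F] [Module R F]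
    [AddCommGroup Z] [Module R Z] (f : K →ₗ[R] F) (g : F →ₗ[R] Z) (h : ∀ x, g (f x) = 0) :
    ShortComplex (ModuleCat.{u} R) :=
  ShortComplex.mk (ModuleCat.ofHom f) (ModuleCat.ofHom g) (by
    ext x
    exact h x)

theorem mkSC_shortExact {K F Z : Type u} [AddCommGroup K] [Module R K] [AddCommGroup F]
    [Module R F] [AddCommGroup Z] [Module R Z] (f : K →ₗ[R] F) (g : F →ₗ[R] Z)
    (hf : Function.Injective f) (hg : Function.Surjective g) (hex : Function.Exact f g) :
    (mkSC f g (fun x => hex.apply_apply_eq_zero x)).ShortExact := by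
  refine ShortComplex.ShortExact.mk' ?_ ?_ ?_
  · rw [ShortComplex.ShortExact.moduleCat_exact_iff_function_exact]
    exact hex
  · rw [ModuleCat.mono_iff_injective]
    exact hf
  · rw [ModuleCat.epi_iff_surjective]
    exact hg

theorem subsingleton_tensor_of_subsingleton_right {S : Type*} [CommRing S] (C Z : Type*)
    [AddCommGroup C] [Module S C] [AddCommGroup Z] [Module S Z] [Subsingleton Z] :
    Subsingleton (C ⊗[S] Z) := by
  refine ⟨fun a b => ?_⟩
  have key : ∀ t : C ⊗[S] Z, t = 0 := by
    intro t
    induction t using TensorProduct.induction_on with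
    | zero => rfl
    | tmul c z => rw [Subsingleton.elim z 0, tmul_zero]
    | add t₁ t₂ h₁ h₂ => rw [h₁, h₂, add_zero]
  rw [key a, key b]

end General

section Fibre

variable (A B : Type u) [CommRing A] [CommRing B] [Algebra A B]

/-- The dimension-shifting step on a fibre. -/
theorem hasPDLT_fibre_succ_iff (κ : Type u) [CommRing κ] [Algebra A κ]
    {F Z : Type u} [AddCommGroup F] [Module B F] [Module A F] [IsScalarTower A B F]
    [Module.Projective B F]
    [AddCommGroup Z] [Module B Z] [Module A Z] [IsScalarTower A B Z] [Module.Flat A Z]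
    (π : F →ₗ[B] Z) (hπ : Function.Surjective π) (i : ℕ) :
    HasProjectiveDimensionLT (ModuleCat.of (B ⊗[A] κ) ((B ⊗[A] κ) ⊗[B] Z)) (i + 2) ↔
      HasProjectiveDimensionLT
        (ModuleCat.of (B ⊗[A] κ) ((B ⊗[A] κ) ⊗[B] (LinearMap.ker π))) (i + 1) := by
  have hex : Function.Exact (LinearMap.ker π).subtype π := LinearMap.exact_subtype_ker_map π
  have h1 : Function.Injective ((LinearMap.ker π).subtype.baseChange (B ⊗[A] κ)) := by
    rw [LinearMap.baseChange_eq_ltensor]
    exact lTensor_fibre_injective κ (LinearMap.ker π).subtype π (Submodule.injective_subtype _)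
      hπ hex
  have hex1 : Function.Exact ((LinearMap.ker π).subtype.baseChange (B ⊗[A] κ))
      (π.baseChange (B ⊗[A] κ)) := by
    rw [LinearMap.baseChange_eq_ltensor, LinearMap.baseChange_eq_ltensor]
    exact lTensor_exact _ hex hπ
  have hs1 : Function.Surjective (π.baseChange (B ⊗[A] κ)) := by
    rw [LinearMap.baseChange_eq_ltensor]
    exact LinearMap.lTensor_surjective _ hπ
  have hS := mkSC_shortExact _ _ h1 hs1 hex1
  have hproj : Projective (mkSC ((LinearMap.ker π).subtype.baseChange (B ⊗[A] κ))
      (π.baseChange (B ⊗[A] κ)) (fun x => hex1.apply_apply_eq_zero x)).X₂ :=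
    projective_of_module_projective ((B ⊗[A] κ) ⊗[B] F)
  exact hS.hasProjectiveDimensionLT_X₃_iff i hproj

variable [Algebra.FinitePresentation A B] [Module.Flat A B]

/-- Projective dimension does not increase on fibres. -/
theorem hasPDLT_fibre_of_hasPDLT (κ : Type u) [CommRing κ] [Algebra A κ] :
    ∀ (i : ℕ) (Z : Type u) [AddCommGroup Z]
    [Module B Z] [Module A Z] [IsScalarTower A B Z] [Module.FinitePresentation B Z]
    [Module.Flat A Z], HasProjectiveDimensionLT (ModuleCat.of B Z) i →
      HasProjectiveDimensionLT (ModuleCat.of (B ⊗[A] κ) ((B ⊗[A] κ) ⊗[B] Z)) i := by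
  intro i
  induction i with
  | zero =>
    intro Z _ _ _ _ _ _ h
    have hz : IsZero (ModuleCat.of B Z) := isZero_of_hasProjectiveDimensionLT_zero _
    have : Subsingleton Z := ModuleCat.subsingleton_of_isZero hz
    have : Subsingleton ((B ⊗[A] κ) ⊗[B] Z) := subsingleton_tensor_of_subsingleton_right _ _
    exact (ModuleCat.isZero_of_subsingleton _).hasProjectiveDimensionLT_zero
  | succ i ih =>
    intro Z _ _ _ _ _ _ h
    rcases i with _ | i
    · have hp : Projective (ModuleCat.of B Z) := inferInstance
      have : Module.Projective B Z := (IsProjective.iff_projective (ModuleCat.of B Z)).mpr hp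
      have : Projective (ModuleCat.of (B ⊗[A] κ) ((B ⊗[A] κ) ⊗[B] Z)) :=
        projective_of_module_projective _
      infer_instance
    · obtain ⟨k, π, hπs, hfp, hfl⟩ := Groth.Agent.Lib.T2H7.PdTorB.exists_syzygy A B Z
      have hS := kerSC_shortExact π hπs
      have hproj : Projective (kerSC π).X₂ := projective_of_module_projective (Fin k → B)
      have h3 : HasProjectiveDimensionLT (kerSC π).X₃ (i + 2) := h
      have h1 : HasProjectiveDimensionLT (ModuleCat.of B (LinearMap.ker π)) (i + 1) :=
        (hS.hasProjectiveDimensionLT_X₃_iff i hproj).mp h3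
      exact (hasPDLT_fibre_succ_iff A B κ π hπs i).mpr (ih (LinearMap.ker π) h1)

omit [Algebra.FinitePresentation A B] [Module.Flat A B] in
/-- A finite module all of whose fibres vanish is zero. -/
theorem subsingleton_of_fibre_subsingleton (Z : Type u) [AddCommGroup Z] [Module B Z]
    [Module.Finite B Z]
    (h : ∀ p : PrimeSpectrum A, Subsingleton ((B ⊗[A] p.asIdeal.ResidueField) ⊗[B] Z)) :
    Subsingleton Z := by
  rw [← Module.support_eq_empty_iff (R := B), Set.eq_empty_iff_forall_notMem]
  intro Q hQ
  rw [Module.mem_support_iff_nontrivial_residueField_tensorProduct] at hQ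
  let _ : Algebra (B ⊗[A] (Q.asIdeal.comap (algebraMap A B)).ResidueField)
      Q.asIdeal.ResidueField :=
    (fibreToResidue Q.asIdeal (Q.asIdeal.comap (algebraMap A B)) rfl).toRingHom.toAlgebra
  have : IsScalarTower B (B ⊗[A] (Q.asIdeal.comap (algebraMap A B)).ResidueField)
      Q.asIdeal.ResidueField :=
    IsScalarTower.of_algebraMap_eq'
      (fibreToResidue Q.asIdeal (Q.asIdeal.comap (algebraMap A B)) rfl).comp_algebraMap.symm
  have e := AlgebraTensorModule.cancelBaseChange B
    (B ⊗[A] (Q.asIdeal.comap (algebraMap A B)).ResidueField) Q.asIdeal.ResidueField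
    Q.asIdeal.ResidueField Z
  have h0 := h ⟨Q.asIdeal.comap (algebraMap A B), inferInstance⟩
  have h1 : Subsingleton (Q.asIdeal.ResidueField ⊗[B ⊗[A]
      (Q.asIdeal.comap (algebraMap A B)).ResidueField]
      ((B ⊗[A] (Q.asIdeal.comap (algebraMap A B)).ResidueField) ⊗[B] Z)) :=
    subsingleton_tensor_of_subsingleton_right _ _
  have h2 : Subsingleton (Q.asIdeal.ResidueField ⊗[B] Z) := e.symm.injective.subsingleton
  exact not_nontrivial _ hQ

/-- Projective dimension is detected on fibres. -/
theorem hasPDLT_of_hasPDLT_fibre : ∀ (i : ℕ) (Z : Type u) [AddCommGroup Z]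
    [Module B Z] [Module A Z] [IsScalarTower A B Z] [Module.FinitePresentation B Z]
    [Module.Flat A Z],
    (∀ p : PrimeSpectrum A, HasProjectiveDimensionLT
      (ModuleCat.of (B ⊗[A] p.asIdeal.ResidueField)
        ((B ⊗[A] p.asIdeal.ResidueField) ⊗[B] Z)) i) →
      HasProjectiveDimensionLT (ModuleCat.of B Z) i := by
  intro i
  induction i with
  | zero =>
    intro Z _ _ _ _ _ _ h
    have : Subsingleton Z := subsingleton_of_fibre_subsingleton A B Z fun p =>
      ModuleCat.subsingleton_of_isZero (@isZero_of_hasProjectiveDimensionLT_zero _ _ _ _ (h p))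
    exact (ModuleCat.isZero_of_subsingleton _).hasProjectiveDimensionLT_zero
  | succ i ih =>
    intro Z _ _ _ _ _ _ h
    rcases i with _ | i
    · have hflat : Module.Flat B Z := by
        refine flat_of_fibre_flat (A := A) fun p => ?_
        have := h p
        have hp : Projective (ModuleCat.of (B ⊗[A] p.asIdeal.ResidueField)
            ((B ⊗[A] p.asIdeal.ResidueField) ⊗[B] Z)) := inferInstance
        have : Module.Projective (B ⊗[A] p.asIdeal.ResidueField)
            ((B ⊗[A] p.asIdeal.ResidueField) ⊗[B] Z) :=
          (IsProjective.iff_projective (ModuleCat.of (B ⊗[A] p.asIdeal.ResidueField)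
            ((B ⊗[A] p.asIdeal.ResidueField) ⊗[B] Z))).mpr hp
        infer_instance
      have : Module.Projective B Z := Module.Flat.projective_of_finitePresentation
      have : Projective (ModuleCat.of B Z) := projective_of_module_projective Z
      infer_instance
    · obtain ⟨k, π, hπs, hfp, hfl⟩ := Groth.Agent.Lib.T2H7.PdTorB.exists_syzygy A B Z
      have hS := kerSC_shortExact π hπs
      have hproj : Projective (kerSC π).X₂ := projective_of_module_projective (Fin k → B)
      have h1 : HasProjectiveDimensionLT (kerSC π).X₁ (i + 1) :=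
        ih (LinearMap.ker π) fun p =>
          (hasPDLT_fibre_succ_iff A B p.asIdeal.ResidueField π hπs i).mp (h p)
      exact (hS.hasProjectiveDimensionLT_X₃_iff i hproj).mpr h1

theorem projectiveDimension_le_of_forall {C : Type*} [Category* C] [Abelian C] (X : C)
    (n : WithBot ℕ∞) (h : ∀ i : ℕ, n < i → HasProjectiveDimensionLT X i) :
    projectiveDimension X ≤ n := sInf_le h

/-- **Projective dimension is the supremum of the projective dimensions of the fibres.** -/
theorem projectiveDimension_eq_iSup (M : Type u) [AddCommGroup M] [Module B M] [Module A M]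
    [IsScalarTower A B M] [Module.FinitePresentation B M] [Module.Flat A M] :
    projectiveDimension (ModuleCat.of B M) =
      ⨆ p : PrimeSpectrum A, projectiveDimension
        (ModuleCat.of (B ⊗[A] p.asIdeal.ResidueField)
          ((B ⊗[A] p.asIdeal.ResidueField) ⊗[B] M)) := by
  apply le_antisymm
  · refine projectiveDimension_le_of_forall _ _ fun i hi => ?_
    refine hasPDLT_of_hasPDLT_fibre A B i M fun p => ?_
    exact projectiveDimension_lt_iff.mp (lt_of_le_of_lt
      (le_iSup (fun p : PrimeSpectrum A => projectiveDimension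
        (ModuleCat.of (B ⊗[A] p.asIdeal.ResidueField)
          ((B ⊗[A] p.asIdeal.ResidueField) ⊗[B] M))) p) hi)
  · refine iSup_le fun p => ?_
    refine projectiveDimension_le_of_forall _ _ fun i hi => ?_
    exact hasPDLT_fibre_of_hasPDLT A B _ i M (projectiveDimension_lt_iff.mp hi)

end Fibre

end Groth.Agent.Lib.T2H7.PdFibB
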