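import Mathlib
import Groth.Agent.Lib.T2H7PdTorB
import Groth.Agent.Lib.Helper1ResLen

/-!
# Resolutions by finitely generated free modules (helper7)
-/

set_option autoImplicit false
universe u

namespace Groth.Agent.Lib.T2H7.PdRes

open CategoryTheory CategoryTheory.Limits

variable (A B : Type u) [CommRing A] [CommRing B] [Algebra A B]
  [Algebra.FinitePresentation A B] [Module.Flat A B]

/-- A finitely presented `B`-module which is flat over `A`. -/
structure Stage where
  /-- the module -/
  Z : Type u
  [acg : AddCommGroup Z]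
  [modB : Module B Z]
  [modA : Module A Z]
  [tower : IsScalarTower A B Z]
  [fp : Module.FinitePresentation B Z]
  [flat : Module.Flat A Z]

attribute [instance] Stage.acg Stage.modB Stage.modA Stage.tower Stage.fp Stage.flat

namespace Stage

variable {A B}

/-- the rank of the chosen free cover -/
noncomputable def k (s : Stage A B) : ℕ :=
  (Groth.Agent.Lib.T2H7.PdTorB.exists_syzygy A B s.Z).choose

/-- the chosen free cover -/
noncomputable def π (s : Stage A B) : (Fin s.k → B) →ₗ[B] s.Z :=
  (Groth.Agent.Lib.T2H7.PdTorB.exists_syzygy A B s.Z).choose_spec.choose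

theorem π_surjective (s : Stage A B) : Function.Surjective s.π :=
  (Groth.Agent.Lib.T2H7.PdTorB.exists_syzygy A B s.Z).choose_spec.choose_spec.1

/-- the syzygy stage -/
noncomputable def next (s : Stage A B) : Stage A B :=
  have _hfp : Module.FinitePresentation B (LinearMap.ker s.π) :=
    (Groth.Agent.Lib.T2H7.PdTorB.exists_syzygy A B s.Z).choose_spec.choose_spec.2.1
  have _hfl : Module.Flat A (LinearMap.ker s.π) :=
    (Groth.Agent.Lib.T2H7.PdTorB.exists_syzygy A B s.Z).choose_spec.choose_spec.2.2
  Stage.mk (LinearMap.ker s.π)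

end Stage

section Res

variable (M : Type u) [AddCommGroup M] [Module B M] [Module A M]
  [IsScalarTower A B M] [Module.FinitePresentation B M] [Module.Flat A M]

/-- the iterated syzygies -/
noncomputable def stage : ℕ → Stage A B
  | 0 => { Z := M }
  | n + 1 => (stage n).next

/-- the differentials -/
noncomputable def dLin (n : ℕ) :
    (Fin (stage A B M (n + 1)).k → B) →ₗ[B] (Fin (stage A B M n).k → B) :=
  (LinearMap.ker (stage A B M n).π).subtype ∘ₗ
    (show (Fin (stage A B M (n + 1)).k → B) →ₗ[B] LinearMap.ker (stage A B M n).π from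
      (stage A B M (n + 1)).π)

theorem range_dLin (n : ℕ) :
    LinearMap.range (dLin A B M n) = LinearMap.ker (stage A B M n).π := by
  apply le_antisymm
  · rintro _ ⟨v, rfl⟩
    exact ((stage A B M (n + 1)).π v).2
  · intro x hx
    obtain ⟨v, hv⟩ := (stage A B M (n + 1)).π_surjective ⟨x, hx⟩
    exact ⟨v, congrArg Subtype.val hv⟩

theorem ker_dLin (n : ℕ) :
    LinearMap.ker (dLin A B M n) = LinearMap.ker (stage A B M (n + 1)).π := by
  ext v
  constructor
  · intro hv
    exact Subtype.ext hv
  · intro hv
    change ((stage A B M (n + 1)).π v).1 = 0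
    have : (stage A B M (n + 1)).π v = 0 := hv
    rw [this]
    rfl

theorem dLin_comp (n : ℕ) (v : Fin (stage A B M (n + 1 + 1)).k → B) :
    dLin A B M n (dLin A B M (n + 1) v) = 0 := by
  have : dLin A B M (n + 1) v ∈ LinearMap.ker (dLin A B M n) := by
    rw [ker_dLin, ← range_dLin]
    exact ⟨v, rfl⟩
  exact this

/-- the augmentation -/
noncomputable def augLin : (Fin (stage A B M 0).k → B) →ₗ[B] M := (stage A B M 0).π

theorem aug_dLin (v : Fin (stage A B M 1).k → B) : augLin A B M (dLin A B M 0 v) = 0 := by
  have : dLin A B M 0 v ∈ LinearMap.ker (stage A B M 0).π := by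
    rw [← range_dLin]
    exact ⟨v, rfl⟩
  exact this

/-- the complex of free modules -/
noncomputable def cx : ChainComplex (ModuleCat.{u} B) ℕ :=
  ChainComplex.of (fun i => ModuleCat.of B (Fin (stage A B M i).k → B))
    (fun i => ModuleCat.ofHom (dLin A B M i))
    (fun i => by
      apply ModuleCat.hom_ext
      apply LinearMap.ext
      intro v
      exact dLin_comp A B M i v)

theorem cx_d (i : ℕ) : (cx A B M).d (i + 1) i = ModuleCat.ofHom (dLin A B M i) := by
  show ChainComplex.of.d (fun i => ModuleCat.of B (Fin (stage A B M i).k → B))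
    (fun i => ModuleCat.ofHom (dLin A B M i)) (i + 1) i = _
  rw [ChainComplex.of_d]

theorem cx_exactAt_succ (n : ℕ) : (cx A B M).ExactAt (n + 1) := by
  rw [HomologicalComplex.exactAt_iff' _ (n + 2) (n + 1) n (by simp) (by simp),
    ShortComplex.moduleCat_exact_iff]
  intro x hx
  have hx' : ((cx A B M).d (n + 1) n).hom x = 0 := hx
  rw [cx_d] at hx'
  have hmem : (show Fin (stage A B M (n + 1)).k → B from x) ∈
      LinearMap.ker (dLin A B M n) := hx'
  rw [ker_dLin, ← range_dLin] at hmem
  obtain ⟨y, hy⟩ := hmem
  refine ⟨y, ?_⟩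
  show ((cx A B M).d (n + 1 + 1) (n + 1)).hom y = x
  rw [cx_d]
  exact hy

theorem d_aug : (cx A B M).d 1 0 ≫ ModuleCat.ofHom (augLin A B M) = 0 := by
  rw [cx_d]
  apply ModuleCat.hom_ext
  apply LinearMap.ext
  intro v
  exact aug_dLin A B M v

theorem aug_exact :
    (ShortComplex.mk ((cx A B M).d 1 0) (ModuleCat.ofHom (augLin A B M)) (d_aug A B M)).Exact := by
  rw [ShortComplex.moduleCat_exact_iff]
  intro x hx
  have hmem : (show Fin (stage A B M 0).k → B from x) ∈ LinearMap.ker (stage A B M 0).π := hx
  rw [← range_dLin] at hmem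
  obtain ⟨y, hy⟩ := hmem
  refine ⟨y, ?_⟩
  show ((cx A B M).d (0 + 1) 0).hom y = x
  rw [cx_d]
  exact hy

theorem aug_epi : Epi (ModuleCat.ofHom (augLin A B M)) := by
  rw [ModuleCat.epi_iff_surjective]
  exact (stage A B M 0).π_surjective

include A in
/-- A resolution by finitely generated free modules. -/
theorem exists_finite_free_resolution :
    ∃ P : ProjectiveResolution (ModuleCat.of B M),
      ∀ n : ℕ, Module.Finite B (P.complex.X n) ∧ Module.Free B (P.complex.X n) := by
  refine ⟨Groth.Agent.Lib.Helper1.ResLen.mkRes (cx A B M) (ModuleCat.of B M) (fun n => ?_)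
    (ModuleCat.ofHom (augLin A B M)) (d_aug A B M) (aug_exact A B M) (aug_epi A B M)
    (cx_exactAt_succ A B M), fun n => ?_⟩
  · show Projective (ModuleCat.of B (Fin (stage A B M n).k → B))
    exact (IsProjective.iff_projective _).1 inferInstance
  · show Module.Finite B (Fin (stage A B M n).k → B) ∧ Module.Free B (Fin (stage A B M n).k → B)
    exact ⟨inferInstance, inferInstance⟩

end Res

end Groth.Agent.Lib.T2H7.PdRes
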