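import Mathlib
import Groth.Agent.Lib.T2H7PdRes
import Groth.Agent.Lib.Helper1TorDim
import Groth.Agent.Lib.Helper1RelPC2
import Groth.Prelude.Def_MoreMor

/-!
# Pseudo-coherence from finite free resolutions (helper7)
-/

set_option autoImplicit false
universe u
open CategoryTheory CategoryTheory.Limits
attribute [local instance] HasDerivedCategory.standard

namespace Groth.Agent.Lib.T2H7.PdPC

open Groth.Agent.Lib.Helper1.TorDim Groth.Agent.Lib.Helper1.Restrict
  Groth.Agent.Lib.T2H7.PdRes

section General

variable {R : Type u} [CommRing R]

/-- A module with a resolution by finite free modules is pseudo-coherent. -/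
theorem isPseudoCoherentModule'_of_resolution (M : Type u) [AddCommGroup M] [Module R M]
    (P : ProjectiveResolution (ModuleCat.of R M))
    (hP : ∀ n : ℕ, Module.Finite R (P.complex.X n) ∧ Module.Free R (P.complex.X n)) :
    DRing.IsPseudoCoherentModule' R M := by
  refine ⟨P.cochainComplex, 0, fun i hi => P.cochainComplex.isZero_of_isStrictlyLE 0 i hi,
    fun i => ?_, ⟨resIso M P⟩⟩
  by_cases hi : 0 < i
  · have hz : IsZero (P.cochainComplex.X i) := P.cochainComplex.isZero_of_isStrictlyLE 0 i hi
    have : Subsingleton (P.cochainComplex.X i) := ModuleCat.subsingleton_of_isZero hz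
    exact ⟨inferInstance, inferInstance⟩
  · obtain ⟨k, hk⟩ : ∃ k : ℕ, -(k : ℤ) = i := ⟨(-i).toNat, by omega⟩
    let e := (P.cochainComplexXIso i k hk).toLinearEquiv
    obtain ⟨h1, h2⟩ := hP k
    exact ⟨Module.Finite.equiv e.symm, Module.Free.of_equiv e.symm⟩

end General

section Flat

variable (A B : Type u) [CommRing A] [CommRing B] [Algebra A B]
  [Algebra.FinitePresentation A B] [Module.Flat A B]

/-- A finitely presented module flat over the base is pseudo-coherent. -/
theorem isPseudoCoherentModule'_of_flat (M : Type u) [AddCommGroup M] [Module B M] [Module A M]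
    [IsScalarTower A B M] [Module.FinitePresentation B M] [Module.Flat A M] :
    DRing.IsPseudoCoherentModule' B M := by
  obtain ⟨P, hP⟩ := exists_finite_free_resolution A B M
  exact isPseudoCoherentModule'_of_resolution M P hP

/-- A flat finitely presented algebra is pseudo-coherent over any polynomial presentation. -/
theorem isPseudoCoherentModule'_mvPolynomial {n : ℕ} (f : MvPolynomial (Fin n) A →ₐ[A] B)
    (hf : Function.Surjective f) :
    letI := f.toRingHom.toAlgebra
    DRing.IsPseudoCoherentModule' (MvPolynomial (Fin n) A) B := by
  let _ := f.toRingHom.toAlgebra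
  have : IsScalarTower A (MvPolynomial (Fin n) A) B :=
    .of_algebraMap_eq' f.comp_algebraMap.symm
  have hker : (RingHom.ker f.toRingHom).FG := Algebra.FinitePresentation.ker_fG_of_surjective f hf
  have : Module.FinitePresentation (MvPolynomial (Fin n) A) B :=
    Module.finitePresentation_of_surjective (Algebra.linearMap (MvPolynomial (Fin n) A) B) hf hker
  exact isPseudoCoherentModule'_of_flat A (MvPolynomial (Fin n) A) B

/-- A flat homomorphism of finite presentation is perfect. -/
theorem isPerfectHom_of_flat : MoreMor.IsPerfectHom A B := by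
  constructor
  · obtain ⟨n, f, hf, -⟩ := Algebra.FinitePresentation.out (R := A) (A := B)
    exact ⟨n, f, hf, isPseudoCoherentModule'_mvPolynomial A B f hf⟩
  · refine ⟨0, fun N _ _ p hp => ?_⟩
    exact ModuleCat.subsingleton_of_isZero
      (Groth.Agent.Helper13Tor.isZero_tor_of_flat (ModuleCat.of A N) (ModuleCat.of A B) p hp)

end Flat

section Restrict

/-- Pseudo-coherence over a quotient of a flat finitely presented algebra can be tested after
restriction of scalars. -/
theorem isPseudoCoherent_restrictD_iff (R B A : Type u) [CommRing R] [CommRing B] [CommRing A]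
    [Algebra R B] [Algebra R A] [Algebra B A] [IsScalarTower R B A]
    (hφ : Function.Surjective (algebraMap B A))
    [Module.Flat R B] [Algebra.FinitePresentation R B] [Module.Flat R A]
    [Algebra.FinitePresentation R A] (K : Dual.D A) :
    (DRing.IsPseudoCoherent' A K ↔
        DRing.IsPseudoCoherent' B ((DRing.restrictD (algebraMap B A)).obj K)) ∧
      ∀ m : ℤ, (DRing.IsPseudoCoherent A m K ↔
        DRing.IsPseudoCoherent B m ((DRing.restrictD (algebraMap B A)).obj K)) := by
  have hker : (RingHom.ker (IsScalarTower.toAlgHom R B A).toRingHom).FG :=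
    Algebra.FinitePresentation.ker_fG_of_surjective (IsScalarTower.toAlgHom R B A) hφ
  have : Module.FinitePresentation B A :=
    Module.finitePresentation_of_surjective (Algebra.linearMap B A) hφ hker
  have hpc : DRing.IsPseudoCoherentModule' B A := isPseudoCoherentModule'_of_flat R B A
  have hB : BPC (algebraMap B A) := bpc_of_algebra hpc
  exact ⟨isPC'_restrictD_iff _ hB K, fun m => isPC_restrictD_iff _ hB K m⟩

end Restrict

end Groth.Agent.Lib.T2H7.PdPC
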