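import Mathlib
import Groth.Agent.Lib.T2H7PdPC
import Groth.Agent.Lib.T2H7PdFibB

/-!
# Pseudo-coherence of quotients of flat finitely presented algebras (helper7)
-/

set_option autoImplicit false
universe u
open CategoryTheory CategoryTheory.Limits
attribute [local instance] HasDerivedCategory.standard

namespace Groth.Agent.Lib.T2H7.PdPC

open Groth.Agent.Lib.Helper1.TorDim Groth.Agent.Lib.Helper1.Restrict Groth.Agent.Lib.Helper1.PC
  Groth.Agent.Lib.Helper1.PCTower Groth.Agent.Lib.Helper1.RelPC Groth.Agent.Lib.T2H7.PdRes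

section Single

/-- Restriction of scalars of `N[0]` along `algebraMap`. -/
noncomputable def restrictDInDIso {A B : Type u} [CommRing A] [CommRing B] [Algebra A B]
    (N : Type u) [AddCommGroup N] [Module B N] [Module A N] [IsScalarTower A B N] :
    (DRing.restrictD (algebraMap A B)).obj (Dual.inD B N) ≅ Dual.inD A N :=
  restrictDSingleIso (algebraMap A B) (ModuleCat.of B N) 0 ≪≫
    (DerivedCategory.singleFunctor (ModuleCat.{u} A) 0).mapIso (restrictScalarsAlgebraIso N)

theorem isPC'_iff_forall {A : Type u} [CommRing A] (K : Dual.D A) :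
    DRing.IsPseudoCoherent' A K ↔ ∀ m : ℤ, DRing.IsPseudoCoherent A m K :=
  ⟨fun h m => Groth.Agent.S6938.isPC_of_pc' K h m, isPseudoCoherent'_of_forall K⟩

end Single

section Via

variable {A C : Type u} [CommRing A] [CommRing C] [Algebra A C]

/-- Pseudo-coherence of a ring map can be tested on any presentation. -/
theorem isPseudoCoherentHom_iff_via {n : ℕ} (α : MvPolynomial (Fin n) A →ₐ[A] C)
    (hα : Function.Surjective α) :
    MoreMor.IsPseudoCoherentHom A C ↔
      ∀ m : ℤ, DerCA.IsRelPseudoCoherentVia α m (Dual.inD C C) := by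
  have key : ∀ {k : ℕ} (β : MvPolynomial (Fin k) A →ₐ[A] C),
      (@DRing.IsPseudoCoherentModule' (MvPolynomial (Fin k) A) _ C _
        β.toRingHom.toAlgebra.toModule) ↔
        ∀ m : ℤ, DerCA.IsRelPseudoCoherentVia β m (Dual.inD C C) := by
    intro k β
    let _ : Algebra (MvPolynomial (Fin k) A) C := β.toRingHom.toAlgebra
    have e : (DRing.restrictD (β : MvPolynomial (Fin k) A →+* C)).obj (Dual.inD C C) ≅
        Dual.inD (MvPolynomial (Fin k) A) C := restrictDInDIso (A := MvPolynomial (Fin k) A) C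
    change DRing.IsPseudoCoherent' (MvPolynomial (Fin k) A)
      (Dual.inD (MvPolynomial (Fin k) A) C) ↔ _
    rw [isPC'_iff_forall]
    exact forall_congr' fun m => ⟨fun h => isPC_of_iso e.symm h, fun h => isPC_of_iso e h⟩
  constructor
  · rintro ⟨k, β, hβ, h⟩ m
    exact (via_iff β hβ α hα _ m).1 ((key β).1 h m)
  · intro h
    exact ⟨n, α, hα, (key α).2 h⟩

end Via

section Quotient

variable {A B : Type u} [CommRing A] [CommRing B] [Algebra A B] [Module.Flat A B]
  [Algebra.FinitePresentation A B]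

include A in
/-- Two-out-of-three for `0 → I → B → B/I → 0`. -/
theorem isPseudoCoherentModule'_quotient_iff (I : Ideal B) :
    DRing.IsPseudoCoherentModule' B (B ⧸ I) ↔ DRing.IsPseudoCoherentModule' B ↥I := by
  have hS := Groth.Agent.Lib.T2H7.PdFibB.mkSC_shortExact (R := B) I.subtype (Submodule.mkQ I)
    (Submodule.injective_subtype _) (Submodule.mkQ_surjective _) (LinearMap.exact_subtype_mkQ I)
  have hT := hS.singleTriangle_distinguished
  have hBB : ∀ m, DRing.IsPseudoCoherent B m (Dual.inD B B) :=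
    (isPC'_iff_forall _).1 (isPseudoCoherentModule'_of_flat A B B)
  unfold DRing.IsPseudoCoherentModule'
  rw [isPC'_iff_forall, isPC'_iff_forall]
  constructor
  · intro h m
    have h1 := isPC_obj₁ hS.singleTriangle hT (m - 1) (hBB (m - 1 + 1)) (h (m - 1))
    have hm : m - 1 + 1 = m := by ring
    rw [hm] at h1
    exact h1
  · intro h m
    exact isPC_obj₃ hS.singleTriangle hT m (h (m + 1)) (hBB m)

/-- For `A → B` flat of finite presentation, `A → B/I` is pseudo-coherent iff `I` is a
pseudo-coherent `B`-module. -/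
theorem isPseudoCoherentHom_quotient_iff (I : Ideal B) :
    MoreMor.IsPseudoCoherentHom A (B ⧸ I) ↔ DRing.IsPseudoCoherentModule' B ↥I := by
  obtain ⟨n, f, hf, -⟩ := Algebra.FinitePresentation.out (R := A) (A := B)
  let φ' : MvPolynomial (Fin n) A →ₐ[A] (B ⧸ I) := (Ideal.Quotient.mkₐ A I).comp f
  have hφ' : Function.Surjective φ' := (Ideal.Quotient.mkₐ_surjective A I).comp hf
  rw [isPseudoCoherentHom_iff_via φ' hφ', ← isPseudoCoherentModule'_quotient_iff (A := A) I]
  have hBP : BPC (f : MvPolynomial (Fin n) A →+* B) := by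
    let _ : Algebra (MvPolynomial (Fin n) A) B := f.toRingHom.toAlgebra
    exact bpc_of_algebra (isPseudoCoherentModule'_mvPolynomial A B f hf)
  have hcomp : (φ' : MvPolynomial (Fin n) A →+* B ⧸ I) =
      (Ideal.Quotient.mk I).comp (f : MvPolynomial (Fin n) A →+* B) := rfl
  have e : (DRing.restrictD (Ideal.Quotient.mk I)).obj (Dual.inD (B ⧸ I) (B ⧸ I)) ≅
      Dual.inD B (B ⧸ I) := restrictDInDIso (A := B) (B := B ⧸ I) (B ⧸ I)
  unfold DRing.IsPseudoCoherentModule' DerCA.IsRelPseudoCoherentVia
  rw [isPC'_iff_forall]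
  refine forall_congr' fun m => ?_
  rw [hcomp, ← isPC_restrictD_comp_iff, ← isPC_restrictD_iff _ hBP]
  exact ⟨fun h => isPC_of_iso e h, fun h => isPC_of_iso e.symm h⟩

end Quotient

end Groth.Agent.Lib.T2H7.PdPC
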