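import Mathlib
import Groth.Agent.S6987
import Groth.Agent.S6985
import Groth.Agent.S6984
import Groth.Agent.S7008
import Groth.Agent.Lib.T2H7PdPC2
import Groth.Prelude.Def_MoreMor

/-!
# Pseudo-coherent ring maps form a local property (helper7)

Using helper1's theory of relative pseudo-coherence (`S6983`, `S6985`, `S6987`, `S7008`), we show that
`MoreMor.IsPseudoCoherentHom` is a local property of ring homomorphisms in the sense of Mathlib's
`RingHom.PropertyIsLocal`, is stable under composition and can be cancelled on the right.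
-/

set_option autoImplicit false
universe u
open CategoryTheory CategoryTheory.Limits
attribute [local instance] HasDerivedCategory.standard

namespace Groth.Agent.Lib.T2H7.PCLocal

open Groth.Agent.Lib.Helper1.RelPC Groth.Agent.Lib.Helper1.Restrict Groth.Agent.Lib.Helper1.PC
open Groth.Agent.Lib.Helper1.Extend DerivedCategory

section Bridge

variable (R A : Type u) [CommRing R] [CommRing A] [Algebra R A]

/-- A ring map is pseudo-coherent iff the target is pseudo-coherent relative to the source, as a module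
over itself. -/
theorem pcHom_iff_relAll :
    MoreMor.IsPseudoCoherentHom R A ↔ DerCA.IsRelPseudoCoherentModuleAll R A A := by
  constructor
  · intro h
    obtain ⟨n, α, hα, -⟩ := id h
    have h2 := (Groth.Agent.Lib.T2H7.PdPC.isPseudoCoherentHom_iff_via α hα).1 h
    exact fun m => ⟨n, α, hα, h2 m⟩
  · intro h
    obtain ⟨n, α, hα, -⟩ := h 0
    refine (Groth.Agent.Lib.T2H7.PdPC.isPseudoCoherentHom_iff_via α hα).2 fun m => ?_
    exact (rel_iff_via α hα _ m).1 (h m)

theorem finiteType_of_pcHom (h : MoreMor.IsPseudoCoherentHom R A) : Algebra.FiniteType R A := by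
  obtain ⟨n, α, hα, -⟩ := h
  exact Algebra.FiniteType.of_surjective α hα

variable {R A}

theorem rel_of_iso {K K' : Dual.D A} (e : K ≅ K') (m : ℤ)
    (h : DerCA.IsRelPseudoCoherent R A m K) : DerCA.IsRelPseudoCoherent R A m K' := by
  obtain ⟨n, α, hα, h1⟩ := h
  exact ⟨n, α, hα, isPC_of_iso ((DRing.restrictD (α : MvPolynomial (Fin n) R →+* A)).mapIso e) h1⟩

end Bridge


section Away

variable {R A : Type u} [CommRing R] [CommRing A] [Algebra R A]

/-- the complex `A[0]` -/
noncomputable abbrev K₀ (A : Type u) [CommRing A] : DRing.Cx A :=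
  (HomologicalComplex.single (ModuleCat.{u} A) (ComplexShape.up ℤ) 0).obj (ModuleCat.of A A)

/-- `Q(A[0]) ≅ A[0]` -/
noncomputable def toDK₀Iso (A : Type u) [CommRing A] : DRing.toD (K₀ A) ≅ Dual.inD A A :=
  ((DerivedCategory.singleFunctorIsoCompQ (ModuleCat.{u} A) 0).app (ModuleCat.of A A)).symm

/-- the image of `A[0]` under termwise flat extension of scalars is `B[0]` -/
noncomputable def toDExtK₀Iso (A B : Type u) [CommRing A] [CommRing B] [Algebra A B]
    [Module.Flat A B] : DRing.toD ((extCx A B).obj (K₀ A)) ≅ Dual.inD B B :=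
  (mapQIso (ext A B) (K₀ A)).symm ≪≫ (extD A B).mapIso (toDK₀Iso A) ≪≫
    extDInDIso (A := A) (B := B) A ≪≫
    (DerivedCategory.singleFunctor (ModuleCat.{u} B) 0).mapIso
      (TensorProduct.AlgebraTensorModule.rid A B B).toModuleIso

/-- Relative pseudo-coherence of the algebra itself is local on the algebra. -/
theorem relAll_iff_away [Algebra.FiniteType R A] {r : ℕ} (f : Fin r → A)
    (hf : Ideal.span (Set.range f) = ⊤) :
    DerCA.IsRelPseudoCoherentModuleAll R A A ↔
      ∀ i, DerCA.IsRelPseudoCoherentModuleAll R (Localization.Away (f i)) (Localization.Away (f i)) := by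
  constructor
  · intro h i m
    have h1 : DerCA.IsRelPseudoCoherent R A m (DRing.toD (K₀ A)) :=
      rel_of_iso (toDK₀Iso A).symm m (h m)
    have h2 := (Groth.Agent.S6987.result (R := R) (K₀ A) m f hf).1 h1 i
    exact rel_of_iso (toDExtK₀Iso A (Localization.Away (f i))) m h2
  · intro h m
    have h2 : ∀ i, DerCA.IsRelPseudoCoherent R (Localization.Away (f i)) m
        (DRing.toD ((extCx A (Localization.Away (f i))).obj (K₀ A))) :=
      fun i => rel_of_iso (toDExtK₀Iso A (Localization.Away (f i))).symm m (h i m)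
    have h1 := (Groth.Agent.S6987.result (R := R) (K₀ A) m f hf).2 h2
    exact rel_of_iso (toDK₀Iso A) m h1

end Away


section RingProp

/-- Pseudo-coherence as a property of ring homomorphisms. -/
def Qpc {R S : Type u} [CommRing R] [CommRing S] (f : R →+* S) : Prop :=
  @MoreMor.IsPseudoCoherentHom R S _ _ f.toAlgebra

theorem qpc_algebraMap_iff (R A : Type u) [CommRing R] [CommRing A] [inst : Algebra R A] :
    Qpc (algebraMap R A) ↔ MoreMor.IsPseudoCoherentHom R A := by
  have h : (algebraMap R A).toAlgebra = inst := Algebra.algebra_ext _ _ fun _ => rfl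
  unfold Qpc
  rw [h]

theorem qpc_of_flat_fp (R A : Type u) [CommRing R] [CommRing A] [Algebra R A]
    [Algebra.FinitePresentation R A] [Module.Flat R A] : Qpc (algebraMap R A) :=
  (qpc_algebraMap_iff R A).2 (Groth.Agent.Lib.T2H7.PdPC.isPerfectHom_of_flat R A).1

theorem qpc_comp {R A B : Type u} [CommRing R] [CommRing A] [CommRing B] (f : R →+* A)
    (g : A →+* B) (hf : Qpc f) (hg : Qpc g) : Qpc (g.comp f) := by
  let _ : Algebra R A := f.toAlgebra
  let _ : Algebra A B := g.toAlgebra
  let _ : Algebra R B := (g.comp f).toAlgebra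
  have : IsScalarTower R A B := IsScalarTower.of_algebraMap_eq' rfl
  have hf' : MoreMor.IsPseudoCoherentHom R A := hf
  have hg' : MoreMor.IsPseudoCoherentHom A B := hg
  have : Algebra.FiniteType R A := finiteType_of_pcHom R A hf'
  have : Algebra.FiniteType A B := finiteType_of_pcHom A B hg'
  have : Algebra.FiniteType R B := Algebra.FiniteType.trans ‹Algebra.FiniteType R A› ‹_›
  have hA := (pcHom_iff_relAll R A).1 hf'
  have hB := (pcHom_iff_relAll A B).1 hg'
  have := ((Groth.Agent.S6985.result (R := R) (A := A) (B := B) hA (Dual.inD B B) 0).2).1 hB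
  exact (pcHom_iff_relAll R B).2 this

theorem qpc_cancel {R A B : Type u} [CommRing R] [CommRing A] [CommRing B] (f : R →+* A)
    (g : A →+* B) (hf : Qpc f) (hgf : Qpc (g.comp f)) : Qpc g := by
  let _ : Algebra R A := f.toAlgebra
  let _ : Algebra A B := g.toAlgebra
  let _ : Algebra R B := (g.comp f).toAlgebra
  have : IsScalarTower R A B := IsScalarTower.of_algebraMap_eq' rfl
  have hf' : MoreMor.IsPseudoCoherentHom R A := hf
  have hgf' : MoreMor.IsPseudoCoherentHom R B := hgf
  have : Algebra.FiniteType R A := finiteType_of_pcHom R A hf'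
  have : Algebra.FiniteType R B := finiteType_of_pcHom R B hgf'
  have : Algebra.FiniteType A B := Algebra.FiniteType.of_restrictScalars_finiteType R A B
  have hA := (pcHom_iff_relAll R A).1 hf'
  have hB := (pcHom_iff_relAll R B).1 hgf'
  have := ((Groth.Agent.S6985.result (R := R) (A := A) (B := B) hA (Dual.inD B B) 0).2).2 hB
  exact (pcHom_iff_relAll A B).2 this

theorem qpc_of_bijective {R A : Type u} [CommRing R] [CommRing A] (f : R →+* A)
    (hf : Function.Bijective f) : Qpc f := by
  let _ : Algebra R A := f.toAlgebra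
  let e : R ≃ₐ[R] A := AlgEquiv.ofBijective (Algebra.ofId R A) hf
  have : Algebra.FinitePresentation R A := Algebra.FinitePresentation.equiv e
  have : Module.Flat R A := Module.Flat.of_linearEquiv e.toLinearEquiv.symm
  exact (qpc_algebraMap_iff R A).2 (Groth.Agent.Lib.T2H7.PdPC.isPerfectHom_of_flat R A).1

theorem qpc_respectsIso : RingHom.RespectsIso @Qpc := by
  constructor
  · intro R S T _ _ _ f e hf
    exact qpc_comp f e.toRingHom hf (qpc_of_bijective _ e.bijective)
  · intro R S T _ _ _ f e hf
    exact qpc_comp e.toRingHom f (qpc_of_bijective _ e.bijective) hf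

theorem qpc_stableUnderComposition : RingHom.StableUnderComposition @Qpc :=
  fun _ _ _ _ _ _ f g hf hg => qpc_comp f g hf hg

theorem qpc_away (R : Type u) [CommRing R] (r : R) (R' : Type u) [CommRing R'] [Algebra R R']
    [IsLocalization.Away r R'] : Qpc (algebraMap R R') := by
  have : Algebra.FinitePresentation R R' := IsLocalization.Away.finitePresentation r
  have : Module.Flat R R' := IsLocalization.flat R' (Submonoid.powers r)
  exact qpc_of_flat_fp R R'

theorem qpc_awayTarget : RingHom.StableUnderCompositionWithLocalizationAwayTarget @Qpc := by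
  intro R S T _ _ _ _ s _ f hf
  exact qpc_comp f (algebraMap S T) hf (qpc_away S s T)

theorem qpc_awaySource : RingHom.StableUnderCompositionWithLocalizationAwaySource @Qpc := by
  intro R S T _ _ _ _ r _ f hf
  exact qpc_comp (algebraMap R S) f (qpc_away R r S) hf

end RingProp

section LocalA

theorem qpc_congr_algebra {R A : Type u} [CommRing R] [CommRing A] (i₁ i₂ : Algebra R A)
    (h : ∀ r, @algebraMap R A _ _ i₁ r = @algebraMap R A _ _ i₂ r)
    (h1 : @MoreMor.IsPseudoCoherentHom R A _ _ i₁) : @MoreMor.IsPseudoCoherentHom R A _ _ i₂ := by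
  have : i₁ = i₂ := Algebra.algebra_ext _ _ h
  subst this
  exact h1

theorem qpc_ofLocalizationFiniteSpanTarget : RingHom.OfLocalizationFiniteSpanTarget @Qpc := by
  intro R S _ _ f s hs H
  let _ : Algebra R S := f.toAlgebra
  have hft : Algebra.FiniteType R S := by
    have h1 := RingHom.finiteType_ofLocalizationSpanTarget f (s : Set S) hs (fun r => ?_)
    · exact h1
    · exact @finiteType_of_pcHom R (Localization.Away (r : S)) _ _
        ((algebraMap S (Localization.Away (r : S))).comp f).toAlgebra (H ⟨r.1, r.2⟩)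
  let e := s.equivFin
  let g : Fin s.card → S := fun i => (e.symm i : S)
  have hg : Ideal.span (Set.range g) = ⊤ := by
    have : Set.range g = (s : Set S) := by
      ext x
      constructor
      · rintro ⟨i, rfl⟩
        exact (e.symm i).2
      · intro hx
        exact ⟨e ⟨x, hx⟩, by simp [g]⟩
    rw [this, hs]
  have key := (relAll_iff_away (R := R) (A := S) g hg).2 (fun i => ?_)
  · exact (pcHom_iff_relAll R S).2 key
  · have h1 := H (e.symm i)
    refine (pcHom_iff_relAll R (Localization.Away (g i))).1 ?_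
    refine qpc_congr_algebra _ _ (fun r => ?_) h1
    rfl

end LocalA

section LocalB

theorem qpc_ofLocalizationSpanTarget : RingHom.OfLocalizationSpanTarget @Qpc :=
  (RingHom.ofLocalizationSpanTarget_iff_finite _).2 qpc_ofLocalizationFiniteSpanTarget

theorem qpc_localizationAwayPreserves : RingHom.LocalizationAwayPreserves @Qpc := by
  intro R S _ _ f r R' S' _ _ _ _ _ _ hf
  have h1 : Qpc ((algebraMap S S').comp f) := qpc_awayTarget S' (f r) f hf
  have h2 : (IsLocalization.Away.map R' S' f r).comp (algebraMap R R') = (algebraMap S S').comp f :=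
    IsLocalization.map_comp _
  rw [← h2] at h1
  exact qpc_cancel (algebraMap R R') _ (qpc_away R r R') h1

theorem qpc_ofLocalizationSpan : RingHom.OfLocalizationSpan @Qpc :=
  qpc_ofLocalizationSpanTarget.ofLocalizationSpan qpc_awaySource

theorem qpc_isLocal : RingHom.PropertyIsLocal @Qpc :=
  ⟨qpc_localizationAwayPreserves, qpc_ofLocalizationSpanTarget, qpc_ofLocalizationSpan,
    qpc_awayTarget⟩

end LocalB

section SchemeLevel

open AlgebraicGeometry

/-- pseudo-coherent morphisms as a morphism property -/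
def Ppc : MorphismProperty Scheme.{u} := fun _ _ f => MoreMor.IsPseudoCoherentMor f

instance : HasRingHomProperty Ppc.{u} @Qpc where
  isLocal_ringHomProperty := qpc_isLocal
  eq_affineLocally' := by
    ext X Y f
    rw [affineLocally_iff_forall_isAffineOpen]
    constructor
    · intro h U hU V hV e
      exact h V U hV hU e
    · intro h U V hU hV e
      exact h hV hU e

theorem pcMor_iff_exists {X S : Scheme.{u}} (f : X ⟶ S) :
    MoreMor.IsPseudoCoherentMor f ↔ ∀ x : X, ∃ (U : X.Opens) (V : S.Opens) (hUV : U ≤ f ⁻¹ᵁ V),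
      IsAffineOpen U ∧ IsAffineOpen V ∧ x ∈ U ∧
      (letI := (f.appLE V U hUV).hom.toAlgebra
       MoreMor.IsPseudoCoherentHom Γ(S, V) Γ(X, U)) := by
  have h := HasRingHomProperty.iff_exists_appLE (P := Ppc.{u}) (f := f) qpc_awaySource
  constructor
  · intro hf x
    obtain ⟨U, V, hx, e, h1⟩ := (h.1 hf) x
    exact ⟨V.1, U.1, e, V.2, U.2, hx, h1⟩
  · intro hf
    refine h.2 fun x => ?_
    obtain ⟨U, V, e, hU, hV, hx, h1⟩ := hf x
    exact ⟨⟨V, hV⟩, ⟨U, hU⟩, hx, e, h1⟩

theorem pcMor_comp {X Y Z : Scheme.{u}} (f : X ⟶ Y) (g : Y ⟶ Z)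
    (hf : MoreMor.IsPseudoCoherentMor f) (hg : MoreMor.IsPseudoCoherentMor g) :
    MoreMor.IsPseudoCoherentMor (f ≫ g) :=
  (HasRingHomProperty.stableUnderComposition (P := Ppc.{u}) qpc_stableUnderComposition).comp_mem
    f g hf hg

theorem pcMor_of_comp {X Y S : Scheme.{u}} (f : X ⟶ Y) (g : Y ⟶ S)
    (hX : MoreMor.IsPseudoCoherentMor (f ≫ g)) (hY : MoreMor.IsPseudoCoherentMor g) :
    MoreMor.IsPseudoCoherentMor f := by
  rw [pcMor_iff_exists]
  intro x
  obtain ⟨W, hW, hxW, -⟩ := TopologicalSpace.Opens.isBasis_iff_nbhd.mp S.isBasis_affineOpens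
      (TopologicalSpace.Opens.mem_top <| g (f x))
  obtain ⟨V, hV, hxV, eV⟩ := TopologicalSpace.Opens.isBasis_iff_nbhd.mp Y.isBasis_affineOpens
      (show f x ∈ g ⁻¹ᵁ W from hxW)
  obtain ⟨U, hU, hxU, eU⟩ := TopologicalSpace.Opens.isBasis_iff_nbhd.mp X.isBasis_affineOpens
      (show x ∈ f ⁻¹ᵁ V from hxV)
  refine ⟨U, V, eU, hU, hV, hxU, ?_⟩
  have e3 : U ≤ (f ≫ g) ⁻¹ᵁ W := fun y hy => eV (eU hy)
  have h1 : Qpc (g.appLE W V eV).hom := hY V W hV hW eV
  have h2 : Qpc ((f ≫ g).appLE W U e3).hom := hX U W hU hW e3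
  have h3 : ((f ≫ g).appLE W U e3).hom = (f.appLE V U eU).hom.comp (g.appLE W V eV).hom := by
    rw [← CommRingCat.hom_comp, Scheme.Hom.appLE_comp_appLE]
  rw [h3] at h2
  exact qpc_cancel _ _ h1 h2

end SchemeLevel

section Finite

open Groth.Agent.Lib.T2H7.PdPC

variable (R B : Type u) [CommRing R] [CommRing B] [Algebra R B]

theorem rel_self_iff (K : Dual.D R) (m : ℤ) :
    DerCA.IsRelPseudoCoherent R R m K ↔ DRing.IsPseudoCoherent R m K := by
  let α₀ : MvPolynomial (Fin 0) R →ₐ[R] R := (MvPolynomial.isEmptyAlgEquiv R (Fin 0)).toAlgHom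
  have hα₀ : Function.Bijective α₀ := (MvPolynomial.isEmptyAlgEquiv R (Fin 0)).bijective
  rw [rel_iff_via α₀ hα₀.2 K m]
  exact (isPC_restrictD_iff (α₀ : MvPolynomial (Fin 0) R →+* R) (bpc_of_bijective _ hα₀) K m).symm

theorem pcHom_iff_pcModule_of_finite [Module.Finite R B] :
    MoreMor.IsPseudoCoherentHom R B ↔ DRing.IsPseudoCoherentModule' R B := by
  have : Algebra.FiniteType R B := inferInstance
  rw [pcHom_iff_relAll]
  unfold DRing.IsPseudoCoherentModule'
  rw [isPC'_iff_forall]
  refine forall_congr' fun m => ?_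
  have h1 := (Groth.Agent.S6984.result (R := R) (A := R) (B := B) (Dual.inD B B) m).1
  have e : (DRing.restrictD (algebraMap R B)).obj (Dual.inD B B) ≅ Dual.inD R B :=
    restrictDInDIso (A := R) (B := B) B
  rw [h1, rel_self_iff]
  exact ⟨fun h => isPC_of_iso e h, fun h => isPC_of_iso e.symm h⟩

end Finite

end Groth.Agent.Lib.T2H7.PCLocal
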