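import Mathlib
import Groth.Agent.Lib.T2H7PdPC2
import Groth.Agent.Lib.T2H7PdTorC
import Groth.Agent.Lib.Helper1GlDim
import Groth.Agent.S6942

/-!
# Perfect ring maps: tor dimension along a flat polynomial presentation (helper7)
-/

set_option autoImplicit false
universe u
open CategoryTheory CategoryTheory.Limits
attribute [local instance] HasDerivedCategory.standard

namespace Groth.Agent.Lib.T2H7.PerfHom

open Groth.Agent.Lib.Helper1.TorDim Groth.Agent.Lib.Helper1.Restrict
  Groth.Agent.Lib.T2H7.PdPC Groth.Agent.Lib.Helper1.Tor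

section General

variable {R : Type u} [CommRing R]

/-- Tor amplitude of `M[0]` in `[a, b]` bounds the tor dimension of `M` by `-a`. -/
theorem hasTorDimLE_of_hasTorAmp (M : Type u) [AddCommGroup M] [Module R M] (a b : ℤ)
    (h : DRing.HasTorAmplitudeIn R a b (Dual.inD R M)) : DRing.HasTorDimLE R (-a).toNat M := by
  let P := ProjectiveResolution.of (ModuleCat.of R M)
  set G := P.cochainComplex with hG
  have e : DerivedCategory.Q.obj G ≅ Dual.inD R M := resIso M P
  have hGb : DRing.VanishesAbove G 0 := fun i hi => G.isZero_of_isStrictlyLE 0 i hi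
  have hGf : DRing.TermwiseFlat G := termwiseFlat_of_projective G (fun k => inferInstance)
  obtain ⟨E, hE, hEf, ⟨e'⟩⟩ := h
  intro N _ _ p hp
  have htv : TorVan G a b := torVan_of_iso G E 0 hGb hGf a b hE hEf (e' ≪≫ e.symm)
  obtain ⟨q, rfl⟩ : ∃ q, p = q + 1 := ⟨p - 1, by omega⟩
  exact (exactAt_TC_iff_subsingleton_tor M N P q).1
    (htv (ModuleCat.of R N) _ (Or.inl (by push_cast; omega)))

/-- Finite tor amplitude of `M[0]` gives finite tor dimension of `M`. -/
theorem hasFiniteTorDim_of_hasFiniteTorDimCx (M : Type u) [AddCommGroup M] [Module R M]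
    (h : DRing.HasFiniteTorDimCx R (Dual.inD R M)) : DRing.HasFiniteTorDim R M := by
  obtain ⟨a, b, hab⟩ := h
  exact ⟨_, hasTorDimLE_of_hasTorAmp M a b hab⟩

/-- Finite tor dimension of `M` gives finite tor amplitude of `M[0]`. -/
theorem hasFiniteTorDimCx_of_hasFiniteTorDim (M : Type u) [AddCommGroup M] [Module R M]
    (h : DRing.HasFiniteTorDim R M) : DRing.HasFiniteTorDimCx R (Dual.inD R M) := by
  obtain ⟨d, hd⟩ := h
  exact ⟨_, _, (hasTorDimLE_iff_hasTorAmp M d).1 hd⟩

/-- Projective dimension `< d + 1` bounds the tor dimension by `d`. -/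
theorem hasTorDimLE_of_hasProjectiveDimensionLT (M : Type u) [AddCommGroup M] [Module R M] (d : ℕ)
    (h : HasProjectiveDimensionLT (ModuleCat.of R M) (d + 1)) : DRing.HasTorDimLE R d M := by
  intro N _ _ p hp
  have h' : HasProjectiveDimensionLT (ModuleCat.of R M) p :=
    hasProjectiveDimensionLT_of_ge _ (d + 1) p (by omega)
  exact ModuleCat.subsingleton_of_isZero
    (Groth.Agent.Lib.T2H7.PdTorC.isZero_tor_of_hasProjectiveDimensionLT p M h' (ModuleCat.of R N))

end General

section Tower

variable (A P : Type u) [CommRing A] [CommRing P] [Algebra A P] [Module.Flat A P]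

/-- Tor amplitude over a flat algebra restricts to the base. -/
theorem hasFiniteTorDim_restrict_of_flat (M : Type u) [AddCommGroup M] [Module P M] [Module A M]
    [IsScalarTower A P M] (h : DRing.HasFiniteTorDimCx P (Dual.inD P M)) :
    DRing.HasFiniteTorDim A M := by
  obtain ⟨a, b, hab⟩ := h
  have hflat : DRing.HasTorAmplitudeIn A (-((0 : ℕ) : ℤ)) 0 (Dual.inD A P) :=
    (hasTorDimLE_iff_hasTorAmp P 0).1 ((hasTorDimLE_zero_iff_flat P).2 inferInstance)
  have h1 := hasTorAmp_restrictD (A := A) (B := P) 0 hflat (Dual.inD P M) a b hab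
  have h2 : DRing.HasTorAmplitudeIn A (a - (0 : ℕ)) b (Dual.inD A M) :=
    hasTorAmp_of_iso (restrictDInDIso (A := A) (B := P) M) h1
  exact ⟨_, hasTorDimLE_of_hasTorAmp M _ b h2⟩

end Tower

end Groth.Agent.Lib.T2H7.PerfHom
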