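import Mathlib
import Groth.Agent.Lib.T2H7PerfHom
import Groth.Agent.Lib.T2H7PCLocal

/-!
# Perfect ring maps form a local property (helper7)

Finite tor dimension of ring maps: transitivity, flat base change, cancellation along localizations and
locality on the target; `MoreMor.IsPerfectHom` is a `RingHom.PropertyIsLocal`, stable under composition.
-/

set_option autoImplicit false
universe u
open CategoryTheory CategoryTheory.Limits
attribute [local instance] HasDerivedCategory.standard

namespace Groth.Agent.Lib.T2H7.PerfLocal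

open Groth.Agent.Lib.Helper1.TorDim Groth.Agent.Lib.Helper1.Restrict
  Groth.Agent.Lib.T2H7.PdPC Groth.Agent.Lib.Helper1.Tor Groth.Agent.Lib.T2H7.PerfHom
  Groth.Agent.Lib.Helper1.Extend Groth.Agent.Lib.T2H7.PCLocal

section FTD

variable {A B C : Type u} [CommRing A] [CommRing B] [CommRing C]

/-- flat modules have finite tor dimension -/
theorem ftd_of_flat (M : Type u) [AddCommGroup M] [Module A M] [Module.Flat A M] :
    DRing.HasFiniteTorDim A M :=
  ⟨0, (hasTorDimLE_zero_iff_flat M).2 inferInstance⟩

/-- transitivity of finite tor dimension -/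
theorem ftd_trans [Algebra A B] (M : Type u) [AddCommGroup M] [Module A M] [Module B M]
    [IsScalarTower A B M] (h1 : DRing.HasFiniteTorDim A B) (h2 : DRing.HasFiniteTorDim B M) :
    DRing.HasFiniteTorDim A M := by
  obtain ⟨d, hd⟩ := h1
  obtain ⟨e, he⟩ := h2
  have hB := (hasTorDimLE_iff_hasTorAmp B d).1 hd
  have hM := (hasTorDimLE_iff_hasTorAmp M e).1 he
  have h3 := hasTorAmp_restrictD (A := A) (B := B) d hB (Dual.inD B M) _ _ hM
  have h4 := hasTorAmp_of_iso (restrictDInDIso (A := A) (B := B) M) h3
  exact ⟨_, hasTorDimLE_of_hasTorAmp M _ _ h4⟩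

/-- finite tor dimension is preserved by flat base change -/
theorem ftd_baseChange [Algebra A B] [Module.Flat A B] (M : Type u) [AddCommGroup M] [Module A M]
    (h : DRing.HasFiniteTorDim A M) : DRing.HasFiniteTorDim B (TensorProduct A B M) := by
  obtain ⟨d, hd⟩ := h
  have hM := (hasTorDimLE_iff_hasTorAmp M d).1 hd
  have h3 := hasTorAmp_extD (A := A) (B := B) _ _ _ hM
  have h4 := hasTorAmp_of_iso (extDInDIso (A := A) (B := B) M) h3
  exact ⟨_, hasTorDimLE_of_hasTorAmp _ _ _ h4⟩

theorem ftd_of_linearEquiv (M M' : Type u) [AddCommGroup M] [Module A M] [AddCommGroup M']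
    [Module A M'] (e : M ≃ₗ[A] M') (h : DRing.HasFiniteTorDim A M) : DRing.HasFiniteTorDim A M' := by
  obtain ⟨d, hd⟩ := h
  have hM := (hasTorDimLE_iff_hasTorAmp M d).1 hd
  have h4 := hasTorAmp_of_iso ((DerivedCategory.singleFunctor (ModuleCat.{u} A) 0).mapIso
    e.toModuleIso) hM
  exact ⟨_, hasTorDimLE_of_hasTorAmp _ _ _ h4⟩

/-- cancellation along a localization -/
theorem ftd_of_isLocalization [Algebra A B] (S : Submonoid A) [IsLocalization S B]
    (M : Type u) [AddCommGroup M] [Module A M] [Module B M] [IsScalarTower A B M]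
    (h : DRing.HasFiniteTorDim A M) : DRing.HasFiniteTorDim B M := by
  have : Module.Flat A B := IsLocalization.flat B S
  have h1 := ftd_baseChange (A := A) (B := B) M h
  have := isLocalizedModule_id S M B
  have hbc : IsBaseChange B (LinearMap.id : M →ₗ[A] M) := IsLocalizedModule.isBaseChange S B _
  exact ftd_of_linearEquiv _ _ hbc.equiv h1

end FTD

section Span

open TensorProduct

variable {A B : Type u} [CommRing A] [CommRing B] [Algebra A B]

theorem exact_lTensor_of_span (s : Set B) (hs : Ideal.span s = ⊤) {X Y Z : Type u}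
    [AddCommGroup X] [Module A X] [AddCommGroup Y] [Module A Y] [AddCommGroup Z] [Module A Z]
    (f : X →ₗ[A] Y) (g : Y →ₗ[A] Z)
    (H : ∀ r : s, Function.Exact (f.lTensor (Localization.Away r.1))
      (g.lTensor (Localization.Away r.1))) :
    Function.Exact (f.lTensor B) (g.lTensor B) := by
  simp_rw [← AlgebraTensorModule.coe_lTensor (A := B)] at H ⊢
  refine exact_of_isLocalized_span s hs _
    (fun r ↦ AlgebraTensorModule.rTensor A _ (Algebra.linearMap B (Localization.Away r.1))) _
    (fun r ↦ AlgebraTensorModule.rTensor A _ (Algebra.linearMap B (Localization.Away r.1))) _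
    (fun r ↦ AlgebraTensorModule.rTensor A _ (Algebra.linearMap B (Localization.Away r.1)))
    _ _ fun r ↦ ?_
  simpa [IsLocalizedModule.map_lTensor] using H r

theorem hasTorDimLE_of_span (s : Set B) (hs : Ideal.span s = ⊤) (d : ℕ)
    (H : ∀ r : s, DRing.HasTorDimLE A d (Localization.Away r.1)) : DRing.HasTorDimLE A d B := by
  intro N _ _ p hp
  obtain ⟨q, rfl⟩ : ∃ q, p = q + 1 := ⟨p - 1, by omega⟩
  let P := ProjectiveResolution.of (ModuleCat.of A N)
  rw [subsingleton_tor_iff B N P q]
  refine exact_lTensor_of_span s hs _ _ fun r => ?_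
  exact (subsingleton_tor_iff (Localization.Away r.1) N P q).1 (H r N (q + 1) hp)

theorem hasTorDimLE_mono {M : Type u} [AddCommGroup M] [Module A M] {d e : ℕ} (hde : d ≤ e)
    (h : DRing.HasTorDimLE A d M) : DRing.HasTorDimLE A e M :=
  fun N _ _ p hp => h N p (lt_of_le_of_lt hde hp)

theorem ftd_of_span (s : Finset B) (hs : Ideal.span (s : Set B) = ⊤)
    (H : ∀ r : s, DRing.HasFiniteTorDim A (Localization.Away r.1)) : DRing.HasFiniteTorDim A B := by
  choose d hd using H
  refine ⟨Finset.univ.sup d, hasTorDimLE_of_span (s : Set B) hs _ fun r => ?_⟩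
  exact hasTorDimLE_mono (Finset.le_sup (f := d) (Finset.mem_univ (⟨r.1, r.2⟩ : s))) (hd ⟨r.1, r.2⟩)

end Span

section RingProp

/-- finite tor dimension as a property of ring homomorphisms -/
def Qftd {R S : Type u} [CommRing R] [CommRing S] (f : R →+* S) : Prop :=
  @DRing.HasFiniteTorDim R _ S _ f.toAlgebra.toModule

/-- Perfectness as a property of ring homomorphisms. -/
def Qperf {R S : Type u} [CommRing R] [CommRing S] (f : R →+* S) : Prop :=
  @MoreMor.IsPerfectHom R S _ _ f.toAlgebra

theorem qperf_iff {R S : Type u} [CommRing R] [CommRing S] (f : R →+* S) :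
    Qperf f ↔ Qpc f ∧ Qftd f := Iff.rfl

theorem qftd_congr_algebra {R A : Type u} [CommRing R] [CommRing A] (i₁ i₂ : Algebra R A)
    (h : ∀ r, @algebraMap R A _ _ i₁ r = @algebraMap R A _ _ i₂ r)
    (h1 : @DRing.HasFiniteTorDim R _ A _ i₁.toModule) :
    @DRing.HasFiniteTorDim R _ A _ i₂.toModule := by
  have : i₁ = i₂ := Algebra.algebra_ext _ _ h
  subst this
  exact h1

theorem qftd_algebraMap_iff (R A : Type u) [CommRing R] [CommRing A] [inst : Algebra R A] :
    Qftd (algebraMap R A) ↔ DRing.HasFiniteTorDim R A := by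
  have h : (algebraMap R A).toAlgebra = inst := Algebra.algebra_ext _ _ fun _ => rfl
  unfold Qftd
  rw [h]

theorem qftd_comp {R A B : Type u} [CommRing R] [CommRing A] [CommRing B] (f : R →+* A)
    (g : A →+* B) (hf : Qftd f) (hg : Qftd g) : Qftd (g.comp f) := by
  let _ : Algebra R A := f.toAlgebra
  let _ : Algebra A B := g.toAlgebra
  let _ : Algebra R B := (g.comp f).toAlgebra
  have : IsScalarTower R A B := IsScalarTower.of_algebraMap_eq' rfl
  exact ftd_trans (A := R) (B := A) B hf hg

theorem qftd_of_flat (R A : Type u) [CommRing R] [CommRing A] [Algebra R A] [Module.Flat R A] :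
    Qftd (algebraMap R A) := (qftd_algebraMap_iff R A).2 (ftd_of_flat A)

theorem qperf_comp {R A B : Type u} [CommRing R] [CommRing A] [CommRing B] (f : R →+* A)
    (g : A →+* B) (hf : Qperf f) (hg : Qperf g) : Qperf (g.comp f) :=
  ⟨qpc_comp f g hf.1 hg.1, qftd_comp f g hf.2 hg.2⟩

theorem qperf_of_flat_fp (R A : Type u) [CommRing R] [CommRing A] [Algebra R A]
    [Algebra.FinitePresentation R A] [Module.Flat R A] : Qperf (algebraMap R A) :=
  ⟨qpc_of_flat_fp R A, qftd_of_flat R A⟩

theorem qperf_of_bijective {R A : Type u} [CommRing R] [CommRing A] (f : R →+* A)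
    (hf : Function.Bijective f) : Qperf f := by
  refine ⟨qpc_of_bijective f hf, ?_⟩
  let _ : Algebra R A := f.toAlgebra
  let e : R ≃ₐ[R] A := AlgEquiv.ofBijective (Algebra.ofId R A) hf
  have : Module.Flat R A := Module.Flat.of_linearEquiv e.toLinearEquiv.symm
  exact (qftd_algebraMap_iff R A).1 (qftd_of_flat R A)

theorem qperf_respectsIso : RingHom.RespectsIso @Qperf := by
  constructor
  · intro R S T _ _ _ f e hf
    exact qperf_comp f e.toRingHom hf (qperf_of_bijective _ e.bijective)
  · intro R S T _ _ _ f e hf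
    exact qperf_comp e.toRingHom f (qperf_of_bijective _ e.bijective) hf

theorem qperf_stableUnderComposition : RingHom.StableUnderComposition @Qperf :=
  fun _ _ _ _ _ _ f g hf hg => qperf_comp f g hf hg

theorem qperf_away (R : Type u) [CommRing R] (r : R) (R' : Type u) [CommRing R'] [Algebra R R']
    [IsLocalization.Away r R'] : Qperf (algebraMap R R') := by
  have : Algebra.FinitePresentation R R' := IsLocalization.Away.finitePresentation r
  have : Module.Flat R R' := IsLocalization.flat R' (Submonoid.powers r)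
  exact qperf_of_flat_fp R R'

theorem qperf_awayTarget : RingHom.StableUnderCompositionWithLocalizationAwayTarget @Qperf := by
  intro R S T _ _ _ _ s _ f hf
  exact qperf_comp f (algebraMap S T) hf (qperf_away S s T)

theorem qperf_awaySource : RingHom.StableUnderCompositionWithLocalizationAwaySource @Qperf := by
  intro R S T _ _ _ _ r _ f hf
  exact qperf_comp (algebraMap R S) f (qperf_away R r S) hf

theorem qperf_ofLocalizationFiniteSpanTarget :
    RingHom.OfLocalizationFiniteSpanTarget @Qperf := by
  intro R S _ _ f s hs H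
  refine ⟨qpc_ofLocalizationFiniteSpanTarget f s hs (fun r => (H r).1), ?_⟩
  let _ : Algebra R S := f.toAlgebra
  refine ftd_of_span (A := R) (B := S) s hs (fun r => ?_)
  exact qftd_congr_algebra ((algebraMap S (Localization.Away (r : S))).comp f).toAlgebra _
    (fun _ => rfl) (H r).2

theorem qperf_ofLocalizationSpanTarget : RingHom.OfLocalizationSpanTarget @Qperf :=
  (RingHom.ofLocalizationSpanTarget_iff_finite _).2 qperf_ofLocalizationFiniteSpanTarget

theorem qperf_localizationAwayPreserves : RingHom.LocalizationAwayPreserves @Qperf := by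
  intro R S _ _ f r R' S' _ _ _ _ _ _ hf
  refine ⟨qpc_localizationAwayPreserves f r R' S' hf.1, ?_⟩
  have h1 : Qftd ((algebraMap S S').comp f) := (qperf_awayTarget S' (f r) f hf).2
  have h2 : (IsLocalization.Away.map R' S' f r).comp (algebraMap R R') = (algebraMap S S').comp f :=
    IsLocalization.map_comp _
  rw [← h2] at h1
  let _ : Algebra R' S' := (IsLocalization.Away.map R' S' f r).toAlgebra
  let _ : Algebra R S' := ((IsLocalization.Away.map R' S' f r).comp (algebraMap R R')).toAlgebra
  have : IsScalarTower R R' S' := IsScalarTower.of_algebraMap_eq' rfl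
  exact ftd_of_isLocalization (A := R) (B := R') (Submonoid.powers r) S' h1

theorem qperf_ofLocalizationSpan : RingHom.OfLocalizationSpan @Qperf :=
  qperf_ofLocalizationSpanTarget.ofLocalizationSpan qperf_awaySource

theorem qperf_isLocal : RingHom.PropertyIsLocal @Qperf :=
  ⟨qperf_localizationAwayPreserves, qperf_ofLocalizationSpanTarget, qperf_ofLocalizationSpan,
    qperf_awayTarget⟩

end RingProp

section SchemeLevel

open AlgebraicGeometry

/-- perfect morphisms as a morphism property -/
def Pperf : MorphismProperty Scheme.{u} := fun _ _ f => MoreMor.IsPerfectMor f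

instance : HasRingHomProperty Pperf.{u} @Qperf where
  isLocal_ringHomProperty := qperf_isLocal
  eq_affineLocally' := by
    ext X Y f
    rw [affineLocally_iff_forall_isAffineOpen]
    constructor
    · intro h U hU V hV e
      exact h V U hV hU e
    · intro h U V hU hV e
      exact h hV hU e

theorem perfMor_iff_exists {X S : Scheme.{u}} (f : X ⟶ S) :
    MoreMor.IsPerfectMor f ↔ ∀ x : X, ∃ (U : X.Opens) (V : S.Opens) (hUV : U ≤ f ⁻¹ᵁ V),
      IsAffineOpen U ∧ IsAffineOpen V ∧ x ∈ U ∧
      (letI := (f.appLE V U hUV).hom.toAlgebra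
       MoreMor.IsPerfectHom Γ(S, V) Γ(X, U)) := by
  have h := HasRingHomProperty.iff_exists_appLE (P := Pperf.{u}) (f := f) qperf_awaySource
  constructor
  · intro hf x
    obtain ⟨U, V, hx, e, h1⟩ := (h.1 hf) x
    exact ⟨V.1, U.1, e, V.2, U.2, hx, h1⟩
  · intro hf
    refine h.2 fun x => ?_
    obtain ⟨U, V, e, hU, hV, hx, h1⟩ := hf x
    exact ⟨⟨V, hV⟩, ⟨U, hU⟩, hx, e, h1⟩

theorem perfMor_comp {X Y Z : Scheme.{u}} (f : X ⟶ Y) (g : Y ⟶ Z)
    (hf : MoreMor.IsPerfectMor f) (hg : MoreMor.IsPerfectMor g) :
    MoreMor.IsPerfectMor (f ≫ g) :=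
  (HasRingHomProperty.stableUnderComposition (P := Pperf.{u}) qperf_stableUnderComposition).comp_mem
    f g hf hg

end SchemeLevel

end Groth.Agent.Lib.T2H7.PerfLocal
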