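import Mathlib
import Groth.Agent.Lib.T2H7PerfLocal
import Groth.Agent.Lib.Helper14TorSyz
import Groth.Prelude.Def_Mor2

/-!
# Regular closed immersions are perfect (helper7)
-/

set_option autoImplicit false
universe u
open CategoryTheory CategoryTheory.Limits
attribute [local instance] HasDerivedCategory.standard

namespace Groth.Agent.Lib.T2H7.PerfReg

open Groth.Agent.Lib.Helper1.TorDim Groth.Agent.Lib.Helper1.Restrict
  Groth.Agent.Lib.T2H7.PdPC Groth.Agent.Lib.Helper1.Tor Groth.Agent.Lib.T2H7.PerfHom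
  Groth.Agent.Lib.Helper1.Extend Groth.Agent.Lib.T2H7.PCLocal Groth.Agent.Lib.T2H7.PerfLocal
  Groth.Agent.Lib.Helper1.RelPC Groth.Agent.Lib.Helper1.PC Groth.Agent.Lib.Helper14.TorSyz
  Pretriangulated

section RingReg

variable {A : Type u} [CommRing A]

/-- pseudo-coherent module of finite tor dimension -/
def PF (A : Type u) [CommRing A] (M : Type u) [AddCommGroup M] [Module A M] : Prop :=
  DRing.IsPseudoCoherentModule' A M ∧ DRing.HasFiniteTorDim A M

theorem pf_of_linearEquiv {M M' : Type u} [AddCommGroup M] [Module A M] [AddCommGroup M']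
    [Module A M'] (e : M ≃ₗ[A] M') (h : PF A M) : PF A M' :=
  ⟨pc'_of_iso ((DerivedCategory.singleFunctor (ModuleCat.{u} A) 0).mapIso e.toModuleIso) h.1,
    ftd_of_linearEquiv _ _ e h.2⟩

theorem pf_coker {K P N : Type u} [AddCommGroup K] [Module A K] [AddCommGroup P] [Module A P]
    [AddCommGroup N] [Module A N] (f : K →ₗ[A] P) (g : P →ₗ[A] N)
    (hf : Function.Injective f) (hg : Function.Surjective g) (hfg : Function.Exact f g)
    (hK : PF A K) (hP : PF A P) : PF A N := by
  obtain ⟨Tr, hT, h1, h2, h3⟩ := exists_triangle f g hf hg hfg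
  constructor
  · unfold DRing.IsPseudoCoherentModule'
    rw [isPC'_iff_forall]
    intro m
    have hK1 := (isPC'_iff_forall _).1 hK.1 (m + 1)
    have hP1 := (isPC'_iff_forall _).1 hP.1 m
    have := isPC_obj₃ Tr hT m (h1 ▸ hK1) (h2 ▸ hP1)
    rw [h3] at this
    exact this
  · obtain ⟨d, hd⟩ := hK.2
    obtain ⟨e, he⟩ := hP.2
    have hKa := (hasTorDimLE_iff_hasTorAmp K d).1 hd
    have hPa := (hasTorDimLE_iff_hasTorAmp P e).1 he
    have := (hasTorAmp_two_out_of_three (-((max d e + 1 : ℕ) : ℤ)) 0 Tr hT).1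
      (h1 ▸ hasTorAmp_mono (by push_cast; omega) (by omega) hKa)
      (h2 ▸ hasTorAmp_mono (by push_cast; omega) le_rfl hPa)
    rw [h3] at this
    exact ⟨_, (hasTorDimLE_iff_hasTorAmp N (max d e + 1)).2 this⟩

open RingTheory.Sequence Submodule Pointwise in
theorem pf_quot_of_weaklyRegular : ∀ (rs : List A) (M : Type u) [AddCommGroup M] [Module A M],
    IsWeaklyRegular M rs → PF A M → PF A (M ⧸ (Ideal.ofList rs • ⊤ : Submodule A M)) := by
  intro rs
  induction rs with
  | nil =>
    intro M _ _ _ hM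
    have h0 : (Ideal.ofList ([] : List A) • ⊤ : Submodule A M) = ⊥ := by
      rw [Ideal.ofList_nil, Submodule.bot_smul]
    exact pf_of_linearEquiv (quotEquivOfEqBot _ h0).symm hM
  | cons r rs ih =>
    intro M _ _ hreg hM
    rw [isWeaklyRegular_cons_iff] at hreg
    have hM' : PF A (QuotSMulTop r M) := by
      refine pf_coker (LinearMap.lsmul A M r) (Submodule.mkQ (r • (⊤ : Submodule A M)))
        hreg.1 (Submodule.mkQ_surjective _) ?_ hM hM
      intro x
      rw [Submodule.mkQ_apply, Submodule.Quotient.mk_eq_zero, Submodule.mem_smul_pointwise_iff_exists]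
      constructor
      · rintro ⟨y, -, rfl⟩
        exact ⟨y, rfl⟩
      · rintro ⟨y, rfl⟩
        exact ⟨y, trivial, rfl⟩
    exact pf_of_linearEquiv (quotOfListConsSMulTopEquivQuotSMulTopInner M r rs).symm
      (ih (QuotSMulTop r M) hreg.2 hM')

/-- The quotient by a regular sequence is a perfect ring map. -/
theorem perfHom_quot_of_regular (rs : List A) (h : RingTheory.Sequence.IsWeaklyRegular A rs) :
    MoreMor.IsPerfectHom A (A ⧸ Ideal.ofList rs) := by
  have hA : PF A A := ⟨isPseudoCoherentModule'_of_flat A A A, ftd_of_flat A⟩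
  have h1 := pf_quot_of_weaklyRegular rs A h hA
  have h0 : (Ideal.ofList rs • ⊤ : Submodule A A) = Ideal.ofList rs := by
    rw [smul_eq_mul, Ideal.mul_top]
  have h2 : PF A (A ⧸ Ideal.ofList rs) := pf_of_linearEquiv (Submodule.quotEquivOfEq _ _ h0) h1
  refine ⟨?_, h2.2⟩
  rw [isPseudoCoherentHom_quotient_iff (A := A) (B := A), ← isPseudoCoherentModule'_quotient_iff (A := A)]
  exact h2.1

end RingReg

section SchemeReg

open AlgebraicGeometry

theorem qperf_of_surjective_of_ker {A B : Type u} [CommRing A] [CommRing B] (φ : A →+* B)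
    (hφ : Function.Surjective φ) (rs : List A) (hrs : RingTheory.Sequence.IsWeaklyRegular A rs)
    (hker : RingHom.ker φ = Ideal.ofList rs) : Qperf φ := by
  have h1 : Qperf (algebraMap A (A ⧸ Ideal.ofList rs)) := by
    have := perfHom_quot_of_regular rs hrs
    exact ⟨(qpc_algebraMap_iff _ _).2 this.1, (qftd_algebraMap_iff _ _).2 this.2⟩
  let e : (A ⧸ Ideal.ofList rs) ≃+* B :=
    (Ideal.quotEquivOfEq hker.symm).trans (RingHom.quotientKerEquivOfSurjective hφ)
  have h2 : φ = e.toRingHom.comp (algebraMap A (A ⧸ Ideal.ofList rs)) := by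
    ext a
    rfl
  rw [h2]
  exact qperf_respectsIso.1 _ e h1

theorem perfMor_of_regularClosedImmersion {Z X : Scheme.{u}} (i : Z ⟶ X)
    (hi : Mor2.IsRegularClosedImmersion i) : MoreMor.IsPerfectMor i := by
  obtain ⟨hci, hloc⟩ := hi
  rw [perfMor_iff_exists]
  intro z
  obtain ⟨U, hU, hzU, rs, hrs, hker⟩ := hloc z
  refine ⟨i ⁻¹ᵁ U, U, le_rfl, hU.preimage i, hU, hzU, ?_⟩
  have h1 : Qperf (i.app U).hom := by
    refine qperf_of_surjective_of_ker _ (i.app_surjective U hU) rs hrs.toIsWeaklyRegular ?_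
    rw [← hker, Scheme.Hom.ker_apply]
  have h2 : (i.appLE U (i ⁻¹ᵁ U) le_rfl).hom = (i.app U).hom := by
    rw [Scheme.Hom.appLE_eq_app]
  change Qperf (i.appLE U (i ⁻¹ᵁ U) le_rfl).hom
  rw [h2]
  exact h1

end SchemeReg

end Groth.Agent.Lib.T2H7.PerfReg
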