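import Mathlib
import Groth.Agent.Lib.T2H7PerfReg
import Groth.Agent.S15821
import Groth.Agent.S6954
import Groth.Agent.S6935
import Groth.Prelude.Def_LCI2
import Groth.Prelude.Def_RegImm
import Groth.Agent.Lib.Helper21KoszulDepth

/-!
# Koszul-regular quotients and local complete intersections are perfect (helper7)
-/

set_option autoImplicit false
universe u
open CategoryTheory CategoryTheory.Limits
attribute [local instance] HasDerivedCategory.standard

namespace Groth.Agent.Lib.T2H7.PerfKos

open Groth.Agent.Lib.Helper1.TorDim Groth.Agent.Lib.Helper1.Restrict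
  Groth.Agent.Lib.T2H7.PdPC Groth.Agent.Lib.Helper1.Tor Groth.Agent.Lib.T2H7.PerfHom
  Groth.Agent.Lib.Helper1.Extend Groth.Agent.Lib.T2H7.PCLocal Groth.Agent.Lib.T2H7.PerfLocal
  Groth.Agent.Lib.Helper1.RelPC Groth.Agent.Lib.Helper1.PC Groth.Agent.Lib.T2H7.PerfReg
  Groth.Agent.Lib.Helper21 CochainComplex

section Koszul

variable (A : Type u) [CommRing A]

theorem finite_projective_of_isZero (M : ModuleCat.{u} A) (h : IsZero M) :
    Module.Finite A M ∧ Module.Projective A M := by
  have : Subsingleton M := ModuleCat.subsingleton_of_isZero h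
  exact ⟨inferInstance, inferInstance⟩

theorem finite_projective_of_iso {M N : ModuleCat.{u} A} (e : M ≅ N)
    (h : Module.Finite A M ∧ Module.Projective A M) :
    Module.Finite A N ∧ Module.Projective A N := by
  have := h.1
  have := h.2
  exact ⟨Module.Finite.equiv e.toLinearEquiv, Module.Projective.of_equiv e.toLinearEquiv⟩

theorem termwise_koszulCx : ∀ (l : List A) (i : ℤ),
    Module.Finite A ((CohIII.koszulCx (ModuleCat.of A A) l).X i) ∧
      Module.Projective A ((CohIII.koszulCx (ModuleCat.of A A) l).X i)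
  | [], i => by
    by_cases hi : i = 0
    · subst hi
      refine finite_projective_of_iso A
        (HomologicalComplex.singleObjXSelf (ComplexShape.up ℤ) 0 (ModuleCat.of A A)).symm ?_
      exact ⟨inferInstanceAs (Module.Finite A A), inferInstanceAs (Module.Projective A A)⟩
    · exact finite_projective_of_isZero A _
        (HomologicalComplex.isZero_single_obj_X (ComplexShape.up ℤ) 0 _ i hi)
  | f :: l, i => by
    have h1 := termwise_koszulCx l (i + 1)
    have h2 := termwise_koszulCx l i
    have := h1.1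
    have := h1.2
    have := h2.1
    have := h2.2
    let K := CohIII.koszulCx (ModuleCat.of A A) l
    have e : (mappingCone (f • 𝟙 K)).X i ≅ K.X (i + 1) ⊞ K.X i :=
      HomologicalComplex.homotopyCofiber.XIsoBiprod (f • 𝟙 K) i (i + 1) rfl
    have e2 : K.X (i + 1) ⊞ K.X i ≅ ModuleCat.of A (K.X (i + 1) × K.X i) :=
      ModuleCat.biprodIsoProd _ _
    refine finite_projective_of_iso A (e ≪≫ e2).symm ?_
    exact ⟨inferInstanceAs (Module.Finite A (K.X (i + 1) × K.X i)),
      inferInstanceAs (Module.Projective A (K.X (i + 1) × K.X i))⟩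

/-- The quotient by a Koszul-regular sequence is a perfect module. -/
theorem isPerfect_quot_of_koszulRegular (l : List A) (h : LCI.IsKoszulRegularSeq A l) :
    DRing.IsPerfect A (Dual.inD A (A ⧸ Ideal.ofList l)) := by
  have heq := Groth.Agent.S15821.koszul_eq A l
  set E : DRing.Cx A := CohIII.koszulCx (ModuleCat.of A A) l with hE
  have hhom : ∀ i : ℤ, i ≠ 0 → IsZero (E.homology i) := by
    intro i hi
    exact (Groth.Agent.S15821.isZero_congr heq i).1 (h i hi)
  have hle : E.IsLE 0 := by
    rw [CochainComplex.isLE_iff]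
    intro i hi
    rw [HomologicalComplex.exactAt_iff_isZero_homology]
    exact hhom i (by omega)
  have hge : E.IsGE 0 := by
    rw [CochainComplex.isGE_iff]
    intro i hi
    rw [HomologicalComplex.exactAt_iff_isZero_homology]
    exact hhom i (by omega)
  have : (DerivedCategory.Q.obj E).IsLE 0 := (DerivedCategory.isLE_Q_obj_iff _ _).2 hle
  have : (DerivedCategory.Q.obj E).IsGE 0 := (DerivedCategory.isGE_Q_obj_iff _ _).2 hge
  obtain ⟨Y, ⟨e⟩⟩ := DerivedCategory.exists_iso_singleFunctor_obj_of_isGE_of_isLE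
    (DerivedCategory.Q.obj E) 0
  -- identify `Y` with `H^0`
  have e1 : (DerivedCategory.homologyFunctor (ModuleCat.{u} A) 0).obj (DerivedCategory.Q.obj E) ≅
      E.homology 0 :=
    (DerivedCategory.homologyFunctorFactors (ModuleCat.{u} A) 0).app E
  have e2 : (DerivedCategory.homologyFunctor (ModuleCat.{u} A) 0).obj
      ((DerivedCategory.singleFunctor (ModuleCat.{u} A) 0).obj Y) ≅ Y :=
    (DerivedCategory.singleFunctorCompHomologyFunctorIso (ModuleCat.{u} A) 0).app Y
  have e3 : Y ≅ E.homology 0 :=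
    e2.symm ≪≫ (DerivedCategory.homologyFunctor (ModuleCat.{u} A) 0).mapIso e.symm ≪≫ e1
  obtain ⟨e4⟩ := Groth.Agent.S11917.main (A := A) A l
  have h0 : Ideal.ofList l • (⊤ : Submodule A A) = Ideal.ofList l := by simp
  have e5 : Y ≅ ModuleCat.of A (A ⧸ Ideal.ofList l) :=
    e3 ≪≫ (e4.trans (Submodule.quotEquivOfEq _ _ h0)).toModuleIso
  refine ⟨E, -(l.length : ℤ), 0, ?_, fun i => termwise_koszulCx A l i,
    ⟨e ≪≫ (DerivedCategory.singleFunctor (ModuleCat.{u} A) 0).mapIso e5⟩⟩
  intro i hi
  rcases hi with hi | hi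
  · exact isZero_koszulCx_X_neg _ l i hi
  · exact isZero_koszulCx_X_pos _ l i hi

end Koszul

section RingLCI

variable (A : Type u) [CommRing A]

/-- The quotient by a Koszul-regular sequence is a perfect ring map. -/
theorem perfHom_quot_of_koszulRegular (l : List A) (h : LCI.IsKoszulRegularSeq A l) :
    MoreMor.IsPerfectHom A (A ⧸ Ideal.ofList l) := by
  have h1 := (Groth.Agent.S6954.result A _).1 (isPerfect_quot_of_koszulRegular A l h)
  refine ⟨?_, hasFiniteTorDim_of_hasFiniteTorDimCx _ h1.2⟩
  rw [isPseudoCoherentHom_quotient_iff (A := A) (B := A),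
    ← isPseudoCoherentModule'_quotient_iff (A := A)]
  exact h1.1

variable {A}

theorem qperf_of_surjective_of_ker_koszul {B : Type u} [CommRing B] (φ : A →+* B)
    (hφ : Function.Surjective φ) (l : List A) (hl : LCI.IsKoszulRegularSeq A l)
    (hker : RingHom.ker φ = Ideal.span {x | x ∈ l}) : Qperf φ := by
  have h1 : Qperf (algebraMap A (A ⧸ Ideal.ofList l)) := by
    have := perfHom_quot_of_koszulRegular A l hl
    exact ⟨(qpc_algebraMap_iff _ _).2 this.1, (qftd_algebraMap_iff _ _).2 this.2⟩
  have hker' : RingHom.ker φ = Ideal.ofList l := hker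
  let e : (A ⧸ Ideal.ofList l) ≃+* B :=
    (Ideal.quotEquivOfEq hker'.symm).trans (RingHom.quotientKerEquivOfSurjective hφ)
  have h2 : φ = e.toRingHom.comp (algebraMap A (A ⧸ Ideal.ofList l)) := by
    ext a
    rfl
  rw [h2]
  exact qperf_respectsIso.1 _ e h1

/-- A surjection whose kernel is a Koszul-regular ideal is perfect. -/
theorem qperf_of_surjective_of_koszulRegularIdeal {P B : Type u} [CommRing P] [CommRing B]
    (f : P →+* B) (hf : Function.Surjective f) (hI : LCI.IsKoszulRegularIdeal (RingHom.ker f)) :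
    Qperf f := by
  let s : Set B := {r | ∃ g : P, f g = r ∧ ∃ l : List (Localization.Away g),
    LCI.IsKoszulRegularSeq (Localization.Away g) l ∧
      (RingHom.ker f).map (algebraMap P (Localization.Away g)) = Ideal.span {x | x ∈ l}}
  have hs : Ideal.span s = ⊤ := by
    by_contra hne
    obtain ⟨m, hm, hsm⟩ := Ideal.exists_le_maximal _ hne
    have hmp : m.IsPrime := hm.isPrime
    let 𝔭 : PrimeSpectrum P := ⟨m.comap f, inferInstance⟩
    have hle : RingHom.ker f ≤ 𝔭.asIdeal := fun x hx => by
      change f x ∈ m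
      rw [RingHom.mem_ker.1 hx]
      exact m.zero_mem
    obtain ⟨g, hg, l, hl, hgl⟩ := hI 𝔭 hle
    exact hg (hsm (Ideal.subset_span ⟨g, rfl, l, hl, hgl⟩))
  refine qperf_ofLocalizationSpanTarget f s hs ?_
  rintro ⟨r, g, rfl, l, hl, hgl⟩
  have h2 : (IsLocalization.Away.map (Localization.Away g) (Localization.Away (f g)) f g).comp
      (algebraMap P (Localization.Away g)) = (algebraMap B (Localization.Away (f g))).comp f :=
    IsLocalization.map_comp _
  change Qperf ((algebraMap B (Localization.Away (f g))).comp f)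
  rw [← h2]
  refine qperf_comp _ _ (qperf_away P g _) ?_
  refine qperf_of_surjective_of_ker_koszul _ ?_ l hl ?_
  · have : IsLocalization (Submonoid.map f (Submonoid.powers g)) (Localization.Away (f g)) := by
      simp only [Submonoid.map_powers]
      infer_instance
    exact IsLocalization.map_surjective_of_surjective _ _ _ hf
  · rw [← hgl]
    exact IsLocalization.ker_map (Localization.Away (f g)) f (Submonoid.map_powers f g)

/-- A local complete intersection ring map is perfect. -/
theorem perfHom_of_isLCI (A B : Type u) [CommRing A] [CommRing B] [Algebra A B]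
    (h : LCI.IsLCI A B) : MoreMor.IsPerfectHom A B := by
  obtain ⟨-, n, f, hf, hI⟩ := h
  have h1 : Qperf (f : MvPolynomial (Fin n) A →+* B) :=
    qperf_of_surjective_of_koszulRegularIdeal _ hf hI
  have h2 : Qperf (algebraMap A (MvPolynomial (Fin n) A)) := qperf_of_flat_fp A _
  have h3 := qperf_comp _ _ h2 h1
  have h4 : (f : MvPolynomial (Fin n) A →+* B).comp (algebraMap A (MvPolynomial (Fin n) A)) =
      algebraMap A B := f.comp_algebraMap
  rw [h4] at h3
  exact ⟨(qpc_algebraMap_iff A B).1 h3.1, (qftd_algebraMap_iff A B).1 h3.2⟩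

end RingLCI

section FP

/-- A pseudo-coherent ring map is of finite presentation. -/
theorem finitePresentation_of_pcHom (A B : Type u) [CommRing A] [CommRing B] [Algebra A B]
    (h : MoreMor.IsPseudoCoherentHom A B) : Algebra.FinitePresentation A B := by
  obtain ⟨n, φ, hφ, hpc⟩ := h
  let _ : Algebra (MvPolynomial (Fin n) A) B := φ.toRingHom.toAlgebra
  have h1 : DRing.IsPseudoCoherentModule (MvPolynomial (Fin n) A) (-1) B :=
    (isPC'_iff_forall _).1 hpc (-1)
  have h2 : Module.FinitePresentation (MvPolynomial (Fin n) A) B :=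
    (Groth.Agent.S6935.result _ B).2.1 h1
  have h3 : (LinearMap.ker (Algebra.linearMap (MvPolynomial (Fin n) A) B)).FG :=
    Module.FinitePresentation.fg_ker _ hφ
  exact Algebra.FinitePresentation.of_surjective hφ h3

end FP

section Schemes

open AlgebraicGeometry

theorem perfMor_of_flat_lfp {X Y : Scheme.{u}} (f : X ⟶ Y) [Flat f]
    [LocallyOfFinitePresentation f] : MoreMor.IsPerfectMor f := by
  intro U V hU hV e
  have h1 : (f.appLE V U e).hom.Flat :=
    (HasRingHomProperty.iff_appLE (P := @Flat)).1 inferInstance ⟨V, hV⟩ ⟨U, hU⟩ e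
  have h2 : (f.appLE V U e).hom.FinitePresentation :=
    (HasRingHomProperty.iff_appLE (P := @LocallyOfFinitePresentation)).1 inferInstance
      ⟨V, hV⟩ ⟨U, hU⟩ e
  let _ := (f.appLE V U e).hom.toAlgebra
  have : Module.Flat Γ(Y, V) Γ(X, U) := h1
  have : Algebra.FinitePresentation Γ(Y, V) Γ(X, U) := h2
  exact Groth.Agent.Lib.T2H7.PdPC.isPerfectHom_of_flat _ _

theorem surjective_app_congr {Z X : Scheme.{u}} (i : Z ⟶ X) (V W : X.Opens) (h : V = W)
    (hs : Function.Surjective (i.app V).hom) : Function.Surjective (i.app W).hom := by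
  subst h
  exact hs

theorem perfMor_of_koszulRegularImmersion {Z X : Scheme.{u}} (i : Z ⟶ X)
    (hi : RegImm.IsRegularImmersion .koszul i) : MoreMor.IsPerfectMor i := by
  obtain ⟨-, hloc⟩ := hi
  rw [perfMor_iff_exists]
  intro z
  obtain ⟨U, hzU, hcl, rs, hrs, hker⟩ := hloc z
  have hUa : IsAffine (U.1 : Scheme.{u}) := U.2
  have hVa : IsAffine ((i ⁻¹ᵁ U.1 : Z.Opens) : Scheme.{u}) := isAffine_of_isAffineHom (i ∣_ U.1)
  have hV : IsAffineOpen (i ⁻¹ᵁ U.1) := hVa
  refine ⟨i ⁻¹ᵁ U.1, U.1, le_rfl, hV, U.2, hzU, ?_⟩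
  have hsurj : Function.Surjective (i.app U.1).hom := by
    have h1 : Function.Surjective (i ∣_ U.1).appTop.hom :=
      (i ∣_ U.1).app_surjective ⊤ (isAffineOpen_top _)
    rw [morphismRestrict_appTop] at h1
    have h2 : Function.Surjective (i.app (U.1.ι ''ᵁ ⊤)).hom := by
      intro y
      obtain ⟨x, hx⟩ := h1 ((Z.presheaf.map
        (eqToHom (image_morphismRestrict_preimage i U.1 ⊤)).op).hom y)
      refine ⟨x, ?_⟩
      have hinj : Function.Injective (Z.presheaf.map
          (eqToHom (image_morphismRestrict_preimage i U.1 ⊤)).op).hom :=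
        ((ConcreteCategory.isIso_iff_bijective _).1 inferInstance).1
      exact hinj hx
    exact surjective_app_congr i _ _ (Scheme.Opens.ι_image_top U.1) h2
  have h1 : Qperf (i.app U.1).hom :=
    qperf_of_surjective_of_ker_koszul _ hsurj rs hrs hker
  have h2 : (i.appLE U.1 (i ⁻¹ᵁ U.1) le_rfl).hom = (i.app U.1).hom := by
    rw [Scheme.Hom.appLE_eq_app]
  change Qperf (i.appLE U.1 (i ⁻¹ᵁ U.1) le_rfl).hom
  rw [h2]
  exact h1

theorem perfMor_of_forall_isKoszulAt {X Y : Scheme.{u}} (f : X ⟶ Y)
    (hf : ∀ x : X, Synt.IsKoszulAt f x) : MoreMor.IsPerfectMor f := by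
  choose U P i π hxU hft hi hπ hfac using hf
  change Pperf f
  refine IsZariskiLocalAtSource.of_iSup_eq_top (P := Pperf.{u}) U ?_ fun x => ?_
  · rw [eq_top_iff]
    rintro x -
    exact TopologicalSpace.Opens.mem_iSup.2 ⟨x, hxU x⟩
  · rw [← hfac x]
    have := hπ x
    have h1 : MoreMor.IsPerfectMor (π x) := perfMor_of_flat_lfp (π x)
    exact perfMor_comp _ _ (perfMor_of_koszulRegularImmersion (i x) (hi x)) h1

theorem lci_mor {X S : Scheme.{u}} (f : X ⟶ S)
    (hf : (∀ (U : X.Opens) (V : S.Opens) (hU : IsAffineOpen U) (hV : IsAffineOpen V)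
      (hUV : U ≤ f ⁻¹ᵁ V),
        letI := (f.appLE V U hUV).hom.toAlgebra
        LCI.IsLCI Γ(S, V) Γ(X, U))) :
    LocallyOfFinitePresentation f ∧ MoreMor.IsPseudoCoherentMor f ∧ MoreMor.IsPerfectMor f := by
  have hperf : MoreMor.IsPerfectMor f := fun U V hU hV e =>
    @perfHom_of_isLCI Γ(S, V) Γ(X, U) _ _ (f.appLE V U e).hom.toAlgebra (hf U V hU hV e)
  refine ⟨?_, fun U V hU hV e => (hperf U V hU hV e).1, hperf⟩
  rw [HasRingHomProperty.iff_appLE (P := @LocallyOfFinitePresentation)]
  intro V U e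
  exact @finitePresentation_of_pcHom Γ(S, V.1) Γ(X, U.1) _ _ (f.appLE V.1 U.1 e).hom.toAlgebra
    (hperf U.1 V.1 U.2 V.2 e).1

end Schemes

end Groth.Agent.Lib.T2H7.PerfKos
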