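-- helper7 (team 2): Koszul complexes for the charts of the blow-up of a regular sequence, part 1.
import Mathlib
import Groth.Agent.Lib.T2H7PerfKos
import Groth.Agent.Lib.Helper1TorO
import Groth.Agent.Lib.Helper13Kz
import Groth.Agent.Lib.Helper13KzLiftB
import Groth.Agent.S2423

set_option autoImplicit false
universe u
open CategoryTheory CategoryTheory.Limits MonoidalCategory
attribute [local instance] HasDerivedCategory.standard

namespace Groth.Agent.Lib.T2H7.BlowKos

open Groth.Agent.Lib.Helper1.Tor Groth.Agent.Lib.Helper1.KF Groth.Agent.Lib.T2H7.PerfKos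
  Groth.Agent.Lib.Helper21 CochainComplex DerivedCategory Groth.Agent.Lib.Helper1.TorO
  Groth.Agent.Lib.Helper1.DT Groth.Agent.Lib.Helper1.LDer Groth.Agent.Lib.Helper1.TorM Groth.Agent.Lib.Helper1.TorN

section Transfer

variable (A : Type u) [CommRing A]

/-- the Koszul complex of a Koszul-regular sequence resolves the quotient -/
theorem koszul_iso_quot (l : List A) (h : LCI.IsKoszulRegularSeq A l) :
    Nonempty (Q.obj (CohIII.koszulCx (ModuleCat.of A A) l) ≅ Dual.inD A (A ⧸ Ideal.ofList l)) := by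
  have heq := Groth.Agent.S15821.koszul_eq A l
  set E : DRing.Cx A := CohIII.koszulCx (ModuleCat.of A A) l with hE
  have hhom : ∀ i : ℤ, i ≠ 0 → IsZero (E.homology i) := by
    intro i hi
    exact (Groth.Agent.S15821.isZero_congr heq i).1 (h i hi)
  have hle : E.IsLE 0 := by
    rw [CochainComplex.isLE_iff]
    intro i hi
    rw [HomologicalComplex.exactAt_iff_isZero_homology]
    exact hhom i (by omega)
  have hge : E.IsGE 0 := by
    rw [CochainComplex.isGE_iff]
    intro i hi
    rw [HomologicalComplex.exactAt_iff_isZero_homology]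
    exact hhom i (by omega)
  have : (DerivedCategory.Q.obj E).IsLE 0 := (DerivedCategory.isLE_Q_obj_iff _ _).2 hle
  have : (DerivedCategory.Q.obj E).IsGE 0 := (DerivedCategory.isGE_Q_obj_iff _ _).2 hge
  obtain ⟨Y, ⟨e⟩⟩ := DerivedCategory.exists_iso_singleFunctor_obj_of_isGE_of_isLE
    (DerivedCategory.Q.obj E) 0
  have e1 : (DerivedCategory.homologyFunctor (ModuleCat.{u} A) 0).obj (DerivedCategory.Q.obj E) ≅
      E.homology 0 :=
    (DerivedCategory.homologyFunctorFactors (ModuleCat.{u} A) 0).app E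
  have e2 : (DerivedCategory.homologyFunctor (ModuleCat.{u} A) 0).obj
      ((DerivedCategory.singleFunctor (ModuleCat.{u} A) 0).obj Y) ≅ Y :=
    (DerivedCategory.singleFunctorCompHomologyFunctorIso (ModuleCat.{u} A) 0).app Y
  have e3 : Y ≅ E.homology 0 :=
    e2.symm ≪≫ (DerivedCategory.homologyFunctor (ModuleCat.{u} A) 0).mapIso e.symm ≪≫ e1
  obtain ⟨e4⟩ := Groth.Agent.S11917.main (A := A) A l
  have h0 : Ideal.ofList l • (⊤ : Submodule A A) = Ideal.ofList l := by simp
  have e5 : Y ≅ ModuleCat.of A (A ⧸ Ideal.ofList l) :=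
    e3 ≪≫ (e4.trans (Submodule.quotEquivOfEq _ _ h0)).toModuleIso
  exact ⟨e ≪≫ (DerivedCategory.singleFunctor (ModuleCat.{u} A) 0).mapIso e5⟩

theorem kflat_koszulCx (l : List A) : KFlat (CohIII.koszulCx (ModuleCat.of A A) l) := by
  refine kflat_of_boundedAbove_flat _ 0 (fun q hq => isZero_koszulCx_X_pos _ l q hq) (fun q => ?_)
  have := (termwise_koszulCx A l q).2
  infer_instance

/-- homology of `N ⊗ -` only depends on the class in the derived category, for K-flat complexes -/
theorem isZero_homology_TC_iff (G E : DRing.Cx A) (hG : KFlat G) (hE : KFlat E)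
    (e : Q.obj E ≅ Q.obj G) (M : ModuleCat.{u} A) (i : ℤ) :
    IsZero (((TC M).obj E).homology i) ↔ IsZero (((TC M).obj G).homology i) := by
  obtain ⟨P, p, hP, -, hp, -⟩ := exists_kprojective_resolution G
  have hpi : IsIso (Q.map p) := (DerivedCategory.isIso_Q_map_iff_quasiIso (φ := p)).2 hp
  obtain ⟨g, hg⟩ := Q_map_surjective P E (Q.map p ≫ e.inv)
  have hgi : IsIso (Q.map g) := by rw [hg]; infer_instance
  have hgq : QuasiIso g := (DerivedCategory.isIso_Q_map_iff_quasiIso (φ := g)).1 hgi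
  have hPK : KFlat P := kflat_of_isKProjective P
  have q1 := quasiIso_TC_map_of_kflat M g hPK hE
  have q2 := quasiIso_TC_map_of_kflat M p hPK hG
  have a1 : IsIso (HomologicalComplex.homologyMap ((TC M).map g) i) :=
    (quasiIsoAt_iff_isIso_homologyMap _ i).1 (q1.quasiIsoAt i)
  have a2 : IsIso (HomologicalComplex.homologyMap ((TC M).map p) i) :=
    (quasiIsoAt_iff_isIso_homologyMap _ i).1 (q2.quasiIsoAt i)
  exact ((asIso (HomologicalComplex.homologyMap ((TC M).map g) i)).symm ≪≫
    asIso (HomologicalComplex.homologyMap ((TC M).map p) i)).isZero_iff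

/-- `koszulCx N l` is `N ⊗ koszulCx A l` -/
noncomputable def koszulCxIsoTC (N : ModuleCat.{u} A) (l : List A) :
    CohIII.koszulCx N l ≅ (TC N).obj (CohIII.koszulCx (ModuleCat.of A A) l) :=
  (Groth.Agent.Helper13Kz.tensorIso N l).symm ≪≫
    eqToIso (by rw [Groth.Agent.S15821.koszul_eq A l]; rfl) ≪≫
    ((NatIso.mapHomologicalComplex (BraidedCategory.tensorLeftIsoTensorRight N)
      (ComplexShape.up ℤ)).app _).symm

theorem isZero_koszulCx_homology_iff (l₁ l₂ : List A) (h₁ : LCI.IsKoszulRegularSeq A l₁)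
    (h₂ : LCI.IsKoszulRegularSeq A l₂) (hI : Ideal.ofList l₁ = Ideal.ofList l₂)
    (N : ModuleCat.{u} A) (i : ℤ) :
    IsZero ((CohIII.koszulCx N l₁).homology i) ↔ IsZero ((CohIII.koszulCx N l₂).homology i) := by
  obtain ⟨e₁⟩ := koszul_iso_quot A l₁ h₁
  obtain ⟨e₂⟩ := koszul_iso_quot A l₂ h₂
  rw [hI] at e₁
  have key := isZero_homology_TC_iff A _ _ (kflat_koszulCx A l₂) (kflat_koszulCx A l₁)
    (e₁ ≪≫ e₂.symm) N i
  have k1 : IsZero ((CohIII.koszulCx N l₁).homology i) ↔ _ :=
    ((HomologicalComplex.homologyFunctor _ _ i).mapIso (koszulCxIsoTC A N l₁)).isZero_iff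
  have k2 : IsZero ((CohIII.koszulCx N l₂).homology i) ↔ _ :=
    ((HomologicalComplex.homologyFunctor _ _ i).mapIso (koszulCxIsoTC A N l₂)).isZero_iff
  rw [k1, k2]
  exact key

end Transfer


open RingTheory.Sequence

universe v

section Vars

variable {σ : Type v} {K : Type u} [CommRing K]

theorem X_mul_mem_span_X_image {s : Set σ} {w : σ} (hw : w ∉ s) (f : MvPolynomial σ K)
    (h : MvPolynomial.X w * f ∈ Ideal.span (MvPolynomial.X '' s : Set (MvPolynomial σ K))) :
    f ∈ Ideal.span (MvPolynomial.X '' s : Set (MvPolynomial σ K)) := by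
  classical
  rw [MvPolynomial.mem_ideal_span_X_image] at h ⊢
  intro m hm
  have hm' : (Finsupp.single w 1 + m) ∈ (MvPolynomial.X w * f).support := by
    rw [MvPolynomial.mem_support_iff, MvPolynomial.coeff_X_mul]
    exact MvPolynomial.mem_support_iff.1 hm
  obtain ⟨i, hi, hne⟩ := h _ hm'
  refine ⟨i, hi, ?_⟩
  have hiw : i ≠ w := fun e => hw (e ▸ hi)
  simpa [Finsupp.single_apply, hiw.symm] using hne

theorem isSMulRegular_quot_of_forall {R : Type*} [CommRing R] (I : Ideal R) (r : R)
    (h : ∀ f, r * f ∈ I → f ∈ I) :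
    IsSMulRegular (R ⧸ (I • ⊤ : Submodule R R)) r := by
  have hI : (I • ⊤ : Submodule R R) = I := by simp
  rw [isSMulRegular_on_quot_iff_lsmul_comap_le]
  intro f hf
  rw [hI]
  rw [Submodule.mem_comap, hI] at hf
  exact h f hf

/-- a list of distinct variables is a weakly regular sequence -/
theorem isWeaklyRegular_map_X (l : List σ) (hl : l.Nodup) :
    IsWeaklyRegular (MvPolynomial σ K) (l.map (MvPolynomial.X (R := K))) := by
  rw [isWeaklyRegular_iff]
  intro i hi
  have hi' : i < l.length := by simpa using hi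
  have h1 : (l.map (MvPolynomial.X (R := K)))[i] = MvPolynomial.X l[i] := by simp
  have h2 : Ideal.ofList ((l.map (MvPolynomial.X (R := K))).take i) =
      Ideal.span (MvPolynomial.X '' {a | a ∈ l.take i}) := by
    unfold Ideal.ofList
    congr 1
    ext z
    simp only [Set.mem_ofPred_eq, Set.mem_image]
    rw [← List.map_take, List.mem_map]
  rw [h1, h2]
  apply isSMulRegular_quot_of_forall
  intro f hf
  refine X_mul_mem_span_X_image ?_ f hf
  intro hmem
  change l[i] ∈ l.take i at hmem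
  rw [List.mem_take_iff_getElem] at hmem
  obtain ⟨j, hj, hje⟩ := hmem
  have hji : j < i := (lt_min_iff.1 hj).1
  have := (List.Nodup.getElem_inj_iff hl (hi := by omega) (hj := hi')).1 hje
  omega

end Vars

section Univ

variable (A : Type u) [CommRing A] {n : ℕ} (i₀ : Fin n)

noncomputable def xv (k : Fin n) : MvPolynomial (Fin n ⊕ Fin n) A := MvPolynomial.X (Sum.inl k)
noncomputable def tv (k : Fin n) : MvPolynomial (Fin n ⊕ Fin n) A := MvPolynomial.X (Sum.inr k)

noncomputable def GG (k : Fin n) : MvPolynomial (Fin n ⊕ Fin n) A :=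
  if k = i₀ then tv A i₀ else xv A i₀ * tv A k - xv A k

noncomputable def θ : MvPolynomial (Fin n ⊕ Fin n) A →ₐ[A] MvPolynomial (Fin n ⊕ Fin n) A :=
  MvPolynomial.aeval (Sum.elim (fun k => if k = i₀ then xv A i₀ else xv A i₀ * tv A k - xv A k)
    (fun k => tv A k))

theorem θ_xv (k : Fin n) : θ A i₀ (xv A k) =
    if k = i₀ then xv A i₀ else xv A i₀ * tv A k - xv A k := by
  simp [θ, xv]

theorem θ_tv (k : Fin n) : θ A i₀ (tv A k) = tv A k := by
  simp [θ, tv]

theorem θ_θ : (θ A i₀).comp (θ A i₀) = AlgHom.id A _ := by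
  apply MvPolynomial.algHom_ext
  intro v
  cases v with
  | inl k =>
    change θ A i₀ (θ A i₀ (xv A k)) = xv A k
    by_cases h : k = i₀
    · subst h
      simp [θ_xv]
    · rw [θ_xv, if_neg h, map_sub, map_mul, θ_xv, if_pos rfl, θ_tv, θ_xv, if_neg h]
      ring
  | inr k =>
    change θ A i₀ (θ A i₀ (tv A k)) = tv A k
    rw [θ_tv, θ_tv]

noncomputable def θe : MvPolynomial (Fin n ⊕ Fin n) A ≃ₐ[A] MvPolynomial (Fin n ⊕ Fin n) A :=
  AlgEquiv.ofAlgHom (θ A i₀) (θ A i₀) (θ_θ A i₀) (θ_θ A i₀)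

/-- the variable list for the first sequence -/
def L₁ : List (Fin n ⊕ Fin n) :=
  Sum.inl i₀ :: List.ofFn (fun k : Fin n => if k = i₀ then Sum.inr i₀ else Sum.inl k)

theorem L₁_nodup : (L₁ i₀).Nodup := by
  unfold L₁
  rw [List.nodup_cons]
  constructor
  · rw [List.mem_ofFn]
    rintro ⟨k, hk⟩
    by_cases h : k = i₀
    · simp [h] at hk
    · simp only [if_neg h] at hk
      exact h (Sum.inl_injective hk)
  · rw [List.nodup_ofFn]
    intro k k' hkk
    by_cases h : k = i₀ <;> by_cases h' : k' = i₀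
    · rw [h, h']
    · simp [h, h'] at hkk
    · simp [h, h'] at hkk
    · simp only [if_neg h, if_neg h'] at hkk
      exact Sum.inl_injective hkk

/-- the first sequence `x_{i₀}, G_1, …, G_n` -/
noncomputable def l₁ : List (MvPolynomial (Fin n ⊕ Fin n) A) := xv A i₀ :: List.ofFn (GG A i₀)

/-- the second sequence `x_1, …, x_n, t_{i₀}` -/
noncomputable def l₂ : List (MvPolynomial (Fin n ⊕ Fin n) A) := List.ofFn (xv A) ++ [tv A i₀]

theorem l₁_eq : l₁ A i₀ = ((L₁ i₀).map (MvPolynomial.X (R := A))).map (θ A i₀) := by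
  unfold l₁ L₁
  rw [List.map_cons, List.map_cons, List.map_ofFn, List.map_ofFn]
  congr 1
  · have := θ_xv A i₀ i₀
    rw [if_pos rfl] at this
    exact this.symm
  · congr 1
    funext k
    simp only [Function.comp]
    by_cases h : k = i₀
    · simp only [if_pos h, GG]
      exact (θ_tv A i₀ i₀).symm
    · simp only [if_neg h, GG]
      have := θ_xv A i₀ k
      rw [if_neg h] at this
      exact this.symm

theorem l₁_weaklyRegular : IsWeaklyRegular (MvPolynomial (Fin n ⊕ Fin n) A) (l₁ A i₀) := by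
  rw [l₁_eq]
  refine (AddEquiv.isWeaklyRegular_congr (e := (θe A i₀).toAddEquiv) ?_).1
    (isWeaklyRegular_map_X (K := A) (L₁ i₀) (L₁_nodup i₀))
  rw [List.forall₂_map_right_iff, List.forall₂_same]
  intro r _ x
  exact map_mul (θ A i₀) r x

theorem l₂_weaklyRegular : IsWeaklyRegular (MvPolynomial (Fin n ⊕ Fin n) A) (l₂ A i₀) := by
  have h : l₂ A i₀ = (List.ofFn (fun k : Fin n => (Sum.inl k : Fin n ⊕ Fin n)) ++
      [Sum.inr i₀]).map (MvPolynomial.X (R := A)) := by
    unfold l₂
    rw [List.map_append, List.map_ofFn]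
    rfl
  rw [h]
  apply isWeaklyRegular_map_X
  rw [List.nodup_append]
  refine ⟨?_, List.nodup_singleton _, ?_⟩
  · rw [List.nodup_ofFn]
    exact Sum.inl_injective
  · intro a ha b hb
    rw [List.mem_ofFn] at ha
    obtain ⟨k, rfl⟩ := ha
    rw [List.mem_singleton] at hb
    subst hb
    exact Sum.inl_ne_inr

theorem ofList_l₁_eq : Ideal.ofList (l₁ A i₀) = Ideal.ofList (l₂ A i₀) := by
  have hx : ∀ k, xv A k ∈ Ideal.ofList (l₂ A i₀) := fun k =>
    Ideal.subset_span (List.mem_append_left _ ((List.mem_ofFn' _ _).2 ⟨k, rfl⟩))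
  have ht : tv A i₀ ∈ Ideal.ofList (l₂ A i₀) :=
    Ideal.subset_span (List.mem_append_right _ (List.mem_singleton.2 rfl))
  have hx1 : xv A i₀ ∈ Ideal.ofList (l₁ A i₀) := Ideal.subset_span List.mem_cons_self
  have hG : ∀ k, GG A i₀ k ∈ Ideal.ofList (l₁ A i₀) := fun k =>
    Ideal.subset_span (List.mem_cons_of_mem _ ((List.mem_ofFn' _ _).2 ⟨k, rfl⟩))
  apply le_antisymm
  · refine Ideal.span_le.2 ?_
    intro r hr
    change r ∈ l₁ A i₀ at hr
    unfold l₁ at hr
    rw [List.mem_cons, List.mem_ofFn'] at hr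
    rcases hr with rfl | ⟨k, rfl⟩
    · exact hx i₀
    · unfold GG
      split_ifs with h
      · exact ht
      · exact sub_mem (Ideal.mul_mem_right _ _ (hx i₀)) (hx k)
  · refine Ideal.span_le.2 ?_
    intro r hr
    change r ∈ l₂ A i₀ at hr
    unfold l₂ at hr
    rw [List.mem_append, List.mem_ofFn', List.mem_singleton] at hr
    rcases hr with ⟨k, rfl⟩ | rfl
    · by_cases h : k = i₀
      · rw [h]; exact hx1
      · have h1 := hG k
        unfold GG at h1
        rw [if_neg h] at h1
        have h2 : xv A k = xv A i₀ * tv A k - (xv A i₀ * tv A k - xv A k) := by ring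
        rw [h2]
        exact sub_mem (Ideal.mul_mem_right _ _ hx1) h1
    · have h1 := hG i₀
      unfold GG at h1
      rw [if_pos rfl] at h1
      exact h1

end Univ

end Groth.Agent.Lib.T2H7.BlowKos
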