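import Mathlib
import Groth.Prelude.Def_Koszul
import Groth.Prelude.Def_DRing2
import Groth.Agent.Lib.Helper1KF9
/-
Helper library (helper7): tensoring on the right commutes with mapping cones in `DRing.Cx A`,
and `K(f) ⊗ K(g) ≅ K(f ++ g)` for the prelude Koszul complexes.
-/
set_option backward.isDefEq.respectTransparency.types false

set_option autoImplicit false
set_option maxHeartbeats 400000
universe u
open CategoryTheory CategoryTheory.Limits MonoidalCategory HomologicalComplex CochainComplex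
  CochainComplex.HomComplex

namespace Groth.Agent.Lib.T2H7.ConeTensor

open Groth.Agent.Lib.Helper1.KF

variable {A : Type u} [CommRing A] {K K' : DRing.Cx A} (φ : K ⟶ K') (L : DRing.Cx A)

lemma neg_whiskerRight' {X Y : ModuleCat.{u} A} (f : X ⟶ Y) (Z : ModuleCat.{u} A) :
    (-f) ▷ Z = -(f ▷ Z) :=
  (tensorRight Z).map_neg

/-- the component of `Θ` on the summand `(cone φ)^p ⊗ L^q` -/
noncomputable def thetaPQ (p p' q n n' : ℤ) (hp : p + 1 = p') (hn : p + q = n) (hn' : n + 1 = n') :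
    (mappingCone φ).X p ⊗ L.X q ⟶ (mappingCone (φ ▷ L)).X n :=
  ((mappingCone.fst φ).1.v p p' hp ▷ L.X q) ≫ ιTensorObj K L p' q n' (by omega) ≫
      (mappingCone.inl (φ ▷ L)).v n' n (by omega) +
    ((mappingCone.snd φ).v p p (add_zero p) ▷ L.X q) ≫ ιTensorObj K' L p q n hn ≫
      (mappingCone.inr (φ ▷ L)).f n

/-- `Θ_n : (cone φ ⊗ L)^n ⟶ cone(φ ▷ L)^n` -/
noncomputable def theta (n : ℤ) : (mappingCone φ ⊗ L).X n ⟶ (mappingCone (φ ▷ L)).X n :=
  mapBifunctorDesc (K₁ := mappingCone φ) (K₂ := L) (F := curriedTensor (ModuleCat.{u} A))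
    (c := ComplexShape.up ℤ) (fun p q h => thetaPQ φ L p (p + 1) q n (n + 1) rfl h rfl)

@[reassoc]
lemma ι_theta (p p' q n n' : ℤ) (hp : p + 1 = p') (hn : p + q = n) (hn' : n + 1 = n') :
    ιTensorObj (mappingCone φ) L p q n hn ≫ theta φ L n = thetaPQ φ L p p' q n n' hp hn hn' := by
  subst hp hn'
  unfold theta
  erw [ι_mapBifunctorDesc]

@[reassoc]
lemma thetaPQ_fst (p p' q n n' : ℤ) (hp : p + 1 = p') (hn : p + q = n) (hn' : n + 1 = n') :
    thetaPQ φ L p p' q n n' hp hn hn' ≫ (mappingCone.fst (φ ▷ L)).1.v n n' hn' =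
      ((mappingCone.fst φ).1.v p p' hp ▷ L.X q) ≫ ιTensorObj K L p' q n' (by omega) := by
  unfold thetaPQ
  simp only [Preadditive.add_comp, Category.assoc, mappingCone.inl_v_fst_v,
    mappingCone.inr_f_fst_v, comp_zero, add_zero]
  erw [Category.comp_id]

@[reassoc]
lemma thetaPQ_snd (p p' q n n' : ℤ) (hp : p + 1 = p') (hn : p + q = n) (hn' : n + 1 = n') :
    thetaPQ φ L p p' q n n' hp hn hn' ≫ (mappingCone.snd (φ ▷ L)).v n n (add_zero n) =
      ((mappingCone.snd φ).v p p (add_zero p) ▷ L.X q) ≫ ιTensorObj K' L p q n hn := by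
  unfold thetaPQ
  simp only [Preadditive.add_comp, Category.assoc, mappingCone.inl_v_snd_v,
    mappingCone.inr_f_snd_v, comp_zero, zero_add]
  erw [Category.comp_id]

lemma theta_comm_fst (p q n : ℤ) (hn : p + q = n) :
    ιTensorObj (mappingCone φ) L p q n hn ≫ theta φ L n ≫ (mappingCone (φ ▷ L)).d n (n + 1) ≫
        (mappingCone.fst (φ ▷ L)).1.v (n + 1) (n + 1 + 1) rfl =
      ιTensorObj (mappingCone φ) L p q n hn ≫ (mappingCone φ ⊗ L).d n (n + 1) ≫
        theta φ L (n + 1) ≫ (mappingCone.fst (φ ▷ L)).1.v (n + 1) (n + 1 + 1) rfl := by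
  rw [mappingCone.d_fst_v (φ ▷ L) n (n + 1) (n + 1 + 1) rfl rfl, Preadditive.comp_neg,
    Preadditive.comp_neg, ι_theta_assoc φ L p (p + 1) q n (n + 1) rfl hn rfl,
    thetaPQ_fst_assoc, ι_tensor_d K L (p + 1) q (n + 1) (by omega) (p + 1 + 1) (q + 1) (n + 1 + 1)
      rfl rfl rfl,
    ← Category.assoc (ιTensorObj (mappingCone φ) L p q n hn),
    ι_tensor_d (mappingCone φ) L p q n hn (p + 1) (q + 1) (n + 1) rfl rfl rfl]
  simp only [Preadditive.add_comp, Category.assoc, Linear.units_smul_comp]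
  rw [ι_theta_assoc φ L (p + 1) (p + 1 + 1) q (n + 1) (n + 1 + 1) rfl (by omega) rfl, thetaPQ_fst,
    ι_theta_assoc φ L p (p + 1) (q + 1) (n + 1) (n + 1 + 1) rfl (by omega) rfl, thetaPQ_fst,
    ← comp_whiskerRight_assoc, mappingCone.d_fst_v φ p (p + 1) (p + 1 + 1) rfl rfl,
    whisker_exchange_assoc, Preadditive.comp_add, Linear.comp_units_smul, Int.negOnePow_succ]
  rw [neg_whiskerRight', comp_whiskerRight, Preadditive.neg_comp, Category.assoc, neg_add,
    Units.neg_smul, neg_neg]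

lemma theta_comm_snd (p q n : ℤ) (hn : p + q = n) :
    ιTensorObj (mappingCone φ) L p q n hn ≫ theta φ L n ≫ (mappingCone (φ ▷ L)).d n (n + 1) ≫
        (mappingCone.snd (φ ▷ L)).v (n + 1) (n + 1) (add_zero _) =
      ιTensorObj (mappingCone φ) L p q n hn ≫ (mappingCone φ ⊗ L).d n (n + 1) ≫
        theta φ L (n + 1) ≫ (mappingCone.snd (φ ▷ L)).v (n + 1) (n + 1) (add_zero _) := by
  rw [mappingCone.d_snd_v (φ ▷ L) n (n + 1) rfl, Preadditive.comp_add, Preadditive.comp_add,
    ι_theta_assoc φ L p (p + 1) q n (n + 1) rfl hn rfl, thetaPQ_fst_assoc,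
    ι_theta_assoc φ L p (p + 1) q n (n + 1) rfl hn rfl, thetaPQ_snd_assoc,
    ι_whiskerRight, ι_tensor_d K' L p q n hn (p + 1) (q + 1) (n + 1) rfl rfl rfl,
    ← Category.assoc (ιTensorObj (mappingCone φ) L p q n hn),
    ι_tensor_d (mappingCone φ) L p q n hn (p + 1) (q + 1) (n + 1) rfl rfl rfl]
  simp only [Preadditive.add_comp, Category.assoc, Linear.units_smul_comp]
  rw [ι_theta_assoc φ L (p + 1) (p + 1 + 1) q (n + 1) (n + 1 + 1) rfl (by omega) rfl, thetaPQ_snd,
    ι_theta_assoc φ L p (p + 1) (q + 1) (n + 1) (n + 1 + 1) rfl (by omega) rfl, thetaPQ_snd,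
    ← comp_whiskerRight_assoc ((mappingCone φ).d p (p + 1)), mappingCone.d_snd_v φ p (p + 1) rfl,
    whisker_exchange_assoc, Preadditive.comp_add, Linear.comp_units_smul,
    MonoidalPreadditive.add_whiskerRight, Preadditive.add_comp, comp_whiskerRight,
    comp_whiskerRight, Category.assoc, Category.assoc]
  exact (add_assoc _ _ _).symm

/-- `Θ` as a morphism of complexes -/
noncomputable def thetaHom : mappingCone φ ⊗ L ⟶ mappingCone (φ ▷ L) where
  f n := theta φ L n
  comm' n n' h := by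
    obtain rfl : n + 1 = n' := h
    apply tensor_hom_ext
    intro p q hn
    apply mappingCone.ext_to (φ ▷ L) (n + 1) (n + 1 + 1) rfl
    · simp only [Category.assoc]
      exact theta_comm_fst φ L p q n hn
    · simp only [Category.assoc]
      exact theta_comm_snd φ L p q n hn

/-- the map `(K ⊗ L)^m ⟶ (cone φ ⊗ L)^{m-1}` induced by `inl` -/
noncomputable def psi1 (m m' : ℤ) (hm : m' + 1 = m) : (K ⊗ L).X m ⟶ (mappingCone φ ⊗ L).X m' :=
  mapBifunctorDesc (K₁ := K) (K₂ := L) (F := curriedTensor (ModuleCat.{u} A))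
    (c := ComplexShape.up ℤ) (fun p q (h : p + q = m) =>
      ((mappingCone.inl φ).v p (p - 1) (by omega) ▷ L.X q) ≫
        ιTensorObj (mappingCone φ) L (p - 1) q m' (by omega))

@[reassoc]
lemma ι_psi1 (p p' q m m' : ℤ) (hp : p' + 1 = p) (h : p + q = m) (hm : m' + 1 = m) :
    ιTensorObj K L p q m h ≫ psi1 φ L m m' hm =
      ((mappingCone.inl φ).v p p' (by omega) ▷ L.X q) ≫
        ιTensorObj (mappingCone φ) L p' q m' (by omega) := by
  obtain rfl : p' = p - 1 := by omega
  unfold psi1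
  erw [ι_mapBifunctorDesc]

/-- `Ψ_n : cone(φ ▷ L)^n ⟶ (cone φ ⊗ L)^n` -/
noncomputable def psi (n : ℤ) : (mappingCone (φ ▷ L)).X n ⟶ (mappingCone φ ⊗ L).X n :=
  (mappingCone.fst (φ ▷ L)).1.v n (n + 1) rfl ≫ psi1 φ L (n + 1) n rfl +
    (mappingCone.snd (φ ▷ L)).v n n (add_zero n) ≫ (mappingCone.inr φ ▷ L).f n

lemma theta_psi (n : ℤ) : theta φ L n ≫ psi φ L n = 𝟙 _ := by
  apply tensor_hom_ext
  intro p q hn
  rw [ι_theta_assoc φ L p (p + 1) q n (n + 1) rfl hn rfl]
  unfold psi
  rw [Preadditive.comp_add, thetaPQ_fst_assoc, thetaPQ_snd_assoc,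
    ι_psi1 φ L (p + 1) p q (n + 1) n rfl (by omega) rfl, ι_whiskerRight,
    ← comp_whiskerRight_assoc, ← comp_whiskerRight_assoc, ← Preadditive.add_comp,
    ← MonoidalPreadditive.add_whiskerRight, mappingCone.id_X φ p (p + 1) rfl, id_whiskerRight,
    Category.id_comp]
  exact (Category.comp_id _).symm

lemma psi1_theta (n : ℤ) :
    psi1 φ L (n + 1) n rfl ≫ theta φ L n = (mappingCone.inl (φ ▷ L)).v (n + 1) n (by omega) := by
  apply tensor_hom_ext
  intro p q hn
  rw [ι_psi1_assoc φ L p (p - 1) q (n + 1) n (by omega) hn rfl,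
    ι_theta φ L (p - 1) p q n (n + 1) (by omega) (by omega) rfl]
  unfold thetaPQ
  rw [Preadditive.comp_add, ← comp_whiskerRight_assoc, ← comp_whiskerRight_assoc,
    mappingCone.inl_v_fst_v, mappingCone.inl_v_snd_v, id_whiskerRight, Category.id_comp,
    MonoidalPreadditive.zero_whiskerRight, zero_comp, add_zero]

lemma inr_theta (n : ℤ) :
    (mappingCone.inr φ ▷ L).f n ≫ theta φ L n = (mappingCone.inr (φ ▷ L)).f n := by
  apply tensor_hom_ext
  intro p q hn
  rw [ι_whiskerRight_assoc, ι_theta φ L p (p + 1) q n (n + 1) rfl hn rfl]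
  unfold thetaPQ
  rw [Preadditive.comp_add, ← comp_whiskerRight_assoc, ← comp_whiskerRight_assoc,
    mappingCone.inr_f_fst_v, mappingCone.inr_f_snd_v, id_whiskerRight, Category.id_comp,
    MonoidalPreadditive.zero_whiskerRight, zero_comp, zero_add]

lemma psi_theta (n : ℤ) : psi φ L n ≫ theta φ L n = 𝟙 _ := by
  unfold psi
  rw [Preadditive.add_comp, Category.assoc, Category.assoc, psi1_theta, inr_theta]
  exact mappingCone.id_X (φ ▷ L) n (n + 1) rfl

/-- tensoring on the right commutes with mapping cones -/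
noncomputable def coneTensorIso : mappingCone φ ⊗ L ≅ mappingCone (φ ▷ L) :=
  HomologicalComplex.Hom.isoOfComponents
    (fun n => { hom := theta φ L n, inv := psi φ L n, hom_inv_id := theta_psi φ L n,
                inv_hom_id := psi_theta φ L n })
    (fun n n' h => (thetaHom φ L).comm' n n' h)

lemma smul_id_whiskerRight (a : A) (K L : DRing.Cx A) : (a • 𝟙 K) ▷ L = a • 𝟙 (K ⊗ L) := by
  ext n : 1
  apply tensor_hom_ext
  intro p q hn
  rw [ι_whiskerRight, HomologicalComplex.smul_f_apply, HomologicalComplex.smul_f_apply,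
    HomologicalComplex.id_f, HomologicalComplex.id_f, MonoidalLinear.smul_whiskerRight,
    id_whiskerRight, Linear.smul_comp, Linear.comp_smul, Category.id_comp]
  exact congrArg (fun t => a • t) (Category.comp_id _).symm

/-- iso of mapping cones of `a • 𝟙` induced by an iso of complexes -/
noncomputable def coneIso {X Y : DRing.Cx A} (e : X ≅ Y) (a : A) :
    mappingCone (a • 𝟙 X) ≅ mappingCone (a • 𝟙 Y) where
  hom := mappingCone.map _ _ e.hom e.hom (by simp)
  inv := mappingCone.map _ _ e.inv e.inv (by simp)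
  hom_inv_id := by
    rw [← mappingCone.map_comp]
    simp [mappingCone.map_id]
  inv_hom_id := by
    rw [← mappingCone.map_comp]
    simp [mappingCone.map_id]

/-- the Koszul complex of the empty list is the unit complex -/
noncomputable def koszulNilIso : Koszul.koszul A [] ≅ 𝟙_ (DRing.Cx A) := Iso.refl _

/-- `K(f) ⊗ K(g) ≅ K(f ++ g)` -/
noncomputable def koszulTensorIso : ∀ f g : List A,
    (Koszul.koszul A f ⊗ Koszul.koszul A g : DRing.Cx A) ≅ Koszul.koszul A (f ++ g)
  | [], g => whiskerRightIso koszulNilIso (Koszul.koszul A g) ≪≫ λ_ (Koszul.koszul A g)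
  | a :: l, g =>
      coneTensorIso (a • 𝟙 (Koszul.koszul A l)) (Koszul.koszul A g) ≪≫
        eqToIso (congrArg (fun ψ => mappingCone ψ)
          (smul_id_whiskerRight a (Koszul.koszul A l) (Koszul.koszul A g))) ≪≫
        coneIso (koszulTensorIso l g) a

end Groth.Agent.Lib.T2H7.ConeTensor
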