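import Mathlib
import Groth.Prelude.Def_Koszul
import Groth.Prelude.Def_DRing2
import Groth.Prelude.Def_ega3
import Groth.Agent.Lib.Helper21ConeLES2
import Groth.Agent.Lib.Helper21Koszul
/-
Helper library (helper7): cones of null-homotopic maps have split homology; iterated cones `Kz`
of multiplications; binomial homology of `Kz l X` when the elements of `l` are null-homotopic on
`X` and `X` has homology only in degree `0`; Koszul complexes of concatenations.
-/
set_option backward.isDefEq.respectTransparency.types false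

set_option autoImplicit false
set_option maxHeartbeats 400000
universe u
open CategoryTheory CategoryTheory.Limits CochainComplex CochainComplex.HomComplex

namespace Groth.Agent.Lib.T2H7.KosSplit

open Groth.Agent.Lib.Helper21

variable {A : Type u} [CommRing A]

section Split

variable {K L : CochainComplex (ModuleCat.{u} A) ℤ} (φ : K ⟶ L) (h : Homotopy φ 0)

/-- the retraction of `inr` attached to a null-homotopy of `φ` -/
noncomputable def coneRetr : mappingCone φ ⟶ L :=
  mappingCone.desc φ (Cochain.ofHomotopy h) (𝟙 L) (by simp [δ_ofHomotopy])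

lemma inr_coneRetr : mappingCone.inr φ ≫ coneRetr φ h = 𝟙 L :=
  mappingCone.inr_desc _ _ _ _

include h in
lemma homologyMap_eq_zero_of_homotopy (n : ℤ) : HomologicalComplex.homologyMap φ n = 0 := by
  rw [h.homologyMap_eq n]
  simp

include h in
/-- the cone of a null-homotopic map has split homology -/
theorem cone_homology_split (n₀ n₁ : ℤ) (hn : n₀ + 1 = n₁) :
    Nonempty ((mappingCone φ).homology n₀ ≃ₗ[A] (L.homology n₀ × K.homology n₁)) := by
  have h3 := cone_homology_exact₃ φ n₀ n₁ hn
  have h1 := cone_homology_exact₁ φ n₀ n₁ hn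
  have hr3 := h3.moduleCat_range_eq_ker
  have hr1 := h1.moduleCat_range_eq_ker
  simp only at hr3 hr1
  set i := (HomologicalComplex.homologyMap (mappingCone.inr φ) n₀).hom with hi
  set ρ := (HomologicalComplex.homologyMap (coneRetr φ h) n₀).hom with hρ
  set δ' := (coneδ φ n₀ n₁ hn).hom with hδ
  have hρi : ∀ y, ρ (i y) = y := by
    intro y
    have : HomologicalComplex.homologyMap (mappingCone.inr φ) n₀ ≫
        HomologicalComplex.homologyMap (coneRetr φ h) n₀ = 𝟙 _ := by
      rw [← HomologicalComplex.homologyMap_comp, inr_coneRetr, HomologicalComplex.homologyMap_id]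
    exact congrArg (fun t => t.hom y) this
  have hδs : Function.Surjective δ' := by
    intro b
    have hb : b ∈ LinearMap.ker (HomologicalComplex.homologyMap φ n₁).hom := by
      rw [homologyMap_eq_zero_of_homotopy φ h n₁]
      simp
    rw [← hr1] at hb
    exact hb
  let Φ : (mappingCone φ).homology n₀ →ₗ[A] (L.homology n₀ × K.homology n₁) := ρ.prod δ'
  have hinj : Function.Injective Φ := by
    rw [← LinearMap.ker_eq_bot, LinearMap.ker_eq_bot']
    intro x hx
    have hx1 : ρ x = 0 := congrArg Prod.fst hx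
    have hx2 : δ' x = 0 := congrArg Prod.snd hx
    have : x ∈ LinearMap.range i := by
      rw [hr3]
      exact hx2
    obtain ⟨y, rfl⟩ := this
    rw [hρi] at hx1
    rw [hx1, map_zero]
  have hsurj : Function.Surjective Φ := by
    rintro ⟨a, b⟩
    obtain ⟨x₀, hx₀⟩ := hδs b
    have hδi : ∀ y, δ' (i y) = 0 := by
      intro y
      have : i y ∈ LinearMap.ker δ' := by
        rw [← hr3]
        exact ⟨y, rfl⟩
      exact this
    refine ⟨x₀ + i (a - ρ x₀), ?_⟩
    show (ρ (x₀ + i (a - ρ x₀)), δ' (x₀ + i (a - ρ x₀))) = (a, b)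
    rw [map_add, map_add, hρi, hδi, hx₀]
    simp
  exact ⟨LinearEquiv.ofBijective Φ ⟨hinj, hsurj⟩⟩

end Split

section Kz

/-- iterated cones of multiplications: `Kz [a₁,…,a_r] X = cone(a₁ on cone(a₂ on … X))` -/
noncomputable def Kz : List A → CochainComplex (ModuleCat.{u} A) ℤ →
    CochainComplex (ModuleCat.{u} A) ℤ
  | [], X => X
  | a :: l, X => mappingCone (a • 𝟙 (Kz l X))

/-- multiplication by `x` is null-homotopic on `X` -/
def NullH (X : CochainComplex (ModuleCat.{u} A) ℤ) (x : A) : Prop :=
  Nonempty (Homotopy (x • 𝟙 X) 0)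

variable {X : CochainComplex (ModuleCat.{u} A) ℤ}

lemma NullH.cone {x : A} (h : NullH X x) (a : A) : NullH (mappingCone (a • 𝟙 X)) x :=
  ⟨coneHomotopy X a x h.some⟩

lemma NullH.self (X : CochainComplex (ModuleCat.{u} A) ℤ) (a : A) :
    NullH (mappingCone (a • 𝟙 X)) a :=
  ⟨coneSelfHomotopy X a⟩

lemma NullH.kz {x : A} (h : NullH X x) : ∀ l : List A, NullH (Kz l X) x
  | [] => h
  | a :: l => (NullH.kz h l).cone a

lemma NullH.of_eq_zero {x : A} (h : x • 𝟙 X = 0) : NullH X x := ⟨Homotopy.ofEq h⟩

lemma NullH.zero : NullH X 0 := NullH.of_eq_zero (zero_smul _ _)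

lemma NullH.add {x y : A} (hx : NullH X x) (hy : NullH X y) : NullH X (x + y) := by
  refine ⟨(Homotopy.ofEq ?_).trans ((hx.some.add hy.some).trans (Homotopy.ofEq ?_))⟩
  · rw [add_smul]
  · simp

lemma NullH.smul {x : A} (hx : NullH X x) (c : A) : NullH X (c * x) := by
  refine ⟨(Homotopy.ofEq ?_).trans ((hx.some.smul c).trans (Homotopy.ofEq ?_))⟩
  · rw [mul_smul]
  · simp

lemma NullH.of_mem_span {S : Set A} (hS : ∀ x ∈ S, NullH X x) {x : A} (hx : x ∈ Ideal.span S) :
    NullH X x := by
  induction hx using Submodule.span_induction with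
  | mem x hx => exact hS x hx
  | zero => exact NullH.zero
  | add x y _ _ hx hy => exact hx.add hy
  | smul c x _ hx => exact hx.smul c

/-- if `X` has homology only in degree `0` and the `x ∈ l` are null-homotopic on `X`, then the
homology of `Kz l X` is given by binomial coefficients. -/
theorem kz_homology (hX : ∀ m : ℤ, m ≠ 0 → IsZero (X.homology m)) :
    ∀ l : List A, (∀ x ∈ l, NullH X x) →
      (∀ m : ℤ, 0 < m → IsZero ((Kz l X).homology m)) ∧
      ∀ n : ℕ, Nonempty ((Kz l X).homology (-(n : ℤ)) ≃ₗ[A]
        (Fin (l.length.choose n) → X.homology 0))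
  | [], _ => by
    refine ⟨fun m hm => hX m (by omega), fun n => ?_⟩
    rcases n with _ | n
    · exact ⟨(LinearEquiv.funUnique (Fin 1) A _).symm⟩
    · have hz : IsZero (X.homology (-((n + 1 : ℕ) : ℤ))) := hX _ (by push_cast; omega)
      have : Subsingleton ((Kz [] X).homology (-((n + 1 : ℕ) : ℤ))) :=
        ModuleCat.subsingleton_of_isZero hz
      have : IsEmpty (Fin (([] : List A).length.choose (n + 1))) := by
        simp only [List.length_nil, Nat.choose_zero_succ]
        infer_instance
      exact ⟨LinearEquiv.ofSubsingleton _ _⟩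
  | a :: l, hl => by
    have hl' : ∀ x ∈ l, NullH X x := fun x hx => hl x (List.mem_cons_of_mem _ hx)
    obtain ⟨ih1, ih2⟩ := kz_homology hX l hl'
    have ha : NullH (Kz l X) a := (hl a List.mem_cons_self).kz l
    obtain ⟨H⟩ := ha
    refine ⟨fun m hm => ?_, fun n => ?_⟩
    · obtain ⟨e⟩ := cone_homology_split (a • 𝟙 (Kz l X)) H m (m + 1) rfl
      have s1 : Subsingleton ((Kz l X).homology m) := ModuleCat.subsingleton_of_isZero (ih1 m hm)
      have s2 : Subsingleton ((Kz l X).homology (m + 1)) :=
        ModuleCat.subsingleton_of_isZero (ih1 (m + 1) (by omega))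
      have : Subsingleton ((Kz (a :: l) X).homology m) := e.toEquiv.subsingleton
      exact ModuleCat.isZero_of_subsingleton _
    · rcases n with _ | n
      · obtain ⟨e⟩ := cone_homology_split (a • 𝟙 (Kz l X)) H (-((0 : ℕ) : ℤ)) 1 (by simp)
        obtain ⟨e0⟩ := ih2 0
        have s2 : Subsingleton ((Kz l X).homology 1) :=
          ModuleCat.subsingleton_of_isZero (ih1 1 (by omega))
        have e1 : ((Kz l X).homology (-((0 : ℕ) : ℤ)) × (Kz l X).homology 1) ≃ₗ[A]
            (Kz l X).homology (-((0 : ℕ) : ℤ)) :=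
          LinearEquiv.ofBijective (LinearMap.fst A _ _)
            ⟨fun p q hpq => Prod.ext hpq (Subsingleton.elim _ _), fun y => ⟨(y, 0), rfl⟩⟩
        have e2 : (Fin (l.length.choose 0) → X.homology 0) ≃ₗ[A]
            (Fin ((a :: l).length.choose 0) → X.homology 0) :=
          LinearEquiv.funCongrLeft A _ (finCongr (by simp))
        exact ⟨e.trans (e1.trans (e0.trans e2))⟩
      · obtain ⟨e⟩ := cone_homology_split (a • 𝟙 (Kz l X)) H (-((n + 1 : ℕ) : ℤ)) (-(n : ℤ))
          (by push_cast; ring)
        obtain ⟨e0⟩ := ih2 (n + 1)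
        obtain ⟨e1⟩ := ih2 n
        have hc : (a :: l).length.choose (n + 1) = l.length.choose (n + 1) + l.length.choose n := by
          simp only [List.length_cons]
          rw [Nat.choose_succ_succ, add_comm]
        have e2 : ((Fin (l.length.choose (n + 1)) → X.homology 0) ×
            (Fin (l.length.choose n) → X.homology 0)) ≃ₗ[A]
            (Fin (l.length.choose (n + 1)) ⊕ Fin (l.length.choose n) → X.homology 0) :=
          (LinearEquiv.sumArrowLequivProdArrow _ _ A _).symm
        have e3 : (Fin (l.length.choose (n + 1)) ⊕ Fin (l.length.choose n) → X.homology 0) ≃ₗ[A]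
            (Fin ((a :: l).length.choose (n + 1)) → X.homology 0) :=
          LinearEquiv.funCongrLeft A _ ((finCongr hc).trans finSumFinEquiv.symm)
        exact ⟨e.trans ((LinearEquiv.prodCongr e0 e1).trans (e2.trans e3))⟩

end Kz

section Koszul

/-- the Koszul complex of a concatenation is an iterated cone over the Koszul complex of the
second list -/
theorem koszulCx_append (N : ModuleCat.{u} A) (g : List A) : ∀ f : List A,
    CohIII.koszulCx N (f ++ g) = Kz f (CohIII.koszulCx N g)
  | [] => rfl
  | a :: f => by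
    show mappingCone (a • 𝟙 (CohIII.koszulCx N (f ++ g))) =
      mappingCone (a • 𝟙 (Kz f (CohIII.koszulCx N g)))
    rw [koszulCx_append N g f]

lemma smul_id_cone_eq_zero {X : CochainComplex (ModuleCat.{u} A) ℤ} (a x : A)
    (h : x • 𝟙 X = 0) : x • 𝟙 (mappingCone (a • 𝟙 X)) = 0 := by
  ext n : 1
  rw [HomologicalComplex.smul_f_apply, HomologicalComplex.id_f, HomologicalComplex.zero_f]
  have hX : ∀ m : ℤ, x • 𝟙 (X.X m) = 0 := by
    intro m
    have := congrArg (fun t => t.f m) h
    simpa only [HomologicalComplex.smul_f_apply, HomologicalComplex.id_f,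
      HomologicalComplex.zero_f] using this
  apply mappingCone.ext_from (a • 𝟙 X) (n + 1) n rfl
  · rw [Linear.comp_smul, Category.comp_id, comp_zero]
    have : x • (mappingCone.inl (a • 𝟙 X)).v (n + 1) n (by omega) =
        (x • 𝟙 (X.X (n + 1))) ≫ (mappingCone.inl (a • 𝟙 X)).v (n + 1) n (by omega) := by
      rw [Linear.smul_comp, Category.id_comp]
    rw [this, hX, zero_comp]
  · rw [Linear.comp_smul, Category.comp_id, comp_zero]
    have : x • (mappingCone.inr (a • 𝟙 X)).f n =
        (x • 𝟙 (X.X n)) ≫ (mappingCone.inr (a • 𝟙 X)).f n := by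
      rw [Linear.smul_comp, Category.id_comp]
    rw [this, hX, zero_comp]

/-- an element killing `N` acts as zero on the Koszul complex with coefficients in `N` -/
theorem smul_id_koszulCx_eq_zero (N : ModuleCat.{u} A) (x : A) (hx : ∀ m : N, x • m = 0) :
    ∀ l : List A, x • 𝟙 (CohIII.koszulCx N l) = 0
  | [] => by
    show x • 𝟙 ((HomologicalComplex.single (ModuleCat.{u} A) (ComplexShape.up ℤ) 0).obj N) = 0
    have h0 : x • 𝟙 N = 0 := by
      ext m
      exact hx m
    apply HomologicalComplex.from_single_hom_ext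
    rw [HomologicalComplex.smul_f_apply, HomologicalComplex.id_f, HomologicalComplex.zero_f]
    have e := HomologicalComplex.singleObjXSelf (ComplexShape.up ℤ) (0 : ℤ) N
    have : x • 𝟙 (((HomologicalComplex.single (ModuleCat.{u} A) (ComplexShape.up ℤ) 0).obj N).X 0) =
        e.hom ≫ (x • 𝟙 N) ≫ e.inv := by
      rw [Linear.smul_comp, Linear.comp_smul, Category.id_comp, e.hom_inv_id]
    rw [this, h0, zero_comp, comp_zero]
  | a :: l => smul_id_cone_eq_zero a x (smul_id_koszulCx_eq_zero N x hx l)

end Koszul

end Groth.Agent.Lib.T2H7.KosSplit
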