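-- helper7 (team 2): Koszul complexes for the charts of the blow-up of a regular sequence, part 2:
-- the chart equations are Koszul-regular and present the affine blow-up algebra, which is perfect.
import Mathlib
import Groth.Agent.Lib.T2H7BlowKos
import Groth.Agent.Lib.T2H7PerfLocal
import Groth.Agent.Lib.T2H7PerfKos
import Groth.Prelude.Def_BlowUp2

set_option autoImplicit false
universe u
open CategoryTheory CategoryTheory.Limits MonoidalCategory RingTheory.Sequence
attribute [local instance] HasDerivedCategory.standard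

namespace Groth.Agent.Lib.T2H7.BlowKos

open Groth.Agent.Lib.Helper1.Tor Groth.Agent.Lib.T2H7.PerfKos
  Groth.Agent.Lib.Helper21 CochainComplex Groth.Agent.Helper13Kz Groth.Agent.Helper13KzLift

section Restrict

variable {S T : Type u} [CommRing S] [CommRing T] (φ : S →+* T)

theorem isZero_homology_of_restrict (M : ModuleCat.{u} T) (l : List S) (i : ℤ)
    (h : IsZero ((CohIII.koszulCx ((ModuleCat.restrictScalars φ).obj M) l).homology i)) :
    IsZero ((CohIII.koszulCx M (l.map φ)).homology i) := by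
  have h1 : IsZero ((((ModuleCat.restrictScalars φ).mapHomologicalComplex (ComplexShape.up ℤ)).obj
      (CohIII.koszulCx M (l.map φ))).homology i) :=
    IsZero.of_iso h ((HomologicalComplex.homologyFunctor _ _ i).mapIso (restrictIso φ M l))
  rw [← HomologicalComplex.exactAt_iff_isZero_homology] at h1 ⊢
  exact (ShortComplex.exact_map_iff_of_faithful _ (ModuleCat.restrictScalars φ)).1 h1

end Restrict

section Chart

variable {A : Type u} [CommRing A] {n : ℕ} (a : Fin n → A) (i₀ : Fin n)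

/-- the equations of the chart -/
noncomputable def gg (k : Fin n) : MvPolynomial (Fin n) A :=
  if k = i₀ then MvPolynomial.X i₀ else MvPolynomial.C (a i₀) * MvPolynomial.X k - MvPolynomial.C (a k)

/-- specialisation of the universal ring -/
noncomputable def φ₀ : MvPolynomial (Fin n ⊕ Fin n) A →ₐ[A] MvPolynomial (Fin n) A :=
  MvPolynomial.aeval (Sum.elim (fun k => MvPolynomial.C (a k)) (fun k => MvPolynomial.X k))

theorem φ₀_xv (k : Fin n) : φ₀ a (xv A k) = MvPolynomial.C (a k) := by simp [φ₀, xv]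
theorem φ₀_tv (k : Fin n) : φ₀ a (tv A k) = MvPolynomial.X k := by simp [φ₀, tv]
theorem φ₀_GG (k : Fin n) : φ₀ a (GG A i₀ k) = gg a i₀ k := by
  unfold GG gg
  split_ifs with h
  · exact φ₀_tv a i₀
  · rw [map_sub, map_mul, φ₀_xv, φ₀_xv, φ₀_tv]

theorem map_l₁ : (l₁ A i₀).map (φ₀ a) = MvPolynomial.C (a i₀) :: List.ofFn (gg a i₀) := by
  unfold l₁
  rw [List.map_cons, List.map_ofFn, φ₀_xv]
  congr 2
  funext k
  exact φ₀_GG a i₀ k

theorem map_l₂ : (l₂ A i₀).map (φ₀ a) =
    (List.ofFn a).map (MvPolynomial.C (σ := Fin n)) ++ [MvPolynomial.X i₀] := by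
  unfold l₂
  rw [List.map_append, List.map_ofFn, List.map_ofFn, List.map_singleton, φ₀_tv]
  congr 2
  funext k
  exact φ₀_xv a k

theorem map_l₂_weaklyRegular (ha : IsWeaklyRegular A (List.ofFn a)) :
    IsWeaklyRegular (MvPolynomial (Fin n) A)
      ((List.ofFn a).map (MvPolynomial.C (σ := Fin n)) ++ [MvPolynomial.X i₀]) := by
  rw [isWeaklyRegular_append_iff]
  refine ⟨IsWeaklyRegular.of_flat ha, ?_⟩
  rw [isWeaklyRegular_singleton_iff]
  have h1 : Ideal.ofList ((List.ofFn a).map (MvPolynomial.C (σ := Fin n))) =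
      (Ideal.ofList (List.ofFn a)).map (MvPolynomial.C (σ := Fin n)) := (Ideal.map_ofList _ _).symm
  rw [h1]
  apply isSMulRegular_quot_of_forall
  intro f hf
  rw [MvPolynomial.mem_map_C_iff] at hf ⊢
  intro m
  have := hf (Finsupp.single i₀ 1 + m)
  rwa [MvPolynomial.coeff_X_mul] at this

theorem cone_acyclic (ha : IsWeaklyRegular A (List.ofFn a)) (m : ℤ) (hm : m ≠ 0) :
    IsZero ((CohIII.koszulCx (ModuleCat.of (MvPolynomial (Fin n) A) (MvPolynomial (Fin n) A))
      (MvPolynomial.C (a i₀) :: List.ofFn (gg a i₀))).homology m) := by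
  let φ : MvPolynomial (Fin n ⊕ Fin n) A →+* MvPolynomial (Fin n) A := (φ₀ a).toRingHom
  let N : ModuleCat.{u} (MvPolynomial (Fin n ⊕ Fin n) A) :=
    (ModuleCat.restrictScalars φ).obj
      (ModuleCat.of (MvPolynomial (Fin n) A) (MvPolynomial (Fin n) A))
  have hreg : IsWeaklyRegular N (l₂ A i₀) := by
    have h0 := map_l₂_weaklyRegular a i₀ ha
    rw [← map_l₂] at h0
    refine (AddEquiv.isWeaklyRegular_congr (M := N) (M₂ := MvPolynomial (Fin n) A)
      (e := AddEquiv.refl (MvPolynomial (Fin n) A)) ?_).2 h0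
    rw [List.forall₂_map_right_iff, List.forall₂_same]
    intro r _ x
    rfl
  have h2 := Groth.Agent.S2423.key (l₂ A i₀) N hreg m hm
  have k1 := (Groth.Agent.S15821.result _ _ (l₁_weaklyRegular A i₀)).1
  have k2 := (Groth.Agent.S15821.result _ _ (l₂_weaklyRegular A i₀)).1
  have h1 := (isZero_koszulCx_homology_iff _ (l₁ A i₀) (l₂ A i₀) k1 k2 (ofList_l₁_eq A i₀) N m).2 h2
  have h3 := isZero_homology_of_restrict φ
    (ModuleCat.of (MvPolynomial (Fin n) A) (MvPolynomial (Fin n) A)) (l₁ A i₀) m h1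
  have h4 : (l₁ A i₀).map φ = MvPolynomial.C (a i₀) :: List.ofFn (gg a i₀) := map_l₁ a i₀
  rw [h4] at h3
  exact h3

end Chart

section Torsion

variable {B : Type u} [CommRing B]

theorem exists_smul_eq_zero_of_isZero_tensor (S : Submonoid B) (B' : Type u) [CommRing B']
    [Algebra B B'] [IsLocalization S B'] (H : ModuleCat.{u} B)
    (h : IsZero ((tensorLeft (ModuleCat.of B B')).obj H)) (z : H) : ∃ s ∈ S, s • z = 0 := by
  have hloc : IsLocalizedModule S (TensorProduct.mk B B' H 1) :=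
    (isLocalizedModule_iff_isBaseChange S B' _).2 (TensorProduct.isBaseChange B H B')
  have hsub : Subsingleton (TensorProduct B B' H) := ModuleCat.subsingleton_of_isZero h
  have h0 : (TensorProduct.mk B B' H 1) z = 0 := Subsingleton.elim _ _
  obtain ⟨s, hs⟩ := (IsLocalizedModule.eq_zero_iff S (TensorProduct.mk B B' H 1)).1 h0
  exact ⟨s.1, s.2, hs⟩

theorem isZero_tensor_homology (M : ModuleCat.{u} B) [Module.Flat B M] (K : DRing.Cx B) (i : ℤ)
    (h : IsZero (((TC M).obj K).homology i)) : IsZero ((tensorLeft M).obj (K.homology i)) :=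
  IsZero.of_iso h ((K.sc i).mapHomologyIso (tensorLeft M)).symm

end Torsion

section Loc

variable {A : Type u} [CommRing A] {n : ℕ} (a : Fin n → A) (i₀ : Fin n)

attribute [local instance] MvPolynomial.algebraMvPolynomial

/-- the affine change of coordinates over the localization -/
noncomputable def θ₁ : MvPolynomial (Fin n) (Localization.Away (a i₀)) →ₐ[Localization.Away (a i₀)]
    MvPolynomial (Fin n) (Localization.Away (a i₀)) :=
  MvPolynomial.aeval (fun k => if k = i₀ then MvPolynomial.X i₀ else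
    MvPolynomial.C (algebraMap A _ (a i₀)) * MvPolynomial.X k - MvPolynomial.C (algebraMap A _ (a k)))

noncomputable def θ₂ : MvPolynomial (Fin n) (Localization.Away (a i₀)) →ₐ[Localization.Away (a i₀)]
    MvPolynomial (Fin n) (Localization.Away (a i₀)) :=
  MvPolynomial.aeval (fun k => if k = i₀ then MvPolynomial.X i₀ else
    MvPolynomial.C (IsLocalization.Away.invSelf (a i₀)) *
      (MvPolynomial.X k + MvPolynomial.C (algebraMap A _ (a k))))

theorem θ₁_X (k : Fin n) : θ₁ a i₀ (MvPolynomial.X k) = if k = i₀ then MvPolynomial.X i₀ else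
    MvPolynomial.C (algebraMap A _ (a i₀)) * MvPolynomial.X k - MvPolynomial.C (algebraMap A _ (a k)) := by
  simp [θ₁]

theorem θ₂_X (k : Fin n) : θ₂ a i₀ (MvPolynomial.X k) = if k = i₀ then MvPolynomial.X i₀ else
    MvPolynomial.C (IsLocalization.Away.invSelf (a i₀)) *
      (MvPolynomial.X k + MvPolynomial.C (algebraMap A _ (a k))) := by
  simp [θ₂]

theorem C_mul_inv : (MvPolynomial.C (algebraMap A (Localization.Away (a i₀)) (a i₀)) :
    MvPolynomial (Fin n) (Localization.Away (a i₀))) *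
      MvPolynomial.C (IsLocalization.Away.invSelf (a i₀)) = 1 := by
  rw [← MvPolynomial.C_mul, IsLocalization.Away.mul_invSelf, MvPolynomial.C_1]

theorem θ₁_θ₂ : (θ₁ a i₀).comp (θ₂ a i₀) = AlgHom.id _ _ := by
  apply MvPolynomial.algHom_ext
  intro k
  change θ₁ a i₀ (θ₂ a i₀ (MvPolynomial.X k)) = MvPolynomial.X k
  rw [θ₂_X]
  split_ifs with h
  · rw [θ₁_X, if_pos rfl, h]
  · rw [map_mul, map_add, θ₁_X, if_neg h]
    have h1 : θ₁ a i₀ (MvPolynomial.C (IsLocalization.Away.invSelf (a i₀))) =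
        MvPolynomial.C (IsLocalization.Away.invSelf (a i₀)) := by simp [θ₁]
    have h2 : θ₁ a i₀ (MvPolynomial.C (algebraMap A _ (a k))) =
        MvPolynomial.C (algebraMap A _ (a k)) := by simp [θ₁]
    rw [h1, h2]
    linear_combination (MvPolynomial.X k) * C_mul_inv a i₀

theorem θ₂_θ₁ : (θ₂ a i₀).comp (θ₁ a i₀) = AlgHom.id _ _ := by
  apply MvPolynomial.algHom_ext
  intro k
  change θ₂ a i₀ (θ₁ a i₀ (MvPolynomial.X k)) = MvPolynomial.X k
  rw [θ₁_X]
  split_ifs with h
  · rw [θ₂_X, if_pos rfl, h]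
  · rw [map_sub, map_mul, θ₂_X, if_neg h]
    have h1 : θ₂ a i₀ (MvPolynomial.C (algebraMap A _ (a i₀))) =
        MvPolynomial.C (algebraMap A _ (a i₀)) := by simp [θ₂]
    have h2 : θ₂ a i₀ (MvPolynomial.C (algebraMap A _ (a k))) =
        MvPolynomial.C (algebraMap A _ (a k)) := by simp [θ₂]
    rw [h1, h2]
    linear_combination (MvPolynomial.X k + MvPolynomial.C (algebraMap A _ (a k))) * C_mul_inv a i₀

noncomputable def θ₁e : MvPolynomial (Fin n) (Localization.Away (a i₀)) ≃ₐ[Localization.Away (a i₀)]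
    MvPolynomial (Fin n) (Localization.Away (a i₀)) :=
  AlgEquiv.ofAlgHom (θ₁ a i₀) (θ₂ a i₀) (θ₁_θ₂ a i₀) (θ₂_θ₁ a i₀)

theorem algebraMap_gg (k : Fin n) :
    algebraMap (MvPolynomial (Fin n) A) (MvPolynomial (Fin n) (Localization.Away (a i₀))) (gg a i₀ k) =
      θ₁ a i₀ (MvPolynomial.X k) := by
  rw [θ₁_X, MvPolynomial.algebraMap_def]
  unfold gg
  split_ifs with h
  · simp
  · simp

theorem gg_weaklyRegular_loc :
    IsWeaklyRegular (R := MvPolynomial (Fin n) A) (MvPolynomial (Fin n) (Localization.Away (a i₀)))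
      (List.ofFn (gg a i₀)) := by
  have h0 : IsWeaklyRegular (MvPolynomial (Fin n) (Localization.Away (a i₀)))
      ((List.ofFn (fun k : Fin n => k)).map (MvPolynomial.X (R := Localization.Away (a i₀)))) :=
    isWeaklyRegular_map_X _ (List.nodup_ofFn.2 (fun _ _ h => h))
  refine (AddEquiv.isWeaklyRegular_congr (e := (θ₁e a i₀).toAddEquiv) ?_).1 h0
  rw [List.map_ofFn, List.forall₂_iff_get]
  refine ⟨by simp, ?_⟩
  intro i h1 h2 x
  simp only [List.get_eq_getElem, List.getElem_ofFn, Function.comp]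
  change θ₁ a i₀ (MvPolynomial.X _ * x) = algebraMap (MvPolynomial (Fin n) A)
    (MvPolynomial (Fin n) (Localization.Away (a i₀))) (gg a i₀ _) * θ₁ a i₀ x
  rw [algebraMap_gg]
  exact map_mul (θ₁ a i₀) _ x

end Loc

section Acyclic

variable {A : Type u} [CommRing A] {n : ℕ} (a : Fin n → A) (i₀ : Fin n)

attribute [local instance] MvPolynomial.algebraMvPolynomial

/-- the Koszul complex of the chart equations -/
noncomputable abbrev Kg : CochainComplex (ModuleCat.{u} (MvPolynomial (Fin n) A)) ℤ :=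
  CohIII.koszulCx (ModuleCat.of (MvPolynomial (Fin n) A) (MvPolynomial (Fin n) A))
    (List.ofFn (gg a i₀))

theorem smul_inj (ha : IsWeaklyRegular A (List.ofFn a)) (i j : ℤ) (hij : i + 1 = j) (hi : i ≠ 0)
    (z : (Kg a i₀).homology j) (hz : (MvPolynomial.C (a i₀) : MvPolynomial (Fin n) A) • z = 0) :
    z = 0 := by
  subst hij
  obtain ⟨g, δ, h1, h2, h3⟩ := cone_les (Kg a i₀) (MvPolynomial.C (a i₀)) i
  have hsub : Subsingleton ((mappingCone ((MvPolynomial.C (a i₀) : MvPolynomial (Fin n) A) •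
      𝟙 (Kg a i₀))).homology i) :=
    ModuleCat.subsingleton_of_isZero (cone_acyclic a i₀ ha i hi)
  obtain ⟨y, hy⟩ := (h3 z).1 hz
  rw [← hy, Subsingleton.elim y 0, map_zero]

theorem smul_pow_inj (ha : IsWeaklyRegular A (List.ofFn a)) (i j : ℤ) (hij : i + 1 = j)
    (hi : i ≠ 0) (z : (Kg a i₀).homology j) (N : ℕ)
    (hz : (MvPolynomial.C (a i₀) : MvPolynomial (Fin n) A) ^ N • z = 0) : z = 0 := by
  induction N with
  | zero => simpa using hz
  | succ N ih =>
    apply ih
    apply smul_inj a i₀ ha i j hij hi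
    rw [smul_smul, ← pow_succ']
    exact hz

theorem exists_pow_smul_eq_zero (m : ℤ) (hm : m ≠ 0) (z : (Kg a i₀).homology m) :
    ∃ N : ℕ, (MvPolynomial.C (a i₀) : MvPolynomial (Fin n) A) ^ N • z = 0 := by
  have hz1 := Groth.Agent.S2423.key (List.ofFn (gg a i₀))
    (ModuleCat.of (MvPolynomial (Fin n) A) (MvPolynomial (Fin n) (Localization.Away (a i₀))))
    (gg_weaklyRegular_loc a i₀) m hm
  have hz2 : IsZero (((TC (ModuleCat.of (MvPolynomial (Fin n) A)
      (MvPolynomial (Fin n) (Localization.Away (a i₀))))).obj (Kg a i₀)).homology m) :=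
    IsZero.of_iso hz1 ((HomologicalComplex.homologyFunctor _ _ m).mapIso
      (koszulCxIsoTC (MvPolynomial (Fin n) A) _ (List.ofFn (gg a i₀)))).symm
  have hflat : Module.Flat (MvPolynomial (Fin n) A)
      (MvPolynomial (Fin n) (Localization.Away (a i₀))) :=
    IsLocalization.flat _ ((Submonoid.powers (a i₀)).map (MvPolynomial.C (σ := Fin n)))
  have hflat' : Module.Flat (MvPolynomial (Fin n) A) (ModuleCat.of (MvPolynomial (Fin n) A)
      (MvPolynomial (Fin n) (Localization.Away (a i₀)))) := hflat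
  have hz3 := isZero_tensor_homology _ (Kg a i₀) m hz2
  obtain ⟨s, hs, hsz⟩ := exists_smul_eq_zero_of_isZero_tensor
    ((Submonoid.powers (a i₀)).map (MvPolynomial.C (σ := Fin n)))
    (MvPolynomial (Fin n) (Localization.Away (a i₀))) ((Kg a i₀).homology m) hz3 z
  obtain ⟨y, ⟨N, rfl⟩, rfl⟩ := hs
  refine ⟨N, ?_⟩
  rw [← map_pow]
  exact hsz

theorem gg_acyclic (ha : IsWeaklyRegular A (List.ofFn a)) (m : ℤ) (hm : m ≠ 0) :
    IsZero ((Kg a i₀).homology m) := by
  rcases lt_or_gt_of_ne hm with h | h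
  · have : Subsingleton ((Kg a i₀).homology m) := by
      refine ⟨fun z w => ?_⟩
      have hz : ∀ z : (Kg a i₀).homology m, z = 0 := by
        intro z
        obtain ⟨N, hN⟩ := exists_pow_smul_eq_zero a i₀ m hm z
        exact smul_pow_inj a i₀ ha (m - 1) m (by omega) (by omega) z N hN
      rw [hz z, hz w]
    exact ModuleCat.isZero_of_subsingleton _
  · exact isZero_homology_of_isZero_X _ m (isZero_koszulCx_X_pos _ _ m h)

theorem gg_koszulRegular (ha : IsWeaklyRegular A (List.ofFn a)) :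
    LCI.IsKoszulRegularSeq (MvPolynomial (Fin n) A) (List.ofFn (gg a i₀)) := by
  intro m hm
  rw [Groth.Agent.S15821.isZero_congr (Groth.Agent.S15821.koszul_eq _ _)]
  exact gg_acyclic a i₀ ha m hm

theorem C_mul_mem (ha : IsWeaklyRegular A (List.ofFn a)) (f : MvPolynomial (Fin n) A)
    (hf : MvPolynomial.C (a i₀) * f ∈ Ideal.ofList (List.ofFn (gg a i₀))) :
    f ∈ Ideal.ofList (List.ofFn (gg a i₀)) := by
  obtain ⟨e⟩ := Groth.Agent.S11917.main (A := MvPolynomial (Fin n) A) (MvPolynomial (Fin n) A)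
    (List.ofFn (gg a i₀))
  have hI : (Ideal.ofList (List.ofFn (gg a i₀)) • ⊤ : Submodule (MvPolynomial (Fin n) A)
      (MvPolynomial (Fin n) A)) = Ideal.ofList (List.ofFn (gg a i₀)) := by simp
  have h1 : (MvPolynomial.C (a i₀) : MvPolynomial (Fin n) A) •
      e.symm (Submodule.Quotient.mk f) = 0 := by
    rw [← map_smul, ← Submodule.Quotient.mk_smul]
    have : (Submodule.Quotient.mk ((MvPolynomial.C (a i₀) : MvPolynomial (Fin n) A) • f) :
        MvPolynomial (Fin n) A ⧸
        (Ideal.ofList (List.ofFn (gg a i₀)) • ⊤ : Submodule (MvPolynomial (Fin n) A)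
          (MvPolynomial (Fin n) A))) = 0 := by
      rw [Submodule.Quotient.mk_eq_zero, hI]
      exact hf
    rw [this, map_zero]
  have h2 := smul_inj a i₀ ha (-1) 0 (by norm_num) (by norm_num) _ h1
  have h3 : (Submodule.Quotient.mk f : MvPolynomial (Fin n) A ⧸
      (Ideal.ofList (List.ofFn (gg a i₀)) • ⊤ : Submodule (MvPolynomial (Fin n) A)
        (MvPolynomial (Fin n) A))) = 0 := by
    have := congrArg e h2
    rwa [LinearEquiv.apply_symm_apply, map_zero] at this
  rw [Submodule.Quotient.mk_eq_zero, hI] at h3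
  exact h3

end Acyclic

section Present

variable {A : Type u} [CommRing A] {n : ℕ} (a : Fin n → A) (i₀ : Fin n)

/-- the map to the localization defining the affine blow-up algebra -/
noncomputable def ψ : MvPolynomial (Fin n) A →ₐ[A] Localization.Away (a i₀) :=
  MvPolynomial.aeval (fun k => if k = i₀ then 0 else
    IsLocalization.mk' (Localization.Away (a i₀)) (a k) ⟨a i₀, Submonoid.mem_powers _⟩)

theorem ψ_X (k : Fin n) : ψ a i₀ (MvPolynomial.X k) = if k = i₀ then 0 else
    IsLocalization.mk' (Localization.Away (a i₀)) (a k) ⟨a i₀, Submonoid.mem_powers _⟩ := by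
  simp [ψ]

theorem ψ_C (r : A) : ψ a i₀ (MvPolynomial.C r) = algebraMap A _ r := by
  simp [ψ]

theorem ψ_gg (k : Fin n) : ψ a i₀ (gg a i₀ k) = 0 := by
  unfold gg
  split_ifs with h
  · rw [ψ_X, if_pos rfl]
  · rw [map_sub, map_mul, ψ_X, if_neg h, ψ_C, ψ_C]
    rw [sub_eq_zero]
    exact IsLocalization.mk'_spec' (Localization.Away (a i₀)) (a k) ⟨a i₀, Submonoid.mem_powers _⟩

theorem gg_self : gg a i₀ i₀ = MvPolynomial.X i₀ := by
  unfold gg
  rw [if_pos rfl]

theorem gg_of_ne {k : Fin n} (h : k ≠ i₀) :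
    gg a i₀ k = MvPolynomial.C (a i₀) * MvPolynomial.X k - MvPolynomial.C (a k) := by
  unfold gg
  rw [if_neg h]

theorem gg_mem (k : Fin n) : gg a i₀ k ∈ Ideal.ofList (List.ofFn (gg a i₀)) :=
  Ideal.subset_span ((List.mem_ofFn' _ _).2 ⟨k, rfl⟩)

theorem ofList_le_ker : Ideal.ofList (List.ofFn (gg a i₀)) ≤ RingHom.ker (ψ a i₀) := by
  refine Ideal.span_le.2 ?_
  intro r hr
  change r ∈ List.ofFn (gg a i₀) at hr
  rw [List.mem_ofFn'] at hr
  obtain ⟨k, rfl⟩ := hr
  exact ψ_gg a i₀ k

theorem exists_pow_mul_sub_C_mem (h : MvPolynomial (Fin n) A) :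
    ∃ (d : ℕ) (r : A), MvPolynomial.C (a i₀ ^ d) * h - MvPolynomial.C r ∈
      Ideal.ofList (List.ofFn (gg a i₀)) := by
  induction h using MvPolynomial.induction_on with
  | C r => exact ⟨0, r, by simp⟩
  | add p q hp hq =>
    obtain ⟨d₁, r₁, h₁⟩ := hp
    obtain ⟨d₂, r₂, h₂⟩ := hq
    refine ⟨d₁ + d₂, a i₀ ^ d₂ * r₁ + a i₀ ^ d₁ * r₂, ?_⟩
    have : MvPolynomial.C (a i₀ ^ (d₁ + d₂)) * (p + q) -
        MvPolynomial.C (a i₀ ^ d₂ * r₁ + a i₀ ^ d₁ * r₂) =
        MvPolynomial.C (a i₀ ^ d₂) * (MvPolynomial.C (a i₀ ^ d₁) * p - MvPolynomial.C r₁) +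
        MvPolynomial.C (a i₀ ^ d₁) * (MvPolynomial.C (a i₀ ^ d₂) * q - MvPolynomial.C r₂) := by
      simp only [map_add, map_mul, map_pow, pow_add]
      ring
    rw [this]
    exact add_mem (Ideal.mul_mem_left _ _ h₁) (Ideal.mul_mem_left _ _ h₂)
  | mul_X p k hp =>
    obtain ⟨d, r, h₁⟩ := hp
    by_cases hk : k = i₀
    · refine ⟨0, 0, ?_⟩
      have h2 := gg_mem a i₀ i₀
      rw [gg_self] at h2
      rw [hk]
      simpa using Ideal.mul_mem_left _ p h2
    · refine ⟨d + 1, r * a k, ?_⟩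
      have h2 := gg_mem a i₀ k
      rw [gg_of_ne a i₀ hk] at h2
      have : MvPolynomial.C (a i₀ ^ (d + 1)) * (p * MvPolynomial.X k) - MvPolynomial.C (r * a k) =
          (MvPolynomial.C (a i₀) * MvPolynomial.X k) *
            (MvPolynomial.C (a i₀ ^ d) * p - MvPolynomial.C r) +
          MvPolynomial.C r * (MvPolynomial.C (a i₀) * MvPolynomial.X k - MvPolynomial.C (a k)) := by
        simp only [map_mul, map_pow, pow_succ]
        ring
      rw [this]
      exact add_mem (Ideal.mul_mem_left _ _ h₁) (Ideal.mul_mem_left _ _ h2)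

theorem pow_mul_mem (ha : IsWeaklyRegular A (List.ofFn a)) (N : ℕ) (f : MvPolynomial (Fin n) A)
    (hf : MvPolynomial.C (a i₀ ^ N) * f ∈ Ideal.ofList (List.ofFn (gg a i₀))) :
    f ∈ Ideal.ofList (List.ofFn (gg a i₀)) := by
  induction N with
  | zero => simpa using hf
  | succ N ih =>
    apply ih
    apply C_mul_mem a i₀ ha
    rw [← mul_assoc, ← MvPolynomial.C_mul, ← pow_succ']
    exact hf

theorem ψ_ker (ha : IsWeaklyRegular A (List.ofFn a)) :
    RingHom.ker (ψ a i₀) = Ideal.ofList (List.ofFn (gg a i₀)) := by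
  apply le_antisymm _ (ofList_le_ker a i₀)
  intro h hh
  rw [RingHom.mem_ker] at hh
  obtain ⟨d, r, hdr⟩ := exists_pow_mul_sub_C_mem a i₀ h
  have h1 := ofList_le_ker a i₀ hdr
  rw [RingHom.mem_ker, map_sub, map_mul, hh, mul_zero, zero_sub, neg_eq_zero, ψ_C] at h1
  obtain ⟨⟨_, e, rfl⟩, he⟩ := (IsLocalization.map_eq_zero_iff (Submonoid.powers (a i₀))
    (Localization.Away (a i₀)) r).1 h1
  simp only at he
  apply pow_mul_mem a i₀ ha (e + d)
  have : MvPolynomial.C (a i₀ ^ (e + d)) * h =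
      MvPolynomial.C (a i₀ ^ e) * (MvPolynomial.C (a i₀ ^ d) * h - MvPolynomial.C r) +
        MvPolynomial.C (a i₀ ^ e * r) := by
    simp only [map_mul, map_pow, pow_add]
    ring
  rw [this, he, map_zero, add_zero]
  exact Ideal.mul_mem_left _ _ hdr

theorem ψ_range : (ψ a i₀).range =
    BlowUp.affineAlgebra A (Ideal.ofList (List.ofFn a)) (a i₀) := by
  unfold ψ BlowUp.affineAlgebra
  rw [← Algebra.adjoin_range_eq_range_aeval]
  apply le_antisymm
  · refine Algebra.adjoin_le ?_
    rintro _ ⟨k, rfl⟩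
    simp only
    split_ifs with h
    · exact zero_mem _
    · exact Algebra.subset_adjoin ⟨a k, Ideal.subset_span ((List.mem_ofFn' _ _).2 ⟨k, rfl⟩), rfl⟩
  · refine Algebra.adjoin_le ?_
    rintro _ ⟨x, hx, rfl⟩
    set T := Algebra.adjoin A (Set.range fun k => if k = i₀ then (0 : Localization.Away (a i₀)) else
      IsLocalization.mk' (Localization.Away (a i₀)) (a k) ⟨a i₀, Submonoid.mem_powers _⟩) with hT
    let L : A →ₗ[A] Localization.Away (a i₀) := LinearMap.toSpanSingleton A _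
      (IsLocalization.mk' (Localization.Away (a i₀)) (1 : A) ⟨a i₀, Submonoid.mem_powers _⟩)
    have hL : ∀ y : A, L y = IsLocalization.mk' (Localization.Away (a i₀)) y
        ⟨a i₀, Submonoid.mem_powers _⟩ := by
      intro y
      simp only [L, LinearMap.toSpanSingleton_apply]
      rw [Algebra.smul_def, ← IsLocalization.mk'_eq_mul_mk'_one]
    have hle : Ideal.ofList (List.ofFn a) ≤ (Subalgebra.toSubmodule T).comap L := by
      refine Ideal.span_le.2 ?_
      intro y hy
      change y ∈ List.ofFn a at hy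
      rw [List.mem_ofFn'] at hy
      obtain ⟨k, rfl⟩ := hy
      change L (a k) ∈ T
      rw [hL]
      by_cases hk : k = i₀
      · rw [hk, IsLocalization.mk'_self]
        exact one_mem _
      · refine Algebra.subset_adjoin ⟨k, ?_⟩
        simp only
        rw [if_neg hk]
    have := hle hx
    change L x ∈ T at this
    rw [hL] at this
    exact this

end Present

section Final

open Groth.Agent.Lib.T2H7.PerfLocal

variable {A : Type u} [CommRing A]

theorem qperf_affineAlgebra_fn {n : ℕ} (a : Fin n → A) (i₀ : Fin n)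
    (ha : IsWeaklyRegular A (List.ofFn a)) :
    Qperf (algebraMap A (BlowUp.affineAlgebra A (Ideal.ofList (List.ofFn a)) (a i₀))) := by
  set T := BlowUp.affineAlgebra A (Ideal.ofList (List.ofFn a)) (a i₀) with hT
  have hmem : ∀ x, ψ a i₀ x ∈ T := by
    intro x
    rw [hT, ← ψ_range]
    exact ⟨x, rfl⟩
  let ψ' : MvPolynomial (Fin n) A →ₐ[A] T := (ψ a i₀).codRestrict T hmem
  have hsurj : Function.Surjective ψ'.toRingHom := by
    rintro ⟨y, hy⟩
    rw [hT, ← ψ_range] at hy
    obtain ⟨x, hx⟩ := hy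
    exact ⟨x, Subtype.ext hx⟩
  have hker : RingHom.ker ψ'.toRingHom = Ideal.span {x | x ∈ List.ofFn (gg a i₀)} := by
    have h1 : RingHom.ker ψ'.toRingHom = RingHom.ker (ψ a i₀) := by
      ext x
      rw [RingHom.mem_ker, RingHom.mem_ker]
      constructor
      · intro h
        exact congrArg Subtype.val h
      · intro h
        exact Subtype.ext h
    rw [h1, ψ_ker a i₀ ha]
  have h2 : Qperf ψ'.toRingHom :=
    qperf_of_surjective_of_ker_koszul ψ'.toRingHom hsurj _ (gg_koszulRegular a i₀ ha) hker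
  have h3 : Qperf (algebraMap A (MvPolynomial (Fin n) A)) := qperf_of_flat_fp A _
  have h4 := qperf_comp _ _ h3 h2
  have h5 : ψ'.toRingHom.comp (algebraMap A (MvPolynomial (Fin n) A)) = algebraMap A T :=
    ψ'.comp_algebraMap
  rw [h5] at h4
  exact h4

/-- the affine blow-up algebra of a weakly regular sequence in one of its members is perfect -/
theorem qperf_affineAlgebra (rs : List A) (h : IsWeaklyRegular A rs) (c : A) (hc : c ∈ rs) :
    Qperf (algebraMap A (BlowUp.affineAlgebra A (Ideal.ofList rs) c)) := by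
  obtain ⟨i, hi, rfl⟩ := List.mem_iff_getElem.1 hc
  have h0 : List.ofFn (fun k : Fin rs.length => rs[k]) = rs := List.ofFn_getElem
  have h1 := qperf_affineAlgebra_fn (fun k : Fin rs.length => rs[k]) ⟨i, hi⟩ (by rw [h0]; exact h)
  rw [h0] at h1
  exact h1

end Final

end Groth.Agent.Lib.T2H7.BlowKos
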