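import Mathlib
import Groth.Prelude
import Groth.Agent.Lib.Helper5FiberRing
import Groth.Agent.Lib.Helper28ProjNormal
import Groth.Agent.Lib.Helper28ComplAss
import Groth.Agent.Lib.Helper5RLR3

/-!
# Complete intersections are Cohen–Macaulay (T2H9)

* `isCohenMacaulayLocalRing_quotient_ofList`: a Cohen–Macaulay local ring modulo a regular sequence
  in the maximal ideal is Cohen–Macaulay.
* `isCohenMacaulayLocalRing_iff_adicCompletion`: `A` is Cohen–Macaulay iff its completion is.
* `isCohenMacaulayLocalRing_of_isCI`: a Noetherian local complete intersection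
  (`Pi1.IsCompleteIntersection`) is Cohen–Macaulay.
-/

set_option autoImplicit false
set_option linter.unusedSectionVars false
set_option linter.style.haveILetI false
universe u

namespace Groth.Agent.Lib.T2H9.CICM

open IsLocalRing RingTheory.Sequence Groth.Agent.Lib.Helper5 Groth.Agent.Lib.Helper28

/-- a Cohen–Macaulay local ring modulo a regular sequence in the maximal ideal is Cohen–Macaulay -/
theorem isCohenMacaulayLocalRing_quotient_ofList (B : Type u) [CommRing B]
    [hB : LocCoh.IsCohenMacaulayLocalRing B] (rs : List B)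
    (hmem : ∀ r ∈ rs, r ∈ maximalIdeal B) (hreg : IsRegular B rs) :
    LocCoh.IsCohenMacaulayLocalRing (B ⧸ Ideal.ofList rs) := by
  have hne : Ideal.ofList rs ≠ ⊤ := by
    intro htop
    have hle : Ideal.ofList rs ≤ maximalIdeal B := Ideal.span_le.mpr fun r hr => hmem r hr
    rw [htop] at hle
    exact (maximalIdeal.isMaximal B).ne_top (top_le_iff.mp hle)
  haveI hloc : IsLocalRing (B ⧸ Ideal.ofList rs) := Groth.Agent.Lib.Helper5.isLocalRing_quotient hne
  have hM : LocCoh.IsCohenMacaulayModule B B := hB.supportDim_eq_depth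
  have hCM := isCohenMacaulayModule_quot_ofList hM rs hmem hreg.toIsWeaklyRegular
  have eL : (B ⧸ (Ideal.ofList rs • ⊤ : Submodule B B)) ≃ₗ[B] (B ⧸ Ideal.ofList rs) :=
    Submodule.quotEquivOfEq _ _ (by rw [smul_eq_mul, Ideal.mul_top])
  unfold LocCoh.IsCohenMacaulayModule at hCM
  rw [Module.supportDim_eq_of_equiv eL, Module.supportDim_quotient_eq_ringKrullDim] at hCM
  have hdepth : LocCoh.depth B (B ⧸ (Ideal.ofList rs • ⊤ : Submodule B B)) =
      LocCoh.depth (B ⧸ Ideal.ofList rs) (B ⧸ Ideal.ofList rs) := by
    rw [depth_quotient_self_eq]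
    exact idealDepth_congr eL _
  rw [hdepth] at hCM
  exact { supportDim_eq_depth := by rw [Module.supportDim_self_eq_ringKrullDim]; exact hCM }

section Completion

variable (A : Type u) [CommRing A] [IsLocalRing A] [IsNoetherianRing A]

/-- a Noetherian local ring is Cohen–Macaulay iff its completion is -/
theorem isCohenMacaulayLocalRing_iff_adicCompletion :
    LocCoh.IsCohenMacaulayLocalRing (AdicCompletion (maximalIdeal A) A) ↔
      LocCoh.IsCohenMacaulayLocalRing A := by
  haveI hloc := isLocalHom_algebraMap_adicCompletion A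
  haveI hN : IsNoetherianRing (AdicCompletion (maximalIdeal A) A) := inferInstance
  haveI hfl : Module.Flat A (AdicCompletion (maximalIdeal A) A) := inferInstance
  have hP : maximalIdeal (AdicCompletion (maximalIdeal A) A) =
      (maximalIdeal A).map (algebraMap A (AdicCompletion (maximalIdeal A) A)) :=
    AdicCompletion.maximalIdeal_eq_map
  -- the closed fibre is the residue field
  set J := (maximalIdeal A).map (algebraMap A (AdicCompletion (maximalIdeal A) A)) with hJ
  haveI hmax : J.IsMaximal := by rw [← hP]; infer_instance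
  letI : Field (AdicCompletion (maximalIdeal A) A ⧸ J) := Ideal.Quotient.field J
  haveI hlocF : IsLocalRing (AdicCompletion (maximalIdeal A) A ⧸ J) := inferInstance
  have hF : LocCoh.IsCohenMacaulayLocalRing (AdicCompletion (maximalIdeal A) A ⧸ J) := by
    haveI : IsRegularLocalRing (AdicCompletion (maximalIdeal A) A ⧸ J) := inferInstance
    exact isCohenMacaulayLocalRing_of_isRegularLocalRing _
  have key := Groth.Agent.Lib.Helper5.FiberRing.cm_main A (AdicCompletion (maximalIdeal A) A)
    (AdicCompletion (maximalIdeal A) A ⧸ J) (Ideal.Quotient.mk J) Ideal.Quotient.mk_surjective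
    Ideal.mk_ker
  rw [key]
  exact ⟨fun h => h.1, fun h => ⟨h, hF⟩⟩

/-- a Noetherian local complete intersection is Cohen–Macaulay -/
theorem isCohenMacaulayLocalRing_of_isCI (h : Pi1.IsCompleteIntersection A) :
    LocCoh.IsCohenMacaulayLocalRing A := by
  obtain ⟨B, _, hB, rs, hmem, hreg, ⟨e⟩⟩ := h
  haveI hBCM : LocCoh.IsCohenMacaulayLocalRing B := isCohenMacaulayLocalRing_of_isRegularLocalRing B
  haveI hQ : LocCoh.IsCohenMacaulayLocalRing (B ⧸ Ideal.ofList rs) :=
    isCohenMacaulayLocalRing_quotient_ofList B rs hmem hreg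
  change AdicCompletion (maximalIdeal A) A ≃+* B ⧸ Ideal.ofList rs at e
  rw [← isCohenMacaulayLocalRing_iff_adicCompletion]
  exact isCohenMacaulayLocalRing_of_ringEquiv e.symm

end Completion

end Groth.Agent.Lib.T2H9.CICM
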