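-- helper7 (team 2): Koszul-regular sequences in Noetherian local rings are regular; quotients of
-- Cohen–Macaulay rings by Koszul-regular sequences are Cohen–Macaulay; the affine blow-up algebra of
-- a regular sequence in a Cohen–Macaulay ring is Cohen–Macaulay.
import Mathlib
import Groth.Agent.Lib.T2H7BlowChart
import Groth.Agent.S14425
import Groth.Agent.S14426
import Groth.Agent.Lib.T2H9CICM
import Groth.Agent.Lib.Helper28Hypersurface
import Groth.Agent.Lib.Helper28PolyCM

set_option autoImplicit false
universe u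
open CategoryTheory CategoryTheory.Limits MonoidalCategory RingTheory.Sequence
attribute [local instance] HasDerivedCategory.standard

namespace Groth.Agent.Lib.T2H7.BlowCM

open Groth.Agent.Lib.Helper1.Tor Groth.Agent.Lib.T2H7.PerfKos Groth.Agent.Lib.T2H7.BlowKos
  Groth.Agent.Lib.Helper21 CochainComplex Groth.Agent.Helper13Kz Groth.Agent.Helper13KzLift

section Flat

variable {A : Type u} [CommRing A]

/-- Koszul homology of a Koszul-regular sequence with flat coefficients vanishes off degree 0 -/
theorem isZero_koszulCx_homology_of_flat (l : List A) (h : LCI.IsKoszulRegularSeq A l)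
    (X : ModuleCat.{u} A) [Module.Flat A X] (i : ℤ) (hi : i ≠ 0) :
    IsZero ((CohIII.koszulCx X l).homology i) := by
  have h0 : IsZero ((CohIII.koszulCx (ModuleCat.of A A) l).homology i) :=
    (Groth.Agent.S15821.isZero_congr (Groth.Agent.S15821.koszul_eq A l) i).1 (h i hi)
  have h1 : IsZero ((tensorLeft X).obj ((CohIII.koszulCx (ModuleCat.of A A) l).homology i)) :=
    Functor.map_isZero _ h0
  have h2 : IsZero (((TC X).obj (CohIII.koszulCx (ModuleCat.of A A) l)).homology i) :=
    IsZero.of_iso h1 (((CohIII.koszulCx (ModuleCat.of A A) l).sc i).mapHomologyIso (tensorLeft X))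
  exact IsZero.of_iso h2
    ((HomologicalComplex.homologyFunctor _ _ i).mapIso (koszulCxIsoTC A X l))

end Flat

section Local

variable {B R : Type u} [CommRing B] [CommRing R] [Algebra B R] [Module.Flat B R]
  [IsNoetherianRing R] [IsLocalRing R]

/-- a Koszul-regular sequence mapping into the maximal ideal of a flat Noetherian local algebra
becomes a regular sequence there -/
theorem isWeaklyRegular_map_of_koszulRegular (l : List B) (h : LCI.IsKoszulRegularSeq B l)
    (hmem : ∀ x ∈ l, algebraMap B R x ∈ IsLocalRing.maximalIdeal R) :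
    IsWeaklyRegular R (l.map (algebraMap B R)) := by
  set ys := l.map (algebraMap B R) with hys
  have hmem' : ∀ y ∈ ys, y ∈ IsLocalRing.maximalIdeal R := by
    intro y hy
    obtain ⟨x, hx, rfl⟩ := List.mem_map.1 hy
    exact hmem x hx
  -- the restricted module is flat
  let X : ModuleCat.{u} B := (ModuleCat.restrictScalars (algebraMap B R)).obj (ModuleCat.of R R)
  let eX : X ≃ₗ[B] R :=
    { toFun := fun x => x
      invFun := fun x => x
      map_add' := fun _ _ => rfl
      map_smul' := fun b x => by
        show algebraMap B R b * (id x : R) = b • (id x : R)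
        rw [Algebra.smul_def]
      left_inv := fun _ => rfl
      right_inv := fun _ => rfl }
  have hflat : Module.Flat B X := Module.Flat.of_linearEquiv eX
  have hV : ∀ i : ℤ, i ≠ 0 → Groth.Agent.S14426.V ys R i := by
    intro i hi
    exact isZero_homology_of_restrict (algebraMap B R) (ModuleCat.of R R) l i
      (isZero_koszulCx_homology_of_flat l h X i hi)
  have hI : Ideal.span {x | x ∈ ys} ≤ IsLocalRing.maximalIdeal R := Ideal.span_le.mpr hmem'
  have hIM : (Ideal.span {x | x ∈ ys}) • (⊤ : Submodule R R) ≠ ⊤ :=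
    (Submodule.top_ne_ideal_smul_of_le_jacobson_annihilator
      (hI.trans (IsLocalRing.maximalIdeal_le_jacobson _))).symm
  have hne := Groth.Agent.Lib.Helper28.idealDepth_ne_top (I := Ideal.span {x | x ∈ ys}) (M := R) hIM
  obtain ⟨r, hr⟩ := ENat.ne_top_iff_exists.mp hne
  obtain ⟨-, h2⟩ := Groth.Agent.S14426.main ys r R hIM hr.symm
  have hr0 : (r : ℤ) - ys.length = 0 := by
    by_contra hne0
    exact h2 (hV _ hne0)
  have hrl : r = ys.length := by omega
  refine (Groth.Agent.S14425.result (M := R) ys hmem').1 ?_
  rw [← hr, hrl]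

end Local

section CMQuot

variable {A : Type u} [CommRing A] [hA : LocCoh.IsCohenMacaulayRing A]

/-- the quotient of a Cohen–Macaulay ring by a Koszul-regular sequence is Cohen–Macaulay -/
theorem isCohenMacaulayRing_quotient_of_koszulRegular (l : List A)
    (h : LCI.IsKoszulRegularSeq A l) : LocCoh.IsCohenMacaulayRing (A ⧸ Ideal.ofList l) := by
  have hN : IsNoetherianRing A := inferInstance
  refine { isCohenMacaulayLocalRing_localization := fun Q hQ => ?_ }
  have hq : (Q.comap (Ideal.Quotient.mk (Ideal.ofList l))).IsPrime := Ideal.comap_isPrime _ _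
  set q := Q.comap (Ideal.Quotient.mk (Ideal.ofList l)) with hqdef
  have hIq : Ideal.ofList l ≤ q := by
    intro x hx
    rw [hqdef, Ideal.mem_comap, Ideal.Quotient.eq_zero_iff_mem.mpr hx]
    exact Q.zero_mem
  have hR := hA.isCohenMacaulayLocalRing_localization q
  have hmem : ∀ x ∈ l, algebraMap A (Localization.AtPrime q) x ∈
      IsLocalRing.maximalIdeal (Localization.AtPrime q) := by
    intro x hx
    rw [← Localization.AtPrime.map_eq_maximalIdeal]
    exact Ideal.mem_map_of_mem _ (hIq (Ideal.subset_span hx))
  have hw := isWeaklyRegular_map_of_koszulRegular (R := Localization.AtPrime q) l h hmem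
  set ys := l.map (algebraMap A (Localization.AtPrime q)) with hys
  have hmem' : ∀ y ∈ ys, y ∈ IsLocalRing.maximalIdeal (Localization.AtPrime q) := by
    intro y hy
    obtain ⟨x, hx, rfl⟩ := List.mem_map.1 hy
    exact hmem x hx
  have hI : Ideal.ofList ys ≤ IsLocalRing.maximalIdeal (Localization.AtPrime q) :=
    Ideal.span_le.mpr hmem'
  have htop : (⊤ : Submodule (Localization.AtPrime q) (Localization.AtPrime q)) ≠
      Ideal.ofList ys • ⊤ :=
    Submodule.top_ne_ideal_smul_of_le_jacobson_annihilator
      (hI.trans (IsLocalRing.maximalIdeal_le_jacobson _))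
  have hreg : IsRegular (Localization.AtPrime q) ys := ⟨hw, htop⟩
  have hCM := Groth.Agent.Lib.T2H9.CICM.isCohenMacaulayLocalRing_quotient_ofList
    (Localization.AtPrime q) ys hmem' hreg
  have hmap : (Ideal.ofList l).map (algebraMap A (Localization.AtPrime q)) = Ideal.ofList ys := by
    rw [hys, Ideal.map_ofList]
  let e := Groth.Agent.Lib.Helper28.localizationQuotientEquiv (Ideal.ofList l) Q
  rw [← hmap] at hCM
  exact Groth.Agent.Lib.Helper28.isCohenMacaulayLocalRing_of_ringEquiv e.symm

end CMQuot

section Present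

variable {A : Type u} [CommRing A]

/-- the presentation of the affine blow-up algebra of a regular sequence as a ring isomorphism -/
theorem nonempty_ringEquiv_affineAlgebra_fn {n : ℕ} (a : Fin n → A) (i₀ : Fin n)
    (ha : IsWeaklyRegular A (List.ofFn a)) :
    Nonempty ((MvPolynomial (Fin n) A ⧸ Ideal.ofList (List.ofFn (gg a i₀))) ≃+*
      BlowUp.affineAlgebra A (Ideal.ofList (List.ofFn a)) (a i₀)) := by
  set T := BlowUp.affineAlgebra A (Ideal.ofList (List.ofFn a)) (a i₀) with hT
  have hmem : ∀ x, ψ a i₀ x ∈ T := by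
    intro x
    rw [hT, ← ψ_range]
    exact ⟨x, rfl⟩
  let ψ' : MvPolynomial (Fin n) A →ₐ[A] T := (ψ a i₀).codRestrict T hmem
  have hsurj : Function.Surjective ψ'.toRingHom := by
    rintro ⟨y, hy⟩
    rw [hT, ← ψ_range] at hy
    obtain ⟨x, hx⟩ := hy
    exact ⟨x, Subtype.ext hx⟩
  have hker : RingHom.ker ψ'.toRingHom = Ideal.ofList (List.ofFn (gg a i₀)) := by
    have h1 : RingHom.ker ψ'.toRingHom = RingHom.ker (ψ a i₀) := by
      ext x
      rw [RingHom.mem_ker, RingHom.mem_ker]
      constructor
      · intro h
        exact congrArg Subtype.val h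
      · intro h
        exact Subtype.ext h
    rw [h1, ψ_ker a i₀ ha]
  exact ⟨(Ideal.quotEquivOfEq hker.symm).trans (RingHom.quotientKerEquivOfSurjective hsurj)⟩

/-- the affine blow-up algebra of a regular sequence of a Cohen–Macaulay ring in one of its
members is Cohen–Macaulay -/
theorem isCohenMacaulayRing_affineAlgebra [hA : LocCoh.IsCohenMacaulayRing A] (rs : List A)
    (h : IsWeaklyRegular A rs) (c : A) (hc : c ∈ rs) :
    LocCoh.IsCohenMacaulayRing (BlowUp.affineAlgebra A (Ideal.ofList rs) c) := by
  obtain ⟨i, hi, rfl⟩ := List.mem_iff_getElem.1 hc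
  have h0 : List.ofFn (fun k : Fin rs.length => rs[k]) = rs := List.ofFn_getElem
  obtain ⟨e⟩ := nonempty_ringEquiv_affineAlgebra_fn (fun k : Fin rs.length => rs[k]) ⟨i, hi⟩
    (by rw [h0]; exact h)
  rw [h0] at e
  have hP := Groth.Agent.Lib.Helper28.isCohenMacaulayRing_mvPolynomial_fin (R := A) rs.length
  have hQ := isCohenMacaulayRing_quotient_of_koszulRegular (A := MvPolynomial (Fin rs.length) A)
    _ (gg_koszulRegular (fun k : Fin rs.length => rs[k]) ⟨i, hi⟩ (by rw [h0]; exact h))
  exact Groth.Agent.Lib.Helper28.isCohenMacaulayRing_of_ringEquiv e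

end Present

end Groth.Agent.Lib.T2H7.BlowCM
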