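import Groth.Agent.Lib.T2H9KoszulComp

/-!
# Koszul-regular sequences (iterated cone model) are `H_1`-regular (T2 helper9)

* `pfst`, `psnd`, `qinl`, `qinr`, `pfst_d`, `psnd_d`: elementwise description of mapping cones of complexes of modules.
* `HasLow`: a description of the degrees `0, -1, -2` of a complex looking like the Koszul complex.
* `hasLow_koszulCx`, `isH1Regular_of_isKoszulRegularSeq`, `isKoszulRegularSeq_of_isWeaklyRegular`.
-/

set_option autoImplicit false
set_option linter.style.haveILetI false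
set_option linter.unusedSectionVars false
universe u
open CategoryTheory CochainComplex HomComplex Limits CohIII

namespace Groth.Agent.Lib.T2H9.KoszulH1

variable {A : Type u} [CommRing A]

section Cone

variable {K L : CochainComplex (ModuleCat.{u} A) ℤ} (φ : K ⟶ L)

noncomputable def pfst (i j : ℤ) (hij : i + 1 = j) : (mappingCone φ).X i →ₗ[A] K.X j :=
  ((mappingCone.fst φ).1.v i j hij).hom

noncomputable def psnd (i : ℤ) : (mappingCone φ).X i →ₗ[A] L.X i :=
  ((mappingCone.snd φ).v i i (add_zero i)).hom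

noncomputable def qinl (i j : ℤ) (hij : i + 1 = j) : K.X j →ₗ[A] (mappingCone φ).X i :=
  ((mappingCone.inl φ).v j i (by omega)).hom

noncomputable def qinr (i : ℤ) : L.X i →ₗ[A] (mappingCone φ).X i :=
  ((mappingCone.inr φ).f i).hom

lemma pfst_qinl (i j : ℤ) (hij : i + 1 = j) (u : K.X j) : pfst φ i j hij (qinl φ i j hij u) = u := by
  have := mappingCone.inl_v_fst_v φ j i (by omega)
  exact congr($(this).hom u)

lemma pfst_qinr (i j : ℤ) (hij : i + 1 = j) (v : L.X i) : pfst φ i j hij (qinr φ i v) = 0 := by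
  have := mappingCone.inr_f_fst_v φ i j hij
  exact congr($(this).hom v)

lemma psnd_qinl (i j : ℤ) (hij : i + 1 = j) (u : K.X j) : psnd φ i (qinl φ i j hij u) = 0 := by
  have := mappingCone.inl_v_snd_v φ j i (by omega)
  exact congr($(this).hom u)

lemma psnd_qinr (i : ℤ) (v : L.X i) : psnd φ i (qinr φ i v) = v := by
  have := mappingCone.inr_f_snd_v φ i
  exact congr($(this).hom v)

lemma decomp (i j : ℤ) (hij : i + 1 = j) (x : (mappingCone φ).X i) :
    x = qinl φ i j hij (pfst φ i j hij x) + qinr φ i (psnd φ i x) := by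
  have := mappingCone.id_X φ i j hij
  exact congr($(this).hom x).symm

lemma pfst_d (i j k : ℤ) (hij : i + 1 = j) (hjk : j + 1 = k) (x : (mappingCone φ).X i) :
    pfst φ j k hjk (((mappingCone φ).d i j).hom x) = - (K.d j k).hom (pfst φ i j hij x) := by
  have := mappingCone.d_fst_v φ i j k hij hjk
  exact congr($(this).hom x)

lemma psnd_d (i j : ℤ) (hij : i + 1 = j) (x : (mappingCone φ).X i) :
    psnd φ j (((mappingCone φ).d i j).hom x) =
      (φ.f j).hom (pfst φ i j hij x) + (L.d i j).hom (psnd φ i x) := by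
  have := mappingCone.d_snd_v φ i j hij
  exact congr($(this).hom x)

end Cone

/-- the span of the trivial relations -/
def trivSpan {c : ℕ} (f : Fin c → A) : Submodule A (Fin c → A) :=
  Submodule.span A {v : Fin c → A | ∃ i j : Fin c, v = Pi.single i (f j) - Pi.single j (f i)}

/-- low degree description of a complex looking like the Koszul complex of `l` -/
def HasLow (K : CochainComplex (ModuleCat.{u} A) ℤ) (l : List A) : Prop :=
  ∃ (p0 : K.X 0 →ₗ[A] A) (p1 : K.X (-1) →ₗ[A] (Fin l.length → A)),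
    Function.Bijective p0 ∧ Function.Surjective p1 ∧
    (∀ x : K.X (-1), p0 ((K.d (-1) 0).hom x) = ∑ i, p1 x i * l.get i) ∧
    (∀ y : K.X (-2), p1 ((K.d (-2) (-1)).hom y) ∈ trivSpan l.get)

theorem hasLow_nil : HasLow (koszulCx (ModuleCat.of A A) []) ([] : List A) := by
  have hz : ∀ i : ℤ, i ≠ 0 → Subsingleton ((koszulCx (ModuleCat.of A A) ([] : List A)).X i) := by
    intro i hi
    exact ModuleCat.subsingleton_of_isZero
      (HomologicalComplex.isZero_single_obj_X (ComplexShape.up ℤ) 0 (ModuleCat.of A A) i hi)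
  haveI := hz (-1) (by norm_num)
  refine ⟨(HomologicalComplex.singleObjXSelf (ComplexShape.up ℤ) 0 (ModuleCat.of A A)).hom.hom, 0,
    ?_, ?_, ?_, ?_⟩
  · exact (HomologicalComplex.singleObjXSelf (ComplexShape.up ℤ) 0
      (ModuleCat.of A A)).toLinearEquiv.bijective
  · intro a
    refine ⟨0, ?_⟩
    funext i
    exact i.elim0
  · intro x
    rw [Subsingleton.elim x 0]
    simp
  · intro y
    rw [LinearMap.zero_apply]
    exact Submodule.zero_mem _

lemma smul_id_f_hom (K : CochainComplex (ModuleCat.{u} A) ℤ) (f : A) (j : ℤ) (u : K.X j) :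
    ((f • 𝟙 K).f j).hom u = f • u := by
  rfl

/-- `t ↦ (0, t)` as a linear map -/
def consZero {A : Type u} [CommRing A] (c : ℕ) : (Fin c → A) →ₗ[A] (Fin (c + 1) → A) :=
  LinearMap.pi (Fin.cons (0 : (Fin c → A) →ₗ[A] A) (fun i => LinearMap.proj i))

lemma consZero_zero (c : ℕ) (t : Fin c → A) : consZero c t 0 = 0 := rfl

lemma consZero_succ (c : ℕ) (t : Fin c → A) (i : Fin c) : consZero c t i.succ = t i := rfl

lemma consZero_single (c : ℕ) (i : Fin c) (a : A) :
    consZero c (Pi.single i a) = Pi.single i.succ a := by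
  funext k
  refine Fin.cases ?_ (fun j => ?_) k
  · rw [consZero_zero, Pi.single_eq_of_ne (Fin.succ_ne_zero i).symm]
  · rw [consZero_succ]
    by_cases h : j = i
    · subst h
      rw [Pi.single_eq_same, Pi.single_eq_same]
    · rw [Pi.single_eq_of_ne h, Pi.single_eq_of_ne (fun h' => h (Fin.succ_injective _ h'))]

lemma cons_mem_trivSpan {c : ℕ} (g : Fin c → A) (f : A) (t : Fin c → A) (ht : t ∈ trivSpan g) :
    consZero c t ∈ trivSpan (Fin.cons f g : Fin (c + 1) → A) := by
  have hle : trivSpan g ≤ (trivSpan (Fin.cons f g : Fin (c + 1) → A)).comap (consZero c) := by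
    apply Submodule.span_le.mpr
    rintro v ⟨i, j, rfl⟩
    rw [SetLike.mem_coe, Submodule.mem_comap, map_sub, consZero_single, consZero_single]
    exact Submodule.subset_span ⟨i.succ, j.succ, rfl⟩
  exact hle ht

theorem hasLow_cons (K : CochainComplex (ModuleCat.{u} A) ℤ) (l : List A) (f : A)
    (hK1 : IsZero (K.X 1)) (h : HasLow K l) : HasLow (mappingCone (f • 𝟙 K)) (f :: l) := by
  obtain ⟨p0, p1, hp0, hp1, hc, ht⟩ := h
  haveI : Subsingleton (K.X 1) := ModuleCat.subsingleton_of_isZero hK1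
  let p1' : (mappingCone (f • 𝟙 K)).X (-1) →ₗ[A] (Fin (f :: l).length → A) :=
    LinearMap.pi (Fin.cons (p0 ∘ₗ pfst (f • 𝟙 K) (-1) 0 (by norm_num))
      (fun i => LinearMap.proj i ∘ₗ p1 ∘ₗ psnd (f • 𝟙 K) (-1)))
  have hp1'0 : ∀ x, p1' x 0 = p0 (pfst (f • 𝟙 K) (-1) 0 (by norm_num) x) := fun x => rfl
  have hp1's : ∀ x (i : Fin l.length), p1' x i.succ = p1 (psnd (f • 𝟙 K) (-1) x) i := fun x i => rfl
  refine ⟨p0 ∘ₗ psnd (f • 𝟙 K) 0, p1', ⟨?_, ?_⟩, ?_, ?_, ?_⟩
  · -- injective
    intro x y hxy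
    have h1 : psnd (f • 𝟙 K) 0 x = psnd (f • 𝟙 K) 0 y := hp0.1 hxy
    rw [decomp (f • 𝟙 K) 0 1 (by norm_num) x, decomp (f • 𝟙 K) 0 1 (by norm_num) y, h1,
      Subsingleton.elim (pfst (f • 𝟙 K) 0 1 (by norm_num) x) (pfst (f • 𝟙 K) 0 1 (by norm_num) y)]
  · -- surjective
    intro a
    obtain ⟨u, rfl⟩ := hp0.2 a
    refine ⟨qinr (f • 𝟙 K) 0 u, ?_⟩
    show p0 (psnd (f • 𝟙 K) 0 (qinr (f • 𝟙 K) 0 u)) = p0 u
    rw [psnd_qinr]
  · -- p1' surjective
    intro a
    obtain ⟨u, hu⟩ := hp0.2 (a 0)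
    obtain ⟨v, hv⟩ := hp1 (Fin.tail a)
    refine ⟨qinl (f • 𝟙 K) (-1) 0 (by norm_num) u + qinr (f • 𝟙 K) (-1) v, ?_⟩
    funext i
    refine Fin.cases ?_ (fun j => ?_) i
    · rw [hp1'0, map_add, pfst_qinl, pfst_qinr, add_zero, hu]
    · rw [hp1's, map_add, psnd_qinl, psnd_qinr, zero_add, hv]
      rfl
  · -- compatibility
    intro x
    show p0 (psnd (f • 𝟙 K) 0 (((mappingCone (f • 𝟙 K)).d (-1) 0).hom x)) = _
    have hsum : (∑ i : Fin (f :: l).length, p1' x i * (f :: l).get i) =
        p1' x 0 * f + ∑ i : Fin l.length, p1' x i.succ * l.get i :=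
      Fin.sum_univ_succ (fun i : Fin (l.length + 1) => p1' x i * (f :: l).get i)
    rw [psnd_d (f • 𝟙 K) (-1) 0 (by norm_num) x, map_add, smul_id_f_hom, map_smul, hc, hsum,
      hp1'0, smul_eq_mul, mul_comm]
    rfl
  · -- trivial relations
    intro y
    have hget : (f :: l).get = (Fin.cons f l.get : Fin (l.length + 1) → A) := by
      funext k
      refine Fin.cases ?_ (fun j => ?_) k <;> rfl
    set b := p1 (pfst (f • 𝟙 K) (-2) (-1) (by norm_num) y) with hb
    set t := p1 ((K.d (-2) (-1)).hom (psnd (f • 𝟙 K) (-2) y)) with ht'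
    have key : p1' (((mappingCone (f • 𝟙 K)).d (-2) (-1)).hom y) =
        ∑ i : Fin l.length, b i • ((Pi.single i.succ f : Fin (l.length + 1) → A) -
          Pi.single 0 (l.get i)) + consZero l.length t := by
      funext k
      refine Fin.cases ?_ (fun j => ?_) k
      · rw [hp1'0, pfst_d (f • 𝟙 K) (-2) (-1) 0 (by norm_num) (by norm_num) y, map_neg, hc]
        rw [Pi.add_apply, consZero_zero, add_zero, Finset.sum_apply, ← Finset.sum_neg_distrib]
        apply Finset.sum_congr rfl
        intro i _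
        rw [Pi.smul_apply, Pi.sub_apply, Pi.single_eq_of_ne (Fin.succ_ne_zero i).symm,
          Pi.single_eq_same, smul_eq_mul, zero_sub, mul_neg]
      · rw [hp1's, psnd_d (f • 𝟙 K) (-2) (-1) (by norm_num) y, map_add, smul_id_f_hom, map_smul,
          Pi.add_apply, Pi.add_apply, consZero_succ, Finset.sum_apply]
        congr 1
        rw [Finset.sum_eq_single j]
        · rw [Pi.smul_apply, Pi.smul_apply, Pi.sub_apply, Pi.single_eq_same,
            Pi.single_eq_of_ne (Fin.succ_ne_zero j), sub_zero, smul_eq_mul, smul_eq_mul, mul_comm]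
        · intro i _ hij
          rw [Pi.smul_apply, Pi.sub_apply,
            Pi.single_eq_of_ne (fun h' => hij (Fin.succ_injective _ h').symm),
            Pi.single_eq_of_ne (Fin.succ_ne_zero j), sub_zero, smul_zero]
        · intro h
          exact absurd (Finset.mem_univ j) h
    rw [key]
    refine Submodule.add_mem _ (Submodule.sum_mem _ fun i _ => Submodule.smul_mem _ _ ?_) ?_
    · exact Submodule.subset_span ⟨i.succ, 0, rfl⟩
    · rw [hget]
      exact cons_mem_trivSpan l.get f t (ht _)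

theorem isH1Regular_of_hasLow (K : CochainComplex (ModuleCat.{u} A) ℤ) (l : List A)
    (h : HasLow K l) (hex : K.ExactAt (-1)) : CAlgX.IsH1Regular l.get := by
  obtain ⟨p0, p1, hp0, hp1, hc, ht⟩ := h
  intro a ha
  obtain ⟨x, rfl⟩ := hp1 a
  have hx : (K.d (-1) 0).hom x = 0 := by
    apply hp0.1
    rw [hc x, ha, map_zero]
  rw [HomologicalComplex.exactAt_iff' K (-2) (-1) 0 (by simp) (by simp),
    ShortComplex.moduleCat_exact_iff] at hex
  obtain ⟨y, rfl⟩ := hex x hx
  exact ht y


theorem hasLow_koszulCx : ∀ l : List A, HasLow (koszulCx (ModuleCat.of A A) l) l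
  | [] => hasLow_nil
  | f :: l => by
    haveI := Groth.Agent.Lib.T2H9.KoszulComp.isStrictlyLE_koszulCx (ModuleCat.of A A) l
    exact hasLow_cons _ l f
      (CochainComplex.isZero_of_isStrictlyLE (koszulCx (ModuleCat.of A A) l) 0 1 (by norm_num))
      (hasLow_koszulCx l)

/-- a Koszul-regular sequence (cone model) is `H_1`-regular -/
theorem isH1Regular_of_isKoszulRegularSeq (l : List A) (h : LCI.IsKoszulRegularSeq A l) :
    CAlgX.IsH1Regular l.get := by
  have h1 := h (-1) (by norm_num)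
  rw [Groth.Agent.Helper13KzLift.isZero_congr (Groth.Agent.Helper13KzLift.koszul_eq A l) (-1),
    ← HomologicalComplex.exactAt_iff_isZero_homology] at h1
  exact isH1Regular_of_hasLow _ l (hasLow_koszulCx l) h1

/-- a regular sequence is Koszul-regular -/
theorem isKoszulRegularSeq_of_isWeaklyRegular (l : List A)
    (h : RingTheory.Sequence.IsWeaklyRegular A l) : LCI.IsKoszulRegularSeq A l := by
  intro i hi
  rw [Groth.Agent.Helper13KzLift.isZero_congr (Groth.Agent.Helper13KzLift.koszul_eq A l) i]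
  exact Groth.Agent.Helper13Kz.isZero_KH_of_weaklyRegular l (ModuleCat.of A A) h i hi

end Groth.Agent.Lib.T2H9.KoszulH1
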