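-- helper7 (team 2): Koszul homology of a Koszul-regular sequence computes Tor against the quotient;
-- Tor-vanishing for powers of a Koszul-regular ideal against a Tor-independent algebra.
import Mathlib
import Groth.Agent.Lib.Helper13KzTor
import Groth.Agent.Lib.Helper13TorMore
import Groth.Agent.Lib.T2H7BlowCM
import Groth.Agent.Lib.T2H9KoszulH1
import Groth.Agent.S2103

set_option autoImplicit false
universe u
open CategoryTheory CategoryTheory.Limits MonoidalCategory RingTheory.Sequence
attribute [local instance] HasDerivedCategory.standard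

namespace Groth.Agent.Lib.T2H7.KosTor

open Groth.Agent.Lib.T2H7.BlowKos Groth.Agent.Lib.T2H7.BlowCM
  Groth.Agent.Lib.Helper21 CochainComplex Groth.Agent.Helper13Kz Groth.Agent.Helper13KzLift
  Groth.Agent.Helper13Tor CohIII

section Delta

variable {A : Type u} [CommRing A]

/-- for a Koszul-regular sequence the Koszul homology functors form an effaceable δ-functor -/
theorem isEffDelta_TK_of_koszulRegular (l : List A) (hl : LCI.IsKoszulRegularSeq A l) :
    Helper13Delta.IsEffDelta (TK l) where
  exists_δ S hS n := by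
    have hf : Function.Injective S.f.hom := (ModuleCat.mono_iff_injective _).mp hS.mono_f
    have hg : Function.Surjective S.g.hom := (ModuleCat.epi_iff_surjective _).mp hS.epi_g
    have hfg : Function.Exact S.f.hom S.g.hom :=
      (ShortComplex.ShortExact.moduleCat_exact_iff_function_exact S).mp hS.exact
    have hK := koszul_shortExact S.f S.g hf hg hfg l
    have hij : (ComplexShape.up ℤ).Rel (-((n + 1 : ℕ) : ℤ)) (-(n : ℤ)) := by
      show -((n + 1 : ℕ) : ℤ) + 1 = -(n : ℤ)
      push_cast
      ring
    exact ⟨hK.δ _ _ hij, hK.comp_δ _ _ hij, hK.δ_comp _ _ hij, hK.homology_exact₃ _ _ hij,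
      hK.homology_exact₁ _ _ hij⟩
  isZero_of_projective X _ n := by
    have : Module.Flat A X := inferInstance
    refine isZero_koszulCx_homology_of_flat l hl X _ ?_
    push_cast
    omega

/-- Koszul homology of a Koszul-regular sequence computes Tor against the quotient -/
theorem nonempty_tor_iso_KH_of_koszulRegular (l : List A) (hl : LCI.IsKoszulRegularSeq A l)
    (M : ModuleCat.{u} A) (n : ℕ) :
    Nonempty (((Tor (ModuleCat.{u} A) n).obj (ModuleCat.of A (A ⧸ Ideal.ofList l))).obj M ≅
      (koszulCx M l).homology (-(n : ℤ))) := by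
  obtain ⟨e⟩ := nonempty_TK_zero_iso (A := A) l
  let P : ProjectiveResolution M := ProjectiveResolution.of M
  obtain ⟨e2⟩ := Helper13Delta.nonempty_iso (isEffDelta_TK_of_koszulRegular l hl) _ e P n
  exact ⟨torIso P _ n ≪≫ e2.symm⟩

end Delta

section Quot

variable (A : Type u) [CommRing A] (A' : Type u) [CommRing A'] [Algebra A A']

/-- `Tor_i^A(A/(fs), A') = 0` for `i ≥ 1` when `fs` is Koszul-regular in `A` and in `A'` -/
theorem isZero_tor_quotient (fs : List A) (hfs : LCI.IsKoszulRegularSeq A fs)
    (hfs' : LCI.IsKoszulRegularSeq A' (fs.map (algebraMap A A'))) (i : ℕ) (hi : 1 ≤ i) :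
    IsZero (((Tor (ModuleCat.{u} A) i).obj (ModuleCat.of A (A ⧸ Ideal.ofList fs))).obj
      (ModuleCat.of A A')) := by
  obtain ⟨e⟩ := nonempty_tor_iso_KH_of_koszulRegular fs hfs (ModuleCat.of A A') i
  refine IsZero.of_iso ?_ e
  have hne : (-(i : ℤ)) ≠ 0 := by omega
  have h0 : IsZero ((koszulCx (ModuleCat.of A' A') (fs.map (algebraMap A A'))).homology
      (-(i : ℤ))) :=
    (Groth.Agent.S15821.isZero_congr (Groth.Agent.S15821.koszul_eq A' _) _).1 (hfs' _ hne)
  have h1 : IsZero ((((ModuleCat.restrictScalars (algebraMap A A')).mapHomologicalComplex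
      (ComplexShape.up ℤ)).obj
      (koszulCx (ModuleCat.of A' A') (fs.map (algebraMap A A')))).homology (-(i : ℤ))) := by
    rw [← HomologicalComplex.exactAt_iff_isZero_homology] at h0 ⊢
    exact (ShortComplex.exact_map_iff_of_faithful _
      (ModuleCat.restrictScalars (algebraMap A A'))).2 h0
  have h2 : IsZero ((koszulCx ((ModuleCat.restrictScalars (algebraMap A A')).obj
      (ModuleCat.of A' A')) fs).homology (-(i : ℤ))) :=
    IsZero.of_iso h1 ((HomologicalComplex.homologyFunctor _ _ _).mapIso
      (restrictIso (algebraMap A A') (ModuleCat.of A' A') fs)).symm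
  let X : ModuleCat.{u} A :=
    (ModuleCat.restrictScalars (algebraMap A A')).obj (ModuleCat.of A' A')
  let eL : X ≃ₗ[A] A' :=
    { toFun := fun x => x
      invFun := fun x => x
      map_add' := fun _ _ => rfl
      map_smul' := fun b x => by
        show algebraMap A A' b * (id x : A') = b • (id x : A')
        rw [Algebra.smul_def]
      left_inv := fun _ => rfl
      right_inv := fun _ => rfl }
  let X : ModuleCat.{u} A :=
    (ModuleCat.restrictScalars (algebraMap A A')).obj (ModuleCat.of A' A')
  let eL : X ≃ₗ[A] A' :=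
    { toFun := fun x => x
      invFun := fun x => x
      map_add' := fun _ _ => rfl
      map_smul' := fun b x => by
        show algebraMap A A' b * (id x : A') = b • (id x : A')
        rw [Algebra.smul_def]
      left_inv := fun _ => rfl
      right_inv := fun _ => rfl }
  let eX : (ModuleCat.of A A') ≅ X := (LinearEquiv.toModuleIso eL).symm
  exact IsZero.of_iso h2 ((HomologicalComplex.homologyFunctor _ _ _).mapIso
    ((KF fs).mapIso eX))

end Quot

section TV

variable {A : Type u} [CommRing A] (Y : ModuleCat.{u} A)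

/-- all higher Tor's of `M` against `Y` vanish -/
def TV (M : Type u) [AddCommGroup M] [Module A M] : Prop :=
  ∀ i : ℕ, 1 ≤ i → IsZero (((Tor (ModuleCat.{u} A) i).obj (ModuleCat.of A M)).obj Y)

variable {Y}

theorem TV.of_linearEquiv {M N : Type u} [AddCommGroup M] [Module A M] [AddCommGroup N]
    [Module A N] (e : M ≃ₗ[A] N) (h : TV Y M) : TV Y N := by
  intro i hi
  exact IsZero.of_iso (h i hi)
    (((Tor (ModuleCat.{u} A) i).mapIso e.toModuleIso).app Y).symm

theorem TV.of_flat (M : Type u) [AddCommGroup M] [Module A M] [Module.Flat A M] : TV Y M := by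
  intro i hi
  exact isZero_tor_of_flat Y (ModuleCat.of A M) i (by omega)

section SES

variable {M₁ M₂ M₃ : Type u} [AddCommGroup M₁] [Module A M₁] [AddCommGroup M₂] [Module A M₂]
  [AddCommGroup M₃] [Module A M₃] (f : M₁ →ₗ[A] M₂) (g : M₂ →ₗ[A] M₃)
  (hf : Function.Injective f) (hg : Function.Surjective g) (hfg : Function.Exact f g)

/-- the short complex in `ModuleCat` of a pair of composable linear maps -/
noncomputable def sc : ShortComplex (ModuleCat.{u} A) :=
  ShortComplex.mk (ModuleCat.ofHom f) (ModuleCat.ofHom g) (by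
    ext x
    exact hfg.apply_apply_eq_zero x)

include hf hg in
theorem sc_shortExact : (sc f g hfg).ShortExact where
  exact := (ShortComplex.ShortExact.moduleCat_exact_iff_function_exact _).2 hfg
  mono_f := (ModuleCat.mono_iff_injective _).2 hf
  epi_g := (ModuleCat.epi_iff_surjective _).2 hg

include hf hg hfg in
theorem TV.X₂ (h₁ : TV Y M₁) (h₃ : TV Y M₃) : TV Y M₂ := by
  intro i hi
  exact isZero_tor_X₂ (sc f g hfg) (sc_shortExact f g hf hg hfg) Y i (h₁ i hi) (h₃ i hi)

include hf hg hfg in
theorem TV.X₁ (h₂ : TV Y M₂) (h₃ : TV Y M₃) : TV Y M₁ := by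
  intro i hi
  exact isZero_tor_X₁ (sc f g hfg) (sc_shortExact f g hf hg hfg) Y i (h₃ (i + 1) (by omega))
    (h₂ i hi)

end SES

/-- finite powers -/
theorem TV.pi {Q : Type u} [AddCommGroup Q] [Module A Q] (h : TV Y Q) (ι : Type) [Finite ι] :
    TV Y (ι → Q) := by
  induction ι using Finite.induction_empty_option with
  | of_equiv e ih => exact TV.of_linearEquiv (LinearEquiv.funCongrLeft A Q e.symm) ih
  | h_empty =>
    have : Module.Flat A (PEmpty → Q) := inferInstance
    exact TV.of_flat _
  | h_option ih =>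
    rename_i α _
    let f : Q →ₗ[A] (Option α → Q) :=
      { toFun := fun q o => o.elim q (fun _ => 0)
        map_add' := fun x y => by
          ext o
          cases o <;> simp
        map_smul' := fun r x => by
          ext o
          cases o <;> simp }
    refine TV.X₂ (M₁ := Q) (M₃ := α → Q) f
      (LinearMap.funLeft A Q (Option.some : α → Option α)) ?_ ?_ ?_ h ih
    · intro x y hxy
      exact congrFun hxy none
    · intro v
      refine ⟨fun o => Option.elim o 0 v, ?_⟩
      ext a
      rfl
    · intro v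
      constructor
      · intro hv
        refine ⟨v none, ?_⟩
        ext o
        cases o with
        | none => rfl
        | some a =>
          have := congrFun hv a
          simp only [LinearMap.funLeft_apply, Pi.zero_apply] at this
          exact this.symm
      · rintro ⟨q, rfl⟩
        ext a
        rfl

end TV

section Free

open MvPolynomial

variable {A : Type u} [CommRing A] {c : ℕ} (f : Fin c → A)

/-- exponents of total degree `n` -/
abbrev Dn (c n : ℕ) : Type := {d : Fin c →₀ ℕ // d.degree = n}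

instance finite_Dn (c n : ℕ) : Finite (Dn c n) :=
  (Set.Finite.subset (Finsupp.finite_of_degree_le (σ := Fin c) n)
    (fun d (hd : d.degree = n) => le_of_eq hd)).to_subtype

/-- the monomial `f^d` -/
noncomputable def mon (d : Fin c →₀ ℕ) : A := d.prod fun i k => f i ^ k

theorem eval_monomial_eq (d : Fin c →₀ ℕ) (a : A) : eval f (monomial d a) = a * mon f d :=
  eval_monomial

theorem mon_mem (d : Fin c →₀ ℕ) (n : ℕ) (hd : d.degree = n) :
    mon f d ∈ Ideal.span (Set.range f) ^ n := by
  refine (Ideal.mem_span_pow_iff_exists_isHomogeneous f _).mpr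
    ⟨monomial d 1, isHomogeneous_monomial 1 hd, ?_⟩
  rw [eval_monomial_eq, one_mul]

variable (n : ℕ) [Fintype (Dn c n)]

/-- the homogeneous polynomial with given coefficients -/
noncomputable def PP (a : Dn c n → A) : MvPolynomial (Fin c) A := ∑ d, monomial d.1 (a d)

theorem PP_isHomogeneous (a : Dn c n → A) : (PP n a).IsHomogeneous n :=
  IsHomogeneous.sum _ _ _ fun d _ => isHomogeneous_monomial _ d.2

theorem eval_PP (a : Dn c n → A) : eval f (PP n a) = ∑ d, a d * mon f d.1 := by
  unfold PP
  rw [map_sum]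
  exact Finset.sum_congr rfl fun d _ => eval_monomial_eq f d.1 (a d)

theorem coeff_PP (a : Dn c n → A) (d : Dn c n) : coeff d.1 (PP n a) = a d := by
  classical
  unfold PP
  rw [coeff_sum]
  rw [Finset.sum_eq_single d]
  · rw [coeff_monomial, if_pos rfl]
  · intro e _ hne
    rw [coeff_monomial, if_neg]
    intro h
    exact hne (Subtype.ext h)
  · intro h
    exact absurd (Finset.mem_univ d) h

theorem PP_coeff (P : MvPolynomial (Fin c) A) (hP : P.IsHomogeneous n) :
    PP n (fun d => coeff d.1 P) = P := by
  classical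
  ext e
  unfold PP
  rw [coeff_sum]
  by_cases he : e.degree = n
  · rw [Finset.sum_eq_single (⟨e, he⟩ : Dn c n)]
    · rw [coeff_monomial, if_pos rfl]
    · intro d _ hne
      rw [coeff_monomial, if_neg]
      intro h
      exact hne (Subtype.ext h)
    · intro h
      exact absurd (Finset.mem_univ _) h
  · have h0 : coeff e P = 0 := by
      by_contra hne
      apply he
      have := hP hne
      rw [Finsupp.degree_eq_weight_one]
      exact this
    rw [h0]
    refine Finset.sum_eq_zero fun d _ => ?_
    rw [coeff_monomial, if_neg]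
    intro h
    exact he (h ▸ d.2)

/-- the graded piece `Jⁿ/Jⁿ⁺¹` in the shape of the milestone statement -/
abbrev Gr (J : Ideal A) (n : ℕ) : Type u :=
  ↥(J ^ n) ⧸ Submodule.comap (J ^ n).subtype (J ^ (n + 1))

/-- coefficients to `Jⁿ` -/
noncomputable def Φ : (Dn c n → A) →ₗ[A] ↥(Ideal.span (Set.range f) ^ n) :=
  Fintype.linearCombination A (fun d : Dn c n => (⟨mon f d.1, mon_mem f d.1 n d.2⟩ :
    ↥(Ideal.span (Set.range f) ^ n)))

theorem Φ_coe (a : Dn c n → A) : ((Φ f n a : ↥(Ideal.span (Set.range f) ^ n)) : A) =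
    eval f (PP n a) := by
  rw [eval_PP]
  unfold Φ
  rw [Fintype.linearCombination_apply, Submodule.coe_sum]
  exact Finset.sum_congr rfl fun d _ => rfl

theorem Φ_surjective : Function.Surjective (Φ f n) := by
  rintro ⟨x, hx⟩
  obtain ⟨P, hP, rfl⟩ := (Ideal.mem_span_pow_iff_exists_isHomogeneous f _).mp hx
  refine ⟨fun d => coeff d.1 P, Subtype.ext ?_⟩
  rw [Φ_coe, PP_coeff n P hP]

/-- coefficients to `Jⁿ/Jⁿ⁺¹` -/
noncomputable def Ψ : (Dn c n → A) →ₗ[A] Gr (Ideal.span (Set.range f)) n :=
  (Submodule.mkQ _).comp (Φ f n)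

theorem Ψ_surjective : Function.Surjective (Ψ f n) :=
  (Submodule.mkQ_surjective _).comp (Φ_surjective f n)

theorem Ψ_ker (hq : CAlgX.IsQuasiRegular f) :
    LinearMap.ker (Ψ f n) = LinearMap.ker ((Submodule.mkQ (Ideal.span (Set.range f))).compLeft
      (Dn c n)) := by
  ext a
  rw [LinearMap.mem_ker, LinearMap.mem_ker]
  unfold Ψ
  rw [LinearMap.comp_apply, Submodule.mkQ_apply, Submodule.Quotient.mk_eq_zero,
    Submodule.mem_comap, Submodule.subtype_apply, Φ_coe]
  constructor
  · intro h
    have h1 := hq n (PP n a) (PP_isHomogeneous n a) h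
    ext d
    rw [LinearMap.compLeft_apply, Function.comp_apply, Submodule.mkQ_apply, Pi.zero_apply,
      Submodule.Quotient.mk_eq_zero]
    rw [← coeff_PP n a d]
    exact h1 d.1
  · intro h
    have h1 : ∀ d, a d ∈ Ideal.span (Set.range f) := by
      intro d
      have := congrFun h d
      rw [LinearMap.compLeft_apply, Function.comp_apply, Submodule.mkQ_apply, Pi.zero_apply,
        Submodule.Quotient.mk_eq_zero] at this
      exact this
    rw [eval_PP]
    refine Ideal.sum_mem _ fun d _ => ?_
    rw [pow_succ']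
    exact Ideal.mul_mem_mul (h1 d) (mon_mem f d.1 n d.2)

/-- for a quasi-regular sequence, `Jⁿ/Jⁿ⁺¹` is a finite free `A/J`-module -/
theorem nonempty_linearEquiv_gr (hq : CAlgX.IsQuasiRegular f) :
    Nonempty ((Dn c n → A ⧸ Ideal.span (Set.range f)) ≃ₗ[A] Gr (Ideal.span (Set.range f)) n) := by
  have hρ : Function.Surjective ((Submodule.mkQ (Ideal.span (Set.range f))).compLeft (Dn c n)) :=
    fun v => ⟨fun d => (Submodule.mkQ_surjective _ (v d)).choose, funext fun d =>
      (Submodule.mkQ_surjective _ (v d)).choose_spec⟩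
  exact ⟨((LinearMap.quotKerEquivOfSurjective _ hρ).symm.trans
    (Submodule.quotEquivOfEq _ _ (Ψ_ker f n hq).symm)).trans
    (LinearMap.quotKerEquivOfSurjective _ (Ψ_surjective f n))⟩

end Free

section Main

variable (A : Type u) [CommRing A] (A' : Type u) [CommRing A'] [Algebra A A']

theorem tv_gr (fs : List A) (hfs : LCI.IsKoszulRegularSeq A fs)
    (hfs' : LCI.IsKoszulRegularSeq A' (fs.map (algebraMap A A'))) (n : ℕ) :
    TV (ModuleCat.of A A') (Gr (Ideal.span {x | x ∈ fs}) n) := by
  have hq : CAlgX.IsQuasiRegular fs.get :=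
    Groth.Agent.S2103.result _
      (Groth.Agent.Lib.T2H9.KoszulH1.isH1Regular_of_isKoszulRegularSeq fs hfs)
  have hJ : Ideal.span (Set.range fs.get) = Ideal.span {x | x ∈ fs} := by
    rw [Set.range_list_get]
  have hQ : TV (ModuleCat.of A A') (A ⧸ Ideal.span {x | x ∈ fs}) := fun i hi =>
    isZero_tor_quotient A A' fs hfs hfs' i hi
  have key : ∀ J : Ideal A, Ideal.span (Set.range fs.get) = J →
      TV (ModuleCat.of A A') (A ⧸ J) → TV (ModuleCat.of A A') (Gr J n) := by
    rintro _ rfl hQ'
    have := Fintype.ofFinite (Dn fs.length n)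
    obtain ⟨e⟩ := nonempty_linearEquiv_gr fs.get n hq
    exact TV.of_linearEquiv e (TV.pi hQ' (Dn fs.length n))
  exact key _ hJ hQ

theorem tv_pow (fs : List A) (hfs : LCI.IsKoszulRegularSeq A fs)
    (hfs' : LCI.IsKoszulRegularSeq A' (fs.map (algebraMap A A'))) (n : ℕ) :
    TV (ModuleCat.of A A') ↥(Ideal.span {x | x ∈ fs} ^ n) := by
  set J := Ideal.span {x | x ∈ fs} with hJ
  induction n with
  | zero =>
    have e : ↥(J ^ 0) ≃ₗ[A] A :=
      (LinearEquiv.ofEq _ _ (by rw [pow_zero, Ideal.one_eq_top])).trans Submodule.topEquiv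
    exact TV.of_linearEquiv e.symm (TV.of_flat A)
  | succ n ih =>
    have hle : J ^ (n + 1) ≤ J ^ n := Ideal.pow_le_pow_right (Nat.le_succ n)
    refine TV.X₁ (M₁ := ↥(J ^ (n + 1))) (M₂ := ↥(J ^ n)) (M₃ := Gr J n)
      (Submodule.inclusion hle) (Submodule.mkQ _) (Submodule.inclusion_injective hle)
      (Submodule.mkQ_surjective _) ?_ ih (tv_gr A A' fs hfs hfs' n)
    intro y
    rw [Submodule.mkQ_apply, Submodule.Quotient.mk_eq_zero, Submodule.mem_comap,
      Submodule.subtype_apply]
    constructor
    · intro hy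
      exact ⟨⟨y.1, hy⟩, rfl⟩
    · rintro ⟨x, rfl⟩
      exact x.2

end Main

end Groth.Agent.Lib.T2H7.KosTor
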