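import Mathlib
import Groth.Agent.Lib.T2H7KosSplit
import Groth.Agent.Lib.T2H7ConeTensor
import Groth.Agent.Lib.T2H7BlowKos
import Groth.Agent.Lib.T2H7KosTor
import Groth.Agent.Lib.Helper1DT5
import Groth.Agent.Lib.Helper1KF10
import Groth.Agent.S11917
/-
Helper library (helper7): derived invariance of the homology of `- ⊗ X` for K-flat `X`; Koszul
homology with coefficients in the quotient by a Koszul-regular sequence; permutations of Koszul
complexes; `Tor_n(A/(f,g), A/(f,h)) ≃ (A/(f,g,h))^(|f| choose n)`.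
-/
set_option backward.isDefEq.respectTransparency.types false

set_option autoImplicit false
set_option maxHeartbeats 400000
universe u
open CategoryTheory CategoryTheory.Limits MonoidalCategory
attribute [local instance] HasDerivedCategory.standard

namespace Groth.Agent.Lib.T2H7.KosPerm

open Groth.Agent.Lib.Helper1.KF Groth.Agent.Lib.Helper1.DT DerivedCategory
  Groth.Agent.Lib.T2H7.KosSplit Groth.Agent.Lib.T2H7.ConeTensor Groth.Agent.Lib.T2H7.BlowKos

variable {A : Type u} [CommRing A]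

/-- the homology of `- ⊗ X` only depends on the class in the derived category when `X` is K-flat -/
theorem nonempty_homology_tensor_iso (X E G : Cx A) (hX : KFlat X) (e : Q.obj E ≅ Q.obj G)
    (i : ℤ) : Nonempty ((E ⊗ X).homology i ≅ (G ⊗ X).homology i) := by
  obtain ⟨P, p, hP, -, hp, -⟩ := exists_kprojective_resolution E
  have hpi : IsIso (Q.map p) := (DerivedCategory.isIso_Q_map_iff_quasiIso (φ := p)).2 hp
  obtain ⟨g, hg⟩ := Q_map_surjective P G (Q.map p ≫ e.hom)
  have hgi : IsIso (Q.map g) := by rw [hg]; infer_instance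
  have hgq : QuasiIso g := (DerivedCategory.isIso_Q_map_iff_quasiIso (φ := g)).1 hgi
  have q1 : QuasiIso (p ▷ X) := quasiIso_whiskerRight_of_kflat p X hX
  have q2 : QuasiIso (g ▷ X) := quasiIso_whiskerRight_of_kflat g X hX
  have a1 : IsIso (HomologicalComplex.homologyMap (p ▷ X) i) :=
    (quasiIsoAt_iff_isIso_homologyMap _ i).1 (q1.quasiIsoAt i)
  have a2 : IsIso (HomologicalComplex.homologyMap (g ▷ X) i) :=
    (quasiIsoAt_iff_isIso_homologyMap _ i).1 (q2.quasiIsoAt i)
  exact ⟨(asIso (HomologicalComplex.homologyMap (p ▷ X) i)).symm ≪≫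
    asIso (HomologicalComplex.homologyMap (g ▷ X) i)⟩

/-- `K(a) ⊗ K(b) ≅ K(a ++ b)` for the Koszul complexes with coefficients in `A` -/
noncomputable def kTensorIso (a b : List A) :
    (CohIII.koszulCx (ModuleCat.of A A) a ⊗ CohIII.koszulCx (ModuleCat.of A A) b : Cx A) ≅
      CohIII.koszulCx (ModuleCat.of A A) (a ++ b) :=
  eqToIso (by rw [Groth.Agent.S15821.koszul_eq A a, Groth.Agent.S15821.koszul_eq A b]) ≪≫
    koszulTensorIso a b ≪≫ eqToIso (Groth.Agent.S15821.koszul_eq A (a ++ b))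

/-- Koszul homology with coefficients in the quotient by a Koszul-regular sequence -/
theorem nonempty_koszulCx_quot_homology_iso (l g : List A) (hl : LCI.IsKoszulRegularSeq A l)
    (i : ℤ) :
    Nonempty ((CohIII.koszulCx (ModuleCat.of A (A ⧸ Ideal.ofList l)) g).homology i ≅
      (CohIII.koszulCx (ModuleCat.of A A) (l ++ g)).homology i) := by
  set N : ModuleCat.{u} A := ModuleCat.of A (A ⧸ Ideal.ofList l) with hN
  set Kg : Cx A := CohIII.koszulCx (ModuleCat.of A A) g with hKg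
  set Kl : Cx A := CohIII.koszulCx (ModuleCat.of A A) l with hKl
  obtain ⟨e0⟩ := koszul_iso_quot A l hl
  have e1 : Q.obj Kl ≅ Q.obj (sgl N) :=
    e0 ≪≫ (DerivedCategory.singleFunctorIsoCompQ (ModuleCat.{u} A) 0).app N
  obtain ⟨e2⟩ := nonempty_homology_tensor_iso Kg Kl (sgl N) (kflat_koszulCx A g) e1 i
  have e3 : (CohIII.koszulCx N g).homology i ≅ (sgl N ⊗ Kg).homology i :=
    (HomologicalComplex.homologyFunctor _ _ i).mapIso
      (koszulCxIsoTC A N g ≪≫ singleTensorIso N Kg)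
  have e4 : (Kl ⊗ Kg).homology i ≅ (CohIII.koszulCx (ModuleCat.of A A) (l ++ g)).homology i :=
    (HomologicalComplex.homologyFunctor _ _ i).mapIso (kTensorIso l g)
  exact ⟨e3 ≪≫ e2.symm ≪≫ e4⟩

/-- `K(a ++ b) ≅ K(b ++ a)` -/
noncomputable def kSwapIso (a b : List A) :
    CohIII.koszulCx (ModuleCat.of A A) (a ++ b) ≅ CohIII.koszulCx (ModuleCat.of A A) (b ++ a) :=
  (kTensorIso a b).symm ≪≫ swapIso _ _ ≪≫ kTensorIso b a

/-- `K(a ++ b) ≅ K(a ++ b')` from `K(b) ≅ K(b')` -/
noncomputable def kAppendCongr (a : List A) {b b' : List A}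
    (e : CohIII.koszulCx (ModuleCat.of A A) b ≅ CohIII.koszulCx (ModuleCat.of A A) b') :
    CohIII.koszulCx (ModuleCat.of A A) (a ++ b) ≅ CohIII.koszulCx (ModuleCat.of A A) (a ++ b') :=
  (kTensorIso a b).symm ≪≫ whiskerLeftIso _ e ≪≫ kTensorIso a b'

/-- `K((f ++ h) ++ g) ≅ K((f ++ g) ++ h)` -/
noncomputable def kPermIso (f g h : List A) :
    CohIII.koszulCx (ModuleCat.of A A) ((f ++ h) ++ g) ≅
      CohIII.koszulCx (ModuleCat.of A A) ((f ++ g) ++ h) :=
  eqToIso (by rw [List.append_assoc]) ≪≫ kAppendCongr f (kSwapIso h g) ≪≫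
    eqToIso (by rw [List.append_assoc])

open CategoryTheory in
/-- `Tor_n(A/(f,g), A/(f,h))` is free of rank `(|f| choose n)` over `A/(f,g,h)` when `f ++ g`,
`f ++ h`, `f ++ g ++ h` are Koszul-regular -/
theorem nonempty_tor_linearEquiv (f g h : List A) (hfg : LCI.IsKoszulRegularSeq A (f ++ g))
    (hfh : LCI.IsKoszulRegularSeq A (f ++ h)) (hfgh : LCI.IsKoszulRegularSeq A (f ++ g ++ h))
    (n : ℕ) :
    Nonempty ((((Tor (ModuleCat.{u} A) n).obj (ModuleCat.of A (A ⧸ Ideal.ofList (f ++ g)))).obj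
      (ModuleCat.of A (A ⧸ Ideal.ofList (f ++ h))) : ModuleCat.{u} A) ≃ₗ[A]
      (Fin (f.length.choose n) → A ⧸ Ideal.ofList (f ++ g ++ h))) := by
  set N : ModuleCat.{u} A := ModuleCat.of A (A ⧸ Ideal.ofList (f ++ h)) with hN
  obtain ⟨e1⟩ := Groth.Agent.Lib.T2H7.KosTor.nonempty_tor_iso_KH_of_koszulRegular (f ++ g) hfg N n
  set X : Cx A := CohIII.koszulCx N g with hXdef
  have hXiso : ∀ m : ℤ, Nonempty (X.homology m ≅
      (CohIII.koszulCx (ModuleCat.of A A) ((f ++ g) ++ h)).homology m) := by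
    intro m
    obtain ⟨e⟩ := nonempty_koszulCx_quot_homology_iso (f ++ h) g hfh m
    exact ⟨e ≪≫ (HomologicalComplex.homologyFunctor _ _ m).mapIso (kPermIso f g h)⟩
  have hX : ∀ m : ℤ, m ≠ 0 → IsZero (X.homology m) := by
    intro m hm
    obtain ⟨e⟩ := hXiso m
    refine IsZero.of_iso ?_ e
    exact (Groth.Agent.S15821.isZero_congr (Groth.Agent.S15821.koszul_eq A _) m).1 (hfgh m hm)
  have hnull : ∀ x ∈ f, NullH X x := by
    intro x hx
    apply NullH.of_eq_zero
    apply smul_id_koszulCx_eq_zero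
    intro m
    obtain ⟨a, rfl⟩ := Ideal.Quotient.mk_surjective m
    show x • (Ideal.Quotient.mk (Ideal.ofList (f ++ h)) a) = 0
    rw [← Ideal.Quotient.mk_eq_mk, ← Submodule.Quotient.mk_smul]
    rw [Submodule.Quotient.mk_eq_zero]
    refine Ideal.mul_mem_right _ _ (Ideal.subset_span ?_)
    exact List.mem_append_left _ hx
  obtain ⟨e2⟩ := (kz_homology hX f hnull).2 n
  obtain ⟨e3⟩ := hXiso 0
  obtain ⟨e4⟩ := Groth.Agent.S11917.main (A := A) A ((f ++ g) ++ h)
  have h0 : Ideal.ofList ((f ++ g) ++ h) • (⊤ : Submodule A A) = Ideal.ofList ((f ++ g) ++ h) := by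
    simp
  have e5 : X.homology 0 ≃ₗ[A] (A ⧸ Ideal.ofList (f ++ g ++ h)) :=
    e3.toLinearEquiv.trans (e4.trans (Submodule.quotEquivOfEq _ _ h0))
  have e6 : (CohIII.koszulCx N (f ++ g)).homology (-(n : ℤ)) ≅ (Kz f X).homology (-(n : ℤ)) :=
    (HomologicalComplex.homologyFunctor _ _ _).mapIso (eqToIso (koszulCx_append N g f))
  exact ⟨(e1 ≪≫ e6).toLinearEquiv.trans (e2.trans (LinearEquiv.piCongrRight fun _ => e5))⟩

end Groth.Agent.Lib.T2H7.KosPerm
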