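import Mathlib
import Groth.Agent.Lib.T2H7KosPerm
import Groth.Agent.Lib.T2H9KoszulCot
/-
Helper library (helper7): a sequence generating the same ideal as a Koszul-regular sequence of the
same length is Koszul-regular; Koszul-regular generating sequences of a proper ideal have minimal
length.
-/
set_option backward.isDefEq.respectTransparency.types false

set_option autoImplicit false
set_option maxHeartbeats 400000
universe u
open CategoryTheory CategoryTheory.Limits MonoidalCategory CochainComplex
attribute [local instance] HasDerivedCategory.standard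

namespace Groth.Agent.Lib.T2H7.KosKey

open Groth.Agent.Lib.Helper1.KF Groth.Agent.Lib.T2H7.KosSplit Groth.Agent.Lib.T2H7.KosPerm
  Groth.Agent.Lib.Helper21

variable {A : Type u} [CommRing A]

lemma isZero_homology_of_eq {X : CochainComplex (ModuleCat.{u} A) ℤ} {m m' : ℤ} (h : m = m')
    (hz : IsZero (X.homology m)) : IsZero (X.homology m') := by
  subst h; exact hz

/-- vanishing of the homology of an iterated cone below the expected range -/
theorem isZero_kz_homology_of_lt {X : CochainComplex (ModuleCat.{u} A) ℤ}
    (hX : ∀ m : ℤ, m < 0 → IsZero (X.homology m)) :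
    ∀ (l : List A) (m : ℤ), m < -(l.length : ℤ) → IsZero ((Kz l X).homology m)
  | [], m, hm => hX m (by simpa using hm)
  | a :: l, m, hm => by
    have hm' : m + 1 < -(l.length : ℤ) := by
      simp only [List.length_cons] at hm
      push_cast at hm
      omega
    have h1 := isZero_kz_homology_of_lt hX l m (by omega)
    have h2 := isZero_kz_homology_of_lt hX l (m + 1) hm'
    have h3 := cone_homology_exact₃ (a • 𝟙 (Kz l X)) m (m + 1) rfl
    exact h3.isZero_of_both_zeros (h1.eq_of_src _ _) (h2.eq_of_tgt _ _)

/-- if the elements of `l` are null-homotopic on `X`, then `H^{m+|l|}(X)` vanishes as soon as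
`H^m(Kz l X)` does -/
theorem isZero_homology_of_isZero_kz {X : CochainComplex (ModuleCat.{u} A) ℤ} :
    ∀ (l : List A), (∀ x ∈ l, NullH X x) → ∀ m : ℤ, IsZero ((Kz l X).homology m) →
      IsZero (X.homology (m + l.length))
  | [], _, m, h => isZero_homology_of_eq (X := X) (by simp) h
  | a :: l, hl, m, h => by
    have hl' : ∀ x ∈ l, NullH X x := fun x hx => hl x (List.mem_cons_of_mem _ hx)
    have ha : NullH (Kz l X) a := (hl a List.mem_cons_self).kz l
    obtain ⟨H⟩ := ha
    obtain ⟨e⟩ := cone_homology_split (a • 𝟙 (Kz l X)) H m (m + 1) rfl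
    have s0 : Subsingleton ((mappingCone (a • 𝟙 (Kz l X))).homology m) :=
      ModuleCat.subsingleton_of_isZero h
    have s1 : Subsingleton ((Kz l X).homology m × (Kz l X).homology (m + 1)) :=
      e.symm.toEquiv.subsingleton
    have s2 : Subsingleton ((Kz l X).homology (m + 1)) := by
      constructor
      intro a b
      have := Subsingleton.elim ((0 : (Kz l X).homology m), a) ((0 : (Kz l X).homology m), b)
      exact (Prod.ext_iff.mp this).2
    have := isZero_homology_of_isZero_kz l hl' (m + 1) (ModuleCat.isZero_of_subsingleton _)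
    refine isZero_homology_of_eq ?_ this
    simp only [List.length_cons]
    push_cast
    ring

/-- every element of `(l)` is null-homotopic on the Koszul complex of `l` -/
theorem nullH_koszulCx_of_mem (N : ModuleCat.{u} A) : ∀ (l : List A) (y : A),
    y ∈ l → NullH (CohIII.koszulCx N l) y
  | [], y, hy => absurd hy (by simp)
  | a :: l, y, hy => by
    rcases List.mem_cons.mp hy with rfl | h
    · exact NullH.self _ _
    · exact (nullH_koszulCx_of_mem N l y h).cone a

/-- every element of `(l)` is null-homotopic on the Koszul complex of `l` -/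
theorem nullH_koszulCx (N : ModuleCat.{u} A) (l : List A) (x : A)
    (hx : x ∈ Ideal.ofList l) : NullH (CohIII.koszulCx N l) x :=
  NullH.of_mem_span (S := {y | y ∈ l}) (fun y hy => nullH_koszulCx_of_mem N l y hy) hx

/-- a sequence generating the same ideal as a Koszul-regular sequence of the same length is
Koszul-regular -/
theorem isKoszulRegularSeq_of_length_eq (f g : List A) (hg : LCI.IsKoszulRegularSeq A g)
    (hI : Ideal.ofList f = Ideal.ofList g) (hlen : f.length = g.length) :
    LCI.IsKoszulRegularSeq A f := by
  intro m hm
  rw [Groth.Agent.S15821.isZero_congr (Groth.Agent.S15821.koszul_eq A f) m]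
  set AA : ModuleCat.{u} A := ModuleCat.of A A
  rcases lt_or_gt_of_ne hm with hneg | hpos
  · -- `m < 0`
    have hXg : ∀ k : ℤ, k < 0 → IsZero ((CohIII.koszulCx AA g).homology k) := fun k hk =>
      (Groth.Agent.S15821.isZero_congr (Groth.Agent.S15821.koszul_eq A g) k).1 (hg k (by omega))
    have h1 : IsZero ((CohIII.koszulCx AA (f ++ g)).homology (m - g.length)) := by
      rw [Groth.Agent.S15821.isZero_congr (koszulCx_append AA g f)]
      exact isZero_kz_homology_of_lt hXg f _ (by omega)
    have h2 : IsZero ((CohIII.koszulCx AA (g ++ f)).homology (m - g.length)) :=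
      IsZero.of_iso h1 ((HomologicalComplex.homologyFunctor _ _ _).mapIso (kSwapIso g f))
    rw [Groth.Agent.S15821.isZero_congr (koszulCx_append AA f g)] at h2
    have hnull : ∀ x ∈ g, NullH (CohIII.koszulCx AA f) x := by
      intro x hx
      apply nullH_koszulCx
      rw [hI]
      exact Ideal.subset_span hx
    have h3 := isZero_homology_of_isZero_kz g hnull _ h2
    rwa [sub_add_cancel] at h3
  · -- `m > 0`
    rw [← HomologicalComplex.exactAt_iff_isZero_homology]
    exact HomologicalComplex.ExactAt.of_isZero
      (Groth.Agent.S11917.isZero_koszulCx_X _ f _ hpos)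

/-- a Koszul-regular generating sequence of a proper ideal has minimal length -/
theorem length_le_of_isKoszulRegularSeq {I : Ideal A} (hI : I ≠ ⊤) (f : List A)
    (hf : LCI.IsKoszulRegularSeq A f) (hfI : Ideal.ofList f = I) (h : List A)
    (hhI : Ideal.ofList h = I) : f.length ≤ h.length := by
  classical
  have hfmem : ∀ i : Fin f.length, f.get i ∈ I := fun i => by
    rw [← hfI]; exact Ideal.subset_span (List.get_mem f i)
  have hhmem : ∀ i : Fin h.length, h.get i ∈ I := fun i => by
    rw [← hhI]; exact Ideal.subset_span (List.get_mem h i)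
  let f' : Fin f.length → I := fun i => ⟨f.get i, hfmem i⟩
  let h' : Fin h.length → I := fun i => ⟨h.get i, hhmem i⟩
  have hrange : ∀ l : List A, Set.range (fun i : Fin l.length => l.get i) = {x | x ∈ l} := by
    intro l
    ext x
    simp only [Set.mem_range, Set.mem_ofPred_eq]
    exact ⟨fun ⟨i, hi⟩ => hi ▸ List.get_mem l i, fun hx => List.mem_iff_get.mp hx⟩
  have hf' : LCI.IsKoszulRegularSeq A (List.ofFn (fun i => (f' i : A))) := by
    have : List.ofFn (fun i => (f' i : A)) = f := List.ofFn_get f
    rw [this]; exact hf
  have hfspan : Ideal.span (Set.range (fun i => (f' i : A))) = I := by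
    exact (congrArg Ideal.span (hrange f)).trans hfI
  have hhspan : Ideal.span (Set.range (fun i => (h' i : A))) = I := by
    exact (congrArg Ideal.span (hrange h)).trans hhI
  obtain ⟨b, -⟩ := Groth.Agent.Lib.T2H9.KoszulCot.exists_basis_cotangent f.length f' hf' hfspan
  have hsp := Groth.Agent.Lib.T2H9.KoszulCot.span_toCotangent_eq_top h.length h' hhspan
  have : Nontrivial (A ⧸ I) := Ideal.Quotient.nontrivial_iff.mpr hI
  have h1 := Basis.le_span'' b hsp
  have h2 : Fintype.card (Set.range fun i => I.toCotangent (h' i)) ≤ Fintype.card (Fin h.length) :=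
    Fintype.card_range_le _
  simpa using h1.trans h2

end Groth.Agent.Lib.T2H7.KosKey
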