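import Mathlib
import Groth.Agent.Lib.T2H7KRegA
import Groth.Agent.Lib.T2H7KosKey

/-!
# Elementwise form of Koszul-regular ideals (helper7)

* `GenAt g I l`: `I` and `(l)` agree after inverting `g` (elementwise).
* `KRegAt I 𝔭`: near `𝔭`, `I` is generated by a sequence with `g`-torsion Koszul homology.
* `isKoszulRegularIdeal_iff`: `LCI.IsKoszulRegularIdeal I ↔ ∀ 𝔭 prime ⊇ I, KRegAt I 𝔭`.
* `torsAt_of_length_eq`: replacing the sequence by another of the same length.
-/

set_option autoImplicit false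

namespace Groth.Agent.Lib.T2H7.KRegB
open Groth.Agent.Lib.T2H7.KRegA

universe u

variable {C : Type u} [CommRing C]

/-- `I` and `(l)` agree after inverting `g` -/
def GenAt (g : C) (I : Ideal C) (l : List C) : Prop :=
  (∀ x ∈ I, ∃ k : ℕ, g ^ k * x ∈ Ideal.ofList l) ∧ (∀ x ∈ l, ∃ k : ℕ, g ^ k * x ∈ I)

/-- `I` is generated by a Koszul-regular sequence near the prime `𝔭` (elementwise form) -/
def KRegAt (I : Ideal C) (𝔭 : Ideal C) : Prop :=
  ∃ g : C, g ∉ 𝔭 ∧ ∃ l : List C, GenAt g I l ∧ TorsAt g l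

lemma map_eq_of_genAt {g : C} {I : Ideal C} {l : List C} (h : GenAt g I l) :
    I.map (algebraMap C (Localization.Away g)) =
      (Ideal.ofList l).map (algebraMap C (Localization.Away g)) := by
  have hu : ∀ k : ℕ, IsUnit (algebraMap C (Localization.Away g) (g ^ k)) := fun k => by
    rw [map_pow]
    exact (IsLocalization.Away.algebraMap_isUnit g).pow k
  apply le_antisymm
  · rw [Ideal.map_le_iff_le_comap]
    intro x hx
    obtain ⟨k, hk⟩ := h.1 x hx
    rw [Ideal.mem_comap]
    have := Ideal.mem_map_of_mem (algebraMap C (Localization.Away g)) hk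
    rwa [map_mul, Ideal.unit_mul_mem_iff_mem _ (hu k)] at this
  · rw [Ideal.map_le_iff_le_comap]
    refine Ideal.span_le.mpr ?_
    intro x hx
    obtain ⟨k, hk⟩ := h.2 x hx
    show x ∈ Ideal.comap _ _
    rw [Ideal.mem_comap]
    have := Ideal.mem_map_of_mem (algebraMap C (Localization.Away g)) hk
    rwa [map_mul, Ideal.unit_mul_mem_iff_mem _ (hu k)] at this

lemma genAt_of_map_eq {g : C} {I : Ideal C} {l : List C}
    (h : I.map (algebraMap C (Localization.Away g)) =
      (Ideal.ofList l).map (algebraMap C (Localization.Away g))) : GenAt g I l := by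
  constructor
  · intro x hx
    have h1 : algebraMap C (Localization.Away g) x ∈
        (Ideal.ofList l).map (algebraMap C (Localization.Away g)) := by
      rw [← h]; exact Ideal.mem_map_of_mem _ hx
    rw [IsLocalization.algebraMap_mem_map_algebraMap_iff (Submonoid.powers g)] at h1
    obtain ⟨m, ⟨k, rfl⟩, hm⟩ := h1
    exact ⟨k, hm⟩
  · intro x hx
    have h1 : algebraMap C (Localization.Away g) x ∈
        I.map (algebraMap C (Localization.Away g)) := by
      rw [h]; exact Ideal.mem_map_of_mem _ (Ideal.subset_span hx)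
    rw [IsLocalization.algebraMap_mem_map_algebraMap_iff (Submonoid.powers g)] at h1
    obtain ⟨m, ⟨k, rfl⟩, hm⟩ := h1
    exact ⟨k, hm⟩


lemma TorsAt.mul_right {g : C} {l : List C} (h : TorsAt g l) (h' : C) : TorsAt (g * h') l := by
  intro i hi z
  obtain ⟨k, hk⟩ := h i hi z
  refine ⟨k, ?_⟩
  rw [mul_pow, mul_comm, mul_smul, hk, smul_zero]

lemma TorsAt.mul_left {g : C} {l : List C} (h : TorsAt g l) (h' : C) : TorsAt (h' * g) l := by
  rw [mul_comm]; exact TorsAt.mul_right h h'

/-- torsion statements pass from generators to the ideal they generate -/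
lemma exists_pow_mul_mem_of_mem_ofList {g : C} {l : List C} {J : Ideal C}
    (h : ∀ x ∈ l, ∃ k : ℕ, g ^ k * x ∈ J) {y : C} (hy : y ∈ Ideal.ofList l) :
    ∃ k : ℕ, g ^ k * y ∈ J := by
  induction hy using Submodule.span_induction with
  | mem x hx => exact h x hx
  | zero => exact ⟨0, by simp⟩
  | add a b _ _ ha hb =>
    obtain ⟨k₁, h₁⟩ := ha
    obtain ⟨k₂, h₂⟩ := hb
    refine ⟨k₁ + k₂, ?_⟩
    have e : g ^ (k₁ + k₂) * (a + b) = g ^ k₂ * (g ^ k₁ * a) + g ^ k₁ * (g ^ k₂ * b) := by ring
    rw [e]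
    exact J.add_mem (J.mul_mem_left _ h₁) (J.mul_mem_left _ h₂)
  | smul r a _ ha =>
    obtain ⟨k, hk⟩ := ha
    refine ⟨k, ?_⟩
    have e : g ^ k * (r • a) = r * (g ^ k * a) := by rw [smul_eq_mul]; ring
    rw [e]
    exact J.mul_mem_left _ hk

lemma map_ofList_le_of_forall {g : C} {l : List C} {J : Ideal C}
    (h : ∀ x ∈ l, ∃ k : ℕ, g ^ k * x ∈ J) :
    (Ideal.ofList l).map (algebraMap C (Localization.Away g)) ≤
      J.map (algebraMap C (Localization.Away g)) := by
  rw [Ideal.map_le_iff_le_comap]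
  refine Ideal.span_le.mpr ?_
  intro x hx
  obtain ⟨k, hk⟩ := h x hx
  show x ∈ Ideal.comap _ _
  rw [Ideal.mem_comap]
  have := Ideal.mem_map_of_mem (algebraMap C (Localization.Away g)) hk
  have hu : IsUnit (algebraMap C (Localization.Away g) (g ^ k)) := by
    rw [map_pow]
    exact (IsLocalization.Away.algebraMap_isUnit g).pow k
  rwa [map_mul, Ideal.unit_mul_mem_iff_mem _ hu] at this

/-- replacing a sequence by another one of the same length generating the same ideal after
inverting `g` -/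
theorem torsAt_of_length_eq {g : C} {l l₂ : List C} (h : TorsAt g l)
    (h1 : ∀ x ∈ l₂, ∃ k : ℕ, g ^ k * x ∈ Ideal.ofList l)
    (h2 : ∀ x ∈ l, ∃ k : ℕ, g ^ k * x ∈ Ideal.ofList l₂) (hlen : l₂.length = l.length) :
    TorsAt g l₂ := by
  rw [← isKoszulRegularSeq_away_iff] at h ⊢
  refine Groth.Agent.Lib.T2H7.KosKey.isKoszulRegularSeq_of_length_eq _ _ h ?_ (by simpa using hlen)
  rw [← Ideal.map_ofList, ← Ideal.map_ofList]
  exact le_antisymm (map_ofList_le_of_forall h1) (map_ofList_le_of_forall h2)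

lemma ofList_map_mul_units {S : Type u} [CommRing S] (l : List S) (u : S → S)
    (hu : ∀ x ∈ l, IsUnit (u x)) : Ideal.ofList (l.map (fun x => x * u x)) = Ideal.ofList l := by
  apply le_antisymm
  · refine Ideal.span_le.mpr ?_
    intro y hy
    obtain ⟨x, hx, rfl⟩ := List.mem_map.mp hy
    exact Ideal.mul_mem_right _ _ (Ideal.subset_span hx)
  · refine Ideal.span_le.mpr ?_
    intro x hx
    have h1 : x * u x ∈ Ideal.ofList (l.map (fun x => x * u x)) :=
      Ideal.subset_span (List.mem_map.mpr ⟨x, hx, rfl⟩)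
    exact (Ideal.mul_unit_mem_iff_mem _ (hu x hx)).mp h1

/-- the elementwise form of Koszul-regularity of an ideal -/
theorem isKoszulRegularIdeal_iff (I : Ideal C) :
    LCI.IsKoszulRegularIdeal I ↔ ∀ 𝔭 : Ideal C, 𝔭.IsPrime → I ≤ 𝔭 → KRegAt I 𝔭 := by
  constructor
  · intro h 𝔭 h𝔭 hI
    obtain ⟨g, hg, l', hl', hmap⟩ := h ⟨𝔭, h𝔭⟩ hI
    have hmapl : (l'.map (fun x => (IsLocalization.Away.sec g x).1)).map
        (algebraMap C (Localization.Away g)) =
        l'.map (fun x => x * algebraMap C (Localization.Away g)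
          (g ^ (IsLocalization.Away.sec g x).2)) := by
      rw [List.map_map]
      refine List.map_congr_left fun x _ => ?_
      exact (IsLocalization.Away.sec_spec g x).symm
    have hI : Ideal.ofList ((l'.map (fun x => (IsLocalization.Away.sec g x).1)).map
        (algebraMap C (Localization.Away g))) = Ideal.ofList l' := by
      rw [hmapl]
      refine ofList_map_mul_units l' _ fun x _ => ?_
      rw [map_pow]
      exact (IsLocalization.Away.algebraMap_isUnit g).pow _
    have hK : LCI.IsKoszulRegularSeq (Localization.Away g)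
        ((l'.map (fun x => (IsLocalization.Away.sec g x).1)).map
          (algebraMap C (Localization.Away g))) :=
      Groth.Agent.Lib.T2H7.KosKey.isKoszulRegularSeq_of_length_eq _ l' hl' hI (by simp)
    refine ⟨g, hg, l'.map (fun x => (IsLocalization.Away.sec g x).1), ?_, ?_⟩
    · apply genAt_of_map_eq
      rw [Ideal.map_ofList, hI, hmap]
    · exact (isKoszulRegularSeq_away_iff g _).mp hK
  · intro h 𝔭 hI
    obtain ⟨g, hg, l, hgen, htors⟩ := h 𝔭.asIdeal 𝔭.isPrime hI
    refine ⟨g, hg, l.map (algebraMap C (Localization.Away g)),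
      (isKoszulRegularSeq_away_iff g l).mpr htors, ?_⟩
    rw [map_eq_of_genAt hgen, Ideal.map_ofList]

end Groth.Agent.Lib.T2H7.KRegB
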