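import Mathlib
import Groth.Agent.Lib.T2H7KRegB

/-!
# Koszul-regular ideals and localization at an element (helper7)

* `nonempty_KH_tensor_equiv`: Koszul homology commutes with flat tensor products.
* `torsAt_mul_of_torsM_away`: torsion of the Koszul homology of the localized module.
* `kRegAt_of_away`: `KRegAt I 𝔭` can be checked in `P[1/G]` for `G ∉ 𝔭`.
-/

set_option autoImplicit false

namespace Groth.Agent.Lib.T2H7.KRegE
open CategoryTheory CochainComplex MonoidalCategory CohIII
open Groth.Agent.Helper13Kz Groth.Agent.Helper13KzLift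
open Groth.Agent.Lib.T2H7.KRegA Groth.Agent.Lib.T2H7.KRegB
open scoped TensorProduct

universe u

section Tensor
variable {B : Type u} [CommRing B]

/-- Koszul homology commutes with tensoring with a flat module -/
theorem nonempty_KH_tensor_equiv (F : Type u) [AddCommGroup F] [Module B F] [Module.Flat B F]
    (M : Type u) [AddCommGroup M] [Module B M] (l : List B) (i : ℤ) :
    Nonempty (KH l (M ⊗[B] F) i ≃ₗ[B] (KH l M i ⊗[B] F)) := by
  set K := koszulCx (ModuleCat.of B M) l with hK
  have e1 : (((tensorRight (ModuleCat.of B F)).mapHomologicalComplex (ComplexShape.up ℤ)).obj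
      K).homology i ≅ (koszulCx (ModuleCat.of B M ⊗ ModuleCat.of B F) l).homology i :=
    (HomologicalComplex.homologyFunctor _ _ i).mapIso (tensIso (ModuleCat.of B F) (ModuleCat.of B M) l)
  have e2 : ((K.sc i).map (tensorRight (ModuleCat.of B F))).homology ≅
      (tensorRight (ModuleCat.of B F)).obj ((K.sc i).homology) :=
    (K.sc i).mapHomologyIso (tensorRight (ModuleCat.of B F))
  have e3 : (koszulCx (ModuleCat.of B M ⊗ ModuleCat.of B F) l).homology i ≅
      (tensorRight (ModuleCat.of B F)).obj ((K.sc i).homology) := e1.symm ≪≫ e2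
  exact ⟨e3.toLinearEquiv⟩

end Tensor

section Away
variable {P : Type u} [CommRing P]

/-- torsion for the localized module gives torsion upstairs after multiplying by `G` -/
theorem torsAt_mul_of_torsM_away (G a : P) (L : List P)
    (h : TorsM a L ((ModuleCat.restrictScalars (algebraMap P (Localization.Away G))).obj
      (ModuleCat.of (Localization.Away G) (Localization.Away G)))) : TorsAt (G * a) L := by
  let φ := algebraMap P (Localization.Away G)
  let e0 : ((ModuleCat.restrictScalars φ).obj
        (ModuleCat.of (Localization.Away G) (Localization.Away G))) ≃ₗ[P] Localization.Away G :=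
    { toFun := fun x => x
      invFun := fun x => x
      map_add' := fun _ _ => rfl
      map_smul' := fun b x => by
        show algebraMap P (Localization.Away G) b • (id x : Localization.Away G) =
          b • (id x : Localization.Away G)
        rw [Algebra.smul_def b (id x : Localization.Away G), smul_eq_mul]
      left_inv := fun _ => rfl
      right_inv := fun _ => rfl }
  let e1 := e0.trans (TensorProduct.lid P (Localization.Away G)).symm
  have h1 : TorsM a L (ModuleCat.of P (P ⊗[P] Localization.Away G)) :=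
    TorsM.of_iso e1.toModuleIso h
  intro i hi z
  obtain ⟨E⟩ := nonempty_KH_tensor_equiv (Localization.Away G) P L i
  obtain ⟨k, hk⟩ := h1 i hi (E.symm (z ⊗ₜ 1))
  rw [← map_smul, E.symm.map_eq_zero_iff, TensorProduct.smul_tmul'] at hk
  -- `(a ^ k • z) ⊗ 1 = 0` in the localization
  have h2 : TensorProduct.mk P (Localization.Away G) (KH L P i) 1 (a ^ k • z) = 0 := by
    have := congrArg (TensorProduct.comm P (KH L P i) (Localization.Away G)) hk
    rwa [TensorProduct.comm_tmul, map_zero] at this
  obtain ⟨c, hc⟩ := (IsLocalizedModule.eq_zero_iff (Submonoid.powers G)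
    (TensorProduct.mk P (Localization.Away G) (KH L P i) 1)).mp h2
  obtain ⟨c', hc'⟩ := c.2
  have hc'' : G ^ c' • (a ^ k • z) = 0 := by
    have : G ^ c' = (c : P) := hc'
    rw [this]; exact hc
  refine ⟨c' + k, ?_⟩
  have e : (G * a) ^ (c' + k) = (G ^ k * a ^ c') * (G ^ c' * a ^ k) := by ring
  rw [e, mul_smul, mul_smul (G ^ c'), hc'', smul_zero]

end Away

section Loc
variable {P : Type u} [CommRing P]

/-- Koszul-regularity of an ideal near a prime can be checked after inverting an element outside
the prime -/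
theorem kRegAt_of_away (G : P) (I 𝔭 : Ideal P) [h𝔭 : 𝔭.IsPrime] (hG : G ∉ 𝔭)
    (h : KRegAt (I.map (algebraMap P (Localization.Away G)))
      (𝔭.map (algebraMap P (Localization.Away G)))) : KRegAt I 𝔭 := by
  set φ := algebraMap P (Localization.Away G) with hφ
  obtain ⟨h₀, hh₀, l, hgen, htors⟩ := h
  have hu : ∀ k : ℕ, IsUnit (φ (G ^ k)) := fun k => by
    rw [map_pow]
    exact (IsLocalization.Away.algebraMap_isUnit G).pow k
  set a := (IsLocalization.Away.sec G h₀).1 with ha
  set s := (IsLocalization.Away.sec G h₀).2 with hs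
  have hsec : h₀ * φ (G ^ s) = φ a := IsLocalization.Away.sec_spec G h₀
  set L := l.map (fun x => (IsLocalization.Away.sec G x).1) with hL
  have hmapL : L.map φ = l.map (fun x => x * φ (G ^ (IsLocalization.Away.sec G x).2)) := by
    rw [hL, List.map_map]
    refine List.map_congr_left fun x _ => ?_
    exact (IsLocalization.Away.sec_spec G x).symm
  have hof : Ideal.ofList (L.map φ) = Ideal.ofList l := by
    rw [hmapL]
    exact ofList_map_mul_units l _ fun x _ => hu _
  have ha𝔭 : a ∉ 𝔭 := by
    intro hmem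
    apply hh₀
    have h1 : φ a ∈ 𝔭.map φ := Ideal.mem_map_of_mem φ hmem
    rw [← hsec] at h1
    exact (Ideal.mul_unit_mem_iff_mem _ (hu s)).mp h1
  have t1 : TorsAt h₀ (L.map φ) := by
    refine torsAt_of_length_eq htors (fun x hx => ⟨0, ?_⟩) (fun x hx => ⟨0, ?_⟩) (by simp [hL])
    · rw [pow_zero, one_mul, ← hof]; exact Ideal.subset_span hx
    · rw [pow_zero, one_mul, hof]; exact Ideal.subset_span hx
  have t2 : TorsAt (φ a) (L.map φ) := by
    rw [← hsec]; exact TorsAt.mul_right t1 _
  have t3 := (torsM_restrict_iff φ _ L a).mp t2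
  have t4 : TorsAt (G * a) L := torsAt_mul_of_torsM_away G a L t3
  have hfin : ∀ (J : Ideal P) (x : P) (k : ℕ), φ (a ^ k * x) ∈ J.map φ →
      ∃ N : ℕ, (G * a) ^ N * x ∈ J := by
    intro J x k hmem
    rw [IsLocalization.algebraMap_mem_map_algebraMap_iff (Submonoid.powers G)] at hmem
    obtain ⟨m, ⟨c, rfl⟩, hm⟩ := hmem
    refine ⟨c + k, ?_⟩
    have e : (G * a) ^ (c + k) * x = (G ^ k * a ^ c) * (G ^ c * (a ^ k * x)) := by ring
    rw [e]
    exact J.mul_mem_left _ hm
  refine ⟨G * a, fun hmem => ?_, L, ⟨?_, ?_⟩, t4⟩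
  · rcases h𝔭.mem_or_mem hmem with h1 | h1
    · exact hG h1
    · exact ha𝔭 h1
  · intro x hx
    obtain ⟨k, hk⟩ := hgen.1 (φ x) (Ideal.mem_map_of_mem φ hx)
    apply hfin (Ideal.ofList L) x k
    rw [Ideal.map_ofList, hof, map_mul, map_pow, ← hsec, mul_pow, mul_assoc, mul_comm, mul_assoc]
    refine Ideal.mul_mem_left _ _ ?_
    rw [mul_comm]
    exact hk
  · intro x hx
    rw [hL] at hx
    obtain ⟨y, hy, rfl⟩ := List.mem_map.mp hx
    obtain ⟨k, hk⟩ := hgen.2 y hy
    apply hfin I _ k
    rw [map_mul, map_pow, ← hsec, ← IsLocalization.Away.sec_spec G y, mul_pow]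
    have e : h₀ ^ k * φ (G ^ s) ^ k * (y * φ (G ^ (IsLocalization.Away.sec G y).2)) =
        (φ (G ^ s) ^ k * φ (G ^ (IsLocalization.Away.sec G y).2)) * (h₀ ^ k * y) := by ring
    rw [e]
    exact Ideal.mul_mem_left _ _ hk

end Loc

end Groth.Agent.Lib.T2H7.KRegE
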