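import Mathlib
import Groth.Agent.Lib.T2H7KRegB
import Groth.Agent.Lib.T2H7JacCrit
import Groth.Agent.Lib.Helper13KzLiftF

/-!
# Koszul-regular ideals along surjections with Koszul-regular kernel (helper7)

* `isKoszulRegularIdeal_comap`: the preimage of a Koszul-regular ideal under a surjection whose
  kernel is generated by a Koszul-regular sequence is Koszul-regular.
* `exists_swap`: near a prime, a Koszul-regular generating sequence can be modified to contain
  given elements `w` of the ideal which are transversal with respect to derivations.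
* `isKoszulRegularIdeal_of_comap`: descent of Koszul-regularity of the preimage.
-/

set_option autoImplicit false

namespace Groth.Agent.Lib.T2H7.KRegD
open Groth.Agent.Lib.T2H7.KRegA Groth.Agent.Lib.T2H7.KRegB

universe u

section StepU
variable {D C : Type u} [CommRing D] [CommRing C] (π : D →+* C) (hπ : Function.Surjective π)
  (ws : List D) (hker : RingHom.ker π = Ideal.ofList ws) (hws : LCI.IsKoszulRegularSeq D ws)

include hπ hker hws in
/-- the preimage of a Koszul-regular ideal under a surjection with Koszul-regular kernel is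
Koszul-regular -/
theorem isKoszulRegularIdeal_comap (I : Ideal C) (h : LCI.IsKoszulRegularIdeal I) :
    LCI.IsKoszulRegularIdeal (I.comap π) := by
  rw [isKoszulRegularIdeal_iff] at h ⊢
  intro 𝔓 h𝔓 hle
  have hkerle : RingHom.ker π ≤ 𝔓 := le_trans (fun x hx => by
    rw [Ideal.mem_comap, (RingHom.mem_ker).mp hx]; exact I.zero_mem) hle
  have h𝔭 : (𝔓.map π).IsPrime := Ideal.map_isPrime_of_surjective hπ hkerle
  have hI𝔭 : I ≤ 𝔓.map π := by
    intro x hx
    obtain ⟨y, rfl⟩ := hπ x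
    exact Ideal.mem_map_of_mem π (hle hx)
  obtain ⟨g, hg, l, hgen, htors⟩ := h (𝔓.map π) h𝔭 hI𝔭
  obtain ⟨G, rfl⟩ := hπ g
  have hL : (l.map (Function.surjInv hπ)).map π = l := by
    rw [List.map_map]
    conv_rhs => rw [← List.map_id l]
    exact List.map_congr_left fun x _ => Function.surjInv_eq hπ x
  set L := l.map (Function.surjInv hπ) with hLdef
  refine ⟨G, fun hG => hg (Ideal.mem_map_of_mem π hG), L ++ ws, ⟨?_, ?_⟩, ?_⟩
  · intro x hx
    obtain ⟨k, hk⟩ := hgen.1 (π x) hx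
    rw [← hL, ← Ideal.map_ofList, ← map_pow, ← map_mul] at hk
    obtain ⟨y, hy, hyx⟩ := (Ideal.mem_map_iff_of_surjective π hπ).mp hk
    refine ⟨k, ?_⟩
    have h1 : G ^ k * x - y ∈ Ideal.ofList ws := by
      rw [← hker, RingHom.mem_ker, map_sub, hyx, sub_self]
    rw [Ideal.ofList_append]
    have e : G ^ k * x = y + (G ^ k * x - y) := by ring
    rw [e]
    exact Ideal.add_mem _ (Ideal.mem_sup_left hy) (Ideal.mem_sup_right h1)
  · intro x hx
    rcases List.mem_append.mp hx with hx | hx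
    · have : π x ∈ l := by
        rw [← hL]; exact List.mem_map.mpr ⟨x, hx, rfl⟩
      obtain ⟨k, hk⟩ := hgen.2 (π x) this
      refine ⟨k, ?_⟩
      rw [Ideal.mem_comap, map_mul, map_pow]
      exact hk
    · refine ⟨0, ?_⟩
      have : x ∈ RingHom.ker π := by rw [hker]; exact Ideal.subset_span hx
      rw [pow_zero, one_mul, Ideal.mem_comap, (RingHom.mem_ker).mp this]
      exact I.zero_mem
  · rw [torsAt_append_iff π hπ ws L hker hws G, hL]
    exact htors

end StepU

section Mat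
variable {D : Type u} [CommRing D]

/-- if `α Λ ≡ M` modulo a prime `𝔔` with `det M ∉ 𝔔`, some maximal minor of `α` is not in `𝔔` -/
theorem exists_minor_not_mem (𝔔 : Ideal D) [𝔔.IsPrime] {k r : ℕ} (α : Fin k → Fin r → D)
    (Λ : Fin r → Fin k → D) (M : Matrix (Fin k) (Fin k) D) (hM : M.det ∉ 𝔔)
    (h : ∀ j i, ∑ t, α j t * Λ t i - M j i ∈ 𝔔) :
    ∃ S : Fin k ↪ Fin r, Matrix.det (Matrix.of fun j s => α j (S s)) ∉ 𝔔 := by
  let Q := D ⧸ 𝔔
  let F := FractionRing Q
  let χ : D →+* F := (algebraMap Q F).comp (Ideal.Quotient.mk 𝔔)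
  have hχ : ∀ x, χ x = 0 ↔ x ∈ 𝔔 := by
    intro x
    show algebraMap Q F (Ideal.Quotient.mk 𝔔 x) = 0 ↔ _
    rw [map_eq_zero_iff _ (IsFractionRing.injective Q F), Ideal.Quotient.eq_zero_iff_mem]
  let A : Matrix (Fin k) (Fin r) F := Matrix.of fun j t => χ (α j t)
  let L : Matrix (Fin r) (Fin k) F := Matrix.of fun t i => χ (Λ t i)
  have hAL : A * L = M.map χ := by
    ext j i
    rw [Matrix.mul_apply, Matrix.map_apply]
    have := (hχ _).mpr (h j i)
    rw [map_sub, sub_eq_zero, map_sum] at this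
    rw [← this]
    refine Finset.sum_congr rfl fun t _ => ?_
    rw [map_mul]
    rfl
  have hdet : (M.map χ).det ≠ 0 := by
    have : (M.map χ).det = χ M.det := by
      rw [RingHom.map_det]; rfl
    rw [this, Ne, hχ]
    exact hM
  have hli : LinearIndependent F A.row := by
    rw [← Matrix.vecMul_injective_iff]
    intro c₁ c₂ hc
    have h1 : Matrix.vecMul c₁ (A * L) = Matrix.vecMul c₂ (A * L) := by
      rw [← Matrix.vecMul_vecMul, ← Matrix.vecMul_vecMul]
      exact congrArg (fun v => Matrix.vecMul v L) hc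
    rw [hAL] at h1
    have hu : IsUnit (M.map χ) :=
      (Matrix.isUnit_iff_isUnit_det _).mpr (isUnit_iff_ne_zero.mpr hdet)
    exact Matrix.vecMul_injective_of_isUnit hu h1
  obtain ⟨S, hS⟩ := (Groth.Agent.Lib.T2H7.JacCrit.linearIndependent_row_iff_exists_minor A).mp hli
  refine ⟨S, fun hmem => hS ?_⟩
  have : (A.submatrix id S).det = χ (Matrix.det (Matrix.of fun j s => α j (S s))) := by
    rw [RingHom.map_det]; rfl
  rw [this, hχ]
  exact hmem

/-- Cramer's rule in ideal form -/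
theorem det_mul_mem_span {k : ℕ} (A : Matrix (Fin k) (Fin k) D) (v b : Fin k → D)
    (h : A.mulVec v = b) (J : Ideal D) (hb : ∀ j, b j ∈ J) (s : Fin k) : A.det * v s ∈ J := by
  have h1 : (A.adjugate * A).mulVec v = A.adjugate.mulVec b := by
    rw [← Matrix.mulVec_mulVec, h]
  rw [Matrix.adjugate_mul, Matrix.smul_mulVec, Matrix.one_mulVec] at h1
  have h2 := congrFun h1 s
  rw [Pi.smul_apply, smul_eq_mul] at h2
  rw [h2, Matrix.mulVec, dotProduct]
  exact J.sum_mem fun j _ => J.mul_mem_left _ (hb j)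

end Mat

section Equiv

/-- extend an embedding `Fin k ↪ Fin r` to an equivalence `Fin k ⊕ Fin (r - k) ≃ Fin r` -/
theorem exists_sumEquiv {k r : ℕ} (S : Fin k ↪ Fin r) :
    ∃ ε : Fin k ⊕ Fin (r - k) ≃ Fin r, ∀ s, ε (Sum.inl s) = S s := by
  classical
  have hcard : Fintype.card ↥(Set.range S)ᶜ = r - k := by
    rw [Fintype.card_compl_set, Fintype.card_fin, Set.card_range_of_injective S.injective,
      Fintype.card_fin]
  refine ⟨(Equiv.sumCongr (Equiv.ofInjective S S.injective)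
    (Fintype.equivFinOfCardEq hcard).symm).trans (Equiv.Set.sumCompl (Set.range S)), fun s => ?_⟩
  simp

end Equiv

section Swap
variable {D : Type u} [CommRing D]

theorem exists_swap (K 𝔔 : Ideal D) [𝔔.IsPrime] (hK𝔔 : K ≤ 𝔔) {k : ℕ} (w : Fin k → D)
    (hw : ∀ j, w j ∈ K) {R₀ : Type*} [CommSemiring R₀] [Algebra R₀ D]
    (d : Fin k → Derivation R₀ D D)
    (hdet : Matrix.det (Matrix.of fun j i => d i (w j)) ∉ 𝔔)
    (G : D) (hG : G ∉ 𝔔) (l : List D) (hgen : GenAt G K l) (htors : TorsAt G l) :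
    ∃ G₂ : D, G₂ ∉ 𝔔 ∧ ∃ L : List D, GenAt G₂ K (L ++ List.ofFn w) ∧
      TorsAt G₂ (L ++ List.ofFn w) := by
  classical
  obtain ⟨r, lf, rfl⟩ : ∃ (r : ℕ) (lf : Fin r → D), l = List.ofFn lf :=
    ⟨l.length, l.get, (List.ofFn_get l).symm⟩
  have hofl : Ideal.ofList (List.ofFn lf) = Ideal.span (Set.range lf) :=
    Groth.Agent.Helper13KzLift.ofList_ofFn lf
  have hlf𝔔 : ∀ t, lf t ∈ 𝔔 := by
    intro t
    obtain ⟨a, ha⟩ := hgen.2 (lf t) ((List.mem_ofFn' _ _).mpr ⟨t, rfl⟩)
    rcases (Ideal.IsPrime.mem_or_mem inferInstance (hK𝔔 ha)) with h | h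
    · exact absurd (Ideal.IsPrime.mem_of_pow_mem inferInstance _ h) hG
    · exact h
  have hw𝔔 : ∀ j, w j ∈ 𝔔 := fun j => hK𝔔 (hw j)
  have hex : ∀ j, ∃ e, G ^ e * w j ∈ Ideal.span (Set.range lf) := fun j => by
    rw [← hofl]; exact hgen.1 (w j) (hw j)
  choose ej hej using hex
  let e := Finset.univ.sup ej
  have he : ∀ j, G ^ e * w j ∈ Ideal.span (Set.range lf) := by
    intro j
    have hle : ej j ≤ e := Finset.le_sup (Finset.mem_univ j)
    have : G ^ e * w j = G ^ (e - ej j) * (G ^ ej j * w j) := by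
      rw [← mul_assoc, ← pow_add, Nat.sub_add_cancel hle]
    rw [this]
    exact Ideal.mul_mem_left _ _ (hej j)
  have hα' : ∀ j, ∃ c : Fin r → D, ∑ t, c t * lf t = G ^ e * w j := fun j =>
    (Ideal.mem_span_range_iff_exists_fun).mp (he j)
  choose α hα using hα'
  have hcong : ∀ j i, ∑ t, α j t * d i (lf t) - G ^ e * d i (w j) ∈ 𝔔 := by
    intro j i
    have h1 := congrArg (d i) (hα j)
    rw [map_sum] at h1
    simp only [Derivation.leibniz, smul_eq_mul] at h1
    rw [Finset.sum_add_distrib] at h1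
    have h2 : ∑ t, α j t * d i (lf t) - G ^ e * d i (w j) =
        w j * d i (G ^ e) - ∑ t, lf t * d i (α j t) := by
      linear_combination h1
    rw [h2]
    exact 𝔔.sub_mem (𝔔.mul_mem_right _ (hw𝔔 j))
      (𝔔.sum_mem fun t _ => 𝔔.mul_mem_right _ (hlf𝔔 t))
  have hMdet : (G ^ e • Matrix.of fun j i => d i (w j)).det ∉ 𝔔 := by
    rw [Matrix.det_smul]
    intro hmem
    rcases Ideal.IsPrime.mem_or_mem inferInstance hmem with h | h
    · exact hG (Ideal.IsPrime.mem_of_pow_mem inferInstance _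
        (Ideal.IsPrime.mem_of_pow_mem inferInstance _ h))
    · exact hdet h
  obtain ⟨S, hS⟩ := exists_minor_not_mem 𝔔 α (fun t i => d i (lf t))
    (G ^ e • Matrix.of fun j i => d i (w j)) hMdet (fun j i => by
      rw [Matrix.smul_apply, Matrix.of_apply, smul_eq_mul]
      exact hcong j i)
  set Δ := Matrix.det (Matrix.of fun j s => α j (S s)) with hΔ
  obtain ⟨ε, hε⟩ := exists_sumEquiv S
  have hkr : k ≤ r := by
    have := Fintype.card_le_of_embedding S
    simpa using this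
  let L : List D := List.ofFn (fun u : Fin (r - k) => lf (ε (Sum.inr u)))
  have hmemL : ∀ x, x ∈ L ++ List.ofFn w ↔
      (∃ u, lf (ε (Sum.inr u)) = x) ∨ (∃ j, w j = x) := by
    intro x
    rw [List.mem_append, List.mem_ofFn', List.mem_ofFn']
    rfl
  have hJ₂L : ∀ u, lf (ε (Sum.inr u)) ∈ Ideal.ofList (L ++ List.ofFn w) := fun u =>
    Ideal.subset_span ((hmemL _).mpr (Or.inl ⟨u, rfl⟩))
  have hJ₂w : ∀ j, w j ∈ Ideal.ofList (L ++ List.ofFn w) := fun j =>
    Ideal.subset_span ((hmemL _).mpr (Or.inr ⟨j, rfl⟩))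
  -- (j1)
  have hj1 : ∀ x ∈ L ++ List.ofFn w, ∃ a : ℕ, (G * Δ) ^ a * x ∈ Ideal.ofList (List.ofFn lf) := by
    intro x hx
    rcases (hmemL x).mp hx with ⟨u, rfl⟩ | ⟨j, rfl⟩
    · refine ⟨0, ?_⟩
      rw [pow_zero, one_mul, hofl]
      exact Ideal.subset_span ⟨_, rfl⟩
    · refine ⟨e, ?_⟩
      rw [hofl, mul_pow, mul_comm (G ^ e), mul_assoc]
      exact Ideal.mul_mem_left _ _ (he j)
  -- (j2)
  have hsplit : ∀ j, ∑ s, α j (S s) * lf (S s) =
      G ^ e * w j - ∑ u, α j (ε (Sum.inr u)) * lf (ε (Sum.inr u)) := by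
    intro j
    rw [eq_sub_iff_add_eq, ← hα j, ← Equiv.sum_comp ε (fun t => α j t * lf t),
      Fintype.sum_sum_type]
    simp only [hε]
  have hΔmem : ∀ s, Δ * lf (S s) ∈ Ideal.ofList (L ++ List.ofFn w) := by
    intro s
    refine det_mul_mem_span (Matrix.of fun j s => α j (S s)) (fun s => lf (S s)) _ rfl _ ?_ s
    intro j
    show ∑ s, α j (S s) * lf (S s) ∈ _
    rw [hsplit]
    exact Ideal.sub_mem _ (Ideal.mul_mem_left _ _ (hJ₂w j))
      (Ideal.sum_mem _ fun u _ => Ideal.mul_mem_left _ _ (hJ₂L u))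
  have hj2 : ∀ x ∈ List.ofFn lf, ∃ a : ℕ, (G * Δ) ^ a * x ∈ Ideal.ofList (L ++ List.ofFn w) := by
    intro x hx
    obtain ⟨t, rfl⟩ := (List.mem_ofFn' _ _).mp hx
    obtain ⟨y, rfl⟩ := ε.surjective t
    rcases y with s | u
    · refine ⟨1, ?_⟩
      rw [pow_one, hε, mul_assoc]
      exact Ideal.mul_mem_left _ _ (hΔmem s)
    · refine ⟨0, ?_⟩
      rw [pow_zero, one_mul]
      exact hJ₂L u
  have hlen : (L ++ List.ofFn w).length = (List.ofFn lf).length := by
    rw [List.length_append, List.length_ofFn, List.length_ofFn, List.length_ofFn]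
    omega
  refine ⟨G * Δ, fun hmem => ?_, L, ⟨?_, ?_⟩,
    torsAt_of_length_eq (TorsAt.mul_right htors Δ) hj1 hj2 hlen⟩
  · rcases Ideal.IsPrime.mem_or_mem inferInstance hmem with h | h
    · exact hG h
    · exact hS h
  · intro x hx
    obtain ⟨a, ha⟩ := hgen.1 x hx
    have h1 : (G * Δ) ^ a * x ∈ Ideal.ofList (List.ofFn lf) := by
      rw [mul_pow, mul_comm (G ^ a), mul_assoc]
      exact Ideal.mul_mem_left _ _ ha
    obtain ⟨b, hb⟩ := exists_pow_mul_mem_of_mem_ofList hj2 h1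
    refine ⟨b + a, ?_⟩
    rw [pow_add, mul_assoc]
    exact hb
  · intro x hx
    rcases (hmemL x).mp hx with ⟨u, rfl⟩ | ⟨j, rfl⟩
    · obtain ⟨a, ha⟩ := hgen.2 (lf (ε (Sum.inr u))) ((List.mem_ofFn' _ _).mpr ⟨_, rfl⟩)
      refine ⟨a, ?_⟩
      rw [mul_pow, mul_comm (G ^ a), mul_assoc]
      exact Ideal.mul_mem_left _ _ ha
    · exact ⟨0, by rw [pow_zero, one_mul]; exact hw j⟩

end Swap

section StepD
variable {D C : Type u} [CommRing D] [CommRing C] (π : D →+* C) (hπ : Function.Surjective π)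
  {k : ℕ} (w : Fin k → D) (hker : RingHom.ker π = Ideal.ofList (List.ofFn w))
  (hws : LCI.IsKoszulRegularSeq D (List.ofFn w)) {R₀ : Type*} [CommSemiring R₀] [Algebra R₀ D]
  (d : Fin k → Derivation R₀ D D)

include hπ hker hws in
/-- descent of Koszul-regularity of an ideal along a surjection whose kernel is generated by a
Koszul-regular sequence which is transversal in the sense of derivations -/
theorem isKoszulRegularIdeal_of_comap (I : Ideal C)
    (hdet : ∀ 𝔔 : Ideal D, 𝔔.IsPrime → I.comap π ≤ 𝔔 →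
      Matrix.det (Matrix.of fun j i => d i (w j)) ∉ 𝔔)
    (h : LCI.IsKoszulRegularIdeal (I.comap π)) : LCI.IsKoszulRegularIdeal I := by
  rw [isKoszulRegularIdeal_iff] at h ⊢
  intro 𝔮 h𝔮 hI
  have h𝔔 : (𝔮.comap π).IsPrime := Ideal.comap_isPrime π 𝔮
  have hle : I.comap π ≤ 𝔮.comap π := Ideal.comap_mono hI
  obtain ⟨G, hG, l, hgen, htors⟩ := h (𝔮.comap π) h𝔔 hle
  have hwK : ∀ j, w j ∈ I.comap π := by
    intro j
    have : w j ∈ RingHom.ker π := by
      rw [hker]; exact Ideal.subset_span ((List.mem_ofFn' _ _).mpr ⟨j, rfl⟩)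
    rw [Ideal.mem_comap, (RingHom.mem_ker).mp this]
    exact I.zero_mem
  obtain ⟨G₂, hG₂, L, hgen₂, htors₂⟩ := exists_swap (I.comap π) (𝔮.comap π) hle w hwK d
    (hdet _ h𝔔 hle) G hG l hgen htors
  have hzero : ∀ x ∈ (List.ofFn w).map π, x = 0 := by
    intro x hx
    obtain ⟨y, hy, rfl⟩ := List.mem_map.mp hx
    have : y ∈ RingHom.ker π := by rw [hker]; exact Ideal.subset_span hy
    exact (RingHom.mem_ker).mp this
  have hof : Ideal.ofList ((L ++ List.ofFn w).map π) = Ideal.ofList (L.map π) := by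
    rw [List.map_append, Ideal.ofList_append]
    have : Ideal.ofList ((List.ofFn w).map π) = ⊥ := by
      rw [eq_bot_iff]
      refine Ideal.span_le.mpr fun x hx => ?_
      rw [hzero x hx]
      exact Ideal.zero_mem _
    rw [this, sup_bot_eq]
  refine ⟨π G₂, fun hmem => hG₂ hmem, L.map π, ⟨?_, ?_⟩, ?_⟩
  · intro x hx
    obtain ⟨y, rfl⟩ := hπ x
    obtain ⟨a, ha⟩ := hgen₂.1 y hx
    refine ⟨a, ?_⟩
    have := Ideal.mem_map_of_mem π ha
    rwa [Ideal.map_ofList, hof, map_mul, map_pow] at this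
  · intro x hx
    obtain ⟨y, hy, rfl⟩ := List.mem_map.mp hx
    obtain ⟨a, ha⟩ := hgen₂.2 y (List.mem_append_left _ hy)
    refine ⟨a, ?_⟩
    rw [← map_pow, ← map_mul]
    exact ha
  · exact (torsAt_append_iff π hπ (List.ofFn w) L hker hws G₂).mp htors₂

end StepD

end Groth.Agent.Lib.T2H7.KRegD
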