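import Mathlib
import Groth.Agent.Lib.T2H7KRegB
import Groth.Agent.Lib.T2H7KRegD
import Groth.Agent.Lib.T2H9KoszulCot

/-!
# Faithfully flat descent of Koszul-regular ideals (helper7)

* `qr1`, `qr1_tors`: degree one quasi-regularity of Koszul-regular sequences.
* `sel`: selection of a Koszul-regular generating subfamily from a generating family.
* `localGlobal`: generation and Koszul torsion are local on `D(g)`.
* `kreg_map_iff_of_flat`, `kreg_of_map_of_faithfullyFlat`, `torsAt_of_map_of_faithfullyFlat`,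
  `genAt_of_map_of_faithfullyFlat`, `exists_mul_mem_of_liesOver`, `exists_fin_span_of_map`:
  flat base change and faithfully flat descent.
* `transfer`, `genAt_of_transfer`, `sat`: saturation of the good locus.
* `isKoszulRegularIdeal_of_faithfullyFlat`: Koszul-regular ideals descend along faithfully flat maps.
-/

set_option autoImplicit false

namespace Groth.Agent.Lib.T2H7.KRegH
open Groth.Agent.Lib.T2H7.KRegA Groth.Agent.Lib.T2H7.KRegB Groth.Agent.Lib.T2H7.KRegD
open CategoryTheory CochainComplex MonoidalCategory CohIII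
open Groth.Agent.Helper13Kz Groth.Agent.Helper13KzLift
open scoped TensorProduct

universe u

section General
variable {C : Type u} [CommRing C]

lemma ofList_ofFn' {r : ℕ} (g : Fin r → C) :
    Ideal.ofList (List.ofFn g) = Ideal.span (Set.range g) := by
  unfold Ideal.ofList
  congr 1
  ext x
  exact List.mem_ofFn' g x

/-- degree one quasi-regularity of a Koszul-regular sequence -/
theorem qr1 {r : ℕ} (l : Fin r → C) (hl : LCI.IsKoszulRegularSeq C (List.ofFn l))
    (c : Fin r → C) (h : ∑ j, c j * l j = 0) (j : Fin r) : c j ∈ Ideal.span (Set.range l) := by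
  classical
  have hq := Groth.Agent.Lib.T2H9.KoszulCot.isQuasiRegular_of_isKoszulRegularSeq_ofFn l hl
  let P : MvPolynomial (Fin r) C := ∑ j, MvPolynomial.C (c j) * MvPolynomial.X j
  have hP : P.IsHomogeneous 1 := by
    apply MvPolynomial.IsHomogeneous.sum
    intro j _
    have := (MvPolynomial.isHomogeneous_C (Fin r) (c j)).mul (MvPolynomial.isHomogeneous_X C j)
    simpa using this
  have heval : MvPolynomial.eval l P ∈ Ideal.span (Set.range l) ^ (1 + 1) := by
    have : MvPolynomial.eval l P = 0 := by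
      simp only [P, map_sum, map_mul, MvPolynomial.eval_C, MvPolynomial.eval_X]
      exact h
    rw [this]
    exact Ideal.zero_mem _
  have hcoef := hq 1 P hP heval (Finsupp.single j 1)
  have hcoef' : P.coeff (Finsupp.single j 1) = c j := by
    simp only [P, MvPolynomial.coeff_sum, MvPolynomial.coeff_C_mul, MvPolynomial.coeff_X]
    rw [Finset.sum_eq_single j]
    · simp
    · intro b _ hb
      have : Finsupp.single b 1 ≠ Finsupp.single j 1 := by
        intro h
        exact hb ((Finsupp.single_left_injective one_ne_zero) h)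
      simp [this]
    · intro h; exact absurd (Finset.mem_univ j) h
  rwa [hcoef'] at hcoef

/-- the torsion form of `qr1` -/
theorem qr1_tors {r : ℕ} (G : C) (l : Fin r → C) (hl : TorsAt G (List.ofFn l))
    (c : Fin r → C) (h : ∑ j, c j * l j = 0) (j : Fin r) :
    ∃ n : ℕ, G ^ n * c j ∈ Ideal.ofList (List.ofFn l) := by
  rw [← isKoszulRegularSeq_away_iff, List.map_ofFn] at hl
  let φ := algebraMap C (Localization.Away G)
  have h1 : ∑ j, (φ (c j)) * (φ ∘ l) j = 0 := by
    simp only [Function.comp_apply, ← map_mul, ← map_sum, h, map_zero]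
  have h2 := qr1 (φ ∘ l) hl (fun j => φ (c j)) h1 j
  have h3 : Ideal.span (Set.range (φ ∘ l)) = (Ideal.ofList (List.ofFn l)).map φ := by
    rw [ofList_ofFn', Ideal.map_span, ← Set.range_comp]
  rw [h3] at h2
  rw [IsLocalization.algebraMap_mem_map_algebraMap_iff (Submonoid.powers G)] at h2
  obtain ⟨m, ⟨k, rfl⟩, hm⟩ := h2
  exact ⟨k, hm⟩

lemma pow_mul_mem_of_dvd {J : Ideal C} {g g₂ x : C} {k : ℕ} (hd : g ∣ g₂)
    (h : g ^ k * x ∈ J) : g₂ ^ k * x ∈ J := by
  obtain ⟨c, rfl⟩ := hd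
  have : (g * c) ^ k * x = c ^ k * (g ^ k * x) := by ring
  rw [this]
  exact J.mul_mem_left _ h

lemma pow_mul_mem_of_le {J : Ideal C} {g x : C} {k m : ℕ} (hkm : k ≤ m)
    (h : g ^ k * x ∈ J) : g ^ m * x ∈ J := by
  obtain ⟨d, rfl⟩ := Nat.exists_eq_add_of_le hkm
  have : g ^ (k + d) * x = g ^ d * (g ^ k * x) := by ring
  rw [this]
  exact J.mul_mem_left _ h

lemma exists_common {ι : Type*} [Fintype ι] (P : ι → ℕ → Prop)
    (hmono : ∀ i n m, n ≤ m → P i n → P i m) (h : ∀ i, ∃ n, P i n) : ∃ N, ∀ i, P i N := by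
  choose n hn using h
  exact ⟨Finset.univ.sup n, fun i => hmono i _ _ (Finset.le_sup (Finset.mem_univ i)) (hn i)⟩

lemma exists_pow_mem_of_forall_prime (K : Ideal C) (g : C)
    (h : ∀ 𝔮 : Ideal C, 𝔮.IsPrime → K ≤ 𝔮 → g ∈ 𝔮) : ∃ n : ℕ, g ^ n ∈ K := by
  have : g ∈ K.radical := by
    rw [Ideal.radical_eq_sInf, Ideal.mem_sInf]
    intro 𝔮 h𝔮
    exact h 𝔮 h𝔮.2 h𝔮.1
  exact this

/-- selection lemma: from a generating family `h` of an ideal which is generated near `𝔮` by a
Koszul-regular sequence `l`, one can select `r = length l` members generating the ideal near `𝔮`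
and forming a Koszul-regular sequence near `𝔮` -/
theorem sel (𝔮 : Ideal C) [𝔮.IsPrime] (J : Ideal C) (hJ : J ≤ 𝔮) {r s : ℕ} (l : Fin r → C)
    (h : Fin s → C) (G G' : C) (hG : G ∉ 𝔮) (hG' : G' ∉ 𝔮) (hgen : GenAt G J (List.ofFn l))
    (htors : TorsAt G (List.ofFn l)) (hgen' : GenAt G' J (List.ofFn h)) :
    ∃ S : Fin r ↪ Fin s, ∃ G₂ : C, G₂ ∉ 𝔮 ∧ GenAt G₂ J (List.ofFn (h ∘ S)) ∧
      TorsAt G₂ (List.ofFn (h ∘ S)) := by
  classical
  set H := G * G' with hH
  have hGH : G ∣ H := Dvd.intro _ rfl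
  have hG'H : G' ∣ H := Dvd.intro_left _ rfl
  -- step A/B: common exponent
  have hA : ∀ j, ∃ n, H ^ n * l j ∈ Ideal.span (Set.range h) := by
    intro j
    obtain ⟨k, hk⟩ := hgen.2 (l j) ((List.mem_ofFn' l (l j)).mpr ⟨j, rfl⟩)
    obtain ⟨k', hk'⟩ := hgen'.1 _ hk
    rw [ofList_ofFn'] at hk'
    refine ⟨k' + k, ?_⟩
    have h1 : H ^ k' * (G ^ k * l j) ∈ Ideal.span (Set.range h) := pow_mul_mem_of_dvd hG'H hk'
    have h2 : H ^ k' * (H ^ k * l j) ∈ Ideal.span (Set.range h) := by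
      obtain ⟨c, hc⟩ := hGH
      have : H ^ k' * (H ^ k * l j) = c ^ k * (H ^ k' * (G ^ k * l j)) := by
        rw [hc]; ring
      rw [this]
      exact Ideal.mul_mem_left _ _ h1
    rwa [pow_add, mul_assoc]
  have hB : ∀ t, ∃ n, H ^ n * h t ∈ Ideal.span (Set.range l) := by
    intro t
    obtain ⟨k, hk⟩ := hgen'.2 (h t) ((List.mem_ofFn' h (h t)).mpr ⟨t, rfl⟩)
    obtain ⟨k', hk'⟩ := hgen.1 _ hk
    rw [ofList_ofFn'] at hk'
    refine ⟨k' + k, ?_⟩
    have h1 : H ^ k' * (G' ^ k * h t) ∈ Ideal.span (Set.range l) := pow_mul_mem_of_dvd hGH hk'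
    have h2 : H ^ k' * (H ^ k * h t) ∈ Ideal.span (Set.range l) := by
      obtain ⟨c, hc⟩ := hG'H
      have : H ^ k' * (H ^ k * h t) = c ^ k * (H ^ k' * (G' ^ k * h t)) := by
        rw [hc]; ring
      rw [this]
      exact Ideal.mul_mem_left _ _ h1
    rwa [pow_add, mul_assoc]
  obtain ⟨N₁, hN₁⟩ := exists_common (fun j n => H ^ n * l j ∈ Ideal.span (Set.range h))
    (fun j n m hnm hn => pow_mul_mem_of_le hnm hn) hA
  obtain ⟨N₂, hN₂⟩ := exists_common (fun t n => H ^ n * h t ∈ Ideal.span (Set.range l))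
    (fun t n m hnm hn => pow_mul_mem_of_le hnm hn) hB
  set N := max N₁ N₂ with hN
  have hA' : ∀ j, ∃ u : Fin s → C, ∑ t, u t * h t = H ^ N * l j := fun j => by
    have := pow_mul_mem_of_le (le_max_left N₁ N₂) (hN₁ j)
    rw [Ideal.mem_span_range_iff_exists_fun] at this
    exact this
  have hB' : ∀ t, ∃ v : Fin r → C, ∑ j, v j * l j = H ^ N * h t := fun t => by
    have := pow_mul_mem_of_le (le_max_right N₁ N₂) (hN₂ t)
    rw [Ideal.mem_span_range_iff_exists_fun] at this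
    exact this
  choose u hu using hA'
  choose v hv using hB'
  -- step C
  have hC : ∀ i j, (∑ t, u i t * v t j) - (if i = j then H ^ (2 * N) else 0) ∈ 𝔮 := by
    intro i j
    have hrel : ∑ j', ((∑ t, u i t * v t j') - (if i = j' then H ^ (2 * N) else 0)) * l j' = 0 := by
      simp only [sub_mul, Finset.sum_sub_distrib]
      have e1 : ∑ j', (∑ t, u i t * v t j') * l j' = H ^ (2 * N) * l i := by
        calc ∑ j', (∑ t, u i t * v t j') * l j'
            = ∑ t, u i t * ∑ j', v t j' * l j' := by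
              simp only [Finset.sum_mul, Finset.mul_sum]
              rw [Finset.sum_comm]
              exact Finset.sum_congr rfl fun t _ => Finset.sum_congr rfl fun j' _ => by ring
          _ = ∑ t, u i t * (H ^ N * h t) := by simp only [hv]
          _ = H ^ N * ∑ t, u i t * h t := by
              rw [Finset.mul_sum]
              exact Finset.sum_congr rfl fun t _ => by ring
          _ = H ^ (2 * N) * l i := by rw [hu]; ring
      have e2 : ∑ j', (if i = j' then H ^ (2 * N) else 0) * l j' = H ^ (2 * N) * l i := by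
        simp
      rw [e1, e2, sub_self]
    obtain ⟨n, hn⟩ := qr1_tors G l htors _ hrel j
    obtain ⟨k, hk⟩ := exists_pow_mul_mem_of_mem_ofList hgen.2 hn
    have h3 := hJ hk
    rw [← mul_assoc, ← pow_add] at h3
    rcases Ideal.IsPrime.mem_or_mem inferInstance h3 with h4 | h4
    · exact absurd (Ideal.IsPrime.mem_of_pow_mem inferInstance _ h4) hG
    · exact h4
  -- step D
  have hH𝔮 : H ∉ 𝔮 := fun hmem =>
    (Ideal.IsPrime.mem_or_mem inferInstance hmem).elim hG hG'
  obtain ⟨S, hS⟩ := exists_minor_not_mem 𝔮 (fun j t => v t j) (fun t i => u i t)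
    (Matrix.diagonal fun _ => H ^ (2 * N))
    (by
      rw [Matrix.det_diagonal, Finset.prod_const]
      exact fun hmem => hH𝔮 (Ideal.IsPrime.mem_of_pow_mem inferInstance _
        (Ideal.IsPrime.mem_of_pow_mem inferInstance _ hmem)))
    (by
      intro j i
      have := hC i j
      rw [Matrix.diagonal_apply]
      have e : ∑ t, v t j * u i t = ∑ t, u i t * v t j :=
        Finset.sum_congr rfl fun t _ => mul_comm _ _
      rw [e]
      by_cases hij : i = j
      · subst hij; simpa using this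
      · rw [if_neg hij] at this
        rw [if_neg (fun hji => hij hji.symm)]
        exact this)
  set D := Matrix.det (Matrix.of fun j s' => v (S s') j) with hD
  have hDl : ∀ j, D * l j ∈ Ideal.span (Set.range (h ∘ S)) := by
    intro j
    have hdet : D = Matrix.det (Matrix.of fun s' j => v (S s') j) := by
      rw [hD, ← Matrix.det_transpose]
      rfl
    rw [hdet]
    refine det_mul_mem_span (Matrix.of fun s' j => v (S s') j) l (fun s' => H ^ N * h (S s'))
      ?_ _ ?_ j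
    · funext s'
      simp only [Matrix.mulVec, dotProduct, Matrix.of_apply]
      exact hv (S s')
    · intro s'
      exact Ideal.mul_mem_left _ _ (Ideal.subset_span ⟨s', rfl⟩)
  have hG2 : G ∣ H * D := Dvd.dvd.mul_right hGH D
  have hG'2 : G' ∣ H * D := Dvd.dvd.mul_right hG'H D
  have hD2 : D ∣ H * D := Dvd.intro_left _ rfl
  -- members of `l` are in `(h ∘ S)` up to `H * D`
  have hl2 : ∀ x ∈ List.ofFn l, ∃ k : ℕ, (H * D) ^ k * x ∈ Ideal.ofList (List.ofFn (h ∘ S)) := by
    intro x hx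
    obtain ⟨j, rfl⟩ := (List.mem_ofFn' l x).mp hx
    refine ⟨1, ?_⟩
    rw [ofList_ofFn']
    have := hDl j
    rw [← pow_one D] at this
    exact pow_mul_mem_of_dvd hD2 this
  -- members of `h ∘ S` are in `J` up to `H * D`
  have hh2 : ∀ x ∈ List.ofFn (h ∘ S), ∃ k : ℕ, (H * D) ^ k * x ∈ J := by
    intro x hx
    obtain ⟨s', rfl⟩ := (List.mem_ofFn' (h ∘ S) x).mp hx
    obtain ⟨k, hk⟩ := hgen'.2 (h (S s')) ((List.mem_ofFn' h _).mpr ⟨S s', rfl⟩)
    exact ⟨k, pow_mul_mem_of_dvd hG'2 hk⟩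
  -- elements of `J` are in `(l)` up to `H * D`
  have hJl : ∀ x ∈ J, ∃ k : ℕ, (H * D) ^ k * x ∈ Ideal.ofList (List.ofFn l) := by
    intro x hx
    obtain ⟨k, hk⟩ := hgen.1 x hx
    exact ⟨k, pow_mul_mem_of_dvd hG2 hk⟩
  refine ⟨S, H * D, ?_, ?_, ?_⟩
  · exact fun hmem => (Ideal.IsPrime.mem_or_mem inferInstance hmem).elim hH𝔮 hS
  · refine ⟨?_, hh2⟩
    intro x hx
    obtain ⟨k, hk⟩ := hJl x hx
    obtain ⟨k', hk'⟩ := exists_pow_mul_mem_of_mem_ofList hl2 hk
    refine ⟨k' + k, ?_⟩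
    rwa [pow_add, mul_assoc]
  · refine torsAt_of_length_eq (l := List.ofFn l) ?_ ?_ hl2 (by simp)
    · rw [mul_assoc]
      exact TorsAt.mul_right htors _
    · intro x hx
      obtain ⟨k, hk⟩ := hh2 x hx
      obtain ⟨k', hk'⟩ := hJl _ hk
      refine ⟨k' + k, ?_⟩
      rwa [pow_add, mul_assoc]

/-- local to global: generation and Koszul torsion near every prime of `D(g)` give them on `D(g)` -/
theorem localGlobal (g : C) (J : Ideal C) (l : List C)
    (h : ∀ 𝔮 : Ideal C, 𝔮.IsPrime → g ∉ 𝔮 → ∃ G : C, G ∉ 𝔮 ∧ GenAt G J l ∧ TorsAt G l) :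
    GenAt g J l ∧ TorsAt g l := by
  refine ⟨⟨?_, ?_⟩, ?_⟩
  · intro x hx
    let K : Ideal C := Ideal.torsionOf C (C ⧸ Ideal.ofList l) (Ideal.Quotient.mk _ x)
    have hK : ∀ b : C, b ∈ K ↔ b * x ∈ Ideal.ofList l := fun b => by
      rw [Ideal.mem_torsionOf_iff, ← Ideal.Quotient.eq_zero_iff_mem, map_mul]
      rfl
    obtain ⟨n, hn⟩ := exists_pow_mem_of_forall_prime K g (by
      intro 𝔮 h𝔮 hle
      by_contra hg
      obtain ⟨G, hG, hgen, -⟩ := h 𝔮 h𝔮 hg
      obtain ⟨k, hk⟩ := hgen.1 x hx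
      exact hG (Ideal.IsPrime.mem_of_pow_mem h𝔮 _ (hle ((hK _).mpr hk))))
    exact ⟨n, (hK _).mp hn⟩
  · intro x hx
    let K : Ideal C := Ideal.torsionOf C (C ⧸ J) (Ideal.Quotient.mk _ x)
    have hK : ∀ b : C, b ∈ K ↔ b * x ∈ J := fun b => by
      rw [Ideal.mem_torsionOf_iff, ← Ideal.Quotient.eq_zero_iff_mem, map_mul]
      rfl
    obtain ⟨n, hn⟩ := exists_pow_mem_of_forall_prime K g (by
      intro 𝔮 h𝔮 hle
      by_contra hg
      obtain ⟨G, hG, hgen, -⟩ := h 𝔮 h𝔮 hg
      obtain ⟨k, hk⟩ := hgen.2 x hx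
      exact hG (Ideal.IsPrime.mem_of_pow_mem h𝔮 _ (hle ((hK _).mpr hk))))
    exact ⟨n, (hK _).mp hn⟩
  · intro i hi z
    let K : Ideal C := Ideal.torsionOf C _ z
    obtain ⟨n, hn⟩ := exists_pow_mem_of_forall_prime K g (by
      intro 𝔮 h𝔮 hle
      by_contra hg
      obtain ⟨G, hG, -, htors⟩ := h 𝔮 h𝔮 hg
      obtain ⟨k, hk⟩ := htors i hi z
      exact hG (Ideal.IsPrime.mem_of_pow_mem h𝔮 _ (hle ((Ideal.mem_torsionOf_iff _ _).mpr hk))))
    exact ⟨n, (Ideal.mem_torsionOf_iff _ _).mp hn⟩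

end General

section Flat
variable {S T : Type u} [CommRing S] [CommRing T] [Algebra S T]

/-- Koszul-regularity after a flat base change in terms of the Koszul homology of the base -/
theorem kreg_map_iff_of_flat [Module.Flat S T] (l : List S) :
    LCI.IsKoszulRegularSeq T (l.map (algebraMap S T)) ↔
      ∀ i : ℤ, i ≠ 0 → Subsingleton (KH l S i ⊗[S] T) := by
  rw [isKoszulRegularSeq_iff]
  refine forall_congr' fun i => forall_congr' fun hi => ?_
  let φ := algebraMap S T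
  let E := (restrictHomologyIso φ (ModuleCat.of T T) l i).toLinearEquiv
  let e0 : ((ModuleCat.restrictScalars φ).obj (ModuleCat.of T T)) ≃ₗ[S] T :=
    { toFun := fun x => x
      invFun := fun x => x
      map_add' := fun _ _ => rfl
      map_smul' := fun b x => by
        show algebraMap S T b • (id x : T) = b • (id x : T)
        rw [Algebra.smul_def b (id x : T), smul_eq_mul]
      left_inv := fun _ => rfl
      right_inv := fun _ => rfl }
  let e1 := e0.trans (TensorProduct.lid S T).symm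
  have s1 : Subsingleton (KH (l.map φ) T i) ↔
      Subsingleton (KH l ((ModuleCat.restrictScalars φ).obj (ModuleCat.of T T)) i) :=
    ⟨fun h => by
      have h' : Subsingleton ↑((ModuleCat.restrictScalars φ).obj
        ((koszulCx (ModuleCat.of T T) (l.map φ)).homology i)) := h
      exact E.symm.toEquiv.subsingleton, fun h => E.toEquiv.subsingleton⟩
  have s2 : Subsingleton (KH l ((ModuleCat.restrictScalars φ).obj (ModuleCat.of T T)) i) ↔
      Subsingleton (KH l (S ⊗[S] T) i) :=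
    ⟨fun h => subsingleton_KH_of_equiv l e1 i h, fun h => subsingleton_KH_of_equiv l e1.symm i h⟩
  rw [s1, s2, subsingleton_KH_tensor_iff]

/-- faithfully flat descent of Koszul-regularity of a sequence -/
theorem kreg_of_map_of_faithfullyFlat [Module.FaithfullyFlat S T] (l : List S)
    (h : LCI.IsKoszulRegularSeq T (l.map (algebraMap S T))) : LCI.IsKoszulRegularSeq S l := by
  rw [kreg_map_iff_of_flat] at h
  rw [isKoszulRegularSeq_iff]
  intro i hi
  have := h i hi
  exact Module.FaithfullyFlat.rTensor_reflects_triviality S T _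

end Flat

section Descent
variable {A B : Type u} [CommRing A] [CommRing B] [Algebra A B]

attribute [local instance] Algebra.TensorProduct.rightAlgebra

/-- torsion of Koszul homology descends along a faithfully flat ring map -/
theorem torsAt_of_map_of_faithfullyFlat [Module.FaithfullyFlat A B] (g : A) (l : List A)
    (h : TorsAt (algebraMap A B g) (l.map (algebraMap A B))) : TorsAt g l := by
  let Ag := Localization.Away g
  let T := Ag ⊗[A] B
  have hloc : IsLocalization.Away (algebraMap A B g) T := inferInstance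
  have hflat : Module.Flat B T := IsLocalization.flat T (Submonoid.powers (algebraMap A B g))
  have hff : Module.FaithfullyFlat Ag T := inferInstance
  -- step 1
  have h1 : LCI.IsKoszulRegularSeq T ((l.map (algebraMap A B)).map (algebraMap B T)) := by
    rw [kreg_map_iff_of_flat]
    intro i hi
    refine ⟨fun x y => ?_⟩
    have hz : ∀ w : KH (l.map (algebraMap A B)) B i ⊗[B] T, w = 0 := by
      intro w
      induction w using TensorProduct.induction_on with
      | zero => rfl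
      | add a b ha hb => rw [ha, hb, add_zero]
      | tmul z t =>
        obtain ⟨k, hk⟩ := h i hi z
        have hu : IsUnit (algebraMap B T ((algebraMap A B g) ^ k)) := by
          rw [map_pow]
          exact (IsLocalization.Away.algebraMap_isUnit (algebraMap A B g)).pow k
        obtain ⟨t', ht'⟩ : ∃ t' : T, t = ((algebraMap A B g) ^ k) • t' := by
          refine ⟨hu.unit⁻¹ * t, ?_⟩
          rw [Algebra.smul_def, ← mul_assoc, IsUnit.mul_val_inv, one_mul]
        have e := TensorProduct.smul_tmul (R := B) (R' := B) ((algebraMap A B g) ^ k) z t'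
        rw [ht']
        refine Eq.trans e.symm ?_
        rw [hk, TensorProduct.zero_tmul]
    rw [hz x, hz y]
  -- step 2
  have h2 : (l.map (algebraMap A B)).map (algebraMap B T) =
      (l.map (algebraMap A Ag)).map (algebraMap Ag T) := by
    rw [List.map_map, List.map_map]
    apply List.map_congr_left
    intro a _
    simp only [Function.comp_apply]
    rw [← IsScalarTower.algebraMap_apply A B T, ← IsScalarTower.algebraMap_apply A Ag T]
  rw [h2] at h1
  have h3 := kreg_of_map_of_faithfullyFlat _ h1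
  exact (isKoszulRegularSeq_away_iff g l).mp h3

/-- generation descends along a faithfully flat ring map -/
theorem genAt_of_map_of_faithfullyFlat [Module.FaithfullyFlat A B] (g : A) (I : Ideal A)
    (l : List A) (hl : ∀ x ∈ l, x ∈ I)
    (h : GenAt (algebraMap A B g) (I.map (algebraMap A B)) (l.map (algebraMap A B))) :
    GenAt g I l := by
  refine ⟨fun x hx => ?_, fun x hx => ⟨0, by simpa using hl x hx⟩⟩
  obtain ⟨k, hk⟩ := h.1 _ (Ideal.mem_map_of_mem _ hx)
  refine ⟨k, ?_⟩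
  rw [← Ideal.map_ofList, ← map_pow, ← map_mul] at hk
  have := Ideal.mem_comap.mpr hk
  rwa [Ideal.comap_map_eq_self_of_faithfullyFlat] at this

/-- descent of ideal membership to the local ring of the prime below -/
theorem exists_mul_mem_of_liesOver [Module.Flat A B] (𝔭 : Ideal A) [𝔭.IsPrime] (𝔮 : Ideal B)
    [𝔮.IsPrime] [𝔮.LiesOver 𝔭] (K : Ideal A) (a : A) (G : B) (hG : G ∉ 𝔮)
    (h : G * algebraMap A B a ∈ K.map (algebraMap A B)) : ∃ t : A, t ∉ 𝔭 ∧ t * a ∈ K := by
  let Ap := Localization.AtPrime 𝔭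
  let Bq := Localization.AtPrime 𝔮
  let _ := Localization.AtPrime.algebraOfLiesOver 𝔭 𝔮
  have : IsLocalHom (algebraMap Ap Bq) := by
    rw [RingHom.algebraMap_toAlgebra]
    exact Localization.isLocalHom_localRingHom 𝔭 𝔮 (algebraMap A B) Ideal.LiesOver.over
  have hff : Module.FaithfullyFlat Ap Bq := Module.FaithfullyFlat.of_flat_of_isLocalHom
  have h1 : algebraMap B Bq (G * algebraMap A B a) ∈
      (K.map (algebraMap A B)).map (algebraMap B Bq) := Ideal.mem_map_of_mem _ h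
  rw [map_mul] at h1
  have hu : IsUnit (algebraMap B Bq G) :=
    IsLocalization.map_units Bq (⟨G, hG⟩ : 𝔮.primeCompl)
  rw [Ideal.unit_mul_mem_iff_mem _ hu, Ideal.map_map,
    ← IsScalarTower.algebraMap_eq A B Bq, IsScalarTower.algebraMap_eq A Ap Bq, ← Ideal.map_map,
    ← IsScalarTower.algebraMap_apply A B Bq, IsScalarTower.algebraMap_apply A Ap Bq] at h1
  have h2 := Ideal.mem_comap.mpr h1
  rw [Ideal.comap_map_eq_self_of_faithfullyFlat] at h2
  rw [IsLocalization.algebraMap_mem_map_algebraMap_iff 𝔭.primeCompl] at h2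
  obtain ⟨m, hm, hma⟩ := h2
  exact ⟨m, hm, hma⟩

/-- an ideal whose extension along a faithfully flat map is Koszul-regular is finitely generated -/
theorem exists_fin_span_of_map [Module.FaithfullyFlat A B] (I : Ideal A)
    (h : LCI.IsKoszulRegularIdeal (I.map (algebraMap A B))) :
    ∃ (K : ℕ) (a : Fin K → A), Ideal.span (Set.range a) = I := by
  classical
  set J := I.map (algebraMap A B) with hJ
  have hJfg : J.FG := by
    let t : Set B := {G | (J.map (algebraMap B (Localization.Away G))).FG}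
    refine Ideal.fg_of_localizationSpan t ?_ (fun g => g.2)
    by_contra hne
    obtain ⟨𝔪, h𝔪, hle⟩ := Ideal.exists_le_maximal _ hne
    have h𝔪p : 𝔪.IsPrime := h𝔪.isPrime
    by_cases hJ𝔪 : J ≤ 𝔪
    · obtain ⟨g, hg, l, -, hmap⟩ := h ⟨𝔪, h𝔪p⟩ hJ𝔪
      apply hg
      apply hle
      apply Ideal.subset_span
      show (J.map (algebraMap B (Localization.Away g))).FG
      rw [hmap]
      exact ⟨l.toFinset, by congr 1; ext x; simp⟩
    · obtain ⟨x, hxJ, hx𝔪⟩ := Set.not_subset.mp hJ𝔪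
      apply hx𝔪
      apply hle
      apply Ideal.subset_span
      show (J.map (algebraMap B (Localization.Away x))).FG
      have : J.map (algebraMap B (Localization.Away x)) = ⊤ :=
        Ideal.eq_top_of_isUnit_mem _ (Ideal.mem_map_of_mem _ hxJ)
          (IsLocalization.Away.algebraMap_isUnit x)
      rw [this]
      exact ⟨{1}, by simp⟩
  have hJspan : J = Ideal.span ((algebraMap A B) '' (I : Set A)) := rfl
  rw [hJspan] at hJfg
  obtain ⟨s', hs', hspan⟩ := (Submodule.fg_span_iff_fg_span_finset_subset _).mp hJfg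
  obtain ⟨s'', hs'', himg⟩ := Finset.subset_set_image_iff.mp hs'
  have hI₀ : Ideal.span (s'' : Set A) = I := by
    apply Ideal.map_injective_of_faithfullyFlat (B := B)
    show Ideal.map (algebraMap A B) (Ideal.span (s'' : Set A)) = Ideal.map (algebraMap A B) I
    rw [Ideal.map_span]
    have : (algebraMap A B) '' (s'' : Set A) = (s' : Set B) := by
      rw [← himg]; simp
    rw [this]
    exact hspan.symm
  have hfg : I.FG := ⟨s'', hI₀⟩
  exact (Submodule.fg_iff_exists_fin_generating_family).mp hfg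

end Descent

section Main
variable {A B : Type u} [CommRing A] [CommRing B] [Algebra A B]

lemma GenAt.of_dvd {C : Type u} [CommRing C] {g g₂ : C} {J : Ideal C} {l : List C} (hd : g ∣ g₂)
    (h : GenAt g J l) : GenAt g₂ J l :=
  ⟨fun x hx => by
    obtain ⟨k, hk⟩ := h.1 x hx
    exact ⟨k, pow_mul_mem_of_dvd hd hk⟩, fun x hx => by
    obtain ⟨k, hk⟩ := h.2 x hx
    exact ⟨k, pow_mul_mem_of_dvd hd hk⟩⟩

/-- generation near a prime of `B` by elements of `A` descends to the prime below -/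
theorem transfer [Module.Flat A B] (I : Ideal A) {K : ℕ} (a : Fin K → A)
    (ha : Ideal.span (Set.range a) = I) (𝔭 : Ideal A) [𝔭.IsPrime] (𝔮 : Ideal B) [𝔮.IsPrime]
    [𝔮.LiesOver 𝔭] {r : ℕ} (f : Fin r → A) (G : B) (hG : G ∉ 𝔮)
    (hgen : GenAt G (I.map (algebraMap A B)) (List.ofFn (algebraMap A B ∘ f))) :
    ∃ t : A, t ∉ 𝔭 ∧ ∀ x ∈ I, t * x ∈ Ideal.span (Set.range f) := by
  classical
  have h1 : ∀ k : Fin K, ∃ t : A, t ∉ 𝔭 ∧ t * a k ∈ Ideal.span (Set.range f) := by
    intro k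
    have hak : a k ∈ I := by rw [← ha]; exact Ideal.subset_span ⟨k, rfl⟩
    obtain ⟨n, hn⟩ := hgen.1 _ (Ideal.mem_map_of_mem _ hak)
    rw [ofList_ofFn', Set.range_comp, ← Ideal.map_span] at hn
    exact exists_mul_mem_of_liesOver 𝔭 𝔮 _ (a k) (G ^ n)
      (fun hmem => hG (Ideal.IsPrime.mem_of_pow_mem inferInstance _ hmem)) hn
  choose t ht using h1
  refine ⟨∏ k, t k, ?_, ?_⟩
  · have : ∏ k, t k ∈ 𝔭.primeCompl := prod_mem fun k _ => (ht k).1
    exact this
  · intro x hx
    rw [← ha] at hx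
    induction hx using Submodule.span_induction with
    | mem y hy =>
      obtain ⟨k, rfl⟩ := hy
      have : ∏ k', t k' = (∏ k' ∈ Finset.univ.erase k, t k') * t k := by
        rw [Finset.prod_erase_mul _ _ (Finset.mem_univ k)]
      rw [this, mul_assoc]
      exact Ideal.mul_mem_left _ _ (ht k).2
    | zero => simp
    | add y z _ _ hy hz => rw [mul_add]; exact Ideal.add_mem _ hy hz
    | smul c y _ hy =>
      rw [smul_eq_mul, mul_left_comm]
      exact Ideal.mul_mem_left _ _ hy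

theorem genAt_of_transfer (I : Ideal A) {r : ℕ} (f : Fin r → A) (hf : ∀ i, f i ∈ I) (t : A)
    (h : ∀ x ∈ I, t * x ∈ Ideal.span (Set.range f)) :
    GenAt (algebraMap A B t) (I.map (algebraMap A B)) (List.ofFn (algebraMap A B ∘ f)) := by
  refine ⟨fun x hx => ⟨1, ?_⟩, fun x hx => ⟨0, ?_⟩⟩
  · rw [pow_one, ofList_ofFn', Set.range_comp, ← Ideal.map_span]
    induction hx using Submodule.span_induction with
    | mem y hy =>
      obtain ⟨z, hz, rfl⟩ := hy
      rw [← map_mul]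
      exact Ideal.mem_map_of_mem _ (h z hz)
    | zero => simp
    | add y z _ _ hy hz => rw [mul_add]; exact Ideal.add_mem _ hy hz
    | smul c y _ hy =>
      rw [smul_eq_mul, mul_left_comm]
      exact Ideal.mul_mem_left _ _ hy
  · obtain ⟨i, rfl⟩ := (List.mem_ofFn' _ x).mp hx
    simpa using Ideal.mem_map_of_mem _ (hf i)

/-- the locus where a fixed family of elements of `I` is a Koszul-regular generating sequence of
`I B` is saturated for `Spec B → Spec A` -/
theorem sat [Module.FaithfullyFlat A B] (I : Ideal A)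
    (hI : LCI.IsKoszulRegularIdeal (I.map (algebraMap A B))) {K : ℕ} (a : Fin K → A)
    (ha : Ideal.span (Set.range a) = I) {r : ℕ} (f : Fin r → A) (hf : ∀ i, f i ∈ I)
    (𝔮₁ 𝔮₂ : Ideal B) [𝔮₁.IsPrime] [𝔮₂.IsPrime]
    (hcomap : 𝔮₁.comap (algebraMap A B) = 𝔮₂.comap (algebraMap A B))
    (h1 : ∃ G : B, G ∉ 𝔮₁ ∧ GenAt G (I.map (algebraMap A B)) (List.ofFn (algebraMap A B ∘ f)) ∧
      TorsAt G (List.ofFn (algebraMap A B ∘ f))) :
    ∃ G : B, G ∉ 𝔮₂ ∧ GenAt G (I.map (algebraMap A B)) (List.ofFn (algebraMap A B ∘ f)) ∧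
      TorsAt G (List.ofFn (algebraMap A B ∘ f)) := by
  classical
  set φ := algebraMap A B with hφ
  set J := I.map φ with hJ
  set 𝔭 := 𝔮₁.comap φ with h𝔭
  have h𝔭p : 𝔭.IsPrime := Ideal.comap_isPrime φ 𝔮₁
  have hl1 : 𝔮₁.LiesOver 𝔭 := ⟨rfl⟩
  have hl2 : 𝔮₂.LiesOver 𝔭 := ⟨hcomap⟩
  obtain ⟨G₁, hG₁, hgen₁, htors₁⟩ := h1
  have hfJ : ∀ i, φ (f i) ∈ J := fun i => Ideal.mem_map_of_mem _ (hf i)
  by_cases hI𝔭 : I ≤ 𝔭
  · have hJ1 : J ≤ 𝔮₁ := Ideal.map_le_iff_le_comap.mpr hI𝔭
    have hJ2 : J ≤ 𝔮₂ := Ideal.map_le_iff_le_comap.mpr (hcomap ▸ hI𝔭)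
    obtain ⟨G₂, hG₂, l₂, hgen₂, htors₂⟩ := (isKoszulRegularIdeal_iff J).mp hI 𝔮₂ inferInstance hJ2
    obtain ⟨s, lf, rfl⟩ : ∃ (s : ℕ) (lf : Fin s → B), l₂ = List.ofFn lf :=
      ⟨l₂.length, l₂.get, (List.ofFn_get l₂).symm⟩
    -- `f` generates near `𝔮₂`
    obtain ⟨t, ht, htI⟩ := transfer I a ha 𝔭 𝔮₁ f G₁ hG₁ hgen₁
    have hgt := genAt_of_transfer (B := B) I f hf t htI
    have ht2 : φ t ∉ 𝔮₂ := fun hmem => ht (by
      have h5 : t ∈ 𝔮₂.comap φ := hmem
      rw [← hcomap] at h5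
      exact h5)
    have ht1 : φ t ∉ 𝔮₁ := fun hmem => ht hmem
    -- `s ≤ r`
    obtain ⟨S, -⟩ := sel 𝔮₂ J hJ2 lf (φ ∘ f) G₂ (φ t) hG₂ ht2 hgen₂ htors₂ hgt
    have hsr : s ≤ r := by simpa using Fintype.card_le_of_embedding S
    -- `r ≤ s`
    have hgena : GenAt (1 : B) J (List.ofFn (φ ∘ a)) := by
      refine ⟨fun x hx => ⟨0, ?_⟩, fun x hx => ⟨0, ?_⟩⟩
      · rw [pow_zero, one_mul, ofList_ofFn', Set.range_comp, ← Ideal.map_span, ha]
        exact hx
      · obtain ⟨k, rfl⟩ := (List.mem_ofFn' _ x).mp hx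
        rw [pow_zero, one_mul]
        apply Ideal.mem_map_of_mem
        rw [← ha]; exact Ideal.subset_span ⟨k, rfl⟩
    obtain ⟨S₂, G₂', hG₂', hgen₂', -⟩ := sel 𝔮₂ J hJ2 lf (φ ∘ a) G₂ 1
      hG₂ (fun hmem => (Ideal.IsPrime.ne_top inferInstance) ((Ideal.eq_top_iff_one _).mpr hmem))
      hgen₂ htors₂ hgena
    have hcomp : (φ ∘ a) ∘ S₂ = φ ∘ (a ∘ S₂) := rfl
    rw [hcomp] at hgen₂'
    obtain ⟨t', ht', htI'⟩ := transfer I a ha 𝔭 𝔮₂ (a ∘ S₂) G₂' hG₂' hgen₂'
    have hgt' := genAt_of_transfer (B := B) I (a ∘ S₂)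
      (fun i => by rw [← ha]; exact Ideal.subset_span ⟨S₂ i, rfl⟩) t' htI'
    obtain ⟨S₁, -⟩ := sel 𝔮₁ J hJ1 (φ ∘ f) (φ ∘ (a ∘ S₂)) G₁ (φ t') hG₁ (fun hmem => ht' hmem)
      hgen₁ htors₁ hgt'
    have hrs : r ≤ s := by simpa using Fintype.card_le_of_embedding S₁
    have hrs' : r = s := le_antisymm hrs hsr
    -- conclusion
    refine ⟨G₂ * φ t, fun hmem => (Ideal.IsPrime.mem_or_mem inferInstance hmem).elim hG₂ ht2,
      GenAt.of_dvd (Dvd.intro_left _ rfl) hgt, ?_⟩
    have hd1 : G₂ ∣ G₂ * φ t := Dvd.intro _ rfl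
    have hd2 : φ t ∣ G₂ * φ t := Dvd.intro_left _ rfl
    refine torsAt_of_length_eq (l := List.ofFn lf) (TorsAt.mul_right htors₂ _) ?_ ?_ (by simp [hrs'])
    · intro x hx
      obtain ⟨i, rfl⟩ := (List.mem_ofFn' _ x).mp hx
      obtain ⟨k, hk⟩ := hgen₂.1 _ (hfJ i)
      exact ⟨k, pow_mul_mem_of_dvd hd1 hk⟩
    · intro x hx
      obtain ⟨k, hk⟩ := hgen₂.2 x hx
      obtain ⟨k', hk'⟩ := hgt.1 _ hk
      refine ⟨k' + k, ?_⟩
      have e1 := pow_mul_mem_of_dvd hd2 hk'
      have e2 : (G₂ * φ t) ^ k' * ((G₂ * φ t) ^ k * x) ∈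
          Ideal.ofList (List.ofFn (φ ∘ f)) := by
        have : (G₂ * φ t) ^ k' * ((G₂ * φ t) ^ k * x) =
            (φ t) ^ k * ((G₂ * φ t) ^ k' * (G₂ ^ k * x)) := by ring
        rw [this]
        exact Ideal.mul_mem_left _ _ e1
      rwa [pow_add, mul_assoc]
  · -- `I` is not contained in `𝔭`: some `f j` is a unit near both primes
    obtain ⟨x, hxI, hx𝔭⟩ := Set.not_subset.mp hI𝔭
    obtain ⟨k, hk⟩ := hgen₁.1 _ (Ideal.mem_map_of_mem φ hxI)
    have hnot : ¬ Ideal.ofList (List.ofFn (φ ∘ f)) ≤ 𝔮₁ := by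
      intro hle
      rcases Ideal.IsPrime.mem_or_mem inferInstance (hle hk) with h4 | h4
      · exact hG₁ (Ideal.IsPrime.mem_of_pow_mem inferInstance _ h4)
      · exact hx𝔭 h4
    have hj : ∃ j, φ (f j) ∉ 𝔮₁ := by
      by_contra hall
      simp only [not_exists, not_not] at hall
      apply hnot
      rw [ofList_ofFn']
      refine Ideal.span_le.mpr ?_
      rintro _ ⟨j, rfl⟩
      exact hall j
    obtain ⟨j, hj⟩ := hj
    have hj2 : φ (f j) ∉ 𝔮₂ := by
      intro hmem
      apply hj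
      have : f j ∈ 𝔮₂.comap φ := hmem
      rw [← hcomap] at this
      exact this
    have hmemL : φ (f j) ∈ Ideal.ofList (List.ofFn (φ ∘ f)) := by
      rw [ofList_ofFn']; exact Ideal.subset_span ⟨j, rfl⟩
    refine ⟨φ (f j), hj2, ⟨fun y hy => ⟨1, ?_⟩, fun y hy => ⟨0, ?_⟩⟩, ?_⟩
    · rw [pow_one]
      exact Ideal.mul_mem_right _ _ hmemL
    · obtain ⟨i, rfl⟩ := (List.mem_ofFn' _ y).mp hy
      simpa using hfJ i
    · intro i hi z
      refine ⟨1, ?_⟩
      rw [pow_one]
      exact Groth.Agent.Helper13Kz.smul_KH_eq_zero_of_mem (M := B) _ _ hmemL i z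

/-- Koszul-regular ideals descend along faithfully flat ring maps -/
theorem isKoszulRegularIdeal_of_faithfullyFlat [Module.FaithfullyFlat A B] (I : Ideal A)
    (h : LCI.IsKoszulRegularIdeal (I.map (algebraMap A B))) : LCI.IsKoszulRegularIdeal I := by
  classical
  rw [isKoszulRegularIdeal_iff]
  intro 𝔭 h𝔭 hI𝔭
  set φ := algebraMap A B with hφ
  set J := I.map φ with hJ
  obtain ⟨K, a, ha⟩ := exists_fin_span_of_map I h
  obtain ⟨𝔮, h𝔮, h𝔮𝔭⟩ := Ideal.exists_isPrime_liesOver_of_faithfullyFlat (B := B) 𝔭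
  have hcm : 𝔮.comap φ = 𝔭 := h𝔮𝔭.over.symm
  have hJ𝔮 : J ≤ 𝔮 := Ideal.map_le_iff_le_comap.mpr (hcm ▸ hI𝔭)
  obtain ⟨G, hG, l, hgen, htors⟩ := (isKoszulRegularIdeal_iff J).mp h 𝔮 h𝔮 hJ𝔮
  obtain ⟨r, lf, rfl⟩ : ∃ (r : ℕ) (lf : Fin r → B), l = List.ofFn lf :=
    ⟨l.length, l.get, (List.ofFn_get l).symm⟩
  have hgena : GenAt (1 : B) J (List.ofFn (φ ∘ a)) := by
    refine ⟨fun x hx => ⟨0, ?_⟩, fun x hx => ⟨0, ?_⟩⟩
    · rw [pow_zero, one_mul, ofList_ofFn', Set.range_comp, ← Ideal.map_span, ha]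
      exact hx
    · obtain ⟨k, rfl⟩ := (List.mem_ofFn' _ x).mp hx
      rw [pow_zero, one_mul]
      apply Ideal.mem_map_of_mem
      rw [← ha]; exact Ideal.subset_span ⟨k, rfl⟩
  obtain ⟨S, G₂, hG₂, hgen₂, htors₂⟩ := sel 𝔮 J hJ𝔮 lf (φ ∘ a) G 1
    hG (fun hmem => (Ideal.IsPrime.ne_top h𝔮) ((Ideal.eq_top_iff_one _).mpr hmem))
    hgen htors hgena
  set f : Fin r → A := a ∘ S with hf
  have hcomp : (φ ∘ a) ∘ S = φ ∘ f := rfl
  rw [hcomp] at hgen₂ htors₂
  have hfI : ∀ i, f i ∈ I := fun i => by rw [← ha]; exact Ideal.subset_span ⟨S i, rfl⟩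
  -- the good locus
  let U : Set (PrimeSpectrum B) := {x | ∃ G : B, G ∉ x.asIdeal ∧
    GenAt G J (List.ofFn (φ ∘ f)) ∧ TorsAt G (List.ofFn (φ ∘ f))}
  have hUopen : IsOpen U := by
    rw [isOpen_iff_forall_mem_open]
    rintro x ⟨G', hG', hg', ht'⟩
    refine ⟨(PrimeSpectrum.basicOpen G' : Set (PrimeSpectrum B)), ?_,
      (PrimeSpectrum.basicOpen G').isOpen, hG'⟩
    intro y hy
    exact ⟨G', hy, hg', ht'⟩
  let π : PrimeSpectrum B → PrimeSpectrum A := PrimeSpectrum.comap φ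
  have hπ : Topology.IsQuotientMap π :=
    PrimeSpectrum.isQuotientMap_of_generalizingMap
      (PrimeSpectrum.comap_surjective_of_faithfullyFlat (A := A) (B := B))
      (Algebra.HasGoingDown.iff_generalizingMap_primeSpectrumComap.mp inferInstance)
  have hsat : π ⁻¹' (π '' U) = U := by
    apply Set.Subset.antisymm _ (Set.subset_preimage_image π U)
    rintro y ⟨x, hxU, hxy⟩
    have hc : x.asIdeal.comap φ = y.asIdeal.comap φ := congrArg PrimeSpectrum.asIdeal hxy
    exact sat I h a ha f hfI x.asIdeal y.asIdeal hc hxU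
  have hopen : IsOpen (π '' U) := by
    rw [← hπ.isOpen_preimage, hsat]
    exact hUopen
  have hmem : (⟨𝔭, h𝔭⟩ : PrimeSpectrum A) ∈ π '' U :=
    ⟨⟨𝔮, h𝔮⟩, ⟨G₂, hG₂, hgen₂, htors₂⟩, PrimeSpectrum.ext hcm⟩
  obtain ⟨v, ⟨g₁, rfl⟩, hpv, hvU⟩ :=
    PrimeSpectrum.isTopologicalBasis_basic_opens.exists_subset_of_mem_open hmem hopen
  have hg₁ : g₁ ∉ 𝔭 := hpv
  have hLG := localGlobal (φ g₁) J (List.ofFn (φ ∘ f)) (by
    intro 𝔮' h𝔮' hg'
    have h1 : π ⟨𝔮', h𝔮'⟩ ∈ π '' U := hvU (by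
      show g₁ ∉ 𝔮'.comap φ
      exact hg')
    have h2 : (⟨𝔮', h𝔮'⟩ : PrimeSpectrum B) ∈ π ⁻¹' (π '' U) := h1
    rw [hsat] at h2
    exact h2)
  have hmapl : List.ofFn (φ ∘ f) = (List.ofFn f).map φ := List.map_ofFn.symm
  rw [hmapl] at hLG
  refine ⟨g₁, hg₁, List.ofFn f, ?_, ?_⟩
  · exact genAt_of_map_of_faithfullyFlat g₁ I (List.ofFn f)
      (fun x hx => by
        obtain ⟨i, rfl⟩ := (List.mem_ofFn' _ x).mp hx
        exact hfI i) hLG.1
  · exact torsAt_of_map_of_faithfullyFlat g₁ (List.ofFn f) hLG.2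

end Main

end Groth.Agent.Lib.T2H7.KRegH
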