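import Mathlib
import Groth.Agent.Lib.T2H7KRegH
import Groth.Agent.Lib.T2H7KRegE

/-!
# Koszul-regular ideals in finite products and descent along finite flat families (helper7)

* `isKoszulRegularSeq_nil`, `isKoszulRegularIdeal_comap_of_bijective`.
* `bijective_lift_single`, `isKoszulRegularIdeal_pi`: finite products of rings.
* `faithfullyFlat_pi`, `isKoszulRegularIdeal_of_family`: a finite family of flat algebras which is
  jointly surjective on spectra detects Koszul-regular ideals.
-/

set_option autoImplicit false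

namespace Groth.Agent.Lib.T2H7.KRegI
open Groth.Agent.Lib.T2H7.KRegA Groth.Agent.Lib.T2H7.KRegB Groth.Agent.Lib.T2H7.KRegD
open Groth.Agent.Lib.T2H7.KRegE Groth.Agent.Lib.T2H7.KRegH
open Groth.Agent.Helper13Kz Groth.Agent.Helper13KzLift
open scoped TensorProduct

universe u

section Basic
variable {D C : Type u} [CommRing D] [CommRing C]

theorem isKoszulRegularSeq_nil : LCI.IsKoszulRegularSeq D ([] : List D) := by
  rw [isKoszulRegularSeq_iff]
  intro i hi
  exact subsingleton_KH_nil D i hi

/-- Koszul-regular ideals correspond under ring isomorphisms -/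
theorem isKoszulRegularIdeal_comap_of_bijective (θ : D →+* C) (hθ : Function.Bijective θ)
    (I : Ideal C) (h : LCI.IsKoszulRegularIdeal I) : LCI.IsKoszulRegularIdeal (I.comap θ) := by
  refine isKoszulRegularIdeal_comap θ hθ.2 [] ?_ isKoszulRegularSeq_nil I h
  rw [(RingHom.injective_iff_ker_eq_bot θ).mp hθ.1]
  simp [Ideal.ofList]

end Basic

section Pi
variable {ι : Type} [Fintype ι] [DecidableEq ι] (B : ι → Type u) [∀ j, CommRing (B j)]

omit [Fintype ι] in
/-- the localization of a finite product at a standard idempotent is the factor -/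
theorem bijective_lift_single (j : ι) :
    Function.Bijective (IsLocalization.Away.lift (S := Localization.Away (Pi.single j 1 : ∀ j, B j))
      (Pi.single j 1 : ∀ j, B j) (g := Pi.evalRingHom B j) (by simp)) := by
  set e : ∀ j, B j := Pi.single j 1 with he
  set θ := IsLocalization.Away.lift (S := Localization.Away e) e (g := Pi.evalRingHom B j)
    (by simp [he]) with hθ
  have hθalg : ∀ p : ∀ j, B j, θ (algebraMap _ (Localization.Away e) p) = p j := fun p => by
    rw [hθ, IsLocalization.Away.lift_eq]
    rfl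
  have hu : IsUnit (algebraMap (∀ j, B j) (Localization.Away e) e) :=
    IsLocalization.Away.algebraMap_isUnit e
  refine ⟨?_, fun b => ⟨algebraMap _ (Localization.Away e) (Pi.single j b), by
    rw [hθalg]; simp⟩⟩
  rw [injective_iff_map_eq_zero]
  intro x hx
  obtain ⟨n, p, hp⟩ := IsLocalization.Away.surj e x
  have h1 : θ (algebraMap _ (Localization.Away e) p) = 0 := by
    rw [← hp, map_mul, hx, zero_mul]
  rw [hθalg] at h1
  have h2 : p * e = 0 := by
    funext k
    by_cases hk : k = j
    · subst hk; simp [h1]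
    · simp [he, Pi.single_eq_of_ne hk]
  have h3 : algebraMap _ (Localization.Away e) p = 0 := by
    have : algebraMap _ (Localization.Away e) p * algebraMap _ (Localization.Away e) e = 0 := by
      rw [← map_mul, h2, map_zero]
    exact (hu.mul_left_eq_zero).mp this
  rw [h3] at hp
  have hun : IsUnit (algebraMap (∀ j, B j) (Localization.Away e) e ^ n) := hu.pow n
  exact (hun.mul_left_eq_zero).mp hp

/-- an ideal of a finite product of rings is Koszul-regular as soon as its projections are -/
theorem isKoszulRegularIdeal_pi (J : Ideal (∀ j, B j))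
    (h : ∀ j, LCI.IsKoszulRegularIdeal (J.map (Pi.evalRingHom B j))) :
    LCI.IsKoszulRegularIdeal J := by
  rw [isKoszulRegularIdeal_iff]
  intro 𝔔 h𝔔 hJ
  obtain ⟨j, hj⟩ : ∃ j, (Pi.single j 1 : ∀ j, B j) ∉ 𝔔 := by
    by_contra hall
    simp only [not_exists, not_not] at hall
    apply h𝔔.ne_top
    rw [Ideal.eq_top_iff_one]
    have : (1 : ∀ j, B j) = ∑ j, Pi.single j 1 := by
      rw [Finset.univ_sum_single]
      rfl
    rw [this]
    exact Ideal.sum_mem _ fun j _ => hall j
  set e : ∀ j, B j := Pi.single j 1 with he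
  apply kRegAt_of_away e J 𝔔 hj
  set φ := algebraMap (∀ j, B j) (Localization.Away e) with hφ
  set θ := IsLocalization.Away.lift (S := Localization.Away e) e (g := Pi.evalRingHom B j)
    (by simp [he]) with hθ
  have hθb : Function.Bijective θ := bijective_lift_single B j
  have hcomp : θ.comp φ = Pi.evalRingHom B j := IsLocalization.Away.lift_comp _ _
  have hJmap : J.map φ = (J.map (Pi.evalRingHom B j)).comap θ := by
    rw [← hcomp, ← Ideal.map_map]
    exact (Ideal.comap_map_of_bijective θ hθb).symm
  have hreg : LCI.IsKoszulRegularIdeal (J.map φ) := by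
    rw [hJmap]
    exact isKoszulRegularIdeal_comap_of_bijective θ hθb _ (h j)
  have hprime : (𝔔.map φ).IsPrime :=
    IsLocalization.isPrime_of_isPrime_disjoint (Submonoid.powers e) _ _ h𝔔 (by
      rw [Set.disjoint_left]
      rintro x ⟨n, rfl⟩ hx
      exact hj (h𝔔.mem_of_pow_mem n hx))
  exact (isKoszulRegularIdeal_iff _).mp hreg _ hprime (Ideal.map_mono hJ)

end Pi

section Family
variable {ι : Type} [Fintype ι] [DecidableEq ι] {A : Type u} [CommRing A] (B : ι → Type u)
  [∀ j, CommRing (B j)] [∀ j, Algebra A (B j)]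

omit [DecidableEq ι] in
/-- a finite family of flat algebras which is jointly surjective on spectra has a faithfully
flat product -/
theorem faithfullyFlat_pi [∀ j, Module.Flat A (B j)]
    (hsurj : ∀ 𝔭 : Ideal A, 𝔭.IsPrime → ∃ (j : ι) (𝔮 : Ideal (B j)), 𝔮.IsPrime ∧
      𝔮.comap (algebraMap A (B j)) = 𝔭) : Module.FaithfullyFlat A (∀ j, B j) := by
  have hflat : Module.Flat A (∀ j, B j) :=
    Module.Flat.of_linearEquiv (DFinsupp.linearEquivFunOnFintype (R := A) (M := B)).symm
  apply Module.FaithfullyFlat.of_comap_surjective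
  intro 𝔭
  obtain ⟨j, 𝔮, h𝔮, hc⟩ := hsurj 𝔭.asIdeal 𝔭.isPrime
  refine ⟨⟨𝔮.comap (Pi.evalRingHom B j), Ideal.comap_isPrime _ _⟩, ?_⟩
  apply PrimeSpectrum.ext
  show (𝔮.comap (Pi.evalRingHom B j)).comap (algebraMap A (∀ j, B j)) = 𝔭.asIdeal
  rw [Ideal.comap_comap, ← hc]
  rfl

/-- descent of Koszul-regular ideals along a finite jointly surjective family of flat algebras -/
theorem isKoszulRegularIdeal_of_family [∀ j, Module.Flat A (B j)]
    (hsurj : ∀ 𝔭 : Ideal A, 𝔭.IsPrime → ∃ (j : ι) (𝔮 : Ideal (B j)), 𝔮.IsPrime ∧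
      𝔮.comap (algebraMap A (B j)) = 𝔭) (I : Ideal A)
    (h : ∀ j, LCI.IsKoszulRegularIdeal (I.map (algebraMap A (B j)))) :
    LCI.IsKoszulRegularIdeal I := by
  have hff := faithfullyFlat_pi B hsurj
  apply isKoszulRegularIdeal_of_faithfullyFlat (B := ∀ j, B j) I
  apply isKoszulRegularIdeal_pi
  intro j
  rw [Ideal.map_map]
  exact h j

end Family

end Groth.Agent.Lib.T2H7.KRegI
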