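import Mathlib
import Groth.Agent.Lib.Helper3FlatModelMod
import Groth.Agent.Lib.Helper3FlatOpenFP

/-!
# Finitely presented flatness criterion, part A (helper7)

Elementwise "reflection of membership" predicates for presented modules (in the language of
helper3's `KT w T`), and their transfer along surjections, flat maps and localizations.
-/

set_option autoImplicit false
set_option linter.style.haveILetI false
set_option linter.unusedSectionVars false

namespace Groth.Agent.Lib.T2H7.FPFlat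

open Groth.Agent.Lib.Helper3.FlatDesc Groth.Agent.Lib.Helper3.FlatModelMod

section Defs

variable {T₀ : Type*} [CommRing T₀] {ι κ ρ μ : Type*} [Fintype κ] [Fintype ρ] [Fintype μ]
  (w : κ → ι → T₀) (v : μ → ρ → T₀) (U : ρ → ι → T₀)

/-- The map `U : T^ρ → T^ι` reflects membership in the relation modules modulo `J`,
up to multipliers outside `Q`. -/
def RefD (T : Type*) [CommRing T] [Algebra T₀ T] (Q J : Ideal T) : Prop :=
  ∀ a : ρ → T, (∃ s : T, s ∉ Q ∧ s • WT U T a ∈ KT w T ⊔ J • (⊤ : Submodule T (ι → T))) →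
    ∃ s : T, s ∉ Q ∧ s • a ∈ KT v T ⊔ J • (⊤ : Submodule T (ρ → T))

/-- The version without multipliers (for local rings). -/
def RefL (T : Type*) [CommRing T] [Algebra T₀ T] (J : Ideal T) : Prop :=
  ∀ a : ρ → T, WT U T a ∈ KT w T ⊔ J • (⊤ : Submodule T (ι → T)) →
    a ∈ KT v T ⊔ J • (⊤ : Submodule T (ρ → T))

end Defs

section Basic

variable {T₀ : Type*} [CommRing T₀] {ι κ : Type*} [Fintype κ] (w : κ → ι → T₀)
variable (T T' : Type*) [CommRing T] [Algebra T₀ T] [CommRing T'] [Algebra T₀ T'] [Algebra T T']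
  [IsScalarTower T₀ T T']

theorem Fmap_surjective (hsurj : Function.Surjective (algebraMap T T')) (ι : Type*) :
    Function.Surjective (Fmap T T' ι) := by
  intro x
  choose y hy using fun i => hsurj (x i)
  exact ⟨y, funext hy⟩

theorem exists_mem_KT_Fmap_eq (hsurj : Function.Surjective (algebraMap T T')) {x' : ι → T'}
    (hx' : x' ∈ KT w T') : ∃ x ∈ KT w T, Fmap T T' ι x = x' := by
  obtain ⟨e', rfl⟩ := hx'
  obtain ⟨e, rfl⟩ := Fmap_surjective T T' hsurj κ e'
  exact ⟨WT w T e, ⟨e, rfl⟩, (WT_Fmap w T T' e).symm⟩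

theorem Fmap_eq_zero_iff [Fintype ι] [DecidableEq ι] (x : ι → T) :
    Fmap T T' ι x = 0 ↔ x ∈ (RingHom.ker (algebraMap T T')) • (⊤ : Submodule T (ι → T)) := by
  rw [mem_smul_top_pi_iff]
  constructor
  · intro h i
    rw [RingHom.mem_ker, ← Fmap_apply T T' x i, h]
    rfl
  · intro h
    ext i
    rw [Fmap_apply]
    exact h i

theorem Fmap_mem_smul_top [Fintype ι] [DecidableEq ι] (J : Ideal T) {x : ι → T}
    (hx : x ∈ J • (⊤ : Submodule T (ι → T))) :
    Fmap T T' ι x ∈ (J.map (algebraMap T T')) • (⊤ : Submodule T' (ι → T')) := by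
  rw [mem_smul_top_pi_iff] at hx ⊢
  intro i
  rw [Fmap_apply]
  exact Ideal.mem_map_of_mem _ (hx i)

end Basic

section Surj

variable {T₀ : Type*} [CommRing T₀] {ι κ ρ μ : Type*} [Fintype κ] [Fintype ρ] [Fintype μ]
  [Fintype ι] [DecidableEq ι] [DecidableEq ρ]
  (w : κ → ι → T₀) (v : μ → ρ → T₀) (U : ρ → ι → T₀)
variable (T T' : Type*) [CommRing T] [Algebra T₀ T] [CommRing T'] [Algebra T₀ T'] [Algebra T T']
  [IsScalarTower T₀ T T']

/-- Reflection modulo the kernel of a surjection is reflection in the quotient. -/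
theorem refD_ker_iff_of_surjective (hsurj : Function.Surjective (algebraMap T T')) (Q' : Ideal T') :
    RefD w v U T (Q'.comap (algebraMap T T')) (RingHom.ker (algebraMap T T')) ↔
      RefD w v U T' Q' ⊥ := by
  constructor
  · intro h a' ⟨s', hs', hsa'⟩
    rw [Submodule.bot_smul, sup_bot_eq] at hsa'
    obtain ⟨a, rfl⟩ := Fmap_surjective T T' hsurj ρ a'
    obtain ⟨s, rfl⟩ := hsurj s'
    obtain ⟨x, hxK, hx⟩ := exists_mem_KT_Fmap_eq w T T' hsurj hsa'
    have h0 : Fmap T T' ι (s • WT U T a - x) = 0 := by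
      rw [map_sub, Fmap_smul', ← WT_Fmap, hx, sub_self]
    rw [Fmap_eq_zero_iff] at h0
    obtain ⟨t, ht, hta⟩ := h a ⟨s, hs', by
      have : s • WT U T a = x + (s • WT U T a - x) := by abel
      rw [this]
      exact Submodule.add_mem_sup hxK h0⟩
    refine ⟨algebraMap T T' t, ht, ?_⟩
    rw [Submodule.bot_smul, sup_bot_eq]
    obtain ⟨y, hy, z, hz, hyz⟩ := Submodule.mem_sup.mp hta
    rw [← Fmap_smul', ← hyz, map_add, (Fmap_eq_zero_iff T T' z).mpr hz, add_zero]
    exact Fmap_mem_KT v T T' hy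
  · intro h a ⟨s, hs, hsa⟩
    obtain ⟨y, hy, z, hz, hyz⟩ := Submodule.mem_sup.mp hsa
    obtain ⟨t', ht', hta'⟩ := h (Fmap T T' ρ a) ⟨algebraMap T T' s, hs, by
      rw [Submodule.bot_smul, sup_bot_eq, WT_Fmap, ← Fmap_smul', ← hyz, map_add,
        (Fmap_eq_zero_iff T T' z).mpr hz, add_zero]
      exact Fmap_mem_KT w T T' hy⟩
    rw [Submodule.bot_smul, sup_bot_eq] at hta'
    obtain ⟨t, rfl⟩ := hsurj t'
    obtain ⟨x, hxK, hx⟩ := exists_mem_KT_Fmap_eq v T T' hsurj hta'
    have h0 : Fmap T T' ρ (t • a - x) = 0 := by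
      rw [map_sub, Fmap_smul', hx, sub_self]
    rw [Fmap_eq_zero_iff] at h0
    refine ⟨t, ht', ?_⟩
    have : t • a = x + (t • a - x) := by abel
    rw [this]
    exact Submodule.add_mem_sup hxK h0

end Surj

section Flat

variable {T₀ : Type*} [CommRing T₀] {ι κ ρ μ : Type*} [Fintype κ] [Fintype ρ] [Fintype μ]
  (w : κ → ι → T₀) (v : μ → ρ → T₀) (U : ρ → ι → T₀)
variable (T T' : Type*) [CommRing T] [Algebra T₀ T] [CommRing T'] [Algebra T₀ T'] [Algebra T T']
  [IsScalarTower T₀ T T']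

/-- Faithfully flat descent of the vanishing of an element of a presented module, in elementwise
form: if some `t' ∉ Q'` sends `Fmap a` into `KT v T'`, then some `t ∉ Q' ∩ T` sends `a` into
`KT v T`. -/
theorem exists_smul_mem_KT_of_flat [Module.Flat T T'] (Q' : Ideal T') (a : ρ → T)
    (h : ∃ t' : T', t' ∉ Q' ∧ t' • Fmap T T' ρ a ∈ KT v T') :
    ∃ t : T, t ∉ Q'.comap (algebraMap T T') ∧ t • a ∈ KT v T := by
  classical
  obtain ⟨t', ht', hta'⟩ := h
  obtain ⟨e', he'⟩ := hta'
  -- the augmented family over `T`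
  let vp : Option μ → ρ → T := fun o => o.elim a (wT v T)
  let c : Option μ → T' := fun o => o.elim t' (fun j => - e' j)
  have hvp_none : wT vp T' none = Fmap T T' ρ a := by
    ext i; rfl
  have hvp_some : ∀ j, wT vp T' (some j) = wT v T' j := by
    intro j; ext i
    change algebraMap T T' (algebraMap T₀ T (v j i)) = algebraMap T₀ T' (v j i)
    rw [← IsScalarTower.algebraMap_apply]
  have hc : WT vp T' c = 0 := by
    rw [WT_apply, Fintype.sum_option, hvp_none]
    simp only [hvp_some]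
    change t' • Fmap T T' ρ a + ∑ j, (- e' j) • wT v T' j = 0
    rw [← he', WT_apply]
    simp [neg_smul, Finset.sum_neg_distrib]
  have hspan := mem_span_Fmap_ker_of_flat vp T T' hc
  -- the ideal of multipliers
  let 𝔞 : Ideal T :=
    { carrier := {t | t • a ∈ KT v T}
      add_mem' := fun {x y} hx hy => by
        change (x + y) • a ∈ KT v T
        rw [add_smul]; exact Submodule.add_mem _ hx hy
      zero_mem' := by
        change (0 : T) • a ∈ KT v T
        rw [zero_smul]; exact Submodule.zero_mem _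
      smul_mem' := fun r x hx => by
        change (r • x) • a ∈ KT v T
        rw [smul_assoc]; exact Submodule.smul_mem _ _ hx }
  have hvp_noneT : wT vp T none = a := by
    ext i; rfl
  have hvp_someT : ∀ j, wT vp T (some j) = wT v T j := by
    intro j; ext i; rfl
  have key : ∀ x ∈ Submodule.span T' (Fmap T T' (Option μ) '' (LinearMap.ker (WT vp T) :
      Set (Option μ → T))), x none ∈ 𝔞.map (algebraMap T T') := by
    intro x hx
    induction hx using Submodule.span_induction with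
    | mem x hx =>
      obtain ⟨z, hz, rfl⟩ := hx
      rw [Fmap_apply]
      apply Ideal.mem_map_of_mem
      change z none • a ∈ KT v T
      have hz' : WT vp T z = 0 := hz
      rw [WT_apply, Fintype.sum_option, hvp_noneT] at hz'
      simp only [hvp_someT] at hz'
      have : z none • a = - ∑ j, z (some j) • wT v T j := eq_neg_of_add_eq_zero_left hz'
      rw [this]
      refine Submodule.neg_mem _ ⟨fun j => z (some j), ?_⟩
      rw [WT_apply]
    | zero => exact Ideal.zero_mem _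
    | add x y _ _ hx hy => exact Ideal.add_mem _ hx hy
    | smul r x _ hx => exact Ideal.mul_mem_left _ r hx
  by_contra hcon
  have hle : 𝔞 ≤ Q'.comap (algebraMap T T') := by
    intro t ht
    by_contra htQ
    exact hcon ⟨t, htQ, ht⟩
  have h1 : c none ∈ 𝔞.map (algebraMap T T') := key c hspan
  have h2 : 𝔞.map (algebraMap T T') ≤ Q' := (Ideal.map_mono hle).trans Ideal.map_comap_le
  exact ht' (h2 h1)

/-- Reflection (with zero ideal) descends along a flat map. -/
theorem refD_bot_of_flat [Module.Flat T T'] (Q' : Ideal T')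
    (h : RefD w v U T' Q' ⊥) : RefD w v U T (Q'.comap (algebraMap T T')) ⊥ := by
  intro a ⟨s, hs, hsa⟩
  rw [Submodule.bot_smul, sup_bot_eq] at hsa
  have h1 := h (Fmap T T' ρ a) ⟨algebraMap T T' s, hs, by
    rw [Submodule.bot_smul, sup_bot_eq, WT_Fmap, ← Fmap_smul']
    exact Fmap_mem_KT w T T' hsa⟩
  obtain ⟨t', ht', hta'⟩ := h1
  rw [Submodule.bot_smul, sup_bot_eq] at hta'
  obtain ⟨t, ht, hta⟩ := exists_smul_mem_KT_of_flat v T T' Q' a ⟨t', ht', hta'⟩
  exact ⟨t, ht, by rw [Submodule.bot_smul, sup_bot_eq]; exact hta⟩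

end Flat

section LocQuot

/-- `S'` is a localization (at the complement of the prime `Q`) of the quotient of `T` by the
ideal generated by the finite family `g`, in elementwise form. -/
structure LocQuot (T S' : Type*) [CommRing T] [CommRing S'] [Algebra T S'] (Q : Ideal T)
    {γ : Type*} (g : γ → T) : Prop where
  units : ∀ s : T, s ∉ Q → IsUnit (algebraMap T S' s)
  surj : ∀ x : S', ∃ s : T, s ∉ Q ∧ ∃ a : T, algebraMap T S' s * x = algebraMap T S' a
  ker : ∀ a : T, algebraMap T S' a = 0 → ∃ s : T, s ∉ Q ∧ s * a ∈ Ideal.span (Set.range g)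

variable {T S' : Type*} [CommRing T] [CommRing S'] [Algebra T S'] {Q : Ideal T} [Q.IsPrime]
  {γ : Type*} {g : γ → T}

theorem LocQuot.exists_den_mem_map (h : LocQuot T S' Q g) (J : Ideal T) {y : S'}
    (hy : y ∈ J.map (algebraMap T S')) :
    ∃ s : T, s ∉ Q ∧ ∃ j ∈ J, algebraMap T S' s * y = algebraMap T S' j := by
  induction hy using Submodule.span_induction with
  | mem y hy =>
    obtain ⟨j, hj, rfl⟩ := hy
    exact ⟨1, fun h1 => (Ideal.IsPrime.ne_top ‹_›) ((Ideal.eq_top_iff_one Q).mpr h1), j, hj,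
      by rw [map_one, one_mul]⟩
  | zero => exact ⟨1, fun h1 => (Ideal.IsPrime.ne_top ‹_›) ((Ideal.eq_top_iff_one Q).mpr h1), 0,
      J.zero_mem, by rw [map_zero, mul_zero]⟩
  | add y z _ _ hy hz =>
    obtain ⟨s₁, hs₁, j₁, hj₁, e₁⟩ := hy
    obtain ⟨s₂, hs₂, j₂, hj₂, e₂⟩ := hz
    refine ⟨s₁ * s₂, fun hm => (Ideal.IsPrime.mem_or_mem ‹_› hm).elim hs₁ hs₂,
      s₂ * j₁ + s₁ * j₂, J.add_mem (J.mul_mem_left _ hj₁) (J.mul_mem_left _ hj₂), ?_⟩
    rw [map_add, map_mul, map_mul, map_mul, ← e₁, ← e₂]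
    ring
  | smul r y _ hy =>
    obtain ⟨s₁, hs₁, j₁, hj₁, e₁⟩ := hy
    obtain ⟨s₂, hs₂, a, e₂⟩ := h.surj r
    refine ⟨s₂ * s₁, fun hm => (Ideal.IsPrime.mem_or_mem ‹_› hm).elim hs₂ hs₁,
      a * j₁, J.mul_mem_left _ hj₁, ?_⟩
    rw [smul_eq_mul, map_mul, map_mul, ← e₁, ← e₂]
    ring

/-- Common denominators for a finite family of elements of `J S'`. -/
theorem LocQuot.exists_den_fun (h : LocQuot T S' Q g) (J : Ideal T) {ι : Type*} [Fintype ι]
    (y : ι → S') (hy : ∀ i, y i ∈ J.map (algebraMap T S')) :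
    ∃ s : T, s ∉ Q ∧ ∃ y₀ : ι → T, (∀ i, y₀ i ∈ J) ∧
      algebraMap T S' s • y = Fmap T S' ι y₀ := by
  classical
  choose s hs j hj e using fun i => h.exists_den_mem_map J (hy i)
  refine ⟨∏ i, s i, ?_, fun i => (∏ k ∈ Finset.univ.erase i, s k) * j i,
    fun i => J.mul_mem_left _ (hj i), ?_⟩
  · intro hm
    obtain ⟨i, -, hi⟩ := Ideal.IsPrime.prod_mem_iff.mp hm
    exact hs i hi
  · ext i
    rw [Pi.smul_apply, Fmap_apply, smul_eq_mul, map_mul, ← e i,
      ← Finset.prod_erase_mul Finset.univ s (Finset.mem_univ i), map_mul]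
    ring

theorem LocQuot.exists_den_fun_top (h : LocQuot T S' Q g) {ι : Type*} [Fintype ι]
    (y : ι → S') :
    ∃ s : T, s ∉ Q ∧ ∃ y₀ : ι → T, algebraMap T S' s • y = Fmap T S' ι y₀ := by
  obtain ⟨s, hs, y₀, -, e⟩ := h.exists_den_fun ⊤ y (fun i => by
    rw [Ideal.map_top]; exact Submodule.mem_top)
  exact ⟨s, hs, y₀, e⟩

/-- A vector killed by `T → S'` is, up to a multiplier outside `Q`, a vector with coordinates in
the ideal generated by `g`. -/
theorem LocQuot.exists_smul_mem_of_Fmap_eq_zero (h : LocQuot T S' Q g) {ι : Type*} [Fintype ι]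
    (d : ι → T) (hd : Fmap T S' ι d = 0) :
    ∃ s : T, s ∉ Q ∧ ∀ i, (s • d) i ∈ Ideal.span (Set.range g) := by
  classical
  choose s hs e using fun i => h.ker (d i) (by rw [← Fmap_apply T S' d i, hd]; rfl)
  refine ⟨∏ i, s i, ?_, fun i => ?_⟩
  · intro hm
    obtain ⟨i, -, hi⟩ := Ideal.IsPrime.prod_mem_iff.mp hm
    exact hs i hi
  · rw [Pi.smul_apply, smul_eq_mul, ← Finset.prod_erase_mul Finset.univ s (Finset.mem_univ i),
      mul_assoc]
    exact Ideal.mul_mem_left _ _ (e i)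

end LocQuot

section PB

variable {T₀ : Type*} [CommRing T₀] {T S' : Type*} [CommRing T] [CommRing S'] [Algebra T₀ T]
  [Algebra T₀ S'] [Algebra T S'] [IsScalarTower T₀ T S'] {Q : Ideal T} [Q.IsPrime]
  {γ : Type*} {g : γ → T}

/-- A pair of presentations `(w, w⁺)`: over `T` the second one contains the first and all
multiples of the `g l`; over `S'` it is contained in the first. -/
structure AugPair {ι κ κ' : Type*} [Fintype κ] [Fintype κ'] (w : κ → ι → T₀) (w' : κ' → ι → T₀)
    (T S' : Type*) [CommRing T] [CommRing S'] [Algebra T₀ T] [Algebra T₀ S'] {γ : Type*}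
    (g : γ → T) : Prop where
  le : KT w T ≤ KT w' T
  smul_mem : ∀ (l : γ) (y : ι → T), g l • y ∈ KT w' T
  le' : KT w' S' ≤ KT w S'

theorem AugPair.refl {ι κ : Type*} [Fintype κ] (w : κ → ι → T₀) (g : PEmpty → T) :
    AugPair w w T S' g :=
  ⟨le_rfl, fun l => l.elim, le_rfl⟩

variable {ι κ κ' : Type*} [Fintype κ] [Fintype κ'] [Fintype ι] [DecidableEq ι]
  {w : κ → ι → T₀} {w' : κ' → ι → T₀}

theorem AugPair.mem_of_forall_mem_span (hw : AugPair w w' T S' g) (y : ι → T)
    (hy : ∀ i, y i ∈ Ideal.span (Set.range g)) : y ∈ KT w' T := by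
  have h1 : y ∈ (Ideal.span (Set.range g)) • (⊤ : Submodule T (ι → T)) :=
    (mem_smul_top_pi_iff T _ y).mpr hy
  refine (Submodule.smul_le.mpr ?_) h1
  intro r hr n _
  induction hr using Submodule.span_induction with
  | mem r hr =>
    obtain ⟨l, rfl⟩ := hr
    exact hw.smul_mem l n
  | zero => rw [zero_smul]; exact Submodule.zero_mem _
  | add a b _ _ ha hb => rw [add_smul]; exact Submodule.add_mem _ ha hb
  | smul t a _ ha => rw [smul_assoc]; exact Submodule.smul_mem _ _ ha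

/-- The pull-back lemma: membership over `S'` is membership over `T` up to a multiplier. -/
theorem mem_sup_iff_exists_smul_mem (h : LocQuot T S' Q g) (hw : AugPair w w' T S' g)
    (J : Ideal T) (x : ι → T) :
    Fmap T S' ι x ∈ KT w S' ⊔ (J.map (algebraMap T S')) • (⊤ : Submodule S' (ι → S')) ↔
      ∃ s : T, s ∉ Q ∧ s • x ∈ KT w' T ⊔ J • (⊤ : Submodule T (ι → T)) := by
  constructor
  · intro hx
    obtain ⟨y, ⟨e, rfl⟩, z, hz, hyz⟩ := Submodule.mem_sup.mp hx
    rw [mem_smul_top_pi_iff] at hz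
    obtain ⟨s₁, hs₁, e₀, he₀⟩ := h.exists_den_fun_top e
    obtain ⟨s₂, hs₂, z₀, hz₀, hz₀'⟩ := h.exists_den_fun J z hz
    set d : ι → T := (s₁ * s₂) • x - WT w T (s₂ • e₀) - s₁ • z₀ with hd
    have hd0 : Fmap T S' ι d = 0 := by
      rw [hd, map_sub, map_sub, Fmap_smul', Fmap_smul', ← WT_Fmap, Fmap_smul', ← he₀, ← hz₀',
        ← hyz, map_smul, map_smul, map_mul]
      ext i
      simp only [Pi.add_apply, Pi.sub_apply, Pi.smul_apply, smul_eq_mul, Pi.zero_apply]
      ring
    obtain ⟨s₃, hs₃, hd3⟩ := h.exists_smul_mem_of_Fmap_eq_zero d hd0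
    refine ⟨s₃ * (s₁ * s₂), fun hm => (Ideal.IsPrime.mem_or_mem ‹_› hm).elim hs₃
      (fun hm' => (Ideal.IsPrime.mem_or_mem ‹_› hm').elim hs₁ hs₂), ?_⟩
    have hsplit : (s₃ * (s₁ * s₂)) • x =
        (s₃ • d + s₃ • WT w T (s₂ • e₀)) + (s₃ * s₁) • z₀ := by
      rw [hd, mul_smul, mul_smul s₃ s₁ z₀]
      simp only [smul_sub]
      abel
    rw [hsplit]
    refine Submodule.add_mem_sup (Submodule.add_mem _ (hw.mem_of_forall_mem_span _ hd3)
      (Submodule.smul_mem _ _ (hw.le ⟨_, rfl⟩))) ?_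
    rw [mem_smul_top_pi_iff]
    intro i
    exact J.mul_mem_left _ (hz₀ i)
  · rintro ⟨s, hs, hsx⟩
    obtain ⟨y, hy, z, hz, hyz⟩ := Submodule.mem_sup.mp hsx
    have h1 : algebraMap T S' s • Fmap T S' ι x ∈
        KT w S' ⊔ (J.map (algebraMap T S')) • (⊤ : Submodule S' (ι → S')) := by
      rw [← Fmap_smul', ← hyz, map_add]
      exact Submodule.add_mem_sup (hw.le' (Fmap_mem_KT w' T S' hy)) (Fmap_mem_smul_top T S' J hz)
    obtain ⟨u, hu⟩ := h.units s hs
    have h2 := Submodule.smul_mem _ (↑u⁻¹ : S') h1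
    rwa [← hu, smul_smul, Units.inv_mul, one_smul] at h2

end PB

section L3

variable {T₀ : Type*} [CommRing T₀] {T S' : Type*} [CommRing T] [CommRing S'] [Algebra T₀ T]
  [Algebra T₀ S'] [Algebra T S'] [IsScalarTower T₀ T S'] {Q : Ideal T} [Q.IsPrime]
  {γ : Type*} {g : γ → T}
  {ι κ κ' ρ μ μ' : Type*} [Fintype κ] [Fintype κ'] [Fintype ι] [DecidableEq ι]
  [Fintype ρ] [DecidableEq ρ] [Fintype μ] [Fintype μ']
  {w : κ → ι → T₀} {w' : κ' → ι → T₀} {v : μ → ρ → T₀} {v' : μ' → ρ → T₀} (U : ρ → ι → T₀)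

/-- Reflection over `T` at `Q` (for the augmented presentations) is reflection over `S'`. -/
theorem refD_iff_refL (h : LocQuot T S' Q g) (hw : AugPair w w' T S' g)
    (hv : AugPair v v' T S' g) (J : Ideal T) :
    RefD w' v' U T Q J ↔ RefL w v U S' (J.map (algebraMap T S')) := by
  constructor
  · intro hD a' ha'
    obtain ⟨s, hs, a₀, ha₀⟩ := h.exists_den_fun_top a'
    have h1 : Fmap T S' ι (WT U T a₀) ∈
        KT w S' ⊔ (J.map (algebraMap T S')) • (⊤ : Submodule S' (ι → S')) := by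
      rw [← WT_Fmap, ← ha₀, map_smul]
      exact Submodule.smul_mem _ _ ha'
    obtain ⟨t, ht, hta⟩ := (mem_sup_iff_exists_smul_mem h hw J _).mp h1
    obtain ⟨t₂, ht₂, hta₂⟩ := hD a₀ ⟨t, ht, hta⟩
    have h2 := (mem_sup_iff_exists_smul_mem h hv J a₀).mpr ⟨t₂, ht₂, hta₂⟩
    rw [← ha₀] at h2
    obtain ⟨u, hu⟩ := h.units s hs
    have h3 := Submodule.smul_mem _ (↑u⁻¹ : S') h2
    rwa [← hu, smul_smul, Units.inv_mul, one_smul] at h3
  · intro hL a ⟨s, hs, hsa⟩
    have h1 := (mem_sup_iff_exists_smul_mem h hw J (WT U T a)).mpr ⟨s, hs, hsa⟩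
    rw [← WT_Fmap] at h1
    exact (mem_sup_iff_exists_smul_mem h hv J a).mp (hL _ h1)

end L3

section LocAtPrime

variable {T : Type*} [CommRing T] (Q : Ideal T) [Q.IsPrime]

/-- The honest localization at a prime is a `LocQuot` with no relations. -/
theorem locQuot_atPrime (S' : Type*) [CommRing S'] [Algebra T S'] [IsLocalization.AtPrime S' Q]
    (g : PEmpty → T) : LocQuot T S' Q g where
  units s hs := IsLocalization.map_units S' (⟨s, hs⟩ : Q.primeCompl)
  surj x := by
    obtain ⟨⟨a, s⟩, h⟩ := IsLocalization.surj Q.primeCompl x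
    exact ⟨s, s.2, a, by rw [mul_comm]; exact h⟩
  ker a ha := by
    obtain ⟨s, hs⟩ := (IsLocalization.map_eq_zero_iff Q.primeCompl S' a).mp ha
    exact ⟨s, s.2, by rw [hs]; exact Ideal.zero_mem _⟩

end LocAtPrime

section SumElim

variable {T₀ : Type*} [CommRing T₀] {ι κ ρ : Type*} [Fintype κ] [Fintype ρ]
  (w : κ → ι → T₀) (U : ρ → ι → T₀) (T : Type*) [CommRing T] [Algebra T₀ T]

theorem KT_sumElim : KT (Sum.elim w U) T = KT w T ⊔ LinearMap.range (WT U T) := by
  apply le_antisymm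
  · rintro _ ⟨c, rfl⟩
    rw [WT_apply, Fintype.sum_sum_type]
    refine Submodule.add_mem_sup ⟨fun j => c (Sum.inl j), ?_⟩ ⟨fun j => c (Sum.inr j), ?_⟩
    · rw [WT_apply]; rfl
    · rw [WT_apply]; rfl
  · rw [sup_le_iff]
    constructor
    · rintro _ ⟨c, rfl⟩
      refine ⟨Sum.elim c 0, ?_⟩
      rw [WT_apply, WT_apply, Fintype.sum_sum_type]
      simp only [Sum.elim_inl, Sum.elim_inr, Pi.zero_apply, zero_smul, Finset.sum_const_zero,
        add_zero]
      rfl
    · rintro _ ⟨c, rfl⟩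
      refine ⟨Sum.elim 0 c, ?_⟩
      rw [WT_apply, WT_apply, Fintype.sum_sum_type]
      simp only [Sum.elim_inl, Sum.elim_inr, Pi.zero_apply, zero_smul, Finset.sum_const_zero,
        zero_add]
      rfl

end SumElim

section UMap

variable {T₀ : Type*} [CommRing T₀] {ι κ ρ μ : Type*} [Fintype κ] [Fintype ρ] [Fintype μ]
  (w : κ → ι → T₀) (v : μ → ρ → T₀) (U : ρ → ι → T₀)
  (T : Type*) [CommRing T] [Algebra T₀ T]

/-- If `U` maps the relations `v` into the relation module of `w` over the base ring, it does so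
over every algebra. -/
theorem KT_le_comap_WT (hcomp : ∀ j, WT U T₀ (v j) ∈ KT w T₀) :
    KT v T ≤ (KT w T).comap (WT U T) := by
  rintro _ ⟨c, rfl⟩
  rw [Submodule.mem_comap, WT_apply v T c, map_sum]
  refine Submodule.sum_mem _ fun j _ => ?_
  rw [map_smul]
  refine Submodule.smul_mem _ _ ?_
  have h1 : wT v T j = Fmap T₀ T ρ (v j) := rfl
  rw [h1, WT_Fmap]
  exact Fmap_mem_KT w T₀ T (hcomp j)

/-- It is enough that `U` maps the generating relations into the relation module. -/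
theorem KT_le_comap_WT_of_forall (h : ∀ j, WT U T (wT v T j) ∈ KT w T) :
    KT v T ≤ (KT w T).comap (WT U T) := by
  rintro _ ⟨c, rfl⟩
  rw [Submodule.mem_comap, WT_apply v T c, map_sum]
  refine Submodule.sum_mem _ fun j _ => ?_
  rw [map_smul]
  exact Submodule.smul_mem _ _ (h j)

variable (hle : KT v T ≤ (KT w T).comap (WT U T))

/-- The map of presented modules induced by `U`. -/
noncomputable def uMap : ((ρ → T) ⧸ KT v T) →ₗ[T] ((ι → T) ⧸ KT w T) :=
  (KT v T).mapQ (KT w T) (WT U T) hle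

@[simp]
theorem uMap_mk (a : ρ → T) :
    uMap w v U T hle (Submodule.Quotient.mk a) = Submodule.Quotient.mk (WT U T a) := rfl

theorem range_uMap :
    LinearMap.range (uMap w v U T hle) = (LinearMap.range (WT U T)).map (KT w T).mkQ := by
  ext y
  constructor
  · rintro ⟨x, rfl⟩
    obtain ⟨a, rfl⟩ := Submodule.Quotient.mk_surjective _ x
    exact ⟨WT U T a, ⟨a, rfl⟩, rfl⟩
  · rintro ⟨_, ⟨a, rfl⟩, rfl⟩
    exact ⟨Submodule.Quotient.mk a, rfl⟩

/-- The cokernel of `uMap` is the module presented by `Sum.elim w U`. -/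
noncomputable def cokerEquiv :
    (((ι → T) ⧸ KT w T) ⧸ LinearMap.range (uMap w v U T hle)) ≃ₗ[T]
      ((ι → T) ⧸ KT (Sum.elim w U) T) :=
  (Submodule.quotEquivOfEq _ _ (range_uMap w v U T hle)) ≪≫ₗ
    (Submodule.quotientQuotientEquivQuotientSup (KT w T) (LinearMap.range (WT U T))) ≪≫ₗ
    (Submodule.quotEquivOfEq _ _ (KT_sumElim w U T).symm)

end UMap

section QM

theorem mk_mem_smul_top_iff {A S P : Type*} [CommRing A] [CommRing S] [Algebra A S]
    [AddCommGroup P] [Module S P] [Module A P] [IsScalarTower A S P] (K : Submodule S P)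
    (I : Ideal A) (x : P) :
    (Submodule.Quotient.mk x : P ⧸ K) ∈ I • (⊤ : Submodule A (P ⧸ K)) ↔
      x ∈ K ⊔ (I.map (algebraMap A S)) • (⊤ : Submodule S P) := by
  have h1 : (I • (⊤ : Submodule A (P ⧸ K))) =
      ((I.map (algebraMap A S)) • (⊤ : Submodule S (P ⧸ K))).restrictScalars A := by
    rw [Ideal.smul_restrictScalars, Submodule.restrictScalars_top]
  have h2 : ((I.map (algebraMap A S)) • (⊤ : Submodule S (P ⧸ K))) =
      ((I.map (algebraMap A S)) • (⊤ : Submodule S P)).map K.mkQ := by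
    rw [Submodule.map_smul'', Submodule.map_top, Submodule.range_mkQ]
  rw [h1, Submodule.restrictScalars_mem, h2, ← Submodule.mkQ_apply, ← Submodule.mem_comap,
    Submodule.comap_map_mkQ]

end QM

section BE

variable {T₀ : Type*} [CommRing T₀] {ι κ : Type*} [Fintype κ] [Finite ι] (w : κ → ι → T₀)
  (T : Type*) [CommRing T] [Algebra T₀ T] (Q : Ideal T) [Q.IsPrime]

/-- The presented module over the local ring `T_Q` is the localization of the presented module
over `T`. -/
noncomputable def locEquiv :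
    ((ι → Localization.AtPrime Q) ⧸ KT w (Localization.AtPrime Q)) ≃ₗ[Localization.AtPrime Q]
      LocalizedModule Q.primeCompl ((ι → T) ⧸ KT w T) :=
  (isBaseChange_Mmap w T (Localization.AtPrime Q)).equiv.symm ≪≫ₗ
    (IsLocalizedModule.isBaseChange Q.primeCompl (Localization.AtPrime Q)
      (LocalizedModule.mkLinearMap Q.primeCompl ((ι → T) ⧸ KT w T))).equiv

theorem flat_locEquiv_iff (A : Type*) [CommRing A] [Algebra A T] :
    Module.Flat A ((ι → Localization.AtPrime Q) ⧸ KT w (Localization.AtPrime Q)) ↔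
      Module.Flat A (LocalizedModule Q.primeCompl ((ι → T) ⧸ KT w T)) :=
  Module.Flat.equiv_iff ((locEquiv w T Q).restrictScalars A)

end BE

end Groth.Agent.Lib.T2H7.FPFlat
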