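import Mathlib
import Groth.Agent.Lib.T2H7FPFlatA
import Groth.Agent.Lib.Helper3FlatDescD
import Groth.Agent.Lib.Helper5LocalFlat2

/-!
# Finitely presented flatness criterion, part B (helper7)

Local Noetherian stages inside a local ring, and the core theorem (Stacks 046Z in the language of
presented modules over polynomial rings).
-/

set_option autoImplicit false
set_option linter.style.haveILetI false
set_option linter.unusedSectionVars false

universe u

namespace Groth.Agent.Lib.T2H7.FPFlat

open Groth.Agent.Lib.Helper3.FlatDesc Groth.Agent.Lib.Helper3.FlatModelMod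
  Groth.Agent.Lib.Helper3.FlatOpen MvPolynomial

attribute [local instance] MvPolynomial.algebraMvPolynomial

section Sat

variable {Λ R : Type u} [CommRing Λ] [CommRing R] [Algebra Λ R]

/-- The elements of the subalgebra `A` which are units of `R`. -/
def unitsIn (A : Subalgebra Λ R) : Submonoid A := (IsUnit.submonoid R).comap A.val

theorem mem_unitsIn {A : Subalgebra Λ R} (a : A) : a ∈ unitsIn A ↔ IsUnit (a : R) := Iff.rfl

/-- The canonical map from the localization of `A` at its `R`-units to `R`. -/
noncomputable def satHom (A : Subalgebra Λ R) : Localization (unitsIn A) →ₐ[Λ] R :=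
  IsLocalization.liftAlgHom (M := unitsIn A) (f := A.val) (fun y => y.2)

/-- The saturation of `A`: the subalgebra of fractions `a / s` with `s ∈ A` a unit of `R`. -/
noncomputable def sat (A : Subalgebra Λ R) : Subalgebra Λ R := (satHom A).range

theorem le_sat (A : Subalgebra Λ R) : A ≤ sat A := by
  intro a ha
  refine ⟨algebraMap A (Localization (unitsIn A)) ⟨a, ha⟩, ?_⟩
  change IsLocalization.lift _ _ = a
  rw [IsLocalization.lift_eq]
  rfl

theorem isNoetherianRing_sat (A : Subalgebra Λ R) [IsNoetherianRing A] :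
    IsNoetherianRing (sat A) := by
  haveI : IsNoetherianRing (Localization (unitsIn A)) :=
    IsLocalization.isNoetherianRing (unitsIn A) _ inferInstance
  exact isNoetherianRing_of_surjective (Localization (unitsIn A)) (sat A)
    (satHom A).rangeRestrict.toRingHom (satHom A).rangeRestrict_surjective

theorem isUnit_of_isUnit_val_sat (A : Subalgebra Λ R) (x : sat A) (hx : IsUnit (x : R)) :
    IsUnit x := by
  obtain ⟨z, hz⟩ := x.2
  obtain ⟨a, s, rfl⟩ := IsLocalization.exists_mk'_eq (unitsIn A) z
  have h1 : (a : R) = (s : A) * (x : R) := by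
    exact (IsLocalization.lift_mk'_spec (M := unitsIn A) (S := Localization (unitsIn A))
      (g := (A.val : A →+* R)) (hg := fun y => y.2) a (x : R) s).mp hz
  have ha : a ∈ unitsIn A := by
    rw [mem_unitsIn, h1]
    exact ((mem_unitsIn _).mp s.2).mul hx
  have hu : IsUnit (IsLocalization.mk' (Localization (unitsIn A)) a s) :=
    IsUnit.of_mul_eq_one _ (IsLocalization.mk'_mul_mk'_eq_one (⟨a, ha⟩ : unitsIn A) s)
  have hx' : x = (satHom A).rangeRestrict (IsLocalization.mk' (Localization (unitsIn A)) a s) :=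
    Subtype.ext hz.symm
  rw [hx']
  exact hu.map _

end Sat

section Level

variable {Λ R : Type u} [CommRing Λ] [CommRing R] [Algebra Λ R] [IsNoetherianRing Λ]
  {σ ι κ : Type} [Finite σ] [Fintype ι] [DecidableEq ι] [Fintype κ]
  (w : κ → ι → MvPolynomial σ Λ)

/-- A Noetherian stage `A' ⊆ R` whose units are detected in `R`, containing prescribed elements,
over which the presented module is still flat at the contraction of `q`. -/
theorem exists_level (q : Ideal (MvPolynomial σ R)) [q.IsPrime]
    (hflat : Module.Flat R (LocalizedModule q.primeCompl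
      ((ι → MvPolynomial σ R) ⧸ KT w (MvPolynomial σ R)))) (extra : Finset R) :
    ∃ A' : Subalgebra Λ R, IsNoetherianRing A' ∧ (∀ x : A', IsUnit (x : R) → IsUnit x) ∧
      (extra : Set R) ⊆ A' ∧
      Module.Flat A' (LocalizedModule
        (q.comap (algebraMap (MvPolynomial σ A') (MvPolynomial σ R))).primeCompl
        ((ι → MvPolynomial σ A') ⧸ KT w (MvPolynomial σ A'))) := by
  obtain ⟨A, hAfg, hextra, hA⟩ := exists_fg_subalgebra_flat w q hflat extra
  haveI : Algebra.FiniteType Λ A := (Subalgebra.fg_iff_finiteType A).mp hAfg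
  haveI : IsNoetherianRing A := Algebra.FiniteType.isNoetherianRing Λ A
  refine ⟨sat A, isNoetherianRing_sat A, isUnit_of_isUnit_val_sat A,
    fun x hx => le_sat A (hextra hx), ?_⟩
  have h1 : (⟨q, inferInstance⟩ : PrimeSpectrum (MvPolynomial σ R)) ∈ VA w A := hA
  exact VA_mono w (le_sat A) h1

end Level

section Chain

variable {Λ R : Type u} [CommRing Λ] [CommRing R] [Algebra Λ R] [IsLocalRing R]
  {σ ι κ ρ μ : Type} [Finite σ] [Fintype ι] [DecidableEq ι] [Fintype κ] [Fintype ρ]
  [DecidableEq ρ] [Fintype μ]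
  (w : κ → ι → MvPolynomial σ Λ) (v : μ → ρ → MvPolynomial σ Λ) (U : ρ → ι → MvPolynomial σ Λ)

/-- Descent of the reflection hypothesis (modulo the maximal ideal) to a stage `A' ⊆ R`. -/
theorem refD_level (q : Ideal (MvPolynomial σ R)) [q.IsPrime]
    (hq : (IsLocalRing.maximalIdeal R).map (C : R →+* MvPolynomial σ R) ≤ q)
    (A' : Subalgebra Λ R)
    (hm' : ((IsLocalRing.maximalIdeal R).comap (algebraMap A' R)).IsMaximal)
    (href : RefD w v U (MvPolynomial σ R) q ((IsLocalRing.maximalIdeal R).map C)) :
    RefD w v U (MvPolynomial σ A')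
      (q.comap (algebraMap (MvPolynomial σ A') (MvPolynomial σ R)))
      (((IsLocalRing.maximalIdeal R).comap (algebraMap A' R)).map C) := by
  set m := IsLocalRing.maximalIdeal R with hm
  set m' := m.comap (algebraMap A' R) with hm'def
  haveI := isScalarTower_mvPolynomial (σ := σ) Λ R (R ⧸ m)
  haveI := isScalarTower_mvPolynomial (σ := σ) Λ A' (A' ⧸ m')
  haveI := isScalarTower_mvPolynomial (σ := σ) Λ (A' ⧸ m') (R ⧸ m)
  haveI := isScalarTower_mvPolynomial (σ := σ) A' (A' ⧸ m') (R ⧸ m)
  haveI := isScalarTower_mvPolynomial (σ := σ) A' R (R ⧸ m)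
  have hsurjR : Function.Surjective
      (algebraMap (MvPolynomial σ R) (MvPolynomial σ (R ⧸ m))) := by
    rw [MvPolynomial.algebraMap_def]
    exact map_surjective _ Ideal.Quotient.mk_surjective
  have hkerR : RingHom.ker (algebraMap (MvPolynomial σ R) (MvPolynomial σ (R ⧸ m))) =
      m.map C := by
    rw [MvPolynomial.algebraMap_def, ker_map, Ideal.Quotient.algebraMap_eq, Ideal.mk_ker]
  have hsurjA : Function.Surjective
      (algebraMap (MvPolynomial σ A') (MvPolynomial σ (A' ⧸ m'))) := by
    rw [MvPolynomial.algebraMap_def]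
    exact map_surjective _ Ideal.Quotient.mk_surjective
  have hkerA : RingHom.ker (algebraMap (MvPolynomial σ A') (MvPolynomial σ (A' ⧸ m'))) =
      m'.map C := by
    rw [MvPolynomial.algebraMap_def, ker_map, Ideal.Quotient.algebraMap_eq, Ideal.mk_ker]
  set Qb : Ideal (MvPolynomial σ (R ⧸ m)) :=
    q.map (algebraMap (MvPolynomial σ R) (MvPolynomial σ (R ⧸ m))) with hQb
  have hQbcomap : Qb.comap (algebraMap (MvPolynomial σ R) (MvPolynomial σ (R ⧸ m))) = q := by
    rw [hQb, Ideal.comap_map_of_surjective' _ hsurjR, hkerR, sup_eq_left.mpr hq]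
  have step1 : RefD w v U (MvPolynomial σ (R ⧸ m)) Qb ⊥ := by
    refine (refD_ker_iff_of_surjective w v U (MvPolynomial σ R) (MvPolynomial σ (R ⧸ m))
      hsurjR Qb).mp ?_
    rw [hQbcomap, hkerR]
    exact href
  haveI : Module.Flat (A' ⧸ m') (R ⧸ m) := by
    letI := Ideal.Quotient.field m'
    infer_instance
  haveI : Module.Flat (MvPolynomial σ (A' ⧸ m')) (MvPolynomial σ (R ⧸ m)) :=
    flat_mvPolynomial (σ := σ) (A' ⧸ m') (R ⧸ m)
  have step2 := refD_bot_of_flat w v U (MvPolynomial σ (A' ⧸ m')) (MvPolynomial σ (R ⧸ m)) Qb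
    step1
  have step3 := (refD_ker_iff_of_surjective w v U (MvPolynomial σ A')
    (MvPolynomial σ (A' ⧸ m')) hsurjA _).mpr step2
  rw [hkerA] at step3
  have hcomap : (Qb.comap (algebraMap (MvPolynomial σ (A' ⧸ m')) (MvPolynomial σ (R ⧸ m)))).comap
      (algebraMap (MvPolynomial σ A') (MvPolynomial σ (A' ⧸ m'))) =
      q.comap (algebraMap (MvPolynomial σ A') (MvPolynomial σ R)) := by
    rw [Ideal.comap_comap, ← IsScalarTower.algebraMap_eq,
      IsScalarTower.algebraMap_eq (MvPolynomial σ A') (MvPolynomial σ R) (MvPolynomial σ (R ⧸ m)),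
      ← Ideal.comap_comap, hQbcomap]
  rw [hcomap] at step3
  exact step3

end Chain

section LevelMain

variable {Λ A : Type u} [CommRing Λ] [CommRing A] [Algebra Λ A] [IsLocalRing A]
  [IsNoetherianRing A]
  {σ ι κ ρ μ : Type} [Finite σ] [Fintype ι] [DecidableEq ι] [Fintype κ] [Fintype ρ]
  [DecidableEq ρ] [Fintype μ]
  (w : κ → ι → MvPolynomial σ Λ) (v : μ → ρ → MvPolynomial σ Λ) (U : ρ → ι → MvPolynomial σ Λ)

/-- The Noetherian case of the criterion (Stacks 00ME), in the language of presented modules
over a polynomial ring, at a prime lying over the maximal ideal. -/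
theorem level_main (Q : Ideal (MvPolynomial σ A)) [Q.IsPrime]
    (hQ : Q.comap (C : A →+* MvPolynomial σ A) = IsLocalRing.maximalIdeal A)
    (hcompA : ∀ j, ∃ t : MvPolynomial σ A, t ∉ Q ∧
      t • WT U (MvPolynomial σ A) (wT v (MvPolynomial σ A) j) ∈ KT w (MvPolynomial σ A))
    (hflat : Module.Flat A (LocalizedModule Q.primeCompl
      ((ι → MvPolynomial σ A) ⧸ KT w (MvPolynomial σ A))))
    (href : RefD w v U (MvPolynomial σ A) Q ((IsLocalRing.maximalIdeal A).map C)) :
    RefD w v U (MvPolynomial σ A) Q ⊥ ∧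
      Module.Flat A (LocalizedModule Q.primeCompl
        ((ι → MvPolynomial σ A) ⧸ KT (Sum.elim w U) (MvPolynomial σ A))) := by
  classical
  haveI : IsNoetherianRing (Localization.AtPrime Q) :=
    IsLocalization.isNoetherianRing Q.primeCompl _ inferInstance
  haveI hloc : IsLocalHom (algebraMap A (Localization.AtPrime Q)) := by
    constructor
    intro a ha
    rw [IsScalarTower.algebraMap_apply A (MvPolynomial σ A) (Localization.AtPrime Q)] at ha
    have h1 := (IsLocalization.AtPrime.isUnit_to_map_iff (Localization.AtPrime Q) Q _).mp ha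
    by_contra hna
    have h2 : a ∈ IsLocalRing.maximalIdeal A := (IsLocalRing.mem_maximalIdeal a).mpr hna
    rw [← hQ, Ideal.mem_comap] at h2
    exact h1 h2
  let g : PEmpty.{1} → MvPolynomial σ A := PEmpty.elim
  have hLQ : LocQuot (MvPolynomial σ A) (Localization.AtPrime Q) Q g :=
    locQuot_atPrime Q (Localization.AtPrime Q) g
  have hle : KT v (Localization.AtPrime Q) ≤
      (KT w (Localization.AtPrime Q)).comap (WT U (Localization.AtPrime Q)) := by
    refine KT_le_comap_WT_of_forall w v U _ fun j => ?_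
    obtain ⟨t, ht, htj⟩ := hcompA j
    have h1 := Fmap_mem_KT w (MvPolynomial σ A) (Localization.AtPrime Q) htj
    rw [Fmap_smul', ← WT_Fmap, Fmap_wT] at h1
    obtain ⟨u, hu⟩ := hLQ.units t ht
    have h2 := Submodule.smul_mem _ (↑u⁻¹ : Localization.AtPrime Q) h1
    rwa [← hu, smul_smul, Units.inv_mul, one_smul] at h2
  have hJ : ((IsLocalRing.maximalIdeal A).map (C : A →+* MvPolynomial σ A)).map
      (algebraMap (MvPolynomial σ A) (Localization.AtPrime Q)) =
      (IsLocalRing.maximalIdeal A).map (algebraMap A (Localization.AtPrime Q)) := by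
    rw [Ideal.map_map, IsScalarTower.algebraMap_eq A (MvPolynomial σ A) (Localization.AtPrime Q),
      MvPolynomial.algebraMap_eq]
  have hrefL := (refD_iff_refL U hLQ (AugPair.refl w g) (AugPair.refl v g) _).mp href
  rw [hJ] at hrefL
  haveI hNflat : Module.Flat A
      ((ι → Localization.AtPrime Q) ⧸ KT w (Localization.AtPrime Q)) :=
    (flat_locEquiv_iff w (MvPolynomial σ A) Q A).mpr hflat
  set uS := uMap w v U (Localization.AtPrime Q) hle with huS
  have hinj : Function.Injective
      ((uS.restrictScalars A).lTensor (A ⧸ IsLocalRing.maximalIdeal A)) := by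
    rw [Groth.Agent.Lib.Helper5.lTensor_quotient_injective_iff]
    intro n hn
    obtain ⟨a, rfl⟩ := Submodule.Quotient.mk_surjective _ n
    rw [mk_mem_smul_top_iff]
    apply hrefL
    rw [← mk_mem_smul_top_iff]
    exact hn
  obtain ⟨hinjU, hflatC⟩ :=
    Groth.Agent.Lib.Helper5.injective_and_flat_of_lTensor_residue_injective
      (Localization.AtPrime Q) (uS.restrictScalars A) hinj
  constructor
  · refine (refD_iff_refL U hLQ (AugPair.refl w g) (AugPair.refl v g) ⊥).mpr ?_
    intro a ha
    rw [Ideal.map_bot, Submodule.bot_smul, sup_bot_eq] at ha ⊢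
    have h0 : uS (Submodule.Quotient.mk a) = 0 := by
      rw [huS, uMap_mk, Submodule.Quotient.mk_eq_zero]
      exact ha
    have h1 : (Submodule.Quotient.mk a : (ρ → Localization.AtPrime Q) ⧸ _) = 0 :=
      hinjU (by rw [map_zero]; exact h0)
    exact (Submodule.Quotient.mk_eq_zero _).mp h1
  · have hrange : LinearMap.range (uS.restrictScalars A) =
        (LinearMap.range uS).restrictScalars A := rfl
    let e1 := Submodule.quotEquivOfEq _ _ hrange
    let e2 := Submodule.Quotient.restrictScalarsEquiv A (LinearMap.range uS)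
    let e3 := (cokerEquiv w v U (Localization.AtPrime Q) hle).restrictScalars A
    let e4 := (locEquiv (Sum.elim w U) (MvPolynomial σ A) Q).restrictScalars A
    exact (Module.Flat.equiv_iff (e1 ≪≫ₗ e2 ≪≫ₗ e3 ≪≫ₗ e4)).mp hflatC

end LevelMain

section Core

variable {Λ R : Type u} [CommRing Λ] [CommRing R] [Algebra Λ R] [IsNoetherianRing Λ]
  [IsLocalRing R]
  {σ ι κ ρ μ : Type} [Finite σ] [Fintype ι] [DecidableEq ι] [Fintype κ] [Fintype ρ]
  [DecidableEq ρ] [Fintype μ]
  (w : κ → ι → MvPolynomial σ Λ) (v : μ → ρ → MvPolynomial σ Λ) (U : ρ → ι → MvPolynomial σ Λ)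

/-- The criterion at a local Noetherian stage `A' ⊆ R`. -/
theorem stage_main (q : Ideal (MvPolynomial σ R)) [q.IsPrime]
    (hq : q.comap (C : R →+* MvPolynomial σ R) = IsLocalRing.maximalIdeal R)
    (href : RefD w v U (MvPolynomial σ R) q ((IsLocalRing.maximalIdeal R).map C))
    (A' : Subalgebra Λ R) [IsNoetherianRing A'] (hloc : ∀ x : A', IsUnit (x : R) → IsUnit x)
    (hcompA : ∀ j, ∃ t : MvPolynomial σ A',
      t ∉ q.comap (algebraMap (MvPolynomial σ A') (MvPolynomial σ R)) ∧
      t • WT U (MvPolynomial σ A') (wT v (MvPolynomial σ A') j) ∈ KT w (MvPolynomial σ A'))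
    (hflat : Module.Flat A' (LocalizedModule
        (q.comap (algebraMap (MvPolynomial σ A') (MvPolynomial σ R))).primeCompl
        ((ι → MvPolynomial σ A') ⧸ KT w (MvPolynomial σ A')))) :
    RefD w v U (MvPolynomial σ A')
        (q.comap (algebraMap (MvPolynomial σ A') (MvPolynomial σ R))) ⊥ ∧
      Module.Flat A' (LocalizedModule
        (q.comap (algebraMap (MvPolynomial σ A') (MvPolynomial σ R))).primeCompl
        ((ι → MvPolynomial σ A') ⧸ KT (Sum.elim w U) (MvPolynomial σ A'))) := by
  haveI : IsLocalHom (algebraMap A' R) := ⟨fun a ha => hloc a ha⟩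
  haveI : IsLocalRing A' := RingHom.domain_isLocalRing (algebraMap A' R)
  have hm' : (IsLocalRing.maximalIdeal R).comap (algebraMap A' R) = IsLocalRing.maximalIdeal A' :=
    IsLocalRing.maximalIdeal_comap (algebraMap A' R)
  have hCC : (algebraMap (MvPolynomial σ A') (MvPolynomial σ R)).comp (C : A' →+* _) =
      (C : R →+* MvPolynomial σ R).comp (algebraMap A' R) := by
    refine RingHom.ext fun a => ?_
    rw [RingHom.comp_apply, RingHom.comp_apply, MvPolynomial.algebraMap_def, MvPolynomial.map_C]
  have hQ' : (q.comap (algebraMap (MvPolynomial σ A') (MvPolynomial σ R))).comap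
      (C : A' →+* MvPolynomial σ A') = IsLocalRing.maximalIdeal A' := by
    rw [Ideal.comap_comap, hCC, ← Ideal.comap_comap, hq, hm']
  have hqle : (IsLocalRing.maximalIdeal R).map (C : R →+* MvPolynomial σ R) ≤ q := by
    rw [← hq]
    exact Ideal.map_comap_le
  have href' := refD_level w v U q hqle A' (by rw [hm']; infer_instance) href
  rw [hm'] at href'
  exact level_main w v U _ hQ' hcompA hflat href'

/-- Existence of a local Noetherian stage containing prescribed elements at which the criterion
holds. -/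
theorem exists_stage (q : Ideal (MvPolynomial σ R)) [q.IsPrime]
    (hq : q.comap (C : R →+* MvPolynomial σ R) = IsLocalRing.maximalIdeal R)
    (hcompR : ∀ j, ∃ t : MvPolynomial σ R, t ∉ q ∧
      t • WT U (MvPolynomial σ R) (wT v (MvPolynomial σ R) j) ∈ KT w (MvPolynomial σ R))
    (hflat : Module.Flat R (LocalizedModule q.primeCompl
      ((ι → MvPolynomial σ R) ⧸ KT w (MvPolynomial σ R))))
    (href : RefD w v U (MvPolynomial σ R) q ((IsLocalRing.maximalIdeal R).map C))
    (extra : Finset R) :
    ∃ A' : Subalgebra Λ R, (extra : Set R) ⊆ A' ∧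
      RefD w v U (MvPolynomial σ A')
        (q.comap (algebraMap (MvPolynomial σ A') (MvPolynomial σ R))) ⊥ ∧
      Module.Flat A' (LocalizedModule
        (q.comap (algebraMap (MvPolynomial σ A') (MvPolynomial σ R))).primeCompl
        ((ι → MvPolynomial σ A') ⧸ KT (Sum.elim w U) (MvPolynomial σ A'))) := by
  classical
  have hcompR' : ∀ j, ∃ t : MvPolynomial σ R, t ∉ q ∧ ∃ e : κ → MvPolynomial σ R,
      WT w (MvPolynomial σ R) e =
        t • WT U (MvPolynomial σ R) (wT v (MvPolynomial σ R) j) := by
    intro j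
    obtain ⟨t, ht, e, he⟩ := hcompR j
    exact ⟨t, ht, e, he⟩
  choose t ht e he using hcompR'
  let cs : Finset R := extra ∪ (Finset.univ.biUnion fun j => (t j).coeffs) ∪
    (Finset.univ.biUnion fun j => Finset.univ.biUnion fun l => (e j l).coeffs)
  obtain ⟨A', hA'N, hloc, hextra, hA'flat⟩ := exists_level w q hflat cs
  haveI := hA'N
  haveI := isScalarTower_mvPolynomial (σ := σ) Λ A' R
  have hlift : ∀ f : MvPolynomial σ R, f.coeffs ⊆ cs →
      ∃ f' : MvPolynomial σ A', algebraMap (MvPolynomial σ A') (MvPolynomial σ R) f' = f := by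
    intro f hf
    rw [MvPolynomial.algebraMap_def]
    apply MvPolynomial.mem_range_map_iff_coeffs_subset.mpr
    intro c hc
    exact ⟨⟨c, hextra (hf hc)⟩, rfl⟩
  have hinj : Function.Injective (Fmap (MvPolynomial σ A') (MvPolynomial σ R) ι) := by
    intro x y hxy
    ext i : 1
    have := congrFun hxy i
    rw [Fmap_apply, Fmap_apply, MvPolynomial.algebraMap_def] at this
    exact MvPolynomial.map_injective _ Subtype.val_injective this
  have ht' : ∀ j, ∃ f' : MvPolynomial σ A',
      algebraMap (MvPolynomial σ A') (MvPolynomial σ R) f' = t j := fun j =>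
    hlift (t j) (fun c hc => Finset.mem_union_left _ (Finset.mem_union_right _
      (Finset.mem_biUnion.mpr ⟨j, Finset.mem_univ j, hc⟩)))
  choose t' ht' using ht'
  have he' : ∀ j l, ∃ f' : MvPolynomial σ A',
      algebraMap (MvPolynomial σ A') (MvPolynomial σ R) f' = e j l := fun j l =>
    hlift (e j l) (fun c hc => Finset.mem_union_right _
      (Finset.mem_biUnion.mpr ⟨j, Finset.mem_univ j,
        Finset.mem_biUnion.mpr ⟨l, Finset.mem_univ l, hc⟩⟩))
  choose e' he' using he'
  have hcompA : ∀ j, ∃ t : MvPolynomial σ A',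
      t ∉ q.comap (algebraMap (MvPolynomial σ A') (MvPolynomial σ R)) ∧
      t • WT U (MvPolynomial σ A') (wT v (MvPolynomial σ A') j) ∈
        KT w (MvPolynomial σ A') := by
    intro j
    refine ⟨t' j, by rw [Ideal.mem_comap, ht' j]; exact ht j, e' j, ?_⟩
    apply hinj
    have heF : Fmap (MvPolynomial σ A') (MvPolynomial σ R) κ (e' j) = e j := funext (he' j)
    rw [← WT_Fmap, heF, Fmap_smul', ← WT_Fmap, Fmap_wT, ht' j, he j]
  obtain ⟨h1, h2⟩ := stage_main w v U q hq href A' hloc hcompA hA'flat
  exact ⟨A', fun x hx => hextra (Finset.mem_union_left _ (Finset.mem_union_left _ hx)), h1, h2⟩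

/-- **Finitely presented flatness criterion** (Stacks 046Z), presented-module form: over a local
ring `R`, at a prime `q` of `R[X]` over the maximal ideal, if the module `N` presented by `w` is
`R`-flat at `q` and `U : M → N` reflects membership modulo the maximal ideal at `q`, then `U` is
injective at `q` and its cokernel is `R`-flat at `q`. -/
theorem core (q : Ideal (MvPolynomial σ R)) [q.IsPrime]
    (hq : q.comap (C : R →+* MvPolynomial σ R) = IsLocalRing.maximalIdeal R)
    (hcompR : ∀ j, ∃ t : MvPolynomial σ R, t ∉ q ∧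
      t • WT U (MvPolynomial σ R) (wT v (MvPolynomial σ R) j) ∈ KT w (MvPolynomial σ R))
    (hflat : Module.Flat R (LocalizedModule q.primeCompl
      ((ι → MvPolynomial σ R) ⧸ KT w (MvPolynomial σ R))))
    (href : RefD w v U (MvPolynomial σ R) q ((IsLocalRing.maximalIdeal R).map C)) :
    RefD w v U (MvPolynomial σ R) q ⊥ ∧
      Module.Flat R (LocalizedModule q.primeCompl
        ((ι → MvPolynomial σ R) ⧸ KT (Sum.elim w U) (MvPolynomial σ R))) := by
  classical
  constructor
  · intro a ⟨s, hs, hsa⟩
    rw [Submodule.bot_smul, sup_bot_eq] at hsa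
    obtain ⟨e, he⟩ := hsa
    let cs : Finset R := s.coeffs ∪ (Finset.univ.biUnion fun r => (a r).coeffs) ∪
      (Finset.univ.biUnion fun l => (e l).coeffs)
    obtain ⟨A', hextra, hD, -⟩ := exists_stage w v U q hq hcompR hflat href cs
    haveI := isScalarTower_mvPolynomial (σ := σ) Λ A' R
    have hlift : ∀ f : MvPolynomial σ R, f.coeffs ⊆ cs →
        ∃ f' : MvPolynomial σ A', algebraMap (MvPolynomial σ A') (MvPolynomial σ R) f' = f := by
      intro f hf
      rw [MvPolynomial.algebraMap_def]
      apply MvPolynomial.mem_range_map_iff_coeffs_subset.mpr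
      intro c hc
      exact ⟨⟨c, hextra (hf hc)⟩, rfl⟩
    have hinj : ∀ (ι' : Type), Function.Injective
        (Fmap (MvPolynomial σ A') (MvPolynomial σ R) ι') := by
      intro ι' x y hxy
      ext i : 1
      have := congrFun hxy i
      rw [Fmap_apply, Fmap_apply, MvPolynomial.algebraMap_def] at this
      exact MvPolynomial.map_injective _ Subtype.val_injective this
    obtain ⟨s', hs'⟩ := hlift s (fun c hc =>
      Finset.mem_union_left _ (Finset.mem_union_left _ hc))
    have ha' : ∀ r, ∃ f' : MvPolynomial σ A',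
        algebraMap (MvPolynomial σ A') (MvPolynomial σ R) f' = a r := fun r =>
      hlift (a r) (fun c hc => Finset.mem_union_left _ (Finset.mem_union_right _
        (Finset.mem_biUnion.mpr ⟨r, Finset.mem_univ r, hc⟩)))
    choose a' ha' using ha'
    have he' : ∀ l, ∃ f' : MvPolynomial σ A',
        algebraMap (MvPolynomial σ A') (MvPolynomial σ R) f' = e l := fun l =>
      hlift (e l) (fun c hc => Finset.mem_union_right _
        (Finset.mem_biUnion.mpr ⟨l, Finset.mem_univ l, hc⟩))
    choose e' he' using he'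
    have haF : Fmap (MvPolynomial σ A') (MvPolynomial σ R) ρ a' = a := funext ha'
    have heF : Fmap (MvPolynomial σ A') (MvPolynomial σ R) κ e' = e := funext he'
    have heq : WT w (MvPolynomial σ A') e' = s' • WT U (MvPolynomial σ A') a' := by
      apply hinj ι
      rw [← WT_Fmap, heF, Fmap_smul', ← WT_Fmap, haF, hs', he]
    obtain ⟨t', ht', hta'⟩ := hD a' ⟨s', by
      rw [Ideal.mem_comap, hs']; exact hs, by
      rw [Submodule.bot_smul, sup_bot_eq, ← heq]
      exact ⟨e', rfl⟩⟩
    rw [Submodule.bot_smul, sup_bot_eq] at hta'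
    refine ⟨algebraMap (MvPolynomial σ A') (MvPolynomial σ R) t', ht', ?_⟩
    rw [Submodule.bot_smul, sup_bot_eq, ← haF, ← Fmap_smul']
    exact Fmap_mem_KT v _ _ hta'
  · obtain ⟨A', -, -, hC⟩ := exists_stage w v U q hq hcompR hflat href ∅
    exact flat_of_flat_subalgebra (Sum.elim w U) A' q hC

end Core

end Groth.Agent.Lib.T2H7.FPFlat
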