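import Mathlib
import Groth.Agent.Lib.T2H7FPFlatB

/-!
# Finitely presented flatness criterion, part C (helper7)

From abstract finitely presented modules over a local ring essentially of finite presentation
to presented modules over a polynomial ring, and the abstract form of the criterion
(Stacks 046Z).
-/

set_option autoImplicit false
set_option linter.style.haveILetI false
set_option linter.unusedSectionVars false

universe u

namespace Groth.Agent.Lib.T2H7.FPFlat

open Groth.Agent.Lib.Helper3.FlatDesc Groth.Agent.Lib.Helper3.FlatModelMod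
  Groth.Agent.Lib.Helper3.FlatOpen MvPolynomial

section C1

variable {T₀ : Type*} [CommRing T₀] {T S' : Type*} [CommRing T] [CommRing S'] [Algebra T₀ T]
  [Algebra T₀ S'] [Algebra T S'] [IsScalarTower T₀ T S'] {Q : Ideal T} [Q.IsPrime]
  {γ : Type*} {g : γ → T}
  {ι κ κ' : Type*} [Fintype κ] [Fintype κ'] [Fintype ι] [DecidableEq ι]
  {w : κ → ι → T₀} {w' : κ' → ι → T₀}
  {N : Type*} [AddCommGroup N] [Module S' N] [Module T N] [IsScalarTower T S' N]

/-- The comparison map from the module presented by `w'` over `T` to a module `N` over `S'`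
presented by `w` via `π`. -/
noncomputable def presMap (hw : AugPair w w' T S' g) (π : (ι → S') →ₗ[S'] N)
    (hker : LinearMap.ker π = KT w S') : ((ι → T) ⧸ KT w' T) →ₗ[T] N :=
  (KT w' T).liftQ ((π.restrictScalars T) ∘ₗ Fmap T S' ι) (by
    intro x hx
    rw [LinearMap.mem_ker, LinearMap.comp_apply, LinearMap.coe_restrictScalars,
      ← LinearMap.mem_ker, hker]
    exact hw.le' (Fmap_mem_KT w' T S' hx))

theorem presMap_mk (hw : AugPair w w' T S' g) (π : (ι → S') →ₗ[S'] N)
    (hker : LinearMap.ker π = KT w S') (x : ι → T) :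
    presMap hw π hker (Submodule.Quotient.mk x) = π (Fmap T S' ι x) := rfl

/-- The comparison map is a localization at `Q`. -/
theorem isLocalizedModule_presMap (h : LocQuot T S' Q g) (hw : AugPair w w' T S' g)
    (π : (ι → S') →ₗ[S'] N) (hπ : Function.Surjective π) (hker : LinearMap.ker π = KT w S') :
    IsLocalizedModule Q.primeCompl (presMap hw π hker) where
  map_units s := by
    obtain ⟨u, hu⟩ := h.units s.1 s.2
    rw [Module.End.isUnit_iff]
    constructor
    · intro a b hab
      have h1 : (s : T) • a = (s : T) • b := hab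
      rw [← algebraMap_smul S' (s : T) a, ← algebraMap_smul S' (s : T) b, ← hu] at h1
      have h2 := congrArg (fun z => (↑u⁻¹ : S') • z) h1
      simpa [smul_smul] using h2
    · intro b
      refine ⟨(↑u⁻¹ : S') • b, ?_⟩
      change (s : T) • ((↑u⁻¹ : S') • b) = b
      rw [← algebraMap_smul S' (s : T), ← hu, smul_smul, Units.mul_inv, one_smul]
  surj y := by
    obtain ⟨b, rfl⟩ := hπ y
    obtain ⟨s, hs, b₀, hb₀⟩ := h.exists_den_fun_top b
    refine ⟨⟨Submodule.Quotient.mk b₀, ⟨s, hs⟩⟩, ?_⟩
    change s • π b = presMap hw π hker (Submodule.Quotient.mk b₀)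
    rw [presMap_mk, ← hb₀, map_smul, algebraMap_smul]
  exists_of_eq {x₁ x₂} hx := by
    obtain ⟨a₁, rfl⟩ := Submodule.Quotient.mk_surjective (KT w' T) x₁
    obtain ⟨a₂, rfl⟩ := Submodule.Quotient.mk_surjective (KT w' T) x₂
    have hx' : Fmap T S' ι (a₁ - a₂) ∈ KT w S' := by
      rw [← hker, LinearMap.mem_ker, map_sub, map_sub, sub_eq_zero]
      exact hx
    have h1 : Fmap T S' ι (a₁ - a₂) ∈
        KT w S' ⊔ ((⊥ : Ideal T).map (algebraMap T S')) • (⊤ : Submodule S' (ι → S')) :=
      Submodule.mem_sup_left hx'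
    obtain ⟨s, hs, hsa⟩ := (mem_sup_iff_exists_smul_mem h hw ⊥ _).mp h1
    rw [Submodule.bot_smul, sup_bot_eq] at hsa
    refine ⟨⟨s, hs⟩, ?_⟩
    change s • (Submodule.Quotient.mk a₁ : (ι → T) ⧸ KT w' T) = s • Submodule.Quotient.mk a₂
    rw [← Submodule.Quotient.mk_smul, ← Submodule.Quotient.mk_smul, Submodule.Quotient.eq,
      ← smul_sub]
    exact hsa

end C1

section C2

theorem flat_localizedModule_iff_of_isLocalizedModule {A T P N : Type*} [CommRing A] [CommRing T]
    [Algebra A T] (Sm : Submonoid T) [AddCommGroup P] [Module T P] [Module A P]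
    [IsScalarTower A T P] [AddCommGroup N] [Module T N] [Module A N] [IsScalarTower A T N]
    (f : P →ₗ[T] N) [IsLocalizedModule Sm f] :
    Module.Flat A (LocalizedModule Sm P) ↔ Module.Flat A N :=
  Module.Flat.equiv_iff ((IsLocalizedModule.iso Sm f).restrictScalars A)

/-- A local ring which is a localization of a quotient of `T` is a `LocQuot` of `T` at the
contraction of its maximal ideal. -/
theorem locQuot_of_isLocalization {T S₀ S : Type*} [CommRing T] [CommRing S₀] [CommRing S]
    [IsLocalRing S] [Algebra S₀ S] (Msub : Submonoid S₀) [IsLocalization Msub S] [Algebra T S]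
    (φ₀ : T →+* S₀) (hφ₀ : Function.Surjective φ₀)
    (halg : ∀ x, algebraMap T S x = algebraMap S₀ S (φ₀ x)) {γ : Type*} (g₀ : γ → T)
    (hg₀ : Ideal.span (Set.range g₀) = RingHom.ker φ₀) :
    LocQuot T S ((IsLocalRing.maximalIdeal S).comap (algebraMap T S)) g₀ where
  units s hs := by
    by_contra h
    exact hs ((IsLocalRing.mem_maximalIdeal _).mpr h)
  surj x := by
    obtain ⟨⟨a₀, m₀⟩, h⟩ := IsLocalization.surj Msub x
    obtain ⟨a, rfl⟩ := hφ₀ a₀
    obtain ⟨s, hs⟩ := hφ₀ m₀
    refine ⟨s, ?_, a, ?_⟩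
    · intro hmem
      rw [Ideal.mem_comap, halg, hs] at hmem
      exact (IsLocalRing.mem_maximalIdeal _).mp hmem (IsLocalization.map_units S m₀)
    · rw [halg, halg, hs, mul_comm]
      exact h
  ker a ha := by
    rw [halg] at ha
    obtain ⟨m₀, hm₀⟩ := (IsLocalization.map_eq_zero_iff Msub S (φ₀ a)).mp ha
    obtain ⟨s, hs⟩ := hφ₀ m₀
    refine ⟨s, ?_, ?_⟩
    · intro hmem
      rw [Ideal.mem_comap, halg, hs] at hmem
      exact (IsLocalRing.mem_maximalIdeal _).mp hmem (IsLocalization.map_units S m₀)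
    · rw [hg₀, RingHom.mem_ker, map_mul, hs]
      exact hm₀

end C2

section C3

variable {T S : Type*} [CommRing T] [CommRing S] [Algebra T S] {Q : Ideal T} [Q.IsPrime]
  {γ : Type*} {g : γ → T}

/-- A finitely presented module over `S` has a presentation whose relations come from `T`. -/
theorem exists_presentation (h : LocQuot T S Q g) (N : Type*) [AddCommGroup N] [Module S N]
    [Module.FinitePresentation S N] :
    ∃ (k m : ℕ) (w : Fin m → Fin k → T) (π : (Fin k → S) →ₗ[S] N), Function.Surjective π ∧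
      LinearMap.ker π = Submodule.span S (Set.range fun j => Fmap T S (Fin k) (w j)) := by
  classical
  obtain ⟨k, m, π, gN, hπ, hex⟩ := Module.FinitePresentation.exists_fin' S N
  let r : Fin m → Fin k → S := fun j => gN (fun j' => if j = j' then 1 else 0)
  choose s hs w hw using fun j => h.exists_den_fun_top (r j)
  refine ⟨k, m, w, π, hπ, ?_⟩
  have h1 : LinearMap.ker π = LinearMap.range gN := LinearMap.exact_iff.mp hex
  have h2 : LinearMap.range gN = Submodule.span S (Set.range r) := by
    apply le_antisymm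
    · rintro _ ⟨c, rfl⟩
      rw [LinearMap.pi_apply_eq_sum_univ gN c]
      exact Submodule.sum_mem _ fun j _ => Submodule.smul_mem _ _ (Submodule.subset_span ⟨j, rfl⟩)
    · rw [Submodule.span_le]
      rintro _ ⟨j, rfl⟩
      exact ⟨_, rfl⟩
  rw [h1, h2]
  apply le_antisymm
  · rw [Submodule.span_le]
    rintro _ ⟨j, rfl⟩
    obtain ⟨u, hu⟩ := h.units (s j) (hs j)
    have h3 : r j = (↑u⁻¹ : S) • Fmap T S (Fin k) (w j) := by
      rw [← hw j, ← hu, smul_smul, Units.inv_mul, one_smul]
    rw [SetLike.mem_coe, h3]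
    exact Submodule.smul_mem _ _ (Submodule.subset_span ⟨j, rfl⟩)
  · rw [Submodule.span_le]
    rintro _ ⟨j, rfl⟩
    change Fmap T S (Fin k) (w j) ∈ Submodule.span S (Set.range r)
    rw [← hw j]
    exact Submodule.smul_mem _ _ (Submodule.subset_span ⟨j, rfl⟩)

/-- A linear map between modules with given generators has, up to a unit, a matrix coming from
`T`. -/
theorem exists_matrix (h : LocQuot T S Q g) {M N : Type*} [AddCommGroup M] [Module S M]
    [AddCommGroup N] [Module S N] {kM kN : ℕ} (πM : (Fin kM → S) →ₗ[S] M)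
    (πN : (Fin kN → S) →ₗ[S] N) (hπN : Function.Surjective πN) (u : M →ₗ[S] N) :
    ∃ t : T, t ∉ Q ∧ ∃ U : Fin kM → Fin kN → T, ∀ a : Fin kM → S,
      algebraMap T S t • u (πM a) = πN (∑ r, a r • Fmap T S (Fin kN) (U r)) := by
  classical
  choose b hb using fun r : Fin kM => hπN (u (πM (fun j' => if r = j' then 1 else 0)))
  obtain ⟨t, ht, y₀, hy₀⟩ := h.exists_den_fun_top (fun p : Fin kM × Fin kN => b p.1 p.2)
  refine ⟨t, ht, fun r i => y₀ (r, i), fun a => ?_⟩
  have hU : ∀ r, algebraMap T S t • b r = Fmap T S (Fin kN) (fun i => y₀ (r, i)) := by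
    intro r
    ext i
    exact congrFun hy₀ (r, i)
  have h1 : u (πM a) = ∑ r, a r • πN (b r) := by
    have := LinearMap.pi_apply_eq_sum_univ (u ∘ₗ πM) a
    rw [LinearMap.comp_apply] at this
    rw [this]
    refine Finset.sum_congr rfl fun r _ => ?_
    rw [LinearMap.comp_apply, hb]
  rw [h1, Finset.smul_sum, map_sum]
  refine Finset.sum_congr rfl fun r _ => ?_
  rw [smul_comm, ← map_smul, hU, map_smul]

/-- Finitely many polynomials have their coefficients in a finitely generated subring. -/
theorem exists_subalgebra_coeffs {R : Type u} [CommRing R] {σ : Type*}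
    (F : Finset (MvPolynomial σ R)) :
    ∃ Λ : Subalgebra ℤ R, Λ.FG ∧ ∀ f ∈ F, ∃ f' : MvPolynomial σ Λ,
      MvPolynomial.map (algebraMap Λ R) f' = f := by
  classical
  let cs : Finset R := F.biUnion fun f => f.coeffs
  refine ⟨Algebra.adjoin ℤ (cs : Set R), Subalgebra.fg_adjoin_finset cs, fun f hf => ?_⟩
  apply MvPolynomial.mem_range_map_iff_coeffs_subset.mpr
  intro c hc
  exact ⟨⟨c, Algebra.subset_adjoin (Finset.mem_biUnion.mpr ⟨f, hf, hc⟩)⟩, rfl⟩

end C3

attribute [local instance] MvPolynomial.algebraMvPolynomial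

section C4

theorem exists_fin_span_eq' {R : Type*} [CommRing R] (I : Ideal R) (hI : I.FG) :
    ∃ (k : ℕ) (g : Fin k → R), Ideal.span (Set.range g) = I := by
  obtain ⟨s, hs⟩ := hI
  refine ⟨s.card, fun i => (s.equivFin.symm i : R), ?_⟩
  rw [← hs]
  congr 1
  ext x
  simp only [Set.mem_range, Finset.mem_coe]
  constructor
  · rintro ⟨i, rfl⟩
    exact (s.equivFin.symm i).2
  · intro hx
    exact ⟨s.equivFin ⟨x, hx⟩, by simp⟩

/-- **Stacks 046Z.** Let `R → S` be a local homomorphism of local rings with `S` essentially of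
finite presentation over `R`, `u : M → N` a map of finitely presented `S`-modules with `N` flat
over `R`, injective modulo the maximal ideal of `R`. Then `u` is injective with `R`-flat
cokernel. -/
theorem injective_and_flat_coker_of_essFP {R S M N : Type u} [CommRing R] [CommRing S]
    [IsLocalRing R] [IsLocalRing S] [Algebra R S] [IsLocalHom (algebraMap R S)]
    (hS : ∃ (S₀ : Type u) (_ : CommRing S₀) (_ : Algebra R S₀) (_ : Algebra S₀ S)
      (_ : IsScalarTower R S₀ S) (Msub : Submonoid S₀),
      Algebra.FinitePresentation R S₀ ∧ IsLocalization Msub S)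
    [AddCommGroup M] [Module S M] [Module R M] [IsScalarTower R S M]
    [Module.FinitePresentation S M]
    [AddCommGroup N] [Module S N] [Module R N] [IsScalarTower R S N]
    [Module.FinitePresentation S N] [Module.Flat R N]
    (u : M →ₗ[S] N)
    (hu : ∀ x : M, u x ∈ (IsLocalRing.maximalIdeal R).map (algebraMap R S) •
        (⊤ : Submodule S N) →
      x ∈ (IsLocalRing.maximalIdeal R).map (algebraMap R S) • (⊤ : Submodule S M)) :
    Function.Injective u ∧ Module.Flat R (N ⧸ LinearMap.range u) := by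
  classical
  obtain ⟨S₀, _, _, _, _, Msub, hfp, hloc⟩ := hS
  obtain ⟨n, φ₀, hφ₀, hker⟩ := Algebra.FinitePresentation.out (R := R) (A := S₀)
  obtain ⟨r, g₀, hg₀⟩ := exists_fin_span_eq' _ hker
  let φ : MvPolynomial (Fin n) R →+* S := (algebraMap S₀ S).comp φ₀.toRingHom
  letI : Algebra (MvPolynomial (Fin n) R) S := φ.toAlgebra
  have hφC : ∀ x : R, φ (C x) = algebraMap R S x := by
    intro x
    change algebraMap S₀ S (φ₀ (C x)) = _
    rw [← MvPolynomial.algebraMap_eq, φ₀.commutes, ← IsScalarTower.algebraMap_apply]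
  haveI : IsScalarTower R (MvPolynomial (Fin n) R) S :=
    IsScalarTower.of_algebraMap_eq' (RingHom.ext fun x => (hφC x).symm)
  set q : Ideal (MvPolynomial (Fin n) R) :=
    (IsLocalRing.maximalIdeal S).comap (algebraMap (MvPolynomial (Fin n) R) S) with hqdef
  haveI : q.IsPrime := Ideal.comap_isPrime _ _
  have hLQ : LocQuot (MvPolynomial (Fin n) R) S q g₀ :=
    locQuot_of_isLocalization Msub φ₀.toRingHom hφ₀ (fun x => rfl) g₀ hg₀
  have hCcomp : (algebraMap (MvPolynomial (Fin n) R) S).comp (C : R →+* _) = algebraMap R S :=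
    RingHom.ext hφC
  have hq : q.comap (C : R →+* MvPolynomial (Fin n) R) = IsLocalRing.maximalIdeal R := by
    rw [hqdef, Ideal.comap_comap, hCcomp]
    exact IsLocalRing.maximalIdeal_comap (algebraMap R S)
  set mS : Ideal S := (IsLocalRing.maximalIdeal R).map (algebraMap R S) with hmS
  -- presentations
  obtain ⟨kN, mN, w₁, πN, hπN, hkerN⟩ := exists_presentation hLQ N
  obtain ⟨kM, mM, v₁, πM, hπM, hkerM⟩ := exists_presentation hLQ M
  obtain ⟨t, ht, U₁, hU₁⟩ := exists_matrix hLQ πM πN hπN u
  obtain ⟨ut, hut⟩ := hLQ.units t ht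
  -- coefficients
  let F : Finset (MvPolynomial (Fin n) R) :=
    (Finset.univ.image fun p : Fin mN × Fin kN => w₁ p.1 p.2) ∪
    (Finset.univ.image fun p : Fin mM × Fin kM => v₁ p.1 p.2) ∪
    (Finset.univ.image fun p : Fin kM × Fin kN => U₁ p.1 p.2) ∪ (Finset.univ.image g₀)
  obtain ⟨Λ, hΛfg, hΛ⟩ := exists_subalgebra_coeffs F
  haveI : Algebra.FiniteType ℤ Λ := (Subalgebra.fg_iff_finiteType Λ).mp hΛfg
  haveI : IsNoetherianRing Λ := Algebra.FiniteType.isNoetherianRing ℤ Λ
  have hw : ∀ j i, ∃ f' : MvPolynomial (Fin n) Λ,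
      algebraMap (MvPolynomial (Fin n) Λ) (MvPolynomial (Fin n) R) f' = w₁ j i := fun j i =>
    hΛ _ (Finset.mem_union_left _ (Finset.mem_union_left _ (Finset.mem_union_left _
      (Finset.mem_image.mpr ⟨(j, i), Finset.mem_univ _, rfl⟩))))
  choose w hw using hw
  have hv : ∀ j i, ∃ f' : MvPolynomial (Fin n) Λ,
      algebraMap (MvPolynomial (Fin n) Λ) (MvPolynomial (Fin n) R) f' = v₁ j i := fun j i =>
    hΛ _ (Finset.mem_union_left _ (Finset.mem_union_left _ (Finset.mem_union_right _
      (Finset.mem_image.mpr ⟨(j, i), Finset.mem_univ _, rfl⟩))))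
  choose v hv using hv
  have hU : ∀ j i, ∃ f' : MvPolynomial (Fin n) Λ,
      algebraMap (MvPolynomial (Fin n) Λ) (MvPolynomial (Fin n) R) f' = U₁ j i := fun j i =>
    hΛ _ (Finset.mem_union_left _ (Finset.mem_union_right _
      (Finset.mem_image.mpr ⟨(j, i), Finset.mem_univ _, rfl⟩)))
  choose U hU using hU
  have hg : ∀ l, ∃ f' : MvPolynomial (Fin n) Λ,
      algebraMap (MvPolynomial (Fin n) Λ) (MvPolynomial (Fin n) R) f' = g₀ l := fun l =>
    hΛ _ (Finset.mem_union_right _ (Finset.mem_image.mpr ⟨l, Finset.mem_univ _, rfl⟩))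
  choose gΛ hg using hg
  letI : Algebra (MvPolynomial (Fin n) Λ) S :=
    ((algebraMap (MvPolynomial (Fin n) R) S).comp
      (algebraMap (MvPolynomial (Fin n) Λ) (MvPolynomial (Fin n) R))).toAlgebra
  haveI : IsScalarTower (MvPolynomial (Fin n) Λ) (MvPolynomial (Fin n) R) S :=
    IsScalarTower.of_algebraMap_eq' rfl
  -- key identifications over `S`
  have hwT : ∀ j, wT w S j = Fmap (MvPolynomial (Fin n) R) S (Fin kN) (w₁ j) := by
    intro j; ext i
    change algebraMap (MvPolynomial (Fin n) R) S (algebraMap _ _ (w j i)) = _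
    rw [hw j i]; rfl
  have hvT : ∀ j, wT v S j = Fmap (MvPolynomial (Fin n) R) S (Fin kM) (v₁ j) := by
    intro j; ext i
    change algebraMap (MvPolynomial (Fin n) R) S (algebraMap _ _ (v j i)) = _
    rw [hv j i]; rfl
  have hUT : ∀ j, wT U S j = Fmap (MvPolynomial (Fin n) R) S (Fin kN) (U₁ j) := by
    intro j; ext i
    change algebraMap (MvPolynomial (Fin n) R) S (algebraMap _ _ (U j i)) = _
    rw [hU j i]; rfl
  have hKN : LinearMap.ker πN = KT w S := by
    rw [hkerN, KT_eq_span]
    congr 1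
    ext x
    simp only [Set.mem_range, hwT]
  have hKM : LinearMap.ker πM = KT v S := by
    rw [hkerM, KT_eq_span]
    congr 1
    ext x
    simp only [Set.mem_range, hvT]
  have hUS : ∀ a : Fin kM → S, algebraMap (MvPolynomial (Fin n) R) S t • u (πM a) =
      πN (WT U S a) := by
    intro a
    rw [hU₁ a, WT_apply]
    simp only [hUT]
  -- augmented presentations
  have hgS : ∀ l, algebraMap (MvPolynomial (Fin n) Λ) S (gΛ l) = 0 := by
    intro l
    change algebraMap (MvPolynomial (Fin n) R) S (algebraMap _ _ (gΛ l)) = 0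
    rw [hg l]
    change algebraMap S₀ S (φ₀ (g₀ l)) = 0
    have : g₀ l ∈ RingHom.ker φ₀.toRingHom := hg₀ ▸ Ideal.subset_span ⟨l, rfl⟩
    rw [RingHom.mem_ker] at this
    change φ₀ (g₀ l) = 0 at this
    rw [this, map_zero]
  have hAugW : AugPair w (wAug w gΛ) (MvPolynomial (Fin n) R) S g₀ :=
    ⟨KT_le_KT_wAug w gΛ _, fun l y => by
      have := smul_mem_KT_wAug w gΛ (MvPolynomial (Fin n) R) l y
      rwa [hg l] at this,
     (KT_wAug_eq w gΛ S (fun j x => by
      rw [hgS j, zero_smul]; exact Submodule.zero_mem _)).le⟩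
  have hAugV : AugPair v (wAug v gΛ) (MvPolynomial (Fin n) R) S g₀ :=
    ⟨KT_le_KT_wAug v gΛ _, fun l y => by
      have := smul_mem_KT_wAug v gΛ (MvPolynomial (Fin n) R) l y
      rwa [hg l] at this,
     (KT_wAug_eq v gΛ S (fun j x => by
      rw [hgS j, zero_smul]; exact Submodule.zero_mem _)).le⟩
  -- compatibility of `U` with the relations
  have hcompR : ∀ j', ∃ t' : MvPolynomial (Fin n) R, t' ∉ q ∧
      t' • WT U (MvPolynomial (Fin n) R) (wT (wAug v gΛ) (MvPolynomial (Fin n) R) j') ∈
        KT (wAug w gΛ) (MvPolynomial (Fin n) R) := by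
    intro j'
    have h1 : wT (wAug v gΛ) S j' ∈ LinearMap.ker πM := by
      rw [hKM]
      exact hAugV.le' (wT_mem_KT (wAug v gΛ) S j')
    have h2 : WT U S (wT (wAug v gΛ) S j') ∈ KT w S := by
      rw [← hKN, LinearMap.mem_ker, ← hUS, LinearMap.mem_ker.mp h1, map_zero, smul_zero]
    have h3 : Fmap (MvPolynomial (Fin n) R) S (Fin kN)
        (WT U (MvPolynomial (Fin n) R) (wT (wAug v gΛ) (MvPolynomial (Fin n) R) j')) ∈
        KT w S ⊔ ((⊥ : Ideal (MvPolynomial (Fin n) R)).map
          (algebraMap (MvPolynomial (Fin n) R) S)) • (⊤ : Submodule S (Fin kN → S)) := by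
      rw [← WT_Fmap, Fmap_wT]
      exact Submodule.mem_sup_left h2
    obtain ⟨s, hs, hsx⟩ := (mem_sup_iff_exists_smul_mem hLQ hAugW ⊥ _).mp h3
    rw [Submodule.bot_smul, sup_bot_eq] at hsx
    exact ⟨s, hs, hsx⟩
  -- module structures over the polynomial ring
  letI : Module (MvPolynomial (Fin n) R) N :=
    Module.compHom N (algebraMap (MvPolynomial (Fin n) R) S)
  haveI : IsScalarTower (MvPolynomial (Fin n) R) S N :=
    ⟨fun p s x => by
      change (algebraMap (MvPolynomial (Fin n) R) S p * s) • x =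
        algebraMap (MvPolynomial (Fin n) R) S p • (s • x)
      rw [mul_smul]⟩
  haveI : IsScalarTower R (MvPolynomial (Fin n) R) N :=
    ⟨fun r p x => by
      change algebraMap (MvPolynomial (Fin n) R) S (r • p) • x =
        r • (algebraMap (MvPolynomial (Fin n) R) S p • x)
      rw [Algebra.smul_def, map_mul, mul_smul, ← IsScalarTower.algebraMap_apply R _ S,
        algebraMap_smul]⟩
  have hflat : Module.Flat R (LocalizedModule q.primeCompl
      ((Fin kN → MvPolynomial (Fin n) R) ⧸ KT (wAug w gΛ) (MvPolynomial (Fin n) R))) := by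
    haveI := isLocalizedModule_presMap hLQ hAugW πN hπN hKN
    exact (flat_localizedModule_iff_of_isLocalizedModule q.primeCompl
      (presMap hAugW πN hKN)).mpr inferInstance
  have hJ : ((IsLocalRing.maximalIdeal R).map (C : R →+* MvPolynomial (Fin n) R)).map
      (algebraMap (MvPolynomial (Fin n) R) S) = mS := by
    rw [Ideal.map_map, hCcomp]
  have hmapN : ∀ z : Fin kN → S, z ∈ mS • (⊤ : Submodule S (Fin kN → S)) →
      πN z ∈ mS • (⊤ : Submodule S N) := by
    intro z hz
    have : πN z ∈ (mS • (⊤ : Submodule S (Fin kN → S))).map πN := Submodule.mem_map_of_mem hz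
    rw [Submodule.map_smul''] at this
    exact Submodule.smul_mono le_rfl le_top this
  have href : RefD (wAug w gΛ) (wAug v gΛ) U (MvPolynomial (Fin n) R) q
      ((IsLocalRing.maximalIdeal R).map C) := by
    refine (refD_iff_refL U hLQ hAugW hAugV _).mpr ?_
    rw [hJ]
    intro a ha
    obtain ⟨y, hy, z, hz, hyz⟩ := Submodule.mem_sup.mp ha
    have h1 : πN (WT U S a) ∈ mS • (⊤ : Submodule S N) := by
      rw [← hyz, map_add, LinearMap.mem_ker.mp (hKN ▸ hy), zero_add]
      exact hmapN z hz
    have h2 : u (πM a) ∈ mS • (⊤ : Submodule S N) := by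
      rw [← hUS, ← hut] at h1
      have := Submodule.smul_mem _ (↑ut⁻¹ : S) h1
      rwa [smul_smul, Units.inv_mul, one_smul] at this
    have h3 := hu _ h2
    have h4 : (mS • (⊤ : Submodule S M)) = (mS • (⊤ : Submodule S (Fin kM → S))).map πM := by
      rw [Submodule.map_smul'', Submodule.map_top, LinearMap.range_eq_top.mpr hπM]
    rw [h4] at h3
    obtain ⟨z', hz', hzz⟩ := h3
    have h5 : a - z' ∈ KT v S := by
      rw [← hKM, LinearMap.mem_ker, map_sub, hzz, sub_self]
    have : a = (a - z') + z' := by abel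
    rw [this]
    exact Submodule.add_mem_sup h5 hz'
  obtain ⟨hD, hC⟩ := core (wAug w gΛ) (wAug v gΛ) U q hq hcompR hflat href
  constructor
  · rw [injective_iff_map_eq_zero]
    intro x hx
    obtain ⟨a, rfl⟩ := hπM x
    have h1 : WT U S a ∈ KT w S := by
      rw [← hKN, LinearMap.mem_ker, ← hUS, hx, smul_zero]
    have hL := (refD_iff_refL U hLQ hAugW hAugV ⊥).mp hD
    have h2 := hL a (Submodule.mem_sup_left h1)
    rw [Ideal.map_bot, Submodule.bot_smul, sup_bot_eq, ← hKM] at h2
    exact h2
  · let πC : (Fin kN → S) →ₗ[S] (N ⧸ LinearMap.range u) := (LinearMap.range u).mkQ ∘ₗ πN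
    have hπC : Function.Surjective πC :=
      (Submodule.mkQ_surjective _).comp hπN
    have hkerC : LinearMap.ker πC = KT (Sum.elim w U) S := by
      rw [KT_sumElim]
      ext x
      rw [LinearMap.mem_ker, LinearMap.comp_apply, Submodule.mkQ_apply,
        Submodule.Quotient.mk_eq_zero]
      constructor
      · rintro ⟨m', hm'⟩
        obtain ⟨b, rfl⟩ := hπM m'
        have h1 : algebraMap (MvPolynomial (Fin n) R) S t • x - WT U S b ∈ KT w S := by
          rw [← hKN, LinearMap.mem_ker, map_sub, map_smul, ← hm', hUS, sub_self]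
        have h2 : algebraMap (MvPolynomial (Fin n) R) S t • x ∈
            KT w S ⊔ LinearMap.range (WT U S) := by
          have : algebraMap (MvPolynomial (Fin n) R) S t • x =
              (algebraMap (MvPolynomial (Fin n) R) S t • x - WT U S b) + WT U S b := by abel
          rw [this]
          exact Submodule.add_mem_sup h1 ⟨b, rfl⟩
        rw [← hut] at h2
        have := Submodule.smul_mem _ (↑ut⁻¹ : S) h2
        rwa [smul_smul, Units.inv_mul, one_smul] at this
      · intro hx
        obtain ⟨y, hy, z, ⟨b, rfl⟩, rfl⟩ := Submodule.mem_sup.mp hx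
        rw [map_add, LinearMap.mem_ker.mp (hKN ▸ hy), zero_add, ← hUS, ← map_smul]
        exact ⟨_, rfl⟩
    have hAugC : AugPair (Sum.elim w U) (Sum.elim (wAug w gΛ) U) (MvPolynomial (Fin n) R) S g₀ :=
      ⟨by rw [KT_sumElim, KT_sumElim]; exact sup_le_sup_right hAugW.le _,
       fun l y => by
        rw [KT_sumElim]; exact Submodule.mem_sup_left (hAugW.smul_mem l y),
       by rw [KT_sumElim, KT_sumElim]; exact sup_le_sup_right hAugW.le' _⟩
    haveI : IsScalarTower R (MvPolynomial (Fin n) R) (N ⧸ LinearMap.range u) :=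
      ⟨fun r p x => by
        induction x using Submodule.Quotient.induction_on with
        | H x =>
          rw [← Submodule.Quotient.mk_smul, ← Submodule.Quotient.mk_smul,
            ← Submodule.Quotient.mk_smul, smul_assoc]⟩
    haveI := isLocalizedModule_presMap hLQ hAugC πC hπC hkerC
    exact (flat_localizedModule_iff_of_isLocalizedModule q.primeCompl
      (presMap hAugC πC hkerC)).mp hC

end C4

end Groth.Agent.Lib.T2H7.FPFlat
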