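import Mathlib
import Groth.Agent.Lib.T2H7FPFlatC

/-!
# Global-to-local glue for the finitely presented flatness criterion (helper7)

`T2H7FPFlatC.injective_and_flat_coker_of_essFP` is stated for a local homomorphism of local rings.
This file instantiates it at `A_p → B_q` for a finitely presented `A`-algebra `B`, a prime `q`
of `B` over `p`, and provides elementwise dictionaries between `B`-modules and their
localizations at `q`.
-/

universe u
open TensorProduct

namespace Groth.Agent.Lib.T2H7.FPFlat

section Dict
variable {B : Type*} [CommRing B] (S : Submonoid B) {N : Type*} [AddCommGroup N] [Module B N]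

/-- Membership of a fraction in the localization of a submodule. -/
theorem mk_mem_localized_iff (K : Submodule B N) (n : N) (s : S) :
    LocalizedModule.mk n s ∈ K.localized S ↔ ∃ t ∈ S, t • n ∈ K := by
  constructor
  · rintro ⟨m, hm, s', h⟩
    rw [← IsLocalizedModule.mk_eq_mk', LocalizedModule.mk_eq] at h
    obtain ⟨c, hc⟩ := h
    refine ⟨c * s', mul_mem c.2 s'.2, ?_⟩
    have : ((c : B) * (s' : B)) • n = ((c : B) * (s : B)) • m := by
      rw [mul_smul, mul_smul]
      simpa [Submonoid.smul_def] using hc.symm
    rw [this]
    exact K.smul_mem _ hm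
  · rintro ⟨t, ht, h⟩
    refine ⟨t • n, h, ⟨t, ht⟩ * s, ?_⟩
    rw [← IsLocalizedModule.mk_eq_mk', LocalizedModule.mk_eq]
    refine ⟨1, ?_⟩
    simp [Submonoid.smul_def, mul_smul, smul_comm t (s : B) n]

theorem map_smul_top_eq_localized (I : Ideal B) :
    (I.map (algebraMap B (Localization S)) • ⊤ : Submodule (Localization S) (LocalizedModule S N)) =
      (I • ⊤ : Submodule B N).localized S := by
  rw [Submodule.localized, Submodule.localized'_smul, Ideal.localized'_eq_map,
    Submodule.localized'_top]

theorem mk_mem_map_smul_top_iff (I : Ideal B) (n : N) (s : S) :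
    LocalizedModule.mk n s ∈ (I.map (algebraMap B (Localization S)) • ⊤ :
        Submodule (Localization S) (LocalizedModule S N)) ↔
      ∃ t ∈ S, t • n ∈ (I • ⊤ : Submodule B N) := by
  rw [map_smul_top_eq_localized, mk_mem_localized_iff]

theorem smul_top_eq_restrictScalars_map (I : Ideal B) :
    (I • ⊤ : Submodule B (LocalizedModule S N)) =
      (I.map (algebraMap B (Localization S)) • ⊤ :
        Submodule (Localization S) (LocalizedModule S N)).restrictScalars B := by
  rw [Ideal.smul_restrictScalars, Submodule.restrictScalars_top]

theorem mk_mem_smul_top_iff' (I : Ideal B) (n : N) (s : S) :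
    LocalizedModule.mk n s ∈ (I • ⊤ : Submodule B (LocalizedModule S N)) ↔
      ∃ t ∈ S, t • n ∈ (I • ⊤ : Submodule B N) := by
  rw [smul_top_eq_restrictScalars_map, Submodule.restrictScalars_mem, mk_mem_map_smul_top_iff]

theorem smul_top_eq_restrictScalars_of_tower {A : Type*} [CommRing A] [Algebra A B] [Module A N]
    [IsScalarTower A B N] (p : Ideal A) :
    (p • ⊤ : Submodule A (LocalizedModule S N)) =
      (p.map (algebraMap A B) • ⊤ : Submodule B (LocalizedModule S N)).restrictScalars A := by
  rw [Ideal.smul_restrictScalars, Submodule.restrictScalars_top]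

theorem mk_mem_smul_top_iff_of_tower {A : Type*} [CommRing A] [Algebra A B] [Module A N]
    [IsScalarTower A B N] (p : Ideal A) (n : N) (s : S) :
    LocalizedModule.mk n s ∈ (p • ⊤ : Submodule A (LocalizedModule S N)) ↔
      ∃ t ∈ S, t • n ∈ (p.map (algebraMap A B) • ⊤ : Submodule B N) := by
  rw [smul_top_eq_restrictScalars_of_tower, Submodule.restrictScalars_mem, mk_mem_smul_top_iff']

theorem mk_eq_zero_iff' (n : N) (s : S) :
    (LocalizedModule.mk n s = 0) ↔ ∃ t ∈ S, t • n = 0 := by
  rw [← LocalizedModule.zero_mk s, LocalizedModule.mk_eq]
  constructor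
  · rintro ⟨c, hc⟩
    refine ⟨c * s, mul_mem c.2 s.2, ?_⟩
    simpa [Submonoid.smul_def, mul_smul] using hc
  · rintro ⟨t, ht, h⟩
    refine ⟨⟨t, ht⟩, ?_⟩
    simp [Submonoid.smul_def, smul_comm t (s : B) n, h]

end Dict

section Glue
variable {A B : Type u} [CommRing A] [CommRing B] [Algebra A B]

/-- The localization of `B` at the image of the complement of `p` is finitely presented
over `A_p`. -/
theorem finitePresentation_localization_base [Algebra.FinitePresentation A B] (p : Ideal A)
    [p.IsPrime] :
    Algebra.FinitePresentation (Localization.AtPrime p)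
      (Localization (Algebra.algebraMapSubmonoid B p.primeCompl)) := by
  have hpo : Algebra.IsPushout A B (Localization.AtPrime p)
      (Localization (Algebra.algebraMapSubmonoid B p.primeCompl)) :=
    Algebra.isPushout_of_isLocalization p.primeCompl (Localization.AtPrime p) B _
  exact Algebra.FinitePresentation.equiv hpo.symm.equiv

theorem algebraMapSubmonoid_le_primeCompl (p : Ideal A) [p.IsPrime] (q : Ideal B) [q.IsPrime]
    [q.LiesOver p] : Algebra.algebraMapSubmonoid B p.primeCompl ≤ q.primeCompl := by
  rintro _ ⟨a, ha, rfl⟩
  intro h
  apply ha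
  rw [Ideal.LiesOver.over (p := p) (P := q)]
  exact h

/-- `B_q` is essentially of finite presentation over `A_p`. -/
theorem essFP_atPrime [Algebra.FinitePresentation A B] (p : Ideal A) [p.IsPrime] (q : Ideal B)
    [q.IsPrime] [q.LiesOver p]
    [Algebra (Localization.AtPrime p) (Localization.AtPrime q)]
    [Localization.AtPrime.IsLiesOverAlgebra p q] :
    ∃ (S₀ : Type u) (_ : CommRing S₀) (_ : Algebra (Localization.AtPrime p) S₀)
      (_ : Algebra S₀ (Localization.AtPrime q))
      (_ : IsScalarTower (Localization.AtPrime p) S₀ (Localization.AtPrime q))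
      (Msub : Submonoid S₀),
      Algebra.FinitePresentation (Localization.AtPrime p) S₀ ∧
        IsLocalization Msub (Localization.AtPrime q) := by
  have hle := algebraMapSubmonoid_le_primeCompl p q
  let Bp := Localization (Algebra.algebraMapSubmonoid B p.primeCompl)
  let alg : Algebra Bp (Localization.AtPrime q) :=
    IsLocalization.localizationAlgebraOfSubmonoidLe Bp (Localization.AtPrime q)
      (Algebra.algebraMapSubmonoid B p.primeCompl) q.primeCompl hle
  have tw : IsScalarTower B Bp (Localization.AtPrime q) :=
    IsLocalization.localization_isScalarTower_of_submonoid_le Bp (Localization.AtPrime q)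
      (Algebra.algebraMapSubmonoid B p.primeCompl) q.primeCompl hle
  have tw2 : IsScalarTower (Localization.AtPrime p) Bp (Localization.AtPrime q) := by
    refine IsScalarTower.of_algebraMap_eq' ?_
    refine IsLocalization.ringHom_ext p.primeCompl ?_
    ext a
    simp only [RingHom.comp_apply]
    rw [← IsScalarTower.algebraMap_apply A (Localization.AtPrime p) (Localization.AtPrime q),
      ← IsScalarTower.algebraMap_apply A (Localization.AtPrime p) Bp,
      IsScalarTower.algebraMap_apply A B Bp,
      ← IsScalarTower.algebraMap_apply B Bp (Localization.AtPrime q),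
      ← IsScalarTower.algebraMap_apply A B (Localization.AtPrime q)]
  refine ⟨Bp, inferInstance, inferInstance, alg, tw2,
    q.primeCompl.map (algebraMap B Bp), finitePresentation_localization_base p, ?_⟩
  exact IsLocalization.isLocalization_of_submonoid_le Bp (Localization.AtPrime q)
    (Algebra.algebraMapSubmonoid B p.primeCompl) q.primeCompl hle

/-- Global-to-local glue for the finitely presented flatness criterion: modules over `B_q`. -/
theorem injective_and_flat_coker_atPrime [Algebra.FinitePresentation A B] (p : Ideal A) [p.IsPrime]
    (q : Ideal B) [q.IsPrime] [q.LiesOver p]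
    {M N : Type u} [AddCommGroup M] [Module (Localization.AtPrime q) M] [Module A M]
    [IsScalarTower A (Localization.AtPrime q) M]
    [Module.FinitePresentation (Localization.AtPrime q) M]
    [AddCommGroup N] [Module (Localization.AtPrime q) N] [Module A N]
    [IsScalarTower A (Localization.AtPrime q) N]
    [Module.FinitePresentation (Localization.AtPrime q) N]
    [Module.Flat A N]
    (u : M →ₗ[Localization.AtPrime q] N)
    (hu : ∀ x : M, u x ∈ (p • ⊤ : Submodule A N) → x ∈ (p • ⊤ : Submodule A M)) :
    Function.Injective u ∧ Module.Flat A (N ⧸ LinearMap.range u) := by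
  let R := Localization.AtPrime p
  let S := Localization.AtPrime q
  let _ : Algebra R S := Localization.AtPrime.algebraOfLiesOver p q
  have hloc : IsLocalHom (algebraMap R S) :=
    Localization.isLocalHom_localRingHom p q (algebraMap A B) Ideal.LiesOver.over
  let _ : Module R M := Module.compHom M (algebraMap R S)
  let _ : Module R N := Module.compHom N (algebraMap R S)
  have tM : IsScalarTower R S M := IsScalarTower.of_algebraMap_smul fun _ _ => rfl
  have tN : IsScalarTower R S N := IsScalarTower.of_algebraMap_smul fun _ _ => rfl
  have tAM : IsScalarTower A R M := by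
    refine ⟨fun a r x => ?_⟩
    change algebraMap R S (a • r) • x = a • (algebraMap R S r • x)
    rw [Algebra.smul_def, map_mul, ← IsScalarTower.algebraMap_apply A R S, mul_smul,
      algebraMap_smul]
  have tAN : IsScalarTower A R N := by
    refine ⟨fun a r x => ?_⟩
    change algebraMap R S (a • r) • x = a • (algebraMap R S r • x)
    rw [Algebra.smul_def, map_mul, ← IsScalarTower.algebraMap_apply A R S, mul_smul,
      algebraMap_smul]
  have hflatR : Module.Flat R N :=
    (Module.flat_iff_of_isLocalization R p.primeCompl N).mpr inferInstance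
  have hmax : (IsLocalRing.maximalIdeal R).map (algebraMap R S) = p.map (algebraMap A S) := by
    rw [← Localization.AtPrime.map_eq_maximalIdeal, Ideal.map_map,
      ← IsScalarTower.algebraMap_eq]
  have hres : ∀ (P : Type u) [AddCommGroup P] [Module S P] [Module A P] [IsScalarTower A S P]
      (x : P),
      x ∈ ((IsLocalRing.maximalIdeal R).map (algebraMap R S) • (⊤ : Submodule S P)) ↔
        x ∈ (p • ⊤ : Submodule A P) := by
    intro P _ _ _ _ x
    rw [hmax, ← Submodule.restrictScalars_mem A, Ideal.smul_restrictScalars,
      Submodule.restrictScalars_top]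
  obtain ⟨h1, h2⟩ := injective_and_flat_coker_of_essFP (R := R) (S := S)
    (essFP_atPrime p q) u (fun x hx => (hres M x).mpr (hu x ((hres N _).mp hx)))
  refine ⟨h1, ?_⟩
  exact (Module.flat_iff_of_isLocalization R p.primeCompl _).mp h2

/-- Global-to-local glue, elementwise form: `u : M → N` a map of finitely presented `B`-modules,
`N_q` flat over `A`, and `u` injective on the fibre over `p` near `q`. Then `u` is injective
near `q` and the cokernel of `u` is flat over `A` at `q`. -/
theorem exists_smul_eq_zero_and_flat_coker_atPrime [Algebra.FinitePresentation A B]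
    (p : Ideal A) [p.IsPrime] (q : Ideal B) [q.IsPrime] [q.LiesOver p]
    {M N : Type u} [AddCommGroup M] [Module B M] [Module A M] [IsScalarTower A B M]
    [Module.FinitePresentation B M]
    [AddCommGroup N] [Module B N] [Module A N] [IsScalarTower A B N]
    [Module.FinitePresentation B N]
    (hflat : Module.Flat A (LocalizedModule q.primeCompl N))
    (u : M →ₗ[B] N)
    (hu : ∀ m : M, (∃ t ∈ q.primeCompl, t • u m ∈ (p.map (algebraMap A B) • ⊤ : Submodule B N)) →
      ∃ t ∈ q.primeCompl, t • m ∈ (p.map (algebraMap A B) • ⊤ : Submodule B M)) :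
    (∀ m : M, (∃ t ∈ q.primeCompl, t • u m = 0) → ∃ t ∈ q.primeCompl, t • m = 0) ∧
      Module.Flat A (LocalizedModule q.primeCompl (N ⧸ LinearMap.range u)) := by
  have key := injective_and_flat_coker_atPrime p q
    (M := LocalizedModule q.primeCompl M) (N := LocalizedModule q.primeCompl N)
    (LocalizedModule.map q.primeCompl u) (by
      intro x hx
      induction x using LocalizedModule.induction_on with
      | h m s =>
        rw [LocalizedModule.map_mk, mk_mem_smul_top_iff_of_tower] at hx
        rw [mk_mem_smul_top_iff_of_tower]
        exact hu m hx)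
  obtain ⟨h1, h2⟩ := key
  refine ⟨?_, ?_⟩
  · intro m hm
    have h0 : LocalizedModule.map q.primeCompl u (LocalizedModule.mk m 1) = 0 := by
      rw [LocalizedModule.map_mk, mk_eq_zero_iff']
      exact hm
    have := h1 (h0.trans (map_zero _).symm)
    exact (mk_eq_zero_iff' q.primeCompl m 1).mp this
  · have hr : (LinearMap.range u).localized q.primeCompl =
        LinearMap.range (LocalizedModule.map q.primeCompl u) := by
      ext x
      induction x using LocalizedModule.induction_on with
      | h n s =>
        rw [mk_mem_localized_iff]
        constructor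
        · rintro ⟨t, ht, m, hm⟩
          refine ⟨LocalizedModule.mk m (⟨t, ht⟩ * s), ?_⟩
          rw [LocalizedModule.map_mk, hm, LocalizedModule.mk_eq]
          exact ⟨1, by simp [Submonoid.smul_def, mul_smul, smul_comm t (s : B) n]⟩
        · rintro ⟨y, hy⟩
          induction y using LocalizedModule.induction_on with
          | h m s' =>
            rw [LocalizedModule.map_mk, LocalizedModule.mk_eq] at hy
            obtain ⟨c, hc⟩ := hy
            refine ⟨c * s', mul_mem c.2 s'.2, ((c : B) * (s : B)) • m, ?_⟩
            rw [map_smul, mul_smul, mul_smul]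
            simpa [Submonoid.smul_def] using hc
    let e1 := localizedQuotientEquiv q.primeCompl (LinearMap.range u)
    let e2 := Submodule.quotEquivOfEq _ _ hr
    exact Module.Flat.of_linearEquiv ((e2.symm.trans e1).restrictScalars A).symm

end Glue
end Groth.Agent.Lib.T2H7.FPFlat
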