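import Mathlib
import Groth.Agent.Lib.T2H7FPFlatD
import Groth.Agent.Lib.Helper13Fiber
import Groth.Agent.Lib.Helper3FlatLocA

/-!
# Fibre dictionaries for the global-to-local flatness glue (helper7)

Elementwise description of the fibre module `(B ⊗[A] κ(p)) ⊗[B] M` and of the fibre module
`M ⊗[A] κ(p)`, and the consequence: an element of `B` acting injectively on all fibre modules of
an `A`-flat finitely presented module acts injectively.
-/

universe u
open TensorProduct

namespace Groth.Agent.Lib.T2H7.FPFlat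

section FibreDict
variable {A B : Type u} [CommRing A] [CommRing B] [Algebra A B] (p : Ideal A) [p.IsPrime]
  (M : Type u) [AddCommGroup M] [Module B M] [Module A M] [IsScalarTower A B M]

/-- The comparison map from `(B ⊗[A] κ(p)) ⊗[B] M` to `κ(p) ⊗[A] M`. -/
noncomputable def fibreToTensor :
    (B ⊗[A] p.ResidueField) ⊗[B] M →ₗ[A] p.ResidueField ⊗[A] M :=
  (TensorProduct.comm A M p.ResidueField).toLinearMap ∘ₗ
    ((AlgebraTensorModule.cancelBaseChange A B B M p.ResidueField).toLinearMap.restrictScalars A) ∘ₗ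
    ((TensorProduct.comm B (B ⊗[A] p.ResidueField) M).toLinearMap.restrictScalars A)

theorem fibreToTensor_one_tmul (m : M) :
    fibreToTensor p M ((1 : B ⊗[A] p.ResidueField) ⊗ₜ[B] m) = (1 : p.ResidueField) ⊗ₜ[A] m := by
  simp [fibreToTensor, Algebra.TensorProduct.one_def]

theorem exists_smul_mem_of_one_tmul_eq_zero (m : M)
    (h : (1 : B ⊗[A] p.ResidueField) ⊗ₜ[B] m = 0) :
    ∃ t ∉ p, algebraMap A B t • m ∈ (p.map (algebraMap A B) • ⊤ : Submodule B M) := by
  have h1 : (1 : p.ResidueField) ⊗ₜ[A] m = 0 := by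
    rw [← fibreToTensor_one_tmul (B := B) p M m, h, map_zero]
  obtain ⟨t, ht, hm⟩ := Groth.Agent.Helper13Fiber.exists_smul_mem_of_tmul_eq_zero p m h1
  refine ⟨t, ht, ?_⟩
  rw [algebraMap_smul B t m, ← Submodule.restrictScalars_mem A, Ideal.smul_restrictScalars,
    Submodule.restrictScalars_top]
  exact hm

theorem one_tmul_eq_zero_of_mem {m : M}
    (hm : m ∈ (p.map (algebraMap A B) • ⊤ : Submodule B M)) :
    (1 : B ⊗[A] p.ResidueField) ⊗ₜ[B] m = 0 := by
  rw [← Submodule.restrictScalars_mem A, Ideal.smul_restrictScalars,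
    Submodule.restrictScalars_top] at hm
  refine Submodule.smul_induction_on hm ?_ ?_
  · intro a ha n _
    have h0 : algebraMap A p.ResidueField a = 0 := by
      rw [Ideal.algebraMap_residueField_eq_zero]
      exact ha
    have h1 : (algebraMap A B a ⊗ₜ[A] (1 : p.ResidueField) : B ⊗[A] p.ResidueField) = 0 := by
      rw [Algebra.algebraMap_eq_smul_one, TensorProduct.smul_tmul, ← Algebra.algebraMap_eq_smul_one,
        h0, tmul_zero]
    rw [← algebraMap_smul B a n, ← TensorProduct.smul_tmul, Algebra.TensorProduct.one_def,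
      TensorProduct.smul_tmul', smul_eq_mul, mul_one, h1, zero_tmul]
  · intro x y hx hy
    rw [tmul_add, hx, hy, add_zero]

end FibreDict
end Groth.Agent.Lib.T2H7.FPFlat

namespace Groth.Agent.Lib.T2H7.FPFlat

section Regular
variable {A B : Type u} [CommRing A] [CommRing B] [Algebra A B]
  {M : Type u} [AddCommGroup M] [Module B M] [Module A M] [IsScalarTower A B M]

/-- The fibre condition for multiplication by `a` at a prime `q` of `B`, from regularity of
`a ⊗ 1` on the fibre module over `q ∩ A`. -/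
theorem fibre_condition_of_isSMulRegular (p : Ideal A) [p.IsPrime] (q : Ideal B) [q.IsPrime]
    [q.LiesOver p] (a : B)
    (h : IsSMulRegular ((B ⊗[A] p.ResidueField) ⊗[B] M) (a ⊗ₜ[A] (1 : p.ResidueField)))
    (m : M)
    (hm : ∃ t ∈ q.primeCompl, t • (a • m) ∈ (p.map (algebraMap A B) • ⊤ : Submodule B M)) :
    ∃ t ∈ q.primeCompl, t • m ∈ (p.map (algebraMap A B) • ⊤ : Submodule B M) := by
  obtain ⟨t, ht, htm⟩ := hm
  have h1 : (a ⊗ₜ[A] (1 : p.ResidueField) : B ⊗[A] p.ResidueField) •
      ((1 : B ⊗[A] p.ResidueField) ⊗ₜ[B] (t • m)) = 0 := by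
    rw [TensorProduct.smul_tmul', smul_eq_mul, mul_one]
    have : (a ⊗ₜ[A] (1 : p.ResidueField) : B ⊗[A] p.ResidueField) =
        a • (1 : B ⊗[A] p.ResidueField) := by
      rw [Algebra.TensorProduct.one_def, TensorProduct.smul_tmul', smul_eq_mul, mul_one]
    rw [this, TensorProduct.smul_tmul, smul_comm a t m]
    exact one_tmul_eq_zero_of_mem p M htm
  have h2 : (1 : B ⊗[A] p.ResidueField) ⊗ₜ[B] (t • m) = 0 := h (h1.trans (smul_zero _).symm)
  obtain ⟨t', ht', h3⟩ := exists_smul_mem_of_one_tmul_eq_zero p M (t • m) h2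
  refine ⟨algebraMap A B t' * t, ?_, ?_⟩
  · refine mul_mem ?_ ht
    intro hmem
    apply ht'
    rw [Ideal.LiesOver.over (p := p) (P := q)]
    exact hmem
  · rw [mul_smul]
    exact h3

/-- An element of `B` acting injectively on every fibre module of an `A`-flat finitely presented
`B`-module (`B` finitely presented over `A`) acts injectively. -/
theorem isSMulRegular_of_fibrewise [Algebra.FinitePresentation A B]
    [Module.FinitePresentation B M] [Module.Flat A M] (a : B)
    (h : ∀ (p : Ideal A) [p.IsPrime],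
      IsSMulRegular ((B ⊗[A] p.ResidueField) ⊗[B] M) (a ⊗ₜ[A] (1 : p.ResidueField))) :
    IsSMulRegular M a := by
  intro m₁ m₂ h12
  rw [← sub_eq_zero]
  set m := m₁ - m₂ with hm
  have ham : a • m = 0 := by
    rw [hm, smul_sub, sub_eq_zero]
    exact h12
  by_contra hne
  let I : Ideal B := LinearMap.ker (LinearMap.toSpanSingleton B M m)
  have hI : I ≠ ⊤ := by
    intro hI
    apply hne
    have : (1 : B) ∈ I := by rw [hI]; trivial
    simpa [I] using this
  obtain ⟨q, hq, hIq⟩ := Ideal.exists_le_maximal I hI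
  have hqp : q.IsPrime := hq.isPrime
  have hflat : Module.Flat A (LocalizedModule q.primeCompl M) :=
    Groth.Agent.Lib.Helper3.FlatLoc.flat_localizedModule_of_flat q.primeCompl
  obtain ⟨h1, -⟩ := exists_smul_eq_zero_and_flat_coker_atPrime (q.under A) q hflat
    (LinearMap.lsmul B M a)
    (fun x hx => fibre_condition_of_isSMulRegular (q.under A) q a (h (q.under A)) x hx)
  obtain ⟨t, ht, htm⟩ := h1 m ⟨1, q.primeCompl.one_mem, by
    rw [one_smul]; exact ham⟩
  apply ht
  apply hIq
  simpa [I] using htm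

end Regular
end Groth.Agent.Lib.T2H7.FPFlat
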