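import Mathlib
import Groth.Agent.Lib.T2H7FPFlatE
import Groth.Agent.Lib.Helper3FlatOpenFP

/-!
# Regular sequences on fibres and flatness (helper7)

Let `B` be a finitely presented `A`-algebra, `M` a finitely presented `B`-module, `q` a prime of
`B` over `p`. If `M_q` is `A`-flat and a sequence of elements of `B` is regular on the
localization at `q` of the fibre module `M ⊗[A] κ(p)`, then it is regular on `M_q` and the
successive quotients are `A`-flat at `q`.
-/

universe u
open TensorProduct

namespace Groth.Agent.Lib.T2H7.FPFlat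

section FibreTensor
variable {A B : Type u} [CommRing A] [CommRing B] [Algebra A B] (p : Ideal A) [p.IsPrime]
  (M : Type u) [AddCommGroup M] [Module B M] [Module A M] [IsScalarTower A B M]

/-- Every element of the residue field is a fraction of elements of `A`. -/
theorem exists_smul_eq_algebraMap_residueField (c : p.ResidueField) :
    ∃ r ∉ p, ∃ a : A, r • c = algebraMap A p.ResidueField a := by
  obtain ⟨r, hr, s, e⟩ := Ideal.ResidueField.exists_smul_eq_tmul_one (R := A) (S := A) p
    ((1 : A) ⊗ₜ[A] c)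
  refine ⟨r, hr, s, ?_⟩
  have := congrArg (TensorProduct.lid A p.ResidueField) e
  simpa [Algebra.algebraMap_eq_smul_one] using this

/-- Every element of `M ⊗[A] κ(p)` is, up to an element outside `p`, of the form `m ⊗ 1`. -/
theorem exists_smul_eq_tmul_one_module (f : M ⊗[A] p.ResidueField) :
    ∃ r ∉ p, ∃ m : M, r • f = m ⊗ₜ[A] (1 : p.ResidueField) := by
  induction f using TensorProduct.induction_on with
  | zero => exact ⟨1, fun h => (Ideal.IsPrime.ne_top inferInstance) ((Ideal.eq_top_iff_one p).mpr h),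
      0, by rw [smul_zero, zero_tmul]⟩
  | tmul m c =>
    obtain ⟨r, hr, a, e⟩ := exists_smul_eq_algebraMap_residueField p c
    refine ⟨r, hr, a • m, ?_⟩
    rw [TensorProduct.smul_tmul', TensorProduct.smul_tmul, e, Algebra.algebraMap_eq_smul_one,
      ← TensorProduct.smul_tmul]
  | add f₁ f₂ h₁ h₂ =>
    obtain ⟨r₁, hr₁, m₁, e₁⟩ := h₁
    obtain ⟨r₂, hr₂, m₂, e₂⟩ := h₂
    refine ⟨r₁ * r₂, Ideal.IsPrime.mul_notMem inferInstance hr₁ hr₂, r₂ • m₁ + r₁ • m₂, ?_⟩
    rw [smul_add, mul_comm r₁ r₂, mul_smul, e₁, mul_comm r₂ r₁, mul_smul, e₂, add_tmul,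
      TensorProduct.smul_tmul', TensorProduct.smul_tmul']

variable {M}

theorem tmul_one_eq_zero_of_mem_smul_top {x : M}
    (hx : x ∈ (p.map (algebraMap A B) • ⊤ : Submodule B M)) :
    x ⊗ₜ[A] (1 : p.ResidueField) = 0 := by
  rw [← Submodule.restrictScalars_mem A, Ideal.smul_restrictScalars,
    Submodule.restrictScalars_top] at hx
  refine Submodule.smul_induction_on hx ?_ ?_
  · intro a ha n _
    have h0 : algebraMap A p.ResidueField a = 0 := by
      rw [Ideal.algebraMap_residueField_eq_zero]
      exact ha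
    rw [TensorProduct.smul_tmul, Algebra.smul_def, mul_one, h0, tmul_zero]
  · intro x y hx hy
    rw [add_tmul, hx, hy, add_zero]

/-- Forward dictionary on the fibre module. -/
theorem tmul_one_mem_smul_top_of_mem (I : Ideal B) {x : M}
    (hx : x ∈ (p.map (algebraMap A B) • ⊤ ⊔ I • ⊤ : Submodule B M)) :
    x ⊗ₜ[A] (1 : p.ResidueField) ∈ (I • ⊤ : Submodule B (M ⊗[A] p.ResidueField)) := by
  obtain ⟨y, hy, z, hz, rfl⟩ := Submodule.mem_sup.mp hx
  rw [add_tmul, tmul_one_eq_zero_of_mem_smul_top p hy, zero_add]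
  refine Submodule.smul_induction_on hz ?_ ?_
  · intro b hb n _
    rw [← TensorProduct.smul_tmul']
    exact Submodule.smul_mem_smul hb Submodule.mem_top
  · intro x y hx hy
    rw [add_tmul]
    exact add_mem hx hy

/-- Backward dictionary on the fibre module. -/
theorem exists_smul_mem_of_tmul_one_mem_smul_top (I : Ideal B) {x : M}
    (hx : x ⊗ₜ[A] (1 : p.ResidueField) ∈ (I • ⊤ : Submodule B (M ⊗[A] p.ResidueField))) :
    ∃ a ∉ p, algebraMap A B a • x ∈ (p.map (algebraMap A B) • ⊤ ⊔ I • ⊤ : Submodule B M) := by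
  let K : Submodule B M := I • ⊤
  let φ : M ⊗[A] p.ResidueField →ₗ[B] (M ⧸ K) ⊗[A] p.ResidueField :=
    TensorProduct.AlgebraTensorModule.map K.mkQ LinearMap.id
  have hkill : ∀ (b : B), b ∈ I → ∀ y : (M ⧸ K) ⊗[A] p.ResidueField, b • y = 0 := by
    intro b hb y
    induction y using TensorProduct.induction_on with
    | zero => rw [smul_zero]
    | tmul n c =>
      obtain ⟨m, rfl⟩ := K.mkQ_surjective n
      rw [TensorProduct.smul_tmul', ← map_smul]
      have : K.mkQ (b • m) = 0 := by
        rw [Submodule.mkQ_apply, Submodule.Quotient.mk_eq_zero]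
        exact Submodule.smul_mem_smul hb Submodule.mem_top
      rw [this, zero_tmul]
    | add y₁ y₂ h₁ h₂ => rw [smul_add, h₁, h₂, add_zero]
  have hφ : ∀ w ∈ (I • ⊤ : Submodule B (M ⊗[A] p.ResidueField)), φ w = 0 := by
    intro w hw
    refine Submodule.smul_induction_on hw ?_ ?_
    · intro b hb f _
      rw [map_smul]
      exact hkill b hb _
    · intro x y hx hy
      rw [map_add, hx, hy, add_zero]
  have h1 : (K.mkQ x) ⊗ₜ[A] (1 : p.ResidueField) = 0 := by
    have := hφ _ hx
    simpa [φ] using this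
  have h2 : (1 : p.ResidueField) ⊗ₜ[A] (K.mkQ x) = 0 := by
    have := congrArg (TensorProduct.comm A (M ⧸ K) p.ResidueField) h1
    simpa using this
  obtain ⟨a, ha, h3⟩ := Groth.Agent.Helper13Fiber.exists_smul_mem_of_tmul_eq_zero p _ h2
  refine ⟨a, ha, ?_⟩
  have h4 : (p • ⊤ : Submodule A (M ⧸ K)) =
      Submodule.map (K.mkQ.restrictScalars A) (p • ⊤ : Submodule A M) := by
    rw [Submodule.map_smul'', Submodule.map_top]
    congr 1
    symm
    rw [LinearMap.range_eq_top]
    exact K.mkQ_surjective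
  rw [h4] at h3
  obtain ⟨y, hy, hyx⟩ := h3
  have hy' : y ∈ (p.map (algebraMap A B) • ⊤ : Submodule B M) := by
    rw [← Submodule.restrictScalars_mem A, Ideal.smul_restrictScalars,
      Submodule.restrictScalars_top]
    exact hy
  have h5 : a • x - y ∈ K := by
    rw [← Submodule.Quotient.mk_eq_zero, Submodule.Quotient.mk_sub, sub_eq_zero]
    have : K.mkQ y = a • K.mkQ x := hyx
    rw [← Submodule.mkQ_apply, ← Submodule.mkQ_apply, this]
    exact (LinearMap.map_smul_of_tower K.mkQ a x)
  rw [algebraMap_smul B a x]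
  have : a • x = y + (a • x - y) := by abel
  rw [this]
  exact Submodule.add_mem_sup hy' h5

end FibreTensor
end Groth.Agent.Lib.T2H7.FPFlat

namespace Groth.Agent.Lib.T2H7.FPFlat

section Step
variable {A B : Type u} [CommRing A] [CommRing B] [Algebra A B] (p : Ideal A) [p.IsPrime]
  (q : Ideal B) [q.IsPrime] [q.LiesOver p]
  {M : Type u} [AddCommGroup M] [Module B M] [Module A M] [IsScalarTower A B M]

theorem algebraMap_mem_primeCompl_of_notMem {a : A} (ha : a ∉ p) :
    algebraMap A B a ∈ q.primeCompl := by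
  intro hmem
  apply ha
  rw [Ideal.LiesOver.over (p := p) (P := q)]
  exact hmem

/-- Dictionary for the localized fibre module. -/
theorem mk_tmul_one_mem_smul_top_iff (I : Ideal B) (x : M) (s : q.primeCompl) :
    LocalizedModule.mk (x ⊗ₜ[A] (1 : p.ResidueField)) s ∈
        (I • ⊤ : Submodule B (LocalizedModule q.primeCompl (M ⊗[A] p.ResidueField))) ↔
      ∃ t ∈ q.primeCompl, t • x ∈ (p.map (algebraMap A B) • ⊤ ⊔ I • ⊤ : Submodule B M) := by
  rw [mk_mem_smul_top_iff']
  constructor
  · rintro ⟨t, ht, h⟩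
    rw [TensorProduct.smul_tmul'] at h
    obtain ⟨a, ha, h2⟩ := exists_smul_mem_of_tmul_one_mem_smul_top p I h
    refine ⟨algebraMap A B a * t, mul_mem (algebraMap_mem_primeCompl_of_notMem p q ha) ht, ?_⟩
    rw [mul_smul]
    exact h2
  · rintro ⟨t, ht, h⟩
    refine ⟨t, ht, ?_⟩
    rw [TensorProduct.smul_tmul']
    exact tmul_one_mem_smul_top_of_mem p I h

theorem mkQ_mem_smul_top_iff (J I : Ideal B) (x : M) :
    (I • ⊤ : Submodule B M).mkQ x ∈ (J • ⊤ : Submodule B (M ⧸ (I • ⊤ : Submodule B M))) ↔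
      x ∈ (J • ⊤ ⊔ I • ⊤ : Submodule B M) := by
  have h : (J • ⊤ : Submodule B (M ⧸ (I • ⊤ : Submodule B M))) =
      Submodule.map (I • ⊤ : Submodule B M).mkQ (J • ⊤ : Submodule B M) := by
    rw [Submodule.map_smul'', Submodule.map_top, Submodule.range_mkQ]
  rw [h, ← Submodule.mem_comap, Submodule.comap_map_eq, Submodule.ker_mkQ]


theorem map_mkQ_eq_range_lsmul (I : Ideal B) (r : B) :
    Submodule.map (I • ⊤ : Submodule B M).mkQ (((I ⊔ Ideal.span {r}) • ⊤ : Submodule B M)) =
      LinearMap.range (LinearMap.lsmul B (M ⧸ (I • ⊤ : Submodule B M)) r) := by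
  rw [Submodule.map_smul'', Submodule.map_top, Submodule.range_mkQ, Submodule.sup_smul]
  have h0 : (I • ⊤ : Submodule B (M ⧸ (I • ⊤ : Submodule B M))) = ⊥ := by
    rw [eq_bot_iff]
    refine Submodule.smul_le.mpr ?_
    intro b hb n _
    obtain ⟨m, rfl⟩ := (I • ⊤ : Submodule B M).mkQ_surjective n
    rw [Submodule.mem_bot, ← map_smul, Submodule.mkQ_apply, Submodule.Quotient.mk_eq_zero]
    exact Submodule.smul_mem_smul hb Submodule.mem_top
  rw [h0, bot_sup_eq, Submodule.ideal_span_singleton_smul]
  ext x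
  simp [Submodule.mem_smul_pointwise_iff_exists]

/-- One step: from flatness of `(M/IM)_q` and regularity of `r` on the localized fibre module
modulo `I`, deduce regularity of `r` on `M_q/IM_q` and flatness of `(M/(I,r)M)_q`. -/
theorem regular_and_flat_step [Algebra.FinitePresentation A B] [Module.FinitePresentation B M]
    (I : Ideal B) (hI : I.FG) (r : B)
    (hflat : Module.Flat A (LocalizedModule q.primeCompl (M ⧸ (I • ⊤ : Submodule B M))))
    (hreg : IsSMulRegular
      (LocalizedModule q.primeCompl (M ⊗[A] p.ResidueField) ⧸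
        (I • ⊤ : Submodule B (LocalizedModule q.primeCompl (M ⊗[A] p.ResidueField)))) r) :
    IsSMulRegular (LocalizedModule q.primeCompl M ⧸
        (I • ⊤ : Submodule B (LocalizedModule q.primeCompl M))) r ∧
      Module.Flat A (LocalizedModule q.primeCompl
        (M ⧸ ((I ⊔ Ideal.span {r}) • ⊤ : Submodule B M))) := by
  let K : Submodule B M := I • ⊤
  have hKfg : K.FG := Submodule.FG.smul hI Module.Finite.fg_top
  have hfp : Module.FinitePresentation B (M ⧸ K) :=
    Module.finitePresentation_of_surjective K.mkQ K.mkQ_surjective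
      (by rw [Submodule.ker_mkQ]; exact hKfg)
  let u : (M ⧸ K) →ₗ[B] (M ⧸ K) := LinearMap.lsmul B (M ⧸ K) r
  have hu : ∀ n : M ⧸ K,
      (∃ t ∈ q.primeCompl, t • u n ∈ (p.map (algebraMap A B) • ⊤ : Submodule B (M ⧸ K))) →
      ∃ t ∈ q.primeCompl, t • n ∈ (p.map (algebraMap A B) • ⊤ : Submodule B (M ⧸ K)) := by
    intro n
    obtain ⟨m, rfl⟩ := K.mkQ_surjective n
    rintro ⟨t, ht, h⟩
    have h1 : K.mkQ (t • r • m) ∈ (p.map (algebraMap A B) • ⊤ : Submodule B (M ⧸ K)) := by
      rw [map_smul, map_smul]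
      exact h
    rw [mkQ_mem_smul_top_iff] at h1
    have h2 : LocalizedModule.mk ((r • m) ⊗ₜ[A] (1 : p.ResidueField)) (1 : q.primeCompl) ∈
        (I • ⊤ : Submodule B (LocalizedModule q.primeCompl (M ⊗[A] p.ResidueField))) :=
      (mk_tmul_one_mem_smul_top_iff p q I (r • m) 1).mpr ⟨t, ht, h1⟩
    have h3 : r • LocalizedModule.mk (m ⊗ₜ[A] (1 : p.ResidueField)) (1 : q.primeCompl) ∈
        (I • ⊤ : Submodule B (LocalizedModule q.primeCompl (M ⊗[A] p.ResidueField))) := by
      rw [LocalizedModule.smul'_mk, TensorProduct.smul_tmul']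
      exact h2
    have h4 := (isSMulRegular_quotient_iff_mem_of_smul_mem _ r).mp hreg _ h3
    obtain ⟨t', ht', h5⟩ := (mk_tmul_one_mem_smul_top_iff p q I m 1).mp h4
    refine ⟨t', ht', ?_⟩
    rw [← map_smul, mkQ_mem_smul_top_iff]
    exact h5
  obtain ⟨c1, c2⟩ := exists_smul_eq_zero_and_flat_coker_atPrime p q hflat u hu
  refine ⟨?_, ?_⟩
  · rw [isSMulRegular_quotient_iff_mem_of_smul_mem]
    intro y hy
    induction y using LocalizedModule.induction_on with
    | h m s =>
      rw [LocalizedModule.smul'_mk, mk_mem_smul_top_iff'] at hy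
      obtain ⟨t, ht, h⟩ := hy
      rw [mk_mem_smul_top_iff']
      obtain ⟨t', ht', h'⟩ := c1 (K.mkQ m) ⟨t, ht, by
        change t • (r • K.mkQ m) = 0
        rw [← map_smul, ← map_smul, Submodule.mkQ_apply, Submodule.Quotient.mk_eq_zero]
        exact h⟩
      refine ⟨t', ht', ?_⟩
      rwa [← map_smul, Submodule.mkQ_apply, Submodule.Quotient.mk_eq_zero] at h'
  · have hle : K ≤ ((I ⊔ Ideal.span {r}) • ⊤ : Submodule B M) :=
      Submodule.smul_mono_left le_sup_left
    let e1 := Submodule.quotientQuotientEquivQuotient K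
      ((I ⊔ Ideal.span {r}) • ⊤ : Submodule B M) hle
    let e2 := Submodule.quotEquivOfEq _ _ (map_mkQ_eq_range_lsmul (M := M) I r).symm
    exact Groth.Agent.Lib.Helper3.FlatOpen.flat_localizedModule_of_linearEquiv (e2.trans e1)
      q.primeCompl c2


theorem ofList_fg (l : List B) : (Ideal.ofList l).FG :=
  Submodule.fg_span (List.finite_toSet l)

theorem ofList_take_succ (g : List B) (i : ℕ) (hi : i < g.length) :
    Ideal.ofList (g.take (i + 1)) = Ideal.ofList (g.take i) ⊔ Ideal.span {g[i]} := by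
  rw [List.take_succ_eq_append_getElem hi, Ideal.ofList_append, Ideal.ofList_singleton]

/-- Flatness of all the successive quotients. -/
theorem flat_quotients_of_isWeaklyRegular_fibre [Algebra.FinitePresentation A B]
    [Module.FinitePresentation B M] (g : List B)
    (hflat : Module.Flat A (LocalizedModule q.primeCompl M))
    (hreg : RingTheory.Sequence.IsWeaklyRegular
      (LocalizedModule q.primeCompl (M ⊗[A] p.ResidueField)) g) :
    ∀ i ≤ g.length, Module.Flat A (LocalizedModule q.primeCompl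
      (M ⧸ (Ideal.ofList (g.take i) • ⊤ : Submodule B M))) := by
  intro i
  induction i with
  | zero =>
    intro _
    have h0 : (Ideal.ofList (g.take 0) • ⊤ : Submodule B M) = ⊥ := by
      rw [List.take_zero, Ideal.ofList_nil, Submodule.bot_smul]
    exact Groth.Agent.Lib.Helper3.FlatOpen.flat_localizedModule_of_linearEquiv
      (Submodule.quotEquivOfEqBot _ h0).symm q.primeCompl hflat
  | succ i ih =>
    intro hi
    have hi' : i < g.length := hi
    have h1 := (regular_and_flat_step p q (Ideal.ofList (g.take i)) (ofList_fg _) g[i]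
      (ih hi'.le) (hreg.regular_mod_prev i hi')).2
    rw [ofList_take_succ g i hi']
    exact h1

/-- EGA IV 11.3.8-type statement: regular sequence on the localized fibre module. -/
theorem isRegular_and_flat_quotients_of_isRegular_fibre [Algebra.FinitePresentation A B]
    [Module.FinitePresentation B M] (g : List B)
    (hflat : Module.Flat A (LocalizedModule q.primeCompl M))
    (hreg : RingTheory.Sequence.IsRegular
      (LocalizedModule q.primeCompl (M ⊗[A] p.ResidueField)) g) :
    RingTheory.Sequence.IsRegular (LocalizedModule q.primeCompl M) g ∧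
      ∀ i ≤ g.length, Module.Flat A (LocalizedModule q.primeCompl
        (M ⧸ (Ideal.ofList (g.take i) • ⊤ : Submodule B M))) := by
  have hΦ := flat_quotients_of_isWeaklyRegular_fibre p q g hflat hreg.toIsWeaklyRegular
  refine ⟨⟨⟨?_⟩, ?_⟩, hΦ⟩
  · intro i hi
    exact (regular_and_flat_step p q (Ideal.ofList (g.take i)) (ofList_fg _) g[i]
      (hΦ i hi.le) (hreg.regular_mod_prev i hi)).1
  · intro htop
    apply hreg.top_ne_smul
    rw [eq_comm, eq_top_iff]
    intro y _
    induction y using LocalizedModule.induction_on with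
    | h f s =>
      obtain ⟨r, hr, m, e⟩ := exists_smul_eq_tmul_one_module p M f
      have h1 : LocalizedModule.mk m (1 : q.primeCompl) ∈
          (Ideal.ofList g • ⊤ : Submodule B (LocalizedModule q.primeCompl M)) := by
        rw [← htop]
        exact Submodule.mem_top
      rw [mk_mem_smul_top_iff'] at h1
      obtain ⟨t, ht, h2⟩ := h1
      have h3 : LocalizedModule.mk (m ⊗ₜ[A] (1 : p.ResidueField)) s ∈
          (Ideal.ofList g • ⊤ :
            Submodule B (LocalizedModule q.primeCompl (M ⊗[A] p.ResidueField))) :=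
        (mk_tmul_one_mem_smul_top_iff p q (Ideal.ofList g) m s).mpr
          ⟨t, ht, Submodule.mem_sup_right h2⟩
      rw [mk_mem_smul_top_iff'] at h3 ⊢
      obtain ⟨t', ht', h4⟩ := h3
      refine ⟨t' * algebraMap A B r, mul_mem ht' (algebraMap_mem_primeCompl_of_notMem p q hr), ?_⟩
      rw [mul_smul, algebraMap_smul B r f, e]
      exact h4

end Step
end Groth.Agent.Lib.T2H7.FPFlat
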