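import Mathlib
import Groth.Agent.Lib.Helper11KoszulReg
import Groth.Agent.Lib.Helper5RLR

/-!
# Geometric depth: `dim B - μ(ker (B → A))` is independent of the regular presentation (helper9)

* `exists_minimal`: reduce a presentation `B → A` (B regular local) to one with kernel in `m_B²`,
  dividing by elements of `ker ∖ m²` one at a time (`dim` and `μ(ker)` both drop by one).
* `exists_isGenRel` / `spanFinrank_ker_le`: for a minimal presentation and generators `x` of `m_B`
  lifting generators `y` of `m_A`, the kernel needs exactly as many generators as the module of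
  relations on `y` modulo Koszul relations (`H₁` of the Koszul complex on `y`).
* `geomDepth_eq`: the invariance.
-/

set_option autoImplicit false
set_option linter.unusedSectionVars false
set_option linter.style.haveILetI false
universe u

namespace Groth.Agent.Lib.T2H9.GeomDepth

open IsLocalRing Groth.Agent.Lib.Helper5 Groth.Agent.Lib.Helper11KoszulReg

section Step

variable {A : Type u} [CommRing A] [Nontrivial A]
variable {B : Type u} [CommRing B] [IsRegularLocalRing B]

theorem ker_le_maximalIdeal (f : B →+* A) : RingHom.ker f ≤ maximalIdeal B :=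
  IsLocalRing.le_maximalIdeal (RingHom.ker_ne_top f)

/-- the induced map on the quotient by an element of the kernel -/
noncomputable def quotMap (f : B →+* A) {x : B} (hxk : x ∈ RingHom.ker f) :
    (B ⧸ Ideal.span ({x} : Set B)) →+* A :=
  Ideal.Quotient.lift (Ideal.span {x}) f (by
    intro a ha
    have : Ideal.span {x} ≤ RingHom.ker f := Ideal.span_le.2 (Set.singleton_subset_iff.2 hxk)
    exact RingHom.mem_ker.1 (this ha))

theorem quotMap_mk (f : B →+* A) {x : B} (hxk : x ∈ RingHom.ker f) (b : B) :
    quotMap f hxk (Ideal.Quotient.mk _ b) = f b := rfl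

theorem ker_quotMap (f : B →+* A) {x : B} (hxk : x ∈ RingHom.ker f) :
    RingHom.ker (quotMap f hxk) = (RingHom.ker f).map (Ideal.Quotient.mk (Ideal.span {x})) := by
  apply le_antisymm
  · intro y hy
    obtain ⟨b, rfl⟩ := Ideal.Quotient.mk_surjective y
    rw [RingHom.mem_ker, quotMap_mk] at hy
    exact Ideal.mem_map_of_mem _ (RingHom.mem_ker.mpr hy)
  · rw [Ideal.map_le_iff_le_comap]
    intro b hb
    rw [Ideal.mem_comap, RingHom.mem_ker, quotMap_mk]
    exact RingHom.mem_ker.mp hb

theorem spanFinrank_ker_le_quotMap_add_one (f : B →+* A) {x : B} (hxk : x ∈ RingHom.ker f) :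
    (RingHom.ker f).spanFinrank ≤ (RingHom.ker (quotMap f hxk)).spanFinrank + 1 := by
  classical
  obtain ⟨G₁, hcard, hspan⟩ := Submodule.FG.exists_span_finset_card_eq_spanFinrank
    (p := RingHom.ker (quotMap f hxk)) (IsNoetherian.noetherian _)
  have hsurj := Ideal.Quotient.mk_surjective (I := Ideal.span ({x} : Set B))
  let L : Finset B := G₁.image (Function.surjInv hsurj)
  have hL : ∀ g ∈ L, g ∈ RingHom.ker f := by
    intro g hg
    obtain ⟨y, hy, rfl⟩ := Finset.mem_image.mp hg
    have h1 : y ∈ RingHom.ker (quotMap f hxk) := by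
      rw [← hspan]; exact Submodule.subset_span hy
    rw [RingHom.mem_ker] at h1 ⊢
    rw [← quotMap_mk f hxk, Function.surjInv_eq hsurj]
    exact h1
  have hker : RingHom.ker f = Ideal.span ((insert x L : Finset B) : Set B) := by
    apply le_antisymm
    · intro g hg
      have h1 : Ideal.Quotient.mk (Ideal.span ({x} : Set B)) g ∈
          RingHom.ker (quotMap f hxk) := by
        rw [RingHom.mem_ker, quotMap_mk]; exact RingHom.mem_ker.mp hg
      have h2 : (G₁ : Set (B ⧸ Ideal.span ({x} : Set B))) =
          Ideal.Quotient.mk (Ideal.span ({x} : Set B)) '' (L : Set B) := by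
        ext y
        simp only [Finset.mem_coe, Set.mem_image, L, Finset.mem_image]
        constructor
        · intro hy
          exact ⟨_, ⟨y, hy, rfl⟩, Function.surjInv_eq hsurj y⟩
        · rintro ⟨_, ⟨z, hz, rfl⟩, rfl⟩
          rw [Function.surjInv_eq hsurj]; exact hz
      rw [← hspan, h2] at h1
      change _ ∈ Ideal.span _ at h1
      rw [← Ideal.map_span] at h1
      obtain ⟨g', hg', hgg'⟩ := (Ideal.mem_map_iff_of_surjective _ hsurj).mp h1
      have h3 : g - g' ∈ Ideal.span ({x} : Set B) := by
        rw [← Ideal.Quotient.eq]; exact hgg'.symm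
      have h4 : g = (g - g') + g' := by ring
      rw [h4]
      refine Ideal.add_mem _ ?_ ?_
      · refine Ideal.span_mono ?_ h3
        simp
      · refine Ideal.span_mono ?_ hg'
        simp
    · rw [Ideal.span_le]
      intro g hg
      rcases Finset.mem_insert.mp (Finset.mem_coe.mp hg) with rfl | hg
      · exact hxk
      · exact hL g hg
  calc (RingHom.ker f).spanFinrank
      = (Submodule.span B ((insert x L : Finset B) : Set B)).spanFinrank := by
        conv_lhs => rw [hker]
    _ ≤ ((insert x L : Finset B) : Set B).ncard :=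
        Submodule.spanFinrank_span_le_ncard_of_finite (Finset.finite_toSet _)
    _ = (insert x L : Finset B).card := Set.ncard_coe_finset _
    _ ≤ L.card + 1 := Finset.card_insert_le _ _
    _ ≤ G₁.card + 1 := by
        have : L.card ≤ G₁.card := Finset.card_image_le (s := G₁) (f := Function.surjInv hsurj)
        omega
    _ = _ := by rw [hcard]

theorem spanFinrank_ker_quotMap_add_one_le (f : B →+* A) {x : B} (hxk : x ∈ RingHom.ker f)
    (hx2 : x ∉ maximalIdeal B ^ 2) :
    (RingHom.ker (quotMap f hxk)).spanFinrank + 1 ≤ (RingHom.ker f).spanFinrank := by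
  classical
  obtain ⟨G, hcard, hspan⟩ := Submodule.FG.exists_span_finset_card_eq_spanFinrank
    (p := RingHom.ker f) (IsNoetherian.noetherian _)
  have hxs : x ∈ Submodule.span B (G : Set B) := by rw [hspan]; exact hxk
  obtain ⟨a, -, hsum⟩ := Submodule.mem_span_finset.mp hxs
  have hex : ∃ g₀ ∈ G, a g₀ ∉ maximalIdeal B := by
    by_contra hcon
    push Not at hcon
    apply hx2
    rw [← hsum, pow_two]
    refine Ideal.sum_mem _ fun g hg => ?_
    rw [smul_eq_mul]
    refine Ideal.mul_mem_mul (hcon g hg) (ker_le_maximalIdeal f ?_)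
    rw [← hspan]; exact Submodule.subset_span hg
  obtain ⟨g₀, hg₀, hu⟩ := hex
  have hu' : IsUnit (a g₀) := by
    by_contra h; exact hu ((IsLocalRing.mem_maximalIdeal _).mpr h)
  obtain ⟨u, hu''⟩ := hu'
  set mk := Ideal.Quotient.mk (Ideal.span ({x} : Set B)) with hmk
  have hker : RingHom.ker (quotMap f hxk) = Ideal.span (mk '' ((G.erase g₀ : Finset B) : Set B)) := by
    rw [ker_quotMap]
    change Ideal.map mk (RingHom.ker f) = _
    have h0 : RingHom.ker f = Ideal.span (G : Set B) := hspan.symm
    rw [h0, Ideal.map_span]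
    apply le_antisymm
    · rw [Ideal.span_le]
      rintro _ ⟨g, hg, rfl⟩
      by_cases hgg : g = g₀
      · subst hgg
        rw [← Finset.add_sum_erase G _ hg₀] at hsum
        have h1 : mk (a g) * mk g + ∑ i ∈ G.erase g, mk (a i) * mk i = 0 := by
          have := congrArg mk hsum
          rw [map_add, map_sum] at this
          simp only [smul_eq_mul, map_mul] at this
          rw [this, hmk, Ideal.Quotient.eq_zero_iff_mem]
          exact Ideal.mem_span_singleton_self x
        have h2 : mk g = - (mk ((u⁻¹ : Bˣ) : B)) * ∑ i ∈ G.erase g, mk (a i) * mk i := by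
          have h3 : mk ((u⁻¹ : Bˣ) : B) * mk (a g) = 1 := by
            rw [← map_mul, ← hu'', Units.inv_mul, map_one]
          calc mk g = (mk ((u⁻¹ : Bˣ) : B) * mk (a g)) * mk g := by rw [h3, one_mul]
            _ = mk ((u⁻¹ : Bˣ) : B) * (mk (a g) * mk g) := by ring
            _ = _ := by rw [eq_neg_of_add_eq_zero_left h1]; ring
        rw [SetLike.mem_coe, h2]
        refine Ideal.mul_mem_left _ _ (Ideal.sum_mem _ fun i hi => ?_)
        exact Ideal.mul_mem_left _ _ (Ideal.subset_span ⟨i, Finset.mem_coe.mpr hi, rfl⟩)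
      · exact Ideal.subset_span ⟨g, Finset.mem_coe.mpr (Finset.mem_erase.mpr ⟨hgg, hg⟩), rfl⟩
    · apply Ideal.span_mono
      apply Set.image_mono
      exact Finset.coe_subset.mpr (Finset.erase_subset _ _)
  have h5 : (RingHom.ker (quotMap f hxk)).spanFinrank ≤ (G.erase g₀).card := by
    calc (RingHom.ker (quotMap f hxk)).spanFinrank
        = (Submodule.span _ (mk '' ((G.erase g₀ : Finset B) : Set B))).spanFinrank := by
          conv_lhs => rw [hker]
      _ ≤ (mk '' ((G.erase g₀ : Finset B) : Set B)).ncard :=
          Submodule.spanFinrank_span_le_ncard_of_finite ((Finset.finite_toSet _).image _)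
      _ ≤ ((G.erase g₀ : Finset B) : Set B).ncard := Set.ncard_image_le (Finset.finite_toSet _)
      _ = (G.erase g₀).card := Set.ncard_coe_finset _
  rw [Finset.card_erase_of_mem hg₀] at h5
  have : 0 < G.card := Finset.card_pos.mpr ⟨g₀, hg₀⟩
  omega


theorem quotMap_surjective (f : B →+* A) {x : B} (hxk : x ∈ RingHom.ker f)
    (hf : Function.Surjective f) : Function.Surjective (quotMap f hxk) := fun y => by
  obtain ⟨b, rfl⟩ := hf y
  exact ⟨Ideal.Quotient.mk _ b, rfl⟩

end Step

section Minimal

variable (A : Type u) [CommRing A] [Nontrivial A]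

/-- every regular presentation can be reduced to a minimal one without changing
`dim B - μ(ker)`. -/
theorem exists_minimal : ∀ (d : ℕ) (B : Type u) [CommRing B] [IsRegularLocalRing B] (f : B →+* A),
    Function.Surjective f → ringKrullDim B = d →
    ∃ (B₁ : Type u) (_ : CommRing B₁) (_ : IsRegularLocalRing B₁) (f₁ : B₁ →+* A) (d₁ : ℕ),
      Function.Surjective f₁ ∧ RingHom.ker f₁ ≤ maximalIdeal B₁ ^ 2 ∧ ringKrullDim B₁ = d₁ ∧
        (d : ℤ) - ((RingHom.ker f).spanFinrank : ℤ) =
          (d₁ : ℤ) - ((RingHom.ker f₁).spanFinrank : ℤ) := by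
  intro d
  induction d with
  | zero =>
    intro B _ _ f hf hd
    by_cases h : RingHom.ker f ≤ maximalIdeal B ^ 2
    · exact ⟨B, inferInstance, inferInstance, f, 0, hf, h, hd, rfl⟩
    · exfalso
      obtain ⟨x, hxk, hx2⟩ := SetLike.not_le_iff_exists.1 h
      have hxm : x ∈ maximalIdeal B := ker_le_maximalIdeal f hxk
      haveI : IsLocalRing (B ⧸ Ideal.span ({x} : Set B)) := isLocalRing_quotient (by
        intro htop
        have : Ideal.span ({x} : Set B) ≤ maximalIdeal B :=
          Ideal.span_le.2 (Set.singleton_subset_iff.2 hxm)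
        rw [htop] at this
        exact (IsLocalRing.maximalIdeal.isMaximal B).ne_top (top_le_iff.mp this))
      obtain ⟨hreg, hdim⟩ := isRegularLocalRing_quotient_span_singleton hxm hx2
      obtain ⟨m, hm⟩ := exists_nat_ringKrullDim_eq (B ⧸ Ideal.span ({x} : Set B))
      rw [hm, hd] at hdim
      have : (m : WithBot ℕ∞) + 1 = ((m + 1 : ℕ) : WithBot ℕ∞) := by push_cast; rfl
      rw [this] at hdim
      have h2 : m + 1 = 0 := by exact_mod_cast hdim
      omega
  | succ d ih =>
    intro B _ _ f hf hd
    by_cases h : RingHom.ker f ≤ maximalIdeal B ^ 2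
    · exact ⟨B, inferInstance, inferInstance, f, d + 1, hf, h, hd, rfl⟩
    · obtain ⟨x, hxk, hx2⟩ := SetLike.not_le_iff_exists.1 h
      have hxm : x ∈ maximalIdeal B := ker_le_maximalIdeal f hxk
      haveI : IsLocalRing (B ⧸ Ideal.span ({x} : Set B)) := isLocalRing_quotient (by
        intro htop
        have : Ideal.span ({x} : Set B) ≤ maximalIdeal B :=
          Ideal.span_le.2 (Set.singleton_subset_iff.2 hxm)
        rw [htop] at this
        exact (IsLocalRing.maximalIdeal.isMaximal B).ne_top (top_le_iff.mp this))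
      obtain ⟨hreg, hdim⟩ := isRegularLocalRing_quotient_span_singleton hxm hx2
      obtain ⟨m, hm⟩ := exists_nat_ringKrullDim_eq (B ⧸ Ideal.span ({x} : Set B))
      have hmd : m = d := by
        rw [hm, hd] at hdim
        have : (m : WithBot ℕ∞) + 1 = ((m + 1 : ℕ) : WithBot ℕ∞) := by push_cast; rfl
        rw [this] at hdim
        have h2 : m + 1 = d + 1 := by exact_mod_cast hdim
        omega
      rw [hmd] at hm
      obtain ⟨B₁, i1, i2, f₁, d₁, hf₁, hk₁, hd₁, heq⟩ :=
        ih (B ⧸ Ideal.span ({x} : Set B)) (quotMap f hxk) (quotMap_surjective f hxk hf) hm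
      refine ⟨B₁, i1, i2, f₁, d₁, hf₁, hk₁, hd₁, ?_⟩
      have h1 := spanFinrank_ker_le_quotMap_add_one f hxk
      have h2 := spanFinrank_ker_quotMap_add_one_le f hxk hx2
      rw [← heq]
      push_cast
      omega

end Minimal

section Koszul

variable {A : Type u} [CommRing A] {B : Type u} [CommRing B]

/-- composing with a ring homomorphism maps trivial relations to trivial relations -/
theorem triv_comp (φ : B →+* A) {n : ℕ} (x : Fin n → B) (t : Fin n → B) (ht : t ∈ triv x B) :
    (fun i => φ (t i)) ∈ triv (fun i => φ (x i)) A := by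
  induction ht using Submodule.span_induction with
  | mem v hv =>
    obtain ⟨i, j, b, rfl⟩ := hv
    have : (fun k => φ ((x j • (Pi.single i b : Fin n → B) - x i • (Pi.single j b : Fin n → B)) k)) =
        φ (x j) • (Pi.single i (φ b) : Fin n → A) - φ (x i) • (Pi.single j (φ b) : Fin n → A) := by
      funext k
      simp only [Pi.sub_apply, Pi.smul_apply, map_sub, smul_eq_mul, map_mul, Pi.single_apply]
      split_ifs <;> simp
    rw [this]
    exact triv_gen_mem (fun i => φ (x i)) A i j (φ b)
  | zero =>
    have : (fun i => φ ((0 : Fin n → B) i)) = 0 := by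
      funext i; simp
    rw [this]; exact Submodule.zero_mem _
  | add a b _ _ ha hb =>
    have : (fun i => φ ((a + b) i)) = (fun i => φ (a i)) + (fun i => φ (b i)) := by
      funext i; simp
    rw [this]; exact Submodule.add_mem _ ha hb
  | smul c a _ ha =>
    have : (fun i => φ ((c • a) i)) = φ c • (fun i => φ (a i)) := by
      funext i; simp
    rw [this]; exact Submodule.smul_mem _ _ ha

/-- trivial relations lift along a surjective ring homomorphism -/
theorem triv_lift_surj (φ : B →+* A) (hφ : Function.Surjective φ) {n : ℕ} (x : Fin n → B)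
    (τ : Fin n → A) (hτ : τ ∈ triv (fun i => φ (x i)) A) :
    ∃ t ∈ triv x B, (fun i => φ (t i)) = τ := by
  induction hτ using Submodule.span_induction with
  | mem v hv =>
    obtain ⟨i, j, a, rfl⟩ := hv
    obtain ⟨b, rfl⟩ := hφ a
    refine ⟨_, triv_gen_mem x B i j b, ?_⟩
    funext k
    simp only [Pi.sub_apply, Pi.smul_apply, map_sub, smul_eq_mul, map_mul, Pi.single_apply]
    split_ifs <;> simp
  | zero => exact ⟨0, Submodule.zero_mem _, by funext i; simp⟩
  | add a b _ _ ha hb =>
    obtain ⟨ta, hta, rfl⟩ := ha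
    obtain ⟨tb, htb, rfl⟩ := hb
    exact ⟨ta + tb, Submodule.add_mem _ hta htb, by funext i; simp⟩
  | smul c a _ ha =>
    obtain ⟨ta, hta, rfl⟩ := ha
    obtain ⟨c', rfl⟩ := hφ c
    exact ⟨c' • ta, Submodule.smul_mem _ _ hta, by funext i; simp⟩

/-- `ρ` generates the relations on `y` modulo the trivial ones. -/
def IsGenRel {n s : ℕ} (y : Fin n → A) (ρ : Fin s → (Fin n → A)) : Prop :=
  (∀ j, ∑ i, y i * ρ j i = 0) ∧
    ∀ a : Fin n → A, ∑ i, y i * a i = 0 → a ∈ triv y A ⊔ Submodule.span A (Set.range ρ)

variable [IsRegularLocalRing B] [Nontrivial A]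

theorem exists_isGenRel {n : ℕ} (hd : ringKrullDim B = n) (x : Fin n → B)
    (hx : Ideal.span (Set.range x) = maximalIdeal B) (f : B →+* A) (hf : Function.Surjective f)
    {s : ℕ} (g : Fin s → B) (hg : RingHom.ker f = Ideal.span (Set.range g)) :
    ∃ ρ : Fin s → (Fin n → A), IsGenRel (fun i => f (x i)) ρ := by
  classical
  have hreg := isRegular_ofFn_of_span_eq_maximalIdeal hd x hx
  have hK := koszulH1Zero_of_isWeaklyRegular n x B hreg.1
  rw [koszulH1Zero_iff] at hK
  have hgm : ∀ j, ∃ r : Fin n → B, ∑ i, r i * x i = g j := by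
    intro j
    have h1 : g j ∈ RingHom.ker f := by rw [hg]; exact Ideal.subset_span ⟨j, rfl⟩
    have h2 : g j ∈ Ideal.span (Set.range x) := by
      rw [hx]
      exact IsLocalRing.le_maximalIdeal (RingHom.ker_ne_top f) h1
    exact (Ideal.mem_span_range_iff_exists_fun (R := B)).mp h2
  choose r hr using hgm
  refine ⟨fun j i => f (r j i), ?_, ?_⟩
  · intro j
    have h1 : g j ∈ RingHom.ker f := by rw [hg]; exact Ideal.subset_span ⟨j, rfl⟩
    rw [RingHom.mem_ker, ← hr j, map_sum] at h1
    rw [← h1]
    refine Finset.sum_congr rfl fun i _ => ?_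
    rw [map_mul, mul_comm]
  · intro a ha
    choose b hb using fun i => hf (a i)
    have h1 : ∑ i, b i * x i ∈ RingHom.ker f := by
      rw [RingHom.mem_ker, map_sum, ← ha]
      refine Finset.sum_congr rfl fun i _ => ?_
      rw [map_mul, hb i, mul_comm]
    rw [hg] at h1
    obtain ⟨c, hc⟩ := (Ideal.mem_span_range_iff_exists_fun (R := B)).mp h1
    -- `b - Σ c j • r j` is a relation on `x`
    have hrel : ∑ i, x i • (b - ∑ j, c j • r j) i = 0 := by
      simp only [Pi.sub_apply, Finset.sum_apply, Pi.smul_apply, smul_eq_mul, mul_sub,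
        Finset.sum_sub_distrib]
      rw [sub_eq_zero]
      calc ∑ i, x i * b i = ∑ i, b i * x i := Finset.sum_congr rfl fun i _ => mul_comm _ _
        _ = ∑ j, c j * g j := hc.symm
        _ = ∑ j, c j * ∑ i, r j i * x i := by simp only [hr]
        _ = ∑ j, ∑ i, x i * (c j * r j i) := by
            refine Finset.sum_congr rfl fun j _ => ?_
            rw [Finset.mul_sum]
            refine Finset.sum_congr rfl fun i _ => ?_
            ring
        _ = ∑ i, ∑ j, x i * (c j * r j i) := Finset.sum_comm
        _ = _ := by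
            refine Finset.sum_congr rfl fun i _ => ?_
            rw [Finset.mul_sum]
    have htriv := hK _ hrel
    have h2 := triv_comp f x _ htriv
    have h3 : a = (fun i => f ((b - ∑ j, c j • r j) i)) + ∑ j, f (c j) • (fun i => f (r j i)) := by
      funext i
      simp only [Pi.sub_apply, Finset.sum_apply, Pi.smul_apply, smul_eq_mul, map_sub, map_sum,
        map_mul, Pi.add_apply, hb i]
      ring
    rw [h3]
    refine Submodule.add_mem_sup h2 (Submodule.sum_mem _ fun j _ => ?_)
    exact Submodule.smul_mem _ _ (Submodule.subset_span ⟨j, rfl⟩)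

theorem spanFinrank_ker_le {n : ℕ} (x : Fin n → B)
    (hx : Ideal.span (Set.range x) = maximalIdeal B) (f : B →+* A) (hf : Function.Surjective f)
    {s : ℕ} (ρ : Fin s → (Fin n → A)) (hρ : IsGenRel (fun i => f (x i)) ρ) :
    (RingHom.ker f).spanFinrank ≤ s := by
  classical
  choose r hr using fun j i => hf (ρ j i)
  set g : Fin s → B := fun j => ∑ i, x i * r j i with hg
  have hgk : ∀ j, g j ∈ RingHom.ker f := by
    intro j
    rw [RingHom.mem_ker, hg, map_sum, ← hρ.1 j]
    refine Finset.sum_congr rfl fun i _ => ?_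
    rw [map_mul, hr]
  have hle : RingHom.ker f ≤ Ideal.span (Set.range g) := by
    apply Submodule.le_of_le_smul_of_le_jacobson_bot (I := maximalIdeal B)
      (IsNoetherian.noetherian _)
    · rw [IsLocalRing.jacobson_eq_maximalIdeal ⊥ bot_ne_top]
    · intro z hz
      have hzm : z ∈ Ideal.span (Set.range x) := by
        rw [hx]; exact IsLocalRing.le_maximalIdeal (RingHom.ker_ne_top f) hz
      obtain ⟨b, hb⟩ := (Ideal.mem_span_range_iff_exists_fun (R := B)).mp hzm
      have hrel : ∑ i, f (x i) * f (b i) = 0 := by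
        rw [RingHom.mem_ker, ← hb, map_sum] at hz
        rw [← hz]
        refine Finset.sum_congr rfl fun i _ => ?_
        rw [map_mul, mul_comm]
      have hmem := hρ.2 (fun i => f (b i)) hrel
      obtain ⟨τ, hτ, σ, hσ, hsum⟩ := Submodule.mem_sup.mp hmem
      obtain ⟨t, ht, rfl⟩ := triv_lift_surj f hf x τ hτ
      obtain ⟨α, rfl⟩ := (Submodule.mem_span_range_iff_exists_fun A).mp hσ
      choose a ha using fun j => hf (α j)
      -- `c = b - t - Σ a j • r j` has entries in `ker f`
      have hc : ∀ i, (b - t - ∑ j, a j • r j) i ∈ RingHom.ker f := by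
        intro i
        have := congrFun hsum i
        simp only [Pi.add_apply, Finset.sum_apply, Pi.smul_apply, smul_eq_mul] at this
        rw [RingHom.mem_ker]
        simp only [Pi.sub_apply, Finset.sum_apply, Pi.smul_apply, smul_eq_mul, map_sub, map_sum,
          map_mul, ha, hr]
        rw [← this]; ring
      have htrel := triv_rel x B t ht
      have hz' : z = ∑ j, a j * g j + ∑ i, x i * (b - t - ∑ j, a j • r j) i := by
        have e1 : ∑ j, a j * g j = ∑ i, x i * ∑ j, a j * r j i := by
          simp only [hg, Finset.mul_sum]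
          rw [Finset.sum_comm]
          refine Finset.sum_congr rfl fun i _ => Finset.sum_congr rfl fun j _ => ?_
          ring
        rw [e1, ← Finset.sum_add_distrib, ← hb]
        simp only [smul_eq_mul] at htrel
        have e2 : ∑ i, b i * x i = ∑ i, b i * x i - ∑ i, x i * t i := by rw [htrel, sub_zero]
        rw [e2, ← Finset.sum_sub_distrib]
        refine Finset.sum_congr rfl fun i _ => ?_
        simp only [Pi.sub_apply, Finset.sum_apply, Pi.smul_apply, smul_eq_mul]
        ring
      rw [hz']
      refine Submodule.add_mem_sup ?_ ?_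
      · refine Ideal.sum_mem _ fun j _ => Ideal.mul_mem_left _ _ (Ideal.subset_span ⟨j, rfl⟩)
      · refine Submodule.sum_mem _ fun i _ => ?_
        rw [← smul_eq_mul]
        refine Submodule.smul_mem_smul ?_ (hc i)
        rw [← hx]; exact Ideal.subset_span ⟨i, rfl⟩
  have heq : RingHom.ker f = Ideal.span (Set.range g) := by
    refine le_antisymm hle ?_
    rw [Ideal.span_le]
    rintro _ ⟨j, rfl⟩
    exact hgk j
  calc (RingHom.ker f).spanFinrank = (Submodule.span B (Set.range g)).spanFinrank := by
        conv_lhs => rw [heq]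
    _ ≤ (Set.range g).ncard := Submodule.spanFinrank_span_le_ncard_of_finite (Set.finite_range g)
    _ ≤ s := by
        have := Set.ncard_image_le (f := g) (s := Set.univ) Set.finite_univ
        rw [Set.image_univ, Set.ncard_univ, Nat.card_eq_fintype_card, Fintype.card_fin] at this
        exact this

end Koszul

section MinimalData

variable {A : Type u} [CommRing A] [IsLocalRing A] [IsNoetherianRing A]
variable {B : Type u} [CommRing B] [IsRegularLocalRing B]

/-- a generating family of the maximal ideal with `embdim` elements -/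
theorem exists_fin_generators (A : Type u) [CommRing A] [IsLocalRing A] [IsNoetherianRing A] :
    ∃ y : Fin (maximalIdeal A).spanFinrank → A, Ideal.span (Set.range y) = maximalIdeal A := by
  classical
  obtain ⟨G, hcard, hspan⟩ := Submodule.FG.exists_span_finset_card_eq_spanFinrank
    (p := maximalIdeal A) (IsNoetherian.noetherian _)
  refine ⟨fun i => ((Finset.equivFinOfCardEq hcard).symm i : A), ?_⟩
  have : Set.range (fun i => ((Finset.equivFinOfCardEq hcard).symm i : A)) = (G : Set A) := by
    ext a
    constructor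
    · rintro ⟨i, rfl⟩
      exact ((Finset.equivFinOfCardEq hcard).symm i).2
    · intro ha
      exact ⟨Finset.equivFinOfCardEq hcard ⟨a, ha⟩, by simp⟩
  rw [this]
  exact hspan

theorem minimal_data (f : B →+* A) (hf : Function.Surjective f)
    (hk : RingHom.ker f ≤ maximalIdeal B ^ 2)
    (y : Fin (maximalIdeal A).spanFinrank → A) (hy : Ideal.span (Set.range y) = maximalIdeal A) :
    ∃ x : Fin (maximalIdeal A).spanFinrank → B, (∀ i, f (x i) = y i) ∧
      Ideal.span (Set.range x) = maximalIdeal B ∧
      ringKrullDim B = ((maximalIdeal A).spanFinrank : ℕ) := by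
  classical
  haveI : IsLocalHom f := IsLocalHom.of_surjective f hf
  choose x hx using fun i => hf (y i)
  have hcomap : (maximalIdeal A).comap f = maximalIdeal B := IsLocalRing.maximalIdeal_comap f
  have hxm : ∀ i, x i ∈ maximalIdeal B := by
    intro i
    rw [← hcomap, Ideal.mem_comap, hx, ← hy]
    exact Ideal.subset_span ⟨i, rfl⟩
  have hspan : Ideal.span (Set.range x) = maximalIdeal B := by
    apply le_antisymm
    · rw [Ideal.span_le]
      rintro _ ⟨i, rfl⟩
      exact hxm i
    · apply Submodule.le_of_le_smul_of_le_jacobson_bot (I := maximalIdeal B)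
        (IsNoetherian.noetherian _)
      · rw [IsLocalRing.jacobson_eq_maximalIdeal ⊥ bot_ne_top]
      · intro z hz
        have h1 : f z ∈ Ideal.span (Set.range y) := by
          rw [hy, ← Ideal.mem_comap, hcomap]; exact hz
        obtain ⟨a, ha⟩ := (Ideal.mem_span_range_iff_exists_fun (R := A)).mp h1
        choose b hb using fun i => hf (a i)
        have h2 : z - ∑ i, b i * x i ∈ RingHom.ker f := by
          rw [RingHom.mem_ker, map_sub, map_sum, ← ha, sub_eq_zero]
          refine Finset.sum_congr rfl fun i _ => ?_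
          rw [map_mul, hb, hx]
        have h3 : z = ∑ i, b i * x i + (z - ∑ i, b i * x i) := by ring
        rw [h3]
        refine Submodule.add_mem_sup ?_ ?_
        · exact Ideal.sum_mem _ fun i _ => Ideal.mul_mem_left _ _ (Ideal.subset_span ⟨i, rfl⟩)
        · have := hk h2
          rw [pow_two] at this
          exact this
  refine ⟨x, hx, hspan, ?_⟩
  have hreg : ((maximalIdeal B).spanFinrank : WithBot ℕ∞) = ringKrullDim B :=
    IsRegularLocalRing.spanFinrank_maximalIdeal
  rw [← hreg]
  have h1 : (maximalIdeal B).spanFinrank ≤ (maximalIdeal A).spanFinrank := by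
    calc (maximalIdeal B).spanFinrank = (Submodule.span B (Set.range x)).spanFinrank := by
          conv_lhs => rw [← hspan]
      _ ≤ (Set.range x).ncard :=
          Submodule.spanFinrank_span_le_ncard_of_finite (Set.finite_range x)
      _ ≤ _ := by
          have := Set.ncard_image_le (f := x) (s := Set.univ) Set.finite_univ
          rw [Set.image_univ, Set.ncard_univ, Nat.card_eq_fintype_card, Fintype.card_fin] at this
          exact this
  have h2 : (maximalIdeal A).spanFinrank ≤ (maximalIdeal B).spanFinrank := by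
    rw [← IsLocalRing.map_maximalIdeal_of_surjective f hf]
    exact Ideal.spanFinrank_map_le_of_fg f (IsNoetherian.noetherian _)
  exact_mod_cast le_antisymm h1 h2

end MinimalData


section Main

theorem exists_fin_generators_ideal {B : Type u} [CommRing B] [IsNoetherianRing B] (I : Ideal B) :
    ∃ g : Fin I.spanFinrank → B, Ideal.span (Set.range g) = I := by
  classical
  obtain ⟨G, hcard, hspan⟩ := Submodule.FG.exists_span_finset_card_eq_spanFinrank
    (p := I) (IsNoetherian.noetherian _)
  refine ⟨fun i => ((Finset.equivFinOfCardEq hcard).symm i : B), ?_⟩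
  have : Set.range (fun i => ((Finset.equivFinOfCardEq hcard).symm i : B)) = (G : Set B) := by
    ext a
    constructor
    · rintro ⟨i, rfl⟩
      exact ((Finset.equivFinOfCardEq hcard).symm i).2
    · intro ha
      exact ⟨Finset.equivFinOfCardEq hcard ⟨a, ha⟩, by simp⟩
  rw [this]
  exact hspan

variable {A : Type u} [CommRing A] [IsLocalRing A] [IsNoetherianRing A]
variable {B : Type u} [CommRing B] [IsRegularLocalRing B]
variable {B' : Type u} [CommRing B'] [IsRegularLocalRing B']

theorem minimal_le (f : B →+* A) (hf : Function.Surjective f)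
    (hk : RingHom.ker f ≤ maximalIdeal B ^ 2) (f' : B' →+* A) (hf' : Function.Surjective f')
    (hk' : RingHom.ker f' ≤ maximalIdeal B' ^ 2) :
    (RingHom.ker f').spanFinrank ≤ (RingHom.ker f).spanFinrank := by
  obtain ⟨y, hy⟩ := exists_fin_generators A
  obtain ⟨x, hx, hspan, hdim⟩ := minimal_data f hf hk y hy
  obtain ⟨x', hx', hspan', -⟩ := minimal_data f' hf' hk' y hy
  obtain ⟨g, hg⟩ := exists_fin_generators_ideal (RingHom.ker f)
  obtain ⟨ρ, hρ⟩ := exists_isGenRel hdim x hspan f hf g hg.symm
  have e1 : (fun i => f (x i)) = fun i => f' (x' i) := by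
    funext i; rw [hx, hx']
  rw [e1] at hρ
  exact spanFinrank_ker_le x' hspan' f' hf' ρ hρ

/-- `dim B - μ(ker (B → A))` does not depend on the regular presentation `B → A`. -/
theorem geomDepth_eq (f : B →+* A) (hf : Function.Surjective f) (f' : B' →+* A)
    (hf' : Function.Surjective f') (d d' : ℕ) (hd : ringKrullDim B = d)
    (hd' : ringKrullDim B' = d') :
    (d : ℤ) - ((RingHom.ker f).spanFinrank : ℤ) = (d' : ℤ) - ((RingHom.ker f').spanFinrank : ℤ) := by
  obtain ⟨B₁, i1, i2, f₁, d₁, hf₁, hk₁, hd₁, heq⟩ := exists_minimal A d B f hf hd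
  obtain ⟨B₁', i1', i2', f₁', d₁', hf₁', hk₁', hd₁', heq'⟩ := exists_minimal A d' B' f' hf' hd'
  rw [heq, heq']
  have h1 := minimal_le f₁ hf₁ hk₁ f₁' hf₁' hk₁'
  have h2 := minimal_le f₁' hf₁' hk₁' f₁ hf₁ hk₁
  obtain ⟨y, hy⟩ := exists_fin_generators A
  obtain ⟨-, -, -, hdim⟩ := minimal_data f₁ hf₁ hk₁ y hy
  obtain ⟨-, -, -, hdim'⟩ := minimal_data f₁' hf₁' hk₁' y hy
  rw [hd₁] at hdim
  rw [hd₁'] at hdim'
  have e1 : d₁ = (maximalIdeal A).spanFinrank := by exact_mod_cast hdim
  have e2 : d₁' = (maximalIdeal A).spanFinrank := by exact_mod_cast hdim'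
  omega

end Main

end Groth.Agent.Lib.T2H9.GeomDepth
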