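import Mathlib
import Groth.Prelude
import Groth.Agent.Lib.T2H9GeomDepth
import Groth.Agent.Lib.Helper5RLR3
import Groth.Agent.Lib.Helper28DepthCM2
import Groth.Agent.Lib.Helper19ComplDim
import Groth.Agent.Lib.Helper28ComplQuot

/-!
# Complete intersections via geometric depth (helper9)

* `exists_isRegular_of_dim`: in a regular local ring, `dim B/I + μ(I) = dim B` forces `I` to be
  generated by a regular sequence (Cohen–Macaulayness of `B`).
* `spanFinrank_ofList_of_isRegular`: `μ` of an ideal generated by a regular sequence is its length.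
* `spanFinrank_le_spanFinrank_map`: `μ(I) ≤ μ(I S)` for `R → S` faithfully flat, `S` local.
* `geomDepth_of_ci`, `geomDepth_le_dim_iff` (S5178),
  `exists_isRegular_of_isCompleteIntersection_quotient` (S2166),
  `exists_isRegular_ker_of_complete` (S2169).
-/

set_option autoImplicit false
set_option linter.unusedSectionVars false
set_option linter.style.haveILetI false
universe u

namespace Groth.Agent.Lib.T2H9.GeomDepthCI

open IsLocalRing Groth.Agent.Lib.Helper5 Groth.Agent.Lib.T2H9.GeomDepth

section CM

variable {B : Type u} [CommRing B] [IsRegularLocalRing B]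

/-- In a regular local ring, an ideal with `dim B/I + μ(I) = dim B` is generated by a regular
sequence. -/
theorem exists_isRegular_of_dim (I : Ideal B) (hI : I ≠ ⊤) (d dI : ℕ) (hd : ringKrullDim B = d)
    (hdI : ringKrullDim (B ⧸ I) = dI) (h : dI + I.spanFinrank = d) :
    ∃ rs : List B, Ideal.ofList rs = I ∧ RingTheory.Sequence.IsRegular B rs := by
  obtain ⟨g, hg⟩ := exists_fin_generators_ideal I
  have hofList : Ideal.ofList (List.ofFn g) = I := by
    rw [ofList_ofFn_eq_span_range, hg]
  have hmem : ∀ r ∈ List.ofFn g, r ∈ maximalIdeal B := by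
    intro r hr
    apply IsLocalRing.le_maximalIdeal hI
    rw [← hofList]
    exact Ideal.subset_span hr
  refine ⟨List.ofFn g, hofList, ?_⟩
  rw [IsLocalRing.isRegular_iff_isWeaklyRegular_of_subset_maximalIdeal hmem]
  have hCM : LocCoh.IsCohenMacaulayLocalRing B := isCohenMacaulayLocalRing_of_isRegularLocalRing B
  apply Groth.Agent.Lib.Helper28.isWeaklyRegular_of_supportDim_add_length_eq (List.ofFn g) B
    hCM.supportDim_eq_depth hmem
  have e : (B ⧸ (Ideal.ofList (List.ofFn g) • ⊤ : Submodule B B)) ≃ₗ[B]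
      (B ⧸ Ideal.ofList (List.ofFn g)) :=
    Submodule.quotEquivOfEq _ _ (by rw [smul_eq_mul, Ideal.mul_top])
  rw [Module.supportDim_eq_of_equiv e, Module.supportDim_quotient_eq_ringKrullDim,
    Module.supportDim_self_eq_ringKrullDim, hofList, hdI, hd, List.length_ofFn, ← h]
  push_cast
  rfl

/-- a regular sequence in a Noetherian local ring generates an ideal needing exactly `length`
generators. -/
theorem spanFinrank_ofList_of_isRegular {R : Type u} [CommRing R] [IsLocalRing R]
    [IsNoetherianRing R] (rs : List R) (hreg : RingTheory.Sequence.IsRegular R rs) :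
    (Ideal.ofList rs).spanFinrank = rs.length := by
  classical
  have hne : Ideal.ofList rs ≠ ⊤ := by
    intro htop
    apply hreg.top_ne_smul
    rw [htop, smul_eq_mul, Ideal.mul_top]
  apply le_antisymm
  · calc (Ideal.ofList rs).spanFinrank
        = (Submodule.span R ((rs.toFinset : Finset R) : Set R)).spanFinrank := by
          congr 1
          rw [Ideal.ofList]
          congr 1
          ext a; simp
      _ ≤ ((rs.toFinset : Finset R) : Set R).ncard :=
          Submodule.spanFinrank_span_le_ncard_of_finite (Finset.finite_toSet _)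
      _ = rs.toFinset.card := Set.ncard_coe_finset _
      _ ≤ rs.length := List.toFinset_card_le rs
  · have h1 := ringKrullDim_le_ringKrullDim_quotient_add_spanFinrank (Ideal.ofList rs) (by
      rw [IsLocalRing.ringJacobson_eq_maximalIdeal]; exact IsLocalRing.le_maximalIdeal hne)
    have h2 := ringKrullDim_add_length_eq_ringKrullDim_of_isRegular rs hreg
    haveI : IsLocalRing (R ⧸ Ideal.ofList rs) := isLocalRing_quotient hne
    obtain ⟨m, hm⟩ := exists_nat_ringKrullDim_eq (R ⧸ Ideal.ofList rs)
    rw [← h2, hm] at h1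
    have h3 : ((m + rs.length : ℕ) : WithBot ℕ∞) ≤ ((m + (Ideal.ofList rs).spanFinrank : ℕ) :
        WithBot ℕ∞) := by
      push_cast
      exact h1
    have h4 : m + rs.length ≤ m + (Ideal.ofList rs).spanFinrank := by exact_mod_cast h3
    omega

end CM

section FlatGens

variable {R : Type u} [CommRing R] [IsNoetherianRing R]
variable {S : Type u} [CommRing S] [IsLocalRing S] [Algebra R S] [Module.FaithfullyFlat R S]

/-- lifting generators along a faithfully flat map to a local ring. -/
theorem exists_generators_of_map_eq : ∀ (s : ℕ) (J I : Ideal R), J ≤ I → ∀ g : Fin s → S,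
    I.map (algebraMap R S) = J.map (algebraMap R S) ⊔ Ideal.span (Set.range g) →
    ∃ a : Fin s → R, I = J ⊔ Ideal.span (Set.range a) := by
  intro s
  induction s with
  | zero =>
    intro J I hJI g hg
    refine ⟨Fin.elim0, ?_⟩
    have h1 : Set.range g = ∅ := Set.range_eq_empty _
    have h2 : Set.range (Fin.elim0 : Fin 0 → R) = ∅ := Set.range_eq_empty _
    rw [h1, Ideal.span_empty, sup_bot_eq] at hg
    rw [h2, Ideal.span_empty, sup_bot_eq]
    rw [← Ideal.comap_map_eq_self_of_faithfullyFlat (B := S) I, hg,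
      Ideal.comap_map_eq_self_of_faithfullyFlat]
  | succ s ih =>
    intro J I hJI g hg
    set φ := algebraMap R S with hφ
    set g' : Fin s → S := fun i => g i.succ with hg'
    have hgmem : ∀ i, g i ∈ I.map φ := by
      intro i; rw [hg]; exact Ideal.mem_sup_right (Ideal.subset_span ⟨i, rfl⟩)
    have hJmap : J.map φ ≤ I.map φ := Ideal.map_mono hJI
    have hg'le : Ideal.span (Set.range g') ≤ I.map φ := by
      rw [Ideal.span_le]; rintro _ ⟨i, rfl⟩; exact hgmem i.succ
    have hfg : (I.map φ).FG := Ideal.FG.map (IsNoetherian.noetherian I) φ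
    by_cases h : ∀ a ∈ I, φ a ∈ J.map φ ⊔ Ideal.span (Set.range g') ⊔ maximalIdeal S • I.map φ
    · have h1 : I.map φ ≤ J.map φ ⊔ Ideal.span (Set.range g') ⊔ maximalIdeal S • I.map φ := by
        rw [Ideal.map_le_iff_le_comap]
        intro a ha
        exact h a ha
      have h2 : I.map φ ≤ J.map φ ⊔ Ideal.span (Set.range g') := by
        apply Submodule.le_of_le_smul_of_le_jacobson_bot (I := maximalIdeal S) hfg
        · rw [IsLocalRing.jacobson_eq_maximalIdeal ⊥ bot_ne_top]
        · exact h1
      have h3 : I.map φ = J.map φ ⊔ Ideal.span (Set.range g') :=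
        le_antisymm h2 (sup_le hJmap hg'le)
      obtain ⟨a', ha'⟩ := ih J I hJI g' h3
      refine ⟨Fin.cons 0 a', ?_⟩
      rw [Fin.range_cons, Ideal.span_insert, ha']
      have : Ideal.span ({0} : Set R) = ⊥ := by simp
      rw [this, bot_sup_eq]
    · push Not at h
      obtain ⟨a₀, ha₀I, ha₀⟩ := h
      have h1 : φ a₀ ∈ J.map φ ⊔ Ideal.span (Set.range g) := by
        rw [← hg]; exact Ideal.mem_map_of_mem _ ha₀I
      obtain ⟨j, hj, σ, hσ, hsum⟩ := Submodule.mem_sup.mp h1
      obtain ⟨c, rfl⟩ := (Ideal.mem_span_range_iff_exists_fun (R := S)).mp hσ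
      rw [Fin.sum_univ_succ] at hsum
      have hrest : ∑ i : Fin s, c i.succ * g i.succ ∈ Ideal.span (Set.range g') :=
        Ideal.sum_mem _ fun i _ => Ideal.mul_mem_left _ _ (Ideal.subset_span ⟨i, rfl⟩)
      have hunit : IsUnit (c 0) := by
        by_contra hnu
        apply ha₀
        rw [← hsum]
        have h2 : c 0 * g 0 ∈ maximalIdeal S • I.map φ := by
          rw [smul_eq_mul]
          exact Ideal.mul_mem_mul ((IsLocalRing.mem_maximalIdeal _).mpr hnu) (hgmem 0)
        have h3 : j + (c 0 * g 0 + ∑ i : Fin s, c i.succ * g i.succ) =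
            (j + ∑ i : Fin s, c i.succ * g i.succ) + c 0 * g 0 := by ring
        rw [h3]
        exact Submodule.add_mem_sup
          (Submodule.add_mem_sup hj hrest) h2
      obtain ⟨u, hu⟩ := hunit
      have hg0 : g 0 ∈ (J ⊔ Ideal.span {a₀}).map φ ⊔ Ideal.span (Set.range g') := by
        have h4 : g 0 = (u⁻¹ : Sˣ) * (φ a₀ - j - ∑ i : Fin s, c i.succ * g i.succ) := by
          rw [← hsum, ← hu]
          have : (u : S) * g 0 + j + ∑ i : Fin s, c i.succ * g i.succ - j -
              ∑ i : Fin s, c i.succ * g i.succ = (u : S) * g 0 := by ring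
          calc g 0 = ((u⁻¹ : Sˣ) : S) * ((u : S) * g 0) := by
                rw [← mul_assoc, Units.inv_mul, one_mul]
            _ = _ := by congr 1; ring
        rw [h4]
        apply Ideal.mul_mem_left
        refine Ideal.sub_mem _ (Ideal.sub_mem _ ?_ ?_) (Ideal.mem_sup_right hrest)
        · exact Ideal.mem_sup_left (Ideal.mem_map_of_mem _
            (Ideal.mem_sup_right (Ideal.mem_span_singleton_self a₀)))
        · exact Ideal.mem_sup_left (Ideal.map_mono le_sup_left hj)
      have hJ'I : J ⊔ Ideal.span {a₀} ≤ I :=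
        sup_le hJI ((Ideal.span_singleton_le_iff_mem I).mpr ha₀I)
      have h5 : I.map φ = (J ⊔ Ideal.span {a₀}).map φ ⊔ Ideal.span (Set.range g') := by
        apply le_antisymm
        · rw [hg]
          refine sup_le (le_trans (Ideal.map_mono le_sup_left) le_sup_left) ?_
          rw [Ideal.span_le]
          rintro _ ⟨i, rfl⟩
          refine Fin.cases ?_ (fun k => ?_) i
          · exact hg0
          · exact Ideal.mem_sup_right (Ideal.subset_span ⟨k, rfl⟩)
        · exact sup_le (Ideal.map_mono hJ'I) hg'le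
      obtain ⟨a', ha'⟩ := ih (J ⊔ Ideal.span {a₀}) I hJ'I g' h5
      refine ⟨Fin.cons a₀ a', ?_⟩
      rw [Fin.range_cons, Ideal.span_insert, ← sup_assoc, ← ha']

theorem spanFinrank_le_spanFinrank_map (I : Ideal R) [IsNoetherianRing S] :
    I.spanFinrank ≤ (I.map (algebraMap R S)).spanFinrank := by
  classical
  obtain ⟨G, hcard, hspan⟩ := Submodule.FG.exists_span_finset_card_eq_spanFinrank
    (p := I.map (algebraMap R S)) (IsNoetherian.noetherian _)
  set g : Fin (I.map (algebraMap R S)).spanFinrank → S :=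
    fun i => ((Finset.equivFinOfCardEq hcard).symm i : S) with hgdef
  have hg : Ideal.span (Set.range g) = I.map (algebraMap R S) := by
    have : Set.range g = (G : Set S) := by
      ext a
      constructor
      · rintro ⟨i, rfl⟩
        exact ((Finset.equivFinOfCardEq hcard).symm i).2
      · intro ha
        exact ⟨Finset.equivFinOfCardEq hcard ⟨a, ha⟩, by simp [hgdef]⟩
    rw [this]
    exact hspan
  obtain ⟨a, ha⟩ := exists_generators_of_map_eq _ ⊥ I bot_le g (by
    rw [Ideal.map_bot, bot_sup_eq, hg])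
  rw [bot_sup_eq] at ha
  calc I.spanFinrank = (Submodule.span R (Set.range a)).spanFinrank := by
        conv_lhs => rw [ha]
    _ ≤ (Set.range a).ncard := Submodule.spanFinrank_span_le_ncard_of_finite (Set.finite_range a)
    _ ≤ _ := by
        have := Set.ncard_image_le (f := a) (s := Set.univ) Set.finite_univ
        rw [Set.image_univ, Set.ncard_univ, Nat.card_eq_fintype_card, Fintype.card_fin] at this
        exact this

end FlatGens

section CI

variable {A₀ : Type u} [CommRing A₀] [IsLocalRing A₀] [IsNoetherianRing A₀]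
variable {B : Type u} [CommRing B] [IsRegularLocalRing B]
variable {B' : Type u} [CommRing B'] [IsRegularLocalRing B']

/-- if `A₀` is a regular local ring modulo a regular sequence, then every regular presentation
`B → A₀` has `dim B - μ(ker) = dim A₀`. -/
theorem geomDepth_of_ci (f : B →+* A₀) (hf : Function.Surjective f) (rs' : List B')
    (hreg' : RingTheory.Sequence.IsRegular B' rs')
    (e' : A₀ ≃+* B' ⧸ Ideal.span {r | r ∈ rs'}) (e dA : ℕ) (he : ringKrullDim B = e)
    (hdA : ringKrullDim A₀ = dA) :
    (e : ℤ) - ((RingHom.ker f).spanFinrank : ℤ) = (dA : ℤ) := by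
  set f' : B' →+* A₀ := (e'.symm.toRingHom).comp (Ideal.Quotient.mk (Ideal.span {r | r ∈ rs'})) with hf'def
  have hf' : Function.Surjective f' :=
    e'.symm.surjective.comp Ideal.Quotient.mk_surjective
  have hker : RingHom.ker f' = Ideal.ofList rs' := by
    ext b
    rw [RingHom.mem_ker, hf'def, RingHom.comp_apply]
    change e'.symm _ = 0 ↔ _
    rw [map_eq_zero_iff _ e'.symm.injective, Ideal.Quotient.eq_zero_iff_mem]
  obtain ⟨n', hn'⟩ := exists_nat_ringKrullDim_eq B'
  have h1 := geomDepth_eq f hf f' hf' e n' he hn'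
  have h2 := ringKrullDim_add_length_eq_ringKrullDim_of_isRegular rs' hreg'
  have h3 : ringKrullDim (B' ⧸ Ideal.ofList rs') = dA := by
    rw [← hdA]
    exact (ringKrullDim_eq_of_ringEquiv e').symm
  rw [h3, hn'] at h2
  have h4 : dA + rs'.length = n' := by exact_mod_cast h2
  rw [hker, spanFinrank_ofList_of_isRegular rs' hreg'] at h1
  omega


/-- S5178 -/
theorem geomDepth_le_dim_iff (A : Type u) [CommRing A] [IsLocalRing A] [IsNoetherianRing A]
    (B : Type u) [CommRing B] [IsRegularLocalRing B] (I : Ideal B)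
    (hpres : Nonempty (AdicCompletion (IsLocalRing.maximalIdeal A) A ≃+* B ⧸ I)) (d e : ℕ)
    (hd : ringKrullDim A = (d : WithBot ℕ∞)) (he : ringKrullDim B = (e : WithBot ℕ∞)) :
    (e : ℤ) - (I.spanFinrank : ℤ) ≤ (d : ℤ) ∧
      ((e : ℤ) - (I.spanFinrank : ℤ) = (d : ℤ) ↔ Pi1.IsCompleteIntersection A) := by
  obtain ⟨e₀⟩ := hpres
  have hI : I ≠ ⊤ := by
    intro htop
    have : Subsingleton (B ⧸ I) := by
      rw [htop]; exact Ideal.Quotient.subsingleton_iff.mpr rfl
    have := e₀.injective.subsingleton
    exact not_subsingleton (AdicCompletion (IsLocalRing.maximalIdeal A) A) this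
  haveI : IsLocalRing (B ⧸ I) := isLocalRing_quotient hI
  have hdI : ringKrullDim (B ⧸ I) = d := by
    rw [← ringKrullDim_eq_of_ringEquiv e₀,
      Groth.Agent.Lib.Helper19.ringKrullDim_adicCompletion_maximalIdeal, hd]
  have hle : e ≤ d + I.spanFinrank := by
    have h1 := ringKrullDim_le_ringKrullDim_quotient_add_spanFinrank I (by
      rw [IsLocalRing.ringJacobson_eq_maximalIdeal]; exact IsLocalRing.le_maximalIdeal hI)
    rw [he, hdI] at h1
    have h2 : ((e : ℕ) : WithBot ℕ∞) ≤ ((d + I.spanFinrank : ℕ) : WithBot ℕ∞) := by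
      push_cast; exact h1
    exact_mod_cast h2
  refine ⟨by omega, ?_, ?_⟩
  · intro heq
    obtain ⟨rs, hrs, hreg⟩ := exists_isRegular_of_dim I hI e d he hdI (by omega)
    refine ⟨B, inferInstance, inferInstance, rs, ?_, hreg, ⟨e₀.trans (Ideal.quotEquivOfEq ?_)⟩⟩
    · intro r hr
      apply IsLocalRing.le_maximalIdeal hI
      rw [← hrs]
      exact Ideal.subset_span hr
    · rw [← hrs]
  · rintro ⟨B', i1, i2, rs', -, hreg', ⟨e'⟩⟩
    have key := geomDepth_of_ci (A₀ := B ⧸ I) (Ideal.Quotient.mk I) Ideal.Quotient.mk_surjective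
      rs' hreg' (e₀.symm.trans e') e d he hdI
    rw [Ideal.mk_ker] at key
    exact key


/-- S2166, forward direction -/
theorem exists_isRegular_of_isCompleteIntersection_quotient {R : Type u} [CommRing R]
    [IsRegularLocalRing R] (I : Ideal R) (hI : I ≠ ⊤) [IsLocalRing (R ⧸ I)]
    (hCI : Pi1.IsCompleteIntersection (R ⧸ I)) :
    ∃ rs : List R, Ideal.ofList rs = I ∧ RingTheory.Sequence.IsRegular R rs := by
  haveI hregc : IsRegularLocalRing (AdicCompletion (maximalIdeal R) R) :=
    (Groth.Agent.Lib.Helper19.isRegularLocalRing_adicCompletion_iff R).mp inferInstance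
  obtain ⟨d, hd⟩ := exists_nat_ringKrullDim_eq R
  obtain ⟨dI, hdI⟩ := exists_nat_ringKrullDim_eq (R ⧸ I)
  have hdc : ringKrullDim (AdicCompletion (maximalIdeal R) R) = d := by
    rw [Groth.Agent.Lib.Helper19.ringKrullDim_adicCompletion_maximalIdeal, hd]
  obtain ⟨e, -⟩ := Groth.Agent.Lib.Helper28.exists_ringEquiv_adicCompletion_quotient
    (maximalIdeal R) I
  have hpres : Nonempty (AdicCompletion (maximalIdeal (R ⧸ I)) (R ⧸ I) ≃+*
      AdicCompletion (maximalIdeal R) R ⧸
        I.map (algebraMap R (AdicCompletion (maximalIdeal R) R))) := by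
    rw [maximalIdeal_quotient_eq_map I]
    exact ⟨e.symm⟩
  have key := (geomDepth_le_dim_iff (R ⧸ I) (AdicCompletion (maximalIdeal R) R)
    (I.map (algebraMap R (AdicCompletion (maximalIdeal R) R))) hpres dI d hdI hdc).2.mpr hCI
  have hloc : IsLocalHom (algebraMap R (AdicCompletion (maximalIdeal R) R)) := by
    apply ((IsLocalRing.local_hom_TFAE (algebraMap R (AdicCompletion (maximalIdeal R) R))).out 0 2).mpr
    rw [AdicCompletion.maximalIdeal_eq_map]
  haveI hff : Module.FaithfullyFlat R (AdicCompletion (maximalIdeal R) R) :=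
    Module.FaithfullyFlat.of_flat_of_isLocalHom
  have h1 : I.spanFinrank ≤
      (I.map (algebraMap R (AdicCompletion (maximalIdeal R) R))).spanFinrank :=
    spanFinrank_le_spanFinrank_map I
  have hle : d ≤ dI + I.spanFinrank := by
    have h2 := ringKrullDim_le_ringKrullDim_quotient_add_spanFinrank I (by
      rw [IsLocalRing.ringJacobson_eq_maximalIdeal]; exact IsLocalRing.le_maximalIdeal hI)
    rw [hd, hdI] at h2
    have h3 : ((d : ℕ) : WithBot ℕ∞) ≤ ((dI + I.spanFinrank : ℕ) : WithBot ℕ∞) := by
      push_cast; exact h2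
    exact_mod_cast h3
  exact exists_isRegular_of_dim I hI d dI hd hdI (by omega)

/-- S2169 -/
theorem exists_isRegular_ker_of_complete {A R : Type u} [CommRing A] [CommRing R]
    [IsNoetherianRing A] [IsLocalRing A] [IsAdicComplete (IsLocalRing.maximalIdeal A) A]
    [IsRegularLocalRing R] (f : R →+* A) (hf : Function.Surjective f)
    (hA : Pi1.IsCompleteIntersection A) :
    ∃ rs : List R, Ideal.ofList rs = RingHom.ker f ∧ RingTheory.Sequence.IsRegular R rs := by
  obtain ⟨B', i1, i2, rs', -, hreg', ⟨e'⟩⟩ := hA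
  obtain ⟨d, hd⟩ := exists_nat_ringKrullDim_eq R
  obtain ⟨dA, hdA⟩ := exists_nat_ringKrullDim_eq A
  have eA : A ≃+* AdicCompletion (maximalIdeal A) A :=
    (AdicCompletion.ofAlgEquiv (maximalIdeal A)).toRingEquiv
  have key := geomDepth_of_ci f hf rs' hreg' (eA.trans e') d dA hd hdA
  have hdq : ringKrullDim (R ⧸ RingHom.ker f) = dA := by
    rw [← hdA]
    exact ringKrullDim_eq_of_ringEquiv (RingHom.quotientKerEquivOfSurjective hf)
  exact exists_isRegular_of_dim (RingHom.ker f) (RingHom.ker_ne_top f) d dA hd hdq (by omega)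

end CI


end Groth.Agent.Lib.T2H9.GeomDepthCI
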