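import Mathlib
import Groth.Prelude
import Groth.Agent.Lib.T2H9GeomDepthCI
import Groth.Agent.Lib.Helper28ComplQuot2
import Groth.Agent.Lib.Helper28FGDim
import Groth.Agent.S2165

/-!
# Openness of the complete intersection locus of `Spec (B/I)`, `B` a regular ring (helper9)

`(B/I)_q` is a complete intersection iff `I B_P` is generated by a regular sequence
(`P` the preimage of `q`; T2H9GeomDepthCI).  If `I B_P = (x₁,…,x_r) B_P` with a regular sequence,
then `ht (I B_P) = r`; away from some `g ∉ P` one has `I = (x)`, and away from the minimal primes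
of `I` not contained in `P` the height of `I B_Q` is still `≥ r`; as `B_Q` is Cohen–Macaulay,
`x` is a regular sequence in `B_Q`.
-/

set_option autoImplicit false
set_option linter.unusedSectionVars false
set_option linter.style.haveILetI false
universe u

namespace Groth.Agent.Lib.T2H9.CILocus

open IsLocalRing AlgebraicGeometry Groth.Agent.Lib.Helper5 Groth.Agent.Lib.T2H9.GeomDepthCI

/-- complete intersection transports along ring isomorphisms -/
theorem isCI_of_ringEquiv {A A' : Type u} [CommRing A] [CommRing A'] [IsLocalRing A]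
    [IsLocalRing A'] [IsNoetherianRing A] (e : A ≃+* A') (h : Pi1.IsCompleteIntersection A) :
    Pi1.IsCompleteIntersection A' := by
  obtain ⟨B, i1, i2, rs, hmem, hreg, ⟨e₀⟩⟩ := h
  obtain ⟨ê, -⟩ := Groth.Agent.Lib.Helper28.exists_ringEquiv_adicCompletion_of_ringEquiv
    (maximalIdeal A) (maximalIdeal A') (IsNoetherian.noetherian _) e
    (IsLocalRing.map_ringEquiv_maximalIdeal e)
  exact ⟨B, i1, i2, rs, hmem, hreg, ⟨ê.symm.trans e₀⟩⟩

/-- a regular local ring is a complete intersection -/
theorem isCI_of_isRegularLocalRing (A : Type u) [CommRing A] [IsRegularLocalRing A] :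
    Pi1.IsCompleteIntersection A := by
  have hregc : IsRegularLocalRing (AdicCompletion (maximalIdeal A) A) :=
    (Groth.Agent.Lib.Helper19.isRegularLocalRing_adicCompletion_iff A).mp inferInstance
  refine ⟨AdicCompletion (maximalIdeal A) A, inferInstance, hregc, [], by simp, ?_, ?_⟩
  · refine ⟨RingTheory.Sequence.IsWeaklyRegular.nil _ _, ?_⟩
    rw [Ideal.ofList_nil, Submodule.bot_smul]
    exact top_ne_bot
  · have : Ideal.span {r : AdicCompletion (maximalIdeal A) A | r ∈ ([] : List _)} = ⊥ := by simp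
    rw [this]
    exact ⟨(RingEquiv.quotientBot _).symm⟩

/-- the stalk of `Spec R` at `x` is the localization -/
noncomputable def stalkEquiv (R : Type u) [CommRing R] (x : ↥(Spec (CommRingCat.of R))) :
    (Spec (CommRingCat.of R)).presheaf.stalk x ≃+* Localization.AtPrime x.asIdeal :=
  (StructureSheaf.stalkIso R x).symm.toRingEquiv

section Core

/-- the height of an ideal generated by a regular sequence in a regular local ring -/
theorem height_ofList_of_isRegular {R : Type u} [CommRing R] [IsRegularLocalRing R] (rs : List R)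
    (hreg : RingTheory.Sequence.IsRegular R rs) : (Ideal.ofList rs).height = rs.length := by
  have hne : Ideal.ofList rs ≠ ⊤ := by
    intro htop
    apply hreg.top_ne_smul
    rw [htop, smul_eq_mul, Ideal.mul_top]
  haveI hCM : LocCoh.IsCohenMacaulayLocalRing R := isCohenMacaulayLocalRing_of_isRegularLocalRing R
  have h1 := Groth.Agent.Lib.Helper28.height_add_ringKrullDim_quotient_eq_of_isCohenMacaulayLocalRing
    (Ideal.ofList rs) hne
  have h2 := ringKrullDim_add_length_eq_ringKrullDim_of_isRegular rs hreg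
  haveI : IsLocalRing (R ⧸ Ideal.ofList rs) := isLocalRing_quotient hne
  obtain ⟨m, hm⟩ := exists_nat_ringKrullDim_eq (R ⧸ Ideal.ofList rs)
  obtain ⟨d, hd⟩ := exists_nat_ringKrullDim_eq R
  obtain ⟨n, hn⟩ := ENat.ne_top_iff_exists.mp (Ideal.height_ne_top hne)
  rw [hm, hd] at h1 h2
  rw [← hn] at h1 ⊢
  have h1' : ((n + m : ℕ) : WithBot ℕ∞) = (d : ℕ) := by push_cast; exact h1
  have h2' : ((m + rs.length : ℕ) : WithBot ℕ∞) = (d : ℕ) := by push_cast; exact h2
  have e1 : n + m = d := by exact_mod_cast h1'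
  have e2 : m + rs.length = d := by exact_mod_cast h2'
  have : n = rs.length := by omega
  rw [this]

variable {B : Type u} [CommRing B]

/-- clearing denominators in a generating family of `I B_P` -/
theorem exists_lift_generators (I P : Ideal B) [P.IsPrime] {r : ℕ}
    (y : Fin r → Localization.AtPrime P)
    (hy : Ideal.span (Set.range y) = I.map (algebraMap B (Localization.AtPrime P))) :
    ∃ x : Fin r → B, (∀ i, x i ∈ I) ∧
      Ideal.span (Set.range fun i => algebraMap B (Localization.AtPrime P) (x i)) =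
        I.map (algebraMap B (Localization.AtPrime P)) := by
  have hmem : ∀ i, ∃ a : I × P.primeCompl,
      y i * algebraMap B (Localization.AtPrime P) a.2 = algebraMap B (Localization.AtPrime P) a.1 := by
    intro i
    apply (IsLocalization.mem_map_algebraMap_iff P.primeCompl (Localization.AtPrime P)).mp
    rw [← hy]
    exact Ideal.subset_span ⟨i, rfl⟩
  choose a ha using hmem
  refine ⟨fun i => ((a i).1 : B), fun i => (a i).1.2, ?_⟩
  rw [← hy]
  apply le_antisymm
  · rw [Ideal.span_le]
    rintro _ ⟨i, rfl⟩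
    change algebraMap B (Localization.AtPrime P) ((a i).1 : B) ∈ _
    rw [← ha i]
    exact Ideal.mul_mem_right _ _ (Ideal.subset_span ⟨i, rfl⟩)
  · rw [Ideal.span_le]
    rintro _ ⟨i, rfl⟩
    obtain ⟨u, hu⟩ := IsLocalization.map_units (Localization.AtPrime P) (a i).2
    have : y i = algebraMap B (Localization.AtPrime P) ((a i).1 : B) * ((u⁻¹ : _ˣ) : _) := by
      rw [← ha i, ← hu, mul_assoc, Units.mul_inv, mul_one]
    rw [SetLike.mem_coe, this]
    exact Ideal.mul_mem_right _ _ (Ideal.subset_span ⟨i, rfl⟩)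

variable [IsNoetherianRing B]

set_option linter.overlappingInstances false

/-- if `J ≤ I` agree at `P` then they agree away from some `g ∉ P` -/
theorem exists_mul_mem_of_map_eq (J I P : Ideal B) [P.IsPrime]
    (h : J.map (algebraMap B (Localization.AtPrime P)) =
      I.map (algebraMap B (Localization.AtPrime P))) :
    ∃ g, g ∉ P ∧ ∀ a ∈ I, g * a ∈ J := by
  classical
  obtain ⟨G, hG⟩ := (IsNoetherian.noetherian I : I.FG)
  have h1 : ∀ a ∈ G, ∃ s : B, s ∉ P ∧ s * a ∈ J := by
    intro a ha
    have haI : a ∈ I := by rw [← hG]; exact Submodule.subset_span ha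
    have h2 : algebraMap B (Localization.AtPrime P) a ∈
        J.map (algebraMap B (Localization.AtPrime P)) := by
      rw [h]; exact Ideal.mem_map_of_mem _ haI
    obtain ⟨⟨j, s⟩, hjs⟩ :=
      (IsLocalization.mem_map_algebraMap_iff P.primeCompl (Localization.AtPrime P)).mp h2
    rw [← map_mul, IsLocalization.eq_iff_exists P.primeCompl] at hjs
    obtain ⟨t, ht⟩ := hjs
    refine ⟨t * s, (t * s).2, ?_⟩
    have : ((t * s : P.primeCompl) : B) * a = t * (j : B) := by
      push_cast
      rw [← ht]; ring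
    have h3 : (t : B) * (j : B) ∈ J := Ideal.mul_mem_left _ _ j.2
    rw [← this] at h3
    exact h3
  choose! s hs hsJ using h1
  refine ⟨∏ a ∈ G, s a, ?_, ?_⟩
  · intro hmem
    obtain ⟨a, ha, hsa⟩ := (Ideal.IsPrime.prod_mem_iff (hp := ‹P.IsPrime›)).mp hmem
    exact hs a ha hsa
  · intro a ha
    rw [← hG] at ha
    induction ha using Submodule.span_induction with
    | mem a ha =>
      rw [← Finset.mul_prod_erase G s (Finset.mem_coe.mp ha)]
      have : s a * (∏ x ∈ G.erase a, s x) * a = (∏ x ∈ G.erase a, s x) * (s a * a) := by ring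
      rw [this]
      exact Ideal.mul_mem_left _ _ (hsJ a ha)
    | zero => rw [mul_zero]; exact Ideal.zero_mem _
    | add a b _ _ ha hb => rw [mul_add]; exact Ideal.add_mem _ ha hb
    | smul c a _ ha =>
      rw [smul_eq_mul, mul_left_comm]; exact Ideal.mul_mem_left _ _ ha

theorem map_eq_of_mul_mem (J I Q : Ideal B) [Q.IsPrime] (hJI : J ≤ I) {g : B} (hg : g ∉ Q)
    (h : ∀ a ∈ I, g * a ∈ J) :
    J.map (algebraMap B (Localization.AtPrime Q)) =
      I.map (algebraMap B (Localization.AtPrime Q)) := by
  apply le_antisymm (Ideal.map_mono hJI)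
  rw [Ideal.map_le_iff_le_comap]
  intro a ha
  rw [Ideal.mem_comap]
  have hg' : g ∈ Q.primeCompl := hg
  obtain ⟨u, hu⟩ := IsLocalization.map_units (Localization.AtPrime Q) (⟨g, hg'⟩ : Q.primeCompl)
  have : algebraMap B (Localization.AtPrime Q) a =
      ((u⁻¹ : _ˣ) : Localization.AtPrime Q) * algebraMap B (Localization.AtPrime Q) (g * a) := by
    rw [map_mul, ← mul_assoc]
    change _ = ((u⁻¹ : _ˣ) : Localization.AtPrime Q) * algebraMap B _ ((⟨g, hg'⟩ : Q.primeCompl) : B) * _
    rw [← hu, Units.inv_mul, one_mul]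
  rw [this]
  exact Ideal.mul_mem_left _ _ (Ideal.mem_map_of_mem _ (h a ha))

/-- height of `I B_Q` is bounded below by the height of `I B_P` when the minimal primes of `I`
inside `Q` are inside `P`. -/
theorem le_height_map_of_minimalPrimes (I P Q : Ideal B) [P.IsPrime] [Q.IsPrime]
    (hQ : ∀ P' ∈ I.minimalPrimes, P' ≤ Q → P' ≤ P) (r : ℕ∞)
    (hr : r ≤ (I.map (algebraMap B (Localization.AtPrime P))).height) :
    r ≤ (I.map (algebraMap B (Localization.AtPrime Q))).height := by
  rw [Ideal.height_eq_inf_minimalPrimes]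
  refine le_iInf₂ fun 𝔮 h𝔮 => ?_
  haveI := h𝔮.1.1
  have h1 : (𝔮.under B).height = 𝔮.height := IsLocalization.height_under Q.primeCompl 𝔮
  rw [← h1]
  have hI : I ≤ 𝔮.under B := by
    intro a ha
    exact h𝔮.1.2 (Ideal.mem_map_of_mem _ ha)
  have hle : 𝔮.under B ≤ Q := by
    have h2 : 𝔮 ≤ maximalIdeal (Localization.AtPrime Q) :=
      IsLocalRing.le_maximalIdeal h𝔮.1.1.ne_top
    have h3 := Ideal.comap_mono (f := algebraMap B (Localization.AtPrime Q)) h2
    have h4 : Ideal.comap (algebraMap B (Localization.AtPrime Q))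
        (maximalIdeal (Localization.AtPrime Q)) = Q :=
      IsLocalization.AtPrime.under_maximalIdeal (Localization.AtPrime Q) Q
    rw [h4] at h3
    exact h3
  obtain ⟨P'', hP'', hP''le⟩ := Ideal.exists_minimalPrimes_le hI
  have hP''P : P'' ≤ P := hQ P'' hP'' (hP''le.trans hle)
  haveI := hP''.1.1
  have h4 : (P''.map (algebraMap B (Localization.AtPrime P))).height = P''.height :=
    IsLocalization.height_map_of_disjoint P.primeCompl P'' (by
      rw [Set.disjoint_left]
      intro a ha haP
      exact ha (hP''P haP))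
  calc r ≤ (I.map (algebraMap B (Localization.AtPrime P))).height := hr
    _ ≤ (P''.map (algebraMap B (Localization.AtPrime P))).height :=
        Ideal.height_mono (Ideal.map_mono hP''.1.2)
    _ = P''.height := h4
    _ ≤ (𝔮.under B).height := Ideal.height_mono hP''le


theorem exists_open_regular [IsRegularRing B] (I : Ideal B) (P : PrimeSpectrum B)
    (hCI : ∃ rs : List (Localization.AtPrime P.asIdeal),
      Ideal.ofList rs = I.map (algebraMap B (Localization.AtPrime P.asIdeal)) ∧
        RingTheory.Sequence.IsRegular (Localization.AtPrime P.asIdeal) rs) :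
    ∃ U : Set (PrimeSpectrum B), IsOpen U ∧ P ∈ U ∧ ∀ Q ∈ U, I ≤ Q.asIdeal →
      ∃ rs : List (Localization.AtPrime Q.asIdeal),
        Ideal.ofList rs = I.map (algebraMap B (Localization.AtPrime Q.asIdeal)) ∧
          RingTheory.Sequence.IsRegular (Localization.AtPrime Q.asIdeal) rs := by
  classical
  obtain ⟨rs, hrs, hreg⟩ := hCI
  have hht : (I.map (algebraMap B (Localization.AtPrime P.asIdeal))).height = rs.length := by
    rw [← hrs]; exact height_ofList_of_isRegular rs hreg
  have hy : Ideal.span (Set.range rs.get) =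
      I.map (algebraMap B (Localization.AtPrime P.asIdeal)) := by
    rw [← hrs, ← ofList_ofFn_eq_span_range, List.ofFn_get]
  obtain ⟨x, hxI, hx⟩ := exists_lift_generators I P.asIdeal rs.get hy
  have hJI : Ideal.span (Set.range x) ≤ I := by
    rw [Ideal.span_le]; rintro _ ⟨i, rfl⟩; exact hxI i
  have hJP : (Ideal.span (Set.range x)).map (algebraMap B (Localization.AtPrime P.asIdeal)) =
      I.map (algebraMap B (Localization.AtPrime P.asIdeal)) := by
    rw [Ideal.map_span, ← Set.range_comp]; exact hx
  obtain ⟨g, hgP, hg⟩ := exists_mul_mem_of_map_eq _ I P.asIdeal hJP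
  have hfin : {P' : Ideal B | P' ∈ I.minimalPrimes ∧ ¬ P' ≤ P.asIdeal}.Finite :=
    (Ideal.finite_minimalPrimes_of_isNoetherianRing B I).subset fun P' h => h.1
  refine ⟨{Q | g ∉ Q.asIdeal} ∩
    ⋂ P' ∈ {P' : Ideal B | P' ∈ I.minimalPrimes ∧ ¬ P' ≤ P.asIdeal}, {Q | ¬ P' ≤ Q.asIdeal},
    ?_, ?_, ?_⟩
  · refine IsOpen.inter ?_ (hfin.isOpen_biInter fun P' _ => ?_)
    · exact (PrimeSpectrum.basicOpen g).isOpen
    · have : {Q : PrimeSpectrum B | ¬ P' ≤ Q.asIdeal} =
          (PrimeSpectrum.zeroLocus (P' : Set B))ᶜ := by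
        ext Q
        simp only [Set.mem_ofPred_eq, Set.mem_compl_iff, PrimeSpectrum.mem_zeroLocus]
        rfl
      rw [this]
      exact (PrimeSpectrum.isClosed_zeroLocus _).isOpen_compl
  · refine ⟨hgP, ?_⟩
    simp only [Set.mem_iInter, Set.mem_ofPred_eq]
    intro P' hP'
    exact hP'.2
  · rintro Q ⟨hgQ, hQ2⟩ hIQ
    simp only [Set.mem_iInter, Set.mem_ofPred_eq] at hQ2
    have hJQ := map_eq_of_mul_mem _ I Q.asIdeal hJI hgQ hg
    have hht' := le_height_map_of_minimalPrimes I P.asIdeal Q.asIdeal
      (fun P' hP' hle => by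
        by_contra hn
        exact hQ2 P' ⟨hP', hn⟩ hle) rs.length hht.ge
    set xs' : List (Localization.AtPrime Q.asIdeal) :=
      List.ofFn (fun i => algebraMap B (Localization.AtPrime Q.asIdeal) (x i)) with hxs'
    have hofList : Ideal.ofList xs' = I.map (algebraMap B (Localization.AtPrime Q.asIdeal)) := by
      rw [hxs', ofList_ofFn_eq_span_range, ← hJQ, Ideal.map_span, ← Set.range_comp]
      rfl
    have hmem : ∀ y ∈ xs', y ∈ maximalIdeal (Localization.AtPrime Q.asIdeal) := by
      intro y hy
      rw [hxs', List.mem_ofFn] at hy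
      obtain ⟨i, rfl⟩ := hy
      exact (IsLocalization.AtPrime.to_map_mem_maximal_iff (Localization.AtPrime Q.asIdeal)
        Q.asIdeal (x i)).mpr (hIQ (hxI i))
    haveI hCM : LocCoh.IsCohenMacaulayLocalRing (Localization.AtPrime Q.asIdeal) :=
      isCohenMacaulayLocalRing_of_isRegularLocalRing _
    have hlen : xs'.length = rs.length := by rw [hxs', List.length_ofFn]
    obtain ⟨hw, -, -⟩ := Groth.Agent.Lib.Helper28.isWeaklyRegular_of_length_le_height xs' hmem
      (by rw [hlen, hofList]; exact hht')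
    exact ⟨xs', hofList,
      (IsLocalRing.isRegular_iff_isWeaklyRegular_of_subset_maximalIdeal hmem).mpr hw⟩

end Core

section Spec

variable {B : Type u} [CommRing B]

/-- `(B/I)_q ≃ B_P / I B_P` for `P` the preimage of `q`. -/
noncomputable def locQuotEquiv (I : Ideal B) (q : Ideal (B ⧸ I)) [q.IsPrime] :
    Localization.AtPrime q ≃+*
      Localization.AtPrime (q.comap (Ideal.Quotient.mk I)) ⧸
        I.map (algebraMap B (Localization.AtPrime (q.comap (Ideal.Quotient.mk I)))) := by
  have hM : Algebra.algebraMapSubmonoid (B ⧸ I) (q.comap (Ideal.Quotient.mk I)).primeCompl =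
      q.primeCompl := by
    ext y
    constructor
    · rintro ⟨x, hx, rfl⟩
      exact hx
    · intro hy
      obtain ⟨x, rfl⟩ := Ideal.Quotient.mk_surjective y
      exact ⟨x, hy, rfl⟩
  have hloc : IsLocalization (Algebra.algebraMapSubmonoid (B ⧸ I)
      (q.comap (Ideal.Quotient.mk I)).primeCompl)
      (Localization.AtPrime (q.comap (Ideal.Quotient.mk I)) ⧸
        I.map (algebraMap B (Localization.AtPrime (q.comap (Ideal.Quotient.mk I))))) :=
    inferInstance
  rw [hM] at hloc
  exact (IsLocalization.algEquiv q.primeCompl (Localization.AtPrime q)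
      (Localization.AtPrime (q.comap (Ideal.Quotient.mk I)) ⧸
        I.map (algebraMap B (Localization.AtPrime (q.comap (Ideal.Quotient.mk I)))))).toRingEquiv

variable [IsRegularRing B] (I : Ideal B)

theorem map_ne_top (q : Ideal (B ⧸ I)) [q.IsPrime] :
    I.map (algebraMap B (Localization.AtPrime (q.comap (Ideal.Quotient.mk I)))) ≠ ⊤ := by
  intro htop
  have hle : I ≤ q.comap (Ideal.Quotient.mk I) := by
    intro a ha
    rw [Ideal.mem_comap, Ideal.Quotient.eq_zero_iff_mem.mpr ha]
    exact Ideal.zero_mem _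
  have h1 : I.map (algebraMap B (Localization.AtPrime (q.comap (Ideal.Quotient.mk I)))) ≤
      maximalIdeal (Localization.AtPrime (q.comap (Ideal.Quotient.mk I))) := by
    rw [← Localization.AtPrime.map_eq_maximalIdeal]
    exact Ideal.map_mono hle
  rw [htop] at h1
  exact (IsLocalRing.maximalIdeal.isMaximal _).ne_top (top_le_iff.mp h1)

/-- the stalk of `Spec (B/I)` at `q` is a complete intersection iff `I B_P` is generated by a
regular sequence. -/
theorem isCI_stalk_iff (q : ↥(Spec (CommRingCat.of (B ⧸ I)))) :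
    Pi1.IsCompleteIntersection ((Spec (CommRingCat.of (B ⧸ I))).presheaf.stalk q) ↔
      ∃ rs : List (Localization.AtPrime (q.asIdeal.comap (Ideal.Quotient.mk I))),
        Ideal.ofList rs =
          I.map (algebraMap B (Localization.AtPrime (q.asIdeal.comap (Ideal.Quotient.mk I)))) ∧
        RingTheory.Sequence.IsRegular
          (Localization.AtPrime (q.asIdeal.comap (Ideal.Quotient.mk I))) rs := by
  haveI hloc : IsLocalRing (Localization.AtPrime (q.asIdeal.comap (Ideal.Quotient.mk I)) ⧸
      I.map (algebraMap B (Localization.AtPrime (q.asIdeal.comap (Ideal.Quotient.mk I))))) :=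
    isLocalRing_quotient (map_ne_top I q.asIdeal)
  have e := (stalkEquiv (B ⧸ I) q).trans (locQuotEquiv I q.asIdeal)
  haveI : IsNoetherianRing (B ⧸ I) := inferInstance
  haveI : IsNoetherianRing ((Spec (CommRingCat.of (B ⧸ I))).presheaf.stalk q) :=
    isNoetherianRing_of_ringEquiv _ e.symm
  constructor
  · intro h
    exact exists_isRegular_of_isCompleteIntersection_quotient _ (map_ne_top I q.asIdeal)
      (isCI_of_ringEquiv e h)
  · rintro ⟨rs, hrs, hreg⟩
    apply isCI_of_ringEquiv e.symm
    revert hloc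
    rw [← hrs]
    intro hloc
    exact Groth.Agent.S2165.isCompleteIntersection_quotient_ofList rs hreg

/-- S2842 -/
theorem isOpen_ciLocus :
    IsOpen {x : ↥(Spec (CommRingCat.of (B ⧸ I))) |
        Pi1.IsCompleteIntersection ((Spec (CommRingCat.of (B ⧸ I))).presheaf.stalk x)} ∧
      ∀ x : ↥(Spec (CommRingCat.of (B ⧸ I))),
        IsRegularLocalRing ((Spec (CommRingCat.of (B ⧸ I))).presheaf.stalk x) →
        Pi1.IsCompleteIntersection ((Spec (CommRingCat.of (B ⧸ I))).presheaf.stalk x) := by
  refine ⟨?_, fun x hx => isCI_of_isRegularLocalRing _⟩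
  rw [isOpen_iff_forall_mem_open]
  intro q hq
  rw [Set.mem_ofPred_eq, isCI_stalk_iff] at hq
  obtain ⟨U, hU, hPU, hUci⟩ := exists_open_regular I
    (PrimeSpectrum.comap (Ideal.Quotient.mk I) q) hq
  refine ⟨(PrimeSpectrum.comap (Ideal.Quotient.mk I)) ⁻¹' U, ?_,
    hU.preimage (PrimeSpectrum.continuous_comap (Ideal.Quotient.mk I)), hPU⟩
  intro q' hq'
  rw [Set.mem_ofPred_eq, isCI_stalk_iff]
  apply hUci _ hq'
  intro a ha
  change Ideal.Quotient.mk I a ∈ q'.asIdeal
  rw [Ideal.Quotient.eq_zero_iff_mem.mpr ha]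
  exact Ideal.zero_mem _

end Spec

end Groth.Agent.Lib.T2H9.CILocus
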