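import Mathlib
import Groth.Agent.Lib.Helper14FTDim
import Groth.Agent.Lib.Helper28FGDim
import Groth.Prelude.Def_RegImm

set_option autoImplicit false
set_option linter.style.haveILetI false
set_option linter.unusedSectionVars false
set_option linter.unusedVariables false
universe u

namespace Groth.Agent.Lib.T2H9.FieldGCI

open IsLocalRing


/-- A prime `p` of a Noetherian ring with `R_p` regular is, near `p`, generated by `ht p`
elements. -/
theorem exists_local_generators {R : Type u} [CommRing R] [IsNoetherianRing R] (p : Ideal R)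
    [hp : p.IsPrime] [hreg : IsRegularLocalRing (Localization.AtPrime p)] :
    ∃ (c : ℕ) (f : Fin c → R) (g : R), (c : ℕ∞) = p.height ∧ (∀ i, f i ∈ p) ∧ g ∉ p ∧
      ∀ h ∈ p, g * h ∈ Ideal.span (Set.range f) := by
  classical
  set Rp := Localization.AtPrime p with hRp
  set m := maximalIdeal Rp with hm
  have hfg : m.FG := IsNoetherian.noetherian m
  set s := Submodule.generators m with hs
  have hsfin : s.Finite := Submodule.FG.finite_generators hfg
  have hscard : s.ncard = Submodule.spanFinrank m := Submodule.FG.generators_ncard hfg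
  have hspan : Ideal.span s = m := Submodule.span_generators m
  set c := Submodule.spanFinrank m with hc
  have hch : (c : ℕ∞) = p.height := by
    have h1 : ((c : ℕ) : WithBot ℕ∞) = ringKrullDim Rp := hreg.spanFinrank_maximalIdeal
    rw [IsLocalization.AtPrime.ringKrullDim_eq_height p Rp] at h1
    exact_mod_cast h1
  have hcard : hsfin.toFinset.card = c := by
    rw [← Set.ncard_eq_toFinset_card s hsfin, hscard]
  let e := hsfin.toFinset.equivFinOfCardEq hcard
  have hy : ∀ i : Fin c, ((e.symm i : hsfin.toFinset) : Rp) ∈ m := by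
    intro i
    have : ((e.symm i : hsfin.toFinset) : Rp) ∈ s := hsfin.mem_toFinset.mp (e.symm i).2
    rw [← hspan]
    exact Ideal.subset_span this
  have hex : ∀ i : Fin c, ∃ a : R, a ∈ p ∧ ∃ t : p.primeCompl,
      IsLocalization.mk' Rp a t = ((e.symm i : hsfin.toFinset) : Rp) := by
    intro i
    obtain ⟨a, t, hat⟩ := IsLocalization.exists_mk'_eq p.primeCompl
      ((e.symm i : hsfin.toFinset) : Rp)
    refine ⟨a, ?_, t, hat⟩
    have := hy i
    rw [← hat, hm, IsLocalization.AtPrime.mk'_mem_maximal_iff Rp p] at this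
    exact this
  choose f hfp t hft using hex
  -- `m ≤ map (span (range f))`
  have hle : m ≤ Ideal.map (algebraMap R Rp) (Ideal.span (Set.range f)) := by
    rw [← hspan, Ideal.span_le]
    intro y hy'
    have hy'' : y ∈ hsfin.toFinset := hsfin.mem_toFinset.mpr hy'
    obtain ⟨i, hi⟩ : ∃ i, ((e.symm i : hsfin.toFinset) : Rp) = y :=
      ⟨e ⟨y, hy''⟩, by simp⟩
    rw [← hi, ← hft i, IsLocalization.mk'_eq_mul_mk'_one]
    exact Ideal.mul_mem_right _ _ (Ideal.mem_map_of_mem _ (Ideal.subset_span ⟨i, rfl⟩))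
  -- for each `h ∈ p` a multiplier
  have hmult : ∀ h ∈ p, ∃ g : R, g ∉ p ∧ g * h ∈ Ideal.span (Set.range f) := by
    intro h hh
    have h1 : algebraMap R Rp h ∈ m := by
      rw [hm, ← IsLocalization.AtPrime.map_eq_maximalIdeal p Rp]
      exact Ideal.mem_map_of_mem _ hh
    have h2 := hle h1
    rw [IsLocalization.mem_map_algebraMap_iff p.primeCompl] at h2
    obtain ⟨⟨a, s'⟩, has⟩ := h2
    rw [← map_mul, IsLocalization.eq_iff_exists p.primeCompl] at has
    obtain ⟨c', hc'⟩ := has
    refine ⟨c' * s', (c' * s').2, ?_⟩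
    have : ((c' : R) * (s' : R)) * h = c' * (a : R) := by
      rw [← hc']; ring
    rw [this]
    exact Ideal.mul_mem_left _ _ a.2
  obtain ⟨T, hT⟩ := (isNoetherianRing_iff_ideal_fg R).mp inferInstance p
  have hTp : ∀ h ∈ T, h ∈ p := fun h hh => hT ▸ Ideal.subset_span hh
  choose! gm hgm1 hgm2 using hmult
  refine ⟨c, f, ∏ h ∈ T, gm h, hch, hfp, ?_, ?_⟩
  · intro hmem
    rw [Ideal.IsPrime.prod_mem_iff] at hmem
    obtain ⟨h, hh, hmem⟩ := hmem
    exact hgm1 h (hTp h hh) hmem
  · intro h hh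
    rw [← hT] at hh
    refine Submodule.span_induction ?_ ?_ ?_ ?_ hh
    · intro x hx
      rw [← Finset.mul_prod_erase T gm hx, mul_right_comm]
      exact Ideal.mul_mem_right _ _ (hgm2 x (hTp x hx))
    · rw [mul_zero]; exact Ideal.zero_mem _
    · intro x y _ _ hx hy
      rw [mul_add]; exact Ideal.add_mem _ hx hy
    · intro a x _ hx
      rw [smul_eq_mul, mul_left_comm]
      exact Ideal.mul_mem_left _ _ hx


section Theta

variable {k : Type u} [Field k] {n c : ℕ} (f : Fin c → MvPolynomial (Fin n) k)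
  (g : MvPolynomial (Fin n) k)

local notation "II" => Ideal.span (Set.range f)
local notation "S₁" => MvPolynomial (Fin n) k ⧸ Ideal.span (Set.range f)
local notation "gbar" => (Ideal.Quotient.mk (Ideal.span (Set.range f)) g)
local notation "S₂" => Localization.Away (Ideal.Quotient.mk (Ideal.span (Set.range f)) g)

variable {K : Type u} [CommRing K] [IsDomain K] [Algebra k K]
  (φ₀ : MvPolynomial (Fin n) k →ₐ[k] K)
  (hI : Ideal.span (Set.range f) ≤ RingHom.ker φ₀.toRingHom) (hg : IsUnit (φ₀ g))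

/-- the induced map `k[x]/(f) → K`. -/
noncomputable def theta1 : S₁ →ₐ[k] K :=
  Ideal.Quotient.liftₐ (Ideal.span (Set.range f)) φ₀ (fun a ha => hI ha)

@[simp] theorem theta1_mk (x : MvPolynomial (Fin n) k) :
    theta1 f φ₀ hI (Ideal.Quotient.mk _ x) = φ₀ x := rfl

include hg in
theorem isUnit_theta1 (y : Submonoid.powers gbar) : IsUnit (theta1 f φ₀ hI y) := by
  obtain ⟨_, m, rfl⟩ := y
  simp only [map_pow, theta1_mk]
  exact hg.pow m

/-- the induced map `(k[x]/(f))_g → K`. -/
noncomputable def theta : S₂ →ₐ[k] K :=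
  IsLocalization.liftAlgHom (M := Submonoid.powers gbar) (f := theta1 f φ₀ hI)
    (isUnit_theta1 f g φ₀ hI hg)

theorem theta_algebraMap (y : S₁) :
    theta f g φ₀ hI hg (algebraMap S₁ S₂ y) = theta1 f φ₀ hI y := by
  simp [theta]

theorem theta_injective (hmul : ∀ h ∈ RingHom.ker φ₀.toRingHom, g * h ∈ Ideal.span (Set.range f)) :
    Function.Injective (theta f g φ₀ hI hg) := by
  rw [injective_iff_map_eq_zero]
  intro s hs
  obtain ⟨a, ⟨_, m, rfl⟩, rfl⟩ := IsLocalization.exists_mk'_eq (Submonoid.powers gbar) s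
  rw [IsLocalization.mk'_eq_zero_iff]
  obtain ⟨a', rfl⟩ := Ideal.Quotient.mk_surjective a
  have h1 : φ₀ a' = 0 := by
    have h2 : theta f g φ₀ hI hg (IsLocalization.mk' S₂ (Ideal.Quotient.mk II a')
        (⟨gbar ^ m, m, rfl⟩ : Submonoid.powers gbar)) * theta f g φ₀ hI hg (algebraMap S₁ S₂ (gbar ^ m)) =
        theta f g φ₀ hI hg (algebraMap S₁ S₂ (Ideal.Quotient.mk II a')) := by
      rw [← map_mul]
      congr 1
      exact IsLocalization.mk'_spec S₂ _ _
    rw [hs, zero_mul, theta_algebraMap, theta1_mk] at h2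
    exact h2.symm
  refine ⟨⟨gbar, 1, pow_one _⟩, ?_⟩
  show gbar * Ideal.Quotient.mk II a' = 0
  rw [← map_mul, Ideal.Quotient.eq_zero_iff_mem]
  exact hmul a' h1

end Theta

section Dim

theorem trdeg_fractionRing_eq (k T : Type u) [Field k] [CommRing T] [IsDomain T] [Algebra k T] :
    Algebra.trdeg k (FractionRing T) = Algebra.trdeg k T := by
  haveI : FaithfulSMul k T :=
    (faithfulSMul_iff_algebraMap_injective k T).mpr (algebraMap k T).injective
  haveI : Algebra.IsAlgebraic T (FractionRing T) :=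
    IsLocalization.isAlgebraic _ (nonZeroDivisors T)
  have h := trdeg_add_eq k T (A := FractionRing T)
  rw [trdeg_eq_zero (R := T) (A := FractionRing T), add_zero] at h
  exact h.symm

/-- Two finite type domains over a field, each embedding into (the fraction field of) the other,
have the same dimension. -/
theorem ringKrullDim_eq_of_injective (k D T : Type u) [Field k] [CommRing D] [IsDomain D]
    [CommRing T] [IsDomain T] [Algebra k D] [Algebra k T] [Algebra.FiniteType k D]
    [Algebra.FiniteType k T] (ι : D →ₐ[k] T) (hι : Function.Injective ι)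
    (θ : T →ₐ[k] FractionRing D) (hθ : Function.Injective θ) :
    ringKrullDim T = ringKrullDim D := by
  obtain ⟨d₀, htr₀, hdim₀, -⟩ := Groth.Agent.Lib.Helper14.FTDim.exists_dim k D
  obtain ⟨d, htr, hdim, -⟩ := Groth.Agent.Lib.Helper14.FTDim.exists_dim k T
  rw [trdeg_fractionRing_eq] at htr
  have h1 : Algebra.trdeg k T ≤ Algebra.trdeg k (FractionRing D) :=
    trdeg_le_of_injective θ hθ
  have h2 : Algebra.trdeg k D ≤ Algebra.trdeg k T := trdeg_le_of_injective ι hι
  rw [← trdeg_fractionRing_eq k D] at h2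
  have h3 : Algebra.trdeg k T = Algebra.trdeg k (FractionRing D) := le_antisymm h1 h2
  rw [htr, htr₀] at h3
  have h4 : d = d₀ := by exact_mod_cast h3
  rw [hdim, hdim₀, h4]

end Dim

section Main

variable {k : Type u} [Field k] {n c : ℕ} (f : Fin c → MvPolynomial (Fin n) k)
  (g : MvPolynomial (Fin n) k)

local notation "II" => Ideal.span (Set.range f)
local notation "S₁" => MvPolynomial (Fin n) k ⧸ Ideal.span (Set.range f)
local notation "gbar" => (Ideal.Quotient.mk (Ideal.span (Set.range f)) g)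
local notation "S₂" => Localization.Away (Ideal.Quotient.mk (Ideal.span (Set.range f)) g)

/-- index equivalence `Fin (m+1) ≃ Unit ⊕ Fin m`. -/
def idxEquiv (m : ℕ) : Fin (m + 1) ≃ Unit ⊕ Fin m :=
  (finCongr (Nat.add_comm m 1)).trans
    (finSumFinEquiv.symm.trans (Equiv.sumCongr finOneEquiv (Equiv.refl _)))

/-- the presentation of `(k[x]/(f))_g` with `n+1` generators and `c+1` relations. -/
noncomputable def pres : Algebra.Presentation k S₂ (Fin (n + 1)) (Fin (c + 1)) :=
  ((Algebra.Presentation.localizationAway S₂ gbar).comp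
    (Algebra.Presentation.naive (v := f))).reindex (idxEquiv n) (idxEquiv c)

variable {K : Type u} [Field K] [Algebra k K] (φ₀ : MvPolynomial (Fin n) k →ₐ[k] K)
  (hI : Ideal.span (Set.range f) ≤ RingHom.ker φ₀.toRingHom) (hg : φ₀ g ≠ 0)
  (hmul : ∀ h ∈ RingHom.ker φ₀.toRingHom, g * h ∈ Ideal.span (Set.range f))

include hI hg hmul in
theorem dim_S₂ (hc : (c : ℕ∞) = (RingHom.ker φ₀.toRingHom).height) :
    IsDomain S₂ ∧ c ≤ n ∧ ringKrullDim S₂ = ((n - c : ℕ) : WithBot ℕ∞) := by
  have hprime : (RingHom.ker φ₀.toRingHom).IsPrime := RingHom.ker_isPrime _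
  have hgp : g ∉ RingHom.ker φ₀.toRingHom := fun h => hg h
  have hdom : IsDomain S₂ :=
    Function.Injective.isDomain (theta f g φ₀ hI (isUnit_iff_ne_zero.mpr hg)).toRingHom
      (theta_injective f g φ₀ hI (isUnit_iff_ne_zero.mpr hg) hmul)
  have hft : Algebra.FiniteType k S₂ :=
    haveI := (pres f g).finitePresentation_of_isFinite
    inferInstance
  -- the map to the fraction field of `D = k[x]/p`
  let φ₀' : MvPolynomial (Fin n) k →ₐ[k]
      FractionRing (MvPolynomial (Fin n) k ⧸ RingHom.ker φ₀.toRingHom) :=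
    (IsScalarTower.toAlgHom k (MvPolynomial (Fin n) k ⧸ RingHom.ker φ₀.toRingHom)
      (FractionRing (MvPolynomial (Fin n) k ⧸ RingHom.ker φ₀.toRingHom))).comp
      (Ideal.Quotient.mkₐ k (RingHom.ker φ₀.toRingHom))
  have hφ₀' : ∀ x, φ₀' x = algebraMap (MvPolynomial (Fin n) k ⧸ RingHom.ker φ₀.toRingHom)
      (FractionRing (MvPolynomial (Fin n) k ⧸ RingHom.ker φ₀.toRingHom))
      (Ideal.Quotient.mk (RingHom.ker φ₀.toRingHom) x) := fun x => rfl
  have hker' : RingHom.ker φ₀'.toRingHom = RingHom.ker φ₀.toRingHom := by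
    ext x
    rw [RingHom.mem_ker]
    change φ₀' x = 0 ↔ _
    rw [hφ₀', map_eq_zero_iff _ (IsFractionRing.injective _ _), Ideal.Quotient.eq_zero_iff_mem]
  have hI' : Ideal.span (Set.range f) ≤ RingHom.ker φ₀'.toRingHom := by rw [hker']; exact hI
  have hg' : IsUnit (φ₀' g) := by
    rw [isUnit_iff_ne_zero]
    intro h
    have : g ∈ RingHom.ker φ₀'.toRingHom := h
    rw [hker'] at this
    exact hgp this
  have hmul' : ∀ h ∈ RingHom.ker φ₀'.toRingHom, g * h ∈ Ideal.span (Set.range f) := by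
    rw [hker']; exact hmul
  have hθ' := theta_injective f g φ₀' hI' hg' hmul'
  -- the map `D → S₂`
  let ψ : MvPolynomial (Fin n) k →ₐ[k] S₂ :=
    (IsScalarTower.toAlgHom k S₁ S₂).comp (Ideal.Quotient.mkₐ k (Ideal.span (Set.range f)))
  have hψ : ∀ x, ψ x = algebraMap S₁ S₂ (Ideal.Quotient.mk _ x) := fun x => rfl
  have hψker : ∀ a ∈ RingHom.ker φ₀.toRingHom, ψ a = 0 := by
    intro a ha
    have h1 : gbar * Ideal.Quotient.mk (Ideal.span (Set.range f)) a = 0 := by
      rw [← map_mul, Ideal.Quotient.eq_zero_iff_mem]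
      exact hmul a ha
    have h2 : algebraMap S₁ S₂ gbar * ψ a = 0 := by
      rw [hψ, ← map_mul, h1, map_zero]
    have hu : IsUnit (algebraMap S₁ S₂ gbar) :=
      IsLocalization.map_units S₂ (⟨gbar, 1, pow_one _⟩ : Submonoid.powers gbar)
    exact (hu.mul_right_eq_zero).mp h2
  let ι : (MvPolynomial (Fin n) k ⧸ RingHom.ker φ₀.toRingHom) →ₐ[k] S₂ :=
    Ideal.Quotient.liftₐ (RingHom.ker φ₀.toRingHom) ψ hψker
  have hι : Function.Injective ι := by
    have hcomp : ∀ y, theta f g φ₀' hI' hg' (ι y) =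
        algebraMap (MvPolynomial (Fin n) k ⧸ RingHom.ker φ₀.toRingHom)
          (FractionRing (MvPolynomial (Fin n) k ⧸ RingHom.ker φ₀.toRingHom)) y := by
      intro y
      obtain ⟨x, rfl⟩ := Ideal.Quotient.mk_surjective y
      have : ι (Ideal.Quotient.mk _ x) = ψ x := rfl
      rw [this, hψ, theta_algebraMap, theta1_mk, hφ₀']
    intro y₁ y₂ h
    apply IsFractionRing.injective (MvPolynomial (Fin n) k ⧸ RingHom.ker φ₀.toRingHom)
      (FractionRing (MvPolynomial (Fin n) k ⧸ RingHom.ker φ₀.toRingHom))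
    rw [← hcomp, ← hcomp, h]
  have hdim := ringKrullDim_eq_of_injective k
    (MvPolynomial (Fin n) k ⧸ RingHom.ker φ₀.toRingHom) S₂ ι hι (theta f g φ₀' hI' hg') hθ'
  haveI := Groth.Agent.Lib.Helper28.isCohenMacaulayRing_of_field k
  haveI := Groth.Agent.Lib.Helper28.isCohenMacaulayRing_mvPolynomial_fin (R := k) n
  have h1 := Groth.Agent.Lib.Helper28.height_add_ringKrullDim_quotient_eq_of_forall_isMaximal_height_eq
    n (Groth.Agent.Lib.Helper28.height_eq_of_isMaximal_mvPolynomial_fin k n)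
    (RingHom.ker φ₀.toRingHom)
  rw [← hc, ← hdim] at h1
  have hnb : ringKrullDim S₂ ≠ ⊥ := by
    have : 0 ≤ ringKrullDim S₂ := ringKrullDim_nonneg_of_nontrivial
    intro hb
    rw [hb] at this
    simp at this
  obtain ⟨x, hx⟩ := WithBot.ne_bot_iff_exists.mp hnb
  rw [← hx] at h1 ⊢
  have h2 : ((c : ℕ∞) + x) = (n : ℕ∞) := by
    have : (((c : ℕ∞) + x : ℕ∞) : WithBot ℕ∞) = ((n : ℕ∞) : WithBot ℕ∞) := by
      rw [WithBot.coe_add]; exact h1
    exact WithBot.coe_injective this
  have hxfin : x ≠ ⊤ := by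
    intro h
    rw [h] at h2
    simp at h2
  obtain ⟨x', rfl⟩ := ENat.ne_top_iff_exists.mp hxfin
  have h3 : c + x' = n := by exact_mod_cast h2
  refine ⟨hdom, by omega, ?_⟩
  have : x' = n - c := by omega
  rw [this]
  rfl

end Main

section Final

/-- **S9430**: every finite subset of a field extension `K/k` lies in a `k`-subalgebra of `K`
which is a global complete intersection over `k`. -/
theorem exists_subalgebra_isGlobalCI (k K : Type u) [Field k] [Field K] [Algebra k K]
    (E : Finset K) :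
    ∃ A : Subalgebra k K, (↑E : Set K) ⊆ (A : Set K) ∧ Synt.IsGlobalCI k A := by
  classical
  let e : Fin E.card → K := fun i => ((E.equivFin.symm i : E) : K)
  let φ₀ : MvPolynomial (Fin E.card) k →ₐ[k] K := MvPolynomial.aeval e
  haveI hprime : (RingHom.ker φ₀.toRingHom).IsPrime := RingHom.ker_isPrime _
  haveI : IsRegularRing (MvPolynomial (Fin E.card) k) := inferInstance
  haveI : IsRegularLocalRing (Localization.AtPrime (RingHom.ker φ₀.toRingHom)) :=
    IsRegularRing.isRegularLocalRing_localization _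
  obtain ⟨c, f, g, hch, hfp, hgp, hmul⟩ := exists_local_generators (RingHom.ker φ₀.toRingHom)
  have hI : Ideal.span (Set.range f) ≤ RingHom.ker φ₀.toRingHom := by
    rw [Ideal.span_le]
    rintro _ ⟨i, rfl⟩
    exact hfp i
  have hg : φ₀ g ≠ 0 := fun h => hgp h
  obtain ⟨hdom, hcn, hdim⟩ := dim_S₂ f g φ₀ hI hg hmul hch
  have hθinj := theta_injective f g φ₀ hI (isUnit_iff_ne_zero.mpr hg) hmul
  refine ⟨(theta f g φ₀ hI (isUnit_iff_ne_zero.mpr hg)).range, ?_, ?_⟩
  · intro x hx
    obtain ⟨i, rfl⟩ : ∃ i, e i = x := ⟨E.equivFin ⟨x, hx⟩, by simp [e]⟩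
    refine ⟨algebraMap (MvPolynomial (Fin E.card) k ⧸ Ideal.span (Set.range f))
      (Localization.Away (Ideal.Quotient.mk (Ideal.span (Set.range f)) g))
      (Ideal.Quotient.mk _ (MvPolynomial.X i)), ?_⟩
    rw [AlgHom.toRingHom_eq_coe, RingHom.coe_coe, theta_algebraMap, theta1_mk]
    simp [φ₀]
  · right
    let eqv := AlgEquiv.ofInjective (theta f g φ₀ hI (isUnit_iff_ne_zero.mpr hg)) hθinj
    let P := (pres f g).ofAlgEquiv eqv
    let φ : MvPolynomial (Fin (E.card + 1)) k →ₐ[k]
        (theta f g φ₀ hI (isUnit_iff_ne_zero.mpr hg)).range := MvPolynomial.aeval P.val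
    have hφalg : (algebraMap P.Ring (theta f g φ₀ hI (isUnit_iff_ne_zero.mpr hg)).range) =
        φ.toRingHom := by
      rw [P.algebraMap_eq]; rfl
    have hφ : Function.Surjective φ := by
      have := P.algebraMap_surjective
      rw [hφalg] at this
      exact this
    have hker : RingHom.ker φ.toRingHom = Ideal.span (Set.range P.relation) := by
      rw [P.span_range_relation_eq_ker, ← hφalg]
      rfl
    refine ⟨E.card + 1, c + 1, by omega, φ, P.relation, hφ, hker, ?_⟩
    rw [← ringKrullDim_eq_of_ringEquiv eqv.toRingEquiv, hdim]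
    have : E.card + 1 - (c + 1) = E.card - c := by omega
    rw [this]

end Final

end Groth.Agent.Lib.T2H9.FieldGCI
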