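import Mathlib
import Groth.Prelude
import Groth.Agent.Lib.T2H9CILocus
import Groth.Agent.Lib.T2H9FieldGCI
import Groth.Agent.Lib.Helper5DirLimReg

/-!
# Complete intersections over a field: the local structure (helper9)

`S = k[x₁,…,xₙ]/I`, `q` a prime of `S`, `P` its preimage.  Then `S_g` is a global complete
intersection for some `g ∉ q` iff `I_P` is generated by `c = ht P - ht q` elements iff `I_P` is
generated by a regular sequence.
-/

set_option autoImplicit false
set_option linter.unusedSectionVars false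
set_option linter.style.haveILetI false
universe u

namespace Groth.Agent.Lib.T2H9.SyntCI

open IsLocalRing Groth.Agent.Lib.Helper5 Groth.Agent.Lib.Helper5.DirLimReg Groth.Agent.Lib.T2H9.GeomDepthCI
  Groth.Agent.Lib.T2H9.CILocus

section Spread

variable {B : Type u} [CommRing B]

/-- a regular sequence generating `I B_P` spreads out to a basic open neighbourhood: the lifted
generators generate `I` away from `g`, and the ideal they generate has height `≥ r` at every prime
of `D(g)`. -/
theorem exists_basic_regular [IsRegularRing B] (I P : Ideal B) [P.IsPrime]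
    (rs : List (Localization.AtPrime P))
    (hrs : Ideal.ofList rs = I.map (algebraMap B (Localization.AtPrime P)))
    (hreg : RingTheory.Sequence.IsRegular (Localization.AtPrime P) rs) :
    ∃ (x : Fin rs.length → B) (g : B), (∀ i, x i ∈ I) ∧ g ∉ P ∧
      (∀ a ∈ I, g * a ∈ Ideal.span (Set.range x)) ∧
      ∀ (Q : Ideal B) [Q.IsPrime], g ∉ Q → Ideal.span (Set.range x) ≤ Q →
        (rs.length : ℕ∞) ≤
          ((Ideal.span (Set.range x)).map (algebraMap B (Localization.AtPrime Q))).height := by
  classical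
  have hht : (I.map (algebraMap B (Localization.AtPrime P))).height = rs.length := by
    rw [← hrs]; exact height_ofList_of_isRegular rs hreg
  have hy : Ideal.span (Set.range rs.get) =
      I.map (algebraMap B (Localization.AtPrime P)) := by
    rw [← hrs, ← ofList_ofFn_eq_span_range', List.ofFn_get]
  obtain ⟨x, hxI, hx⟩ := exists_lift_generators I P rs.get hy
  have hJI : Ideal.span (Set.range x) ≤ I := by
    rw [Ideal.span_le]; rintro _ ⟨i, rfl⟩; exact hxI i
  have hJP : (Ideal.span (Set.range x)).map (algebraMap B (Localization.AtPrime P)) =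
      I.map (algebraMap B (Localization.AtPrime P)) := by
    rw [Ideal.map_span, ← Set.range_comp]; exact hx
  obtain ⟨g₁, hg₁P, hg₁⟩ := exists_mul_mem_of_map_eq _ I P hJP
  have hfin : {P' : Ideal B | P' ∈ I.minimalPrimes ∧ ¬ P' ≤ P}.Finite :=
    (Ideal.finite_minimalPrimes_of_isNoetherianRing B I).subset fun P' h => h.1
  have hchoose : ∀ P' : Ideal B, ∃ p : B, p ∉ P ∧ (¬ P' ≤ P → p ∈ P') := by
    intro P'
    by_cases h : P' ≤ P
    · exact ⟨1, fun h1 => (Ideal.IsPrime.ne_top ‹_›) ((Ideal.eq_top_iff_one P).mpr h1),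
        fun hn => absurd h hn⟩
    · obtain ⟨p, hp, hpP⟩ := Set.not_subset.mp h
      exact ⟨p, hpP, fun _ => hp⟩
  choose pe hpe1 hpe2 using hchoose
  set g₂ : B := ∏ P' ∈ hfin.toFinset, pe P' with hg₂
  have hg₂P : g₂ ∉ P := by
    rw [hg₂, Ideal.IsPrime.prod_mem_iff (hp := ‹P.IsPrime›)]
    rintro ⟨P', -, h⟩
    exact hpe1 P' h
  have hg₂mem : ∀ P' ∈ I.minimalPrimes, ¬ P' ≤ P → g₂ ∈ P' := by
    intro P' hP' hn
    have hmem : P' ∈ hfin.toFinset := by
      rw [Set.Finite.mem_toFinset]; exact ⟨hP', hn⟩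
    exact Ideal.mem_of_dvd _ (Finset.dvd_prod_of_mem pe hmem) (hpe2 P' hn)
  refine ⟨x, g₁ * g₂, hxI, ?_, ?_, ?_⟩
  · intro h
    rcases (Ideal.IsPrime.mem_or_mem ‹P.IsPrime› h) with h | h
    · exact hg₁P h
    · exact hg₂P h
  · intro a ha
    rw [mul_comm g₁ g₂, mul_assoc]
    exact Ideal.mul_mem_left _ _ (hg₁ a ha)
  · intro Q hQ hgQ hJQ
    have hg₁Q : g₁ ∉ Q := fun h => hgQ (Ideal.mul_mem_right _ _ h)
    have hg₂Q : g₂ ∉ Q := fun h => hgQ (Ideal.mul_mem_left _ _ h)
    have hJQeq := map_eq_of_mul_mem _ I Q hJI hg₁Q hg₁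
    rw [hJQeq]
    exact le_height_map_of_minimalPrimes I P Q
      (fun P' hP' hle => by
        by_contra hn
        exact hg₂Q (hle (hg₂mem P' hP' hn))) rs.length hht.ge

end Spread

section Away

open Groth.Agent.Lib.T2H9.FieldGCI

variable {k : Type u} [Field k] {n c : ℕ} (f : Fin c → MvPolynomial (Fin n) k)
  (g : MvPolynomial (Fin n) k)

local notation "S₁" => MvPolynomial (Fin n) k ⧸ Ideal.span (Set.range f)
local notation "gbar" => (Ideal.Quotient.mk (Ideal.span (Set.range f)) g)
local notation "S₂" => Localization.Away (Ideal.Quotient.mk (Ideal.span (Set.range f)) g)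

theorem cm_mvPolynomial (k : Type u) [Field k] (n : ℕ) :
    LocCoh.IsCohenMacaulayRing (MvPolynomial (Fin n) k) := by
  haveI := Groth.Agent.Lib.Helper28.isCohenMacaulayRing_of_field k
  exact Groth.Agent.Lib.Helper28.isCohenMacaulayRing_mvPolynomial_fin (R := k) n

theorem height_le_of_prime (Q : Ideal (MvPolynomial (Fin n) k)) [hQ : Q.IsPrime] :
    Q.height ≤ n := by
  obtain ⟨M, hM, hQM⟩ := Q.exists_le_maximal hQ.ne_top
  rw [← Groth.Agent.Lib.Helper28.height_eq_of_isMaximal_mvPolynomial_fin k n M hM]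
  exact Ideal.height_mono hQM

/-- heights of primes of `(k[x]/(f))_g` when `(f)` has height `≥ c` at all primes of `D(g)` -/
theorem height_add_le_of_prime
    (hht : ∀ (Q : Ideal (MvPolynomial (Fin n) k)) [Q.IsPrime], g ∉ Q →
      Ideal.span (Set.range f) ≤ Q → (c : ℕ∞) ≤
        ((Ideal.span (Set.range f)).map (algebraMap _ (Localization.AtPrime Q))).height)
    (q₂ : Ideal S₂) [hq₂ : q₂.IsPrime] : (c : ℕ∞) + q₂.height ≤ n := by
  haveI := cm_mvPolynomial k n
  set q₁ : Ideal S₁ := q₂.under S₁ with hq₁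
  haveI hq₁p : q₁.IsPrime := Ideal.comap_isPrime _ _
  have hgq₁ : gbar ∉ q₁ := by
    intro h
    have hu : IsUnit (algebraMap S₁ S₂ gbar) :=
      IsLocalization.map_units S₂ (⟨gbar, 1, pow_one _⟩ : Submonoid.powers gbar)
    exact hq₂.ne_top (Ideal.eq_top_of_isUnit_mem _ h hu)
  have h1 : q₁.height = q₂.height := IsLocalization.height_under (Submonoid.powers gbar) q₂
  set Q : Ideal (MvPolynomial (Fin n) k) := q₁.comap (Ideal.Quotient.mk _) with hQ
  haveI hQp : Q.IsPrime := Ideal.comap_isPrime _ _
  have hgQ : g ∉ Q := fun h => hgq₁ h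
  have hfQ : Ideal.span (Set.range f) ≤ Q := by
    intro a ha
    rw [hQ, Ideal.mem_comap, Ideal.Quotient.eq_zero_iff_mem.mpr ha]
    exact Ideal.zero_mem _
  have h2 := Groth.Agent.Lib.Helper28.height_comap_eq_height_add_height_map
    (Ideal.span (Set.range f)) q₁
  have h3 := hht Q hgQ hfQ
  have h4 : Q.height ≤ n := height_le_of_prime Q
  rw [← h1]
  calc (c : ℕ∞) + q₁.height ≤ ((Ideal.span (Set.range f)).map
        (algebraMap _ (Localization.AtPrime Q))).height + q₁.height := by gcongr
    _ = Q.height := by rw [h2, add_comm]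
    _ ≤ n := h4

/-- `(k[x]/(f))_g` is a global complete intersection when `(f)` has height `≥ c` at all primes of
`D(g)`. -/
theorem isGlobalCI_away
    (hht : ∀ (Q : Ideal (MvPolynomial (Fin n) k)) [Q.IsPrime], g ∉ Q →
      Ideal.span (Set.range f) ≤ Q → (c : ℕ∞) ≤
        ((Ideal.span (Set.range f)).map (algebraMap _ (Localization.AtPrime Q))).height) :
    Synt.IsGlobalCI k S₂ := by
  by_cases hsub : Subsingleton S₂
  · exact Or.inl hsub
  right
  rw [not_subsingleton_iff_nontrivial] at hsub
  haveI := cm_mvPolynomial k (n + 1)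
  let P := pres f g
  let φ : MvPolynomial (Fin (n + 1)) k →ₐ[k] S₂ := MvPolynomial.aeval P.val
  have hφalg : (algebraMap P.Ring S₂) = φ.toRingHom := by
    rw [P.algebraMap_eq]; rfl
  have hφ : Function.Surjective φ := by
    have := P.algebraMap_surjective
    rw [hφalg] at this
    exact this
  have hker : RingHom.ker φ.toRingHom = Ideal.span (Set.range P.relation) := by
    rw [P.span_range_relation_eq_ker, ← hφalg]
    rfl
  -- upper bound
  obtain ⟨q₀, hq₀⟩ := Ideal.exists_maximal S₂
  haveI := hq₀.isPrime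
  have hcn : c ≤ n := by
    have := height_add_le_of_prime f g hht q₀
    have h2 : (c : ℕ∞) ≤ n := le_trans le_self_add this
    exact_mod_cast h2
  have hub : ringKrullDim S₂ ≤ ((n - c : ℕ) : WithBot ℕ∞) := by
    rw [ringKrullDim_le_iff_isMaximal_height_le]
    intro m hm
    haveI := hm.isPrime
    have h1 := height_add_le_of_prime f g hht m
    have hfin : m.height ≠ ⊤ := by
      intro h
      rw [h] at h1
      simp at h1
    obtain ⟨x, hx⟩ := ENat.ne_top_iff_exists.mp hfin
    rw [← hx] at h1 ⊢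
    have h2 : c + x ≤ n := by exact_mod_cast h1
    have h3 : x ≤ n - c := by omega
    change ((x : ℕ∞) : WithBot ℕ∞) ≤ (((n - c : ℕ) : ℕ∞) : WithBot ℕ∞)
    exact WithBot.coe_le_coe.mpr (by exact_mod_cast h3)
  -- lower bound
  have hKtop : RingHom.ker φ.toRingHom ≠ ⊤ := RingHom.ker_ne_top _
  let e : (MvPolynomial (Fin (n + 1)) k ⧸ RingHom.ker φ.toRingHom) ≃+* S₂ :=
    RingHom.quotientKerEquivOfSurjective (f := φ.toRingHom) hφ
  have h1 := Groth.Agent.Lib.Helper28.height_add_ringKrullDim_quotient_eq_of_forall_isMaximal_height_eq'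
    (n + 1) (Groth.Agent.Lib.Helper28.height_eq_of_isMaximal_mvPolynomial_fin k (n + 1)) _ hKtop
  rw [ringKrullDim_eq_of_ringEquiv e] at h1
  have hhtK : (RingHom.ker φ.toRingHom).height ≤ ((c + 1 : ℕ) : ℕ∞) := by
    have h2 : RingHom.ker φ.toRingHom = Ideal.ofList (List.ofFn P.relation) := by
      rw [hker, ofList_ofFn_eq_span_range']
    have h3 := Groth.Agent.Lib.Helper28.height_ofList_le_length (List.ofFn P.relation)
      (by rw [← h2]; exact hKtop)
    rw [← h2, List.length_ofFn] at h3
    exact h3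
  have hnb : ringKrullDim S₂ ≠ ⊥ := by
    have : 0 ≤ ringKrullDim S₂ := ringKrullDim_nonneg_of_nontrivial
    intro hb
    rw [hb] at this
    simp at this
  obtain ⟨x, hx⟩ := WithBot.ne_bot_iff_exists.mp hnb
  rw [← hx] at h1 hub ⊢
  have hx1 : x ≤ ((n - c : ℕ) : ℕ∞) := by
    change ((x : ℕ∞) : WithBot ℕ∞) ≤ (((n - c : ℕ) : ℕ∞) : WithBot ℕ∞) at hub
    exact WithBot.coe_le_coe.mp hub
  have hxfin : x ≠ ⊤ := ne_top_of_le_ne_top (ENat.natCast_ne_top _) hx1
  obtain ⟨x', rfl⟩ := ENat.ne_top_iff_exists.mp hxfin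
  have hKfin : (RingHom.ker φ.toRingHom).height ≠ ⊤ :=
    ne_top_of_le_ne_top (ENat.natCast_ne_top _) hhtK
  obtain ⟨h', hh'⟩ := ENat.ne_top_iff_exists.mp hKfin
  rw [← hh'] at h1 hhtK
  have h5 : h' + x' = n + 1 := by
    have : ((h' + x' : ℕ) : WithBot ℕ∞) = ((n + 1 : ℕ) : WithBot ℕ∞) := by
      push_cast
      exact h1
    exact_mod_cast this
  have h6 : h' ≤ c + 1 := by exact_mod_cast hhtK
  have h7 : x' ≤ n - c := by exact_mod_cast hx1
  refine ⟨n + 1, c + 1, by omega, φ, P.relation, hφ, hker, ?_⟩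
  have : x' = n + 1 - (c + 1) := by omega
  rw [this]
  rfl

end Away

section Transport

theorem isGlobalCI_of_algEquiv {k S S' : Type u} [Field k] [CommRing S] [CommRing S']
    [Algebra k S] [Algebra k S'] (e : S ≃ₐ[k] S') (h : Synt.IsGlobalCI k S) :
    Synt.IsGlobalCI k S' := by
  rcases h with hs | ⟨n, c, hcn, φ, r, hφ, hker, hdim⟩
  · exact Or.inl e.symm.toEquiv.subsingleton
  · refine Or.inr ⟨n, c, hcn, e.toAlgHom.comp φ, r, e.surjective.comp hφ, ?_, ?_⟩
    · rw [← hker]
      ext x
      simp only [RingHom.mem_ker]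
      change e (φ x) = 0 ↔ φ x = 0
      exact map_eq_zero_iff e e.injective
    · rw [← ringKrullDim_eq_of_ringEquiv e.toRingEquiv, hdim]

variable {k : Type u} [CommRing k] {R : Type u} [CommRing R] [Algebra k R]

/-- `(R/J)_g ≃ (R/I)_g` when `J ≤ I` and `g I ⊆ J`. -/
theorem exists_algEquiv_away (J I : Ideal R) (hJI : J ≤ I) (g : R)
    (hg : ∀ a ∈ I, g * a ∈ J) :
    Nonempty (Localization.Away (Ideal.Quotient.mk J g) ≃ₐ[k]
      Localization.Away (Ideal.Quotient.mk I g)) := by
  let h : (R ⧸ J) →ₐ[k] Localization.Away (Ideal.Quotient.mk I g) :=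
    (IsScalarTower.toAlgHom k (R ⧸ I) (Localization.Away (Ideal.Quotient.mk I g))).comp
      (Ideal.Quotient.factorₐ k hJI)
  have hh : ∀ a : R, h (Ideal.Quotient.mk J a) =
      algebraMap (R ⧸ I) (Localization.Away (Ideal.Quotient.mk I g)) (Ideal.Quotient.mk I a) :=
    fun a => rfl
  have hunits : ∀ y : Submonoid.powers (Ideal.Quotient.mk J g), IsUnit (h y) := by
    rintro ⟨_, m, rfl⟩
    simp only [map_pow, hh]
    exact (IsLocalization.map_units (Localization.Away (Ideal.Quotient.mk I g))
      (⟨Ideal.Quotient.mk I g, 1, pow_one _⟩ : Submonoid.powers (Ideal.Quotient.mk I g))).pow m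
  let ψ : Localization.Away (Ideal.Quotient.mk J g) →ₐ[k]
      Localization.Away (Ideal.Quotient.mk I g) :=
    IsLocalization.liftAlgHom (M := Submonoid.powers (Ideal.Quotient.mk J g)) (f := h) hunits
  have hψ : (ψ : Localization.Away (Ideal.Quotient.mk J g) → _) =
      IsLocalization.lift (M := Submonoid.powers (Ideal.Quotient.mk J g)) (g := h.toRingHom)
        hunits := rfl
  have hinj : Function.Injective ψ := by
    rw [hψ, IsLocalization.lift_injective_iff]
    intro x y
    constructor
    · intro hxy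
      have := congrArg ψ hxy
      simpa [ψ] using this
    · intro hxy
      obtain ⟨a, rfl⟩ := Ideal.Quotient.mk_surjective x
      obtain ⟨b, rfl⟩ := Ideal.Quotient.mk_surjective y
      change h (Ideal.Quotient.mk J a) = h (Ideal.Quotient.mk J b) at hxy
      rw [hh, hh, IsLocalization.eq_iff_exists (Submonoid.powers (Ideal.Quotient.mk I g))] at hxy
      obtain ⟨⟨_, m, rfl⟩, hm⟩ := hxy
      simp only at hm
      rw [IsLocalization.eq_iff_exists (Submonoid.powers (Ideal.Quotient.mk J g))]
      refine ⟨⟨_, m + 1, rfl⟩, ?_⟩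
      simp only
      rw [← map_pow, ← map_mul, ← map_mul, Ideal.Quotient.eq] at hm ⊢
      have h1 := hg _ hm
      have h2 : g ^ (m + 1) * a - g ^ (m + 1) * b = g * (g ^ m * a - g ^ m * b) := by ring
      rw [h2]
      exact h1
  have hsurj : Function.Surjective ψ := by
    rw [hψ, IsLocalization.lift_surjective_iff]
    intro v
    obtain ⟨⟨s, ⟨_, m, rfl⟩⟩, hs⟩ :=
      IsLocalization.surj (Submonoid.powers (Ideal.Quotient.mk I g)) v
    obtain ⟨a, rfl⟩ := Ideal.Quotient.mk_surjective s
    refine ⟨(Ideal.Quotient.mk J a, ⟨_, m, rfl⟩), ?_⟩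
    simp only at hs ⊢
    change v * h ((Ideal.Quotient.mk J g) ^ m) = h (Ideal.Quotient.mk J a)
    rw [← map_pow, hh, hh, map_pow]
    exact hs
  exact ⟨AlgEquiv.ofBijective ψ ⟨hinj, hsurj⟩⟩

end Transport

section LocSurj

/-- `T_p ≃ A_Q / (ker φ) A_Q` for a surjection `φ : A → T` and `Q = φ⁻¹ p`. -/
noncomputable def locSurjEquiv {A T : Type u} [CommRing A] [CommRing T] (φ : A →+* T)
    (hφ : Function.Surjective φ) (p : Ideal T) [p.IsPrime] :
    Localization.AtPrime p ≃+* Localization.AtPrime (p.comap φ) ⧸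
      (RingHom.ker φ).map (algebraMap A (Localization.AtPrime (p.comap φ))) := by
  have hT : Submonoid.map φ (p.comap φ).primeCompl = p.primeCompl := by
    ext y
    constructor
    · rintro ⟨x, hx, rfl⟩
      exact hx
    · intro hy
      obtain ⟨x, rfl⟩ := hφ y
      exact ⟨x, hy, rfl⟩
  have hker := IsLocalization.ker_map (S := Localization.AtPrime (p.comap φ))
    (Localization.AtPrime p) φ hT
  have hsurj : Function.Surjective (IsLocalization.map (Localization.AtPrime p) φ
      (hT.symm ▸ (p.comap φ).primeCompl.le_comap_map) :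
        Localization.AtPrime (p.comap φ) →+* Localization.AtPrime p) := by
    haveI : IsLocalization (Submonoid.map φ (p.comap φ).primeCompl) (Localization.AtPrime p) := by
      rw [hT]; infer_instance
    exact IsLocalization.map_surjective_of_surjective (p.comap φ).primeCompl
      (Localization.AtPrime (p.comap φ)) (Localization.AtPrime p) hφ
  exact ((Ideal.quotEquivOfEq hker.symm).trans
    (RingHom.quotientKerEquivOfSurjective hsurj)).symm

theorem isCI_atPrime_congr {S : Type u} [CommRing S] [IsNoetherianRing S] (p p' : Ideal S)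
    [p.IsPrime] [p'.IsPrime] (h : p = p')
    (hCI : Pi1.IsCompleteIntersection (Localization.AtPrime p)) :
    Pi1.IsCompleteIntersection (Localization.AtPrime p') := by
  subst h
  exact hCI

/-- a localization of a global complete intersection at a prime is a complete intersection -/
theorem isCI_localization_of_isGlobalCI (k T : Type u) [Field k] [CommRing T] [Algebra k T]
    (h : Synt.IsGlobalCI k T) (p : Ideal T) [hp : p.IsPrime] :
    Pi1.IsCompleteIntersection (Localization.AtPrime p) := by
  rcases h with hs | ⟨n, c, hcn, φ, r, hφ, hker, hdim⟩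
  · exact absurd hp.ne_top (by rw [Ne, not_not]; exact Subsingleton.elim _ _)
  · haveI hS : LocCoh.IsCohenMacaulayRing (MvPolynomial (Fin n) k) := cm_mvPolynomial k n
    have hnt : Nontrivial T := ⟨⟨0, 1, fun h => hp.ne_top ((Ideal.eq_top_iff_one p).mpr
      (h ▸ p.zero_mem))⟩⟩
    set xs : List (MvPolynomial (Fin n) k) := List.ofFn r with hxs
    have hof : RingHom.ker φ.toRingHom = Ideal.ofList xs := by
      rw [hker, hxs, ofList_ofFn_eq_span_range']
    have hlen : xs.length = c := by simp [hxs]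
    have hKtop : RingHom.ker φ.toRingHom ≠ ⊤ := RingHom.ker_ne_top _
    let e : (MvPolynomial (Fin n) k ⧸ RingHom.ker φ.toRingHom) ≃+* T :=
      RingHom.quotientKerEquivOfSurjective (f := φ.toRingHom) hφ
    have h1 := Groth.Agent.Lib.Helper28.height_add_ringKrullDim_quotient_eq_of_forall_isMaximal_height_eq' n
      (Groth.Agent.Lib.Helper28.height_eq_of_isMaximal_mvPolynomial_fin k n) _ hKtop
    rw [ringKrullDim_eq_of_ringEquiv e, hdim] at h1
    have h2 : (RingHom.ker φ.toRingHom).height + ((n - c : ℕ) : ℕ∞) = (n : ℕ∞) := by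
      have : (((RingHom.ker φ.toRingHom).height + ((n - c : ℕ) : ℕ∞) : ℕ∞) : WithBot ℕ∞) =
          ((n : ℕ∞) : WithBot ℕ∞) := by
        rw [WithBot.coe_add]; exact h1
      exact WithBot.coe_injective this
    have h3 : (xs.length : ℕ∞) ≤ (Ideal.ofList xs).height := by
      rw [hlen, ← hof]
      have h4 : ((c : ℕ∞) + ((n - c : ℕ) : ℕ∞)) = (n : ℕ∞) := by
        have : c + (n - c) = n := by omega
        exact_mod_cast this
      rw [← h4] at h2
      exact le_of_eq ((ENat.add_left_injective_of_ne_top (ENat.natCast_ne_top (n - c))) h2).symm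
    set Q : Ideal (MvPolynomial (Fin n) k) := p.comap φ.toRingHom with hQ
    haveI hQp : Q.IsPrime := Ideal.comap_isPrime _ _
    have hle : Ideal.ofList xs ≤ Q := by
      rw [← hof]
      intro a ha
      rw [hQ, Ideal.mem_comap, RingHom.mem_ker.mp ha]
      exact Ideal.zero_mem _
    have hreg := Groth.Agent.Lib.Helper28.isRegular_map_localization_of_length_le_height xs h3 Q hle
    let e1 := locSurjEquiv φ.toRingHom hφ p
    have heq : (RingHom.ker φ.toRingHom).map (algebraMap _ (Localization.AtPrime Q)) =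
        Ideal.ofList (xs.map (algebraMap _ (Localization.AtPrime Q))) := by
      rw [hof, Ideal.map_ofList]
    let e2 := e1.trans (Ideal.quotEquivOfEq heq)
    haveI : IsRegularRing (MvPolynomial (Fin n) k) := inferInstance
    haveI : IsRegularLocalRing (Localization.AtPrime Q) :=
      IsRegularRing.isRegularLocalRing_localization _
    haveI : IsLocalRing (Localization.AtPrime Q ⧸
        Ideal.ofList (xs.map (algebraMap _ (Localization.AtPrime Q)))) := e2.isLocalRing
    exact isCI_of_ringEquiv e2.symm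
      (Groth.Agent.S2165.isCompleteIntersection_quotient_ofList _ hreg)

/-- a prime of `S` not containing `g` has the same local ring as its extension to `S_g` -/
theorem isCI_atPrime_of_away {S : Type u} [CommRing S] [IsNoetherianRing S] (g : S)
    (q : Ideal S) [hq : q.IsPrime] (hg : g ∉ q)
    (h : ∀ (p : Ideal (Localization.Away g)) [p.IsPrime],
      Pi1.IsCompleteIntersection (Localization.AtPrime p)) :
    Pi1.IsCompleteIntersection (Localization.AtPrime q) := by
  have hdisj : Disjoint (Submonoid.powers g : Set S) (q : Set S) := by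
    rw [Set.disjoint_left]
    rintro _ ⟨m, rfl⟩ hm
    exact hg (hq.mem_of_pow_mem m hm)
  set p : Ideal (Localization.Away g) := q.map (algebraMap S (Localization.Away g)) with hp
  haveI hpp : p.IsPrime :=
    IsLocalization.isPrime_of_isPrime_disjoint (Submonoid.powers g) _ q hq hdisj
  have hc : p.comap (algebraMap S (Localization.Away g)) = q :=
    IsLocalization.under_map_of_isPrime_disjoint (Submonoid.powers g) _ hq hdisj
  have e := IsLocalization.localizationLocalizationAtPrimeIsoLocalization (Submonoid.powers g) p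
  have h1 : Pi1.IsCompleteIntersection
      (Localization.AtPrime (p.comap (algebraMap S (Localization.Away g)))) :=
    isCI_of_ringEquiv e.symm.toRingEquiv (h p)
  exact isCI_atPrime_congr _ _ hc h1

end LocSurj

section Main

variable (k : Type u) [Field k] (n : ℕ) (I : Ideal (MvPolynomial (Fin n) k))
  (q : Ideal (MvPolynomial (Fin n) k ⧸ I)) [q.IsPrime]

local notation "PP" => q.comap (Ideal.Quotient.mk I)
local notation "RP" => Localization.AtPrime (q.comap (Ideal.Quotient.mk I))
local notation "IP" => I.map (algebraMap (MvPolynomial (Fin n) k)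
  (Localization.AtPrime (q.comap (Ideal.Quotient.mk I))))

theorem height_map_eq (c : ℕ) (hc : (c : ℕ∞) + q.height = (PP).height) :
    (IP).height = c := by
  haveI := cm_mvPolynomial k n
  have h1 := Groth.Agent.Lib.Helper28.height_comap_eq_height_add_height_map I q
  rw [← hc, add_comm] at h1
  have hfin : q.height ≠ ⊤ := Ideal.height_ne_top (Ideal.IsPrime.ne_top ‹_›)
  exact ((ENat.add_right_injective_of_ne_top hfin) h1).symm

instance : IsRegularLocalRing RP := by
  haveI : IsRegularRing (MvPolynomial (Fin n) k) := inferInstance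
  exact IsRegularRing.isRegularLocalRing_localization _

/-- (5) ⟹ (1) -/
theorem exists_away_of_isRegular (rs : List RP) (hreg : RingTheory.Sequence.IsRegular RP rs)
    (hrs : Ideal.ofList rs = IP) :
    ∃ g : MvPolynomial (Fin n) k, g ∉ PP ∧
      Synt.IsGlobalCI k (Localization.Away (Ideal.Quotient.mk I g)) := by
  haveI : IsRegularRing (MvPolynomial (Fin n) k) := inferInstance
  obtain ⟨x, g, hxI, hgP, hg, hht⟩ := exists_basic_regular I PP rs hrs hreg
  have hJI : Ideal.span (Set.range x) ≤ I := by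
    rw [Ideal.span_le]; rintro _ ⟨i, rfl⟩; exact hxI i
  have h1 := isGlobalCI_away x g hht
  obtain ⟨e⟩ := exists_algEquiv_away (k := k) (Ideal.span (Set.range x)) I hJI g hg
  exact ⟨g, hgP, isGlobalCI_of_algEquiv e h1⟩

/-- (1) ⟹ (5) -/
theorem exists_isRegular_of_away (g : MvPolynomial (Fin n) k ⧸ I) (hg : g ∉ q)
    (h : Synt.IsGlobalCI k (Localization.Away g)) :
    ∃ rs : List RP, RingTheory.Sequence.IsRegular RP rs ∧ Ideal.ofList rs = IP := by
  have h1 : Pi1.IsCompleteIntersection (Localization.AtPrime q) :=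
    isCI_atPrime_of_away g q hg (fun p _ => isCI_localization_of_isGlobalCI k _ h p)
  let e := locQuotEquiv I q
  haveI : IsLocalRing (RP ⧸ IP) := e.isLocalRing
  have h2 : Pi1.IsCompleteIntersection (RP ⧸ IP) := isCI_of_ringEquiv e h1
  obtain ⟨rs, hrs, hreg⟩ := exists_isRegular_of_isCompleteIntersection_quotient (IP)
    (map_ne_top I q) h2
  exact ⟨rs, hreg, hrs⟩

/-- (5) ⟹ (2) -/
theorem exists_finset_of_isRegular (c : ℕ) (hc : (c : ℕ∞) + q.height = (PP).height)
    (rs : List RP) (hreg : RingTheory.Sequence.IsRegular RP rs)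
    (hrs : Ideal.ofList rs = IP) :
    ∃ s : Finset RP, s.card = c ∧ Ideal.span (s : Set RP) = IP := by
  have hlen : rs.length = c := by
    have h1 := height_ofList_of_isRegular rs hreg
    rw [hrs, height_map_eq k n I q c hc] at h1
    exact_mod_cast h1.symm
  have hfr := spanFinrank_ofList_of_isRegular rs hreg
  rw [hrs, hlen] at hfr
  have hfg : Submodule.FG (IP) := IsNoetherian.noetherian _
  have hfin := Submodule.FG.finite_generators hfg
  refine ⟨hfin.toFinset, ?_, ?_⟩
  · rw [← Set.ncard_eq_toFinset_card _ hfin, Submodule.FG.generators_ncard hfg]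
    exact hfr
  · rw [Set.Finite.coe_toFinset]
    exact Submodule.span_generators _

/-- (2) ⟹ (5) -/
theorem exists_isRegular_of_finset (c : ℕ) (hc : (c : ℕ∞) + q.height = (PP).height)
    (s : Finset RP) (hs : s.card = c) (hspan : Ideal.span (s : Set RP) = IP) :
    ∃ rs : List RP, RingTheory.Sequence.IsRegular RP rs ∧ Ideal.ofList rs = IP := by
  haveI hCM : LocCoh.IsCohenMacaulayLocalRing RP := isCohenMacaulayLocalRing_of_isRegularLocalRing _
  have hof : Ideal.ofList s.toList = IP := by
    rw [← hspan]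
    unfold Ideal.ofList
    congr 1
    ext y
    simp
  have hle : IP ≤ maximalIdeal RP := IsLocalRing.le_maximalIdeal (map_ne_top I q)
  have hmem : ∀ y ∈ s.toList, y ∈ maximalIdeal RP := by
    intro y hy
    apply hle
    rw [← hof]
    exact Ideal.subset_span hy
  obtain ⟨hw, -, -⟩ := Groth.Agent.Lib.Helper28.isWeaklyRegular_of_length_le_height s.toList hmem
    (by rw [hof, height_map_eq k n I q c hc, Finset.length_toList, hs])
  exact ⟨s.toList,
    (IsLocalRing.isRegular_iff_isWeaklyRegular_of_subset_maximalIdeal hmem).mpr hw, hof⟩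

/-- **S9171** -/
theorem main (c : ℕ) (hc : (c : ℕ∞) + q.height = (PP).height) :
    ((∃ g : MvPolynomial (Fin n) k ⧸ I, g ∉ q ∧ Synt.IsGlobalCI k (Localization.Away g)) ↔
        ∃ s : Finset RP, s.card = c ∧ Ideal.span (s : Set RP) = IP) ∧
      ((∃ g : MvPolynomial (Fin n) k ⧸ I, g ∉ q ∧ Synt.IsGlobalCI k (Localization.Away g)) ↔
        ∃ rs : List RP, RingTheory.Sequence.IsRegular RP rs ∧ Ideal.ofList rs = IP) := by
  have h15 : (∃ g : MvPolynomial (Fin n) k ⧸ I, g ∉ q ∧ Synt.IsGlobalCI k (Localization.Away g)) ↔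
      ∃ rs : List RP, RingTheory.Sequence.IsRegular RP rs ∧ Ideal.ofList rs = IP := by
    constructor
    · rintro ⟨g, hg, h⟩
      exact exists_isRegular_of_away k n I q g hg h
    · rintro ⟨rs, hreg, hrs⟩
      obtain ⟨g, hgP, h⟩ := exists_away_of_isRegular k n I q rs hreg hrs
      exact ⟨Ideal.Quotient.mk I g, hgP, h⟩
  refine ⟨?_, h15⟩
  rw [h15]
  constructor
  · rintro ⟨rs, hreg, hrs⟩
    exact exists_finset_of_isRegular k n I q c hc rs hreg hrs
  · rintro ⟨s, hs, hspan⟩
    exact exists_isRegular_of_finset k n I q c hc s hs hspan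

end Main

end Groth.Agent.Lib.T2H9.SyntCI
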