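import Mathlib
import Groth.Prelude
import Groth.Agent.Lib.T2H9SyntCI

/-!
# Complete intersections over a field: `k`-algebra plumbing (helper9)

* `locSurjAlgEquiv`: `A_Q / (ker φ) A_Q ≃ₐ[k] T_p` for a surjection `φ : A →ₐ[k] T`.
* `isCIOver_of_algEquiv`, `isCI_of_isCIOver`.
* `isCIOver_localization_of_isGlobalCI`, `isCIOver_atPrime_of_away`.
* `exists_away_isGlobalCI_of_isCI`.
-/

set_option autoImplicit false
set_option linter.unusedSectionVars false
set_option linter.style.haveILetI false
universe u

namespace Groth.Agent.Lib.T2H9.SyntCI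

open IsLocalRing Groth.Agent.Lib.Helper5 Groth.Agent.Lib.Helper5.DirLimReg
  Groth.Agent.Lib.T2H9.GeomDepthCI Groth.Agent.Lib.T2H9.CILocus

section LocSurjAlg

variable {k : Type u} [CommRing k] {A T : Type u} [CommRing A] [CommRing T] [Algebra k A]
  [Algebra k T]

/-- the map `A_Q → T_p` induced by `φ : A →ₐ[k] T`, `Q = φ⁻¹ p`. -/
noncomputable def locSurjAlgHom (φ : A →ₐ[k] T) (p : Ideal T) [p.IsPrime] :
    Localization.AtPrime (p.comap φ.toRingHom) →ₐ[k] Localization.AtPrime p :=
  IsLocalization.liftAlgHom (M := (p.comap φ.toRingHom).primeCompl)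
    (f := (IsScalarTower.toAlgHom k T (Localization.AtPrime p)).comp φ)
    (fun y => IsLocalization.map_units (Localization.AtPrime p)
      (⟨φ y, y.2⟩ : p.primeCompl))

theorem map_primeCompl (φ : A →ₐ[k] T) (hφ : Function.Surjective φ) (p : Ideal T) [p.IsPrime] :
    Submonoid.map φ.toRingHom (p.comap φ.toRingHom).primeCompl = p.primeCompl := by
  ext y
  constructor
  · rintro ⟨x, hx, rfl⟩
    exact hx
  · intro hy
    obtain ⟨x, rfl⟩ := hφ y
    exact ⟨x, hy, rfl⟩

theorem locSurjAlgHom_coe (φ : A →ₐ[k] T) (hφ : Function.Surjective φ) (p : Ideal T)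
    [p.IsPrime] :
    (locSurjAlgHom φ p : Localization.AtPrime (p.comap φ.toRingHom) →+* Localization.AtPrime p) =
      IsLocalization.map (Localization.AtPrime p) φ.toRingHom
        ((map_primeCompl φ hφ p).symm ▸ (p.comap φ.toRingHom).primeCompl.le_comap_map) := by
  apply IsLocalization.ringHom_ext (p.comap φ.toRingHom).primeCompl
  ext a
  rw [RingHom.comp_apply, RingHom.comp_apply, IsLocalization.map_eq]
  change (locSurjAlgHom φ p) (algebraMap A _ a) = _
  unfold locSurjAlgHom
  rw [IsLocalization.liftAlgHom_apply, IsLocalization.lift_eq]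
  rfl

theorem locSurjAlgHom_surjective (φ : A →ₐ[k] T) (hφ : Function.Surjective φ) (p : Ideal T)
    [p.IsPrime] : Function.Surjective (locSurjAlgHom φ p) := by
  have h1 : (locSurjAlgHom φ p : Localization.AtPrime (p.comap φ.toRingHom) →
      Localization.AtPrime p) = (locSurjAlgHom φ p : Localization.AtPrime (p.comap φ.toRingHom) →+*
        Localization.AtPrime p) := rfl
  rw [h1, locSurjAlgHom_coe φ hφ p]
  haveI : IsLocalization (Submonoid.map φ.toRingHom (p.comap φ.toRingHom).primeCompl)
      (Localization.AtPrime p) := by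
    rw [map_primeCompl φ hφ p]; infer_instance
  exact IsLocalization.map_surjective_of_surjective (p.comap φ.toRingHom).primeCompl
    (Localization.AtPrime (p.comap φ.toRingHom)) (Localization.AtPrime p) hφ

theorem ker_locSurjAlgHom (φ : A →ₐ[k] T) (hφ : Function.Surjective φ) (p : Ideal T)
    [p.IsPrime] :
    RingHom.ker (locSurjAlgHom φ p) = (RingHom.ker φ.toRingHom).map
      (algebraMap A (Localization.AtPrime (p.comap φ.toRingHom))) := by
  have h1 : RingHom.ker (locSurjAlgHom φ p) = RingHom.ker
      (locSurjAlgHom φ p : Localization.AtPrime (p.comap φ.toRingHom) →+*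
        Localization.AtPrime p) := rfl
  rw [h1, locSurjAlgHom_coe φ hφ p]
  exact IsLocalization.ker_map (S := Localization.AtPrime (p.comap φ.toRingHom))
    (Localization.AtPrime p) φ.toRingHom (map_primeCompl φ hφ p)

/-- `A_Q / (ker φ) A_Q ≃ₐ[k] T_p`. -/
noncomputable def locSurjAlgEquiv (φ : A →ₐ[k] T) (hφ : Function.Surjective φ) (p : Ideal T)
    [p.IsPrime] :
    (Localization.AtPrime (p.comap φ.toRingHom) ⧸ (RingHom.ker φ.toRingHom).map
      (algebraMap A (Localization.AtPrime (p.comap φ.toRingHom)))) ≃ₐ[k] Localization.AtPrime p :=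
  (Ideal.quotientEquivAlgOfEq k (ker_locSurjAlgHom φ hφ p).symm).trans
    (Ideal.quotientKerAlgEquivOfSurjective (locSurjAlgHom_surjective φ hφ p))

end LocSurjAlg

section CIOver

variable {k : Type u} [Field k]

theorem isCIOver_of_algEquiv {S S' : Type u} [CommRing S] [CommRing S'] [IsLocalRing S]
    [IsLocalRing S'] [Algebra k S] [Algebra k S'] (e : S ≃ₐ[k] S') (h : Synt.IsCIOver k S) :
    Synt.IsCIOver k S' := by
  obtain ⟨R, i1, i2, i3, hess, rs, hmem, hreg, ⟨e₀⟩⟩ := h
  exact ⟨R, i1, i2, i3, hess, rs, hmem, hreg, ⟨e.symm.trans e₀⟩⟩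

/-- a complete intersection over `k` is a complete intersection (completion form) -/
theorem isCI_of_isCIOver {S : Type u} [CommRing S] [IsLocalRing S] [Algebra k S]
    (h : Synt.IsCIOver k S) : Pi1.IsCompleteIntersection S := by
  obtain ⟨R, i1, i2, i3, hess, rs, hmem, hreg, ⟨e₀⟩⟩ := h
  haveI : IsLocalRing (R ⧸ Ideal.ofList rs) := e₀.toRingEquiv.isLocalRing
  exact isCI_of_ringEquiv e₀.symm.toRingEquiv
    (Groth.Agent.S2165.isCompleteIntersection_quotient_ofList rs hreg)

/-- the local rings of a global complete intersection over `k` are complete intersections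
over `k` -/
theorem isCIOver_localization_of_isGlobalCI (T : Type u) [CommRing T] [Algebra k T]
    (h : Synt.IsGlobalCI k T) (p : Ideal T) [hp : p.IsPrime] :
    Synt.IsCIOver k (Localization.AtPrime p) := by
  rcases h with hs | ⟨n, c, hcn, φ, r, hφ, hker, hdim⟩
  · exact absurd hp.ne_top (by rw [Ne, not_not]; exact Subsingleton.elim _ _)
  · haveI hS : LocCoh.IsCohenMacaulayRing (MvPolynomial (Fin n) k) := cm_mvPolynomial k n
    have hnt : Nontrivial T := ⟨⟨0, 1, fun h => hp.ne_top ((Ideal.eq_top_iff_one p).mpr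
      (h ▸ p.zero_mem))⟩⟩
    set xs : List (MvPolynomial (Fin n) k) := List.ofFn r with hxs
    have hof : RingHom.ker φ.toRingHom = Ideal.ofList xs := by
      rw [hker, hxs, ofList_ofFn_eq_span_range']
    have hlen : xs.length = c := by simp [hxs]
    have hKtop : RingHom.ker φ.toRingHom ≠ ⊤ := RingHom.ker_ne_top _
    let e : (MvPolynomial (Fin n) k ⧸ RingHom.ker φ.toRingHom) ≃+* T :=
      RingHom.quotientKerEquivOfSurjective (f := φ.toRingHom) hφ
    have h1 := Groth.Agent.Lib.Helper28.height_add_ringKrullDim_quotient_eq_of_forall_isMaximal_height_eq' n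
      (Groth.Agent.Lib.Helper28.height_eq_of_isMaximal_mvPolynomial_fin k n) _ hKtop
    rw [ringKrullDim_eq_of_ringEquiv e, hdim] at h1
    have h2 : (RingHom.ker φ.toRingHom).height + ((n - c : ℕ) : ℕ∞) = (n : ℕ∞) := by
      have : (((RingHom.ker φ.toRingHom).height + ((n - c : ℕ) : ℕ∞) : ℕ∞) : WithBot ℕ∞) =
          ((n : ℕ∞) : WithBot ℕ∞) := by
        rw [WithBot.coe_add]; exact h1
      exact WithBot.coe_injective this
    have h3 : (xs.length : ℕ∞) ≤ (Ideal.ofList xs).height := by
      rw [hlen, ← hof]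
      have h4 : ((c : ℕ∞) + ((n - c : ℕ) : ℕ∞)) = (n : ℕ∞) := by
        have : c + (n - c) = n := by omega
        exact_mod_cast this
      rw [← h4] at h2
      exact le_of_eq ((ENat.add_left_injective_of_ne_top (ENat.natCast_ne_top (n - c))) h2).symm
    set Q : Ideal (MvPolynomial (Fin n) k) := p.comap φ.toRingHom with hQ
    haveI hQp : Q.IsPrime := Ideal.comap_isPrime _ _
    have hle : Ideal.ofList xs ≤ Q := by
      rw [← hof]
      intro a ha
      rw [hQ, Ideal.mem_comap, RingHom.mem_ker.mp ha]
      exact Ideal.zero_mem _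
    have hreg := Groth.Agent.Lib.Helper28.isRegular_map_localization_of_length_le_height xs h3 Q hle
    have heq : (RingHom.ker φ.toRingHom).map (algebraMap _ (Localization.AtPrime Q)) =
        Ideal.ofList (xs.map (algebraMap _ (Localization.AtPrime Q))) := by
      rw [hof, Ideal.map_ofList]
    let e2 := (locSurjAlgEquiv φ hφ p).symm.trans (Ideal.quotientEquivAlgOfEq k heq)
    haveI : IsRegularRing (MvPolynomial (Fin n) k) := inferInstance
    haveI hRL : IsRegularLocalRing (Localization.AtPrime Q) :=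
      IsRegularRing.isRegularLocalRing_localization _
    have hmem : ∀ y ∈ xs.map (algebraMap _ (Localization.AtPrime Q)),
        y ∈ maximalIdeal (Localization.AtPrime Q) := by
      intro y hy
      obtain ⟨a, ha, rfl⟩ := List.mem_map.mp hy
      exact (IsLocalization.AtPrime.to_map_mem_maximal_iff (Localization.AtPrime Q) Q a).mpr
        (hle (Ideal.subset_span ha))
    exact ⟨Localization.AtPrime Q, inferInstance, hRL, inferInstance, inferInstance,
      xs.map (algebraMap _ (Localization.AtPrime Q)), hmem, hreg, ⟨e2⟩⟩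

end CIOver

section LocLoc

variable {k : Type u} [CommRing k] {S : Type u} [CommRing S] [Algebra k S]

theorem nonempty_algEquiv_atPrime_congr (p p' : Ideal S) [p.IsPrime] [p'.IsPrime] (h : p = p') :
    Nonempty (Localization.AtPrime p ≃ₐ[k] Localization.AtPrime p') := by
  subst h
  exact ⟨AlgEquiv.refl⟩

theorem away_disjoint (g : S) (q : Ideal S) [hq : q.IsPrime] (hg : g ∉ q) :
    Disjoint (Submonoid.powers g : Set S) (q : Set S) := by
  rw [Set.disjoint_left]
  rintro _ ⟨m, rfl⟩ hm
  exact hg (hq.mem_of_pow_mem m hm)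

theorem away_map_isPrime (g : S) (q : Ideal S) [hq : q.IsPrime] (hg : g ∉ q) :
    (q.map (algebraMap S (Localization.Away g))).IsPrime :=
  IsLocalization.isPrime_of_isPrime_disjoint (Submonoid.powers g) _ q hq (away_disjoint g q hg)

/-- `S_q ≃ₐ[k] (S_g)_{q S_g}` for `g ∉ q`. -/
theorem nonempty_algEquiv_away_atPrime (g : S) (q : Ideal S) [hq : q.IsPrime] (hg : g ∉ q)
    [hp : (q.map (algebraMap S (Localization.Away g))).IsPrime] :
    Nonempty (Localization.AtPrime q ≃ₐ[k]
      Localization.AtPrime (q.map (algebraMap S (Localization.Away g)))) := by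
  have hc : (q.map (algebraMap S (Localization.Away g))).comap
      (algebraMap S (Localization.Away g)) = q :=
    IsLocalization.under_map_of_isPrime_disjoint (Submonoid.powers g) _ hq (away_disjoint g q hg)
  have e := (IsLocalization.localizationLocalizationAtPrimeIsoLocalization (Submonoid.powers g)
    (q.map (algebraMap S (Localization.Away g)))).restrictScalars k
  obtain ⟨e'⟩ := nonempty_algEquiv_atPrime_congr (k := k) _ _ hc.symm
  exact ⟨e'.trans e⟩

end LocLoc

section Away2

variable {k : Type u} [Field k]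

/-- if `T_h` is a global complete intersection and `h ∉ p`, then `T_p` is a complete
intersection over `k` -/
theorem isCIOver_atPrime_of_away {T : Type u} [CommRing T] [Algebra k T] (h : T)
    (p : Ideal T) [hp : p.IsPrime] (hh : h ∉ p) (hG : Synt.IsGlobalCI k (Localization.Away h)) :
    Synt.IsCIOver k (Localization.AtPrime p) := by
  haveI := away_map_isPrime h p hh
  obtain ⟨e⟩ := nonempty_algEquiv_away_atPrime (k := k) h p hh
  exact isCIOver_of_algEquiv e.symm
    (isCIOver_localization_of_isGlobalCI _ hG (p.map (algebraMap T (Localization.Away h))))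

theorem finiteType_of_isGlobalCI {T : Type u} [CommRing T] [Algebra k T]
    (h : Synt.IsGlobalCI k T) : Algebra.FiniteType k T := by
  rcases h with hs | ⟨n, c, hcn, φ, r, hφ, hker, hdim⟩
  · refine ⟨⟨∅, ?_⟩⟩
    rw [eq_top_iff]
    intro x _
    rw [Subsingleton.elim x 0]
    exact Subalgebra.zero_mem _
  · exact Algebra.FiniteType.of_surjective φ hφ

/-- a global complete intersection is a local complete intersection -/
theorem isLCIOver_of_isGlobalCI {T : Type u} [CommRing T] [Algebra k T]
    (h : Synt.IsGlobalCI k T) : Synt.IsLCIOver k T := by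
  refine ⟨finiteType_of_isGlobalCI h, fun p => ⟨1, ?_, ?_⟩⟩
  · intro h1
    exact p.2.ne_top ((Ideal.eq_top_iff_one _).mpr h1)
  · have e : T ≃ₐ[T] Localization.Away (1 : T) := IsLocalization.atOne T _
    exact isGlobalCI_of_algEquiv (e.restrictScalars k) h

end Away2

section Away3

variable {k : Type u} [CommRing k] {R S : Type u} [CommRing R] [CommRing S] [Algebra k R]
  [Algebra k S]

/-- `(R/J)_g ≃ S_{π g}` when `J ≤ ker π` and `g ker π ⊆ J`, for a surjection `π : R → S`. -/
theorem exists_algEquiv_away' (π : R →ₐ[k] S) (hπ : Function.Surjective π) (J : Ideal R)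
    (hJ : J ≤ RingHom.ker π.toRingHom) (g : R)
    (hg : ∀ a ∈ RingHom.ker π.toRingHom, g * a ∈ J) :
    Nonempty (Localization.Away (Ideal.Quotient.mk J g) ≃ₐ[k] Localization.Away (π g)) := by
  let h : (R ⧸ J) →ₐ[k] Localization.Away (π g) :=
    (IsScalarTower.toAlgHom k S (Localization.Away (π g))).comp
      (Ideal.Quotient.liftₐ J π (fun a ha => hJ ha))
  have hh : ∀ a : R, h (Ideal.Quotient.mk J a) =
      algebraMap S (Localization.Away (π g)) (π a) :=
    fun a => rfl
  have hunits : ∀ y : Submonoid.powers (Ideal.Quotient.mk J g), IsUnit (h y) := by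
    rintro ⟨_, m, rfl⟩
    simp only [map_pow, hh]
    exact (IsLocalization.map_units (Localization.Away (π g))
      (⟨π g, 1, pow_one _⟩ : Submonoid.powers (π g))).pow m
  let ψ : Localization.Away (Ideal.Quotient.mk J g) →ₐ[k] Localization.Away (π g) :=
    IsLocalization.liftAlgHom (M := Submonoid.powers (Ideal.Quotient.mk J g)) (f := h) hunits
  have hψ : (ψ : Localization.Away (Ideal.Quotient.mk J g) → _) =
      IsLocalization.lift (M := Submonoid.powers (Ideal.Quotient.mk J g)) (g := h.toRingHom)
        hunits := rfl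
  have hinj : Function.Injective ψ := by
    rw [hψ, IsLocalization.lift_injective_iff]
    intro x y
    constructor
    · intro hxy
      have := congrArg ψ hxy
      simpa [ψ] using this
    · intro hxy
      obtain ⟨a, rfl⟩ := Ideal.Quotient.mk_surjective x
      obtain ⟨b, rfl⟩ := Ideal.Quotient.mk_surjective y
      change h (Ideal.Quotient.mk J a) = h (Ideal.Quotient.mk J b) at hxy
      rw [hh, hh, IsLocalization.eq_iff_exists (Submonoid.powers (π g))] at hxy
      obtain ⟨⟨_, m, rfl⟩, hm⟩ := hxy
      simp only at hm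
      rw [IsLocalization.eq_iff_exists (Submonoid.powers (Ideal.Quotient.mk J g))]
      refine ⟨⟨_, m + 1, rfl⟩, ?_⟩
      simp only
      rw [← map_pow, ← map_mul, ← map_mul, Ideal.Quotient.eq]
      have hmem : g ^ m * a - g ^ m * b ∈ RingHom.ker π.toRingHom := by
        rw [RingHom.mem_ker]
        change π (g ^ m * a - g ^ m * b) = 0
        rw [map_sub, map_mul, map_mul, map_pow, hm, sub_self]
      have h1 := hg _ hmem
      have h2 : g ^ (m + 1) * a - g ^ (m + 1) * b = g * (g ^ m * a - g ^ m * b) := by ring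
      rw [h2]
      exact h1
  have hsurj : Function.Surjective ψ := by
    rw [hψ, IsLocalization.lift_surjective_iff]
    intro v
    obtain ⟨⟨s, ⟨_, m, rfl⟩⟩, hs⟩ :=
      IsLocalization.surj (Submonoid.powers (π g)) v
    obtain ⟨a, rfl⟩ := hπ s
    refine ⟨(Ideal.Quotient.mk J a, ⟨_, m, rfl⟩), ?_⟩
    simp only at hs ⊢
    change v * h ((Ideal.Quotient.mk J g) ^ m) = h (Ideal.Quotient.mk J a)
    rw [← map_pow, hh, hh, map_pow]
    exact hs
  exact ⟨AlgEquiv.ofBijective ψ ⟨hinj, hsurj⟩⟩

end Away3

section Away4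

variable {k : Type u} [Field k] {S : Type u} [CommRing S] [Algebra k S]

/-- if `S_q` is a complete intersection then `S_g` is a global complete intersection for some
`g ∉ q` (`S` of finite type over `k`, given with a presentation) -/
theorem exists_away_isGlobalCI_of_isCI {n : ℕ} (π : MvPolynomial (Fin n) k →ₐ[k] S)
    (hπ : Function.Surjective π) (q : Ideal S) [q.IsPrime]
    (h : Pi1.IsCompleteIntersection (Localization.AtPrime q)) :
    ∃ g : S, g ∉ q ∧ Synt.IsGlobalCI k (Localization.Away g) := by
  haveI : IsNoetherianRing S := isNoetherianRing_of_surjective _ S π.toRingHom hπ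
  haveI : IsRegularRing (MvPolynomial (Fin n) k) := inferInstance
  set P : Ideal (MvPolynomial (Fin n) k) := q.comap π.toRingHom with hP
  haveI hPp : P.IsPrime := Ideal.comap_isPrime _ _
  haveI : IsRegularLocalRing (Localization.AtPrime P) :=
    IsRegularRing.isRegularLocalRing_localization _
  let e := locSurjEquiv π.toRingHom hπ q
  haveI : IsLocalRing (Localization.AtPrime P ⧸ (RingHom.ker π.toRingHom).map
      (algebraMap _ (Localization.AtPrime P))) := e.isLocalRing
  have h2 : Pi1.IsCompleteIntersection (Localization.AtPrime P ⧸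
      (RingHom.ker π.toRingHom).map (algebraMap _ (Localization.AtPrime P))) :=
    isCI_of_ringEquiv e h
  have hne : (RingHom.ker π.toRingHom).map (algebraMap _ (Localization.AtPrime P)) ≠ ⊤ :=
    Ideal.Quotient.nontrivial_iff.mp inferInstance
  obtain ⟨rs, hrs, hreg⟩ := exists_isRegular_of_isCompleteIntersection_quotient _ hne h2
  obtain ⟨x, g, hxI, hgP, hg, hht⟩ := exists_basic_regular (RingHom.ker π.toRingHom) P rs hrs hreg
  have hJI : Ideal.span (Set.range x) ≤ RingHom.ker π.toRingHom := by
    rw [Ideal.span_le]; rintro _ ⟨i, rfl⟩; exact hxI i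
  have h1 := isGlobalCI_away x g hht
  obtain ⟨e'⟩ := exists_algEquiv_away' π hπ (Ideal.span (Set.range x)) hJI g hg
  exact ⟨π g, hgP, isGlobalCI_of_algEquiv e' h1⟩

end Away4

section S9144

variable (k S : Type u) [Field k] [CommRing S] [Algebra k S] [Algebra.FiniteType k S]

theorem exists_away_isGlobalCI_of_isCIOver (q : Ideal S) [q.IsPrime]
    (h : Synt.IsCIOver k (Localization.AtPrime q)) :
    ∃ g : S, g ∉ q ∧ Synt.IsGlobalCI k (Localization.Away g) := by
  obtain ⟨n, π, hπ⟩ := Algebra.FiniteType.iff_quotient_mvPolynomial''.mp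
    (inferInstance : Algebra.FiniteType k S)
  exact exists_away_isGlobalCI_of_isCI π hπ q (isCI_of_isCIOver h)

theorem isCIOver_of_exists_away_isLCIOver (q : Ideal S) [q.IsPrime]
    (h : ∃ g : S, g ∉ q ∧ Synt.IsLCIOver k (Localization.Away g)) :
    Synt.IsCIOver k (Localization.AtPrime q) := by
  obtain ⟨g, hg, -, hL⟩ := h
  haveI hp := away_map_isPrime g q hg
  obtain ⟨h', hh', hG⟩ := hL ⟨q.map (algebraMap S (Localization.Away g)), hp⟩
  have h1 := isCIOver_atPrime_of_away h' (q.map (algebraMap S (Localization.Away g))) hh' hG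
  obtain ⟨e⟩ := nonempty_algEquiv_away_atPrime (k := k) g q hg
  exact isCIOver_of_algEquiv e.symm h1

/-- **S9144** -/
theorem main_S9144 (q : Ideal S) [q.IsPrime] :
    (Synt.IsCIOver k (Localization.AtPrime q) ↔
        ∃ g : S, g ∉ q ∧ Synt.IsLCIOver k (Localization.Away g)) ∧
      (Synt.IsCIOver k (Localization.AtPrime q) ↔
        ∃ g : S, g ∉ q ∧ Synt.IsGlobalCI k (Localization.Away g)) := by
  have h12 : Synt.IsCIOver k (Localization.AtPrime q) →
      ∃ g : S, g ∉ q ∧ Synt.IsGlobalCI k (Localization.Away g) :=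
    exists_away_isGlobalCI_of_isCIOver k S q
  have h23 : (∃ g : S, g ∉ q ∧ Synt.IsGlobalCI k (Localization.Away g)) →
      ∃ g : S, g ∉ q ∧ Synt.IsLCIOver k (Localization.Away g) := by
    rintro ⟨g, hg, hG⟩
    exact ⟨g, hg, isLCIOver_of_isGlobalCI hG⟩
  have h31 := isCIOver_of_exists_away_isLCIOver k S q
  exact ⟨⟨fun h => h23 (h12 h), h31⟩, ⟨h12, fun h => h31 (h23 h)⟩⟩

/-- **S9145** -/
theorem main_S9145 :
    (Synt.IsLCIOver k S ↔
        ∀ p : PrimeSpectrum S, Synt.IsCIOver k (Localization.AtPrime p.asIdeal)) ∧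
      (Synt.IsLCIOver k S ↔
        ∀ m : MaximalSpectrum S, Synt.IsCIOver k (Localization.AtPrime m.asIdeal)) := by
  have h12 : Synt.IsLCIOver k S →
      ∀ p : PrimeSpectrum S, Synt.IsCIOver k (Localization.AtPrime p.asIdeal) := by
    rintro ⟨-, hL⟩ p
    obtain ⟨g, hg, hG⟩ := hL p
    exact isCIOver_atPrime_of_away g p.asIdeal hg hG
  have h23 : (∀ p : PrimeSpectrum S, Synt.IsCIOver k (Localization.AtPrime p.asIdeal)) →
      ∀ m : MaximalSpectrum S, Synt.IsCIOver k (Localization.AtPrime m.asIdeal) :=
    fun h m => h ⟨m.asIdeal, m.isMaximal.isPrime⟩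
  have h31 : (∀ m : MaximalSpectrum S, Synt.IsCIOver k (Localization.AtPrime m.asIdeal)) →
      Synt.IsLCIOver k S := by
    intro h
    refine ⟨inferInstance, fun p => ?_⟩
    obtain ⟨m, hm, hpm⟩ := p.asIdeal.exists_le_maximal p.2.ne_top
    haveI := hm.isPrime
    obtain ⟨g, hg, hG⟩ := exists_away_isGlobalCI_of_isCIOver k S m (h ⟨m, hm⟩)
    exact ⟨g, fun hgp => hg (hpm hgp), hG⟩
  exact ⟨⟨h12, fun h => h31 (h23 h)⟩, ⟨fun h => h23 (h12 h), h31⟩⟩

end S9144

section S9141

variable {k : Type u} [Field k]

/-- in a global complete intersection presentation the ideal of relations has height `≥ c` -/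
theorem le_height_of_isGlobalCI_data {T : Type u} [CommRing T] [Algebra k T] [Nontrivial T]
    {n c : ℕ} (hcn : c ≤ n) (φ : MvPolynomial (Fin n) k →ₐ[k] T) (hφ : Function.Surjective φ)
    (hdim : ringKrullDim T = ((n - c : ℕ) : WithBot ℕ∞)) :
    (c : ℕ∞) ≤ (RingHom.ker φ.toRingHom).height := by
  haveI hS : LocCoh.IsCohenMacaulayRing (MvPolynomial (Fin n) k) := cm_mvPolynomial k n
  have hKtop : RingHom.ker φ.toRingHom ≠ ⊤ := RingHom.ker_ne_top _
  let e : (MvPolynomial (Fin n) k ⧸ RingHom.ker φ.toRingHom) ≃+* T :=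
    RingHom.quotientKerEquivOfSurjective (f := φ.toRingHom) hφ
  have h1 := Groth.Agent.Lib.Helper28.height_add_ringKrullDim_quotient_eq_of_forall_isMaximal_height_eq' n
    (Groth.Agent.Lib.Helper28.height_eq_of_isMaximal_mvPolynomial_fin k n) _ hKtop
  rw [ringKrullDim_eq_of_ringEquiv e, hdim] at h1
  have h2 : (RingHom.ker φ.toRingHom).height + ((n - c : ℕ) : ℕ∞) = (n : ℕ∞) := by
    have : (((RingHom.ker φ.toRingHom).height + ((n - c : ℕ) : ℕ∞) : ℕ∞) : WithBot ℕ∞) =
        ((n : ℕ∞) : WithBot ℕ∞) := by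
      rw [WithBot.coe_add]; exact h1
    exact WithBot.coe_injective this
  have h4 : ((c : ℕ∞) + ((n - c : ℕ) : ℕ∞)) = (n : ℕ∞) := by
    have : c + (n - c) = n := by omega
    exact_mod_cast this
  rw [← h4] at h2
  exact le_of_eq ((ENat.add_left_injective_of_ne_top (ENat.natCast_ne_top (n - c))) h2).symm

/-- a basic open of a global complete intersection is a global complete intersection -/
theorem isGlobalCI_away_of_isGlobalCI {T : Type u} [CommRing T] [Algebra k T]
    (h : Synt.IsGlobalCI k T) (g : T) : Synt.IsGlobalCI k (Localization.Away g) := by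
  rcases h with hs | ⟨n, c, hcn, φ, r, hφ, hker, hdim⟩
  · left
    refine subsingleton_of_zero_eq_one ?_
    rw [← map_zero (algebraMap T (Localization.Away g)), ← map_one (algebraMap T _),
      Subsingleton.elim (0 : T) 1]
  · have hnt : Nontrivial T := by
      by_contra hnot
      rw [not_nontrivial_iff_subsingleton] at hnot
      rw [ringKrullDim_eq_bot_of_subsingleton] at hdim
      exact absurd hdim (by simp)
    obtain ⟨g₀, rfl⟩ := hφ g
    have hht0 := le_height_of_isGlobalCI_data hcn φ hφ hdim
    rw [hker] at hht0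
    have hht : ∀ (Q : Ideal (MvPolynomial (Fin n) k)) [Q.IsPrime], g₀ ∉ Q →
        Ideal.span (Set.range r) ≤ Q → (c : ℕ∞) ≤
          ((Ideal.span (Set.range r)).map (algebraMap _ (Localization.AtPrime Q))).height := by
      intro Q _ _ _
      rw [← IsLocalization.height_under Q.primeCompl]
      exact le_trans hht0 (Ideal.height_mono Ideal.le_comap_map)
    have h1 := isGlobalCI_away r g₀ hht
    obtain ⟨e'⟩ := exists_algEquiv_away' φ hφ (Ideal.span (Set.range r)) (le_of_eq hker.symm) g₀
      (fun a ha => Ideal.mul_mem_left _ _ (hker ▸ ha))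
    exact isGlobalCI_of_algEquiv e' h1

/-- `(S_g)_h ≃ (S_h)_g` -/
theorem nonempty_algEquiv_away_away {S : Type u} [CommRing S] [Algebra k S] (g h : S) :
    Nonempty (Localization.Away (algebraMap S (Localization.Away g) h) ≃ₐ[k]
      Localization.Away (algebraMap S (Localization.Away h) g)) := by
  haveI h1 : IsLocalization.Away (h * g)
      (Localization.Away (algebraMap S (Localization.Away g) h)) :=
    IsLocalization.Away.mul (Localization.Away g) _ g h
  haveI h2 : IsLocalization.Away (h * g)
      (Localization.Away (algebraMap S (Localization.Away h) g)) :=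
    IsLocalization.Away.mul' (Localization.Away h) _ h g
  exact ⟨(IsLocalization.algEquiv (Submonoid.powers (h * g))
    (Localization.Away (algebraMap S (Localization.Away g) h))
    (Localization.Away (algebraMap S (Localization.Away h) g))).restrictScalars k⟩

/-- **S9141** -/
theorem main_S9141 (k S : Type u) [Field k] [CommRing S] [Algebra k S]
    [Algebra.FiniteType k S] (g : S) :
    (Synt.IsGlobalCI k S → Synt.IsGlobalCI k (Localization.Away g)) ∧
      (Synt.IsLCIOver k S → Synt.IsLCIOver k (Localization.Away g)) := by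
  refine ⟨fun h => isGlobalCI_away_of_isGlobalCI h g, ?_⟩
  rintro ⟨-, hL⟩
  refine ⟨inferInstance, fun p => ?_⟩
  haveI := p.2
  obtain ⟨h, hh, hG⟩ := hL ⟨p.asIdeal.comap (algebraMap S (Localization.Away g)),
    Ideal.comap_isPrime _ _⟩
  refine ⟨algebraMap S (Localization.Away g) h, hh, ?_⟩
  obtain ⟨e⟩ := nonempty_algEquiv_away_away (k := k) g h
  exact isGlobalCI_of_algEquiv e.symm
    (isGlobalCI_away_of_isGlobalCI hG (algebraMap S (Localization.Away h) g))

end S9141

end Groth.Agent.Lib.T2H9.SyntCI
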