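import Mathlib
import Groth.Agent.Lib.T2H9SyntCI2
import Groth.Agent.Lib.T2H9CILocus
import Groth.Agent.Lib.Helper28Unmixed
import Groth.Agent.Lib.T2H7FPFlatF
/-
Helper library (helper7): the fibre of a polynomial ring `R[x]` over a prime `p` of `R`:
reduction of coefficients `ι : R[x] → κ(p)[x]`, clearing denominators, primes above, the presentation
of the fibre of `R[x]/I`, regularity of relative global complete intersection equations in the
local rings of `κ(p)[x]`, and descent of the regularity statement to `R[x]`.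
-/

universe u
open TensorProduct MvPolynomial

namespace Groth.Agent.Lib.T2H7.SyntB

variable {R : Type u} [CommRing R] (p : Ideal R) [p.IsPrime] (n : ℕ)

/-- reduction of the coefficients to the residue field -/
noncomputable def ι : MvPolynomial (Fin n) R →+* MvPolynomial (Fin n) p.ResidueField :=
  MvPolynomial.map (algebraMap R p.ResidueField)

lemma ker_ι : RingHom.ker (ι p n) = p.map (algebraMap R (MvPolynomial (Fin n) R)) := by
  unfold ι
  rw [MvPolynomial.ker_map]
  congr 1
  ext x
  rw [RingHom.mem_ker, Ideal.algebraMap_residueField_eq_zero]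

/-- clearing denominators -/
lemma exists_clear (u : MvPolynomial (Fin n) p.ResidueField) :
    ∃ r ∉ p, ∃ v : MvPolynomial (Fin n) R, ι p n v = C (algebraMap R p.ResidueField r) * u := by
  induction u using MvPolynomial.induction_on with
  | C a =>
    obtain ⟨r, hr, b, e⟩ := Groth.Agent.Lib.T2H7.FPFlat.exists_smul_eq_algebraMap_residueField p a
    refine ⟨r, hr, C b, ?_⟩
    unfold ι
    rw [MvPolynomial.map_C, ← e, ← C_mul, Algebra.smul_def]
  | add u₁ u₂ h₁ h₂ =>
    obtain ⟨r₁, hr₁, v₁, e₁⟩ := h₁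
    obtain ⟨r₂, hr₂, v₂, e₂⟩ := h₂
    refine ⟨r₁ * r₂, Ideal.IsPrime.mul_notMem inferInstance hr₁ hr₂, C r₂ * v₁ + C r₁ * v₂, ?_⟩
    have hC : ∀ r : R, ι p n (C r) = C (algebraMap R p.ResidueField r) := fun r => by
      unfold ι; rw [MvPolynomial.map_C]
    rw [map_add, map_mul, map_mul, e₁, e₂, hC, hC, map_mul, C_mul]
    ring
  | mul_X u i h =>
    obtain ⟨r, hr, v, e⟩ := h
    refine ⟨r, hr, v * X i, ?_⟩
    have hX : ι p n (X i) = X i := by unfold ι; rw [MvPolynomial.map_X]
    rw [map_mul, e, hX, mul_assoc]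

/-- the comparison `κ(p) ⊗ R[x] ≃ κ(p)[x]` -/
noncomputable def eT : p.ResidueField ⊗[R] MvPolynomial (Fin n) R ≃ₐ[p.ResidueField]
    MvPolynomial (Fin n) p.ResidueField :=
  MvPolynomial.algebraTensorAlgEquiv R p.ResidueField

lemma eT_symm_ι (v : MvPolynomial (Fin n) R) : (eT p n).symm (ι p n v) = 1 ⊗ₜ v :=
  MvPolynomial.algebraTensorAlgEquiv_symm_map R p.ResidueField v

lemma eT_one_tmul (v : MvPolynomial (Fin n) R) : eT p n (1 ⊗ₜ v) = ι p n v := by
  rw [← eT_symm_ι, AlgEquiv.apply_symm_apply]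

/-- a prime of `κ(p)[x]` above a prime of `R[x]` lying over `p` -/
lemma exists_prime_comap (q' : Ideal (MvPolynomial (Fin n) R)) [hq : q'.IsPrime]
    (hq' : q'.comap (algebraMap R (MvPolynomial (Fin n) R)) = p) :
    ∃ Q : Ideal (MvPolynomial (Fin n) p.ResidueField), Q.IsPrime ∧ Q.comap (ι p n) = q' := by
  let pp : PrimeSpectrum R := ⟨p, inferInstance⟩
  let x : PrimeSpectrum.comap (algebraMap R (MvPolynomial (Fin n) R)) ⁻¹' {pp} :=
    ⟨⟨q', hq⟩, by
      rw [Set.mem_preimage, Set.mem_singleton_iff]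
      exact PrimeSpectrum.ext hq'⟩
  let Q₀ := PrimeSpectrum.preimageEquivFiber R (MvPolynomial (Fin n) R) pp x
  have h0 : (PrimeSpectrum.preimageEquivFiber R (MvPolynomial (Fin n) R) pp).symm Q₀ = x :=
    Equiv.symm_apply_apply _ _
  have h1 : Q₀.asIdeal.comap (Algebra.TensorProduct.includeRight :
      MvPolynomial (Fin n) R →ₐ[R] pp.asIdeal.Fiber (MvPolynomial (Fin n) R)).toRingHom = q' := by
    have := congrArg (fun y => y.1.asIdeal) h0
    exact this
  refine ⟨Q₀.asIdeal.comap (eT p n).symm.toRingEquiv.toRingHom, Ideal.comap_isPrime _ _, ?_⟩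
  rw [← h1]
  ext v
  rw [Ideal.mem_comap, Ideal.mem_comap, Ideal.mem_comap]
  have : (eT p n).symm.toRingEquiv.toRingHom (ι p n v) = (1 : p.ResidueField) ⊗ₜ[R] v :=
    eT_symm_ι p n v
  rw [this]
  rfl

section Phi

variable (I : Ideal (MvPolynomial (Fin n) R))

/-- the presentation of the fibre of `R[x]/I` by `κ(p)[x]` -/
noncomputable def φ : MvPolynomial (Fin n) p.ResidueField →ₐ[p.ResidueField]
    p.Fiber (MvPolynomial (Fin n) R ⧸ I) :=
  (Algebra.TensorProduct.map (AlgHom.id p.ResidueField p.ResidueField)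
    (Ideal.Quotient.mkₐ R I)).comp (eT p n).symm.toAlgHom

lemma φ_surjective : Function.Surjective (φ p n I) := by
  intro y
  obtain ⟨x, hx⟩ := Algebra.TensorProduct.map_surjective
    (AlgHom.id p.ResidueField p.ResidueField) (Ideal.Quotient.mkₐ R I) Function.surjective_id
    (Ideal.Quotient.mkₐ_surjective R I) y
  refine ⟨eT p n x, ?_⟩
  unfold φ
  rw [AlgHom.comp_apply]
  have : (eT p n).symm.toAlgHom (eT p n x) = x := (eT p n).symm_apply_apply x
  rw [this, hx]

lemma ker_φ : RingHom.ker (φ p n I).toRingHom = I.map (ι p n) := by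
  have h1 : RingHom.ker (Algebra.TensorProduct.map (AlgHom.id R p.ResidueField)
      (Ideal.Quotient.mkₐ R I)) = I.map (Algebra.TensorProduct.includeRight :
        MvPolynomial (Fin n) R →ₐ[R] p.ResidueField ⊗[R] MvPolynomial (Fin n) R) := by
    rw [Algebra.TensorProduct.lTensor_ker _ (Ideal.Quotient.mkₐ_surjective R I)]
    congr 1
    exact Ideal.Quotient.mkₐ_ker R I
  have h2 : RingHom.ker (φ p n I).toRingHom =
      (RingHom.ker (Algebra.TensorProduct.map (AlgHom.id R p.ResidueField)
        (Ideal.Quotient.mkₐ R I))).comap (eT p n).symm.toRingEquiv.toRingHom := by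
    ext x
    rw [RingHom.mem_ker, Ideal.mem_comap, RingHom.mem_ker]
    rfl
  rw [h2, h1]
  have h3 : ∀ J : Ideal (p.ResidueField ⊗[R] MvPolynomial (Fin n) R),
      J.comap (eT p n).symm.toRingEquiv.toRingHom = J.map (eT p n).toRingEquiv.toRingHom := by
    intro J
    exact (Ideal.map_comap_of_equiv (eT p n).toRingEquiv).symm
  rw [h3]
  apply le_antisymm
  · rw [Ideal.map_le_iff_le_comap, Ideal.map_le_iff_le_comap]
    intro v hv
    rw [Ideal.mem_comap, Ideal.mem_comap]
    have : (eT p n).toRingEquiv.toRingHom ((Algebra.TensorProduct.includeRight :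
        MvPolynomial (Fin n) R →ₐ[R] p.ResidueField ⊗[R] MvPolynomial (Fin n) R) v) =
        ι p n v := eT_one_tmul p n v
    rw [this]
    exact Ideal.mem_map_of_mem _ hv
  · rw [Ideal.map_le_iff_le_comap]
    intro v hv
    rw [Ideal.mem_comap, ← eT_one_tmul]
    exact Ideal.mem_map_of_mem (eT p n).toRingEquiv.toRingHom (Ideal.mem_map_of_mem
      (Algebra.TensorProduct.includeRight :
        MvPolynomial (Fin n) R →ₐ[R] p.ResidueField ⊗[R] MvPolynomial (Fin n) R) hv)

end Phi

section Regular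

open IsLocalRing

/-- heights do not drop when extending an ideal to a localization at a prime -/
lemma height_le_height_map_atPrime {B : Type u} [CommRing B] (J Q : Ideal B) [Q.IsPrime] :
    J.height ≤ (J.map (algebraMap B (Localization.AtPrime Q))).height := by
  rw [Ideal.height_eq_inf_minimalPrimes (J.map (algebraMap B (Localization.AtPrime Q)))]
  refine le_iInf₂ fun 𝔮 h𝔮 => ?_
  have := h𝔮.1.1
  have h1 : (𝔮.under B).height = 𝔮.height := IsLocalization.height_under Q.primeCompl 𝔮
  rw [← h1]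
  apply Ideal.height_mono
  intro a ha
  exact h𝔮.1.2 (Ideal.mem_map_of_mem _ ha)

lemma le_height_map_ι (I : Ideal (MvPolynomial (Fin n) R)) {c : ℕ} (hcn : c ≤ n)
    [Nontrivial (p.Fiber (MvPolynomial (Fin n) R ⧸ I))]
    (hdim : ringKrullDim (p.Fiber (MvPolynomial (Fin n) R ⧸ I)) = ((n - c : ℕ) : WithBot ℕ∞)) :
    (c : ℕ∞) ≤ (I.map (ι p n)).height := by
  have h := Groth.Agent.Lib.T2H9.SyntCI.le_height_of_isGlobalCI_data
    (T := p.Fiber (MvPolynomial (Fin n) R ⧸ I)) hcn (φ p n I) (φ_surjective p n I) hdim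
  rw [ker_φ p n I] at h
  exact h

variable {c : ℕ} (F : Fin c → MvPolynomial (Fin n) R)

/-- the images of the `F i` form a regular sequence in the local rings of the fibre polynomial ring,
when the fibre has dimension `n - c` -/
theorem isRegular_localization_fibre (hcn : c ≤ n)
    [Nontrivial (p.Fiber (MvPolynomial (Fin n) R ⧸ Ideal.span (Set.range F)))]
    (hdim : ringKrullDim (p.Fiber (MvPolynomial (Fin n) R ⧸ Ideal.span (Set.range F))) =
      ((n - c : ℕ) : WithBot ℕ∞))
    (Q : Ideal (MvPolynomial (Fin n) p.ResidueField)) [Q.IsPrime]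
    (hQ : ∀ i, ι p n (F i) ∈ Q) :
    RingTheory.Sequence.IsRegular (Localization.AtPrime Q)
      ((List.ofFn fun i => ι p n (F i)).map
        (algebraMap (MvPolynomial (Fin n) p.ResidueField) (Localization.AtPrime Q))) := by
  have h1 : (c : ℕ∞) ≤ ((Ideal.span (Set.range F)).map (ι p n)).height :=
    le_height_map_ι p n (Ideal.span (Set.range F)) hcn hdim
  set J : Ideal (MvPolynomial (Fin n) p.ResidueField) := (Ideal.span (Set.range F)).map (ι p n)
    with hJ
  have hCM : LocCoh.IsCohenMacaulayLocalRing (Localization.AtPrime Q) :=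
    (Groth.Agent.Lib.T2H9.SyntCI.cm_mvPolynomial p.ResidueField n
      ).isCohenMacaulayLocalRing_localization Q
  set rs := (List.ofFn fun i => ι p n (F i)).map
    (algebraMap (MvPolynomial (Fin n) p.ResidueField) (Localization.AtPrime Q)) with hrs
  have hmem : ∀ y ∈ rs, y ∈ maximalIdeal (Localization.AtPrime Q) := by
    intro y hy
    rw [hrs, List.mem_map] at hy
    obtain ⟨x, hx, rfl⟩ := hy
    rw [List.mem_ofFn] at hx
    obtain ⟨i, rfl⟩ := hx
    rw [IsLocalization.AtPrime.to_map_mem_maximal_iff (Localization.AtPrime Q) Q]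
    exact hQ i
  have hlen : rs.length = c := by
    rw [hrs, List.length_map, List.length_ofFn]
  have hof : Ideal.ofList rs =
      J.map (algebraMap (MvPolynomial (Fin n) p.ResidueField) (Localization.AtPrime Q)) := by
    rw [hrs, ← Ideal.map_ofList]
    congr 1
    rw [hJ, Ideal.map_span, ← Set.range_comp]
    unfold Ideal.ofList
    congr 1
    ext x
    simp only [Set.mem_ofPred_eq, List.mem_ofFn, Set.mem_range, Function.comp_apply]
  have hht : (rs.length : ℕ∞) ≤ (Ideal.ofList rs).height := by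
    rw [hlen, hof]
    exact h1.trans (height_le_height_map_atPrime J Q)
  obtain ⟨hw, -, -⟩ := Groth.Agent.Lib.Helper28.isWeaklyRegular_of_length_le_height rs hmem hht
  exact (IsLocalRing.isRegular_iff_isWeaklyRegular_of_subset_maximalIdeal hmem).mpr hw

end Regular

section Elementary

lemma ι_C (r : R) : ι p n (C r) = C (algebraMap R p.ResidueField r) := by
  unfold ι; rw [MvPolynomial.map_C]

/-- elements of `J κ(p)[x]` come from `J` up to a denominator -/
lemma exists_of_mem_map_ι (J : Ideal (MvPolynomial (Fin n) R))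
    (y : MvPolynomial (Fin n) p.ResidueField) (hy : y ∈ J.map (ι p n)) :
    ∃ r ∉ p, ∃ x ∈ J, ι p n x = C (algebraMap R p.ResidueField r) * y := by
  unfold Ideal.map at hy
  induction hy using Submodule.span_induction with
  | mem y hy =>
    obtain ⟨j, hj, rfl⟩ := hy
    exact ⟨1, fun h => (Ideal.IsPrime.ne_top inferInstance) ((Ideal.eq_top_iff_one p).mpr h),
      j, hj, by rw [map_one, C_1, one_mul]⟩
  | zero =>
    exact ⟨1, fun h => (Ideal.IsPrime.ne_top inferInstance) ((Ideal.eq_top_iff_one p).mpr h),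
      0, J.zero_mem, by rw [map_zero, mul_zero]⟩
  | add y₁ y₂ _ _ h₁ h₂ =>
    obtain ⟨r₁, hr₁, x₁, hx₁, e₁⟩ := h₁
    obtain ⟨r₂, hr₂, x₂, hx₂, e₂⟩ := h₂
    refine ⟨r₁ * r₂, Ideal.IsPrime.mul_notMem inferInstance hr₁ hr₂, C r₂ * x₁ + C r₁ * x₂,
      J.add_mem (J.mul_mem_left _ hx₁) (J.mul_mem_left _ hx₂), ?_⟩
    rw [map_add, map_mul, map_mul, e₁, e₂, ι_C, ι_C, map_mul, C_mul]
    ring
  | smul a y _ h =>
    obtain ⟨r, hr, x, hx, e⟩ := h
    obtain ⟨r', hr', v, ev⟩ := exists_clear p n a
    refine ⟨r' * r, Ideal.IsPrime.mul_notMem inferInstance hr' hr, v * x, J.mul_mem_left _ hx, ?_⟩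
    rw [map_mul, e, ev, map_mul, C_mul, smul_eq_mul]
    ring

/-- coming back from `κ(p)[x]` to `R[x]` -/
lemma exists_C_mul_mem (J : Ideal (MvPolynomial (Fin n) R)) (x : MvPolynomial (Fin n) R)
    (hx : ι p n x ∈ J.map (ι p n)) :
    ∃ r ∉ p, C r * x ∈ p.map (algebraMap R (MvPolynomial (Fin n) R)) ⊔ J := by
  obtain ⟨r, hr, x', hx', e⟩ := exists_of_mem_map_ι p n J _ hx
  refine ⟨r, hr, ?_⟩
  have h1 : C r * x - x' ∈ RingHom.ker (ι p n) := by
    rw [RingHom.mem_ker, map_sub, map_mul, ι_C, e, sub_self]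
  rw [ker_ι] at h1
  have : C r * x = (C r * x - x') + x' := by ring
  rw [this]
  exact Submodule.add_mem_sup h1 hx'

variable (q' : Ideal (MvPolynomial (Fin n) R)) [q'.IsPrime]
  (Q : Ideal (MvPolynomial (Fin n) p.ResidueField)) [Q.IsPrime]

/-- descent of a divisibility statement from the local ring of the fibre -/
theorem exists_mul_mem_of_map_mem (hq' : q'.comap (algebraMap R (MvPolynomial (Fin n) R)) = p)
    (hQ : Q.comap (ι p n) = q') (J : Ideal (MvPolynomial (Fin n) R))
    (m : MvPolynomial (Fin n) R)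
    (h : algebraMap (MvPolynomial (Fin n) p.ResidueField) (Localization.AtPrime Q) (ι p n m) ∈
      (J.map (ι p n)).map
        (algebraMap (MvPolynomial (Fin n) p.ResidueField) (Localization.AtPrime Q))) :
    ∃ t ∈ q'.primeCompl, t * m ∈ p.map (algebraMap R (MvPolynomial (Fin n) R)) ⊔ J := by
  rw [IsLocalization.mem_map_algebraMap_iff Q.primeCompl] at h
  obtain ⟨⟨⟨j, hj⟩, ⟨u, hu⟩⟩, e⟩ := h
  simp only at e
  rw [← map_mul, IsLocalization.eq_iff_exists Q.primeCompl] at e
  obtain ⟨⟨u', hu'⟩, e'⟩ := e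
  simp only at e'
  -- `w * ι m ∈ J κ[x]` with `w ∉ Q`
  have hw : (u' * u) * ι p n m ∈ J.map (ι p n) := by
    have : (u' * u) * ι p n m = u' * j := by
      rw [← e']; ring
    rw [this]
    exact Ideal.mul_mem_left _ _ hj
  have hwQ : u' * u ∉ Q := fun hmem => by
    rcases Ideal.IsPrime.mem_or_mem inferInstance hmem with h1 | h1
    · exact hu' h1
    · exact hu h1
  obtain ⟨r, hr, v, ev⟩ := exists_clear p n (u' * u)
  have hunit : IsUnit (C (algebraMap R p.ResidueField r) :
      MvPolynomial (Fin n) p.ResidueField) := by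
    apply IsUnit.map
    rw [isUnit_iff_ne_zero, ne_eq, Ideal.algebraMap_residueField_eq_zero]
    exact hr
  have hv : v ∉ q' := by
    intro hmem
    rw [← hQ, Ideal.mem_comap, ev] at hmem
    rcases Ideal.IsPrime.mem_or_mem inferInstance hmem with h1 | h1
    · exact (Ideal.IsPrime.ne_top inferInstance) (Ideal.eq_top_of_isUnit_mem _ h1 hunit)
    · exact hwQ h1
  have h2 : ι p n (v * m) ∈ J.map (ι p n) := by
    rw [map_mul, ev, mul_assoc]
    exact Ideal.mul_mem_left _ _ hw
  obtain ⟨r', hr', h3⟩ := exists_C_mul_mem p n J _ h2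
  have hr'q : C r' ∉ q' := by
    intro hmem
    apply hr'
    rw [← hq']
    exact hmem
  refine ⟨C r' * v, ?_, ?_⟩
  · intro hmem
    rcases Ideal.IsPrime.mem_or_mem inferInstance hmem with h1 | h1
    · exact hr'q h1
    · exact hv h1
  · rw [mul_assoc]
    exact h3

end Elementary

section Elementary2

variable (q' : Ideal (MvPolynomial (Fin n) R)) [q'.IsPrime]
  (Q : Ideal (MvPolynomial (Fin n) p.ResidueField)) [Q.IsPrime]

lemma mem_smul_top_iff {L : Type*} [CommRing L] (I : Ideal L) (x : L) :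
    x ∈ (I • ⊤ : Submodule L L) ↔ x ∈ I := by
  rw [smul_eq_mul, Ideal.mul_top]

/-- the elementary regularity statement in `R[x]`, from regularity in the local ring of the fibre -/
theorem elementary_of_isWeaklyRegular
    (hq' : q'.comap (algebraMap R (MvPolynomial (Fin n) R)) = p)
    (hQ : Q.comap (ι p n) = q') (g : List (MvPolynomial (Fin n) R))
    (hreg : RingTheory.Sequence.IsWeaklyRegular (Localization.AtPrime Q)
      ((g.map (ι p n)).map
        (algebraMap (MvPolynomial (Fin n) p.ResidueField) (Localization.AtPrime Q))))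
    (i : ℕ) (hi : i < g.length) (m : MvPolynomial (Fin n) R)
    (h : ∃ t ∈ q'.primeCompl, t * (g[i] * m) ∈
      p.map (algebraMap R (MvPolynomial (Fin n) R)) ⊔ Ideal.ofList (g.take i)) :
    ∃ t ∈ q'.primeCompl, t * m ∈
      p.map (algebraMap R (MvPolynomial (Fin n) R)) ⊔ Ideal.ofList (g.take i) := by
  obtain ⟨t, ht, h1⟩ := h
  set alg := algebraMap (MvPolynomial (Fin n) p.ResidueField) (Localization.AtPrime Q) with halg
  set J := Ideal.ofList (g.take i) with hJ
  apply exists_mul_mem_of_map_mem p n q' Q hq' hQ J m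
  -- push `h1` to the local ring
  have hp0 : (p.map (algebraMap R (MvPolynomial (Fin n) R))).map (ι p n) = ⊥ := by
    rw [← ker_ι, Ideal.map_eq_bot_iff_le_ker]
  have h2 : alg (ι p n (t * (g[i] * m))) ∈ (J.map (ι p n)).map alg := by
    have h3 := Ideal.mem_map_of_mem alg (Ideal.mem_map_of_mem (ι p n) h1)
    rw [Ideal.map_sup, hp0, bot_sup_eq] at h3
    exact h3
  rw [map_mul, map_mul] at h2
  have htu : IsUnit (alg (ι p n t)) := by
    apply IsLocalization.map_units (Localization.AtPrime Q) (⟨ι p n t, ?_⟩ : Q.primeCompl)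
    intro hmem
    apply ht
    rw [← hQ]
    exact hmem
  rw [Ideal.unit_mul_mem_iff_mem _ htu] at h2
  -- regularity
  have hlen : i < ((g.map (ι p n)).map alg).length := by
    rw [List.length_map, List.length_map]; exact hi
  have hr := hreg.regular_mod_prev i hlen
  rw [isSMulRegular_quotient_iff_mem_of_smul_mem] at hr
  have hof : Ideal.ofList (((g.map (ι p n)).map alg).take i) = (J.map (ι p n)).map alg := by
    rw [← List.map_take, ← List.map_take, ← Ideal.map_ofList, ← Ideal.map_ofList]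
  have hgi : ((g.map (ι p n)).map alg)[i] = alg (ι p n g[i]) := by
    rw [List.getElem_map, List.getElem_map]
  have h4 := hr (alg (ι p n m)) (by
    rw [mem_smul_top_iff, hof, hgi, smul_eq_mul, ← map_mul, ← map_mul]
    exact h2)
  rw [mem_smul_top_iff, hof] at h4
  exact h4

end Elementary2

end Groth.Agent.Lib.T2H7.SyntB
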