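import Mathlib
import Groth.Agent.Lib.T2H7BlowKos
import Groth.Agent.Lib.Helper13KzLiftF
import Groth.Agent.S15821
import Groth.Agent.Lib.T2H7KRegD

/-!
# Retractions of polynomial rings and Koszul-regular ideals (helper7)

For `v : σ → A[ι]` with `v (a i) = X i`, the retraction `ret A v : A[σ] → A[ι]` has kernel
generated by the Koszul-regular sequence `wv j = X_{b j} - v(b j)` (`ker_ret`,
`isKoszulRegularSeq_wv`), and an ideal `I` of `A[ι]` is Koszul-regular iff its preimage is
(`isKoszulRegularIdeal_comap_ret_iff`).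
-/

set_option autoImplicit false

namespace Groth.Agent.Lib.T2H7.KRegC
open MvPolynomial RingTheory.Sequence

universe u

variable (A : Type u) [CommRing A] {σ ι : Type} {k : ℕ} (a : ι → σ) (b : Fin k → σ)
  (v : σ → MvPolynomial ι A)

/-- the retraction `A[σ] → A[ι]` -/
noncomputable def ret : MvPolynomial σ A →ₐ[A] MvPolynomial ι A := aeval v

/-- the elements `X_{b j} - v(b j)` cutting out the graph of the retraction -/
noncomputable def wv (j : Fin k) : MvPolynomial σ A := X (b j) - rename a (v (b j))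

variable {A a b v}

lemma ret_rename (hva : ∀ i, v (a i) = X i) (p : MvPolynomial ι A) :
    ret A v (rename a p) = p := by
  unfold ret
  rw [aeval_rename]
  have : v ∘ a = X := funext hva
  rw [this, aeval_X_left]
  rfl

lemma ret_surjective (hva : ∀ i, v (a i) = X i) : Function.Surjective (ret A v) :=
  fun p => ⟨rename a p, ret_rename hva p⟩

lemma ret_wv (hva : ∀ i, v (a i) = X i) (j : Fin k) : ret A v (wv A a b v j) = 0 := by
  unfold wv
  rw [map_sub, ret_rename hva]
  unfold ret
  rw [aeval_X, sub_self]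

theorem ker_ret (hva : ∀ i, v (a i) = X i)
    (hcov : ∀ s, (∃ i, a i = s) ∨ (∃ j, b j = s)) :
    RingHom.ker (ret A v).toRingHom = Ideal.ofList (List.ofFn (wv A a b v)) := by
  rw [Groth.Agent.Helper13KzLift.ofList_ofFn]
  apply le_antisymm
  · intro p hp
    let ψ := Ideal.Quotient.mkₐ A (Ideal.span (Set.range (wv A a b v)))
    have hψ : ψ.comp ((rename a).comp (ret A v)) = ψ := by
      apply MvPolynomial.algHom_ext
      intro s
      rcases hcov s with ⟨i, rfl⟩ | ⟨j, rfl⟩
      · show ψ (rename a (ret A v (X (a i)))) = ψ (X (a i))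
        unfold ret
        rw [aeval_X, hva, rename_X]
      · show ψ (rename a (ret A v (X (b j)))) = ψ (X (b j))
        unfold ret
        rw [aeval_X]
        symm
        rw [← sub_eq_zero, ← map_sub]
        exact Ideal.Quotient.eq_zero_iff_mem.mpr (Ideal.subset_span ⟨j, rfl⟩)
    have h1 : ψ p = 0 := by
      rw [← hψ]
      show ψ (rename a (ret A v p)) = 0
      have : ret A v p = 0 := hp
      rw [this, map_zero, map_zero]
    exact Ideal.Quotient.eq_zero_iff_mem.mp h1
  · refine Ideal.span_le.mpr ?_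
    rintro _ ⟨j, rfl⟩
    exact ret_wv hva j

section Shift
open Classical in
/-- the shift automorphism (forward direction) -/
noncomputable def shiftFun (ε : A) (s : σ) : MvPolynomial σ A :=
  if ∃ j, b j = s then X s + ε • rename a (v s) else X s

lemma shiftFun_a (hab : ∀ i j, a i ≠ b j) (ε : A) (i : ι) :
    shiftFun (A := A) (a := a) (b := b) (v := v) ε (a i) = X (a i) := by
  unfold shiftFun
  rw [if_neg]
  rintro ⟨j, hj⟩
  exact hab i j hj.symm

lemma shiftFun_b (ε : A) (j : Fin k) :
    shiftFun (A := A) (a := a) (b := b) (v := v) ε (b j) =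
      X (b j) + ε • rename a (v (b j)) := by
  unfold shiftFun
  rw [if_pos ⟨j, rfl⟩]

lemma aeval_shiftFun_rename (hab : ∀ i j, a i ≠ b j) (ε : A) (p : MvPolynomial ι A) :
    aeval (shiftFun (A := A) (a := a) (b := b) (v := v) ε) (rename a p) = rename a p := by
  rw [aeval_rename, rename_eq_aeval]
  have : shiftFun (A := A) (a := a) (b := b) (v := v) ε ∘ a = X ∘ a :=
    funext fun i => shiftFun_a hab ε i
  rw [this]

lemma aeval_shiftFun_comp (hab : ∀ i j, a i ≠ b j) (ε δ : A) (hεδ : ε + δ = 0) :
    (aeval (shiftFun (A := A) (a := a) (b := b) (v := v) ε)).comp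
      (aeval (shiftFun (A := A) (a := a) (b := b) (v := v) δ)) = AlgHom.id A _ := by
  apply MvPolynomial.algHom_ext
  intro s
  rw [AlgHom.comp_apply, aeval_X, AlgHom.id_apply]
  by_cases hs : ∃ j, b j = s
  · obtain ⟨j, rfl⟩ := hs
    rw [shiftFun_b, map_add, map_smul, aeval_X, aeval_shiftFun_rename hab, shiftFun_b,
      add_assoc, ← add_smul, hεδ, zero_smul, add_zero]
  · have h1 : shiftFun (A := A) (a := a) (b := b) (v := v) δ s = X s := by
      unfold shiftFun; rw [if_neg hs]
    have h2 : shiftFun (A := A) (a := a) (b := b) (v := v) ε s = X s := by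
      unfold shiftFun; rw [if_neg hs]
    rw [h1, aeval_X, h2]

/-- the shift automorphism `X_{b j} ↦ X_{b j} - v(b j)` -/
noncomputable def shiftEquiv (hab : ∀ i j, a i ≠ b j) : MvPolynomial σ A ≃ₐ[A] MvPolynomial σ A :=
  AlgEquiv.ofAlgHom (aeval (shiftFun (A := A) (a := a) (b := b) (v := v) (-1)))
    (aeval (shiftFun (A := A) (a := a) (b := b) (v := v) 1))
    (aeval_shiftFun_comp hab (-1) 1 (by ring)) (aeval_shiftFun_comp hab 1 (-1) (by ring))

lemma shiftEquiv_X_b (hab : ∀ i j, a i ≠ b j) (j : Fin k) :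
    shiftEquiv (A := A) (a := a) (b := b) (v := v) hab (X (b j)) = wv A a b v j := by
  show aeval _ (X (b j)) = _
  rw [aeval_X, shiftFun_b]
  unfold wv
  rw [neg_one_smul, sub_eq_add_neg]

theorem isWeaklyRegular_wv (hab : ∀ i j, a i ≠ b j) (hb : Function.Injective b) :
    IsWeaklyRegular (MvPolynomial σ A) (List.ofFn (wv A a b v)) := by
  have h1 : List.ofFn (wv A a b v) =
      ((List.ofFn b).map (MvPolynomial.X (R := A))).map
        (shiftEquiv (A := A) (a := a) (b := b) (v := v) hab) := by
    rw [List.map_ofFn, List.map_ofFn]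
    congr 1
    funext j
    exact (shiftEquiv_X_b hab j).symm
  rw [h1]
  refine (AddEquiv.isWeaklyRegular_congr
    (e := (shiftEquiv (A := A) (a := a) (b := b) (v := v) hab).toAddEquiv) ?_).1
    (Groth.Agent.Lib.T2H7.BlowKos.isWeaklyRegular_map_X (K := A) (List.ofFn b)
      ((List.nodup_ofFn).mpr hb))
  rw [List.forall₂_map_right_iff, List.forall₂_same]
  intro r _ x
  exact map_mul (shiftEquiv (A := A) (a := a) (b := b) (v := v) hab) r x

theorem isKoszulRegularSeq_wv (hab : ∀ i j, a i ≠ b j) (hb : Function.Injective b) :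
    LCI.IsKoszulRegularSeq (MvPolynomial σ A) (List.ofFn (wv A a b v)) :=
  (Groth.Agent.S15821.result _ _ (isWeaklyRegular_wv hab hb)).1

end Shift

section Deriv

lemma pderiv_rename_a (hab : ∀ i j, a i ≠ b j) (j : Fin k) (q : MvPolynomial ι A) :
    pderiv (b j) (rename a q) = 0 := by
  classical
  apply pderiv_eq_zero_of_notMem_vars
  intro hmem
  have := MvPolynomial.vars_rename a q hmem
  rw [Finset.mem_image] at this
  obtain ⟨i, _, hi⟩ := this
  exact hab i j hi

lemma pderiv_wv (hab : ∀ i j, a i ≠ b j) (hb : Function.Injective b) (i j : Fin k) :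
    pderiv (b i) (wv A a b v j) = if i = j then 1 else 0 := by
  classical
  unfold wv
  rw [map_sub, pderiv_rename_a hab, sub_zero, pderiv_X, Pi.single_apply]
  by_cases h : i = j
  · rw [if_pos h, if_pos (by rw [h])]
  · rw [if_neg h, if_neg (fun h' => h (hb h').symm)]

lemma det_pderiv_wv (hab : ∀ i j, a i ≠ b j) (hb : Function.Injective b) :
    Matrix.det (Matrix.of fun j i =>
      (pderiv (R := A) (b i)) (wv A a b v j)) = 1 := by
  have : (Matrix.of fun j i => (pderiv (R := A) (b i)) (wv A a b v j)) =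
      (1 : Matrix (Fin k) (Fin k) (MvPolynomial σ A)) := by
    ext j i
    rw [Matrix.of_apply, pderiv_wv hab hb, Matrix.one_apply]
    by_cases h : i = j
    · rw [if_pos h, if_pos h.symm]
    · rw [if_neg h, if_neg (fun h' => h h'.symm)]
  rw [this, Matrix.det_one]

end Deriv

section Main

/-- an ideal of `A[ι]` is Koszul-regular iff its preimage under the retraction is -/
theorem isKoszulRegularIdeal_comap_ret_iff (hva : ∀ i, v (a i) = X i)
    (hcov : ∀ s, (∃ i, a i = s) ∨ (∃ j, b j = s)) (hab : ∀ i j, a i ≠ b j)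
    (hb : Function.Injective b) (I : Ideal (MvPolynomial ι A)) :
    LCI.IsKoszulRegularIdeal (I.comap (ret A v).toRingHom) ↔ LCI.IsKoszulRegularIdeal I := by
  have hπ : Function.Surjective (ret A v).toRingHom := ret_surjective hva
  have hker := ker_ret (b := b) hva hcov
  have hreg := isKoszulRegularSeq_wv (A := A) (a := a) (b := b) (v := v) hab hb
  constructor
  · intro h
    refine Groth.Agent.Lib.T2H7.KRegD.isKoszulRegularIdeal_of_comap (ret A v).toRingHom hπ
      (wv A a b v) hker hreg (fun i => pderiv (R := A) (b i)) I ?_ h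
    intro 𝔔 h𝔔 _
    rw [det_pderiv_wv hab hb]
    exact fun h1 => h𝔔.ne_top ((Ideal.eq_top_iff_one _).mpr h1)
  · intro h
    exact Groth.Agent.Lib.T2H7.KRegD.isKoszulRegularIdeal_comap (ret A v).toRingHom hπ
      (List.ofFn (wv A a b v)) hker hreg I h

end Main

end Groth.Agent.Lib.T2H7.KRegC
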