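import Mathlib
import Groth.Agent.Lib.T2H7KRegI
import Groth.Agent.Lib.T2H7SyntB
import Groth.Agent.S9269

/-!
# Descent of local complete intersection algebras along finite flat families (helper7)

* `flat_mvPolynomial`, `faithfullyFlat_mvPolynomial`: polynomial rings over (faithfully) flat algebras.
* `exists_prime_mvPolynomial`: lifting primes of `R[x]` to `R'[x]`.
* `βT`, `βT_surjective`, `ker_βT`: base change of a presentation.
* `isLCI_of_family`: the descent statement.
-/

set_option autoImplicit false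

namespace Groth.Agent.Lib.T2H7.KRegJ
open Groth.Agent.Lib.T2H7.KRegI
open scoped TensorProduct

universe u

section Poly
variable {R R' : Type u} [CommRing R] [CommRing R'] [Algebra R R'] (n : ℕ)

attribute [local instance] MvPolynomial.algebraMvPolynomial

/-- polynomial rings over a flat algebra are flat over the polynomial ring -/
theorem flat_mvPolynomial [Module.Flat R R'] :
    Module.Flat (MvPolynomial (Fin n) R) (MvPolynomial (Fin n) R') := by
  have e := Algebra.IsPushout.equiv R (MvPolynomial (Fin n) R) R' (MvPolynomial (Fin n) R')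
  exact Module.Flat.of_linearEquiv e.toLinearEquiv.symm

/-- polynomial rings over a faithfully flat algebra are faithfully flat over the polynomial ring -/
theorem faithfullyFlat_mvPolynomial [Module.FaithfullyFlat R R'] :
    Module.FaithfullyFlat (MvPolynomial (Fin n) R) (MvPolynomial (Fin n) R') := by
  have e := Algebra.IsPushout.equiv R (MvPolynomial (Fin n) R) R' (MvPolynomial (Fin n) R')
  exact Module.FaithfullyFlat.of_linearEquiv _ _ e.toLinearEquiv.symm

end Poly

section Surj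
variable {R R' : Type u} [CommRing R] [CommRing R'] [Algebra R R'] (n : ℕ)

open Groth.Agent.Lib.T2H7.SyntB in
/-- primes of `R[x]` lift to `R'[x]` as soon as the prime below lifts to `R'` -/
theorem exists_prime_mvPolynomial (𝔓 : Ideal (MvPolynomial (Fin n) R)) [𝔓.IsPrime]
    (𝔮 : Ideal R') [𝔮.IsPrime]
    (h : 𝔮.comap (algebraMap R R') = 𝔓.comap (algebraMap R (MvPolynomial (Fin n) R))) :
    ∃ 𝔔 : Ideal (MvPolynomial (Fin n) R'), 𝔔.IsPrime ∧
      𝔔.comap (MvPolynomial.map (algebraMap R R')) = 𝔓 := by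
  set 𝔭 : Ideal R := 𝔓.comap (algebraMap R (MvPolynomial (Fin n) R)) with h𝔭
  have h𝔭p : 𝔭.IsPrime := Ideal.comap_isPrime _ _
  obtain ⟨Q, hQ, hQ𝔓⟩ := exists_prime_comap 𝔭 n 𝔓 rfl
  let σ : 𝔭.ResidueField →+* 𝔮.ResidueField :=
    Ideal.ResidueField.map 𝔭 𝔮 (algebraMap R R') h.symm
  have hσ : σ.comp (algebraMap R 𝔭.ResidueField) =
      (algebraMap R' 𝔮.ResidueField).comp (algebraMap R R') := by
    ext r
    exact Ideal.ResidueField.map_algebraMap 𝔭 𝔮 (algebraMap R R') h.symm r
  -- lift `Q` to `κ(𝔮)[x]`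
  obtain ⟨Q', hQ', hQ'Q⟩ : ∃ Q' : Ideal (MvPolynomial (Fin n) 𝔮.ResidueField), Q'.IsPrime ∧
      Q'.comap (MvPolynomial.map σ) = Q := by
    let _ : Algebra 𝔭.ResidueField 𝔮.ResidueField := σ.toAlgebra
    let _ : Algebra (MvPolynomial (Fin n) 𝔭.ResidueField) (MvPolynomial (Fin n) 𝔮.ResidueField) :=
      MvPolynomial.algebraMvPolynomial
    have hff := faithfullyFlat_mvPolynomial (R := 𝔭.ResidueField) (R' := 𝔮.ResidueField) n
    obtain ⟨Q', hQ', hlo⟩ := Ideal.exists_isPrime_liesOver_of_faithfullyFlat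
      (B := MvPolynomial (Fin n) 𝔮.ResidueField) Q
    exact ⟨Q', hQ', hlo.over.symm⟩
  refine ⟨Q'.comap (MvPolynomial.map (algebraMap R' 𝔮.ResidueField)), Ideal.comap_isPrime _ _, ?_⟩
  have e : (MvPolynomial.map (algebraMap R' 𝔮.ResidueField)).comp
      (MvPolynomial.map (algebraMap R R')) = (MvPolynomial.map σ).comp (ι 𝔭 n) := by
    apply RingHom.ext
    intro x
    simp only [RingHom.comp_apply, ι, MvPolynomial.map_map, hσ]
  rw [Ideal.comap_comap, e, ← Ideal.comap_comap, hQ'Q]
  exact hQ𝔓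

end Surj

section Pres
variable (R : Type u) [CommRing R] (R' : Type u) [CommRing R'] [Algebra R R']
  {C : Type u} [CommRing C] [Algebra R C] (n : ℕ) (φ : MvPolynomial (Fin n) R →ₐ[R] C)

/-- `R' ⊗ R[x] ≃ R'[x]` -/
noncomputable def eT : R' ⊗[R] MvPolynomial (Fin n) R ≃ₐ[R'] MvPolynomial (Fin n) R' :=
  MvPolynomial.algebraTensorAlgEquiv R R'

lemma eT_symm_map (v : MvPolynomial (Fin n) R) :
    (eT R R' n).symm (MvPolynomial.map (algebraMap R R') v) = 1 ⊗ₜ v :=
  MvPolynomial.algebraTensorAlgEquiv_symm_map R R' v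

lemma eT_one_tmul (v : MvPolynomial (Fin n) R) :
    eT R R' n (1 ⊗ₜ v) = MvPolynomial.map (algebraMap R R') v := by
  rw [← eT_symm_map, AlgEquiv.apply_symm_apply]

/-- the base change of a presentation -/
noncomputable def βT : MvPolynomial (Fin n) R' →ₐ[R'] R' ⊗[R] C :=
  (Algebra.TensorProduct.map (AlgHom.id R' R') φ).comp (eT R R' n).symm.toAlgHom

variable {φ}

lemma βT_surjective (hφ : Function.Surjective φ) : Function.Surjective (βT R R' n φ) := by
  intro y
  obtain ⟨x, hx⟩ := Algebra.TensorProduct.map_surjective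
    (AlgHom.id R' R') φ Function.surjective_id hφ y
  refine ⟨eT R R' n x, ?_⟩
  unfold βT
  rw [AlgHom.comp_apply]
  have : (eT R R' n).symm.toAlgHom (eT R R' n x) = x := (eT R R' n).symm_apply_apply x
  rw [this, hx]

lemma ker_βT (hφ : Function.Surjective φ) : RingHom.ker (βT R R' n φ).toRingHom =
    (RingHom.ker φ.toRingHom).map (MvPolynomial.map (algebraMap R R')) := by
  have h1 : RingHom.ker (Algebra.TensorProduct.map (AlgHom.id R R') φ) =
      (RingHom.ker φ).map (Algebra.TensorProduct.includeRight :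
        MvPolynomial (Fin n) R →ₐ[R] R' ⊗[R] MvPolynomial (Fin n) R) :=
    Algebra.TensorProduct.lTensor_ker _ hφ
  have h2 : RingHom.ker (βT R R' n φ).toRingHom =
      (RingHom.ker (Algebra.TensorProduct.map (AlgHom.id R R') φ)).comap
        (eT R R' n).symm.toRingEquiv.toRingHom := by
    ext x
    rw [RingHom.mem_ker, Ideal.mem_comap, RingHom.mem_ker]
    rfl
  rw [h2, h1]
  have h3 : ∀ J : Ideal (R' ⊗[R] MvPolynomial (Fin n) R),
      J.comap (eT R R' n).symm.toRingEquiv.toRingHom = J.map (eT R R' n).toRingEquiv.toRingHom := by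
    intro J
    exact (Ideal.map_comap_of_equiv (eT R R' n).toRingEquiv).symm
  rw [h3]
  apply le_antisymm
  · rw [Ideal.map_le_iff_le_comap, Ideal.map_le_iff_le_comap]
    intro v hv
    rw [Ideal.mem_comap, Ideal.mem_comap]
    have : (eT R R' n).toRingEquiv.toRingHom ((Algebra.TensorProduct.includeRight :
        MvPolynomial (Fin n) R →ₐ[R] R' ⊗[R] MvPolynomial (Fin n) R) v) =
        MvPolynomial.map (algebraMap R R') v := eT_one_tmul R R' n v
    rw [this]
    exact Ideal.mem_map_of_mem _ hv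
  · rw [Ideal.map_le_iff_le_comap]
    intro v hv
    rw [Ideal.mem_comap, ← eT_one_tmul]
    exact Ideal.mem_map_of_mem (eT R R' n).toRingEquiv.toRingHom (Ideal.mem_map_of_mem
      (Algebra.TensorProduct.includeRight :
        MvPolynomial (Fin n) R →ₐ[R] R' ⊗[R] MvPolynomial (Fin n) R) hv)

end Pres

section Main
variable {R C : Type u} [CommRing R] [CommRing C] [Algebra R C]

attribute [local instance] MvPolynomial.algebraMvPolynomial

/-- local complete intersection algebras descend along a finite family of flat base changes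
which is jointly surjective on spectra -/
theorem isLCI_of_family (hft : Algebra.FiniteType R C) {ι : Type} [Fintype ι] [DecidableEq ι]
    (R' C' : ι → Type u) [∀ j, CommRing (R' j)] [∀ j, CommRing (C' j)] [∀ j, Algebra R (R' j)]
    [∀ j, Algebra (R' j) (C' j)] [∀ j, Algebra C (C' j)] [∀ j, Algebra R (C' j)]
    [∀ j, IsScalarTower R (R' j) (C' j)] [∀ j, IsScalarTower R C (C' j)]
    [∀ j, Algebra.IsPushout R (R' j) C (C' j)] [∀ j, Module.Flat R (R' j)]
    (hsurj : ∀ 𝔭 : Ideal R, 𝔭.IsPrime → ∃ (j : ι) (𝔮 : Ideal (R' j)), 𝔮.IsPrime ∧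
      𝔮.comap (algebraMap R (R' j)) = 𝔭)
    (h : ∀ j, LCI.IsLCI (R' j) (C' j)) : LCI.IsLCI R C := by
  obtain ⟨n, φ, hφ⟩ := Algebra.FiniteType.iff_quotient_mvPolynomial''.mp hft
  refine ⟨hft, n, φ, hφ, ?_⟩
  have hflat : ∀ j, Module.Flat (MvPolynomial (Fin n) R) (MvPolynomial (Fin n) (R' j)) :=
    fun j => flat_mvPolynomial n
  apply isKoszulRegularIdeal_of_family (fun j => MvPolynomial (Fin n) (R' j))
  · intro 𝔓 h𝔓
    obtain ⟨j, 𝔮, h𝔮, hc⟩ := hsurj (𝔓.comap (algebraMap R (MvPolynomial (Fin n) R)))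
      (Ideal.comap_isPrime _ _)
    obtain ⟨𝔔, h𝔔, hc'⟩ := exists_prime_mvPolynomial n 𝔓 𝔮 hc
    exact ⟨j, 𝔔, h𝔔, hc'⟩
  · intro j
    obtain ⟨-, m, α, hα, hker⟩ := h j
    let ε : R' j ⊗[R] C ≃ₐ[R' j] C' j := Algebra.IsPushout.equiv R (R' j) C (C' j)
    let β : MvPolynomial (Fin n) (R' j) →ₐ[R' j] C' j := ε.toAlgHom.comp (βT R (R' j) n φ)
    have hβ : Function.Surjective β := ε.surjective.comp (βT_surjective R (R' j) n hφ)
    have hkerβ : RingHom.ker β.toRingHom =
        (RingHom.ker φ.toRingHom).map (MvPolynomial.map (algebraMap R (R' j))) := by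
      rw [← ker_βT R (R' j) n hφ]
      ext x
      rw [RingHom.mem_ker, RingHom.mem_ker]
      show ε (βT R (R' j) n φ x) = 0 ↔ βT R (R' j) n φ x = 0
      exact ε.map_eq_zero_iff
    have h1 := Groth.Agent.S9269.result (R' j) (C' j) m n α hα β hβ hker
    rw [hkerβ] at h1
    exact h1

end Main

end Groth.Agent.Lib.T2H7.KRegJ
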