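import Mathlib
import Groth.Agent.Lib.LeadFTb
import Groth.Agent.Lib.T2H7KRegJ

/-!
# Noetherian approximation of pointwise flatness along a closed fibre (lead)
-/

set_option autoImplicit false
set_option maxHeartbeats 400000
set_option linter.style.haveILetI false
set_option linter.unusedSectionVars false
set_option linter.unusedVariables false

universe u

namespace Groth.Agent.Lib.LeadFT

open TensorProduct MvPolynomial IsLocalRing Groth.Agent.Lib.Helper3.FlatLoc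
  Groth.Agent.Lib.Helper3.FlatDesc Groth.Agent.Lib.Helper3.FlatOpen

attribute [local instance] MvPolynomial.algebraMvPolynomial

section Lift

variable {R R' : Type u} [CommRing R] [CommRing R'] [Algebra R R'] (n : ℕ)

open Groth.Agent.Lib.T2H7.SyntB Groth.Agent.Lib.T2H7.KRegJ in
/-- primes of `R[x]` lift to primes of `R'[x]` containing a given prime of `R'` over the prime
below. -/
theorem exists_prime_mvPolynomial' (𝔓 : Ideal (MvPolynomial (Fin n) R)) [𝔓.IsPrime]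
    (𝔮 : Ideal R') [𝔮.IsPrime]
    (h : 𝔮.comap (algebraMap R R') = 𝔓.comap (algebraMap R (MvPolynomial (Fin n) R))) :
    ∃ 𝔔 : Ideal (MvPolynomial (Fin n) R'), 𝔔.IsPrime ∧
      𝔔.comap (MvPolynomial.map (algebraMap R R')) = 𝔓 ∧
      𝔮.map (C (σ := Fin n)) ≤ 𝔔 := by
  set 𝔭 : Ideal R := 𝔓.comap (algebraMap R (MvPolynomial (Fin n) R)) with h𝔭
  have h𝔭p : 𝔭.IsPrime := Ideal.comap_isPrime _ _
  obtain ⟨Q, hQ, hQ𝔓⟩ := exists_prime_comap 𝔭 n 𝔓 rfl
  let σ : 𝔭.ResidueField →+* 𝔮.ResidueField :=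
    Ideal.ResidueField.map 𝔭 𝔮 (algebraMap R R') h.symm
  have hσ : σ.comp (algebraMap R 𝔭.ResidueField) =
      (algebraMap R' 𝔮.ResidueField).comp (algebraMap R R') := by
    ext r
    exact Ideal.ResidueField.map_algebraMap 𝔭 𝔮 (algebraMap R R') h.symm r
  obtain ⟨Q', hQ', hQ'Q⟩ : ∃ Q' : Ideal (MvPolynomial (Fin n) 𝔮.ResidueField), Q'.IsPrime ∧
      Q'.comap (MvPolynomial.map σ) = Q := by
    let _ : Algebra 𝔭.ResidueField 𝔮.ResidueField := σ.toAlgebra
    let _ : Algebra (MvPolynomial (Fin n) 𝔭.ResidueField) (MvPolynomial (Fin n) 𝔮.ResidueField) :=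
      MvPolynomial.algebraMvPolynomial
    have hff := faithfullyFlat_mvPolynomial (R := 𝔭.ResidueField) (R' := 𝔮.ResidueField) n
    obtain ⟨Q', hQ', hlo⟩ := Ideal.exists_isPrime_liesOver_of_faithfullyFlat
      (B := MvPolynomial (Fin n) 𝔮.ResidueField) Q
    exact ⟨Q', hQ', hlo.over.symm⟩
  refine ⟨Q'.comap (MvPolynomial.map (algebraMap R' 𝔮.ResidueField)), Ideal.comap_isPrime _ _,
    ?_, ?_⟩
  · have e : (MvPolynomial.map (algebraMap R' 𝔮.ResidueField)).comp
        (MvPolynomial.map (algebraMap R R')) = (MvPolynomial.map σ).comp (ι 𝔭 n) := by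
      apply RingHom.ext
      intro x
      simp only [RingHom.comp_apply, ι, MvPolynomial.map_map, hσ]
    rw [Ideal.comap_comap, e, ← Ideal.comap_comap, hQ'Q]
    exact hQ𝔓
  · rw [Ideal.map_le_iff_le_comap]
    intro r hr
    rw [Ideal.mem_comap, Ideal.mem_comap, MvPolynomial.map_C,
      (Ideal.algebraMap_residueField_eq_zero).mpr hr, map_zero]
    exact Q'.zero_mem

end Lift

section Cover

variable {Λ : Type u} [CommRing Λ] [IsNoetherianRing Λ] {n k m : ℕ}
  (w : Fin m → Fin k → MvPolynomial (Fin n) Λ)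
  {R' : Type u} [CommRing R'] [Algebra Λ R']

/-- Step 2: a finitely generated subalgebra over which the model is flat at the images of all
primes in a closed fibre. -/
theorem exists_fg_subalgebra_closedFibre (𝔪' : Ideal R')
    (h : ∀ Q : PrimeSpectrum (MvPolynomial (Fin n) R'), 𝔪'.map (C (σ := Fin n)) ≤ Q.asIdeal →
      Module.Flat R' (LocalizedModule Q.asIdeal.primeCompl (Mod w R'))) :
    ∃ A : Subalgebra Λ R', A.FG ∧
      ∀ Q : PrimeSpectrum (MvPolynomial (Fin n) R'), 𝔪'.map (C (σ := Fin n)) ≤ Q.asIdeal →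
        Q ∈ VA w A := by
  classical
  have h1 : ∀ Q : PrimeSpectrum (MvPolynomial (Fin n) R'), ∃ A : Subalgebra Λ R', A.FG ∧
      (𝔪'.map (C (σ := Fin n)) ≤ Q.asIdeal → Q ∈ VA w A) := by
    intro Q
    by_cases hQ : 𝔪'.map (C (σ := Fin n)) ≤ Q.asIdeal
    · obtain ⟨A, hAfg, -, hA⟩ := exists_fg_subalgebra_flat w Q.asIdeal (h Q hQ) ∅
      exact ⟨A, hAfg, fun _ => hA⟩
    · exact ⟨⊥, Subalgebra.fg_bot, fun h => absurd h hQ⟩
  choose AQ hAQfg hAQ using h1
  have hZ : IsCompact (PrimeSpectrum.zeroLocus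
      ((𝔪'.map (C (σ := Fin n)) : Ideal (MvPolynomial (Fin n) R')) : Set (MvPolynomial (Fin n) R'))) :=
    (PrimeSpectrum.isClosed_zeroLocus _).isCompact
  obtain ⟨t, ht⟩ := hZ.elim_finite_subcover (fun Q => VA w (AQ Q))
    (fun Q => isOpen_VA w _ (hAQfg Q)) (fun Q hQ => Set.mem_iUnion.mpr ⟨Q, hAQ Q hQ⟩)
  refine ⟨t.sup AQ, fg_finset_sup t AQ hAQfg, fun Q hQ => ?_⟩
  obtain ⟨Q', hQ't, hQ'⟩ : ∃ Q' ∈ t, Q ∈ VA w (AQ Q') := by
    simpa using ht (show Q ∈ PrimeSpectrum.zeroLocus _ from hQ)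
  exact VA_mono w (Finset.le_sup hQ't) hQ'

/-- Step 3: flatness of the model over a local stage, at all primes of its closed fibre. -/
theorem flat_stage_of_VA [IsLocalRing R'] (A : Subalgebra Λ R')
    (hZ : ∀ Q : PrimeSpectrum (MvPolynomial (Fin n) R'),
      (maximalIdeal R').map (C (σ := Fin n)) ≤ Q.asIdeal → Q ∈ VA w A)
    {A₁ : Type u} [CommRing A₁] [IsLocalRing A₁] [Algebra Λ A₁] [Algebra A A₁] [Algebra A₁ R']
    [IsScalarTower Λ A A₁] [IsScalarTower A A₁ R']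
    (hloc : (maximalIdeal R').comap (algebraMap A₁ R') = maximalIdeal A₁)
    (q₁ : Ideal (MvPolynomial (Fin n) A₁)) [q₁.IsPrime]
    (hq₁ : q₁.comap (algebraMap A₁ (MvPolynomial (Fin n) A₁)) = maximalIdeal A₁) :
    Module.Flat A₁ (LocalizedModule q₁.primeCompl (Mod w A₁)) := by
  obtain ⟨𝔔, h𝔔, h𝔔q, h𝔔m⟩ := exists_prime_mvPolynomial' (R := A₁) (R' := R') n q₁
    (maximalIdeal R') (by rw [hloc, hq₁])
  have h1 := hZ ⟨𝔔, h𝔔⟩ h𝔔m
  haveI := isScalarTower_mvPolynomial (σ := Fin n) A A₁ R'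
  have h2 : 𝔔.comap (algebraMap (MvPolynomial (Fin n) A) (MvPolynomial (Fin n) R')) =
      q₁.comap (algebraMap (MvPolynomial (Fin n) A) (MvPolynomial (Fin n) A₁)) := by
    rw [← h𝔔q, Ideal.comap_comap, ← MvPolynomial.algebraMap_def, ← IsScalarTower.algebraMap_eq]
  apply flat_model_of_algebra (A := A) w q₁
  refine flat_localizedModule_of_le
    (T := (𝔔.comap (algebraMap (MvPolynomial (Fin n) A) (MvPolynomial (Fin n) R'))).primeCompl)
    ?_ h1
  intro s hs hmem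
  exact hs (h2 ▸ hmem)

end Cover

end Groth.Agent.Lib.LeadFT
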