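import Mathlib
import Groth.Agent.Lib.Helper7LeastIdeal
import Groth.Agent.Lib.Helper5LocalFlat3

/-!
# The flattening ideal over a complete Noetherian local ring (helper1, team 2)

Stacks, More on Flatness, "Flattening over a Noetherian complete local ring".
-/

set_option autoImplicit false
set_option linter.unusedSectionVars false
set_option linter.unusedVariables false
set_option linter.style.haveILetI false
set_option linter.deprecated false

universe u

namespace Groth.Agent.Lib.T2H1.FlatIdeal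

open IsLocalRing TensorProduct

/-! ### base change of quotient-flatness -/

section mono

variable {R : Type u} [CommRing R] (N : Type u) [AddCommGroup N] [Module R N]

/-- `Flat A' (A' ⊗[R] N)` from `Flat (R/L) ((R/L) ⊗[R] N)` when `L A' = 0`. -/
theorem flat_baseChange_of_flat_quotient (L : Ideal R)
    (h : Module.Flat (R ⧸ L) ((R ⧸ L) ⊗[R] N)) (A' : Type u) [CommRing A'] [Algebra R A']
    (hL : L ≤ RingHom.ker (algebraMap R A')) : Module.Flat A' (A' ⊗[R] N) := by
  letI : Algebra (R ⧸ L) A' := (Ideal.Quotient.lift L (algebraMap R A') hL).toAlgebra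
  haveI : IsScalarTower R (R ⧸ L) A' := IsScalarTower.of_algebraMap_eq fun x => rfl
  haveI : Module.Flat A' (A' ⊗[R ⧸ L] ((R ⧸ L) ⊗[R] N)) := inferInstance
  exact Module.Flat.of_linearEquiv
    (TensorProduct.AlgebraTensorModule.cancelBaseChange R (R ⧸ L) A' A' N).symm

theorem flat_quotient_mono {L L' : Ideal R} (hLL' : L ≤ L')
    (h : Module.Flat (R ⧸ L) ((R ⧸ L) ⊗[R] N)) : Module.Flat (R ⧸ L') ((R ⧸ L') ⊗[R] N) := by
  apply flat_baseChange_of_flat_quotient N L h
  rw [Ideal.Quotient.algebraMap_eq, Ideal.mk_ker]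
  exact hLL'

end mono

/-! ### flattening modulo a power of a maximal ideal -/

section art

variable {R : Type u} [CommRing R] (N : Type u) [AddCommGroup N] [Module R N]

/-- The universal flattening ideal of `N` modulo `𝔞 ^ n`, for a maximal ideal `𝔞`. -/
theorem exists_flattening_mod_pow (𝔞 : Ideal R) [𝔞.IsMaximal] (n : ℕ) (hn : 0 < n) :
    ∃ K : Ideal R, 𝔞 ^ n ≤ K ∧ ∀ (A' : Type u) [CommRing A'] [Algebra R A'],
      𝔞 ^ n ≤ RingHom.ker (algebraMap R A') →
        (Module.Flat A' (A' ⊗[R] N) ↔ K ≤ RingHom.ker (algebraMap R A')) := by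
  set A := R ⧸ 𝔞 ^ n with hA
  set J : Ideal A := 𝔞.map (Ideal.Quotient.mk (𝔞 ^ n)) with hJdef
  have hJnil : IsNilpotent J := by
    refine ⟨n, ?_⟩
    rw [hJdef, ← Ideal.map_pow, Ideal.zero_eq_bot, Ideal.map_quotient_self]
  haveI hJmax : J.IsMaximal := by
    apply Ideal.IsMaximal.map_of_surjective_of_ker_le Ideal.Quotient.mk_surjective
    rw [Ideal.mk_ker]
    exact Ideal.pow_le_self hn.ne'
  letI := Ideal.Quotient.field J
  have hfree : Module.Free (A ⧸ J) ((A ⧸ J) ⊗[A] (A ⊗[R] N)) := Module.Free.of_divisionRing _ _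
  obtain ⟨R₀, -, -, huniv⟩ := Helper7.LeastIdeal.exists_least_ideal (A ⊗[R] N) J hJnil hfree
  refine ⟨R₀.comap (Ideal.Quotient.mk (𝔞 ^ n)), ?_, ?_⟩
  · conv_lhs => rw [← Ideal.mk_ker (I := 𝔞 ^ n)]
    exact Ideal.comap_mono bot_le
  · intro A' _ _ hker
    letI : Algebra A A' := (Ideal.Quotient.lift (𝔞 ^ n) (algebraMap R A') hker).toAlgebra
    haveI : IsScalarTower R A A' := IsScalarTower.of_algebraMap_eq fun x => rfl
    have h1 := (huniv A').2
    have e := TensorProduct.AlgebraTensorModule.cancelBaseChange R A A' A' N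
    rw [Module.Flat.equiv_iff e] at h1
    rw [h1, Ideal.map_eq_bot_iff_le_ker]
    constructor
    · intro h x hx
      rw [RingHom.mem_ker, IsScalarTower.algebraMap_apply R A A']
      exact h hx
    · intro h y hy
      obtain ⟨x, rfl⟩ := Ideal.Quotient.mk_surjective y
      have := h (show x ∈ R₀.comap (Ideal.Quotient.mk (𝔞 ^ n)) from hy)
      rw [RingHom.mem_ker, IsScalarTower.algebraMap_apply R A A'] at this
      exact this

end art

/-! ### families of modules -/

section family

variable {R : Type u} [CommRing R] {ι : Type*} (N : ι → Type u) [∀ i, AddCommGroup (N i)]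
  [∀ i, Module R (N i)]

/-- `N i / L N i` is flat over `R / L` for all `i`. -/
def FlatMod (L : Ideal R) : Prop := ∀ i, Module.Flat (R ⧸ L) ((R ⧸ L) ⊗[R] N i)

variable {N} in
theorem FlatMod.mono {L L' : Ideal R} (h : FlatMod N L) (hLL' : L ≤ L') : FlatMod N L' :=
  fun i => flat_quotient_mono (N i) hLL' (h i)

theorem exists_level (𝔞 : Ideal R) [𝔞.IsMaximal] (n : ℕ) (hn : 0 < n) :
    ∃ K : Ideal R, 𝔞 ^ n ≤ K ∧ ∀ (A' : Type u) [CommRing A'] [Algebra R A'],
      𝔞 ^ n ≤ RingHom.ker (algebraMap R A') →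
        ((∀ i, Module.Flat A' (A' ⊗[R] N i)) ↔ K ≤ RingHom.ker (algebraMap R A')) := by
  choose K hK1 hK2 using fun i => exists_flattening_mod_pow (N i) 𝔞 n hn
  refine ⟨(⨆ i, K i) ⊔ 𝔞 ^ n, le_sup_right, fun A' _ _ hker => ?_⟩
  rw [sup_le_iff, iSup_le_iff]
  constructor
  · intro h
    exact ⟨fun i => (hK2 i A' hker).mp (h i), hker⟩
  · intro h i
    exact (hK2 i A' hker).mpr (h.1 i)

end family

/-! ### a compatible system of ideals in a complete local ring -/

section limit

variable {R : Type u} [CommRing R] [IsLocalRing R] [IsAdicComplete (maximalIdeal R) R]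

theorem le_iInf_sup_pow_of_compat (K : ℕ → Ideal R)
    (h1 : ∀ n, maximalIdeal R ^ (n + 1) ≤ K n)
    (h2 : ∀ n, K n ≤ K (n + 1) ⊔ maximalIdeal R ^ (n + 1))
    (h3 : Antitone K) (n : ℕ) :
    K n ≤ (⨅ m, K m) ⊔ maximalIdeal R ^ (n + 1) := by
  intro x hx
  have step : ∀ (m : ℕ) (y : R), y ∈ K m → ∃ y' ∈ K (m + 1), y - y' ∈ maximalIdeal R ^ (m + 1) := by
    intro m y hy
    obtain ⟨a, ha, b, hb, rfl⟩ := Submodule.mem_sup.mp (h2 m hy)
    exact ⟨a, ha, by simpa using hb⟩
  classical
  let nxt : ℕ → R → R := fun m y => if h : y ∈ K m then (step m y h).choose else y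
  let g : ℕ → R := fun m => Nat.rec x (fun m y => nxt (n + m) y) m
  have hg0 : g 0 = x := rfl
  have hgs : ∀ m, g (m + 1) = nxt (n + m) (g m) := fun m => rfl
  have hmem : ∀ m, g m ∈ K (n + m) := by
    intro m
    induction m with
    | zero => exact hx
    | succ m ih =>
      rw [hgs]
      simp only [nxt, dif_pos ih]
      exact (step (n + m) (g m) ih).choose_spec.1
  have hg : ∀ m, g m - g (m + 1) ∈ maximalIdeal R ^ (n + m + 1) := by
    intro m
    rw [hgs]
    simp only [nxt, dif_pos (hmem m)]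
    exact (step (n + m) (g m) (hmem m)).choose_spec.2
  have hC : ∀ m d, g m - g (m + d) ∈ maximalIdeal R ^ (n + m + 1) := by
    intro m d
    induction d with
    | zero => simp
    | succ d ih =>
      have h4 : g m - g (m + (d + 1)) = (g m - g (m + d)) + (g (m + d) - g (m + d + 1)) := by
        rw [← add_assoc]; ring
      rw [h4]
      refine Ideal.add_mem _ ih (Ideal.pow_le_pow_right (by omega) (hg (m + d)))
  obtain ⟨L, hL⟩ := IsPrecomplete.prec' (I := maximalIdeal R) g (by
    intro a b hab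
    rw [SModEq.sub_mem, smul_eq_mul, Ideal.mul_top]
    obtain ⟨d, rfl⟩ := Nat.exists_eq_add_of_le hab
    exact Ideal.pow_le_pow_right (by omega) (hC a d))
  have hL' : ∀ m, g m - L ∈ maximalIdeal R ^ (n + m + 1) := by
    intro m
    have h4 := hL (m + (n + m + 1))
    rw [SModEq.sub_mem, smul_eq_mul, Ideal.mul_top] at h4
    have h5 : g m - L = (g m - g (m + (n + m + 1))) + (g (m + (n + m + 1)) - L) := by
      ring
    rw [h5]
    exact Ideal.add_mem _ (hC m (n + m + 1)) (Ideal.pow_le_pow_right (by omega) h4)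
  have hLK : ∀ m, L ∈ K (n + m) := by
    intro m
    have h4 : L = g m - (g m - L) := by ring
    rw [h4]
    exact Ideal.sub_mem _ (hmem m) (h1 (n + m) (hL' m))
  have hLI : L ∈ ⨅ m, K m := by
    rw [Ideal.mem_iInf]
    intro j
    exact h3 (Nat.le_add_left j n) (hLK j)
  have h6 : x = L + (x - L) := by ring
  rw [h6]
  refine Ideal.add_mem _ (Ideal.mem_sup_left hLI) (Ideal.mem_sup_right ?_)
  have := hL' 0
  rwa [hg0] at this

end limit

/-! ### the flattening ideal of a family, assuming the local criterion -/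

section complete

variable {R : Type u} [CommRing R] [IsLocalRing R] [IsNoetherianRing R]
  [IsAdicComplete (maximalIdeal R) R] {ι : Type*} (N : ι → Type u) [∀ i, AddCommGroup (N i)]
  [∀ i, Module R (N i)]

theorem iInf_sup_pow_le (J : Ideal R) : (⨅ n : ℕ, J ⊔ maximalIdeal R ^ (n + 1)) ≤ J := by
  intro x hx
  rw [Ideal.mem_iInf] at hx
  have hH : IsHausdorff (maximalIdeal R) (R ⧸ J) := inferInstance
  rw [← Ideal.Quotient.eq_zero_iff_mem]
  apply hH.haus'
  intro n
  rw [SModEq.zero]
  obtain ⟨a, ha, b, hb, rfl⟩ := Submodule.mem_sup.mp (hx n)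
  rw [map_add, Ideal.Quotient.eq_zero_iff_mem.mpr ha, zero_add]
  have h1 : (Ideal.Quotient.mk J) b = b • (1 : R ⧸ J) := by
    rw [Algebra.smul_def, mul_one]; rfl
  rw [h1]
  exact Submodule.smul_mem_smul (Ideal.pow_le_pow_right (Nat.le_succ n) hb) Submodule.mem_top

theorem flatMod_maximalIdeal : FlatMod N (maximalIdeal R) := by
  intro i
  letI := Ideal.Quotient.field (maximalIdeal R)
  infer_instance

/-- **The flattening ideal.** -/
theorem exists_flatteningIdeal
    (hLC : ∀ I : Ideal R, I ≤ maximalIdeal R →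
      (∀ n : ℕ, FlatMod N (I ⊔ maximalIdeal R ^ (n + 1))) → FlatMod N I) :
    ∃ I : Ideal R, I ≤ maximalIdeal R ∧ FlatMod N I ∧ (∀ J : Ideal R, FlatMod N J → I ≤ J) ∧
      ∀ (n : ℕ) (A' : Type u) [CommRing A'] [Algebra R A'],
        maximalIdeal R ^ (n + 1) ≤ RingHom.ker (algebraMap R A') →
          ((∀ i, Module.Flat A' (A' ⊗[R] N i)) ↔ I ≤ RingHom.ker (algebraMap R A')) := by
  choose K hK1 hK2 using fun n : ℕ => exists_level N (maximalIdeal R) (n + 1) (Nat.succ_pos n)
  -- flatness modulo `L ⊇ 𝔪^(n+1)`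
  have hquot : ∀ (n : ℕ) (L : Ideal R), maximalIdeal R ^ (n + 1) ≤ L → (FlatMod N L ↔ K n ≤ L) := by
    intro n L hL
    have := hK2 n (R ⧸ L) (by rw [Ideal.Quotient.algebraMap_eq, Ideal.mk_ker]; exact hL)
    rw [Ideal.Quotient.algebraMap_eq, Ideal.mk_ker] at this
    exact this
  have hKflat : ∀ n, FlatMod N (K n) := fun n => (hquot n (K n) (hK1 n)).mpr le_rfl
  have hanti1 : ∀ n, K (n + 1) ≤ K n := by
    intro n
    exact (hquot (n + 1) (K n)
      ((Ideal.pow_le_pow_right (Nat.le_succ (n + 1))).trans (hK1 n))).mp (hKflat n)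
  have hanti : Antitone K := antitone_nat_of_succ_le hanti1
  have hcompat : ∀ n, K n ≤ K (n + 1) ⊔ maximalIdeal R ^ (n + 1) := by
    intro n
    exact (hquot n _ le_sup_right).mp ((hKflat (n + 1)).mono le_sup_left)
  set I : Ideal R := ⨅ m, K m with hI
  have hKI : ∀ n, K n = I ⊔ maximalIdeal R ^ (n + 1) := by
    intro n
    refine le_antisymm (le_iInf_sup_pow_of_compat K hK1 hcompat hanti n) ?_
    exact sup_le (iInf_le K n) (hK1 n)
  have hIm : I ≤ maximalIdeal R := by
    refine (iInf_le K 0).trans ?_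
    refine (hquot 0 (maximalIdeal R) (by rw [zero_add, pow_one])).mp (flatMod_maximalIdeal N)
  have hIflat : FlatMod N I := by
    apply hLC I hIm
    intro n
    rw [← hKI n]
    exact hKflat n
  refine ⟨I, hIm, hIflat, ?_, ?_⟩
  · intro J hJ
    refine le_trans ?_ (iInf_sup_pow_le J)
    refine le_iInf fun n => ?_
    refine (iInf_le K n).trans ?_
    exact (hquot n _ le_sup_right).mp (hJ.mono le_sup_left)
  · intro n A' _ _ hker
    rw [hK2 n A' hker, hKI n, sup_le_iff]
    exact ⟨fun h => h.1, fun h => ⟨h, hker⟩⟩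

end complete

/-! ### the local criterion of flatness, relative to an ideal -/

section lc

open LinearMap

variable {A : Type u} [CommRing A] (M : Type u) [AddCommGroup M] [Module A M]

/-- `M/IM` is flat over `A/I` iff `M ⊗ K → M ⊗ A/I` is injective for all ideals `K` of `A/I`. -/
theorem flat_quotient_iff_forall_injective (I : Ideal A) :
    Module.Flat (A ⧸ I) ((A ⧸ I) ⊗[A] M) ↔
      ∀ K : Ideal (A ⧸ I), Function.Injective (((K.restrictScalars A).subtype).lTensor M) := by
  refine ⟨fun h K =>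
    Helper5.lTensor_restrictScalars_subtype_injective_of_flat_baseChange (M := M) I h K, ?_⟩
  intro h
  rw [Module.Flat.iff_rTensor_injective']
  intro K
  have hg0 := h K
  rw [LinearMap.lTensor_inj_iff_rTensor_inj] at hg0
  let e₁ := TensorProduct.AlgebraTensorModule.cancelBaseChange A (A ⧸ I) (A ⧸ I) ↥K M
  let e₂ := TensorProduct.AlgebraTensorModule.cancelBaseChange A (A ⧸ I) (A ⧸ I) (A ⧸ I) M
  let g : ↥K ⊗[A] M →ₗ[A] (A ⧸ I) ⊗[A] M := rTensor M (K.subtype.restrictScalars A)
  have hsq : ∀ t, g (e₁ t) = e₂ (rTensor ((A ⧸ I) ⊗[A] M) K.subtype t) := by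
    intro t
    induction t with
    | zero => simp
    | add a b ha hb => rw [map_add, map_add, ha, hb, map_add, map_add]
    | tmul x y =>
      induction y with
      | zero => simp
      | add a b ha hb => rw [tmul_add, map_add, map_add, ha, hb, map_add, map_add]
      | tmul a m =>
        rw [rTensor_tmul]
        simp only [e₁, e₂, g, TensorProduct.AlgebraTensorModule.cancelBaseChange_tmul, rTensor_tmul]
        rfl
  intro t₁ t₂ ht
  apply e₁.injective
  apply hg0
  change g (e₁ t₁) = g (e₁ t₂)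
  rw [hsq, hsq, ht]

end lc

section lc2

open LinearMap

variable {A : Type u} {B : Type u} [CommRing A] [CommRing B] [Algebra A B]
  (M : Type u) [AddCommGroup M] [Module B M] [Module A M] [IsScalarTower A B M]

/-- Artin–Rees step: the image of `M ⊗ (X ∩ I^(n+k) Y)` in `M ⊗ X` lies in `(IB)^n (M ⊗ X)`. -/
theorem exists_lTensor_subtype_comap_pow_smul_mem [IsNoetherianRing A] (I : Ideal A)
    (Y : Type u) [AddCommGroup Y] [Module A Y] [Module.Finite A Y] (X : Submodule A Y) (n : ℕ) :
    ∃ k : ℕ, ∀ w : M ⊗[A] ↥(Submodule.comap X.subtype (I ^ (n + k) • ⊤ : Submodule A Y)),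
      ((Submodule.comap X.subtype (I ^ (n + k) • ⊤ : Submodule A Y)).subtype.lTensor M) w ∈
        ((I.map (algebraMap A B)) ^ n • ⊤ : Submodule B (M ⊗[A] X)) := by
  obtain ⟨k, hk⟩ := Ideal.exists_pow_inf_eq_pow_smul I X
  refine ⟨k, ?_⟩
  have hXn_le : Submodule.comap X.subtype (I ^ (n + k) • ⊤ : Submodule A Y) ≤
      I ^ n • (⊤ : Submodule A ↥X) := by
    intro y hy
    have hy' : (y : Y) ∈ I ^ (n + k) • (⊤ : Submodule A Y) ⊓ X := ⟨hy, y.2⟩
    rw [hk (n + k) (Nat.le_add_left k n), Nat.add_sub_cancel] at hy'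
    have h2 : I ^ n • (I ^ k • (⊤ : Submodule A Y) ⊓ X) ≤
        Submodule.map X.subtype (I ^ n • (⊤ : Submodule A ↥X)) := by
      rw [Submodule.map_smul'', Submodule.map_top, Submodule.range_subtype]
      exact Submodule.smul_mono le_rfl inf_le_right
    obtain ⟨y', hy'mem, hy'eq⟩ := h2 hy'
    have : y' = y := Subtype.ext hy'eq
    rw [← this]
    exact hy'mem
  intro w
  induction w with
  | zero => rw [map_zero]; exact Submodule.zero_mem _
  | add a b ha hb => rw [map_add]; exact Submodule.add_mem _ ha hb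
  | tmul m y =>
    rw [LinearMap.lTensor_tmul, Submodule.subtype_apply]
    have hy := hXn_le y.2
    refine Submodule.smul_induction_on hy ?_ ?_
    · intro c hc t _
      rw [TensorProduct.tmul_smul, ← algebraMap_smul B c (m ⊗ₜ[A] t)]
      refine Submodule.smul_mem_smul ?_ trivial
      rw [← Ideal.map_pow]
      exact Ideal.mem_map_of_mem _ hc
    · intro t₁ t₂ h₁ h₂
      rw [TensorProduct.tmul_add]
      exact Submodule.add_mem _ h₁ h₂

theorem factor_eq_zero_iff {I L : Ideal A} (hIL : I ≤ L) (𝔟 : Ideal A) (hL : L = I ⊔ 𝔟)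
    (y : A ⧸ I) :
    Ideal.Quotient.factor hIL y = 0 ↔ y ∈ (𝔟 • ⊤ : Submodule A (A ⧸ I)) := by
  constructor
  · intro hy
    obtain ⟨a, rfl⟩ := Ideal.Quotient.mk_surjective y
    rw [Ideal.Quotient.factor_mk, Ideal.Quotient.eq_zero_iff_mem, hL] at hy
    obtain ⟨i, hi, t, ht, rfl⟩ := Submodule.mem_sup.mp hy
    rw [map_add, Ideal.Quotient.eq_zero_iff_mem.mpr hi, zero_add]
    have h1 : (Ideal.Quotient.mk I) t = t • (1 : A ⧸ I) := by
      rw [Algebra.smul_def, mul_one]; rfl
    rw [h1]
    exact Submodule.smul_mem_smul ht Submodule.mem_top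
  · intro hy
    refine Submodule.smul_induction_on hy ?_ ?_
    · intro c hc t _
      obtain ⟨a, rfl⟩ := Ideal.Quotient.mk_surjective t
      rw [Algebra.smul_def, map_mul, Ideal.Quotient.algebraMap_eq, Ideal.Quotient.factor_mk,
        Ideal.Quotient.eq_zero_iff_mem.mpr (show c ∈ L by rw [hL]; exact Ideal.mem_sup_right hc),
        zero_mul]
    · intro t₁ t₂ h₁ h₂
      rw [map_add, h₁, h₂, add_zero]

/-- **Local criterion of flatness, relative to an ideal `I`.** -/
theorem flat_quotient_of_forall_flat_quotient_sup_pow [IsNoetherianRing A] [IsNoetherianRing B]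
    [Module.Finite B M] (𝔞 : Ideal A) (h𝔞 : 𝔞.map (algebraMap A B) ≤ (⊥ : Ideal B).jacobson)
    (I : Ideal A)
    (h : ∀ n : ℕ, Module.Flat (A ⧸ (I ⊔ 𝔞 ^ (n + 1))) ((A ⧸ (I ⊔ 𝔞 ^ (n + 1))) ⊗[A] M)) :
    Module.Flat (A ⧸ I) ((A ⧸ I) ⊗[A] M) := by
  rw [flat_quotient_iff_forall_injective]
  intro K
  set X : Submodule A (A ⧸ I) := K.restrictScalars A with hX
  rw [injective_iff_map_eq_zero]
  intro z hz
  haveI hXfin : Module.Finite A X := Module.Finite.of_fg (IsNoetherian.noetherian X)
  haveI hfinT : Module.Finite B (M ⊗[A] X) := Helper5.finite_tensorProduct_of_finite M X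
  have hKr := Ideal.iInf_pow_smul_eq_bot_of_le_jacobson (𝔞.map (algebraMap A B))
    (M := M ⊗[A] X) h𝔞
  suffices hz' : z ∈ (⨅ i : ℕ, (𝔞.map (algebraMap A B)) ^ i • ⊤ : Submodule B (M ⊗[A] X)) by
    rw [hKr] at hz'
    exact (Submodule.mem_bot B).mp hz'
  rw [Submodule.mem_iInf]
  intro n
  obtain ⟨k, hk⟩ := exists_lTensor_subtype_comap_pow_smul_mem (B := B) M 𝔞 (A ⧸ I) X n
  rcases Nat.eq_zero_or_pos (n + k) with h0 | hpos
  · have hn0 : n = 0 := by omega
    subst hn0
    rw [pow_zero, Ideal.one_eq_top, Submodule.top_smul]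
    trivial
  obtain ⟨j, hj⟩ : ∃ j, n + k = j + 1 := ⟨n + k - 1, by omega⟩
  rw [hj] at hk
  set L : Ideal A := I ⊔ 𝔞 ^ (j + 1) with hL
  have hIL : I ≤ L := le_sup_left
  set KL : Ideal (A ⧸ L) := K.map (Ideal.Quotient.factor hIL) with hKL
  let ρ : (A ⧸ I) →ₗ[A] (A ⧸ L) := (Ideal.Quotient.factorₐ A hIL).toLinearMap
  have hρ : ∀ y, ρ y = Ideal.Quotient.factor hIL y := fun y => rfl
  let π : ↥X →ₗ[A] ↥(KL.restrictScalars A) :=
    LinearMap.codRestrict (KL.restrictScalars A) (ρ ∘ₗ X.subtype)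
      (fun y => Ideal.mem_map_of_mem (Ideal.Quotient.factor hIL) y.2)
  have hπ : Function.Surjective π := by
    rintro ⟨x, hx⟩
    obtain ⟨y, hy, rfl⟩ := (Ideal.mem_map_iff_of_surjective (Ideal.Quotient.factor hIL)
      (Ideal.Quotient.factor_surjective hIL)).mp hx
    exact ⟨⟨y, hy⟩, rfl⟩
  have hex : Function.Exact
      (Submodule.comap X.subtype (𝔞 ^ (j + 1) • ⊤ : Submodule A (A ⧸ I))).subtype π := by
    intro y
    constructor
    · intro hy
      have h1 : Ideal.Quotient.factor hIL (y : A ⧸ I) = 0 := congrArg Subtype.val hy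
      rw [factor_eq_zero_iff hIL (𝔞 ^ (j + 1)) hL] at h1
      exact ⟨⟨y, h1⟩, rfl⟩
    · rintro ⟨y', rfl⟩
      apply Subtype.ext
      change Ideal.Quotient.factor hIL ((y' : X) : A ⧸ I) = 0
      rw [factor_eq_zero_iff hIL (𝔞 ^ (j + 1)) hL]
      exact y'.2
  have hcomm : (KL.restrictScalars A).subtype ∘ₗ π = ρ ∘ₗ X.subtype := by
    ext y
    rfl
  have hinj := (flat_quotient_iff_forall_injective M L).mp (h j) KL
  have h1 : (π.lTensor M) z = 0 := by
    apply hinj
    rw [map_zero, ← LinearMap.comp_apply, ← LinearMap.lTensor_comp, hcomm, LinearMap.lTensor_comp,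
      LinearMap.comp_apply, hz, map_zero]
  have hex2 := @lTensor_exact A
    ↥(Submodule.comap X.subtype (𝔞 ^ (j + 1) • ⊤ : Submodule A (A ⧸ I))) ↥X
    ↥(KL.restrictScalars A) _ _ _ _ _ _ _
    (Submodule.comap X.subtype (𝔞 ^ (j + 1) • ⊤ : Submodule A (A ⧸ I))).subtype π M _ _ hex hπ
  obtain ⟨w, rfl⟩ := (hex2 z).mp h1
  exact hk w

end lc2

/-! ### the flattening ideal for the localizations at the primes over the closed point -/

section final

variable (R S : Type u) [CommRing R] [IsLocalRing R] [IsNoetherianRing R]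
  [IsAdicComplete (maximalIdeal R) R] [CommRing S] [Algebra R S] [IsNoetherianRing S]
  (M : Type u) [AddCommGroup M] [Module S M] [Module R M] [IsScalarTower R S M]
  [Module.Finite S M]

omit [IsAdicComplete (maximalIdeal R) R] in
theorem map_maximalIdeal_le_jacobson_atPrime (q : Ideal S) [q.IsPrime]
    (hq : q.comap (algebraMap R S) = maximalIdeal R) :
    (maximalIdeal R).map (algebraMap R (Localization.AtPrime q)) ≤
      (⊥ : Ideal (Localization.AtPrime q)).jacobson := by
  rw [IsLocalRing.jacobson_eq_maximalIdeal ⊥ bot_ne_top, Ideal.map_le_iff_le_comap]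
  intro r hr
  rw [Ideal.mem_comap, IsScalarTower.algebraMap_apply R S (Localization.AtPrime q),
    IsLocalization.AtPrime.to_map_mem_maximal_iff (Localization.AtPrime q) q]
  rw [← hq] at hr
  exact hr

/-- the primes of `S` over the closed point of `R` -/
abbrev PrimesOver : Type u :=
  {q : Ideal S // q.IsPrime ∧ q.comap (algebraMap R S) = maximalIdeal R}

/-- the localization of `M` at a prime over the closed point -/
abbrev LocMod (q : PrimesOver R S) : Type u :=
  @LocalizedModule S _ (@Ideal.primeCompl S _ q.1 q.2.1) M _ _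

/-- **The flattening ideal of a finite module over a complete Noetherian local ring.** -/
theorem exists_flatteningIdeal_localized :
    ∃ I : Ideal R, I ≤ maximalIdeal R ∧
      (∀ (q : Ideal S) [q.IsPrime], q.comap (algebraMap R S) = maximalIdeal R →
        Module.Flat (R ⧸ I) ((R ⧸ I) ⊗[R] LocalizedModule q.primeCompl M)) ∧
      (∀ J : Ideal R, (∀ (q : Ideal S) [q.IsPrime],
        q.comap (algebraMap R S) = maximalIdeal R →
          Module.Flat (R ⧸ J) ((R ⧸ J) ⊗[R] LocalizedModule q.primeCompl M)) → I ≤ J) ∧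
      ∀ (n : ℕ) (A' : Type u) [CommRing A'] [Algebra R A'],
        maximalIdeal R ^ (n + 1) ≤ RingHom.ker (algebraMap R A') →
          ((∀ (q : Ideal S) [q.IsPrime], q.comap (algebraMap R S) = maximalIdeal R →
            Module.Flat A' (A' ⊗[R] LocalizedModule q.primeCompl M)) ↔
              I ≤ RingHom.ker (algebraMap R A')) := by
  have hLC : ∀ I : Ideal R, I ≤ maximalIdeal R →
      (∀ n : ℕ, FlatMod (LocMod R S M) (I ⊔ maximalIdeal R ^ (n + 1))) →
        FlatMod (LocMod R S M) I := by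
    intro I _ h q
    haveI := q.2.1
    exact flat_quotient_of_forall_flat_quotient_sup_pow (B := Localization.AtPrime q.1)
      (LocalizedModule q.1.primeCompl M) (maximalIdeal R)
      (map_maximalIdeal_le_jacobson_atPrime R S q.1 q.2.2) I (fun n => h n q)
  obtain ⟨I, hIm, hflat, hmin, huniv⟩ := exists_flatteningIdeal (LocMod R S M) hLC
  refine ⟨I, hIm, fun q hq hq' => hflat ⟨q, hq, hq'⟩, fun J hJ => hmin J ?_, ?_⟩
  · intro q
    haveI := q.2.1
    exact hJ q.1 q.2.2
  · intro n A' _ _ hker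
    rw [← huniv n A' hker]
    constructor
    · intro h q
      haveI := q.2.1
      exact h q.1 q.2.2
    · intro h q hq hq'
      exact h ⟨q, hq, hq'⟩

end final

end Groth.Agent.Lib.T2H1.FlatIdeal
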