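import Mathlib
import Groth.Agent.Lib.T2H1FlatIdeal

/-!
# Universality of the flattening ideal (helper1, team 2)

Kernel-torsion criteria for flatness of localizations, and the universality of the flattening
ideal of `T2H1FlatIdeal` for local homomorphisms to Noetherian local rings.
-/

set_option autoImplicit false
set_option linter.unusedSectionVars false
set_option linter.unusedVariables false
set_option linter.style.haveILetI false
set_option linter.deprecated false

universe u

namespace Groth.Agent.Lib.T2H1.FlatIdeal2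

open IsLocalRing TensorProduct LinearMap

/-! ### injectivity after localization as a kernel-torsion condition -/

section G0

variable {A : Type u} {B : Type u} [CommRing A] [CommRing B] [Algebra A B]
  {N N₁ : Type u} [AddCommGroup N] [Module B N] [Module A N] [IsScalarTower A B N]
  [AddCommGroup N₁] [Module B N₁] [Module A N₁] [IsScalarTower A B N₁]
  (T : Submonoid B)
  {X Y : Type u} [AddCommGroup X] [Module A X] [AddCommGroup Y] [Module A Y] (u : X →ₗ[A] Y)

/-- For a localization `h : N → N₁` at `T ⊆ B`, the map `N₁ ⊗ X → N₁ ⊗ Y` is injective iff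
every kernel element of `N ⊗ X → N ⊗ Y` is `T`-torsion. -/
theorem lTensor_injective_iff_forall_exists_smul_eq_zero (h : N →ₗ[B] N₁)
    [IsLocalizedModule T h] :
    Function.Injective (u.lTensor N₁) ↔
      ∀ z : N ⊗[A] X, u.lTensor N z = 0 → ∃ c : T, (c : B) • z = 0 := by
  have hmap := IsLocalizedModule.map_lTensor (R := A) (A := B) T u h
  constructor
  · intro hinj
    have hcomm : ∀ z : N ⊗[A] X, u.lTensor N₁ ((AlgebraTensorModule.rTensor A X h) z) =
        (AlgebraTensorModule.rTensor A Y h) (u.lTensor N z) := by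
      intro z
      induction z with
      | zero => simp
      | add a b ha hb => simp only [map_add, ha, hb]
      | tmul n x => simp
    intro z hz
    have h1 : u.lTensor N₁ ((AlgebraTensorModule.rTensor A X h) z) = 0 := by
      rw [hcomm, hz, map_zero]
    have h2 : (AlgebraTensorModule.rTensor A X h) z = 0 := hinj (by rw [h1, map_zero])
    exact (IsLocalizedModule.eq_zero_iff T (AlgebraTensorModule.rTensor A X h)).mp h2
  · intro hk
    rw [← AlgebraTensorModule.coe_lTensor (A := B), ← hmap, injective_iff_map_eq_zero]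
    intro y hy
    obtain ⟨⟨x, s⟩, hxs⟩ := IsLocalizedModule.surj T (AlgebraTensorModule.rTensor A X h) y
    have h1 : IsLocalizedModule.map T (AlgebraTensorModule.rTensor A X h)
        (AlgebraTensorModule.rTensor A Y h) (AlgebraTensorModule.lTensor B N u)
          (s • y) = 0 := by
      rw [Submonoid.smul_def, map_smul, hy, smul_zero]
    change s • y = _ at hxs
    rw [hxs, IsLocalizedModule.map_apply] at h1
    obtain ⟨t, ht⟩ := (IsLocalizedModule.eq_zero_iff T (AlgebraTensorModule.rTensor A Y h)).mp h1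
    have h2 : u.lTensor N ((t : B) • x) = 0 := by
      rw [← AlgebraTensorModule.coe_lTensor (A := B), map_smul]
      exact ht
    obtain ⟨c, hc⟩ := hk _ h2
    have h3 : (AlgebraTensorModule.rTensor A X h) x = 0 := by
      rw [IsLocalizedModule.eq_zero_iff T]
      refine ⟨c * t, ?_⟩
      rw [Submonoid.smul_def, Submonoid.coe_mul, mul_smul]
      exact hc
    rw [h3] at hxs
    exact IsLocalizedModule.smul_injective (AlgebraTensorModule.rTensor A X h) s
      (by simpa using hxs)

/-- Flatness over `A` of a localization `N₁` of `N` at `T ⊆ B`: kernel elements are `T`-torsion. -/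
theorem flat_iff_forall_exists_smul_eq_zero (h : N →ₗ[B] N₁) [IsLocalizedModule T h] :
    Module.Flat A N₁ ↔ ∀ (J : Ideal A) (z : N ⊗[A] J), J.subtype.lTensor N z = 0 →
      ∃ c : T, (c : B) • z = 0 := by
  rw [Module.Flat.iff_lTensor_injective']
  exact forall_congr' fun J =>
    lTensor_injective_iff_forall_exists_smul_eq_zero T J.subtype h

/-- Flatness over `A/𝔟` of `N₁/𝔟N₁` for a localization `N₁` of `N` at `T ⊆ B`. -/
theorem flat_quotient_iff_forall_exists_smul_eq_zero (h : N →ₗ[B] N₁) [IsLocalizedModule T h]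
    (𝔟 : Ideal A) :
    Module.Flat (A ⧸ 𝔟) ((A ⧸ 𝔟) ⊗[A] N₁) ↔
      ∀ (K : Ideal (A ⧸ 𝔟)) (z : N ⊗[A] ↥(K.restrictScalars A)),
        (K.restrictScalars A).subtype.lTensor N z = 0 → ∃ c : T, (c : B) • z = 0 := by
  rw [FlatIdeal.flat_quotient_iff_forall_injective]
  exact forall_congr' fun K =>
    lTensor_injective_iff_forall_exists_smul_eq_zero T (K.restrictScalars A).subtype h

end G0

/-! ### an element killed locally at all primes containing an ideal killing it is zero -/

theorem eq_zero_of_forall_prime_exists_smul_eq_zero {B : Type u} [CommRing B] {X : Type u}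
    [AddCommGroup X] [Module B X] (z : X) (𝔠 : Ideal B) (h𝔠 : ∀ b ∈ 𝔠, b • z = 0)
    (h : ∀ (𝔓 : Ideal B) [𝔓.IsPrime], 𝔠 ≤ 𝔓 → ∃ c : 𝔓.primeCompl, (c : B) • z = 0) : z = 0 := by
  set 𝔞 : Ideal B := LinearMap.ker (LinearMap.toSpanSingleton B X z) with h𝔞
  have hmem : ∀ b : B, b ∈ 𝔞 ↔ b • z = 0 := fun b => by
    rw [h𝔞, LinearMap.mem_ker, LinearMap.toSpanSingleton_apply]
  by_contra hz
  have hne : 𝔞 ≠ ⊤ := by
    intro htop
    have : (1 : B) ∈ 𝔞 := by rw [htop]; trivial
    rw [hmem, one_smul] at this
    exact hz this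
  obtain ⟨𝔓, h𝔓max, h𝔓⟩ := Ideal.exists_le_maximal 𝔞 hne
  haveI := h𝔓max.isPrime
  obtain ⟨c, hc⟩ := h 𝔓 (fun b hb => h𝔓 ((hmem b).mpr (h𝔠 b hb)))
  exact c.2 (h𝔓 ((hmem _).mpr hc))

/-! ### localizing a base-changed module -/

section H

variable {R S R' S' : Type u} [CommRing R] [CommRing S] [CommRing R'] [CommRing S']
  [Algebra R S] [Algebra R R'] [Algebra S S'] [Algebra R' S'] [Algebra R S']
  [IsScalarTower R S S'] [IsScalarTower R R' S'] [Algebra.IsPushout R S R' S']
  {M M' : Type u} [AddCommGroup M] [Module S M] [Module R M] [IsScalarTower R S M]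
  [AddCommGroup M'] [Module S' M'] [Module R' M'] [IsScalarTower R' S' M'] [Module S M']
  [IsScalarTower S S' M']
  (f : M →ₗ[S] M') (hf : IsBaseChange S' f) (T : Submonoid S)

/-- the localization map `M' → S' ⊗[S] T⁻¹M` -/
noncomputable def locMap : M' →ₗ[S'] S' ⊗[S] LocalizedModule T M :=
  (AlgebraTensorModule.lTensor S' S' (LocalizedModule.mkLinearMap T M)) ∘ₗ
    hf.equiv.symm.toLinearMap

omit [Algebra R S] [Algebra R R'] [Algebra R' S'] [Algebra R S'] [IsScalarTower R S S']
  [IsScalarTower R R' S'] [Algebra.IsPushout R S R' S'] [Module R M] [IsScalarTower R S M] in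
instance lTensor_isLocalizedModule :
    IsLocalizedModule T ((LocalizedModule.mkLinearMap T M).lTensor S') := by
  have h1 : IsLocalizedModule T
      (AlgebraTensorModule.rTensor S S' (LocalizedModule.mkLinearMap T M)) := inferInstance
  have h2 : (LocalizedModule.mkLinearMap T M).lTensor S' =
      (TensorProduct.comm S (LocalizedModule T M) S').toLinearMap ∘ₗ
        ((AlgebraTensorModule.rTensor S S' (LocalizedModule.mkLinearMap T M)) ∘ₗ
          (TensorProduct.comm S S' M).toLinearMap) := by
    ext a m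
    simp
  rw [h2]
  infer_instance

omit [Algebra R S] [Algebra R R'] [Algebra R' S'] [Algebra R S'] [IsScalarTower R S S']
  [IsScalarTower R R' S'] [Algebra.IsPushout R S R' S'] [Module R M] [IsScalarTower R S M]
  [Module R' M'] [IsScalarTower R' S' M'] in
instance locMap_isLocalizedModule :
    IsLocalizedModule (Algebra.algebraMapSubmonoid S' T) (locMap f hf T) := by
  haveI : IsLocalizedModule T ((locMap f hf T).restrictScalars S) := by
    have h2 : (locMap f hf T).restrictScalars S =
        ((LocalizedModule.mkLinearMap T M).lTensor S') ∘ₗ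
          (hf.equiv.symm.restrictScalars S).toLinearMap := by
      ext x
      rfl
    rw [h2]
    infer_instance
  exact IsLocalizedModule.of_restrictScalars T (locMap f hf T)

include f hf in
/-- `M'_{q'}` is `R'`-flat as soon as `R' ⊗ M_q` is, where `q = q' ∩ S`. -/
theorem flat_localizedModule_of_flat_baseChange (q' : Ideal S') [q'.IsPrime]
    (hflat : Module.Flat R'
      (R' ⊗[R] LocalizedModule (q'.comap (algebraMap S S')).primeCompl M)) :
    Module.Flat R' (LocalizedModule q'.primeCompl M') := by
  set T := (q'.comap (algebraMap S S')).primeCompl with hT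
  haveI : Algebra.IsPushout R R' S S' := Algebra.IsPushout.symm inferInstance
  have h1 : Module.Flat R' (S' ⊗[S] LocalizedModule T M) :=
    Module.Flat.of_linearEquiv
      (Algebra.IsPushout.cancelBaseChange R R' S S' (LocalizedModule T M))
  rw [flat_iff_forall_exists_smul_eq_zero (Algebra.algebraMapSubmonoid S' T)
    (locMap f hf T)] at h1
  rw [flat_iff_forall_exists_smul_eq_zero q'.primeCompl
    (LocalizedModule.mkLinearMap q'.primeCompl M')]
  intro J z hz
  obtain ⟨⟨c, hc⟩, hcz⟩ := h1 J z hz
  refine ⟨⟨c, ?_⟩, hcz⟩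
  obtain ⟨s, hs, rfl⟩ := hc
  exact hs

include f hf in
/-- If `M'` is `R'`-flat at all primes of `S'` containing `𝔟 S'`, then `(R'/𝔟) ⊗[R] T⁻¹M` is
flat over `R'/𝔟` for every submonoid `T` of `S`. -/
theorem flat_quotient_baseChange_of_flatAt (𝔟 : Ideal R')
    (h𝔟 : ∀ (𝔓 : Ideal S') [𝔓.IsPrime], 𝔟.map (algebraMap R' S') ≤ 𝔓 →
      Module.Flat R' (LocalizedModule 𝔓.primeCompl M')) :
    Module.Flat (R' ⧸ 𝔟) ((R' ⧸ 𝔟) ⊗[R] LocalizedModule T M) := by
  haveI : Algebra.IsPushout R R' S S' := Algebra.IsPushout.symm inferInstance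
  have h1 : Module.Flat (R' ⧸ 𝔟) ((R' ⧸ 𝔟) ⊗[R'] (S' ⊗[S] LocalizedModule T M)) := by
    rw [flat_quotient_iff_forall_exists_smul_eq_zero (Algebra.algebraMapSubmonoid S' T)
      (locMap f hf T) 𝔟]
    intro K z hz
    refine ⟨1, ?_⟩
    rw [OneMemClass.coe_one, one_smul]
    have hkill : ∀ r ∈ 𝔟, ∀ w : M' ⊗[R'] ↥(K.restrictScalars R'), r • w = 0 := by
      intro r hr w
      induction w with
      | zero => rw [smul_zero]
      | add a b ha hb => rw [smul_add, ha, hb, add_zero]
      | tmul m k =>
        have hk : r • k = 0 := by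
          apply Subtype.ext
          change r • (k : R' ⧸ 𝔟) = 0
          rw [Algebra.smul_def, Ideal.Quotient.algebraMap_eq,
            Ideal.Quotient.eq_zero_iff_mem.mpr hr, zero_mul]
        rw [TensorProduct.smul_tmul', TensorProduct.smul_tmul, hk, TensorProduct.tmul_zero]
    apply eq_zero_of_forall_prime_exists_smul_eq_zero z (𝔟.map (algebraMap R' S'))
    · have hle : 𝔟.map (algebraMap R' S') ≤
          LinearMap.ker (LinearMap.toSpanSingleton S' _ z) := by
        rw [Ideal.map_le_iff_le_comap]
        intro r hr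
        rw [Ideal.mem_comap, LinearMap.mem_ker, LinearMap.toSpanSingleton_apply,
          algebraMap_smul]
        exact hkill r hr z
      intro b hb
      have := hle hb
      rwa [LinearMap.mem_ker, LinearMap.toSpanSingleton_apply] at this
    · intro 𝔓 _ h𝔓
      haveI := h𝔟 𝔓 h𝔓
      have h2 : Module.Flat (R' ⧸ 𝔟) ((R' ⧸ 𝔟) ⊗[R'] LocalizedModule 𝔓.primeCompl M') :=
        inferInstance
      rw [flat_quotient_iff_forall_exists_smul_eq_zero 𝔓.primeCompl
        (LocalizedModule.mkLinearMap 𝔓.primeCompl M') 𝔟] at h2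
      exact h2 K z hz
  exact Module.Flat.of_linearEquiv
    ((TensorProduct.AlgebraTensorModule.cancelBaseChange R R' (R' ⧸ 𝔟) (R' ⧸ 𝔟)
      (LocalizedModule T M)).symm ≪≫ₗ
      TensorProduct.AlgebraTensorModule.congr (LinearEquiv.refl (R' ⧸ 𝔟) (R' ⧸ 𝔟))
        (Algebra.IsPushout.cancelBaseChange R R' S S' (LocalizedModule T M)).symm)

end H

/-! ### universality of the flattening ideal for Noetherian local targets -/

section main

variable {R S R' S' : Type u} [CommRing R] [IsLocalRing R] [IsNoetherianRing R]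
  [IsAdicComplete (maximalIdeal R) R] [CommRing S] [IsNoetherianRing S]
  [CommRing R'] [IsLocalRing R'] [IsNoetherianRing R'] [CommRing S']
  [Algebra R S] [Algebra R R'] [IsLocalHom (algebraMap R R')] [Algebra S S'] [Algebra R' S']
  [Algebra R S'] [IsScalarTower R S S'] [IsScalarTower R R' S'] [Algebra.IsPushout R S R' S']
  {M M' : Type u} [AddCommGroup M] [Module S M] [Module R M] [IsScalarTower R S M]
  [Module.Finite S M]
  [AddCommGroup M'] [Module S' M'] [Module R' M'] [IsScalarTower R' S' M'] [Module S M']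
  [IsScalarTower S S' M']

theorem flatAt_iff_le_ker (f : M →ₗ[S] M') (hf : IsBaseChange S' f) (I : Ideal R)
    (hIm : I ≤ maximalIdeal R)
    (hI : (∀ (q : Ideal S) [q.IsPrime], q.comap (algebraMap R S) = maximalIdeal R →
        Module.Flat (R ⧸ I) ((R ⧸ I) ⊗[R] LocalizedModule q.primeCompl M)))
    (hmin : ∀ J : Ideal R, (∀ (q : Ideal S) [q.IsPrime],
      q.comap (algebraMap R S) = maximalIdeal R →
        Module.Flat (R ⧸ J) ((R ⧸ J) ⊗[R] LocalizedModule q.primeCompl M)) → I ≤ J) :
    (∀ (q' : Ideal S') [q'.IsPrime], q'.comap (algebraMap R' S') = maximalIdeal R' →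
      Module.Flat R' (LocalizedModule q'.primeCompl M')) ↔
      I ≤ RingHom.ker (algebraMap R R') := by
  obtain ⟨I₀, hI₀m, hI₀flat, hI₀min, huniv⟩ := FlatIdeal.exists_flatteningIdeal_localized R S M
  have hII₀ : I = I₀ := le_antisymm (hmin I₀ hI₀flat) (hI₀min I hI)
  subst hII₀
  constructor
  · intro hflat x hx
    rw [RingHom.mem_ker]
    have hbot := Ideal.iInf_pow_eq_bot_of_isLocalRing (maximalIdeal R')
      (Ideal.IsPrime.ne_top inferInstance)
    have hmem : algebraMap R R' x ∈ ⨅ n : ℕ, maximalIdeal R' ^ n := by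
      rw [Ideal.mem_iInf]
      intro n
      apply Ideal.pow_le_pow_right (Nat.le_succ n)
      set 𝔟 : Ideal R' := maximalIdeal R' ^ (n + 1) with h𝔟
      have hker : maximalIdeal R ^ (n + 1) ≤ RingHom.ker (algebraMap R (R' ⧸ 𝔟)) := by
        intro r hr
        rw [RingHom.mem_ker, IsScalarTower.algebraMap_apply R R' (R' ⧸ 𝔟),
          Ideal.Quotient.algebraMap_eq, Ideal.Quotient.eq_zero_iff_mem, h𝔟]
        have h1 : algebraMap R R' r ∈ (maximalIdeal R ^ (n + 1)).map (algebraMap R R') :=
          Ideal.mem_map_of_mem _ hr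
        rw [Ideal.map_pow] at h1
        exact Ideal.pow_right_mono (IsLocalRing.map_maximalIdeal_le (algebraMap R R')) _ h1
      have h2 := (huniv n (R' ⧸ 𝔟) hker).mp (fun q _ hq =>
        flat_quotient_baseChange_of_flatAt f hf q.primeCompl 𝔟 (fun 𝔓 _ h𝔓 => by
          apply hflat 𝔓
          have hle : maximalIdeal R' ≤ 𝔓.comap (algebraMap R' S') := by
            have h3 : maximalIdeal R' ^ (n + 1) ≤ 𝔓.comap (algebraMap R' S') := by
              rw [← Ideal.map_le_iff_le_comap]
              exact h𝔓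
            exact Ideal.IsPrime.le_of_pow_le h3
          exact ((maximalIdeal.isMaximal R').eq_of_le (Ideal.IsPrime.ne_top inferInstance)
            hle).symm))
      have h3 := h2 hx
      rw [RingHom.mem_ker, IsScalarTower.algebraMap_apply R R' (R' ⧸ 𝔟),
        Ideal.Quotient.algebraMap_eq, Ideal.Quotient.eq_zero_iff_mem] at h3
      exact h3
    rw [hbot] at hmem
    exact hmem
  · intro hker q' _ hq'
    apply flat_localizedModule_of_flat_baseChange (R := R) f hf q'
    apply FlatIdeal.flat_baseChange_of_flat_quotient _ I _ R' hker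
    apply hI₀flat
    rw [Ideal.comap_comap, ← IsScalarTower.algebraMap_eq, IsScalarTower.algebraMap_eq R R' S',
      ← Ideal.comap_comap, hq', IsLocalRing.maximalIdeal_comap]

end main

end Groth.Agent.Lib.T2H1.FlatIdeal2
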