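import Mathlib
import Groth.Agent.Lib.LeadFTc
import Groth.Agent.Lib.T2H1FlatIdeal2

/-!
# Universality of the flattening ideal for arbitrary local targets, finite type case (lead)
-/

set_option autoImplicit false
set_option maxHeartbeats 400000
set_option linter.style.haveILetI false
set_option linter.unusedSectionVars false
set_option linter.unusedVariables false

universe u

namespace Groth.Agent.Lib.LeadFT

open TensorProduct MvPolynomial IsLocalRing Groth.Agent.Lib.Helper3.FlatLoc
  Groth.Agent.Lib.Helper3.FlatDesc Groth.Agent.Lib.Helper3.FlatOpen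

attribute [local instance] MvPolynomial.algebraMvPolynomial

/-- A finitely presented module is a presented module. -/
theorem exists_model₀ {T₀ : Type u} [CommRing T₀] (M : Type u) [AddCommGroup M] [Module T₀ M]
    [Module.FinitePresentation T₀ M] :
    ∃ (k m : ℕ) (w : Fin m → Fin k → T₀), Nonempty (((Fin k → T₀) ⧸ KT w T₀) ≃ₗ[T₀] M) := by
  classical
  obtain ⟨k, m, π, g, hπ, hex⟩ := Module.FinitePresentation.exists_fin' T₀ M
  let v : Fin m → Fin k → T₀ := fun j => g (Pi.single j 1)
  have hwT : wT v T₀ = v := by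
    ext j i : 2
    rfl
  have hg : WT v T₀ = g := by
    apply LinearMap.ext
    intro a
    rw [WT_apply, hwT, LinearMap.pi_apply_eq_sum_univ g a]
    refine Finset.sum_congr rfl fun j _ => ?_
    have hsingle : (Pi.single j 1 : Fin m → T₀) = fun j' => if j = j' then 1 else 0 := by
      funext j'
      simp [Pi.single_apply, eq_comm]
    change a j • g (Pi.single j 1) = _
    rw [hsingle]
  have hK : KT v T₀ = LinearMap.ker π := by
    rw [KT, hg]
    exact (LinearMap.exact_iff.mp hex).symm
  exact ⟨k, m, v,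
    ⟨(Submodule.quotEquivOfEq _ _ hK) ≪≫ₗ (LinearMap.quotKerEquivOfSurjective π hπ)⟩⟩

section Surj

variable {Λ S R' S' : Type u} [CommRing Λ] [CommRing S] [CommRing R'] [CommRing S']
  [Algebra Λ S] [Algebra Λ R'] [Algebra S S'] [Algebra R' S'] [Algebra Λ S']
  [IsScalarTower Λ S S'] [IsScalarTower Λ R' S'] [Algebra.IsPushout Λ S R' S']

/-- A presentation of `S` over `Λ` induces a presentation of the pushout `S'` over `R'`. -/
theorem aeval_surjective_of_isPushout {n : ℕ} (π : MvPolynomial (Fin n) Λ →ₐ[Λ] S)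
    (hπ : Function.Surjective π) :
    Function.Surjective (MvPolynomial.aeval (R := R') (fun i => algebraMap S S' (π (X i)))) := by
  set π' : MvPolynomial (Fin n) R' →ₐ[R'] S' :=
    MvPolynomial.aeval (fun i => algebraMap S S' (π (X i))) with hπ'
  have hcomp : ∀ p : MvPolynomial (Fin n) Λ,
      π' (MvPolynomial.map (algebraMap Λ R') p) = algebraMap S S' (π p) := by
    intro p
    induction p using MvPolynomial.induction_on with
    | C a =>
      rw [MvPolynomial.map_C, hπ', MvPolynomial.aeval_C, ← MvPolynomial.algebraMap_eq,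
        AlgHom.commutes, ← IsScalarTower.algebraMap_apply, ← IsScalarTower.algebraMap_apply]
    | add p q hp hq => rw [map_add, map_add, map_add, map_add, hp, hq]
    | mul_X p i hp =>
      rw [map_mul, map_mul, map_mul, map_mul, hp, MvPolynomial.map_X, hπ', MvPolynomial.aeval_X]
  have hpo : IsBaseChange S (IsScalarTower.toAlgHom Λ R' S').toLinearMap :=
    Algebra.IsPushout.out
  intro x
  refine hpo.inductionOn x (fun x => x ∈ Set.range π') ⟨0, map_zero _⟩ ?_ ?_ ?_
  · intro r
    exact ⟨C r, by rw [hπ', MvPolynomial.aeval_C]; rfl⟩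
  · rintro s _ ⟨y, rfl⟩
    obtain ⟨p, rfl⟩ := hπ s
    refine ⟨MvPolynomial.map (algebraMap Λ R') p * y, ?_⟩
    rw [map_mul, hcomp, Algebra.smul_def]
  · rintro _ _ ⟨y₁, rfl⟩ ⟨y₂, rfl⟩
    exact ⟨y₁ + y₂, map_add _ _ _⟩

end Surj

section Stage

variable {R : Type u} [CommRing R] [IsLocalRing R] [IsNoetherianRing R]
  [IsAdicComplete (maximalIdeal R) R] {n k m : ℕ} (w : Fin m → Fin k → MvPolynomial (Fin n) R)
  {A₁ : Type u} [CommRing A₁] [IsLocalRing A₁] [IsNoetherianRing A₁] [Algebra R A₁]
  [IsLocalHom (algebraMap R A₁)]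

/-- Step 4: the Noetherian local case, for the polynomial model. -/
theorem le_ker_of_flat_stage (I : Ideal R) (hIm : I ≤ maximalIdeal R)
    (hI : ∀ (Q : Ideal (MvPolynomial (Fin n) R)) [Q.IsPrime],
        Q.comap (algebraMap R (MvPolynomial (Fin n) R)) = maximalIdeal R →
        Module.Flat (R ⧸ I) ((R ⧸ I) ⊗[R] LocalizedModule Q.primeCompl (Mod₀ w)))
    (hmin : ∀ J : Ideal R, (∀ (Q : Ideal (MvPolynomial (Fin n) R)) [Q.IsPrime],
        Q.comap (algebraMap R (MvPolynomial (Fin n) R)) = maximalIdeal R →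
        Module.Flat (R ⧸ J) ((R ⧸ J) ⊗[R] LocalizedModule Q.primeCompl (Mod₀ w))) → I ≤ J)
    (h3 : ∀ (q₁ : Ideal (MvPolynomial (Fin n) A₁)) [q₁.IsPrime],
      q₁.comap (algebraMap A₁ (MvPolynomial (Fin n) A₁)) = maximalIdeal A₁ →
      Module.Flat A₁ (LocalizedModule q₁.primeCompl (Mod w A₁))) :
    I ≤ RingHom.ker (algebraMap R A₁) :=
  (Groth.Agent.Lib.T2H1.FlatIdeal2.flatAt_iff_le_ker (R := R)
    (S := MvPolynomial (Fin n) R) (R' := A₁) (S' := MvPolynomial (Fin n) A₁)
    (Mmap w (MvPolynomial (Fin n) R) (MvPolynomial (Fin n) A₁))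
    (isBaseChange_Mmap w _ _) I hIm hI hmin).mp h3

end Stage

section main

variable {R S R' S' : Type u} [CommRing R] [IsLocalRing R] [IsNoetherianRing R]
  [IsAdicComplete (maximalIdeal R) R] [CommRing S]
  [CommRing R'] [IsLocalRing R'] [CommRing S']
  [Algebra R S] [Algebra.FiniteType R S] [Algebra R R'] [IsLocalHom (algebraMap R R')]
  [Algebra S S'] [Algebra R' S']
  [Algebra R S'] [IsScalarTower R S S'] [IsScalarTower R R' S'] [Algebra.IsPushout R S R' S']
  {M M' : Type u} [AddCommGroup M] [Module S M] [Module R M] [IsScalarTower R S M]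
  [Module.Finite S M]
  [AddCommGroup M'] [Module S' M'] [Module R' M'] [IsScalarTower R' S' M'] [Module S M']
  [IsScalarTower S S' M']

theorem le_ker_of_flatAt (f : M →ₗ[S] M') (hf : IsBaseChange S' f) (I : Ideal R)
    (hIm : I ≤ maximalIdeal R)
    (hI : (∀ (q : Ideal S) [q.IsPrime], q.comap (algebraMap R S) = maximalIdeal R →
        Module.Flat (R ⧸ I) ((R ⧸ I) ⊗[R] LocalizedModule q.primeCompl M)))
    (hmin : ∀ J : Ideal R, (∀ (q : Ideal S) [q.IsPrime],
      q.comap (algebraMap R S) = maximalIdeal R →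
        Module.Flat (R ⧸ J) ((R ⧸ J) ⊗[R] LocalizedModule q.primeCompl M)) → I ≤ J)
    (hflat : ∀ (q' : Ideal S') [q'.IsPrime], q'.comap (algebraMap R' S') = maximalIdeal R' →
      Module.Flat R' (LocalizedModule q'.primeCompl M')) :
    I ≤ RingHom.ker (algebraMap R R') := by
  haveI : IsNoetherianRing S := Algebra.FiniteType.isNoetherianRing R S
  obtain ⟨n, π, hπ⟩ := Algebra.FiniteType.iff_quotient_mvPolynomial''.mp
    (inferInstance : Algebra.FiniteType R S)
  -- the presentation of `S`
  letI : Algebra (MvPolynomial (Fin n) R) S := π.toRingHom.toAlgebra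
  haveI : IsScalarTower R (MvPolynomial (Fin n) R) S :=
    IsScalarTower.of_algebraMap_eq' π.comp_algebraMap.symm
  have hπs : Function.Surjective (algebraMap (MvPolynomial (Fin n) R) S) := hπ
  letI : Module (MvPolynomial (Fin n) R) M := Module.compHom M (algebraMap (MvPolynomial (Fin n) R) S)
  haveI : IsScalarTower (MvPolynomial (Fin n) R) S M :=
    IsScalarTower.of_algebraMap_smul fun _ _ => rfl
  haveI : IsScalarTower R (MvPolynomial (Fin n) R) M :=
    isScalarTower_of_forall_smul (Z := S) (fun x m => (algebraMap_smul S x m).symm)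
  haveI : Module.Finite (MvPolynomial (Fin n) R) S :=
    Module.Finite.of_surjective (Algebra.linearMap (MvPolynomial (Fin n) R) S) hπs
  haveI : Module.Finite (MvPolynomial (Fin n) R) M := Module.Finite.trans S M
  haveI : Module.FinitePresentation (MvPolynomial (Fin n) R) M :=
    Module.finitePresentation_of_finite (MvPolynomial (Fin n) R) M
  obtain ⟨k, m, w, ⟨e⟩⟩ := exists_model₀ (T₀ := MvPolynomial (Fin n) R) M
  -- the presentation of `S'`
  let π' : MvPolynomial (Fin n) R' →ₐ[R'] S' :=
    MvPolynomial.aeval (fun i => algebraMap S S' (π (X i)))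
  have hπ' : Function.Surjective π' := aeval_surjective_of_isPushout (Λ := R) π hπ
  letI : Algebra (MvPolynomial (Fin n) R') S' := π'.toRingHom.toAlgebra
  haveI : IsScalarTower R' (MvPolynomial (Fin n) R') S' :=
    IsScalarTower.of_algebraMap_eq' π'.comp_algebraMap.symm
  have hπ's : Function.Surjective (algebraMap (MvPolynomial (Fin n) R') S') := hπ'
  letI : Algebra (MvPolynomial (Fin n) R) S' :=
    ((algebraMap S S').comp (algebraMap (MvPolynomial (Fin n) R) S)).toAlgebra
  haveI : IsScalarTower (MvPolynomial (Fin n) R) S S' := IsScalarTower.of_algebraMap_eq' rfl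
  haveI : IsScalarTower (MvPolynomial (Fin n) R) (MvPolynomial (Fin n) R') S' := by
    refine IsScalarTower.of_algebraMap_eq' ?_
    apply MvPolynomial.ringHom_ext
    · intro r
      change algebraMap S S' (π (C r)) = π' (MvPolynomial.map (algebraMap R R') (C r))
      rw [MvPolynomial.map_C, MvPolynomial.aeval_C, ← MvPolynomial.algebraMap_eq,
        AlgHom.commutes, ← IsScalarTower.algebraMap_apply, ← IsScalarTower.algebraMap_apply]
    · intro i
      change algebraMap S S' (π (X i)) = π' (MvPolynomial.map (algebraMap R R') (X i))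
      rw [MvPolynomial.map_X, MvPolynomial.aeval_X]
  haveI : IsScalarTower R (MvPolynomial (Fin n) R) S' := by
    refine IsScalarTower.of_algebraMap_eq' ?_
    rw [IsScalarTower.algebraMap_eq R S S', IsScalarTower.algebraMap_eq R (MvPolynomial (Fin n) R) S,
      ← RingHom.comp_assoc]
    rfl
  letI : Module (MvPolynomial (Fin n) R') M' :=
    Module.compHom M' (algebraMap (MvPolynomial (Fin n) R') S')
  haveI : IsScalarTower (MvPolynomial (Fin n) R') S' M' :=
    IsScalarTower.of_algebraMap_smul fun _ _ => rfl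
  haveI : IsScalarTower R' (MvPolynomial (Fin n) R') M' :=
    isScalarTower_of_forall_smul (Z := S') (fun x m => (algebraMap_smul S' x m).symm)
  letI : Module (MvPolynomial (Fin n) R) M' :=
    Module.compHom M' (algebraMap (MvPolynomial (Fin n) R) S')
  haveI : IsScalarTower (MvPolynomial (Fin n) R) S' M' :=
    IsScalarTower.of_algebraMap_smul fun _ _ => rfl
  haveI : IsScalarTower (MvPolynomial (Fin n) R) S M' :=
    isScalarTower_of_forall_smul (Z := S') (fun _ _ => rfl)
  haveI : IsScalarTower (MvPolynomial (Fin n) R) (MvPolynomial (Fin n) R') M' :=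
    isScalarTower_of_forall_smul (Z := S') (fun _ _ => rfl)
  letI : Module R M' := Module.compHom M' (algebraMap R S')
  haveI : IsScalarTower R S' M' := IsScalarTower.of_algebraMap_smul fun _ _ => rfl
  haveI : IsScalarTower R R' M' := isScalarTower_of_forall_smul (Z := S') (fun _ _ => rfl)
  haveI : IsScalarTower R S M' := isScalarTower_of_forall_smul (Z := S') (fun _ _ => rfl)
  haveI : IsScalarTower R (MvPolynomial (Fin n) R) M' :=
    isScalarTower_of_forall_smul (Z := S') (fun _ _ => rfl)
  -- Step 1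
  have h1 : ∀ (Q : Ideal (MvPolynomial (Fin n) R')) [Q.IsPrime],
      Q.comap (algebraMap R' (MvPolynomial (Fin n) R')) = maximalIdeal R' →
      Module.Flat R' (LocalizedModule Q.primeCompl (Mod w R')) := fun Q _ hQ =>
    flat_model_of_flatAt (Λ := R) f hf w e hπ's (maximalIdeal R') hflat Q hQ
  -- Step 2
  have hcm : ∀ Q : PrimeSpectrum (MvPolynomial (Fin n) R'),
      (maximalIdeal R').map (C (σ := Fin n)) ≤ Q.asIdeal →
      Q.asIdeal.comap (algebraMap R' (MvPolynomial (Fin n) R')) = maximalIdeal R' := by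
    intro Q hQ
    refine ((maximalIdeal.isMaximal R').eq_of_le (Ideal.IsPrime.ne_top inferInstance) ?_).symm
    rw [← Ideal.map_le_iff_le_comap, MvPolynomial.algebraMap_eq]
    exact hQ
  obtain ⟨A, hAfg, hA⟩ := exists_fg_subalgebra_closedFibre w (maximalIdeal R')
    (fun Q hQ => h1 Q.asIdeal (hcm Q hQ))
  -- the Noetherian local stage
  haveI : Algebra.FiniteType R A := (Subalgebra.fg_iff_finiteType A).mp hAfg
  haveI : IsNoetherianRing A := Algebra.FiniteType.isNoetherianRing R A
  set 𝔭 : Ideal A := (maximalIdeal R').comap (algebraMap A R') with h𝔭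
  haveI : 𝔭.IsPrime := Ideal.comap_isPrime _ _
  have hunit : ∀ y : 𝔭.primeCompl, IsUnit (algebraMap A R' y) := by
    intro y
    by_contra hy
    exact y.2 ((mem_maximalIdeal _).mpr hy)
  letI : Algebra (Localization.AtPrime 𝔭) R' :=
    (IsLocalization.lift (M := 𝔭.primeCompl) (S := Localization.AtPrime 𝔭) hunit).toAlgebra
  haveI : IsScalarTower A (Localization.AtPrime 𝔭) R' :=
    IsScalarTower.of_algebraMap_eq' (IsLocalization.lift_comp hunit).symm
  haveI : IsScalarTower R (Localization.AtPrime 𝔭) R' := by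
    refine IsScalarTower.of_algebraMap_eq' ?_
    rw [IsScalarTower.algebraMap_eq R A R', IsScalarTower.algebraMap_eq A (Localization.AtPrime 𝔭) R',
      RingHom.comp_assoc, ← IsScalarTower.algebraMap_eq R A (Localization.AtPrime 𝔭)]
  have hloc : (maximalIdeal R').comap (algebraMap (Localization.AtPrime 𝔭) R') =
      maximalIdeal (Localization.AtPrime 𝔭) := by
    rw [← IsLocalization.AtPrime.map_eq_maximalIdeal 𝔭 (Localization.AtPrime 𝔭),
      ← IsLocalization.map_under 𝔭.primeCompl (Localization.AtPrime 𝔭)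
        ((maximalIdeal R').comap (algebraMap (Localization.AtPrime 𝔭) R'))]
    congr 1
    rw [Ideal.under, Ideal.comap_comap, ← IsScalarTower.algebraMap_eq]
  haveI : IsLocalHom (algebraMap R (Localization.AtPrime 𝔭)) := by
    haveI : IsLocalHom ((algebraMap (Localization.AtPrime 𝔭) R').comp
        (algebraMap R (Localization.AtPrime 𝔭))) := by
      rw [← IsScalarTower.algebraMap_eq]
      infer_instance
    exact isLocalHom_of_comp _ (algebraMap (Localization.AtPrime 𝔭) R')
  haveI : IsNoetherianRing (Localization.AtPrime 𝔭) :=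
    IsLocalization.isNoetherianRing 𝔭.primeCompl _ inferInstance
  -- Step 3
  have h3 : ∀ (q₁ : Ideal (MvPolynomial (Fin n) (Localization.AtPrime 𝔭))) [q₁.IsPrime],
      q₁.comap (algebraMap (Localization.AtPrime 𝔭)
        (MvPolynomial (Fin n) (Localization.AtPrime 𝔭))) = maximalIdeal (Localization.AtPrime 𝔭) →
      Module.Flat (Localization.AtPrime 𝔭)
        (LocalizedModule q₁.primeCompl (Mod w (Localization.AtPrime 𝔭))) := fun q₁ _ hq₁ =>
    flat_stage_of_VA w A hA hloc q₁ hq₁
  -- Step 4
  have h4 := le_ker_of_flat_stage w (A₁ := Localization.AtPrime 𝔭) I hIm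
    (fun Q _ hQ => (flatCond_iff (Λ := R) w e hπs (maximalIdeal R) I).mp hI Q hQ)
    (fun J hJ => hmin J ((flatCond_iff (Λ := R) w e hπs (maximalIdeal R) J).mpr hJ)) h3
  intro x hx
  have hx1 := h4 hx
  rw [RingHom.mem_ker] at hx1 ⊢
  rw [IsScalarTower.algebraMap_apply R (Localization.AtPrime 𝔭) R', hx1, map_zero]

/-- **Universality of the flattening ideal for arbitrary local targets** (finite type case). -/
theorem flatAt_iff_le_ker_of_finiteType (f : M →ₗ[S] M') (hf : IsBaseChange S' f) (I : Ideal R)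
    (hIm : I ≤ maximalIdeal R)
    (hI : (∀ (q : Ideal S) [q.IsPrime], q.comap (algebraMap R S) = maximalIdeal R →
        Module.Flat (R ⧸ I) ((R ⧸ I) ⊗[R] LocalizedModule q.primeCompl M)))
    (hmin : ∀ J : Ideal R, (∀ (q : Ideal S) [q.IsPrime],
      q.comap (algebraMap R S) = maximalIdeal R →
        Module.Flat (R ⧸ J) ((R ⧸ J) ⊗[R] LocalizedModule q.primeCompl M)) → I ≤ J) :
    (∀ (q' : Ideal S') [q'.IsPrime], q'.comap (algebraMap R' S') = maximalIdeal R' →
      Module.Flat R' (LocalizedModule q'.primeCompl M')) ↔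
      I ≤ RingHom.ker (algebraMap R R') := by
  constructor
  · exact le_ker_of_flatAt f hf I hIm hI hmin
  · intro hker q' _ hq'
    apply Groth.Agent.Lib.T2H1.FlatIdeal2.flat_localizedModule_of_flat_baseChange (R := R) f hf q'
    apply Groth.Agent.Lib.T2H1.FlatIdeal.flat_baseChange_of_flat_quotient _ I _ R' hker
    apply hI
    rw [Ideal.comap_comap, ← IsScalarTower.algebraMap_eq, IsScalarTower.algebraMap_eq R R' S',
      ← Ideal.comap_comap, hq', IsLocalRing.maximalIdeal_comap]

end main

end Groth.Agent.Lib.LeadFT
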