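import Mathlib

/-!
# Jointly injective families and nilpotent ideals with free graded pieces (helper3)

Ring-level form of EGA IV 11.9.x: `J ⊆ A` nilpotent with `(A/J) ⊗ J^k` free over `A/J`, `u i : M → N i`
with `N i` flat over `A`. If the reductions `M/JM → N i/J N i` are jointly injective, so are the `u i`.
-/

set_option autoImplicit false
set_option linter.style.haveILetI false

universe u

namespace Groth.Agent.Lib.T2H3.SepNilp

open TensorProduct

section Coord

variable {A : Type*} [CommRing A] {S : Type*} [CommRing S] [Algebra A S]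
  {L : Type*} [AddCommGroup L] [Module A L] [Module S L] [IsScalarTower A S L]
  {B : Type*} (b : Module.Basis B S L) (P : Type*) [AddCommGroup P] [Module A P]

/-- An element of `L ⊗ P` (`L` free over the `A`-algebra `S`) vanishes if all its coordinates in
`S ⊗ P` vanish. -/
theorem eq_zero_of_coord (η : L ⊗[A] P)
    (h : ∀ β : B, (((b.coord β).restrictScalars A).rTensor P) η = 0) : η = 0 := by
  classical
  let e : L ≃ₗ[A] (B →₀ S) := b.repr.restrictScalars A
  have key : ∀ (η : L ⊗[A] P) (β : B),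
      (TensorProduct.finsuppLeft A S S P B (LinearEquiv.rTensor P e η)) β =
        (((b.coord β).restrictScalars A).rTensor P) η := by
    intro η β
    induction η with
    | zero => simp
    | add x y hx hy =>
      rw [map_add, map_add, Finsupp.add_apply, hx, hy, map_add]
    | tmul l p =>
      rw [LinearEquiv.rTensor_tmul, TensorProduct.finsuppLeft_apply_tmul_apply,
        LinearMap.rTensor_tmul]
      rfl
  have h0 : TensorProduct.finsuppLeft A S S P B (LinearEquiv.rTensor P e η) = 0 := by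
    apply Finsupp.ext
    intro β
    rw [key, h β]
    rfl
  have h1 : LinearEquiv.rTensor P e η = 0 :=
    (TensorProduct.finsuppLeft A S S P B).injective (by rw [h0, map_zero])
  exact (LinearEquiv.rTensor P e).injective (by rw [h1, map_zero])

end Coord

section MulMap

variable {A : Type*} [CommRing A] (I : Ideal A) (P : Type*) [AddCommGroup P] [Module A P]

/-- multiplication `I ⊗ P → P`. -/
noncomputable def mulMap : ↥I ⊗[A] P →ₗ[A] P :=
  (TensorProduct.lid A P).toLinearMap ∘ₗ (LinearMap.rTensor P (Submodule.subtype I))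

theorem mulMap_tmul (r : ↥I) (p : P) : mulMap I P (r ⊗ₜ[A] p) = (r : A) • p := by
  simp [mulMap]

variable {P} in
theorem mulMap_naturality {Q : Type*} [AddCommGroup Q] [Module A Q] (f : P →ₗ[A] Q)
    (ξ : ↥I ⊗[A] P) : mulMap I Q (f.lTensor ↥I ξ) = f (mulMap I P ξ) := by
  induction ξ with
  | zero => simp
  | add x y hx hy => rw [map_add, map_add, map_add, map_add, hx, hy]
  | tmul r p => rw [LinearMap.lTensor_tmul, mulMap_tmul, mulMap_tmul, map_smul]

variable {P} in
theorem exists_of_mem_smul_top {x : P} (hx : x ∈ I • (⊤ : Submodule A P)) :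
    ∃ ξ, mulMap I P ξ = x := by
  refine Submodule.smul_induction_on hx ?_ ?_
  · intro r hr p _
    exact ⟨(⟨r, hr⟩ : ↥I) ⊗ₜ[A] p, mulMap_tmul I P _ _⟩
  · rintro _ _ ⟨ξ, rfl⟩ ⟨ξ', rfl⟩
    exact ⟨ξ + ξ', map_add _ _ _⟩

theorem range_mulMap_le : LinearMap.range (mulMap I P) ≤ I • (⊤ : Submodule A P) := by
  rintro _ ⟨ξ, rfl⟩
  induction ξ with
  | zero => rw [map_zero]; exact zero_mem _
  | add x y hx hy => rw [map_add]; exact add_mem hx hy
  | tmul r p => rw [mulMap_tmul]; exact Submodule.smul_mem_smul r.2 trivial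

variable {P} in
theorem mulMap_mem (K : Ideal A) {ξ : ↥I ⊗[A] P}
    (hξ : ξ ∈ K • (⊤ : Submodule A (↥I ⊗[A] P))) : mulMap I P ξ ∈ (K * I) • (⊤ : Submodule A P) := by
  have h1 : (K • (⊤ : Submodule A (↥I ⊗[A] P))).map (mulMap I P) ≤
      (K * I) • (⊤ : Submodule A P) := by
    rw [Submodule.map_smul'', Submodule.map_top, Submodule.mul_smul]
    exact Submodule.smul_mono le_rfl (range_mulMap_le I P)
  exact h1 ⟨ξ, hξ, rfl⟩

theorem mulMap_injective [Module.Flat A P] : Function.Injective (mulMap I P) := by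
  unfold mulMap
  rw [LinearMap.coe_comp]
  exact (TensorProduct.lid A P).injective.comp
    (Module.Flat.rTensor_preserves_injective_linearMap _ (Submodule.subtype_injective I))

end MulMap

section Main

variable {A : Type u} [CommRing A] (J : Ideal A)
  {M : Type u} [AddCommGroup M] [Module A M] {ι : Type*} (N : ι → Type u)
  [∀ i, AddCommGroup (N i)] [∀ i, Module A (N i)] (u : ∀ i, M →ₗ[A] N i)

theorem assoc_symm_lTensor {L K P Q : Type*} [AddCommGroup L] [Module A L] [AddCommGroup K]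
    [Module A K] [AddCommGroup P] [Module A P] [AddCommGroup Q] [Module A Q] (f : P →ₗ[A] Q)
    (a : L) (ξ : K ⊗[A] P) :
    f.lTensor (L ⊗[A] K) ((TensorProduct.assoc A L K P).symm (a ⊗ₜ[A] ξ)) =
      (TensorProduct.assoc A L K Q).symm (a ⊗ₜ[A] f.lTensor K ξ) := by
  induction ξ with
  | zero => simp
  | add x y hx hy =>
    rw [TensorProduct.tmul_add, map_add, map_add, hx, hy, map_add, TensorProduct.tmul_add, map_add]
  | tmul r p =>
    rw [TensorProduct.assoc_symm_tmul, LinearMap.lTensor_tmul, LinearMap.lTensor_tmul,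
      TensorProduct.assoc_symm_tmul]

/-- the inductive step. -/
theorem mem_pow_succ_smul_top (hfree : ∀ k : ℕ, Module.Free (A ⧸ J) ((A ⧸ J) ⊗[A] ↥(J ^ k)))
    [∀ i, Module.Flat A (N i)]
    (h0 : ∀ z : (A ⧸ J) ⊗[A] M, (∀ i, (u i).lTensor (A ⧸ J) z = 0) → z = 0) (x : M)
    (hx : ∀ i, u i x = 0) (k : ℕ) (hk : x ∈ J ^ k • (⊤ : Submodule A M)) :
    x ∈ J ^ (k + 1) • (⊤ : Submodule A M) := by
  obtain ⟨ξ, rfl⟩ := exists_of_mem_smul_top (J ^ k) hk
  have hξ : ∀ i, (u i).lTensor ↥(J ^ k) ξ = 0 := by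
    intro i
    apply mulMap_injective (J ^ k) (N i)
    rw [mulMap_naturality, hx i, map_zero]
  haveI := hfree k
  let b := Module.Free.chooseBasis (A ⧸ J) ((A ⧸ J) ⊗[A] ↥(J ^ k))
  let η : ((A ⧸ J) ⊗[A] ↥(J ^ k)) ⊗[A] M :=
    (TensorProduct.assoc A (A ⧸ J) ↥(J ^ k) M).symm ((1 : A ⧸ J) ⊗ₜ[A] ξ)
  have hη : η = 0 := by
    refine eq_zero_of_coord b M η (fun β => ?_)
    refine h0 _ (fun i => ?_)
    rw [← LinearMap.comp_apply, LinearMap.lTensor_comp_rTensor, ← LinearMap.rTensor_comp_lTensor,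
      LinearMap.comp_apply]
    have : (u i).lTensor ((A ⧸ J) ⊗[A] ↥(J ^ k)) η = 0 := by
      change (u i).lTensor _ ((TensorProduct.assoc A (A ⧸ J) ↥(J ^ k) M).symm _) = 0
      rw [assoc_symm_lTensor, hξ i, TensorProduct.tmul_zero, map_zero]
    rw [this, map_zero]
  have h1 : (1 : A ⧸ J) ⊗ₜ[A] ξ = 0 :=
    (TensorProduct.assoc A (A ⧸ J) ↥(J ^ k) M).symm.injective (by rw [map_zero]; exact hη)
  have h2 : ξ ∈ J • (⊤ : Submodule A (↥(J ^ k) ⊗[A] M)) := by
    have h3 := TensorProduct.quotTensorEquivQuotSMul_mk_tmul (M := ↥(J ^ k) ⊗[A] M) J (1 : A) ξ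
    rw [map_one, h1, map_zero, one_smul] at h3
    exact (Submodule.Quotient.mk_eq_zero _).1 h3.symm
  have h4 := mulMap_mem (J ^ k) J h2
  rwa [← pow_succ'] at h4

/-- **Separating families over a nilpotent ideal with free graded pieces** (ring form). -/
theorem eq_zero_of_reduction (hJ : IsNilpotent J)
    (hfree : ∀ k : ℕ, Module.Free (A ⧸ J) ((A ⧸ J) ⊗[A] ↥(J ^ k)))
    [∀ i, Module.Flat A (N i)]
    (h0 : ∀ z : (A ⧸ J) ⊗[A] M, (∀ i, (u i).lTensor (A ⧸ J) z = 0) → z = 0) (x : M)
    (hx : ∀ i, u i x = 0) : x = 0 := by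
  have key : ∀ k : ℕ, x ∈ J ^ k • (⊤ : Submodule A M) := by
    intro k
    induction k with
    | zero => rw [pow_zero, Ideal.one_eq_top, Submodule.top_smul]; trivial
    | succ k ih => exact mem_pow_succ_smul_top J N u hfree h0 x hx k ih
  obtain ⟨n, hn⟩ := hJ
  have := key n
  rw [hn, Ideal.zero_eq_bot, Submodule.bot_smul] at this
  exact (Submodule.mem_bot A).1 this

end Main

end Groth.Agent.Lib.T2H3.SepNilp
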