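import Mathlib
import Groth.Agent.Lib.T2H3SepNilp

/-!
# Fibrewise criterion for separating families, part 1 (lead)

Ring-level ingredients for EGA IV 11.9.16 / 11.10.9:
* a localization (with respect to a bigger ring) of a module flat over `B` is flat over `B`;
* the local step: over a ring `B₁` with a maximal ideal `J`, a Noetherian `B₁`-algebra `L₁`, a finite
  `L₁`-module `M₁` and a family `u₁ i : M₁ → N₁ i` into modules flat over `B₁` whose reduction modulo `J`
  is jointly injective, an element killed by every `u₁ i` and by `J` vanishes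
  (graded pieces + Krull's intersection theorem).
-/

set_option autoImplicit false
set_option maxHeartbeats 400000
set_option linter.style.haveILetI false
set_option linter.unusedSectionVars false
set_option linter.unusedVariables false

open TensorProduct

universe u

namespace Groth.Agent.Lib.LeadFib

/-- a localization with respect to a submonoid of a `B`-algebra `P` of a `P`-module flat over `B`
is flat over `B`. -/
theorem flat_of_isLocalizedModule_tower {B P : Type*} [CommRing B] [CommRing P] [Algebra B P]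
    (S : Submonoid P) {N N' : Type*} [AddCommGroup N] [AddCommGroup N'] [Module B N] [Module P N]
    [IsScalarTower B P N] [Module B N'] [Module P N'] [IsScalarTower B P N'] (g : N →ₗ[P] N')
    [IsLocalizedModule S g] [Module.Flat B N] : Module.Flat B N' := by
  rw [Module.Flat.iff_lTensor_preserves_injective_linearMap]
  intro Q Q' _ _ _ _ f hf
  have h1 : Function.Injective (AlgebraTensorModule.lTensor P N f) := by
    rw [AlgebraTensorModule.coe_lTensor]
    exact Module.Flat.lTensor_preserves_injective_linearMap f hf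
  have h2 := IsLocalizedModule.map_injective S (AlgebraTensorModule.rTensor B Q g)
    (AlgebraTensorModule.rTensor B Q' g) _ h1
  rw [IsLocalizedModule.map_lTensor] at h2
  rw [← AlgebraTensorModule.coe_lTensor (A := P)]
  exact h2

section Local

/-- the local step. -/
theorem eq_zero_of_fibre {B₁ : Type u} [CommRing B₁] (J : Ideal B₁) [hJ : J.IsMaximal]
    (L₁ : Type u) [CommRing L₁] [Algebra B₁ L₁] [IsNoetherianRing L₁]
    {M₁ : Type u} [AddCommGroup M₁] [Module B₁ M₁] [Module L₁ M₁] [IsScalarTower B₁ L₁ M₁]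
    [Module.Finite L₁ M₁]
    {ι : Type*} (N₁ : ι → Type u) [∀ i, AddCommGroup (N₁ i)] [∀ i, Module B₁ (N₁ i)]
    [∀ i, Module.Flat B₁ (N₁ i)] (u₁ : ∀ i, M₁ →ₗ[B₁] N₁ i)
    (h0 : ∀ z : (B₁ ⧸ J) ⊗[B₁] M₁, (∀ i, (u₁ i).lTensor (B₁ ⧸ J) z = 0) → z = 0)
    (t : M₁) (ht : ∀ i, u₁ i t = 0) (hJt : ∀ j ∈ J, j • t = 0) : t = 0 := by
  letI : Field (B₁ ⧸ J) := Ideal.Quotient.field J
  have hfree : ∀ k : ℕ, Module.Free (B₁ ⧸ J) ((B₁ ⧸ J) ⊗[B₁] ↥(J ^ k)) := fun k =>
    Module.Free.of_divisionRing _ _
  have key : ∀ k : ℕ, t ∈ J ^ k • (⊤ : Submodule B₁ M₁) := by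
    intro k
    induction k with
    | zero => rw [pow_zero, Ideal.one_eq_top, Submodule.top_smul]; trivial
    | succ k ih =>
      exact Groth.Agent.Lib.T2H3.SepNilp.mem_pow_succ_smul_top J N₁ u₁ hfree h0 t ht k ih
  -- pass to `L₁`-submodules
  let I : Ideal L₁ := J.map (algebraMap B₁ L₁)
  have key' : ∀ k : ℕ, t ∈ I ^ k • (⊤ : Submodule L₁ M₁) := by
    intro k
    have hk := key k
    refine Submodule.smul_induction_on hk ?_ ?_
    · intro j hj m _
      have h1 : algebraMap B₁ L₁ j ∈ I ^ k := by
        rw [← Ideal.map_pow]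
        exact Ideal.mem_map_of_mem _ hj
      have h2 : j • m = algebraMap B₁ L₁ j • m := (algebraMap_smul L₁ j m).symm
      rw [h2]
      exact Submodule.smul_mem_smul h1 trivial
    · intro x y hx hy
      exact add_mem hx hy
  have hmem : t ∈ (⨅ i : ℕ, I ^ i • ⊤ : Submodule L₁ M₁) := by
    rw [Submodule.mem_iInf]
    exact key'
  obtain ⟨r, hr⟩ := (Ideal.mem_iInf_smul_pow_eq_bot_iff I t).mp hmem
  -- `I` kills `t`
  have hI : ∀ x ∈ I, x • t = 0 := by
    intro x hx
    refine Submodule.span_induction ?_ ?_ ?_ ?_ hx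
    · rintro _ ⟨j, hj, rfl⟩
      rw [algebraMap_smul]
      exact hJt j hj
    · rw [zero_smul]
    · intro x y _ _ hx hy
      rw [add_smul, hx, hy, add_zero]
    · intro a x _ hx
      rw [smul_eq_mul, mul_smul, hx, smul_zero]
  rw [← hr]
  exact hI r.1 r.2

end Local

end Groth.Agent.Lib.LeadFib
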