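import Mathlib
import Groth.Agent.Lib.Helper26ModSec
import Groth.Agent.Lib.Helper20PullbackAff
import Groth.Agent.Lib.Helper18Strict3

/-!
# Sections of a pulled-back quasi-coherent module over affine opens, naturally (helper3)

For `g : X' ⟶ X`, affine opens `V ⊆ X`, `U ⊆ X'` with `U ≤ g⁻¹ V` and a quasi-coherent module `F`
on `X`, the comparison `Γ(X', U) ⊗_{Γ(X, V)} Γ(F, V) ≃ Γ(g^* F, U)` (`secEquiv`), natural in `F`
(`secEquiv_naturality`), in terms of honest sections (not `ΓUF`).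
-/

set_option autoImplicit false
set_option linter.style.haveILetI false
universe u
open CategoryTheory CategoryTheory.Limits AlgebraicGeometry TopologicalSpace Opposite TensorProduct
open Groth.Agent.Lib.Helper20.Thickening Groth.Agent.Lib.Helper20.PullbackAff
open Groth.Agent.Lib.Helper26.ModSec Groth.Agent.Helper18Strict Groth.Agent.Lib.Helper2.QCoh

namespace Groth.Agent.Lib.T2H3.PullSec

section nat
variable {X : Scheme.{u}} {U : X.Opens} (hU : IsAffineOpen U) {M N : X.Modules} (φ : M ⟶ N)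

theorem toΓUF_naturality (y : Γ(M, U)) :
    ((ΓUF hU).map φ).hom (toΓUF hU M y) = toΓUF hU N (φ.app U y) := by
  have := congrArg (fun k => k.hom y)
    (φ.mapPresheaf.naturality (homOfLE (fromSpec_image_le hU ⊤)).op)
  exact this

end nat

section pull
variable {X X' : Scheme.{u}} (g : X' ⟶ X) {V : X.Opens} (hV : IsAffineOpen V) {U : X'.Opens}
  (hU : IsAffineOpen U) (h : U ≤ g ⁻¹ᵁ V)

/-- `Γ(X', U) ⊗_{Γ(X, V)} Γ(F, V)` as the carrier of `extendScalars`. -/
noncomputable def cEquiv (F : X.Modules) :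
    letI := (g.appLE V U h).hom.toAlgebra
    Γ(X', U) ⊗[Γ(X, V)] Γ(F, V) ≃ₗ[Γ(X', U)]
      ((ModuleCat.extendScalars (g.appLE V U h).hom).obj ((ΓUF hV).obj F) : Type u) :=
  letI := (g.appLE V U h).hom.toAlgebra
  by exact (TensorProduct.AlgebraTensorModule.congr (LinearEquiv.refl Γ(X', U) Γ(X', U))
    (ΓUEquiv hV F) : Γ(X', U) ⊗[Γ(X, V)] Γ(F, V) ≃ₗ[Γ(X', U)] Γ(X', U) ⊗[Γ(X, V)] ((ΓUF hV).obj F))

theorem cEquiv_tmul (F : X.Modules) (b : Γ(X', U)) (m : Γ(F, V)) :
    letI := (g.appLE V U h).hom.toAlgebra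
    cEquiv g hV h F (b ⊗ₜ m) =
      (@TensorProduct.tmul Γ(X, V) _ Γ(X', U) ((ΓUF hV).obj F) _ _
        (g.appLE V U h).hom.toAlgebra.toModule _ b (toΓUF hV F m)) := rfl

/-- `Γ(X', U) ⊗_{Γ(X, V)} Γ(F, V) ≃ Γ(g^* F, U)` for quasi-coherent `F`. -/
noncomputable def secEquiv (F : X.Modules) [F.IsQuasicoherent] :
    letI := (g.appLE V U h).hom.toAlgebra
    Γ(X', U) ⊗[Γ(X, V)] Γ(F, V) ≃ₗ[Γ(X', U)] Γ((Scheme.Modules.pullback g).obj F, U) :=
  (cEquiv g hV h F).trans
    (((asIso ((secNat g hV hU h).app F)).toLinearEquiv).trans (ΓUEquiv hU _).symm)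

theorem secEquiv_apply (F : X.Modules) [F.IsQuasicoherent]
    (z : letI := (g.appLE V U h).hom.toAlgebra; Γ(X', U) ⊗[Γ(X, V)] Γ(F, V)) :
    secEquiv g hV hU h F z =
      (ΓUEquiv hU _).symm (((secNat g hV hU h).app F).hom (cEquiv g hV h F z)) := rfl

theorem ΓUEquiv_symm_naturality {Y : Scheme.{u}} {W : Y.Opens} (hW : IsAffineOpen W)
    {M N : Y.Modules} (ψ : M ⟶ N) (w : (ΓUF hW).obj M) :
    (ΓUEquiv hW N).symm (((ΓUF hW).map ψ).hom w) = ψ.app W ((ΓUEquiv hW M).symm w) := by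
  apply (ΓUEquiv hW N).injective
  rw [LinearEquiv.apply_symm_apply]
  have := toΓUF_naturality hW ψ ((ΓUEquiv hW M).symm w)
  have e : toΓUF hW M ((ΓUEquiv hW M).symm w) = w := (ΓUEquiv hW M).apply_symm_apply w
  rw [e] at this
  exact this

theorem cEquiv_naturality {F G : X.Modules} (φ : F ⟶ G)
    (z : letI := (g.appLE V U h).hom.toAlgebra; Γ(X', U) ⊗[Γ(X, V)] Γ(F, V)) :
    letI := (g.appLE V U h).hom.toAlgebra
    cEquiv g hV h G ((appₗ φ V).lTensor Γ(X', U) z) =
      ((ModuleCat.extendScalars (g.appLE V U h).hom).map ((ΓUF hV).map φ)).hom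
        (cEquiv g hV h F z) := by
  letI := (g.appLE V U h).hom.toAlgebra
  induction z using TensorProduct.induction_on with
  | zero => rw [map_zero, map_zero, map_zero, map_zero]
  | tmul b m =>
    rw [LinearMap.lTensor_tmul, cEquiv_tmul, cEquiv_tmul]
    erw [ModuleCat.ExtendScalars.map_tmul]
    congr 1
    exact (toΓUF_naturality hV φ m).symm
  | add x y hx hy => rw [map_add, map_add, hx, hy, map_add, map_add]

theorem secEquiv_naturality {F G : X.Modules} [F.IsQuasicoherent] [G.IsQuasicoherent] (φ : F ⟶ G)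
    (z : letI := (g.appLE V U h).hom.toAlgebra; Γ(X', U) ⊗[Γ(X, V)] Γ(F, V)) :
    letI := (g.appLE V U h).hom.toAlgebra
    secEquiv g hV hU h G ((appₗ φ V).lTensor Γ(X', U) z) =
      ((Scheme.Modules.pullback g).map φ).app U (secEquiv g hV hU h F z) := by
  letI := (g.appLE V U h).hom.toAlgebra
  have hB := congrArg (fun k => k.hom (cEquiv g hV h F z)) (secNat_naturality g hV hU h φ)
  rw [secEquiv_apply, secEquiv_apply, cEquiv_naturality, ← ΓUEquiv_symm_naturality]
  exact congrArg (ΓUEquiv hU _).symm hB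

end pull

end Groth.Agent.Lib.T2H3.PullSec
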