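import Mathlib

/-!
# Ring-level lemmas on separating families of linear maps under flat base change (helper3)

* `eq_zero_of_lTensor_eq_zero_of_finite`: a finite jointly injective family stays jointly injective
  after a flat base change.
* `eq_zero_of_lTensor_eq_zero_of_isArtinianRing`: over an Artinian ring, the same for arbitrary
  families.
* `eq_zero_of_tmul_eq_zero`: `t = 0` if `1 ⊗ t = 0` in `B ⊗ M` for flat algebras `B` covering the
  maximal spectrum.
-/

set_option autoImplicit false
set_option linter.style.haveILetI false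
universe u
open TensorProduct

namespace Groth.Agent.Lib.T2H3.SepAlg

variable {A : Type u} [CommRing A] (B : Type u) [CommRing B] [Algebra A B]
  {M : Type u} [AddCommGroup M] [Module A M]

theorem eq_zero_of_lTensor_eq_zero_of_finite [Module.Flat A B] {ι : Type u} [Finite ι]
    {N : ι → Type u} [∀ i, AddCommGroup (N i)] [∀ i, Module A (N i)] (v : ∀ i, M →ₗ[A] N i)
    (hv : ∀ m : M, (∀ i, v i m = 0) → m = 0) (z : B ⊗[A] M)
    (hz : ∀ i, (v i).lTensor B z = 0) : z = 0 := by
  classical
  haveI := Fintype.ofFinite ι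
  let Φ : M →ₗ[A] (∀ i, N i) := LinearMap.pi v
  have hΦ : Function.Injective Φ := by
    rw [injective_iff_map_eq_zero]
    intro m hm
    exact hv m (fun i => congrFun hm i)
  have hΦB : Function.Injective (Φ.lTensor B) :=
    Module.Flat.lTensor_preserves_injective_linearMap Φ hΦ
  apply hΦB
  rw [map_zero]
  apply (TensorProduct.piRight A A B N).injective
  rw [map_zero]
  funext i
  have key : ∀ w : B ⊗[A] M, (TensorProduct.piRight A A B N) (Φ.lTensor B w) i =
      (v i).lTensor B w := by
    intro w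
    induction w using TensorProduct.induction_on with
    | zero => simp
    | tmul b m => simp [Φ]
    | add x y hx hy => simp only [map_add, Pi.add_apply, hx, hy]
  rw [key, hz i]
  rfl

/-- in an Artinian module, a family of submodules has a finite subfamily with the same
intersection (in the form: contained in every member). -/
theorem exists_finset_iInf_le {P : Type u} [AddCommGroup P] [Module A P] [IsArtinian A P]
    {ι : Type u} (K : ι → Submodule A P) :
    ∃ s : Finset ι, ∀ i, (⨅ j ∈ s, K j) ≤ K i := by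
  classical
  obtain ⟨K₀, ⟨s, rfl⟩, hmin⟩ := IsArtinian.set_has_minimal
    (Set.range fun s : Finset ι => ⨅ j ∈ s, K j) ⟨_, ⟨∅, rfl⟩⟩
  refine ⟨s, fun i => ?_⟩
  have h1 : (⨅ j ∈ insert i s, K j) ≤ ⨅ j ∈ s, K j := by
    apply le_iInf₂
    intro j hj
    exact iInf₂_le j (Finset.mem_insert_of_mem hj)
  have h2 : ¬ (⨅ j ∈ insert i s, K j) < ⨅ j ∈ s, K j := hmin _ ⟨insert i s, rfl⟩
  have h3 : (⨅ j ∈ insert i s, K j) = ⨅ j ∈ s, K j := by
    by_contra hne
    exact h2 (lt_of_le_of_ne h1 hne)
  rw [← h3]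
  exact iInf₂_le i (Finset.mem_insert_self i s)

theorem eq_zero_of_lTensor_eq_zero_of_isArtinianRing [IsArtinianRing A] [Module.Flat A B]
    {ι : Type u} {N : ι → Type u} [∀ i, AddCommGroup (N i)] [∀ i, Module A (N i)]
    (v : ∀ i, M →ₗ[A] N i) (hv : ∀ m : M, (∀ i, v i m = 0) → m = 0) (z : B ⊗[A] M)
    (hz : ∀ i, (v i).lTensor B z = 0) : z = 0 := by
  classical
  obtain ⟨M₀, hfin, hM₀⟩ := TensorProduct.exists_finite_submodule_right_of_setFinite
    ({z} : Set (B ⊗[A] M)) (Set.finite_singleton z)
  obtain ⟨z₀, rfl⟩ := hM₀ (Set.mem_singleton z)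
  obtain ⟨s, hs⟩ := exists_finset_iInf_le (fun i => LinearMap.ker ((v i).comp M₀.subtype))
  have h0 : z₀ = 0 := by
    refine eq_zero_of_lTensor_eq_zero_of_finite B (ι := ↥s) (N := fun i => N i.1)
      (fun i => (v i.1).comp M₀.subtype) (fun m hm => ?_) z₀ (fun i => ?_)
    · have hmem : m ∈ ⨅ j ∈ s, LinearMap.ker ((v j).comp M₀.subtype) := by
        rw [Submodule.mem_iInf]
        intro j
        rw [Submodule.mem_iInf]
        intro hj
        exact hm ⟨j, hj⟩
      have h1 : ∀ i, v i (m : M) = 0 := fun i => hs i hmem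
      have h2 := hv m h1
      exact Subtype.ext h2
    · rw [LinearMap.lTensor_comp]
      exact hz i.1
  rw [h0, map_zero]

omit [CommRing B] [Algebra A B] in
/-- `t = 0` as soon as `1 ⊗ t = 0` in `B ⊗ M` for flat algebras `B` whose spectra cover the maximal
ideals of `A`. -/
theorem eq_zero_of_tmul_eq_zero (t : M)
    (H : ∀ 𝔪 : Ideal A, 𝔪.IsMaximal → ∃ (B : Type u) (_ : CommRing B) (_ : Algebra A B)
      (_ : Module.Flat A B) (q : Ideal B), q ≠ ⊤ ∧ 𝔪 ≤ q.comap (algebraMap A B) ∧
        (1 : B) ⊗ₜ[A] t = 0) : t = 0 := by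
  by_contra ht
  let I : Ideal A := LinearMap.ker (LinearMap.toSpanSingleton A M t)
  have hI : I ≠ ⊤ := by
    intro h
    have h1 : (1 : A) ∈ I := by rw [h]; trivial
    have h2 : (1 : A) • t = 0 := h1
    rw [one_smul] at h2
    exact ht h2
  obtain ⟨𝔪, hmax, hle⟩ := Ideal.exists_le_maximal I hI
  obtain ⟨B, _, _, _, q, hq, hqm, h0⟩ := H 𝔪 hmax
  have hex : Function.Exact I.subtype (LinearMap.toSpanSingleton A M t) :=
    LinearMap.exact_subtype_ker_map _
  have hexB := Module.Flat.lTensor_exact B hex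
  have h1 : (LinearMap.toSpanSingleton A M t).lTensor B ((1 : B) ⊗ₜ[A] (1 : A)) = 0 := by
    rw [LinearMap.lTensor_tmul, LinearMap.toSpanSingleton_apply, one_smul]
    exact h0
  obtain ⟨w, hw⟩ := (hexB _).mp h1
  have key : ∀ w : B ⊗[A] I, TensorProduct.rid A B (I.subtype.lTensor B w) ∈ q := by
    intro w
    induction w using TensorProduct.induction_on with
    | zero => simp
    | tmul b i =>
      rw [LinearMap.lTensor_tmul, TensorProduct.rid_tmul, Algebra.smul_def]
      exact q.mul_mem_right _ (hqm (hle i.2))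
    | add x y hx hy =>
      rw [map_add, map_add]
      exact q.add_mem hx hy
  have h2 := key w
  rw [hw, TensorProduct.rid_tmul, one_smul] at h2
  exact hq ((Ideal.eq_top_iff_one q).mpr h2)

end Groth.Agent.Lib.T2H3.SepAlg
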