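import Mathlib
import Groth.Agent.Lib.T2H3PullSec
import Groth.Agent.Lib.T2H3SepAlg
import Groth.Agent.Lib.Helper13ModAffine

/-!
# Separating families of homomorphisms of quasi-coherent modules under base change (helper3)

EGA IV 11.9 in the case `Z_λ = X`.
-/

set_option autoImplicit false
set_option linter.style.haveILetI false
universe u
open CategoryTheory CategoryTheory.Limits AlgebraicGeometry TopologicalSpace Opposite TensorProduct
open Groth.Agent.Helper18Strict Groth.Agent.Lib.T2H3.PullSec Groth.Agent.Lib.T2H3.SepAlg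

namespace Groth.Agent.Lib.T2H3.Separating

variable {X X' : Scheme.{u}} (g : X' ⟶ X) (F : X.Modules) [F.IsQuasicoherent] {ι : Type u}
  (G : ι → X.Modules) [∀ i, (G i).IsQuasicoherent] (u : ∀ i, F ⟶ G i)

/-- the pulled-back family is separating as soon as the tensored families are jointly injective
over all pairs of affine opens. -/
theorem pullback_separating_of_tensor
    (H : ∀ (V : X.Opens) (_ : IsAffineOpen V) (U : X'.Opens) (_ : IsAffineOpen U)
      (h : U ≤ g ⁻¹ᵁ V),
      letI := (g.appLE V U h).hom.toAlgebra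
      ∀ z : Γ(X', U) ⊗[Γ(X, V)] Γ(F, V),
        (∀ i, (appₗ (u i) V).lTensor Γ(X', U) z = 0) → z = 0)
    (V' : X'.Opens) (t : Γ((Scheme.Modules.pullback g).obj F, V'))
    (ht : ∀ i, ((Scheme.Modules.pullback g).map (u i)).app V' t = 0) : t = 0 := by
  refine TopCat.Sheaf.eq_of_locally_eq' ⟨((Scheme.Modules.pullback g).obj F).presheaf,
    ((Scheme.Modules.pullback g).obj F).isSheaf⟩
    (fun W : {W : X'.Opens // IsAffineOpen W ∧ W ≤ V' ∧
      ∃ V : X.Opens, IsAffineOpen V ∧ W ≤ g ⁻¹ᵁ V} => W.1) V'
    (fun W => homOfLE W.2.2.1) ?_ t 0 (fun W => ?_)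
  · intro x hx
    obtain ⟨V, hV, hgxV, -⟩ := exists_isAffineOpen_mem_and_subset (x := g x) (U := ⊤) trivial
    obtain ⟨W, hW, hxW, hWle⟩ := exists_isAffineOpen_mem_and_subset (x := x)
      (U := V' ⊓ g ⁻¹ᵁ V) ⟨hx, hgxV⟩
    exact Opens.mem_iSup.mpr ⟨⟨W, hW, hWle.trans inf_le_left, V, hV, hWle.trans inf_le_right⟩, hxW⟩
  · obtain ⟨U, hU, hUV', V, hV, h⟩ := W
    letI := (g.appLE V U h).hom.toAlgebra
    show ((Scheme.Modules.pullback g).obj F).presheaf.map (homOfLE hUV').op t =
      ((Scheme.Modules.pullback g).obj F).presheaf.map (homOfLE hUV').op 0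
    rw [map_zero]
    set t'' := ((Scheme.Modules.pullback g).obj F).presheaf.map (homOfLE hUV').op t with ht''
    have hz : ∀ i, (appₗ (u i) V).lTensor Γ(X', U) ((secEquiv g hV hU h F).symm t'') = 0 := by
      intro i
      apply (secEquiv g hV hU h (G i)).injective
      rw [secEquiv_naturality, LinearEquiv.apply_symm_apply, map_zero]
      have hn := congrArg (fun k => k.hom t)
        (((Scheme.Modules.pullback g).map (u i)).mapPresheaf.naturality (homOfLE hUV').op)
      have h0 : ((Scheme.Modules.pullback g).map (u i)).app U t'' =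
          ((Scheme.Modules.pullback g).obj (G i)).presheaf.map (homOfLE hUV').op
            (((Scheme.Modules.pullback g).map (u i)).app V' t) := hn
      rw [h0, ht i, map_zero]
    have := H V hV U hU h _ hz
    have h1 := congrArg (secEquiv g hV hU h F) this
    rwa [LinearEquiv.apply_symm_apply, map_zero] at h1

/-- conversely, if the pulled-back family is separating, the tensored families are jointly
injective over all pairs of affine opens. -/
theorem tensor_of_pullback_separating
    (Hs : ∀ (V' : X'.Opens) (t : Γ((Scheme.Modules.pullback g).obj F, V')),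
      (∀ i, ((Scheme.Modules.pullback g).map (u i)).app V' t = 0) → t = 0)
    {V : X.Opens} (hV : IsAffineOpen V) {U : X'.Opens} (hU : IsAffineOpen U) (h : U ≤ g ⁻¹ᵁ V) :
    letI := (g.appLE V U h).hom.toAlgebra
    ∀ z : Γ(X', U) ⊗[Γ(X, V)] Γ(F, V),
      (∀ i, (appₗ (u i) V).lTensor Γ(X', U) z = 0) → z = 0 := by
  letI := (g.appLE V U h).hom.toAlgebra
  intro z hz
  apply (secEquiv g hV hU h F).injective
  rw [map_zero]
  refine Hs U _ (fun i => ?_)
  rw [← secEquiv_naturality, hz i, map_zero]

/-- **EGA IV 11.9.2 (finite families)**: a finite separating family stays separating after a flat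
base change. -/
theorem pullback_separating_of_finite [Finite ι] [Flat g]
    (hs : ∀ (V : X.Opens) (t : Γ(F, V)), (∀ i, (u i).app V t = 0) → t = 0)
    (V' : X'.Opens) (t : Γ((Scheme.Modules.pullback g).obj F, V'))
    (ht : ∀ i, ((Scheme.Modules.pullback g).map (u i)).app V' t = 0) : t = 0 := by
  refine pullback_separating_of_tensor g F G u (fun V hV U hU h => ?_) V' t ht
  letI := (g.appLE V U h).hom.toAlgebra
  haveI : Module.Flat Γ(X, V) Γ(X', U) := g.flat_appLE hV hU h
  intro z hz
  exact eq_zero_of_lTensor_eq_zero_of_finite Γ(X', U) (fun i => appₗ (u i) V)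
    (fun m hm => hs V m hm) z hz

/-- sections of a Noetherian scheme of dimension `≤ 0` over an affine open form an Artinian
ring. -/
theorem isArtinianRing_sections [IsNoetherian X] (hX : topologicalKrullDim X ≤ 0) {V : X.Opens}
    (hV : IsAffineOpen V) : IsArtinianRing Γ(X, V) := by
  haveI : IsNoetherianRing Γ(X, V) := IsLocallyNoetherian.component_noetherian ⟨V, hV⟩
  rw [isArtinianRing_iff_isNoetherianRing_krullDimLE_zero]
  refine ⟨inferInstance, ?_⟩
  rw [Ring.krullDimLE_iff, ← PrimeSpectrum.topologicalKrullDim_eq_ringKrullDim]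
  exact (hV.fromSpec.isOpenEmbedding.isInducing.topologicalKrullDim_le).trans hX

/-- **EGA IV 11.9.10 (Artinian base)**: over a Noetherian scheme of dimension `≤ 0` a separating
family stays separating after any flat base change. -/
theorem pullback_separating_of_artinian [IsNoetherian X] (hX : topologicalKrullDim X ≤ 0) [Flat g]
    (hs : ∀ (V : X.Opens) (t : Γ(F, V)), (∀ i, (u i).app V t = 0) → t = 0)
    (V' : X'.Opens) (t : Γ((Scheme.Modules.pullback g).obj F, V'))
    (ht : ∀ i, ((Scheme.Modules.pullback g).map (u i)).app V' t = 0) : t = 0 := by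
  refine pullback_separating_of_tensor g F G u (fun V hV U hU h => ?_) V' t ht
  letI := (g.appLE V U h).hom.toAlgebra
  haveI : Module.Flat Γ(X, V) Γ(X', U) := g.flat_appLE hV hU h
  haveI : IsArtinianRing Γ(X, V) := isArtinianRing_sections hX hV
  intro z hz
  exact eq_zero_of_lTensor_eq_zero_of_isArtinianRing Γ(X', U) (fun i => appₗ (u i) V)
    (fun m hm => hs V m hm) z hz

/-- **EGA IV 11.9.3**: a family is separating as soon as its pullback along a faithfully flat
morphism is. -/
theorem separating_of_pullback_separating [Flat g] [Surjective g]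
    (Hs : ∀ (V' : X'.Opens) (t : Γ((Scheme.Modules.pullback g).obj F, V')),
      (∀ i, ((Scheme.Modules.pullback g).map (u i)).app V' t = 0) → t = 0)
    (V₀ : X.Opens) (t : Γ(F, V₀)) (ht : ∀ i, (u i).app V₀ t = 0) : t = 0 := by
  refine Groth.Agent.Helper13ModAffine.section_ext_affine F t 0 (fun V hV hle => ?_)
  rw [map_zero]
  set m := F.presheaf.map (homOfLE hle).op t with hm
  have hum : ∀ i, (u i).app V m = 0 := by
    intro i
    have hn := congrArg (fun k => k.hom t) ((u i).mapPresheaf.naturality (homOfLE hle).op)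
    have h0 : (u i).app V m = (G i).presheaf.map (homOfLE hle).op ((u i).app V₀ t) := hn
    rw [h0, ht i, map_zero]
  refine eq_zero_of_tmul_eq_zero (A := Γ(X, V)) (M := Γ(F, V)) m (fun 𝔪 hmax => ?_)
  let p : Spec Γ(X, V) := ⟨𝔪, hmax.isPrime⟩
  have hxV : hV.fromSpec p ∈ V := by
    have : hV.fromSpec p ∈ hV.fromSpec.opensRange := ⟨p, rfl⟩
    rwa [hV.opensRange_fromSpec] at this
  obtain ⟨x', hx'⟩ := g.surjective (hV.fromSpec p)
  obtain ⟨U, hU, hx'U, hUle⟩ := exists_isAffineOpen_mem_and_subset (x := x')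
    (U := g ⁻¹ᵁ V) (by show g x' ∈ V; rw [hx']; exact hxV)
  letI := (g.appLE V U hUle).hom.toAlgebra
  have hflat : Module.Flat Γ(X, V) Γ(X', U) := g.flat_appLE hV hU hUle
  have hcomap := IsAffineOpen.comap_primeIdealOf_appLE (f := g) V hV U hU hUle hx'U
  have hp : hV.primeIdealOf ⟨g x', hUle hx'U⟩ = p := by
    apply hV.fromSpec.isOpenEmbedding.injective
    rw [hV.fromSpec_primeIdealOf]
    exact hx'
  refine ⟨Γ(X', U), inferInstance, inferInstance, hflat,
    (hU.primeIdealOf ⟨x', hx'U⟩).asIdeal, (hU.primeIdealOf ⟨x', hx'U⟩).isPrime.ne_top, ?_, ?_⟩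
  · have h1 : ((hU.primeIdealOf ⟨x', hx'U⟩).comap (g.appLE V U hUle).hom).asIdeal = 𝔪 := by
      rw [hcomap, hp]
    rw [← h1]
    exact le_rfl
  · refine tensor_of_pullback_separating g F G u Hs hV hU hUle _ (fun i => ?_)
    rw [LinearMap.lTensor_tmul]
    have : appₗ (u i) V m = 0 := hum i
    rw [this, TensorProduct.tmul_zero]

end Groth.Agent.Lib.T2H3.Separating
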