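import Mathlib
import Groth.Agent.Lib.T2H3SepNilp
import Groth.Agent.Lib.T2H3Separating
import Groth.Agent.Lib.Helper2PullbackSec3
import Groth.Agent.Lib.Helper2FlatOver

/-!
# Separating families over a nilpotent thickening of an affine base (helper3)

Scheme-level form of EGA IV 11.9.x, case `Z_λ = X`, affine base `Spec A`, `J ⊆ A` nilpotent with
free graded pieces.
-/

set_option autoImplicit false
set_option linter.style.haveILetI false
universe u
open CategoryTheory CategoryTheory.Limits AlgebraicGeometry TopologicalSpace Opposite TensorProduct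
open Groth.Agent.Helper18Strict

namespace Groth.Agent.Lib.T2H3.SepNilpSch

section Alg

variable (R S A B : Type*) [CommRing R] [CommRing S] [CommRing A] [CommRing B]
  [Algebra R S] [Algebra R A] [Algebra R B] [Algebra A B] [Algebra S B]
  [IsScalarTower R A B] [IsScalarTower R S B] [Algebra.IsPushout R S A B]

theorem cancelBaseChange_symm_lTensor {M N : Type*} [AddCommGroup M] [Module R M] [Module A M]
    [IsScalarTower R A M] [AddCommGroup N] [Module R N] [Module A N] [IsScalarTower R A N]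
    (φ : M →ₗ[A] N) (z : S ⊗[R] M) :
    φ.lTensor B ((Algebra.IsPushout.cancelBaseChange R S A B M).symm z) =
      (Algebra.IsPushout.cancelBaseChange R S A B N).symm ((φ.restrictScalars R).lTensor S z) := by
  induction z with
  | zero => simp
  | add x y hx hy => rw [map_add, map_add, map_add, map_add, hx, hy]
  | tmul s m =>
    rw [Algebra.IsPushout.cancelBaseChange_symm_tmul, LinearMap.lTensor_tmul,
      LinearMap.lTensor_tmul, Algebra.IsPushout.cancelBaseChange_symm_tmul]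
    rfl

theorem jointly_injective_of_isPushout {M : Type*} [AddCommGroup M] [Module R M] [Module A M]
    [IsScalarTower R A M] {ι : Type*} (N : ι → Type*) [∀ i, AddCommGroup (N i)]
    [∀ i, Module R (N i)] [∀ i, Module A (N i)] [∀ i, IsScalarTower R A (N i)]
    (φ : ∀ i, M →ₗ[A] N i)
    (h : ∀ z : B ⊗[A] M, (∀ i, (φ i).lTensor B z = 0) → z = 0) (z : S ⊗[R] M)
    (hz : ∀ i, ((φ i).restrictScalars R).lTensor S z = 0) : z = 0 := by
  have h1 : (Algebra.IsPushout.cancelBaseChange R S A B M).symm z = 0 := by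
    refine h _ (fun i => ?_)
    rw [cancelBaseChange_symm_lTensor, hz i, map_zero]
  exact (Algebra.IsPushout.cancelBaseChange R S A B M).symm.injective (by rw [h1, map_zero])

end Alg

section Sch

variable {X : Scheme.{u}} (A : CommRingCat.{u}) (p : X ⟶ Spec A) (J : Ideal ↑A)

/-- the closed immersion `Spec (A/J) ⟶ Spec A`. -/
noncomputable abbrev qJ : Spec (CommRingCat.of (↑A ⧸ J)) ⟶ Spec A :=
  Spec.map (CommRingCat.ofHom (Ideal.Quotient.mk J))

theorem commSq_ΓSpec :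
    CommSq (Scheme.ΓSpecIso A).inv (CommRingCat.ofHom (Ideal.Quotient.mk J))
      ((qJ A J).appLE ⊤ ⊤ le_top) (Scheme.ΓSpecIso (CommRingCat.of (↑A ⧸ J))).inv := by
  refine ⟨?_⟩
  have h := Scheme.ΓSpecIso_inv_naturality (CommRingCat.ofHom (Ideal.Quotient.mk J))
  rw [h]
  congr 1

/-- the square of sections over an affine open `V` of `X` and its preimage in `X ×_A A/J`, as a
pushout of commutative rings with corners `A`, `A/J`. -/
theorem isPushout_sections {V : X.Opens} (hV : IsAffineOpen V) :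
    IsPushout ((Scheme.ΓSpecIso A).inv ≫ p.appLE ⊤ V le_top)
      (CommRingCat.ofHom (Ideal.Quotient.mk J))
      ((pullback.fst p (qJ A J)).appLE V
        ((pullback.fst p (qJ A J)) ⁻¹ᵁ V ⊓ (pullback.snd p (qJ A J)) ⁻¹ᵁ ⊤) inf_le_left)
      ((Scheme.ΓSpecIso (CommRingCat.of (↑A ⧸ J))).inv ≫ (pullback.snd p (qJ A J)).appLE ⊤
        ((pullback.fst p (qJ A J)) ⁻¹ᵁ V ⊓ (pullback.snd p (qJ A J)) ⁻¹ᵁ ⊤) inf_le_right) := by
  have hc := IsPullback.of_hasPullback p (qJ A J)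
  have eV' : (⊤ : (Spec (CommRingCat.of (↑A ⧸ J))).Opens) ≤ (qJ A J) ⁻¹ᵁ ⊤ := le_top
  have eU : V ≤ p ⁻¹ᵁ ⊤ := le_top
  have h1 : IsIso (pushoutSection hc eV' eU
      (rfl : (pullback.fst p (qJ A J)) ⁻¹ᵁ V ⊓ (pullback.snd p (qJ A J)) ⁻¹ᵁ ⊤ = _)) :=
    isIso_pushoutSection_of_isAffineOpen hc eV' eU rfl (isAffineOpen_top _) (isAffineOpen_top _) hV
  have sq1 := (isIso_pushoutSection_iff hc eV' eU rfl).1 h1
  have sq0 : IsPushout (Scheme.ΓSpecIso A).inv (CommRingCat.ofHom (Ideal.Quotient.mk J))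
      ((qJ A J).appLE ⊤ ⊤ le_top) (Scheme.ΓSpecIso (CommRingCat.of (↑A ⧸ J))).inv :=
    IsPushout.of_horiz_isIso (commSq_ΓSpec A J)
  exact sq0.paste_horiz sq1

variable {A p J} in
/-- affine-local form. -/
theorem eq_zero_of_affine (hJ : IsNilpotent J)
    (hfree : ∀ k : ℕ, Module.Free (↑A ⧸ J) ((↑A ⧸ J) ⊗[↑A] ↥(J ^ k)))
    (F : X.Modules) [F.IsQuasicoherent] {ι : Type u} (G : ι → X.Modules)
    [∀ i, (G i).IsQuasicoherent] (hG : ∀ i, FlatMod.IsFlatOver p (G i)) (u : ∀ i, F ⟶ G i)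
    (h0 : ∀ (V' : (pullback p (qJ A J)).Opens)
      (t : Γ((Scheme.Modules.pullback (pullback.fst p (qJ A J))).obj F, V')),
      (∀ i, ((Scheme.Modules.pullback (pullback.fst p (qJ A J))).map (u i)).app V' t = 0) → t = 0)
    {V : X.Opens} (hV : IsAffineOpen V) (m : Γ(F, V)) (hm : ∀ i, (u i).app V m = 0) : m = 0 := by
  have hc := IsPullback.of_hasPullback p (qJ A J)
  have hU₀ : IsAffineOpen ((pullback.fst p (qJ A J)) ⁻¹ᵁ V ⊓ (pullback.snd p (qJ A J)) ⁻¹ᵁ ⊤) :=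
    Groth.Agent.Lib.Helper2.PullbackSec.isAffineOpen_inf_preimage hc (V := ⊤) (V' := ⊤) le_top le_top
      (isAffineOpen_top _) (isAffineOpen_top _) hV
  have hpo := isPushout_sections A p J hV
  letI algΓ : Algebra ↑A Γ(X, V) := ((Scheme.ΓSpecIso A).inv ≫ p.appLE ⊤ V le_top).hom.toAlgebra
  letI algβ : Algebra (↑A ⧸ J) Γ(pullback p (qJ A J),
      (pullback.fst p (qJ A J)) ⁻¹ᵁ V ⊓ (pullback.snd p (qJ A J)) ⁻¹ᵁ ⊤) :=
    ((Scheme.ΓSpecIso (CommRingCat.of (↑A ⧸ J))).inv ≫ (pullback.snd p (qJ A J)).appLE ⊤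
        ((pullback.fst p (qJ A J)) ⁻¹ᵁ V ⊓ (pullback.snd p (qJ A J)) ⁻¹ᵁ ⊤) inf_le_right).hom.toAlgebra
  letI algγ : Algebra Γ(X, V) Γ(pullback p (qJ A J),
      (pullback.fst p (qJ A J)) ⁻¹ᵁ V ⊓ (pullback.snd p (qJ A J)) ⁻¹ᵁ ⊤) :=
    ((pullback.fst p (qJ A J)).appLE V
        ((pullback.fst p (qJ A J)) ⁻¹ᵁ V ⊓ (pullback.snd p (qJ A J)) ⁻¹ᵁ ⊤) inf_le_left).hom.toAlgebra
  letI algδ : Algebra ↑A Γ(pullback p (qJ A J),
      (pullback.fst p (qJ A J)) ⁻¹ᵁ V ⊓ (pullback.snd p (qJ A J)) ⁻¹ᵁ ⊤) :=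
    (((Scheme.ΓSpecIso A).inv ≫ p.appLE ⊤ V le_top) ≫ ((pullback.fst p (qJ A J)).appLE V
        ((pullback.fst p (qJ A J)) ⁻¹ᵁ V ⊓ (pullback.snd p (qJ A J)) ⁻¹ᵁ ⊤) inf_le_left)).hom.toAlgebra
  haveI t1 : IsScalarTower ↑A Γ(X, V) Γ(pullback p (qJ A J),
      (pullback.fst p (qJ A J)) ⁻¹ᵁ V ⊓ (pullback.snd p (qJ A J)) ⁻¹ᵁ ⊤) :=
    .of_algebraMap_eq (fun x => rfl)
  haveI t2 : IsScalarTower ↑A (↑A ⧸ J) Γ(pullback p (qJ A J),
      (pullback.fst p (qJ A J)) ⁻¹ᵁ V ⊓ (pullback.snd p (qJ A J)) ⁻¹ᵁ ⊤) :=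
    .of_algebraMap_eq (fun x => congrArg (fun k => k.hom x) hpo.w)
  have hpo' : Algebra.IsPushout ↑A (↑A ⧸ J) Γ(X, V) Γ(pullback p (qJ A J),
      (pullback.fst p (qJ A J)) ⁻¹ᵁ V ⊓ (pullback.snd p (qJ A J)) ⁻¹ᵁ ⊤) :=
    (CommRingCat.isPushout_iff_isPushout.1 hpo).symm
  letI modF : Module ↑A Γ(F, V) := Module.compHom Γ(F, V) (algebraMap ↑A Γ(X, V))
  haveI tF : IsScalarTower ↑A Γ(X, V) Γ(F, V) := by
    refine ⟨fun a b y => ?_⟩
    change (algebraMap ↑A Γ(X, V) a * b) • y = algebraMap ↑A Γ(X, V) a • (b • y)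
    rw [mul_smul]
  letI modG : ∀ i, Module ↑A Γ(G i, V) := fun i =>
    Module.compHom Γ(G i, V) (algebraMap ↑A Γ(X, V))
  haveI tG : ∀ i, IsScalarTower ↑A Γ(X, V) Γ(G i, V) := by
    intro i
    refine ⟨fun a b y => ?_⟩
    change (algebraMap ↑A Γ(X, V) a * b) • y = algebraMap ↑A Γ(X, V) a • (b • y)
    rw [mul_smul]
  haveI flG : ∀ i, Module.Flat ↑A Γ(G i, V) := by
    intro i
    have h1 := Groth.Agent.Lib.Helper2.FlatOver.flat_sections_of_isFlatOverAt p (G i) hV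
      (isAffineOpen_top (Spec A)) le_top (fun x _ => hG i x)
    letI algR : Algebra ↑A Γ(Spec A, ⊤) := (Scheme.ΓSpecIso A).inv.hom.toAlgebra
    letI modR : Module Γ(Spec A, ⊤) Γ(G i, V) :=
      Module.compHom Γ(G i, V) (p.appLE ⊤ V le_top).hom
    haveI : IsScalarTower ↑A Γ(Spec A, ⊤) Γ(G i, V) := by
      refine ⟨fun a b y => ?_⟩
      change (p.appLE ⊤ V le_top).hom ((Scheme.ΓSpecIso A).inv.hom a * b) • y =
        (p.appLE ⊤ V le_top).hom ((Scheme.ΓSpecIso A).inv.hom a) • ((p.appLE ⊤ V le_top).hom b • y)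
      rw [map_mul, mul_smul]
    haveI : Module.Flat ↑A Γ(Spec A, ⊤) := by
      have hbij : Function.Bijective (Algebra.linearMap ↑A Γ(Spec A, ⊤)) :=
        ConcreteCategory.bijective_of_isIso (Scheme.ΓSpecIso A).inv
      exact Module.Flat.of_linearEquiv (LinearEquiv.ofBijective _ hbij).symm
    haveI : Module.Flat Γ(Spec A, ⊤) Γ(G i, V) := h1
    exact Module.Flat.trans ↑A Γ(Spec A, ⊤) Γ(G i, V)
  have hten := Groth.Agent.Lib.T2H3.Separating.tensor_of_pullback_separating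
    (pullback.fst p (qJ A J)) F G u h0 hV hU₀ inf_le_left
  have h0A := jointly_injective_of_isPushout ↑A (↑A ⧸ J) Γ(X, V) Γ(pullback p (qJ A J),
      (pullback.fst p (qJ A J)) ⁻¹ᵁ V ⊓ (pullback.snd p (qJ A J)) ⁻¹ᵁ ⊤)
    (fun i => Γ(G i, V)) (fun i => appₗ (u i) V) hten
  exact Groth.Agent.Lib.T2H3.SepNilp.eq_zero_of_reduction J (fun i => Γ(G i, V))
    (fun i => (appₗ (u i) V).restrictScalars ↑A) hJ hfree h0A m hm

variable {A p J} in
/-- **EGA IV 11.9.x (affine base, free graded pieces, `Z_λ = X`)**: if the pull-back of the family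
`(u i)` to `X ×_A A/J` is separating (`J` nilpotent, `J^k/J^{k+1}` free, `G i` flat over `A`), then
the family is separating. -/
theorem separating_of_reduction (hJ : IsNilpotent J)
    (hfree : ∀ k : ℕ, Module.Free (↑A ⧸ J) ((↑A ⧸ J) ⊗[↑A] ↥(J ^ k)))
    (F : X.Modules) [F.IsQuasicoherent] {ι : Type u} (G : ι → X.Modules)
    [∀ i, (G i).IsQuasicoherent] (hG : ∀ i, FlatMod.IsFlatOver p (G i)) (u : ∀ i, F ⟶ G i)
    (h0 : ∀ (V' : (pullback p (qJ A J)).Opens)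
      (t : Γ((Scheme.Modules.pullback (pullback.fst p (qJ A J))).obj F, V')),
      (∀ i, ((Scheme.Modules.pullback (pullback.fst p (qJ A J))).map (u i)).app V' t = 0) → t = 0)
    (V₀ : X.Opens) (t : Γ(F, V₀)) (ht : ∀ i, (u i).app V₀ t = 0) : t = 0 := by
  refine Groth.Agent.Helper13ModAffine.section_ext_affine F t 0 (fun V hV hle => ?_)
  rw [map_zero]
  refine eq_zero_of_affine hJ hfree F G hG u h0 hV _ (fun i => ?_)
  have hn := congrArg (fun k => k.hom t) ((u i).mapPresheaf.naturality (homOfLE hle).op)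
  have h1 : (u i).app V (F.presheaf.map (homOfLE hle).op t) =
      (G i).presheaf.map (homOfLE hle).op ((u i).app V₀ t) := hn
  rw [h1, ht i, map_zero]

end Sch

end Groth.Agent.Lib.T2H3.SepNilpSch
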