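import Mathlib
import Groth.Agent.Lib.LeadFib1
import Groth.Agent.Lib.T2H3SepNilpSch

/-!
# Fibrewise criterion for separating families, part 2 (lead)

Transport of joint injectivity along `R → L₁ → L₂` and the local step in tensor form.
-/

set_option autoImplicit false
set_option maxHeartbeats 400000
set_option linter.style.haveILetI false
set_option linter.unusedSectionVars false
set_option linter.unusedVariables false

open TensorProduct

universe u

namespace Groth.Agent.Lib.LeadFib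

/-- naturality of `cancelBaseChange` in the last variable. -/
theorem cancelBaseChange_lTensor {R L₁ L₂ : Type*} [CommRing R] [CommRing L₁] [CommRing L₂]
    [Algebra R L₁] [Algebra L₁ L₂] [Algebra R L₂] [IsScalarTower R L₁ L₂]
    {N N' : Type*} [AddCommGroup N] [Module R N] [AddCommGroup N'] [Module R N']
    (f : N →ₗ[R] N') (w : L₂ ⊗[L₁] (L₁ ⊗[R] N)) :
    AlgebraTensorModule.cancelBaseChange R L₁ L₂ L₂ N'
      ((AlgebraTensorModule.lTensor L₁ L₁ f).lTensor L₂ w) =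
      f.lTensor L₂ (AlgebraTensorModule.cancelBaseChange R L₁ L₂ L₂ N w) := by
  induction w using TensorProduct.induction_on with
  | zero => simp
  | tmul m t =>
    induction t using TensorProduct.induction_on with
    | zero => simp
    | tmul a b =>
      simp [AlgebraTensorModule.cancelBaseChange_tmul]
    | add x y hx hy =>
      rw [TensorProduct.tmul_add, map_add, map_add, hx, hy, map_add, map_add]
  | add x y hx hy => simp only [map_add, hx, hy]

/-- joint injectivity over `L₂ ⊗[R] -` gives joint injectivity over `L₂ ⊗[L₁] (L₁ ⊗[R] -)`. -/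
theorem jointlyInjective_baseChange {R L₁ L₂ : Type*} [CommRing R] [CommRing L₁] [CommRing L₂]
    [Algebra R L₁] [Algebra L₁ L₂] [Algebra R L₂] [IsScalarTower R L₁ L₂]
    {M : Type*} [AddCommGroup M] [Module R M] {ι : Type*} {N : ι → Type*}
    [∀ i, AddCommGroup (N i)] [∀ i, Module R (N i)] (u : ∀ i, M →ₗ[R] N i)
    (h : ∀ z : L₂ ⊗[R] M, (∀ i, (u i).lTensor L₂ z = 0) → z = 0)
    (w : L₂ ⊗[L₁] (L₁ ⊗[R] M))
    (hw : ∀ i, (AlgebraTensorModule.lTensor L₁ L₁ (u i)).lTensor L₂ w = 0) : w = 0 := by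
  have h1 : AlgebraTensorModule.cancelBaseChange R L₁ L₂ L₂ M w = 0 := by
    refine h _ (fun i => ?_)
    rw [← cancelBaseChange_lTensor, hw i, map_zero]
  exact (AlgebraTensorModule.cancelBaseChange R L₁ L₂ L₂ M).injective (by rw [h1, map_zero])

/-- the fibre condition `h0` of the local step from joint injectivity over a pushout `L₂` of
`B₁ ⧸ J` and `L₁`. -/
theorem h0_of_pushout {R : Type*} [CommRing R] {M : Type*} [AddCommGroup M] [Module R M]
    {ι : Type*} {N : ι → Type*} [∀ i, AddCommGroup (N i)] [∀ i, Module R (N i)]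
    (u : ∀ i, M →ₗ[R] N i)
    {B₁ : Type*} [CommRing B₁] (J : Ideal B₁)
    (L₁ : Type*) [CommRing L₁] [Algebra B₁ L₁] [Algebra R L₁] [SMulCommClass R B₁ L₁]
    (L₂ : Type*) [CommRing L₂] [Algebra B₁ L₂] [Algebra L₁ L₂] [Algebra (B₁ ⧸ J) L₂] [Algebra R L₂]
    [IsScalarTower B₁ L₁ L₂] [IsScalarTower B₁ (B₁ ⧸ J) L₂] [IsScalarTower R L₁ L₂]
    [Algebra.IsPushout B₁ (B₁ ⧸ J) L₁ L₂]
    (hL₂ : ∀ z : L₂ ⊗[R] M, (∀ i, (u i).lTensor L₂ z = 0) → z = 0)
    (z : (B₁ ⧸ J) ⊗[B₁] (L₁ ⊗[R] M))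
    (hz : ∀ i, ((AlgebraTensorModule.lTensor L₁ L₁ (u i)).restrictScalars B₁).lTensor (B₁ ⧸ J) z = 0) :
    z = 0 := by
  refine Groth.Agent.Lib.T2H3.SepNilpSch.jointly_injective_of_isPushout B₁ (B₁ ⧸ J) L₁ L₂
    (M := L₁ ⊗[R] M) (fun i => L₁ ⊗[R] N i) (fun i => AlgebraTensorModule.lTensor L₁ L₁ (u i))
    (fun w hw => jointlyInjective_baseChange u hL₂ w hw) z (fun i => ?_)
  exact hz i

/-- the local step in tensor form. -/
theorem eq_zero_of_fibre_tensor {R : Type u} [CommRing R] {M : Type u} [AddCommGroup M] [Module R M]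
    [Module.Finite R M]
    {ι : Type*} {N : ι → Type u} [∀ i, AddCommGroup (N i)] [∀ i, Module R (N i)]
    (u : ∀ i, M →ₗ[R] N i)
    {B₁ : Type u} [CommRing B₁] (J : Ideal B₁) [J.IsMaximal]
    (L₁ : Type u) [CommRing L₁] [Algebra B₁ L₁] [Algebra R L₁] [SMulCommClass R B₁ L₁]
    [IsNoetherianRing L₁] [∀ i, Module.Flat B₁ (L₁ ⊗[R] N i)]
    (L₂ : Type u) [CommRing L₂] [Algebra B₁ L₂] [Algebra L₁ L₂] [Algebra (B₁ ⧸ J) L₂] [Algebra R L₂]
    [IsScalarTower B₁ L₁ L₂] [IsScalarTower B₁ (B₁ ⧸ J) L₂] [IsScalarTower R L₁ L₂]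
    [Algebra.IsPushout B₁ (B₁ ⧸ J) L₁ L₂]
    (hL₂ : ∀ z : L₂ ⊗[R] M, (∀ i, (u i).lTensor L₂ z = 0) → z = 0)
    (t : L₁ ⊗[R] M) (ht : ∀ i, (u i).lTensor L₁ t = 0) (hJt : ∀ j ∈ J, j • t = 0) : t = 0 := by
  exact eq_zero_of_fibre J L₁ (M₁ := L₁ ⊗[R] M) (fun i => L₁ ⊗[R] N i)
    (fun i => (AlgebraTensorModule.lTensor L₁ L₁ (u i)).restrictScalars B₁)
    (fun z hz => h0_of_pushout u J L₁ L₂ hL₂ z hz) t (fun i => ht i) hJt

end Groth.Agent.Lib.LeadFib
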