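import Mathlib

/-!
# Separating families and finitely generated subalgebras: algebra (helper3)

Ring-level form of EGA IV 11.9.x (reduction of base change `A → A'` to finitely generated
subalgebras of `A'`).  `Phi u P s` is the condition "`(P ⊗ M)_s → ∏ (P ⊗ N i)_s` is injective".
-/

set_option autoImplicit false
set_option linter.style.haveILetI false
set_option linter.unusedSectionVars false

universe u

namespace Groth.Agent.Lib.T2H3.SepFG

open TensorProduct

section Phi

variable {R : Type*} [CommRing R] {M : Type*} [AddCommGroup M] [Module R M]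
  {ι : Type*} {N : ι → Type*} [∀ i, AddCommGroup (N i)] [∀ i, Module R (N i)]
  (u : ∀ i, M →ₗ[R] N i)

/-- the family `(P ⊗ M)_s → (P ⊗ N i)_s` is jointly injective, in elementary terms. -/
def Phi (P : Type*) [CommRing P] [Algebra R P] (s : P) : Prop :=
  ∀ z : P ⊗[R] M, (∀ i, ∃ n : ℕ, s ^ n • (u i).lTensor P z = 0) → ∃ n : ℕ, s ^ n • z = 0

variable {P L : Type*} [CommRing P] [CommRing L] [Algebra R P] [Algebra P L] [Algebra R L]
  [IsScalarTower R P L]

/-- `P ⊗ Q → L ⊗ Q`. -/
noncomputable abbrev theta (P L : Type*) [CommRing P] [CommRing L] [Algebra R P] [Algebra P L]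
    [Algebra R L] [IsScalarTower R P L] (Q : Type*) [AddCommGroup Q] [Module R Q] :
    P ⊗[R] Q →ₗ[P] L ⊗[R] Q :=
  AlgebraTensorModule.rTensor R Q (Algebra.linearMap P L)

theorem isLocalizedModule_theta (s : P) [IsLocalization.Away s L] (Q : Type*) [AddCommGroup Q]
    [Module R Q] : IsLocalizedModule (Submonoid.powers s) (theta (R := R) P L Q) := by
  haveI : IsLocalizedModule (Submonoid.powers s) (Algebra.linearMap P L) :=
    (isLocalizedModule_iff_isLocalization).2 inferInstance
  exact IsLocalizedModule.rTensor ..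

theorem theta_naturality {Q Q' : Type*} [AddCommGroup Q] [Module R Q] [AddCommGroup Q']
    [Module R Q'] (f : Q →ₗ[R] Q') (z : P ⊗[R] Q) :
    f.lTensor L (theta (R := R) P L Q z) = theta (R := R) P L Q' (f.lTensor P z) := by
  induction z with
  | zero => simp
  | add x y hx hy => rw [map_add, map_add, map_add, map_add, hx, hy]
  | tmul p q => rfl

theorem lTensor_smul {Q Q' : Type*} [AddCommGroup Q] [Module R Q] [AddCommGroup Q']
    [Module R Q'] (f : Q →ₗ[R] Q') (c : P) (z : L ⊗[R] Q) :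
    f.lTensor L (c • z) = c • f.lTensor L z :=
  (AlgebraTensorModule.lTensor P L f).map_smul c z

variable (s : P) [IsLocalization.Away s L]

include s in
theorem phi_of_injective
    (h : ∀ z : L ⊗[R] M, (∀ i, (u i).lTensor L z = 0) → z = 0) : Phi u P s := by
  intro z hz
  haveI := isLocalizedModule_theta (R := R) (L := L) s M
  have h1 : theta (R := R) P L M z = 0 := by
    refine h _ (fun i => ?_)
    haveI := isLocalizedModule_theta (R := R) (L := L) s (N i)
    rw [theta_naturality]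
    obtain ⟨n, hn⟩ := hz i
    exact (IsLocalizedModule.eq_zero_iff (Submonoid.powers s) (theta (R := R) P L (N i))).2
      ⟨⟨s ^ n, n, rfl⟩, hn⟩
  obtain ⟨⟨c, n, rfl⟩, hc⟩ :=
    (IsLocalizedModule.eq_zero_iff (Submonoid.powers s) (theta (R := R) P L M)).1 h1
  exact ⟨n, hc⟩

include s in
theorem injective_of_phi (h : Phi u P s) (z : L ⊗[R] M) (hz : ∀ i, (u i).lTensor L z = 0) :
    z = 0 := by
  haveI := isLocalizedModule_theta (R := R) (L := L) s M
  obtain ⟨⟨z₀, ⟨c, n, rfl⟩⟩, hzc⟩ :=
    IsLocalizedModule.surj (Submonoid.powers s) (theta (R := R) P L M) z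
  have hzc' : s ^ n • z = theta (R := R) P L M z₀ := hzc
  have h1 : ∀ i, ∃ k : ℕ, s ^ k • (u i).lTensor P z₀ = 0 := by
    intro i
    haveI := isLocalizedModule_theta (R := R) (L := L) s (N i)
    have h2 : theta (R := R) P L (N i) ((u i).lTensor P z₀) = 0 := by
      rw [← theta_naturality, ← hzc', lTensor_smul, hz i, smul_zero]
    obtain ⟨⟨c, k, rfl⟩, hc⟩ :=
      (IsLocalizedModule.eq_zero_iff (Submonoid.powers s) (theta (R := R) P L (N i))).1 h2
    exact ⟨k, hc⟩
  obtain ⟨k, hk⟩ := h z₀ h1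
  have h2 : theta (R := R) P L M z₀ = 0 :=
    (IsLocalizedModule.eq_zero_iff (Submonoid.powers s) (theta (R := R) P L M)).2
      ⟨⟨s ^ k, k, rfl⟩, hk⟩
  rw [h2] at hzc'
  have h3 := IsLocalizedModule.smul_injective (theta (R := R) P L M)
    (⟨s ^ n, n, rfl⟩ : Submonoid.powers s)
  exact h3 (by show s ^ n • z = s ^ n • (0 : L ⊗[R] M); rw [hzc', smul_zero])

end Phi

section FG

variable {A : Type*} [CommRing A] {A' : Type*} [CommRing A'] [Algebra A A']

/-- every element of `A' ⊗ M` comes from `B ⊗ M` for a finitely generated subalgebra `B ⊆ A'`. -/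
theorem exists_fg_tensor {M : Type*} [AddCommGroup M] [Module A M] (x : A' ⊗[A] M) :
    ∃ B : Subalgebra A A', B.FG ∧ ∃ xB : ↥B ⊗[A] M, (B.val.toLinearMap.rTensor M) xB = x := by
  induction x with
  | zero => exact ⟨⊥, Subalgebra.fg_bot, 0, map_zero _⟩
  | tmul a m =>
    have hfg : (Algebra.adjoin A {a} : Subalgebra A A').FG := by
      have := Subalgebra.fg_adjoin_finset (R := A) ({a} : Finset A')
      simpa using this
    refine ⟨Algebra.adjoin A {a}, hfg,
      (⟨a, Algebra.subset_adjoin (Set.mem_singleton a)⟩ : ↥(Algebra.adjoin A {a})) ⊗ₜ[A] m, ?_⟩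
    rw [LinearMap.rTensor_tmul]
    rfl
  | add x y hx hy =>
    obtain ⟨B₁, h₁, x₁, rfl⟩ := hx
    obtain ⟨B₂, h₂, x₂, rfl⟩ := hy
    refine ⟨B₁ ⊔ B₂, h₁.sup h₂,
      ((Subalgebra.inclusion (le_sup_left : B₁ ≤ B₁ ⊔ B₂)).toLinearMap.rTensor M) x₁ +
      ((Subalgebra.inclusion (le_sup_right : B₂ ≤ B₁ ⊔ B₂)).toLinearMap.rTensor M) x₂, ?_⟩
    rw [map_add, ← LinearMap.comp_apply, ← LinearMap.comp_apply, ← LinearMap.rTensor_comp,
      ← LinearMap.rTensor_comp]
    rfl

theorem exists_fg_tensor_mono {M : Type*} [AddCommGroup M] [Module A M] {B B' : Subalgebra A A'}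
    (h : B ≤ B') (xB : ↥B ⊗[A] M) :
    ∃ xB' : ↥B' ⊗[A] M, (B'.val.toLinearMap.rTensor M) xB' = (B.val.toLinearMap.rTensor M) xB := by
  refine ⟨((Subalgebra.inclusion h).toLinearMap.rTensor M) xB, ?_⟩
  rw [← LinearMap.comp_apply, ← LinearMap.rTensor_comp]
  rfl

/-- two elements at once. -/
theorem exists_fg_tensor₂ {M M' : Type*} [AddCommGroup M] [Module A M] [AddCommGroup M']
    [Module A M'] (x : A' ⊗[A] M) (x' : A' ⊗[A] M') :
    ∃ B : Subalgebra A A', B.FG ∧ (∃ xB : ↥B ⊗[A] M, (B.val.toLinearMap.rTensor M) xB = x) ∧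
      ∃ xB' : ↥B ⊗[A] M', (B.val.toLinearMap.rTensor M') xB' = x' := by
  obtain ⟨B₁, h₁, x₁, rfl⟩ := exists_fg_tensor x
  obtain ⟨B₂, h₂, x₂, rfl⟩ := exists_fg_tensor x'
  exact ⟨B₁ ⊔ B₂, h₁.sup h₂, exists_fg_tensor_mono le_sup_left x₁,
    exists_fg_tensor_mono le_sup_right x₂⟩

end FG

section Core

variable {A : Type*} [CommRing A] (R : Type*) [CommRing R] [Algebra A R]
  {A' : Type*} [CommRing A'] [Algebra A A']
  (P' : Type*) [CommRing P'] [Algebra A P'] [Algebra A' P'] [Algebra R P'] [IsScalarTower A A' P']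
  [IsScalarTower A R P'] [Algebra.IsPushout A A' R P']
  {B : Type*} [CommRing B] [Algebra A B] (b : B →ₐ[A] A')
  (PB : Type*) [CommRing PB] [Algebra A PB] [Algebra B PB] [Algebra R PB] [IsScalarTower A B PB]
  [IsScalarTower A R PB] [Algebra.IsPushout A B R PB]

/-- the map of pushouts induced by `b : B → A'`. -/
noncomputable def psi : PB →ₐ[A] P' :=
  Algebra.pushoutDesc PB ((IsScalarTower.toAlgHom A A' P').comp b) (IsScalarTower.toAlgHom A R P')
    (fun _ _ => mul_comm _ _)

theorem psi_algebraMap_left (c : B) : psi R P' b PB (algebraMap B PB c) = algebraMap A' P' (b c) :=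
  Algebra.pushoutDesc_left PB _ _ _ c

theorem psi_algebraMap_right (r : R) : psi R P' b PB (algebraMap R PB r) = algebraMap R P' r :=
  Algebra.pushoutDesc_right PB _ _ _ r

/-- `psi` as an `R`-linear map. -/
noncomputable def psiL : PB →ₗ[R] P' where
  toFun := psi R P' b PB
  map_add' := map_add _
  map_smul' r x := by
    rw [Algebra.smul_def, map_mul, psi_algebraMap_right, RingHom.id_apply, Algebra.smul_def]

theorem psiL_apply (x : PB) : psiL R P' b PB x = psi R P' b PB x := rfl

variable {Q : Type*} [AddCommGroup Q] [Module R Q]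

theorem psiL_rTensor_smul (c : PB) (z : PB ⊗[R] Q) :
    (psiL R P' b PB).rTensor Q (c • z) = psi R P' b PB c • (psiL R P' b PB).rTensor Q z := by
  induction z with
  | zero => simp
  | add x y hx hy => rw [smul_add, map_add, hx, hy, map_add, smul_add]
  | tmul p q =>
    rw [TensorProduct.smul_tmul', LinearMap.rTensor_tmul, LinearMap.rTensor_tmul,
      TensorProduct.smul_tmul', psiL_apply, psiL_apply, smul_eq_mul, map_mul, smul_eq_mul]

theorem psiL_rTensor_lTensor {Q' : Type*} [AddCommGroup Q'] [Module R Q'] (f : Q →ₗ[R] Q')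
    (z : PB ⊗[R] Q) :
    (psiL R P' b PB).rTensor Q' (f.lTensor PB z) = f.lTensor P' ((psiL R P' b PB).rTensor Q z) := by
  rw [← LinearMap.comp_apply, ← LinearMap.comp_apply, LinearMap.rTensor_comp_lTensor,
    LinearMap.lTensor_comp_rTensor]

variable [Module A Q] [IsScalarTower A R Q]

theorem psiL_rTensor_cancelBaseChange_symm (x : B ⊗[A] Q) :
    (psiL R P' b PB).rTensor Q ((Algebra.IsPushout.cancelBaseChange A B R PB Q).symm x) =
      (Algebra.IsPushout.cancelBaseChange A A' R P' Q).symm (b.toLinearMap.rTensor Q x) := by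
  induction x with
  | zero => simp
  | add x y hx hy => rw [map_add, map_add, map_add, map_add, hx, hy]
  | tmul c q =>
    rw [Algebra.IsPushout.cancelBaseChange_symm_tmul, LinearMap.rTensor_tmul,
      LinearMap.rTensor_tmul, Algebra.IsPushout.cancelBaseChange_symm_tmul, psiL_apply,
      psi_algebraMap_left]
    rfl

theorem psiL_rTensor_injective [Module.Flat A Q] (hb : Function.Injective b) :
    Function.Injective ((psiL R P' b PB).rTensor Q) := by
  rw [injective_iff_map_eq_zero]
  intro y hy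
  obtain ⟨x, rfl⟩ := (Algebra.IsPushout.cancelBaseChange A B R PB Q).symm.surjective y
  rw [psiL_rTensor_cancelBaseChange_symm] at hy
  have h1 : b.toLinearMap.rTensor Q x = 0 :=
    (Algebra.IsPushout.cancelBaseChange A A' R P' Q).symm.injective (by rw [hy, map_zero])
  have h2 : x = 0 :=
    Module.Flat.rTensor_preserves_injective_linearMap (M := Q) b.toLinearMap hb
      (by rw [h1, map_zero])
  rw [h2, map_zero]

end Core

section Main

variable {A : Type*} [CommRing A] {R : Type*} [CommRing R] [Algebra A R]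
  {M : Type*} [AddCommGroup M] [Module A M] [Module R M] [IsScalarTower A R M]
  {ι : Type*} {N : ι → Type*} [∀ i, AddCommGroup (N i)] [∀ i, Module A (N i)]
  [∀ i, Module R (N i)] [∀ i, IsScalarTower A R (N i)] [∀ i, Module.Flat A (N i)]
  (u : ∀ i, M →ₗ[R] N i)
  {A' : Type*} [CommRing A'] [Algebra A A']
  (P' : Type*) [CommRing P'] [Algebra A P'] [Algebra A' P'] [Algebra R P'] [IsScalarTower A A' P']
  [IsScalarTower A R P'] [Algebra.IsPushout A A' R P']
  {B : Type*} [CommRing B] [Algebra A B] (b : B →ₐ[A] A')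
  (PB : Type*) [CommRing PB] [Algebra A PB] [Algebra B PB] [Algebra R PB] [IsScalarTower A B PB]
  [IsScalarTower A R PB] [Algebra.IsPushout A B R PB]

/-- the core step: `Phi` over `B ↪ A'` gives the `Phi`-conclusion for elements coming from `B`. -/
theorem exists_pow_smul_eq_zero_of_phi (hb : Function.Injective b) (sB : PB) (zB : PB ⊗[R] M)
    (hΦ : Phi u PB sB)
    (hz : ∀ i, ∃ n : ℕ, (psi R P' b PB sB) ^ n •
      (u i).lTensor P' ((psiL R P' b PB).rTensor M zB) = 0) :
    ∃ n : ℕ, (psi R P' b PB sB) ^ n • (psiL R P' b PB).rTensor M zB = 0 := by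
  have h1 : ∀ i, ∃ n : ℕ, sB ^ n • (u i).lTensor PB zB = 0 := by
    intro i
    obtain ⟨n, hn⟩ := hz i
    refine ⟨n, psiL_rTensor_injective R P' b PB (Q := N i) hb ?_⟩
    rw [map_zero, psiL_rTensor_smul, map_pow, psiL_rTensor_lTensor]
    exact hn
  obtain ⟨n, hn⟩ := hΦ zB h1
  refine ⟨n, ?_⟩
  rw [← map_pow, ← psiL_rTensor_smul, hn, map_zero]

theorem psi_rid (y : PB ⊗[R] R) :
    psi R P' b PB (TensorProduct.rid R PB y) =
      TensorProduct.rid R P' ((psiL R P' b PB).rTensor R y) := by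
  induction y with
  | zero => simp
  | add x y hx hy => rw [map_add, map_add, map_add, map_add, hx, hy]
  | tmul p r =>
    rw [LinearMap.rTensor_tmul, TensorProduct.rid_tmul, TensorProduct.rid_tmul, ← psiL_apply,
      map_smul]

/-- descent of a pair `(s, z)` to a finitely generated subalgebra. -/
theorem exists_fg_descent (s : P') (z : P' ⊗[R] M) :
    ∃ B : Subalgebra A A', B.FG ∧ ∀ (PB : Type*) [CommRing PB] [Algebra A PB] [Algebra ↥B PB]
      [Algebra R PB] [IsScalarTower A ↥B PB] [IsScalarTower A R PB]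
      [Algebra.IsPushout A ↥B R PB], ∃ (sB : PB) (zB : PB ⊗[R] M),
        psi R P' B.val PB sB = s ∧ (psiL R P' B.val PB).rTensor M zB = z := by
  obtain ⟨B, hB, ⟨x₁, hx₁⟩, ⟨x₂, hx₂⟩⟩ := exists_fg_tensor₂
    (Algebra.IsPushout.cancelBaseChange A A' R P' M z)
    (Algebra.IsPushout.cancelBaseChange A A' R P' R (s ⊗ₜ[R] (1 : R)))
  refine ⟨B, hB, ?_⟩
  intro PB _ _ _ _ _ _ _
  refine ⟨TensorProduct.rid R PB ((Algebra.IsPushout.cancelBaseChange A ↥B R PB R).symm x₂),
    (Algebra.IsPushout.cancelBaseChange A ↥B R PB M).symm x₁, ?_, ?_⟩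
  · rw [psi_rid, psiL_rTensor_cancelBaseChange_symm, hx₂, LinearEquiv.symm_apply_apply,
      TensorProduct.rid_tmul, one_smul]
  · rw [psiL_rTensor_cancelBaseChange_symm, hx₁, LinearEquiv.symm_apply_apply]

end Main

end Groth.Agent.Lib.T2H3.SepFG
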