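import Mathlib
import Groth.Agent.Lib.T2H3SepFG

/-!
# Fibrewise criterion for separating families, part 3 (lead)

* an associated prime of the `s`-torsion-free quotient of a submodule;
* two-step localization `PB → P₁ → L₁` of tensor products `- ⊗[R] Q`.
-/

set_option autoImplicit false
set_option maxHeartbeats 400000
set_option linter.style.haveILetI false
set_option linter.unusedSectionVars false
set_option linter.unusedVariables false

open TensorProduct Groth.Agent.Lib.T2H3.SepFG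

universe u

namespace Groth.Agent.Lib.LeadFib

/-- the `s`-power torsion submodule. -/
def powTorsion {P : Type*} [CommRing P] (Y : Type*) [AddCommGroup Y] [Module P Y] (s : P) :
    Submodule P Y where
  carrier := {y | ∃ n : ℕ, s ^ n • y = 0}
  add_mem' := by
    rintro x y ⟨a, hx⟩ ⟨b, hy⟩
    refine ⟨a + b, ?_⟩
    have h1 : s ^ (a + b) • x = 0 := by rw [pow_add, mul_comm, mul_smul, hx, smul_zero]
    have h2 : s ^ (a + b) • y = 0 := by rw [pow_add, mul_smul, hy, smul_zero]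
    rw [smul_add, h1, h2, add_zero]
  zero_mem' := ⟨0, smul_zero _⟩
  smul_mem' := by
    rintro c x ⟨a, hx⟩
    exact ⟨a, by rw [smul_comm, hx, smul_zero]⟩

theorem mem_powTorsion {P : Type*} [CommRing P] {Y : Type*} [AddCommGroup Y] [Module P Y] (s : P)
    (y : Y) : y ∈ powTorsion Y s ↔ ∃ n : ℕ, s ^ n • y = 0 := Iff.rfl

/-- an associated prime "up to `s`-power torsion". -/
theorem exists_prime_ann {P : Type*} [CommRing P] [IsNoetherianRing P] {Y : Type*}
    [AddCommGroup Y] [Module P Y] (s : P) (T : Submodule P Y) (z : Y) (hzT : z ∈ T)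
    (hz : ∀ n : ℕ, s ^ n • z ≠ 0) :
    ∃ (𝔔 : Ideal P) (_ : 𝔔.IsPrime) (t : Y), t ∈ T ∧
      ∀ b : P, b ∈ 𝔔 ↔ ∃ n : ℕ, s ^ n • b • t = 0 := by
  classical
  let Γ : Submodule P Y := powTorsion Y s
  let Tb : Submodule P (Y ⧸ Γ) := T.map Γ.mkQ
  have hzΓ : Γ.mkQ z ≠ 0 := by
    intro h
    rw [Submodule.mkQ_apply, Submodule.Quotient.mk_eq_zero] at h
    obtain ⟨n, hn⟩ := h
    exact hz n hn
  haveI : Nontrivial Tb :=
    ⟨⟨⟨Γ.mkQ z, Submodule.mem_map_of_mem hzT⟩, 0, fun h => hzΓ (congrArg Subtype.val h)⟩⟩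
  obtain ⟨𝔔, h𝔔⟩ := associatedPrimes.nonempty P Tb
  obtain ⟨hprime, x, hx⟩ := (isAssociatedPrime_iff).mp h𝔔
  obtain ⟨t, htT, htx⟩ := x.2
  refine ⟨𝔔, hprime, t, htT, fun b => ?_⟩
  rw [hx, Submodule.mem_colon_singleton, Submodule.mem_bot]
  have h1 : b • x = 0 ↔ Γ.mkQ (b • t) = 0 := by
    constructor
    · intro h
      have h2 := congrArg Subtype.val h
      rw [map_smul, htx]
      simpa using h2
    · intro h
      apply Subtype.ext
      rw [map_smul, htx] at h
      simpa using h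
  rw [h1, Submodule.mkQ_apply, Submodule.Quotient.mk_eq_zero]
  exact Iff.rfl

section Loc

variable {R : Type*} [CommRing R] {PB P₁ : Type*} [CommRing PB] [CommRing P₁]
  [Algebra R PB] [Algebra PB P₁] [Algebra R P₁] [IsScalarTower R PB P₁]

/-- `theta` is a localization for a general submonoid. -/
theorem isLocalizedModule_theta' (S₁ : Submonoid PB) [IsLocalization S₁ P₁] (Q : Type*)
    [AddCommGroup Q] [Module R Q] : IsLocalizedModule S₁ (theta (R := R) PB P₁ Q) := by
  haveI : IsLocalizedModule S₁ (Algebra.linearMap PB P₁) :=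
    (isLocalizedModule_iff_isLocalization).2 inferInstance
  exact IsLocalizedModule.rTensor ..

theorem theta_smul (Q : Type*) [AddCommGroup Q] [Module R Q] (p : PB) (y : PB ⊗[R] Q) :
    theta (R := R) PB P₁ Q (p • y) = algebraMap PB P₁ p • theta (R := R) PB P₁ Q y := by
  rw [map_smul, algebraMap_smul]

variable {L₁ : Type*} [CommRing L₁] [Algebra P₁ L₁] [Algebra R L₁] [IsScalarTower R P₁ L₁]

/-- two-step localization: vanishing criterion. -/
theorem theta_theta_eq_zero_iff (S₁ : Submonoid PB) [IsLocalization S₁ P₁] (s : PB)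
    [IsLocalization.Away (algebraMap PB P₁ s) L₁] (Q : Type*) [AddCommGroup Q] [Module R Q]
    (y : PB ⊗[R] Q) :
    theta (R := R) P₁ L₁ Q (theta (R := R) PB P₁ Q y) = 0 ↔
      ∃ c ∈ S₁, ∃ n : ℕ, c • s ^ n • y = 0 := by
  haveI := isLocalizedModule_theta (R := R) (L := L₁) (algebraMap PB P₁ s) Q
  haveI := isLocalizedModule_theta' (R := R) (P₁ := P₁) S₁ Q
  rw [IsLocalizedModule.eq_zero_iff (Submonoid.powers (algebraMap PB P₁ s))
    (theta (R := R) P₁ L₁ Q)]
  constructor
  · rintro ⟨⟨_, n, rfl⟩, hc⟩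
    have h1 : (algebraMap PB P₁ s) ^ n • theta (R := R) PB P₁ Q y = 0 := hc
    rw [← map_pow, ← theta_smul,
      IsLocalizedModule.eq_zero_iff S₁ (theta (R := R) PB P₁ Q)] at h1
    obtain ⟨c, hc'⟩ := h1
    exact ⟨c.1, c.2, n, hc'⟩
  · rintro ⟨c, hcS, n, hc⟩
    refine ⟨⟨(algebraMap PB P₁ s) ^ n, n, rfl⟩, ?_⟩
    show (algebraMap PB P₁ s) ^ n • theta (R := R) PB P₁ Q y = 0
    rw [← map_pow, ← theta_smul,
      IsLocalizedModule.eq_zero_iff S₁ (theta (R := R) PB P₁ Q)]
    exact ⟨⟨c, hcS⟩, hc⟩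

end Loc

end Groth.Agent.Lib.LeadFib
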