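import Mathlib
import Groth.Agent.Lib.LeadFib2
import Groth.Agent.Lib.LeadFib3

/-!
# Fibrewise criterion for separating families, part 4 (lead)

The universal fibre condition `UFC` and the second layer of the ring-level argument: over a base
`B₁` with a maximal ideal `J` and a Noetherian pushout `P₁` of `B₁` and `R`, an element of
`P₁ ⊗[R] M` which is killed (up to powers of `s₁`) by the family and by `J` is `s₁`-power torsion.
-/

set_option autoImplicit false
set_option maxHeartbeats 800000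
set_option linter.style.haveILetI false
set_option linter.unusedSectionVars false
set_option linter.unusedVariables false

open TensorProduct Groth.Agent.Lib.T2H3.SepFG

universe u

namespace Groth.Agent.Lib.LeadFib

attribute [local instance] Algebra.TensorProduct.rightAlgebra

/-- two algebra structures on a commutative ring commute. -/
theorem smulCommClass_of_algebra (R S T : Type*) [CommSemiring R] [CommSemiring S] [CommSemiring T]
    [Algebra R T] [Algebra S T] : SMulCommClass R S T :=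
  ⟨fun r s t => by
    rw [Algebra.smul_def, Algebra.smul_def, Algebra.smul_def, Algebra.smul_def, mul_left_comm]⟩

/-- composing towers. -/
theorem isScalarTower_of_three (A B B₁ P : Type*) [CommSemiring A] [CommSemiring B]
    [CommSemiring B₁] [CommSemiring P] [Algebra A B] [Algebra A B₁] [Algebra B B₁] [Algebra A P]
    [Algebra B P] [Algebra B₁ P] [IsScalarTower A B B₁] [IsScalarTower A B P]
    [IsScalarTower B B₁ P] : IsScalarTower A B₁ P :=
  .of_algebraMap_eq fun a => by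
    rw [IsScalarTower.algebraMap_apply A B P, IsScalarTower.algebraMap_apply B B₁ P,
      ← IsScalarTower.algebraMap_apply A B B₁]

/-- **the universal fibre condition**: over every field `K` over `A`, the family is jointly
injective after base change to every localization `(K ⊗_A R)_s`. -/
def UFC (A : Type u) [CommRing A] {R : Type u} [CommRing R] [Algebra A R] {M : Type u}
    [AddCommGroup M] [Module R M] {ι : Type*} {N : ι → Type u} [∀ i, AddCommGroup (N i)]
    [∀ i, Module R (N i)] (u : ∀ i, M →ₗ[R] N i) : Prop :=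
  ∀ (K : Type u) [Field K] [Algebra A K] (P₂ : Type u) [CommRing P₂] [Algebra A P₂] [Algebra K P₂]
    [Algebra R P₂] [IsScalarTower A K P₂] [IsScalarTower A R P₂] [Algebra.IsPushout A K R P₂]
    (s : P₂), Phi u P₂ s

section Second

variable {A : Type u} [CommRing A] {R : Type u} [CommRing R] [Algebra A R] {M : Type u}
  [AddCommGroup M] [Module R M] [Module.Finite R M] {ι : Type*} {N : ι → Type u}
  [∀ i, AddCommGroup (N i)] [∀ i, Module R (N i)] [∀ i, Module A (N i)]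
  [∀ i, IsScalarTower A R (N i)] [∀ i, Module.Flat A (N i)] (u : ∀ i, M →ₗ[R] N i)

/-- the localization of the fibre `P₁ ⊗ K₂` at `s₁ ⊗ 1` is `L₁ ⊗ K₂`. -/
theorem isLocalization_away_tensor {B₁ : Type u} [CommRing B₁] (K₂ : Type u) [CommRing K₂]
    [Algebra B₁ K₂] (P₁ : Type u) [CommRing P₁] [Algebra B₁ P₁] (s₁ : P₁) :
    letI : Algebra (P₁ ⊗[B₁] K₂) (Localization.Away s₁ ⊗[B₁] K₂) :=
      (Algebra.TensorProduct.map (IsScalarTower.toAlgHom B₁ P₁ (Localization.Away s₁))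
        (AlgHom.id B₁ K₂)).toRingHom.toAlgebra
    IsLocalization.Away (algebraMap P₁ (P₁ ⊗[B₁] K₂) s₁) (Localization.Away s₁ ⊗[B₁] K₂) := by
  letI alg : Algebra (P₁ ⊗[B₁] K₂) (Localization.Away s₁ ⊗[B₁] K₂) :=
    (Algebra.TensorProduct.map (IsScalarTower.toAlgHom B₁ P₁ (Localization.Away s₁))
      (AlgHom.id B₁ K₂)).toRingHom.toAlgebra
  haveI tow : IsScalarTower P₁ (P₁ ⊗[B₁] K₂) (Localization.Away s₁ ⊗[B₁] K₂) := by
    refine .of_algebraMap_eq fun p => ?_
    show algebraMap P₁ (Localization.Away s₁) p ⊗ₜ[B₁] (1 : K₂) =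
      (Algebra.TensorProduct.map (IsScalarTower.toAlgHom B₁ P₁ (Localization.Away s₁))
        (AlgHom.id B₁ K₂)) (p ⊗ₜ[B₁] (1 : K₂))
    rw [Algebra.TensorProduct.map_tmul]
    rfl
  have hpo : Algebra.IsPushout P₁ (Localization.Away s₁) (P₁ ⊗[B₁] K₂)
      (Localization.Away s₁ ⊗[B₁] K₂) := by
    refine Algebra.IsPushout.tensorProduct_tensorProduct B₁ K₂ P₁ (Localization.Away s₁) ?_
    ext k
    show (Algebra.TensorProduct.map (IsScalarTower.toAlgHom B₁ P₁ (Localization.Away s₁))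
        (AlgHom.id B₁ K₂)) ((1 : P₁) ⊗ₜ[B₁] k) = (1 : Localization.Away s₁) ⊗ₜ[B₁] k
    rw [Algebra.TensorProduct.map_tmul, map_one]
    rfl
  have hloc : IsLocalization (Algebra.algebraMapSubmonoid (P₁ ⊗[B₁] K₂) (Submonoid.powers s₁))
      (Localization.Away s₁ ⊗[B₁] K₂) :=
    (Algebra.isLocalization_iff_isPushout (Submonoid.powers s₁) (Localization.Away s₁)).mpr hpo.symm
  have hpow : Algebra.algebraMapSubmonoid (P₁ ⊗[B₁] K₂) (Submonoid.powers s₁) =
      Submonoid.powers (algebraMap P₁ (P₁ ⊗[B₁] K₂) s₁) := by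
    unfold Algebra.algebraMapSubmonoid
    exact Submonoid.map_powers _ _
  show IsLocalization (Submonoid.powers (algebraMap P₁ (P₁ ⊗[B₁] K₂) s₁)) _
  rw [← hpow]
  exact hloc

/-- **second layer**. -/
theorem exists_pow_smul_eq_zero_of_local (hU : UFC A u)
    {B₁ : Type u} [CommRing B₁] [Algebra A B₁] (J : Ideal B₁) [J.IsMaximal]
    (P₁ : Type u) [CommRing P₁] [Algebra A P₁] [Algebra B₁ P₁] [Algebra R P₁]
    [IsScalarTower A B₁ P₁] [IsScalarTower A R P₁] [Algebra.IsPushout A B₁ R P₁]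
    [IsNoetherianRing P₁] (s₁ : P₁) (t₁ : P₁ ⊗[R] M)
    (ht : ∀ i, ∃ n : ℕ, s₁ ^ n • (u i).lTensor P₁ t₁ = 0)
    (hJ : ∀ j ∈ J, ∃ n : ℕ, s₁ ^ n • algebraMap B₁ P₁ j • t₁ = 0) :
    ∃ n : ℕ, s₁ ^ n • t₁ = 0 := by
  classical
  letI : Field (B₁ ⧸ J) := Ideal.Quotient.field J
  haveI scc₁ : SMulCommClass R B₁ P₁ := smulCommClass_of_algebra R B₁ P₁
  haveI scc : SMulCommClass R B₁ (Localization.Away s₁) := smulCommClass_of_algebra R B₁ _
  haveI : IsNoetherianRing (Localization.Away s₁) :=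
    IsLocalization.isNoetherianRing (Submonoid.powers s₁) _ inferInstance
  haveI hfl₁ : ∀ i, Module.Flat B₁ (P₁ ⊗[R] N i) := fun i =>
    Module.Flat.of_linearEquiv (Algebra.IsPushout.cancelBaseChange A B₁ R P₁ (N i))
  haveI hfl : ∀ i, Module.Flat B₁ (Localization.Away s₁ ⊗[R] N i) := fun i => by
    haveI := isLocalizedModule_theta (R := R) (L := Localization.Away s₁) s₁ (N i)
    exact flat_of_isLocalizedModule_tower (B := B₁) (P := P₁) (Submonoid.powers s₁)
      (theta (R := R) P₁ (Localization.Away s₁) (N i))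
  -- the fibre rings `P₂`, `L₂`
  letI alg : Algebra (P₁ ⊗[B₁] (B₁ ⧸ J)) (Localization.Away s₁ ⊗[B₁] (B₁ ⧸ J)) :=
    (Algebra.TensorProduct.map (IsScalarTower.toAlgHom B₁ P₁ (Localization.Away s₁))
      (AlgHom.id B₁ (B₁ ⧸ J))).toRingHom.toAlgebra
  haveI hloc : IsLocalization.Away (algebraMap P₁ (P₁ ⊗[B₁] (B₁ ⧸ J)) s₁)
      (Localization.Away s₁ ⊗[B₁] (B₁ ⧸ J)) := isLocalization_away_tensor (B₁ ⧸ J) P₁ s₁
  haveI towAK : IsScalarTower A (B₁ ⧸ J) (P₁ ⊗[B₁] (B₁ ⧸ J)) :=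
    isScalarTower_of_three A B₁ (B₁ ⧸ J) _
  haveI hpo₂ : Algebra.IsPushout A (B₁ ⧸ J) R (P₁ ⊗[B₁] (B₁ ⧸ J)) :=
    (Algebra.IsPushout.comp_iff A B₁ R P₁).mpr inferInstance
  haveI towR : IsScalarTower R (P₁ ⊗[B₁] (B₁ ⧸ J)) (Localization.Away s₁ ⊗[B₁] (B₁ ⧸ J)) := by
    have h : @IsScalarTower R (P₁ ⊗[B₁] (B₁ ⧸ J)) (Localization.Away s₁ ⊗[B₁] (B₁ ⧸ J))
        Algebra.toSMul Algebra.toSMul Algebra.toSMul := by
      refine .of_algebraMap_eq fun r => ?_
      show algebraMap R (Localization.Away s₁) r ⊗ₜ[B₁] (1 : B₁ ⧸ J) =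
        (Algebra.TensorProduct.map (IsScalarTower.toAlgHom B₁ P₁ (Localization.Away s₁))
          (AlgHom.id B₁ (B₁ ⧸ J))) (algebraMap R P₁ r ⊗ₜ[B₁] (1 : B₁ ⧸ J))
      rw [Algebra.TensorProduct.map_tmul,
        IsScalarTower.algebraMap_apply R P₁ (Localization.Away s₁)]
      rfl
    exact h
  have hΦ : Phi u (P₁ ⊗[B₁] (B₁ ⧸ J)) (algebraMap P₁ (P₁ ⊗[B₁] (B₁ ⧸ J)) s₁) :=
    hU (B₁ ⧸ J) (P₁ ⊗[B₁] (B₁ ⧸ J)) _
  have hL₂ : ∀ z : (Localization.Away s₁ ⊗[B₁] (B₁ ⧸ J)) ⊗[R] M,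
      (∀ i, (u i).lTensor _ z = 0) → z = 0 :=
    injective_of_phi (L := Localization.Away s₁ ⊗[B₁] (B₁ ⧸ J)) u _ hΦ
  -- the element
  haveI := isLocalizedModule_theta (R := R) (L := Localization.Away s₁) s₁ M
  have hvan : ∀ (Q : Type u) [AddCommGroup Q] [Module R Q] (y : P₁ ⊗[R] Q),
      (∃ n : ℕ, s₁ ^ n • y = 0) → theta (R := R) P₁ (Localization.Away s₁) Q y = 0 := by
    intro Q _ _ y hy
    haveI := isLocalizedModule_theta (R := R) (L := Localization.Away s₁) s₁ Q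
    obtain ⟨n, hn⟩ := hy
    exact (IsLocalizedModule.eq_zero_iff (Submonoid.powers s₁)
      (theta (R := R) P₁ (Localization.Away s₁) Q)).2 ⟨⟨s₁ ^ n, n, rfl⟩, hn⟩
  have ht₂ : ∀ i, (u i).lTensor (Localization.Away s₁)
      (theta (R := R) P₁ (Localization.Away s₁) M t₁) = 0 := by
    intro i
    rw [theta_naturality]
    exact hvan (N i) _ (ht i)
  have hJ₂ : ∀ j ∈ J, j • theta (R := R) P₁ (Localization.Away s₁) M t₁ = 0 := by
    intro j hj
    have h1 : j • theta (R := R) P₁ (Localization.Away s₁) M t₁ =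
        theta (R := R) P₁ (Localization.Away s₁) M (algebraMap B₁ P₁ j • t₁) := by
      rw [map_smul, algebraMap_smul]
    rw [h1]
    exact hvan M _ (hJ j hj)
  have h0 := eq_zero_of_fibre_tensor u J (Localization.Away s₁)
    (Localization.Away s₁ ⊗[B₁] (B₁ ⧸ J)) hL₂ _ ht₂ hJ₂
  obtain ⟨⟨_, n, rfl⟩, hc⟩ := (IsLocalizedModule.eq_zero_iff (Submonoid.powers s₁)
    (theta (R := R) P₁ (Localization.Away s₁) M)).1 h0
  exact ⟨n, hc⟩

end Second

end Groth.Agent.Lib.LeadFib
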