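import Mathlib
import Groth.Agent.Lib.LeadFib4

/-!
# Fibrewise criterion for separating families, part 5 (lead)

First layer: if `R ⊗[A] B` is Noetherian, the universal fibre condition gives `Phi u (R ⊗[A] B) s`
(associated prime up to `s`-torsion, localization at its contraction to `B`, second layer).
Then the general case `A → A'` by descent to finitely generated subalgebras.
-/

set_option autoImplicit false
set_option maxHeartbeats 800000
set_option linter.style.haveILetI false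
set_option linter.unusedSectionVars false
set_option linter.unusedVariables false

open TensorProduct Groth.Agent.Lib.T2H3.SepFG

universe u

namespace Groth.Agent.Lib.LeadFib

attribute [local instance] Algebra.TensorProduct.rightAlgebra

variable {A : Type u} [CommRing A] {R : Type u} [CommRing R] [Algebra A R] {M : Type u}
  [AddCommGroup M] [Module R M] [Module.Finite R M] {ι : Type*} {N : ι → Type u}
  [∀ i, AddCommGroup (N i)] [∀ i, Module R (N i)] [∀ i, Module A (N i)]
  [∀ i, IsScalarTower A R (N i)] [∀ i, Module.Flat A (N i)] (u : ∀ i, M →ₗ[R] N i)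

/-- **first layer**. -/
theorem phi_of_noetherian (hU : UFC A u) (B : Type u) [CommRing B] [Algebra A B]
    [IsNoetherianRing (R ⊗[A] B)] (s : R ⊗[A] B) : Phi u (R ⊗[A] B) s := by
  classical
  intro z hz
  by_contra hne
  push Not at hne
  let T : Submodule (R ⊗[A] B) ((R ⊗[A] B) ⊗[R] M) :=
    ⨅ i, (powTorsion ((R ⊗[A] B) ⊗[R] N i) s).comap
      (AlgebraTensorModule.lTensor (R ⊗[A] B) (R ⊗[A] B) (u i))
  have hT : ∀ y, y ∈ T ↔ ∀ i, ∃ n : ℕ, s ^ n • (u i).lTensor (R ⊗[A] B) y = 0 := by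
    intro y
    simp only [T, Submodule.mem_iInf, Submodule.mem_comap, mem_powTorsion]
    exact Iff.rfl
  obtain ⟨𝔔, hprime, t, htT, hmem⟩ := exists_prime_ann s T z ((hT z).mpr hz) hne
  let 𝔮 : Ideal B := 𝔔.comap (algebraMap B (R ⊗[A] B))
  haveI : 𝔮.IsPrime := Ideal.comap_isPrime _ _
  haveI towAB₁P₁ : IsScalarTower A (Localization.AtPrime 𝔮)
      ((R ⊗[A] B) ⊗[B] Localization.AtPrime 𝔮) :=
    isScalarTower_of_three A B (Localization.AtPrime 𝔮) _
  haveI : Algebra.IsPushout A (Localization.AtPrime 𝔮) R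
      ((R ⊗[A] B) ⊗[B] Localization.AtPrime 𝔮) :=
    (Algebra.IsPushout.comp_iff A B R (R ⊗[A] B)).mpr inferInstance
  haveI : IsNoetherianRing ((R ⊗[A] B) ⊗[B] Localization.AtPrime 𝔮) :=
    IsLocalization.isNoetherianRing (Algebra.algebraMapSubmonoid (R ⊗[A] B) 𝔮.primeCompl) _
      inferInstance
  haveI hlocM := isLocalizedModule_theta' (R := R) (PB := R ⊗[A] B)
    (P₁ := (R ⊗[A] B) ⊗[B] Localization.AtPrime 𝔮)
    (Algebra.algebraMapSubmonoid (R ⊗[A] B) 𝔮.primeCompl) M
  -- transfer of torsion statements along `theta`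
  have htr : ∀ (Q : Type u) [AddCommGroup Q] [Module R Q] (y : (R ⊗[A] B) ⊗[R] Q) (n : ℕ),
      s ^ n • y = 0 →
      (algebraMap (R ⊗[A] B) ((R ⊗[A] B) ⊗[B] Localization.AtPrime 𝔮) s) ^ n •
        theta (R := R) (R ⊗[A] B) ((R ⊗[A] B) ⊗[B] Localization.AtPrime 𝔮) Q y = 0 := by
    intro Q _ _ y n hy
    rw [← map_pow, ← theta_smul, hy, map_zero]
  have ht₁ : ∀ i, ∃ n : ℕ,
      (algebraMap (R ⊗[A] B) ((R ⊗[A] B) ⊗[B] Localization.AtPrime 𝔮) s) ^ n •
        (u i).lTensor ((R ⊗[A] B) ⊗[B] Localization.AtPrime 𝔮)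
          (theta (R := R) (R ⊗[A] B) ((R ⊗[A] B) ⊗[B] Localization.AtPrime 𝔮) M t) = 0 := by
    intro i
    obtain ⟨n, hn⟩ := (hT t).mp htT i
    refine ⟨n, ?_⟩
    rw [theta_naturality]
    exact htr (N i) _ n hn
  have hJ₁ : ∀ j ∈ IsLocalRing.maximalIdeal (Localization.AtPrime 𝔮), ∃ n : ℕ,
      (algebraMap (R ⊗[A] B) ((R ⊗[A] B) ⊗[B] Localization.AtPrime 𝔮) s) ^ n •
        algebraMap (Localization.AtPrime 𝔮) ((R ⊗[A] B) ⊗[B] Localization.AtPrime 𝔮) j •
          theta (R := R) (R ⊗[A] B) ((R ⊗[A] B) ⊗[B] Localization.AtPrime 𝔮) M t = 0 := by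
    intro j hj
    obtain ⟨⟨b, c⟩, hbc⟩ := IsLocalization.surj 𝔮.primeCompl j
    have hbc' : j * algebraMap B (Localization.AtPrime 𝔮) c =
        algebraMap B (Localization.AtPrime 𝔮) b := hbc
    have hb : b ∈ 𝔮 := by
      rw [← IsLocalization.AtPrime.to_map_mem_maximal_iff (Localization.AtPrime 𝔮) 𝔮 b, ← hbc']
      exact Ideal.mul_mem_right _ _ hj
    have hb' : algebraMap B (R ⊗[A] B) b ∈ 𝔔 := hb
    obtain ⟨n, hn⟩ := (hmem _).mp hb'
    refine ⟨n, ?_⟩
    have h1 := htr M _ n hn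
    rw [theta_smul] at h1
    have h2 : algebraMap (R ⊗[A] B) ((R ⊗[A] B) ⊗[B] Localization.AtPrime 𝔮)
        (algebraMap B (R ⊗[A] B) b) =
        algebraMap (Localization.AtPrime 𝔮) ((R ⊗[A] B) ⊗[B] Localization.AtPrime 𝔮) j *
          algebraMap (Localization.AtPrime 𝔮) ((R ⊗[A] B) ⊗[B] Localization.AtPrime 𝔮)
            (algebraMap B (Localization.AtPrime 𝔮) c) := by
      rw [← map_mul, hbc', ← IsScalarTower.algebraMap_apply B (R ⊗[A] B),
        ← IsScalarTower.algebraMap_apply B (Localization.AtPrime 𝔮)]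
    have hunit : IsUnit (algebraMap (Localization.AtPrime 𝔮)
        ((R ⊗[A] B) ⊗[B] Localization.AtPrime 𝔮) (algebraMap B (Localization.AtPrime 𝔮) c)) :=
      (IsLocalization.map_units (Localization.AtPrime 𝔮) c).map _
    rw [h2] at h1
    have e : ∀ (a c₀ : (R ⊗[A] B) ⊗[B] Localization.AtPrime 𝔮)
        (y : ((R ⊗[A] B) ⊗[B] Localization.AtPrime 𝔮) ⊗[R] M) (p : (R ⊗[A] B) ⊗[B] Localization.AtPrime 𝔮),
        p • (a * c₀) • y = c₀ • p • a • y := by
      intro a c₀ y p
      have e1 : p • (a * c₀) • y = (p * (a * c₀)) • y := (mul_smul p (a * c₀) y).symm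
      have e2 : p * (a * c₀) = c₀ * (p * a) := by ring
      have e3 : (c₀ * (p * a)) • y = c₀ • (p * a) • y := mul_smul c₀ (p * a) y
      have e4 : (p * a) • y = p • a • y := mul_smul p a y
      rw [e1, e2, e3, e4]
    rw [e] at h1
    exact (hunit.smul_left_cancel (y := 0)).mp (by rw [smul_zero]; exact h1)
  obtain ⟨n, hn⟩ := exists_pow_smul_eq_zero_of_local u hU
    (IsLocalRing.maximalIdeal (Localization.AtPrime 𝔮))
    ((R ⊗[A] B) ⊗[B] Localization.AtPrime 𝔮) _ _ ht₁ hJ₁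
  rw [← map_pow, ← theta_smul, IsLocalizedModule.eq_zero_iff
    (Algebra.algebraMapSubmonoid (R ⊗[A] B) 𝔮.primeCompl)
    (theta (R := R) (R ⊗[A] B) ((R ⊗[A] B) ⊗[B] Localization.AtPrime 𝔮) M)] at hn
  obtain ⟨⟨_, b, hb, rfl⟩, hc⟩ := hn
  have hc' : algebraMap B (R ⊗[A] B) b • s ^ n • t = 0 := hc
  have h3 : algebraMap B (R ⊗[A] B) b ∈ 𝔔 := by
    rw [hmem]
    exact ⟨n, by rw [smul_comm]; exact hc'⟩
  exact hb h3

/-- **EGA IV 11.9.16, ring level**: over a Noetherian `A`-algebra `R`, for a finite `R`-module `M` and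
a family `u i : M → N i` into modules flat over `A`, the universal fibre condition implies that the
family is universally separating: for every `A`-algebra `A'` the family is jointly injective after
base change to every localization of `A' ⊗_A R`. -/
theorem phi_of_ufc [IsNoetherianRing R] [Module A M] [IsScalarTower A R M] (hU : UFC A u)
    {A' : Type u} [CommRing A'] [Algebra A A']
    (P' : Type u) [CommRing P'] [Algebra A P'] [Algebra A' P'] [Algebra R P']
    [IsScalarTower A A' P'] [IsScalarTower A R P'] [Algebra.IsPushout A A' R P'] (s : P') :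
    Phi u P' s := by
  intro z₀ hz₀
  obtain ⟨B, hB, hdesc⟩ := exists_fg_descent (A := A) (R := R) (M := M) (A' := A') P' s z₀
  haveI : Algebra.FiniteType A ↥B := (Subalgebra.fg_iff_finiteType B).1 hB
  haveI : Algebra.FiniteType R (R ⊗[A] ↥B) := inferInstance
  haveI : IsNoetherianRing (R ⊗[A] ↥B) := Algebra.FiniteType.isNoetherianRing R _
  obtain ⟨sB, zB, hs, hz⟩ := hdesc (R ⊗[A] ↥B)
  have hΦ : Phi u (R ⊗[A] ↥B) sB := phi_of_noetherian u hU ↥B sB
  have := exists_pow_smul_eq_zero_of_phi u P' B.val (R ⊗[A] ↥B) Subtype.val_injective sB zB hΦ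
    (by rw [hs, hz]; exact hz₀)
  rwa [hs, hz] at this

end Groth.Agent.Lib.LeadFib
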