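import Mathlib
import Groth.Agent.Lib.Helper2GenFree

/-!
# Separating families and base change, part 1 (lead)

Ring-level core of EGA IV 11.9.10: free case, transfer along `cancelBaseChange`,
localization case and the generic (domain) case.

A family `u i : M →ₗ[A] N i` is *locally separating* (`LocSep`) when for every `a : A` the family of
localized maps `M_a → (N i)_a` is jointly injective; in elementary terms: `m` is `a`-power torsion
as soon as every `u i m` is.
-/

set_option autoImplicit false
set_option maxHeartbeats 400000
set_option linter.style.haveILetI false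
set_option linter.unusedSectionVars false
set_option linter.unusedVariables false

open TensorProduct

namespace Groth.Agent.Lib.LeadSepF

/-- elementary form of: for every `a`, the localized family `M_a → (N i)_a` is jointly injective. -/
def LocSep (A : Type*) [CommRing A] {M : Type*} [AddCommGroup M] [Module A M] {ι : Type*}
    {N : ι → Type*} [∀ i, AddCommGroup (N i)] [∀ i, Module A (N i)] (u : ∀ i, M →ₗ[A] N i) : Prop :=
  ∀ (a : A) (m : M), (∀ i, ∃ n : ℕ, a ^ n • u i m = 0) → ∃ n : ℕ, a ^ n • m = 0

/-- free case: tensoring a jointly injective family with a free module keeps it jointly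
injective. -/
theorem eq_zero_of_free {R : Type*} [CommRing R] {P : Type*} [AddCommGroup P] [Module R P]
    [Module.Free R P] {M : Type*} [AddCommGroup M] [Module R M] {ι : Type*} {N : ι → Type*}
    [∀ i, AddCommGroup (N i)] [∀ i, Module R (N i)] (u : ∀ i, M →ₗ[R] N i)
    (h : ∀ m : M, (∀ i, u i m = 0) → m = 0)
    (z : M ⊗[R] P) (hz : ∀ i, (u i).rTensor P z = 0) : z = 0 := by
  classical
  let b := Module.Free.chooseBasis R P
  apply (TensorProduct.equivFinsuppOfBasisRight b).injective
  rw [map_zero]
  ext k
  rw [Finsupp.zero_apply]
  apply h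
  intro i
  rw [TensorProduct.equivFinsuppOfBasisRight_apply]
  have key : ∀ z : M ⊗[R] P, u i (TensorProduct.rid R M ((b.coord k).lTensor M z)) =
      TensorProduct.rid R (N i) ((b.coord k).lTensor (N i) ((u i).rTensor P z)) := by
    intro z
    induction z using TensorProduct.induction_on with
    | zero => simp
    | tmul m p => simp
    | add x y hx hy => simp only [map_add, hx, hy]
  rw [key, hz i, map_zero, map_zero]

/-- naturality of `cancelBaseChange` in the module variable. -/
theorem cancelBaseChange_rTensor {A A' : Type*} [CommRing A] [CommRing A'] [Algebra A A']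
    {B : Type*} [AddCommGroup B] [Module A B]
    {M' N' : Type*} [AddCommGroup M'] [Module A' M'] [Module A M'] [IsScalarTower A A' M']
    [AddCommGroup N'] [Module A' N'] [Module A N'] [IsScalarTower A A' N']
    (u' : M' →ₗ[A'] N') (w : M' ⊗[A'] (A' ⊗[A] B)) :
    AlgebraTensorModule.cancelBaseChange A A' A' N' B (u'.rTensor (A' ⊗[A] B) w) =
      ((u'.restrictScalars A).rTensor B) (AlgebraTensorModule.cancelBaseChange A A' A' M' B w) := by
  induction w using TensorProduct.induction_on with
  | zero => simp
  | tmul m t =>
    induction t using TensorProduct.induction_on with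
    | zero => simp
    | tmul a b =>
      simp [AlgebraTensorModule.cancelBaseChange_tmul]
    | add x y hx hy =>
      rw [TensorProduct.tmul_add, map_add, map_add, hx, hy, map_add, map_add]
  | add x y hx hy => simp only [map_add, hx, hy]

/-- localization case: if `B` becomes free after inverting `a`, a tensor killed by all members of
a locally separating family is `a`-power torsion. -/
theorem exists_pow_smul_eq_zero_of_free_away {A : Type*} [CommRing A] (a : A)
    {B : Type*} [AddCommGroup B] [Module A B]
    (hfree : Module.Free (Localization.Away a) (Localization.Away a ⊗[A] B))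
    {M : Type*} [AddCommGroup M] [Module A M] {ι : Type*} {N : ι → Type*}
    [∀ i, AddCommGroup (N i)] [∀ i, Module A (N i)] (u : ∀ i, M →ₗ[A] N i) (H : LocSep A u)
    (z : M ⊗[A] B) (hz : ∀ i, (u i).rTensor B z = 0) : ∃ k : ℕ, a ^ k • z = 0 := by
  classical
  let S := Submonoid.powers a
  let A' := Localization.Away a
  let f : M →ₗ[A] LocalizedModule S M := LocalizedModule.mkLinearMap S M
  let g : ∀ i, N i →ₗ[A] LocalizedModule S (N i) := fun i => LocalizedModule.mkLinearMap S (N i)
  let u' : ∀ i, LocalizedModule S M →ₗ[A'] LocalizedModule S (N i) := fun i =>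
    IsLocalizedModule.mapExtendScalars S f (g i) A' (u i)
  have hu' : ∀ i (m : M), u' i (f m) = g i (u i m) := by
    intro i m
    simp only [u', IsLocalizedModule.mapExtendScalars_apply_apply]
    exact IsLocalizedModule.map_apply S f (g i) (u i) m
  -- joint injectivity of the localized family
  have hinj : ∀ y : LocalizedModule S M, (∀ i, u' i y = 0) → y = 0 := by
    intro y hy
    obtain ⟨⟨m, s⟩, hs⟩ := IsLocalizedModule.surj S f y
    have h1 : ∀ i, ∃ n : ℕ, a ^ n • u i m = 0 := by
      intro i
      have h2 : g i (u i m) = 0 := by
        rw [← hu', ← hs]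
        have h3 : u' i (s • y) = (s : A) • u' i y := by
          show ((u' i).restrictScalars A) ((s : A) • y) = _
          rw [map_smul]; rfl
        rw [h3, hy i, smul_zero]
      obtain ⟨⟨_, n, rfl⟩, hc⟩ := (IsLocalizedModule.eq_zero_iff S (g i)).mp h2
      exact ⟨n, hc⟩
    obtain ⟨n, hn⟩ := H a m h1
    have h3 : f m = 0 := (IsLocalizedModule.eq_zero_iff S f).mpr ⟨⟨a ^ n, n, rfl⟩, hn⟩
    rw [h3] at hs
    exact (IsLocalizedModule.smul_injective f s) (hs.trans (smul_zero s).symm)
  -- the image of `z` in the localization vanishes
  have hz' : (f.rTensor B) z = 0 := by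
    let τM := AlgebraTensorModule.cancelBaseChange A A' A' (LocalizedModule S M) B
    have hw : τM.symm ((f.rTensor B) z) = 0 := by
      refine eq_zero_of_free (R := A') (P := A' ⊗[A] B) u' hinj _ (fun i => ?_)
      apply (AlgebraTensorModule.cancelBaseChange A A' A' (LocalizedModule S (N i)) B).injective
      rw [cancelBaseChange_rTensor, LinearEquiv.apply_symm_apply, map_zero]
      have h4 : ((u' i).restrictScalars A) ∘ₗ f = (g i) ∘ₗ (u i) := by
        ext m; exact hu' i m
      have h5 : ((u' i).restrictScalars A).rTensor B ((f.rTensor B) z) =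
          (g i).rTensor B ((u i).rTensor B z) := by
        rw [← LinearMap.comp_apply, ← LinearMap.comp_apply, ← LinearMap.rTensor_comp,
          ← LinearMap.rTensor_comp, h4]
      rw [h5, hz i, map_zero]
    have := congrArg τM hw
    rwa [LinearEquiv.apply_symm_apply, map_zero] at this
  have hloc : IsLocalizedModule S (AlgebraTensorModule.rTensor A B f) := inferInstance
  have h6 : (AlgebraTensorModule.rTensor A B f) z = 0 := hz'
  obtain ⟨⟨_, k, rfl⟩, hc⟩ := (IsLocalizedModule.eq_zero_iff S _).mp h6
  exact ⟨k, hc⟩

/-- generic case: over a domain `A`, for a finite type algebra `B` there is `a ≠ 0` such that tensors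
killed by all members of a locally separating family are `a`-power torsion. -/
theorem exists_ne_zero_forall_pow_smul_eq_zero (A : Type*) [CommRing A] [IsDomain A]
    (B : Type*) [CommRing B] [Algebra A B] [Algebra.FiniteType A B] :
    ∃ a : A, a ≠ 0 ∧ Module.Free (Localization.Away a) (Localization.Away a ⊗[A] B) := by
  obtain ⟨a, ha, hB, -, -, -⟩ := Groth.Agent.Lib.Helper2.GenFree.exists_freeAway A B B
  refine ⟨a, ha, ?_⟩
  exact hB.free (Localization.Away a) (TensorProduct.mk A (Localization.Away a) B 1)

end Groth.Agent.Lib.LeadSepF
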