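import Mathlib
import Groth.Agent.Lib.LeadSepF1

/-!
# Separating families and base change, part 2 (lead)

Noetherian case of EGA IV 11.9.10 at ring level: over a Noetherian ring `A`, for a flat finite type
algebra `B`, a locally separating family stays jointly injective after `B ⊗ -`.
-/

set_option autoImplicit false
set_option maxHeartbeats 400000
set_option linter.style.haveILetI false
set_option linter.unusedSectionVars false
set_option linter.unusedVariables false

open TensorProduct

namespace Groth.Agent.Lib.LeadSepF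

theorem rTensor_comm_apply {A : Type*} [CommRing A] {B M N : Type*} [AddCommGroup B] [Module A B]
    [AddCommGroup M] [Module A M] [AddCommGroup N] [Module A N] (u : M →ₗ[A] N) (z : B ⊗[A] M) :
    u.rTensor B (TensorProduct.comm A B M z) = TensorProduct.comm A B N (u.lTensor B z) := by
  induction z using TensorProduct.induction_on with
  | zero => simp
  | tmul b m => simp
  | add x y hx hy => simp only [map_add, hx, hy]

theorem lTensor_comm_apply {A : Type*} [CommRing A] {B M N : Type*} [AddCommGroup B] [Module A B]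
    [AddCommGroup M] [Module A M] [AddCommGroup N] [Module A N] (u : M →ₗ[A] N) (z : M ⊗[A] B) :
    u.lTensor B (TensorProduct.comm A M B z) = TensorProduct.comm A N B (u.rTensor B z) := by
  induction z using TensorProduct.induction_on with
  | zero => simp
  | tmul b m => simp
  | add x y hx hy => simp only [map_add, hx, hy]

/-- an element of `B ⊗ M` killed by an ideal `𝔭 = span s` comes from `B ⊗ M[𝔭]` when `B` is flat. -/
theorem exists_lTensor_torsionBySet_eq {A : Type*} [CommRing A] {B : Type*} [AddCommGroup B]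
    [Module A B] [Module.Flat A B] {M : Type*} [AddCommGroup M] [Module A M] (𝔭 : Ideal A)
    (h𝔭 : 𝔭.FG) (z : B ⊗[A] M) (hz : ∀ p ∈ 𝔭, p • z = 0) :
    ∃ w : B ⊗[A] (Submodule.torsionBySet A M (𝔭 : Set A)),
      (Submodule.torsionBySet A M (𝔭 : Set A)).subtype.lTensor B w = z := by
  classical
  obtain ⟨s, hs⟩ := h𝔭
  let φ : M →ₗ[A] (s → M) := LinearMap.pi (fun j => (j : A) • LinearMap.id)
  have hφ : ∀ w : B ⊗[A] M, ∀ j : s,
      TensorProduct.piRightHom A A B (fun _ : s => M) ((φ.lTensor B) w) j = (j : A) • w := by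
    intro w j
    induction w using TensorProduct.induction_on with
    | zero => simp
    | tmul b m =>
      simp only [LinearMap.lTensor_tmul, TensorProduct.piRightHom_tmul, φ, LinearMap.pi_apply,
        LinearMap.smul_apply, LinearMap.id_coe, id_eq, TensorProduct.tmul_smul]
    | add x y hx hy => simp only [map_add, Pi.add_apply, hx, hy, smul_add]
  have h0 : (φ.lTensor B) z = 0 := by
    apply (TensorProduct.piRight A A B (fun _ : s => M)).injective
    rw [map_zero, TensorProduct.piRight_apply]
    ext j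
    rw [hφ z j, Pi.zero_apply]
    exact hz _ (by rw [← hs]; exact Ideal.subset_span j.2)
  have hex : Function.Exact ((LinearMap.ker φ).subtype.lTensor B) (φ.lTensor B) :=
    Module.Flat.lTensor_exact B (LinearMap.exact_subtype_ker_map φ)
  obtain ⟨w, hw⟩ := (hex z).mp h0
  have hle : LinearMap.ker φ ≤ Submodule.torsionBySet A M (𝔭 : Set A) := by
    intro m hm
    have h1 : (𝔭 : Set A) = ((Ideal.span (s : Set A) : Ideal A) : Set A) := by rw [hs]
    rw [h1, ← Submodule.torsionBySet_eq_torsionBySet_span, Submodule.mem_torsionBySet_iff]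
    intro j
    have h2 := congrFun (LinearMap.mem_ker.mp hm) ⟨j.1, j.2⟩
    simpa [φ] using h2
  refine ⟨(Submodule.inclusion hle).lTensor B w, ?_⟩
  rw [← LinearMap.comp_apply, ← LinearMap.lTensor_comp, Submodule.subtype_comp_inclusion]
  exact hw

/-- **Noetherian case**: over a Noetherian ring `A`, for a flat finite type algebra `B`, a locally
separating family stays jointly injective after `B ⊗ -`. -/
theorem eq_zero_of_noetherian {A : Type*} [CommRing A] [IsNoetherianRing A]
    {B : Type*} [CommRing B] [Algebra A B] [Algebra.FiniteType A B] [Module.Flat A B]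
    {M : Type*} [AddCommGroup M] [Module A M] {ι : Type*} {N : ι → Type*}
    [∀ i, AddCommGroup (N i)] [∀ i, Module A (N i)] (u : ∀ i, M →ₗ[A] N i) (H : LocSep A u)
    (z : B ⊗[A] M) (hz : ∀ i, (u i).lTensor B z = 0) : z = 0 := by
  classical
  by_contra hne
  haveI : IsNoetherianRing B := Algebra.FiniteType.isNoetherianRing A B
  let T : Submodule B (B ⊗[A] M) := ⨅ i, LinearMap.ker ((u i).baseChange B)
  have hT : ∀ y : B ⊗[A] M, y ∈ T ↔ ∀ i, (u i).lTensor B y = 0 := by
    intro y
    simp only [T, Submodule.mem_iInf, LinearMap.mem_ker]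
    exact Iff.rfl
  have hzT : z ∈ T := (hT z).mpr hz
  haveI : Nontrivial T := ⟨⟨⟨z, hzT⟩, 0, fun h => hne (congrArg Subtype.val h)⟩⟩
  obtain ⟨𝔮, h𝔮⟩ := associatedPrimes.nonempty B T
  obtain ⟨hprime, x, hx⟩ := (isAssociatedPrime_iff).mp h𝔮
  have hmem : ∀ b : B, b ∈ 𝔮 ↔ b • (x : B ⊗[A] M) = 0 := by
    intro b
    rw [hx, Submodule.mem_colon_singleton, Submodule.mem_bot]
    constructor
    · intro h
      have := congrArg Subtype.val h
      simpa using this
    · intro h
      exact Subtype.ext (by simpa using h)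
  have hz'T : ∀ i, (u i).lTensor B (x : B ⊗[A] M) = 0 := (hT _).mp x.2
  let 𝔭 : Ideal A := 𝔮.comap (algebraMap A B)
  haveI : 𝔭.IsPrime := Ideal.comap_isPrime _ _
  have h𝔭z' : ∀ p ∈ 𝔭, p • (x : B ⊗[A] M) = 0 := by
    intro p hp
    rw [← algebraMap_smul B p (x : B ⊗[A] M)]
    exact (hmem _).mp hp
  obtain ⟨zb, hzb⟩ := exists_lTensor_torsionBySet_eq 𝔭
    ((isNoetherianRing_iff_ideal_fg A).mp inferInstance 𝔭) (x : B ⊗[A] M) h𝔭z'
  -- the restricted family
  let Mb : Submodule A M := Submodule.torsionBySet A M (𝔭 : Set A)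
  let Nb : ∀ i, Submodule A (N i) := fun i => Submodule.torsionBySet A (N i) (𝔭 : Set A)
  have hres : ∀ i, ∀ m ∈ Mb, u i m ∈ Nb i := by
    intro i m hm
    rw [Submodule.mem_torsionBySet_iff] at hm ⊢
    intro a
    rw [← map_smul, hm a, map_zero]
  let ub : ∀ i, Mb →ₗ[A] Nb i := fun i => (u i).restrict (hres i)
  have hub : ∀ i, (ub i).lTensor B zb = 0 := by
    intro i
    apply Module.Flat.lTensor_preserves_injective_linearMap (M := B) (Nb i).subtype
      Subtype.val_injective
    rw [map_zero, ← LinearMap.comp_apply, ← LinearMap.lTensor_comp]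
    have h1 : (Nb i).subtype ∘ₗ ub i = u i ∘ₗ Mb.subtype := by
      ext m; rfl
    rw [h1, LinearMap.lTensor_comp, LinearMap.comp_apply, hzb]
    exact hz'T i
  -- pass to `A ⧸ 𝔭`
  let Ab := A ⧸ 𝔭
  let Bb := Ab ⊗[A] B
  let ub' : ∀ i, Mb →ₗ[Ab] Nb i := fun i =>
    { toFun := ub i
      map_add' := (ub i).map_add
      map_smul' := by
        intro r m
        obtain ⟨a, rfl⟩ := Ideal.Quotient.mk_surjective r
        exact (ub i).map_smul a m }
  have hsep : LocSep Ab ub' := by
    intro r m hr
    obtain ⟨a, rfl⟩ := Ideal.Quotient.mk_surjective r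
    have h1 : ∀ i, ∃ n : ℕ, a ^ n • u i (m : M) = 0 := by
      intro i
      obtain ⟨n, hn⟩ := hr i
      refine ⟨n, ?_⟩
      have h2 := congrArg Subtype.val hn
      rw [← map_pow] at h2
      exact h2
    obtain ⟨n, hn⟩ := H a (m : M) h1
    refine ⟨n, ?_⟩
    rw [← map_pow]
    exact Subtype.ext hn
  obtain ⟨ab, hab, hfree⟩ := exists_ne_zero_forall_pow_smul_eq_zero Ab Bb
  let τ := AlgebraTensorModule.cancelBaseChange A Ab Ab Mb B
  have hw : ∀ i, (ub' i).rTensor Bb (τ.symm (TensorProduct.comm A B Mb zb)) = 0 := by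
    intro i
    apply (AlgebraTensorModule.cancelBaseChange A Ab Ab (Nb i) B).injective
    rw [cancelBaseChange_rTensor, LinearEquiv.apply_symm_apply, map_zero]
    have h1 : (ub' i).restrictScalars A = ub i := by
      ext m; rfl
    rw [h1, rTensor_comm_apply, hub i, map_zero]
  obtain ⟨k, hk⟩ := exists_pow_smul_eq_zero_of_free_away ab hfree ub' hsep _ hw
  obtain ⟨a, rfl⟩ := Ideal.Quotient.mk_surjective ab
  have h2 : a ^ k • zb = 0 := by
    have h3 := congrArg τ hk
    rw [map_smul, LinearEquiv.apply_symm_apply, map_zero, ← map_pow,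
      ← Ideal.Quotient.algebraMap_eq, algebraMap_smul, ← map_smul] at h3
    exact (TensorProduct.comm A B Mb).injective (h3.trans (map_zero _).symm)
  have h4 : a ^ k • (x : B ⊗[A] M) = 0 := by
    rw [← hzb, ← map_smul, h2, map_zero]
  have h5 : algebraMap A B (a ^ k) ∈ 𝔮 := by
    rw [hmem, algebraMap_smul]
    exact h4
  have h6 : a ∈ 𝔭 := Ideal.IsPrime.mem_of_pow_mem inferInstance k h5
  exact hab (Ideal.Quotient.eq_zero_iff_mem.mpr h6)

/-- the same in the form `M ⊗ B`. -/
theorem eq_zero_of_noetherian' {A : Type*} [CommRing A] [IsNoetherianRing A]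
    {B : Type*} [CommRing B] [Algebra A B] [Algebra.FiniteType A B] [Module.Flat A B]
    {M : Type*} [AddCommGroup M] [Module A M] {ι : Type*} {N : ι → Type*}
    [∀ i, AddCommGroup (N i)] [∀ i, Module A (N i)] (u : ∀ i, M →ₗ[A] N i) (H : LocSep A u)
    (z : M ⊗[A] B) (hz : ∀ i, (u i).rTensor B z = 0) : z = 0 := by
  apply (TensorProduct.comm A M B).injective
  rw [map_zero]
  refine eq_zero_of_noetherian u H _ (fun i => ?_)
  rw [lTensor_comm_apply, hz i, map_zero]

end Groth.Agent.Lib.LeadSepF
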