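import Mathlib
import Groth.Agent.Lib.LeadSepF2
import Groth.Agent.Lib.Helper3FlatModel

/-!
# Separating families and base change, part 3 (lead)

General case of EGA IV 11.9.10 at ring level: for a flat finitely presented algebra `B` over any
ring `A`, a locally separating family stays jointly injective after `B ⊗ -`
(Noetherian approximation of `A → B`).
-/

set_option autoImplicit false
set_option maxHeartbeats 400000
set_option linter.style.haveILetI false
set_option linter.unusedSectionVars false
set_option linter.unusedVariables false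

open TensorProduct

universe u v w

namespace Groth.Agent.Lib.LeadSepF

/-- **EGA IV 11.9.10, ring level** (form `M ⊗ B`). -/
theorem eq_zero_of_flat_finitePresentation' {A B : Type u} [CommRing A] [CommRing B] [Algebra A B]
    [Algebra.FinitePresentation A B] [Module.Flat A B]
    {M : Type v} [AddCommGroup M] [Module A M] {ι : Type w} {N : ι → Type v}
    [∀ i, AddCommGroup (N i)] [∀ i, Module A (N i)] (u : ∀ i, M →ₗ[A] N i) (H : LocSep A u)
    (z : M ⊗[A] B) (hz : ∀ i, (u i).rTensor B z = 0) : z = 0 := by
  classical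
  obtain ⟨R₀, B₀, _, _, _, _, hft, hfp, hflat, ⟨e⟩⟩ :=
    Groth.Agent.Lib.Helper3.FlatOpen.exists_flat_model A B
  haveI : IsNoetherianRing R₀ := Algebra.FiniteType.isNoetherianRing ℤ R₀
  haveI : Algebra.FiniteType R₀ B₀ := inferInstance
  letI : Module R₀ M := Module.compHom M (algebraMap R₀ A)
  haveI : IsScalarTower R₀ A M := IsScalarTower.of_algebraMap_smul (fun _ _ => rfl)
  letI : ∀ i, Module R₀ (N i) := fun i => Module.compHom (N i) (algebraMap R₀ A)
  haveI : ∀ i, IsScalarTower R₀ A (N i) := fun i =>
    IsScalarTower.of_algebraMap_smul (fun _ _ => rfl)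
  let u₀ : ∀ i, M →ₗ[R₀] N i := fun i => (u i).restrictScalars R₀
  have H₀ : LocSep R₀ u₀ := by
    intro a m hm
    have h1 : ∀ i, ∃ n : ℕ, (algebraMap R₀ A a) ^ n • u i m = 0 := by
      intro i
      obtain ⟨n, hn⟩ := hm i
      refine ⟨n, ?_⟩
      rw [← map_pow, algebraMap_smul]
      exact hn
    obtain ⟨n, hn⟩ := H _ m h1
    refine ⟨n, ?_⟩
    rw [← map_pow, algebraMap_smul] at hn
    exact hn
  let τ := AlgebraTensorModule.cancelBaseChange R₀ A A M B₀
  have h2 : τ ((e.symm.toLinearMap.lTensor M) z) = 0 := by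
    refine eq_zero_of_noetherian' u₀ H₀ _ (fun i => ?_)
    have h3 := cancelBaseChange_rTensor (A := R₀) (A' := A) (B := B₀) (u i)
      ((e.symm.toLinearMap.lTensor M) z)
    rw [show u₀ i = (u i).restrictScalars R₀ from rfl, ← h3]
    rw [← LinearMap.comp_apply, LinearMap.rTensor_comp_lTensor, ← LinearMap.lTensor_comp_rTensor,
      LinearMap.comp_apply, hz i, map_zero, map_zero]
  have h4 : (e.symm.toLinearMap.lTensor M) z = 0 := τ.injective (h2.trans (map_zero _).symm)
  have h5 := congrArg (e.toLinearMap.lTensor M) h4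
  rw [← LinearMap.comp_apply, ← LinearMap.lTensor_comp, map_zero] at h5
  have h6 : e.toLinearMap ∘ₗ e.symm.toLinearMap = LinearMap.id := by
    ext b; simp
  rwa [h6, LinearMap.lTensor_id, LinearMap.id_apply] at h5

/-- **EGA IV 11.9.10, ring level** (form `B ⊗ M`). -/
theorem eq_zero_of_flat_finitePresentation {A B : Type u} [CommRing A] [CommRing B] [Algebra A B]
    [Algebra.FinitePresentation A B] [Module.Flat A B]
    {M : Type v} [AddCommGroup M] [Module A M] {ι : Type w} {N : ι → Type v}
    [∀ i, AddCommGroup (N i)] [∀ i, Module A (N i)] (u : ∀ i, M →ₗ[A] N i) (H : LocSep A u)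
    (z : B ⊗[A] M) (hz : ∀ i, (u i).lTensor B z = 0) : z = 0 := by
  apply (TensorProduct.comm A B M).injective
  rw [map_zero]
  refine eq_zero_of_flat_finitePresentation' u H _ (fun i => ?_)
  rw [rTensor_comm_apply, hz i, map_zero]

end Groth.Agent.Lib.LeadSepF
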