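import Mathlib
import Groth.Agent.Lib.LeadSepF3
import Groth.Agent.Lib.T2H3SepFG

/-!
# Separating families and base change, part 9 (lead)

Ring-level core of EGA IV 11.9.9 / 11.10.6 (base change over a field): if `A` is a field, `R` an
`A`-algebra, `u i : M → N i` a locally separating family of `R`-linear maps and `A'` an arbitrary
`A`-algebra, then over the pushout `P' = A' ⊗_A R` the family `P' ⊗_R u i` is jointly injective
after every localization `P'_s` (helper3's predicate `Phi`).
-/

set_option autoImplicit false
set_option maxHeartbeats 400000
set_option linter.style.haveILetI false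
set_option linter.unusedSectionVars false
set_option linter.unusedVariables false

open TensorProduct Groth.Agent.Lib.T2H3.SepFG

universe u

namespace Groth.Agent.Lib.LeadSepF

attribute [local instance] Algebra.TensorProduct.rightAlgebra

/-- `Phi` for a flat finitely presented algebra, from the ring-level EGA IV 11.9.10. -/
theorem phi_of_flat_finitePresentation {R P : Type u} [CommRing R] [CommRing P] [Algebra R P]
    [Algebra.FinitePresentation R P] [Module.Flat R P]
    {M : Type u} [AddCommGroup M] [Module R M] {ι : Type u} {N : ι → Type u}
    [∀ i, AddCommGroup (N i)] [∀ i, Module R (N i)] (u : ∀ i, M →ₗ[R] N i) (H : LocSep R u)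
    (s : P) : Phi u P s := by
  haveI : Algebra.FinitePresentation P (Localization.Away s) :=
    IsLocalization.Away.finitePresentation s
  haveI : Algebra.FinitePresentation R (Localization.Away s) :=
    Algebra.FinitePresentation.trans R P (Localization.Away s)
  haveI : Module.Flat P (Localization.Away s) := IsLocalization.flat _ (Submonoid.powers s)
  haveI : Module.Flat R (Localization.Away s) := Module.Flat.trans R P (Localization.Away s)
  exact phi_of_injective (L := Localization.Away s) u s
    (fun z hz => eq_zero_of_flat_finitePresentation u H z hz)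

/-- **base change over a field**, ring level. -/
theorem phi_of_locSep_of_isField {A : Type u} [CommRing A] (hA : IsField A)
    {R : Type u} [CommRing R] [Algebra A R]
    {M : Type u} [AddCommGroup M] [Module A M] [Module R M] [IsScalarTower A R M]
    {ι : Type u} {N : ι → Type u} [∀ i, AddCommGroup (N i)] [∀ i, Module A (N i)]
    [∀ i, Module R (N i)] [∀ i, IsScalarTower A R (N i)]
    (u : ∀ i, M →ₗ[R] N i) (H : LocSep R u)
    {A' : Type u} [CommRing A'] [Algebra A A']
    (P' : Type u) [CommRing P'] [Algebra A P'] [Algebra A' P'] [Algebra R P']
    [IsScalarTower A A' P'] [IsScalarTower A R P'] [Algebra.IsPushout A A' R P'] (s : P') :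
    Phi u P' s := by
  have hflat : ∀ (Q : Type u) [AddCommGroup Q] [Module A Q], Module.Flat A Q := by
    intro Q _ _
    let := hA.toField
    infer_instance
  haveI : IsNoetherianRing A := by
    let := hA.toField
    infer_instance
  haveI : ∀ i, Module.Flat A (N i) := fun i => hflat (N i)
  intro z₀ hz₀
  obtain ⟨B, hB, hdesc⟩ := exists_fg_descent (A := A) (R := R) (M := M) (A' := A') P' s z₀
  haveI : Algebra.FiniteType A ↥B := (Subalgebra.fg_iff_finiteType B).1 hB
  haveI : Algebra.FinitePresentation A ↥B := Algebra.FinitePresentation.of_finiteType.mp inferInstance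
  haveI : Module.Flat A ↥B := hflat ↥B
  obtain ⟨sB, zB, hs, hz⟩ := hdesc (R ⊗[A] ↥B)
  have hΦ : Phi u (R ⊗[A] ↥B) sB := phi_of_flat_finitePresentation u H sB
  have := exists_pow_smul_eq_zero_of_phi u P' B.val (R ⊗[A] ↥B) Subtype.val_injective sB zB hΦ
    (by rw [hs, hz]; exact hz₀)
  rwa [hs, hz] at this

end Groth.Agent.Lib.LeadSepF
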