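import Mathlib
import Groth.Agent.Lib.LeadFib5
import Groth.Agent.Lib.LeadSepF9

/-!
# Fibrewise criterion for separating families, part 6 (lead)

From fibres over residue fields to the universal fibre condition: if `K'` is a field over `A`,
`Rs` a pushout of `K'` and `R` and the family is jointly injective after base change to every
localization of `Rs`, the same holds over every `K'`-algebra `K` (EGA IV 11.9.9 at ring level).
-/

set_option autoImplicit false
set_option maxHeartbeats 800000
set_option linter.style.haveILetI false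
set_option linter.unusedSectionVars false
set_option linter.unusedVariables false

open TensorProduct Groth.Agent.Lib.T2H3.SepFG Groth.Agent.Lib.LeadSepF

universe u

namespace Groth.Agent.Lib.LeadFib

/-- `Phi` for the base-changed family over `L₁` gives `Phi` for the original family. -/
theorem phi_of_phi_baseChange {R L₁ L₂ : Type*} [CommRing R] [CommRing L₁] [CommRing L₂]
    [Algebra R L₁] [Algebra L₁ L₂] [Algebra R L₂] [IsScalarTower R L₁ L₂]
    {M : Type*} [AddCommGroup M] [Module R M] {ι : Type*} {N : ι → Type*}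
    [∀ i, AddCommGroup (N i)] [∀ i, Module R (N i)] (u : ∀ i, M →ₗ[R] N i) (s : L₂)
    (h : Phi (fun i => AlgebraTensorModule.lTensor L₁ L₁ (u i)) L₂ s) : Phi u L₂ s := by
  intro z hz
  have h1 : ∀ i, ∃ n : ℕ, s ^ n • (AlgebraTensorModule.lTensor L₁ L₁ (u i)).lTensor L₂
      ((AlgebraTensorModule.cancelBaseChange R L₁ L₂ L₂ M).symm z) = 0 := by
    intro i
    obtain ⟨n, hn⟩ := hz i
    refine ⟨n, (AlgebraTensorModule.cancelBaseChange R L₁ L₂ L₂ (N i)).injective ?_⟩
    rw [map_smul, cancelBaseChange_lTensor, LinearEquiv.apply_symm_apply, map_zero]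
    exact hn
  obtain ⟨n, hn⟩ := h _ h1
  refine ⟨n, ?_⟩
  have h2 := congrArg (AlgebraTensorModule.cancelBaseChange R L₁ L₂ L₂ M) hn
  rwa [map_smul, LinearEquiv.apply_symm_apply, map_zero] at h2

section Field

variable {A : Type u} [CommRing A] {R : Type u} [CommRing R] [Algebra A R] {M : Type u}
  [AddCommGroup M] [Module R M] {ι : Type u} {N : ι → Type u}
  [∀ i, AddCommGroup (N i)] [∀ i, Module R (N i)] (u : ∀ i, M →ₗ[R] N i)

/-- from one field `K'` to all `K'`-algebras. -/
theorem phi_of_fibre_field {K' : Type u} [CommRing K'] [Algebra A K'] (hK' : IsField K')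
    (Rs : Type u) [CommRing Rs] [Algebra A Rs] [Algebra K' Rs] [Algebra R Rs]
    [IsScalarTower A K' Rs] [IsScalarTower A R Rs] [Algebra.IsPushout A K' R Rs]
    (hRs : ∀ a : Rs, Phi u Rs a)
    (K : Type u) [CommRing K] [Algebra A K] [Algebra K' K] [IsScalarTower A K' K]
    (P₂ : Type u) [CommRing P₂] [Algebra A P₂] [Algebra K P₂] [Algebra R P₂]
    [IsScalarTower A K P₂] [IsScalarTower A R P₂] [Algebra.IsPushout A K R P₂] (s : P₂) :
    Phi u P₂ s := by
  -- algebra structures on `P₂`
  letI algK' : Algebra K' P₂ := ((algebraMap K P₂).comp (algebraMap K' K)).toAlgebra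
  haveI towK'K : IsScalarTower K' K P₂ := .of_algebraMap_eq fun _ => rfl
  haveI towAK' : IsScalarTower A K' P₂ := .of_algebraMap_eq fun a => by
    show algebraMap A P₂ a = algebraMap K P₂ (algebraMap K' K (algebraMap A K' a))
    rw [IsScalarTower.algebraMap_apply A K P₂ a, IsScalarTower.algebraMap_apply A K' K a]
  let φ : Rs →ₐ[A] P₂ := Algebra.pushoutDesc Rs (IsScalarTower.toAlgHom A K' P₂)
    (IsScalarTower.toAlgHom A R P₂) (fun _ _ => mul_comm _ _)
  letI algRs : Algebra Rs P₂ := φ.toRingHom.toAlgebra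
  haveI towK'Rs : IsScalarTower K' Rs P₂ := .of_algebraMap_eq fun x => by
    show algebraMap K' P₂ x = φ (algebraMap K' Rs x)
    exact (Algebra.pushoutDesc_left Rs (IsScalarTower.toAlgHom A K' P₂)
      (IsScalarTower.toAlgHom A R P₂) (fun _ _ => mul_comm _ _) x).symm
  haveI towRRs : IsScalarTower R Rs P₂ := .of_algebraMap_eq fun x => by
    show algebraMap R P₂ x = φ (algebraMap R Rs x)
    exact (Algebra.pushoutDesc_right Rs (IsScalarTower.toAlgHom A K' P₂)
      (IsScalarTower.toAlgHom A R P₂) (fun _ _ => mul_comm _ _) x).symm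
  haveI towARs : IsScalarTower A Rs P₂ := .of_algebraMap_eq fun a => by
    show algebraMap A P₂ a = φ (algebraMap A Rs a)
    rw [AlgHom.commutes]
  have hpo₀ : Algebra.IsPushout A K R P₂ := inferInstance
  have hiff : Algebra.IsPushout A K R P₂ ↔ Algebra.IsPushout K' K Rs P₂ :=
    Algebra.IsPushout.comp_iff A K' R Rs
  haveI hpo : Algebra.IsPushout K' K Rs P₂ := hiff.mp hpo₀
  -- the base-changed family over `Rs`
  haveI scc : SMulCommClass R K' Rs := smulCommClass_of_algebra R K' Rs
  have hsep : LocSep Rs (fun i => AlgebraTensorModule.lTensor Rs Rs (u i)) :=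
    fun a m hm => hRs a m hm
  have hΦ : Phi (fun i => AlgebraTensorModule.lTensor Rs Rs (u i)) P₂ s :=
    phi_of_locSep_of_isField (A := K') hK' (R := Rs) (M := Rs ⊗[R] M)
      (N := fun i => Rs ⊗[R] N i) (fun i => AlgebraTensorModule.lTensor Rs Rs (u i)) hsep
      (A' := K) P₂ s
  exact phi_of_phi_baseChange u s hΦ

/-- the universal fibre condition from fibres over residue fields. -/
theorem ufc_of_fibres
    (hfib : ∀ (K : Type u) [Field K] [Algebra A K], ∃ (K' : Type u) (_ : CommRing K')
      (_ : Algebra A K') (_ : Algebra K' K) (_ : IsScalarTower A K' K) (Rs : Type u)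
      (_ : CommRing Rs) (_ : Algebra A Rs) (_ : Algebra K' Rs) (_ : Algebra R Rs)
      (_ : IsScalarTower A K' Rs) (_ : IsScalarTower A R Rs) (_ : Algebra.IsPushout A K' R Rs),
      IsField K' ∧ ∀ a : Rs, Phi u Rs a) : UFC A u := by
  intro K _ _ P₂ _ _ _ _ _ _ _ s
  obtain ⟨K', i1, i2, i3, i4, Rs, i5, i6, i7, i8, i9, i10, i11, hK', hRs⟩ := hfib K
  letI := i1
  letI := i2
  letI := i3
  haveI := i4
  letI := i5
  letI := i6
  letI := i7
  letI := i8
  haveI := i9
  haveI := i10
  haveI := i11
  exact phi_of_fibre_field (A := A) u hK' Rs hRs K P₂ s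

end Field

end Groth.Agent.Lib.LeadFib
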