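import Mathlib
import Groth.Agent.Lib.LeadSepF3
import Groth.Agent.Lib.T2H3Separating

/-!
# Separating families and base change, part 4 (lead)

EGA IV 11.9.10 (case `Z_λ = X`): a separating family of homomorphisms of quasi-coherent modules
stays separating after a flat base change locally of finite presentation.
-/

set_option autoImplicit false
set_option maxHeartbeats 400000
set_option linter.style.haveILetI false
set_option linter.unusedSectionVars false
set_option linter.unusedVariables false

universe u
open CategoryTheory CategoryTheory.Limits AlgebraicGeometry TopologicalSpace Opposite TensorProduct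
open Groth.Agent.Helper18Strict Groth.Agent.Lib.T2H3.PullSec Groth.Agent.Lib.T2H3.Separating

namespace Groth.Agent.Lib.LeadSepF

variable {X X' : Scheme.{u}} (g : X' ⟶ X) (F : X.Modules) [F.IsQuasicoherent] {ι : Type u}
  (G : ι → X.Modules) [∀ i, (G i).IsQuasicoherent] (u : ∀ i, F ⟶ G i)

/-- a separating family of homomorphisms of quasi-coherent modules is locally separating on the
sections over every affine open. -/
theorem locSep_of_separating
    (hs : ∀ (V : X.Opens) (t : Γ(F, V)), (∀ i, (u i).app V t = 0) → t = 0)
    {V : X.Opens} (hV : IsAffineOpen V) :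
    LocSep Γ(X, V) (fun i => appₗ (u i) V) := by
  intro a m hm
  rw [← map_basicOpen_eq_zero_iff F hV a m]
  apply hs
  intro i
  have hn := congrArg (fun k => k.hom m)
    ((u i).mapPresheaf.naturality (homOfLE (X.basicOpen_le a)).op)
  have h0 : (u i).app (X.basicOpen a) (F.presheaf.map (homOfLE (X.basicOpen_le a)).op m) =
      (G i).presheaf.map (homOfLE (X.basicOpen_le a)).op ((u i).app V m) := hn
  rw [h0, map_basicOpen_eq_zero_iff (G i) hV a]
  exact hm i

/-- **EGA IV 11.9.10** (case `Z_λ = X`). -/
theorem pullback_separating_of_flat_lfp [Flat g] [LocallyOfFinitePresentation g]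
    (hs : ∀ (V : X.Opens) (t : Γ(F, V)), (∀ i, (u i).app V t = 0) → t = 0)
    (V' : X'.Opens) (t : Γ((Scheme.Modules.pullback g).obj F, V'))
    (ht : ∀ i, ((Scheme.Modules.pullback g).map (u i)).app V' t = 0) : t = 0 := by
  refine pullback_separating_of_tensor g F G u (fun V hV U hU h => ?_) V' t ht
  letI := (g.appLE V U h).hom.toAlgebra
  haveI : Module.Flat Γ(X, V) Γ(X', U) := g.flat_appLE hV hU h
  haveI : Algebra.FinitePresentation Γ(X, V) Γ(X', U) := g.finitePresentation_appLE hV hU h
  intro z hz
  exact eq_zero_of_flat_finitePresentation (fun i => appₗ (u i) V)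
    (locSep_of_separating F G u hs hV) z hz

end Groth.Agent.Lib.LeadSepF
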