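import Mathlib
import Groth.Agent.Lib.T2H3SepFG
import Groth.Agent.Lib.T2H3Separating
import Groth.Agent.Lib.Helper2PullbackSec3
import Groth.Agent.Lib.Helper2FlatOver

/-!
# Separating families and finitely generated subalgebras: schemes (helper3)

EGA IV 11.9.x, case `Z_λ = X`, affine base: reduction of the base change `A → A'` to the finitely
generated subalgebras of `A'`.
-/

set_option autoImplicit false
set_option linter.style.haveILetI false
universe u
open CategoryTheory CategoryTheory.Limits AlgebraicGeometry TopologicalSpace Opposite TensorProduct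
open Groth.Agent.Helper18Strict Groth.Agent.Lib.T2H3.PullSec Groth.Agent.Lib.T2H3.SepFG

namespace Groth.Agent.Lib.T2H3.SepFGSch

section General

variable {X X' : Scheme.{u}} (g : X' ⟶ X) (F : X.Modules) [F.IsQuasicoherent] {ι : Type u}
  (G : ι → X.Modules) [∀ i, (G i).IsQuasicoherent] (u : ∀ i, F ⟶ G i)

/-- variant of `pullback_separating_of_tensor`: it is enough to have joint injectivity on a cover
by pairs of affine opens, fine enough to be a basis of `X'`. -/
theorem pullback_separating_of_tensor_cover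
    (H : ∀ (V' : X'.Opens) (x : X'), x ∈ V' → ∃ (V : X.Opens) (U : X'.Opens)
      (_ : IsAffineOpen V) (_ : IsAffineOpen U) (h : U ≤ g ⁻¹ᵁ V), x ∈ U ∧ U ≤ V' ∧
      letI := (g.appLE V U h).hom.toAlgebra
      ∀ z : Γ(X', U) ⊗[Γ(X, V)] Γ(F, V),
        (∀ i, (appₗ (u i) V).lTensor Γ(X', U) z = 0) → z = 0)
    (V' : X'.Opens) (t : Γ((Scheme.Modules.pullback g).obj F, V'))
    (ht : ∀ i, ((Scheme.Modules.pullback g).map (u i)).app V' t = 0) : t = 0 := by
  refine TopCat.Sheaf.eq_of_locally_eq' ⟨((Scheme.Modules.pullback g).obj F).presheaf,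
    ((Scheme.Modules.pullback g).obj F).isSheaf⟩
    (fun W : {W : X'.Opens // IsAffineOpen W ∧ W ≤ V' ∧
      ∃ (V : X.Opens) (_ : IsAffineOpen V) (h : W ≤ g ⁻¹ᵁ V),
        letI := (g.appLE V W h).hom.toAlgebra
        ∀ z : Γ(X', W) ⊗[Γ(X, V)] Γ(F, V),
          (∀ i, (appₗ (u i) V).lTensor Γ(X', W) z = 0) → z = 0} => W.1) V'
    (fun W => homOfLE W.2.2.1) ?_ t 0 (fun W => ?_)
  · intro x hx
    obtain ⟨V, U, hV, hU, h, hxU, hUV', hinj⟩ := H V' x hx
    exact Opens.mem_iSup.mpr ⟨⟨U, hU, hUV', V, hV, h, hinj⟩, hxU⟩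
  · obtain ⟨U, hU, hUV', V, hV, h, hinj⟩ := W
    letI := (g.appLE V U h).hom.toAlgebra
    show ((Scheme.Modules.pullback g).obj F).presheaf.map (homOfLE hUV').op t =
      ((Scheme.Modules.pullback g).obj F).presheaf.map (homOfLE hUV').op 0
    rw [map_zero]
    set t'' := ((Scheme.Modules.pullback g).obj F).presheaf.map (homOfLE hUV').op t with ht''
    have hz : ∀ i, (appₗ (u i) V).lTensor Γ(X', U) ((secEquiv g hV hU h F).symm t'') = 0 := by
      intro i
      apply (secEquiv g hV hU h (G i)).injective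
      rw [secEquiv_naturality, LinearEquiv.apply_symm_apply, map_zero]
      have hn := congrArg (fun k => k.hom t)
        (((Scheme.Modules.pullback g).map (u i)).mapPresheaf.naturality (homOfLE hUV').op)
      have h0 : ((Scheme.Modules.pullback g).map (u i)).app U t'' =
          ((Scheme.Modules.pullback g).obj (G i)).presheaf.map (homOfLE hUV').op
            (((Scheme.Modules.pullback g).map (u i)).app V' t) := hn
      rw [h0, ht i, map_zero]
    have := hinj _ hz
    have h1 := congrArg (secEquiv g hV hU h F) this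
    rwa [LinearEquiv.apply_symm_apply, map_zero] at h1

/-- scalar tower `Γ(X,V) → Γ(X',W) → Γ(X', D(s))`. -/
theorem isScalarTower_basicOpen {V : X.Opens} {W : X'.Opens} (h : W ≤ g ⁻¹ᵁ V) (s : Γ(X', W)) :
    letI := (g.appLE V W h).hom.toAlgebra
    letI := (g.appLE V (X'.basicOpen s) ((X'.basicOpen_le s).trans h)).hom.toAlgebra
    IsScalarTower Γ(X, V) Γ(X', W) Γ(X', X'.basicOpen s) := by
  letI := (g.appLE V W h).hom.toAlgebra
  letI := (g.appLE V (X'.basicOpen s) ((X'.basicOpen_le s).trans h)).hom.toAlgebra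
  refine .of_algebraMap_eq (fun x => ?_)
  have := congrArg (fun k => k.hom x)
    (Scheme.Hom.appLE_map g h (homOfLE (X'.basicOpen_le s)).op)
  exact this.symm

/-- a separating pulled-back family satisfies `Phi` over all pairs of affine opens. -/
theorem phi_of_pullback_separating
    (Hs : ∀ (V' : X'.Opens) (t : Γ((Scheme.Modules.pullback g).obj F, V')),
      (∀ i, ((Scheme.Modules.pullback g).map (u i)).app V' t = 0) → t = 0)
    {V : X.Opens} (hV : IsAffineOpen V) {W : X'.Opens} (hW : IsAffineOpen W) (h : W ≤ g ⁻¹ᵁ V)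
    (s : Γ(X', W)) :
    letI := (g.appLE V W h).hom.toAlgebra
    Phi (fun i => appₗ (u i) V) Γ(X', W) s := by
  letI := (g.appLE V W h).hom.toAlgebra
  letI := (g.appLE V (X'.basicOpen s) ((X'.basicOpen_le s).trans h)).hom.toAlgebra
  haveI := isScalarTower_basicOpen g h s
  haveI : IsLocalization.Away s Γ(X', X'.basicOpen s) := hW.isLocalization_basicOpen s
  exact phi_of_injective (L := Γ(X', X'.basicOpen s)) (fun i => appₗ (u i) V) s
    (Groth.Agent.Lib.T2H3.Separating.tensor_of_pullback_separating g F G u Hs hV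
      (hW.basicOpen s) ((X'.basicOpen_le s).trans h))

/-- conversely, `Phi` on enough pairs of affine opens makes the pulled-back family separating. -/
theorem pullback_separating_of_phi
    (H : ∀ x : X', ∃ (V : X.Opens) (W : X'.Opens) (_ : IsAffineOpen V) (_ : IsAffineOpen W)
      (h : W ≤ g ⁻¹ᵁ V), x ∈ W ∧ ∀ s : Γ(X', W),
        letI := (g.appLE V W h).hom.toAlgebra
        Phi (fun i => appₗ (u i) V) Γ(X', W) s)
    (V' : X'.Opens) (t : Γ((Scheme.Modules.pullback g).obj F, V'))
    (ht : ∀ i, ((Scheme.Modules.pullback g).map (u i)).app V' t = 0) : t = 0 := by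
  refine pullback_separating_of_tensor_cover g F G u (fun V' x hx => ?_) V' t ht
  obtain ⟨V, W, hV, hW, h, hxW, hΦ⟩ := H x
  obtain ⟨s, hs, hxs⟩ := hW.exists_basicOpen_le (V := V') ⟨x, hx⟩ hxW
  refine ⟨V, X'.basicOpen s, hV, hW.basicOpen s, (X'.basicOpen_le s).trans h, hxs, hs, ?_⟩
  letI := (g.appLE V W h).hom.toAlgebra
  letI := (g.appLE V (X'.basicOpen s) ((X'.basicOpen_le s).trans h)).hom.toAlgebra
  haveI := isScalarTower_basicOpen g h s
  haveI : IsLocalization.Away s Γ(X', X'.basicOpen s) := hW.isLocalization_basicOpen s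
  exact injective_of_phi (L := Γ(X', X'.basicOpen s)) (fun i => appₗ (u i) V) s (hΦ s)

end General

section Base

variable {X : Scheme.{u}} (A : CommRingCat.{u}) (p : X ⟶ Spec A) {C : CommRingCat.{u}} (φ : A ⟶ C)

theorem commSq_ΓSpec :
    CommSq (Scheme.ΓSpecIso A).inv φ ((Spec.map φ).appLE ⊤ ⊤ le_top) (Scheme.ΓSpecIso C).inv := by
  refine ⟨?_⟩
  have h := Scheme.ΓSpecIso_inv_naturality φ
  rw [h]
  congr 1

/-- the preimage in `X ×_A C` of an open `V` of `X`. -/
noncomputable abbrev WC (V : X.Opens) : (pullback p (Spec.map φ)).Opens :=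
  (pullback.fst p (Spec.map φ)) ⁻¹ᵁ V ⊓ (pullback.snd p (Spec.map φ)) ⁻¹ᵁ ⊤

theorem isAffineOpen_WC {V : X.Opens} (hV : IsAffineOpen V) : IsAffineOpen (WC A p φ V) :=
  Groth.Agent.Lib.Helper2.PullbackSec.isAffineOpen_inf_preimage
    (IsPullback.of_hasPullback p (Spec.map φ)) (V := ⊤) (V' := ⊤) le_top le_top
    (isAffineOpen_top _) (isAffineOpen_top _) hV

/-- the square of sections over an affine open `V` of `X` and its preimage in `X ×_A C`, as a
pushout of commutative rings with corners `A`, `C`. -/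
theorem isPushout_sections {V : X.Opens} (hV : IsAffineOpen V) :
    IsPushout ((Scheme.ΓSpecIso A).inv ≫ p.appLE ⊤ V le_top) φ
      ((pullback.fst p (Spec.map φ)).appLE V (WC A p φ V) inf_le_left)
      ((Scheme.ΓSpecIso C).inv ≫ (pullback.snd p (Spec.map φ)).appLE ⊤ (WC A p φ V)
        inf_le_right) := by
  have hc := IsPullback.of_hasPullback p (Spec.map φ)
  have eV' : (⊤ : (Spec C).Opens) ≤ (Spec.map φ) ⁻¹ᵁ ⊤ := le_top
  have eU : V ≤ p ⁻¹ᵁ ⊤ := le_top
  have h1 : IsIso (pushoutSection hc eV' eU (rfl : WC A p φ V = _)) :=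
    isIso_pushoutSection_of_isAffineOpen hc eV' eU rfl (isAffineOpen_top _) (isAffineOpen_top _) hV
  have sq1 := (isIso_pushoutSection_iff hc eV' eU rfl).1 h1
  have sq0 : IsPushout (Scheme.ΓSpecIso A).inv φ
      ((Spec.map φ).appLE ⊤ ⊤ le_top) (Scheme.ΓSpecIso C).inv :=
    IsPushout.of_horiz_isIso (commSq_ΓSpec A φ)
  exact sq0.paste_horiz sq1

/-- the `A`-algebra structure on sections of `X`. -/
@[reducible] noncomputable def algBase (V : X.Opens) : Algebra ↑A Γ(X, V) :=
  ((Scheme.ΓSpecIso A).inv ≫ p.appLE ⊤ V le_top).hom.toAlgebra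

@[reducible] noncomputable def algC (V : X.Opens) :
    Algebra ↑C Γ(pullback p (Spec.map φ), WC A p φ V) :=
  ((Scheme.ΓSpecIso C).inv ≫ (pullback.snd p (Spec.map φ)).appLE ⊤ (WC A p φ V)
    inf_le_right).hom.toAlgebra

@[reducible] noncomputable def algR (V : X.Opens) :
    Algebra Γ(X, V) Γ(pullback p (Spec.map φ), WC A p φ V) :=
  ((pullback.fst p (Spec.map φ)).appLE V (WC A p φ V) inf_le_left).hom.toAlgebra

@[reducible] noncomputable def algA (V : X.Opens) :
    Algebra ↑A Γ(pullback p (Spec.map φ), WC A p φ V) :=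
  (((Scheme.ΓSpecIso A).inv ≫ p.appLE ⊤ V le_top) ≫
    (pullback.fst p (Spec.map φ)).appLE V (WC A p φ V) inf_le_left).hom.toAlgebra

theorem tower_R (V : X.Opens) :
    letI := algBase A p V
    letI := algR A p φ V
    letI := algA A p φ V
    IsScalarTower ↑A Γ(X, V) Γ(pullback p (Spec.map φ), WC A p φ V) := by
  letI := algBase A p V
  letI := algR A p φ V
  letI := algA A p φ V
  exact .of_algebraMap_eq (fun x => rfl)

theorem tower_C [Algebra ↑A ↑C] (hφ : algebraMap ↑A ↑C = φ.hom) {V : X.Opens}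
    (hV : IsAffineOpen V) :
    letI := algC A p φ V
    letI := algA A p φ V
    IsScalarTower ↑A ↑C Γ(pullback p (Spec.map φ), WC A p φ V) := by
  letI := algC A p φ V
  letI := algA A p φ V
  refine .of_algebraMap_eq (fun x => ?_)
  have := congrArg (fun k => k.hom x) (isPushout_sections A p φ hV).w
  rw [hφ]
  exact this

theorem algebra_isPushout_sections [Algebra ↑A ↑C] (hφ : algebraMap ↑A ↑C = φ.hom) {V : X.Opens}
    (hV : IsAffineOpen V) :
    letI := algBase A p V
    letI := algC A p φ V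
    letI := algR A p φ V
    letI := algA A p φ V
    haveI := tower_R A p φ V
    haveI := tower_C A p φ hφ hV
    Algebra.IsPushout ↑A ↑C Γ(X, V) Γ(pullback p (Spec.map φ), WC A p φ V) := by
  letI := algBase A p V
  letI := algC A p φ V
  letI := algR A p φ V
  letI := algA A p φ V
  haveI := tower_R A p φ V
  haveI := tower_C A p φ hφ hV
  have hpo := isPushout_sections A p φ hV
  have hpo' : IsPushout (CommRingCat.ofHom (algebraMap ↑A Γ(X, V)))
      (CommRingCat.ofHom (algebraMap ↑A ↑C))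
      (CommRingCat.ofHom (algebraMap Γ(X, V) Γ(pullback p (Spec.map φ), WC A p φ V)))
      (CommRingCat.ofHom (algebraMap ↑C Γ(pullback p (Spec.map φ), WC A p φ V))) := by
    rw [hφ]
    exact hpo
  exact (CommRingCat.isPushout_iff_isPushout.1 hpo').symm

/-- sections over an affine open of a module flat over `Spec A` are flat over `A`. -/
theorem flat_sections_base (G : X.Modules) [G.IsQuasicoherent] (hG : FlatMod.IsFlatOver p G)
    {V : X.Opens} (hV : IsAffineOpen V) :
    letI := algBase A p V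
    letI : Module ↑A Γ(G, V) := Module.compHom Γ(G, V) (algebraMap ↑A Γ(X, V))
    Module.Flat ↑A Γ(G, V) := by
  letI := algBase A p V
  letI : Module ↑A Γ(G, V) := Module.compHom Γ(G, V) (algebraMap ↑A Γ(X, V))
  have h1 := Groth.Agent.Lib.Helper2.FlatOver.flat_sections_of_isFlatOverAt p G hV
    (isAffineOpen_top (Spec A)) le_top (fun x _ => hG x)
  letI algR : Algebra ↑A Γ(Spec A, ⊤) := (Scheme.ΓSpecIso A).inv.hom.toAlgebra
  letI modR : Module Γ(Spec A, ⊤) Γ(G, V) :=
    Module.compHom Γ(G, V) (p.appLE ⊤ V le_top).hom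
  haveI : IsScalarTower ↑A Γ(Spec A, ⊤) Γ(G, V) := by
    refine ⟨fun a b y => ?_⟩
    change (p.appLE ⊤ V le_top).hom ((Scheme.ΓSpecIso A).inv.hom a * b) • y =
      (p.appLE ⊤ V le_top).hom ((Scheme.ΓSpecIso A).inv.hom a) • ((p.appLE ⊤ V le_top).hom b • y)
    rw [map_mul, mul_smul]
  haveI : Module.Flat ↑A Γ(Spec A, ⊤) := by
    have hbij : Function.Bijective (Algebra.linearMap ↑A Γ(Spec A, ⊤)) :=
      ConcreteCategory.bijective_of_isIso (Scheme.ΓSpecIso A).inv
    exact Module.Flat.of_linearEquiv (LinearEquiv.ofBijective _ hbij).symm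
  haveI : Module.Flat Γ(Spec A, ⊤) Γ(G, V) := h1
  exact Module.Flat.trans ↑A Γ(Spec A, ⊤) Γ(G, V)

variable {A p} in
/-- **EGA IV 11.9.x (affine base, `Z_λ = X`)**: if the family pulled back to `X ×_A B` is separating
for every finitely generated sub-`A`-algebra `B` of `A'`, then the family pulled back to
`X ×_A A'` is separating (`G i` flat over `A`). -/
theorem separating_of_forall_fg {A' : CommRingCat.{u}} (φ : A ⟶ A')
    (F : X.Modules) [F.IsQuasicoherent] {ι : Type u} (G : ι → X.Modules)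
    [∀ i, (G i).IsQuasicoherent] (hG : ∀ i, FlatMod.IsFlatOver p (G i)) (u : ∀ i, F ⟶ G i)
    (hfg : ∀ (B : CommRingCat.{u}) (a : A ⟶ B) (b : B ⟶ A'), a ≫ b = φ →
      Function.Injective b.hom → a.hom.FiniteType →
      ∀ (V' : (pullback p (Spec.map a)).Opens)
        (t : Γ((Scheme.Modules.pullback (pullback.fst p (Spec.map a))).obj F, V')),
        (∀ i, ((Scheme.Modules.pullback (pullback.fst p (Spec.map a))).map (u i)).app V' t = 0) →
          t = 0)
    (V' : (pullback p (Spec.map φ)).Opens)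
    (t : Γ((Scheme.Modules.pullback (pullback.fst p (Spec.map φ))).obj F, V'))
    (ht : ∀ i, ((Scheme.Modules.pullback (pullback.fst p (Spec.map φ))).map (u i)).app V' t = 0) :
    t = 0 := by
  refine pullback_separating_of_phi (pullback.fst p (Spec.map φ)) F G u (fun x => ?_) V' t ht
  obtain ⟨V, hV, hxV, -⟩ := exists_isAffineOpen_mem_and_subset
    (x := (pullback.fst p (Spec.map φ)) x) (U := ⊤) trivial
  refine ⟨V, WC A p φ V, hV, isAffineOpen_WC A p φ hV, inf_le_left, ⟨hxV, trivial⟩, fun s => ?_⟩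
  letI algAA' : Algebra ↑A ↑A' := φ.hom.toAlgebra
  letI := algBase A p V
  letI := algC A p φ V
  letI := algR A p φ V
  letI := algA A p φ V
  haveI := tower_R A p φ V
  haveI := tower_C A p φ rfl hV
  haveI := algebra_isPushout_sections A p φ rfl hV
  letI modF : Module ↑A Γ(F, V) := Module.compHom Γ(F, V) (algebraMap ↑A Γ(X, V))
  haveI tF : IsScalarTower ↑A Γ(X, V) Γ(F, V) := by
    refine ⟨fun a b y => ?_⟩
    change (algebraMap ↑A Γ(X, V) a * b) • y = algebraMap ↑A Γ(X, V) a • (b • y)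
    rw [mul_smul]
  letI modG : ∀ i, Module ↑A Γ(G i, V) := fun i =>
    Module.compHom Γ(G i, V) (algebraMap ↑A Γ(X, V))
  haveI tG : ∀ i, IsScalarTower ↑A Γ(X, V) Γ(G i, V) := by
    intro i
    refine ⟨fun a b y => ?_⟩
    change (algebraMap ↑A Γ(X, V) a * b) • y = algebraMap ↑A Γ(X, V) a • (b • y)
    rw [mul_smul]
  haveI flG : ∀ i, Module.Flat ↑A Γ(G i, V) := fun i => flat_sections_base A p (G i) (hG i) hV
  intro z₀ hz₀
  obtain ⟨B, hB, hdesc⟩ := exists_fg_descent (A := ↑A) (R := Γ(X, V)) (M := Γ(F, V)) (A' := ↑A')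
    Γ(pullback p (Spec.map φ), WC A p φ V) s z₀
  let a : A ⟶ CommRingCat.of ↥B := CommRingCat.ofHom (algebraMap ↑A ↥B)
  let b : CommRingCat.of ↥B ⟶ A' := CommRingCat.ofHom B.val.toRingHom
  letI := algC A p a V
  letI := algR A p a V
  letI := algA A p a V
  haveI := tower_R A p a V
  haveI := tower_C A p a rfl hV
  haveI := algebra_isPushout_sections A p a rfl hV
  obtain ⟨sB, zB, hs, hz⟩ := hdesc Γ(pullback p (Spec.map a), WC A p a V)
  have hft : a.hom.FiniteType :=
    RingHom.finiteType_algebraMap.2 ((Subalgebra.fg_iff_finiteType B).1 hB)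
  have hsep := hfg (CommRingCat.of ↥B) a b rfl Subtype.val_injective hft
  have hΦ := phi_of_pullback_separating (pullback.fst p (Spec.map a)) F G u hsep hV
    (isAffineOpen_WC A p a hV) inf_le_left sB
  have := exists_pow_smul_eq_zero_of_phi (fun i => appₗ (u i) V)
    Γ(pullback p (Spec.map φ), WC A p φ V) B.val Γ(pullback p (Spec.map a), WC A p a V)
    Subtype.val_injective sB zB hΦ (by rw [hs, hz]; exact hz₀)
  rwa [hs, hz] at this

end Base

end Groth.Agent.Lib.T2H3.SepFGSch
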