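import Mathlib
import Groth.Agent.Lib.LeadSepF4
import Groth.Agent.Lib.LeadSepF9
import Groth.Agent.Lib.T2H3SepFGSch

/-!
# Separating families and base change, part 10 (lead)

EGA IV 11.9.9 (case `Z_λ = X`): a separating family of homomorphisms of quasi-coherent modules on a
scheme `X` over a field `k` stays separating on `X ×_k S'` for an arbitrary `k`-scheme `S'`.
-/

set_option autoImplicit false
set_option maxHeartbeats 400000
set_option linter.style.haveILetI false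
set_option linter.unusedSectionVars false
set_option linter.unusedVariables false

universe u
open CategoryTheory CategoryTheory.Limits AlgebraicGeometry TopologicalSpace Opposite TensorProduct
open Groth.Agent.Helper18Strict Groth.Agent.Lib.T2H3.PullSec Groth.Agent.Lib.T2H3.SepFG
  Groth.Agent.Lib.T2H3.SepFGSch

namespace Groth.Agent.Lib.LeadSepF

theorem isField_ΓSpec (k : Type u) [Field k] : IsField Γ(Spec (CommRingCat.of k), ⊤) :=
  MulEquiv.isField (Field.toIsField k)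
    (Scheme.ΓSpecIso (CommRingCat.of k)).commRingCatIsoToRingEquiv.toMulEquiv

/-- **EGA IV 11.9.9** (case `Z_λ = X`). -/
theorem separating_baseChange_over_field {k : Type u} [Field k] {X S' : Scheme.{u}}
    (p : X ⟶ Spec (CommRingCat.of k)) (q : S' ⟶ Spec (CommRingCat.of k))
    (F : X.Modules) [F.IsQuasicoherent] {ι : Type u} (G : ι → X.Modules)
    [∀ i, (G i).IsQuasicoherent] (u : ∀ i, F ⟶ G i)
    (hs : ∀ (V : X.Opens) (t : Γ(F, V)), (∀ i, (u i).app V t = 0) → t = 0)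
    (V' : (pullback p q).Opens)
    (t : Γ((Scheme.Modules.pullback (pullback.fst p q)).obj F, V'))
    (ht : ∀ i, ((Scheme.Modules.pullback (pullback.fst p q)).map (u i)).app V' t = 0) : t = 0 := by
  refine pullback_separating_of_phi (pullback.fst p q) F G u (fun x => ?_) V' t ht
  obtain ⟨V, hV, hxV, -⟩ := exists_isAffineOpen_mem_and_subset
    (x := (pullback.fst p q) x) (U := ⊤) trivial
  obtain ⟨T, hT, hxT, -⟩ := exists_isAffineOpen_mem_and_subset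
    (x := (pullback.snd p q) x) (U := ⊤) trivial
  have hc := IsPullback.of_hasPullback p q
  have eT : T ≤ q ⁻¹ᵁ ⊤ := le_top
  have eV : V ≤ p ⁻¹ᵁ ⊤ := le_top
  have hW : IsAffineOpen ((pullback.fst p q) ⁻¹ᵁ V ⊓ (pullback.snd p q) ⁻¹ᵁ T) :=
    Groth.Agent.Lib.Helper2.PullbackSec.isAffineOpen_inf_preimage hc eT eV (isAffineOpen_top _) hT hV
  refine ⟨V, (pullback.fst p q) ⁻¹ᵁ V ⊓ (pullback.snd p q) ⁻¹ᵁ T, hV, hW, inf_le_left,
    ⟨hxV, hxT⟩, fun s => ?_⟩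
  have e1 : (pullback.fst p q) ⁻¹ᵁ V ⊓ (pullback.snd p q) ⁻¹ᵁ T ≤ (pullback.fst p q) ⁻¹ᵁ V :=
    inf_le_left
  have e2 : (pullback.fst p q) ⁻¹ᵁ V ⊓ (pullback.snd p q) ⁻¹ᵁ T ≤ (pullback.snd p q) ⁻¹ᵁ T :=
    inf_le_right
  letI aAB : Algebra Γ(Spec (CommRingCat.of k), ⊤) Γ(X, V) := (p.appLE ⊤ V eV).hom.toAlgebra
  letI aAA' : Algebra Γ(Spec (CommRingCat.of k), ⊤) Γ(S', T) := (q.appLE ⊤ T eT).hom.toAlgebra
  letI aBB' : Algebra Γ(X, V)
      Γ(pullback p q, (pullback.fst p q) ⁻¹ᵁ V ⊓ (pullback.snd p q) ⁻¹ᵁ T) :=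
    ((pullback.fst p q).appLE V _ e1).hom.toAlgebra
  letI aA'B' : Algebra Γ(S', T)
      Γ(pullback p q, (pullback.fst p q) ⁻¹ᵁ V ⊓ (pullback.snd p q) ⁻¹ᵁ T) :=
    ((pullback.snd p q).appLE T _ e2).hom.toAlgebra
  letI aAB' : Algebra Γ(Spec (CommRingCat.of k), ⊤)
      Γ(pullback p q, (pullback.fst p q) ⁻¹ᵁ V ⊓ (pullback.snd p q) ⁻¹ᵁ T) :=
    (((pullback.fst p q).appLE V _ e1).hom.comp (p.appLE ⊤ V eV).hom).toAlgebra
  haveI tABB' : IsScalarTower Γ(Spec (CommRingCat.of k), ⊤) Γ(X, V)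
      Γ(pullback p q, (pullback.fst p q) ⁻¹ᵁ V ⊓ (pullback.snd p q) ⁻¹ᵁ T) :=
    IsScalarTower.of_algebraMap_eq (fun a => rfl)
  haveI tAA'B' : IsScalarTower Γ(Spec (CommRingCat.of k), ⊤) Γ(S', T)
      Γ(pullback p q, (pullback.fst p q) ⁻¹ᵁ V ⊓ (pullback.snd p q) ⁻¹ᵁ T) := by
    refine IsScalarTower.of_algebraMap_eq (fun a => ?_)
    change ((pullback.fst p q).appLE V _ e1).hom ((p.appLE ⊤ V eV).hom a) =
      ((pullback.snd p q).appLE T _ e2).hom ((q.appLE ⊤ T eT).hom a)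
    have h1 := Scheme.Hom.appLE_comp_appLE (pullback.fst p q) p ⊤ V _ eV e1
    have h2 := Scheme.Hom.appLE_comp_appLE (pullback.snd p q) q ⊤ T _ eT e2
    have h3 : (p.appLE ⊤ V eV ≫ (pullback.fst p q).appLE V _ e1) =
        (q.appLE ⊤ T eT ≫ (pullback.snd p q).appLE T _ e2) := by
      rw [h1, h2]
      congr 1
      exact hc.w
    exact congrArg (fun φ => φ.hom a) h3
  haveI hPO : Algebra.IsPushout Γ(Spec (CommRingCat.of k), ⊤) Γ(S', T) Γ(X, V)
      Γ(pullback p q, (pullback.fst p q) ⁻¹ᵁ V ⊓ (pullback.snd p q) ⁻¹ᵁ T) :=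
    Groth.Agent.Lib.Helper2.PullbackSec.algebra_isPushout hc eT eV (isAffineOpen_top _) hT hV e1 e2
  letI modF : Module Γ(Spec (CommRingCat.of k), ⊤) Γ(F, V) :=
    Module.compHom Γ(F, V) (algebraMap Γ(Spec (CommRingCat.of k), ⊤) Γ(X, V))
  haveI tF : IsScalarTower Γ(Spec (CommRingCat.of k), ⊤) Γ(X, V) Γ(F, V) := by
    refine ⟨fun a b y => ?_⟩
    change (algebraMap Γ(Spec (CommRingCat.of k), ⊤) Γ(X, V) a * b) • y =
      algebraMap Γ(Spec (CommRingCat.of k), ⊤) Γ(X, V) a • (b • y)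
    rw [mul_smul]
  letI modG : ∀ i, Module Γ(Spec (CommRingCat.of k), ⊤) Γ(G i, V) := fun i =>
    Module.compHom Γ(G i, V) (algebraMap Γ(Spec (CommRingCat.of k), ⊤) Γ(X, V))
  haveI tG : ∀ i, IsScalarTower Γ(Spec (CommRingCat.of k), ⊤) Γ(X, V) Γ(G i, V) := by
    intro i
    refine ⟨fun a b y => ?_⟩
    change (algebraMap Γ(Spec (CommRingCat.of k), ⊤) Γ(X, V) a * b) • y =
      algebraMap Γ(Spec (CommRingCat.of k), ⊤) Γ(X, V) a • (b • y)
    rw [mul_smul]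
  exact phi_of_locSep_of_isField (A := Γ(Spec (CommRingCat.of k), ⊤)) (A' := Γ(S', T))
    (isField_ΓSpec k) (fun i => appₗ (u i) V)
    (locSep_of_separating F G u hs hV)
    Γ(pullback p q, (pullback.fst p q) ⁻¹ᵁ V ⊓ (pullback.snd p q) ⁻¹ᵁ T) s

end Groth.Agent.Lib.LeadSepF
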