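import Mathlib
import Groth.Agent.Lib.LeadSepF3

/-!
# Separating families and base change, part 5 (lead)

EGA IV 11.10.5: a schematically dominant family of morphisms stays schematically dominant after a
flat base change locally of finite presentation (scheme-level translation).
-/

set_option autoImplicit false
set_option maxHeartbeats 400000
set_option linter.style.haveILetI false
set_option linter.unusedSectionVars false
set_option linter.unusedVariables false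

universe u
open CategoryTheory CategoryTheory.Limits AlgebraicGeometry TopologicalSpace Opposite TensorProduct

namespace Groth.Agent.Lib.LeadSepF

/-- ring-level form for families of algebras. -/
theorem eq_zero_of_tmul_one_eq_zero {A B : Type u} [CommRing A] [CommRing B] [Algebra A B]
    [Algebra.FinitePresentation A B] [Module.Flat A B]
    {J : Type u} (C : J → Type u) [∀ j, CommRing (C j)] [∀ j, Algebra A (C j)]
    (H : ∀ (a m : A), (∀ j, ∃ n : ℕ, algebraMap A (C j) (a ^ n * m) = 0) → ∃ n : ℕ, a ^ n * m = 0)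
    (b : B) (hb : ∀ j, b ⊗ₜ[A] (1 : C j) = 0) : b = 0 := by
  have hsep : LocSep A (fun j => Algebra.linearMap A (C j)) := by
    intro a m hm
    have h1 : ∀ j, ∃ n : ℕ, algebraMap A (C j) (a ^ n * m) = 0 := by
      intro j
      obtain ⟨n, hn⟩ := hm j
      refine ⟨n, ?_⟩
      rw [map_mul, ← Algebra.smul_def]
      exact hn
    obtain ⟨n, hn⟩ := H a m h1
    exact ⟨n, by rw [smul_eq_mul]; exact hn⟩
  have h2 := eq_zero_of_flat_finitePresentation (B := B) (fun j => Algebra.linearMap A (C j)) hsep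
    (b ⊗ₜ[A] (1 : A)) (fun j => by
      rw [LinearMap.lTensor_tmul, Algebra.linearMap_apply, map_one]
      exact hb j)
  have h3 := congrArg (TensorProduct.rid A B) h2
  rwa [TensorProduct.rid_tmul, one_smul, map_zero] at h3

/-- sections pulled back along a morphism which factors through `p` vanish if they vanish
along `p`. -/
theorem appLE_eq_zero_of_factor {Y P X' : Scheme.{u}} (k : Y ⟶ P) (p : P ⟶ X') (q : Y ⟶ X')
    (hq : k ≫ p = q) {V' : X'.Opens} (t : Γ(X', V')) (ht : p.app V' t = 0) (O : Y.Opens)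
    (e : O ≤ q ⁻¹ᵁ V') : q.appLE V' O e t = 0 := by
  subst hq
  have e' : O ≤ k ⁻¹ᵁ p ⁻¹ᵁ V' := fun x hx => e hx
  have h1 : (k ≫ p).appLE V' O e = p.app V' ≫ k.appLE (p ⁻¹ᵁ V') O e' := by
    rw [Scheme.Hom.app_eq_appLE]
    exact (Scheme.Hom.appLE_comp_appLE k p V' (p ⁻¹ᵁ V') O le_rfl e').symm
  rw [h1, CommRingCat.comp_apply, ht, map_zero]

/-- sections along `Spec.map φ ≫ hU.fromSpec`. -/
theorem appLE_SpecMap_fromSpec {X' : Scheme.{u}} {U : X'.Opens} (hU : IsAffineOpen U)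
    {R : CommRingCat.{u}} (φ : Γ(X', U) ⟶ R) {V' : X'.Opens} (hUV' : U ≤ V')
    (e : (⊤ : (Spec R).Opens) ≤ (Spec.map φ ≫ hU.fromSpec) ⁻¹ᵁ V') (t : Γ(X', V')) :
    (Spec.map φ ≫ hU.fromSpec).appLE V' ⊤ e t =
      (Scheme.ΓSpecIso R).inv (φ (X'.presheaf.map (homOfLE hUV').op t)) := by
  have e1 : (⊤ : (Spec Γ(X', U)).Opens) ≤ hU.fromSpec ⁻¹ᵁ V' := by
    intro y _
    have : hU.fromSpec y ∈ Set.range hU.fromSpec := ⟨y, rfl⟩
    rw [hU.range_fromSpec] at this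
    exact hUV' this
  have e2 : (⊤ : (Spec R).Opens) ≤ (Spec.map φ) ⁻¹ᵁ ⊤ := fun _ _ => trivial
  have h1 : (Spec.map φ ≫ hU.fromSpec).appLE V' ⊤ e =
      hU.fromSpec.appLE V' ⊤ e1 ≫ (Spec.map φ).appLE ⊤ ⊤ e2 :=
    (Scheme.Hom.appLE_comp_appLE (Spec.map φ) hU.fromSpec V' ⊤ ⊤ e1 e2).symm
  have h2 : hU.fromSpec.appLE V' ⊤ e1 =
      X'.presheaf.map (homOfLE hUV').op ≫ (Scheme.ΓSpecIso Γ(X', U)).inv := by
    rw [Scheme.Hom.appLE, hU.fromSpec_app_of_le V' hUV', Category.assoc, Category.assoc,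
      ← Functor.map_comp]
    have h3 : (homOfLE (le_top : hU.fromSpec ⁻¹ᵁ V' ≤ ⊤)).op ≫ (homOfLE e1).op = 𝟙 _ :=
      Subsingleton.elim _ _
    rw [h3, CategoryTheory.Functor.map_id, Category.comp_id]
  have h4 : (Spec.map φ).appLE ⊤ ⊤ e2 = (Spec.map φ).appTop := by
    have h5 : (Spec.map φ).appLE ⊤ ((Spec.map φ) ⁻¹ᵁ ⊤) le_rfl = (Spec.map φ).app ⊤ :=
      Scheme.Hom.appLE_eq_app _
    exact h5
  rw [h1, h2, h4, Category.assoc, ← Scheme.ΓSpecIso_inv_naturality]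
  rfl

/-- the key vanishing: if `t` dies on `Z ×_X X'`, then `t|_U ⊗ 1` vanishes in
`Γ(X', U) ⊗_{Γ(X, V)} Γ(Z, W)`. -/
theorem tmul_one_eq_zero {X X' Z : Scheme.{u}} (f : Z ⟶ X) (g : X' ⟶ X)
    {V : X.Opens} (hV : IsAffineOpen V) {W : Z.Opens} (hW : IsAffineOpen W) (hWV : W ≤ f ⁻¹ᵁ V)
    {U : X'.Opens} (hU : IsAffineOpen U) (hUV : U ≤ g ⁻¹ᵁ V) {V' : X'.Opens} (hUV' : U ≤ V')
    (t : Γ(X', V')) (ht : (pullback.snd f g).app V' t = 0) :
    letI := (g.appLE V U hUV).hom.toAlgebra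
    letI := (f.appLE V W hWV).hom.toAlgebra
    (X'.presheaf.map (homOfLE hUV').op t) ⊗ₜ[Γ(X, V)] (1 : Γ(Z, W)) = 0 := by
  letI algB := (g.appLE V U hUV).hom.toAlgebra
  letI algC := (f.appLE V W hWV).hom.toAlgebra
  let R : CommRingCat.{u} := CommRingCat.of (Γ(X', U) ⊗[Γ(X, V)] Γ(Z, W))
  let ιB : Γ(X', U) ⟶ R := CommRingCat.ofHom Algebra.TensorProduct.includeLeftRingHom
  let ιC : Γ(Z, W) ⟶ R := CommRingCat.ofHom
    (Algebra.TensorProduct.includeRight (R := Γ(X, V)) (A := Γ(X', U)) (B := Γ(Z, W))).toRingHom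
  have hcomm : g.appLE V U hUV ≫ ιB = f.appLE V W hWV ≫ ιC := by
    ext a
    show (algebraMap Γ(X, V) Γ(X', U) a) ⊗ₜ[Γ(X, V)] (1 : Γ(Z, W)) =
      (1 : Γ(X', U)) ⊗ₜ[Γ(X, V)] (algebraMap Γ(X, V) Γ(Z, W) a)
    rw [Algebra.algebraMap_eq_smul_one, Algebra.algebraMap_eq_smul_one, TensorProduct.smul_tmul]
  have hsq : (Spec.map ιC ≫ hW.fromSpec) ≫ f = (Spec.map ιB ≫ hU.fromSpec) ≫ g := by
    rw [Category.assoc, Category.assoc, ← IsAffineOpen.SpecMap_appLE_fromSpec f hV hW hWV,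
      ← IsAffineOpen.SpecMap_appLE_fromSpec g hV hU hUV, ← Spec.map_comp_assoc,
      ← Spec.map_comp_assoc, hcomm]
  let k : Spec R ⟶ pullback f g :=
    pullback.lift (Spec.map ιC ≫ hW.fromSpec) (Spec.map ιB ≫ hU.fromSpec) hsq
  have hk : k ≫ pullback.snd f g = Spec.map ιB ≫ hU.fromSpec := pullback.lift_snd _ _ _
  have e : (⊤ : (Spec R).Opens) ≤ (Spec.map ιB ≫ hU.fromSpec) ⁻¹ᵁ V' := by
    intro y _
    have : hU.fromSpec ((Spec.map ιB) y) ∈ Set.range hU.fromSpec := ⟨_, rfl⟩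
    rw [hU.range_fromSpec] at this
    exact hUV' this
  have h1 := appLE_eq_zero_of_factor k (pullback.snd f g) _ hk t ht ⊤ e
  rw [appLE_SpecMap_fromSpec hU ιB hUV' e t] at h1
  have h2 : ιB (X'.presheaf.map (homOfLE hUV').op t) = 0 := by
    have hinj : Function.Injective (Scheme.ΓSpecIso R).inv :=
      ((ConcreteCategory.isIso_iff_bijective _).mp inferInstance).1
    exact hinj (h1.trans (map_zero _).symm)
  exact h2

end Groth.Agent.Lib.LeadSepF
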