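import Mathlib
import Groth.Agent.Lib.LeadSepF5

/-!
# Separating families and base change, part 6 (lead)

EGA IV 11.10.5: a schematically dominant family of morphisms stays schematically dominant after a
flat base change locally of finite presentation.
-/

set_option autoImplicit false
set_option maxHeartbeats 400000
set_option linter.style.haveILetI false
set_option linter.unusedSectionVars false
set_option linter.unusedVariables false

universe u
open CategoryTheory CategoryTheory.Limits AlgebraicGeometry TopologicalSpace Opposite TensorProduct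

namespace Groth.Agent.Lib.LeadSepF

/-- a schematically dominant family gives a locally separating family of algebras over every
affine open. -/
theorem locSep_family {X : Scheme.{u}} {ι : Type u} (Z : ι → Scheme.{u}) (f : ∀ i, Z i ⟶ X)
    (h : ∀ (V : X.Opens) (t : Γ(X, V)), (∀ i, (f i).app V t = 0) → t = 0)
    {V : X.Opens} (hV : IsAffineOpen V) (a m : Γ(X, V))
    (hm : ∀ (i : ι) (W : (Z i).Opens) (hW : IsAffineOpen W) (hWV : W ≤ (f i) ⁻¹ᵁ V),
      ∃ n : ℕ, (f i).appLE V W hWV (a ^ n * m) = 0) : ∃ n : ℕ, a ^ n * m = 0 := by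
  apply exists_pow_mul_eq_zero_of_res_basicOpen_eq_zero_of_isAffineOpen X hV m a
  show X.presheaf.map (homOfLE (X.basicOpen_le a)).op m = 0
  apply h
  intro i
  refine TopCat.Sheaf.eq_of_locally_eq' (Z i).sheaf
    (fun W : {W : (Z i).Opens // IsAffineOpen W ∧ W ≤ (f i) ⁻¹ᵁ (X.basicOpen a)} => W.1)
    ((f i) ⁻¹ᵁ (X.basicOpen a)) (fun W => homOfLE W.2.2) ?_ _ 0 (fun W => ?_)
  · intro z hz
    obtain ⟨W, hW, hzW, hWle⟩ := exists_isAffineOpen_mem_and_subset (x := z)
      (U := (f i) ⁻¹ᵁ (X.basicOpen a)) hz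
    exact Opens.mem_iSup.mpr ⟨⟨W, hW, hWle⟩, hzW⟩
  · obtain ⟨W, hW, hWD⟩ := W
    have hWV : W ≤ (f i) ⁻¹ᵁ V := hWD.trans (fun x hx => X.basicOpen_le a hx)
    have h0 : X.presheaf.map (homOfLE (X.basicOpen_le a)).op ≫ (f i).appLE (X.basicOpen a) W hWD =
        (f i).appLE V W hWV := Scheme.Hom.map_appLE (f i) hWD (homOfLE (X.basicOpen_le a)).op
    have h1 : (Z i).presheaf.map (homOfLE hWD).op
        ((f i).app (X.basicOpen a) (X.presheaf.map (homOfLE (X.basicOpen_le a)).op m)) =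
        (f i).appLE V W hWV m := by
      rw [← h0]
      rfl
    show (Z i).presheaf.map (homOfLE hWD).op
        ((f i).app (X.basicOpen a) (X.presheaf.map (homOfLE (X.basicOpen_le a)).op m)) =
      (Z i).presheaf.map (homOfLE hWD).op 0
    rw [h1, map_zero]
    obtain ⟨n, hn⟩ := hm i W hW hWV
    rw [map_mul, map_pow] at hn
    have hunit : IsUnit ((f i).appLE V W hWV a) := by
      rw [← h0]
      exact (RingedSpace.isUnit_res_basicOpen X.toRingedSpace a).map
        ((f i).appLE (X.basicOpen a) W hWD).hom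
    exact (hunit.pow n).mul_right_eq_zero.mp hn

/-- **EGA IV 11.10.5**. -/
theorem schDominant_pullback_of_flat_lfp {X X' : Scheme.{u}} {ι : Type u} (Z : ι → Scheme.{u})
    (f : ∀ i, Z i ⟶ X) (g : X' ⟶ X) [Flat g] [LocallyOfFinitePresentation g]
    (h : ∀ (V : X.Opens) (t : Γ(X, V)), (∀ i, (f i).app V t = 0) → t = 0)
    (V' : X'.Opens) (t : Γ(X', V')) (ht : ∀ i, (pullback.snd (f i) g).app V' t = 0) : t = 0 := by
  refine TopCat.Sheaf.eq_of_locally_eq' X'.sheaf
    (fun W : {W : X'.Opens // IsAffineOpen W ∧ W ≤ V' ∧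
      ∃ V : X.Opens, IsAffineOpen V ∧ W ≤ g ⁻¹ᵁ V} => W.1) V'
    (fun W => homOfLE W.2.2.1) ?_ t 0 (fun W => ?_)
  · intro x hx
    obtain ⟨V, hV, hgxV, -⟩ := exists_isAffineOpen_mem_and_subset (x := g x) (U := ⊤) trivial
    obtain ⟨W, hW, hxW, hWle⟩ := exists_isAffineOpen_mem_and_subset (x := x)
      (U := V' ⊓ g ⁻¹ᵁ V) ⟨hx, hgxV⟩
    exact Opens.mem_iSup.mpr ⟨⟨W, hW, hWle.trans inf_le_left, V, hV, hWle.trans inf_le_right⟩, hxW⟩
  · obtain ⟨U, hU, hUV', V, hV, hUV⟩ := W
    show X'.presheaf.map (homOfLE hUV').op t = X'.presheaf.map (homOfLE hUV').op 0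
    rw [map_zero]
    letI := (g.appLE V U hUV).hom.toAlgebra
    haveI : Module.Flat Γ(X, V) Γ(X', U) := g.flat_appLE hV hU hUV
    haveI : Algebra.FinitePresentation Γ(X, V) Γ(X', U) := g.finitePresentation_appLE hV hU hUV
    let J := Σ i : ι, {W : (Z i).Opens // IsAffineOpen W ∧ W ≤ (f i) ⁻¹ᵁ V}
    letI : ∀ j : J, Algebra Γ(X, V) Γ(Z j.1, j.2.1) :=
      fun j => ((f j.1).appLE V j.2.1 j.2.2.2).hom.toAlgebra
    refine eq_zero_of_tmul_one_eq_zero (A := Γ(X, V)) (B := Γ(X', U))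
      (fun j : J => Γ(Z j.1, j.2.1)) ?_ _ (fun j => ?_)
    · intro a m hm
      exact locSep_family Z f h hV a m (fun i W hW hWV => hm ⟨i, W, hW, hWV⟩)
    · exact tmul_one_eq_zero (f j.1) g hV j.2.2.1 j.2.2.2 hU hUV hUV' t (ht j.1)

end Groth.Agent.Lib.LeadSepF
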