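import Mathlib
import Groth.Agent.Lib.LeadSepF6
import Groth.Agent.Lib.LeadSepF10

/-!
# Separating families and base change, part 11 (lead)

EGA IV 11.10.6: a schematically dominant family of morphisms `Z i ⟶ X` over a field `k` stays
schematically dominant after an arbitrary base change `S' ⟶ Spec k`.
-/

set_option autoImplicit false
set_option maxHeartbeats 400000
set_option linter.style.haveILetI false
set_option linter.unusedSectionVars false
set_option linter.unusedVariables false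

universe u
open CategoryTheory CategoryTheory.Limits AlgebraicGeometry TopologicalSpace Opposite TensorProduct
open Groth.Agent.Lib.T2H3.SepFG Groth.Agent.Lib.T2H3.SepFGSch

namespace Groth.Agent.Lib.LeadSepF

/-- the commutative square `Spec (Γ(U) ⊗_{Γ(V)} Γ(W)) ⇉ X`. -/
theorem spec_tensor_comm {X X' Z : Scheme.{u}} (f : Z ⟶ X) (g : X' ⟶ X)
    {V : X.Opens} (hV : IsAffineOpen V) {W : Z.Opens} (hW : IsAffineOpen W) (hWV : W ≤ f ⁻¹ᵁ V)
    {U : X'.Opens} (hU : IsAffineOpen U) (hUV : U ≤ g ⁻¹ᵁ V) :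
    letI := (g.appLE V U hUV).hom.toAlgebra
    letI := (f.appLE V W hWV).hom.toAlgebra
    (Spec.map (CommRingCat.ofHom
        (Algebra.TensorProduct.includeRight (R := Γ(X, V)) (A := Γ(X', U)) (B := Γ(Z, W))).toRingHom) ≫
      hW.fromSpec) ≫ f =
    (Spec.map (CommRingCat.ofHom
        (Algebra.TensorProduct.includeLeftRingHom (R := Γ(X, V)) (A := Γ(X', U)) (B := Γ(Z, W)))) ≫
      hU.fromSpec) ≫ g := by
  letI algB := (g.appLE V U hUV).hom.toAlgebra
  letI algC := (f.appLE V W hWV).hom.toAlgebra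
  have hcomm : g.appLE V U hUV ≫ (CommRingCat.ofHom
      (Algebra.TensorProduct.includeLeftRingHom (R := Γ(X, V)) (A := Γ(X', U)) (B := Γ(Z, W)))) =
      f.appLE V W hWV ≫ (CommRingCat.ofHom
        (Algebra.TensorProduct.includeRight (R := Γ(X, V)) (A := Γ(X', U))
          (B := Γ(Z, W))).toRingHom) := by
    ext a
    show (algebraMap Γ(X, V) Γ(X', U) a) ⊗ₜ[Γ(X, V)] (1 : Γ(Z, W)) =
      (1 : Γ(X', U)) ⊗ₜ[Γ(X, V)] (algebraMap Γ(X, V) Γ(Z, W) a)
    rw [Algebra.algebraMap_eq_smul_one, Algebra.algebraMap_eq_smul_one, TensorProduct.smul_tmul]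
  rw [Category.assoc, Category.assoc, ← IsAffineOpen.SpecMap_appLE_fromSpec f hV hW hWV,
    ← IsAffineOpen.SpecMap_appLE_fromSpec g hV hU hUV, ← Spec.map_comp_assoc,
    ← Spec.map_comp_assoc, hcomm]

/-- the key vanishing for `Z ×_k S' ⟶ X ×_k S'`. -/
theorem tmul_one_eq_zero_map {B₀ X S' Z : Scheme.{u}} (p : X ⟶ B₀) (q : S' ⟶ B₀) (f : Z ⟶ X)
    {V : X.Opens} (hV : IsAffineOpen V) {W : Z.Opens} (hW : IsAffineOpen W) (hWV : W ≤ f ⁻¹ᵁ V)
    {U : (pullback p q).Opens} (hU : IsAffineOpen U) (hUV : U ≤ (pullback.fst p q) ⁻¹ᵁ V)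
    {V' : (pullback p q).Opens} (hUV' : U ≤ V')
    (t : Γ(pullback p q, V'))
    (ht : (pullback.map (f ≫ p) q p q f (𝟙 S') (𝟙 _) (Category.comp_id _)
      ((Category.comp_id _).trans (Category.id_comp _).symm)).app V' t = 0) :
    letI := ((pullback.fst p q).appLE V U hUV).hom.toAlgebra
    letI := (f.appLE V W hWV).hom.toAlgebra
    ((pullback p q).presheaf.map (homOfLE hUV').op t) ⊗ₜ[Γ(X, V)] (1 : Γ(Z, W)) = 0 := by
  letI algB := ((pullback.fst p q).appLE V U hUV).hom.toAlgebra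
  letI algC := (f.appLE V W hWV).hom.toAlgebra
  let R : CommRingCat.{u} := CommRingCat.of (Γ(pullback p q, U) ⊗[Γ(X, V)] Γ(Z, W))
  let ιB : Γ(pullback p q, U) ⟶ R := CommRingCat.ofHom Algebra.TensorProduct.includeLeftRingHom
  let ιC : Γ(Z, W) ⟶ R := CommRingCat.ofHom
    (Algebra.TensorProduct.includeRight (R := Γ(X, V)) (A := Γ(pullback p q, U))
      (B := Γ(Z, W))).toRingHom
  have hsq : (Spec.map ιC ≫ hW.fromSpec) ≫ f = (Spec.map ιB ≫ hU.fromSpec) ≫ pullback.fst p q :=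
    spec_tensor_comm f (pullback.fst p q) hV hW hWV hU hUV
  let κ : Spec R ⟶ pullback (f ≫ p) q :=
    pullback.lift (Spec.map ιC ≫ hW.fromSpec) ((Spec.map ιB ≫ hU.fromSpec) ≫ pullback.snd p q) (by
      rw [← Category.assoc, hsq, Category.assoc, Category.assoc, Category.assoc, Category.assoc,
        pullback.condition])
  have hκ : κ ≫ pullback.map (f ≫ p) q p q f (𝟙 S') (𝟙 _) (Category.comp_id _)
      ((Category.comp_id _).trans (Category.id_comp _).symm) = Spec.map ιB ≫ hU.fromSpec := by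
    apply pullback.hom_ext
    · rw [Category.assoc, pullback.lift_fst, ← Category.assoc, pullback.lift_fst, hsq]
    · rw [Category.assoc, pullback.lift_snd, Category.comp_id, pullback.lift_snd]
  have e : (⊤ : (Spec R).Opens) ≤ (Spec.map ιB ≫ hU.fromSpec) ⁻¹ᵁ V' := by
    intro y _
    have : hU.fromSpec ((Spec.map ιB) y) ∈ Set.range hU.fromSpec := ⟨_, rfl⟩
    rw [hU.range_fromSpec] at this
    exact hUV' this
  have h1 := appLE_eq_zero_of_factor κ _ _ hκ t ht ⊤ e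
  rw [appLE_SpecMap_fromSpec hU ιB hUV' e t] at h1
  have h2 : ιB ((pullback p q).presheaf.map (homOfLE hUV').op t) = 0 := by
    have hinj : Function.Injective (Scheme.ΓSpecIso R).inv :=
      ((ConcreteCategory.isIso_iff_bijective _).mp inferInstance).1
    exact hinj (h1.trans (map_zero _).symm)
  exact h2

/-- a section vanishing locally vanishes. -/
theorem eq_zero_of_locally {Y : Scheme.{u}} {V' : Y.Opens} (t : Γ(Y, V'))
    (H : ∀ x ∈ V', ∃ (U : Y.Opens) (hU : U ≤ V'), x ∈ U ∧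
      Y.presheaf.map (homOfLE hU).op t = 0) : t = 0 := by
  refine TopCat.Sheaf.eq_of_locally_eq' Y.sheaf
    (fun W : {W : Y.Opens // ∃ hW : W ≤ V', Y.presheaf.map (homOfLE hW).op t = 0} => W.1) V'
    (fun W => homOfLE W.2.1) ?_ t 0 (fun W => ?_)
  · intro x hx
    obtain ⟨U, hU, hxU, h0⟩ := H x hx
    exact Opens.mem_iSup.mpr ⟨⟨U, hU, h0⟩, hxU⟩
  · obtain ⟨U, hU, h0⟩ := W
    show Y.presheaf.map (homOfLE hU).op t = Y.presheaf.map (homOfLE hU).op 0
    rw [h0, map_zero]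

/-- ring-level form for families of algebras, localized version. -/
theorem eq_zero_of_tmul_one_eq_zero_of_phi {R P L : Type u} [CommRing R] [CommRing P] [CommRing L]
    [Algebra R P] [Algebra P L] [Algebra R L] [IsScalarTower R P L] (s : P)
    [IsLocalization.Away s L] {J : Type u} (C : J → Type u) [∀ j, CommRing (C j)]
    [∀ j, Algebra R (C j)]
    (hΦ : Phi (fun j => Algebra.linearMap R (C j)) P s)
    (b : L) (hb : ∀ j, b ⊗ₜ[R] (1 : C j) = 0) : b = 0 := by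
  have h2 := injective_of_phi (L := L) (fun j => Algebra.linearMap R (C j)) s hΦ
    (b ⊗ₜ[R] (1 : R)) (fun j => by
      rw [LinearMap.lTensor_tmul, Algebra.linearMap_apply, map_one]
      exact hb j)
  have h3 := congrArg (TensorProduct.rid R L) h2
  rwa [TensorProduct.rid_tmul, one_smul, map_zero] at h3

/-- `LocSep` for a family of algebras in multiplicative form. -/
theorem locSep_algebra_family {R : Type u} [CommRing R] {J : Type u} (C : J → Type u)
    [∀ j, CommRing (C j)] [∀ j, Algebra R (C j)]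
    (H : ∀ (a m : R), (∀ j, ∃ n : ℕ, algebraMap R (C j) (a ^ n * m) = 0) → ∃ n : ℕ, a ^ n * m = 0) :
    LocSep R (fun j => Algebra.linearMap R (C j)) := by
  intro a m hm
  have h1 : ∀ j, ∃ n : ℕ, algebraMap R (C j) (a ^ n * m) = 0 := by
    intro j
    obtain ⟨n, hn⟩ := hm j
    refine ⟨n, ?_⟩
    rw [map_mul, ← Algebra.smul_def]
    exact hn
  obtain ⟨n, hn⟩ := H a m h1
  exact ⟨n, by rw [smul_eq_mul]; exact hn⟩

/-- **EGA IV 11.10.6**. -/
theorem schDominant_baseChange_over_field {k : Type u} [Field k] {X S' : Scheme.{u}}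
    (p : X ⟶ Spec (CommRingCat.of k)) (q : S' ⟶ Spec (CommRingCat.of k))
    {ι : Type u} (Z : ι → Scheme.{u}) (f : ∀ i, Z i ⟶ X)
    (h : ∀ (V : X.Opens) (t : Γ(X, V)), (∀ i, (f i).app V t = 0) → t = 0)
    (V' : (pullback p q).Opens) (t : Γ(pullback p q, V'))
    (ht : ∀ i, (pullback.map (f i ≫ p) q p q (f i) (𝟙 S') (𝟙 _) (Category.comp_id _)
      ((Category.comp_id _).trans (Category.id_comp _).symm)).app V' t = 0) : t = 0 := by
  refine eq_zero_of_locally t (fun x hx => ?_)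
  obtain ⟨V, hV, hxV, -⟩ := exists_isAffineOpen_mem_and_subset
    (x := (pullback.fst p q) x) (U := ⊤) trivial
  obtain ⟨T, hT, hxT, -⟩ := exists_isAffineOpen_mem_and_subset
    (x := (pullback.snd p q) x) (U := ⊤) trivial
  have hc := IsPullback.of_hasPullback p q
  have eT : T ≤ q ⁻¹ᵁ ⊤ := le_top
  have eV : V ≤ p ⁻¹ᵁ ⊤ := le_top
  have hW : IsAffineOpen ((pullback.fst p q) ⁻¹ᵁ V ⊓ (pullback.snd p q) ⁻¹ᵁ T) :=
    Groth.Agent.Lib.Helper2.PullbackSec.isAffineOpen_inf_preimage hc eT eV (isAffineOpen_top _) hT hV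
  obtain ⟨s, hsV', hxs⟩ := hW.exists_basicOpen_le (V := V') ⟨x, hx⟩ ⟨hxV, hxT⟩
  refine ⟨(pullback p q).basicOpen s, hsV', hxs, ?_⟩
  have e1 : (pullback.fst p q) ⁻¹ᵁ V ⊓ (pullback.snd p q) ⁻¹ᵁ T ≤ (pullback.fst p q) ⁻¹ᵁ V :=
    inf_le_left
  have e2 : (pullback.fst p q) ⁻¹ᵁ V ⊓ (pullback.snd p q) ⁻¹ᵁ T ≤ (pullback.snd p q) ⁻¹ᵁ T :=
    inf_le_right
  have hUV : (pullback p q).basicOpen s ≤ (pullback.fst p q) ⁻¹ᵁ V :=
    ((pullback p q).basicOpen_le s).trans e1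
  letI aAB : Algebra Γ(Spec (CommRingCat.of k), ⊤) Γ(X, V) := (p.appLE ⊤ V eV).hom.toAlgebra
  letI aAA' : Algebra Γ(Spec (CommRingCat.of k), ⊤) Γ(S', T) := (q.appLE ⊤ T eT).hom.toAlgebra
  letI aBB' : Algebra Γ(X, V)
      Γ(pullback p q, (pullback.fst p q) ⁻¹ᵁ V ⊓ (pullback.snd p q) ⁻¹ᵁ T) :=
    ((pullback.fst p q).appLE V _ e1).hom.toAlgebra
  letI aA'B' : Algebra Γ(S', T)
      Γ(pullback p q, (pullback.fst p q) ⁻¹ᵁ V ⊓ (pullback.snd p q) ⁻¹ᵁ T) :=
    ((pullback.snd p q).appLE T _ e2).hom.toAlgebra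
  letI aAB' : Algebra Γ(Spec (CommRingCat.of k), ⊤)
      Γ(pullback p q, (pullback.fst p q) ⁻¹ᵁ V ⊓ (pullback.snd p q) ⁻¹ᵁ T) :=
    (((pullback.fst p q).appLE V _ e1).hom.comp (p.appLE ⊤ V eV).hom).toAlgebra
  haveI tABB' : IsScalarTower Γ(Spec (CommRingCat.of k), ⊤) Γ(X, V)
      Γ(pullback p q, (pullback.fst p q) ⁻¹ᵁ V ⊓ (pullback.snd p q) ⁻¹ᵁ T) :=
    IsScalarTower.of_algebraMap_eq (fun a => rfl)
  haveI tAA'B' : IsScalarTower Γ(Spec (CommRingCat.of k), ⊤) Γ(S', T)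
      Γ(pullback p q, (pullback.fst p q) ⁻¹ᵁ V ⊓ (pullback.snd p q) ⁻¹ᵁ T) := by
    refine IsScalarTower.of_algebraMap_eq (fun a => ?_)
    change ((pullback.fst p q).appLE V _ e1).hom ((p.appLE ⊤ V eV).hom a) =
      ((pullback.snd p q).appLE T _ e2).hom ((q.appLE ⊤ T eT).hom a)
    have h1 := Scheme.Hom.appLE_comp_appLE (pullback.fst p q) p ⊤ V _ eV e1
    have h2 := Scheme.Hom.appLE_comp_appLE (pullback.snd p q) q ⊤ T _ eT e2
    have h3 : (p.appLE ⊤ V eV ≫ (pullback.fst p q).appLE V _ e1) =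
        (q.appLE ⊤ T eT ≫ (pullback.snd p q).appLE T _ e2) := by
      rw [h1, h2]
      congr 1
      exact hc.w
    exact congrArg (fun φ => φ.hom a) h3
  haveI hPO : Algebra.IsPushout Γ(Spec (CommRingCat.of k), ⊤) Γ(S', T) Γ(X, V)
      Γ(pullback p q, (pullback.fst p q) ⁻¹ᵁ V ⊓ (pullback.snd p q) ⁻¹ᵁ T) :=
    Groth.Agent.Lib.Helper2.PullbackSec.algebra_isPushout hc eT eV (isAffineOpen_top _) hT hV e1 e2
  -- the family of algebras
  let J := Σ i : ι, {W : (Z i).Opens // IsAffineOpen W ∧ W ≤ (f i) ⁻¹ᵁ V}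
  letI aC : ∀ j : J, Algebra Γ(X, V) Γ(Z j.1, j.2.1) :=
    fun j => ((f j.1).appLE V j.2.1 j.2.2.2).hom.toAlgebra
  letI modC : ∀ j : J, Module Γ(Spec (CommRingCat.of k), ⊤) Γ(Z j.1, j.2.1) := fun j =>
    Module.compHom Γ(Z j.1, j.2.1) (algebraMap Γ(Spec (CommRingCat.of k), ⊤) Γ(X, V))
  haveI tC : ∀ j : J, IsScalarTower Γ(Spec (CommRingCat.of k), ⊤) Γ(X, V) Γ(Z j.1, j.2.1) := by
    intro j
    refine ⟨fun a b y => ?_⟩
    change (algebraMap Γ(Spec (CommRingCat.of k), ⊤) Γ(X, V) a * b) • y =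
      algebraMap Γ(Spec (CommRingCat.of k), ⊤) Γ(X, V) a • (b • y)
    rw [mul_smul]
  have hsep : LocSep Γ(X, V) (fun j : J => Algebra.linearMap Γ(X, V) Γ(Z j.1, j.2.1)) :=
    locSep_algebra_family (fun j : J => Γ(Z j.1, j.2.1)) (fun a m hm =>
      locSep_family Z f h hV a m (fun i W hW hWV => hm ⟨i, W, hW, hWV⟩))
  have hΦ : Phi (fun j : J => Algebra.linearMap Γ(X, V) Γ(Z j.1, j.2.1))
      Γ(pullback p q, (pullback.fst p q) ⁻¹ᵁ V ⊓ (pullback.snd p q) ⁻¹ᵁ T) s :=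
    phi_of_locSep_of_isField (A := Γ(Spec (CommRingCat.of k), ⊤)) (A' := Γ(S', T))
      (isField_ΓSpec k) (fun j : J => Algebra.linearMap Γ(X, V) Γ(Z j.1, j.2.1)) hsep
      Γ(pullback p q, (pullback.fst p q) ⁻¹ᵁ V ⊓ (pullback.snd p q) ⁻¹ᵁ T) s
  letI aBL : Algebra Γ(X, V) Γ(pullback p q, (pullback p q).basicOpen s) :=
    ((pullback.fst p q).appLE V ((pullback p q).basicOpen s) hUV).hom.toAlgebra
  haveI := isScalarTower_basicOpen (pullback.fst p q) e1 s
  haveI : IsLocalization.Away s Γ(pullback p q, (pullback p q).basicOpen s) :=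
    hW.isLocalization_basicOpen s
  refine eq_zero_of_tmul_one_eq_zero_of_phi (R := Γ(X, V))
    (P := Γ(pullback p q, (pullback.fst p q) ⁻¹ᵁ V ⊓ (pullback.snd p q) ⁻¹ᵁ T))
    (L := Γ(pullback p q, (pullback p q).basicOpen s)) s
    (fun j : J => Γ(Z j.1, j.2.1)) hΦ _ (fun j => ?_)
  exact tmul_one_eq_zero_map p q (f j.1) hV j.2.2.1 j.2.2.2 (hW.basicOpen s) hUV hsV' t (ht j.1)

end Groth.Agent.Lib.LeadSepF
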