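import Mathlib
import Groth.Agent.Lib.LeadFib6
import Groth.Agent.Lib.LeadSepF11

/-!
# Fibrewise criterion for separating families, part 7 (lead)

Scheme-level tools: the pushout of sections over `fst ⁻¹ V ⊓ snd ⁻¹ T'` in a fibre product, and the
universal fibre condition for a family over `Γ(X, V)` from `Phi` over the fibres `X_s`.
-/

set_option autoImplicit false
set_option maxHeartbeats 800000
set_option linter.style.haveILetI false
set_option linter.unusedSectionVars false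
set_option linter.unusedVariables false

universe u
open CategoryTheory CategoryTheory.Limits AlgebraicGeometry TopologicalSpace Opposite TensorProduct
open Groth.Agent.Lib.T2H3.SepFG Groth.Agent.Lib.LeadSepF

namespace Groth.Agent.Lib.LeadFib

/-- sections over `fst ⁻¹ V ⊓ snd ⁻¹ T'` as a pushout. -/
theorem sections_pushout {X S S' : Scheme.{u}} (p : X ⟶ S) (g : S' ⟶ S) {T : S.Opens}
    {T' : S'.Opens} {V : X.Opens} (hT : IsAffineOpen T) (hT' : IsAffineOpen T')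
    (hV : IsAffineOpen V) (eT : T' ≤ g ⁻¹ᵁ T) (eV : V ≤ p ⁻¹ᵁ T) :
    letI : Algebra Γ(S, T) Γ(X, V) := (p.appLE T V eV).hom.toAlgebra
    letI : Algebra Γ(S, T) Γ(S', T') := (g.appLE T T' eT).hom.toAlgebra
    letI : Algebra Γ(X, V)
        Γ(pullback p g, (pullback.fst p g) ⁻¹ᵁ V ⊓ (pullback.snd p g) ⁻¹ᵁ T') :=
      ((pullback.fst p g).appLE V _ inf_le_left).hom.toAlgebra
    letI : Algebra Γ(S', T')
        Γ(pullback p g, (pullback.fst p g) ⁻¹ᵁ V ⊓ (pullback.snd p g) ⁻¹ᵁ T') :=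
      ((pullback.snd p g).appLE T' _ inf_le_right).hom.toAlgebra
    letI : Algebra Γ(S, T)
        Γ(pullback p g, (pullback.fst p g) ⁻¹ᵁ V ⊓ (pullback.snd p g) ⁻¹ᵁ T') :=
      (((pullback.fst p g).appLE V _ inf_le_left).hom.comp (p.appLE T V eV).hom).toAlgebra
    ∃ (_ : IsScalarTower Γ(S, T) Γ(X, V)
        Γ(pullback p g, (pullback.fst p g) ⁻¹ᵁ V ⊓ (pullback.snd p g) ⁻¹ᵁ T'))
      (_ : IsScalarTower Γ(S, T) Γ(S', T')
        Γ(pullback p g, (pullback.fst p g) ⁻¹ᵁ V ⊓ (pullback.snd p g) ⁻¹ᵁ T')),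
      Algebra.IsPushout Γ(S, T) Γ(S', T') Γ(X, V)
        Γ(pullback p g, (pullback.fst p g) ⁻¹ᵁ V ⊓ (pullback.snd p g) ⁻¹ᵁ T') := by
  have hc := IsPullback.of_hasPullback p g
  have e1 : (pullback.fst p g) ⁻¹ᵁ V ⊓ (pullback.snd p g) ⁻¹ᵁ T' ≤ (pullback.fst p g) ⁻¹ᵁ V :=
    inf_le_left
  have e2 : (pullback.fst p g) ⁻¹ᵁ V ⊓ (pullback.snd p g) ⁻¹ᵁ T' ≤ (pullback.snd p g) ⁻¹ᵁ T' :=
    inf_le_right
  letI aAB : Algebra Γ(S, T) Γ(X, V) := (p.appLE T V eV).hom.toAlgebra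
  letI aAA' : Algebra Γ(S, T) Γ(S', T') := (g.appLE T T' eT).hom.toAlgebra
  letI aBB' : Algebra Γ(X, V)
      Γ(pullback p g, (pullback.fst p g) ⁻¹ᵁ V ⊓ (pullback.snd p g) ⁻¹ᵁ T') :=
    ((pullback.fst p g).appLE V _ e1).hom.toAlgebra
  letI aA'B' : Algebra Γ(S', T')
      Γ(pullback p g, (pullback.fst p g) ⁻¹ᵁ V ⊓ (pullback.snd p g) ⁻¹ᵁ T') :=
    ((pullback.snd p g).appLE T' _ e2).hom.toAlgebra
  letI aAB' : Algebra Γ(S, T)
      Γ(pullback p g, (pullback.fst p g) ⁻¹ᵁ V ⊓ (pullback.snd p g) ⁻¹ᵁ T') :=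
    (((pullback.fst p g).appLE V _ e1).hom.comp (p.appLE T V eV).hom).toAlgebra
  have tABB' : IsScalarTower Γ(S, T) Γ(X, V)
      Γ(pullback p g, (pullback.fst p g) ⁻¹ᵁ V ⊓ (pullback.snd p g) ⁻¹ᵁ T') :=
    IsScalarTower.of_algebraMap_eq (fun a => rfl)
  have tAA'B' : IsScalarTower Γ(S, T) Γ(S', T')
      Γ(pullback p g, (pullback.fst p g) ⁻¹ᵁ V ⊓ (pullback.snd p g) ⁻¹ᵁ T') := by
    refine IsScalarTower.of_algebraMap_eq (fun a => ?_)
    change ((pullback.fst p g).appLE V _ e1).hom ((p.appLE T V eV).hom a) =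
      ((pullback.snd p g).appLE T' _ e2).hom ((g.appLE T T' eT).hom a)
    have h1 := Scheme.Hom.appLE_comp_appLE (pullback.fst p g) p T V _ eV e1
    have h2 := Scheme.Hom.appLE_comp_appLE (pullback.snd p g) g T T' _ eT e2
    have h3 : (p.appLE T V eV ≫ (pullback.fst p g).appLE V _ e1) =
        (g.appLE T T' eT ≫ (pullback.snd p g).appLE T' _ e2) := by
      rw [h1, h2]
      congr 1
      exact hc.w
    exact congrArg (fun φ => φ.hom a) h3
  haveI := tABB'
  haveI := tAA'B'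
  exact ⟨tABB', tAA'B',
    Groth.Agent.Lib.Helper2.PullbackSec.algebra_isPushout hc eT eV hT hT' hV e1 e2⟩

/-- equal morphisms have equal `appLE`. -/
theorem appLE_congr_hom {Y S : Scheme.{u}} {h₁ h₂ : Y ⟶ S} (e : h₁ = h₂) (T : S.Opens)
    (O : Y.Opens) (e₁ : O ≤ h₁ ⁻¹ᵁ T) (e₂ : O ≤ h₂ ⁻¹ᵁ T) :
    h₁.appLE T O e₁ = h₂.appLE T O e₂ := by
  subst e
  rfl

/-- the residue field at the image of the closed point of `Spec K → Spec Γ(S, T) → S`
maps to `K` compatibly with `Γ(S, T)`. -/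
theorem exists_residueField_hom {S : Scheme.{u}} {T : S.Opens} (hT : IsAffineOpen T) (K : Type u)
    [Field K] (φ : Γ(S, T) ⟶ CommRingCat.of K) :
    ∃ (s : S) (hs : s ∈ T) (ψ : S.residueField s ⟶ CommRingCat.of K),
      ∀ a : Γ(S, T), ψ ((Scheme.ΓSpecIso (S.residueField s)).hom
        ((S.fromSpecResidueField s).appLE T ⊤ (fun y _ => by
          show (S.fromSpecResidueField s) y ∈ T
          rw [Scheme.fromSpecResidueField_apply]; exact hs) a)) = φ a := by
  let f : Spec (CommRingCat.of K) ⟶ S := Spec.map φ ≫ hT.fromSpec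
  have hs : f (IsLocalRing.closedPoint K) ∈ T := by
    have : hT.fromSpec ((Spec.map φ) (IsLocalRing.closedPoint K)) ∈ Set.range hT.fromSpec :=
      ⟨_, rfl⟩
    rw [hT.range_fromSpec] at this
    exact this
  refine ⟨f (IsLocalRing.closedPoint K), hs,
    Scheme.descResidueField (Scheme.stalkClosedPointTo f), fun a => ?_⟩
  have hψ := Scheme.descResidueField_stalkClosedPointTo_fromSpecResidueField K S f
  set ψ := Scheme.descResidueField (Scheme.stalkClosedPointTo f) with hψdef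
  set q := S.fromSpecResidueField (f (IsLocalRing.closedPoint K)) with hq
  have eT' : (⊤ : (Spec (S.residueField (f (IsLocalRing.closedPoint K)))).Opens) ≤ q ⁻¹ᵁ T := by
    intro y _
    show q y ∈ T
    rw [hq, Scheme.fromSpecResidueField_apply]
    exact hs
  have e0 : (⊤ : (Spec (CommRingCat.of K)).Opens) ≤ (Spec.map ψ ≫ q) ⁻¹ᵁ T := by
    intro y _
    exact @eT' ((Spec.map ψ) y) trivial
  have e0' : (⊤ : (Spec (CommRingCat.of K)).Opens) ≤ (Spec.map φ ≫ hT.fromSpec) ⁻¹ᵁ T := by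
    intro y _
    have : hT.fromSpec ((Spec.map φ) y) ∈ Set.range hT.fromSpec := ⟨_, rfl⟩
    rw [hT.range_fromSpec] at this
    exact this
  have h1 : (Spec.map ψ ≫ q).appLE T ⊤ e0 = (Spec.map φ ≫ hT.fromSpec).appLE T ⊤ e0' :=
    appLE_congr_hom hψ T ⊤ e0 e0'
  have e2 : (⊤ : (Spec (CommRingCat.of K)).Opens) ≤ (Spec.map ψ) ⁻¹ᵁ ⊤ := fun _ _ => trivial
  have h2 : (Spec.map ψ ≫ q).appLE T ⊤ e0 = q.appLE T ⊤ eT' ≫ (Spec.map ψ).appLE ⊤ ⊤ e2 :=
    (Scheme.Hom.appLE_comp_appLE (Spec.map ψ) q T ⊤ ⊤ eT' e2).symm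
  have h3 : (Spec.map ψ).appLE ⊤ ⊤ e2 = (Spec.map ψ).appTop := by
    have h5 : (Spec.map ψ).appLE ⊤ ((Spec.map ψ) ⁻¹ᵁ ⊤) le_rfl = (Spec.map ψ).app ⊤ :=
      Scheme.Hom.appLE_eq_app _
    exact h5
  have h4 := appLE_SpecMap_fromSpec hT φ (le_refl T) e0' a
  have h5 : S.presheaf.map (homOfLE (le_refl T)).op a = a := by
    have : (homOfLE (le_refl T)).op = 𝟙 (op T) := Subsingleton.elim _ _
    rw [this, CategoryTheory.Functor.map_id]
    rfl
  rw [h5, ← h1, h2, h3] at h4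
  have h6 : (Spec.map ψ).appTop (q.appLE T ⊤ eT' a) =
      (Scheme.ΓSpecIso (CommRingCat.of K)).inv (φ a) := h4
  have h7 := congrArg (fun k => k.hom (q.appLE T ⊤ eT' a)) (Scheme.ΓSpecIso_naturality ψ)
  have h8 : (Scheme.ΓSpecIso (CommRingCat.of K)).hom ((Spec.map ψ).appTop (q.appLE T ⊤ eT' a)) =
      ψ ((Scheme.ΓSpecIso (S.residueField (f (IsLocalRing.closedPoint K)))).hom
        (q.appLE T ⊤ eT' a)) := h7
  rw [← h8, h6]
  exact congrArg (fun k => k.hom (φ a)) (Scheme.ΓSpecIso (CommRingCat.of K)).inv_hom_id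

/-- the affine open `fst ⁻¹ V` of the fibre `X_s`. -/
noncomputable abbrev fibreOpen {X S : Scheme.{u}} (p : X ⟶ S) (s : S) (V : X.Opens) :
    (pullback p (S.fromSpecResidueField s)).Opens :=
  (pullback.fst p (S.fromSpecResidueField s)) ⁻¹ᵁ V ⊓
    (pullback.snd p (S.fromSpecResidueField s)) ⁻¹ᵁ ⊤

/-- **the universal fibre condition from the fibres `X_s`**: a family of `Γ(X, V)`-linear maps
satisfying `Phi` over the affine open `fst ⁻¹ V` of every fibre `X_s`, `s ∈ T`, satisfies the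
universal fibre condition over `Γ(S, T)`. -/
theorem ufc_sections {X S : Scheme.{u}} (p : X ⟶ S) {T : S.Opens} (hT : IsAffineOpen T)
    {V : X.Opens} (hV : IsAffineOpen V) (eV : V ≤ p ⁻¹ᵁ T)
    {M : Type u} [AddCommGroup M] [Module Γ(X, V) M] {ι : Type u} {N : ι → Type u}
    [∀ i, AddCommGroup (N i)] [∀ i, Module Γ(X, V) (N i)] (u : ∀ i, M →ₗ[Γ(X, V)] N i)
    (H : ∀ s : S, s ∈ T → ∀ a : Γ(pullback p (S.fromSpecResidueField s), fibreOpen p s V),
      letI : Algebra Γ(X, V) Γ(pullback p (S.fromSpecResidueField s), fibreOpen p s V) :=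
        ((pullback.fst p (S.fromSpecResidueField s)).appLE V (fibreOpen p s V)
          inf_le_left).hom.toAlgebra
      Phi u Γ(pullback p (S.fromSpecResidueField s), fibreOpen p s V) a) :
    letI := (p.appLE T V eV).hom.toAlgebra
    UFC Γ(S, T) u := by
  letI aAR : Algebra Γ(S, T) Γ(X, V) := (p.appLE T V eV).hom.toAlgebra
  refine ufc_of_fibres u (fun K _ _ => ?_)
  obtain ⟨s, hs, ψ, hψ⟩ := exists_residueField_hom hT K
    (CommRingCat.ofHom (algebraMap Γ(S, T) K))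
  have eT' : (⊤ : (Spec (S.residueField s)).Opens) ≤ (S.fromSpecResidueField s) ⁻¹ᵁ T := by
    intro y _
    show (S.fromSpecResidueField s) y ∈ T
    rw [Scheme.fromSpecResidueField_apply]
    exact hs
  obtain ⟨t1, t2, hpo⟩ := sections_pushout p (S.fromSpecResidueField s) hT
    (isAffineOpen_top (Spec (S.residueField s))) hV eT' eV
  letI aAK' : Algebra Γ(S, T) Γ(Spec (S.residueField s), ⊤) :=
    ((S.fromSpecResidueField s).appLE T ⊤ eT').hom.toAlgebra
  letI aK'K : Algebra Γ(Spec (S.residueField s), ⊤) K :=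
    (ψ.hom.comp (Scheme.ΓSpecIso (S.residueField s)).hom.hom).toAlgebra
  have tow : IsScalarTower Γ(S, T) Γ(Spec (S.residueField s), ⊤) K :=
    .of_algebraMap_eq fun a => (hψ a).symm
  have hfield : IsField Γ(Spec (S.residueField s), ⊤) :=
    MulEquiv.isField (Field.toIsField (S.residueField s))
      (Scheme.ΓSpecIso (S.residueField s)).commRingCatIsoToRingEquiv.toMulEquiv
  exact ⟨Γ(Spec (S.residueField s), ⊤), inferInstance, aAK', aK'K, tow,
    Γ(pullback p (S.fromSpecResidueField s),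
      (pullback.fst p (S.fromSpecResidueField s)) ⁻¹ᵁ V ⊓
        (pullback.snd p (S.fromSpecResidueField s)) ⁻¹ᵁ ⊤), inferInstance,
    (((pullback.fst p (S.fromSpecResidueField s)).appLE V _ inf_le_left).hom.comp
      (p.appLE T V eV).hom).toAlgebra,
    ((pullback.snd p (S.fromSpecResidueField s)).appLE ⊤ _ inf_le_right).hom.toAlgebra,
    ((pullback.fst p (S.fromSpecResidueField s)).appLE V _ inf_le_left).hom.toAlgebra,
    t2, t1, hpo, hfield, H s hs⟩

end Groth.Agent.Lib.LeadFib
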