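import Mathlib
import Groth.Agent.Lib.LeadFib7

/-!
# Fibrewise criterion for schematically dominant families, part 9 (lead)

From schematic dominance of the base-changed family `Z i ×_S S'' ⟶ X ×_S S''` to the ring-level
condition `Phi` for the family of algebras `Γ(X, V) → Γ(Z i, W)` over an affine open `O` of
`X ×_S S''` lying over `V`.
-/

set_option autoImplicit false
set_option maxHeartbeats 800000
set_option linter.style.haveILetI false
set_option linter.unusedSectionVars false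
set_option linter.unusedVariables false

universe u
open CategoryTheory CategoryTheory.Limits AlgebraicGeometry TopologicalSpace Opposite TensorProduct
open Groth.Agent.Lib.T2H3.SepFG Groth.Agent.Lib.LeadSepF

namespace Groth.Agent.Lib.LeadFib

/-- the base change of `f : Z ⟶ X` along `q`. -/
noncomputable abbrev bcMap {X S S'' Z : Scheme.{u}} (p : X ⟶ S) (q : S'' ⟶ S) (f : Z ⟶ X) :
    pullback (f ≫ p) q ⟶ pullback p q :=
  pullback.map (f ≫ p) q p q f (𝟙 S'') (𝟙 S) (Category.comp_id _)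
    ((Category.comp_id _).trans (Category.id_comp _).symm)

theorem bcMap_fst {X S S'' Z : Scheme.{u}} (p : X ⟶ S) (q : S'' ⟶ S) (f : Z ⟶ X) :
    bcMap p q f ≫ pullback.fst p q = pullback.fst (f ≫ p) q ≫ f :=
  pullback.lift_fst _ _ _

/-- the key local vanishing: if `a ^ n • (m ⊗ 1) = 0` in `Γ(X'', O) ⊗ Γ(Z, W)` then the pullback
of `m` vanishes on the part of `bcMap ⁻¹ D(a)` lying over `W`. -/
theorem appLE_eq_zero_of_tmul {X S S'' Z : Scheme.{u}} (p : X ⟶ S) (q : S'' ⟶ S) (f : Z ⟶ X)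
    {V : X.Opens} {W : Z.Opens} (hWV : W ≤ f ⁻¹ᵁ V)
    {O : (pullback p q).Opens} (hOV : O ≤ (pullback.fst p q) ⁻¹ᵁ V)
    (a m : Γ(pullback p q, O)) (Y : (pullback (f ≫ p) q).Opens)
    (hY₁ : Y ≤ (bcMap p q f) ⁻¹ᵁ ((pullback p q).basicOpen a))
    (hY₂ : Y ≤ (pullback.fst (f ≫ p) q) ⁻¹ᵁ W)
    (hm : letI : Algebra Γ(X, V) Γ(pullback p q, O) :=
        ((pullback.fst p q).appLE V O hOV).hom.toAlgebra
      letI : Algebra Γ(X, V) Γ(Z, W) := (f.appLE V W hWV).hom.toAlgebra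
      ∃ n : ℕ, (a ^ n * m) ⊗ₜ[Γ(X, V)] (1 : Γ(Z, W)) = 0) :
    (bcMap p q f).appLE O Y
      (hY₁.trans (fun x hx => (pullback p q).basicOpen_le a hx)) m = 0 := by
  letI algP : Algebra Γ(X, V) Γ(pullback p q, O) :=
    ((pullback.fst p q).appLE V O hOV).hom.toAlgebra
  letI algC : Algebra Γ(X, V) Γ(Z, W) := (f.appLE V W hWV).hom.toAlgebra
  have hYO : Y ≤ (bcMap p q f) ⁻¹ᵁ O :=
    hY₁.trans (fun x hx => (pullback p q).basicOpen_le a hx)
  -- the two maps to `Γ(Z'', Y)` agree on `Γ(X, V)`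
  have e1 : Y ≤ (bcMap p q f ≫ pullback.fst p q) ⁻¹ᵁ V := fun x hx => hOV (hYO hx)
  have e2 : Y ≤ (pullback.fst (f ≫ p) q ≫ f) ⁻¹ᵁ V := fun x hx => hWV (hY₂ hx)
  have hcomm : (pullback.fst p q).appLE V O hOV ≫ (bcMap p q f).appLE O Y hYO =
      f.appLE V W hWV ≫ (pullback.fst (f ≫ p) q).appLE W Y hY₂ := by
    rw [Scheme.Hom.appLE_comp_appLE, Scheme.Hom.appLE_comp_appLE]
    exact appLE_congr_hom (bcMap_fst p q f) V Y e1 e2
  letI algD : Algebra Γ(X, V) Γ(pullback (f ≫ p) q, Y) :=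
    ((pullback.fst p q).appLE V O hOV ≫ (bcMap p q f).appLE O Y hYO).hom.toAlgebra
  let α : Γ(pullback p q, O) →ₐ[Γ(X, V)] Γ(pullback (f ≫ p) q, Y) :=
    { ((bcMap p q f).appLE O Y hYO).hom with
      commutes' := fun r => rfl }
  let β : Γ(Z, W) →ₐ[Γ(X, V)] Γ(pullback (f ≫ p) q, Y) :=
    { ((pullback.fst (f ≫ p) q).appLE W Y hY₂).hom with
      commutes' := fun r => (congrArg (fun k => k.hom r) hcomm).symm }
  obtain ⟨n, hn⟩ := hm
  have h1 := congrArg (Algebra.TensorProduct.productMap α β) hn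
  rw [Algebra.TensorProduct.productMap_left_apply, map_zero] at h1
  have h2 : ((bcMap p q f).appLE O Y hYO).hom (a ^ n * m) = 0 := h1
  rw [map_mul, map_pow] at h2
  have hunit : IsUnit (((bcMap p q f).appLE O Y hYO).hom a) := by
    have h0 : (pullback p q).presheaf.map (homOfLE ((pullback p q).basicOpen_le a)).op ≫
        (bcMap p q f).appLE ((pullback p q).basicOpen a) Y hY₁ =
        (bcMap p q f).appLE O Y hYO :=
      Scheme.Hom.map_appLE (bcMap p q f) hY₁ (homOfLE ((pullback p q).basicOpen_le a)).op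
    rw [← h0]
    exact (RingedSpace.isUnit_res_basicOpen (pullback p q).toRingedSpace a).map
      ((bcMap p q f).appLE ((pullback p q).basicOpen a) Y hY₁).hom
  exact (hunit.pow n).mul_right_eq_zero.mp h2

/-- **bridging lemma**: schematic dominance of the base-changed family gives `Phi` for the family of
algebras `Γ(X, V) → Γ(Z i, W)` over affine opens of `X ×_S S''`. -/
theorem phi_of_schDominant_bc {X S S'' : Scheme.{u}} (p : X ⟶ S) (q : S'' ⟶ S) {ι : Type u}
    (Z : ι → Scheme.{u}) (f : ∀ i, Z i ⟶ X)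
    (h : ∀ (V'' : (pullback p q).Opens) (t : Γ(pullback p q, V'')),
      (∀ i, (bcMap p q (f i)).app V'' t = 0) → t = 0)
    {V : X.Opens} (hV : IsAffineOpen V) {O : (pullback p q).Opens} (hO : IsAffineOpen O)
    (hOV : O ≤ (pullback.fst p q) ⁻¹ᵁ V) (a : Γ(pullback p q, O)) :
    letI : Algebra Γ(X, V) Γ(pullback p q, O) :=
      ((pullback.fst p q).appLE V O hOV).hom.toAlgebra
    letI : ∀ j : (Σ i : ι, {W : (Z i).Opens // IsAffineOpen W ∧ W ≤ (f i) ⁻¹ᵁ V}),
        Algebra Γ(X, V) Γ(Z j.1, j.2.1) :=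
      fun j => ((f j.1).appLE V j.2.1 j.2.2.2).hom.toAlgebra
    Phi (fun j : (Σ i : ι, {W : (Z i).Opens // IsAffineOpen W ∧ W ≤ (f i) ⁻¹ᵁ V}) =>
      Algebra.linearMap Γ(X, V) Γ(Z j.1, j.2.1)) Γ(pullback p q, O) a := by
  letI algP : Algebra Γ(X, V) Γ(pullback p q, O) :=
    ((pullback.fst p q).appLE V O hOV).hom.toAlgebra
  letI algC : ∀ j : (Σ i : ι, {W : (Z i).Opens // IsAffineOpen W ∧ W ≤ (f i) ⁻¹ᵁ V}),
      Algebra Γ(X, V) Γ(Z j.1, j.2.1) :=
    fun j => ((f j.1).appLE V j.2.1 j.2.2.2).hom.toAlgebra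
  intro z hz
  set m := TensorProduct.rid Γ(X, V) Γ(pullback p q, O) z with hm
  have hzm : z = m ⊗ₜ[Γ(X, V)] (1 : Γ(X, V)) := by
    rw [hm, ← TensorProduct.rid_symm_apply, LinearEquiv.symm_apply_apply]
  have key : ∃ n : ℕ, a ^ n * m = 0 := by
    apply exists_pow_mul_eq_zero_of_res_basicOpen_eq_zero_of_isAffineOpen (pullback p q) hO m a
    show (pullback p q).presheaf.map (homOfLE ((pullback p q).basicOpen_le a)).op m = 0
    apply h
    intro i
    refine eq_zero_of_locally _ (fun y hy => ?_)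
    have hyV : (f i) ((pullback.fst (f i ≫ p) q) y) ∈ V := by
      have h1 : (bcMap p q (f i) ≫ pullback.fst p q) y = (pullback.fst (f i ≫ p) q ≫ f i) y := by
        rw [bcMap_fst]
      have h2 : (pullback.fst p q) ((bcMap p q (f i)) y) ∈ V :=
        hOV ((pullback p q).basicOpen_le a hy)
      exact h1 ▸ h2
    obtain ⟨W, hW, hyW, hWV⟩ := exists_isAffineOpen_mem_and_subset
      (x := (pullback.fst (f i ≫ p) q) y) (U := (f i) ⁻¹ᵁ V) hyV
    have hY₁ : (bcMap p q (f i)) ⁻¹ᵁ ((pullback p q).basicOpen a) ⊓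
        (pullback.fst (f i ≫ p) q) ⁻¹ᵁ W ≤
        (bcMap p q (f i)) ⁻¹ᵁ ((pullback p q).basicOpen a) := inf_le_left
    refine ⟨(bcMap p q (f i)) ⁻¹ᵁ ((pullback p q).basicOpen a) ⊓
      (pullback.fst (f i ≫ p) q) ⁻¹ᵁ W, hY₁, ⟨hy, hyW⟩, ?_⟩
    obtain ⟨n, hn⟩ := hz ⟨i, W, hW, hWV⟩
    letI algCW : Algebra Γ(X, V) Γ(Z i, W) := ((f i).appLE V W hWV).hom.toAlgebra
    have hn' : (a ^ n * m) ⊗ₜ[Γ(X, V)] (1 : Γ(Z i, W)) = 0 := by
      rw [hzm, LinearMap.lTensor_tmul, Algebra.linearMap_apply, map_one,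
        TensorProduct.smul_tmul', smul_eq_mul] at hn
      exact hn
    have h3 := appLE_eq_zero_of_tmul p q (f i) hWV hOV a m _ hY₁ inf_le_right ⟨n, hn'⟩
    have hYO : (bcMap p q (f i)) ⁻¹ᵁ ((pullback p q).basicOpen a) ⊓
        (pullback.fst (f i ≫ p) q) ⁻¹ᵁ W ≤ (bcMap p q (f i)) ⁻¹ᵁ O :=
      hY₁.trans (fun x hx => (pullback p q).basicOpen_le a hx)
    have h0 : (pullback p q).presheaf.map (homOfLE ((pullback p q).basicOpen_le a)).op ≫
        (bcMap p q (f i)).appLE ((pullback p q).basicOpen a) _ hY₁ =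
        (bcMap p q (f i)).appLE O _ hYO :=
      Scheme.Hom.map_appLE (bcMap p q (f i)) hY₁ (homOfLE ((pullback p q).basicOpen_le a)).op
    have h1 : (pullback (f i ≫ p) q).presheaf.map (homOfLE hY₁).op
        ((bcMap p q (f i)).app ((pullback p q).basicOpen a)
          ((pullback p q).presheaf.map (homOfLE ((pullback p q).basicOpen_le a)).op m)) =
        (bcMap p q (f i)).appLE O _ hYO m := by
      rw [← h0]
      rfl
    rw [h1]
    exact h3
  obtain ⟨n, hn⟩ := key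
  refine ⟨n, ?_⟩
  rw [hzm, TensorProduct.smul_tmul', smul_eq_mul, hn, TensorProduct.zero_tmul]

end Groth.Agent.Lib.LeadFib
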