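import Mathlib
import Groth.Agent.Lib.LeadFib9

/-!
# Fibrewise criterion for schematically dominant families, part 10 (lead)

EGA IV 11.10.9: `X` locally Noetherian over `S`, `f i : Z i ⟶ X` with every `Z i` flat over `S`; if the
family of fibres `(Z i)_s ⟶ X_s` is schematically dominant for every `s`, the family is universally
schematically dominant relative to `S`.
-/

set_option autoImplicit false
set_option maxHeartbeats 800000
set_option linter.style.haveILetI false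
set_option linter.unusedSectionVars false
set_option linter.unusedVariables false

universe u
open CategoryTheory CategoryTheory.Limits AlgebraicGeometry TopologicalSpace Opposite TensorProduct
open Groth.Agent.Lib.T2H3.SepFG Groth.Agent.Lib.T2H3.SepFGSch Groth.Agent.Lib.LeadSepF

namespace Groth.Agent.Lib.LeadFib

/-- the morphism of fibres of the prelude is the base change along `Spec κ(s) ⟶ S`. -/
theorem fiberMap_eq_bcMap {X S Z : Scheme.{u}} (f : Z ⟶ X) (p : X ⟶ S) (s : S) :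
    MoreMor.fiberMap f p s = bcMap p (S.fromSpecResidueField s) f := by
  apply pullback.hom_ext
  · exact (pullback.lift_fst _ _ _).trans (bcMap_fst p (S.fromSpecResidueField s) f).symm
  · have h1 : bcMap p (S.fromSpecResidueField s) f ≫ pullback.snd p (S.fromSpecResidueField s) =
        pullback.snd (f ≫ p) (S.fromSpecResidueField s) ≫ 𝟙 _ := pullback.lift_snd _ _ _
    exact (pullback.lift_snd _ _ _).trans (h1.trans (Category.comp_id _)).symm

/-- **EGA IV 11.10.9**, the nontrivial direction. -/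
theorem schDominant_of_fibres {X S : Scheme.{u}} [IsLocallyNoetherian X] (p : X ⟶ S) {ι : Type u}
    (Z : ι → Scheme.{u}) (f : ∀ i, Z i ⟶ X) [∀ i, Flat (f i ≫ p)]
    (hfib : ∀ s : S, ∀ (V : (pullback p (S.fromSpecResidueField s)).Opens)
      (t : Γ(pullback p (S.fromSpecResidueField s), V)),
      (∀ i, (bcMap p (S.fromSpecResidueField s) (f i)).app V t = 0) → t = 0)
    {S' : Scheme.{u}} (g : S' ⟶ S) (V' : (pullback p g).Opens) (t : Γ(pullback p g, V'))
    (ht : ∀ i, (bcMap p g (f i)).app V' t = 0) : t = 0 := by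
  refine eq_zero_of_locally t (fun x hx => ?_)
  obtain ⟨T, hT, hxT, -⟩ := exists_isAffineOpen_mem_and_subset
    (x := p ((pullback.fst p g) x)) (U := ⊤) trivial
  have hxT₂ : g ((pullback.snd p g) x) ∈ T := by
    have h1 : (pullback.fst p g ≫ p) x = (pullback.snd p g ≫ g) x := by
      rw [pullback.condition]
    exact h1 ▸ hxT
  obtain ⟨T', hT', hxT', eT⟩ := exists_isAffineOpen_mem_and_subset
    (x := (pullback.snd p g) x) (U := g ⁻¹ᵁ T) hxT₂
  obtain ⟨V, hV, hxV, eV⟩ := exists_isAffineOpen_mem_and_subset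
    (x := (pullback.fst p g) x) (U := p ⁻¹ᵁ T) hxT
  have hc := IsPullback.of_hasPullback p g
  have hW : IsAffineOpen ((pullback.fst p g) ⁻¹ᵁ V ⊓ (pullback.snd p g) ⁻¹ᵁ T') :=
    Groth.Agent.Lib.Helper2.PullbackSec.isAffineOpen_inf_preimage hc eT eV hT hT' hV
  obtain ⟨s, hsV', hxs⟩ := hW.exists_basicOpen_le (V := V') ⟨x, hx⟩ ⟨hxV, hxT'⟩
  refine ⟨(pullback p g).basicOpen s, hsV', hxs, ?_⟩
  have e1 : (pullback.fst p g) ⁻¹ᵁ V ⊓ (pullback.snd p g) ⁻¹ᵁ T' ≤ (pullback.fst p g) ⁻¹ᵁ V :=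
    inf_le_left
  have hUV : (pullback p g).basicOpen s ≤ (pullback.fst p g) ⁻¹ᵁ V :=
    ((pullback p g).basicOpen_le s).trans e1
  obtain ⟨t1, t2, hpo⟩ := sections_pushout p g hT hT' hV eT eV
  letI aAB : Algebra Γ(S, T) Γ(X, V) := (p.appLE T V eV).hom.toAlgebra
  letI aAA' : Algebra Γ(S, T) Γ(S', T') := (g.appLE T T' eT).hom.toAlgebra
  letI aBB' : Algebra Γ(X, V)
      Γ(pullback p g, (pullback.fst p g) ⁻¹ᵁ V ⊓ (pullback.snd p g) ⁻¹ᵁ T') :=
    ((pullback.fst p g).appLE V _ inf_le_left).hom.toAlgebra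
  letI aA'B' : Algebra Γ(S', T')
      Γ(pullback p g, (pullback.fst p g) ⁻¹ᵁ V ⊓ (pullback.snd p g) ⁻¹ᵁ T') :=
    ((pullback.snd p g).appLE T' _ inf_le_right).hom.toAlgebra
  letI aAB' : Algebra Γ(S, T)
      Γ(pullback p g, (pullback.fst p g) ⁻¹ᵁ V ⊓ (pullback.snd p g) ⁻¹ᵁ T') :=
    (((pullback.fst p g).appLE V _ inf_le_left).hom.comp (p.appLE T V eV).hom).toAlgebra
  haveI := t1
  haveI := t2
  haveI := hpo
  -- the family of algebras
  let J := Σ i : ι, {W : (Z i).Opens // IsAffineOpen W ∧ W ≤ (f i) ⁻¹ᵁ V}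
  letI aC : ∀ j : J, Algebra Γ(X, V) Γ(Z j.1, j.2.1) :=
    fun j => ((f j.1).appLE V j.2.1 j.2.2.2).hom.toAlgebra
  have eC : ∀ j : J, j.2.1 ≤ (f j.1 ≫ p) ⁻¹ᵁ T := fun j x hx => eV (j.2.2.2 hx)
  letI aAC : ∀ j : J, Algebra Γ(S, T) Γ(Z j.1, j.2.1) :=
    fun j => ((f j.1 ≫ p).appLE T j.2.1 (eC j)).hom.toAlgebra
  haveI tC : ∀ j : J, IsScalarTower Γ(S, T) Γ(X, V) Γ(Z j.1, j.2.1) := fun j =>
    .of_algebraMap_eq fun a => by
      show ((f j.1 ≫ p).appLE T j.2.1 (eC j)).hom a =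
        ((f j.1).appLE V j.2.1 j.2.2.2).hom ((p.appLE T V eV).hom a)
      exact (congrArg (fun k => k.hom a)
        (Scheme.Hom.appLE_comp_appLE (f j.1) p T V j.2.1 eV j.2.2.2)).symm
  haveI flC : ∀ j : J, Module.Flat Γ(S, T) Γ(Z j.1, j.2.1) := fun j =>
    (f j.1 ≫ p).flat_appLE hT j.2.2.1 (eC j)
  haveI : IsNoetherianRing Γ(X, V) := IsLocallyNoetherian.component_noetherian ⟨V, hV⟩
  have hU : UFC Γ(S, T) (fun j : J => Algebra.linearMap Γ(X, V) Γ(Z j.1, j.2.1)) := by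
    refine ufc_sections p hT hV eV (fun j : J => Algebra.linearMap Γ(X, V) Γ(Z j.1, j.2.1))
      (fun s hs a => ?_)
    have eT' : (⊤ : (Spec (S.residueField s)).Opens) ≤ (S.fromSpecResidueField s) ⁻¹ᵁ T := by
      intro y _
      show (S.fromSpecResidueField s) y ∈ T
      rw [Scheme.fromSpecResidueField_apply]
      exact hs
    have hWs : IsAffineOpen (fibreOpen p s V) :=
      Groth.Agent.Lib.Helper2.PullbackSec.isAffineOpen_inf_preimage
        (IsPullback.of_hasPullback p (S.fromSpecResidueField s)) eT' eV hT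
        (isAffineOpen_top (Spec (S.residueField s))) hV
    exact phi_of_schDominant_bc p (S.fromSpecResidueField s) Z f (hfib s) hV hWs inf_le_left a
  have hΦ : Phi (fun j : J => Algebra.linearMap Γ(X, V) Γ(Z j.1, j.2.1))
      Γ(pullback p g, (pullback.fst p g) ⁻¹ᵁ V ⊓ (pullback.snd p g) ⁻¹ᵁ T') s :=
    phi_of_ufc (A := Γ(S, T)) (fun j : J => Algebra.linearMap Γ(X, V) Γ(Z j.1, j.2.1)) hU
      (A' := Γ(S', T')) Γ(pullback p g, (pullback.fst p g) ⁻¹ᵁ V ⊓ (pullback.snd p g) ⁻¹ᵁ T') s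
  letI aBL : Algebra Γ(X, V) Γ(pullback p g, (pullback p g).basicOpen s) :=
    ((pullback.fst p g).appLE V ((pullback p g).basicOpen s) hUV).hom.toAlgebra
  haveI := isScalarTower_basicOpen (pullback.fst p g) e1 s
  haveI : IsLocalization.Away s Γ(pullback p g, (pullback p g).basicOpen s) :=
    hW.isLocalization_basicOpen s
  refine eq_zero_of_tmul_one_eq_zero_of_phi (R := Γ(X, V))
    (P := Γ(pullback p g, (pullback.fst p g) ⁻¹ᵁ V ⊓ (pullback.snd p g) ⁻¹ᵁ T'))
    (L := Γ(pullback p g, (pullback p g).basicOpen s)) s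
    (fun j : J => Γ(Z j.1, j.2.1)) hΦ _ (fun j => ?_)
  exact tmul_one_eq_zero_map p g (f j.1) hV j.2.2.1 j.2.2.2 (hW.basicOpen s) hUV hsV' t (ht j.1)

end Groth.Agent.Lib.LeadFib
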