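import Mathlib
import Groth.Agent.Lib.LeadFib7
import Groth.Agent.Lib.Helper23FinType2
import Groth.Agent.Lib.Helper2FlatOver2

/-!
# Fibrewise criterion for separating families, part 8 (lead)

EGA IV 11.9.16 (case `Z_λ = X`): `X` locally Noetherian, `F` coherent, `G i` quasi-coherent and
flat over `S`; if the family `u i : F ⟶ G i` is separating on every fibre `X_s`, it is universally
separating.
-/

set_option autoImplicit false
set_option maxHeartbeats 800000
set_option linter.style.haveILetI false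
set_option linter.unusedSectionVars false
set_option linter.unusedVariables false

universe u
open CategoryTheory CategoryTheory.Limits AlgebraicGeometry TopologicalSpace Opposite TensorProduct
open Groth.Agent.Helper18Strict Groth.Agent.Lib.T2H3.PullSec Groth.Agent.Lib.T2H3.SepFG
  Groth.Agent.Lib.T2H3.SepFGSch Groth.Agent.Lib.LeadSepF

namespace Groth.Agent.Lib.LeadFib

/-- **EGA IV 11.9.16** (case `Z_λ = X`), the nontrivial direction. -/
theorem separating_of_fibres {X S : Scheme.{u}} [IsLocallyNoetherian X] (p : X ⟶ S)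
    (F : X.Modules) [F.IsQuasicoherent] [SheafOfModules.IsFiniteType (R := X.ringCatSheaf) F]
    {ι : Type u} (G : ι → X.Modules) [∀ i, (G i).IsQuasicoherent]
    (hG : ∀ i, FlatMod.IsFlatOver p (G i)) (u : ∀ i, F ⟶ G i)
    (hfib : ∀ s : S, ∀ (V : (pullback p (S.fromSpecResidueField s)).Opens)
      (t : Γ((Scheme.Modules.pullback (pullback.fst p (S.fromSpecResidueField s))).obj F, V)),
      (∀ i, ((Scheme.Modules.pullback (pullback.fst p (S.fromSpecResidueField s))).map
        (u i)).app V t = 0) → t = 0)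
    {S' : Scheme.{u}} (g : S' ⟶ S) (V' : (pullback p g).Opens)
    (t : Γ((Scheme.Modules.pullback (pullback.fst p g)).obj F, V'))
    (ht : ∀ i, ((Scheme.Modules.pullback (pullback.fst p g)).map (u i)).app V' t = 0) : t = 0 := by
  refine pullback_separating_of_phi (pullback.fst p g) F G u (fun x => ?_) V' t ht
  obtain ⟨T, hT, hxT, -⟩ := exists_isAffineOpen_mem_and_subset
    (x := p ((pullback.fst p g) x)) (U := ⊤) trivial
  have hxT₂ : g ((pullback.snd p g) x) ∈ T := by
    have h1 : (pullback.fst p g ≫ p) x = (pullback.snd p g ≫ g) x := by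
      rw [pullback.condition]
    exact h1 ▸ hxT
  obtain ⟨T', hT', hxT', eT⟩ := exists_isAffineOpen_mem_and_subset
    (x := (pullback.snd p g) x) (U := g ⁻¹ᵁ T) hxT₂
  obtain ⟨V, hV, hxV, eV⟩ := exists_isAffineOpen_mem_and_subset
    (x := (pullback.fst p g) x) (U := p ⁻¹ᵁ T) hxT
  have hc := IsPullback.of_hasPullback p g
  have hW : IsAffineOpen ((pullback.fst p g) ⁻¹ᵁ V ⊓ (pullback.snd p g) ⁻¹ᵁ T') :=
    Groth.Agent.Lib.Helper2.PullbackSec.isAffineOpen_inf_preimage hc eT eV hT hT' hV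
  refine ⟨V, (pullback.fst p g) ⁻¹ᵁ V ⊓ (pullback.snd p g) ⁻¹ᵁ T', hV, hW, inf_le_left,
    ⟨hxV, hxT'⟩, fun s => ?_⟩
  obtain ⟨t1, t2, hpo⟩ := sections_pushout p g hT hT' hV eT eV
  letI aAB : Algebra Γ(S, T) Γ(X, V) := (p.appLE T V eV).hom.toAlgebra
  letI aAA' : Algebra Γ(S, T) Γ(S', T') := (g.appLE T T' eT).hom.toAlgebra
  letI aBB' : Algebra Γ(X, V)
      Γ(pullback p g, (pullback.fst p g) ⁻¹ᵁ V ⊓ (pullback.snd p g) ⁻¹ᵁ T') :=
    ((pullback.fst p g).appLE V _ inf_le_left).hom.toAlgebra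
  letI aA'B' : Algebra Γ(S', T')
      Γ(pullback p g, (pullback.fst p g) ⁻¹ᵁ V ⊓ (pullback.snd p g) ⁻¹ᵁ T') :=
    ((pullback.snd p g).appLE T' _ inf_le_right).hom.toAlgebra
  letI aAB' : Algebra Γ(S, T)
      Γ(pullback p g, (pullback.fst p g) ⁻¹ᵁ V ⊓ (pullback.snd p g) ⁻¹ᵁ T') :=
    (((pullback.fst p g).appLE V _ inf_le_left).hom.comp (p.appLE T V eV).hom).toAlgebra
  haveI := t1
  haveI := t2
  haveI := hpo
  letI modF : Module Γ(S, T) Γ(F, V) :=
    Module.compHom Γ(F, V) (algebraMap Γ(S, T) Γ(X, V))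
  haveI tF : IsScalarTower Γ(S, T) Γ(X, V) Γ(F, V) := by
    refine ⟨fun a b y => ?_⟩
    change (algebraMap Γ(S, T) Γ(X, V) a * b) • y = algebraMap Γ(S, T) Γ(X, V) a • (b • y)
    rw [mul_smul]
  letI modG : ∀ i, Module Γ(S, T) Γ(G i, V) := fun i =>
    Module.compHom Γ(G i, V) (algebraMap Γ(S, T) Γ(X, V))
  haveI tG : ∀ i, IsScalarTower Γ(S, T) Γ(X, V) Γ(G i, V) := by
    intro i
    refine ⟨fun a b y => ?_⟩
    change (algebraMap Γ(S, T) Γ(X, V) a * b) • y = algebraMap Γ(S, T) Γ(X, V) a • (b • y)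
    rw [mul_smul]
  haveI flG : ∀ i, Module.Flat Γ(S, T) Γ(G i, V) := fun i =>
    Groth.Agent.Lib.Helper2.FlatOver.flat_sections_of_isFlatOverAt p (G i) hV hT eV
      (fun x _ => hG i x)
  haveI : IsNoetherianRing Γ(X, V) := IsLocallyNoetherian.component_noetherian ⟨V, hV⟩
  haveI : Module.Finite Γ(X, V) Γ(F, V) :=
    Groth.Agent.Lib.Helper23.FinType.finite_of_isFiniteType F hV
  have hU : UFC Γ(S, T) (fun i => appₗ (u i) V) := by
    refine ufc_sections p hT hV eV (fun i => appₗ (u i) V) (fun s hs a => ?_)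
    have eT' : (⊤ : (Spec (S.residueField s)).Opens) ≤ (S.fromSpecResidueField s) ⁻¹ᵁ T := by
      intro y _
      show (S.fromSpecResidueField s) y ∈ T
      rw [Scheme.fromSpecResidueField_apply]
      exact hs
    have hWs : IsAffineOpen (fibreOpen p s V) :=
      Groth.Agent.Lib.Helper2.PullbackSec.isAffineOpen_inf_preimage
        (IsPullback.of_hasPullback p (S.fromSpecResidueField s)) eT' eV hT
        (isAffineOpen_top (Spec (S.residueField s))) hV
    exact phi_of_pullback_separating (pullback.fst p (S.fromSpecResidueField s)) F G u (hfib s) hV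
      hWs inf_le_left a
  exact phi_of_ufc (A := Γ(S, T)) (fun i => appₗ (u i) V) hU (A' := Γ(S', T'))
    Γ(pullback p g, (pullback.fst p g) ⁻¹ᵁ V ⊓ (pullback.snd p g) ⁻¹ᵁ T') s

end Groth.Agent.Lib.LeadFib
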