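import Mathlib
import Groth.Prelude.Def_FilD
import Groth.Agent.Lib.Helper21FilD

/-!
# Lead: strict monomorphisms of finite filtered objects and filtered injectives

Extension of morphisms into a filtered injective object along a strict monomorphism.
-/

set_option autoImplicit false
universe v u w

open CategoryTheory CategoryTheory.Limits Opposite

namespace Groth.Agent.Lib.LeadFilInj

open _root_.FilD Groth.Agent.Lib.Helper21.FilD

/-! ### Descending recursion on `ℤ` -/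

section DescSeq

variable {S : ℤ → Type w}

/-- Descending recursion: prescribed values on `[b, ∞)`, then a step function. -/
noncomputable def descSeq (b : ℤ) (s0 : ∀ p, b ≤ p → S p)
    (nxt : ∀ p, S (p + 1) → S p) (p : ℤ) : S p :=
  if h : b ≤ p then s0 p h else nxt p (descSeq b s0 nxt (p + 1))
termination_by (b - p).toNat
decreasing_by omega

theorem descSeq_of_le (b : ℤ) (s0 : ∀ p, b ≤ p → S p)
    (nxt : ∀ p, S (p + 1) → S p) (p : ℤ) (h : b ≤ p) : descSeq b s0 nxt p = s0 p h := by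
  rw [descSeq, dif_pos h]

theorem descSeq_of_not_le (b : ℤ) (s0 : ∀ p, b ≤ p → S p)
    (nxt : ∀ p, S (p + 1) → S p) (p : ℤ) (h : ¬ b ≤ p) :
    descSeq b s0 nxt p = nxt p (descSeq b s0 nxt (p + 1)) := by
  rw [descSeq, dif_neg h]

theorem exists_descSeq (R : ∀ p, S (p + 1) → S p → Prop) (b : ℤ) (s0 : ∀ p, b ≤ p → S p)
    (h0 : ∀ p (h : b ≤ p) (s : S (p + 1)), R p s (s0 p h))
    (hstep : ∀ p (s : S (p + 1)), ∃ t : S p, R p s t) :
    ∃ σ : ∀ p, S p, ∀ p, R p (σ (p + 1)) (σ p) := by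
  refine ⟨descSeq b s0 (fun p s => (hstep p s).choose), fun p => ?_⟩
  by_cases h : b ≤ p
  · rw [descSeq_of_le b s0 _ p h]
    exact h0 p h _
  · rw [descSeq_of_not_le b s0 _ p h]
    exact (hstep p _).choose_spec

end DescSeq

variable {A : Type u} [Category.{v} A] [Abelian A]

/-! ### Abstract extension lemmas in an abelian category -/

theorem comp_desc {T P Q R : A} (z : T ⟶ P ⊞ Q) (a : P ⟶ R) (b : Q ⟶ R) :
    z ≫ biprod.desc a b = (z ≫ biprod.fst) ≫ a + (z ≫ biprod.snd) ≫ b := by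
  rw [biprod.desc_eq, Preadditive.comp_add, Category.assoc, Category.assoc]

theorem ext_of_ker {P Q J : A} [Injective J] (φ : P ⟶ Q) (ψ : P ⟶ J)
    (h : kernel.ι φ ≫ ψ = 0) : ∃ g : Q ⟶ J, φ ≫ g = ψ := by
  refine ⟨Injective.factorThru (cokernel.desc (kernel.ι φ) ψ h) (Abelian.factorThruCoimage φ), ?_⟩
  calc φ ≫ Injective.factorThru (cokernel.desc (kernel.ι φ) ψ h) (Abelian.factorThruCoimage φ)
      = (Abelian.coimage.π φ ≫ Abelian.factorThruCoimage φ) ≫
          Injective.factorThru (cokernel.desc (kernel.ι φ) ψ h) (Abelian.factorThruCoimage φ) := by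
        rw [Abelian.coimage.fac]
    _ = Abelian.coimage.π φ ≫ (Abelian.factorThruCoimage φ ≫
          Injective.factorThru (cokernel.desc (kernel.ι φ) ψ h) (Abelian.factorThruCoimage φ)) :=
        Category.assoc _ _ _
    _ = Abelian.coimage.π φ ≫ cokernel.desc (kernel.ι φ) ψ h := by
        rw [Injective.comp_factorThru]
    _ = ψ := cokernel.π_desc _ _ _

theorem ker_aux {Xq Xp Yq Yp Iq Ip : A} (tX : Xq ⟶ Xp) (tY : Yq ⟶ Yp) (tI : Iq ⟶ Ip)
    (uq : Xq ⟶ Yq) (up : Xp ⟶ Yp) (fq : Xq ⟶ Iq) (fp : Xp ⟶ Ip)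
    (hu : tX ≫ up = uq ≫ tY) (hf : tX ≫ fp = fq ≫ tI) [Mono up]
    (hs : ∀ ⦃T : A⦄ (x : T ⟶ Xp) (y : T ⟶ Yq), x ≫ up = y ≫ tY →
      ∃ (T' : A) (π : T' ⟶ T) (_ : Epi π) (x' : T' ⟶ Xq), x' ≫ uq = π ≫ y)
    (gq : Yq ⟶ Iq) (hg : uq ≫ gq = fq) {T : A} (x : T ⟶ Xp) (y : T ⟶ Yq)
    (h : x ≫ up + y ≫ tY = 0) : x ≫ fp + y ≫ gq ≫ tI = 0 := by
  have h1 : x ≫ up = (-y) ≫ tY := by
    rw [Preadditive.neg_comp]
    exact eq_neg_of_add_eq_zero_left h
  obtain ⟨T', π, hπ, x', hx'⟩ := hs x (-y) h1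
  have h2 : π ≫ x = x' ≫ tX := by
    rw [← cancel_mono up]
    calc (π ≫ x) ≫ up = π ≫ (x ≫ up) := Category.assoc _ _ _
      _ = π ≫ ((-y) ≫ tY) := by rw [h1]
      _ = (π ≫ (-y)) ≫ tY := (Category.assoc _ _ _).symm
      _ = (x' ≫ uq) ≫ tY := by rw [hx']
      _ = x' ≫ (uq ≫ tY) := Category.assoc _ _ _
      _ = x' ≫ (tX ≫ up) := by rw [hu]
      _ = (x' ≫ tX) ≫ up := (Category.assoc _ _ _).symm
  have h3 : π ≫ y = -(x' ≫ uq) := by
    rw [hx', Preadditive.comp_neg, neg_neg]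
  rw [← cancel_epi π, comp_zero]
  calc π ≫ (x ≫ fp + y ≫ gq ≫ tI) = (π ≫ x) ≫ fp + (π ≫ y) ≫ gq ≫ tI := by
        rw [Preadditive.comp_add, Category.assoc, Category.assoc]
    _ = (x' ≫ tX) ≫ fp + (-(x' ≫ uq)) ≫ gq ≫ tI := by rw [h2, h3]
    _ = x' ≫ fq ≫ tI - x' ≫ (uq ≫ gq) ≫ tI := by
        rw [Category.assoc, hf, Preadditive.neg_comp, sub_eq_add_neg]
        simp only [Category.assoc]
    _ = 0 := by rw [hg, sub_self]

/-- The one-step extension. -/
theorem step_ext {Xq Xp Yq Yp Iq Ip : A} (tX : Xq ⟶ Xp) (tY : Yq ⟶ Yp) (tI : Iq ⟶ Ip)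
    (uq : Xq ⟶ Yq) (up : Xp ⟶ Yp) (fq : Xq ⟶ Iq) (fp : Xp ⟶ Ip)
    (hu : tX ≫ up = uq ≫ tY) (hf : tX ≫ fp = fq ≫ tI) [Mono up] [Injective Ip]
    (hs : ∀ ⦃T : A⦄ (x : T ⟶ Xp) (y : T ⟶ Yq), x ≫ up = y ≫ tY →
      ∃ (T' : A) (π : T' ⟶ T) (_ : Epi π) (x' : T' ⟶ Xq), x' ≫ uq = π ≫ y)
    (gq : Yq ⟶ Iq) (hg : uq ≫ gq = fq) :
    ∃ gp : Yp ⟶ Ip, up ≫ gp = fp ∧ tY ≫ gp = gq ≫ tI := by
  have hker : kernel.ι (biprod.desc up tY) ≫ biprod.desc fp (gq ≫ tI) = 0 := by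
    rw [comp_desc]
    exact ker_aux tX tY tI uq up fq fp hu hf hs gq hg _ _
      (by rw [← comp_desc]; exact kernel.condition _)
  obtain ⟨gp, hgp⟩ := ext_of_ker _ _ hker
  refine ⟨gp, ?_, ?_⟩
  · calc up ≫ gp = (biprod.inl ≫ biprod.desc up tY) ≫ gp := by rw [biprod.inl_desc]
      _ = biprod.inl ≫ (biprod.desc up tY ≫ gp) := Category.assoc _ _ _
      _ = biprod.inl ≫ biprod.desc fp (gq ≫ tI) := by rw [hgp]
      _ = fp := biprod.inl_desc _ _
  · calc tY ≫ gp = (biprod.inr ≫ biprod.desc up tY) ≫ gp := by rw [biprod.inr_desc]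
      _ = biprod.inr ≫ (biprod.desc up tY ≫ gp) := Category.assoc _ _ _
      _ = biprod.inr ≫ biprod.desc fp (gq ≫ tI) := by rw [hgp]
      _ = gq ≫ tI := biprod.inr_desc _ _

/-- Middle term of a short exact sequence with injective ends is injective. -/
theorem injective_of_ses {K M : A} (i : K ⟶ M) [Mono i] [Injective K] [Injective (cokernel i)] :
    Injective M := by
  refine ⟨fun {S T} h m _ => ?_⟩
  obtain ⟨s, hs⟩ := Injective.factors (𝟙 K) i
  have h0 : i ≫ (𝟙 M - s ≫ i) = 0 := by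
    rw [Preadditive.comp_sub, Category.comp_id, ← Category.assoc, hs, Category.id_comp, sub_self]
  obtain ⟨t, ht⟩ : ∃ t : cokernel i ⟶ M, cokernel.π i ≫ t = 𝟙 M - s ≫ i :=
    ⟨cokernel.desc i _ h0, cokernel.π_desc _ _ _⟩
  obtain ⟨e1, he1⟩ := Injective.factors (h ≫ s) m
  obtain ⟨e2, he2⟩ := Injective.factors (h ≫ cokernel.π i) m
  refine ⟨e1 ≫ i + e2 ≫ t, ?_⟩
  have : m ≫ (e1 ≫ i + e2 ≫ t) = (m ≫ e1) ≫ i + (m ≫ e2) ≫ t := by
    simp only [Preadditive.comp_add, Category.assoc]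
  rw [this, he1, he2]
  simp only [Category.assoc, ht, Preadditive.comp_sub, Category.comp_id]
  abel

theorem nat_of_step {F G : ℤᵒᵖ ⥤ A} (g : ∀ p : ℤ, F.obj (op p) ⟶ G.obj (op p))
    (hg : ∀ p : ℤ, tr F (Int.le_add_one le_rfl : p ≤ p + 1) ≫ g p =
      g (p + 1) ≫ tr G (Int.le_add_one le_rfl : p ≤ p + 1)) :
    ∀ (k : ℕ) (p q : ℤ) (h : p ≤ q), q = p + k → tr F h ≫ g p = g q ≫ tr G h := by
  intro k
  induction k with
  | zero =>
    intro p q h hq
    obtain rfl : q = p := by simpa using hq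
    rw [tr_refl, tr_refl, Category.id_comp, Category.comp_id]
  | succ k ih =>
    intro p q h hq
    have h1 : p + 1 ≤ q := by push_cast at hq; omega
    have hq' : q = p + 1 + k := by push_cast at hq; omega
    have hF : tr F h = tr F h1 ≫ tr F (Int.le_add_one le_rfl : p ≤ p + 1) :=
      (tr_tr F _ h1).symm
    have hG : tr G h = tr G h1 ≫ tr G (Int.le_add_one le_rfl : p ≤ p + 1) :=
      (tr_tr G _ h1).symm
    calc tr F h ≫ g p = (tr F h1 ≫ tr F (Int.le_add_one le_rfl : p ≤ p + 1)) ≫ g p := by rw [hF]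
      _ = tr F h1 ≫ (tr F (Int.le_add_one le_rfl : p ≤ p + 1) ≫ g p) := Category.assoc _ _ _
      _ = tr F h1 ≫ (g (p + 1) ≫ tr G (Int.le_add_one le_rfl : p ≤ p + 1)) := by rw [hg p]
      _ = (tr F h1 ≫ g (p + 1)) ≫ tr G (Int.le_add_one le_rfl : p ≤ p + 1) :=
        (Category.assoc _ _ _).symm
      _ = (g q ≫ tr G h1) ≫ tr G (Int.le_add_one le_rfl : p ≤ p + 1) := by
        rw [ih (p + 1) q h1 hq']
      _ = g q ≫ (tr G h1 ≫ tr G (Int.le_add_one le_rfl : p ≤ p + 1)) := Category.assoc _ _ _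
      _ = g q ≫ tr G h := by rw [hG]

/-! ### Monomorphisms of finite filtered objects are levelwise monomorphisms -/

section MonoApp

variable {X Y : FilF A} (u : X ⟶ Y)

/-- The levelwise kernel. -/
noncomputable def kerFun : ℤᵒᵖ ⥤ A where
  obj P := kernel (u.hom.app P)
  map {P Q} φ := kernel.map (u.hom.app P) (u.hom.app Q) (X.obj.map φ) (Y.obj.map φ)
    (u.hom.naturality φ).symm
  map_id P := by ext; simp
  map_comp φ ψ := by ext; simp

theorem kerFun_map_ι {P Q : ℤᵒᵖ} (φ : P ⟶ Q) :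
    (kerFun u).map φ ≫ kernel.ι (u.hom.app Q) = kernel.ι (u.hom.app P) ≫ X.obj.map φ :=
  kernel.lift_ι _ _ _

theorem kerFun_isFinFil : IsFinFil A (kerFun u) := by
  obtain ⟨hXm, ⟨b, hb⟩, ⟨a, ha⟩⟩ := X.property
  refine ⟨?_, ⟨b, ?_⟩, ⟨a, ?_⟩⟩
  · intro P Q φ
    have hm1 : Mono (X.obj.map φ) := hXm φ
    have hm2 : Mono (kernel.ι (u.hom.app P) ≫ X.obj.map φ) := mono_comp _ _
    have hm3 : Mono ((kerFun u).map φ ≫ kernel.ι (u.hom.app Q)) := by
      rw [kerFun_map_ι]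
      exact hm2
    exact @mono_of_mono _ _ _ _ _ ((kerFun u).map φ) (kernel.ι (u.hom.app Q)) hm3
  · intro p hp
    have hz : IsZero (kernel (u.hom.app (op p))) :=
      IsZero.of_mono (kernel.ι (u.hom.app (op p))) (hb p hp)
    exact hz
  · intro P Q φ hP
    have : IsIso (X.obj.map φ) := ha φ hP
    have : Mono (Y.obj.map φ) := Y.property.1 φ
    show IsIso (kernel.map (u.hom.app P) (u.hom.app Q) (X.obj.map φ) (Y.obj.map φ)
      (u.hom.naturality φ).symm)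
    infer_instance

theorem mono_app [Mono u] (P : ℤᵒᵖ) : Mono (u.hom.app P) := by
  let K : FilF A := ⟨kerFun u, kerFun_isFinFil u⟩
  let ι : K ⟶ X := ObjectProperty.homMk
    { app := fun P => kernel.ι (u.hom.app P)
      naturality := fun P Q φ => kerFun_map_ι u φ }
  have h0 : ι ≫ u = 0 := by
    apply ObjectProperty.hom_ext
    apply NatTrans.ext
    funext Q
    exact kernel.condition (u.hom.app Q)
  have h1 : ι = 0 := zero_of_comp_mono u h0
  have h2 : kernel.ι (u.hom.app P) = 0 := congrArg (fun t => t.hom.app P) h1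
  exact Preadditive.mono_of_kernel_zero h2

end MonoApp

/-! ### Levels of a filtered injective object are injective -/

theorem injective_level (I : FilF A) (hI : IsFilteredInjective I) (p : ℤ) :
    Injective (I.obj.obj (op p)) := by
  obtain ⟨b, hb⟩ := I.property.2.1
  refine int_desc_induction (P := fun p => Injective (I.obj.obj (op p))) b ?_ ?_ p
  · intro p hp
    exact ⟨fun g f _ => ⟨0, (hb p hp).eq_of_tgt _ _⟩⟩
  · intro p ih
    exact @injective_of_ses _ _ _ _ _ (I.obj.map (stepHom p)) (I.property.1 _) ih (hI p)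

/-! ### The extension theorem -/

theorem main {X Y I : FilF A} (u : X ⟶ Y) [Mono u] (hu : IsStrict u)
    (hI : IsFilteredInjective I) (f : X ⟶ I) : ∃ g : Y ⟶ I, u ≫ g = f := by
  obtain ⟨b, hb⟩ := I.property.2.1
  have hm : ∀ p : ℤ, Mono (u.hom.app (op p)) := fun p => mono_app u (op p)
  have hinj := injective_level I hI
  have hs := (isStrict_iff u).1 hu
  have hstep : ∀ (p : ℤ) (s : {g : Y.obj.obj (op (p + 1)) ⟶ I.obj.obj (op (p + 1)) //
      u.hom.app (op (p + 1)) ≫ g = f.hom.app (op (p + 1))}),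
      ∃ t : {g : Y.obj.obj (op p) ⟶ I.obj.obj (op p) // u.hom.app (op p) ≫ g = f.hom.app (op p)},
        tr Y.obj (Int.le_add_one le_rfl : p ≤ p + 1) ≫ t.1 =
          s.1 ≫ tr I.obj (Int.le_add_one le_rfl : p ≤ p + 1) := by
    intro p s
    have := hm p
    have := hinj p
    obtain ⟨gp, h1, h2⟩ := step_ext (tr X.obj (Int.le_add_one le_rfl : p ≤ p + 1))
      (tr Y.obj (Int.le_add_one le_rfl : p ≤ p + 1)) (tr I.obj (Int.le_add_one le_rfl : p ≤ p + 1))
      (u.hom.app (op (p + 1))) (u.hom.app (op p)) (f.hom.app (op (p + 1))) (f.hom.app (op p))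
      (tr_app u.hom _) (tr_app f.hom _) (fun T x y h => hs p (p + 1) _ x y h) s.1 s.2
    exact ⟨⟨gp, h1⟩, h2⟩
  obtain ⟨σ, hσ⟩ := exists_descSeq
    (S := fun p => {g : Y.obj.obj (op p) ⟶ I.obj.obj (op p) //
      u.hom.app (op p) ≫ g = f.hom.app (op p)})
    (fun p s t => tr Y.obj (Int.le_add_one le_rfl : p ≤ p + 1) ≫ t.1 =
          s.1 ≫ tr I.obj (Int.le_add_one le_rfl : p ≤ p + 1)) b
    (fun p hp => ⟨0, (hb p hp).eq_of_tgt _ _⟩)
    (fun p hp s => (hb p hp).eq_of_tgt _ _) hstep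
  have hnat := nat_of_step (F := Y.obj) (G := I.obj) (fun p => (σ p).1) hσ
  refine ⟨ObjectProperty.homMk
    { app := fun P => (σ P.unop).1
      naturality := ?_ }, ?_⟩
  · intro P Q φ
    obtain ⟨q⟩ := P
    obtain ⟨p⟩ := Q
    have h : p ≤ q := leOfHom φ.unop
    rw [tr_eq_map Y.obj h φ, tr_eq_map I.obj h φ]
    exact hnat (q - p).toNat p q h (by omega)
  · apply ObjectProperty.hom_ext
    apply NatTrans.ext
    funext P
    obtain ⟨p⟩ := P
    exact (σ p).2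

end Groth.Agent.Lib.LeadFilInj
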