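import Mathlib
import Groth.Prelude.Def_SpSeq

universe v u
open CategoryTheory CategoryTheory.Limits

namespace Groth.Agent.Lib.LeadFilPull

open SpSeq SpSeq.FilObj

section General
variable {A : Type u} [Category.{v} A] [Abelian A]

lemma factors_pullback_iff {X Y T : A} (f : X ⟶ Y) (y : Subobject Y) (h : T ⟶ X) :
    ((Subobject.pullback f).obj y).Factors h ↔ y.Factors (h ≫ f) := by
  constructor
  · intro hh
    have h1 : y.Factors ((((Subobject.pullback f).obj y).factorThru h hh ≫
        Subobject.pullbackπ f y) ≫ y.arrow) := Subobject.factors_comp_arrow _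
    have e2 : (((Subobject.pullback f).obj y).factorThru h hh ≫ Subobject.pullbackπ f y) ≫ y.arrow
        = h ≫ f := by
      rw [Category.assoc, (Subobject.isPullback f y).w, ← Category.assoc,
        Subobject.factorThru_arrow]
    rwa [e2] at h1
  · intro hh
    have w : y.factorThru (h ≫ f) hh ≫ y.arrow = h ≫ f := Subobject.factorThru_arrow _ _ hh
    have e2 : (Subobject.isPullback f y).lift (y.factorThru (h ≫ f) hh) h w ≫
        ((Subobject.pullback f).obj y).arrow = h := (Subobject.isPullback f y).lift_snd _ _ w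
    have h1 : ((Subobject.pullback f).obj y).Factors
        ((Subobject.isPullback f y).lift (y.factorThru (h ≫ f) hh) h w ≫
          ((Subobject.pullback f).obj y).arrow) := Subobject.factors_comp_arrow _
    rwa [e2] at h1

lemma le_iff_factors {X : A} (P Q : Subobject X) : P ≤ Q ↔ Q.Factors P.arrow :=
  ⟨fun h => Subobject.factors_of_le _ h P.factors_self, Subobject.le_of_factors⟩

lemma image_le_iff {X Y : A} (f : X ⟶ Y) (S : Subobject Y) :
    imageSubobject f ≤ S ↔ S.Factors f := by
  constructor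
  · intro h
    have h1 : S.Factors (factorThruImageSubobject f ≫ (imageSubobject f).arrow) :=
      Subobject.factors_of_le _ h (Subobject.factors_comp_arrow _)
    rwa [imageSubobject_arrow_comp] at h1
  · intro h
    exact imageSubobject_le f (S.factorThru f h) (Subobject.factorThru_arrow _ _ h)

lemma strict_base_change {P L M K : A} {a : P ⟶ L} {b : P ⟶ M} {φ : L ⟶ K} {ψ : M ⟶ K}
    (sq : IsPullback a b φ ψ) (F : Subobject L) (G : Subobject M) (H : Subobject K)
    (Q : Subobject P)
    (hQ : Q = (Subobject.pullback a).obj F ⊓ (Subobject.pullback b).obj G)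
    (hG : G ≤ (Subobject.pullback ψ).obj H)
    (hs : imageSubobject (F.arrow ≫ φ) = imageSubobject φ ⊓ H) :
    imageSubobject (Q.arrow ≫ b) = imageSubobject b ⊓ G := by
  apply le_antisymm
  · refine le_inf (imageSubobject_comp_le _ _) ?_
    rw [image_le_iff]
    have h1 : ((Subobject.pullback b).obj G).Factors Q.arrow := by
      rw [← le_iff_factors, hQ]; exact inf_le_right
    exact (factors_pullback_iff b G Q.arrow).mp h1
  · have hSb : (imageSubobject b).Factors (imageSubobject b ⊓ G).arrow :=
      (le_iff_factors _ _).mp inf_le_left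
    have hSG : G.Factors (imageSubobject b ⊓ G).arrow := (le_iff_factors _ _).mp inf_le_right
    obtain ⟨T', π, hπ, x, hx⟩ := surjective_up_to_refinements_of_epi (factorThruImageSubobject b)
      ((imageSubobject b).factorThru _ hSb)
    haveI := hπ
    have hx' : π ≫ (imageSubobject b ⊓ G).arrow = x ≫ b := by
      calc π ≫ (imageSubobject b ⊓ G).arrow
          = π ≫ ((imageSubobject b).factorThru _ hSb ≫ (imageSubobject b).arrow) := by
            rw [Subobject.factorThru_arrow]
        _ = (π ≫ (imageSubobject b).factorThru _ hSb) ≫ (imageSubobject b).arrow :=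
            (Category.assoc _ _ _).symm
        _ = (x ≫ factorThruImageSubobject b) ≫ (imageSubobject b).arrow := by rw [hx]
        _ = x ≫ b := by rw [Category.assoc, imageSubobject_arrow_comp]
    have hH : H.Factors ((imageSubobject b ⊓ G).arrow ≫ ψ) := by
      have h1 : ((Subobject.pullback ψ).obj H).Factors (imageSubobject b ⊓ G).arrow :=
        Subobject.factors_of_le _ hG hSG
      exact (factors_pullback_iff ψ H _).mp h1
    have e1 : (x ≫ a) ≫ φ = π ≫ ((imageSubobject b ⊓ G).arrow ≫ ψ) := by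
      rw [Category.assoc, sq.w, ← Category.assoc, ← hx', Category.assoc]
    have hF1 : (imageSubobject φ ⊓ H).Factors ((x ≫ a) ≫ φ) := by
      rw [Subobject.inf_factors]
      refine ⟨imageSubobject_factors_comp_self _ _, ?_⟩
      rw [e1]
      exact Subobject.factors_of_factors_right _ hH
    rw [← hs] at hF1
    obtain ⟨T'', π', hπ', l, hl⟩ := surjective_up_to_refinements_of_epi
      (factorThruImageSubobject (F.arrow ≫ φ))
      ((imageSubobject (F.arrow ≫ φ)).factorThru _ hF1)
    haveI := hπ'
    have hl' : π' ≫ (x ≫ a) ≫ φ = l ≫ F.arrow ≫ φ := by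
      calc π' ≫ (x ≫ a) ≫ φ
          = π' ≫ ((imageSubobject (F.arrow ≫ φ)).factorThru _ hF1 ≫
              (imageSubobject (F.arrow ≫ φ)).arrow) := by rw [Subobject.factorThru_arrow]
        _ = (π' ≫ (imageSubobject (F.arrow ≫ φ)).factorThru _ hF1) ≫
              (imageSubobject (F.arrow ≫ φ)).arrow := (Category.assoc _ _ _).symm
        _ = (l ≫ factorThruImageSubobject (F.arrow ≫ φ)) ≫
              (imageSubobject (F.arrow ≫ φ)).arrow := by rw [hl]
        _ = l ≫ F.arrow ≫ φ := by rw [Category.assoc, imageSubobject_arrow_comp]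
    have wy : (l ≫ F.arrow) ≫ φ = (π' ≫ π ≫ (imageSubobject b ⊓ G).arrow) ≫ ψ := by
      rw [Category.assoc, ← hl', e1]; simp only [Category.assoc]
    have hyQ : Q.Factors (sq.lift (l ≫ F.arrow) (π' ≫ π ≫ (imageSubobject b ⊓ G).arrow) wy) := by
      rw [hQ, Subobject.inf_factors, factors_pullback_iff, factors_pullback_iff, sq.lift_fst,
        sq.lift_snd]
      exact ⟨Subobject.factors_comp_arrow _,
        Subobject.factors_of_factors_right _ (Subobject.factors_of_factors_right _ hSG)⟩
    have hfac : (π' ≫ π) ≫ (imageSubobject b ⊓ G).arrow =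
        (Q.factorThru _ hyQ ≫ factorThruImageSubobject (Q.arrow ≫ b)) ≫
          (imageSubobject (Q.arrow ≫ b)).arrow := by
      rw [Category.assoc, Category.assoc, imageSubobject_arrow_comp,
        ← Category.assoc (Q.factorThru _ hyQ), Subobject.factorThru_arrow, sq.lift_snd]
    haveI : Epi (π' ≫ π) := epi_comp _ _
    have h0 : (imageSubobject b ⊓ G).arrow ≫ cokernel.π (imageSubobject (Q.arrow ≫ b)).arrow
        = 0 := by
      rw [← cancel_epi (π' ≫ π), comp_zero, ← Category.assoc, hfac, Category.assoc,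
        cokernel.condition, comp_zero]
    exact Subobject.le_of_comm (Abelian.monoLift _ _ h0) (Abelian.monoLift_comp _ _ h0)

end General

section Fil
variable {A : Type u} [Category.{v} A] [Abelian A] {K L M : FilObj A}

noncomputable def pb (f : L ⟶ K) (g : M ⟶ K) : FilObj A where
  obj := pullback f.hom g.hom
  fil p := (Subobject.pullback (pullback.fst f.hom g.hom)).obj (L.fil p) ⊓
    (Subobject.pullback (pullback.snd f.hom g.hom)).obj (M.fil p)
  anti := fun _ _ h => inf_le_inf ((Subobject.pullback _).monotone (L.anti h))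
    ((Subobject.pullback _).monotone (M.anti h))

noncomputable def pfst (f : L ⟶ K) (g : M ⟶ K) : pb f g ⟶ L :=
  FilObj.Hom.mk (pullback.fst f.hom g.hom) (fun _ => inf_le_left)

noncomputable def psnd (f : L ⟶ K) (g : M ⟶ K) : pb f g ⟶ M :=
  FilObj.Hom.mk (pullback.snd f.hom g.hom) (fun _ => inf_le_right)

lemma pb_condition (f : L ⟶ K) (g : M ⟶ K) : pfst f g ≫ f = psnd f g ≫ g :=
  FilObj.Hom.ext pullback.condition

lemma lift_compat (f : L ⟶ K) (g : M ⟶ K) {T : FilObj A} (a : T ⟶ L) (b : T ⟶ M)
    (w : a.hom ≫ f.hom = b.hom ≫ g.hom) (p : ℤ) :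
    T.fil p ≤ (Subobject.pullback (pullback.lift a.hom b.hom w)).obj ((pb f g).fil p) := by
  have h1 : (Subobject.pullback (pullback.lift a.hom b.hom w)).obj
      ((Subobject.pullback (pullback.fst f.hom g.hom)).obj (L.fil p)) =
      (Subobject.pullback a.hom).obj (L.fil p) := by
    rw [← Subobject.pullback_comp, pullback.lift_fst]
  have h2 : (Subobject.pullback (pullback.lift a.hom b.hom w)).obj
      ((Subobject.pullback (pullback.snd f.hom g.hom)).obj (M.fil p)) =
      (Subobject.pullback b.hom).obj (M.fil p) := by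
    rw [← Subobject.pullback_comp, pullback.lift_snd]
  show T.fil p ≤ (Subobject.pullback (pullback.lift a.hom b.hom w)).obj (_ ⊓ _)
  rw [Subobject.inf_pullback, h1, h2]
  exact le_inf (a.compat p) (b.compat p)

noncomputable def pbLift (f : L ⟶ K) (g : M ⟶ K) {T : FilObj A} (a : T ⟶ L) (b : T ⟶ M)
    (w : a ≫ f = b ≫ g) : T ⟶ pb f g :=
  FilObj.Hom.mk (pullback.lift a.hom b.hom (congrArg FilObj.Hom.hom w))
    (fun p => lift_compat f g a b _ p)

noncomputable def pbIsLimit (f : L ⟶ K) (g : M ⟶ K) :
    IsLimit (PullbackCone.mk (pfst f g) (psnd f g) (pb_condition f g)) :=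
  PullbackCone.IsLimit.mk (pb_condition f g)
    (fun s => pbLift f g s.fst s.snd s.condition)
    (fun _ => FilObj.Hom.ext (pullback.lift_fst _ _ _))
    (fun _ => FilObj.Hom.ext (pullback.lift_snd _ _ _))
    (fun _ _ h1 h2 => FilObj.Hom.ext (pullback.hom_ext
      ((congrArg FilObj.Hom.hom h1).trans (pullback.lift_fst _ _ _).symm)
      ((congrArg FilObj.Hom.hom h2).trans (pullback.lift_snd _ _ _).symm)))

lemma good_of_isPullback {P : FilObj A} {f : L ⟶ K} {g : M ⟶ K} {g' : P ⟶ L} {f' : P ⟶ M}
    (h : IsPullback g' f' f g) :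
    IsPullback g'.hom f'.hom f.hom g.hom ∧ ∀ p, P.fil p =
      (Subobject.pullback g'.hom).obj (L.fil p) ⊓ (Subobject.pullback f'.hom).obj (M.fil p) := by
  have h₀ : IsPullback (pfst f g) (psnd f g) f g := ⟨⟨pb_condition f g⟩, ⟨pbIsLimit f g⟩⟩
  obtain ⟨e, he⟩ : ∃ e : P ≅ pb f g, e = h.isoIsPullback _ _ h₀ := ⟨_, rfl⟩
  have e1 : e.hom ≫ pfst f g = g' := by rw [he]; exact h.isoIsPullback_hom_fst _ _ h₀
  have e2 : e.hom ≫ psnd f g = f' := by rw [he]; exact h.isoIsPullback_hom_snd _ _ h₀
  have e1' : e.hom.hom ≫ pullback.fst f.hom g.hom = g'.hom := congrArg FilObj.Hom.hom e1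
  have e2' : e.hom.hom ≫ pullback.snd f.hom g.hom = f'.hom := congrArg FilObj.Hom.hom e2
  have i1 : e.hom.hom ≫ e.inv.hom = 𝟙 P.obj := congrArg FilObj.Hom.hom e.hom_inv_id
  have i2 : e.inv.hom ≫ e.hom.hom = 𝟙 (pullback f.hom g.hom) :=
    congrArg FilObj.Hom.hom e.inv_hom_id
  constructor
  · exact IsPullback.of_iso_pullback ⟨congrArg FilObj.Hom.hom h.w⟩
      ⟨e.hom.hom, e.inv.hom, i1, i2⟩ e1' e2'
  · intro p
    apply le_antisymm
    · exact le_inf (g'.compat p) (f'.compat p)
    · have h3 := (Subobject.pullback e.hom.hom).monotone (e.inv.compat p)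
      rw [← Subobject.pullback_comp, i1, Subobject.pullback_id] at h3
      rw [← e1', ← e2', Subobject.pullback_comp, Subobject.pullback_comp,
        ← Subobject.inf_pullback]
      exact h3

theorem main (f : L ⟶ K) (g : M ⟶ K) :
    HasPullback f g ∧ ∀ (P : FilObj A) (g' : P ⟶ L) (f' : P ⟶ M), IsPullback g' f' f g →
      FilObj.IsStrict f → FilObj.IsStrict f' := by
  refine ⟨⟨⟨⟨_, pbIsLimit f g⟩⟩⟩, ?_⟩
  intro P g' f' h hs p
  obtain ⟨sq, hfil⟩ := good_of_isPullback h
  exact strict_base_change sq (L.fil p) (M.fil p) (K.fil p) (P.fil p) (hfil p) (g.compat p)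
    (hs p)

end Fil

end Groth.Agent.Lib.LeadFilPull
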