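import Mathlib
import Groth.Prelude.Def_SpSeq
import Groth.Agent.Lib.LeadFilPull

universe v u
open CategoryTheory CategoryTheory.Limits

namespace Groth.Agent.Lib.LeadFilPush

open SpSeq SpSeq.FilObj Groth.Agent.Lib.LeadFilPull

section General
variable {A : Type u} [Category.{v} A] [Abelian A]

lemma le_pullback_iff {X Y : A} (u : X ⟶ Y) (S : Subobject X) (T : Subobject Y) :
    S ≤ (Subobject.pullback u).obj T ↔ imageSubobject (S.arrow ≫ u) ≤ T := by
  rw [le_iff_factors, factors_pullback_iff, image_le_iff]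

lemma factors_desc_iff {X₁ X₂ Y : A} (u₁ : X₁ ⟶ Y) (u₂ : X₂ ⟶ Y) (Z : Subobject Y) :
    Z.Factors (biprod.desc u₁ u₂) ↔ Z.Factors u₁ ∧ Z.Factors u₂ := by
  constructor
  · intro h
    constructor
    · have h1 := Subobject.factors_of_factors_right (biprod.inl : X₁ ⟶ X₁ ⊞ X₂) h
      rwa [biprod.inl_desc] at h1
    · have h1 := Subobject.factors_of_factors_right (biprod.inr : X₂ ⟶ X₁ ⊞ X₂) h
      rwa [biprod.inr_desc] at h1
  · rintro ⟨h₁, h₂⟩
    have e : biprod.desc (Z.factorThru u₁ h₁) (Z.factorThru u₂ h₂) ≫ Z.arrow =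
        biprod.desc u₁ u₂ := by
      apply biprod.hom_ext' <;> simp
    rw [← e]
    exact Subobject.factors_comp_arrow _

lemma sup_image_eq {X₁ X₂ Y : A} (u₁ : X₁ ⟶ Y) (u₂ : X₂ ⟶ Y) :
    imageSubobject u₁ ⊔ imageSubobject u₂ = imageSubobject (biprod.desc u₁ u₂) := by
  apply eq_of_forall_ge_iff
  intro Z
  rw [sup_le_iff, image_le_iff, image_le_iff, image_le_iff, factors_desc_iff]

lemma le_of_epi_fac {X T : A} {S I : Subobject X} (ε : T ⟶ (S : A)) [Epi ε] (w : T ⟶ (I : A))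
    (h : ε ≫ S.arrow = w ≫ I.arrow) : S ≤ I := by
  have h0 : S.arrow ≫ cokernel.π I.arrow = 0 := by
    rw [← cancel_epi ε, comp_zero, ← Category.assoc, h, Category.assoc, cokernel.condition,
      comp_zero]
  exact Subobject.le_of_comm (Abelian.monoLift _ _ h0) (Abelian.monoLift_comp _ _ h0)

lemma pushout_exact {K L M P : A} {φ : K ⟶ L} {ψ : K ⟶ M} {a : L ⟶ P} {b : M ⟶ P}
    (sq : IsPushout φ ψ a b) {T : A} (z : T ⟶ L) (y : T ⟶ M) (h : z ≫ a = y ≫ b) :
    ∃ (T' : A) (π : T' ⟶ T) (_ : Epi π) (k : T' ⟶ K), π ≫ z = k ≫ φ ∧ π ≫ y = k ≫ ψ := by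
  have h0 : biprod.lift z (-y) ≫ sq.cokernelCofork.π = 0 := by
    show biprod.lift z (-y) ≫ biprod.desc a b = 0
    rw [biprod.lift_desc, Preadditive.neg_comp, h, add_neg_cancel]
  obtain ⟨T', π, hπ, k, hk⟩ :=
    (CokernelCofork.IsColimit.comp_π_eq_zero_iff_up_to_refinements
      sq.isColimitCokernelCofork _).mp h0
  refine ⟨T', π, hπ, k, ?_, ?_⟩
  · have h1 := congrArg (· ≫ biprod.fst) hk
    simpa using h1
  · have h1 := congrArg (· ≫ biprod.snd) hk
    simpa using h1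

lemma cobase_aux {K L M P : A} {φ : K ⟶ L} {ψ : K ⟶ M} {a : L ⟶ P} {b : M ⟶ P}
    (sq : IsPushout φ ψ a b) (E : Subobject K) (F : Subobject L) (G : Subobject M)
    (hE : G.Factors (E.arrow ≫ ψ))
    (hs : imageSubobject (E.arrow ≫ φ) = imageSubobject φ ⊓ F)
    {S : A} (m : S ⟶ P) (hb : (imageSubobject b).Factors m)
    (hQ : (imageSubobject (biprod.desc (F.arrow ≫ a) (G.arrow ≫ b))).Factors m) :
    ∃ (T : A) (ε : T ⟶ S) (_ : Epi ε) (w : T ⟶ (G : A)), ε ≫ m = w ≫ G.arrow ≫ b := by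
  obtain ⟨T₁, π₁, hπ₁, x, hx⟩ := surjective_up_to_refinements_of_epi
    (factorThruImageSubobject b) ((imageSubobject b).factorThru m hb)
  have hx' : π₁ ≫ m = x ≫ b := by
    calc π₁ ≫ m = π₁ ≫ ((imageSubobject b).factorThru m hb ≫ (imageSubobject b).arrow) := by
          rw [Subobject.factorThru_arrow]
      _ = (π₁ ≫ (imageSubobject b).factorThru m hb) ≫ (imageSubobject b).arrow :=
          (Category.assoc _ _ _).symm
      _ = (x ≫ factorThruImageSubobject b) ≫ (imageSubobject b).arrow := by rw [hx]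
      _ = x ≫ b := by rw [Category.assoc, imageSubobject_arrow_comp]
  obtain ⟨T₂, π₂, hπ₂, t, ht⟩ := surjective_up_to_refinements_of_epi
    (factorThruImageSubobject (biprod.desc (F.arrow ≫ a) (G.arrow ≫ b)))
    (π₁ ≫ (imageSubobject (biprod.desc (F.arrow ≫ a) (G.arrow ≫ b))).factorThru m hQ)
  obtain ⟨l, hl⟩ : ∃ l : T₂ ⟶ (F : A), l = t ≫ biprod.fst := ⟨_, rfl⟩
  obtain ⟨n, hn⟩ : ∃ n : T₂ ⟶ (G : A), n = t ≫ biprod.snd := ⟨_, rfl⟩
  have ht' : π₂ ≫ π₁ ≫ m = l ≫ F.arrow ≫ a + n ≫ G.arrow ≫ b := by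
    calc π₂ ≫ π₁ ≫ m
        = π₂ ≫ π₁ ≫ ((imageSubobject (biprod.desc (F.arrow ≫ a) (G.arrow ≫ b))).factorThru m hQ ≫
            (imageSubobject (biprod.desc (F.arrow ≫ a) (G.arrow ≫ b))).arrow) := by
          rw [Subobject.factorThru_arrow]
      _ = (π₂ ≫ π₁ ≫ (imageSubobject (biprod.desc (F.arrow ≫ a) (G.arrow ≫ b))).factorThru m hQ) ≫
            (imageSubobject (biprod.desc (F.arrow ≫ a) (G.arrow ≫ b))).arrow := by
          simp only [Category.assoc]
      _ = (t ≫ factorThruImageSubobject (biprod.desc (F.arrow ≫ a) (G.arrow ≫ b))) ≫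
            (imageSubobject (biprod.desc (F.arrow ≫ a) (G.arrow ≫ b))).arrow := by rw [ht]
      _ = t ≫ biprod.desc (F.arrow ≫ a) (G.arrow ≫ b) := by
          rw [Category.assoc, imageSubobject_arrow_comp]
      _ = l ≫ F.arrow ≫ a + n ≫ G.arrow ≫ b := by
          rw [biprod.desc_eq, Preadditive.comp_add, hl, hn]
          simp only [Category.assoc]
  have h3 : (l ≫ F.arrow) ≫ a = (π₂ ≫ x - n ≫ G.arrow) ≫ b := by
    rw [Preadditive.sub_comp]
    simp only [Category.assoc]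
    rw [← hx', ht', add_sub_cancel_right]
  obtain ⟨T₃, π₃, hπ₃, k, hk₁, -⟩ := pushout_exact sq _ _ h3
  have hF : (imageSubobject φ ⊓ F).Factors (k ≫ φ) := by
    rw [Subobject.inf_factors]
    refine ⟨imageSubobject_factors_comp_self _ _, ?_⟩
    rw [← hk₁, ← Category.assoc]
    exact Subobject.factors_comp_arrow _
  rw [← hs] at hF
  obtain ⟨T₄, π₄, hπ₄, c, hc⟩ := surjective_up_to_refinements_of_epi
    (factorThruImageSubobject (E.arrow ≫ φ))
    ((imageSubobject (E.arrow ≫ φ)).factorThru _ hF)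
  have hc' : π₄ ≫ k ≫ φ = c ≫ E.arrow ≫ φ := by
    calc π₄ ≫ k ≫ φ
        = π₄ ≫ ((imageSubobject (E.arrow ≫ φ)).factorThru _ hF ≫
            (imageSubobject (E.arrow ≫ φ)).arrow) := by rw [Subobject.factorThru_arrow]
      _ = (π₄ ≫ (imageSubobject (E.arrow ≫ φ)).factorThru _ hF) ≫
            (imageSubobject (E.arrow ≫ φ)).arrow := (Category.assoc _ _ _).symm
      _ = (c ≫ factorThruImageSubobject (E.arrow ≫ φ)) ≫
            (imageSubobject (E.arrow ≫ φ)).arrow := by rw [hc]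
      _ = c ≫ E.arrow ≫ φ := by rw [Category.assoc, imageSubobject_arrow_comp]
  have hk₁' : π₃ ≫ l ≫ F.arrow = k ≫ φ := hk₁
  haveI := hπ₁
  haveI := hπ₂
  haveI := hπ₃
  haveI := hπ₄
  refine ⟨T₄, π₄ ≫ π₃ ≫ π₂ ≫ π₁, inferInstance, c ≫ G.factorThru _ hE + π₄ ≫ π₃ ≫ n, ?_⟩
  calc (π₄ ≫ π₃ ≫ π₂ ≫ π₁) ≫ m = π₄ ≫ π₃ ≫ (π₂ ≫ π₁ ≫ m) := by simp only [Category.assoc]
    _ = π₄ ≫ π₃ ≫ (l ≫ F.arrow ≫ a + n ≫ G.arrow ≫ b) := by rw [ht']
    _ = π₄ ≫ (π₃ ≫ l ≫ F.arrow) ≫ a + π₄ ≫ π₃ ≫ n ≫ G.arrow ≫ b := by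
        simp only [Preadditive.comp_add, Category.assoc]
    _ = π₄ ≫ (k ≫ φ) ≫ a + π₄ ≫ π₃ ≫ n ≫ G.arrow ≫ b := by rw [hk₁']
    _ = (π₄ ≫ k ≫ φ) ≫ a + π₄ ≫ π₃ ≫ n ≫ G.arrow ≫ b := by simp only [Category.assoc]
    _ = (c ≫ E.arrow ≫ φ) ≫ a + π₄ ≫ π₃ ≫ n ≫ G.arrow ≫ b := by rw [hc']
    _ = c ≫ E.arrow ≫ ψ ≫ b + π₄ ≫ π₃ ≫ n ≫ G.arrow ≫ b := by
        simp only [Category.assoc, sq.w]
    _ = c ≫ (G.factorThru _ hE ≫ G.arrow) ≫ b + π₄ ≫ π₃ ≫ n ≫ G.arrow ≫ b := by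
        rw [Subobject.factorThru_arrow, Category.assoc]
    _ = (c ≫ G.factorThru _ hE + π₄ ≫ π₃ ≫ n) ≫ G.arrow ≫ b := by
        simp only [Preadditive.add_comp, Category.assoc]

lemma strict_cobase_change {K L M P : A} {φ : K ⟶ L} {ψ : K ⟶ M} {a : L ⟶ P} {b : M ⟶ P}
    (sq : IsPushout φ ψ a b) (E : Subobject K) (F : Subobject L) (G : Subobject M)
    (Q : Subobject P)
    (hQ : Q = imageSubobject (F.arrow ≫ a) ⊔ imageSubobject (G.arrow ≫ b))
    (hE : E ≤ (Subobject.pullback ψ).obj G)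
    (hs : imageSubobject (E.arrow ≫ φ) = imageSubobject φ ⊓ F) :
    imageSubobject (G.arrow ≫ b) = imageSubobject b ⊓ Q := by
  apply le_antisymm
  · refine le_inf (imageSubobject_comp_le _ _) ?_
    rw [hQ]; exact le_sup_right
  · have hSb : (imageSubobject b).Factors (imageSubobject b ⊓ Q).arrow :=
      (le_iff_factors _ _).mp inf_le_left
    have hSQ : Q.Factors (imageSubobject b ⊓ Q).arrow := (le_iff_factors _ _).mp inf_le_right
    have hQ' : Q = imageSubobject (biprod.desc (F.arrow ≫ a) (G.arrow ≫ b)) := by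
      rw [hQ, sup_image_eq]
    have hSQ' : (imageSubobject (biprod.desc (F.arrow ≫ a) (G.arrow ≫ b))).Factors
        (imageSubobject b ⊓ Q).arrow := by rw [← hQ']; exact hSQ
    have hE' : G.Factors (E.arrow ≫ ψ) :=
      (factors_pullback_iff ψ G E.arrow).mp ((le_iff_factors _ _).mp hE)
    obtain ⟨T, ε, hε, w, hw⟩ := cobase_aux sq E F G hE' hs (imageSubobject b ⊓ Q).arrow hSb hSQ'
    haveI := hε
    exact le_of_epi_fac ε (w ≫ factorThruImageSubobject (G.arrow ≫ b))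
      (by rw [hw, Category.assoc, imageSubobject_arrow_comp])

lemma desc_compat_aux {L M T P : A} (inl : L ⟶ P) (inr : M ⟶ P) (d : P ⟶ T) (a : L ⟶ T)
    (b : M ⟶ T) (ha : inl ≫ d = a) (hb : inr ≫ d = b)
    (F : Subobject L) (G : Subobject M) (H : Subobject T)
    (hF : F ≤ (Subobject.pullback a).obj H) (hG : G ≤ (Subobject.pullback b).obj H) :
    imageSubobject (F.arrow ≫ inl) ⊔ imageSubobject (G.arrow ≫ inr) ≤
      (Subobject.pullback d).obj H := by
  subst ha hb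
  refine sup_le ?_ ?_
  · rw [image_le_iff, factors_pullback_iff, Category.assoc, ← factors_pullback_iff,
      ← le_iff_factors]
    exact hF
  · rw [image_le_iff, factors_pullback_iff, Category.assoc, ← factors_pullback_iff,
      ← le_iff_factors]
    exact hG

end General

section Fil
variable {A : Type u} [Category.{v} A] [Abelian A] {K L M : FilObj A}

lemma image_anti (L : FilObj A) {p q : ℤ} (h : p ≤ q) {Y : A} (u : L.obj ⟶ Y) :
    imageSubobject ((L.fil q).arrow ≫ u) ≤ imageSubobject ((L.fil p).arrow ≫ u) := by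
  have e : (L.fil q).arrow ≫ u = (L.fil q).ofLE (L.fil p) (L.anti h) ≫ (L.fil p).arrow ≫ u := by
    rw [← Category.assoc, Subobject.ofLE_arrow]
  rw [e]
  exact imageSubobject_comp_le _ _

noncomputable def po (f : K ⟶ L) (g : K ⟶ M) : FilObj A where
  obj := pushout f.hom g.hom
  fil p := imageSubobject ((L.fil p).arrow ≫ pushout.inl f.hom g.hom) ⊔
    imageSubobject ((M.fil p).arrow ≫ pushout.inr f.hom g.hom)
  anti := fun _ _ h => sup_le_sup (image_anti L h _) (image_anti M h _)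

noncomputable def pinl (f : K ⟶ L) (g : K ⟶ M) : L ⟶ po f g :=
  FilObj.Hom.mk (pushout.inl f.hom g.hom) (fun _ => (le_pullback_iff _ _ _).mpr le_sup_left)

noncomputable def pinr (f : K ⟶ L) (g : K ⟶ M) : M ⟶ po f g :=
  FilObj.Hom.mk (pushout.inr f.hom g.hom) (fun _ => (le_pullback_iff _ _ _).mpr le_sup_right)

lemma po_condition (f : K ⟶ L) (g : K ⟶ M) : f ≫ pinl f g = g ≫ pinr f g :=
  FilObj.Hom.ext pushout.condition

noncomputable def poDesc (f : K ⟶ L) (g : K ⟶ M) {T : FilObj A} (a : L ⟶ T) (b : M ⟶ T)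
    (w : f ≫ a = g ≫ b) : po f g ⟶ T :=
  FilObj.Hom.mk (pushout.desc a.hom b.hom (congrArg FilObj.Hom.hom w))
    (fun p => desc_compat_aux _ _ _ _ _ (pushout.inl_desc _ _ _) (pushout.inr_desc _ _ _) _ _ _
      (a.compat p) (b.compat p))

noncomputable def poIsColimit (f : K ⟶ L) (g : K ⟶ M) :
    IsColimit (PushoutCocone.mk (pinl f g) (pinr f g) (po_condition f g)) :=
  PushoutCocone.IsColimit.mk (po_condition f g)
    (fun s => poDesc f g s.inl s.inr s.condition)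
    (fun _ => FilObj.Hom.ext (pushout.inl_desc _ _ _))
    (fun _ => FilObj.Hom.ext (pushout.inr_desc _ _ _))
    (fun _ _ h1 h2 => FilObj.Hom.ext (pushout.hom_ext
      ((congrArg FilObj.Hom.hom h1).trans (pushout.inl_desc _ _ _).symm)
      ((congrArg FilObj.Hom.hom h2).trans (pushout.inr_desc _ _ _).symm)))

lemma good_of_isPushout {P : FilObj A} {f : K ⟶ L} {g : K ⟶ M} {g' : L ⟶ P} {f' : M ⟶ P}
    (h : IsPushout f g g' f') :
    IsPushout f.hom g.hom g'.hom f'.hom ∧ ∀ p, P.fil p =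
      imageSubobject ((L.fil p).arrow ≫ g'.hom) ⊔ imageSubobject ((M.fil p).arrow ≫ f'.hom) := by
  have h₀ : IsPushout f g (pinl f g) (pinr f g) := ⟨⟨po_condition f g⟩, ⟨poIsColimit f g⟩⟩
  obtain ⟨e, he⟩ : ∃ e : P ≅ po f g, e = h.isoIsPushout _ _ h₀ := ⟨_, rfl⟩
  have e1 : g' ≫ e.hom = pinl f g := by rw [he]; exact h.inl_isoIsPushout_hom _ _ h₀
  have e2 : f' ≫ e.hom = pinr f g := by rw [he]; exact h.inr_isoIsPushout_hom _ _ h₀
  have e1' : g'.hom ≫ e.hom.hom = pushout.inl f.hom g.hom := congrArg FilObj.Hom.hom e1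
  have e2' : f'.hom ≫ e.hom.hom = pushout.inr f.hom g.hom := congrArg FilObj.Hom.hom e2
  have i1 : e.hom.hom ≫ e.inv.hom = 𝟙 P.obj := congrArg FilObj.Hom.hom e.hom_inv_id
  have i2 : e.inv.hom ≫ e.hom.hom = 𝟙 (pushout f.hom g.hom) :=
    congrArg FilObj.Hom.hom e.inv_hom_id
  constructor
  · exact IsPushout.of_iso_pushout ⟨congrArg FilObj.Hom.hom h.w⟩
      ⟨e.hom.hom, e.inv.hom, i1, i2⟩ e1' e2'
  · intro p
    apply le_antisymm
    · have h3 : P.fil p ≤ (Subobject.pullback e.hom.hom).obj ((po f g).fil p) := e.hom.compat p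
      refine h3.trans ?_
      have e3 : pinl f g ≫ e.inv = g' := by rw [he]; exact h.inl_isoIsPushout_inv _ _ h₀
      have e4 : pinr f g ≫ e.inv = f' := by rw [he]; exact h.inr_isoIsPushout_inv _ _ h₀
      have j1 : pushout.inl f.hom g.hom ≫ e.inv.hom = g'.hom := congrArg FilObj.Hom.hom e3
      have j2 : pushout.inr f.hom g.hom ≫ e.inv.hom = f'.hom := congrArg FilObj.Hom.hom e4
      have h4 : (po f g).fil p ≤ (Subobject.pullback e.inv.hom).obj
          (imageSubobject ((L.fil p).arrow ≫ g'.hom) ⊔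
            imageSubobject ((M.fil p).arrow ≫ f'.hom)) :=
        desc_compat_aux (pushout.inl f.hom g.hom) (pushout.inr f.hom g.hom) e.inv.hom g'.hom
          f'.hom j1 j2 (L.fil p) (M.fil p) _
          ((le_pullback_iff _ _ _).mpr le_sup_left) ((le_pullback_iff _ _ _).mpr le_sup_right)
      have h5 := (Subobject.pullback e.hom.hom).monotone h4
      rw [← Subobject.pullback_comp, i1, Subobject.pullback_id] at h5
      exact h5
    · exact sup_le ((le_pullback_iff _ _ _).mp (g'.compat p))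
        ((le_pullback_iff _ _ _).mp (f'.compat p))

theorem main (f : K ⟶ L) (g : K ⟶ M) :
    HasPushout f g ∧ ∀ (P : FilObj A) (g' : L ⟶ P) (f' : M ⟶ P), IsPushout f g g' f' →
      FilObj.IsStrict f → FilObj.IsStrict f' := by
  refine ⟨⟨⟨⟨_, poIsColimit f g⟩⟩⟩, ?_⟩
  intro P g' f' h hs p
  obtain ⟨sq, hfil⟩ := good_of_isPushout h
  exact strict_cobase_change sq (K.fil p) (L.fil p) (M.fil p) (P.fil p) (hfil p) (g.compat p)
    (hs p)

end Fil

end Groth.Agent.Lib.LeadFilPush
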