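import Groth.Agent.Lib.LeadCycDet

/-!
# Filtrations with quotients `R/𝔮` and the length of the localization (helper for S1852)
-/

set_option autoImplicit false
universe u v w
open CycDet

namespace Groth.Agent.LeadFilt

open Groth.Agent.LeadCycDet

section Loc

variable {R : Type u} [CommRing R] (S : Submonoid R)

/-- length of the localization of a module -/
noncomputable def L (P : Type v) [AddCommGroup P] [Module R P] : ℕ∞ :=
  Module.length (Localization S) (LocalizedModule S P)

lemma L_add {P' : Type v} {P : Type v} {P'' : Type v} [AddCommGroup P'] [Module R P']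
    [AddCommGroup P] [Module R P] [AddCommGroup P''] [Module R P'']
    (f : P' →ₗ[R] P) (g : P →ₗ[R] P'') (hf : Function.Injective f) (hg : Function.Surjective g)
    (ex : Function.Exact f g) : L S P = L S P' + L S P'' := by
  unfold L
  refine Module.length_eq_add_of_exact (LocalizedModule.map S f) (LocalizedModule.map S g)
    (LocalizedModule.map_injective S f hf) (LocalizedModule.map_surjective S g hg) ?_
  exact LocalizedModule.map_exact S f g ex

lemma L_iso {P : Type v} {P' : Type v} [AddCommGroup P] [Module R P] [AddCommGroup P']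
    [Module R P'] (e : P ≃ₗ[R] P') : L S P = L S P' :=
  (IsLocalizedModule.mapEquiv S (LocalizedModule.mkLinearMap S P)
    (LocalizedModule.mkLinearMap S P') (Localization S) e).length_eq

lemma L_zero {P : Type v} [AddCommGroup P] [Module R P] (h : Subsingleton (LocalizedModule S P)) :
    L S P = 0 := Module.length_eq_zero_iff.2 h

lemma L_one (q : Ideal R) [hq : q.IsPrime] : L q.primeCompl (R ⧸ q) = 1 := by
  unfold L
  rw [Module.length_eq_one_iff, isSimpleModule_iff_toSpanSingleton_surjective]
  constructor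
  · refine ⟨⟨LocalizedModule.mk (1 : R ⧸ q) 1, 0, ?_⟩⟩
    intro h
    rw [← LocalizedModule.zero_mk 1, LocalizedModule.mk_eq] at h
    obtain ⟨u, hu⟩ := h
    simp only [one_smul, smul_zero, Submonoid.smul_def, Algebra.smul_def, mul_one,
      Ideal.Quotient.algebraMap_eq] at hu
    exact u.2 (Ideal.Quotient.eq_zero_iff_mem.1 hu)
  · intro x hx y
    induction x using LocalizedModule.induction_on with
    | _ m s =>
    induction y using LocalizedModule.induction_on with
    | _ m' s' =>
    obtain ⟨r, rfl⟩ := Ideal.Quotient.mk_surjective m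
    obtain ⟨r', rfl⟩ := Ideal.Quotient.mk_surjective m'
    have hr : r ∈ q.primeCompl := by
      intro hrq
      apply hx
      rw [Ideal.Quotient.eq_zero_iff_mem.2 hrq, LocalizedModule.zero_mk]
    refine ⟨Localization.mk (r' * s) (⟨r, hr⟩ * s'), ?_⟩
    rw [LinearMap.toSpanSingleton_apply, LocalizedModule.mk_smul_mk, LocalizedModule.mk_eq]
    refine ⟨1, ?_⟩
    simp only [one_smul, Submonoid.smul_def, Algebra.smul_def, Ideal.Quotient.algebraMap_eq,
      Submonoid.coe_mul, map_mul]
    ring

end Loc

section Filt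

variable {R : Type u} [CommRing R] [IsLocalRing R] {M : Type u} [AddCommGroup M] [Module R M]
  (q : PrimeSpectrum R)

/-- successive quotients of the filtration by `spanBefore` are `R/𝔮` -/
def HasQ {l : ℕ} (x : Fin l → M) : Prop :=
  ∀ i : Fin l, Nonempty ((↥(spanBefore R M x (i + 1)) ⧸
    (spanBefore R M x i).submoduleOf (spanBefore R M x (i + 1))) ≃ₗ[R] (R ⧸ q.asIdeal))

lemma hasQ_congr {P : Type u} [AddCommGroup P] [Module R P] {A A' B B' : Submodule R M}
    (hA : A = A') (hB : B = B') (h : Nonempty ((↥B ⧸ A.submoduleOf B) ≃ₗ[R] P)) :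
    Nonempty ((↥B' ⧸ A'.submoduleOf B') ≃ₗ[R] P) := by
  subst hA; subst hB; exact h

lemma L_sB {l : ℕ} (x : Fin l → M) (hx : HasQ q x) :
    ∀ j, j ≤ l → L q.asIdeal.primeCompl ↥(spanBefore R M x j) = j := by
  intro j
  induction j with
  | zero =>
    intro _
    rw [sB_zero]
    rw [L_zero]
    · rfl
    · rw [LocalizedModule.subsingleton_iff]
      intro m
      exact ⟨1, one_mem _, Subsingleton.elim _ _⟩
  | succ j ih =>
    intro hj
    have hjl : j < l := hj
    obtain ⟨e⟩ := hx ⟨j, hjl⟩
    have e' : (↥(spanBefore R M x (j + 1)) ⧸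
        (spanBefore R M x j).submoduleOf (spanBefore R M x (j + 1))) ≃ₗ[R] (R ⧸ q.asIdeal) := e
    have hle : spanBefore R M x j ≤ spanBefore R M x (j + 1) := sB_mono R x (Nat.le_succ j)
    have h1 := L_add q.asIdeal.primeCompl (Submodule.inclusion hle)
      ((spanBefore R M x j).submoduleOf (spanBefore R M x (j + 1))).mkQ
      (Submodule.inclusion_injective hle) (Submodule.mkQ_surjective _) (by
        rw [LinearMap.exact_iff, Submodule.ker_mkQ, Submodule.range_inclusion]; rfl)
    rw [h1, ih (Nat.le_of_succ_le hj), L_iso _ e', L_one]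
    push_cast
    rfl

lemma count {l : ℕ} (x : Fin l → M) (hx : HasQ q x)
    (hs : q ∉ Module.support R (M ⧸ Submodule.span R (Set.range x))) :
    (l : ℕ∞) = L q.asIdeal.primeCompl M := by
  have hN : spanBefore R M x l = Submodule.span R (Set.range x) := sB_top R x l le_rfl
  have h0 := L_sB q x hx l le_rfl
  rw [hN] at h0
  have h1 := L_add q.asIdeal.primeCompl (Submodule.span R (Set.range x)).subtype
    (Submodule.span R (Set.range x)).mkQ (Submodule.subtype_injective _)
    (Submodule.mkQ_surjective _) (LinearMap.exact_subtype_mkQ _)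
  rw [h1, h0, L_zero _ (Module.notMem_support_iff.1 hs), add_zero]

lemma exists_step (N : Submodule R M) (f : R ⧸ q.asIdeal →ₗ[R] M ⧸ N)
    (hf : Function.Injective f) :
    ∃ y : M, y ∉ N ∧ Nonempty ((↥(N ⊔ Submodule.span R {y}) ⧸
      N.submoduleOf (N ⊔ Submodule.span R {y})) ≃ₗ[R] R ⧸ q.asIdeal) := by
  obtain ⟨y, hy⟩ := N.mkQ_surjective (f 1)
  refine ⟨y, ?_, ?_⟩
  · intro hyN
    have h1 : f 1 = 0 := by
      rw [← hy]; exact (Submodule.Quotient.mk_eq_zero N).2 hyN
    have h2 := hf (h1.trans (map_zero f).symm)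
    haveI := q.isPrime
    exact one_ne_zero h2
  · obtain ⟨N', hN'⟩ : ∃ N', N' = N ⊔ Submodule.span R {y} := ⟨_, rfl⟩
    rw [← hN']
    obtain ⟨ψ, hψ⟩ : ∃ ψ : ↥N' →ₗ[R] M ⧸ N, ψ = N.mkQ ∘ₗ N'.subtype := ⟨_, rfl⟩
    have hker : LinearMap.ker ψ = N.submoduleOf N' := by
      rw [hψ, LinearMap.ker_comp, Submodule.ker_mkQ]; rfl
    have hrf : LinearMap.range f = Submodule.span R {f 1} := by
      apply le_antisymm
      · rintro _ ⟨m, rfl⟩
        obtain ⟨r, rfl⟩ := Ideal.Quotient.mk_surjective m
        have h3 : Ideal.Quotient.mk q.asIdeal r = r • (1 : R ⧸ q.asIdeal) := by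
          rw [Algebra.smul_def, mul_one]; rfl
        rw [h3, map_smul]
        exact Submodule.smul_mem _ _ (Submodule.subset_span rfl)
      · rw [Submodule.span_le]
        rintro _ rfl
        exact ⟨1, rfl⟩
    have hrange : LinearMap.range ψ = LinearMap.range f := by
      rw [hψ, LinearMap.range_comp, Submodule.range_subtype, hN', Submodule.map_sup,
        Submodule.map_span, Set.image_singleton, Submodule.mkQ_map_self, bot_sup_eq, hy, hrf]
    exact ⟨(Submodule.quotEquivOfEq _ _ hker.symm).trans (ψ.quotKerEquivRange.trans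
      ((LinearEquiv.ofEq _ _ hrange).trans (LinearEquiv.ofInjective f hf).symm))⟩

lemma exists_filt [IsNoetherianRing R] [Module.Finite R M]
    (hq : Minimal (fun p : PrimeSpectrum R => p ∈ Module.support R M) q) :
    ∀ N : Submodule R M, ∀ (k : ℕ) (x : Fin k → M), HasQ q x → spanBefore R M x k = N →
      ∃ (l : ℕ) (x' : Fin l → M), HasQ q x' ∧
        q ∉ Module.support R (M ⧸ Submodule.span R (Set.range x')) := by
  intro N
  induction N using WellFoundedGT.induction with
  | _ N ih =>
  intro k x hx hN
  by_cases hs : q ∈ Module.support R (M ⧸ N)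
  · have hmin : q.asIdeal ∈ (Module.annihilator R (M ⧸ N)).minimalPrimes := by
      refine ⟨⟨q.isPrime, Module.mem_support_iff_of_finite.1 hs⟩, ?_⟩
      rintro p ⟨hp, hpa⟩ hpq
      have h1 : (⟨p, hp⟩ : PrimeSpectrum R) ∈ Module.support R (M ⧸ N) :=
        Module.mem_support_iff_of_finite.2 hpa
      have h2 := Module.support_subset_of_surjective N.mkQ (Submodule.mkQ_surjective N) h1
      exact hq.2 h2 hpq
    have hass := Module.associatedPrimes.minimalPrimes_annihilator_subset_associatedPrimes R
      (M ⧸ N) hmin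
    obtain ⟨_, f, hf⟩ := (isAssociatedPrime_iff_exists_injective_linearMap _ _).1 hass
    obtain ⟨y, hyN, ⟨e⟩⟩ := exists_step q N f hf
    have hlast : spanBefore R M (sn x y) (k + 1) = N ⊔ Submodule.span R {y} := by
      rw [sB_sn_last, hN]
    have hlt : N < N ⊔ Submodule.span R {y} := by
      refine lt_of_le_of_ne le_sup_left (fun h => hyN ?_)
      rw [h]
      exact (le_sup_right : Submodule.span R {y} ≤ _) (Submodule.mem_span_singleton_self y)
    refine ih (N ⊔ Submodule.span R {y}) hlt (k + 1) (sn x y) ?_ hlast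
    intro i
    induction i using Fin.lastCases with
    | last =>
      have hA : spanBefore R M (sn x y) ((Fin.last k : Fin (k + 1)) : ℕ) = N := by
        rw [Fin.val_last, sB_sn R x y k le_rfl, hN]
      have hB : spanBefore R M (sn x y) (((Fin.last k : Fin (k + 1)) : ℕ) + 1)
          = N ⊔ Submodule.span R {y} := by
        rw [Fin.val_last]; exact hlast
      exact hasQ_congr hA.symm hB.symm ⟨e⟩
    | cast i =>
      have hA : spanBefore R M (sn x y) ((Fin.castSucc i : Fin (k + 1)) : ℕ)
          = spanBefore R M x i := by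
        rw [Fin.val_castSucc]; exact sB_sn R x y i (le_of_lt i.2)
      have hB : spanBefore R M (sn x y) (((Fin.castSucc i : Fin (k + 1)) : ℕ) + 1)
          = spanBefore R M x (i + 1) := by
        rw [Fin.val_castSucc]; exact sB_sn R x y (i + 1) i.2
      exact hasQ_congr hA.symm hB.symm (hx i)
  · refine ⟨k, x, hx, ?_⟩
    rw [← sB_top R x k le_rfl, hN]
    exact hs

end Filt

end Groth.Agent.LeadFilt
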