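import Mathlib
import Groth.Prelude.Def_Frob
import Groth.Agent.Lib.Helper22IdealComap
import Groth.Agent.Lib.T2H2IdealComapPow

set_option maxHeartbeats 400000
set_option linter.style.haveILetI false
set_option linter.unusedSectionVars false
set_option autoImplicit false
universe u

/-!
# Frobenius-twisted correspondences are contracting near invariant closed subschemes

`C = C₀ ×_{k₀} K`, `Fr = F^{en} × id`.  Then `Fr = Φ ≫ ρ` with `Φ` the absolute `p^{en}`-Frobenius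
of `C`, so the inverse image under `Fr` of any ideal sheaf is locally generated by `p^{en}`-th powers.
-/

namespace Groth.Agent.Lib.LeadFrobTwist

open AlgebraicGeometry CategoryTheory CategoryTheory.Limits
open scoped Pointwise

/-! ### Algebra -/

lemma span_pow_mem {A : Type*} [CommRing A] (R : Ideal A) (Q : ℕ) (T : Set A)
    (hT : ∀ t ∈ T, ∃ h ∈ R, t = h ^ Q) (d : ℕ) :
    ∀ x ∈ T ^ d, ∃ y ∈ R ^ d, x = y ^ Q := by
  induction d with
  | zero =>
    intro x hx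
    rw [pow_zero, Set.mem_one] at hx
    refine ⟨1, ?_, by rw [hx, one_pow]⟩
    rw [pow_zero, Ideal.one_eq_top]; trivial
  | succ d ih =>
    intro x hx
    rw [pow_succ] at hx
    obtain ⟨a, ha, b, hb, rfl⟩ := Set.mem_mul.mp hx
    obtain ⟨y, hy, rfl⟩ := ih a ha
    obtain ⟨h, hh, rfl⟩ := hT b hb
    exact ⟨y * h, by rw [pow_succ]; exact Ideal.mul_mem_mul hy hh, (mul_pow _ _ _).symm⟩

lemma contracting_of_span_pow {A : Type*} [CommRing A] (L J : Ideal A) (Q d : ℕ) (hdQ : d < Q)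
    (S : Set A) (hL : L = Ideal.span ((fun h => h ^ Q) '' S)) (hLJ : L ≤ J.radical)
    (hd : J.radical ^ d ≤ J) : L ≤ J ∧ L ^ d ≤ J ^ (d + 1) := by
  have hS : ∀ h ∈ S, h ∈ J.radical := by
    intro h hh
    have h1 : h ^ Q ∈ J.radical := hLJ (hL ▸ Ideal.subset_span ⟨h, hh, rfl⟩)
    exact Ideal.mem_radical_of_pow_mem h1
  have hT : ∀ t ∈ (fun h => h ^ Q) '' S, ∃ h ∈ J.radical, t = h ^ Q := by
    rintro _ ⟨h, hh, rfl⟩
    exact ⟨h, hS h hh, rfl⟩
  constructor
  · rw [hL, Ideal.span_le]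
    rintro _ ⟨h, hh, rfl⟩
    have h1 : h ^ d ∈ J := hd (Ideal.pow_mem_pow (hS h hh) d)
    have h2 : h ^ Q = h ^ d * h ^ (Q - d) := by
      rw [← pow_add]; congr 1; omega
    change h ^ Q ∈ J
    rw [h2]
    exact J.mul_mem_right _ h1
  · have hsp : Ideal.span ((fun h => h ^ Q) '' S) ^ d =
        Ideal.span (((fun h => h ^ Q) '' S) ^ d) := Submodule.span_pow _ d
    rw [hL, hsp, Ideal.span_le]
    intro x hx
    obtain ⟨y, hy, rfl⟩ := span_pow_mem J.radical Q _ hT d x hx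
    have hyJ : y ∈ J := hd hy
    have h3 : y ^ Q ∈ J ^ Q := Ideal.pow_mem_pow hyJ Q
    exact Ideal.pow_le_pow_right (by omega : d + 1 ≤ Q) h3

/-! ### Iterated absolute Frobenius -/

section Iter

variable (X : Scheme.{u}) (p : ℕ) [Fact p.Prime] [FrobSch.IsCharP X p]

/-- The `m`-fold iterate of the absolute Frobenius, as in the statements. -/
noncomputable def frobN (m : ℕ) : X ⟶ X := End.asHom (End.of (FrobSch.frob X p) ^ m)

lemma frobN_def (m : ℕ) : frobN X p m = End.asHom (End.of (FrobSch.frob X p) ^ m) := rfl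

lemma frobN_zero : frobN X p 0 = 𝟙 X := by
  rw [frobN_def, pow_zero]; rfl

lemma frobN_succ (m : ℕ) : frobN X p (m + 1) = FrobSch.frob X p ≫ frobN X p m := by
  rw [frobN_def, pow_succ]; rfl

lemma frobN_apply (m : ℕ) (x : X) : (frobN X p m) x = x := by
  induction m with
  | zero => rw [frobN_zero]; rfl
  | succ m ih => rw [frobN_succ, Scheme.Hom.comp_apply, FrobSch.frob_apply, ih]

lemma frobN_preimage (m : ℕ) (U : X.Opens) : (frobN X p m) ⁻¹ᵁ U = U := by
  apply TopologicalSpace.Opens.ext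
  ext x
  change (frobN X p m) x ∈ U ↔ x ∈ U
  rw [frobN_apply]

lemma frobN_appLE (m : ℕ) (U : X.Opens) (h : U ≤ (frobN X p m) ⁻¹ᵁ U) (s : Γ(X, U)) :
    ((frobN X p m).appLE U U h).hom s = s ^ (p ^ m) := by
  induction m with
  | zero =>
    have aux : ∀ (f : X ⟶ X) (_ : f = 𝟙 X) (h : U ≤ f ⁻¹ᵁ U), (f.appLE U U h).hom s = s := by
      rintro _ rfl h
      have h0 : (𝟙 X : X ⟶ X).appLE U U h = 𝟙 _ :=
        (Category.id_comp _).trans
          ((congrArg X.presheaf.map (Subsingleton.elim _ _)).trans (X.presheaf.map_id _))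
      rw [h0]; rfl
    rw [aux _ (frobN_zero X p) h, pow_zero, pow_one]
  | succ m ih =>
    have h1 : U ≤ (frobN X p m) ⁻¹ᵁ U := (frobN_preimage X p m U).ge
    have h2 : U ≤ (FrobSch.frob X p) ⁻¹ᵁ U := le_rfl
    have e1 : (frobN X p (m + 1)).appLE U U h =
        (FrobSch.frob X p ≫ frobN X p m).appLE U U (frobN_succ X p m ▸ h) :=
      Groth.Agent.Lib.Helper22.IdealComap.appLE_congr_hom (frobN_succ X p m) U U h
    have e2 : (FrobSch.frob X p ≫ frobN X p m).appLE U U (frobN_succ X p m ▸ h) =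
        (frobN X p m).appLE U U h1 ≫ (FrobSch.frob X p).appLE U U h2 :=
      (Scheme.Hom.appLE_comp_appLE (FrobSch.frob X p) (frobN X p m) U U U h1 h2).symm
    have e3 : (FrobSch.frob X p).appLE U U h2 = (FrobSch.frob X p).app U :=
      (Scheme.Hom.app_eq_appLE (FrobSch.frob X p)).symm
    rw [e1, e2, e3]
    change ((FrobSch.frob X p).app U).hom (((frobN X p m).appLE U U h1).hom s) = _
    rw [ih h1]
    change (s ^ (p ^ m)) ^ p = _
    rw [← pow_mul, ← pow_succ]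

lemma frobN_appTop (m : ℕ) (s : Γ(X, ⊤)) : (frobN X p m).appTop.hom s = s ^ (p ^ m) := by
  induction m generalizing s with
  | zero => rw [frobN_zero, pow_zero, pow_one]; rfl
  | succ m ih =>
    rw [frobN_succ, Scheme.Hom.comp_appTop]
    change (FrobSch.frob X p).appTop.hom ((frobN X p m).appTop.hom s) = _
    rw [ih]
    change (s ^ (p ^ m)) ^ p = _
    rw [← pow_mul, ← pow_succ]

variable {X}

lemma frobN_comp {Y : Scheme.{u}} [FrobSch.IsCharP Y p] (f : X ⟶ Y) (m : ℕ) :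
    frobN X p m ≫ f = f ≫ frobN Y p m := by
  induction m with
  | zero => rw [frobN_zero, frobN_zero, Category.id_comp, Category.comp_id]
  | succ m ih =>
    rw [frobN_succ, frobN_succ, Category.assoc, ih, ← Category.assoc, FrobSch.frob_comp,
      Category.assoc]

end Iter

/-! ### Affine schemes -/

lemma isIso_of_appTop {X Y : Scheme.{u}} [IsAffine X] [IsAffine Y] (f : X ⟶ Y) [IsIso f.appTop] :
    IsIso f := by
  have h : f = X.isoSpec.hom ≫ Spec.map f.appTop ≫ Y.isoSpec.inv := by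
    rw [← Category.assoc, Scheme.isoSpec_hom_naturality, Category.assoc, Iso.hom_inv_id,
      Category.comp_id]
  rw [h]; infer_instance

lemma frobN_spec_finite (k₀ : Type u) [Field k₀] [Fintype k₀] (p : ℕ) [Fact p.Prime] [CharP k₀ p]
    (e : ℕ) (hq : Fintype.card k₀ = p ^ e) (n : ℕ) :
    frobN (Spec (CommRingCat.of k₀)) p (e * n) = 𝟙 _ := by
  refine ext_of_isAffine (CommRingCat.hom_ext (RingHom.ext fun s => ?_))
  rw [frobN_appTop]
  have h1 : (𝟙 (Spec (CommRingCat.of k₀)) : _ ⟶ _).appTop.hom s = s := by simp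
  rw [h1]
  apply (Scheme.ΓSpecIso (CommRingCat.of k₀)).commRingCatIsoToRingEquiv.injective
  rw [map_pow, pow_mul, ← hq]
  exact FiniteField.pow_card_pow _ _

lemma isIso_frobN_spec (K : Type u) [Field K] [IsAlgClosed K] (p : ℕ) [Fact p.Prime] [CharP K p]
    (m : ℕ) : IsIso (frobN (Spec (CommRingCat.of K)) p m) := by
  haveI : IsIso (frobN (Spec (CommRingCat.of K)) p m).appTop := by
    have hbij : Function.Bijective (frobN (Spec (CommRingCat.of K)) p m).appTop.hom := by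
      constructor
      · intro s t hst
        rw [frobN_appTop, frobN_appTop] at hst
        apply (Scheme.ΓSpecIso (CommRingCat.of K)).commRingCatIsoToRingEquiv.injective
        have h2 : (Scheme.ΓSpecIso (CommRingCat.of K)).commRingCatIsoToRingEquiv s ^ (p ^ m) =
            (Scheme.ΓSpecIso (CommRingCat.of K)).commRingCatIsoToRingEquiv t ^ (p ^ m) := by
          rw [← map_pow, ← map_pow, hst]
        have h3 : ((Scheme.ΓSpecIso (CommRingCat.of K)).commRingCatIsoToRingEquiv s -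
            (Scheme.ΓSpecIso (CommRingCat.of K)).commRingCatIsoToRingEquiv t) ^ (p ^ m) = 0 := by
          rw [sub_pow_char_pow, h2, sub_self]
        exact sub_eq_zero.mp
          ((pow_eq_zero_iff (pow_ne_zero m (Fact.out : p.Prime).ne_zero)).mp h3)
      · intro t
        obtain ⟨z, hz⟩ := IsAlgClosed.exists_pow_nat_eq
          ((Scheme.ΓSpecIso (CommRingCat.of K)).commRingCatIsoToRingEquiv t)
          (pow_pos (Fact.out : p.Prime).pos m)
        refine ⟨(Scheme.ΓSpecIso (CommRingCat.of K)).commRingCatIsoToRingEquiv.symm z, ?_⟩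
        rw [frobN_appTop, ← map_pow, hz, RingEquiv.symm_apply_apply]
    exact (ConcreteCategory.isIso_iff_bijective _).mpr hbij
  exact isIso_of_appTop _

/-! ### The geometric Frobenius factors through the absolute Frobenius -/

lemma exists_factor {C C₀ : Scheme.{u}} (p : ℕ) [Fact p.Prime]
    (k₀ : Type u) [Field k₀] [Fintype k₀] [CharP k₀ p] (e : ℕ) (hq : Fintype.card k₀ = p ^ e)
    (K : Type u) [Field K] [Algebra k₀ K] [IsAlgClosure k₀ K]
    (f₀ : C₀ ⟶ Spec (CommRingCat.of k₀)) [FrobSch.IsCharP C₀ p] [FrobSch.IsCharP C p]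
    (πC₀ : C ⟶ C₀) (πK : C ⟶ Spec (CommRingCat.of K))
    (hC : IsPullback πC₀ πK f₀ (Spec.map (CommRingCat.ofHom (algebraMap k₀ K))))
    (n : ℕ) (Fr : C ⟶ C)
    (hFr₀ : Fr ≫ πC₀ = πC₀ ≫ frobN C₀ p (e * n))
    (hFrK : Fr ≫ πK = πK) :
    ∃ ρ : C ⟶ C, Fr = frobN C p (e * n) ≫ ρ := by
  haveI : CharP K p := charP_of_injective_algebraMap (algebraMap k₀ K).injective p
  haveI : IsAlgClosed K := IsAlgClosure.isAlgClosed k₀
  haveI : IsIso (frobN (Spec (CommRingCat.of K)) p (e * n)) := isIso_frobN_spec K p (e * n)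
  have hσa : frobN (Spec (CommRingCat.of K)) p (e * n) ≫
      Spec.map (CommRingCat.ofHom (algebraMap k₀ K)) =
      Spec.map (CommRingCat.ofHom (algebraMap k₀ K)) := by
    rw [frobN_comp, frobN_spec_finite k₀ p e hq n, Category.comp_id]
  have hσa' : inv (frobN (Spec (CommRingCat.of K)) p (e * n)) ≫
      Spec.map (CommRingCat.ofHom (algebraMap k₀ K)) =
      Spec.map (CommRingCat.ofHom (algebraMap k₀ K)) := by
    rw [IsIso.inv_comp_eq, hσa]
  have w1 : πC₀ ≫ f₀ = (πK ≫ frobN (Spec (CommRingCat.of K)) p (e * n)) ≫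
      Spec.map (CommRingCat.ofHom (algebraMap k₀ K)) := by
    rw [Category.assoc, hσa]; exact hC.w
  have w2 : πC₀ ≫ f₀ = (πK ≫ inv (frobN (Spec (CommRingCat.of K)) p (e * n))) ≫
      Spec.map (CommRingCat.ofHom (algebraMap k₀ K)) := by
    rw [Category.assoc, hσa']; exact hC.w
  have h1 : Fr ≫ hC.lift πC₀ (πK ≫ frobN (Spec (CommRingCat.of K)) p (e * n)) w1 =
      frobN C p (e * n) := by
    apply hC.hom_ext
    · rw [Category.assoc, hC.lift_fst, hFr₀, frobN_comp]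
    · rw [Category.assoc, hC.lift_snd, ← Category.assoc, hFrK, frobN_comp]
  have h2 : hC.lift πC₀ (πK ≫ frobN (Spec (CommRingCat.of K)) p (e * n)) w1 ≫
      hC.lift πC₀ (πK ≫ inv (frobN (Spec (CommRingCat.of K)) p (e * n))) w2 = 𝟙 C := by
    apply hC.hom_ext
    · rw [Category.assoc, hC.lift_fst, hC.lift_fst, Category.id_comp]
    · rw [Category.assoc, hC.lift_snd, ← Category.assoc, hC.lift_snd, Category.assoc,
        IsIso.hom_inv_id, Category.comp_id, Category.id_comp]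
  exact ⟨hC.lift πC₀ (πK ≫ inv (frobN (Spec (CommRingCat.of K)) p (e * n))) w2,
    by rw [← h1, Category.assoc, h2, Category.comp_id]⟩

/-! ### Contraction -/

theorem main {C C₀ X : Scheme.{u}} (p : ℕ) [Fact p.Prime]
    (k₀ : Type u) [Field k₀] [Fintype k₀] [CharP k₀ p] (e : ℕ) (hq : Fintype.card k₀ = p ^ e)
    (K : Type u) [Field K] [Algebra k₀ K] [IsAlgClosure k₀ K]
    (f₀ : C₀ ⟶ Spec (CommRingCat.of k₀)) [FrobSch.IsCharP C₀ p]
    (πC₀ : C ⟶ C₀) (πK : C ⟶ Spec (CommRingCat.of K))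
    (hC : IsPullback πC₀ πK f₀ (Spec.map (CommRingCat.ofHom (algebraMap k₀ K))))
    (n : ℕ) (Fr : C ⟶ C)
    (hFr₀ : Fr ≫ πC₀ = πC₀ ≫ End.asHom (End.of (FrobSch.frob C₀ p) ^ (e * n)))
    (hFrK : Fr ≫ πK = πK)
    (c₁ c₂ : C ⟶ X) (I : X.IdealSheafData) (d : ℕ)
    (hd : (I.comap c₂).radical ^ d ≤ I.comap c₂) (hn : d < p ^ (e * n))
    (hinv : (Fr ≫ c₁).base '' (c₂.base ⁻¹' (I.support : Set X)) ⊆ (I.support : Set X)) :
    I.comap (Fr ≫ c₁) ≤ I.comap c₂ ∧ I.comap (Fr ≫ c₁) ^ d ≤ I.comap c₂ ^ (d + 1) := by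
  haveI : FrobSch.IsCharP C p := FrobSch.IsCharP.of_hom πC₀ p
  obtain ⟨ρ, hρ⟩ := exists_factor p k₀ e hq K f₀ πC₀ πK hC n Fr hFr₀ hFrK
  have hsupp : (I.comap c₂).support ≤ (I.comap (Fr ≫ c₁)).support := by
    intro x hx
    rw [Scheme.IdealSheafData.support_comap] at hx ⊢
    exact hinv ⟨x, hx, rfl⟩
  have hLrad : I.comap (Fr ≫ c₁) ≤ (I.comap c₂).radical := by
    calc I.comap (Fr ≫ c₁) ≤ (I.comap (Fr ≫ c₁)).radical := Scheme.IdealSheafData.le_radical _
      _ = Scheme.IdealSheafData.vanishingIdeal (I.comap (Fr ≫ c₁)).support :=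
          Scheme.IdealSheafData.vanishingIdeal_support.symm
      _ ≤ Scheme.IdealSheafData.vanishingIdeal (I.comap c₂).support :=
          Scheme.IdealSheafData.vanishingIdeal_antimono hsupp
      _ = (I.comap c₂).radical := Scheme.IdealSheafData.vanishingIdeal_support
  have key : ∀ U : C.affineOpens, (I.comap (Fr ≫ c₁)).ideal U ≤ (I.comap c₂).ideal U ∧
      (I.comap (Fr ≫ c₁)).ideal U ^ d ≤ (I.comap c₂).ideal U ^ (d + 1) := by
    intro U
    have hUU : U.1 ≤ frobN C p (e * n) ⁻¹ᵁ U.1 := (frobN_preimage C p (e * n) U.1).ge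
    have hL : (I.comap (Fr ≫ c₁)).ideal U = Ideal.span ((fun h => h ^ (p ^ (e * n))) ''
        ((I.comap (ρ ≫ c₁)).ideal U : Set Γ(C, U.1))) := by
      have e1 : I.comap (Fr ≫ c₁) = (I.comap (ρ ≫ c₁)).comap (frobN C p (e * n)) := by
        rw [hρ, Category.assoc, Scheme.IdealSheafData.comap_comp]
      rw [e1, Groth.Agent.Lib.Helper22.IdealComap.ideal_comap_eq_map _ _ U U hUU]
      exact congrArg Ideal.span
        (Set.image_congr fun h _ => frobN_appLE C p (e * n) U.1 hUU h)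
    refine contracting_of_span_pow _ _ (p ^ (e * n)) d hn _ hL ?_ ?_
    · exact hLrad U
    · exact hd U
  exact ⟨fun U => (key U).1, fun U => (key U).2⟩

lemma mem_support_comap {X Y : Scheme.{u}} (I : Y.IdealSheafData) (f : X ⟶ Y) (x : X) :
    x ∈ ((I.comap f).support : Set X) ↔ f x ∈ (I.support : Set Y) := by
  rw [Scheme.IdealSheafData.support_comap]; rfl

theorem main' {C C₀ X X₀ : Scheme.{u}} (p : ℕ)
    [Fact p.Prime] (k₀ : Type u) [Field k₀] [Fintype k₀] [CharP k₀ p] (e : ℕ)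
    (hq : Fintype.card k₀ = p ^ e) (K : Type u) [Field K] [Algebra k₀ K] [IsAlgClosure k₀ K]
    (f₀ : C₀ ⟶ Spec (CommRingCat.of k₀)) [FrobSch.IsCharP C₀ p]
    (πC₀ : C ⟶ C₀) (πK : C ⟶ Spec (CommRingCat.of K))
    (hC : IsPullback πC₀ πK f₀ (Spec.map (CommRingCat.ofHom (algebraMap k₀ K))))
    (n : ℕ) (Fr : C ⟶ C)
    (hFr₀ : Fr ≫ πC₀ = πC₀ ≫ End.asHom (End.of (FrobSch.frob C₀ p) ^ (e * n)))
    (hFrK : Fr ≫ πK = πK)
    (πX₀ : X ⟶ X₀) (c₁ c₂ : C ⟶ X) (c₁₀ : C₀ ⟶ X₀) (hc₁₀ : c₁ ≫ πX₀ = πC₀ ≫ c₁₀)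
    (I₀ : X₀.IdealSheafData) (d : ℕ)
    (hd : ((I₀.comap πX₀).comap c₂).radical ^ d ≤ (I₀.comap πX₀).comap c₂) (hn : d < p ^ (e * n))
    (hinv : c₁.base '' (c₂.base ⁻¹' ((I₀.comap πX₀).support : Set X)) ⊆
      ((I₀.comap πX₀).support : Set X)) :
    (I₀.comap πX₀).comap (Fr ≫ c₁) ≤ (I₀.comap πX₀).comap c₂ ∧
      (I₀.comap πX₀).comap (Fr ≫ c₁) ^ d ≤ (I₀.comap πX₀).comap c₂ ^ (d + 1) := by
  refine main p k₀ e hq K f₀ πC₀ πK hC n Fr hFr₀ hFrK c₁ c₂ (I₀.comap πX₀) d hd hn ?_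
  rintro _ ⟨x, hx, rfl⟩
  have hx1 : c₁ x ∈ ((I₀.comap πX₀).support : Set X) := hinv ⟨x, hx, rfl⟩
  rw [mem_support_comap] at hx1
  have e1 : (Fr ≫ c₁) ≫ πX₀ = (Fr ≫ πC₀) ≫ c₁₀ := by
    rw [Category.assoc, hc₁₀, Category.assoc]
  have e2 : πX₀ ((Fr ≫ c₁) x) = c₁₀ ((Fr ≫ πC₀) x) := by
    rw [← Scheme.Hom.comp_apply, ← Scheme.Hom.comp_apply, e1]
  have e3 : (Fr ≫ πC₀) x = πC₀ x := by
    rw [hFr₀, Scheme.Hom.comp_apply]
    exact frobN_apply C₀ p (e * n) (πC₀ x)
  have e4 : πX₀ (c₁ x) = c₁₀ (πC₀ x) := by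
    rw [← Scheme.Hom.comp_apply, ← Scheme.Hom.comp_apply, hc₁₀]
  change (Fr ≫ c₁) x ∈ ((I₀.comap πX₀).support : Set X)
  rw [mem_support_comap, e2, e3, ← e4]
  exact hx1

/-! ### A general form, and contraction near closed points in a neighbourhood of the fixed points -/

theorem core {W X : Scheme.{u}} (p : ℕ) [Fact p.Prime] [FrobSch.IsCharP W p] (m : ℕ)
    (a b : W ⟶ X) (I : X.IdealSheafData) (d : ℕ)
    (hd : (I.comap b).radical ^ d ≤ I.comap b) (hn : d < p ^ m)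
    (hinv : ∀ w : W, b w ∈ (I.support : Set X) → a w ∈ (I.support : Set X)) :
    I.comap (frobN W p m ≫ a) ≤ I.comap b ∧
      I.comap (frobN W p m ≫ a) ^ d ≤ I.comap b ^ (d + 1) := by
  have hsupp : (I.comap b).support ≤ (I.comap (frobN W p m ≫ a)).support := by
    intro x hx
    have hx' : x ∈ ((I.comap b).support : Set W) := hx
    rw [mem_support_comap] at hx'
    change x ∈ ((I.comap (frobN W p m ≫ a)).support : Set W)
    rw [mem_support_comap, Scheme.Hom.comp_apply, frobN_apply]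
    exact hinv x hx'
  have hLrad : I.comap (frobN W p m ≫ a) ≤ (I.comap b).radical := by
    calc I.comap (frobN W p m ≫ a) ≤ (I.comap (frobN W p m ≫ a)).radical :=
          Scheme.IdealSheafData.le_radical _
      _ = Scheme.IdealSheafData.vanishingIdeal (I.comap (frobN W p m ≫ a)).support :=
          Scheme.IdealSheafData.vanishingIdeal_support.symm
      _ ≤ Scheme.IdealSheafData.vanishingIdeal (I.comap b).support :=
          Scheme.IdealSheafData.vanishingIdeal_antimono hsupp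
      _ = (I.comap b).radical := Scheme.IdealSheafData.vanishingIdeal_support
  have key : ∀ U : W.affineOpens, (I.comap (frobN W p m ≫ a)).ideal U ≤ (I.comap b).ideal U ∧
      (I.comap (frobN W p m ≫ a)).ideal U ^ d ≤ (I.comap b).ideal U ^ (d + 1) := by
    intro U
    have hUU : U.1 ≤ frobN W p m ⁻¹ᵁ U.1 := (frobN_preimage W p m U.1).ge
    have hL : (I.comap (frobN W p m ≫ a)).ideal U = Ideal.span ((fun h => h ^ (p ^ m)) ''
        ((I.comap a).ideal U : Set Γ(W, U.1))) := by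
      rw [Scheme.IdealSheafData.comap_comp,
        Groth.Agent.Lib.Helper22.IdealComap.ideal_comap_eq_map _ _ U U hUU]
      exact congrArg Ideal.span
        (Set.image_congr fun h _ => frobN_appLE W p m U.1 hUU h)
    refine contracting_of_span_pow _ _ (p ^ m) d hn _ hL ?_ ?_
    · exact hLrad U
    · exact hd U
  exact ⟨fun U => (key U).1, fun U => (key U).2⟩

lemma radical_comap_of_isOpenImmersion {X Y : Scheme.{u}} (f : X ⟶ Y) [IsOpenImmersion f]
    (J : Y.IdealSheafData) : (J.comap f).radical = J.radical.comap f := by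
  apply Scheme.IdealSheafData.ext
  funext U
  change ((J.comap f).ideal U).radical = (J.radical.comap f).ideal U
  rw [Scheme.IdealSheafData.ideal_comap_of_isOpenImmersion,
    Scheme.IdealSheafData.ideal_comap_of_isOpenImmersion]
  exact (Ideal.comap_radical _ _).symm

theorem nhds_fix {C C₀ X : Scheme.{u}}
    (p : ℕ) [Fact p.Prime] (k₀ : Type u) [Field k₀] [Fintype k₀] [CharP k₀ p] (e : ℕ)
    (hq : Fintype.card k₀ = p ^ e) (K : Type u) [Field K] [Algebra k₀ K] [IsAlgClosure k₀ K]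
    (f₀ : C₀ ⟶ Spec (CommRingCat.of k₀)) [FrobSch.IsCharP C₀ p]
    (πC₀ : C ⟶ C₀) (πK : C ⟶ Spec (CommRingCat.of K))
    (hC : IsPullback πC₀ πK f₀ (Spec.map (CommRingCat.ofHom (algebraMap k₀ K))))
    (n : ℕ) (Fr : C ⟶ C)
    (hFr₀ : Fr ≫ πC₀ = πC₀ ≫ End.asHom (End.of (FrobSch.frob C₀ p) ^ (e * n)))
    (hFrK : Fr ≫ πK = πK)
    (pX : X ⟶ Spec (CommRingCat.of K))
    (c₁ c₂ : C ⟶ X)
    [LocallyQuasiFinite c₂]
    (hcomm : (Fr ≫ c₁) ≫ pX = c₂ ≫ pX) (d : ℕ) (hn : d < p ^ (e * n))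
    (x : X) (hx : IsClosed ({x} : Set X))
    (hd : ((Scheme.IdealSheafData.vanishingIdeal ⟨{x}, hx⟩).comap c₂).radical ^ d ≤
        (Scheme.IdealSheafData.vanishingIdeal ⟨{x}, hx⟩).comap c₂) :
    ∃ W : C.Opens,
      (pullback.lift (Fr ≫ c₁) c₂ hcomm).base ⁻¹' Set.range (pullback.diagonal pX).base ⊆
        (W : Set C) ∧
      (Scheme.IdealSheafData.vanishingIdeal ⟨{x}, hx⟩).comap (W.ι ≫ Fr ≫ c₁) ≤
        (Scheme.IdealSheafData.vanishingIdeal ⟨{x}, hx⟩).comap (W.ι ≫ c₂) ∧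
      (Scheme.IdealSheafData.vanishingIdeal ⟨{x}, hx⟩).comap (W.ι ≫ Fr ≫ c₁) ^ d ≤
        (Scheme.IdealSheafData.vanishingIdeal ⟨{x}, hx⟩).comap (W.ι ≫ c₂) ^ (d + 1) := by
  haveI : FrobSch.IsCharP C p := FrobSch.IsCharP.of_hom πC₀ p
  obtain ⟨ρ, hρ⟩ := exists_factor p k₀ e hq K f₀ πC₀ πK hC n Fr hFr₀ hFrK
  have hpt : ∀ y : C, (Fr ≫ c₁) y = (ρ ≫ c₁) y := by
    intro y
    rw [hρ, Category.assoc, Scheme.Hom.comp_apply, frobN_apply]
  have hT : IsClosed {y : C | c₂ y = x ∧ (Fr ≫ c₁) y ≠ x} :=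
    isClosed_of_subset_discrete_closed (t := c₂ ⁻¹' {x}) (fun y hy => hy.1)
      (c₂.isDiscrete_preimage_singleton x) (hx.preimage c₂.continuous)
  refine ⟨⟨{y : C | c₂ y = x ∧ (Fr ≫ c₁) y ≠ x}ᶜ, hT.isOpen_compl⟩, ?_, ?_⟩
  · rintro y ⟨z, hz⟩ ⟨hy1, hy2⟩
    apply hy2
    have h1 : (pullback.fst pX pX) ((pullback.lift (Fr ≫ c₁) c₂ hcomm) y) = (Fr ≫ c₁) y := by
      rw [← Scheme.Hom.comp_apply, pullback.lift_fst]
    have h2 : (pullback.snd pX pX) ((pullback.lift (Fr ≫ c₁) c₂ hcomm) y) = c₂ y := by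
      rw [← Scheme.Hom.comp_apply, pullback.lift_snd]
    have h3 : (pullback.fst pX pX) ((pullback.diagonal pX) z) = z := by
      rw [← Scheme.Hom.comp_apply, pullback.diagonal_fst]; rfl
    have h4 : (pullback.snd pX pX) ((pullback.diagonal pX) z) = z := by
      rw [← Scheme.Hom.comp_apply, pullback.diagonal_snd]; rfl
    have hz' : (pullback.diagonal pX) z = (pullback.lift (Fr ≫ c₁) c₂ hcomm) y := hz
    rw [← h1, ← hz', h3, ← h4, hz', h2, hy1]
  · set W : C.Opens := ⟨{y : C | c₂ y = x ∧ (Fr ≫ c₁) y ≠ x}ᶜ, hT.isOpen_compl⟩ with hWdef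
    haveI : FrobSch.IsCharP W.toScheme p := FrobSch.IsCharP.of_hom W.ι p
    have heq : frobN W.toScheme p (e * n) ≫ (W.ι ≫ ρ ≫ c₁) = W.ι ≫ Fr ≫ c₁ := by
      rw [← Category.assoc, frobN_comp, hρ]
      simp only [Category.assoc]
    have hdW : ((Scheme.IdealSheafData.vanishingIdeal ⟨{x}, hx⟩).comap (W.ι ≫ c₂)).radical ^ d ≤
        (Scheme.IdealSheafData.vanishingIdeal ⟨{x}, hx⟩).comap (W.ι ≫ c₂) := by
      rw [Scheme.IdealSheafData.comap_comp, radical_comap_of_isOpenImmersion,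
        ← Groth.Agent.Lib.T2H2.IdealComapPow.comap_pow]
      exact Scheme.IdealSheafData.comap_mono _ hd
    have hinvW : ∀ w : W.toScheme,
        (W.ι ≫ c₂) w ∈ ((Scheme.IdealSheafData.vanishingIdeal ⟨{x}, hx⟩).support : Set X) →
        (W.ι ≫ ρ ≫ c₁) w ∈
          ((Scheme.IdealSheafData.vanishingIdeal ⟨{x}, hx⟩).support : Set X) := by
      intro w hw
      rw [Scheme.IdealSheafData.coe_support_vanishingIdeal] at hw ⊢
      have hw1 : c₂ (W.ι w) = x := hw
      have hwW : W.ι w ∈ (W : Set C) := by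
        have := Set.mem_range_self (f := W.ι) w
        rwa [Scheme.Opens.range_ι] at this
      have hw2 : (Fr ≫ c₁) (W.ι w) = x := by
        by_contra hne
        exact hwW ⟨hw1, hne⟩
      rw [hpt] at hw2
      exact hw2
    have := core p (e * n) (W.ι ≫ ρ ≫ c₁) (W.ι ≫ c₂)
      (Scheme.IdealSheafData.vanishingIdeal ⟨{x}, hx⟩) d hdW hn hinvW
    rw [heq] at this
    exact this

end Groth.Agent.Lib.LeadFrobTwist
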