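import Mathlib
import Groth.Agent.Lib.LeadFrobTwist
import Groth.Agent.Lib.LeadContractFix
import Groth.Agent.Lib.Helper10GaloisOrbit

set_option maxHeartbeats 400000
set_option linter.style.haveILetI false
set_option linter.unusedSectionVars false
set_option autoImplicit false
universe u

/-!
# The fixed points of a Frobenius-twisted correspondence are finite and discrete
-/

namespace Groth.Agent.Lib.LeadFixFinite

open AlgebraicGeometry CategoryTheory CategoryTheory.Limits TopologicalSpace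

/-- Over an algebraically closed field, morphisms between schemes locally of finite type map closed
points to closed points. -/
lemma isClosed_image_of_isClosed {X Y : Scheme.{u}} (K : Type u) [Field K] [IsAlgClosed K]
    (pY : Y ⟶ Spec (CommRingCat.of K)) [LocallyOfFiniteType pY]
    (pX : X ⟶ Spec (CommRingCat.of K)) [LocallyOfFiniteType pX]
    (g : Y ⟶ X) (hg : g ≫ pX = pY) (y : Y) (hy : IsClosed ({y} : Set Y)) :
    IsClosed ({g y} : Set X) := by
  have hp : (pointOfClosedPoint pY y hy ≫ g) ≫ pX =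
      Spec.map (CommRingCat.ofHom (algebraMap K K)) := by
    rw [Category.assoc, hg, pointOfClosedPoint_comp]
    exact (Spec.map_id _).symm
  have h := Groth.Agent.Lib.Helper10.GaloisOrbit.isClosed_of_point K K pX
    (pointOfClosedPoint pY y hy ≫ g) hp
  have e1 : (pointOfClosedPoint pY y hy ≫ g) (IsLocalRing.closedPoint K) = g y :=
    (Scheme.Hom.comp_apply _ _ _).trans
      (congrArg (fun z => g z) (pointOfClosedPoint_apply pY y hy _))
  rw [e1] at h
  exact h

theorem main {C C₀ X Fx : Scheme.{u}}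
    (p : ℕ) [Fact p.Prime] (k₀ : Type u) [Field k₀] [Fintype k₀] [CharP k₀ p] (e : ℕ)
    (hq : Fintype.card k₀ = p ^ e) (K : Type u) [Field K] [Algebra k₀ K] [IsAlgClosure k₀ K]
    (f₀ : C₀ ⟶ Spec (CommRingCat.of k₀)) [LocallyOfFiniteType f₀] [QuasiCompact f₀]
    [FrobSch.IsCharP C₀ p]
    (πC₀ : C ⟶ C₀) (πK : C ⟶ Spec (CommRingCat.of K))
    (hC : IsPullback πC₀ πK f₀ (Spec.map (CommRingCat.ofHom (algebraMap k₀ K))))
    (n : ℕ) (Fr : C ⟶ C)
    (hFr₀ : Fr ≫ πC₀ = πC₀ ≫ End.asHom (End.of (FrobSch.frob C₀ p) ^ (e * n)))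
    (hFrK : Fr ≫ πK = πK)
    (pX : X ⟶ Spec (CommRingCat.of K)) [LocallyOfFiniteType pX]
    (c₁ c₂ : C ⟶ X) (hc₂ : c₂ ≫ pX = πK)
    [LocallyQuasiFinite c₂] [LocallyOfFiniteType c₂]
    (hcomm : (Fr ≫ c₁) ≫ pX = c₂ ≫ pX) (d : ℕ) (hn : d < p ^ (e * n))
    (hd : ∀ (x : X) (hx : IsClosed ({x} : Set X)),
      ((Scheme.IdealSheafData.vanishingIdeal ⟨{x}, hx⟩).comap c₂).radical ^ d ≤
        (Scheme.IdealSheafData.vanishingIdeal ⟨{x}, hx⟩).comap c₂)
    (i : Fx ⟶ C) (δ : Fx ⟶ X)
    (hF : IsPullback i δ (pullback.lift (Fr ≫ c₁) c₂ hcomm) (pullback.diagonal pX)) :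
    Finite Fx ∧ DiscreteTopology Fx := by
  haveI : IsAlgClosed K := IsAlgClosure.isAlgClosed k₀
  haveI : LocallyOfFiniteType πK :=
    MorphismProperty.of_isPullback (P := @LocallyOfFiniteType) hC inferInstance
  haveI : QuasiCompact πK :=
    MorphismProperty.of_isPullback (P := @QuasiCompact) hC inferInstance
  haveI : IsLocallyNoetherian (Spec (CommRingCat.of K)) := by
    rw [isLocallyNoetherian_Spec]
    infer_instance
  haveI : IsLocallyNoetherian C := LocallyOfFiniteType.isLocallyNoetherian πK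
  haveI : CompactSpace C := QuasiCompact.compactSpace_of_compactSpace πK
  haveI : IsNoetherian C := {}
  haveI : IsImmersion i := MorphismProperty.of_isPullback (P := @IsImmersion) hF.flip inferInstance
  haveI : NoetherianSpace Fx := i.isEmbedding.toIsInducing.noetherianSpace
  have h2 : i ≫ c₂ = δ := by
    have h := congrArg (fun f => f ≫ pullback.snd pX pX) hF.w
    simp only [Category.assoc, pullback.lift_snd, pullback.diagonal_snd, Category.comp_id] at h
    exact h
  have hδ : δ ≫ pX = i ≫ πK := by rw [← h2, Category.assoc, hc₂]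
  have hdisc : DiscreteTopology Fx := by
    rw [discreteTopology_iff_isOpen_singleton]
    intro y
    obtain ⟨y₀, hy₀, hy₀c⟩ := IsClosed.exists_closed_singleton (isClosed_closure (s := {y}))
      ⟨y, subset_closure rfl⟩
    have hx₀ : IsClosed ({δ y₀} : Set X) :=
      isClosed_image_of_isClosed K (i ≫ πK) pX δ hδ y₀ hy₀c
    obtain ⟨W, hW1, -, hW3⟩ := Groth.Agent.Lib.LeadFrobTwist.nhds_fix p k₀ e hq K f₀ πC₀ πK hC n Fr
      hFr₀ hFrK pX c₁ c₂ hcomm d hn (δ y₀) hx₀ (hd (δ y₀) hx₀)
    have hWr : Set.range i.base ⊆ (W : Set C) := by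
      rintro _ ⟨z, rfl⟩
      apply hW1
      refine ⟨δ z, ?_⟩
      have := congrArg (fun f : Fx ⟶ pullback pX pX => f z) hF.w
      exact this.symm
    have hcl := Groth.Agent.Lib.LeadContractFix.isClopen_preimage_support K πK pX (Fr ≫ c₁) c₂ hcomm
      i δ hF (Scheme.IdealSheafData.vanishingIdeal ⟨{δ y₀}, hx₀⟩) W hWr d
      (by simpa only [Category.assoc] using hW3)
    rw [Scheme.IdealSheafData.coe_support_vanishingIdeal] at hcl
    change IsClopen (δ ⁻¹' {δ y₀}) at hcl
    -- y lies in the clopen set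
    have hyS : y ∈ δ ⁻¹' {δ y₀} := by
      obtain ⟨z, hz1, hz2⟩ := mem_closure_iff.mp hy₀ _ hcl.2 rfl
      rw [Set.mem_singleton_iff] at hz2
      rwa [hz2] at hz1
    have hSd : _root_.IsDiscrete (δ ⁻¹' {δ y₀}) := by
      refine (i.isDiscrete_preimage (c₂.isDiscrete_preimage_singleton (δ y₀))).mono ?_
      intro z hz
      change c₂ (i z) ∈ ({δ y₀} : Set X)
      rw [← Scheme.Hom.comp_apply, h2]
      exact hz
    obtain ⟨u, hu, hu2⟩ := isDiscrete_iff_forall_mem_exists_isOpen.mp hSd y hyS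
    rw [← hu2]
    exact hu.inter hcl.2
  exact ⟨@finite_of_compact_of_discrete _ _ inferInstance hdisc, hdisc⟩

end Groth.Agent.Lib.LeadFixFinite
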