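import Groth.Agent.Lib.LeadZetaGeomA
import Groth.Prelude.Def_FinFr

/-!
# The fixed scheme of `Frob × id` on `X ×_k k̄` is reduced and finite (lead)
-/

set_option maxHeartbeats 400000
set_option autoImplicit false
set_option linter.style.haveILetI false
set_option linter.unusedSectionVars false

universe u

open AlgebraicGeometry CategoryTheory Limits

namespace Groth.Agent.Lib.LeadFixRed

open Groth.Agent.Lib.Helper4.VarDim Groth.Agent.Lib.LeadWeilFrob Groth.Agent.Lib.LeadZeta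

section Gen

variable {K : Type u} [Field K] {Y : Scheme.{u}} (g : Y ⟶ Spec (CommRingCat.of K)) (F : Y ⟶ Y)
  (hF : F ≫ g = g)

/-- the graph of `F` -/
noncomputable def gr : Y ⟶ pullback g g := pullback.lift (𝟙 Y) F (by rw [hF, Category.id_comp])

/-- the diagonal -/
noncomputable def dg : Y ⟶ pullback g g := pullback.lift (𝟙 Y) (𝟙 Y) rfl

lemma gr_fst : gr g F hF ≫ pullback.fst g g = 𝟙 Y := pullback.lift_fst _ _ _
lemma gr_snd : gr g F hF ≫ pullback.snd g g = F := pullback.lift_snd _ _ _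
lemma dg_fst : dg g ≫ pullback.fst g g = 𝟙 Y := pullback.lift_fst _ _ _
lemma dg_snd : dg g ≫ pullback.snd g g = 𝟙 Y := pullback.lift_snd _ _ _

instance : IsImmersion (dg g) := inferInstanceAs (IsImmersion (pullback.diagonal g))

/-- the inclusion of the fixed scheme -/
noncomputable def fixι : FinFr.fixScheme g F hF ⟶ Y := pullback.fst (gr g F hF) (dg g)

instance : IsImmersion (fixι g F hF) :=
  inferInstanceAs (IsImmersion (pullback.fst (gr g F hF) (dg g)))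

lemma fixι_comp : fixι g F hF ≫ F = fixι g F hF := by
  have hc : pullback.fst (gr g F hF) (dg g) ≫ gr g F hF =
      pullback.snd (gr g F hF) (dg g) ≫ dg g := pullback.condition
  have h1 := hc =≫ pullback.fst g g
  rw [Category.assoc, Category.assoc, gr_fst, dg_fst, Category.comp_id, Category.comp_id] at h1
  have h2 := hc =≫ pullback.snd g g
  rw [Category.assoc, Category.assoc, gr_snd, dg_snd, Category.comp_id] at h2
  change pullback.fst (gr g F hF) (dg g) ≫ F = pullback.fst (gr g F hF) (dg g)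
  rw [h2, ← h1]

end Gen

section Core

attribute [local instance] sectionsAlgebra Curv2.resAlgebra

lemma stalk_core (k₀ : Type u) [Field k₀] (k : Type u) [Field k] [IsAlgClosed k] [Algebra k₀ k]
    {X Y : Scheme.{u}} (f : X ⟶ Spec (CommRingCat.of k₀)) [Y.Over (Spec (CommRingCat.of k))]
    [LocallyOfFiniteType (Y ↘ Spec (CommRingCat.of k))]
    (π : Y ⟶ X)
    (hπ : IsPullback π (Y ↘ Spec (CommRingCat.of k)) f
      (Spec.map (CommRingCat.ofHom (algebraMap k₀ k))))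
    (Q : ℕ) (hQ2 : 2 ≤ Q) (hQk : (Q : k) = 0)
    (FX : X ⟶ X) (hFb : FX.base = 𝟙 _) (hle : ∀ U : X.Opens, U ≤ FX ⁻¹ᵁ U)
    (hFapp : ∀ (U : X.Opens) (s : Γ(X, U)), (FX.appLE U U (hle U)).hom s = s ^ Q)
    (Φ : Y ⟶ Y) (hΦπ : Φ ≫ π = π ≫ FX)
    {Z : Scheme.{u}} (ι : Z ⟶ Y) [IsImmersion ι] (hιΦ : ι ≫ Φ = ι) (z : Z) :
    _root_.IsReduced (Z.presheaf.stalk z) ∧ IsClosed ({ι z} : Set Y) := by
  obtain ⟨U₀, hU₀, hxU, -⟩ := TopologicalSpace.Opens.isBasis_iff_nbhd.mp (Scheme.isBasis_affineOpens X)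
    (show π (ι z) ∈ (⊤ : X.Opens) from trivial)
  have hw : ι z ∈ π ⁻¹ᵁ U₀ := hxU
  have hV : π ⁻¹ᵁ U₀ ≤ Φ ⁻¹ᵁ π ⁻¹ᵁ U₀ := preimage_le_frob π FX hFb Φ hΦπ U₀
  have hz : z ∈ ι ⁻¹ᵁ π ⁻¹ᵁ U₀ := hw
  have hI : RingHom.ker (ι.stalkMap z).hom ≤ IsLocalRing.maximalIdeal (Y.presheaf.stalk (ι z)) :=
    IsLocalRing.le_maximalIdeal (RingHom.ker_ne_top _)
  have Hmem : ∀ b : Γ(Y, π ⁻¹ᵁ U₀), (Y.presheaf.germ (π ⁻¹ᵁ U₀) (ι z) hw).hom
      ((Φ.appLE (π ⁻¹ᵁ U₀) (π ⁻¹ᵁ U₀) hV).hom b - b) ∈ RingHom.ker (ι.stalkMap z).hom := by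
    intro b
    rw [RingHom.mem_ker,
      stalkMap_germ_appLE ι (π ⁻¹ᵁ U₀) (ι ⁻¹ᵁ π ⁻¹ᵁ U₀) le_rfl z hz, map_sub,
      appLE_appLE_apply ι Φ (π ⁻¹ᵁ U₀) (π ⁻¹ᵁ U₀) (ι ⁻¹ᵁ π ⁻¹ᵁ U₀) hV le_rfl ι hιΦ le_rfl b,
      sub_self, map_zero]
  have Hev : ∀ b : Γ(Y, π ⁻¹ᵁ U₀),
      (Y.evaluation (π ⁻¹ᵁ U₀) (ι z) hw).hom ((Φ.appLE (π ⁻¹ᵁ U₀) (π ⁻¹ᵁ U₀) hV).hom b) =
        (Y.evaluation (π ⁻¹ᵁ U₀) (ι z) hw).hom b := by
    intro b
    have h1 := hI (Hmem b)
    have h2 : (Y.evaluation (π ⁻¹ᵁ U₀) (ι z) hw).hom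
        ((Φ.appLE (π ⁻¹ᵁ U₀) (π ⁻¹ᵁ U₀) hV).hom b - b) = 0 :=
      (IsLocalRing.residue_eq_zero_iff _).mpr h1
    rw [map_sub, sub_eq_zero] at h2
    exact h2
  have halg : Algebra.IsAlgebraic k (Y.residueField (ι z)) :=
    isAlgebraic_of_eval_eq k₀ k f π hπ Q hQ2 FX hFb hle hFapp Φ hΦπ U₀ hU₀ (ι z) hw Hev
  have Hbij := bijective_of_isAlgebraic k (ι z) halg
  have hmax := maximalIdeal_le_of_germ_sub_mem k₀ k f π hπ Q hQk FX hFb hle hFapp Φ hΦπ U₀ hU₀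
    (ι z) hw _ hI Hmem Hbij
  refine ⟨⟨fun x hx => ?_⟩, isClosed_of_isAlgebraic k (ι z) halg⟩
  obtain ⟨a, rfl⟩ := ι.stalkMap_surjective z x
  obtain ⟨n, hn⟩ := hx
  have h1 : a ^ n ∈ RingHom.ker (ι.stalkMap z).hom := by
    rw [RingHom.mem_ker, map_pow]; exact hn
  have h2 : a ∈ IsLocalRing.maximalIdeal (Y.presheaf.stalk (ι z)) :=
    (IsLocalRing.maximalIdeal.isMaximal _).isPrime.mem_of_pow_mem n (hI h1)
  exact RingHom.mem_ker.mp (hmax h2)

end Core

section Main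

variable {k₀ : Type u} [Field k₀] [Finite k₀] (K : Type u) [Field K] [IsAlgClosed K] [Algebra k₀ K]
  {X : Scheme.{u}} (f : X ⟶ Spec (CommRingCat.of k₀)) [LocallyOfFiniteType f]
  (FX : X ⟶ X) (hFb : FX.base = 𝟙 _) (hle : ∀ U : X.Opens, U ≤ FX ⁻¹ᵁ U)
  (hFapp : ∀ (U : X.Opens) (s : Γ(X, U)), (FX.appLE U U (hle U)).hom s = s ^ Nat.card k₀)
  (F : FinFr.ext K f ⟶ FinFr.ext K f)
  (hF1 : F ≫ FinFr.extπ K f = FinFr.extπ K f ≫ FX)
  (hF2 : F ≫ FinFr.extStr K f = FinFr.extStr K f)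

include hFb hFapp hF1 in
lemma stalk_main (z : FinFr.fixScheme (FinFr.extStr K f) F hF2) :
    _root_.IsReduced ((FinFr.fixScheme (FinFr.extStr K f) F hF2).presheaf.stalk z) ∧
      IsClosed ({fixι (FinFr.extStr K f) F hF2 z} : Set (FinFr.ext K f)) := by
  letI : (FinFr.ext K f).Over (Spec (CommRingCat.of K)) := ⟨FinFr.extStr K f⟩
  haveI : LocallyOfFiniteType ((FinFr.ext K f) ↘ Spec (CommRingCat.of K)) :=
    inferInstanceAs (LocallyOfFiniteType (pullback.snd f (FinFr.specι k₀ K)))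
  have hπ : IsPullback (FinFr.extπ K f) ((FinFr.ext K f) ↘ Spec (CommRingCat.of K)) f
      (Spec.map (CommRingCat.ofHom (algebraMap k₀ K))) := IsPullback.of_hasPullback f _
  have hQ2 : 2 ≤ Nat.card k₀ := Finite.one_lt_card
  have hQk : ((Nat.card k₀ : ℕ) : K) = 0 := by
    haveI := Fintype.ofFinite k₀
    have h0 : ((Fintype.card k₀ : ℕ) : k₀) = 0 := FiniteField.cast_card_eq_zero k₀
    rw [Nat.card_eq_fintype_card, ← map_natCast (algebraMap k₀ K), h0, map_zero]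
  exact stalk_core k₀ K f (FinFr.extπ K f) hπ (Nat.card k₀) hQ2 hQk FX hFb hle hFapp F hF1
    (fixι (FinFr.extStr K f) F hF2) (fixι_comp _ F hF2) z

include hFb hFapp hF1 in
theorem isReduced_fix : IsReduced (FinFr.fixScheme (FinFr.extStr K f) F hF2) := by
  haveI : ∀ z : ↥(FinFr.fixScheme (FinFr.extStr K f) F hF2),
      _root_.IsReduced ((FinFr.fixScheme (FinFr.extStr K f) F hF2).presheaf.stalk z) :=
    fun z => (stalk_main K f FX hFb hle hFapp F hF1 hF2 z).1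
  exact isReduced_of_isReduced_stalk _

include hFb hFapp hF1 in
theorem finite_fix [QuasiCompact f] : Finite ↥(FinFr.fixScheme (FinFr.extStr K f) F hF2) := by
  haveI : IsLocallyNoetherian (FinFr.ext K f) :=
    LocallyOfFiniteType.isLocallyNoetherian (FinFr.extStr K f)
  haveI : CompactSpace ↥(FinFr.ext K f) :=
    QuasiCompact.compactSpace_of_compactSpace (FinFr.extStr K f)
  haveI : QuasiCompact (dg (FinFr.extStr K f)) :=
    inferInstanceAs (QuasiCompact (pullback.diagonal (FinFr.extStr K f)))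
  haveI : QuasiCompact (fixι (FinFr.extStr K f) F hF2) :=
    inferInstanceAs (QuasiCompact (pullback.fst (gr (FinFr.extStr K f) F hF2)
      (dg (FinFr.extStr K f))))
  haveI : IsLocallyNoetherian (FinFr.fixScheme (FinFr.extStr K f) F hF2) :=
    LocallyOfFiniteType.isLocallyNoetherian (fixι (FinFr.extStr K f) F hF2)
  haveI : CompactSpace ↥(FinFr.fixScheme (FinFr.extStr K f) F hF2) :=
    QuasiCompact.compactSpace_of_compactSpace (fixι (FinFr.extStr K f) F hF2)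
  haveI : IsNoetherian (FinFr.fixScheme (FinFr.extStr K f) F hF2) := { }
  have hinj : Function.Injective (fixι (FinFr.extStr K f) F hF2) :=
    (fixι (FinFr.extStr K f) F hF2).isEmbedding.injective
  have hcl : ∀ z : ↥(FinFr.fixScheme (FinFr.extStr K f) F hF2),
      IsClosed ({z} : Set ↥(FinFr.fixScheme (FinFr.extStr K f) F hF2)) := fun z => by
    have h := (stalk_main K f FX hFb hle hFapp F hF1 hF2 z).2
    have he : ({z} : Set ↥(FinFr.fixScheme (FinFr.extStr K f) F hF2)) =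
        (fixι (FinFr.extStr K f) F hF2) ⁻¹' {fixι (FinFr.extStr K f) F hF2 z} := by
      ext y
      rw [Set.mem_preimage, Set.mem_singleton_iff, Set.mem_singleton_iff, hinj.eq_iff]
    rw [he]
    exact h.preimage (fixι (FinFr.extStr K f) F hF2).continuous
  exact Set.finite_univ_iff.mp
    (finite_of_forall_isClosed_singleton Set.univ isClosed_univ (fun z _ => hcl z))

end Main

end Groth.Agent.Lib.LeadFixRed
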