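import Groth.Agent.Lib.LeadZetaCount
import Groth.Prelude.Def_FinFr

/-!
# A closed subset of `X ×_k k̄` descends to `X` iff it is stable under `Frob × id` (lead)
-/

set_option maxHeartbeats 400000
set_option autoImplicit false
set_option linter.style.haveILetI false
set_option linter.unusedSectionVars false

universe u

open AlgebraicGeometry CategoryTheory Limits

namespace Groth.Agent.Lib.LeadFrobDescend

open Groth.Agent.Lib.LeadZeta Groth.Agent.Lib.Helper10.GaloisOrbit

section Field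

/-- two embeddings of a finite extension of a finite field differ by a power of Frobenius -/
lemma exists_pow_frob (k L K : Type*) [Field k] [Finite k] [Field L] [Algebra k L] [Finite L]
    [Field K] [Algebra k K] (φ₁ φ₂ : L →ₐ[k] K) :
    ∃ j : ℕ, ∀ v : L, φ₂ v = φ₁ (v ^ (Nat.card k ^ j)) := by
  haveI := Fintype.ofFinite k
  haveI : FiniteDimensional k L := inferInstance
  have hbij := FiniteField.bijective_frobeniusAlgHom_pow k L
  have hΨ : Function.Injective
      (fun n : Fin (Module.finrank k L) => φ₁.comp (FiniteField.frobeniusAlgHom k L ^ n.1)) := by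
    intro a b hab
    apply hbij.1
    apply AlgHom.ext
    intro v
    have h1 := congrArg (fun ψ : L →ₐ[k] K => ψ v) hab
    exact (φ₁ : L →+* K).injective h1
  have hle : Nat.card (L →ₐ[k] K) ≤ Nat.card (Fin (Module.finrank k L)) := by
    rw [Nat.card_fin]; exact card_algHom_le_finrank k L K
  obtain ⟨n, hn⟩ := (hΨ.bijective_of_nat_card_le hle).2 φ₂
  refine ⟨n.1, fun v => ?_⟩
  have h1 := congrArg (fun ψ : L →ₐ[k] K => ψ v) hn
  have h2 : (FiniteField.frobeniusAlgHom k L ^ n.1) v = v ^ (Fintype.card k ^ n.1) := by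
    rw [AlgHom.coe_pow, FiniteField.coe_frobeniusAlgHom, pow_iterate]
  rw [Nat.card_eq_fintype_card, ← h2]
  exact h1.symm

end Field

section Res

variable {k : Type u} [Field k] {X : Scheme.{u}}
  (FX : X ⟶ X) (hFb : FX.base = 𝟙 _) (hle : ∀ U : X.Opens, U ≤ FX ⁻¹ᵁ U)
  (hFapp : ∀ (U : X.Opens) (s : Γ(X, U)), (FX.appLE U U (hle U)).hom s = s ^ Nat.card k)

include hFb hFapp in
lemma fromSpecResidueField_frob (x : X) :
    ∃ ρ : X.residueField x ⟶ X.residueField x, (∀ v, ρ.hom v = v ^ Nat.card k) ∧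
      X.fromSpecResidueField x ≫ FX = Spec.map ρ ≫ X.fromSpecResidueField x := by
  have e : x = FX x := by
    have := congrArg (fun (h : X.toTopCat ⟶ X.toTopCat) => h x) hFb
    exact this.symm
  refine ⟨(X.residueFieldCongr e).hom ≫ FX.residueFieldMap x,
    fun v => frob_residue (Nat.card k) FX hle hFapp x e v, ?_⟩
  rw [Spec.map_comp, Category.assoc, Scheme.residueFieldCongr_fromSpecResidueField,
    Scheme.Hom.SpecMap_residueFieldMap_fromSpecResidueField]

end Res

section Scheme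

variable {k : Type u} [Field k] [Finite k] (K : Type u) [Field K] [IsAlgClosed K] [Algebra k K]
  [Algebra.IsAlgebraic k K]
  {X : Scheme.{u}} (f : X ⟶ Spec (CommRingCat.of k)) [LocallyOfFiniteType f]
  (FX : X ⟶ X) (hFb : FX.base = 𝟙 _) (hle : ∀ U : X.Opens, U ≤ FX ⁻¹ᵁ U)
  (hFapp : ∀ (U : X.Opens) (s : Γ(X, U)), (FX.appLE U U (hle U)).hom s = s ^ Nat.card k)
  (F : FinFr.ext K f ⟶ FinFr.ext K f)
  (hF1 : F ≫ FinFr.extπ K f = FinFr.extπ K f ≫ FX)
  (hF2 : F ≫ FinFr.extStr K f = FinFr.extStr K f)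
  (W : Set ↑(FinFr.ext K f)) (hFW : F.base '' W ⊆ W)

include hFb hF1 in
lemma base_frob (w : ↑(FinFr.ext K f)) :
    (FinFr.extπ K f).base (F.base w) = (FinFr.extπ K f).base w := by
  have h1 : (F ≫ FinFr.extπ K f).base w = (FinFr.extπ K f ≫ FX).base w := by rw [hF1]
  have h2 : FX.base ((FinFr.extπ K f).base w) = (FinFr.extπ K f).base w := by rw [hFb]; rfl
  exact h1.trans h2

include hFb hFapp hF1 hF2 hFW in
lemma key (x : X) (s' : Spec (CommRingCat.of K) ⟶ FinFr.ext K f)
    (hs' : s' ≫ FinFr.extStr K f = 𝟙 _)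
    (φ' : X.residueField x ⟶ CommRingCat.of K)
    (hφ' : s' ≫ FinFr.extπ K f = Spec.map φ' ≫ X.fromSpecResidueField x) :
    ∀ (j : ℕ) (s : Spec (CommRingCat.of K) ⟶ FinFr.ext K f)
      (_ : s ≫ FinFr.extStr K f = 𝟙 _)
      (_ : s (IsLocalRing.closedPoint K) ∈ W) (φ : X.residueField x ⟶ CommRingCat.of K)
      (_ : s ≫ FinFr.extπ K f = Spec.map φ ≫ X.fromSpecResidueField x)
      (_ : ∀ v, φ'.hom v = φ.hom (v ^ (Nat.card k ^ j))),
      s' (IsLocalRing.closedPoint K) ∈ W := by
  intro j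
  induction j with
  | zero =>
    intro s hs hsW φ hφ hj
    have hφφ : φ' = φ := by
      ext v
      exact (hj v).trans (by rw [pow_zero, pow_one])
    have hss : s' = s := by
      apply pullback.hom_ext
      · rw [hφ', hφ, hφφ]
      · rw [hs', hs]
    rw [hss]; exact hsW
  | succ j ih =>
    intro s hs hsW φ hφ hj
    obtain ⟨ρ, hρ, hρF⟩ := fromSpecResidueField_frob (k := k) FX hFb hle hFapp x
    refine ih (s ≫ F) ?_ ?_ (ρ ≫ φ) ?_ ?_
    · rw [Category.assoc, hF2, hs]
    · have h1 : (s ≫ F) (IsLocalRing.closedPoint K) = F.base (s (IsLocalRing.closedPoint K)) :=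
        Scheme.Hom.comp_apply s F _
      rw [h1]
      exact hFW ⟨_, hsW, rfl⟩
    · rw [Category.assoc, hF1, ← Category.assoc, hφ, Category.assoc, hρF, ← Category.assoc,
        ← Spec.map_comp]
    · intro v
      rw [hj v]
      change φ.hom (v ^ Nat.card k ^ (j + 1)) = φ.hom (ρ.hom (v ^ Nat.card k ^ j))
      rw [hρ, ← pow_mul, ← pow_succ]

include hFb hFapp hF1 hF2 hFW in
lemma mem_of_same_image (w w' : ↑(FinFr.ext K f))
    (hwcl : IsClosed ({w} : Set ↑(FinFr.ext K f))) (hw'cl : IsClosed ({w'} : Set ↑(FinFr.ext K f)))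
    (hwW : w ∈ W) (hwx : (FinFr.extπ K f).base w = (FinFr.extπ K f).base w') : w' ∈ W := by
  obtain ⟨x, hx⟩ : ∃ x : X, (FinFr.extπ K f).base w' = x := ⟨_, rfl⟩
  rw [hx] at hwx
  obtain ⟨s, hsdef⟩ : ∃ s, s = pointOfClosedPoint (FinFr.extStr K f) w hwcl := ⟨_, rfl⟩
  obtain ⟨s', hs'def⟩ : ∃ s', s' = pointOfClosedPoint (FinFr.extStr K f) w' hw'cl := ⟨_, rfl⟩
  have hs : s ≫ FinFr.extStr K f = 𝟙 _ := by rw [hsdef, pointOfClosedPoint_comp]
  have hs' : s' ≫ FinFr.extStr K f = 𝟙 _ := by rw [hs'def, pointOfClosedPoint_comp]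
  have hsw : s (IsLocalRing.closedPoint K) = w := by
    rw [hsdef]; exact pointOfClosedPoint_apply _ _ _ _
  have hs'w : s' (IsLocalRing.closedPoint K) = w' := by
    rw [hs'def]; exact pointOfClosedPoint_apply _ _ _ _
  have hpx : (s ≫ FinFr.extπ K f) (IsLocalRing.closedPoint K) = x :=
    (Scheme.Hom.comp_apply s (FinFr.extπ K f) _).trans
      ((congrArg (fun y => (FinFr.extπ K f) y) hsw).trans hwx)
  have hp'x : (s' ≫ FinFr.extπ K f) (IsLocalRing.closedPoint K) = x :=
    (Scheme.Hom.comp_apply s' (FinFr.extπ K f) _).trans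
      ((congrArg (fun y => (FinFr.extπ K f) y) hs'w).trans hx)
  obtain ⟨φ, hφ⟩ := exists_eq_comp K x (s ≫ FinFr.extπ K f) hpx
  obtain ⟨φ', hφ'⟩ := exists_eq_comp K x (s' ≫ FinFr.extπ K f) hp'x
  have hpf : (s ≫ FinFr.extπ K f) ≫ f = Spec.map (CommRingCat.ofHom (algebraMap k K)) := by
    rw [Category.assoc, pullback.condition, ← Category.assoc, hs, Category.id_comp]
  have hp'f : (s' ≫ FinFr.extπ K f) ≫ f = Spec.map (CommRingCat.ofHom (algebraMap k K)) := by
    rw [Category.assoc, pullback.condition, ← Category.assoc, hs', Category.id_comp]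
  have h1 := resHom_comp k K f x φ (by rw [← hφ]; exact hpf)
  have h2 := resHom_comp k K f x φ' (by rw [← hφ']; exact hp'f)
  have hxcl : IsClosed ({x} : Set X) := by
    have := isClosed_of_point k K f (s ≫ FinFr.extπ K f) hpf
    rwa [hpx] at this
  have hfin : IsFinite (X.fromSpecResidueField x ≫ f) := by
    rw [isClosed_singleton_iff_isClosedImmersion] at hxcl
    rw [isFinite_iff_locallyOfFiniteType_of_jacobsonSpace]
    infer_instance
  have hfin' : (resHom k f x).hom.Finite := by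
    rw [← IsFinite.SpecMap_iff, map_resHom]; exact hfin
  letI alg : Algebra k (X.residueField x) := (resHom k f x).hom.toAlgebra
  haveI : Module.Finite k (X.residueField x) := hfin'
  haveI : Finite (X.residueField x) := Module.finite_of_finite k
  let φ₁ : X.residueField x →ₐ[k] K :=
    { φ.hom with
      commutes' := fun a => congrArg (fun g : CommRingCat.of k ⟶ CommRingCat.of K => g.hom a) h1 }
  let φ₂ : X.residueField x →ₐ[k] K :=
    { φ'.hom with
      commutes' := fun a => congrArg (fun g : CommRingCat.of k ⟶ CommRingCat.of K => g.hom a) h2 }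
  obtain ⟨j, hj⟩ := exists_pow_frob k (X.residueField x) K φ₁ φ₂
  have hfinal := key K f FX hFb hle hFapp F hF1 hF2 W hFW x s' hs' φ' hφ' j s hs
    (by rw [hsw]; exact hwW) φ hφ (fun v => hj v)
  rw [hs'w] at hfinal
  exact hfinal

include hFb hFapp hF1 hF2 in
theorem descend_iff (hW : IsClosed W) :
    (∃ Y₀ : Set X, IsClosed Y₀ ∧ (FinFr.extπ K f).base ⁻¹' Y₀ = W) ↔ F.base '' W ⊆ W := by
  constructor
  · rintro ⟨Y₀, -, rfl⟩
    rintro _ ⟨w, hw, rfl⟩
    change (FinFr.extπ K f).base (F.base w) ∈ Y₀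
    rw [base_frob K f FX hFb F hF1 w]
    exact hw
  · intro hFW
    haveI : IsIntegralHom (FinFr.specι k K) := by
      rw [IsIntegralHom.SpecMap_iff]
      exact algebraMap_isIntegral_iff.mpr inferInstance
    have hπcl : IsClosedMap (FinFr.extπ K f).base := (FinFr.extπ K f).isClosedMap
    haveI : JacobsonSpace ↥(FinFr.ext K f) := LocallyOfFiniteType.jacobsonSpace (FinFr.extStr K f)
    refine ⟨(FinFr.extπ K f).base '' W, hπcl W hW, ?_⟩
    apply Set.Subset.antisymm _ (Set.subset_preimage_image _ _)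
    have hcl' : IsClosed ((FinFr.extπ K f).base ⁻¹' ((FinFr.extπ K f).base '' W)) :=
      (hπcl W hW).preimage (FinFr.extπ K f).continuous
    have hsub : ((FinFr.extπ K f).base ⁻¹' ((FinFr.extπ K f).base '' W)) ∩
        closedPoints ↥(FinFr.ext K f) ⊆ W := by
      rintro w' ⟨⟨w₀, hw₀W, hw₀⟩, hw'cl⟩
      have hxcl : IsClosed ({(FinFr.extπ K f).base w'} : Set X) := by
        have := hπcl {w'} hw'cl
        rwa [Set.image_singleton] at this
      have hZne : (W ∩ (FinFr.extπ K f).base ⁻¹' {(FinFr.extπ K f).base w'}).Nonempty :=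
        ⟨w₀, hw₀W, hw₀⟩
      have hZcl : IsClosed (W ∩ (FinFr.extπ K f).base ⁻¹' {(FinFr.extπ K f).base w'}) :=
        hW.inter (hxcl.preimage (FinFr.extπ K f).continuous)
      obtain ⟨w, ⟨hwW, hwx⟩, hwcl⟩ := nonempty_inter_closedPoints hZne hZcl.isLocallyClosed
      exact mem_of_same_image K f FX hFb hle hFapp F hF1 hF2 W hFW w w' hwcl hw'cl hwW hwx
    intro w hw
    have hw2 : w ∈ closure (((FinFr.extπ K f).base ⁻¹' ((FinFr.extπ K f).base '' W)) ∩
        closedPoints ↥(FinFr.ext K f)) := by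
      rw [closure_inter_closedPoints hcl']; exact hw
    exact closure_minimal hsub hW hw2

end Scheme

end Groth.Agent.Lib.LeadFrobDescend
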