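import Mathlib
import Groth.Agent.Lib.Helper28FGDim

/-!
# Graded Cohen–Macaulay rings (lead), part a: the irrelevant ideal of a connected graded algebra

`A` is an `ℕ`-graded algebra over a field `K` with `A_0 = K`.  The irrelevant ideal is maximal,
contains every proper homogeneous ideal, a Noetherian such `A` is of finite type over `K`, and the
height of the image of the irrelevant ideal in `A ⧸ I` (`I` homogeneous) is `dim A ⧸ I`.
-/

set_option autoImplicit false
set_option maxHeartbeats 400000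
set_option linter.style.haveILetI false
set_option linter.unusedSectionVars false
set_option linter.unusedVariables false

universe u v

noncomputable section

namespace Groth.Agent.Lib.LeadGCM

section Irr

variable {K : Type u} [Field K] {A : Type v} [CommRing A] [Algebra K A]
  (𝒜 : ℕ → Submodule K A) [GradedAlgebra 𝒜]

/-- the irrelevant ideal -/
abbrev irr : Ideal A := (HomogeneousIdeal.irrelevant 𝒜).toIdeal

lemma mem_irr_iff (a : A) : a ∈ irr 𝒜 ↔ (DirectSum.decompose 𝒜 a 0 : A) = 0 := Iff.rfl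

lemma irr_isHomogeneous : (irr 𝒜).IsHomogeneous 𝒜 := (HomogeneousIdeal.irrelevant 𝒜).isHomogeneous

lemma mem_irr_of_mem {x : A} {i : ℕ} (hi : 0 < i) (hx : x ∈ 𝒜 i) : x ∈ irr 𝒜 :=
  HomogeneousIdeal.mem_irrelevant_of_mem 𝒜 hi hx

lemma sub_decompose_zero_mem_irr (x : A) : x - (DirectSum.decompose 𝒜 x 0 : A) ∈ irr 𝒜 := by
  rw [mem_irr_iff, DirectSum.decompose_sub, DirectSum.sub_apply, AddSubgroupClass.coe_sub,
    DirectSum.decompose_of_mem_same 𝒜 (DirectSum.decompose 𝒜 x 0).2, sub_self]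

lemma one_notMem_irr [Nontrivial A] : (1 : A) ∉ irr 𝒜 := by
  intro h
  rw [mem_irr_iff, DirectSum.decompose_of_mem_same 𝒜 SetLike.GradedOne.one_mem] at h
  exact one_ne_zero h

variable (h0 : ∀ a ∈ 𝒜 0, ∃ c : K, algebraMap K A c = a)

include h0 in
lemma irr_isMaximal [Nontrivial A] : (irr 𝒜).IsMaximal := by
  rw [Ideal.isMaximal_iff]
  refine ⟨one_notMem_irr 𝒜, fun J x hJ hx hxJ => ?_⟩
  obtain ⟨c, hc⟩ := h0 _ (DirectSum.decompose 𝒜 x 0).2
  have hsub := sub_decompose_zero_mem_irr 𝒜 x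
  have hc0 : c ≠ 0 := by
    rintro rfl
    rw [map_zero] at hc
    rw [← hc, sub_zero] at hsub
    exact hx hsub
  have h1 : (DirectSum.decompose 𝒜 x 0 : A) ∈ J := by
    have : (DirectSum.decompose 𝒜 x 0 : A) = x - (x - (DirectSum.decompose 𝒜 x 0 : A)) := by ring
    rw [this]
    exact Ideal.sub_mem _ hxJ (hJ hsub)
  rw [← hc] at h1
  have h2 : algebraMap K A c⁻¹ * algebraMap K A c ∈ J := Ideal.mul_mem_left _ _ h1
  rwa [← map_mul, inv_mul_cancel₀ hc0, map_one] at h2

include h0 in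
lemma le_irr_of_isHomogeneous {I : Ideal A} (hI : I.IsHomogeneous 𝒜) (hne : I ≠ ⊤) :
    I ≤ irr 𝒜 := by
  intro x hx
  obtain ⟨c, hc⟩ := h0 _ (DirectSum.decompose 𝒜 x 0).2
  have hxI : (DirectSum.decompose 𝒜 x 0 : A) ∈ I := hI 0 hx
  rw [mem_irr_iff]
  by_contra hne0
  have hc0 : c ≠ 0 := by
    rintro rfl
    rw [map_zero] at hc
    exact hne0 hc.symm
  apply hne
  rw [Ideal.eq_top_iff_one]
  rw [← hc] at hxI
  have h2 : algebraMap K A c⁻¹ * algebraMap K A c ∈ I := Ideal.mul_mem_left _ _ hxI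
  rwa [← map_mul, inv_mul_cancel₀ hc0, map_one] at h2

lemma isHomogeneous_of_mem_minimalPrimes {I : Ideal A} (hI : I.IsHomogeneous 𝒜) {p : Ideal A}
    (hp : p ∈ I.minimalPrimes) : p.IsHomogeneous 𝒜 := by
  classical
  have hpp : p.IsPrime := hp.1.1
  have hcp : (p.homogeneousCore 𝒜).toIdeal.IsPrime := Ideal.IsPrime.homogeneousCore hpp
  have hle : (p.homogeneousCore 𝒜).toIdeal ≤ p := Ideal.toIdeal_homogeneousCore_le 𝒜 p
  have hIle : I ≤ (p.homogeneousCore 𝒜).toIdeal :=
    hI.toIdeal_homogeneousCore_eq_self.symm.trans_le (Ideal.homogeneousCore_mono 𝒜 hp.1.2)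
  have hge : p ≤ (p.homogeneousCore 𝒜).toIdeal := hp.2 ⟨hcp, hIle⟩ hle
  have heq : (p.homogeneousCore 𝒜).toIdeal = p := le_antisymm hle hge
  rw [← heq]
  exact (p.homogeneousCore 𝒜).isHomogeneous

include h0 in
/-- a Noetherian connected graded algebra is of finite type over its degree-zero field -/
theorem finiteType_of_isNoetherianRing [IsNoetherianRing A] : Algebra.FiniteType K A := by
  classical
  have hfg : (Ideal.span (⋃ i > 0, (𝒜 i : Set A))).FG := IsNoetherian.noetherian _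
  obtain ⟨t, ht, hspan⟩ := (Submodule.fg_span_iff_fg_span_finset_subset _).mp hfg
  have hirr : irr 𝒜 = Ideal.span (t : Set A) := by
    rw [irr, HomogeneousIdeal.irrelevant_eq_span]
    exact hspan
  have hdeg : ∀ b ∈ t, ∃ d : ℕ, 0 < d ∧ b ∈ 𝒜 d := by
    intro b hb
    have := ht hb
    simp only [Set.mem_iUnion, SetLike.mem_coe, exists_prop] at this
    exact this
  choose! d hdpos hdmem using hdeg
  have key : ∀ n : ℕ, ∀ a ∈ 𝒜 n, a ∈ Algebra.adjoin K (t : Set A) := by
    intro n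
    induction n using Nat.strong_induction_on with
    | _ n ih =>
      intro a ha
      rcases Nat.eq_zero_or_pos n with rfl | hn
      · obtain ⟨c, rfl⟩ := h0 a ha
        exact Subalgebra.algebraMap_mem _ c
      · have hairr : a ∈ Ideal.span (t : Set A) := hirr ▸ mem_irr_of_mem 𝒜 hn ha
        obtain ⟨f, hf⟩ := (Submodule.mem_span_finset' (R := A)).mp hairr
        have h1 : a = ∑ b : t, (DirectSum.decompose 𝒜 (f b • (b : A)) n : A) := by
          conv_lhs => rw [← DirectSum.decompose_of_mem_same 𝒜 ha, ← hf]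
          rw [DirectSum.decompose_sum, DFinsupp.finsetSum_apply, AddSubmonoidClass.coe_finsetSum]
        rw [h1]
        refine Subalgebra.sum_mem _ fun b _ => ?_
        rw [smul_eq_mul]
        by_cases hle : d b ≤ n
        · rw [DirectSum.coe_decompose_mul_of_right_mem_of_le 𝒜 (hdmem b b.2) hle]
          refine Subalgebra.mul_mem _ (ih (n - d b) ?_ _ (SetLike.coe_mem _))
            (Algebra.subset_adjoin b.2)
          have := hdpos b b.2
          omega
        · rw [DirectSum.coe_decompose_mul_of_right_mem_of_not_le 𝒜 (hdmem b b.2) hle]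
          exact Subalgebra.zero_mem _
  refine ⟨⟨t, ?_⟩⟩
  rw [eq_top_iff]
  intro a _
  rw [← DirectSum.sum_support_decompose 𝒜 a]
  exact Subalgebra.sum_mem _ fun n _ => key n _ (SetLike.coe_mem _)

end Irr

section FGDim

open Groth.Agent.Lib.Helper28

/-- universe-polymorphic version of
`Helper28.height_eq_ringKrullDim_quotient_of_isMaximal_of_finiteType` -/
theorem height_eq_ringKrullDim_quotient_of_isMaximal_of_finiteType' (k : Type u) [Field k]
    (S : Type v) [CommRing S]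
    [Algebra k S] [Algebra.FiniteType k S] (p : Ideal S) [hp : p.IsPrime]
    (M : Ideal (S ⧸ p)) [hM : M.IsMaximal] :
    ((M.height : ℕ∞) : WithBot ℕ∞) = ringKrullDim (S ⧸ p) := by
  obtain ⟨n, φ, hφ⟩ := Algebra.FiniteType.iff_quotient_mvPolynomial''.mp
    (inferInstance : Algebra.FiniteType k S)
  have hk : LocCoh.IsCohenMacaulayRing k := isCohenMacaulayRing_of_field k
  have hS : LocCoh.IsCohenMacaulayRing (MvPolynomial (Fin n) k) :=
    isCohenMacaulayRing_mvPolynomial_fin n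
  let ψ : MvPolynomial (Fin n) k →+* S ⧸ p := (Ideal.Quotient.mk p).comp φ.toRingHom
  have hψ : Function.Surjective ψ := Ideal.Quotient.mk_surjective.comp hφ
  have hker : (RingHom.ker ψ).IsPrime := RingHom.ker_isPrime ψ
  let e : (MvPolynomial (Fin n) k ⧸ RingHom.ker ψ) ≃+* S ⧸ p :=
    RingHom.quotientKerEquivOfSurjective hψ
  have hM' : (M.comap e).IsMaximal :=
    Ideal.comap_isMaximal_of_surjective e e.surjective
  have h1 := height_eq_ringKrullDim_quotient_of_isMaximal n
    (height_eq_of_isMaximal_mvPolynomial_fin k n) (RingHom.ker ψ) (M.comap e)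
  rw [ringKrullDim_eq_of_ringEquiv e] at h1
  rw [← h1]
  congr 1
  exact (e.height_comap M).symm

end FGDim

section Height

open Groth.Agent.Lib.Helper28

/-- heights of the images of a maximal ideal in two quotients -/
lemma height_map_mk_le_of_le {A : Type v} [CommRing A] (𝔪 : Ideal A) [h𝔪 : 𝔪.IsMaximal]
    {I I' : Ideal A} (hII' : I ≤ I') (hI'𝔪 : I' ≤ 𝔪) :
    (𝔪.map (Ideal.Quotient.mk I')).height ≤ (𝔪.map (Ideal.Quotient.mk I)).height := by
  have hmax' : (𝔪.map (Ideal.Quotient.mk I')).IsMaximal :=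
    Ideal.IsMaximal.map_of_surjective_of_ker_le Ideal.Quotient.mk_surjective
      (by rwa [Ideal.mk_ker])
  have hmax : (𝔪.map (Ideal.Quotient.mk I)).IsMaximal :=
    Ideal.IsMaximal.map_of_surjective_of_ker_le Ideal.Quotient.mk_surjective
      (by rw [Ideal.mk_ker]; exact hII'.trans hI'𝔪)
  have h2a := PrimeSpectrum.height_eq_orderHeight
    (⟨𝔪.map (Ideal.Quotient.mk I'), hmax'.isPrime⟩ : PrimeSpectrum (A ⧸ I'))
  have h2' : (𝔪.map (Ideal.Quotient.mk I')).height = Order.height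
      (⟨𝔪.map (Ideal.Quotient.mk I'), hmax'.isPrime⟩ : PrimeSpectrum (A ⧸ I')) := h2a
  have h2b := PrimeSpectrum.height_eq_orderHeight
    (⟨𝔪.map (Ideal.Quotient.mk I), hmax.isPrime⟩ : PrimeSpectrum (A ⧸ I))
  have h2 : (𝔪.map (Ideal.Quotient.mk I)).height = Order.height
      (⟨𝔪.map (Ideal.Quotient.mk I), hmax.isPrime⟩ : PrimeSpectrum (A ⧸ I)) := h2b
  rw [h2', h2]
  have hφ : Function.Surjective (Ideal.Quotient.factor hII') := Ideal.Quotient.factor_surjective hII'
  have h3 := Order.height_le_height_apply_of_strictMono _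
    (comap_strictMono_of_surjective (Ideal.Quotient.factor hII') hφ)
    (⟨𝔪.map (Ideal.Quotient.mk I'), hmax'.isPrime⟩ : PrimeSpectrum (A ⧸ I'))
  refine le_trans h3 (le_of_eq ?_)
  congr 1
  apply PrimeSpectrum.ext
  show (𝔪.map (Ideal.Quotient.mk I')).comap (Ideal.Quotient.factor hII') =
    𝔪.map (Ideal.Quotient.mk I)
  apply Ideal.comap_injective_of_surjective (Ideal.Quotient.mk I) Ideal.Quotient.mk_surjective
  rw [Ideal.comap_comap, Ideal.Quotient.factor_comp_mk,
    Ideal.comap_map_of_surjective _ Ideal.Quotient.mk_surjective,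
    Ideal.comap_map_of_surjective _ Ideal.Quotient.mk_surjective,
    ← RingHom.ker_eq_comap_bot, ← RingHom.ker_eq_comap_bot, Ideal.mk_ker, Ideal.mk_ker,
    sup_eq_left.mpr hI'𝔪, sup_eq_left.mpr (hII'.trans hI'𝔪)]

variable {K : Type u} [Field K] {A : Type v} [CommRing A] [Algebra K A]
  (𝒜 : ℕ → Submodule K A) [GradedAlgebra 𝒜]
  (h0 : ∀ a ∈ 𝒜 0, ∃ c : K, algebraMap K A c = a)

include h0 in
theorem ringKrullDim_quotient_le_height_map_irr [IsNoetherianRing A] {I : Ideal A}
    (hI : I.IsHomogeneous 𝒜) (hne : I ≠ ⊤) :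
    ringKrullDim (A ⧸ I) ≤ ((((irr 𝒜).map (Ideal.Quotient.mk I)).height : ℕ∞) : WithBot ℕ∞) := by
  haveI : Nontrivial (A ⧸ I) := Ideal.Quotient.nontrivial_iff.mpr hne
  haveI : Nontrivial A := (Ideal.Quotient.mk I).domain_nontrivial
  haveI h𝔪 : (irr 𝒜).IsMaximal := irr_isMaximal 𝒜 h0
  haveI : Algebra.FiniteType K A := finiteType_of_isNoetherianRing 𝒜 h0
  unfold ringKrullDim Order.krullDim
  refine iSup_le fun l => ?_
  have hI𝔭 : I ≤ (l.head).asIdeal.comap (Ideal.Quotient.mk I) := by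
    intro x hx
    rw [Ideal.mem_comap, Ideal.Quotient.eq_zero_iff_mem.mpr hx]
    exact Ideal.zero_mem _
  obtain ⟨q, hqmin, hq𝔭⟩ := Ideal.exists_minimalPrimes_le hI𝔭
  haveI hqprime : q.IsPrime := hqmin.1.1
  have hqI : I ≤ q := hqmin.1.2
  have hqhom := isHomogeneous_of_mem_minimalPrimes 𝒜 hI hqmin
  have hq𝔪 : q ≤ irr 𝒜 := le_irr_of_isHomogeneous 𝒜 h0 hqhom hqprime.ne_top
  have hmem : ∀ i, PrimeSpectrum.comap (Ideal.Quotient.mk I) (l i) ∈
      PrimeSpectrum.zeroLocus (q : Set A) := fun i => by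
    rw [PrimeSpectrum.mem_zeroLocus]
    exact hq𝔭.trans (Ideal.comap_mono (l.head_le i))
  let l' : LTSeries (PrimeSpectrum.zeroLocus (q : Set A)) :=
    { length := l.length
      toFun := fun i => ⟨PrimeSpectrum.comap (Ideal.Quotient.mk I) (l i), hmem i⟩
      step := fun i => by
        show PrimeSpectrum.comap (Ideal.Quotient.mk I) (l i.castSucc) <
          PrimeSpectrum.comap (Ideal.Quotient.mk I) (l i.succ)
        exact comap_strictMono_of_surjective (Ideal.Quotient.mk I) Ideal.Quotient.mk_surjective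
          (l.step i) }
  have h1 : (l.length : WithBot ℕ∞) ≤ ringKrullDim (A ⧸ q) := by
    rw [ringKrullDim_quotient]
    exact Order.LTSeries.length_le_krullDim l'
  haveI hmaxq : ((irr 𝒜).map (Ideal.Quotient.mk q)).IsMaximal :=
    Ideal.IsMaximal.map_of_surjective_of_ker_le Ideal.Quotient.mk_surjective
      (by rwa [Ideal.mk_ker])
  have h2 := height_eq_ringKrullDim_quotient_of_isMaximal_of_finiteType' K A q
    ((irr 𝒜).map (Ideal.Quotient.mk q))
  have h3 := height_map_mk_le_of_le (irr 𝒜) hqI hq𝔪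
  rw [← h2] at h1
  exact h1.trans (WithBot.coe_le_coe.mpr h3)

include h0 in
/-- the height of the vertex of `A ⧸ I` is `dim A ⧸ I` -/
theorem height_map_irr_eq [IsNoetherianRing A] {I : Ideal A}
    (hI : I.IsHomogeneous 𝒜) (hne : I ≠ ⊤) :
    ((((irr 𝒜).map (Ideal.Quotient.mk I)).height : ℕ∞) : WithBot ℕ∞) = ringKrullDim (A ⧸ I) := by
  haveI : Nontrivial (A ⧸ I) := Ideal.Quotient.nontrivial_iff.mpr hne
  haveI : Nontrivial A := (Ideal.Quotient.mk I).domain_nontrivial
  haveI h𝔪 : (irr 𝒜).IsMaximal := irr_isMaximal 𝒜 h0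
  have hmax : ((irr 𝒜).map (Ideal.Quotient.mk I)).IsMaximal :=
    Ideal.IsMaximal.map_of_surjective_of_ker_le Ideal.Quotient.mk_surjective
      (by rw [Ideal.mk_ker]; exact le_irr_of_isHomogeneous 𝒜 h0 hI hne)
  exact le_antisymm (Ideal.height_le_ringKrullDim_of_ne_top hmax.ne_top)
    (ringKrullDim_quotient_le_height_map_irr 𝒜 h0 hI hne)

end Height

end Groth.Agent.Lib.LeadGCM
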