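import Groth.Agent.Lib.LeadGCMa
import Groth.Agent.Lib.Helper28DepthBC

/-!
# Graded Cohen–Macaulay rings (lead), part b: unions

If `A/I`, `A/J` are Cohen–Macaulay of dimension `e` and `A/(I+J)` is Cohen–Macaulay of dimension
`e - 1` (all homogeneous in a connected graded Noetherian algebra), then `A/(I ∩ J)` is
Cohen–Macaulay of dimension `e` at the vertex.
-/

set_option autoImplicit false
set_option maxHeartbeats 400000
set_option linter.style.haveILetI false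
set_option linter.unusedSectionVars false
set_option linter.unusedVariables false

universe u v

noncomputable section

namespace Groth.Agent.Lib.LeadGCM

open Groth.Agent.Lib.Helper28

section SES

variable {A : Type v} [CommRing A] (I J : Ideal A)

/-- `A/(I ∩ J) → A/I × A/J` -/
def mvF : (A ⧸ (I ⊓ J)) →ₗ[A] (A ⧸ I) × (A ⧸ J) :=
  (Ideal.Quotient.factorₐ A (inf_le_left : I ⊓ J ≤ I)).toLinearMap.prod
    (Ideal.Quotient.factorₐ A (inf_le_right : I ⊓ J ≤ J)).toLinearMap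

/-- `A/I × A/J → A/(I + J)` -/
def mvG : (A ⧸ I) × (A ⧸ J) →ₗ[A] A ⧸ (I ⊔ J) :=
  (Ideal.Quotient.factorₐ A (le_sup_left : I ≤ I ⊔ J)).toLinearMap.coprod
    (-(Ideal.Quotient.factorₐ A (le_sup_right : J ≤ I ⊔ J)).toLinearMap)

lemma mvF_mk (a : A) : mvF I J (Ideal.Quotient.mk _ a) =
    (Ideal.Quotient.mk I a, Ideal.Quotient.mk J a) := rfl

lemma mvG_mk (a b : A) : mvG I J (Ideal.Quotient.mk I a, Ideal.Quotient.mk J b) =
    Ideal.Quotient.mk (I ⊔ J) a - Ideal.Quotient.mk (I ⊔ J) b := by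
  rw [mvG, LinearMap.coprod_apply, LinearMap.neg_apply, sub_eq_add_neg]
  rfl

lemma mvF_injective : Function.Injective (mvF I J) := by
  rw [injective_iff_map_eq_zero]
  intro x hx
  obtain ⟨a, rfl⟩ := Ideal.Quotient.mk_surjective x
  rw [mvF_mk, Prod.mk_eq_zero, Ideal.Quotient.eq_zero_iff_mem, Ideal.Quotient.eq_zero_iff_mem] at hx
  rw [Ideal.Quotient.eq_zero_iff_mem]
  exact ⟨hx.1, hx.2⟩

lemma mvG_surjective : Function.Surjective (mvG I J) := by
  intro z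
  obtain ⟨a, rfl⟩ := Ideal.Quotient.mk_surjective z
  refine ⟨(Ideal.Quotient.mk I a, Ideal.Quotient.mk J 0), ?_⟩
  rw [mvG_mk, map_zero, sub_zero]

lemma mv_exact : Function.Exact (mvF I J) (mvG I J) := by
  rintro ⟨x1, x2⟩
  obtain ⟨a, rfl⟩ := Ideal.Quotient.mk_surjective x1
  obtain ⟨b, rfl⟩ := Ideal.Quotient.mk_surjective x2
  rw [mvG_mk]
  constructor
  · intro h
    rw [sub_eq_zero, Ideal.Quotient.eq] at h
    obtain ⟨i, hi, j, hj, hij⟩ := Submodule.mem_sup.mp h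
    refine ⟨Ideal.Quotient.mk _ (a - i), ?_⟩
    rw [mvF_mk]
    refine Prod.ext ?_ ?_
    · show Ideal.Quotient.mk I (a - i) = Ideal.Quotient.mk I a
      rw [map_sub, Ideal.Quotient.eq_zero_iff_mem.mpr hi, sub_zero]
    · show Ideal.Quotient.mk J (a - i) = Ideal.Quotient.mk J b
      have : a - i = b + j := by linear_combination (-1 : A) * hij
      rw [this, map_add, Ideal.Quotient.eq_zero_iff_mem.mpr hj, add_zero]
  · rintro ⟨x, hx⟩
    obtain ⟨c, rfl⟩ := Ideal.Quotient.mk_surjective x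
    rw [mvF_mk, Prod.mk.injEq] at hx
    obtain ⟨hx1, hx2⟩ := hx
    rw [Ideal.Quotient.eq] at hx1 hx2
    rw [sub_eq_zero, Ideal.Quotient.eq]
    have : a - b = -(c - a) + (c - b) := by ring
    rw [this]
    exact Ideal.add_mem _ (neg_mem (Ideal.mem_sup_left hx1)) (Ideal.mem_sup_right hx2)

lemma exact_inl_snd' {R M N : Type*} [CommRing R] [AddCommGroup M] [AddCommGroup N] [Module R M]
    [Module R N] : Function.Exact (LinearMap.inl R M N) (LinearMap.snd R M N) := by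
  rintro ⟨a, b⟩
  constructor
  · intro h
    refine ⟨a, ?_⟩
    have hb : b = 0 := h
    rw [hb]
    rfl
  · rintro ⟨x, hx⟩
    have := congrArg Prod.snd hx
    exact this.symm

variable [IsNoetherianRing A]

/-- the depth estimate for `A/(I ∩ J)` -/
theorem le_idealDepth_quotient_inf (𝔪 : Ideal A) (e : ℕ) (he : 1 ≤ e)
    (hI : (e : ℕ∞) ≤ LocCoh.idealDepth 𝔪 (A ⧸ I)) (hJ : (e : ℕ∞) ≤ LocCoh.idealDepth 𝔪 (A ⧸ J))
    (hIJ : ((e - 1 : ℕ) : ℕ∞) ≤ LocCoh.idealDepth 𝔪 (A ⧸ (I ⊔ J))) :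
    (e : ℕ∞) ≤ LocCoh.idealDepth 𝔪 (A ⧸ (I ⊓ J)) := by
  have hprod : (e : ℕ∞) ≤ LocCoh.idealDepth 𝔪 ((A ⧸ I) × (A ⧸ J)) :=
    le_trans (le_min hI hJ)
      (min_idealDepth_le_mid 𝔪 (LinearMap.inl A (A ⧸ I) (A ⧸ J)) (LinearMap.snd A (A ⧸ I) (A ⧸ J))
        LinearMap.inl_injective LinearMap.snd_surjective exact_inl_snd')
  have h := min_idealDepth_le_left 𝔪 (mvF I J) (mvG I J) (mvF_injective I J) (mvG_surjective I J)
    (mv_exact I J)
  refine le_trans (le_min hprod ?_) h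
  have h1 : (e : ℕ∞) = ((e - 1 : ℕ) : ℕ∞) + 1 := by
    have : e = (e - 1) + 1 := by omega
    conv_lhs => rw [this]
    push_cast
    rfl
  rw [h1]
  exact add_le_add_left hIJ 1

/-- dimension of a union -/
lemma ringKrullDim_quotient_inf_le (d : WithBot ℕ∞) (hI : ringKrullDim (A ⧸ I) ≤ d)
    (hJ : ringKrullDim (A ⧸ J) ≤ d) : ringKrullDim (A ⧸ (I ⊓ J)) ≤ d := by
  rw [ringKrullDim_quotient] at hI hJ ⊢
  unfold Order.krullDim
  refine iSup_le fun l => ?_
  have hhead : I ⊓ J ≤ (l.head).1.asIdeal := (PrimeSpectrum.mem_zeroLocus _ _).mp l.head.2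
  rcases (Ideal.IsPrime.inf_le (l.head).1.isPrime).mp hhead with h | h
  · let l' : LTSeries (PrimeSpectrum.zeroLocus (I : Set A)) :=
      { length := l.length
        toFun := fun i => ⟨(l i).1, (PrimeSpectrum.mem_zeroLocus _ _).mpr (h.trans (l.head_le i))⟩
        step := fun i => l.step i }
    exact (Order.LTSeries.length_le_krullDim l').trans hI
  · let l' : LTSeries (PrimeSpectrum.zeroLocus (J : Set A)) :=
      { length := l.length
        toFun := fun i => ⟨(l i).1, (PrimeSpectrum.mem_zeroLocus _ _).mpr (h.trans (l.head_le i))⟩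
        step := fun i => l.step i }
    exact (Order.LTSeries.length_le_krullDim l').trans hJ

end SES

section Graded

variable {K : Type u} [Field K] {A : Type v} [CommRing A] [Algebra K A]
  (𝒜 : ℕ → Submodule K A) [GradedAlgebra 𝒜]
  (h0 : ∀ a ∈ 𝒜 0, ∃ c : K, algebraMap K A c = a) [IsNoetherianRing A]

include h0 in
/-- the depth of a graded Cohen–Macaulay quotient with respect to the irrelevant ideal -/
theorem idealDepth_irr_quotient {L : Ideal A} (hL : L.IsHomogeneous 𝒜) (hne : L ≠ ⊤)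
    (hcm : LocCoh.IsCohenMacaulayRing (A ⧸ L)) (d : ℕ)
    (hd : ringKrullDim (A ⧸ L) = (d : WithBot ℕ∞)) :
    LocCoh.idealDepth (irr 𝒜) (A ⧸ L) = d := by
  haveI : Nontrivial (A ⧸ L) := Ideal.Quotient.nontrivial_iff.mpr hne
  haveI : Nontrivial A := (Ideal.Quotient.mk L).domain_nontrivial
  haveI h𝔪 : (irr 𝒜).IsMaximal := irr_isMaximal 𝒜 h0
  have hmax : ((irr 𝒜).map (Ideal.Quotient.mk L)).IsMaximal :=
    Ideal.IsMaximal.map_of_surjective_of_ker_le Ideal.Quotient.mk_surjective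
      (by rw [Ideal.mk_ker]; exact le_irr_of_isHomogeneous 𝒜 h0 hL hne)
  rw [idealDepth_restrictScalars_eq_idealDepth_map (B := A ⧸ L) (irr 𝒜) (A ⧸ L)]
  have h1 := idealDepth_self_eq_height_of_isCohenMacaulayRing hcm
    ((irr 𝒜).map (algebraMap A (A ⧸ L))) hmax.ne_top
  rw [h1]
  have h2 := height_map_irr_eq 𝒜 h0 hL hne
  rw [hd] at h2
  have h3 : ((irr 𝒜).map (Ideal.Quotient.mk L)).height = (d : ℕ∞) := by
    exact_mod_cast h2
  exact h3

include h0 in
/-- **the union lemma at the vertex** -/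
theorem cm_vertex_inf (I J : Ideal A) (hI : I.IsHomogeneous 𝒜) (hJ : J.IsHomogeneous 𝒜)
    (e : ℕ) (he : 1 ≤ e)
    (hIcm : LocCoh.IsCohenMacaulayRing (A ⧸ I)) (hJcm : LocCoh.IsCohenMacaulayRing (A ⧸ J))
    (hIJcm : LocCoh.IsCohenMacaulayRing (A ⧸ (I ⊔ J)))
    (hIdim : ringKrullDim (A ⧸ I) = (e : WithBot ℕ∞))
    (hJdim : ringKrullDim (A ⧸ J) = (e : WithBot ℕ∞))
    (hIJdim : ringKrullDim (A ⧸ (I ⊔ J)) = ((e - 1 : ℕ) : WithBot ℕ∞))
    [hm : ((irr 𝒜).map (Ideal.Quotient.mk (I ⊓ J))).IsPrime] :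
    LocCoh.IsCohenMacaulayLocalRing (Localization.AtPrime
        ((irr 𝒜).map (Ideal.Quotient.mk (I ⊓ J)))) ∧
      ringKrullDim (Localization.AtPrime
        ((irr 𝒜).map (Ideal.Quotient.mk (I ⊓ J)))) = (e : WithBot ℕ∞) := by
  have hIJne : I ⊔ J ≠ ⊤ := by
    intro h
    have : Subsingleton (A ⧸ (I ⊔ J)) := Ideal.Quotient.subsingleton_iff.mpr h
    rw [ringKrullDim_eq_bot_of_subsingleton] at hIJdim
    exact WithBot.bot_ne_coe hIJdim
  have hIne : I ≠ ⊤ := fun h => hIJne (by rw [h, top_sup_eq])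
  have hJne : J ≠ ⊤ := fun h => hIJne (by rw [h, sup_top_eq])
  have hdI := idealDepth_irr_quotient 𝒜 h0 hI hIne hIcm e hIdim
  have hdJ := idealDepth_irr_quotient 𝒜 h0 hJ hJne hJcm e hJdim
  have hdIJ := idealDepth_irr_quotient 𝒜 h0 (hI.sup hJ) hIJne hIJcm (e - 1) hIJdim
  have hdepth : (e : ℕ∞) ≤ LocCoh.idealDepth (irr 𝒜) (A ⧸ (I ⊓ J)) :=
    le_idealDepth_quotient_inf I J (irr 𝒜) e he hdI.ge hdJ.ge hdIJ.ge
  rw [idealDepth_restrictScalars_eq_idealDepth_map (B := A ⧸ (I ⊓ J)) (irr 𝒜) (A ⧸ (I ⊓ J))]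
    at hdepth
  have h2 : LocCoh.idealDepth ((irr 𝒜).map (Ideal.Quotient.mk (I ⊓ J))) (A ⧸ (I ⊓ J)) ≤
      LocCoh.depth (Localization.AtPrime ((irr 𝒜).map (Ideal.Quotient.mk (I ⊓ J))))
        (LocalizedModule ((irr 𝒜).map (Ideal.Quotient.mk (I ⊓ J))).primeCompl (A ⧸ (I ⊓ J))) :=
    idealDepth_le_depth_localization _ _ le_rfl
  rw [depth_localizedModule_self] at h2
  have h3 := supportDim_localization_self ((irr 𝒜).map (Ideal.Quotient.mk (I ⊓ J)))
  have h4 : ((((irr 𝒜).map (Ideal.Quotient.mk (I ⊓ J))).height : ℕ∞) : WithBot ℕ∞) ≤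
      (e : WithBot ℕ∞) :=
    (Ideal.height_le_ringKrullDim_of_ne_top hm.ne_top).trans
      (ringKrullDim_quotient_inf_le I J _ hIdim.le hJdim.le)
  have hN : IsNoetherianRing (Localization.AtPrime ((irr 𝒜).map (Ideal.Quotient.mk (I ⊓ J)))) :=
    IsLocalization.isNoetherianRing ((irr 𝒜).map (Ideal.Quotient.mk (I ⊓ J))).primeCompl _
      inferInstance
  have h5 : ((LocCoh.depth (Localization.AtPrime ((irr 𝒜).map (Ideal.Quotient.mk (I ⊓ J))))
      (Localization.AtPrime ((irr 𝒜).map (Ideal.Quotient.mk (I ⊓ J)))) : ℕ∞) : WithBot ℕ∞) ≤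
      Module.supportDim (Localization.AtPrime ((irr 𝒜).map (Ideal.Quotient.mk (I ⊓ J))))
        (Localization.AtPrime ((irr 𝒜).map (Ideal.Quotient.mk (I ⊓ J)))) := depth_le_supportDim
  have h6 : ((e : ℕ∞) : WithBot ℕ∞) ≤
      ((LocCoh.depth (Localization.AtPrime ((irr 𝒜).map (Ideal.Quotient.mk (I ⊓ J))))
        (Localization.AtPrime ((irr 𝒜).map (Ideal.Quotient.mk (I ⊓ J)))) : ℕ∞) : WithBot ℕ∞) :=
    WithBot.coe_le_coe.mpr (hdepth.trans h2)
  rw [h3] at h5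
  have h7 : ((e : ℕ∞) : WithBot ℕ∞) = (e : WithBot ℕ∞) := rfl
  refine ⟨{ supportDim_eq_depth := ?_ }, ?_⟩
  · rw [h3]
    refine le_antisymm (h4.trans ?_) h5
    rw [← h7]
    exact h6
  · rw [← Module.supportDim_self_eq_ringKrullDim, h3]
    refine le_antisymm h4 ?_
    rw [← h7]
    exact h6.trans h5

end Graded

end Groth.Agent.Lib.LeadGCM
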