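import Groth.Agent.Lib.LeadGCMa
import Groth.Agent.Lib.Helper28CMFib1
import Groth.Agent.S13232
import Groth.Agent.S13234

/-!
# Graded Cohen–Macaulay rings (lead), part c: a cone is Cohen–Macaulay iff it is so at its vertex

* `qgr`, `qgrGradedAlgebra`: the quotient of an `ℕ`-graded algebra by a homogeneous ideal
  (universe polymorphic);
* `intGr`: an `ℕ`-grading regarded as a `ℤ`-grading by additive subgroups;
* `isCohenMacaulayRing_of_homogeneous_primes`: a Noetherian `ℤ`-graded ring whose localizations at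
  homogeneous primes are Cohen–Macaulay is Cohen–Macaulay (from the `*`-local formulas
  `depth M_p = depth M_{p*} + d`, `dim M_p = dim M_{p*} + d`);
* `isCohenMacaulayRing_quotient_of_vertex`: `A ⧸ I` is Cohen–Macaulay as soon as it is so at the
  vertex.
-/

set_option autoImplicit false
set_option maxHeartbeats 400000
set_option linter.style.haveILetI false
set_option linter.unusedSectionVars false
set_option linter.unusedVariables false

universe u v

noncomputable section

namespace Groth.Agent.Lib.LeadGCM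

open Groth.Agent.Lib.Helper28

section QuotGr

open DirectSum

variable {K : Type u} [Field K] {A : Type v} [CommRing A] [Algebra K A]
  (𝒜 : ℕ → Submodule K A) [GradedAlgebra 𝒜] (I : Ideal A)

/-- the graded pieces of the quotient by an ideal -/
def qgr (n : ℕ) : Submodule K (A ⧸ I) :=
  (𝒜 n).map (Ideal.Quotient.mkₐ K I).toLinearMap

lemma mem_qgr {n : ℕ} {y : A ⧸ I} :
    y ∈ qgr 𝒜 I n ↔ ∃ a ∈ 𝒜 n, Ideal.Quotient.mk I a = y := Iff.rfl

lemma mk_mem_qgr {n : ℕ} {a : A} (ha : a ∈ 𝒜 n) : Ideal.Quotient.mk I a ∈ qgr 𝒜 I n :=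
  ⟨a, ha, rfl⟩

instance qgr_gradedMonoid : SetLike.GradedMonoid (qgr 𝒜 I) where
  one_mem := ⟨1, SetLike.one_mem_graded 𝒜, map_one (Ideal.Quotient.mk I)⟩
  mul_mem := by
    rintro i j _ _ ⟨a, ha, rfl⟩ ⟨b, hb, rfl⟩
    exact ⟨a * b, SetLike.mul_mem_graded ha hb, map_mul (Ideal.Quotient.mk I) a b⟩

/-- component projection maps -/
def qProjPiece (n : ℕ) : ↥(𝒜 n) →+ ↥(qgr 𝒜 I n) where
  toFun x := ⟨Ideal.Quotient.mk I (x : A), (x : A), x.2, rfl⟩
  map_zero' := Subtype.ext (map_zero (Ideal.Quotient.mk I))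
  map_add' x y := Subtype.ext (map_add (Ideal.Quotient.mk I) (x : A) (y : A))

theorem coe_map_qProjPiece (y : ⨁ n, 𝒜 n) :
    DirectSum.coeAddMonoidHom (qgr 𝒜 I) (DirectSum.map (qProjPiece 𝒜 I) y) =
      Ideal.Quotient.mk I (DirectSum.coeAddMonoidHom 𝒜 y) := by
  classical
  induction y using DirectSum.induction_on with
  | zero => simp
  | of g x =>
    rw [DirectSum.map_of, DirectSum.coeAddMonoidHom_of, DirectSum.coeAddMonoidHom_of]
    rfl
  | add x y hx hy => rw [map_add, map_add, map_add, map_add, hx, hy]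

/-- the decomposition map before passing to the quotient -/
def qPreDec : A →+ ⨁ n, qgr 𝒜 I n :=
  (DirectSum.map (qProjPiece 𝒜 I)).comp (DirectSum.decomposeAddEquiv 𝒜).toAddMonoidHom

theorem qPreDec_apply (x : A) :
    qPreDec 𝒜 I x = DirectSum.map (qProjPiece 𝒜 I) (DirectSum.decompose 𝒜 x) := rfl

variable (hI : I.IsHomogeneous 𝒜)

include hI in
theorem qPreDec_eq_zero {x : A} (hx : x ∈ I) : qPreDec 𝒜 I x = 0 := by
  rw [qPreDec_apply]
  ext g
  rw [DirectSum.map_apply, DirectSum.zero_apply]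
  change Ideal.Quotient.mk I ((DirectSum.decompose 𝒜 x) g : A) = 0
  rw [Ideal.Quotient.eq_zero_iff_mem]
  exact hI g hx

/-- the decomposition map on the quotient -/
def qDecHom : (A ⧸ I) →+ ⨁ n, qgr 𝒜 I n :=
  QuotientAddGroup.lift (Submodule.toAddSubgroup I) (qPreDec 𝒜 I)
    (fun _ hx => qPreDec_eq_zero 𝒜 I hI hx)

theorem qDecHom_mk (x : A) : qDecHom 𝒜 I hI (Ideal.Quotient.mk I x) = qPreDec 𝒜 I x := rfl

/-- the induced decomposition on the quotient by a homogeneous ideal. -/
@[instance_reducible]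
def qDecomposition : DirectSum.Decomposition (qgr 𝒜 I) :=
  DirectSum.Decomposition.ofAddHom (qgr 𝒜 I) (qDecHom 𝒜 I hI)
    (by
      apply AddMonoidHom.ext
      intro y
      obtain ⟨x, rfl⟩ := Ideal.Quotient.mk_surjective y
      rw [AddMonoidHom.comp_apply, qDecHom_mk, qPreDec_apply, coe_map_qProjPiece]
      have : DirectSum.coeAddMonoidHom 𝒜 (DirectSum.decompose 𝒜 x) = x :=
        DirectSum.Decomposition.left_inv x
      rw [this]
      rfl)
    (by
      apply DirectSum.addHom_ext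
      rintro g ⟨y, a, ha, rfl⟩
      rw [AddMonoidHom.comp_apply, DirectSum.coeAddMonoidHom_of]
      change qDecHom 𝒜 I hI (Ideal.Quotient.mk I a) = _
      rw [qDecHom_mk, qPreDec_apply, DirectSum.decompose_of_mem 𝒜 ha, DirectSum.map_of]
      rfl)

/-- the quotient of a graded algebra by a homogeneous ideal is a graded algebra -/
@[instance_reducible]
def qgrGradedAlgebra : GradedAlgebra (qgr 𝒜 I) :=
  { qgr_gradedMonoid 𝒜 I with
    toDecomposition := qDecomposition 𝒜 I hI }

omit hI in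
theorem decompose_qgr_mk [GradedAlgebra (qgr 𝒜 I)] (x : A) (n : ℕ) :
    ((DirectSum.decompose (qgr 𝒜 I) (Ideal.Quotient.mk I x)) n : A ⧸ I) =
      Ideal.Quotient.mk I (DirectSum.decompose 𝒜 x n : A) := by
  classical
  have h1 : Ideal.Quotient.mk I x = ∑ m ∈ (DirectSum.decompose 𝒜 x).support,
      Ideal.Quotient.mk I (DirectSum.decompose 𝒜 x m : A) := by
    conv_lhs => rw [← DirectSum.sum_support_decompose 𝒜 x]
    rw [map_sum]
  have h2 : ∀ m, ((DirectSum.decompose (qgr 𝒜 I)
      (Ideal.Quotient.mk I (DirectSum.decompose 𝒜 x m : A))) n : A ⧸ I) =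
      if m = n then Ideal.Quotient.mk I (DirectSum.decompose 𝒜 x m : A) else 0 := by
    intro m
    rw [DirectSum.decompose_of_mem (qgr 𝒜 I) (mk_mem_qgr 𝒜 I (DirectSum.decompose 𝒜 x m).2)]
    split_ifs with h
    · subst h
      rw [DirectSum.of_eq_same]
    · rw [DirectSum.of_eq_of_ne _ _ _ (Ne.symm h)]
      rfl
  rw [h1, DirectSum.decompose_sum, DFinsupp.finsetSum_apply, AddSubmonoidClass.coe_finsetSum]
  simp_rw [h2]
  rw [Finset.sum_ite_eq']
  split_ifs with h
  · rfl
  · rw [DFinsupp.notMem_support_iff] at h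
    rw [h]
    simp

omit hI in
lemma qgr_zero (h0 : ∀ a ∈ 𝒜 0, ∃ c : K, algebraMap K A c = a) :
    ∀ y ∈ qgr 𝒜 I 0, ∃ c : K, algebraMap K (A ⧸ I) c = y := by
  rintro _ ⟨a, ha, rfl⟩
  obtain ⟨c, rfl⟩ := h0 a ha
  exact ⟨c, rfl⟩

omit hI in
/-- the irrelevant ideal of the quotient -/
theorem irr_qgr [GradedAlgebra (qgr 𝒜 I)] :
    irr (qgr 𝒜 I) = (irr 𝒜).map (Ideal.Quotient.mk I) := by
  apply le_antisymm
  · intro y hy
    obtain ⟨a, rfl⟩ := Ideal.Quotient.mk_surjective y
    have h1 : Ideal.Quotient.mk I (DirectSum.decompose 𝒜 a 0 : A) = 0 := by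
      rw [← decompose_qgr_mk 𝒜 I a 0]
      exact hy
    have h2 : Ideal.Quotient.mk I a =
        Ideal.Quotient.mk I (a - (DirectSum.decompose 𝒜 a 0 : A)) := by
      rw [map_sub, h1, sub_zero]
    rw [h2]
    exact Ideal.mem_map_of_mem _ (sub_decompose_zero_mem_irr 𝒜 a)
  · rw [Ideal.map_le_iff_le_comap]
    intro a ha
    rw [Ideal.mem_comap, mem_irr_iff, decompose_qgr_mk 𝒜 I a 0]
    have : (DirectSum.decompose 𝒜 a 0 : A) = 0 := ha
    rw [this, map_zero]

omit hI in
/-- the preimage of a homogeneous ideal of the quotient is homogeneous -/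
theorem comap_isHomogeneous [GradedAlgebra (qgr 𝒜 I)] (q : Ideal (A ⧸ I))
    (hq : q.IsHomogeneous (qgr 𝒜 I)) :
    (q.comap (Ideal.Quotient.mk I)).IsHomogeneous 𝒜 := by
  intro n a ha
  rw [Ideal.mem_comap] at ha ⊢
  rw [← decompose_qgr_mk 𝒜 I a n]
  exact hq n ha

end QuotGr

section IntGr

open DirectSum

variable {B : Type v} [CommRing B] {σ : Type*} [SetLike σ B] [AddSubgroupClass σ B]
  (ℬ : ℕ → σ) [GradedRing ℬ]

/-- an `ℕ`-grading as a `ℤ`-grading by additive subgroups -/
def intGr : ℤ → AddSubgroup B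
  | Int.ofNat m => AddSubgroup.ofClass (ℬ m)
  | Int.negSucc _ => ⊥

lemma mem_intGr_ofNat {m : ℕ} {x : B} : x ∈ intGr ℬ (Int.ofNat m) ↔ x ∈ ℬ m := Iff.rfl

lemma mem_intGr_negSucc {m : ℕ} {x : B} : x ∈ intGr ℬ (Int.negSucc m) ↔ x = 0 :=
  AddSubgroup.mem_bot

instance intGr_gradedMonoid : SetLike.GradedMonoid (intGr ℬ) where
  one_mem := (SetLike.GradedOne.one_mem : (1 : B) ∈ ℬ 0)
  mul_mem := by
    intro i j a b ha hb
    cases i with
    | ofNat m =>
      cases j with
      | ofNat n => exact (SetLike.GradedMul.mul_mem ha hb : a * b ∈ ℬ (m + n))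
      | negSucc n =>
        have hb0 : b = 0 := AddSubgroup.mem_bot.mp hb
        rw [hb0, mul_zero]
        exact zero_mem _
    | negSucc m =>
      have ha0 : a = 0 := AddSubgroup.mem_bot.mp ha
      rw [ha0, zero_mul]
      exact zero_mem _

/-- inclusion of a piece -/
def inclPiece (m : ℕ) : ↥(ℬ m) →+ ↥(intGr ℬ (Int.ofNat m)) where
  toFun x := ⟨x.1, x.2⟩
  map_zero' := rfl
  map_add' _ _ := rfl

/-- reindexing the direct sum -/
def toIntDS : (⨁ m : ℕ, ℬ m) →+ ⨁ n : ℤ, intGr ℬ n :=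
  DirectSum.toAddMonoid fun m =>
    (DirectSum.of (fun n : ℤ => intGr ℬ n) (Int.ofNat m)).comp (inclPiece ℬ m)

lemma toIntDS_of (m : ℕ) (x : ℬ m) :
    toIntDS ℬ (DirectSum.of (fun m => ℬ m) m x) =
      DirectSum.of (fun n : ℤ => intGr ℬ n) (Int.ofNat m) (inclPiece ℬ m x) := by
  rw [toIntDS, DirectSum.toAddMonoid_of]
  rfl

lemma coe_toIntDS (y : ⨁ m : ℕ, ℬ m) :
    DirectSum.coeAddMonoidHom (intGr ℬ) (toIntDS ℬ y) = DirectSum.coeAddMonoidHom ℬ y := by
  induction y using DirectSum.induction_on with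
  | zero => simp
  | of m x =>
    rw [toIntDS_of, DirectSum.coeAddMonoidHom_of, DirectSum.coeAddMonoidHom_of]
    rfl
  | add x y hx hy => rw [map_add, map_add, map_add, hx, hy]

lemma toIntDS_apply_ofNat (y : ⨁ m : ℕ, ℬ m) (m : ℕ) :
    ((toIntDS ℬ y) (Int.ofNat m) : B) = (y m : B) := by
  classical
  induction y using DirectSum.induction_on with
  | zero => simp
  | of k x =>
    rw [toIntDS_of]
    by_cases hkm : k = m
    · subst hkm
      rw [DirectSum.of_eq_same, DirectSum.of_eq_same]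
      rfl
    · have hne : Int.ofNat k ≠ Int.ofNat m := fun h => hkm (Int.ofNat.inj h)
      rw [DirectSum.of_eq_of_ne _ _ _ hne.symm, DirectSum.of_eq_of_ne _ _ _ (Ne.symm hkm)]
      rfl
  | add x y hx hy =>
    rw [map_add, DirectSum.add_apply, DirectSum.add_apply, AddMemClass.coe_add,
      AddMemClass.coe_add, hx, hy]

/-- the decomposition map -/
def intDecHom : B →+ ⨁ n : ℤ, intGr ℬ n :=
  (toIntDS ℬ).comp (DirectSum.decomposeAddEquiv ℬ).toAddMonoidHom

lemma intDecHom_apply (b : B) : intDecHom ℬ b = toIntDS ℬ (DirectSum.decompose ℬ b) := rfl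

instance intDecomposition : DirectSum.Decomposition (intGr ℬ) :=
  DirectSum.Decomposition.ofAddHom (intGr ℬ) (intDecHom ℬ)
    (by
      apply AddMonoidHom.ext
      intro b
      rw [AddMonoidHom.comp_apply, intDecHom_apply, coe_toIntDS]
      exact DirectSum.Decomposition.left_inv b)
    (by
      apply DirectSum.addHom_ext
      intro n y
      rw [AddMonoidHom.comp_apply, DirectSum.coeAddMonoidHom_of, intDecHom_apply]
      cases n with
      | ofNat m =>
        have hy : (y : B) ∈ ℬ m := y.2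
        rw [DirectSum.decompose_of_mem ℬ hy, toIntDS_of]
        rfl
      | negSucc m =>
        have hy0 : (y : B) = 0 := AddSubgroup.mem_bot.mp y.2
        have hy1 : y = 0 := Subtype.ext hy0
        rw [hy0, DirectSum.decompose_zero, map_zero, hy1, map_zero]
        rfl)

instance intGr_gradedRing : GradedRing (intGr ℬ) :=
  { intGr_gradedMonoid ℬ with
    toDecomposition := intDecomposition ℬ }

lemma decompose_intGr_ofNat (b : B) (m : ℕ) :
    ((DirectSum.decompose (intGr ℬ) b) (Int.ofNat m) : B) = (DirectSum.decompose ℬ b m : B) := by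
  change ((intDecHom ℬ b) (Int.ofNat m) : B) = _
  rw [intDecHom_apply, toIntDS_apply_ofNat]

lemma isHomogeneous_of_isHomogeneous_intGr {q : Ideal B} (hq : q.IsHomogeneous (intGr ℬ)) :
    q.IsHomogeneous ℬ := by
  intro m b hb
  rw [← decompose_intGr_ofNat]
  exact hq (Int.ofNat m) hb

end IntGr

section Core

/-- a Noetherian `ℤ`-graded ring which is Cohen–Macaulay at its homogeneous primes is
Cohen–Macaulay -/
theorem isCohenMacaulayRing_of_homogeneous_primes {R : Type v} [CommRing R] [IsNoetherianRing R]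
    (𝒢 : ℤ → AddSubgroup R) [GradedRing 𝒢]
    (h : ∀ (q : Ideal R) [q.IsPrime], q.IsHomogeneous 𝒢 →
      LocCoh.IsCohenMacaulayLocalRing (Localization.AtPrime q)) :
    LocCoh.IsCohenMacaulayRing R := by
  classical
  refine ⟨fun p hp => ?_⟩
  haveI hcore : (Ideal.homogeneousCore 𝒢 p).toIdeal.IsPrime := Ideal.IsPrime.homogeneousCore hp
  have hcm := h (Ideal.homogeneousCore 𝒢 p).toIdeal (Ideal.homogeneousCore 𝒢 p).isHomogeneous
  have hle : (Ideal.homogeneousCore 𝒢 p).toIdeal ≤ p := Ideal.toIdeal_homogeneousCore_le 𝒢 p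
  haveI hprime : (p.map (Ideal.Quotient.mk (Ideal.homogeneousCore 𝒢 p).toIdeal)).IsPrime :=
    Ideal.map_isPrime_of_surjective Ideal.Quotient.mk_surjective (by rwa [Ideal.mk_ker])
  have hfin : (p.map (Ideal.Quotient.mk (Ideal.homogeneousCore 𝒢 p).toIdeal)).height ≠ ⊤ :=
    Ideal.height_ne_top_of_isPrime
  obtain ⟨d, hd⟩ := ENat.ne_top_iff_exists.mp hfin
  haveI : Nontrivial (LocalizedModule p.primeCompl R) :=
    (localizedModuleSelfEquiv p).toEquiv.nontrivial
  have hdep := Groth.Agent.S13234.result R 𝒢 R 𝒢 p d hd.symm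
  have hdim := Groth.Agent.S13232.result R 𝒢 R 𝒢 p d hd.symm inferInstance
  rw [depth_localizedModule_self, depth_localizedModule_self] at hdep
  rw [Module.supportDim_eq_of_equiv (localizedModuleSelfEquiv p),
    Module.supportDim_eq_of_equiv (localizedModuleSelfEquiv (Ideal.homogeneousCore 𝒢 p).toIdeal)]
    at hdim
  have hN : IsNoetherianRing (Localization.AtPrime p) :=
    IsLocalization.isNoetherianRing p.primeCompl _ inferInstance
  refine { supportDim_eq_depth := ?_ }
  rw [hdim, hdep, hcm.supportDim_eq_depth]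
  rfl

end Core

section Vertex

variable {K : Type u} [Field K] {A : Type v} [CommRing A] [Algebra K A]
  (𝒜 : ℕ → Submodule K A) [GradedAlgebra 𝒜]
  (h0 : ∀ a ∈ 𝒜 0, ∃ c : K, algebraMap K A c = a) [IsNoetherianRing A]

include h0 in
/-- **a cone is Cohen–Macaulay iff it is so at its vertex** -/
theorem isCohenMacaulayRing_quotient_of_vertex (I : Ideal A) (hI : I.IsHomogeneous 𝒜)
    [hm : ((irr 𝒜).map (Ideal.Quotient.mk I)).IsPrime]
    (hCM : LocCoh.IsCohenMacaulayLocalRing
      (Localization.AtPrime ((irr 𝒜).map (Ideal.Quotient.mk I)))) :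
    LocCoh.IsCohenMacaulayRing (A ⧸ I) := by
  letI := qgrGradedAlgebra 𝒜 I hI
  refine isCohenMacaulayRing_of_homogeneous_primes (intGr (qgr 𝒜 I)) fun q hq hqhom => ?_
  have hq' : q.IsHomogeneous (qgr 𝒜 I) := isHomogeneous_of_isHomogeneous_intGr (qgr 𝒜 I) hqhom
  have hle : q ≤ (irr 𝒜).map (Ideal.Quotient.mk I) := by
    rw [← irr_qgr 𝒜 I]
    exact le_irr_of_isHomogeneous (qgr 𝒜 I) (qgr_zero 𝒜 I h0) hq' hq.ne_top
  exact Groth.Agent.Lib.Helper28.CMFib.isCohenMacaulayLocalRing_localization_of_le q _ hle hCM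

end Vertex

end Groth.Agent.Lib.LeadGCM
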