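import Groth.Agent.Lib.LeadGCMb
import Groth.Agent.Lib.LeadGCMc

/-!
# Graded Cohen–Macaulay rings (lead), part d: global forms and the polynomial ring

* `isCohenMacaulayRing_quotient_inf`: the union lemma, global form;
* `isCohenMacaulayRing_quotient_of_nzd`: if `f` is homogeneous of positive degree, a non-zero-divisor
  modulo `I` and `A/(I + (f))` is Cohen–Macaulay, then `A/I` is Cohen–Macaulay;
* the case of `MvPolynomial σ K` with the standard grading.
-/

set_option autoImplicit false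
set_option maxHeartbeats 400000
set_option linter.style.haveILetI false
set_option linter.unusedSectionVars false
set_option linter.unusedVariables false

universe u v w

noncomputable section

namespace Groth.Agent.Lib.LeadGCM

open Groth.Agent.Lib.Helper28
open scoped Pointwise

section Global

variable {K : Type u} [Field K] {A : Type v} [CommRing A] [Algebra K A]
  (𝒜 : ℕ → Submodule K A) [GradedAlgebra 𝒜]
  (h0 : ∀ a ∈ 𝒜 0, ∃ c : K, algebraMap K A c = a) [IsNoetherianRing A]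

include h0 in
lemma map_irr_isMaximal {I : Ideal A} (hI : I.IsHomogeneous 𝒜) (hne : I ≠ ⊤) :
    ((irr 𝒜).map (Ideal.Quotient.mk I)).IsMaximal := by
  haveI : Nontrivial (A ⧸ I) := Ideal.Quotient.nontrivial_iff.mpr hne
  haveI : Nontrivial A := (Ideal.Quotient.mk I).domain_nontrivial
  haveI h𝔪 : (irr 𝒜).IsMaximal := irr_isMaximal 𝒜 h0
  exact Ideal.IsMaximal.map_of_surjective_of_ker_le Ideal.Quotient.mk_surjective
    (by rw [Ideal.mk_ker]; exact le_irr_of_isHomogeneous 𝒜 h0 hI hne)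

include h0 in
/-- **the union lemma**, global form -/
theorem isCohenMacaulayRing_quotient_inf (I J : Ideal A) (hI : I.IsHomogeneous 𝒜)
    (hJ : J.IsHomogeneous 𝒜) (e : ℕ) (he : 1 ≤ e)
    (hIcm : LocCoh.IsCohenMacaulayRing (A ⧸ I)) (hJcm : LocCoh.IsCohenMacaulayRing (A ⧸ J))
    (hIJcm : LocCoh.IsCohenMacaulayRing (A ⧸ (I ⊔ J)))
    (hIdim : ringKrullDim (A ⧸ I) = (e : WithBot ℕ∞))
    (hJdim : ringKrullDim (A ⧸ J) = (e : WithBot ℕ∞))
    (hIJdim : ringKrullDim (A ⧸ (I ⊔ J)) = ((e - 1 : ℕ) : WithBot ℕ∞)) :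
    LocCoh.IsCohenMacaulayRing (A ⧸ (I ⊓ J)) ∧
      ringKrullDim (A ⧸ (I ⊓ J)) = (e : WithBot ℕ∞) := by
  have hIne : I ≠ ⊤ := by
    intro h
    have : Subsingleton (A ⧸ I) := Ideal.Quotient.subsingleton_iff.mpr h
    rw [ringKrullDim_eq_bot_of_subsingleton] at hIdim
    exact WithBot.bot_ne_coe hIdim
  have hne : I ⊓ J ≠ ⊤ := fun h => hIne (top_le_iff.mp (h ▸ inf_le_left))
  have hhom : (I ⊓ J).IsHomogeneous 𝒜 := hI.inf hJ
  have hmax := map_irr_isMaximal 𝒜 h0 hhom hne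
  haveI hm : ((irr 𝒜).map (Ideal.Quotient.mk (I ⊓ J))).IsPrime := hmax.isPrime
  obtain ⟨h1, h2⟩ := cm_vertex_inf 𝒜 h0 I J hI hJ e he hIcm hJcm hIJcm hIdim hJdim hIJdim
  refine ⟨isCohenMacaulayRing_quotient_of_vertex 𝒜 h0 (I ⊓ J) hhom h1, ?_⟩
  rw [← height_map_irr_eq 𝒜 h0 hhom hne, ← h2,
    IsLocalization.AtPrime.ringKrullDim_eq_height ((irr 𝒜).map (Ideal.Quotient.mk (I ⊓ J)))
      (Localization.AtPrime ((irr 𝒜).map (Ideal.Quotient.mk (I ⊓ J))))]

/-- the kernel of `A/I → A/(I + (f))` -/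
lemma ker_factor_sup_span (I : Ideal A) (f : A) :
    LinearMap.ker (Ideal.Quotient.factorₐ A
      (le_sup_left : I ≤ I ⊔ Ideal.span {f})).toLinearMap =
      f • (⊤ : Submodule A (A ⧸ I)) := by
  ext y
  obtain ⟨a, rfl⟩ := Ideal.Quotient.mk_surjective y
  rw [LinearMap.mem_ker, Submodule.mem_smul_pointwise_iff_exists]
  constructor
  · intro h
    have h' : Ideal.Quotient.mk (I ⊔ Ideal.span {f}) a = 0 := h
    rw [Ideal.Quotient.eq_zero_iff_mem] at h'
    obtain ⟨i, hi, j, hj, hij⟩ := Submodule.mem_sup.mp h'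
    obtain ⟨r, rfl⟩ := Ideal.mem_span_singleton'.mp hj
    refine ⟨Ideal.Quotient.mk I r, Submodule.mem_top, ?_⟩
    rw [← hij, map_add, Ideal.Quotient.eq_zero_iff_mem.mpr hi, zero_add, Algebra.smul_def,
      mul_comm r f, map_mul]
    rfl
  · rintro ⟨z, -, hz⟩
    obtain ⟨b, rfl⟩ := Ideal.Quotient.mk_surjective z
    rw [← hz]
    show Ideal.Quotient.mk (I ⊔ Ideal.span {f}) (f * b) = 0
    rw [Ideal.Quotient.eq_zero_iff_mem]
    exact Ideal.mem_sup_right (Ideal.mul_mem_right _ _ (Ideal.mem_span_singleton_self f))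

/-- `(A/I)/f(A/I) ≃ A/(I + (f))` as `A`-modules -/
def quotSMulTopEquiv (I : Ideal A) (f : A) :
    QuotSMulTop f (A ⧸ I) ≃ₗ[A] A ⧸ (I ⊔ Ideal.span {f}) :=
  (Submodule.quotEquivOfEq _ _ (ker_factor_sup_span I f).symm) ≪≫ₗ
    LinearMap.quotKerEquivOfSurjective
      (Ideal.Quotient.factorₐ A (le_sup_left : I ≤ I ⊔ Ideal.span {f})).toLinearMap
      (Ideal.Quotient.factor_surjective (le_sup_left : I ≤ I ⊔ Ideal.span {f}))

include h0 in
/-- **a graded ring is Cohen–Macaulay if its quotient by a homogeneous non-zero-divisor of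
positive degree is** -/
theorem isCohenMacaulayRing_quotient_of_nzd (I : Ideal A) (hI : I.IsHomogeneous 𝒜)
    (f : A) (n : ℕ) (hn : 0 < n) (hf : f ∈ 𝒜 n) (hreg : ∀ a, f * a ∈ I → a ∈ I)
    (hCM : LocCoh.IsCohenMacaulayRing (A ⧸ (I ⊔ Ideal.span {f}))) :
    LocCoh.IsCohenMacaulayRing (A ⧸ I) := by
  by_cases hne : I = ⊤
  · haveI : Subsingleton (A ⧸ I) := Ideal.Quotient.subsingleton_iff.mpr hne
    exact ⟨fun p hp => absurd (Subsingleton.elim _ _) hp.ne_top⟩
  haveI : Nontrivial (A ⧸ I) := Ideal.Quotient.nontrivial_iff.mpr hne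
  haveI : Nontrivial A := (Ideal.Quotient.mk I).domain_nontrivial
  haveI h𝔪 : (irr 𝒜).IsMaximal := irr_isMaximal 𝒜 h0
  have hI𝔪 : I ≤ irr 𝒜 := le_irr_of_isHomogeneous 𝒜 h0 hI hne
  have hf𝔪 : f ∈ irr 𝒜 := mem_irr_of_mem 𝒜 hn hf
  have hLhom : (I ⊔ Ideal.span {f}).IsHomogeneous 𝒜 := by
    refine hI.sup (Ideal.homogeneous_span 𝒜 _ ?_)
    rintro _ rfl
    exact ⟨n, hf⟩
  have hL𝔪 : I ⊔ Ideal.span {f} ≤ irr 𝒜 :=
    sup_le hI𝔪 ((Ideal.span_singleton_le_iff_mem _).mpr hf𝔪)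
  have hLne : I ⊔ Ideal.span {f} ≠ ⊤ := fun h => h𝔪.ne_top (top_le_iff.mp (h ▸ hL𝔪))
  have hmax := map_irr_isMaximal 𝒜 h0 hI hne
  haveI hm : ((irr 𝒜).map (Ideal.Quotient.mk I)).IsPrime := hmax.isPrime
  have hmaxL := map_irr_isMaximal 𝒜 h0 hLhom hLne
  haveI hmL : ((irr 𝒜).map (Ideal.Quotient.mk (I ⊔ Ideal.span {f}))).IsPrime := hmaxL.isPrime
  -- the dimension of the quotient
  have hfin : ((irr 𝒜).map (Ideal.Quotient.mk (I ⊔ Ideal.span {f}))).height ≠ ⊤ :=
    Ideal.height_ne_top_of_isPrime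
  obtain ⟨d, hd⟩ := ENat.ne_top_iff_exists.mp hfin
  have hdimL : ringKrullDim (A ⧸ (I ⊔ Ideal.span {f})) = (d : WithBot ℕ∞) := by
    rw [← height_map_irr_eq 𝒜 h0 hLhom hLne, ← hd]
    rfl
  have hdL := idealDepth_irr_quotient 𝒜 h0 hLhom hLne hCM d hdimL
  -- regularity
  have hsreg : IsSMulRegular (A ⧸ I) f := by
    intro x y hxy
    obtain ⟨a, rfl⟩ := Ideal.Quotient.mk_surjective x
    obtain ⟨b, rfl⟩ := Ideal.Quotient.mk_surjective y
    have h1 : Ideal.Quotient.mk I (f * a) = Ideal.Quotient.mk I (f * b) := hxy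
    rw [Ideal.Quotient.eq] at h1 ⊢
    apply hreg
    rw [mul_sub]
    exact h1
  have hIM : irr 𝒜 • (⊤ : Submodule A (A ⧸ I)) ≠ ⊤ := by
    intro h
    have hle : irr 𝒜 • (⊤ : Submodule A (A ⧸ I)) ≤
        ((irr 𝒜).map (Ideal.Quotient.mk I)).restrictScalars A := by
      rw [Submodule.smul_le]
      intro r hr y _
      show r • y ∈ (irr 𝒜).map (Ideal.Quotient.mk I)
      rw [Algebra.smul_def]
      exact Ideal.mul_mem_right _ _ (Ideal.mem_map_of_mem _ hr)
    rw [h] at hle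
    have h1 : (1 : A ⧸ I) ∈ ((irr 𝒜).map (Ideal.Quotient.mk I)).restrictScalars A :=
      hle Submodule.mem_top
    exact hmax.ne_top ((Ideal.eq_top_iff_one _).mpr h1)
  have hadd := idealDepth_quotSMulTop_add_one (irr 𝒜) (A ⧸ I) hIM f hf𝔪 hsreg
  rw [idealDepth_congr (quotSMulTopEquiv I f) (irr 𝒜), hdL] at hadd
  -- depth at the vertex
  have hdepth : ((d : ℕ∞) + 1) ≤ LocCoh.idealDepth (irr 𝒜) (A ⧸ I) := hadd.le
  rw [idealDepth_restrictScalars_eq_idealDepth_map (B := A ⧸ I) (irr 𝒜) (A ⧸ I)] at hdepth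
  have h2 : LocCoh.idealDepth ((irr 𝒜).map (Ideal.Quotient.mk I)) (A ⧸ I) ≤
      LocCoh.depth (Localization.AtPrime ((irr 𝒜).map (Ideal.Quotient.mk I)))
        (LocalizedModule ((irr 𝒜).map (Ideal.Quotient.mk I)).primeCompl (A ⧸ I)) :=
    idealDepth_le_depth_localization _ _ le_rfl
  rw [depth_localizedModule_self] at h2
  have h3 := supportDim_localization_self ((irr 𝒜).map (Ideal.Quotient.mk I))
  -- the dimension bound
  have hmem : Ideal.Quotient.mk I f ∈ (irr 𝒜).map (Ideal.Quotient.mk I) :=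
    Ideal.mem_map_of_mem _ hf𝔪
  have h4 := Ideal.height_le_ringKrullDim_quotient_add_one hmem
  have hspan : Ideal.span {Ideal.Quotient.mk I f} = (Ideal.span {f}).map (Ideal.Quotient.mk I) := by
    rw [Ideal.map_span, Set.image_singleton]
  have h5 : ringKrullDim ((A ⧸ I) ⧸ Ideal.span {Ideal.Quotient.mk I f}) = (d : WithBot ℕ∞) := by
    rw [ringKrullDim_eq_of_ringEquiv (Ideal.quotEquivOfEq hspan),
      ringKrullDim_eq_of_ringEquiv (DoubleQuot.quotQuotEquivQuotSup I (Ideal.span {f})), hdimL]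
  rw [h5] at h4
  have hN : IsNoetherianRing (Localization.AtPrime ((irr 𝒜).map (Ideal.Quotient.mk I))) :=
    IsLocalization.isNoetherianRing ((irr 𝒜).map (Ideal.Quotient.mk I)).primeCompl _ inferInstance
  have h6 : ((LocCoh.depth (Localization.AtPrime ((irr 𝒜).map (Ideal.Quotient.mk I)))
      (Localization.AtPrime ((irr 𝒜).map (Ideal.Quotient.mk I))) : ℕ∞) : WithBot ℕ∞) ≤
      Module.supportDim (Localization.AtPrime ((irr 𝒜).map (Ideal.Quotient.mk I)))
        (Localization.AtPrime ((irr 𝒜).map (Ideal.Quotient.mk I))) := depth_le_supportDim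
  have h7 : (((d : ℕ∞) + 1 : ℕ∞) : WithBot ℕ∞) ≤
      ((LocCoh.depth (Localization.AtPrime ((irr 𝒜).map (Ideal.Quotient.mk I)))
        (Localization.AtPrime ((irr 𝒜).map (Ideal.Quotient.mk I))) : ℕ∞) : WithBot ℕ∞) :=
    WithBot.coe_le_coe.mpr (hdepth.trans h2)
  have h8 : (((d : ℕ∞) + 1 : ℕ∞) : WithBot ℕ∞) = (d : WithBot ℕ∞) + 1 := rfl
  have hCMloc : LocCoh.IsCohenMacaulayLocalRing
      (Localization.AtPrime ((irr 𝒜).map (Ideal.Quotient.mk I))) := by
    refine { supportDim_eq_depth := le_antisymm ?_ h6 }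
    rw [h3]
    refine h4.trans ?_
    rw [← h8]
    exact h7
  exact isCohenMacaulayRing_quotient_of_vertex 𝒜 h0 I hI hCMloc

end Global

section MvPoly

open MvPolynomial

attribute [local instance] MvPolynomial.gradedAlgebra

variable (K : Type u) [Field K] (σ : Type w)

lemma h0_mvPolynomial : ∀ a ∈ homogeneousSubmodule σ K 0,
    ∃ c : K, algebraMap K (MvPolynomial σ K) c = a := by
  intro a ha
  rw [homogeneousSubmodule_zero, Submodule.mem_one] at ha
  exact ha

lemma irr_mvPolynomial : irr (homogeneousSubmodule σ K) =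
    RingHom.ker (constantCoeff : MvPolynomial σ K →+* K) := by
  ext a
  rw [mem_irr_iff, RingHom.mem_ker]
  have h1 : (DirectSum.decompose (homogeneousSubmodule σ K) a 0 : MvPolynomial σ K) =
      homogeneousComponent 0 a := decomposition.decompose'_apply a 0
  rw [h1, homogeneousComponent_zero, constantCoeff_eq]
  exact map_eq_zero_iff _ (C_injective σ K)

variable {K σ}

lemma isHomogeneous_span_of_forall {T : Set (MvPolynomial σ K)}
    (hT : ∀ f ∈ T, ∃ k : ℕ, f.IsHomogeneous k) :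
    (Ideal.span T).IsHomogeneous (homogeneousSubmodule σ K) := by
  refine Ideal.homogeneous_span _ _ ?_
  intro f hf
  obtain ⟨k, hk⟩ := hT f hf
  exact ⟨k, (mem_homogeneousSubmodule k f).mpr hk⟩

/-- **a cone is Cohen–Macaulay iff it is so at its vertex**, for quotients of polynomial rings -/
theorem isCohenMacaulayRing_mvPolynomial_quotient_of_vertex [Finite σ]
    (I : Ideal (MvPolynomial σ K)) (hI : I.IsHomogeneous (homogeneousSubmodule σ K))
    [hm : ((RingHom.ker (constantCoeff : MvPolynomial σ K →+* K)).map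
      (Ideal.Quotient.mk I)).IsPrime]
    (hCM : LocCoh.IsCohenMacaulayLocalRing (Localization.AtPrime
      ((RingHom.ker (constantCoeff : MvPolynomial σ K →+* K)).map (Ideal.Quotient.mk I)))) :
    LocCoh.IsCohenMacaulayRing (MvPolynomial σ K ⧸ I) := by
  have key : ∀ (P : Ideal (MvPolynomial σ K)), P = irr (homogeneousSubmodule σ K) →
      ∀ [hm : (P.map (Ideal.Quotient.mk I)).IsPrime],
      LocCoh.IsCohenMacaulayLocalRing (Localization.AtPrime (P.map (Ideal.Quotient.mk I))) →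
      LocCoh.IsCohenMacaulayRing (MvPolynomial σ K ⧸ I) := by
    intro P hP
    subst hP
    intro hm hCM
    exact isCohenMacaulayRing_quotient_of_vertex (homogeneousSubmodule σ K)
      (h0_mvPolynomial K σ) I hI hCM
  exact key _ (irr_mvPolynomial K σ).symm hCM

end MvPoly

end Groth.Agent.Lib.LeadGCM
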