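import Mathlib
import Groth.Prelude.Def_W4bk4grassmannianPl
import Groth.Agent.Lib.Helper24Grass

/-!
# Evaluation of signed Plücker coordinates at the minors of a matrix (helper8)

`evalMinors A (coord a) = det (A.submatrix a id)` for arbitrary tuples `a`.
-/

noncomputable section

open MvPolynomial W4bk4grassmannian

namespace Groth.Agent.Lib.T2H8.Grass

variable {K : Type*} [CommRing K] {d n : ℕ}

theorem evalMinors_X (A : Matrix (Fin n) (Fin d) K) (θ : Idx d n) :
    evalMinors K d n A (X θ) = (A.submatrix θ.1 id).det := by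
  simp [evalMinors]

/-- the sorting permutation of an injective tuple -/
theorem exists_perm_sort (a : Fin d → Fin n) (h : (Finset.univ.image a).card = d) :
    ∃ σ : Equiv.Perm (Fin d), ∀ s, (sortIdx d n a h).1 (σ s) = a s := by
  have hinj := Helper24Grass.injective_of_card h
  let e := (Finset.univ.image a).orderIsoOfFin h
  let f : Fin d → Fin d := fun s => e.symm ⟨a s, Finset.mem_image_of_mem _ (Finset.mem_univ s)⟩
  have hf : Function.Injective f := by
    intro s t hst
    have := e.symm.injective hst
    exact hinj (Subtype.ext_iff.mp this)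
  refine ⟨Equiv.ofBijective f (Finite.injective_iff_bijective.mp hf), fun s => ?_⟩
  show ((Finset.univ.image a).orderEmbOfFin h (f s)) = a s
  rw [Finset.orderEmbOfFin_apply]
  show ((e (e.symm ⟨a s, Finset.mem_image_of_mem _ (Finset.mem_univ s)⟩) :
    ↥(Finset.univ.image a)) : Fin n) = a s
  rw [OrderIso.apply_symm_apply]

theorem neg_one_pow_invCount (a : Fin d → Fin n) (ha : Function.Injective a) :
    ((-1 : ℤ) ^ invCount d n a) = ∏ j, ∏ i ∈ Finset.Iio j, (if a i < a j then 1 else -1) := by
  unfold invCount
  rw [Finset.card_filter, ← Finset.prod_pow_eq_pow_sum, Fintype.prod_prod_type_right]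
  refine Finset.prod_congr rfl fun j _ => ?_
  rw [← Finset.prod_filter_mul_prod_filter_not Finset.univ (fun i => i < j)]
  have h2 : ∏ x ∈ Finset.univ.filter (fun i => ¬ i < j),
      (-1 : ℤ) ^ (if (x, j).1 < (x, j).2 ∧ a (x, j).2 < a (x, j).1 then 1 else 0) = 1 := by
    apply Finset.prod_eq_one
    intro i hi
    simp only [Finset.mem_filter, Finset.mem_univ, true_and] at hi
    simp [hi]
  rw [h2, mul_one]
  have h3 : Finset.univ.filter (fun i => i < j) = Finset.Iio j := by
    ext i; simp
  rw [h3]
  refine Finset.prod_congr rfl fun i hi => ?_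
  have hij : i < j := Finset.mem_Iio.mp hi
  have hne : a i ≠ a j := fun h => (ne_of_lt hij) (ha h)
  by_cases hlt : a i < a j
  · have : ¬ a j < a i := not_lt.mpr hlt.le
    simp [hij, hlt, this]
  · have : a j < a i := lt_of_le_of_ne (not_lt.mp hlt) (Ne.symm hne)
    simp [hij, hlt, this]

theorem sign_eq_invCount (θ : Idx d n) (σ : Equiv.Perm (Fin d)) :
    ((Equiv.Perm.sign σ : ℤˣ) : ℤ) = (-1) ^ invCount d n (θ.1 ∘ σ) := by
  rw [neg_one_pow_invCount _ (θ.2.injective.comp σ.injective), Equiv.Perm.sign_eq_prod_prod_Iio]
  push_cast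
  refine Finset.prod_congr rfl fun j _ => Finset.prod_congr rfl fun i _ => ?_
  simp only [Function.comp_apply, θ.2.lt_iff_lt]
  split_ifs <;> simp

theorem evalMinors_coord (A : Matrix (Fin n) (Fin d) K) (a : Fin d → Fin n) :
    evalMinors K d n A (coord K d n a) = (A.submatrix a id).det := by
  unfold coord
  split_ifs with h
  · obtain ⟨σ, hσ⟩ := exists_perm_sort a h
    have ha : a = (sortIdx d n a h).1 ∘ σ := by
      funext s; exact (hσ s).symm
    have h1 : A.submatrix a id = (A.submatrix (sortIdx d n a h).1 id).submatrix σ id := by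
      ext s t; simp [hσ]
    rw [map_mul, map_pow, map_neg, map_one, evalMinors_X, h1, Matrix.det_permute]
    congr 1
    have h2 := sign_eq_invCount (sortIdx d n a h) σ
    rw [← ha] at h2
    have h3 := congrArg (Int.cast (R := K)) h2
    push_cast at h3
    rw [← h3]
  · rw [map_zero]
    have hni : ¬ Function.Injective a := by
      intro hinj
      apply h
      rw [Finset.card_image_of_injective _ hinj]; simp
    rw [Function.Injective] at hni
    push Not at hni
    obtain ⟨s, t, hst, hne⟩ := hni
    exact (Matrix.det_zero_of_row_eq hne (by ext c; simp [hst])).symm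

end Groth.Agent.Lib.T2H8.Grass
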