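import Mathlib
import Groth.Prelude.Def_W4bk4grassmannianPl
import Groth.Agent.Lib.Helper24Grass
import Groth.Agent.Lib.T2H8GrassCoord

/-!
# Linear independence of standard monomials on Schubert varieties (helper8)

The minors of the generic matrix of shape `τ` (entries `x_{k,t}` for `k ≤ τ_t`, zero otherwise)
have the diagonal term as leading term for the lexicographic order; products of minors along
chains have pairwise distinct leading monomials.
-/

noncomputable section

open MvPolynomial W4bk4grassmannian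

namespace Groth.Agent.Lib.T2H8.Grass

section General

variable {σ ι K : Type*} [Field K]

/-- polynomials with pairwise distinct leading monomials are linearly independent -/
theorem coeff_eq_zero_of_degree_injOn (m : MonomialOrder σ) (s : Finset ι)
    (f : ι → MvPolynomial σ K) (g : ι → K) (hf : ∀ i ∈ s, f i ≠ 0)
    (hinj : Set.InjOn (fun i => m.degree (f i)) s) (h0 : ∑ i ∈ s, g i • f i = 0) :
    ∀ i ∈ s, g i = 0 := by
  classical
  by_contra hcon
  push Not at hcon
  obtain ⟨i₁, hi₁, hg₁⟩ := hcon
  have hne : (s.filter fun i => g i ≠ 0).Nonempty := ⟨i₁, Finset.mem_filter.mpr ⟨hi₁, hg₁⟩⟩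
  obtain ⟨i₀, hi₀, hmax⟩ := Finset.exists_max_image _ (fun i => m.toSyn (m.degree (f i))) hne
  rw [Finset.mem_filter] at hi₀
  have h1 := congrArg (coeff (m.degree (f i₀))) h0
  rw [coeff_sum, coeff_zero] at h1
  rw [Finset.sum_eq_single_of_mem i₀ hi₀.1] at h1
  · rw [coeff_smul, smul_eq_mul] at h1
    have : m.leadingCoeff (f i₀) ≠ 0 := MonomialOrder.leadingCoeff_ne_zero_iff.mpr (hf i₀ hi₀.1)
    rcases mul_eq_zero.mp h1 with h | h
    · exact hi₀.2 h
    · exact this h
  · intro i hi hne'
    rw [coeff_smul, smul_eq_mul]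
    by_cases hgi : g i = 0
    · rw [hgi, zero_mul]
    · have hle := hmax i (Finset.mem_filter.mpr ⟨hi, hgi⟩)
      have hne2 : m.degree (f i) ≠ m.degree (f i₀) := fun h => hne' (hinj hi hi₀.1 h)
      have hlt : m.toSyn (m.degree (f i)) < m.toSyn (m.degree (f i₀)) :=
        lt_of_le_of_ne hle (fun h => hne2 (m.toSyn.injective h))
      rw [MonomialOrder.coeff_eq_zero_of_lt hlt, mul_zero]

end General

section Shape

variable (K : Type*) [CommRing K] {d n : ℕ}

/-- the variables `x_{k,t}`, ordered lexicographically (row first) -/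
abbrev Var (n d : ℕ) : Type := Lex (Fin n × Fin d)

/-- the generic matrix of shape `τ`: `x_{k,t}` for `k ≤ τ_t`, zero otherwise -/
def shapeMat (τ : Idx d n) : Matrix (Fin n) (Fin d) (MvPolynomial (Var n d) K) :=
  Matrix.of fun k t => if k ≤ τ.1 t then X (toLex (k, t)) else 0

/-- the minor of the generic matrix of shape `τ` on the rows `φ` -/
def minorAt (τ φ : Idx d n) : MvPolynomial (Var n d) K :=
  ((shapeMat K τ).submatrix φ.1 id).det

/-- evaluation of Plücker polynomials on the generic matrix of shape `τ` -/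
def evalShape (τ : Idx d n) : PlRing K d n →ₐ[K] MvPolynomial (Var n d) K :=
  MvPolynomial.aeval (minorAt K τ)

theorem evalShape_X (τ φ : Idx d n) : evalShape K τ (X φ) = minorAt K τ φ := by
  simp [evalShape]

theorem evalShape_chainMon (τ : Idx d n) {m : ℕ} (c : Fin m → Idx d n) :
    evalShape K τ (chainMon K c) = ∏ k, minorAt K τ (c k) := by
  unfold chainMon
  rw [map_prod]
  simp only [evalShape_X]

/-- a square matrix with a zero block (rows `≥ t₀`, columns `≤ t₀`) has determinant zero -/
theorem det_eq_zero_of_block {R : Type*} [CommRing R] (B : Matrix (Fin d) (Fin d) R) (t₀ : Fin d)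
    (hB : ∀ s t, t₀ ≤ s → t ≤ t₀ → B s t = 0) : B.det = 0 := by
  rw [Matrix.det_apply']
  apply Finset.sum_eq_zero
  intro σ _
  have hex : ∃ t, t ≤ t₀ ∧ t₀ ≤ σ t := by
    by_contra hcon
    push Not at hcon
    let f : Fin (t₀.val + 1) → Fin t₀.val := fun x =>
      ⟨(σ ⟨x.val, by have := x.isLt; have := t₀.isLt; omega⟩).val, by
        have := hcon ⟨x.val, by have := x.isLt; have := t₀.isLt; omega⟩
          (by rw [Fin.le_def]; have := x.isLt; simp; omega)
        exact this⟩
    have hf : Function.Injective f := by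
      intro x y hxy
      have h1 : (f x).val = (f y).val := congrArg Fin.val hxy
      have h2 := σ.injective (Fin.ext h1)
      exact Fin.ext (by simpa using congrArg Fin.val h2)
    have := Fintype.card_le_of_injective f hf
    simp at this
  obtain ⟨t, ht1, ht2⟩ := hex
  have hz : ∏ i, B (σ i) i = 0 := Finset.prod_eq_zero (Finset.mem_univ t) (hB (σ t) t ht2 ht1)
  rw [hz, mul_zero]

theorem minorAt_eq_zero {τ φ : Idx d n} (h : ¬ φ ≤ τ) : minorAt K τ φ = 0 := by
  have h' : ∃ t₀, τ.1 t₀ < φ.1 t₀ := by
    by_contra hcon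
    push Not at hcon
    exact h hcon
  obtain ⟨t₀, ht₀⟩ := h'
  unfold minorAt
  apply det_eq_zero_of_block _ t₀
  intro s t hs ht
  simp only [Matrix.submatrix_apply, id, shapeMat, Matrix.of_apply]
  have h1 : τ.1 t ≤ τ.1 t₀ := τ.2.monotone ht
  have h2 : φ.1 t₀ ≤ φ.1 s := φ.2.monotone hs
  rw [if_neg]
  exact not_le.mpr (lt_of_le_of_lt h1 (lt_of_lt_of_le ht₀ h2))

end Shape

section Lead

variable {d n : ℕ}

/-- the diagonal exponent vector of a tuple of rows -/
def diagExp (ρ : Fin d → Fin n) : Var n d →₀ ℕ := ∑ t, Finsupp.single (toLex (ρ t, t)) 1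

theorem diagExp_apply (ρ : Fin d → Fin n) (k : Fin n) (t : Fin d) :
    diagExp ρ (toLex (k, t)) = if ρ t = k then 1 else 0 := by
  unfold diagExp
  rw [Finsupp.finset_sum_apply, Finset.sum_eq_single t]
  · rw [Finsupp.single_apply]
    by_cases h : ρ t = k
    · rw [if_pos h, if_pos (by rw [h])]
    · rw [if_neg h, if_neg]
      intro h'
      apply h
      have := congrArg (fun x => (ofLex x).1) h'
      simpa using this
  · intro t' _ hne
    rw [Finsupp.single_apply, if_neg]
    intro h
    apply hne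
    have := congrArg (fun x => (ofLex x).2) h
    simpa using this
  · intro h; exact absurd (Finset.mem_univ t) h

theorem diagExp_comp_lt (φ : Idx d n) (σ : Equiv.Perm (Fin d)) (hσ : σ ≠ 1) :
    toLex (diagExp (φ.1 ∘ σ)) < toLex (diagExp φ.1) := by
  have hex : ∃ s, σ s ≠ s := by
    by_contra h
    push Not at h
    exact hσ (Equiv.ext h)
  obtain ⟨s, hs, hmin⟩ : ∃ s, σ s ≠ s ∧ ∀ t, t < s → σ t = t := by
    obtain ⟨s0, hs0⟩ := hex
    obtain ⟨s, hs, hmin⟩ := Finset.exists_min_image (Finset.univ.filter fun t => σ t ≠ t) id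
      ⟨s0, by simp [hs0]⟩
    refine ⟨s, (Finset.mem_filter.mp hs).2, fun t ht => ?_⟩
    by_contra hne
    have := hmin t (Finset.mem_filter.mpr ⟨Finset.mem_univ _, hne⟩)
    exact absurd ht (not_lt.mpr this)
  have hge : ∀ t, s ≤ t → s ≤ σ t := by
    intro t ht
    by_contra hlt
    push Not at hlt
    have h1 := hmin (σ t) hlt
    have h2 := σ.injective h1
    rw [h2] at hlt
    exact absurd ht (not_le.mpr hlt)
  rw [Finsupp.Lex.lt_iff]
  refine ⟨toLex (φ.1 s, s), ?_, ?_⟩
  · intro j hj
    cases j using Lex.rec with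
    | _ p =>
      obtain ⟨k', t'⟩ := p
      rw [Prod.Lex.toLex_lt_toLex] at hj
      show diagExp (φ.1 ∘ σ) (toLex (k', t')) = diagExp φ.1 (toLex (k', t'))
      rw [diagExp_apply, diagExp_apply]
      by_cases ht' : t' < s
      · simp only [Function.comp_apply, hmin t' ht']
      · have ht'' : s ≤ t' := not_lt.mp ht'
        have hk' : k' < φ.1 s := by
          rcases hj with h | ⟨_, h⟩
          · exact h
          · exact absurd h ht'
        have h1 : φ.1 s ≤ φ.1 t' := φ.2.monotone ht''
        have h2 : φ.1 s ≤ φ.1 (σ t') := φ.2.monotone (hge t' ht'')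
        rw [if_neg, if_neg]
        · exact fun h => absurd (h ▸ h1) (not_le.mpr hk')
        · exact fun h => absurd (h ▸ h2) (not_le.mpr hk')
  · show diagExp (φ.1 ∘ σ) (toLex (φ.1 s, s)) < diagExp φ.1 (toLex (φ.1 s, s))
    rw [diagExp_apply, diagExp_apply, if_pos rfl, if_neg]
    · exact Nat.zero_lt_one
    · intro h
      exact hs (φ.2.injective h)

theorem diagExp_ne_zero (hd : 0 < d) (ρ : Fin d → Fin n) : diagExp ρ ≠ 0 := by
  intro h
  have := diagExp_apply ρ (ρ ⟨0, hd⟩) ⟨0, hd⟩
  rw [h, if_pos rfl] at this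
  simp at this

end Lead

section Lead2

variable (K : Type*) [Field K] {d n : ℕ}

/-- coefficient of the term of a permutation in a minor of the generic matrix of shape `τ` -/
def termCoeff (τ φ : Idx d n) (σ : Equiv.Perm (Fin d)) : K :=
  if ∀ t, φ.1 (σ t) ≤ τ.1 t then ((Equiv.Perm.sign σ : ℤ) : K) else 0

theorem minorAt_term (τ φ : Idx d n) (σ : Equiv.Perm (Fin d)) :
    ((Equiv.Perm.sign σ : ℤ) : MvPolynomial (Var n d) K) *
        ∏ t, ((shapeMat K τ).submatrix φ.1 id) (σ t) t =
      monomial (diagExp (φ.1 ∘ σ)) (termCoeff K τ φ σ) := by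
  unfold termCoeff
  by_cases hc : ∀ t, φ.1 (σ t) ≤ τ.1 t
  · rw [if_pos hc]
    have h1 : ∏ t, ((shapeMat K τ).submatrix φ.1 id) (σ t) t =
        monomial (diagExp (φ.1 ∘ σ)) (1 : K) := by
      unfold diagExp
      rw [monomial_sum_one]
      refine Finset.prod_congr rfl fun t _ => ?_
      simp only [Matrix.submatrix_apply, id, shapeMat, Matrix.of_apply, if_pos (hc t)]
      rfl
    rw [h1]
    have h2 : ((Equiv.Perm.sign σ : ℤ) : MvPolynomial (Var n d) K) =
        C (((Equiv.Perm.sign σ : ℤ) : K)) := by simp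
    rw [h2, C_mul_monomial, mul_one]
  · rw [if_neg hc, monomial_zero]
    push Not at hc
    obtain ⟨t, ht⟩ := hc
    have : ∏ t, ((shapeMat K τ).submatrix φ.1 id) (σ t) t = 0 := by
      apply Finset.prod_eq_zero (Finset.mem_univ t)
      simp only [Matrix.submatrix_apply, id, shapeMat, Matrix.of_apply]
      rw [if_neg (not_le.mpr ht)]
    rw [this, mul_zero]

theorem minorAt_eq (τ φ : Idx d n) (h : φ ≤ τ) :
    minorAt K τ φ = monomial (diagExp φ.1) (1 : K) +
      ∑ σ ∈ Finset.univ.erase (1 : Equiv.Perm (Fin d)),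
        monomial (diagExp (φ.1 ∘ σ)) (termCoeff K τ φ σ) := by
  unfold minorAt
  rw [Matrix.det_apply']
  simp_rw [minorAt_term]
  rw [← Finset.add_sum_erase Finset.univ _ (Finset.mem_univ (1 : Equiv.Perm (Fin d)))]
  congr 1
  have h1 : termCoeff K τ φ 1 = 1 := by
    unfold termCoeff
    have : ∀ t, φ.1 ((1 : Equiv.Perm (Fin d)) t) ≤ τ.1 t := fun t => h t
    rw [if_pos this]
    simp
  rw [h1]
  rfl

theorem degree_rest_lt (hd : 0 < d) (τ φ : Idx d n) :
    (MonomialOrder.lex : MonomialOrder (Var n d)).toSyn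
      ((MonomialOrder.lex : MonomialOrder (Var n d)).degree
        (∑ σ ∈ Finset.univ.erase (1 : Equiv.Perm (Fin d)),
          monomial (diagExp (φ.1 ∘ σ)) (termCoeff K τ φ σ))) <
    (MonomialOrder.lex : MonomialOrder (Var n d)).toSyn (diagExp φ.1) := by
  classical
  have h0 : (MonomialOrder.lex : MonomialOrder (Var n d)).toSyn 0 <
      (MonomialOrder.lex : MonomialOrder (Var n d)).toSyn (diagExp φ.1) := by
    rw [map_zero, MonomialOrder.toSyn_lt_iff_ne_zero]
    intro h
    exact diagExp_ne_zero hd φ.1 ((MonomialOrder.toSyn_eq_zero_iff _ _).mp h)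
  rw [MonomialOrder.degree_lt_iff h0]
  intro c hc
  have h1 := support_sum hc
  rw [Finset.mem_biUnion] at h1
  obtain ⟨σ, hσ, hcσ⟩ := h1
  have h2 := support_monomial_subset hcσ
  rw [Finset.mem_singleton] at h2
  rw [h2]
  exact diagExp_comp_lt φ σ (Finset.ne_of_mem_erase hσ)

theorem degree_minorAt (hd : 0 < d) (τ φ : Idx d n) (h : φ ≤ τ) :
    (MonomialOrder.lex : MonomialOrder (Var n d)).degree (minorAt K τ φ) = diagExp φ.1 := by
  classical
  rw [minorAt_eq K τ φ h]
  have hdeg : (MonomialOrder.lex : MonomialOrder (Var n d)).degree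
      (monomial (diagExp φ.1) (1 : K)) = diagExp φ.1 := by
    rw [MonomialOrder.degree_monomial, if_neg one_ne_zero]
  rw [MonomialOrder.degree_add_of_lt, hdeg]
  rw [hdeg]
  exact degree_rest_lt K hd τ φ

theorem monic_minorAt (hd : 0 < d) (τ φ : Idx d n) (h : φ ≤ τ) :
    (MonomialOrder.lex : MonomialOrder (Var n d)).Monic (minorAt K τ φ) := by
  classical
  rw [minorAt_eq K τ φ h]
  have hdeg : (MonomialOrder.lex : MonomialOrder (Var n d)).degree
      (monomial (diagExp φ.1) (1 : K)) = diagExp φ.1 := by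
    rw [MonomialOrder.degree_monomial, if_neg one_ne_zero]
  apply MonomialOrder.Monic.add_of_lt MonomialOrder.monic_monomial_one
  rw [hdeg]
  exact degree_rest_lt K hd τ φ

end Lead2

section Chains

variable (K : Type*) [Field K] {d n : ℕ}

/-- leading exponent of the product of the minors along a tuple of indices -/
def chainExp {m : ℕ} (c : Fin m → Idx d n) : Var n d →₀ ℕ := ∑ k, diagExp (c k).1

theorem degree_evalShape_chainMon (hd : 0 < d) (τ : Idx d n) {m : ℕ} (c : Fin m → Idx d n)
    (hc : ∀ k, c k ≤ τ) :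
    (MonomialOrder.lex : MonomialOrder (Var n d)).degree (evalShape K τ (chainMon K c)) =
      chainExp c := by
  rw [evalShape_chainMon, MonomialOrder.degree_prod_of_regular]
  · unfold chainExp
    exact Finset.sum_congr rfl fun k _ => degree_minorAt K hd τ (c k) (hc k)
  · intro k _
    rw [(monic_minorAt K hd τ (c k) (hc k)).leadingCoeff_eq_one]
    exact isRegular_one

theorem evalShape_chainMon_ne_zero (hd : 0 < d) (τ : Idx d n) {m : ℕ} (c : Fin m → Idx d n)
    (hc : ∀ k, c k ≤ τ) : evalShape K τ (chainMon K c) ≠ 0 := by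
  rw [evalShape_chainMon]
  exact (MonomialOrder.Monic.prod (m := (MonomialOrder.lex : MonomialOrder (Var n d)))
    fun k _ => monic_minorAt K hd τ (c k) (hc k)).ne_zero

theorem evalShape_chainMon_eq_zero (τ : Idx d n) {m : ℕ} (c : Fin m → Idx d n) (k : Fin m)
    (hk : ¬ c k ≤ τ) : evalShape K τ (chainMon K c) = 0 := by
  rw [evalShape_chainMon]
  exact Finset.prod_eq_zero (Finset.mem_univ k) (minorAt_eq_zero K hk)

omit K in
theorem chainExp_apply {m : ℕ} (c : Fin m → Idx d n) (k' : Fin n) (t : Fin d) :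
    chainExp c (toLex (k', t)) =
      Multiset.count k' (Multiset.map (fun k => (c k).1 t) Finset.univ.val) := by
  unfold chainExp
  rw [Finsupp.finset_sum_apply]
  simp_rw [diagExp_apply]
  rw [Multiset.count_map, Finset.sum_boole]
  simp only [Nat.cast_id]
  rw [Finset.card_def, Finset.filter_val]
  congr 1
  apply Multiset.filter_congr
  intro x _
  exact eq_comm

omit K in
/-- antitone tuples are determined by their leading exponent -/
theorem sigma_eq_of_chainExp_eq (hd : 0 < d) {m m' : ℕ} (c : Fin m → Idx d n)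
    (c' : Fin m' → Idx d n) (hc : Antitone c) (hc' : Antitone c') (h : chainExp c = chainExp c') :
    (⟨m, c⟩ : Σ m : ℕ, Fin m → Idx d n) = ⟨m', c'⟩ := by
  have hlist : ∀ t : Fin d, List.ofFn (fun k => (c k).1 t) = List.ofFn (fun k => (c' k).1 t) := by
    intro t
    apply List.Perm.eq_of_sortedGE
    · apply Antitone.sortedGE_ofFn
      intro a b hab
      exact hc hab t
    · apply Antitone.sortedGE_ofFn
      intro a b hab
      exact hc' hab t
    · rw [← Multiset.coe_eq_coe, ← Fin.univ_val_map, ← Fin.univ_val_map, Multiset.ext]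
      intro k'
      rw [← chainExp_apply, ← chainExp_apply, h]
  have hm : m = m' := by
    have := congrArg List.length (hlist ⟨0, hd⟩)
    simpa using this
  subst hm
  have : c = c' := by
    funext k
    apply Subtype.ext
    funext t
    exact congrFun (List.ofFn_injective (hlist t)) k
  rw [this]

end Chains

section Eval

variable (K : Type*) [Field K] {d n : ℕ}

theorem eval_minorAt (τ φ : Idx d n) (a : Var n d → K) :
    eval a (minorAt K τ φ) = (((shapeMat K τ).map (eval a)).submatrix φ.1 id).det := by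
  unfold minorAt
  rw [RingHom.map_det, RingHom.mapMatrix_apply]
  rfl

theorem eval_evalShape (τ : Idx d n) (a : Var n d → K) (F : PlRing K d n) :
    eval a (evalShape K τ F) = evalMinors K d n ((shapeMat K τ).map (eval a)) F := by
  induction F using MvPolynomial.induction_on with
  | C r => simp [evalShape, evalMinors]
  | add p q hp hq => rw [map_add, map_add, map_add, hp, hq]
  | mul_X p θ hp =>
    rw [map_mul, map_mul, map_mul, hp, evalShape_X, evalMinors_X, eval_minorAt]

theorem schubert_cond_shapeMat (τ : Idx d n) (a : Var n d → K) (φ : Idx d n) (h : ¬ φ ≤ τ) :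
    (((shapeMat K τ).map (eval a)).submatrix φ.1 id).det = 0 := by
  rw [← eval_minorAt, minorAt_eq_zero K h, map_zero]

theorem evalShape_eq_zero_of_mem [Infinite K] (τ : Idx d n) {F : PlRing K d n}
    (hF : F ∈ schubertVanishing K d n τ) : evalShape K τ F = 0 := by
  apply MvPolynomial.funext
  intro a
  rw [eval_evalShape, map_zero]
  unfold schubertVanishing at hF
  simp only [Ideal.mem_iInf] at hF
  exact hF _ (schubert_cond_shapeMat K τ a)

/-- the core of the independence of standard monomials: in a linear combination of products of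
Plücker coordinates along pairwise distinct antitone tuples which vanishes on `X(τ)`, the
coefficients of the tuples lying below `τ` are zero -/
theorem indep_core [Infinite K] (hd : 0 < d) (τ : Idx d n) {ι : Type*} (s : Finset ι)
    (m : ι → ℕ) (c : ∀ i, Fin (m i) → Idx d n) (hanti : ∀ i ∈ s, Antitone (c i))
    (hinj : ∀ i ∈ s, ∀ j ∈ s, (⟨m i, c i⟩ : Σ m : ℕ, Fin m → Idx d n) = ⟨m j, c j⟩ → i = j)
    (g : ι → K) (h0 : ∑ i ∈ s, g i • chainMon K (c i) ∈ schubertVanishing K d n τ) :
    ∀ i ∈ s, (∀ k, c i k ≤ τ) → g i = 0 := by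
  classical
  have h1 := evalShape_eq_zero_of_mem K τ h0
  rw [map_sum] at h1
  simp only [map_smul] at h1
  rw [← Finset.sum_filter_add_sum_filter_not s (fun i => ∀ k, c i k ≤ τ)] at h1
  have h2 : ∑ i ∈ s.filter (fun i => ¬ ∀ k, c i k ≤ τ),
      g i • evalShape K τ (chainMon K (c i)) = 0 := by
    apply Finset.sum_eq_zero
    intro i hi
    have := (Finset.mem_filter.mp hi).2
    push Not at this
    obtain ⟨k, hk⟩ := this
    rw [evalShape_chainMon_eq_zero K τ (c i) k hk, smul_zero]
  rw [h2, add_zero] at h1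
  have h3 := coeff_eq_zero_of_degree_injOn (MonomialOrder.lex : MonomialOrder (Var n d))
    (s.filter (fun i => ∀ k, c i k ≤ τ)) (fun i => evalShape K τ (chainMon K (c i))) g
    (fun i hi => evalShape_chainMon_ne_zero K hd τ (c i) (Finset.mem_filter.mp hi).2)
    (by
      intro i hi j hj hij
      have hi' := Finset.mem_filter.mp (Finset.mem_coe.mp hi)
      have hj' := Finset.mem_filter.mp (Finset.mem_coe.mp hj)
      simp only at hij
      rw [degree_evalShape_chainMon K hd τ (c i) hi'.2,
        degree_evalShape_chainMon K hd τ (c j) hj'.2] at hij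
      exact hinj i hi'.1 j hj'.1
        (sigma_eq_of_chainExp_eq hd (c i) (c j) (hanti i hi'.1) (hanti j hj'.1) hij))
    h1
  intro i hi hle
  exact h3 i (Finset.mem_filter.mpr ⟨hi, hle⟩)

end Eval

end Groth.Agent.Lib.T2H8.Grass
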