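import Mathlib

/-!
# Shuffle products of alternating maps are alternating (helper8)

* `eq_zero_of_adjacent`: a multilinear map on `Fin N` that vanishes on tuples with two equal
  adjacent entries vanishes on tuples with two equal entries.
* `shuf a b`: the `(p, q)`-shuffle product of two alternating forms, as a signed sum over subsets
  `A` of `Fin N` (of cardinality `p`, complement of cardinality `q`), via `Finset.orderEmbOfFin`.
* `shuf_eq_zero_of_not_linearIndependent`.
-/

noncomputable section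

namespace Groth.Agent.Lib.T2H8.Grass

section Adjacent

variable {R V W : Type*} [CommRing R] [AddCommGroup V] [Module R V] [AddCommGroup W] [Module R W]

theorem swap_add_of_adjacent {N : ℕ} (f : MultilinearMap R (fun _ : Fin N => V) W)
    (h : ∀ (v : Fin N → V) (k : ℕ) (hk : k + 1 < N),
      v ⟨k, by omega⟩ = v ⟨k + 1, hk⟩ → f v = 0)
    (v : Fin N → V) (k : ℕ) (hk : k + 1 < N) :
    f (v ∘ Equiv.swap (⟨k, by omega⟩ : Fin N) ⟨k + 1, hk⟩) + f v = 0 := by
  set i : Fin N := ⟨k, by omega⟩ with hi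
  set j : Fin N := ⟨k + 1, hk⟩ with hj
  have hij : i ≠ j := by
    intro h'
    have := congrArg Fin.val h'
    simp [hi, hj] at this
  have key : ∀ (u : Fin N → V), u i = u j → f u = 0 := fun u hu => h u k hk hu
  rw [Equiv.comp_swap_eq_update]
  have h0 : f (Function.update (Function.update v i (v i + v j)) j (v i + v j)) = 0 := by
    apply key
    rw [Function.update_of_ne hij, Function.update_self, Function.update_self]
  have c1 : Function.update (Function.update v i (v i + v j)) j (v i) =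
      Function.update (Function.update v j (v i)) i (v i + v j) := Function.update_comm hij _ _ _
  have c2 : Function.update (Function.update v i (v i + v j)) j (v j) =
      Function.update (Function.update v j (v j)) i (v i + v j) := Function.update_comm hij _ _ _
  rw [f.map_update_add, c1, c2, f.map_update_add, f.map_update_add] at h0
  have z1 : f (Function.update (Function.update v j (v i)) i (v i)) = 0 := by
    apply key
    rw [Function.update_self, Function.update_of_ne hij.symm, Function.update_self]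
  have z2 : f (Function.update (Function.update v j (v j)) i (v j)) = 0 := by
    apply key
    rw [Function.update_self, Function.update_of_ne hij.symm, Function.update_self]
  have z3 : Function.update (Function.update v j (v j)) i (v i) = v := by
    rw [Function.update_eq_self, Function.update_eq_self]
  rw [z1, z2, z3, zero_add, add_zero] at h0
  exact h0

theorem eq_zero_of_adjacent_aux {N : ℕ} (f : MultilinearMap R (fun _ : Fin N => V) W)
    (h : ∀ (v : Fin N → V) (k : ℕ) (hk : k + 1 < N),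
      v ⟨k, by omega⟩ = v ⟨k + 1, hk⟩ → f v = 0) :
    ∀ (g : ℕ) (v : Fin N → V) (i j : Fin N), j.val = i.val + g + 1 → v i = v j → f v = 0 := by
  intro g
  induction g with
  | zero =>
    intro v i j hj hv
    have hk : i.val + 1 < N := by have := j.isLt; omega
    apply h v i.val hk
    have e1 : (⟨i.val, by omega⟩ : Fin N) = i := Fin.ext rfl
    have e2 : (⟨i.val + 1, hk⟩ : Fin N) = j := Fin.ext (by simp [hj])
    rw [e1, e2]; exact hv
  | succ g ih =>
    intro v i j hj hv
    have hjlt := j.isLt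
    set j' : Fin N := ⟨j.val - 1, by omega⟩ with hj'
    have hk : (j.val - 1) + 1 < N := by omega
    have e2 : (⟨(j.val - 1) + 1, hk⟩ : Fin N) = j := Fin.ext (by simp; omega)
    have hs := swap_add_of_adjacent f h v (j.val - 1) hk
    rw [e2] at hs
    have hne1 : i ≠ j' := by
      intro h'; have := congrArg Fin.val h'; simp [hj'] at this; omega
    have hne2 : i ≠ j := by
      intro h'; have := congrArg Fin.val h'; omega
    have h0 : f (v ∘ Equiv.swap j' j) = 0 := by
      apply ih (v ∘ Equiv.swap j' j) i j'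
      · simp [hj']; omega
      · simp only [Function.comp_apply]
        rw [Equiv.swap_apply_of_ne_of_ne hne1 hne2, Equiv.swap_apply_left]
        exact hv
    rw [h0, zero_add] at hs
    exact hs

/-- a multilinear map on `Fin N` vanishing on tuples with two equal adjacent entries vanishes on
all tuples with two equal entries -/
theorem eq_zero_of_adjacent {N : ℕ} (f : MultilinearMap R (fun _ : Fin N => V) W)
    (h : ∀ (v : Fin N → V) (k : ℕ) (hk : k + 1 < N),
      v ⟨k, by omega⟩ = v ⟨k + 1, hk⟩ → f v = 0)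
    (v : Fin N → V) (i j : Fin N) (hv : v i = v j) (hij : i ≠ j) : f v = 0 := by
  rcases lt_or_gt_of_ne (fun h' => hij (Fin.ext h') : i.val ≠ j.val) with hlt | hlt
  · exact eq_zero_of_adjacent_aux f h (j.val - i.val - 1) v i j (by omega) hv
  · exact eq_zero_of_adjacent_aux f h (i.val - j.val - 1) v j i (by omega) hv.symm

end Adjacent

section Shuffle

variable {K V : Type*} [CommRing K] [AddCommGroup V] [Module K V] {N p q : ℕ}

/-- one term of the shuffle product -/
def shufTerm (a : V [⋀^Fin p]→ₗ[K] K) (b : V [⋀^Fin q]→ₗ[K] K) (A : Finset (Fin N))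
    (v : Fin N → V) : K :=
  if h : A.card = p ∧ Aᶜ.card = q then
    (-1) ^ (∑ x ∈ A, x.val) * (a (v ∘ A.orderEmbOfFin h.1) * b (v ∘ Aᶜ.orderEmbOfFin h.2))
  else 0

theorem update_comp_orderEmb_of_mem (A : Finset (Fin N)) {m : ℕ} (h : A.card = m)
    (v : Fin N → V) (t : Fin m) (z : V) :
    Function.update v (A.orderEmbOfFin h t) z ∘ A.orderEmbOfFin h =
      Function.update (v ∘ A.orderEmbOfFin h) t z :=
  Function.update_comp_eq_of_injective v (A.orderEmbOfFin h).injective t z

theorem update_comp_orderEmb_of_notMem (A : Finset (Fin N)) {m : ℕ} (h : A.card = m)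
    (v : Fin N → V) (k : Fin N) (hk : k ∉ A) (z : V) :
    Function.update v k z ∘ A.orderEmbOfFin h = v ∘ A.orderEmbOfFin h := by
  apply Function.update_comp_eq_of_forall_ne
  intro s hs
  have h1 := Finset.orderEmbOfFin_mem A h s
  rw [hs] at h1
  exact hk h1

theorem exists_orderEmb_eq (A : Finset (Fin N)) {m : ℕ} (h : A.card = m) {k : Fin N}
    (hk : k ∈ A) : ∃ t, A.orderEmbOfFin h t = k := by
  have : k ∈ Set.range (A.orderEmbOfFin h) := by rw [Finset.range_orderEmbOfFin]; exact hk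
  exact this

theorem shufTerm_update_add (a : V [⋀^Fin p]→ₗ[K] K) (b : V [⋀^Fin q]→ₗ[K] K)
    (A : Finset (Fin N)) (v : Fin N → V) (k : Fin N) (x y : V) :
    shufTerm a b A (Function.update v k (x + y)) =
      shufTerm a b A (Function.update v k x) + shufTerm a b A (Function.update v k y) := by
  unfold shufTerm
  split_ifs with h
  · by_cases hk : k ∈ A
    · obtain ⟨t, rfl⟩ := exists_orderEmb_eq A h.1 hk
      have hk' : A.orderEmbOfFin h.1 t ∉ Aᶜ := by simpa using hk
      simp only [update_comp_orderEmb_of_mem, update_comp_orderEmb_of_notMem Aᶜ h.2 v _ hk',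
        a.map_update_add]
      ring
    · have hk' : k ∈ Aᶜ := by simpa using hk
      obtain ⟨t, rfl⟩ := exists_orderEmb_eq Aᶜ h.2 hk'
      simp only [update_comp_orderEmb_of_mem, update_comp_orderEmb_of_notMem A h.1 v _ hk,
        b.map_update_add]
      ring
  · simp

theorem shufTerm_update_smul (a : V [⋀^Fin p]→ₗ[K] K) (b : V [⋀^Fin q]→ₗ[K] K)
    (A : Finset (Fin N)) (v : Fin N → V) (k : Fin N) (c : K) (x : V) :
    shufTerm a b A (Function.update v k (c • x)) =
      c • shufTerm a b A (Function.update v k x) := by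
  unfold shufTerm
  split_ifs with h
  · by_cases hk : k ∈ A
    · obtain ⟨t, rfl⟩ := exists_orderEmb_eq A h.1 hk
      have hk' : A.orderEmbOfFin h.1 t ∉ Aᶜ := by simpa using hk
      simp only [update_comp_orderEmb_of_mem, update_comp_orderEmb_of_notMem Aᶜ h.2 v _ hk',
        a.map_update_smul, smul_eq_mul]
      ring
    · have hk' : k ∈ Aᶜ := by simpa using hk
      obtain ⟨t, rfl⟩ := exists_orderEmb_eq Aᶜ h.2 hk'
      simp only [update_comp_orderEmb_of_mem, update_comp_orderEmb_of_notMem A h.1 v _ hk,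
        b.map_update_smul, smul_eq_mul]
      ring
  · simp

/-- the `(p, q)`-shuffle product of two alternating forms, as a multilinear map -/
def shuf (a : V [⋀^Fin p]→ₗ[K] K) (b : V [⋀^Fin q]→ₗ[K] K) :
    MultilinearMap K (fun _ : Fin N => V) K where
  toFun v := ∑ A : Finset (Fin N), shufTerm a b A v
  map_update_add' := by
    intro inst v k x y
    have : inst = instDecidableEqFin N := Subsingleton.elim _ _
    subst this
    simp only [shufTerm_update_add, Finset.sum_add_distrib]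
  map_update_smul' := by
    intro inst v k c x
    have : inst = instDecidableEqFin N := Subsingleton.elim _ _
    subst this
    simp only [shufTerm_update_smul, Finset.smul_sum]

theorem shuf_apply (a : V [⋀^Fin p]→ₗ[K] K) (b : V [⋀^Fin q]→ₗ[K] K) (v : Fin N → V) :
    shuf a b v = ∑ A : Finset (Fin N), shufTerm a b A v := rfl

end Shuffle

section ShuffleAlt

variable {K V : Type*} [CommRing K] [AddCommGroup V] [Module K V] {N p q : ℕ}

/-- the adjacent transposition -/
def adj (k : ℕ) (hk : k + 1 < N) : Equiv.Perm (Fin N) :=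
  Equiv.swap (⟨k, by omega⟩ : Fin N) ⟨k + 1, hk⟩

theorem adj_val (k : ℕ) (hk : k + 1 < N) (x : Fin N) :
    (adj k hk x).val = if x.val = k then k + 1 else if x.val = k + 1 then k else x.val := by
  unfold adj
  rw [Equiv.swap_apply_def]
  split_ifs with h1 h2 h3 h4 h5 h6 h7
  all_goals first
    | rfl
    | (exfalso; simp only [Fin.ext_iff] at *; omega)

theorem adj_adj (k : ℕ) (hk : k + 1 < N) (x : Fin N) : adj k hk (adj k hk x) = x := by
  unfold adj; simp

theorem comp_adj (v : Fin N → V) (k : ℕ) (hk : k + 1 < N)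
    (hv : v ⟨k, by omega⟩ = v ⟨k + 1, hk⟩) : v ∘ adj k hk = v := by
  funext x
  simp only [Function.comp_apply, adj]
  rw [Equiv.swap_apply_def]
  split_ifs with h1 h2
  · rw [h1]; exact hv.symm
  · rw [h2]; exact hv
  · rfl

/-- the image of a finset under the adjacent transposition -/
def adjSet (k : ℕ) (hk : k + 1 < N) (A : Finset (Fin N)) : Finset (Fin N) :=
  A.map (adj k hk).toEmbedding

theorem mem_adjSet (k : ℕ) (hk : k + 1 < N) (A : Finset (Fin N)) (x : Fin N) :
    x ∈ adjSet k hk A ↔ adj k hk x ∈ A := by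
  unfold adjSet
  constructor
  · intro h
    obtain ⟨y, hy, rfl⟩ := Finset.mem_map.mp h
    simpa [adj_adj] using hy
  · intro h
    exact Finset.mem_map.mpr ⟨adj k hk x, h, by simp [adj_adj]⟩

theorem adjSet_adjSet (k : ℕ) (hk : k + 1 < N) (A : Finset (Fin N)) :
    adjSet k hk (adjSet k hk A) = A := by
  ext x; simp [mem_adjSet, adj_adj]

theorem card_adjSet (k : ℕ) (hk : k + 1 < N) (A : Finset (Fin N)) :
    (adjSet k hk A).card = A.card := Finset.card_map _

theorem compl_adjSet (k : ℕ) (hk : k + 1 < N) (A : Finset (Fin N)) :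
    (adjSet k hk A)ᶜ = adjSet k hk Aᶜ := by
  ext x; simp [mem_adjSet]

theorem orderEmb_adjSet (k : ℕ) (hk : k + 1 < N) (B : Finset (Fin N)) {m : ℕ}
    (hB : ¬ ((⟨k, by omega⟩ : Fin N) ∈ B ∧ (⟨k + 1, hk⟩ : Fin N) ∈ B))
    (h : B.card = m) (h' : (adjSet k hk B).card = m) :
    ⇑((adjSet k hk B).orderEmbOfFin h') = adj k hk ∘ B.orderEmbOfFin h := by
  symm
  apply Finset.orderEmbOfFin_unique
  · intro x
    rw [mem_adjSet]
    simp only [Function.comp_apply, adj_adj]
    exact Finset.orderEmbOfFin_mem B h x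
  · intro s t hst
    have h1 : B.orderEmbOfFin h s < B.orderEmbOfFin h t := (B.orderEmbOfFin h).strictMono hst
    have hs := Finset.orderEmbOfFin_mem B h s
    have ht := Finset.orderEmbOfFin_mem B h t
    simp only [Function.comp_apply, Fin.lt_def, adj_val]
    rw [Fin.lt_def] at h1
    by_cases c1 : (B.orderEmbOfFin h s).val = k
    · have e1 : B.orderEmbOfFin h s = ⟨k, by omega⟩ := Fin.ext c1
      have c2 : (B.orderEmbOfFin h t).val ≠ k + 1 := by
        intro c2
        have e2 : B.orderEmbOfFin h t = ⟨k + 1, hk⟩ := Fin.ext c2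
        exact hB ⟨e1 ▸ hs, e2 ▸ ht⟩
      split_ifs <;> omega
    · by_cases c3 : (B.orderEmbOfFin h s).val = k + 1
      · split_ifs <;> omega
      · by_cases c4 : (B.orderEmbOfFin h t).val = k + 1
        · have e2 : B.orderEmbOfFin h t = ⟨k + 1, hk⟩ := Fin.ext c4
          have c5 : (B.orderEmbOfFin h s).val ≠ k := c1
          split_ifs <;> omega
        · split_ifs <;> omega

theorem sum_adjSet_of_mem (k : ℕ) (hk : k + 1 < N) (A : Finset (Fin N))
    (h1 : (⟨k, by omega⟩ : Fin N) ∈ A) (h2 : (⟨k + 1, hk⟩ : Fin N) ∉ A) :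
    ∑ x ∈ adjSet k hk A, x.val = (∑ x ∈ A, x.val) + 1 := by
  unfold adjSet
  rw [Finset.sum_map]
  rw [← Finset.add_sum_erase A _ h1, ← Finset.add_sum_erase A (fun x => x.val) h1]
  have e : ∀ x ∈ A.erase (⟨k, by omega⟩ : Fin N), ((adj k hk).toEmbedding x).val = x.val := by
    intro x hx
    have hx1 : x ≠ ⟨k, by omega⟩ := Finset.ne_of_mem_erase hx
    have hx2 : x ≠ ⟨k + 1, hk⟩ := fun h => h2 (h ▸ Finset.mem_of_mem_erase hx)
    show (adj k hk x).val = x.val
    unfold adj
    rw [Equiv.swap_apply_of_ne_of_ne hx1 hx2]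
  rw [Finset.sum_congr rfl e]
  have e0 : ((adj k hk).toEmbedding (⟨k, by omega⟩ : Fin N)).val = k + 1 := by
    show (adj k hk _).val = k + 1
    rw [adj_val]; simp
  rw [e0]
  ring

theorem neg_one_pow_sum_adjSet (k : ℕ) (hk : k + 1 < N) (A : Finset (Fin N))
    (hA : ¬ ((⟨k, by omega⟩ : Fin N) ∈ A ↔ (⟨k + 1, hk⟩ : Fin N) ∈ A)) :
    ((-1 : K) ^ (∑ x ∈ adjSet k hk A, x.val)) = - (-1 : K) ^ (∑ x ∈ A, x.val) := by
  by_cases h1 : (⟨k, by omega⟩ : Fin N) ∈ A
  · have h2 : (⟨k + 1, hk⟩ : Fin N) ∉ A := fun h2 => hA ⟨fun _ => h2, fun _ => h1⟩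
    rw [sum_adjSet_of_mem k hk A h1 h2, pow_succ]; ring
  · have h2 : (⟨k + 1, hk⟩ : Fin N) ∈ A := by
      by_contra h2; exact hA ⟨fun h => absurd h h1, fun h => absurd h h2⟩
    have h1' : (⟨k, by omega⟩ : Fin N) ∈ adjSet k hk A := by
      rw [mem_adjSet]
      have : adj k hk ⟨k, by omega⟩ = ⟨k + 1, hk⟩ := by unfold adj; simp
      rw [this]; exact h2
    have h2' : (⟨k + 1, hk⟩ : Fin N) ∉ adjSet k hk A := by
      rw [mem_adjSet]
      have : adj k hk ⟨k + 1, hk⟩ = ⟨k, by omega⟩ := by unfold adj; simp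
      rw [this]; exact h1
    have := sum_adjSet_of_mem k hk (adjSet k hk A) h1' h2'
    rw [adjSet_adjSet] at this
    rw [this, pow_succ]; ring

end ShuffleAlt

section ShuffleAlt2

variable {K V : Type*} [CommRing K] [AddCommGroup V] [Module K V] {N p q : ℕ}

theorem shufTerm_eq_zero_of_both_mem (a : V [⋀^Fin p]→ₗ[K] K) (b : V [⋀^Fin q]→ₗ[K] K)
    (A : Finset (Fin N)) (v : Fin N → V) {i j : Fin N} (hij : i ≠ j) (hv : v i = v j)
    (hi : i ∈ A) (hj : j ∈ A) : shufTerm a b A v = 0 := by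
  unfold shufTerm
  split_ifs with h
  · obtain ⟨s, hs⟩ := exists_orderEmb_eq A h.1 hi
    obtain ⟨t, ht⟩ := exists_orderEmb_eq A h.1 hj
    have hst : s ≠ t := by
      intro hst; apply hij; rw [← hs, ← ht, hst]
    have : a (v ∘ A.orderEmbOfFin h.1) = 0 := by
      apply a.map_eq_zero_of_eq _ _ hst
      simp only [Function.comp_apply, hs, ht, hv]
    rw [this]; ring
  · rfl

theorem shufTerm_eq_zero_of_both_notMem (a : V [⋀^Fin p]→ₗ[K] K) (b : V [⋀^Fin q]→ₗ[K] K)
    (A : Finset (Fin N)) (v : Fin N → V) {i j : Fin N} (hij : i ≠ j) (hv : v i = v j)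
    (hi : i ∉ A) (hj : j ∉ A) : shufTerm a b A v = 0 := by
  unfold shufTerm
  split_ifs with h
  · obtain ⟨s, hs⟩ := exists_orderEmb_eq Aᶜ h.2 (Finset.mem_compl.mpr hi)
    obtain ⟨t, ht⟩ := exists_orderEmb_eq Aᶜ h.2 (Finset.mem_compl.mpr hj)
    have hst : s ≠ t := by
      intro hst; apply hij; rw [← hs, ← ht, hst]
    have : b (v ∘ Aᶜ.orderEmbOfFin h.2) = 0 := by
      apply b.map_eq_zero_of_eq _ _ hst
      simp only [Function.comp_apply, hs, ht, hv]
    rw [this]; ring
  · rfl

theorem adj_left (k : ℕ) (hk : k + 1 < N) : adj k hk ⟨k, by omega⟩ = ⟨k + 1, hk⟩ := by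
  unfold adj; simp

theorem adj_right (k : ℕ) (hk : k + 1 < N) : adj k hk ⟨k + 1, hk⟩ = ⟨k, by omega⟩ := by
  unfold adj; simp

theorem shufTerm_adjSet (a : V [⋀^Fin p]→ₗ[K] K) (b : V [⋀^Fin q]→ₗ[K] K)
    (v : Fin N → V) (k : ℕ) (hk : k + 1 < N) (hv : v ⟨k, by omega⟩ = v ⟨k + 1, hk⟩)
    (A : Finset (Fin N))
    (hA : ¬ ((⟨k, by omega⟩ : Fin N) ∈ A ↔ (⟨k + 1, hk⟩ : Fin N) ∈ A)) :
    shufTerm a b (adjSet k hk A) v = - shufTerm a b A v := by
  have hA1 : ¬ ((⟨k, by omega⟩ : Fin N) ∈ A ∧ (⟨k + 1, hk⟩ : Fin N) ∈ A) :=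
    fun h => hA ⟨fun _ => h.2, fun _ => h.1⟩
  have hA2 : ¬ ((⟨k, by omega⟩ : Fin N) ∈ Aᶜ ∧ (⟨k + 1, hk⟩ : Fin N) ∈ Aᶜ) := by
    intro h
    rw [Finset.mem_compl, Finset.mem_compl] at h
    exact hA ⟨fun h' => absurd h' h.1, fun h' => absurd h' h.2⟩
  unfold shufTerm
  have hc : (adjSet k hk A)ᶜ = adjSet k hk Aᶜ := compl_adjSet k hk A
  by_cases h : A.card = p ∧ Aᶜ.card = q
  · have h' : (adjSet k hk A).card = p ∧ (adjSet k hk A)ᶜ.card = q := by
      rw [hc, card_adjSet, card_adjSet]; exact h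
    rw [dif_pos h, dif_pos h']
    have e1 : ⇑((adjSet k hk A).orderEmbOfFin h'.1) = adj k hk ∘ A.orderEmbOfFin h.1 :=
      orderEmb_adjSet k hk A hA1 h.1 h'.1
    have e2 : ∀ (B : Finset (Fin N)) (hB : B = adjSet k hk Aᶜ) (hq : B.card = q),
        ⇑(B.orderEmbOfFin hq) = adj k hk ∘ Aᶜ.orderEmbOfFin h.2 := by
      intro B hB hq
      subst hB
      exact orderEmb_adjSet k hk Aᶜ hA2 h.2 hq
    rw [e1, e2 _ hc h'.2, ← Function.comp_assoc, ← Function.comp_assoc, comp_adj v k hk hv,
      neg_one_pow_sum_adjSet k hk A hA]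
    ring
  · have h' : ¬ ((adjSet k hk A).card = p ∧ (adjSet k hk A)ᶜ.card = q) := by
      rw [hc, card_adjSet, card_adjSet]; exact h
    rw [dif_neg h, dif_neg h']; simp

theorem shuf_adjacent (a : V [⋀^Fin p]→ₗ[K] K) (b : V [⋀^Fin q]→ₗ[K] K)
    (v : Fin N → V) (k : ℕ) (hk : k + 1 < N) (hv : v ⟨k, by omega⟩ = v ⟨k + 1, hk⟩) :
    shuf a b v = 0 := by
  rw [shuf_apply]
  have hij : (⟨k, by omega⟩ : Fin N) ≠ ⟨k + 1, hk⟩ := by
    intro h; have := congrArg Fin.val h; simp at this
  have hz : ∀ A : Finset (Fin N),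
      ((⟨k, by omega⟩ : Fin N) ∈ A ↔ (⟨k + 1, hk⟩ : Fin N) ∈ A) → shufTerm a b A v = 0 := by
    intro A hA
    by_cases h1 : (⟨k, by omega⟩ : Fin N) ∈ A
    · exact shufTerm_eq_zero_of_both_mem a b A v hij hv h1 (hA.mp h1)
    · exact shufTerm_eq_zero_of_both_notMem a b A v hij hv h1 (fun h2 => h1 (hA.mpr h2))
  have hmem : ∀ A : Finset (Fin N),
      ((⟨k, by omega⟩ : Fin N) ∈ adjSet k hk A ↔ (⟨k + 1, hk⟩ : Fin N) ∈ adjSet k hk A) ↔
      ((⟨k, by omega⟩ : Fin N) ∈ A ↔ (⟨k + 1, hk⟩ : Fin N) ∈ A) := by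
    intro A
    rw [mem_adjSet, mem_adjSet, adj_left, adj_right]
    tauto
  apply Finset.sum_involution (fun A _ => adjSet k hk A)
  · intro A _
    by_cases hA : ((⟨k, by omega⟩ : Fin N) ∈ A ↔ (⟨k + 1, hk⟩ : Fin N) ∈ A)
    · rw [hz A hA, hz _ ((hmem A).mpr hA), add_zero]
    · rw [shufTerm_adjSet a b v k hk hv A hA, add_neg_cancel]
  · intro A _ hne heq
    apply hne
    apply hz
    have h1 := mem_adjSet k hk A ⟨k, by omega⟩
    rw [heq, adj_left] at h1
    exact h1
  · intro A _; exact Finset.mem_univ _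
  · intro A _; exact adjSet_adjSet k hk A

/-- the shuffle product vanishes on tuples with two equal entries -/
theorem shuf_eq_zero_of_eq (a : V [⋀^Fin p]→ₗ[K] K) (b : V [⋀^Fin q]→ₗ[K] K)
    (v : Fin N → V) (i j : Fin N) (hv : v i = v j) (hij : i ≠ j) : shuf a b v = 0 :=
  eq_zero_of_adjacent (shuf a b) (fun v k hk hv => shuf_adjacent a b v k hk hv) v i j hv hij

/-- the shuffle product, as an alternating map -/
def shufAlt (a : V [⋀^Fin p]→ₗ[K] K) (b : V [⋀^Fin q]→ₗ[K] K) : V [⋀^Fin N]→ₗ[K] K :=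
  { shuf a b with
    map_eq_zero_of_eq' := fun v i j hv hij => shuf_eq_zero_of_eq a b v i j hv hij }

theorem shufAlt_apply (a : V [⋀^Fin p]→ₗ[K] K) (b : V [⋀^Fin q]→ₗ[K] K) (v : Fin N → V) :
    shufAlt a b v = ∑ A : Finset (Fin N), shufTerm a b A v := rfl

end ShuffleAlt2

section Dependent

variable {K : Type*} [Field K] {d p q : ℕ}

/-- the shuffle product of alternating forms on `K^d` vanishes on more than `d` vectors -/
theorem sum_shufTerm_eq_zero (a : (Fin d → K) [⋀^Fin p]→ₗ[K] K) (b : (Fin d → K) [⋀^Fin q]→ₗ[K] K)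
    {N : ℕ} (hN : d < N) (v : Fin N → (Fin d → K)) :
    ∑ A : Finset (Fin N), shufTerm a b A v = 0 := by
  rw [← shufAlt_apply]
  apply AlternatingMap.map_linearDependent
  intro hli
  have := hli.fintype_card_le_finrank
  simp at this
  omega

end Dependent

end Groth.Agent.Lib.T2H8.Grass
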