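import Mathlib
import Groth.Prelude.Def_W4bk4grassmannianPl
import Groth.Agent.Lib.Helper24Grass
import Groth.Agent.Lib.T2H8GrassCoord
import Groth.Agent.Lib.T2H8GrassShuffle

/-!
# The shuffle relations vanish at the minors of every matrix (helper8)
-/

noncomputable section

open MvPolynomial W4bk4grassmannian

namespace Groth.Agent.Lib.T2H8.Grass

section Rows

variable {K : Type*} [CommRing K] {d : ℕ}

/-- the matrix with first `r + 1` rows `u` and the other rows from `c` -/
def rowsI (c : Fin d → (Fin d → K)) (r : Fin d) (u : Fin (r.val + 1) → (Fin d → K)) :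
    Matrix (Fin d) (Fin d) K :=
  Matrix.of fun t => if h : t.val ≤ r.val then u ⟨t.val, by omega⟩ else c t

/-- the matrix with first `r` rows from `c` and the last `d - r` rows `u` -/
def rowsJ (c : Fin d → (Fin d → K)) (r : Fin d) (u : Fin (d - r.val) → (Fin d → K)) :
    Matrix (Fin d) (Fin d) K :=
  Matrix.of fun t => if h : t.val < r.val then c t
    else u ⟨t.val - r.val, by have := t.isLt; omega⟩

theorem rowsI_update (c : Fin d → (Fin d → K)) (r : Fin d) (u : Fin (r.val + 1) → (Fin d → K))
    (s : Fin (r.val + 1)) (x : Fin d → K) :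
    rowsI c r (Function.update u s x) =
      (rowsI c r u).updateRow ⟨s.val, by have := s.isLt; have := r.isLt; omega⟩ x := by
  ext t col
  rw [Matrix.updateRow_apply]
  unfold rowsI
  simp only [Matrix.of_apply]
  by_cases h : t.val ≤ r.val
  · simp only [dif_pos h]
    by_cases hts : t = ⟨s.val, by have := s.isLt; have := r.isLt; omega⟩
    · rw [if_pos hts]
      have : (⟨t.val, by omega⟩ : Fin (r.val + 1)) = s := by
        apply Fin.ext; simp [hts]
      rw [this, Function.update_self]
    · rw [if_neg hts]
      have : (⟨t.val, by omega⟩ : Fin (r.val + 1)) ≠ s := by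
        intro h'; apply hts; apply Fin.ext; simp [← h']
      rw [Function.update_of_ne this]
  · simp only [dif_neg h]
    have hts : t ≠ ⟨s.val, by have := s.isLt; have := r.isLt; omega⟩ := by
      intro h'; apply h; rw [h']; have := s.isLt; simp; omega
    rw [if_neg hts]

theorem rowsJ_update (c : Fin d → (Fin d → K)) (r : Fin d) (u : Fin (d - r.val) → (Fin d → K))
    (s : Fin (d - r.val)) (x : Fin d → K) :
    rowsJ c r (Function.update u s x) =
      (rowsJ c r u).updateRow ⟨s.val + r.val, by have := s.isLt; omega⟩ x := by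
  ext t col
  rw [Matrix.updateRow_apply]
  unfold rowsJ
  simp only [Matrix.of_apply]
  by_cases h : t.val < r.val
  · simp only [dif_pos h]
    have hts : t ≠ ⟨s.val + r.val, by have := s.isLt; omega⟩ := by
      intro h'; rw [h'] at h; simp at h
    rw [if_neg hts]
  · simp only [dif_neg h]
    by_cases hts : t = ⟨s.val + r.val, by have := s.isLt; omega⟩
    · rw [if_pos hts]
      have : (⟨t.val - r.val, by have := t.isLt; omega⟩ : Fin (d - r.val)) = s := by
        apply Fin.ext; simp [hts]
      rw [this, Function.update_self]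
    · rw [if_neg hts]
      have : (⟨t.val - r.val, by have := t.isLt; omega⟩ : Fin (d - r.val)) ≠ s := by
        intro h'; apply hts; apply Fin.ext; simp [← h']; omega
      rw [Function.update_of_ne this]

/-- determinant with the first `r + 1` rows variable, as an alternating map -/
def altI (c : Fin d → (Fin d → K)) (r : Fin d) : (Fin d → K) [⋀^Fin (r.val + 1)]→ₗ[K] K where
  toFun u := (rowsI c r u).det
  map_update_add' := by
    intro inst u s x y
    have : inst = instDecidableEqFin _ := Subsingleton.elim _ _
    subst this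
    simp only [rowsI_update, Matrix.det_updateRow_add]
  map_update_smul' := by
    intro inst u s a x
    have : inst = instDecidableEqFin _ := Subsingleton.elim _ _
    subst this
    simp only [rowsI_update, Matrix.det_updateRow_smul, smul_eq_mul]
  map_eq_zero_of_eq' := by
    intro u s t hst hne
    have hs := s.isLt
    have ht := t.isLt
    have hr := r.isLt
    apply Matrix.det_zero_of_row_eq (i := (⟨s.val, by omega⟩ : Fin d)) (j := ⟨t.val, by omega⟩)
    · intro h'; apply hne; apply Fin.ext; simpa using congrArg Fin.val h'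
    · funext col
      simp only [rowsI, Matrix.of_apply]
      rw [dif_pos (by show s.val ≤ r.val; omega), dif_pos (by show t.val ≤ r.val; omega)]
      exact congrFun hst col

/-- determinant with the last `d - r` rows variable, as an alternating map -/
def altJ (c : Fin d → (Fin d → K)) (r : Fin d) : (Fin d → K) [⋀^Fin (d - r.val)]→ₗ[K] K where
  toFun u := (rowsJ c r u).det
  map_update_add' := by
    intro inst u s x y
    have : inst = instDecidableEqFin _ := Subsingleton.elim _ _
    subst this
    simp only [rowsJ_update, Matrix.det_updateRow_add]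
  map_update_smul' := by
    intro inst u s a x
    have : inst = instDecidableEqFin _ := Subsingleton.elim _ _
    subst this
    simp only [rowsJ_update, Matrix.det_updateRow_smul, smul_eq_mul]
  map_eq_zero_of_eq' := by
    intro u s t hst hne
    have hs := s.isLt
    have ht := t.isLt
    have hr := r.isLt
    apply Matrix.det_zero_of_row_eq (i := (⟨s.val + r.val, by omega⟩ : Fin d))
      (j := ⟨t.val + r.val, by omega⟩)
    · intro h'; apply hne; apply Fin.ext
      have := congrArg Fin.val h'
      simp at this; omega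
    · funext col
      simp only [rowsJ, Matrix.of_apply]
      rw [dif_neg (by simp), dif_neg (by simp)]
      simp only [Nat.add_sub_cancel]
      exact congrFun hst col

theorem altI_apply (c : Fin d → (Fin d → K)) (r : Fin d) (u : Fin (r.val + 1) → (Fin d → K)) :
    altI c r u = (rowsI c r u).det := rfl

theorem altJ_apply (c : Fin d → (Fin d → K)) (r : Fin d) (u : Fin (d - r.val) → (Fin d → K)) :
    altJ c r u = (rowsJ c r u).det := rfl

end Rows

section Main

variable {K : Type*} [Field K] {d n : ℕ}

theorem submatrix_shuffleI (A : Matrix (Fin n) (Fin d) K) (i j : Idx d n) (r : Fin d)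
    (S : Finset (Fin (d + 1))) (hS : S.card = r.val + 1) :
    A.submatrix (shuffleI i j r S hS) id =
      rowsI (fun t => A (i.1 t)) r ((fun k => A (movingRows i j r k)) ∘ S.orderEmbOfFin hS) := by
  ext t col
  simp only [Matrix.submatrix_apply, id, rowsI, Matrix.of_apply, shuffleI]
  split_ifs <;> rfl

theorem submatrix_shuffleJ (A : Matrix (Fin n) (Fin d) K) (i j : Idx d n) (r : Fin d)
    (S : Finset (Fin (d + 1))) (hS : S.card = r.val + 1) (hC : Sᶜ.card = d - r.val) :
    A.submatrix (shuffleJ i j r S hS) id =
      rowsJ (fun t => A (j.1 t)) r ((fun k => A (movingRows i j r k)) ∘ Sᶜ.orderEmbOfFin hC) := by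
  ext t col
  simp only [Matrix.submatrix_apply, id, rowsJ, Matrix.of_apply, shuffleJ]
  split_ifs <;> rfl

theorem sum_val_ge {N : ℕ} (S : Finset (Fin N)) (m : ℕ) (hS : S.card = m + 1) :
    m * (m + 1) / 2 ≤ ∑ x ∈ S, x.val := by
  have h1 : ∑ t : Fin (m + 1), (S.orderEmbOfFin hS t).val = ∑ x ∈ S, x.val := by
    conv_rhs => rw [← Finset.map_orderEmbOfFin_univ S hS]
    rw [Finset.sum_map]
    rfl
  rw [← h1]
  have h2 : ∑ t : Fin (m + 1), t.val ≤ ∑ t : Fin (m + 1), (S.orderEmbOfFin hS t).val :=
    Finset.sum_le_sum fun t _ =>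
      Helper24Grass.val_le_of_strictMono _ (S.orderEmbOfFin hS).strictMono t
  have h3 : ∑ t : Fin (m + 1), t.val = m * (m + 1) / 2 := by
    rw [Fin.sum_univ_eq_sum_range (fun t => t) (m + 1), Finset.sum_range_id]
    simp [Nat.mul_comm]
  omega

theorem neg_one_pow_shuffleSign (r : Fin d) (S : Finset (Fin (d + 1))) (hS : S.card = r.val + 1) :
    (-1 : K) ^ (shuffleSign r S) =
      (-1) ^ (r.val * (r.val + 1) / 2) * (-1) ^ (∑ x ∈ S, x.val) := by
  unfold shuffleSign
  obtain ⟨e, he⟩ := Nat.exists_eq_add_of_le (sum_val_ge S r.val hS)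
  rw [he, Nat.add_sub_cancel_left, pow_add, ← mul_assoc, ← pow_add, ← two_mul, pow_mul]
  simp

theorem evalMinors_shuffleTerm (A : Matrix (Fin n) (Fin d) K) (i j : Idx d n) (r : Fin d)
    (S : Finset (Fin (d + 1))) :
    evalMinors K d n A (shuffleTerm K i j r S) =
      (-1) ^ (r.val * (r.val + 1) / 2) *
        shufTerm (altI (fun t => A (i.1 t)) r) (altJ (fun t => A (j.1 t)) r) S
          (fun k => A (movingRows i j r k)) := by
  unfold shuffleTerm shufTerm
  by_cases hS : S.card = r.val + 1
  · have hC : Sᶜ.card = d - r.val := by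
      rw [Finset.card_compl, hS, Fintype.card_fin]; omega
    rw [dif_pos hS, dif_pos ⟨hS, hC⟩, map_mul, map_mul, map_pow, map_neg, map_one,
      evalMinors_coord, evalMinors_coord, submatrix_shuffleI, submatrix_shuffleJ A i j r S hS hC,
      altI_apply, altJ_apply, neg_one_pow_shuffleSign r S hS]
    ring
  · rw [dif_neg hS, dif_neg (fun h => hS h.1), map_zero, mul_zero]

/-- the shuffle relations vanish at the minors of every matrix over a field -/
theorem evalMinors_shuffleRel (A : Matrix (Fin n) (Fin d) K) (i j : Idx d n) (r : Fin d) :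
    evalMinors K d n A (shuffleRel K i j r) = 0 := by
  unfold shuffleRel
  rw [map_sum]
  simp_rw [evalMinors_shuffleTerm]
  rw [← Finset.mul_sum, sum_shufTerm_eq_zero _ _ (Nat.lt_succ_self d), mul_zero]

theorem plIdealTop_le_ker (A : Matrix (Fin n) (Fin d) K) :
    plIdealTop (d := d) (n := n) K ≤ RingHom.ker (evalMinors K d n A).toRingHom := by
  unfold plIdealTop
  rw [Ideal.span_le]
  rintro f ⟨i, j, r, -, rfl⟩
  exact evalMinors_shuffleRel A i j r

theorem plIdealTop_le_vanishing : plIdealTop (d := d) (n := n) K ≤ vanishing K d n := by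
  unfold vanishing
  exact le_iInf fun A => plIdealTop_le_ker A

theorem plIdealTop_le_schubertVanishing (τ : Idx d n) :
    plIdealTop (d := d) (n := n) K ≤ schubertVanishing K d n τ := by
  unfold schubertVanishing
  exact le_iInf fun A => le_iInf fun _ => plIdealTop_le_ker A

theorem X_mem_schubertVanishing {τ φ : Idx d n} (h : ¬ φ ≤ τ) :
    (X φ : PlRing K d n) ∈ schubertVanishing K d n τ := by
  unfold schubertVanishing
  simp only [Ideal.mem_iInf]
  intro A hA
  show evalMinors K d n A (X φ) = 0
  rw [evalMinors_X]
  exact hA φ h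

theorem plIdealTop_le_plIdeal (τ : Idx d n) : plIdealTop (d := d) (n := n) K ≤ plIdeal K τ := by
  unfold plIdealTop plIdeal
  exact Ideal.span_mono Set.subset_union_left

theorem plIdeal_le_schubertVanishing (τ : Idx d n) :
    plIdeal K τ ≤ schubertVanishing K d n τ := by
  unfold plIdeal
  rw [Ideal.span_le]
  rintro f (⟨i, j, r, hp, rfl⟩ | ⟨φ, hφ, rfl⟩)
  · exact plIdealTop_le_schubertVanishing τ (Ideal.subset_span ⟨i, j, r, hp, rfl⟩)
  · exact X_mem_schubertVanishing hφ

end Main

end Groth.Agent.Lib.T2H8.Grass
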