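import Mathlib
import Groth.Prelude.Def_W4bk4grassmannianPl
import Groth.Agent.Lib.Helper24Grass
import Groth.Agent.Lib.T2H8GrassCoord
import Groth.Agent.Lib.T2H8GrassIndep

/-!
# Independence of standard monomials on Richardson varieties (helper8)

Two-sided version of `T2H8GrassIndep`: the generic matrix with `x_{k,t}` for `β_t ≤ k ≤ τ_t` and
zero otherwise.  Its minors on rows `φ` vanish unless `β ≤ φ ≤ τ`, and then have the diagonal
term as leading term.
-/

noncomputable section

open MvPolynomial W4bk4grassmannian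

namespace Groth.Agent.Lib.T2H8.Grass

section Shape2

variable (K : Type*) [CommRing K] {d n : ℕ}

/-- the generic matrix of two-sided shape `(β, τ)` -/
def shapeMat2 (β τ : Idx d n) : Matrix (Fin n) (Fin d) (MvPolynomial (Var n d) K) :=
  Matrix.of fun k t => if β.1 t ≤ k ∧ k ≤ τ.1 t then X (toLex (k, t)) else 0

/-- the minor of the generic matrix of shape `(β, τ)` on the rows `φ` -/
def minorAt2 (β τ φ : Idx d n) : MvPolynomial (Var n d) K :=
  ((shapeMat2 K β τ).submatrix φ.1 id).det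

/-- evaluation of Plücker polynomials on the generic matrix of shape `(β, τ)` -/
def evalShape2 (β τ : Idx d n) : PlRing K d n →ₐ[K] MvPolynomial (Var n d) K :=
  MvPolynomial.aeval (minorAt2 K β τ)

theorem evalShape2_X (β τ φ : Idx d n) : evalShape2 K β τ (X φ) = minorAt2 K β τ φ := by
  simp [evalShape2]

theorem evalShape2_chainMon (β τ : Idx d n) {m : ℕ} (c : Fin m → Idx d n) :
    evalShape2 K β τ (chainMon K c) = ∏ k, minorAt2 K β τ (c k) := by
  unfold chainMon
  rw [map_prod]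
  simp only [evalShape2_X]

theorem minorAt2_eq_zero_of_not_le {β τ φ : Idx d n} (h : ¬ φ ≤ τ) : minorAt2 K β τ φ = 0 := by
  have h' : ∃ t₀, τ.1 t₀ < φ.1 t₀ := by
    by_contra hcon
    push Not at hcon
    exact h hcon
  obtain ⟨t₀, ht₀⟩ := h'
  unfold minorAt2
  apply det_eq_zero_of_block _ t₀
  intro s t hs ht
  simp only [Matrix.submatrix_apply, id, shapeMat2, Matrix.of_apply]
  have h1 : τ.1 t ≤ τ.1 t₀ := τ.2.monotone ht
  have h2 : φ.1 t₀ ≤ φ.1 s := φ.2.monotone hs
  rw [if_neg]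
  intro hh
  exact absurd hh.2 (not_le.mpr (lt_of_le_of_lt h1 (lt_of_lt_of_le ht₀ h2)))

theorem minorAt2_eq_zero_of_not_ge {β τ φ : Idx d n} (h : ¬ β ≤ φ) : minorAt2 K β τ φ = 0 := by
  have h' : ∃ t₀, φ.1 t₀ < β.1 t₀ := by
    by_contra hcon
    push Not at hcon
    exact h hcon
  obtain ⟨t₀, ht₀⟩ := h'
  unfold minorAt2
  rw [← Matrix.det_transpose]
  apply det_eq_zero_of_block _ t₀
  intro s t hs ht
  simp only [Matrix.transpose_apply, Matrix.submatrix_apply, id, shapeMat2, Matrix.of_apply]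
  have h1 : β.1 t₀ ≤ β.1 s := β.2.monotone hs
  have h2 : φ.1 t ≤ φ.1 t₀ := φ.2.monotone ht
  rw [if_neg]
  intro hh
  exact absurd hh.1 (not_le.mpr (lt_of_le_of_lt h2 (lt_of_lt_of_le ht₀ h1)))

end Shape2

section Lead2'

variable (K : Type*) [Field K] {d n : ℕ}

/-- coefficient of the term of a permutation in a minor of the generic matrix of shape `(β, τ)` -/
def termCoeff2 (β τ φ : Idx d n) (σ : Equiv.Perm (Fin d)) : K :=
  if ∀ t, β.1 t ≤ φ.1 (σ t) ∧ φ.1 (σ t) ≤ τ.1 t then ((Equiv.Perm.sign σ : ℤ) : K) else 0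

theorem minorAt2_term (β τ φ : Idx d n) (σ : Equiv.Perm (Fin d)) :
    ((Equiv.Perm.sign σ : ℤ) : MvPolynomial (Var n d) K) *
        ∏ t, ((shapeMat2 K β τ).submatrix φ.1 id) (σ t) t =
      monomial (diagExp (φ.1 ∘ σ)) (termCoeff2 K β τ φ σ) := by
  unfold termCoeff2
  by_cases hc : ∀ t, β.1 t ≤ φ.1 (σ t) ∧ φ.1 (σ t) ≤ τ.1 t
  · rw [if_pos hc]
    have h1 : ∏ t, ((shapeMat2 K β τ).submatrix φ.1 id) (σ t) t =
        monomial (diagExp (φ.1 ∘ σ)) (1 : K) := by
      unfold diagExp
      rw [monomial_sum_one]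
      refine Finset.prod_congr rfl fun t _ => ?_
      simp only [Matrix.submatrix_apply, id, shapeMat2, Matrix.of_apply, if_pos (hc t)]
      rfl
    rw [h1]
    have h2 : ((Equiv.Perm.sign σ : ℤ) : MvPolynomial (Var n d) K) =
        C (((Equiv.Perm.sign σ : ℤ) : K)) := by simp
    rw [h2, C_mul_monomial, mul_one]
  · rw [if_neg hc, monomial_zero]
    push Not at hc
    obtain ⟨t, ht⟩ := hc
    have : ∏ t, ((shapeMat2 K β τ).submatrix φ.1 id) (σ t) t = 0 := by
      apply Finset.prod_eq_zero (Finset.mem_univ t)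
      simp only [Matrix.submatrix_apply, id, shapeMat2, Matrix.of_apply]
      rw [if_neg]
      intro hh
      exact absurd hh.2 (not_le.mpr (ht hh.1))
    rw [this, mul_zero]

theorem minorAt2_eq (β τ φ : Idx d n) (h1 : β ≤ φ) (h2 : φ ≤ τ) :
    minorAt2 K β τ φ = monomial (diagExp φ.1) (1 : K) +
      ∑ σ ∈ Finset.univ.erase (1 : Equiv.Perm (Fin d)),
        monomial (diagExp (φ.1 ∘ σ)) (termCoeff2 K β τ φ σ) := by
  unfold minorAt2
  rw [Matrix.det_apply']
  simp_rw [minorAt2_term]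
  rw [← Finset.add_sum_erase Finset.univ _ (Finset.mem_univ (1 : Equiv.Perm (Fin d)))]
  congr 1
  have h3 : termCoeff2 K β τ φ 1 = 1 := by
    unfold termCoeff2
    have : ∀ t, β.1 t ≤ φ.1 ((1 : Equiv.Perm (Fin d)) t) ∧
        φ.1 ((1 : Equiv.Perm (Fin d)) t) ≤ τ.1 t := fun t => ⟨h1 t, h2 t⟩
    rw [if_pos this]
    simp
  rw [h3]
  rfl

theorem degree_rest_lt2 (hd : 0 < d) (β τ φ : Idx d n) :
    (MonomialOrder.lex : MonomialOrder (Var n d)).toSyn
      ((MonomialOrder.lex : MonomialOrder (Var n d)).degree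
        (∑ σ ∈ Finset.univ.erase (1 : Equiv.Perm (Fin d)),
          monomial (diagExp (φ.1 ∘ σ)) (termCoeff2 K β τ φ σ))) <
    (MonomialOrder.lex : MonomialOrder (Var n d)).toSyn (diagExp φ.1) := by
  classical
  have h0 : (MonomialOrder.lex : MonomialOrder (Var n d)).toSyn 0 <
      (MonomialOrder.lex : MonomialOrder (Var n d)).toSyn (diagExp φ.1) := by
    rw [map_zero, MonomialOrder.toSyn_lt_iff_ne_zero]
    intro h
    exact diagExp_ne_zero hd φ.1 ((MonomialOrder.toSyn_eq_zero_iff _ _).mp h)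
  rw [MonomialOrder.degree_lt_iff h0]
  intro c hc
  have h1 := support_sum hc
  rw [Finset.mem_biUnion] at h1
  obtain ⟨σ, hσ, hcσ⟩ := h1
  have h2 := support_monomial_subset hcσ
  rw [Finset.mem_singleton] at h2
  rw [h2]
  exact diagExp_comp_lt φ σ (Finset.ne_of_mem_erase hσ)

theorem degree_minorAt2 (hd : 0 < d) (β τ φ : Idx d n) (h1 : β ≤ φ) (h2 : φ ≤ τ) :
    (MonomialOrder.lex : MonomialOrder (Var n d)).degree (minorAt2 K β τ φ) = diagExp φ.1 := by
  classical
  rw [minorAt2_eq K β τ φ h1 h2]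
  have hdeg : (MonomialOrder.lex : MonomialOrder (Var n d)).degree
      (monomial (diagExp φ.1) (1 : K)) = diagExp φ.1 := by
    rw [MonomialOrder.degree_monomial, if_neg one_ne_zero]
  rw [MonomialOrder.degree_add_of_lt, hdeg]
  rw [hdeg]
  exact degree_rest_lt2 K hd β τ φ

theorem monic_minorAt2 (hd : 0 < d) (β τ φ : Idx d n) (h1 : β ≤ φ) (h2 : φ ≤ τ) :
    (MonomialOrder.lex : MonomialOrder (Var n d)).Monic (minorAt2 K β τ φ) := by
  classical
  rw [minorAt2_eq K β τ φ h1 h2]
  have hdeg : (MonomialOrder.lex : MonomialOrder (Var n d)).degree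
      (monomial (diagExp φ.1) (1 : K)) = diagExp φ.1 := by
    rw [MonomialOrder.degree_monomial, if_neg one_ne_zero]
  apply MonomialOrder.Monic.add_of_lt MonomialOrder.monic_monomial_one
  rw [hdeg]
  exact degree_rest_lt2 K hd β τ φ

theorem degree_evalShape2_chainMon (hd : 0 < d) (β τ : Idx d n) {m : ℕ} (c : Fin m → Idx d n)
    (hc : ∀ k, β ≤ c k ∧ c k ≤ τ) :
    (MonomialOrder.lex : MonomialOrder (Var n d)).degree (evalShape2 K β τ (chainMon K c)) =
      chainExp c := by
  rw [evalShape2_chainMon, MonomialOrder.degree_prod_of_regular]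
  · unfold chainExp
    exact Finset.sum_congr rfl fun k _ => degree_minorAt2 K hd β τ (c k) (hc k).1 (hc k).2
  · intro k _
    rw [(monic_minorAt2 K hd β τ (c k) (hc k).1 (hc k).2).leadingCoeff_eq_one]
    exact isRegular_one

theorem evalShape2_chainMon_ne_zero (hd : 0 < d) (β τ : Idx d n) {m : ℕ} (c : Fin m → Idx d n)
    (hc : ∀ k, β ≤ c k ∧ c k ≤ τ) : evalShape2 K β τ (chainMon K c) ≠ 0 := by
  rw [evalShape2_chainMon]
  exact (MonomialOrder.Monic.prod (m := (MonomialOrder.lex : MonomialOrder (Var n d)))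
    fun k _ => monic_minorAt2 K hd β τ (c k) (hc k).1 (hc k).2).ne_zero

theorem evalShape2_chainMon_eq_zero (β τ : Idx d n) {m : ℕ} (c : Fin m → Idx d n) (k : Fin m)
    (hk : ¬ (β ≤ c k ∧ c k ≤ τ)) : evalShape2 K β τ (chainMon K c) = 0 := by
  rw [evalShape2_chainMon]
  apply Finset.prod_eq_zero (Finset.mem_univ k)
  by_cases h : β ≤ c k
  · exact minorAt2_eq_zero_of_not_le K (fun h' => hk ⟨h, h'⟩)
  · exact minorAt2_eq_zero_of_not_ge K h

/-- two-sided independence core: in a linear combination of products of Plücker coordinates along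
pairwise distinct antitone tuples which is killed by the evaluation on the generic matrix of shape
`(β, τ)`, the coefficients of the tuples lying in `[β, τ]` are zero -/
theorem indep_core2 (hd : 0 < d) (β τ : Idx d n) {ι : Type*} (s : Finset ι)
    (m : ι → ℕ) (c : ∀ i, Fin (m i) → Idx d n) (hanti : ∀ i ∈ s, Antitone (c i))
    (hinj : ∀ i ∈ s, ∀ j ∈ s, (⟨m i, c i⟩ : Σ m : ℕ, Fin m → Idx d n) = ⟨m j, c j⟩ → i = j)
    (g : ι → K) (h0 : evalShape2 K β τ (∑ i ∈ s, g i • chainMon K (c i)) = 0) :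
    ∀ i ∈ s, (∀ k, β ≤ c i k ∧ c i k ≤ τ) → g i = 0 := by
  classical
  have h1 := h0
  rw [map_sum] at h1
  simp only [map_smul] at h1
  rw [← Finset.sum_filter_add_sum_filter_not s (fun i => ∀ k, β ≤ c i k ∧ c i k ≤ τ)] at h1
  have h2 : ∑ i ∈ s.filter (fun i => ¬ ∀ k, β ≤ c i k ∧ c i k ≤ τ),
      g i • evalShape2 K β τ (chainMon K (c i)) = 0 := by
    apply Finset.sum_eq_zero
    intro i hi
    have := (Finset.mem_filter.mp hi).2
    rw [not_forall] at this
    obtain ⟨k, hk⟩ := this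
    rw [evalShape2_chainMon_eq_zero K β τ (c i) k hk, smul_zero]
  rw [h2, add_zero] at h1
  have h3 := coeff_eq_zero_of_degree_injOn (MonomialOrder.lex : MonomialOrder (Var n d))
    (s.filter (fun i => ∀ k, β ≤ c i k ∧ c i k ≤ τ))
    (fun i => evalShape2 K β τ (chainMon K (c i))) g
    (fun i hi => evalShape2_chainMon_ne_zero K hd β τ (c i) (Finset.mem_filter.mp hi).2)
    (by
      intro i hi j hj hij
      have hi' := Finset.mem_filter.mp (Finset.mem_coe.mp hi)
      have hj' := Finset.mem_filter.mp (Finset.mem_coe.mp hj)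
      simp only at hij
      rw [degree_evalShape2_chainMon K hd β τ (c i) hi'.2,
        degree_evalShape2_chainMon K hd β τ (c j) hj'.2] at hij
      exact hinj i hi'.1 j hj'.1
        (sigma_eq_of_chainExp_eq hd (c i) (c j) (hanti i hi'.1) (hanti j hj'.1) hij))
    h1
  intro i hi hle
  exact h3 i (Finset.mem_filter.mpr ⟨hi, hle⟩)

theorem eval_minorAt2 (β τ φ : Idx d n) (a : Var n d → K) :
    eval a (minorAt2 K β τ φ) = (((shapeMat2 K β τ).map (eval a)).submatrix φ.1 id).det := by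
  unfold minorAt2
  rw [RingHom.map_det, RingHom.mapMatrix_apply]
  rfl

theorem eval_evalShape2 (β τ : Idx d n) (a : Var n d → K) (F : PlRing K d n) :
    eval a (evalShape2 K β τ F) = evalMinors K d n ((shapeMat2 K β τ).map (eval a)) F := by
  induction F using MvPolynomial.induction_on with
  | C r => simp [evalShape2, evalMinors]
  | add p q hp hq => rw [map_add, map_add, map_add, hp, hq]
  | mul_X p θ hp =>
    rw [map_mul, map_mul, map_mul, hp, evalShape2_X, evalMinors_X, eval_minorAt2]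

end Lead2'

end Groth.Agent.Lib.T2H8.Grass
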