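import Mathlib
import Groth.Prelude.Def_W4bk4grassmannianPl
import Groth.Agent.Lib.Helper24Grass
import Groth.Agent.Lib.T2H8GrassCoord
import Groth.Agent.Lib.T2H8GrassPlucker
import Groth.Agent.Lib.T2H8GrassIndep
import Groth.Agent.S11268

/-!
# Standard monomial theory for Schubert varieties in the Grassmannian (helper8)
-/

noncomputable section

open MvPolynomial W4bk4grassmannian

namespace Groth.Agent.Lib.T2H8.Grass

universe u

section Alg

variable {K S : Type*} [Field K] [CommRing S] [Algebra K S]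

theorem mk_smul' (I : Ideal S) (a : K) (p : S) :
    Ideal.Quotient.mk I (a • p) = a • Ideal.Quotient.mk I p :=
  map_smul (Ideal.Quotient.mkₐ K I) a p

theorem span_mk_eq_top_of_le {I J : Ideal S} (hIJ : I ≤ J) {ι : Type*} (f : ι → S)
    (h : Submodule.span K (Set.range fun i => Ideal.Quotient.mk I (f i)) = ⊤) :
    Submodule.span K (Set.range fun i => Ideal.Quotient.mk J (f i)) = ⊤ := by
  rw [eq_top_iff]
  rintro q -
  obtain ⟨p, rfl⟩ := Ideal.Quotient.mk_surjective q
  have hp : Ideal.Quotient.mk I p ∈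
      Submodule.span K (Set.range fun i => Ideal.Quotient.mk I (f i)) := by rw [h]; trivial
  obtain ⟨c, hc⟩ := Finsupp.mem_span_range_iff_exists_finsupp.mp hp
  have h1 : Ideal.Quotient.mk I (c.sum fun i a => a • f i) = Ideal.Quotient.mk I p := by
    rw [← hc, Finsupp.sum, Finsupp.sum, map_sum]
    exact Finset.sum_congr rfl fun i _ => mk_smul' I _ _
  have h2 : (c.sum fun i a => a • f i) - p ∈ J := hIJ (Ideal.Quotient.eq.mp h1)
  have h3 : Ideal.Quotient.mk J p = Ideal.Quotient.mk J (c.sum fun i a => a • f i) :=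
    (Ideal.Quotient.eq.mpr h2).symm
  rw [h3, Finsupp.sum, map_sum]
  apply Submodule.sum_mem
  intro i _
  rw [mk_smul']
  exact Submodule.smul_mem _ _ (Submodule.subset_span ⟨i, rfl⟩)

theorem ideal_eq_of_span_of_indep {I J : Ideal S} (hIJ : I ≤ J) {ι : Type*} (f : ι → S)
    (hspan : Submodule.span K (Set.range fun i => Ideal.Quotient.mk I (f i)) = ⊤)
    (hli : LinearIndependent K (fun i => Ideal.Quotient.mk J (f i))) : I = J := by
  apply le_antisymm hIJ
  intro p hp
  have hp' : Ideal.Quotient.mk I p ∈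
      Submodule.span K (Set.range fun i => Ideal.Quotient.mk I (f i)) := by rw [hspan]; trivial
  obtain ⟨c, hc⟩ := Finsupp.mem_span_range_iff_exists_finsupp.mp hp'
  have h1 : Ideal.Quotient.mk I (c.sum fun i a => a • f i) = Ideal.Quotient.mk I p := by
    rw [← hc, Finsupp.sum, Finsupp.sum, map_sum]
    exact Finset.sum_congr rfl fun i _ => mk_smul' I _ _
  have h2 : (c.sum fun i a => a • f i) - p ∈ J := hIJ (Ideal.Quotient.eq.mp h1)
  have h3 : (c.sum fun i a => a • f i) ∈ J := by
    have := J.add_mem h2 hp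
    simpa using this
  have h4 : Finsupp.linearCombination K (fun i => Ideal.Quotient.mk J (f i)) c = 0 := by
    rw [Finsupp.linearCombination_apply]
    have : Ideal.Quotient.mk J (c.sum fun i a => a • f i) = 0 :=
      Ideal.Quotient.eq_zero_iff_mem.mpr h3
    rw [← this, Finsupp.sum, Finsupp.sum, map_sum]
    exact Finset.sum_congr rfl fun i _ => (mk_smul' J _ _).symm
  have h5 : c = 0 := (linearIndependent_iff.mp hli) c h4
  rw [h5] at h1
  simp only [Finsupp.sum_zero_index, map_zero] at h1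
  exact Ideal.Quotient.eq_zero_iff_mem.mp h1.symm

end Alg

section SMT

variable (K : Type u) [Field K] {d n : ℕ}

/-- index type of the standard monomials on a union of Schubert varieties -/
abbrev StdIdx {ι : Type*} (τs : ι → Idx d n) : Type :=
  Σ m : ℕ, {c : Fin m → Idx d n // Antitone c ∧ ∃ i, ∀ k, c k ≤ τs i}

theorem stdIdx_inj {ι : Type*} (τs : ι → Idx d n) (i j : StdIdx τs)
    (h : (⟨i.1, i.2.1⟩ : Σ m : ℕ, Fin m → Idx d n) = ⟨j.1, j.2.1⟩) : i = j := by
  obtain ⟨m, c, hc⟩ := i
  obtain ⟨m', c', hc'⟩ := j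
  simp only [Sigma.mk.injEq] at h
  obtain ⟨rfl, h⟩ := h
  have h' := eq_of_heq h
  subst h'
  rfl

/-- standard monomials on a union of Schubert varieties are linearly independent modulo any ideal
contained in the intersection of their vanishing ideals -/
theorem indep_union [Infinite K] (hd : 0 < d) {ι : Type*} (τs : ι → Idx d n) :
    LinearIndependent K (fun c : StdIdx τs =>
      Ideal.Quotient.mk (⨅ i, schubertVanishing K d n (τs i)) (chainMon K c.2.1)) := by
  rw [linearIndependent_iff']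
  intro s g hsum i hi
  have h0 : ∑ i ∈ s, g i • chainMon K i.2.1 ∈ ⨅ j, schubertVanishing K d n (τs j) := by
    rw [← Ideal.Quotient.eq_zero_iff_mem, map_sum, ← hsum]
    exact Finset.sum_congr rfl fun i _ => mk_smul' _ _ _
  obtain ⟨j, hj⟩ := i.2.2.2
  have h1 := (Ideal.mem_iInf.mp h0) j
  exact indep_core K hd (τs j) s (fun i => i.1) (fun i => i.2.1) (fun i _ => i.2.2.1)
    (fun i _ j _ h => stdIdx_inj τs i j h) g h1 i hi hj

/-- standard monomials on a union of Schubert varieties span modulo any ideal containing the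
shuffle relations and the coordinates vanishing on the union -/
theorem span_union {ι : Type*} [hr : Nonempty ι] (τs : ι → Idx d n) (I : Ideal (PlRing K d n))
    (hI : plIdealTop (d := d) (n := n) K ≤ I)
    (hX : ∀ φ : Idx d n, (∀ i, ¬ φ ≤ τs i) → (X φ : PlRing K d n) ∈ I) :
    Submodule.span K (Set.range fun c : StdIdx τs =>
      Ideal.Quotient.mk I (chainMon K c.2.1)) = ⊤ := by
  have h1 := span_mk_eq_top_of_le (K := K) hI
    (fun c : (Σ m : ℕ, {c : Fin m → Idx d n // Antitone c}) => chainMon K c.2.1)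
    (Helper24Grass.std_eq_top K)
  rw [eq_top_iff, ← h1, Submodule.span_le]
  rintro _ ⟨⟨m, c, hc⟩, rfl⟩
  by_cases hex : ∃ i, ∀ k, c k ≤ τs i
  · exact Submodule.subset_span ⟨⟨m, c, hc, hex⟩, rfl⟩
  · have hm : 0 < m := by
      rcases Nat.eq_zero_or_pos m with h | h
      · subst h
        exact absurd ⟨hr.some, fun k => k.elim0⟩ hex
      · exact h
    have h2 : ∀ i, ¬ c ⟨0, hm⟩ ≤ τs i := by
      intro i hle
      apply hex
      refine ⟨i, fun k => le_trans (hc ?_) hle⟩
      exact Fin.le_def.mpr (Nat.zero_le _)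
    have h3 : chainMon K c ∈ I := by
      unfold chainMon
      exact Ideal.mem_of_dvd _ (Finset.dvd_prod_of_mem _ (Finset.mem_univ (⟨0, hm⟩ : Fin m)))
        (hX _ h2)
    show Ideal.Quotient.mk I (chainMon K c) ∈ _
    rw [Ideal.Quotient.eq_zero_iff_mem.mpr h3]
    exact Submodule.zero_mem _

theorem schubertVanishing_anti {τ τ' : Idx d n} (h : τ' ≤ τ) :
    schubertVanishing K d n τ ≤ schubertVanishing K d n τ' := by
  unfold schubertVanishing
  refine le_iInf fun A => le_iInf fun hA => ?_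
  exact iInf₂_le A (fun φ hφ => hA φ (fun h' => hφ (le_trans h' h)))

end SMT

section Main

variable (K : Type u) [Field K] [IsAlgClosed K] (d n : ℕ)

theorem main_S11252 (hd : 0 < d) (_hdn : d < n) (r : ℕ) (τs : Fin r → Idx d n) :
    LinearIndependent K (fun c : (Σ m : ℕ, {c : Fin m → Idx d n // Antitone c ∧ ∃ i, ∀ k, c k ≤ τs i}) =>
        Ideal.Quotient.mk (⨅ i, schubertVanishing K d n (τs i)) (chainMon K c.2.1)) ∧
      Submodule.span K (Set.range fun c : (Σ m : ℕ, {c : Fin m → Idx d n // Antitone c ∧ ∃ i, ∀ k, c k ≤ τs i}) =>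
        Ideal.Quotient.mk (⨅ i, schubertVanishing K d n (τs i)) (chainMon K c.2.1)) = ⊤ := by
  haveI : Infinite K := inferInstance
  refine ⟨indep_union K hd τs, ?_⟩
  rcases Nat.eq_zero_or_pos r with h | h
  · subst h
    have htop : (⨅ i : Fin 0, schubertVanishing K d n (τs i)) = ⊤ := iInf_of_empty _
    rw [eq_top_iff]
    rintro q -
    obtain ⟨p, rfl⟩ := Ideal.Quotient.mk_surjective q
    have : Ideal.Quotient.mk (⨅ i : Fin 0, schubertVanishing K d n (τs i)) p = 0 :=
      Ideal.Quotient.eq_zero_iff_mem.mpr (by rw [htop]; trivial)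
    rw [this]
    exact Submodule.zero_mem _
  · haveI : Nonempty (Fin r) := ⟨⟨0, h⟩⟩
    apply span_union K τs
    · exact le_iInf fun i => plIdealTop_le_schubertVanishing (τs i)
    · intro φ hφ
      exact Ideal.mem_iInf.mpr fun i => X_mem_schubertVanishing (hφ i)

theorem main_S11250 (hd : 0 < d) (_hdn : d < n) (τ : Idx d n) :
    plIdeal K τ = schubertVanishing K d n τ := by
  haveI : Infinite K := inferInstance
  have hinf : (⨅ _i : Fin 1, schubertVanishing K d n ((fun _ => τ : Fin 1 → Idx d n) _i)) =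
      schubertVanishing K d n τ := iInf_const
  have hle : plIdeal K τ ≤ ⨅ i : Fin 1, schubertVanishing K d n ((fun _ => τ : Fin 1 → Idx d n) i) :=
    le_iInf fun _ => plIdeal_le_schubertVanishing τ
  have hspan := span_union K (fun _ => τ : Fin 1 → Idx d n) (plIdeal K τ) (plIdealTop_le_plIdeal τ)
    (fun φ hφ => Ideal.subset_span (Or.inr ⟨φ, hφ 0, rfl⟩))
  have hli := indep_union K hd (fun _ => τ : Fin 1 → Idx d n)
  have := ideal_eq_of_span_of_indep (K := K) hle _ hspan hli
  exact this.trans hinf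

theorem schubertVanishing_isRadical (τ : Idx d n) : (schubertVanishing K d n τ).IsRadical := by
  intro x hx
  obtain ⟨m, hm⟩ := hx
  unfold schubertVanishing at hm ⊢
  simp only [Ideal.mem_iInf] at hm ⊢
  intro A hA
  have h1 := hm A hA
  rw [RingHom.mem_ker] at h1 ⊢
  rw [map_pow] at h1
  exact pow_eq_zero_iff (n := m) (by
    rintro rfl
    simp at h1) |>.mp h1

theorem le_inf_iff' {φ w₁ w₂ : Idx d n} :
    φ ≤ W4bk4grassmannian.inf w₁ w₂ ↔ φ ≤ w₁ ∧ φ ≤ w₂ := by
  constructor
  · intro h
    exact ⟨fun t => le_trans (h t) (min_le_left _ _), fun t => le_trans (h t) (min_le_right _ _)⟩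
  · rintro ⟨h1, h2⟩ t
    exact le_min (h1 t) (h2 t)

theorem sup_schubertVanishing (hd : 0 < d) (hdn : d < n) (w₁ w₂ : Idx d n) :
    schubertVanishing K d n w₁ ⊔ schubertVanishing K d n w₂ =
      schubertVanishing K d n (W4bk4grassmannian.inf w₁ w₂) := by
  apply le_antisymm
  · exact sup_le (schubertVanishing_anti K ((le_inf_iff' d n).mp le_rfl).1)
      (schubertVanishing_anti K ((le_inf_iff' d n).mp le_rfl).2)
  · rw [← main_S11250 K d n hd hdn]
    unfold plIdeal
    rw [Ideal.span_le]
    rintro f (⟨i, j, r, hp, rfl⟩ | ⟨φ, hφ, rfl⟩)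
    · exact Ideal.mem_sup_left
        (plIdealTop_le_schubertVanishing w₁ (Ideal.subset_span ⟨i, j, r, hp, rfl⟩))
    · by_cases h1 : φ ≤ w₁
      · have h2 : ¬ φ ≤ w₂ := fun h2 => hφ ((le_inf_iff' d n).mpr ⟨h1, h2⟩)
        exact Ideal.mem_sup_right (X_mem_schubertVanishing h2)
      · exact Ideal.mem_sup_left (X_mem_schubertVanishing h1)

theorem main_S11253 (hd : 0 < d) (hdn : d < n) (w₁ w₂ : Idx d n) :
    (schubertVanishing K d n w₁ ⊔ schubertVanishing K d n w₂).IsRadical := by
  rw [sup_schubertVanishing K d n hd hdn]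
  exact schubertVanishing_isRadical K d n _

theorem main_S11254 (hd : 0 < d) (_hdn : d < n) (τ : Idx d n) (hτ : ∃ φ : Idx d n, φ < τ) :
    schubertVanishing K d n τ ⊔ Ideal.span {MvPolynomial.X τ} =
      ⨅ φ ∈ divisors τ, schubertVanishing K d n φ := by
  haveI : Infinite K := inferInstance
  rw [iInf_subtype']
  let τs : ↥(divisors τ) → Idx d n := Subtype.val
  haveI : Nonempty ↥(divisors τ) := by
    obtain ⟨φ, hφ⟩ := hτ
    obtain ⟨ψ, hψ, -⟩ := Groth.Agent.S11268.result d n φ τ hφ
    exact ⟨⟨ψ, hψ⟩⟩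
  have hle : schubertVanishing K d n τ ⊔ Ideal.span {MvPolynomial.X τ} ≤
      ⨅ φ : ↥(divisors τ), schubertVanishing K d n (τs φ) := by
    apply sup_le
    · exact le_iInf fun φ => schubertVanishing_anti K (le_of_lt φ.2.1)
    · rw [Ideal.span_le, Set.singleton_subset_iff]
      exact Ideal.mem_iInf.mpr fun φ => X_mem_schubertVanishing (not_le_of_gt φ.2.1)
  have hspan := span_union K τs (schubertVanishing K d n τ ⊔ Ideal.span {MvPolynomial.X τ})
    (le_trans (plIdealTop_le_schubertVanishing τ) le_sup_left)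
    (by
      intro φ hφ
      by_cases h1 : φ ≤ τ
      · by_cases h2 : φ = τ
        · rw [h2]
          exact Ideal.mem_sup_right (Ideal.subset_span rfl)
        · exfalso
          obtain ⟨ψ, hψ, hle⟩ := Groth.Agent.S11268.result d n φ τ (lt_of_le_of_ne h1 h2)
          exact hφ ⟨ψ, hψ⟩ hle
      · exact Ideal.mem_sup_left (X_mem_schubertVanishing h1))
  exact ideal_eq_of_span_of_indep (K := K) hle
    (fun c : StdIdx τs => chainMon K c.2.1) hspan (indep_union K hd τs)

end Main

end Groth.Agent.Lib.T2H8.Grass
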