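import Mathlib
import Groth.Prelude.Def_W4bk4grassmannianPl
import Groth.Agent.Lib.Helper24Grass
import Groth.Agent.Lib.T2H8GrassCoord
import Groth.Agent.Lib.T2H8GrassPlucker
import Groth.Agent.Lib.T2H8GrassIndep
import Groth.Agent.Lib.T2H8GrassSMT
import Groth.Agent.Lib.T2H8GrassRich

/-!
# The least Plücker coordinate is prime on every Schubert variety (helper8)
-/

noncomputable section

open MvPolynomial W4bk4grassmannian

namespace Groth.Agent.Lib.T2H8.Grass

universe u

section Poset

variable {d n : ℕ}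

/-- the least element `(0, 1, …, d - 1)` of `I(d,n)` -/
def iotaIdx (hdn : d < n) : Idx d n :=
  ⟨fun t => ⟨t.val, lt_trans t.isLt hdn⟩, fun _ _ h => h⟩

/-- the unique element `(0, 1, …, d - 2, d)` covering the least element -/
def betaIdx (hdn : d < n) : Idx d n :=
  ⟨fun t => if t.val + 1 = d then ⟨d, hdn⟩ else ⟨t.val, lt_trans t.isLt hdn⟩, by
    intro a b hab
    have ha := a.isLt
    have hb := b.isLt
    have hab' : a.val < b.val := hab
    dsimp only
    by_cases h1 : a.val + 1 = d
    · omega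
    · by_cases h2 : b.val + 1 = d
      · rw [if_neg h1, if_pos h2, Fin.lt_def]; dsimp only; omega
      · rw [if_neg h1, if_neg h2, Fin.lt_def]; exact hab'⟩

theorem iotaIdx_le (hdn : d < n) (θ : Idx d n) : iotaIdx hdn ≤ θ := by
  intro t
  rw [Fin.le_def]
  exact Helper24Grass.val_le_of_strictMono θ.1 θ.2 t

theorem strictMono_add_le (θ : Idx d n) : ∀ (g : ℕ) (s t : Fin d), t.val = s.val + g →
    (θ.1 s).val + g ≤ (θ.1 t).val := by
  intro g
  induction g with
  | zero =>
    intro s t h
    have : s = t := Fin.ext (by omega)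
    rw [this]; omega
  | succ g ih =>
    intro s t h
    have ht := t.isLt
    have h1 := ih s ⟨t.val - 1, by omega⟩ (by simp; omega)
    have h2 : θ.1 ⟨t.val - 1, by omega⟩ < θ.1 t := θ.2 (by rw [Fin.lt_def]; simp; omega)
    rw [Fin.lt_def] at h2
    omega

theorem eq_iota_of_not_beta_le (hdn : d < n) (θ : Idx d n) (h : ¬ betaIdx hdn ≤ θ) :
    θ = iotaIdx hdn := by
  have h' : ∃ t, θ.1 t < (betaIdx hdn).1 t := by
    by_contra hcon
    push Not at hcon
    exact h hcon
  obtain ⟨t, ht⟩ := h'
  have hge := Helper24Grass.val_le_of_strictMono θ.1 θ.2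
  have ht1 : t.val + 1 = d := by
    by_contra hne
    simp only [betaIdx, if_neg hne, Fin.lt_def] at ht
    have := hge t
    omega
  simp only [betaIdx, if_pos ht1, Fin.lt_def] at ht
  apply Subtype.ext
  funext s
  apply Fin.ext
  show (θ.1 s).val = s.val
  have h1 := hge s
  have hs := s.isLt
  have h2 := strictMono_add_le θ (t.val - s.val) s t (by omega)
  omega

theorem not_beta_le_iota (hdn : d < n) (hd : 0 < d) : ¬ betaIdx hdn ≤ iotaIdx hdn := by
  intro h
  have := h ⟨d - 1, by omega⟩
  simp only [betaIdx, iotaIdx] at this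
  rw [if_pos (by omega), Fin.le_def] at this
  dsimp only at this
  omega

end Poset

section Prime

variable (K : Type u) [Field K] {d n : ℕ}

theorem schubert_cond_shapeMat2 (β τ : Idx d n) (a : Var n d → K) (φ : Idx d n) (h : ¬ φ ≤ τ) :
    (((shapeMat2 K β τ).map (eval a)).submatrix φ.1 id).det = 0 := by
  rw [← eval_minorAt2, minorAt2_eq_zero_of_not_le K h, map_zero]

theorem evalShape2_eq_zero_of_mem [Infinite K] (β τ : Idx d n) {F : PlRing K d n}
    (hF : F ∈ schubertVanishing K d n τ) : evalShape2 K β τ F = 0 := by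
  apply MvPolynomial.funext
  intro a
  rw [eval_evalShape2, map_zero]
  unfold schubertVanishing at hF
  simp only [Ideal.mem_iInf] at hF
  exact hF _ (schubert_cond_shapeMat2 K β τ a)

/-- index type of the standard monomials on the Richardson variety `[β, w]` -/
abbrev RichIdx (β w : Idx d n) : Type :=
  Σ m : ℕ, {c : Fin m → Idx d n // Antitone c ∧ ∀ k, β ≤ c k ∧ c k ≤ w}

theorem richIdx_inj (β w : Idx d n) (i j : RichIdx β w)
    (h : (⟨i.1, i.2.1⟩ : Σ m : ℕ, Fin m → Idx d n) = ⟨j.1, j.2.1⟩) : i = j := by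
  obtain ⟨m, c, hc⟩ := i
  obtain ⟨m', c', hc'⟩ := j
  simp only [Sigma.mk.injEq] at h
  obtain ⟨rfl, h⟩ := h
  have h' := eq_of_heq h
  subst h'
  rfl

theorem indep_rich (hd : 0 < d) (β w : Idx d n) :
    LinearIndependent K (fun c : RichIdx β w =>
      Ideal.Quotient.mk (RingHom.ker (evalShape2 K β w).toRingHom) (chainMon K c.2.1)) := by
  rw [linearIndependent_iff']
  intro s g hsum i hi
  have h0 : ∑ i ∈ s, g i • chainMon K i.2.1 ∈ RingHom.ker (evalShape2 K β w).toRingHom := by
    rw [← Ideal.Quotient.eq_zero_iff_mem, map_sum, ← hsum]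
    exact Finset.sum_congr rfl fun i _ => mk_smul' _ _ _
  have h1 : evalShape2 K β w (∑ i ∈ s, g i • chainMon K i.2.1) = 0 := h0
  exact indep_core2 K hd β w s (fun i => i.1) (fun i => i.2.1) (fun i _ => i.2.2.1)
    (fun i _ j _ h => richIdx_inj β w i j h) g h1 i hi i.2.2.2

theorem sup_span_iota_eq_ker [Infinite K] (hd : 0 < d) (hdn : d < n) (w : Idx d n) :
    schubertVanishing K d n w ⊔ Ideal.span {(X (iotaIdx hdn) : PlRing K d n)} =
      RingHom.ker (evalShape2 K (betaIdx hdn) w).toRingHom := by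
  have hle : schubertVanishing K d n w ⊔ Ideal.span {(X (iotaIdx hdn) : PlRing K d n)} ≤
      RingHom.ker (evalShape2 K (betaIdx hdn) w).toRingHom := by
    apply sup_le
    · intro F hF
      exact evalShape2_eq_zero_of_mem K (betaIdx hdn) w hF
    · rw [Ideal.span_le, Set.singleton_subset_iff]
      show evalShape2 K (betaIdx hdn) w (X (iotaIdx hdn)) = 0
      rw [evalShape2_X]
      exact minorAt2_eq_zero_of_not_ge K (not_beta_le_iota hdn hd)
  refine ideal_eq_of_span_of_indep (K := K) hle
    (fun c : RichIdx (betaIdx hdn) w => chainMon K c.2.1) ?_ (indep_rich K hd (betaIdx hdn) w)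
  have h1 := span_union K (fun _ => w : Fin 1 → Idx d n)
    (schubertVanishing K d n w ⊔ Ideal.span {(X (iotaIdx hdn) : PlRing K d n)})
    (le_trans (plIdealTop_le_schubertVanishing w) le_sup_left)
    (fun φ hφ => Ideal.mem_sup_left (X_mem_schubertVanishing (hφ 0)))
  rw [eq_top_iff, ← h1, Submodule.span_le]
  rintro _ ⟨⟨m, c, hc, hex⟩, rfl⟩
  obtain ⟨-, hcw⟩ := hex
  by_cases hβ : ∀ k, betaIdx hdn ≤ c k
  · exact Submodule.subset_span ⟨⟨m, c, hc, fun k => ⟨hβ k, hcw k⟩⟩, rfl⟩
  · push Not at hβ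
    obtain ⟨k, hk⟩ := hβ
    have hk' := eq_iota_of_not_beta_le hdn (c k) hk
    have h3 : chainMon K c ∈
        schubertVanishing K d n w ⊔ Ideal.span {(X (iotaIdx hdn) : PlRing K d n)} := by
      apply Ideal.mem_sup_right
      unfold chainMon
      apply Ideal.mem_of_dvd _ (Finset.dvd_prod_of_mem _ (Finset.mem_univ k))
      rw [hk']
      exact Ideal.subset_span rfl
    show Ideal.Quotient.mk _ (chainMon K c) ∈ _
    rw [Ideal.Quotient.eq_zero_iff_mem.mpr h3]
    exact Submodule.zero_mem _

theorem X_iota_notMem [Infinite K] (hd : 0 < d) (hdn : d < n) (w : Idx d n) :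
    (X (iotaIdx hdn) : PlRing K d n) ∉ schubertVanishing K d n w := by
  intro h
  have h1 := evalShape_eq_zero_of_mem K w h
  rw [evalShape_X] at h1
  exact (monic_minorAt K hd w (iotaIdx hdn) (iotaIdx_le hdn w)).ne_zero h1

theorem main_S11270 [IsAlgClosed K] (d n : ℕ) (hd : 0 < d) (hdn : d < n) (w : Idx d n) :
    Prime (Ideal.Quotient.mk (schubertVanishing K d n w)
      (MvPolynomial.X (⟨fun t => ⟨t.val, lt_trans t.isLt hdn⟩, fun a b h => h⟩ : Idx d n))) := by
  haveI : Infinite K := inferInstance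
  show Prime (Ideal.Quotient.mk (schubertVanishing K d n w) (X (iotaIdx hdn)))
  have hne : Ideal.Quotient.mk (schubertVanishing K d n w) (X (iotaIdx hdn)) ≠ 0 := by
    intro h
    exact X_iota_notMem K hd hdn w (Ideal.Quotient.eq_zero_iff_mem.mp h)
  rw [← Ideal.span_singleton_prime hne]
  have hP : (schubertVanishing K d n w ⊔
      Ideal.span {(X (iotaIdx hdn) : PlRing K d n)}).IsPrime := by
    rw [sup_span_iota_eq_ker K hd hdn w]
    exact RingHom.ker_isPrime _
  have hmap : Ideal.span {Ideal.Quotient.mk (schubertVanishing K d n w) (X (iotaIdx hdn))} =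
      Ideal.map (Ideal.Quotient.mk (schubertVanishing K d n w))
        (schubertVanishing K d n w ⊔ Ideal.span {(X (iotaIdx hdn) : PlRing K d n)}) := by
    rw [Ideal.map_sup, Ideal.map_quotient_self, bot_sup_eq, Ideal.map_span, Set.image_singleton]
  rw [hmap]
  exact Ideal.map_isPrime_of_surjective Ideal.Quotient.mk_surjective
    (by rw [Ideal.mk_ker]; exact le_sup_left)

end Prime

end Groth.Agent.Lib.T2H8.Grass
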