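import Mathlib
import Groth.Prelude.Def_W4bk4grassmannianPl
import Groth.Agent.Lib.Helper24Grass
import Groth.Agent.Lib.Helper24Grass2
import Groth.Agent.Lib.T2H8GrassCoord
import Groth.Agent.Lib.T2H8GrassPlucker
import Groth.Agent.Lib.T2H8GrassIndep
import Groth.Agent.Lib.T2H8GrassSMT
import Groth.Agent.Lib.T2H8GrassRich
import Groth.Agent.Lib.T2H8GrassPrime

/-!
# First fundamental theorem for `SL_d` acting on `n × d` matrices (helper8)
-/

noncomputable section

open MvPolynomial W4bk4grassmannian

namespace Groth.Agent.Lib.T2H8.Grass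

universe u

section Basics

variable (K : Type u) [Field K] {d n : ℕ}

/-- the matrix of a point of the affine space of `n × d` matrices -/
def ptMat (v : Fin n × Fin d → K) : Matrix (Fin n) (Fin d) K := Matrix.of fun k t => v (k, t)

theorem eval_pluckerMap (v : Fin n × Fin d → K) (F : PlRing K d n) :
    eval v (pluckerMap K d n F) = evalMinors K d n (ptMat K v) F := by
  induction F using MvPolynomial.induction_on with
  | C r => simp [pluckerMap, evalMinors]
  | add p q hp hq => rw [map_add, map_add, map_add, hp, hq]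
  | mul_X p θ hp =>
    rw [map_mul, map_mul, map_mul, hp, evalMinors_X]
    congr 1
    have : pluckerMap K d n (X θ) = minor K d n θ.1 := by simp [pluckerMap]
    rw [this, Helper24Grass2.eval_minor]
    rfl

theorem adjoin_eq_range :
    Algebra.adjoin K (Set.range fun θ : Idx d n => minor K d n θ.1) = (pluckerMap K d n).range :=
  Algebra.adjoin_range_eq_range_aeval K _

theorem pluckerMap_X (θ : Idx d n) : pluckerMap K d n (X θ) = minor K d n θ.1 := by
  simp [pluckerMap]

theorem rightTranslate_minor (g : Matrix.SpecialLinearGroup (Fin d) K) (a : Fin d → Fin n) :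
    rightTranslate K d n g (minor K d n a) = minor K d n a := by
  unfold minor
  rw [AlgHom.map_det]
  have h1 : (rightTranslate K d n g).mapMatrix (Matrix.of fun s t : Fin d => (X (a s, t) : MatRing K d n)) =
      (Matrix.of fun s t : Fin d => (X (a s, t) : MatRing K d n)) *
        ((g : Matrix (Fin d) (Fin d) K).map (C : K →+* MatRing K d n)) := by
    ext s t
    simp [rightTranslate, Matrix.mul_apply]
  rw [h1, Matrix.det_mul]
  have h2 : ((g : Matrix (Fin d) (Fin d) K).map (C : K →+* MatRing K d n)).det = 1 := by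
    rw [← RingHom.mapMatrix_apply, ← RingHom.map_det, g.det_coe, map_one]
  rw [h2, mul_one]

theorem invariant_of_mem_adjoin (f : MatRing K d n)
    (hf : f ∈ Algebra.adjoin K (Set.range fun θ : Idx d n => minor K d n θ.1))
    (g : Matrix.SpecialLinearGroup (Fin d) K) : rightTranslate K d n g f = f := by
  induction hf using Algebra.adjoin_induction with
  | mem x hx =>
    obtain ⟨θ, rfl⟩ := hx
    exact rightTranslate_minor K g θ.1
  | algebraMap r => exact AlgHom.commutes _ r
  | add x y _ _ hx hy => rw [map_add, hx, hy]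
  | mul x y _ _ hx hy => rw [map_mul, hx, hy]

theorem eval_rightTranslate (g : Matrix.SpecialLinearGroup (Fin d) K) (v : Fin n × Fin d → K)
    (f : MatRing K d n) :
    eval v (rightTranslate K d n g f) =
      eval (fun p : Fin n × Fin d => (ptMat K v * (g : Matrix (Fin d) (Fin d) K)) p.1 p.2) f := by
  induction f using MvPolynomial.induction_on with
  | C r => simp [rightTranslate]
  | add p q hp hq => rw [map_add, map_add, map_add, hp, hq]
  | mul_X p i hp =>
    rw [map_mul, map_mul, map_mul, hp]
    congr 1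
    simp [rightTranslate, Matrix.mul_apply, ptMat]

end Basics

section Normal

variable (K : Type u) [Field K] {d n : ℕ}

theorem mul_adjugate_apply (A : Matrix (Fin n) (Fin d) K) (a : Fin d → Fin n) (k : Fin n)
    (t : Fin d) :
    (A * (A.submatrix a id).adjugate) k t = (A.submatrix (Function.update a t k) id).det := by
  have h1 : (A * (A.submatrix a id).adjugate) k t =
      Matrix.vecMul (A k) (A.submatrix a id).adjugate t := by
    simp [Matrix.mul_apply, Matrix.vecMul, dotProduct]
  rw [h1, ← Matrix.mulVec_transpose, Matrix.adjugate_transpose, ← Matrix.cramer_eq_adjugate_mulVec,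
    Matrix.cramer_transpose_apply]
  congr 1
  ext s c
  rw [Matrix.updateRow_apply]
  simp only [Matrix.submatrix_apply, id, Function.update_apply]
  split_ifs <;> rfl

/-- the Plücker polynomial computing the entry `(k, t)` of `A · adj(A_ι)` -/
def Qpl (hdn : d < n) (p : Fin n × Fin d) : PlRing K d n :=
  coord K d n (Function.update (iotaIdx hdn).1 p.2 p.1)

theorem evalMinors_Qpl (hdn : d < n) (A : Matrix (Fin n) (Fin d) K) (p : Fin n × Fin d) :
    evalMinors K d n A (Qpl K hdn p) =
      (A * (A.submatrix (iotaIdx hdn).1 id).adjugate) p.1 p.2 := by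
  unfold Qpl
  rw [evalMinors_coord, mul_adjugate_apply]

/-- the normalising element of `SL_d` -/
def normMat (hd : 0 < d) (hdn : d < n) (A : Matrix (Fin n) (Fin d) K) :
    Matrix (Fin d) (Fin d) K :=
  (A.submatrix (iotaIdx hdn).1 id).adjugate *
    Matrix.diagonal (fun t : Fin d =>
      if t = ⟨0, hd⟩ then (((A.submatrix (iotaIdx hdn).1 id).det) ^ (d - 1))⁻¹ else 1)

theorem det_normMat (hd : 0 < d) (hdn : d < n) (A : Matrix (Fin n) (Fin d) K)
    (hA : (A.submatrix (iotaIdx hdn).1 id).det ≠ 0) : (normMat K hd hdn A).det = 1 := by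
  unfold normMat
  rw [Matrix.det_mul, Matrix.det_adjugate, Matrix.det_diagonal, Fintype.card_fin,
    Finset.prod_ite_eq' Finset.univ (⟨0, hd⟩ : Fin d), if_pos (Finset.mem_univ _)]
  exact mul_inv_cancel₀ (pow_ne_zero _ hA)

theorem mul_normMat_apply (hd : 0 < d) (hdn : d < n) (A : Matrix (Fin n) (Fin d) K)
    (p : Fin n × Fin d) :
    (A * normMat K hd hdn A) p.1 p.2 =
      evalMinors K d n A (Qpl K hdn p) *
        (if p.2 = ⟨0, hd⟩ then (((A.submatrix (iotaIdx hdn).1 id).det) ^ (d - 1))⁻¹ else 1) := by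
  unfold normMat
  rw [← Matrix.mul_assoc, Matrix.mul_diagonal, evalMinors_Qpl]

/-- the polynomial in `T` over the Plücker ring obtained by substituting the normal form -/
def Gpoly (hd : 0 < d) (hdn : d < n) (f : MatRing K d n) : Polynomial (PlRing K d n) :=
  MvPolynomial.aeval (fun p : Fin n × Fin d =>
    if p.2 = ⟨0, hd⟩ then Polynomial.C (Qpl K hdn p) * Polynomial.X
    else Polynomial.C (Qpl K hdn p)) f

theorem eval_Gpoly (hd : 0 < d) (hdn : d < n) (A : Matrix (Fin n) (Fin d) K) (x : K)
    (f : MatRing K d n) :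
    Polynomial.eval x ((Gpoly K hd hdn f).map (evalMinors K d n A).toRingHom) =
      eval (fun p : Fin n × Fin d => evalMinors K d n A (Qpl K hdn p) *
        (if p.2 = ⟨0, hd⟩ then x else 1)) f := by
  unfold Gpoly
  induction f using MvPolynomial.induction_on with
  | C r =>
    simp only [MvPolynomial.aeval_C, MvPolynomial.eval_C]
    rw [show (algebraMap K (Polynomial (PlRing K d n))) r =
      Polynomial.C (MvPolynomial.C r) from rfl]
    simp
  | add p q hp hq => simp only [map_add, Polynomial.map_add, Polynomial.eval_add, hp, hq]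
  | mul_X p i hp =>
    simp only [map_mul, Polynomial.map_mul, Polynomial.eval_mul, hp, MvPolynomial.aeval_X,
      MvPolynomial.eval_X]
    congr 1
    split_ifs
    · simp
    · simp

end Normal

section Key

variable (K : Type u) [Field K] {d n : ℕ}

/-- the Plücker polynomial `F` with `Δ^{(d-1)E} f = pluckerMap F` for an invariant `f` -/
def Fpl (hd : 0 < d) (hdn : d < n) (f : MatRing K d n) : PlRing K d n :=
  ∑ j ∈ Finset.range ((Gpoly K hd hdn f).natDegree + 1),
    (Gpoly K hd hdn f).coeff j *
      X (iotaIdx hdn) ^ ((d - 1) * ((Gpoly K hd hdn f).natDegree - j))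

theorem eval_minor' (v : Fin n × Fin d → K) (a : Fin d → Fin n) :
    eval v (minor K d n a) = ((ptMat K v).submatrix a id).det := by
  rw [Helper24Grass2.eval_minor]
  rfl

theorem key_pointwise (hd : 0 < d) (hdn : d < n) (f : MatRing K d n)
    (hf : ∀ g : Matrix.SpecialLinearGroup (Fin d) K, rightTranslate K d n g f = f)
    (v : Fin n × Fin d → K) (hv : ((ptMat K v).submatrix (iotaIdx hdn).1 id).det ≠ 0) :
    ((ptMat K v).submatrix (iotaIdx hdn).1 id).det ^ ((d - 1) * (Gpoly K hd hdn f).natDegree) *
      eval v f = evalMinors K d n (ptMat K v) (Fpl K hd hdn f) := by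
  set A := ptMat K v with hA
  set δ := (A.submatrix (iotaIdx hdn).1 id).det with hδ
  set E := (Gpoly K hd hdn f).natDegree with hE
  have h1 : eval v f = eval (fun p : Fin n × Fin d => (A * normMat K hd hdn A) p.1 p.2) f := by
    have h2 := hf ⟨normMat K hd hdn A, det_normMat K hd hdn A hv⟩
    have h3 := eval_rightTranslate K ⟨normMat K hd hdn A, det_normMat K hd hdn A hv⟩ v f
    rw [h2] at h3
    exact h3
  rw [h1]
  simp_rw [mul_normMat_apply]
  rw [← eval_Gpoly K hd hdn A ((δ ^ (d - 1))⁻¹) f,
    Polynomial.eval_eq_sum_range' (n := E + 1)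
      (lt_of_le_of_lt Polynomial.natDegree_map_le (Nat.lt_succ_self _)),
    Finset.mul_sum]
  unfold Fpl
  rw [map_sum]
  apply Finset.sum_congr rfl
  intro j hj
  have hj' : j ≤ E := Nat.lt_succ_iff.mp (Finset.mem_range.mp hj)
  rw [Polynomial.coeff_map, map_mul, map_pow, evalMinors_X]
  have h4 : δ ^ ((d - 1) * E) = δ ^ ((d - 1) * (E - j)) * (δ ^ (d - 1)) ^ j := by
    rw [← pow_mul, ← pow_add, ← Nat.mul_add, Nat.sub_add_cancel hj']
  have h5 : (δ ^ (d - 1)) ^ j * ((δ ^ (d - 1))⁻¹) ^ j = 1 := by
    rw [← mul_pow, mul_inv_cancel₀ (pow_ne_zero _ hv), one_pow]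
  show δ ^ ((d - 1) * E) * ((evalMinors K d n A) ((Gpoly K hd hdn f).coeff j) *
      ((δ ^ (d - 1))⁻¹) ^ j) = _
  rw [h4]
  calc δ ^ ((d - 1) * (E - j)) * (δ ^ (d - 1)) ^ j *
        ((evalMinors K d n A) ((Gpoly K hd hdn f).coeff j) * ((δ ^ (d - 1))⁻¹) ^ j)
      = (evalMinors K d n A) ((Gpoly K hd hdn f).coeff j) * δ ^ ((d - 1) * (E - j)) *
          ((δ ^ (d - 1)) ^ j * ((δ ^ (d - 1))⁻¹) ^ j) := by ring
    _ = _ := by rw [h5, mul_one]

theorem minor_iota_ne_zero (hdn : d < n) : minor K d n (iotaIdx hdn).1 ≠ 0 := by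
  intro h
  have h1 := congrArg (eval (fun p : Fin n × Fin d => if p.1.val = p.2.val then (1 : K) else 0)) h
  rw [Helper24Grass2.eval_minor, map_zero] at h1
  have h2 : (Matrix.of fun s t : Fin d =>
      (fun p : Fin n × Fin d => if p.1.val = p.2.val then (1 : K) else 0)
        ((iotaIdx hdn).1 s, t)) = 1 := by
    ext s t
    show (if ((iotaIdx hdn).1 s).val = t.val then (1 : K) else 0) = (1 : Matrix (Fin d) (Fin d) K) s t
    rw [Matrix.one_apply]
    have hs : ((iotaIdx hdn).1 s).val = s.val := rfl
    rw [hs]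
    by_cases hst : s = t
    · subst hst
      rw [if_pos rfl, if_pos rfl]
    · have hne : s.val ≠ t.val := fun h' => hst (Fin.ext h')
      rw [if_neg hst, if_neg hne]
  rw [h2, Matrix.det_one] at h1
  exact one_ne_zero h1

theorem key_identity [Infinite K] (hd : 0 < d) (hdn : d < n) (f : MatRing K d n)
    (hf : ∀ g : Matrix.SpecialLinearGroup (Fin d) K, rightTranslate K d n g f = f) :
    (minor K d n (iotaIdx hdn).1) ^ ((d - 1) * (Gpoly K hd hdn f).natDegree) * f =
      pluckerMap K d n (Fpl K hd hdn f) := by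
  have h0 : minor K d n (iotaIdx hdn).1 *
      ((minor K d n (iotaIdx hdn).1) ^ ((d - 1) * (Gpoly K hd hdn f).natDegree) * f -
        pluckerMap K d n (Fpl K hd hdn f)) = 0 := by
    apply MvPolynomial.funext
    intro v
    rw [map_mul, map_sub, map_mul, map_pow, eval_minor', eval_pluckerMap, map_zero]
    by_cases hv : ((ptMat K v).submatrix (iotaIdx hdn).1 id).det = 0
    · rw [hv, zero_mul]
    · rw [key_pointwise K hd hdn f hf v hv, sub_self, mul_zero]
  rcases mul_eq_zero.mp h0 with h | h
  · exact absurd h (minor_iota_ne_zero K hdn)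
  · exact sub_eq_zero.mp h

end Key

section Descent

variable (K : Type u) [Field K] {d n : ℕ}

/-- the largest element `(n - d, …, n - 1)` of `I(d,n)` -/
def topIdx (hdn : d < n) : Idx d n :=
  ⟨fun t => ⟨n - d + t.val, by have := t.isLt; omega⟩, by
    intro a b hab
    rw [Fin.lt_def] at hab ⊢
    dsimp only
    omega⟩

theorem le_topIdx (hdn : d < n) (θ : Idx d n) : θ ≤ topIdx hdn := by
  intro t
  rw [Fin.le_def]
  have ht := t.isLt
  have h1 := strictMono_add_le θ (d - 1 - t.val) t ⟨d - 1, by omega⟩ (by dsimp only; omega)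
  have h2 := (θ.1 ⟨d - 1, by omega⟩).isLt
  show (θ.1 t).val ≤ n - d + t.val
  omega

/-- substitution of the entries of the generic matrix of shape `(β, τ)` -/
def substShape (β τ : Idx d n) : MatRing K d n →ₐ[K] MvPolynomial (Var n d) K :=
  MvPolynomial.aeval (fun p : Fin n × Fin d => shapeMat2 K β τ p.1 p.2)

theorem substShape_minor (β τ : Idx d n) (θ : Idx d n) :
    substShape K β τ (minor K d n θ.1) = minorAt2 K β τ θ := by
  unfold minor minorAt2
  rw [AlgHom.map_det]
  congr 1
  ext s t
  simp [substShape]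

theorem substShape_pluckerMap (β τ : Idx d n) (F : PlRing K d n) :
    substShape K β τ (pluckerMap K d n F) = evalShape2 K β τ F := by
  induction F using MvPolynomial.induction_on with
  | C r => simp [pluckerMap, evalShape2]
  | add p q hp hq => rw [map_add, map_add, map_add, hp, hq]
  | mul_X p θ hp =>
    rw [map_mul, map_mul, map_mul, hp, pluckerMap_X, evalShape2_X, substShape_minor]

theorem pluckerMap_eq_zero_of_mem [Infinite K] {F : PlRing K d n}
    (hF : F ∈ plIdealTop (d := d) (n := n) K) : pluckerMap K d n F = 0 := by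
  apply MvPolynomial.funext
  intro v
  rw [eval_pluckerMap, map_zero]
  exact plIdealTop_le_ker (ptMat K v) hF

theorem exists_std_expansion [Infinite K] (F : PlRing K d n) :
    ∃ (s : Finset (Σ m : ℕ, {c : Fin m → Idx d n // Antitone c}))
      (a : (Σ m : ℕ, {c : Fin m → Idx d n // Antitone c}) → K),
      pluckerMap K d n F = ∑ c ∈ s, a c • pluckerMap K d n (chainMon K c.2.1) := by
  have h1 : Ideal.Quotient.mk (plIdealTop (d := d) (n := n) K) F ∈
      Helper24Grass.Std K d n := by
    rw [Helper24Grass.std_eq_top]; trivial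
  unfold Helper24Grass.Std at h1
  obtain ⟨c, hc⟩ := Finsupp.mem_span_range_iff_exists_finsupp.mp h1
  refine ⟨c.support, c, ?_⟩
  have h2 : Ideal.Quotient.mk (plIdealTop (d := d) (n := n) K)
      (c.sum fun i a => a • chainMon K i.2.1) = Ideal.Quotient.mk _ F := by
    rw [← hc, Finsupp.sum, Finsupp.sum, map_sum]
    exact Finset.sum_congr rfl fun i _ => mk_smul' _ _ _
  have h3 := pluckerMap_eq_zero_of_mem K (Ideal.Quotient.eq.mp h2)
  rw [map_sub, sub_eq_zero] at h3
  rw [← h3, Finsupp.sum, map_sum]
  exact Finset.sum_congr rfl fun i _ => map_smul _ _ _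

theorem descent [Infinite K] (hd : 0 < d) (hdn : d < n) (h : MatRing K d n)
    (hh : minor K d n (iotaIdx hdn).1 * h ∈ (pluckerMap K d n).range) :
    h ∈ (pluckerMap K d n).range := by
  classical
  obtain ⟨G₀, hG₀⟩ := hh
  obtain ⟨s, a, hexp⟩ := exists_std_expansion K G₀
  have hG₀' : pluckerMap K d n G₀ = minor K d n (iotaIdx hdn).1 * h := hG₀
  rw [hG₀'] at hexp
  rw [← Finset.sum_filter_add_sum_filter_not s (fun c => ∃ k, c.2.1 k = iotaIdx hdn)] at hexp
  -- the part divisible by `X ι`
  have hdiv : ∀ c : (Σ m : ℕ, {c : Fin m → Idx d n // Antitone c}),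
      (∃ k, c.2.1 k = iotaIdx hdn) → ∃ B : PlRing K d n,
        pluckerMap K d n (chainMon K c.2.1) =
          minor K d n (iotaIdx hdn).1 * pluckerMap K d n B := by
    rintro c ⟨k, hk⟩
    refine ⟨∏ k' ∈ Finset.univ.erase k, X (c.2.1 k'), ?_⟩
    rw [← pluckerMap_X, ← map_mul, ← hk]
    unfold chainMon
    rw [Finset.mul_prod_erase Finset.univ (fun k' => (X (c.2.1 k') : PlRing K d n))
      (Finset.mem_univ k)]
  choose! Bf hBf using hdiv
  have h1 : ∑ c ∈ s.filter (fun c => ∃ k, c.2.1 k = iotaIdx hdn),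
      a c • pluckerMap K d n (chainMon K c.2.1) =
      minor K d n (iotaIdx hdn).1 * pluckerMap K d n
        (∑ c ∈ s.filter (fun c => ∃ k, c.2.1 k = iotaIdx hdn), a c • Bf c) := by
    rw [map_sum, Finset.mul_sum]
    apply Finset.sum_congr rfl
    intro c hc
    rw [hBf c (Finset.mem_filter.mp hc).2, map_smul, mul_smul_comm]
  set B₁ := ∑ c ∈ s.filter (fun c => ∃ k, c.2.1 k = iotaIdx hdn), a c • Bf c with hB₁
  rw [h1] at hexp
  -- the rest
  set s' := s.filter (fun c => ¬ ∃ k, c.2.1 k = iotaIdx hdn) with hs'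
  have h2 : pluckerMap K d n (∑ c ∈ s', a c • chainMon K c.2.1) =
      minor K d n (iotaIdx hdn).1 * (h - pluckerMap K d n B₁) := by
    rw [map_sum, mul_sub, hexp]
    simp only [map_smul]
    ring
  have h3 : evalShape2 K (betaIdx hdn) (topIdx hdn) (∑ c ∈ s', a c • chainMon K c.2.1) = 0 := by
    rw [← substShape_pluckerMap, h2, map_mul, substShape_minor,
      minorAt2_eq_zero_of_not_ge K (not_beta_le_iota hdn hd), zero_mul]
  have h4 := indep_core2 K hd (betaIdx hdn) (topIdx hdn) s' (fun c => c.1) (fun c => c.2.1)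
    (fun c _ => c.2.2)
    (by
      intro i _ j _ hij
      obtain ⟨m, c, hc⟩ := i
      obtain ⟨m', c', hc'⟩ := j
      simp only [Sigma.mk.injEq] at hij
      obtain ⟨rfl, hij⟩ := hij
      have h' := eq_of_heq hij
      subst h'
      rfl) a h3
  have h5 : ∑ c ∈ s', a c • chainMon K c.2.1 = 0 := by
    apply Finset.sum_eq_zero
    intro c hc
    have hc' := (Finset.mem_filter.mp hc).2
    push Not at hc'
    rw [h4 c hc (fun k => ⟨by
      by_contra hβ
      exact hc' k (eq_iota_of_not_beta_le hdn (c.2.1 k) hβ), le_topIdx hdn _⟩), zero_smul]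
  rw [h5, map_zero] at h2
  rcases mul_eq_zero.mp h2.symm with h6 | h6
  · exact absurd h6 (minor_iota_ne_zero K hdn)
  · exact ⟨B₁, (sub_eq_zero.mp h6).symm⟩

theorem main_S11263 [IsAlgClosed K] (d n : ℕ) (hd : 0 < d) (hdn : d < n) (f : MatRing K d n) :
    (∀ g : Matrix.SpecialLinearGroup (Fin d) K, rightTranslate K d n g f = f) ↔
      f ∈ Algebra.adjoin K (Set.range fun θ : Idx d n => minor K d n θ.1) := by
  haveI : Infinite K := inferInstance
  constructor
  · intro hf
    rw [adjoin_eq_range]
    have key := key_identity K hd hdn f hf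
    have hN : ∀ (N : ℕ) (h : MatRing K d n),
        (minor K d n (iotaIdx hdn).1) ^ N * h ∈ (pluckerMap K d n).range →
          h ∈ (pluckerMap K d n).range := by
      intro N
      induction N with
      | zero => intro h hh; simpa using hh
      | succ N ih =>
        intro h hh
        apply ih
        apply descent K hd hdn
        rw [← mul_assoc, ← pow_succ']
        exact hh
    exact hN _ f ⟨_, key.symm⟩
  · intro hf g
    exact invariant_of_mem_adjoin K f hf g

end Descent

end Groth.Agent.Lib.T2H8.Grass
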