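import Mathlib
import Groth.Prelude.Def_W4bk4grassmannianPl
import Groth.Agent.Lib.Helper24Grass
import Groth.Agent.Lib.T2H8GrassCoord
import Groth.Agent.Lib.T2H8GrassPlucker
import Groth.Agent.Lib.T2H8GrassIndep
import Groth.Agent.Lib.T2H8GrassSMT
import Groth.Agent.Lib.T2H8GrassRich
import Groth.Agent.Lib.T2H8GrassPrime
import Groth.Agent.Lib.T2H8GrassFFT

/-!
# The big cell of a Schubert variety (helper8)

The cone over `X(τ)` is parametrised by the matrices `Z · diag(u, 1, …, 1)` where the rows `τ_s`
of `Z` are the standard basis vectors and the other entries `(k, t)` are free for `k < τ_t` and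
zero for `k > τ_t`.  The induced map `cellMap τ : PlRing → K[z, u]` has kernel `J(τ)`, its image
contains `u` and all `u · z`.
-/

noncomputable section

open MvPolynomial W4bk4grassmannian

namespace Groth.Agent.Lib.T2H8.Grass

universe u

section Block

variable {d n : ℕ}

/-- a matrix supported in `k ≤ τ_t` has vanishing minors on (unsorted) rows `a` as soon as
`a_s > τ_{t₀}` for all `s ≥ t₀` -/
theorem det_submatrix_eq_zero_of_support {R : Type*} [CommRing R] (τ : Idx d n)
    (A : Matrix (Fin n) (Fin d) R) (hA : ∀ k t, τ.1 t < k → A k t = 0) (a : Fin d → Fin n)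
    (t₀ : Fin d) (ha : ∀ s, t₀ ≤ s → τ.1 t₀ < a s) : (A.submatrix a id).det = 0 := by
  apply det_eq_zero_of_block _ t₀
  intro s t hs ht
  simp only [Matrix.submatrix_apply, id]
  apply hA
  exact lt_of_le_of_lt (τ.2.monotone ht) (ha s hs)

theorem det_submatrix_eq_zero_of_not_le {R : Type*} [CommRing R] (τ : Idx d n)
    (A : Matrix (Fin n) (Fin d) R) (hA : ∀ k t, τ.1 t < k → A k t = 0) (φ : Idx d n)
    (h : ¬ φ ≤ τ) : (A.submatrix φ.1 id).det = 0 := by
  have h' : ∃ t₀, τ.1 t₀ < φ.1 t₀ := by
    by_contra hcon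
    push Not at hcon
    exact h hcon
  obtain ⟨t₀, ht₀⟩ := h'
  exact det_submatrix_eq_zero_of_support τ A hA φ.1 t₀
    (fun s hs => lt_of_lt_of_le ht₀ (φ.2.monotone hs))

end Block

section CellMat

variable {d n : ℕ}

/-- the coordinates of the big cell of `X(τ)` -/
def CellIdx (τ : Idx d n) : Type := {p : Fin n × Fin d // p.1 < τ.1 p.2 ∧ p.1 ∉ Set.range τ.1}

instance (τ : Idx d n) : Finite (CellIdx τ) := by unfold CellIdx; infer_instance

/-- the normalised matrix `Z · diag(u, 1, …, 1)` of the big cell of `X(τ)` -/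
def cellMatOf {R : Type*} [CommRing R] (hd : 0 < d) (τ : Idx d n) (u : R) (z : CellIdx τ → R) :
    Matrix (Fin n) (Fin d) R :=
  Matrix.of fun k t =>
    (if t = ⟨0, hd⟩ then u else 1) *
      (if h : k ∈ Set.range τ.1 then (if τ.1 t = k then 1 else 0)
       else if h' : k < τ.1 t then z ⟨(k, t), h', h⟩ else 0)

theorem cellMatOf_support {R : Type*} [CommRing R] (hd : 0 < d) (τ : Idx d n) (u : R)
    (z : CellIdx τ → R) (k : Fin n) (t : Fin d) (h : τ.1 t < k) : cellMatOf hd τ u z k t = 0 := by
  unfold cellMatOf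
  simp only [Matrix.of_apply]
  by_cases hk : k ∈ Set.range τ.1
  · rw [dif_pos hk, if_neg (ne_of_lt h), mul_zero]
  · rw [dif_neg hk, dif_neg (not_lt.mpr h.le), mul_zero]

theorem cellMatOf_row {R : Type*} [CommRing R] (hd : 0 < d) (τ : Idx d n) (u : R)
    (z : CellIdx τ → R) (s t : Fin d) :
    cellMatOf hd τ u z (τ.1 s) t = if s = t then (if t = ⟨0, hd⟩ then u else 1) else 0 := by
  unfold cellMatOf
  simp only [Matrix.of_apply]
  rw [dif_pos ⟨s, rfl⟩]
  by_cases hst : s = t
  · subst hst
    rw [if_pos rfl, if_pos rfl, mul_one]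
  · rw [if_neg hst, if_neg (fun h => hst (τ.2.injective h).symm), mul_zero]

theorem cellMatOf_cell {R : Type*} [CommRing R] (hd : 0 < d) (τ : Idx d n) (u : R)
    (z : CellIdx τ → R) (p : CellIdx τ) :
    cellMatOf hd τ u z p.1.1 p.1.2 = (if p.1.2 = ⟨0, hd⟩ then u else 1) * z p := by
  unfold cellMatOf
  simp only [Matrix.of_apply]
  rw [dif_neg p.2.2, dif_pos p.2.1]
  rfl

theorem cellMatOf_map {R S : Type*} [CommRing R] [CommRing S] (f : R →+* S) (hd : 0 < d)
    (τ : Idx d n) (u : R) (z : CellIdx τ → R) :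
    (cellMatOf hd τ u z).map f = cellMatOf hd τ (f u) (fun p => f (z p)) := by
  ext k t
  simp only [Matrix.map_apply, cellMatOf, Matrix.of_apply, map_mul]
  congr 1
  · split_ifs <;> simp
  · split_ifs <;> simp

theorem schubert_cond_cellMatOf {R : Type*} [CommRing R] (hd : 0 < d) (τ : Idx d n) (u : R)
    (z : CellIdx τ → R) (φ : Idx d n) (h : ¬ φ ≤ τ) :
    ((cellMatOf hd τ u z).submatrix φ.1 id).det = 0 :=
  det_submatrix_eq_zero_of_not_le τ _ (cellMatOf_support hd τ u z) φ h

end CellMat

section CellMap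

variable (K : Type u) [Field K] {d n : ℕ}

/-- the generic normalised matrix of the big cell of `X(τ)` -/
def cellMat (hd : 0 < d) (τ : Idx d n) :
    Matrix (Fin n) (Fin d) (MvPolynomial (Option (CellIdx τ)) K) :=
  cellMatOf hd τ (X none) (fun p => X (some p))

/-- the minors of the generic normalised matrix -/
def cellMinor' (hd : 0 < d) (τ : Idx d n) (a : Fin d → Fin n) :
    MvPolynomial (Option (CellIdx τ)) K :=
  ((cellMat K hd τ).submatrix a id).det

/-- the comorphism of the parametrisation of the cone over `X(τ)` by its big cell -/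
def cellMap (hd : 0 < d) (τ : Idx d n) :
    PlRing K d n →ₐ[K] MvPolynomial (Option (CellIdx τ)) K :=
  MvPolynomial.aeval (fun θ : Idx d n => cellMinor' K hd τ θ.1)

theorem cellMap_X (hd : 0 < d) (τ θ : Idx d n) :
    cellMap K hd τ (X θ) = cellMinor' K hd τ θ.1 := by
  simp [cellMap]

theorem eval_cellMinor' (hd : 0 < d) (τ : Idx d n) (a : Fin d → Fin n)
    (pt : Option (CellIdx τ) → K) :
    eval pt (cellMinor' K hd τ a) =
      ((cellMatOf hd τ (pt none) (fun p => pt (some p))).submatrix a id).det := by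
  unfold cellMinor' cellMat
  rw [RingHom.map_det, RingHom.mapMatrix_apply]
  have h1 : ((cellMatOf hd τ (X none : MvPolynomial (Option (CellIdx τ)) K)
      (fun p => X (some p))).submatrix a id).map (eval pt) =
      ((cellMatOf hd τ (X none : MvPolynomial (Option (CellIdx τ)) K)
        (fun p => X (some p))).map (eval pt)).submatrix a id := rfl
  rw [h1, cellMatOf_map]
  simp only [eval_X]

theorem eval_cellMap (hd : 0 < d) (τ : Idx d n) (pt : Option (CellIdx τ) → K)
    (F : PlRing K d n) :
    eval pt (cellMap K hd τ F) =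
      evalMinors K d n (cellMatOf hd τ (pt none) (fun p => pt (some p))) F := by
  induction F using MvPolynomial.induction_on with
  | C r => simp [cellMap, evalMinors]
  | add p q hp hq => rw [map_add, map_add, map_add, hp, hq]
  | mul_X p θ hp =>
    rw [map_mul, map_mul, map_mul, hp, cellMap_X, evalMinors_X, eval_cellMinor']

theorem cellMap_coord [Infinite K] (hd : 0 < d) (τ : Idx d n) (a : Fin d → Fin n) :
    cellMap K hd τ (coord K d n a) = cellMinor' K hd τ a := by
  apply MvPolynomial.funext
  intro pt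
  rw [eval_cellMap, evalMinors_coord, eval_cellMinor']

theorem cellMap_eq_zero_of_mem [Infinite K] (hd : 0 < d) (τ : Idx d n) {F : PlRing K d n}
    (hF : F ∈ schubertVanishing K d n τ) : cellMap K hd τ F = 0 := by
  apply MvPolynomial.funext
  intro pt
  rw [eval_cellMap, map_zero]
  unfold schubertVanishing at hF
  simp only [Ideal.mem_iInf] at hF
  exact hF _ (schubert_cond_cellMatOf hd τ _ _)

/-- `evalMinors` is invariant under right multiplication by `SL_d` -/
theorem evalMinors_mul_of_det_eq_one (A : Matrix (Fin n) (Fin d) K) (h : Matrix (Fin d) (Fin d) K)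
    (hh : h.det = 1) (F : PlRing K d n) :
    evalMinors K d n (A * h) F = evalMinors K d n A F := by
  induction F using MvPolynomial.induction_on with
  | C r => simp [evalMinors]
  | add p q hp hq => rw [map_add, map_add, hp, hq]
  | mul_X p θ hp =>
    rw [map_mul, map_mul, hp, evalMinors_X, evalMinors_X]
    congr 1
    have : (A * h).submatrix θ.1 id = A.submatrix θ.1 id * h := by
      ext s t; simp [Matrix.mul_apply]
    rw [this, Matrix.det_mul, hh, mul_one]

end CellMap

section Normalize

variable (K : Type u) [Field K] {d n : ℕ}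

/-- the matrix of shape `τ` at a point -/
def shapePt (τ : Idx d n) (x : Var n d → K) : Matrix (Fin n) (Fin d) K :=
  (shapeMat K τ).map (eval x)

theorem shapePt_apply (τ : Idx d n) (x : Var n d → K) (k : Fin n) (t : Fin d) :
    shapePt K τ x k t = if k ≤ τ.1 t then x (toLex (k, t)) else 0 := by
  unfold shapePt shapeMat
  simp only [Matrix.map_apply, Matrix.of_apply]
  split_ifs <;> simp

theorem shapePt_support (τ : Idx d n) (x : Var n d → K) (k : Fin n) (t : Fin d)
    (h : τ.1 t < k) : shapePt K τ x k t = 0 := by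
  rw [shapePt_apply, if_neg (not_le.mpr h)]

/-- the product of the diagonal entries of the rows `τ` of the matrix of shape `τ` -/
def diagProd (τ : Idx d n) (x : Var n d → K) : K := ∏ t, x (toLex (τ.1 t, t))

theorem det_shapePt_tau (τ : Idx d n) (x : Var n d → K) :
    ((shapePt K τ x).submatrix τ.1 id).det = diagProd K τ x := by
  rw [Matrix.det_of_isUpperTriangular]
  · unfold diagProd
    refine Finset.prod_congr rfl fun t _ => ?_
    simp only [Matrix.submatrix_apply, id, shapePt_apply, le_refl, if_true]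
  · intro s t hts
    simp only [id] at hts
    simp only [Matrix.submatrix_apply, id]
    exact shapePt_support K τ x _ _ (τ.2 hts)

/-- the minor of the matrix of shape `τ` on the rows `τ` with the `t`-th one replaced by `k` -/
def qPt (τ : Idx d n) (x : Var n d → K) (k : Fin n) (t : Fin d) : K :=
  ((shapePt K τ x).submatrix (Function.update τ.1 t k) id).det

theorem qPt_row (τ : Idx d n) (x : Var n d → K) (s t : Fin d) :
    qPt K τ x (τ.1 s) t = if s = t then diagProd K τ x else 0 := by
  unfold qPt
  by_cases hst : s = t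
  · subst hst
    rw [if_pos rfl, Function.update_eq_self, det_shapePt_tau]
  · rw [if_neg hst]
    apply Matrix.det_zero_of_row_eq hst
    funext c
    simp only [Matrix.submatrix_apply, id]
    rw [Function.update_of_ne hst, Function.update_self]

theorem qPt_above (τ : Idx d n) (x : Var n d → K) (k : Fin n) (t : Fin d) (h : τ.1 t < k) :
    qPt K τ x k t = 0 := by
  unfold qPt
  apply det_submatrix_eq_zero_of_support τ _ (shapePt_support K τ x) _ t
  intro s hs
  by_cases hst : s = t
  · rw [hst, Function.update_self]; exact h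
  · rw [Function.update_of_ne hst]
    exact τ.2 (lt_of_le_of_ne hs (Ne.symm hst))

/-- the normalising matrix -/
def normPt (hd : 0 < d) (τ : Idx d n) (x : Var n d → K) : Matrix (Fin d) (Fin d) K :=
  (diagProd K τ x)⁻¹ • (((shapePt K τ x).submatrix τ.1 id).adjugate *
    Matrix.diagonal (fun t : Fin d => if t = ⟨0, hd⟩ then diagProd K τ x else 1))

theorem det_normPt (hd : 0 < d) (τ : Idx d n) (x : Var n d → K) (hx : diagProd K τ x ≠ 0) :
    (normPt K hd τ x).det = 1 := by
  unfold normPt
  rw [Matrix.det_smul, Matrix.det_mul, Matrix.det_adjugate, Matrix.det_diagonal, Fintype.card_fin,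
    Finset.prod_ite_eq' Finset.univ (⟨0, hd⟩ : Fin d), if_pos (Finset.mem_univ _),
    det_shapePt_tau, ← pow_succ, Nat.sub_add_cancel hd, ← mul_pow, inv_mul_cancel₀ hx, one_pow]

theorem mul_normPt_apply (hd : 0 < d) (τ : Idx d n) (x : Var n d → K) (k : Fin n) (t : Fin d) :
    (shapePt K τ x * normPt K hd τ x) k t =
      (diagProd K τ x)⁻¹ * (qPt K τ x k t * (if t = ⟨0, hd⟩ then diagProd K τ x else 1)) := by
  unfold normPt qPt
  rw [Matrix.mul_smul, Matrix.smul_apply, smul_eq_mul, ← Matrix.mul_assoc, Matrix.mul_diagonal,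
    mul_adjugate_apply]

/-- the point of the big cell corresponding to a matrix of shape `τ` -/
def cellPt (τ : Idx d n) (x : Var n d → K) : Option (CellIdx τ) → K
  | none => diagProd K τ x
  | some p => qPt K τ x p.1.1 p.1.2 / diagProd K τ x

theorem mul_normPt_eq (hd : 0 < d) (τ : Idx d n) (x : Var n d → K) (hx : diagProd K τ x ≠ 0) :
    shapePt K τ x * normPt K hd τ x =
      cellMatOf hd τ (cellPt K τ x none) (fun p => cellPt K τ x (some p)) := by
  ext k t
  rw [mul_normPt_apply]
  unfold cellMatOf
  simp only [Matrix.of_apply, cellPt]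
  by_cases hk : k ∈ Set.range τ.1
  · obtain ⟨s, rfl⟩ := hk
    rw [dif_pos ⟨s, rfl⟩, qPt_row]
    by_cases hst : s = t
    · subst hst
      rw [if_pos rfl, if_pos rfl, mul_one, ← mul_assoc, inv_mul_cancel₀ hx, one_mul]
    · rw [if_neg hst, if_neg (fun h => hst (τ.2.injective h).symm), zero_mul, mul_zero, mul_zero]
  · rw [dif_neg hk]
    by_cases hlt : k < τ.1 t
    · rw [dif_pos hlt]
      field_simp
    · rw [dif_neg hlt, mul_zero]
      have hne : k ≠ τ.1 t := fun h => hk ⟨t, h.symm⟩
      have hgt : τ.1 t < k := lt_of_le_of_ne (not_lt.mp hlt) (Ne.symm hne)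
      rw [qPt_above K τ x k t hgt, zero_mul, mul_zero]

theorem eval_evalShape_eq_eval_cellMap (hd : 0 < d) (τ : Idx d n) (x : Var n d → K)
    (hx : diagProd K τ x ≠ 0) (F : PlRing K d n) :
    eval x (evalShape K τ F) = eval (cellPt K τ x) (cellMap K hd τ F) := by
  rw [eval_evalShape, eval_cellMap, ← mul_normPt_eq K hd τ x hx,
    evalMinors_mul_of_det_eq_one K _ _ (det_normPt K hd τ x hx)]
  rfl

theorem evalShape_eq_zero_of_cellMap_eq_zero [Infinite K] (hd : 0 < d) (τ : Idx d n)
    (F : PlRing K d n) (h : cellMap K hd τ F = 0) : evalShape K τ F = 0 := by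
  have hD : (∏ t, (X (toLex (τ.1 t, t)) : MvPolynomial (Var n d) K)) ≠ 0 := by
    rw [Finset.prod_ne_zero_iff]
    intro t _
    exact MvPolynomial.X_ne_zero _
  have h0 : (∏ t, (X (toLex (τ.1 t, t)) : MvPolynomial (Var n d) K)) * evalShape K τ F = 0 := by
    apply MvPolynomial.funext
    intro x
    rw [map_mul, map_prod, map_zero]
    simp only [eval_X]
    by_cases hx : diagProd K τ x = 0
    · unfold diagProd at hx
      rw [hx, zero_mul]
    · rw [eval_evalShape_eq_eval_cellMap K hd τ x hx, h, map_zero, mul_zero]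
  rcases mul_eq_zero.mp h0 with h1 | h1
  · exact absurd h1 hD
  · exact h1

end Normalize

section Kernel

variable (K : Type u) [Field K] {d n : ℕ}

/-- variant of `indep_core` with the hypothesis stated through `evalShape` -/
theorem indep_core' (hd : 0 < d) (τ : Idx d n) {ι : Type*} (s : Finset ι)
    (m : ι → ℕ) (c : ∀ i, Fin (m i) → Idx d n) (hanti : ∀ i ∈ s, Antitone (c i))
    (hinj : ∀ i ∈ s, ∀ j ∈ s, (⟨m i, c i⟩ : Σ m : ℕ, Fin m → Idx d n) = ⟨m j, c j⟩ → i = j)
    (g : ι → K) (h0 : evalShape K τ (∑ i ∈ s, g i • chainMon K (c i)) = 0) :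
    ∀ i ∈ s, (∀ k, c i k ≤ τ) → g i = 0 := by
  classical
  have h1 := h0
  rw [map_sum] at h1
  simp only [map_smul] at h1
  rw [← Finset.sum_filter_add_sum_filter_not s (fun i => ∀ k, c i k ≤ τ)] at h1
  have h2 : ∑ i ∈ s.filter (fun i => ¬ ∀ k, c i k ≤ τ),
      g i • evalShape K τ (chainMon K (c i)) = 0 := by
    apply Finset.sum_eq_zero
    intro i hi
    have := (Finset.mem_filter.mp hi).2
    push Not at this
    obtain ⟨k, hk⟩ := this
    rw [evalShape_chainMon_eq_zero K τ (c i) k hk, smul_zero]
  rw [h2, add_zero] at h1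
  have h3 := coeff_eq_zero_of_degree_injOn (MonomialOrder.lex : MonomialOrder (Var n d))
    (s.filter (fun i => ∀ k, c i k ≤ τ)) (fun i => evalShape K τ (chainMon K (c i))) g
    (fun i hi => evalShape_chainMon_ne_zero K hd τ (c i) (Finset.mem_filter.mp hi).2)
    (by
      intro i hi j hj hij
      have hi' := Finset.mem_filter.mp (Finset.mem_coe.mp hi)
      have hj' := Finset.mem_filter.mp (Finset.mem_coe.mp hj)
      simp only at hij
      rw [degree_evalShape_chainMon K hd τ (c i) hi'.2,
        degree_evalShape_chainMon K hd τ (c j) hj'.2] at hij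
      exact hinj i hi'.1 j hj'.1
        (sigma_eq_of_chainExp_eq hd (c i) (c j) (hanti i hi'.1) (hanti j hj'.1) hij))
    h1
  intro i hi hle
  exact h3 i (Finset.mem_filter.mpr ⟨hi, hle⟩)

theorem schubertVanishing_eq_ker_evalShape [Infinite K] (hd : 0 < d) (τ : Idx d n) :
    schubertVanishing K d n τ = RingHom.ker (evalShape K τ).toRingHom := by
  have hle : schubertVanishing K d n τ ≤ RingHom.ker (evalShape K τ).toRingHom :=
    fun F hF => evalShape_eq_zero_of_mem K τ hF
  refine ideal_eq_of_span_of_indep (K := K) hle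
    (fun c : StdIdx (fun _ => τ : Fin 1 → Idx d n) => chainMon K c.2.1) ?_ ?_
  · exact span_union K (fun _ => τ : Fin 1 → Idx d n) (schubertVanishing K d n τ)
      (plIdealTop_le_schubertVanishing τ) (fun φ hφ => X_mem_schubertVanishing (hφ 0))
  · rw [linearIndependent_iff']
    intro s g hsum i hi
    have h0 : ∑ i ∈ s, g i • chainMon K i.2.1 ∈ RingHom.ker (evalShape K τ).toRingHom := by
      rw [← Ideal.Quotient.eq_zero_iff_mem, map_sum, ← hsum]
      exact Finset.sum_congr rfl fun i _ => mk_smul' _ _ _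
    have h1 : evalShape K τ (∑ i ∈ s, g i • chainMon K i.2.1) = 0 := h0
    obtain ⟨j, hj⟩ := i.2.2.2
    exact indep_core' K hd τ s (fun i => i.1) (fun i => i.2.1) (fun i _ => i.2.2.1)
      (fun i _ j _ h => stdIdx_inj _ i j h) g h1 i hi hj

instance schubertVanishing_isPrime [Infinite K] [hd : Fact (0 < d)] (τ : Idx d n) :
    (schubertVanishing K d n τ).IsPrime := by
  rw [schubertVanishing_eq_ker_evalShape K hd.out τ]
  exact RingHom.ker_isPrime _

theorem ker_cellMap [Infinite K] (hd : 0 < d) (τ : Idx d n) :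
    RingHom.ker (cellMap K hd τ).toRingHom = schubertVanishing K d n τ := by
  apply le_antisymm
  · intro F hF
    rw [schubertVanishing_eq_ker_evalShape K hd τ]
    exact evalShape_eq_zero_of_cellMap_eq_zero K hd τ F hF
  · intro F hF
    exact cellMap_eq_zero_of_mem K hd τ hF

end Kernel

section Image

variable (K : Type u) [Field K] {d n : ℕ}

theorem cellMinor'_tau (hd : 0 < d) (τ : Idx d n) : cellMinor' K hd τ τ.1 = X none := by
  unfold cellMinor' cellMat
  have h1 : (cellMatOf hd τ (X none : MvPolynomial (Option (CellIdx τ)) K)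
      (fun p => X (some p))).submatrix τ.1 id =
      Matrix.diagonal (fun t : Fin d => if t = ⟨0, hd⟩ then
        (X none : MvPolynomial (Option (CellIdx τ)) K) else 1) := by
    refine Matrix.ext fun s t => ?_
    rw [Matrix.submatrix_apply, id, cellMatOf_row, Matrix.diagonal_apply]
    by_cases hst : s = t
    · subst hst; rw [if_pos rfl]
    · rw [if_neg hst, if_neg hst]
  rw [h1, Matrix.det_diagonal, Finset.prod_ite_eq' Finset.univ (⟨0, hd⟩ : Fin d),
    if_pos (Finset.mem_univ _)]

theorem det_updateRow_diagonal {R : Type*} [CommRing R] (D : Fin d → R) (t : Fin d)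
    (v : Fin d → R) :
    ((Matrix.diagonal D).updateRow t v).det = (∏ j ∈ Finset.univ.erase t, D j) * v t := by
  rw [← Matrix.cramer_transpose_apply, Matrix.diagonal_transpose, Matrix.cramer_eq_adjugate_mulVec,
    Matrix.adjugate_diagonal, Matrix.mulVec_diagonal]

theorem cellMinor'_update (hd : 0 < d) (τ : Idx d n) (p : CellIdx τ) :
    cellMinor' K hd τ (Function.update τ.1 p.1.2 p.1.1) = X none * X (some p) := by
  unfold cellMinor' cellMat
  set D : Fin d → MvPolynomial (Option (CellIdx τ)) K :=
    fun t => if t = ⟨0, hd⟩ then X none else 1 with hD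
  have h1 : (cellMatOf hd τ (X none : MvPolynomial (Option (CellIdx τ)) K)
      (fun p => X (some p))).submatrix (Function.update τ.1 p.1.2 p.1.1) id =
      (Matrix.diagonal D).updateRow p.1.2
        (cellMatOf hd τ (X none : MvPolynomial (Option (CellIdx τ)) K)
          (fun p => X (some p)) p.1.1) := by
    refine Matrix.ext fun s c => ?_
    rw [Matrix.submatrix_apply, id, Matrix.updateRow_apply]
    by_cases hs : s = p.1.2
    · rw [if_pos hs, hs, Function.update_self]
    · rw [if_neg hs, Function.update_of_ne hs, cellMatOf_row, Matrix.diagonal_apply]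
      by_cases hsc : s = c
      · subst hsc; rw [if_pos rfl]
      · rw [if_neg hsc, if_neg hsc]
  rw [h1, det_updateRow_diagonal, cellMatOf_cell, ← mul_assoc,
    Finset.prod_erase_mul _ _ (Finset.mem_univ _), Finset.prod_ite_eq' Finset.univ (⟨0, hd⟩ : Fin d),
    if_pos (Finset.mem_univ _)]

theorem X_none_mem_range (hd : 0 < d) (τ : Idx d n) :
    (X none : MvPolynomial (Option (CellIdx τ)) K) ∈ (cellMap K hd τ).range :=
  ⟨X τ, by
    show cellMap K hd τ (X τ) = X none
    rw [cellMap_X, cellMinor'_tau]⟩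

theorem X_none_mul_X_some_mem_range [Infinite K] (hd : 0 < d) (τ : Idx d n) (p : CellIdx τ) :
    (X none * X (some p) : MvPolynomial (Option (CellIdx τ)) K) ∈ (cellMap K hd τ).range :=
  ⟨coord K d n (Function.update τ.1 p.1.2 p.1.1), by
    show cellMap K hd τ (coord K d n (Function.update τ.1 p.1.2 p.1.1)) = X none * X (some p)
    rw [cellMap_coord, cellMinor'_update]⟩

theorem exists_pow_mul_mem_range [Infinite K] (hd : 0 < d) (τ : Idx d n)
    (b : MvPolynomial (Option (CellIdx τ)) K) :
    ∃ m : ℕ, X none ^ m * b ∈ (cellMap K hd τ).range := by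
  induction b using MvPolynomial.induction_on with
  | C r =>
    refine ⟨0, ?_⟩
    rw [pow_zero, one_mul]
    exact ⟨C r, by
      show cellMap K hd τ (C r) = C r
      simp [cellMap]⟩
  | add p q hp hq =>
    obtain ⟨m₁, h₁⟩ := hp
    obtain ⟨m₂, h₂⟩ := hq
    refine ⟨m₁ + m₂, ?_⟩
    have e : (X none : MvPolynomial (Option (CellIdx τ)) K) ^ (m₁ + m₂) * (p + q) =
        X none ^ m₂ * (X none ^ m₁ * p) + X none ^ m₁ * (X none ^ m₂ * q) := by ring
    rw [e]
    exact Subalgebra.add_mem _
      (Subalgebra.mul_mem _ (Subalgebra.pow_mem _ (X_none_mem_range K hd τ) _) h₁)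
      (Subalgebra.mul_mem _ (Subalgebra.pow_mem _ (X_none_mem_range K hd τ) _) h₂)
  | mul_X p i hp =>
    obtain ⟨m, hm⟩ := hp
    cases i with
    | none =>
      refine ⟨m, ?_⟩
      rw [← mul_assoc]
      exact Subalgebra.mul_mem _ hm (X_none_mem_range K hd τ)
    | some c =>
      refine ⟨m + 1, ?_⟩
      have e : (X none : MvPolynomial (Option (CellIdx τ)) K) ^ (m + 1) * (p * X (some c)) =
          (X none ^ m * p) * (X none * X (some c)) := by ring
      rw [e]
      exact Subalgebra.mul_mem _ hm (X_none_mul_X_some_mem_range K hd τ c)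

end Image

end Groth.Agent.Lib.T2H8.Grass
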