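import Mathlib
import Groth.Prelude.Def_W4bk4grassmannianPl
import Groth.Agent.Lib.T2H8GrassCell
import Groth.Agent.Lib.Helper14FTDim

/-!
# The dimension of the cone over a Schubert variety (helper8)
-/

noncomputable section

open MvPolynomial W4bk4grassmannian

namespace Groth.Agent.Lib.T2H8.Grass

universe u

section Gen

theorem isAlgebraic_of_mul_eq' {A B : Type*} [CommRing A] [CommRing B] [Algebra A B] {x : B}
    (a b : A) (ha : a ≠ 0) (h : algebraMap A B a * x = algebraMap A B b) : IsAlgebraic A x := by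
  refine ⟨Polynomial.C a * Polynomial.X - Polynomial.C b, ?_, ?_⟩
  · intro h0
    have := congrArg (fun p => Polynomial.coeff p 1) h0
    simp at this
    exact ha this
  · simp [h]

end Gen

section Dim

variable (K : Type u) [Field K] {d n : ℕ}

/-- the coordinate ring of the cone over `X(τ)` is the image of the cell map -/
def quotEquivRange [Infinite K] (hd : 0 < d) (τ : Idx d n) :
    (PlRing K d n ⧸ schubertVanishing K d n τ) ≃ₐ[K] (cellMap K hd τ).range :=
  (Ideal.quotientEquivAlgOfEq K (by
    rw [← ker_cellMap K hd τ]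
    exact (AlgHom.ker_rangeRestrict (cellMap K hd τ)).symm)).trans
    (Ideal.quotientKerAlgEquivOfSurjective (AlgHom.rangeRestrict_surjective (cellMap K hd τ)))

theorem quotEquivRange_mk [Infinite K] (hd : 0 < d) (τ : Idx d n) (F : PlRing K d n) :
    ((quotEquivRange K hd τ (Ideal.Quotient.mk _ F) : (cellMap K hd τ).range) :
      MvPolynomial (Option (CellIdx τ)) K) = cellMap K hd τ F := rfl

instance finiteType_range (hd : 0 < d) (τ : Idx d n) :
    Algebra.FiniteType K (cellMap K hd τ).range :=
  Algebra.FiniteType.of_surjective (cellMap K hd τ).rangeRestrict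
    (AlgHom.rangeRestrict_surjective _)

theorem isAlgebraic_over_range [Infinite K] (hd : 0 < d) (τ : Idx d n) :
    Algebra.IsAlgebraic (cellMap K hd τ).range (MvPolynomial (Option (CellIdx τ)) K) := by
  refine ⟨fun b => ?_⟩
  obtain ⟨m, hm⟩ := exists_pow_mul_mem_range K hd τ b
  have hu : (X none : MvPolynomial (Option (CellIdx τ)) K) ^ m ∈ (cellMap K hd τ).range :=
    Subalgebra.pow_mem _ (X_none_mem_range K hd τ) m
  refine isAlgebraic_of_mul_eq' (A := (cellMap K hd τ).range) ⟨_, hu⟩ ⟨_, hm⟩ ?_ rfl
  intro h0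
  have := congrArg Subtype.val h0
  exact pow_ne_zero m (MvPolynomial.X_ne_zero _) this

theorem ringKrullDim_range [Infinite K] (hd : 0 < d) (τ : Idx d n) :
    ringKrullDim (cellMap K hd τ).range = ((Nat.card (CellIdx τ) + 1 : ℕ) : WithBot ℕ∞) := by
  obtain ⟨m, h1, h2, -⟩ := Groth.Agent.Lib.Helper14.FTDim.exists_dim K (cellMap K hd τ).range
  haveI : Algebra.IsAlgebraic (cellMap K hd τ).range (FractionRing (cellMap K hd τ).range) :=
    IsLocalization.isAlgebraic _ (nonZeroDivisors (cellMap K hd τ).range)
  haveI := isAlgebraic_over_range K hd τ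
  have e1 := trdeg_add_eq K (cellMap K hd τ).range
    (A := FractionRing (cellMap K hd τ).range)
  rw [trdeg_eq_zero (R := (cellMap K hd τ).range), add_zero] at e1
  have e2 := trdeg_add_eq K (cellMap K hd τ).range
    (A := MvPolynomial (Option (CellIdx τ)) K)
  rw [trdeg_eq_zero (R := (cellMap K hd τ).range), add_zero] at e2
  rw [← e1, e2, MvPolynomial.trdeg_of_isDomain] at h1
  have hm : m = Nat.card (CellIdx τ) + 1 := by
    haveI : Fintype (CellIdx τ) := Fintype.ofFinite _
    rw [Cardinal.mk_fintype, Fintype.card_option, Cardinal.lift_natCast] at h1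
    rw [Nat.card_eq_fintype_card]
    exact (Nat.cast_injective h1).symm
  rw [h2, hm]

theorem ringKrullDim_schubert' [Infinite K] (hd : 0 < d) (τ : Idx d n) :
    ringKrullDim (PlRing K d n ⧸ schubertVanishing K d n τ) =
      ((Nat.card (CellIdx τ) + 1 : ℕ) : WithBot ℕ∞) := by
  rw [ringKrullDim_eq_of_ringEquiv (quotEquivRange K hd τ).toRingEquiv, ringKrullDim_range]

end Dim

section Count

variable {d n : ℕ}

theorem card_cellIdx (τ : Idx d n) : Nat.card (CellIdx τ) = codeg τ := by
  classical
  unfold CellIdx codeg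
  rw [Nat.card_eq_fintype_card, Fintype.card_subtype, Finset.card_filter,
    Fintype.sum_prod_type_right]
  apply Finset.sum_congr rfl
  intro t _
  rw [← Finset.card_filter]
  have h1 : (Finset.univ.filter fun k : Fin n => (k, t).1 < τ.1 (k, t).2 ∧ (k, t).1 ∉ Set.range τ.1) =
      Finset.Iio (τ.1 t) \ (Finset.Iio t).image τ.1 := by
    ext k
    simp only [Finset.mem_filter, Finset.mem_univ, true_and, Finset.mem_sdiff, Finset.mem_Iio,
      Finset.mem_image, Set.mem_range, not_exists, not_and]
    constructor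
    · rintro ⟨h1, h2⟩
      exact ⟨h1, fun s _ => h2 s⟩
    · rintro ⟨h1, h2⟩
      refine ⟨h1, fun s hs => ?_⟩
      have : s < t := by
        rw [← τ.2.lt_iff_lt, hs]; exact h1
      exact h2 s this hs
  have hsub : (Finset.Iio t).image τ.1 ⊆ Finset.Iio (τ.1 t) := by
    intro k hk
    obtain ⟨s, hs, rfl⟩ := Finset.mem_image.mp hk
    exact Finset.mem_Iio.mpr (τ.2 (Finset.mem_Iio.mp hs))
  rw [h1, Finset.card_sdiff_of_subset hsub, Fin.card_Iio,
    Finset.card_image_of_injective _ τ.2.injective, Fin.card_Iio]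

end Count

section MainDim

variable (K : Type u) [Field K] [IsAlgClosed K] (d n : ℕ)

theorem main_S11255 (hd : 0 < d) (_hdn : d < n) (w : Idx d n) :
    ringKrullDim (PlRing K d n ⧸ schubertVanishing K d n w) =
      ((codeg w + 1 : ℕ) : WithBot ℕ∞) := by
  haveI : Infinite K := inferInstance
  rw [ringKrullDim_schubert' K hd w, card_cellIdx]

end MainDim

end Groth.Agent.Lib.T2H8.Grass
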