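import Mathlib
import Groth.Prelude.Def_W4bk4grassmannianPl
import Groth.Agent.Lib.T2H8GrassCell
import Groth.Agent.Lib.T2H8GrassDim

/-!
# Schubert varieties are normal (helper8)
-/

noncomputable section

open MvPolynomial W4bk4grassmannian

namespace Groth.Agent.Lib.T2H8.Grass

universe u

section Criterion

variable {K B : Type*} [Field K] [CommRing B] [IsDomain B] [Algebra K B]

/-- the fraction field of `B` is a fraction field of a subalgebra `A` with `B ⊆ A[1/u]` -/
theorem isFractionRing_of_subalgebra (A : Subalgebra K B) (u : B) (hu : u ∈ A) (hu0 : u ≠ 0)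
    (hB : ∀ b : B, ∃ m : ℕ, u ^ m * b ∈ A) :
    IsFractionRing A (FractionRing B) := by
  have hmap : ∀ a : A, algebraMap A (FractionRing B) a = algebraMap B (FractionRing B) (a : B) :=
    fun a => rfl
  have hinj : Function.Injective (algebraMap A (FractionRing B)) := by
    intro x y hxy
    rw [hmap, hmap] at hxy
    exact Subtype.ext (IsFractionRing.injective B (FractionRing B) hxy)
  refine ⟨?_, ?_, ?_⟩
  · rintro ⟨y, hy⟩
    have hy0 : y ≠ 0 := nonZeroDivisors.ne_zero hy
    rw [hmap]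
    apply IsUnit.mk0
    intro h0
    apply hy0
    apply Subtype.ext
    exact IsFractionRing.injective B (FractionRing B) (by rw [h0]; simp)
  · intro z
    obtain ⟨⟨b₁, b₂⟩, h⟩ := IsLocalization.surj (nonZeroDivisors B) z
    obtain ⟨m₁, h₁⟩ := hB b₁
    obtain ⟨m₂, h₂⟩ := hB (b₂ : B)
    have hum : ∀ m : ℕ, u ^ m ∈ A := fun m => Subalgebra.pow_mem _ hu m
    have e₁ : u ^ (m₁ + m₂) * b₁ ∈ A := by
      have : u ^ (m₁ + m₂) * b₁ = u ^ m₂ * (u ^ m₁ * b₁) := by ring
      rw [this]; exact Subalgebra.mul_mem _ (hum _) h₁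
    have e₂ : u ^ (m₁ + m₂) * (b₂ : B) ∈ A := by
      have : u ^ (m₁ + m₂) * (b₂ : B) = u ^ m₁ * (u ^ m₂ * (b₂ : B)) := by ring
      rw [this]; exact Subalgebra.mul_mem _ (hum _) h₂
    have hne : (⟨u ^ (m₁ + m₂) * (b₂ : B), e₂⟩ : A) ≠ 0 := by
      intro h0
      have := congrArg Subtype.val h0
      simp only [ZeroMemClass.coe_zero] at this
      rcases mul_eq_zero.mp this with h' | h'
      · exact pow_ne_zero _ hu0 h'
      · exact nonZeroDivisors.ne_zero b₂.2 h'
    refine ⟨(⟨_, e₁⟩, ⟨⟨_, e₂⟩, mem_nonZeroDivisors_of_ne_zero hne⟩), ?_⟩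
    show z * algebraMap B (FractionRing B) (u ^ (m₁ + m₂) * (b₂ : B)) =
      algebraMap B (FractionRing B) (u ^ (m₁ + m₂) * b₁)
    rw [map_mul, map_mul, ← h]
    ring
  · intro x y hxy
    exact ⟨1, by rw [hinj hxy]⟩

/-- a normality criterion: `A ⊆ B ⊆ A[1/u]` with `B` normal and `A / u A` reduced -/
theorem isIntegrallyClosed_of_subalgebra [IsIntegrallyClosed B] (A : Subalgebra K B) (u : B)
    (hu : u ∈ A) (hu0 : u ≠ 0) (hB : ∀ b : B, ∃ m : ℕ, u ^ m * b ∈ A)
    (hred : ∀ a ∈ A, ∀ r : ℕ, (∃ c ∈ A, a ^ r = u * c) → ∃ c ∈ A, a = u * c) :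
    IsIntegrallyClosed A := by
  classical
  haveI : IsScalarTower A B (FractionRing B) := inferInstance
  haveI := isFractionRing_of_subalgebra A u hu hu0 hB
  rw [isIntegrallyClosed_iff (FractionRing B)]
  intro x hx
  have hxB : IsIntegral B x := hx.tower_top
  obtain ⟨b, rfl⟩ := IsIntegrallyClosed.algebraMap_eq_of_integral hxB
  have hb : IsIntegral A b := by
    have := (isIntegral_algHom_iff (IsScalarTower.toAlgHom A B (FractionRing B))
      (IsFractionRing.injective B (FractionRing B)) (x := b)).mp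
    exact this hx
  suffices hbA : b ∈ A from ⟨⟨b, hbA⟩, rfl⟩
  -- minimal exponent
  have hex := hB b
  set m := Nat.find hex with hm
  have hmspec : u ^ m * b ∈ A := Nat.find_spec hex
  rcases Nat.eq_zero_or_pos m with h0 | hpos
  · rw [h0, pow_zero, one_mul] at hmspec
    exact hmspec
  · exfalso
    have hmin : ¬ (u ^ (m - 1) * b ∈ A) := Nat.find_min hex (by omega)
    obtain ⟨p, hpm, hp0⟩ := hb
    have hum : u ^ m ∈ A := Subalgebra.pow_mem _ hu m
    have hq0 := Polynomial.scaleRoots_eval₂_eq_zero (algebraMap A B) (s := (⟨u ^ m, hum⟩ : A)) hp0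
    set q := p.scaleRoots (⟨u ^ m, hum⟩ : A) with hq
    have hqm : q.Monic := (Polynomial.monic_scaleRoots_iff _).mpr hpm
    have hqdeg : q.natDegree = p.natDegree := Polynomial.natDegree_scaleRoots _ _
    set a : A := ⟨u ^ m * b, hmspec⟩ with ha
    have hqa : q.eval a = 0 := by
      have h1 : Polynomial.eval₂ (algebraMap A B) ((a : A) : B) q = 0 := hq0
      have h2 : Polynomial.eval₂ (algebraMap A B) (algebraMap A B a) q =
          algebraMap A B (q.eval a) := (Polynomial.hom_eval₂ q (RingHom.id A) (algebraMap A B) a).symm ▸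
            by simp [Polynomial.eval₂_id]
      have h3 : algebraMap A B (q.eval a) = 0 := by rw [← h2]; exact h1
      exact Subtype.ext h3
    rw [Polynomial.eval_eq_sum_range, Finset.sum_range_succ, hqm.coeff_natDegree, one_mul] at hqa
    -- a ^ r = - Σ_{i<r} q_i a^i, each q_i divisible by u
    have hdiv : ∀ i ∈ Finset.range q.natDegree, ∃ c : A, q.coeff i = ⟨u, hu⟩ * c := by
      intro i hi
      have hi' : i < p.natDegree := by rw [← hqdeg]; exact Finset.mem_range.mp hi
      rw [hq, Polynomial.coeff_scaleRoots]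
      have hpos' : 0 < m * (p.natDegree - i) := Nat.mul_pos hpos (by omega)
      refine ⟨p.coeff i * ⟨u, hu⟩ ^ (m * (p.natDegree - i) - 1), ?_⟩
      have e : (⟨u ^ m, hum⟩ : A) = ⟨u, hu⟩ ^ m := Subtype.ext (by simp)
      rw [e, ← pow_mul]
      have e2 : (⟨u, hu⟩ : A) ^ (m * (p.natDegree - i)) =
          ⟨u, hu⟩ * ⟨u, hu⟩ ^ (m * (p.natDegree - i) - 1) := by
        rw [← pow_succ', Nat.sub_add_cancel hpos']
      rw [e2]; ring
    choose! cf hcf using hdiv
    have hpow : a ^ q.natDegree = ⟨u, hu⟩ * (- ∑ i ∈ Finset.range q.natDegree, cf i * a ^ i) := by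
      have h1 : a ^ q.natDegree = - ∑ i ∈ Finset.range q.natDegree, q.coeff i * a ^ i := by
        rw [eq_neg_iff_add_eq_zero, add_comm]; exact hqa
      rw [h1, mul_neg, Finset.mul_sum]
      congr 1
      apply Finset.sum_congr rfl
      intro i hi
      rw [hcf i hi]; ring
    obtain ⟨c, hc, hac⟩ := hred (a : B) a.2 q.natDegree
      ⟨_, (- ∑ i ∈ Finset.range q.natDegree, cf i * a ^ i).2, by
        have := congrArg Subtype.val hpow
        simpa using this⟩
    apply hmin
    have h5 : u * (u ^ (m - 1) * b) = u * c := by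
      rw [← hac, ← mul_assoc, ← pow_succ', Nat.sub_add_cancel hpos]
    rw [mul_left_cancel₀ hu0 h5]
    exact hc

end Criterion

section Normal

variable (K : Type u) [Field K] [IsAlgClosed K] (d n : ℕ)

theorem eq_iota_of_not_exists_lt {d n : ℕ} (hdn : d < n) (τ : Idx d n)
    (h : ¬ ∃ φ : Idx d n, φ < τ) : τ = iotaIdx hdn := by
  by_contra hne
  exact h ⟨iotaIdx hdn, lt_of_le_of_ne (iotaIdx_le hdn τ) (Ne.symm hne)⟩

/-- `J(τ) + (X_τ)` is a radical ideal -/
theorem isRadical_sup_span_X (hd : 0 < d) (hdn : d < n) (τ : Idx d n) :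
    (schubertVanishing K d n τ ⊔ Ideal.span {(X τ : PlRing K d n)}).IsRadical := by
  haveI : Infinite K := inferInstance
  by_cases hτ : ∃ φ : Idx d n, φ < τ
  · rw [main_S11254 K d n hd hdn τ hτ]
    apply Ideal.isRadical_iInf
    intro φ
    apply Ideal.isRadical_iInf
    intro _
    exact schubertVanishing_isRadical K d n φ
  · have hι := eq_iota_of_not_exists_lt hdn τ hτ
    rw [hι, sup_span_iota_eq_ker K hd hdn]
    exact (RingHom.ker_isPrime _).isRadical

theorem isIntegrallyClosed_range (hd : 0 < d) (hdn : d < n) (τ : Idx d n) :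
    IsIntegrallyClosed (cellMap K hd τ).range := by
  haveI : Infinite K := inferInstance
  apply isIntegrallyClosed_of_subalgebra (cellMap K hd τ).range (X none)
    (X_none_mem_range K hd τ) (MvPolynomial.X_ne_zero _) (exists_pow_mul_mem_range K hd τ)
  rintro a ⟨F, rfl⟩ r ⟨c, ⟨G, rfl⟩, hc⟩
  have hc' : cellMap K hd τ (F ^ r - X τ * G) = 0 := by
    rw [map_sub, map_pow, map_mul, cellMap_X, cellMinor'_tau]
    exact sub_eq_zero.mpr hc
  have h1 : F ^ r - X τ * G ∈ schubertVanishing K d n τ := by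
    rw [← ker_cellMap K hd τ]; exact hc'
  have h2 : F ^ r ∈ schubertVanishing K d n τ ⊔ Ideal.span {(X τ : PlRing K d n)} := by
    have : F ^ r = (F ^ r - X τ * G) + X τ * G := by ring
    rw [this]
    exact Ideal.add_mem _ (Ideal.mem_sup_left h1)
      (Ideal.mem_sup_right (Ideal.mul_mem_right _ _ (Ideal.subset_span rfl)))
  have h3 := isRadical_sup_span_X K d n hd hdn τ ⟨r, h2⟩
  obtain ⟨j, hj, y, hy, hjy⟩ := Submodule.mem_sup.mp h3
  obtain ⟨g, rfl⟩ := Ideal.mem_span_singleton'.mp hy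
  refine ⟨cellMap K hd τ g, ⟨g, rfl⟩, ?_⟩
  show cellMap K hd τ F = X none * cellMap K hd τ g
  rw [← hjy, map_add, map_mul, cellMap_X, cellMinor'_tau, cellMap_eq_zero_of_mem K hd τ hj,
    zero_add, mul_comm]

theorem main_S11259 (hd : 0 < d) (hdn : d < n) (τ : Idx d n) :
    IsDomain (PlRing K d n ⧸ schubertVanishing K d n τ) ∧
      IsIntegrallyClosed (PlRing K d n ⧸ schubertVanishing K d n τ) := by
  haveI : Infinite K := inferInstance
  haveI : Fact (0 < d) := ⟨hd⟩
  refine ⟨Ideal.Quotient.isDomain _, ?_⟩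
  haveI := isIntegrallyClosed_range K d n hd hdn τ
  exact IsIntegrallyClosed.of_equiv (quotEquivRange K hd τ).symm.toRingEquiv

end Normal

end Groth.Agent.Lib.T2H8.Grass
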