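import Mathlib
import Groth.Prelude.Def_W4bk4grassmannianPl
import Groth.Agent.Lib.T2H8GrassCell
import Groth.Agent.Lib.T2H8GrassNormal
import Groth.Agent.Lib.T2H8GrassPrime
import Groth.Agent.Lib.T2H8GrassSMT
import Groth.Agent.S11268

/-!
# Factoriality of Schubert cones, part (b): `X_τ` prime iff at most one divisor (helper8)
-/

noncomputable section

open MvPolynomial W4bk4grassmannian

namespace Groth.Agent.Lib.T2H8.Grass

universe u

section UFDb

variable (K : Type u) [Field K] {d n : ℕ}

theorem X_notMem [Infinite K] (hd : 0 < d) {τ φ : Idx d n} (h : φ ≤ τ) :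
    (X φ : PlRing K d n) ∉ schubertVanishing K d n τ := by
  intro hmem
  have h1 := evalShape_eq_zero_of_mem K τ hmem
  rw [evalShape_X] at h1
  exact (monic_minorAt K hd τ φ h).ne_zero h1

theorem X_mem_iff [Infinite K] (hd : 0 < d) {τ φ : Idx d n} :
    (X φ : PlRing K d n) ∈ schubertVanishing K d n τ ↔ ¬ φ ≤ τ := by
  constructor
  · intro hmem hle
    exact X_notMem K hd hle hmem
  · exact X_mem_schubertVanishing

theorem schubertVanishing_le_iff [Infinite K] (hd : 0 < d) {φ₀ φ₁ : Idx d n} :
    schubertVanishing K d n φ₀ ≤ schubertVanishing K d n φ₁ ↔ φ₁ ≤ φ₀ := by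
  constructor
  · intro h
    by_contra hle
    exact X_notMem K hd (le_refl φ₁) (h (X_mem_schubertVanishing hle))
  · exact schubertVanishing_anti K

theorem prime_mk_iff [Infinite K] (hd : 0 < d) (τ : Idx d n) :
    Prime (Ideal.Quotient.mk (schubertVanishing K d n τ) (X τ)) ↔
      (schubertVanishing K d n τ ⊔ Ideal.span {(X τ : PlRing K d n)}).IsPrime := by
  have hne : Ideal.Quotient.mk (schubertVanishing K d n τ) (X τ) ≠ 0 := by
    intro h
    exact X_notMem K hd (le_refl τ) (Ideal.Quotient.eq_zero_iff_mem.mp h)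
  have hmap : Ideal.span {Ideal.Quotient.mk (schubertVanishing K d n τ) (X τ)} =
      Ideal.map (Ideal.Quotient.mk (schubertVanishing K d n τ))
        (schubertVanishing K d n τ ⊔ Ideal.span {(X τ : PlRing K d n)}) := by
    rw [Ideal.map_sup, Ideal.map_quotient_self, bot_sup_eq, Ideal.map_span, Set.image_singleton]
  rw [← Ideal.span_singleton_prime hne, hmap]
  constructor
  · intro hP
    have h1 : (schubertVanishing K d n τ ⊔ Ideal.span {(X τ : PlRing K d n)}) =
        Ideal.comap (Ideal.Quotient.mk (schubertVanishing K d n τ))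
          (Ideal.map (Ideal.Quotient.mk (schubertVanishing K d n τ))
            (schubertVanishing K d n τ ⊔ Ideal.span {(X τ : PlRing K d n)})) := by
      rw [Ideal.comap_map_of_surjective _ Ideal.Quotient.mk_surjective, ← RingHom.ker_eq_comap_bot,
        Ideal.mk_ker]
      exact (sup_eq_left.mpr le_sup_left).symm
    rw [h1]
    exact Ideal.comap_isPrime _ _
  · intro hP
    exact Ideal.map_isPrime_of_surjective Ideal.Quotient.mk_surjective
      (by rw [Ideal.mk_ker]; exact le_sup_left)

theorem codeg_add (φ : Idx d n) :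
    codeg φ + ∑ t : Fin d, t.val = Helper24Grass.wt φ.1 := by
  unfold codeg Helper24Grass.wt
  rw [← Finset.sum_add_distrib]
  apply Finset.sum_congr rfl
  intro t _
  have := Helper24Grass.val_le_of_strictMono φ.1 φ.2 t
  omega

theorem divisors_eq_of_le {τ φ₀ φ₁ : Idx d n} (h0 : φ₀ ∈ divisors τ) (h1 : φ₁ ∈ divisors τ)
    (hle : φ₁ ≤ φ₀) : φ₁ = φ₀ := by
  apply Helper24Grass.eq_of_le_of_wt_eq hle
  have e0 := codeg_add φ₀
  have e1 := codeg_add φ₁
  have c0 := h0.2
  have c1 := h1.2
  omega

theorem prime_iff_subsingleton [IsAlgClosed K] (hd : 0 < d) (hdn : d < n) (τ : Idx d n) :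
    Prime (Ideal.Quotient.mk (schubertVanishing K d n τ) (X τ)) ↔
      (divisors τ).Subsingleton := by
  classical
  haveI : Infinite K := inferInstance
  haveI : Fact (0 < d) := ⟨hd⟩
  by_cases hτ : ∃ φ : Idx d n, φ < τ
  · rw [prime_mk_iff K hd τ, main_S11254 K d n hd hdn τ hτ]
    obtain ⟨φ', hφ'⟩ := hτ
    obtain ⟨φ₀, hφ₀, -⟩ := Groth.Agent.S11268.result d n φ' τ hφ'
    constructor
    · intro hP
      have hfin : (⨅ φ ∈ divisors τ, schubertVanishing K d n φ) =
          (Finset.univ.filter (fun φ : Idx d n => φ ∈ divisors τ)).inf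
            (fun φ => schubertVanishing K d n φ) := by
        rw [Finset.inf_eq_iInf]
        simp only [Finset.mem_filter, Finset.mem_univ, true_and]
      obtain ⟨φ₂, hφ₂, hle⟩ := (Ideal.IsPrime.inf_le' hP).mp (le_of_eq hfin.symm)
      simp only [Finset.mem_filter, Finset.mem_univ, true_and] at hφ₂
      have key : ∀ φ ∈ divisors τ, φ = φ₂ := by
        intro φ hφ
        apply divisors_eq_of_le hφ₂ hφ
        rw [← schubertVanishing_le_iff K hd]
        exact le_trans hle (iInf₂_le φ hφ)
      intro a ha b hb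
      rw [key a ha, key b hb]
    · intro hsub
      have h1 : (⨅ φ ∈ divisors τ, schubertVanishing K d n φ) = schubertVanishing K d n φ₀ := by
        apply le_antisymm
        · exact iInf₂_le φ₀ hφ₀
        · refine le_iInf₂ fun φ hφ => ?_
          rw [hsub hφ hφ₀]
      rw [h1]
      infer_instance
  · have hι := eq_iota_of_not_exists_lt hdn τ hτ
    constructor
    · intro _ a ha
      exact absurd ⟨a, ha.1⟩ hτ
    · intro _
      subst hι
      exact main_S11270 K d n hd hdn (iotaIdx hdn)

end UFDb

end Groth.Agent.Lib.T2H8.Grass
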