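import Mathlib
import Groth.Prelude.Def_W4bk4grassmannianPl
import Groth.Agent.Lib.Helper24Grass

/-!
# Factoriality of Schubert cones, part (c): combinatorics of Schubert divisors (helper8)
-/

open W4bk4grassmannian

namespace Groth.Agent.Lib.T2H8.Grass

section UFDc

variable {d n : ℕ}

/-- the `t`-th entry of `τ` can be lowered by one -/
def CanDec (τ : Idx d n) (t : Fin d) : Prop :=
  t.val < (τ.1 t).val ∧ ∀ t' : Fin d, t'.val + 1 = t.val → (τ.1 t').val + 1 < (τ.1 t).val

theorem val_ge (τ : Idx d n) (t : Fin d) : t.val ≤ (τ.1 t).val :=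
  Helper24Grass.val_le_of_strictMono τ.1 τ.2 t

theorem val_lt_of_lt (τ : Idx d n) {a b : Fin d} (h : a < b) : (τ.1 a).val < (τ.1 b).val :=
  Fin.lt_def.mp (τ.2 h)

theorem val_le_of_le (τ : Idx d n) {a b : Fin d} (h : a ≤ b) : (τ.1 a).val ≤ (τ.1 b).val :=
  Fin.le_def.mp (τ.2.monotone h)

/-- lowering the `t`-th entry -/
def decIdx (τ : Idx d n) (t : Fin d) (h : CanDec τ t) : Idx d n :=
  ⟨Function.update τ.1 t ⟨(τ.1 t).val - 1, by have := (τ.1 t).isLt; omega⟩, by
    intro a b hab
    rw [Fin.lt_def]
    by_cases ha : a = t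
    · subst ha
      have hb : b ≠ a := ne_of_gt hab
      rw [Function.update_self, Function.update_of_ne hb]
      have := val_lt_of_lt τ hab
      simp only
      omega
    · by_cases hb : b = t
      · subst hb
        rw [Function.update_self, Function.update_of_ne ha]
        simp only
        have hab' : a.val < b.val := Fin.lt_def.mp hab
        have h2 := h.2 ⟨b.val - 1, by omega⟩ (by simp only; omega)
        have h3 : a ≤ ⟨b.val - 1, by omega⟩ := by rw [Fin.le_def]; simp only; omega
        have h4 := val_le_of_le τ h3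
        omega
      · rw [Function.update_of_ne ha, Function.update_of_ne hb]
        exact val_lt_of_lt τ hab⟩

theorem decIdx_self (τ : Idx d n) (t : Fin d) (h : CanDec τ t) :
    ((decIdx τ t h).1 t).val = (τ.1 t).val - 1 := by
  simp [decIdx]

theorem decIdx_of_ne (τ : Idx d n) (t : Fin d) (h : CanDec τ t) {t' : Fin d} (ht : t' ≠ t) :
    (decIdx τ t h).1 t' = τ.1 t' := by
  simp [decIdx, Function.update_of_ne ht]

theorem decIdx_mem (τ : Idx d n) (t : Fin d) (h : CanDec τ t) : decIdx τ t h ∈ divisors τ := by
  have hle : decIdx τ t h ≤ τ := by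
    intro t'
    rw [Fin.le_def]
    by_cases ht : t' = t
    · subst ht
      rw [decIdx_self]
      omega
    · rw [decIdx_of_ne τ t h ht]
  refine ⟨lt_of_le_of_ne hle ?_, ?_⟩
  · intro heq
    have := decIdx_self τ t h
    rw [heq] at this
    have := h.1
    omega
  · unfold codeg
    rw [← Finset.add_sum_erase _ _ (Finset.mem_univ t), ← Finset.add_sum_erase _ _ (Finset.mem_univ t)]
    have h1 : ∀ t' ∈ Finset.univ.erase t, ((decIdx τ t h).1 t').val - t'.val
        = (τ.1 t').val - t'.val := by
      intro t' ht'
      rw [decIdx_of_ne τ t h (Finset.ne_of_mem_erase ht')]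
    rw [Finset.sum_congr rfl h1, decIdx_self]
    have := h.1
    omega

/-- every divisor is obtained by lowering a single entry -/
theorem exists_of_mem_divisors {τ φ : Idx d n} (hφ : φ ∈ divisors τ) :
    ∃ t : Fin d, ∃ h : CanDec τ t, φ = decIdx τ t h := by
  obtain ⟨hlt, hco⟩ := hφ
  have hle : ∀ t, (φ.1 t).val ≤ (τ.1 t).val := fun t => Fin.le_def.mp (hlt.le t)
  -- the differences sum to one
  have hsum : ∑ t : Fin d, ((τ.1 t).val - (φ.1 t).val) = 1 := by
    unfold codeg at hco
    have h1 : ∑ t : Fin d, ((τ.1 t).val - t.val) =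
        ∑ t : Fin d, ((φ.1 t).val - t.val) + ∑ t : Fin d, ((τ.1 t).val - (φ.1 t).val) := by
      rw [← Finset.sum_add_distrib]
      apply Finset.sum_congr rfl
      intro t _
      have := hle t
      have := val_ge φ t
      omega
    omega
  -- find the position
  have hex : ∃ t : Fin d, (φ.1 t).val < (τ.1 t).val := by
    by_contra hcon
    push Not at hcon
    have : ∑ t : Fin d, ((τ.1 t).val - (φ.1 t).val) = 0 := by
      apply Finset.sum_eq_zero
      intro t _
      have := hcon t
      omega
    omega
  obtain ⟨t, ht⟩ := hex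
  have hsplit : ((τ.1 t).val - (φ.1 t).val) +
      ∑ t' ∈ Finset.univ.erase t, ((τ.1 t').val - (φ.1 t').val) = 1 := by
    rw [Finset.add_sum_erase Finset.univ (fun t' : Fin d => (τ.1 t').val - (φ.1 t').val)
      (Finset.mem_univ t)]
    exact hsum
  have ht1 : (τ.1 t).val - (φ.1 t).val = 1 := by omega
  have hrest : ∑ t' ∈ Finset.univ.erase t, ((τ.1 t').val - (φ.1 t').val) = 0 := by omega
  have hother : ∀ t' : Fin d, t' ≠ t → (φ.1 t').val = (τ.1 t').val := by
    intro t' ht'
    have := (Finset.sum_eq_zero_iff.mp hrest) t' (Finset.mem_erase.mpr ⟨ht', Finset.mem_univ _⟩)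
    have := hle t'
    omega
  have hcan : CanDec τ t := by
    refine ⟨?_, ?_⟩
    · have := val_ge φ t
      omega
    · intro t' ht'
      have hne : t' ≠ t := by
        intro h
        rw [h] at ht'
        omega
      have h1 := hother t' hne
      have h2 : t' < t := by rw [Fin.lt_def]; omega
      have h3 := val_lt_of_lt φ h2
      omega
  refine ⟨t, hcan, ?_⟩
  apply Subtype.ext
  funext t'
  apply Fin.ext
  by_cases ht' : t' = t
  · subst ht'
    rw [decIdx_self]
    omega
  · rw [decIdx_of_ne τ t hcan ht']
    exact hother t' ht'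

theorem decIdx_inj {τ : Idx d n} {t t' : Fin d} (h : CanDec τ t) (h' : CanDec τ t')
    (heq : decIdx τ t h = decIdx τ t' h') : t = t' := by
  by_contra hne
  have h1 := decIdx_self τ t h
  rw [heq, decIdx_of_ne τ t' h' hne] at h1
  have := h.1
  omega

theorem subsingleton_divisors_iff (τ : Idx d n) :
    (divisors τ).Subsingleton ↔ ∀ t t' : Fin d, CanDec τ t → CanDec τ t' → t = t' := by
  constructor
  · intro hs t t' h h'
    exact decIdx_inj h h' (hs (decIdx_mem τ t h) (decIdx_mem τ t' h'))
  · intro hs a ha b hb
    obtain ⟨t, h, rfl⟩ := exists_of_mem_divisors ha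
    obtain ⟨t', h', rfl⟩ := exists_of_mem_divisors hb
    have := hs t t' h h'
    subst this
    rfl

/-- if no entry below position `m` can be lowered, `τ` starts with `0, 1, …, m - 1` -/
theorem eq_of_forall_not_canDec (τ : Idx d n) (m : ℕ)
    (h : ∀ t : Fin d, t.val < m → ¬ CanDec τ t) :
    ∀ (k : ℕ) (t : Fin d), t.val = k → t.val < m → (τ.1 t).val = t.val := by
  intro k
  induction k with
  | zero =>
    intro t htk htm
    have h1 := h t htm
    unfold CanDec at h1
    rw [not_and_or] at h1
    rcases h1 with h1 | h1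
    · have := val_ge τ t
      omega
    · exfalso
      apply h1
      intro t' ht'
      omega
  | succ k ih =>
    intro t htk htm
    have h1 := h t htm
    unfold CanDec at h1
    rw [not_and_or] at h1
    rcases h1 with h1 | h1
    · have := val_ge τ t
      omega
    · push Not at h1
      obtain ⟨t', ht', hlt⟩ := h1
      have h2 := ih t' (by omega) (by omega)
      have := val_ge τ t
      omega

theorem subsingleton_iff_run (τ : Idx d n) :
    (∀ t t' : Fin d, CanDec τ t → CanDec τ t' → t = t') ↔
      ∃ s : ℕ, (∀ t : Fin d, t.val < s → (τ.1 t).val = t.val) ∧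
        ∀ t t' : Fin d, s ≤ t.val → t.val + 1 = t'.val → (τ.1 t).val + 1 = (τ.1 t').val := by
  constructor
  · intro hs
    by_cases hex : ∃ t₀ : Fin d, CanDec τ t₀
    · obtain ⟨t₀, h₀⟩ := hex
      have hnot : ∀ t : Fin d, t ≠ t₀ → ¬ CanDec τ t := fun t hne hc => hne (hs t t₀ hc h₀)
      refine ⟨t₀.val, ?_, ?_⟩
      · intro t ht
        refine eq_of_forall_not_canDec τ t₀.val (fun t' ht' => hnot t' ?_) t.val t rfl ht
        intro h
        rw [h] at ht'
        omega
      · intro t t' hst htt'
        have hne : t' ≠ t₀ := by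
          intro h
          rw [h] at htt'
          omega
        have h1 := hnot t' hne
        unfold CanDec at h1
        rw [not_and_or] at h1
        have hlt : t < t' := by rw [Fin.lt_def]; omega
        have h2 := val_lt_of_lt τ hlt
        rcases h1 with h1 | h1
        · have := val_ge τ t'
          have := val_ge τ t
          omega
        · push Not at h1
          obtain ⟨t'', ht'', hlt''⟩ := h1
          have : t'' = t := Fin.ext (by omega)
          subst this
          omega
    · push Not at hex
      refine ⟨d, ?_, ?_⟩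
      · intro t ht
        exact eq_of_forall_not_canDec τ d (fun t' _ => hex t') t.val t rfl ht
      · intro t t' hst
        have := t.isLt
        omega
  · rintro ⟨s, h1, h2⟩
    have key : ∀ t : Fin d, CanDec τ t → t.val = s := by
      intro t hc
      have hge : s ≤ t.val := by
        by_contra hlt
        have := h1 t (by omega)
        have := hc.1
        omega
      by_contra hne
      have hgt : s < t.val := by omega
      have h3 := h2 ⟨t.val - 1, by omega⟩ t (by simp only; omega) (by simp only; omega)
      have h4 := hc.2 ⟨t.val - 1, by omega⟩ (by simp only; omega)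
      omega
    intro t t' hc hc'
    exact Fin.ext (by rw [key t hc, key t' hc'])

theorem divisors_subsingleton_iff_run (τ : Idx d n) :
    (divisors τ).Subsingleton ↔
      ∃ s : ℕ, (∀ t : Fin d, t.val < s → (τ.1 t).val = t.val) ∧
        ∀ t t' : Fin d, s ≤ t.val → t.val + 1 = t'.val → (τ.1 t).val + 1 = (τ.1 t').val :=
  (subsingleton_divisors_iff τ).trans (subsingleton_iff_run τ)

end UFDc

end Groth.Agent.Lib.T2H8.Grass
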