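import Mathlib
import Groth.Prelude.Def_W4bk4grassmannianPl
import Groth.Prelude.Def_CAlg
import Groth.Agent.Lib.T2H8GrassSMT
import Groth.Agent.Lib.T2H8GrassDim
import Groth.Agent.Lib.T2H8GrassUFDb
import Groth.Agent.Lib.T2H8GrassUFDc
import Groth.Agent.S11268

/-!
# Cohen–Macaulayness of Schubert cones: the induction (helper8)

The commutative-algebra inputs (gluing lemma, lifting along a non-zero-divisor, fields) are
hypotheses `GlueHyp`, `LiftHyp`, `FieldHyp` here.
-/

noncomputable section

open MvPolynomial W4bk4grassmannian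

namespace Groth.Agent.Lib.T2H8.Grass

universe u

attribute [local instance] MvPolynomial.gradedAlgebra

section CMa

variable (K : Type u) [Field K] {d n : ℕ}

theorem coord_isHomogeneous (a : Fin d → Fin n) : (coord K d n a).IsHomogeneous 1 := by
  unfold coord
  split_ifs with h
  · have h1 : ((-1 : PlRing K d n) ^ invCount d n a).IsHomogeneous 0 := by
      have : (-1 : PlRing K d n) ^ invCount d n a = C ((-1 : K) ^ invCount d n a) := by
        simp
      rw [this]
      exact isHomogeneous_C _ _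
    have := h1.mul (isHomogeneous_X K (sortIdx d n a h))
    simpa using this
  · exact isHomogeneous_zero _ _ _

theorem shuffleTerm_isHomogeneous (i j : Idx d n) (r : Fin d) (A : Finset (Fin (d + 1))) :
    (shuffleTerm K i j r A).IsHomogeneous 2 := by
  unfold shuffleTerm
  split_ifs with h
  · have h1 : ((-1 : PlRing K d n) ^ shuffleSign r A).IsHomogeneous 0 := by
      have : (-1 : PlRing K d n) ^ shuffleSign r A = C ((-1 : K) ^ shuffleSign r A) := by
        simp
      rw [this]
      exact isHomogeneous_C _ _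
    have := (h1.mul (coord_isHomogeneous K (shuffleI i j r A h))).mul
      (coord_isHomogeneous K (shuffleJ i j r A h))
    simpa using this
  · exact isHomogeneous_zero _ _ _

theorem shuffleRel_isHomogeneous (i j : Idx d n) (r : Fin d) :
    (shuffleRel K i j r).IsHomogeneous 2 := by
  unfold shuffleRel
  exact IsHomogeneous.sum _ _ _ fun A _ => shuffleTerm_isHomogeneous K i j r A

theorem plIdeal_isHomogeneous (τ : Idx d n) :
    (plIdeal K τ).IsHomogeneous (homogeneousSubmodule (Idx d n) K) := by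
  unfold plIdeal
  apply Ideal.homogeneous_span
  rintro f (⟨i, j, r, -, rfl⟩ | ⟨φ, -, rfl⟩)
  · exact ⟨2, shuffleRel_isHomogeneous K i j r⟩
  · exact ⟨1, isHomogeneous_X K φ⟩

end CMa

section CMb

variable (K : Type u) [Field K] [IsAlgClosed K] {d n : ℕ}

theorem schubertVanishing_isHomogeneous (hd : 0 < d) (hdn : d < n) (τ : Idx d n) :
    (schubertVanishing K d n τ).IsHomogeneous (homogeneousSubmodule (Idx d n) K) := by
  rw [← main_S11250 K d n hd hdn τ]
  exact plIdeal_isHomogeneous K τ

end CMb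

section CMc

variable {d n : ℕ}

theorem inf_val (x y : Idx d n) (t : Fin d) :
    ((W4bk4grassmannian.inf x y).1 t).val = min (x.1 t).val (y.1 t).val := by
  show (min (x.1 t) (y.1 t)).val = _
  rcases le_total (x.1 t) (y.1 t) with h | h
  · rw [min_eq_left h, min_eq_left (Fin.le_def.mp h)]
  · rw [min_eq_right h, min_eq_right (Fin.le_def.mp h)]

theorem canDec_decIdx {τ : Idx d n} {a b : Fin d} (ha : CanDec τ a) (hb : CanDec τ b)
    (hab : a ≠ b) : CanDec (decIdx τ b hb) a := by
  refine ⟨?_, ?_⟩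
  · rw [decIdx_of_ne τ b hb hab]
    exact ha.1
  · intro a' ha'
    rw [decIdx_of_ne τ b hb hab]
    by_cases h : a' = b
    · subst h
      rw [decIdx_self]
      have h1 : a' < a := by rw [Fin.lt_def]; omega
      have h2 := val_lt_of_lt τ h1
      have h3 := hb.1
      omega
    · rw [decIdx_of_ne τ b hb h]
      exact ha.2 a' ha'

theorem inf_decIdx {τ : Idx d n} {a b : Fin d} (ha : CanDec τ a) (hb : CanDec τ b)
    (hab : a ≠ b) :
    W4bk4grassmannian.inf (decIdx τ a ha) (decIdx τ b hb) =
      decIdx (decIdx τ b hb) a (canDec_decIdx ha hb hab) := by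
  apply Subtype.ext
  funext t
  apply Fin.ext
  rw [inf_val]
  by_cases hta : t = a
  · subst hta
    rw [decIdx_self, decIdx_self, decIdx_of_ne τ b hb hab]
    omega
  · rw [decIdx_of_ne τ a ha hta, decIdx_of_ne (decIdx τ b hb) a _ hta]
    by_cases htb : t = b
    · subst htb
      rw [decIdx_self]
      omega
    · rw [decIdx_of_ne τ b hb htb]
      omega

/-- the meet of two distinct divisors of `τ` is a divisor of each of them -/
theorem inf_mem_divisors {τ φ ψ : Idx d n} (hφ : φ ∈ divisors τ) (hψ : ψ ∈ divisors τ)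
    (hne : φ ≠ ψ) : W4bk4grassmannian.inf φ ψ ∈ divisors ψ := by
  obtain ⟨a, ha, rfl⟩ := exists_of_mem_divisors hφ
  obtain ⟨b, hb, rfl⟩ := exists_of_mem_divisors hψ
  have hab : a ≠ b := by
    intro h
    subst h
    exact hne rfl
  rw [inf_decIdx ha hb hab]
  exact decIdx_mem _ _ _

end CMc

section CMd

variable (K : Type u) [Field K] {d n : ℕ}

/-- distributivity: `(⋂_{φ ∈ T} J(φ)) + J(ψ) = ⋂_{φ ∈ T} J(φ ∧ ψ)` -/
theorem iInf_sup_schubertVanishing [Infinite K] (hd : 0 < d) (T : Finset (Idx d n))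
    (hT : T.Nonempty) (ψ : Idx d n) :
    (⨅ φ ∈ T, schubertVanishing K d n φ) ⊔ schubertVanishing K d n ψ =
      ⨅ φ ∈ T, schubertVanishing K d n (W4bk4grassmannian.inf φ ψ) := by
  have hle : (⨅ φ ∈ T, schubertVanishing K d n φ) ⊔ schubertVanishing K d n ψ ≤
      ⨅ φ ∈ T, schubertVanishing K d n (W4bk4grassmannian.inf φ ψ) := by
    apply sup_le
    · refine le_iInf₂ fun φ hφ => ?_
      exact le_trans (iInf₂_le φ hφ) (schubertVanishing_anti K ((le_inf_iff' d n).mp le_rfl).1)
    · refine le_iInf₂ fun φ _ => ?_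
      exact schubertVanishing_anti K ((le_inf_iff' d n).mp le_rfl).2
  haveI : Nonempty ↥T := hT.to_subtype
  let τs : ↥T → Idx d n := fun i => W4bk4grassmannian.inf i.1 ψ
  have hR : (⨅ φ ∈ T, schubertVanishing K d n (W4bk4grassmannian.inf φ ψ)) =
      ⨅ i : ↥T, schubertVanishing K d n (τs i) := by
    rw [iInf_subtype']
  rw [hR] at hle ⊢
  refine ideal_eq_of_span_of_indep (K := K) hle (fun c : StdIdx τs => chainMon K c.2.1) ?_
    (indep_union K hd τs)
  apply span_union K τs
  · exact le_trans (plIdealTop_le_schubertVanishing ψ) le_sup_right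
  · intro φ hφ
    by_cases h : φ ≤ ψ
    · apply Ideal.mem_sup_left
      simp only [Ideal.mem_iInf]
      intro i hi
      apply X_mem_schubertVanishing
      intro hle'
      exact hφ ⟨i, hi⟩ ((le_inf_iff' d n).mpr ⟨hle', h⟩)
    · exact Ideal.mem_sup_right (X_mem_schubertVanishing h)

/-- a proper ideal containing all the variables is maximal -/
theorem isMaximal_of_X_mem {σ : Type*} (I : Ideal (MvPolynomial σ K)) (hI : I ≠ ⊤)
    (hX : ∀ i, (X i : MvPolynomial σ K) ∈ I) : I.IsMaximal := by
  have hsub : ∀ p : MvPolynomial σ K, p - C (constantCoeff p) ∈ I := by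
    intro p
    induction p using MvPolynomial.induction_on with
    | C a => simp
    | add p q hp hq =>
      have : p + q - C (constantCoeff (p + q)) =
          (p - C (constantCoeff p)) + (q - C (constantCoeff q)) := by
        rw [map_add, map_add]; ring
      rw [this]
      exact I.add_mem hp hq
    | mul_X p i _ =>
      have : constantCoeff (p * X i) = 0 := by simp
      rw [this, map_zero, sub_zero]
      exact I.mul_mem_left _ (hX i)
  rw [Ideal.isMaximal_iff]
  refine ⟨(Ideal.ne_top_iff_one I).mp hI, ?_⟩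
  intro J x hIJ hxI hxJ
  have h1 : C (constantCoeff x) ∈ J := by
    have h2 := J.sub_mem hxJ (hIJ (hsub x))
    simpa using h2
  have hne : constantCoeff x ≠ 0 := by
    intro h0
    apply hxI
    have := hsub x
    rwa [h0, map_zero, sub_zero] at this
  have h3 : (1 : MvPolynomial σ K) = C (constantCoeff x)⁻¹ * C (constantCoeff x) := by
    rw [← C_mul, inv_mul_cancel₀ hne, C_1]
  rw [h3]
  exact J.mul_mem_left _ h1

theorem isMaximal_sup_span_iota [Infinite K] (hd : 0 < d) (hdn : d < n) :
    (schubertVanishing K d n (iotaIdx hdn) ⊔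
      Ideal.span {(X (iotaIdx hdn) : PlRing K d n)}).IsMaximal := by
  apply isMaximal_of_X_mem
  · have hP : (schubertVanishing K d n (iotaIdx hdn) ⊔
        Ideal.span {(X (iotaIdx hdn) : PlRing K d n)}).IsPrime := by
      rw [sup_span_iota_eq_ker K hd hdn (iotaIdx hdn)]
      exact RingHom.ker_isPrime _
    exact hP.ne_top
  · intro φ
    by_cases h : φ ≤ iotaIdx hdn
    · have : φ = iotaIdx hdn := le_antisymm h (iotaIdx_le hdn φ)
      rw [this]
      exact Ideal.mem_sup_right (Ideal.subset_span rfl)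
    · exact Ideal.mem_sup_left (X_mem_schubertVanishing h)

end CMd

section CMe

variable (K : Type u) [Field K] (d n : ℕ)

/-- gluing lemma (to be supplied) -/
def GlueHyp : Prop :=
  ∀ (I J : Ideal (PlRing K d n)), I.IsHomogeneous (homogeneousSubmodule (Idx d n) K) →
    J.IsHomogeneous (homogeneousSubmodule (Idx d n) K) → ∀ e : ℕ, 1 ≤ e →
    LocCoh.IsCohenMacaulayRing (PlRing K d n ⧸ I) → LocCoh.IsCohenMacaulayRing (PlRing K d n ⧸ J) →
    LocCoh.IsCohenMacaulayRing (PlRing K d n ⧸ (I ⊔ J)) →
    ringKrullDim (PlRing K d n ⧸ I) = (e : WithBot ℕ∞) →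
    ringKrullDim (PlRing K d n ⧸ J) = (e : WithBot ℕ∞) →
    ringKrullDim (PlRing K d n ⧸ (I ⊔ J)) = ((e - 1 : ℕ) : WithBot ℕ∞) →
    LocCoh.IsCohenMacaulayRing (PlRing K d n ⧸ (I ⊓ J)) ∧
      ringKrullDim (PlRing K d n ⧸ (I ⊓ J)) = (e : WithBot ℕ∞)

/-- lifting Cohen–Macaulayness along a homogeneous non-zero-divisor (to be supplied) -/
def LiftHyp : Prop :=
  ∀ (I : Ideal (PlRing K d n)), I.IsHomogeneous (homogeneousSubmodule (Idx d n) K) →
    ∀ (x : PlRing K d n) (k : ℕ), 0 < k → x.IsHomogeneous k → (∀ y, x * y ∈ I → y ∈ I) →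
    LocCoh.IsCohenMacaulayRing (PlRing K d n ⧸ (I ⊔ Ideal.span {x})) →
    LocCoh.IsCohenMacaulayRing (PlRing K d n ⧸ I)

/-- quotients by maximal ideals are Cohen–Macaulay (to be supplied) -/
def FieldHyp : Prop :=
  ∀ (M : Ideal (PlRing K d n)), M.IsMaximal → LocCoh.IsCohenMacaulayRing (PlRing K d n ⧸ M)

end CMe

section CMf

variable (K : Type u) [Field K] [IsAlgClosed K] {d n : ℕ}

theorem iInf_finset_isHomogeneous (hd : 0 < d) (hdn : d < n) (T : Finset (Idx d n)) :
    (⨅ φ ∈ T, schubertVanishing K d n φ).IsHomogeneous (homogeneousSubmodule (Idx d n) K) :=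
  Ideal.IsHomogeneous.iInf₂ fun φ _ => schubertVanishing_isHomogeneous K hd hdn φ

theorem cm_lift (h2 : LiftHyp K d n) (hd : 0 < d) (hdn : d < n) (τ : Idx d n)
    (h : LocCoh.IsCohenMacaulayRing
      (PlRing K d n ⧸ (schubertVanishing K d n τ ⊔ Ideal.span {(X τ : PlRing K d n)}))) :
    LocCoh.IsCohenMacaulayRing (PlRing K d n ⧸ schubertVanishing K d n τ) := by
  haveI : Infinite K := inferInstance
  haveI : Fact (0 < d) := ⟨hd⟩
  refine h2 _ (schubertVanishing_isHomogeneous K hd hdn τ) (X τ) 1 one_pos (isHomogeneous_X K τ)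
    ?_ h
  intro y hy
  rcases (schubertVanishing_isPrime K τ).mem_or_mem hy with h' | h'
  · exact absurd h' (X_notMem K hd (le_refl τ))
  · exact h'

theorem cm_main (h1 : GlueHyp K d n) (h2 : LiftHyp K d n) (h3 : FieldHyp K d n)
    (hd : 0 < d) (hdn : d < n) :
    ∀ (m : ℕ) (τ : Idx d n), codeg τ = m →
      LocCoh.IsCohenMacaulayRing (PlRing K d n ⧸ schubertVanishing K d n τ) ∧
      ∀ T : Finset (Idx d n), (∀ φ ∈ T, φ ∈ divisors τ) → T.Nonempty →
        LocCoh.IsCohenMacaulayRing (PlRing K d n ⧸ ⨅ φ ∈ T, schubertVanishing K d n φ) ∧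
        ringKrullDim (PlRing K d n ⧸ ⨅ φ ∈ T, schubertVanishing K d n φ) =
          ((codeg τ : ℕ) : WithBot ℕ∞) := by
  classical
  haveI : Infinite K := inferInstance
  intro m
  induction m using Nat.strong_induction_on with
  | _ m ih =>
    intro τ hτm
    -- claim B for τ
    have hB : ∀ T : Finset (Idx d n), (∀ φ ∈ T, φ ∈ divisors τ) → T.Nonempty →
        LocCoh.IsCohenMacaulayRing (PlRing K d n ⧸ ⨅ φ ∈ T, schubertVanishing K d n φ) ∧
        ringKrullDim (PlRing K d n ⧸ ⨅ φ ∈ T, schubertVanishing K d n φ) =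
          ((codeg τ : ℕ) : WithBot ℕ∞) := by
      intro T
      induction T using Finset.induction_on with
      | empty =>
        intro _ hne
        exact absurd hne (by simp)
      | insert ψ T' hψT' ihT =>
        intro hsub _
        have hψ : ψ ∈ divisors τ := hsub ψ (Finset.mem_insert_self _ _)
        have hsub' : ∀ φ ∈ T', φ ∈ divisors τ := fun φ hφ => hsub φ (Finset.mem_insert_of_mem hφ)
        have hcod : codeg ψ + 1 = codeg τ := hψ.2
        obtain ⟨hAψ, hBψ⟩ := ih (codeg ψ) (by omega) ψ rfl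
        have hdimψ : ringKrullDim (PlRing K d n ⧸ schubertVanishing K d n ψ) =
            ((codeg τ : ℕ) : WithBot ℕ∞) := by
          rw [main_S11255 K d n hd hdn ψ, hcod]
        rw [Finset.iInf_insert]
        rcases T'.eq_empty_or_nonempty with hT' | hT'
        · subst hT'
          have : (schubertVanishing K d n ψ ⊓ ⨅ φ ∈ (∅ : Finset (Idx d n)),
              schubertVanishing K d n φ) = schubertVanishing K d n ψ := by simp
          rw [this]
          exact ⟨hAψ, hdimψ⟩
        · obtain ⟨hcmT, hdimT⟩ := ihT hsub' hT'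
          have hsup : (⨅ φ ∈ T', schubertVanishing K d n φ) ⊔ schubertVanishing K d n ψ =
              ⨅ χ ∈ T'.image (fun φ => W4bk4grassmannian.inf φ ψ),
                schubertVanishing K d n χ := by
            rw [iInf_sup_schubertVanishing K hd T' hT' ψ, Finset.iInf_finset_image]
          have hT'' : ∀ χ ∈ T'.image (fun φ => W4bk4grassmannian.inf φ ψ), χ ∈ divisors ψ := by
            intro χ hχ
            obtain ⟨φ, hφ, rfl⟩ := Finset.mem_image.mp hχ
            refine inf_mem_divisors (hsub' φ hφ) hψ ?_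
            rintro rfl
            exact hψT' hφ
          obtain ⟨hcmS, hdimS⟩ := hBψ _ hT'' (hT'.image _)
          rw [← hsup] at hcmS hdimS
          have hdimS' : ringKrullDim (PlRing K d n ⧸
              ((⨅ φ ∈ T', schubertVanishing K d n φ) ⊔ schubertVanishing K d n ψ)) =
              ((codeg τ - 1 : ℕ) : WithBot ℕ∞) := by
            rw [hdimS]
            congr 2
            omega
          have := h1 _ _ (iInf_finset_isHomogeneous K hd hdn T')
            (schubertVanishing_isHomogeneous K hd hdn ψ) (codeg τ) (by omega) hcmT hAψ hcmS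
            hdimT hdimψ hdimS'
          rwa [inf_comm] at this
    refine ⟨?_, hB⟩
    -- claim A for τ
    apply cm_lift K h2 hd hdn τ
    by_cases hτ : ∃ φ : Idx d n, φ < τ
    · rw [main_S11254 K d n hd hdn τ hτ]
      have hfin : (⨅ φ ∈ divisors τ, schubertVanishing K d n φ) =
          ⨅ φ ∈ Finset.univ.filter (fun φ : Idx d n => φ ∈ divisors τ),
            schubertVanishing K d n φ := by
        simp only [Finset.mem_filter, Finset.mem_univ, true_and]
      rw [hfin]
      obtain ⟨φ', hφ'⟩ := hτ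
      obtain ⟨φ₀, hφ₀, -⟩ := Groth.Agent.S11268.result d n φ' τ hφ'
      refine (hB _ (fun φ hφ => ?_) ⟨φ₀, ?_⟩).1
      · simpa using hφ
      · simpa using hφ₀
    · have hι := eq_iota_of_not_exists_lt hdn τ hτ
      subst hι
      exact h3 _ (isMaximal_sup_span_iota K hd hdn)

theorem cm_schubert (h1 : GlueHyp K d n) (h2 : LiftHyp K d n) (h3 : FieldHyp K d n)
    (hd : 0 < d) (hdn : d < n) (τ : Idx d n) :
    LocCoh.IsCohenMacaulayRing (PlRing K d n ⧸ schubertVanishing K d n τ) :=
  (cm_main K h1 h2 h3 hd hdn (codeg τ) τ rfl).1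

theorem isCohenMacaulayRing_of_subsingleton (R : Type*) [CommRing R] [Subsingleton R] :
    LocCoh.IsCohenMacaulayRing R where
  isCohenMacaulayLocalRing_localization := by
    intro p hp
    exact absurd (Subsingleton.elim p ⊤) hp.ne_top

theorem cm_union (h1 : GlueHyp K d n) (h2 : LiftHyp K d n) (h3 : FieldHyp K d n)
    (hd : 0 < d) (hdn : d < n) (τ : Idx d n) (s : ℕ) (φ : Fin s → Idx d n)
    (hφ : ∀ i, φ i ∈ divisors τ) :
    LocCoh.IsCohenMacaulayRing (PlRing K d n ⧸ ⨅ i, schubertVanishing K d n (φ i)) := by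
  classical
  have hfin : (⨅ i, schubertVanishing K d n (φ i)) =
      ⨅ χ ∈ Finset.univ.image φ, schubertVanishing K d n χ := by
    rw [Finset.iInf_finset_image]
    simp
  rcases Nat.eq_zero_or_pos s with h | h
  · subst h
    have htop : (⨅ i : Fin 0, schubertVanishing K d n (φ i)) = ⊤ := iInf_of_empty _
    rw [htop]
    haveI : Subsingleton (PlRing K d n ⧸ (⊤ : Ideal (PlRing K d n))) :=
      Ideal.Quotient.subsingleton_iff.mpr rfl
    exact isCohenMacaulayRing_of_subsingleton _
  · rw [hfin]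
    refine ((cm_main K h1 h2 h3 hd hdn (codeg τ) τ rfl).2 _ ?_ ?_).1
    · intro χ hχ
      obtain ⟨i, -, rfl⟩ := Finset.mem_image.mp hχ
      exact hφ i
    · exact ⟨φ ⟨0, h⟩, Finset.mem_image.mpr ⟨⟨0, h⟩, Finset.mem_univ _, rfl⟩⟩

end CMf

end Groth.Agent.Lib.T2H8.Grass
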