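import Mathlib
import Groth.Prelude.Def_GrSeg

/-!
# Graded duals (lead), part a: basics on graded modules and the graded-dual pairing

`R` is a `ℤ`-graded algebra over a field `k`; `M` a graded `R`-module with pieces `ℳ n` (any
`AddSubgroupClass` family with a `DirectSum.Decomposition`); `D` a graded module with a pairing
`β : D → Hom_k(M, k)` presenting it as the graded dual of `M` (`GrSeg.IsGDual`).
-/

set_option autoImplicit false
set_option maxHeartbeats 400000
set_option linter.style.haveILetI false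
set_option linter.unusedSectionVars false
set_option linter.unusedVariables false

universe u

noncomputable section

namespace Groth.Agent.Lib.LeadGD

open DirectSum

section GrMod

variable {k : Type u} [Field k] {R : Type u} [CommRing R] [Algebra k R]
  (𝒜 : ℤ → Submodule k R) [GradedAlgebra 𝒜]
  {M : Type u} [AddCommGroup M] [Module R M] [Module k M] [IsScalarTower k R M]
  {τ : Type u} [SetLike τ M] [AddSubgroupClass τ M]
  (ℳ : ℤ → τ) [DirectSum.Decomposition ℳ] [SetLike.GradedSMul 𝒜 ℳ]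

lemma smul_mem_piece {i a : ℤ} {r : R} {x : M} (hr : r ∈ 𝒜 i) (hx : x ∈ ℳ a) :
    r • x ∈ ℳ (i + a) :=
  SetLike.GradedSMul.smul_mem hr hx

include 𝒜 in
lemma ksmul_mem_piece (c : k) {a : ℤ} {x : M} (hx : x ∈ ℳ a) : c • x ∈ ℳ a := by
  have h1 : algebraMap k R c ∈ 𝒜 0 := SetLike.algebraMap_mem_graded 𝒜 c
  have h2 := smul_mem_piece 𝒜 ℳ h1 hx
  rwa [zero_add, algebraMap_smul] at h2

/-- the piece `M_n` as a `k`-subspace -/
def pc (n : ℤ) : Submodule k M where
  carrier := {x | x ∈ ℳ n}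
  add_mem' := fun ha hb => add_mem ha hb
  zero_mem' := zero_mem _
  smul_mem' := fun c _ hx => ksmul_mem_piece 𝒜 ℳ c hx

lemma mem_pc {n : ℤ} {x : M} : x ∈ pc 𝒜 ℳ n ↔ x ∈ ℳ n := Iff.rfl

lemma decompose_smul_piece {a : ℤ} {x : M} (hx : x ∈ ℳ a) (r : R) (i : ℤ) :
    ((DirectSum.decompose ℳ (r • x)) (i + a) : M) = ((DirectSum.decompose 𝒜 r) i : R) • x := by
  classical
  induction r using DirectSum.Decomposition.inductionOn 𝒜 with
  | zero =>
    rw [zero_smul, DirectSum.decompose_zero, DirectSum.decompose_zero, DirectSum.zero_apply,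
      DirectSum.zero_apply, ZeroMemClass.coe_zero, ZeroMemClass.coe_zero, zero_smul]
  | homogeneous r =>
    rename_i j
    have hrx : (r : R) • x ∈ ℳ (j + a) := smul_mem_piece 𝒜 ℳ r.2 hx
    by_cases hji : j = i
    · subst hji
      rw [DirectSum.decompose_of_mem_same ℳ hrx, DirectSum.decompose_of_mem_same 𝒜 r.2]
    · have hne : j + a ≠ i + a := fun h => hji (add_right_cancel h)
      rw [DirectSum.decompose_of_mem_ne ℳ hrx hne, DirectSum.decompose_of_mem_ne 𝒜 r.2 hji,
        zero_smul]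
  | add r r' hr hr' =>
    rw [add_smul, DirectSum.decompose_add, DirectSum.decompose_add, DirectSum.add_apply,
      DirectSum.add_apply, AddMemClass.coe_add, AddMemClass.coe_add, hr, hr', add_smul]

lemma decompose_homog_smul {j : ℤ} {r : R} (hr : r ∈ 𝒜 j) (x : M) (i : ℤ) :
    ((DirectSum.decompose ℳ (r • x)) (j + i) : M) = r • ((DirectSum.decompose ℳ x) i : M) := by
  classical
  induction x using DirectSum.Decomposition.inductionOn ℳ with
  | zero =>
    rw [smul_zero, DirectSum.decompose_zero, DirectSum.zero_apply, DirectSum.zero_apply,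
      ZeroMemClass.coe_zero, ZeroMemClass.coe_zero, smul_zero]
  | homogeneous x =>
    rename_i a
    have hrx : r • (x : M) ∈ ℳ (j + a) := smul_mem_piece 𝒜 ℳ hr x.2
    by_cases hai : a = i
    · subst hai
      rw [DirectSum.decompose_of_mem_same ℳ hrx, DirectSum.decompose_of_mem_same ℳ x.2]
    · have hne : j + a ≠ j + i := fun h => hai (add_left_cancel h)
      rw [DirectSum.decompose_of_mem_ne ℳ hrx hne, DirectSum.decompose_of_mem_ne ℳ x.2 hai,
        smul_zero]
  | add x y hx hy =>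
    rw [smul_add, DirectSum.decompose_add, DirectSum.decompose_add, DirectSum.add_apply,
      DirectSum.add_apply, AddMemClass.coe_add, AddMemClass.coe_add, hx, hy, smul_add]

include 𝒜 in
lemma decompose_ksmul (c : k) (x : M) (i : ℤ) :
    ((DirectSum.decompose ℳ (c • x)) i : M) = c • ((DirectSum.decompose ℳ x) i : M) := by
  have h1 : algebraMap k R c ∈ 𝒜 0 := SetLike.algebraMap_mem_graded 𝒜 c
  have h2 := decompose_homog_smul 𝒜 ℳ h1 x i
  rwa [zero_add, algebraMap_smul, algebraMap_smul] at h2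

/-- the homogeneous component, as a `k`-linear endomorphism -/
def compL (n : ℤ) : M →ₗ[k] M where
  toFun x := ((DirectSum.decompose ℳ x) n : M)
  map_add' x y := by
    rw [DirectSum.decompose_add, DirectSum.add_apply, AddMemClass.coe_add]
  map_smul' c x := by
    rw [RingHom.id_apply]
    exact decompose_ksmul 𝒜 ℳ c x n

lemma compL_apply (n : ℤ) (x : M) : compL 𝒜 ℳ n x = ((DirectSum.decompose ℳ x) n : M) := rfl

lemma compL_mem (n : ℤ) (x : M) : compL 𝒜 ℳ n x ∈ ℳ n := SetLike.coe_mem _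

lemma compL_of_mem {n : ℤ} {x : M} (hx : x ∈ ℳ n) : compL 𝒜 ℳ n x = x :=
  DirectSum.decompose_of_mem_same ℳ hx

lemma compL_of_mem_ne {n m : ℤ} {x : M} (hx : x ∈ ℳ m) (hmn : m ≠ n) : compL 𝒜 ℳ n x = 0 :=
  DirectSum.decompose_of_mem_ne ℳ hx hmn

end GrMod

section Pair

variable {k : Type u} [Field k] {R : Type u} [CommRing R] [Algebra k R]
  (𝒜 : ℤ → Submodule k R) [GradedAlgebra 𝒜]
  {M : Type u} [AddCommGroup M] [Module R M] [Module k M] [IsScalarTower k R M]
  {τ : Type u} [SetLike τ M] [AddSubgroupClass τ M]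
  (ℳ : ℤ → τ) [DirectSum.Decomposition ℳ] [SetLike.GradedSMul 𝒜 ℳ]
  {D : Type u} [AddCommGroup D] [Module R D] [Module k D] [IsScalarTower k R D]
  {τ' : Type u} [SetLike τ' D] [AddSubgroupClass τ' D]
  (𝒟 : ℤ → τ') [DirectSum.Decomposition 𝒟] [SetLike.GradedSMul 𝒜 𝒟]
  {β : D →ₗ[k] M →ₗ[k] k} (hD : GrSeg.IsGDual R ℳ 𝒟 β)

include hD in
/-- a homogeneous element of the dual only sees one component -/
lemma pair_eq_comp {e : ℤ} {d : D} (hd : d ∈ 𝒟 e) (x : M) :
    β d x = β d ((DirectSum.decompose ℳ x) (-e) : M) := by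
  classical
  conv_lhs => rw [← DirectSum.sum_support_decompose ℳ x]
  rw [map_sum]
  by_cases hmem : -e ∈ (DirectSum.decompose ℳ x).support
  · rw [Finset.sum_eq_single_of_mem (-e) hmem]
    intro m _ hm
    exact hD.vanish e d hd m hm _ (SetLike.coe_mem _)
  · rw [Finset.sum_eq_zero]
    · have h0 : ((DirectSum.decompose ℳ x) (-e) : M) = 0 := by
        rw [DFinsupp.mem_support_toFun, not_not] at hmem
        rw [hmem, ZeroMemClass.coe_zero]
      rw [h0, map_zero]
    · intro m hm
      have hne : m ≠ -e := fun h => hmem (h ▸ hm)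
      exact hD.vanish e d hd m hne _ (SetLike.coe_mem _)

include hD in
/-- a homogeneous element of the module only sees one component of the dual -/
lemma pair_eq_comp' {m : ℤ} {x : M} (hx : x ∈ ℳ m) (d : D) :
    β d x = β ((DirectSum.decompose 𝒟 d) (-m) : D) x := by
  classical
  conv_lhs => rw [← DirectSum.sum_support_decompose 𝒟 d]
  rw [map_sum, LinearMap.sum_apply]
  by_cases hmem : -m ∈ (DirectSum.decompose 𝒟 d).support
  · rw [Finset.sum_eq_single_of_mem (-m) hmem]
    intro n _ hn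
    refine hD.vanish n _ (SetLike.coe_mem _) m ?_ x hx
    intro h
    apply hn
    rw [h, neg_neg]
  · rw [Finset.sum_eq_zero]
    · have h0 : ((DirectSum.decompose 𝒟 d) (-m) : D) = 0 := by
        rw [DFinsupp.mem_support_toFun, not_not] at hmem
        rw [hmem, ZeroMemClass.coe_zero]
      rw [h0, map_zero, LinearMap.zero_apply]
    · intro n hn
      have hne : n ≠ -m := fun h => hmem (h ▸ hn)
      refine hD.vanish n _ (SetLike.coe_mem _) m ?_ x hx
      intro h
      apply hne
      rw [h, neg_neg]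

include hD in
/-- the pairing is nondegenerate on the dual side -/
lemma eq_zero_of_pair_eq_zero {d : D} (h : ∀ x : M, β d x = 0) : d = 0 := by
  classical
  rw [← DirectSum.sum_support_decompose 𝒟 d]
  refine Finset.sum_eq_zero fun n _ => ?_
  refine hD.eq_zero n _ (SetLike.coe_mem _) ?_
  intro x hx
  have h1 := pair_eq_comp' ℳ 𝒟 hD hx d
  rw [neg_neg] at h1
  rw [← h1]
  exact h x

include hD in
/-- **finite-dimensional duality**: a homogeneous element outside a subspace of `D_e` is separated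
from it by an element of `M_{-e}` -/
theorem exists_sep {e : ℤ} (hfin : FiniteDimensional k (pc 𝒜 ℳ (-e)))
    (W : Submodule k D) {c : D} (hc : c ∈ 𝒟 e) (hW : ∀ w ∈ W, w ∈ 𝒟 e) (hcW : c ∉ W) :
    ∃ x ∈ ℳ (-e), (∀ w ∈ W, β w x = 0) ∧ β c x ≠ 0 := by
  classical
  -- restriction of the pairing to `M_{-e}`
  obtain ⟨Ψ, hΨ⟩ : ∃ Ψ : D →ₗ[k] Module.Dual k (pc 𝒜 ℳ (-e)),
      ∀ d (x : pc 𝒜 ℳ (-e)), Ψ d x = β d (x : M) :=
    ⟨(LinearMap.lcomp k k (pc 𝒜 ℳ (-e)).subtype).comp β, fun d x => rfl⟩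
  have hΨinj : ∀ d ∈ 𝒟 e, Ψ d = 0 → d = 0 := by
    intro d hd h0
    refine hD.eq_zero e d hd fun x hx => ?_
    have := LinearMap.congr_fun h0 (⟨x, hx⟩ : pc 𝒜 ℳ (-e))
    rwa [hΨ] at this
  have hnot : Ψ c ∉ W.map Ψ := by
    rintro ⟨w, hw, hwc⟩
    apply hcW
    have h1 : c - w ∈ 𝒟 e := sub_mem hc (hW w hw)
    have h2 : c - w = 0 := hΨinj _ h1 (by rw [map_sub, hwc, sub_self])
    rw [sub_eq_zero.mp h2]
    exact hw
  rw [← Subspace.dualCoannihilator_dualAnnihilator_eq (W := W.map Ψ)] at hnot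
  rw [Submodule.mem_dualAnnihilator] at hnot
  push Not at hnot
  obtain ⟨x, hx, hxc⟩ := hnot
  refine ⟨(x : M), x.2, fun w hw => ?_, ?_⟩
  · rw [Submodule.mem_dualCoannihilator] at hx
    have := hx (Ψ w) (Submodule.mem_map_of_mem hw)
    rwa [hΨ] at this
  · rwa [hΨ] at hxc

end Pair

end Groth.Agent.Lib.LeadGD
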