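import Groth.Agent.Lib.LeadGDa

/-!
# Graded duals (lead), part b: the graded dual of a Noetherian module is Artinian

For an arbitrary (not necessarily graded) submodule `N` of the graded dual `D`, `inF N e` is the
space of initial forms of degree `e` of elements of `N`, and `perpIn N` the submodule of `M`
orthogonal to all initial forms.  If `D` is bounded above and the pieces of `M` are
finite-dimensional, `N ↦ perpIn N` is strictly antitone, whence the descending chain condition.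
-/

set_option autoImplicit false
set_option maxHeartbeats 400000
set_option linter.style.haveILetI false
set_option linter.unusedSectionVars false
set_option linter.unusedVariables false

universe u

noncomputable section

namespace Groth.Agent.Lib.LeadGD

open DirectSum

section Art

variable {k : Type u} [Field k] {R : Type u} [CommRing R] [Algebra k R]
  (𝒜 : ℤ → Submodule k R) [GradedAlgebra 𝒜]
  {M : Type u} [AddCommGroup M] [Module R M] [Module k M] [IsScalarTower k R M]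
  {τ : Type u} [SetLike τ M] [AddSubgroupClass τ M]
  (ℳ : ℤ → τ) [DirectSum.Decomposition ℳ] [SetLike.GradedSMul 𝒜 ℳ]
  {D : Type u} [AddCommGroup D] [Module R D] [Module k D] [IsScalarTower k R D]
  {τ' : Type u} [SetLike τ' D] [AddSubgroupClass τ' D]
  (𝒟 : ℤ → τ') [DirectSum.Decomposition 𝒟] [SetLike.GradedSMul 𝒜 𝒟]
  {β : D →ₗ[k] M →ₗ[k] k} (hD : GrSeg.IsGDual R ℳ 𝒟 β)

/-- the initial forms of degree `e` of the elements of a submodule -/
def inF (N : Submodule R D) (e : ℤ) : Set D :=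
  {c | ∃ d ∈ N, (∀ j < e, ((DirectSum.decompose 𝒟 d) j : D) = 0) ∧
    c = ((DirectSum.decompose 𝒟 d) e : D)}

lemma inF_mem_piece {N : Submodule R D} {e : ℤ} {c : D} (hc : c ∈ inF 𝒟 N e) : c ∈ 𝒟 e := by
  obtain ⟨d, -, -, rfl⟩ := hc
  exact SetLike.coe_mem _

lemma inF_mono {N N' : Submodule R D} (h : N ≤ N') (e : ℤ) : inF 𝒟 N e ⊆ inF 𝒟 N' e := by
  rintro c ⟨d, hd, h1, h2⟩
  exact ⟨d, h hd, h1, h2⟩

/-- the initial forms of degree `e`, as a `k`-subspace -/
def inFsub (N : Submodule R D) (e : ℤ) : Submodule k D where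
  carrier := inF 𝒟 N e
  add_mem' := by
    rintro a b ⟨d, hd, h1, rfl⟩ ⟨d', hd', h1', rfl⟩
    refine ⟨d + d', N.add_mem hd hd', fun j hj => ?_, ?_⟩
    · rw [DirectSum.decompose_add, DirectSum.add_apply, AddMemClass.coe_add, h1 j hj, h1' j hj,
        add_zero]
    · rw [DirectSum.decompose_add, DirectSum.add_apply, AddMemClass.coe_add]
  zero_mem' := ⟨0, N.zero_mem, fun j _ => by
    rw [DirectSum.decompose_zero, DirectSum.zero_apply, ZeroMemClass.coe_zero], by
    rw [DirectSum.decompose_zero, DirectSum.zero_apply, ZeroMemClass.coe_zero]⟩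
  smul_mem' := by
    rintro c a ⟨d, hd, h1, rfl⟩
    refine ⟨c • d, ?_, fun j hj => ?_, ?_⟩
    · rw [← algebraMap_smul R c d]
      exact N.smul_mem _ hd
    · rw [decompose_ksmul 𝒜 𝒟, h1 j hj, smul_zero]
    · rw [decompose_ksmul 𝒜 𝒟]

lemma mem_inFsub {N : Submodule R D} {e : ℤ} {c : D} : c ∈ inFsub 𝒜 𝒟 N e ↔ c ∈ inF 𝒟 N e :=
  Iff.rfl

/-- homogeneous scalars move initial forms to initial forms -/
lemma smul_inF {N : Submodule R D} {a e : ℤ} {r : R} (hr : r ∈ 𝒜 a) {c : D}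
    (hc : c ∈ inF 𝒟 N e) : r • c ∈ inF 𝒟 N (a + e) := by
  obtain ⟨d, hd, h1, rfl⟩ := hc
  refine ⟨r • d, N.smul_mem r hd, fun j hj => ?_, ?_⟩
  · have hj' : j = a + (j - a) := by ring
    rw [hj', decompose_homog_smul 𝒜 𝒟 hr d (j - a), h1 (j - a) (by omega), smul_zero]
  · rw [decompose_homog_smul 𝒜 𝒟 hr d e]

include hD in
/-- the submodule of `M` orthogonal to all initial forms of `N` -/
def perpIn (N : Submodule R D) : Submodule R M where
  carrier := {x | ∀ e : ℤ, ∀ c ∈ inF 𝒟 N e, β c x = 0}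
  add_mem' := by
    intro x y hx hy e c hc
    rw [map_add, hx e c hc, hy e c hc, add_zero]
  zero_mem' := fun e c _ => map_zero _
  smul_mem' := by
    classical
    intro r x hx e c hc
    rw [← hD.map_smul, ← DirectSum.sum_support_decompose 𝒜 r, Finset.sum_smul, map_sum,
      LinearMap.sum_apply]
    refine Finset.sum_eq_zero fun a _ => ?_
    exact hx (a + e) _ (smul_inF 𝒜 𝒟 (SetLike.coe_mem _) hc)

lemma mem_perpIn {N : Submodule R D} {x : M} :
    x ∈ perpIn 𝒜 ℳ 𝒟 hD N ↔ ∀ e : ℤ, ∀ c ∈ inF 𝒟 N e, β c x = 0 := Iff.rfl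

lemma perpIn_anti {N N' : Submodule R D} (h : N ≤ N') :
    perpIn 𝒜 ℳ 𝒟 hD N' ≤ perpIn 𝒜 ℳ 𝒟 hD N := by
  intro x hx e c hc
  exact hx e c (inF_mono 𝒟 h e hc)

/-- **the key lemma**: `perpIn` detects strict inclusions -/
theorem le_of_perpIn_le (hfin : ∀ n : ℤ, FiniteDimensional k (pc 𝒜 ℳ n)) (n₀ : ℤ)
    (hbd : ∀ n : ℤ, n₀ < n → ∀ d ∈ 𝒟 n, d = 0) {N N' : Submodule R D} (hle : N ≤ N')
    (hP : perpIn 𝒜 ℳ 𝒟 hD N ≤ perpIn 𝒜 ℳ 𝒟 hD N') : N' ≤ N := by
  classical
  -- step 1: the initial forms agree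
  have h1 : ∀ e : ℤ, inF 𝒟 N' e ⊆ inF 𝒟 N e := by
    intro e c hc
    by_contra hcN
    obtain ⟨x, hx, hxW, hxc⟩ := exists_sep 𝒜 ℳ 𝒟 hD (hfin (-e)) (inFsub 𝒜 𝒟 N e)
      (inF_mem_piece 𝒟 hc) (fun w hw => inF_mem_piece 𝒟 hw) hcN
    have hxP : x ∈ perpIn 𝒜 ℳ 𝒟 hD N := by
      intro e' c' hc'
      by_cases hee : e' = e
      · subst hee
        exact hxW c' hc'
      · refine hD.vanish e' c' (inF_mem_piece 𝒟 hc') (-e) ?_ x hx
        intro h
        exact hee (neg_injective h).symm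
    exact hxc (hP hxP e c hc)
  -- step 2: descending induction
  have h2 : ∀ t : ℕ, ∀ d' ∈ N', (∀ j : ℤ, j < n₀ + 1 - t →
      ((DirectSum.decompose 𝒟 d') j : D) = 0) → d' ∈ N := by
    intro t
    induction t with
    | zero =>
      intro d' _ hz
      have h0 : d' = 0 := by
        rw [← DirectSum.sum_support_decompose 𝒟 d']
        refine Finset.sum_eq_zero fun j _ => ?_
        rcases lt_or_ge j (n₀ + 1) with hj | hj
        · exact hz j (by simpa using hj)
        · exact hbd j (by omega) _ (SetLike.coe_mem _)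
      rw [h0]
      exact N.zero_mem
    | succ t ih =>
      intro d' hd' hz
      obtain ⟨e, hedef⟩ : ∃ e : ℤ, e = n₀ - t := ⟨_, rfl⟩
      have hz' : ∀ j : ℤ, j < e → ((DirectSum.decompose 𝒟 d') j : D) = 0 := by
        intro j hj
        apply hz j
        push_cast
        omega
      have hc : ((DirectSum.decompose 𝒟 d') e : D) ∈ inF 𝒟 N' e := ⟨d', hd', hz', rfl⟩
      obtain ⟨d, hd, hdz, hde⟩ := h1 e hc
      have hsub : d' - d ∈ N := by
        apply ih (d' - d) (N'.sub_mem hd' (hle hd))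
        intro j hj
        rw [DirectSum.decompose_sub, DirectSum.sub_apply, AddSubgroupClass.coe_sub]
        rcases lt_or_eq_of_le (show j ≤ e by omega) with hje | hje
        · rw [hz' j hje, hdz j hje, sub_zero]
        · rw [hje, hde, sub_self]
      have : d' = (d' - d) + d := by abel
      rw [this]
      exact N.add_mem hsub hd
  intro d' hd'
  obtain ⟨U, hU⟩ := ((DirectSum.decompose 𝒟 d').support.image (fun i : ℤ => -i)).exists_le
  have hL : ∀ j : ℤ, j < -U → ((DirectSum.decompose 𝒟 d') j : D) = 0 := by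
    intro j hj
    by_contra hne
    have hmem : j ∈ (DirectSum.decompose 𝒟 d').support := by
      rw [DFinsupp.mem_support_toFun]
      intro h0
      apply hne
      rw [h0, ZeroMemClass.coe_zero]
    have := hU (-j) (Finset.mem_image_of_mem _ hmem)
    omega
  refine h2 (n₀ + 1 + U).toNat d' hd' fun j hj => hL j ?_
  have := Int.self_le_toNat (n₀ + 1 + U)
  omega

include hD in
/-- **The graded dual of a Noetherian graded module with finite-dimensional pieces, bounded above,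
is an Artinian module.** -/
theorem isArtinian_of_isGDual [IsNoetherian R M]
    (hfin : ∀ n : ℤ, FiniteDimensional k (pc 𝒜 ℳ n)) (n₀ : ℤ)
    (hbd : ∀ n : ℤ, n₀ < n → ∀ d ∈ 𝒟 n, d = 0) : IsArtinian R D := by
  rw [← monotone_stabilizes_iff_artinian]
  intro f
  obtain ⟨g, hg⟩ : ∃ g : ℕ →o Submodule R M,
      ∀ n, g n = perpIn 𝒜 ℳ 𝒟 hD (OrderDual.ofDual (f n)) :=
    ⟨⟨fun n => perpIn 𝒜 ℳ 𝒟 hD (OrderDual.ofDual (f n)), fun a b hab =>
      perpIn_anti 𝒜 ℳ 𝒟 hD (f.monotone hab)⟩, fun n => rfl⟩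
  obtain ⟨n, hn⟩ := monotone_stabilizes_iff_noetherian.mpr inferInstance g
  refine ⟨n, fun m hnm => ?_⟩
  have hle : OrderDual.ofDual (f m) ≤ OrderDual.ofDual (f n) := f.monotone hnm
  have hP : perpIn 𝒜 ℳ 𝒟 hD (OrderDual.ofDual (f m)) ≤
      perpIn 𝒜 ℳ 𝒟 hD (OrderDual.ofDual (f n)) := by
    rw [← hg, ← hg, hn m hnm]
  have := le_of_perpIn_le 𝒜 ℳ 𝒟 hD hfin n₀ hbd hle hP
  exact OrderDual.ofDual.injective (le_antisymm this hle)

end Art

end Groth.Agent.Lib.LeadGD
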