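import Groth.Agent.Lib.LeadGDb

/-!
# Graded duals (lead), part c: the pieces of a Noetherian or Artinian graded module are
finite-dimensional

`R` is a connected graded `k`-algebra (`R_n = 0` for `n < 0`, `R_0 = k`).
-/

set_option autoImplicit false
set_option maxHeartbeats 400000
set_option linter.style.haveILetI false
set_option linter.unusedSectionVars false
set_option linter.unusedVariables false

universe u

noncomputable section

namespace Groth.Agent.Lib.LeadGD

open DirectSum

section Fin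

variable {k : Type u} [Field k] {R : Type u} [CommRing R] [Algebra k R]
  (𝒜 : ℤ → Submodule k R) [GradedAlgebra 𝒜]
  {M : Type u} [AddCommGroup M] [Module R M] [Module k M] [IsScalarTower k R M]
  {τ : Type u} [SetLike τ M] [AddSubgroupClass τ M]
  (ℳ : ℤ → τ) [DirectSum.Decomposition ℳ] [SetLike.GradedSMul 𝒜 ℳ]

open scoped Classical in
/-- the components of a product -/
lemma decompose_smul_eq_sum (r : R) (x : M) (j : ℤ) :
    ((DirectSum.decompose ℳ (r • x)) j : M) =
      ∑ a ∈ (DirectSum.decompose 𝒜 r).support,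
        ((DirectSum.decompose 𝒜 r) a : R) • ((DirectSum.decompose ℳ x) (j - a) : M) := by
  classical
  conv_lhs => rw [← DirectSum.sum_support_decompose 𝒜 r, Finset.sum_smul]
  rw [DirectSum.decompose_sum, DFinsupp.finsetSum_apply, AddSubmonoidClass.coe_finsetSum]
  refine Finset.sum_congr rfl fun a _ => ?_
  have hj : j = a + (j - a) := by ring
  conv_lhs => rw [hj]
  exact decompose_homog_smul 𝒜 ℳ (SetLike.coe_mem _) x (j - a)

lemma decompose_eq_zero_of_neg (hpos : ∀ n : ℤ, n < 0 → 𝒜 n = ⊥) (r : R) {a : ℤ} (ha : a < 0) :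
    ((DirectSum.decompose 𝒜 r) a : R) = 0 := by
  have h := (DirectSum.decompose 𝒜 r a).2
  exact (Submodule.mem_bot k).mp ((hpos a ha).le h)

/-- the elements with no components below degree `n` -/
def geSub (hpos : ∀ n : ℤ, n < 0 → 𝒜 n = ⊥) (n : ℤ) : Submodule R M where
  carrier := {x | ∀ j < n, ((DirectSum.decompose ℳ x) j : M) = 0}
  add_mem' := by
    intro x y hx hy j hj
    rw [DirectSum.decompose_add, DirectSum.add_apply, AddMemClass.coe_add, hx j hj, hy j hj,
      add_zero]
  zero_mem' := fun j _ => by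
    rw [DirectSum.decompose_zero, DirectSum.zero_apply, ZeroMemClass.coe_zero]
  smul_mem' := by
    intro r x hx j hj
    rw [decompose_smul_eq_sum 𝒜 ℳ r x j]
    refine Finset.sum_eq_zero fun a _ => ?_
    rcases lt_or_ge a 0 with ha | ha
    · rw [decompose_eq_zero_of_neg 𝒜 hpos r ha, zero_smul]
    · rw [hx (j - a) (by omega), smul_zero]

lemma mem_geSub (hpos : ∀ n : ℤ, n < 0 → 𝒜 n = ⊥) {n : ℤ} {x : M} :
    x ∈ geSub 𝒜 ℳ hpos n ↔ ∀ j < n, ((DirectSum.decompose ℳ x) j : M) = 0 := Iff.rfl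

lemma mem_geSub_of_mem (hpos : ∀ n : ℤ, n < 0 → 𝒜 n = ⊥) {n : ℤ} {x : M} (hx : x ∈ ℳ n) :
    x ∈ geSub 𝒜 ℳ hpos n := by
  intro j hj
  exact DirectSum.decompose_of_mem_ne ℳ hx (by omega)

/-- the lowest component of a product -/
lemma decompose_smul_of_mem_geSub (hpos : ∀ n : ℤ, n < 0 → 𝒜 n = ⊥) {n : ℤ} {x : M}
    (hx : x ∈ geSub 𝒜 ℳ hpos n) (r : R) :
    ((DirectSum.decompose ℳ (r • x)) n : M) =
      ((DirectSum.decompose 𝒜 r) 0 : R) • ((DirectSum.decompose ℳ x) n : M) := by
  classical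
  rw [decompose_smul_eq_sum 𝒜 ℳ r x n]
  by_cases h0 : (0 : ℤ) ∈ (DirectSum.decompose 𝒜 r).support
  · rw [Finset.sum_eq_single_of_mem 0 h0, sub_zero]
    intro a _ ha
    rcases lt_or_gt_of_ne ha with ha' | ha'
    · rw [decompose_eq_zero_of_neg 𝒜 hpos r ha', zero_smul]
    · rw [hx (n - a) (by omega), smul_zero]
  · have hr0 : ((DirectSum.decompose 𝒜 r) 0 : R) = 0 := by
      rw [DFinsupp.mem_support_toFun, not_not] at h0
      rw [h0, ZeroMemClass.coe_zero]
    rw [hr0, zero_smul]
    refine Finset.sum_eq_zero fun a ha => ?_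
    have hane : a ≠ 0 := fun h => h0 (h ▸ ha)
    rcases lt_or_gt_of_ne hane with ha' | ha'
    · rw [decompose_eq_zero_of_neg 𝒜 hpos r ha', zero_smul]
    · rw [hx (n - a) (by omega), smul_zero]

lemma exists_ksmul_of_mem_zero (h0 : 𝒜 0 = Submodule.span k {(1 : R)}) {r : R} (hr : r ∈ 𝒜 0)
    (x : M) : ∃ c : k, r • x = c • x := by
  rw [h0] at hr
  obtain ⟨c, rfl⟩ := Submodule.mem_span_singleton.mp hr
  exact ⟨c, by rw [smul_assoc, one_smul]⟩

/-- **The pieces of a finitely generated graded module over a Noetherian connected graded algebra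
are finite-dimensional.** -/
theorem finiteDimensional_pc_of_finite [IsNoetherianRing R] [Module.Finite R M]
    (hpos : ∀ n : ℤ, n < 0 → 𝒜 n = ⊥) (h0 : 𝒜 0 = Submodule.span k {(1 : R)}) (n : ℤ) :
    FiniteDimensional k (pc 𝒜 ℳ n) := by
  classical
  haveI : IsNoetherian R M := isNoetherian_of_isNoetherianRing_of_finite R M
  have hfg : (geSub 𝒜 ℳ hpos n).FG := IsNoetherian.noetherian _
  obtain ⟨s, hs⟩ := hfg
  have hle : pc 𝒜 ℳ n ≤ Submodule.span k ((s.image (compL 𝒜 ℳ n) : Finset M) : Set M) := by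
    intro x hx
    have hx' : x ∈ Submodule.span R (s : Set M) := by
      rw [hs]
      exact mem_geSub_of_mem 𝒜 ℳ hpos hx
    obtain ⟨f, hf⟩ := (Submodule.mem_span_finset.mp hx')
    have hxn : x = compL 𝒜 ℳ n x := (compL_of_mem 𝒜 ℳ hx).symm
    rw [hxn, ← hf.2, compL_apply, DirectSum.decompose_sum, DFinsupp.finsetSum_apply,
      AddSubmonoidClass.coe_finsetSum]
    refine Submodule.sum_mem _ fun g hg => ?_
    have hgmem : g ∈ geSub 𝒜 ℳ hpos n := by
      rw [← hs]
      exact Submodule.subset_span hg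
    rw [decompose_smul_of_mem_geSub 𝒜 ℳ hpos hgmem (f g)]
    obtain ⟨c, hc⟩ := exists_ksmul_of_mem_zero 𝒜 h0 (SetLike.coe_mem _)
      ((DirectSum.decompose ℳ g) n : M)
    rw [hc]
    refine Submodule.smul_mem _ c (Submodule.subset_span ?_)
    rw [Finset.coe_image]
    exact ⟨g, hg, rfl⟩
  haveI : FiniteDimensional k
      (Submodule.span k ((s.image (compL 𝒜 ℳ n) : Finset M) : Set M)) :=
    FiniteDimensional.span_finset k _
  exact Submodule.finiteDimensional_of_le hle

/-- the degree `n` part of the `R`-span of a subspace of `M_n` is that subspace -/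
lemma mem_of_mem_span_of_mem (h0 : 𝒜 0 = Submodule.span k {(1 : R)}) {n : ℤ}
    (V : Submodule k M) (hV : V ≤ pc 𝒜 ℳ n) {x : M} (hx : x ∈ ℳ n)
    (hxs : x ∈ Submodule.span R (V : Set M)) : x ∈ V := by
  classical
  obtain ⟨m, f, g, hfg⟩ := Submodule.mem_span_set'.mp hxs
  have hxn : x = compL 𝒜 ℳ n x := (compL_of_mem 𝒜 ℳ hx).symm
  rw [hxn, ← hfg, compL_apply, DirectSum.decompose_sum, DFinsupp.finsetSum_apply,
    AddSubmonoidClass.coe_finsetSum]
  refine Submodule.sum_mem _ fun i _ => ?_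
  have hgi : ((g i : M)) ∈ ℳ n := hV (g i).2
  have h1 := decompose_smul_piece 𝒜 ℳ hgi (f i) 0
  rw [zero_add] at h1
  rw [h1]
  obtain ⟨c, hc⟩ := exists_ksmul_of_mem_zero 𝒜 h0 (SetLike.coe_mem _) ((g i : M))
  rw [hc]
  exact V.smul_mem c (g i).2

/-- **The pieces of an Artinian graded module over a connected graded algebra are
finite-dimensional.** -/
theorem finiteDimensional_pc_of_isArtinian [IsArtinian R M]
    (h0 : 𝒜 0 = Submodule.span k {(1 : R)}) (n : ℤ) :
    FiniteDimensional k (pc 𝒜 ℳ n) := by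
  classical
  -- subspaces of the piece embed strictly monotonically into submodules of `M`
  obtain ⟨F, hF⟩ : ∃ F : Submodule k (pc 𝒜 ℳ n) → Submodule R M,
      ∀ V, F V = Submodule.span R ((V.map (pc 𝒜 ℳ n).subtype : Submodule k M) : Set M) :=
    ⟨_, fun V => rfl⟩
  have hmono : StrictMono F := by
    intro V V' hVV'
    have hle : F V ≤ F V' := by
      rw [hF, hF]
      exact Submodule.span_mono (Submodule.map_mono hVV'.le)
    refine lt_of_le_of_ne hle ?_
    intro heq
    apply hVV'.not_ge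
    intro x hx
    have h1 : (x : M) ∈ F V' := by
      rw [hF]
      exact Submodule.subset_span (Submodule.mem_map_of_mem hx)
    rw [← heq, hF] at h1
    have h2 := mem_of_mem_span_of_mem 𝒜 ℳ h0 (V.map (pc 𝒜 ℳ n).subtype)
      (by
        rintro _ ⟨y, -, rfl⟩
        exact y.2) x.2 h1
    obtain ⟨y, hy, hyx⟩ := h2
    have : y = x := Subtype.ext hyx
    rwa [this] at hy
  haveI : WellFoundedLT (Submodule R M) := inferInstanceAs (IsArtinian R M)
  haveI : WellFoundedLT (Submodule k (pc 𝒜 ℳ n)) := hmono.wellFoundedLT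
  haveI : IsArtinian k (pc 𝒜 ℳ n) := this
  have hfin := IsArtinian.finite_of_linearIndependent
    (Module.Basis.ofVectorSpaceIndex.linearIndependent k (pc 𝒜 ℳ n))
  haveI : Finite (Module.Basis.ofVectorSpaceIndex k (pc 𝒜 ℳ n)) := hfin
  exact Module.Finite.of_basis (Module.Basis.ofVectorSpace k (pc 𝒜 ℳ n))

end Fin

end Groth.Agent.Lib.LeadGD
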