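import Groth.Agent.Lib.LeadGDc

/-!
# Graded duals (lead), part d: Artinian graded modules embed into sums of shifted copies of `R^*`

`D = R^*` is the graded dual of the connected graded Noetherian `k`-algebra `R`.
* `isArtinian_gdual_self`: `R^*` is an Artinian module;
* `homMap`: the `R`-linear map `M → R^*` attached to a homogeneous functional on `M`;
* `exists_embedding_of_isArtinian`: an Artinian graded module embeds in `(R^*)^t` (with shifts).
-/

set_option autoImplicit false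
set_option maxHeartbeats 400000
set_option linter.style.haveILetI false
set_option linter.unusedSectionVars false
set_option linter.unusedVariables false

universe u

noncomputable section

namespace Groth.Agent.Lib.LeadGD

open DirectSum

section Self

variable {k : Type u} [Field k] {R : Type u} [CommRing R] [Algebra k R]
  (𝒜 : ℤ → Submodule k R) [GradedAlgebra 𝒜]
  {D : Type u} [AddCommGroup D] [Module R D] [Module k D] [IsScalarTower k R D]
  {τ' : Type u} [SetLike τ' D] [AddSubgroupClass τ' D]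
  (𝒟 : ℤ → τ') [DirectSum.Decomposition 𝒟] [SetLike.GradedSMul 𝒜 𝒟]
  {β : D →ₗ[k] R →ₗ[k] k} (hD : GrSeg.IsGDual R 𝒜 𝒟 β)

include hD in
/-- **the graded dual `R^*` of a Noetherian connected graded algebra is an Artinian module** -/
theorem isArtinian_gdual_self [IsNoetherianRing R] (hpos : ∀ n : ℤ, n < 0 → 𝒜 n = ⊥)
    (h0 : 𝒜 0 = Submodule.span k {(1 : R)}) : IsArtinian R D := by
  refine isArtinian_of_isGDual 𝒜 𝒜 𝒟 hD
    (fun n => finiteDimensional_pc_of_finite 𝒜 𝒜 hpos h0 n) 0 ?_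
  intro n hn d hd
  refine hD.eq_zero n d hd fun x hx => ?_
  rw [hpos (-n) (by omega)] at hx
  rw [(Submodule.mem_bot k).mp hx, map_zero]

end Self

section Emb

variable {k : Type u} [Field k] {R : Type u} [CommRing R] [Algebra k R]
  (𝒜 : ℤ → Submodule k R) [GradedAlgebra 𝒜]
  {M : Type u} [AddCommGroup M] [Module R M] [Module k M] [IsScalarTower k R M]
  {τ : Type u} [SetLike τ M] [AddSubgroupClass τ M]
  (ℳ : ℤ → τ) [DirectSum.Decomposition ℳ] [SetLike.GradedSMul 𝒜 ℳ]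
  {D : Type u} [AddCommGroup D] [Module R D] [Module k D] [IsScalarTower k R D]
  {τ' : Type u} [SetLike τ' D] [AddSubgroupClass τ' D]
  (𝒟 : ℤ → τ') [DirectSum.Decomposition 𝒟] [SetLike.GradedSMul 𝒜 𝒟]
  {β : D →ₗ[k] R →ₗ[k] k} (hD : GrSeg.IsGDual R 𝒜 𝒟 β)

/-- a functional on `M` supported in degree `g₀` -/
def IsHomFun (lam : M →ₗ[k] k) (g₀ : ℤ) : Prop := ∀ m : ℤ, m ≠ g₀ → ∀ x ∈ ℳ m, lam x = 0

lemma IsHomFun.eq_comp {lam : M →ₗ[k] k} {g₀ : ℤ} (h : IsHomFun ℳ lam g₀) (y : M) :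
    lam y = lam ((DirectSum.decompose ℳ y) g₀ : M) := by
  classical
  conv_lhs => rw [← DirectSum.sum_support_decompose ℳ y]
  rw [map_sum]
  by_cases hmem : g₀ ∈ (DirectSum.decompose ℳ y).support
  · rw [Finset.sum_eq_single_of_mem g₀ hmem]
    intro m _ hm
    exact h m hm _ (SetLike.coe_mem _)
  · rw [Finset.sum_eq_zero]
    · have h0 : ((DirectSum.decompose ℳ y) g₀ : M) = 0 := by
        rw [DFinsupp.mem_support_toFun, not_not] at hmem
        rw [hmem, ZeroMemClass.coe_zero]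
      rw [h0, map_zero]
    · intro m hm
      have hne : m ≠ g₀ := fun h' => hmem (h' ▸ hm)
      exact h m hne _ (SetLike.coe_mem _)

/-- the functional `r ↦ λ(r x)` on `R` -/
def evFun (lam : M →ₗ[k] k) (x : M) : R →ₗ[k] k :=
  lam.comp ((LinearMap.toSpanSingleton R M x).restrictScalars k)

lemma evFun_apply (lam : M →ₗ[k] k) (x : M) (r : R) : evFun lam x r = lam (r • x) := rfl

include hD in
lemma exists_rep_of_mem {lam : M →ₗ[k] k} {g₀ : ℤ} (h : IsHomFun ℳ lam g₀) {a : ℤ} {x : M}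
    (hx : x ∈ ℳ a) : ∃ d ∈ 𝒟 (a - g₀), ∀ r : R, β d r = lam (r • x) := by
  obtain ⟨d, hd, hdr⟩ := hD.exists_eq (a - g₀) (evFun lam x)
  refine ⟨d, hd, fun r => ?_⟩
  rw [pair_eq_comp 𝒜 𝒟 hD hd r, hdr _ (SetLike.coe_mem _), evFun_apply, h.eq_comp ℳ (r • x)]
  have h1 := decompose_smul_piece 𝒜 ℳ hx r (-(a - g₀))
  have h2 : -(a - g₀) + a = g₀ := by ring
  rw [h2] at h1
  rw [h1]

include hD in
lemma exists_rep {lam : M →ₗ[k] k} {g₀ : ℤ} (h : IsHomFun ℳ lam g₀) (x : M) :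
    ∃ d : D, ∀ r : R, β d r = lam (r • x) := by
  classical
  induction x using DirectSum.Decomposition.inductionOn ℳ with
  | zero => exact ⟨0, fun r => by rw [map_zero, LinearMap.zero_apply, smul_zero, map_zero]⟩
  | homogeneous x =>
    obtain ⟨d, -, hd⟩ := exists_rep_of_mem 𝒜 ℳ 𝒟 hD h x.2
    exact ⟨d, hd⟩
  | add x y hx hy =>
    obtain ⟨d, hd⟩ := hx
    obtain ⟨d', hd'⟩ := hy
    exact ⟨d + d', fun r => by rw [map_add, LinearMap.add_apply, hd, hd', smul_add, map_add]⟩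

include hD in
lemma rep_unique {d d' : D} (h : ∀ r : R, β d r = β d' r) : d = d' := by
  have h0 : d - d' = 0 := by
    refine eq_zero_of_pair_eq_zero 𝒜 𝒟 hD fun r => ?_
    rw [map_sub, LinearMap.sub_apply, h r, sub_self]
  exact sub_eq_zero.mp h0

/-- the `R`-linear map `M → R^*` attached to a homogeneous functional -/
def homMap {lam : M →ₗ[k] k} {g₀ : ℤ} (h : IsHomFun ℳ lam g₀) : M →ₗ[R] D where
  toFun x := Classical.choose (exists_rep 𝒜 ℳ 𝒟 hD h x)
  map_add' x y := by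
    refine rep_unique 𝒜 𝒟 hD fun r => ?_
    rw [Classical.choose_spec (exists_rep 𝒜 ℳ 𝒟 hD h (x + y)) r, map_add, LinearMap.add_apply,
      Classical.choose_spec (exists_rep 𝒜 ℳ 𝒟 hD h x) r,
      Classical.choose_spec (exists_rep 𝒜 ℳ 𝒟 hD h y) r, smul_add, map_add]
  map_smul' s x := by
    refine rep_unique 𝒜 𝒟 hD fun r => ?_
    rw [RingHom.id_apply, Classical.choose_spec (exists_rep 𝒜 ℳ 𝒟 hD h (s • x)) r, hD.map_smul,
      Classical.choose_spec (exists_rep 𝒜 ℳ 𝒟 hD h x) (s • r), smul_eq_mul, mul_comm, mul_smul]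

lemma pair_homMap {lam : M →ₗ[k] k} {g₀ : ℤ} (h : IsHomFun ℳ lam g₀) (x : M) (r : R) :
    β (homMap 𝒜 ℳ 𝒟 hD h x) r = lam (r • x) :=
  Classical.choose_spec (exists_rep 𝒜 ℳ 𝒟 hD h x) r

lemma homMap_mem {lam : M →ₗ[k] k} {g₀ : ℤ} (h : IsHomFun ℳ lam g₀) {a : ℤ} {x : M}
    (hx : x ∈ ℳ a) : homMap 𝒜 ℳ 𝒟 hD h x ∈ 𝒟 (a - g₀) := by
  obtain ⟨d, hd, hdr⟩ := exists_rep_of_mem 𝒜 ℳ 𝒟 hD h hx
  have : homMap 𝒜 ℳ 𝒟 hD h x = d := by
    refine rep_unique 𝒜 𝒟 hD fun r => ?_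
    rw [pair_homMap, hdr]
  rw [this]
  exact hd

/-- the common kernel of the maps attached to a finite set of functionals -/
def kerOf (Λ : Finset (M →ₗ[k] k)) : Submodule R M where
  carrier := {x | ∀ lam ∈ Λ, ∀ r : R, lam (r • x) = 0}
  add_mem' := by
    intro x y hx hy lam hl r
    rw [smul_add, map_add, hx lam hl r, hy lam hl r, add_zero]
  zero_mem' := fun lam _ r => by rw [smul_zero, map_zero]
  smul_mem' := by
    intro s x hx lam hl r
    rw [← mul_smul]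
    exact hx lam hl (r * s)

lemma mem_kerOf {Λ : Finset (M →ₗ[k] k)} {x : M} :
    x ∈ kerOf (R := R) Λ ↔ ∀ lam ∈ Λ, ∀ r : R, lam (r • x) = 0 := Iff.rfl

include 𝒜 in
/-- finitely many homogeneous functionals whose attached maps have trivial common kernel -/
theorem exists_finset_kerOf_eq_bot [IsArtinian R M] :
    ∃ Λ : Finset (M →ₗ[k] k), (∀ lam ∈ Λ, ∃ g₀ : ℤ, IsHomFun ℳ lam g₀) ∧
      kerOf (R := R) Λ = ⊥ := by
  classical
  obtain ⟨K₀, ⟨Λ₀, hΛ₀, rfl⟩, hmin⟩ := IsArtinian.set_has_minimal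
    {K : Submodule R M | ∃ Λ : Finset (M →ₗ[k] k),
      (∀ lam ∈ Λ, ∃ g₀ : ℤ, IsHomFun ℳ lam g₀) ∧ K = kerOf (R := R) Λ}
    ⟨kerOf (R := R) ∅, ∅, fun _ h => absurd h (Finset.notMem_empty _), rfl⟩
  refine ⟨Λ₀, hΛ₀, ?_⟩
  rw [eq_bot_iff]
  intro x hx
  rw [Submodule.mem_bot]
  by_contra hx0
  -- a nonzero component
  obtain ⟨a, ha⟩ : ∃ a : ℤ, ((DirectSum.decompose ℳ x) a : M) ≠ 0 := by
    by_contra hall
    push Not at hall
    apply hx0
    rw [← DirectSum.sum_support_decompose ℳ x]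
    exact Finset.sum_eq_zero fun i _ => hall i
  obtain ⟨μ, hμ⟩ := Module.Projective.exists_dual_ne_zero k ha
  obtain ⟨lam, hlam⟩ : ∃ lam : M →ₗ[k] k, lam = μ.comp (compL 𝒜 ℳ a) := ⟨_, rfl⟩
  have hhom : IsHomFun ℳ lam a := by
    intro m hm y hy
    rw [hlam, LinearMap.comp_apply, compL_of_mem_ne 𝒜 ℳ hy hm, map_zero]
  have hmem : kerOf (R := R) (insert lam Λ₀) ∈ {K : Submodule R M | ∃ Λ : Finset (M →ₗ[k] k),
      (∀ lam ∈ Λ, ∃ g₀ : ℤ, IsHomFun ℳ lam g₀) ∧ K = kerOf (R := R) Λ} := by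
    refine ⟨insert lam Λ₀, ?_, rfl⟩
    intro l hl
    rcases Finset.mem_insert.mp hl with rfl | hl
    · exact ⟨a, hhom⟩
    · exact hΛ₀ l hl
  have hle : kerOf (R := R) (insert lam Λ₀) ≤ kerOf (R := R) Λ₀ := by
    intro y hy l hl r
    exact hy l (Finset.mem_insert_of_mem hl) r
  have hne : kerOf (R := R) (insert lam Λ₀) ≠ kerOf (R := R) Λ₀ := by
    intro heq
    rw [← heq] at hx
    have := hx lam (Finset.mem_insert_self _ _) 1
    rw [one_smul, hlam, LinearMap.comp_apply, compL_apply] at this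
    exact hμ this
  exact hmin _ hmem (lt_of_le_of_ne hle hne)

include hD in
/-- **An Artinian graded module embeds, by a graded map, into a finite sum of shifted copies of
`R^*`.** -/
theorem exists_embedding_of_isArtinian [IsArtinian R M] :
    ∃ (t : ℕ) (sh : Fin t → ℤ) (f : M →ₗ[R] (Fin t → D)), Function.Injective f ∧
      ∀ (i : Fin t) (g : ℤ) (x : M), x ∈ ℳ g → f x i ∈ 𝒟 (g + sh i) := by
  classical
  obtain ⟨Λ, hΛ, hbot⟩ := exists_finset_kerOf_eq_bot 𝒜 ℳ (R := R)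
  choose g₀ hg₀ using hΛ
  obtain ⟨lamI, hlamI⟩ : ∃ lamI : Fin Λ.card → {l // l ∈ Λ}, ∀ i, lamI i = Λ.equivFin.symm i :=
    ⟨fun i => Λ.equivFin.symm i, fun i => rfl⟩
  refine ⟨Λ.card, fun i => -(g₀ (lamI i).1 (lamI i).2),
    LinearMap.pi fun i => homMap 𝒜 ℳ 𝒟 hD (hg₀ (lamI i).1 (lamI i).2), ?_, ?_⟩
  · rw [injective_iff_map_eq_zero]
    intro x hx
    have hxk : x ∈ kerOf (R := R) Λ := by
      intro l hl r
      obtain ⟨i, hi⟩ : ∃ i, lamI i = ⟨l, hl⟩ :=
        ⟨Λ.equivFin ⟨l, hl⟩, by rw [hlamI, Equiv.symm_apply_apply]⟩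
      have h1 := congrFun hx i
      rw [LinearMap.pi_apply, Pi.zero_apply] at h1
      have h2 := pair_homMap 𝒜 ℳ 𝒟 hD (hg₀ (lamI i).1 (lamI i).2) x r
      rw [h1, map_zero, LinearMap.zero_apply] at h2
      have h3 : (lamI i).1 = l := by rw [hi]
      rw [h3] at h2
      exact h2.symm
    rw [hbot] at hxk
    exact (Submodule.mem_bot R).mp hxk
  · intro i g x hx
    rw [LinearMap.pi_apply, ← sub_eq_add_neg]
    exact homMap_mem 𝒜 ℳ 𝒟 hD _ hx

end Emb

end Groth.Agent.Lib.LeadGD
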