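import Groth.Agent.Lib.LeadGDd

/-!
# Graded duals (lead), part e: reflexivity, and the graded dual of an Artinian module is finite

* `isGDual_flip`: if the pieces of `M` are finite-dimensional, `M` is the graded dual of `M^*`;
* `exists_lower_bound_of_finite`: a finitely generated graded module is bounded below;
* `finite_of_isGDual_of_isArtinian`: the graded dual of an Artinian graded module is finitely
  generated.
-/

set_option autoImplicit false
set_option maxHeartbeats 400000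
set_option linter.style.haveILetI false
set_option linter.unusedSectionVars false
set_option linter.unusedVariables false

universe u

noncomputable section

namespace Groth.Agent.Lib.LeadGD

open DirectSum

section Refl

variable {k : Type u} [Field k] {R : Type u} [CommRing R] [Algebra k R]
  (𝒜 : ℤ → Submodule k R) [GradedAlgebra 𝒜]
  {M : Type u} [AddCommGroup M] [Module R M] [Module k M] [IsScalarTower k R M]
  {τ : Type u} [SetLike τ M] [AddSubgroupClass τ M]
  (ℳ : ℤ → τ) [DirectSum.Decomposition ℳ] [SetLike.GradedSMul 𝒜 ℳ]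
  {D : Type u} [AddCommGroup D] [Module R D] [Module k D] [IsScalarTower k R D]
  {τ' : Type u} [SetLike τ' D] [AddSubgroupClass τ' D]
  (𝒟 : ℤ → τ') [DirectSum.Decomposition 𝒟] [SetLike.GradedSMul 𝒜 𝒟]
  {β : D →ₗ[k] M →ₗ[k] k} (hD : GrSeg.IsGDual R ℳ 𝒟 β)

include hD in
/-- the pairing is nondegenerate on the module side, piece by piece -/
lemma eq_zero_of_flip {n : ℤ} {x : M} (hx : x ∈ ℳ n) (h : ∀ d ∈ 𝒟 (-n), β d x = 0) : x = 0 := by
  by_contra hx0
  obtain ⟨μ, hμ⟩ := Module.Projective.exists_dual_ne_zero k hx0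
  obtain ⟨d, hd, hdx⟩ := hD.exists_eq (-n) μ
  have hx' : x ∈ ℳ (- -n) := by rwa [neg_neg]
  exact hμ ((hdx x hx').symm.trans (h d hd))

include hD in
/-- the piece `D_{-n}` is the full dual of `M_n`: dimensions agree -/
lemma exists_linearEquiv_dual (n : ℤ) :
    ∃ Ψ : pc 𝒜 𝒟 (-n) ≃ₗ[k] Module.Dual k (pc 𝒜 ℳ n),
      ∀ (d : pc 𝒜 𝒟 (-n)) (x : pc 𝒜 ℳ n), Ψ d x = β (d : D) (x : M) := by
  classical
  obtain ⟨Ψ₀, hΨ₀⟩ : ∃ Ψ₀ : pc 𝒜 𝒟 (-n) →ₗ[k] Module.Dual k (pc 𝒜 ℳ n),
      ∀ (d : pc 𝒜 𝒟 (-n)) (x : pc 𝒜 ℳ n), Ψ₀ d x = β (d : D) (x : M) :=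
    ⟨((LinearMap.lcomp k k (pc 𝒜 ℳ n).subtype).comp β).comp (pc 𝒜 𝒟 (-n)).subtype,
      fun d x => rfl⟩
  have hinj : Function.Injective Ψ₀ := by
    rw [injective_iff_map_eq_zero]
    intro d hd0
    apply Subtype.ext
    refine hD.eq_zero (-n) d d.2 fun x hx => ?_
    have hx' : x ∈ ℳ n := by rwa [neg_neg] at hx
    have := LinearMap.congr_fun hd0 (⟨x, hx'⟩ : pc 𝒜 ℳ n)
    rwa [hΨ₀] at this
  have hsurj : Function.Surjective Ψ₀ := by
    intro φ
    obtain ⟨g, hg⟩ := LinearMap.exists_extend φ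
    obtain ⟨d, hd, hdx⟩ := hD.exists_eq (-n) g
    refine ⟨⟨d, hd⟩, ?_⟩
    ext x
    rw [hΨ₀]
    have hx' : (x : M) ∈ ℳ (- -n) := by
      rw [neg_neg]
      exact x.2
    rw [hdx _ hx', ← hg]
    rfl
  exact ⟨LinearEquiv.ofBijective Ψ₀ ⟨hinj, hsurj⟩, fun d x => hΨ₀ d x⟩

include hD in
/-- **reflexivity**: when the pieces of `M` are finite-dimensional, `M` is the graded dual of its
graded dual, for the transposed pairing -/
theorem isGDual_flip (hfin : ∀ n : ℤ, FiniteDimensional k (pc 𝒜 ℳ n)) :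
    GrSeg.IsGDual R 𝒟 ℳ β.flip := by
  classical
  refine ⟨?_, ?_, ?_, ?_⟩
  · intro r x d
    rw [LinearMap.flip_apply, LinearMap.flip_apply]
    exact (hD.map_smul r d x).symm
  · intro n x hx m hm d hd
    rw [LinearMap.flip_apply]
    refine hD.vanish m d hd n ?_ x hx
    intro h
    apply hm
    rw [h, neg_neg]
  · intro n x hx h
    refine eq_zero_of_flip ℳ 𝒟 hD hx fun d hd => ?_
    have := h d hd
    rwa [LinearMap.flip_apply] at this
  · intro n g
    haveI := hfin n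
    obtain ⟨Ψ, hΨ⟩ := exists_linearEquiv_dual 𝒜 ℳ 𝒟 hD n
    haveI : FiniteDimensional k (pc 𝒜 𝒟 (-n)) := Module.Finite.equiv Ψ.symm
    -- the map `M_n → (D_{-n})^*`
    obtain ⟨Φ, hΦ⟩ : ∃ Φ : pc 𝒜 ℳ n →ₗ[k] Module.Dual k (pc 𝒜 𝒟 (-n)),
        ∀ (x : pc 𝒜 ℳ n) (d : pc 𝒜 𝒟 (-n)), Φ x d = β (d : D) (x : M) :=
      ⟨((LinearMap.lcomp k k (pc 𝒜 𝒟 (-n)).subtype).comp β.flip).comp (pc 𝒜 ℳ n).subtype,
        fun x d => rfl⟩
    have hinj : Function.Injective Φ := by
      rw [injective_iff_map_eq_zero]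
      intro x hx0
      apply Subtype.ext
      refine eq_zero_of_flip ℳ 𝒟 hD x.2 fun d hd => ?_
      have := LinearMap.congr_fun hx0 (⟨d, hd⟩ : pc 𝒜 𝒟 (-n))
      rwa [hΦ] at this
    have hdim : Module.finrank k (pc 𝒜 ℳ n) = Module.finrank k (Module.Dual k (pc 𝒜 𝒟 (-n))) := by
      rw [Subspace.dual_finrank_eq, Ψ.finrank_eq, Subspace.dual_finrank_eq]
    have hsurj := (LinearMap.injective_iff_surjective_of_finrank_eq_finrank hdim).mp hinj
    obtain ⟨x, hx⟩ := hsurj (g.comp (pc 𝒜 𝒟 (-n)).subtype)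
    refine ⟨(x : M), x.2, fun d hd => ?_⟩
    rw [LinearMap.flip_apply]
    have := LinearMap.congr_fun hx (⟨d, hd⟩ : pc 𝒜 𝒟 (-n))
    rw [hΦ] at this
    exact this

end Refl

section Bdd

variable {k : Type u} [Field k] {R : Type u} [CommRing R] [Algebra k R]
  (𝒜 : ℤ → Submodule k R) [GradedAlgebra 𝒜]
  {M : Type u} [AddCommGroup M] [Module R M] [Module k M] [IsScalarTower k R M]
  {τ : Type u} [SetLike τ M] [AddSubgroupClass τ M]
  (ℳ : ℤ → τ) [DirectSum.Decomposition ℳ] [SetLike.GradedSMul 𝒜 ℳ]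

/-- a finitely generated graded module over a nonnegatively graded ring is bounded below -/
theorem exists_lower_bound_of_finite [Module.Finite R M] (hpos : ∀ n : ℤ, n < 0 → 𝒜 n = ⊥) :
    ∃ L : ℤ, ∀ n : ℤ, n < L → ∀ x ∈ ℳ n, x = 0 := by
  classical
  obtain ⟨S, hS⟩ := (Module.finite_def.mp (inferInstance : Module.Finite R M))
  obtain ⟨U, hU⟩ := ((S.biUnion fun g => (DirectSum.decompose ℳ g).support).image
    (fun i : ℤ => -i)).exists_le
  refine ⟨-U, fun n hn x hx => ?_⟩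
  have htop : geSub 𝒜 ℳ hpos (-U) = ⊤ := by
    rw [eq_top_iff, ← hS, Submodule.span_le]
    intro g hg j hj
    by_contra hne
    have hmem : j ∈ (DirectSum.decompose ℳ g).support := by
      rw [DFinsupp.mem_support_toFun]
      intro h0
      apply hne
      rw [h0, ZeroMemClass.coe_zero]
    have := hU (-j) (Finset.mem_image_of_mem _ (Finset.mem_biUnion.mpr ⟨g, hg, hmem⟩))
    omega
  have hxm : x ∈ geSub 𝒜 ℳ hpos (-U) := by
    rw [htop]
    exact Submodule.mem_top
  have := hxm n hn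
  rwa [DirectSum.decompose_of_mem_same ℳ hx] at this

end Bdd

section FG

variable {k : Type u} [Field k] {R : Type u} [CommRing R] [Algebra k R]
  (𝒜 : ℤ → Submodule k R) [GradedAlgebra 𝒜]
  {M : Type u} [AddCommGroup M] [Module R M] [Module k M] [IsScalarTower k R M]
  {τ : Type u} [SetLike τ M] [AddSubgroupClass τ M]
  (ℳ : ℤ → τ) [DirectSum.Decomposition ℳ] [SetLike.GradedSMul 𝒜 ℳ]
  {D : Type u} [AddCommGroup D] [Module R D] [Module k D] [IsScalarTower k R D]
  {τ' : Type u} [SetLike τ' D] [AddSubgroupClass τ' D]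
  (𝒟 : ℤ → τ') [DirectSum.Decomposition 𝒟] [SetLike.GradedSMul 𝒜 𝒟]
  {β : D →ₗ[k] M →ₗ[k] k} (hD : GrSeg.IsGDual R ℳ 𝒟 β)

include hD in
/-- the submodule of `M` orthogonal to a submodule of `D` -/
def perpOf (G : Submodule R D) : Submodule R M where
  carrier := {x | ∀ d ∈ G, β d x = 0}
  add_mem' := by
    intro x y hx hy d hd
    rw [map_add, hx d hd, hy d hd, add_zero]
  zero_mem' := fun d _ => map_zero _
  smul_mem' := by
    intro r x hx d hd
    rw [← hD.map_smul]
    exact hx _ (G.smul_mem r hd)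

lemma mem_perpOf {G : Submodule R D} {x : M} :
    x ∈ perpOf ℳ 𝒟 hD G ↔ ∀ d ∈ G, β d x = 0 := Iff.rfl

lemma perpOf_anti {G G' : Submodule R D} (h : G ≤ G') :
    perpOf ℳ 𝒟 hD G' ≤ perpOf ℳ 𝒟 hD G := fun x hx d hd => hx d (h hd)

include 𝒜 in
/-- the span of a set of homogeneous elements is stable under taking components -/
lemma decompose_mem_span_of_homogeneous (S : Set D) (hS : ∀ d ∈ S, ∃ e : ℤ, d ∈ 𝒟 e) {y : D}
    (hy : y ∈ Submodule.span R S) (e : ℤ) :
    ((DirectSum.decompose 𝒟 y) e : D) ∈ Submodule.span R S := by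
  classical
  induction hy using Submodule.span_induction generalizing e with
  | mem d hd =>
    obtain ⟨e₀, he₀⟩ := hS d hd
    by_cases hee : e₀ = e
    · subst hee
      rw [DirectSum.decompose_of_mem_same 𝒟 he₀]
      exact Submodule.subset_span hd
    · rw [DirectSum.decompose_of_mem_ne 𝒟 he₀ hee]
      exact Submodule.zero_mem _
  | zero =>
    rw [DirectSum.decompose_zero, DirectSum.zero_apply, ZeroMemClass.coe_zero]
    exact Submodule.zero_mem _
  | add y z _ _ hy hz =>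
    rw [DirectSum.decompose_add, DirectSum.add_apply, AddMemClass.coe_add]
    exact Submodule.add_mem _ (hy e) (hz e)
  | smul r y _ hy =>
    rw [decompose_smul_eq_sum 𝒜 𝒟 r y e]
    exact Submodule.sum_mem _ fun a _ => Submodule.smul_mem _ _ (hy (e - a))

include hD in
/-- **The graded dual of an Artinian graded module is finitely generated.** -/
theorem finite_of_isGDual_of_isArtinian [IsArtinian R M]
    (h0 : 𝒜 0 = Submodule.span k {(1 : R)}) : Module.Finite R D := by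
  classical
  have hfin := finiteDimensional_pc_of_isArtinian 𝒜 ℳ h0
  obtain ⟨P₀, ⟨S₀, hS₀, rfl⟩, hmin⟩ := IsArtinian.set_has_minimal
    {P : Submodule R M | ∃ S : Finset D, (∀ d ∈ S, ∃ e : ℤ, d ∈ 𝒟 e) ∧
      P = perpOf ℳ 𝒟 hD (Submodule.span R (S : Set D))}
    ⟨_, ∅, fun _ h => absurd h (Finset.notMem_empty _), rfl⟩
  -- every homogeneous element lies in the span of `S₀`
  have hhom : ∀ (e : ℤ) (c : D), c ∈ 𝒟 e → c ∈ Submodule.span R (S₀ : Set D) := by
    intro e c hc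
    by_contra hcG
    obtain ⟨W, hWdef⟩ : ∃ W : Submodule k D,
        W = (Submodule.span R (S₀ : Set D)).restrictScalars k ⊓ pc 𝒜 𝒟 e := ⟨_, rfl⟩
    have hcW : c ∉ W := by
      rw [hWdef]
      intro h
      exact hcG h.1
    obtain ⟨x, hx, hxW, hxc⟩ := exists_sep 𝒜 ℳ 𝒟 hD (hfin (-e)) W hc
      (fun w hw => by rw [hWdef] at hw; exact hw.2) hcW
    have hxP : x ∈ perpOf ℳ 𝒟 hD (Submodule.span R (S₀ : Set D)) := by
      intro d hd
      rw [pair_eq_comp' ℳ 𝒟 hD hx d, neg_neg]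
      apply hxW
      rw [hWdef]
      exact ⟨decompose_mem_span_of_homogeneous 𝒜 𝒟 _ (fun d hd => hS₀ d hd) hd e,
        SetLike.coe_mem _⟩
    have hmem : perpOf ℳ 𝒟 hD (Submodule.span R ((insert c S₀ : Finset D) : Set D)) ∈
        {P : Submodule R M | ∃ S : Finset D, (∀ d ∈ S, ∃ e : ℤ, d ∈ 𝒟 e) ∧
          P = perpOf ℳ 𝒟 hD (Submodule.span R (S : Set D))} := by
      refine ⟨insert c S₀, ?_, rfl⟩
      intro d hd
      rcases Finset.mem_insert.mp hd with rfl | hd
      · exact ⟨e, hc⟩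
      · exact hS₀ d hd
    have hle : perpOf ℳ 𝒟 hD (Submodule.span R ((insert c S₀ : Finset D) : Set D)) ≤
        perpOf ℳ 𝒟 hD (Submodule.span R (S₀ : Set D)) := by
      refine perpOf_anti ℳ 𝒟 hD (Submodule.span_mono ?_)
      rw [Finset.coe_insert]
      exact Set.subset_insert _ _
    have hne : perpOf ℳ 𝒟 hD (Submodule.span R ((insert c S₀ : Finset D) : Set D)) ≠
        perpOf ℳ 𝒟 hD (Submodule.span R (S₀ : Set D)) := by
      intro heq
      rw [← heq] at hxP
      apply hxc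
      refine hxP c (Submodule.subset_span ?_)
      rw [Finset.coe_insert]
      exact Set.mem_insert _ _
    exact hmin _ hmem (lt_of_le_of_ne hle hne)
  refine ⟨⟨S₀, ?_⟩⟩
  rw [eq_top_iff]
  intro d _
  rw [← DirectSum.sum_support_decompose 𝒟 d]
  exact Submodule.sum_mem _ fun e _ => hhom e _ (SetLike.coe_mem _)

end FG

end Groth.Agent.Lib.LeadGD
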