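import Groth.Agent.Lib.LeadHMa
import Mathlib.Algebra.Polynomial.AlgebraMap
import Mathlib.LinearAlgebra.Dimension.Constructions
import Mathlib.LinearAlgebra.Dimension.Free

/-!
# Hilbert functions of standard graded Cohen–Macaulay rings are nondecreasing (lead), part b:
a dimension count with a generic linear form (McCoy).
-/

set_option autoImplicit false
set_option maxHeartbeats 400000
set_option linter.style.haveILetI false
set_option linter.unusedSectionVars false
set_option linter.unusedVariables false

universe u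

noncomputable section

open Polynomial

namespace Groth.Agent.Lib.LeadHM

section Core

variable {K : Type*} [CommRing K] {R : Type*} [CommRing R] [Module K R] [IsScalarTower K R R]
  [SMulCommClass K R R] (V W : Submodule K R)

/-- the polynomial with prescribed coefficients -/
def toPoly (N : ℕ) (f : Fin N → V) : R[X] := ∑ i : Fin N, Polynomial.monomial (i : ℕ) ((f i : V) : R)

lemma coeff_toPoly (N : ℕ) (f : Fin N → V) (j : ℕ) :
    (toPoly V N f).coeff j = if h : j < N then ((f ⟨j, h⟩ : V) : R) else 0 := by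
  rw [toPoly, Polynomial.finsetSum_coeff]
  simp only [Polynomial.coeff_monomial]
  split_ifs with h
  · rw [Finset.sum_eq_single (⟨j, h⟩ : Fin N)]
    · rw [if_pos rfl]
    · intro b _ hb
      rw [if_neg]
      intro hbj
      exact hb (Fin.ext hbj)
    · intro hn
      exact absurd (Finset.mem_univ _) hn
  · refine Finset.sum_eq_zero fun i _ => ?_
    rw [if_neg]
    intro hij
    apply h
    rw [← hij]
    exact i.2

lemma coeff_toPoly_mem (N : ℕ) (f : Fin N → V) (j : ℕ) : (toPoly V N f).coeff j ∈ V := by
  rw [coeff_toPoly]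
  split_ifs with h
  · exact (f ⟨j, h⟩).2
  · exact V.zero_mem

lemma toPoly_injective (N : ℕ) : Function.Injective (toPoly V N) := by
  intro f g hfg
  funext i
  have h1 := congrArg (fun P => P.coeff (i : ℕ)) hfg
  simp only [coeff_toPoly, i.2, dif_pos, Fin.eta] at h1
  exact Subtype.ext h1

variable (ℓ : R[X]) (hVW : ∀ i : ℕ, ∀ v ∈ V, ℓ.coeff i * v ∈ W)

include hVW in
lemma coeff_mul_toPoly_mem (N : ℕ) (f : Fin N → V) (j : ℕ) : (ℓ * toPoly V N f).coeff j ∈ W := by
  rw [Polynomial.coeff_mul]
  exact W.sum_mem fun ab _ => hVW ab.1 _ (coeff_toPoly_mem V N f ab.2)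

lemma coeff_mul_toPoly_eq_zero (N : ℕ) (f : Fin N → V) (j : ℕ) (hj : N + (ℓ.natDegree + 1) ≤ j) :
    (ℓ * toPoly V N f).coeff j = 0 := by
  rw [Polynomial.coeff_mul]
  refine Finset.sum_eq_zero fun ab hab => ?_
  have hsum : ab.1 + ab.2 = j := Finset.mem_antidiagonal.mp hab
  by_cases ha : ℓ.natDegree < ab.1
  · rw [Polynomial.coeff_eq_zero_of_natDegree_lt ha, zero_mul]
  · have hb : ¬ ab.2 < N := by omega
    rw [coeff_toPoly, dif_neg hb, mul_zero]

/-- multiplication by `ℓ`, on coefficient vectors -/
def mulMap (N : ℕ) : (Fin N → V) →ₗ[K] (Fin (N + (ℓ.natDegree + 1)) → W) where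
  toFun f j := ⟨(ℓ * toPoly V N f).coeff (j : ℕ), coeff_mul_toPoly_mem V W ℓ hVW N f j⟩
  map_add' f g := by
    funext j
    apply Subtype.ext
    have h1 : toPoly V N (f + g) = toPoly V N f + toPoly V N g := by
      ext b
      rw [Polynomial.coeff_add, coeff_toPoly, coeff_toPoly, coeff_toPoly]
      split_ifs with h
      · rfl
      · rw [add_zero]
    show (ℓ * toPoly V N (f + g)).coeff (j : ℕ) =
      (ℓ * toPoly V N f).coeff (j : ℕ) + (ℓ * toPoly V N g).coeff (j : ℕ)
    rw [h1, mul_add, Polynomial.coeff_add]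
  map_smul' c f := by
    funext j
    apply Subtype.ext
    show (ℓ * toPoly V N (c • f)).coeff (j : ℕ) = c • (ℓ * toPoly V N f).coeff (j : ℕ)
    rw [Polynomial.coeff_mul, Polynomial.coeff_mul, Finset.smul_sum]
    refine Finset.sum_congr rfl fun ab _ => ?_
    rw [coeff_toPoly, coeff_toPoly]
    split_ifs with h
    · show ℓ.coeff ab.1 * (c • ((f ⟨ab.2, h⟩ : V) : R)) = c • (ℓ.coeff ab.1 * ((f ⟨ab.2, h⟩ : V) : R))
      rw [mul_smul_comm]
    · rw [mul_zero, smul_zero]

lemma mulMap_injective (hℓ : ℓ ∈ nonZeroDivisors R[X]) (N : ℕ) :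
    Function.Injective (mulMap V W ℓ hVW N) := by
  rw [← LinearMap.ker_eq_bot, LinearMap.ker_eq_bot']
  intro f hf
  have hzero : ℓ * toPoly V N f = 0 := by
    ext j
    rw [Polynomial.coeff_zero]
    by_cases hj : j < N + (ℓ.natDegree + 1)
    · have h1 := congrArg (fun g => ((g ⟨j, hj⟩ : W) : R)) hf
      exact h1
    · exact coeff_mul_toPoly_eq_zero V ℓ N f j (by omega)
  have hP : toPoly V N f = 0 := by
    rcases mem_nonZeroDivisors_iff.mp hℓ with ⟨h1, h2⟩
    first
      | exact h1 _ hzero
      | exact h2 _ hzero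
      | exact h1 _ (by rw [mul_comm]; exact hzero)
      | exact h2 _ (by rw [mul_comm]; exact hzero)
  apply toPoly_injective V N
  rw [hP]
  ext j
  rw [Polynomial.coeff_zero, coeff_toPoly]
  split_ifs with h
  · rfl
  · rfl

include hVW in
/-- the dimension count -/
theorem finrank_le_of_nzd (hK : IsField K) [Module.Finite K V] [Module.Finite K W]
    (hℓ : ℓ ∈ nonZeroDivisors R[X]) : Module.finrank K V ≤ Module.finrank K W := by
  classical
  letI : Field K := hK.toField
  haveI : Nontrivial K := hK.nontrivial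
  have key : ∀ N : ℕ, N * Module.finrank K V ≤ (N + (ℓ.natDegree + 1)) * Module.finrank K W := by
    intro N
    have h1 := LinearMap.finrank_le_finrank_of_injective (mulMap_injective V W ℓ hVW hℓ N)
    have hV : Module.finrank K (Fin N → V) = N * Module.finrank K V := by
      rw [Module.finrank_pi_fintype, Finset.sum_const, Finset.card_univ, Fintype.card_fin,
        smul_eq_mul]
    have hW : Module.finrank K (Fin (N + (ℓ.natDegree + 1)) → W) =
        (N + (ℓ.natDegree + 1)) * Module.finrank K W := by
      rw [Module.finrank_pi_fintype, Finset.sum_const, Finset.card_univ, Fintype.card_fin,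
        smul_eq_mul]
    rwa [hV, hW] at h1
  by_contra hcon
  push Not at hcon
  have h2 := key ((ℓ.natDegree + 1) * Module.finrank K W + 1)
  have h3 : Module.finrank K W + 1 ≤ Module.finrank K V := hcon
  have h4 := Nat.mul_le_mul_left ((ℓ.natDegree + 1) * Module.finrank K W + 1) h3
  nlinarith

end Core

end Groth.Agent.Lib.LeadHM
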