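import Groth.Agent.Lib.LeadSPd
import Groth.Agent.Lib.LeadHMb

/-!
# Gorenstein Segre products in dimension one (lead), part a: Hilbert functions

`R` is a standard graded algebra over a field `k` (`ℤ`-graded by `k`-subspaces, vanishing negative
part, `R_0 = k`).

* `finite_piece`: the pieces `R_n` are finite-dimensional;
* `hilb_le_succ`: if `R` is Cohen–Macaulay of positive dimension, `H(n) ≤ H(n+1)`;
* `exists_hilb_const`: if moreover `dim R = 1`, then `H` is eventually constant;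
* `nonempty_algEquiv_polynomial`: if `H(1) ≤ 1` then `R ≅ k[X]`.
-/

set_option autoImplicit false
set_option maxHeartbeats 400000
set_option linter.style.haveILetI false
set_option linter.unusedSectionVars false
set_option linter.unusedVariables false

universe u

noncomputable section

namespace Groth.Agent.Lib.LeadGS

open Groth.Agent.Lib DirectSum Polynomial

section Hilb

variable {k : Type u} [Field k] {R : Type u} [CommRing R] [Algebra k R]
  (𝒜 : ℤ → Submodule k R) [GradedAlgebra 𝒜]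

/-- finitely many generators of degree one of the irrelevant ideal -/
lemma exists_gens [IsNoetherianRing R]
    (hstd : Ideal.span (⋃ n ∈ Set.Ioi (0 : ℤ), (𝒜 n : Set R)) =
      Ideal.span ((𝒜 1 : Submodule k R) : Set R)) :
    ∃ (m : ℕ) (x : Fin m → R), (∀ i, x i ∈ 𝒜 1) ∧
      LeadSeg.irr 𝒜 = Ideal.span (Set.range x) := by
  classical
  have hfg : (Ideal.span ((𝒜 1 : Submodule k R) : Set R)).FG := IsNoetherian.noetherian _
  obtain ⟨s', hs', hspan⟩ := (Submodule.fg_span_iff_fg_span_finset_subset _).mp hfg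
  refine ⟨s'.card, fun i => (s'.equivFin.symm i : R), fun i => hs' (s'.equivFin.symm i).2, ?_⟩
  have hrange : Set.range (fun i => (s'.equivFin.symm i : R)) = (s' : Set R) := by
    ext y
    constructor
    · rintro ⟨i, rfl⟩
      exact (s'.equivFin.symm i).2
    · intro hy
      exact ⟨s'.equivFin ⟨y, hy⟩, by simp⟩
  rw [hrange, LeadSeg.irr, hstd]
  exact hspan

variable {m : ℕ} (x : Fin m → R)

/-- the sum-of-multiples map `(R_n)^m → R` -/
def gensLin (n : ℤ) : (Fin m → 𝒜 n) →ₗ[k] R :=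
  ∑ i : Fin m, (LinearMap.mulLeft k (x i)).comp ((𝒜 n).subtype.comp (LinearMap.proj i))

lemma gensLin_apply (n : ℤ) (f : Fin m → 𝒜 n) : gensLin 𝒜 x n f = ∑ i, x i * (f i : R) := by
  simp [gensLin, LinearMap.sum_apply]

lemma piece_le_range_gensLin (hx : ∀ i, x i ∈ 𝒜 1)
    (hirr : LeadSeg.irr 𝒜 = Ideal.span (Set.range x)) {n : ℤ} (hn : 0 ≤ n) :
    𝒜 (n + 1) ≤ LinearMap.range (gensLin 𝒜 x n) := by
  classical
  intro y hy
  have hyirr : y ∈ LeadSeg.irr 𝒜 := LeadSP.mem_irr_of_mem 𝒜 (by omega) hy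
  rw [hirr] at hyirr
  obtain ⟨c, hc⟩ := (Ideal.mem_span_range_iff_exists_fun).mp hyirr
  refine ⟨fun i => ⟨(DirectSum.decompose 𝒜 (c i) n : R), (DirectSum.decompose 𝒜 (c i) n).2⟩, ?_⟩
  rw [gensLin_apply]
  show ∑ i, x i * (DirectSum.decompose 𝒜 (c i) n : R) = y
  have h1 : (DirectSum.decompose 𝒜 y (n + 1) : R) = y := DirectSum.decompose_of_mem_same 𝒜 hy
  rw [← h1, ← hc, DirectSum.decompose_sum, DFinsupp.finsetSum_apply,
    AddSubmonoidClass.coe_finsetSum]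
  refine Finset.sum_congr rfl fun i _ => ?_
  rw [DirectSum.coe_decompose_mul_add_of_right_mem 𝒜 (hx i), mul_comm]

/-- the graded pieces of a standard graded algebra are finite-dimensional -/
theorem finite_piece [IsNoetherianRing R] (hpos : ∀ n : ℤ, n < 0 → 𝒜 n = ⊥)
    (h0 : 𝒜 0 = Submodule.span k {(1 : R)})
    (hstd : Ideal.span (⋃ n ∈ Set.Ioi (0 : ℤ), (𝒜 n : Set R)) =
      Ideal.span ((𝒜 1 : Submodule k R) : Set R)) (n : ℤ) :
    Module.Finite k (𝒜 n) := by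
  classical
  rcases lt_or_ge n 0 with hn | hn
  · rw [hpos n hn]
    infer_instance
  obtain ⟨j, rfl⟩ : ∃ j : ℕ, n = (j : ℤ) := ⟨n.toNat, (Int.toNat_of_nonneg hn).symm⟩
  clear hn
  obtain ⟨m, x, hx, hirr⟩ := exists_gens 𝒜 hstd
  induction j with
  | zero =>
    rw [Nat.cast_zero, h0]
    infer_instance
  | succ j ih =>
    haveI := ih
    have hle := piece_le_range_gensLin 𝒜 x hx hirr (n := (j : ℤ)) (by omega)
    have hcast : ((j + 1 : ℕ) : ℤ) = (j : ℤ) + 1 := by push_cast; ring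
    rw [hcast]
    haveI : Module.Finite k (LinearMap.range (gensLin 𝒜 x (j : ℤ))) := inferInstance
    exact Submodule.finiteDimensional_of_le hle

/-- the Hilbert function -/
def hilb (n : ℕ) : ℕ := Module.finrank k (𝒜 (n : ℤ))

lemma hilb_zero [Nontrivial R] (h0 : 𝒜 0 = Submodule.span k {(1 : R)}) : hilb 𝒜 0 = 1 := by
  unfold hilb
  rw [Nat.cast_zero, h0]
  exact finrank_span_singleton one_ne_zero

/-- **The Hilbert function of a standard graded Cohen–Macaulay algebra of positive dimension is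
nondecreasing.** -/
theorem hilb_le_succ [hCM : LocCoh.IsCohenMacaulayRing R]
    (hpos : ∀ n : ℤ, n < 0 → 𝒜 n = ⊥) (h0 : 𝒜 0 = Submodule.span k {(1 : R)})
    (hstd : Ideal.span (⋃ n ∈ Set.Ioi (0 : ℤ), (𝒜 n : Set R)) =
      Ideal.span ((𝒜 1 : Submodule k R) : Set R))
    (h1 : 1 ≤ ringKrullDim R) (n : ℕ) : hilb 𝒜 n ≤ hilb 𝒜 (n + 1) := by
  classical
  obtain ⟨m, x, hx, hirr⟩ := exists_gens 𝒜 hstd
  obtain ⟨x₀, d₀, hd₀, hx₀, hx₀reg⟩ := LeadSP.exists_homogeneous_nzd 𝒜 hpos h0 h1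
  haveI := finite_piece 𝒜 hpos h0 hstd (n : ℤ)
  haveI := finite_piece 𝒜 hpos h0 hstd ((n : ℤ) + 1)
  obtain ⟨ℓ, hℓdef⟩ : ∃ ℓ : R[X], ℓ = ∑ i : Fin m, Polynomial.monomial (i : ℕ) (x i) := ⟨_, rfl⟩
  have hcoeff : ∀ j : ℕ, ℓ.coeff j = if h : j < m then x ⟨j, h⟩ else 0 := by
    intro j
    rw [hℓdef, Polynomial.finsetSum_coeff]
    simp only [Polynomial.coeff_monomial]
    split_ifs with h
    · rw [Finset.sum_eq_single (⟨j, h⟩ : Fin m)]
      · rw [if_pos rfl]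
      · intro b _ hb
        rw [if_neg]
        intro hbj
        exact hb (Fin.ext hbj)
      · intro hn'
        exact absurd (Finset.mem_univ _) hn'
    · refine Finset.sum_eq_zero fun i _ => ?_
      rw [if_neg]
      intro hij
      apply h
      rw [← hij]
      exact i.2
  have hx₀irr : x₀ ∈ LeadSeg.irr 𝒜 := LeadSP.mem_irr_of_mem 𝒜 (by exact_mod_cast hd₀) hx₀
  have hnzd : ℓ ∈ nonZeroDivisors R[X] := by
    rw [Polynomial.mem_nonZeroDivisors_iff]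
    intro a ha
    rw [hirr] at hx₀irr
    obtain ⟨c, hc⟩ := (Ideal.mem_span_range_iff_exists_fun).mp hx₀irr
    apply (mem_nonZeroDivisors_iff_right.mp hx₀reg) a
    rw [← hc, Finset.mul_sum]
    refine Finset.sum_eq_zero fun i _ => ?_
    have h2 := congrArg (fun P => P.coeff (i : ℕ)) ha
    simp only [Polynomial.coeff_smul, Polynomial.coeff_zero, hcoeff, i.2, dif_pos, Fin.eta,
      smul_eq_mul] at h2
    rw [mul_left_comm, h2, mul_zero]
  have hVW : ∀ j : ℕ, ∀ v ∈ 𝒜 (n : ℤ), ℓ.coeff j * v ∈ 𝒜 ((n : ℤ) + 1) := by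
    intro j v hv
    rw [hcoeff]
    split_ifs with h
    · have := SetLike.GradedMul.mul_mem (hx ⟨j, h⟩) hv
      rwa [add_comm] at this
    · rw [zero_mul]
      exact Submodule.zero_mem _
  have key := LeadHM.finrank_le_of_nzd (𝒜 (n : ℤ)) (𝒜 ((n : ℤ) + 1)) ℓ hVW
    (Field.toIsField k) hnzd
  unfold hilb
  have hcast : ((n + 1 : ℕ) : ℤ) = (n : ℤ) + 1 := by push_cast; ring
  rw [hcast]
  exact key

lemma hilb_le_add [hCM : LocCoh.IsCohenMacaulayRing R]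
    (hpos : ∀ n : ℤ, n < 0 → 𝒜 n = ⊥) (h0 : 𝒜 0 = Submodule.span k {(1 : R)})
    (hstd : Ideal.span (⋃ n ∈ Set.Ioi (0 : ℤ), (𝒜 n : Set R)) =
      Ideal.span ((𝒜 1 : Submodule k R) : Set R))
    (h1 : 1 ≤ ringKrullDim R) (n j : ℕ) : hilb 𝒜 n ≤ hilb 𝒜 (n + j) := by
  induction j with
  | zero => exact le_rfl
  | succ j ih => exact ih.trans (hilb_le_succ 𝒜 hpos h0 hstd h1 (n + j))

lemma hilb_mono [hCM : LocCoh.IsCohenMacaulayRing R]
    (hpos : ∀ n : ℤ, n < 0 → 𝒜 n = ⊥) (h0 : 𝒜 0 = Submodule.span k {(1 : R)})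
    (hstd : Ideal.span (⋃ n ∈ Set.Ioi (0 : ℤ), (𝒜 n : Set R)) =
      Ideal.span ((𝒜 1 : Submodule k R) : Set R))
    (h1 : 1 ≤ ringKrullDim R) {a b : ℕ} (hab : a ≤ b) : hilb 𝒜 a ≤ hilb 𝒜 b := by
  obtain ⟨j, rfl⟩ := Nat.exists_eq_add_of_le hab
  exact hilb_le_add 𝒜 hpos h0 hstd h1 a j

/-- **In dimension one the Hilbert function is eventually constant.** -/
theorem exists_hilb_const [hCM : LocCoh.IsCohenMacaulayRing R]
    (hpos : ∀ n : ℤ, n < 0 → 𝒜 n = ⊥) (h0 : 𝒜 0 = Submodule.span k {(1 : R)})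
    (hstd : Ideal.span (⋃ n ∈ Set.Ioi (0 : ℤ), (𝒜 n : Set R)) =
      Ideal.span ((𝒜 1 : Submodule k R) : Set R))
    (hr : ringKrullDim R = 1) :
    ∃ N : ℕ, ∀ n : ℕ, N ≤ n → hilb 𝒜 n = hilb 𝒜 N := by
  classical
  have h1 : 1 ≤ ringKrullDim R := by rw [hr]
  obtain ⟨x, d, hd, hx, hxreg⟩ := LeadSP.exists_homogeneous_nzd 𝒜 hpos h0 h1
  obtain ⟨N, hN⟩ := LeadSP.exists_forall_div 𝒜 hpos h0 hstd hr hd hx hxreg
  have hback : ∀ n : ℕ, N ≤ n → hilb 𝒜 (n + d) ≤ hilb 𝒜 n := by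
    intro n hn
    haveI := finite_piece 𝒜 hpos h0 hstd (n : ℤ)
    obtain ⟨g, hgdef⟩ : ∃ g : 𝒜 (n : ℤ) →ₗ[k] R, g = (LinearMap.mulLeft k x).comp (𝒜 (n : ℤ)).subtype :=
      ⟨_, rfl⟩
    have hle : 𝒜 ((n : ℤ) + d) ≤ LinearMap.range g := by
      intro ρ hρ
      obtain ⟨ρ', hρ', rfl⟩ := hN n hn ρ hρ
      exact ⟨⟨ρ', hρ'⟩, by rw [hgdef]; rfl⟩
    unfold hilb
    have hcast : ((n + d : ℕ) : ℤ) = (n : ℤ) + d := by push_cast; ring
    rw [hcast]
    exact (Submodule.finrank_mono hle).trans (LinearMap.finrank_range_le g)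
  have hstep : ∀ n : ℕ, N ≤ n → hilb 𝒜 (n + 1) = hilb 𝒜 n := by
    intro n hn
    apply le_antisymm _ (hilb_le_succ 𝒜 hpos h0 hstd h1 n)
    obtain ⟨d', rfl⟩ : ∃ d', d = d' + 1 := ⟨d - 1, by omega⟩
    have h2 := hilb_le_add 𝒜 hpos h0 hstd h1 (n + 1) d'
    have h3 : n + 1 + d' = n + (d' + 1) := by ring
    rw [h3] at h2
    exact h2.trans (hback n hn)
  refine ⟨N, fun n hn => ?_⟩
  obtain ⟨j, rfl⟩ := Nat.exists_eq_add_of_le hn
  induction j with
  | zero => rfl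
  | succ j ih =>
    rw [← add_assoc, hstep (N + j) (Nat.le_add_right N j)]
    exact ih (Nat.le_add_right N j)

/-- **A standard graded Cohen–Macaulay algebra of positive dimension with `dim_k R_1 ≤ 1` is a
polynomial ring in one variable.** -/
theorem nonempty_algEquiv_polynomial [hCM : LocCoh.IsCohenMacaulayRing R]
    (hpos : ∀ n : ℤ, n < 0 → 𝒜 n = ⊥) (h0 : 𝒜 0 = Submodule.span k {(1 : R)})
    (hstd : Ideal.span (⋃ n ∈ Set.Ioi (0 : ℤ), (𝒜 n : Set R)) =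
      Ideal.span ((𝒜 1 : Submodule k R) : Set R))
    (h1 : 1 ≤ ringKrullDim R) (hH : hilb 𝒜 1 ≤ 1) :
    ∃ y ∈ 𝒜 1, y ∈ nonZeroDivisors R ∧ ∀ n : ℕ, ∀ ρ ∈ 𝒜 (n : ℤ), ∃ c : k, ρ = c • y ^ n := by
  classical
  haveI : Nontrivial R := by
    by_contra hnt
    rw [not_nontrivial_iff_subsingleton] at hnt
    rw [ringKrullDim_eq_bot_of_subsingleton] at h1
    exact absurd h1 (by simp)
  haveI := finite_piece 𝒜 hpos h0 hstd 1
  obtain ⟨x, d, hd, hx, hxreg⟩ := LeadSP.exists_homogeneous_nzd 𝒜 hpos h0 h1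
  have hH' : Module.finrank k (𝒜 1) ≤ 1 := by
    unfold hilb at hH
    rwa [Nat.cast_one] at hH
  obtain ⟨y, hy, hgen⟩ : ∃ y ∈ 𝒜 1, ∀ y' ∈ 𝒜 1, ∃ c : k, y' = c • y := by
    obtain ⟨v, hv⟩ := finrank_le_one_iff.mp hH'
    refine ⟨v, v.2, fun y' hy' => ?_⟩
    obtain ⟨c, hc⟩ := hv ⟨y', hy'⟩
    exact ⟨c, by rw [← Submodule.coe_smul, hc]⟩
  have hP := LeadSP.piece_eq_span_pow 𝒜 h0 hstd hgen
  obtain ⟨c, hc⟩ := hP d x hx
  have hyreg : y ∈ nonZeroDivisors R := by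
    rw [mem_nonZeroDivisors_iff_right]
    intro z hz
    apply (mem_nonZeroDivisors_iff_right.mp hxreg) z
    obtain ⟨d', rfl⟩ : ∃ d', d = d' + 1 := ⟨d - 1, by omega⟩
    rw [hc, mul_smul_comm, pow_succ', ← mul_assoc, hz, zero_mul, smul_zero]
  exact ⟨y, hy, hyreg, hP⟩

end Hilb

end Groth.Agent.Lib.LeadGS
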