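import Groth.Agent.Lib.LeadGSa

/-!
# Gorenstein Segre products in dimension one (lead), part b: the pieces of a Segre product

* `finrank_segre_piece`: `dim T_n = dim R_n · dim S_n`;
* `exists_segre_nzd`: a homogeneous non-zero-divisor of positive degree of `T = R # S`;
* `mulPiece`: multiplication by a homogeneous element between pieces; `piece_le_span_of_finrank_eq`.
-/

set_option autoImplicit false
set_option maxHeartbeats 400000
set_option linter.style.haveILetI false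
set_option linter.unusedSectionVars false
set_option linter.unusedVariables false

universe u

noncomputable section

namespace Groth.Agent.Lib.LeadGS

open Groth.Agent.Lib DirectSum TensorProduct

section Segre

variable {k : Type u} [Field k] {R S T : Type u} [CommRing R] [CommRing S] [CommRing T]
  [Algebra k R] [Algebra k S] [Algebra k T]
  (𝒜 : ℤ → Submodule k R) [GradedAlgebra 𝒜] (ℬ : ℤ → Submodule k S) [GradedAlgebra ℬ]
  (𝒯 : ℤ → Submodule k T) [GradedAlgebra 𝒯] (ψ : T →ₐ[k] R ⊗[k] S)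
  (hψ : Function.Injective ψ)
  (hdegT : ∀ n : ℤ, (𝒯 n).map ψ.toLinearMap =
    Submodule.span k {x : R ⊗[k] S | ∃ a ∈ 𝒜 n, ∃ b ∈ ℬ n, x = a ⊗ₜ[k] b})

lemma span_eq_range (n : ℤ) :
    Submodule.span k {x : R ⊗[k] S | ∃ a ∈ 𝒜 n, ∃ b ∈ ℬ n, x = a ⊗ₜ[k] b} =
      LinearMap.range (TensorProduct.map (𝒜 n).subtype (ℬ n).subtype) := by
  rw [TensorProduct.range_map_eq_span_tmul]
  congr 1
  ext x
  constructor
  · rintro ⟨a, ha, b, hb, rfl⟩
    exact ⟨⟨a, ha⟩, ⟨b, hb⟩, rfl⟩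
  · rintro ⟨a, b, rfl⟩
    exact ⟨a, a.2, b, b.2, rfl⟩

include hψ hdegT in
/-- the piece `T_n` of the Segre product is `R_n ⊗ S_n` -/
theorem nonempty_pieceEquiv (n : ℤ) : Nonempty (𝒯 n ≃ₗ[k] (𝒜 n) ⊗[k] (ℬ n)) := by
  have hinj : Function.Injective (TensorProduct.map (𝒜 n).subtype (ℬ n).subtype) :=
    TensorProduct.map_injective_of_flat_flat _ _ (Submodule.injective_subtype _)
      (Submodule.injective_subtype _)
  have e1 : 𝒯 n ≃ₗ[k] (𝒯 n).map ψ.toLinearMap :=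
    Submodule.equivMapOfInjective ψ.toLinearMap hψ (𝒯 n)
  have e2 : (𝒯 n).map ψ.toLinearMap ≃ₗ[k]
      LinearMap.range (TensorProduct.map (𝒜 n).subtype (ℬ n).subtype) :=
    LinearEquiv.ofEq _ _ (by rw [hdegT, span_eq_range])
  have e3 : (𝒜 n) ⊗[k] (ℬ n) ≃ₗ[k]
      LinearMap.range (TensorProduct.map (𝒜 n).subtype (ℬ n).subtype) :=
    LinearEquiv.ofInjective _ hinj
  exact ⟨(e1.trans e2).trans e3.symm⟩

include hψ hdegT in
theorem finite_segre_piece (n : ℤ) [Module.Finite k (𝒜 n)] [Module.Finite k (ℬ n)] :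
    Module.Finite k (𝒯 n) := by
  obtain ⟨e⟩ := nonempty_pieceEquiv 𝒜 ℬ 𝒯 ψ hψ hdegT n
  exact Module.Finite.equiv e.symm

include hψ hdegT in
theorem finrank_segre_piece (n : ℤ) [Module.Finite k (𝒜 n)] [Module.Finite k (ℬ n)] :
    Module.finrank k (𝒯 n) = Module.finrank k (𝒜 n) * Module.finrank k (ℬ n) := by
  obtain ⟨e⟩ := nonempty_pieceEquiv 𝒜 ℬ 𝒯 ψ hψ hdegT n
  rw [e.finrank_eq, Module.finrank_tensorProduct]

include hψ hdegT in
/-- a homogeneous non-zero-divisor of positive degree in the Segre product -/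
theorem exists_segre_nzd
    (hposR : ∀ n : ℤ, n < 0 → 𝒜 n = ⊥) (h0R : 𝒜 0 = Submodule.span k {(1 : R)})
    (hposS : ∀ n : ℤ, n < 0 → ℬ n = ⊥) (h0S : ℬ 0 = Submodule.span k {(1 : S)})
    [hR : LocCoh.IsCohenMacaulayRing R] [hS : LocCoh.IsCohenMacaulayRing S]
    (hr1 : 1 ≤ ringKrullDim R) (hs1 : 1 ≤ ringKrullDim S) :
    ∃ (D : ℕ) (t : T), 0 < D ∧ t ∈ 𝒯 (D : ℤ) ∧ t ∈ nonZeroDivisors T := by
  classical
  obtain ⟨x, d, hd, hx, hxreg⟩ := LeadSP.exists_homogeneous_nzd 𝒜 hposR h0R hr1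
  obtain ⟨w, e, he, hw, hwreg⟩ := LeadSP.exists_homogeneous_nzd ℬ hposS h0S hs1
  obtain ⟨D, hDdef⟩ : ∃ D : ℕ, D = d * e := ⟨_, rfl⟩
  have hDpos : 0 < D := by
    rw [hDdef]
    exact Nat.mul_pos hd he
  have hX : x ^ e ∈ 𝒜 (D : ℤ) := by
    have h1 := SetLike.pow_mem_graded e hx
    have h2 : e • (d : ℤ) = ((D : ℕ) : ℤ) := by
      rw [hDdef, nsmul_eq_mul]
      push_cast
      ring
    rwa [h2] at h1
  have hW : w ^ d ∈ ℬ (D : ℤ) := by
    have h1 := SetLike.pow_mem_graded d hw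
    have h2 : d • (e : ℤ) = ((D : ℕ) : ℤ) := by
      rw [hDdef, nsmul_eq_mul]
      push_cast
      ring
    rwa [h2] at h1
  have hXreg : x ^ e ∈ nonZeroDivisors R := pow_mem hxreg _
  have hWreg : w ^ d ∈ nonZeroDivisors S := pow_mem hwreg _
  obtain ⟨a, ha, hψa⟩ := LeadSP.exists_preimage 𝒜 ℬ 𝒯 ψ hdegT hX hW
  refine ⟨D, a, hDpos, ha, ?_⟩
  rw [mem_nonZeroDivisors_iff_right]
  intro z hz
  apply hψ
  rw [map_zero]
  have h1 : ψ z * ((x ^ e) ⊗ₜ[k] (w ^ d)) = 0 := by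
    rw [← hψa, ← map_mul, hz, map_zero]
  have h2 : (x ^ e) ⊗ₜ[k] (w ^ d) ∈ nonZeroDivisors (R ⊗[k] S) := by
    have := mul_mem (LeadSP.tmul_one_mem_nonZeroDivisors (k := k) (S := S) hXreg)
      (LeadSP.one_tmul_mem_nonZeroDivisors (k := k) (R := R) hWreg)
    rwa [Algebra.TensorProduct.tmul_mul_tmul, mul_one, one_mul] at this
  exact (mem_nonZeroDivisors_iff_right.mp h2) _ h1

end Segre

section Mul

variable {k : Type u} [Field k] {T : Type u} [CommRing T] [Algebra k T]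
  (𝒯 : ℤ → Submodule k T) [GradedAlgebra 𝒯]

/-- multiplication by a homogeneous element, between pieces -/
def mulPiece {D : ℤ} {t : T} (ht : t ∈ 𝒯 D) (m e : ℤ) (he : D + m = e) : 𝒯 m →ₗ[k] 𝒯 e :=
  LinearMap.codRestrict (𝒯 e) ((LinearMap.mulLeft k t).comp (𝒯 m).subtype) (fun a => by
    rw [← he]
    exact SetLike.GradedMul.mul_mem ht a.2)

lemma coe_mulPiece {D : ℤ} {t : T} (ht : t ∈ 𝒯 D) (m e : ℤ) (he : D + m = e) (a : 𝒯 m) :
    (mulPiece 𝒯 ht m e he a : T) = t * (a : T) := rfl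

lemma mulPiece_injective {D : ℤ} {t : T} (ht : t ∈ 𝒯 D) (htreg : t ∈ nonZeroDivisors T)
    (m e : ℤ) (he : D + m = e) : Function.Injective (mulPiece 𝒯 ht m e he) := by
  rw [injective_iff_map_eq_zero]
  intro a ha
  have h1 : t * (a : T) = 0 := by
    rw [← coe_mulPiece 𝒯 ht m e he a, ha, ZeroMemClass.coe_zero]
  exact Subtype.ext ((mem_nonZeroDivisors_iff.mp htreg).1 _ h1)

/-- a homogeneous multiple of `t` of degree `e` is `t` times an element of degree `e - D` -/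
lemma mem_range_mulPiece {D : ℤ} {t : T} (ht : t ∈ 𝒯 D) (m e : ℤ) (he : D + m = e) {a : T}
    (ha : a ∈ 𝒯 e) (hmem : a ∈ Ideal.span {t}) :
    (⟨a, ha⟩ : 𝒯 e) ∈ LinearMap.range (mulPiece 𝒯 ht m e he) := by
  have ha' : a ∈ 𝒯 (m + D) := by rwa [add_comm, he]
  obtain ⟨ρ', hρ', hρe⟩ := LeadSP.exists_eq_mul_of_mem_span 𝒯 ht ha' hmem
  exact ⟨⟨ρ', hρ'⟩, Subtype.ext (by rw [coe_mulPiece]; exact hρe.symm)⟩

/-- if `dim T_m = dim T_{m+D}`, every element of `T_{m+D}` is a multiple of the regular element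
`t ∈ T_D` -/
theorem piece_le_span_of_finrank_eq {D : ℤ} {t : T} (ht : t ∈ 𝒯 D) (htreg : t ∈ nonZeroDivisors T)
    (m e : ℤ) (he : D + m = e) [Module.Finite k (𝒯 m)] [Module.Finite k (𝒯 e)]
    (hfr : Module.finrank k (𝒯 m) = Module.finrank k (𝒯 e)) :
    ∀ a ∈ 𝒯 e, a ∈ Ideal.span {t} := by
  intro a ha
  have hsurj := (LinearMap.injective_iff_surjective_of_finrank_eq_finrank hfr).mp
    (mulPiece_injective 𝒯 ht htreg m e he)
  obtain ⟨b, hb⟩ := hsurj ⟨a, ha⟩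
  have h1 : a = t * (b : T) := by
    rw [← coe_mulPiece 𝒯 ht m e he b, hb]
  rw [h1]
  exact Ideal.mul_mem_right _ _ (Ideal.mem_span_singleton_self t)

end Mul

end Groth.Agent.Lib.LeadGS
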