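import Groth.Agent.Lib.LeadGSb
import Groth.Agent.Lib.Helper5GorRing

/-!
# Gorenstein Segre products in dimension one (lead), part c: the socle of `T/tT`

`T` is a connected graded `k`-algebra which is a Gorenstein ring, `t ∈ T_D` a homogeneous
non-zero-divisor of positive degree and `s` a degree such that `T_n ⊆ tT` for all `n > s`.  Then
`T/tT` is an Artinian Gorenstein local ring, the image of `T_s` lies in its (one-dimensional) socle,
hence `dim T_s ≤ dim T_{s-D} + 1`.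
-/

set_option autoImplicit false
set_option maxHeartbeats 400000
set_option linter.style.haveILetI false
set_option linter.unusedSectionVars false
set_option linter.unusedVariables false

universe u

noncomputable section

namespace Groth.Agent.Lib.LeadGS

open Groth.Agent.Lib DirectSum LocCoh IsLocalRing

/-- a Gorenstein ring which is local is a Gorenstein local ring -/
theorem gorLocal_of_gorRing_of_isLocalRing (A : Type u) [CommRing A] [IsLocalRing A]
    [hA : IsGorensteinRing A] : IsGorensteinLocalRing A := by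
  haveI h1 := hA.isGorensteinLocalRing_localization (maximalIdeal A)
  have H : (maximalIdeal A).primeCompl ≤ IsUnit.submonoid A := by
    intro x hx
    exact IsLocalRing.notMem_maximalIdeal.mp hx
  exact Helper5.GorRing.gorLocal_of_ringEquiv
    (IsLocalization.atUnits A (maximalIdeal A).primeCompl
      (S := Localization.AtPrime (maximalIdeal A)) H).symm.toRingEquiv

section Gor

variable {k : Type u} [Field k] {T : Type u} [CommRing T] [Algebra k T]
  (𝒯 : ℤ → Submodule k T) [GradedAlgebra 𝒯]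

/-- **the image of the top piece in `T/tT` is at most a line** -/
theorem exists_smul_of_gorenstein [Nontrivial T] [hG : IsGorensteinRing T]
    (hpos : ∀ n : ℤ, n < 0 → 𝒯 n = ⊥) (h0 : 𝒯 0 = Submodule.span k {(1 : T)})
    {D : ℕ} (hD : 0 < D) {t : T} (ht : t ∈ 𝒯 (D : ℤ)) (htreg : t ∈ nonZeroDivisors T)
    (s : ℤ) (hs : ∀ n : ℤ, s < n → ∀ a ∈ 𝒯 n, a ∈ Ideal.span {t})
    {a b : T} (ha : a ∈ 𝒯 s) (hb : b ∈ 𝒯 s) (hbt : b ∉ Ideal.span {t}) :
    ∃ c : k, a - c • b ∈ Ideal.span {t} := by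
  classical
  obtain ⟨I, hI⟩ : ∃ I : Ideal T, I = Ideal.span {t} := ⟨_, rfl⟩
  rw [← hI] at hbt hs ⊢
  obtain ⟨π, hπ⟩ : ∃ π : T →+* T ⧸ I, π = Ideal.Quotient.mk I := ⟨_, rfl⟩
  have hπsurj : Function.Surjective π := by
    rw [hπ]
    exact Ideal.Quotient.mk_surjective
  have hπ0 : ∀ z : T, π z = 0 ↔ z ∈ I := fun z => by
    rw [hπ]
    exact Ideal.Quotient.eq_zero_iff_mem
  haveI h𝔪 : (LeadSeg.irr 𝒯).IsMaximal := LeadSeg.irr_isMaximal 𝒯 hpos h0
  have htirr : t ∈ LeadSeg.irr 𝒯 := LeadSP.mem_irr_of_mem 𝒯 (by exact_mod_cast hD) ht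
  have hIle : I ≤ LeadSeg.irr 𝒯 := by
    rw [hI]
    exact (Ideal.span_singleton_le_iff_mem _).mpr htirr
  obtain ⟨N, hN⟩ : ∃ N : ℕ, s < (N : ℤ) := ⟨(s + 1).toNat, by omega⟩
  have hpow : LeadSeg.irr 𝒯 ^ N ≤ I := by
    refine (LeadSP.irr_pow_le 𝒯 N).trans ?_
    unfold LeadSP.geI
    rw [Ideal.span_le]
    intro x hx
    simp only [Set.mem_iUnion, Set.mem_Ici, SetLike.mem_coe, exists_prop] at hx
    obtain ⟨i, hi, hxi⟩ := hx
    exact hs i (by omega) x hxi
  have hreg : IsSMulRegular T t := (isRegular_iff_mem_nonZeroDivisors.mpr htreg).left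
  haveI hGA : IsGorensteinRing (T ⧸ I) := by
    rw [hI]
    exact Helper5.GorRing.gorRing_quotient_of_regular t hreg
  haveI : IsNoetherianRing (T ⧸ I) := inferInstance
  obtain ⟨M, hM⟩ : ∃ M : Ideal (T ⧸ I), M = (LeadSeg.irr 𝒯).map π := ⟨_, rfl⟩
  have hker : Ideal.comap π ⊥ = I := by
    rw [hπ, ← RingHom.ker_eq_comap_bot, Ideal.mk_ker]
  have hMmax : M.IsMaximal := by
    rcases Ideal.map_eq_top_or_isMaximal_of_surjective π hπsurj h𝔪 with h | h
    · exfalso
      have h1 := Ideal.comap_map_of_surjective π hπsurj (LeadSeg.irr 𝒯)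
      rw [h, Ideal.comap_top, hker, sup_eq_left.mpr hIle] at h1
      exact h𝔪.ne_top h1.symm
    · rw [hM]
      exact h
  have hMpow : M ^ N = ⊥ := by
    rw [hM, ← Ideal.map_pow, eq_bot_iff]
    refine (Ideal.map_mono hpow).trans ?_
    rw [hπ, Ideal.map_quotient_self]
  haveI : IsLocalRing (T ⧸ I) := IsLocalRing.of_unique_max_ideal ⟨M, hMmax, fun M' hM' => by
    have hle : M ≤ M' := by
      have : M ^ N ≤ M' := by
        rw [hMpow]
        exact bot_le
      exact hM'.isPrime.le_of_pow_le this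
    exact (hMmax.eq_of_le hM'.ne_top hle).symm⟩
  have hmax : maximalIdeal (T ⧸ I) = M := (IsLocalRing.eq_maximalIdeal hMmax).symm
  haveI : IsArtinianRing (T ⧸ I) :=
    (isArtinianRing_iff_isNilpotent_maximalIdeal (T ⧸ I)).mpr ⟨N, by rw [hmax]; exact hMpow⟩
  haveI := gorLocal_of_gorRing_of_isLocalRing (T ⧸ I)
  obtain ⟨σ, hσ0, hsoc⟩ := Helper5.GorArt.T1_of_gor (T ⧸ I)
  have hsocmem : ∀ a ∈ 𝒯 s, π a ∈ Helper5.GorArt.soc (T ⧸ I) := by
    intro a ha μ hμ
    rw [hmax, hM] at hμ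
    obtain ⟨u, hu, rfl⟩ := (Ideal.mem_map_iff_of_surjective π hπsurj).mp hμ
    rw [← map_mul, hπ0]
    clear hμ
    unfold LeadSeg.irr at hu
    induction hu using Submodule.span_induction with
    | mem y hy =>
      simp only [Set.mem_iUnion, Set.mem_Ioi, SetLike.mem_coe, exists_prop] at hy
      obtain ⟨n, hn, hyn⟩ := hy
      exact hs (n + s) (by omega) _ (SetLike.GradedMul.mul_mem hyn ha)
    | zero =>
      rw [zero_mul]
      exact Ideal.zero_mem _
    | add y z _ _ hy hz =>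
      rw [add_mul]
      exact Ideal.add_mem _ hy hz
    | smul c y _ hy =>
      rw [smul_eq_mul, mul_assoc]
      exact Ideal.mul_mem_left _ _ hy
  have hσsoc : σ ∈ Helper5.GorArt.soc (T ⧸ I) := by
    rw [hsoc]
    exact Ideal.mem_span_singleton_self σ
  have hπa := hsocmem a ha
  have hπb := hsocmem b hb
  rw [hsoc] at hπa hπb
  obtain ⟨r, hr⟩ := Ideal.mem_span_singleton'.mp hπa
  obtain ⟨r', hr'⟩ := Ideal.mem_span_singleton'.mp hπb
  have hπb0 : π b ≠ 0 := fun h => hbt ((hπ0 b).mp h)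
  have hr'unit : IsUnit r' := by
    by_contra hnu
    have hmem : r' ∈ maximalIdeal (T ⧸ I) := (IsLocalRing.mem_maximalIdeal r').mpr hnu
    exact hπb0 (by rw [← hr']; exact hσsoc r' hmem)
  obtain ⟨u', hu'⟩ := hr'unit
  obtain ⟨v, hv⟩ := hπsurj (r * ↑u'⁻¹)
  have hab : π a = π v * π b := by
    rw [hv, ← hr', ← hu', mul_assoc, ← mul_assoc (↑u'⁻¹ : T ⧸ I), Units.inv_mul, one_mul, hr]
  obtain ⟨v₀, hv₀def⟩ : ∃ v₀ : T, v₀ = (DirectSum.decompose 𝒯 v 0 : T) := ⟨_, rfl⟩
  have hv₀mem : v₀ ∈ 𝒯 0 := hv₀def ▸ (DirectSum.decompose 𝒯 v 0).2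
  have hvirr : v - v₀ ∈ LeadSeg.irr 𝒯 := by
    rw [hv₀def]
    exact LeadSeg.sub_decompose_zero_mem_irrelevant 𝒯 hpos v
  rw [h0] at hv₀mem
  obtain ⟨c, hc⟩ := Submodule.mem_span_singleton.mp hv₀mem
  refine ⟨c, ?_⟩
  have hcb : c • b = v₀ * b := by rw [← hc, smul_mul_assoc, one_mul]
  rw [← hπ0, hcb, map_sub, map_mul, hab, ← sub_mul, ← map_sub]
  refine hsocmem b hb (π (v - v₀)) ?_
  rw [hmax, hM]
  exact Ideal.mem_map_of_mem π hvirr

/-- **the Gorenstein inequality** `dim T_s ≤ dim T_{s-D} + 1` -/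
theorem finrank_le_of_gorenstein [Nontrivial T] [hG : IsGorensteinRing T]
    (hpos : ∀ n : ℤ, n < 0 → 𝒯 n = ⊥) (h0 : 𝒯 0 = Submodule.span k {(1 : T)})
    (hfin : ∀ n : ℤ, Module.Finite k (𝒯 n))
    {D : ℕ} (hD : 0 < D) {t : T} (ht : t ∈ 𝒯 (D : ℤ)) (htreg : t ∈ nonZeroDivisors T)
    (s : ℤ) (hs : ∀ n : ℤ, s < n → ∀ a ∈ 𝒯 n, a ∈ Ideal.span {t}) :
    Module.finrank k (𝒯 s) ≤ Module.finrank k (𝒯 (s - D)) + 1 := by
  classical
  haveI := hfin s
  haveI := hfin (s - D)
  obtain ⟨g, hgdef⟩ : ∃ g : 𝒯 s →ₗ[k] (T ⧸ Ideal.span {t}),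
      g = ((Ideal.Quotient.mkₐ k (Ideal.span {t})).toLinearMap).comp (𝒯 s).subtype := ⟨_, rfl⟩
  have hg : ∀ a : 𝒯 s, g a = Ideal.Quotient.mk (Ideal.span {t}) (a : T) := fun a => by
    rw [hgdef]
    rfl
  have hg0 : ∀ a : 𝒯 s, g a = 0 ↔ (a : T) ∈ Ideal.span {t} := fun a => by
    rw [hg, Ideal.Quotient.eq_zero_iff_mem]
  have hrk := LinearMap.finrank_range_add_finrank_ker g
  have h1 : Module.finrank k (LinearMap.range g) ≤ 1 := by
    by_cases hall : ∃ b : 𝒯 s, (b : T) ∉ Ideal.span {t}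
    · obtain ⟨b, hb⟩ := hall
      refine finrank_le_one (⟨g b, LinearMap.mem_range_self g b⟩ : LinearMap.range g) ?_
      rintro ⟨w, a, rfl⟩
      obtain ⟨c, hc⟩ := exists_smul_of_gorenstein 𝒯 hpos h0 hD ht htreg s hs a.2 b.2 hb
      refine ⟨c, Subtype.ext ?_⟩
      show c • g b = g a
      have h2 : g (a - c • b) = 0 := by
        rw [hg0]
        exact hc
      rw [map_sub, map_smul, sub_eq_zero] at h2
      exact h2.symm
    · push Not at hall
      have : LinearMap.range g = ⊥ := by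
        rw [LinearMap.range_eq_bot]
        ext a
        rw [LinearMap.zero_apply, hg0]
        exact hall a
      rw [this, finrank_bot]
      exact Nat.zero_le _
  have h2 : Module.finrank k (LinearMap.ker g) ≤ Module.finrank k (𝒯 (s - D)) := by
    have hle : LinearMap.ker g ≤
        LinearMap.range (mulPiece 𝒯 ht (s - D) s (by ring)) := by
      intro a ha
      rw [LinearMap.mem_ker, hg0] at ha
      exact mem_range_mulPiece 𝒯 ht (s - D) s (by ring) a.2 ha
    exact (Submodule.finrank_mono hle).trans (LinearMap.finrank_range_le _)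
  omega

end Gor

end Groth.Agent.Lib.LeadGS
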