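import Groth.Agent.Lib.LeadGSc

/-!
# Gorenstein Segre products in dimension one (lead), part d: numerics and the main theorem

`R`, `S` standard graded Cohen–Macaulay `k`-algebras of dimension one, `R` not a polynomial ring.
If the Segre product `T = R # S` is Gorenstein then `S ≅ k[X]` and `R` is Gorenstein.
-/

set_option autoImplicit false
set_option maxHeartbeats 400000
set_option linter.style.haveILetI false
set_option linter.unusedSectionVars false
set_option linter.unusedVariables false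

universe u

noncomputable section

namespace Groth.Agent.Lib.LeadGS

open Groth.Agent.Lib DirectSum TensorProduct LocCoh

/-- the arithmetic heart: two nondecreasing, eventually constant Hilbert functions whose product
satisfies the Gorenstein inequality; then one of the two multiplicities is one -/
theorem numerics (hR hS : ℕ → ℕ) (eR eS NR NS D : ℕ) (hD : 0 < D)
    (hRmono : ∀ a b : ℕ, a ≤ b → hR a ≤ hR b) (hSmono : ∀ a b : ℕ, a ≤ b → hS a ≤ hS b)
    (hR0 : hR 0 = 1) (hS0 : hS 0 = 1)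
    (hRc : ∀ n, NR ≤ n → hR n = eR) (hSc : ∀ n, NS ≤ n → hS n = eS)
    (hG : ∀ m : ℕ, (∀ n, m < n → hR n * hS n = hR (n + D) * hS (n + D)) →
      hR (m + D) * hS (m + D) ≤ hR m * hS m + 1) :
    eR = 1 ∨ eS = 1 := by
  classical
  have hRle : ∀ n, hR n ≤ eR := fun n => by
    rw [← hRc (max n NR) (le_max_right _ _)]
    exact hRmono _ _ (le_max_left _ _)
  have hSle : ∀ n, hS n ≤ eS := fun n => by
    rw [← hSc (max n NS) (le_max_right _ _)]
    exact hSmono _ _ (le_max_left _ _)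
  have hRge : ∀ n, 1 ≤ hR n := fun n => by
    rw [← hR0]
    exact hRmono _ _ (Nat.zero_le n)
  have hSge : ∀ n, 1 ≤ hS n := fun n => by
    rw [← hS0]
    exact hSmono _ _ (Nat.zero_le n)
  have heR1 : 1 ≤ eR := (hRge 0).trans (hRle 0)
  have heS1 : 1 ≤ eS := (hSge 0).trans (hSle 0)
  by_contra hcon
  push Not at hcon
  obtain ⟨hne1, hne2⟩ := hcon
  have heR2 : 2 ≤ eR := by omega
  have heS2 : 2 ≤ eS := by omega
  obtain ⟨B, hBdef⟩ : ∃ B : ℕ, B = max NR NS := ⟨_, rfl⟩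
  have hTle : ∀ n, hR n * hS n ≤ eR * eS := fun n => Nat.mul_le_mul (hRle n) (hSle n)
  have hTB : ∀ n, B ≤ n → hR n * hS n = eR * eS := by
    intro n hn
    rw [hRc n (le_trans (by rw [hBdef]; exact le_max_left _ _) hn),
      hSc n (le_trans (by rw [hBdef]; exact le_max_right _ _) hn)]
  have h4 : 4 ≤ eR * eS := by nlinarith
  let P : ℕ → Prop := fun m => hR m * hS m < eR * eS
  have hP0 : P 0 := by
    show hR 0 * hS 0 < eR * eS
    rw [hR0, hS0]
    omega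
  obtain ⟨m, hmdef⟩ : ∃ m : ℕ, m = Nat.findGreatest P B := ⟨_, rfl⟩
  have hPm : P m := by
    rw [hmdef]
    exact Nat.findGreatest_spec (Nat.zero_le B) hP0
  have hTgt : ∀ n, m < n → hR n * hS n = eR * eS := by
    intro n hn
    rcases le_or_gt n B with hnB | hnB
    · have hnP : ¬ P n := Nat.findGreatest_is_greatest (by rw [← hmdef]; exact hn) hnB
      exact le_antisymm (hTle n) (not_lt.mp hnP)
    · exact hTB n hnB.le
  have hineq := hG m (fun n hn => by rw [hTgt n hn, hTgt (n + D) (by omega)])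
  rw [hTgt (m + D) (by omega)] at hineq
  have hPm' : hR m * hS m < eR * eS := hPm
  obtain ⟨a, ha1, ha2, b, hb1, hb2, heq⟩ : ∃ a, 1 ≤ a ∧ a ≤ eR ∧ ∃ b, 1 ≤ b ∧ b ≤ eS ∧
      a * b + 1 = eR * eS :=
    ⟨hR m, hRge m, hRle m, hS m, hSge m, hSle m, by omega⟩
  rcases lt_or_eq_of_le ha2 with ha | ha
  · rcases lt_or_eq_of_le hb2 with hb | hb
    · have := Nat.mul_le_mul (Nat.succ_le_of_lt ha) (Nat.succ_le_of_lt hb)
      nlinarith
    · subst hb
      have := Nat.mul_le_mul_right b (Nat.succ_le_of_lt ha)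
      nlinarith
  · subst ha
    rcases lt_or_eq_of_le hb2 with hb | hb
    · have := Nat.mul_le_mul_left a (Nat.succ_le_of_lt hb)
      nlinarith
    · subst hb
      omega

section Main

variable {k : Type u} [Field k] {R S T : Type u} [CommRing R] [CommRing S] [CommRing T]
  [Algebra k R] [Algebra k S] [Algebra k T]
  (𝒜 : ℤ → Submodule k R) [GradedAlgebra 𝒜] (ℬ : ℤ → Submodule k S) [GradedAlgebra ℬ]
  (𝒯 : ℤ → Submodule k T) [GradedAlgebra 𝒯] (ψ : T →ₐ[k] R ⊗[k] S)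
  (hψ : Function.Injective ψ)
  (hdegT : ∀ n : ℤ, (𝒯 n).map ψ.toLinearMap =
    Submodule.span k {x : R ⊗[k] S | ∃ a ∈ 𝒜 n, ∃ b ∈ ℬ n, x = a ⊗ₜ[k] b})

/-- the swapped presentation of the Segre product -/
def swapψ : T →ₐ[k] S ⊗[k] R := (Algebra.TensorProduct.comm k R S).toAlgHom.comp ψ

lemma swapψ_apply (t : T) : swapψ ψ t = Algebra.TensorProduct.comm k R S (ψ t) := rfl

include hψ in
lemma swapψ_injective : Function.Injective (swapψ ψ) := by
  intro a b hab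
  rw [swapψ_apply, swapψ_apply] at hab
  exact hψ ((Algebra.TensorProduct.comm k R S).injective hab)

include hdegT in
lemma swapψ_deg (n : ℤ) : (𝒯 n).map (swapψ ψ).toLinearMap =
    Submodule.span k {x : S ⊗[k] R | ∃ a ∈ ℬ n, ∃ b ∈ 𝒜 n, x = a ⊗ₜ[k] b} := by
  have h1 : (swapψ ψ).toLinearMap =
      (Algebra.TensorProduct.comm k R S).toLinearMap.comp ψ.toLinearMap := rfl
  rw [h1, Submodule.map_comp, hdegT, Submodule.map_span]
  congr 1
  ext x
  constructor
  · rintro ⟨_, ⟨a, ha, b, hb, rfl⟩, rfl⟩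
    exact ⟨b, hb, a, ha, rfl⟩
  · rintro ⟨b, hb, a, ha, rfl⟩
    exact ⟨a ⊗ₜ[k] b, ⟨a, ha, b, hb, rfl⟩, rfl⟩

include hψ hdegT in
/-- **Gorenstein Segre products in dimension one.** -/
theorem polynomial_and_gorenstein_of_segre_gorenstein
    (hposR : ∀ n : ℤ, n < 0 → 𝒜 n = ⊥) (h0R : 𝒜 0 = Submodule.span k {(1 : R)})
    (hposS : ∀ n : ℤ, n < 0 → ℬ n = ⊥) (h0S : ℬ 0 = Submodule.span k {(1 : S)})
    [hCMR : IsCohenMacaulayRing R] [hCMS : IsCohenMacaulayRing S]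
    (hstdR : Ideal.span (⋃ n ∈ Set.Ioi (0 : ℤ), (𝒜 n : Set R)) =
      Ideal.span ((𝒜 1 : Submodule k R) : Set R))
    (hstdS : Ideal.span (⋃ n ∈ Set.Ioi (0 : ℤ), (ℬ n : Set S)) =
      Ideal.span ((ℬ 1 : Submodule k S) : Set S))
    (hr : ringKrullDim R = 1) (hs : ringKrullDim S = 1)
    (hR : IsEmpty (R ≃ₐ[k] Polynomial k)) [hGT : IsGorensteinRing T] :
    Nonempty (S ≃ₐ[k] Polynomial k) ∧ IsGorensteinRing R := by
  classical
  haveI : Nontrivial R := by
    by_contra hnt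
    rw [not_nontrivial_iff_subsingleton] at hnt
    rw [ringKrullDim_eq_bot_of_subsingleton] at hr
    exact absurd hr (by simp)
  haveI : Nontrivial S := by
    by_contra hnt
    rw [not_nontrivial_iff_subsingleton] at hnt
    rw [ringKrullDim_eq_bot_of_subsingleton] at hs
    exact absurd hs (by simp)
  have hr1 : 1 ≤ ringKrullDim R := by rw [hr]
  have hs1 : 1 ≤ ringKrullDim S := by rw [hs]
  have hfinR := finite_piece 𝒜 hposR h0R hstdR
  have hfinS := finite_piece ℬ hposS h0S hstdS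
  have hfinT : ∀ n : ℤ, Module.Finite k (𝒯 n) := fun n => by
    haveI := hfinR n
    haveI := hfinS n
    exact finite_segre_piece 𝒜 ℬ 𝒯 ψ hψ hdegT n
  have hfrT : ∀ n : ℕ, Module.finrank k (𝒯 (n : ℤ)) = hilb 𝒜 n * hilb ℬ n := fun n => by
    haveI := hfinR n
    haveI := hfinS n
    exact finrank_segre_piece 𝒜 ℬ 𝒯 ψ hψ hdegT n
  haveI : Nontrivial T := by
    by_contra hnt
    rw [not_nontrivial_iff_subsingleton] at hnt
    have h1 := hfrT 0
    rw [hilb_zero 𝒜 h0R, hilb_zero ℬ h0S, Module.finrank_zero_of_subsingleton] at h1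
    exact absurd h1 (by norm_num)
  have hpT := LeadSP.hposT 𝒜 ℬ 𝒯 ψ hψ hdegT hposR
  have h0T := LeadSP.h0T 𝒜 ℬ 𝒯 ψ hψ hdegT h0R h0S
  obtain ⟨D, t, hD, ht, htreg⟩ := exists_segre_nzd 𝒜 ℬ 𝒯 ψ hψ hdegT hposR h0R hposS h0S hr1 hs1
  obtain ⟨NR, hNR⟩ := exists_hilb_const 𝒜 hposR h0R hstdR hr
  obtain ⟨NS, hNS⟩ := exists_hilb_const ℬ hposS h0S hstdS hs
  have hnum := numerics (hilb 𝒜) (hilb ℬ) (hilb 𝒜 NR) (hilb ℬ NS) NR NS D hD
    (fun a b hab => hilb_mono 𝒜 hposR h0R hstdR hr1 hab)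
    (fun a b hab => hilb_mono ℬ hposS h0S hstdS hs1 hab)
    (hilb_zero 𝒜 h0R) (hilb_zero ℬ h0S) hNR hNS (by
      intro m hm
      have hs' : ∀ n : ℤ, ((m + D : ℕ) : ℤ) < n → ∀ a ∈ 𝒯 n, a ∈ Ideal.span {t} := by
        intro n' hn'
        obtain ⟨n, hn⟩ : ∃ n : ℕ, n' = ((n + D : ℕ) : ℤ) :=
          ⟨(n' - D).toNat, by push_cast; omega⟩
        have hmn : m < n := by
          rw [hn] at hn'
          have : m + D < n + D := by exact_mod_cast hn'
          omega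
        haveI := hfinT (n : ℤ)
        haveI := hfinT n'
        refine piece_le_span_of_finrank_eq 𝒯 ht htreg (n : ℤ) n' (by rw [hn]; push_cast; ring) ?_
        rw [hn, hfrT, hfrT]
        exact hm n hmn
      have key := finrank_le_of_gorenstein 𝒯 hpT h0T hfinT hD ht htreg _ hs'
      have hcast : (((m + D : ℕ) : ℤ) - (D : ℤ)) = (m : ℤ) := by push_cast; ring
      rw [hcast, hfrT, hfrT] at key
      exact key)
  have hRnot : hilb 𝒜 NR ≠ 1 := by
    intro h1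
    have hH : hilb 𝒜 1 ≤ 1 :=
      calc hilb 𝒜 1 ≤ hilb 𝒜 (max 1 NR) := hilb_mono 𝒜 hposR h0R hstdR hr1 (le_max_left _ _)
        _ = hilb 𝒜 NR := hNR _ (le_max_right _ _)
        _ = 1 := h1
    obtain ⟨y, hy, hyreg, hP⟩ := nonempty_algEquiv_polynomial 𝒜 hposR h0R hstdR hr1 hH
    exact hR.false (AlgEquiv.ofBijective _ (LeadSP.aeval_bijective 𝒜 hposR hy hyreg hP)).symm
  have hS1 : hilb ℬ NS = 1 := hnum.resolve_left hRnot
  have hH : hilb ℬ 1 ≤ 1 :=
    calc hilb ℬ 1 ≤ hilb ℬ (max 1 NS) := hilb_mono ℬ hposS h0S hstdS hs1 (le_max_left _ _)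
      _ = hilb ℬ NS := hNS _ (le_max_right _ _)
      _ = 1 := hS1
  obtain ⟨y, hy, hyreg, hP⟩ := nonempty_algEquiv_polynomial ℬ hposS h0S hstdS hs1 hH
  obtain ⟨e', he'⟩ : ∃ e' : Polynomial k ≃ₐ[k] S, ∀ f, e' f = Polynomial.aeval y f :=
    ⟨AlgEquiv.ofBijective _ (LeadSP.aeval_bijective ℬ hposS hy hyreg hP), fun f => rfl⟩
  refine ⟨⟨e'.symm⟩, ?_⟩
  obtain ⟨ev, hevdef⟩ : ∃ ev : S →ₐ[k] k, ∀ ρ, ev ρ = Polynomial.aeval (1 : k) (e'.symm ρ) :=
    ⟨(Polynomial.aeval (1 : k)).comp (e'.symm : S →ₐ[k] Polynomial k), fun ρ => rfl⟩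
  have hev : ev y = 1 := by
    have h1 : e'.symm y = Polynomial.X := by
      rw [AlgEquiv.symm_apply_eq, he', Polynomial.aeval_X]
    rw [hevdef, h1, Polynomial.aeval_X]
  have hbij := LeadSP.thetaHom_bijective ℬ 𝒜 𝒯 (swapψ ψ) (swapψ_injective ψ hψ)
    (swapψ_deg 𝒜 ℬ 𝒯 ψ hdegT) hposS hposR hy hP ev hev
  exact Helper5.GorRing.gorRing_of_ringEquiv
    (RingEquiv.ofBijective (LeadSP.thetaHom (swapψ ψ) ev) hbij)

end Main

end Groth.Agent.Lib.LeadGS
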