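import Mathlib
import Groth.Prelude.Def_GrLC
import Groth.Agent.Lib.Helper5Coact

/-!
# ℤ-graded rings with a homogeneous unit of positive degree (lead), part a

`R` a `ℤ`-graded ring whose degree-zero part `R_0` is local with maximal ideal `m`, `u ∈ R_N` a
homogeneous unit (`N > 0`) such that `R_i R_j ⊆ m u` for `i, j > 0`, `i + j = N`.

* `proj0`, `inv_mem_of_mem`, `zpow_mem`: generalities;
* `GUData.mul_eq_of_not_dvd`: `R_i R_j ⊆ m u^{(i+j)/N}` whenever `N ∤ i`, `N ∣ i + j`;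
* `psi : R →+* R_0/m`, `x_i ↦ [x_i u^{-i/N}]` (zero if `N ∤ i`);
* `der : R →+ R_0/m`, the `psi`-derivation `x_i ↦ (i/N) psi(x_i)`;
* `mem_ker_of_mul_mem_sq`: `s (u - 1) ∈ (ker psi)^2 → s ∈ ker psi`.
-/

set_option autoImplicit false
set_option maxHeartbeats 400000
set_option linter.style.haveILetI false
set_option linter.unusedSectionVars false
set_option linter.unusedVariables false

universe u

noncomputable section

namespace Groth.Agent.Lib.LeadGU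

open DirectSum IsLocalRing

variable {R : Type u} [CommRing R] (𝒜 : ℤ → AddSubgroup R) [GradedRing 𝒜]

/-- degree-zero projection, landing in the degree zero subring -/
def proj0 : R →+ GrLC.deg0 𝒜 where
  toFun x := ⟨((decompose 𝒜 x) 0 : R), SetLike.coe_mem _⟩
  map_zero' := by
    apply Subtype.ext
    change ((decompose 𝒜 (0 : R)) 0 : R) = 0
    rw [decompose_zero, DirectSum.zero_apply]
    rfl
  map_add' x y := by
    apply Subtype.ext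
    change ((decompose 𝒜 (x + y)) 0 : R) = ((decompose 𝒜 x) 0 : R) + ((decompose 𝒜 y) 0 : R)
    rw [decompose_add, DirectSum.add_apply]
    rfl

lemma proj0_of_mem_zero {x : R} (hx : x ∈ 𝒜 0) : proj0 𝒜 x = ⟨x, hx⟩ := by
  apply Subtype.ext
  change ((decompose 𝒜 x) 0 : R) = x
  rw [decompose_of_mem_same 𝒜 hx]

lemma proj0_of_mem_ne {i : ℤ} {x : R} (hx : x ∈ 𝒜 i) (hi : i ≠ 0) : proj0 𝒜 x = 0 := by
  apply Subtype.ext
  change ((decompose 𝒜 x) 0 : R) = 0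
  rw [decompose_of_mem_ne 𝒜 hx hi]

variable {𝒜}

lemma inv_mem_of_mem {n : ℤ} (v : Rˣ) (hv : (v : R) ∈ 𝒜 n) : ((v⁻¹ : Rˣ) : R) ∈ 𝒜 (-n) := by
  obtain ⟨s, hs⟩ : ∃ s : R, s = ((v⁻¹ : Rˣ) : R) := ⟨_, rfl⟩
  rw [← hs]
  have h1 : (v : R) * s = 1 := by rw [hs]; exact v.mul_inv
  have h1' : s * (v : R) = 1 := by rw [hs]; exact v.inv_mul
  have h2 : ((decompose 𝒜 ((v : R) * s)) (n + (-n)) : R) =
      (v : R) * ((decompose 𝒜 s) (-n) : R) :=
    coe_decompose_mul_add_of_left_mem 𝒜 hv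
  rw [h1, add_neg_cancel, decompose_of_mem_same 𝒜 (SetLike.GradedOne.one_mem)] at h2
  have h3 : s = ((decompose 𝒜 s) (-n) : R) := by
    calc s = s * ((v : R) * ((decompose 𝒜 s) (-n) : R)) := by rw [← h2, mul_one]
      _ = (s * (v : R)) * ((decompose 𝒜 s) (-n) : R) := by ring
      _ = ((decompose 𝒜 s) (-n) : R) := by rw [h1', one_mul]
  rw [h3]
  exact SetLike.coe_mem _

lemma zpow_mem {n : ℤ} (v : Rˣ) (hv : (v : R) ∈ 𝒜 n) (k : ℤ) :
    ((v ^ k : Rˣ) : R) ∈ 𝒜 (k * n) := by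
  have hnat : ∀ (w : Rˣ) (m : ℤ), (w : R) ∈ 𝒜 m → ∀ j : ℕ,
      ((w ^ j : Rˣ) : R) ∈ 𝒜 ((j : ℤ) * m) := by
    intro w m hw j
    rw [Units.val_pow_eq_pow_val]
    have := SetLike.pow_mem_graded j hw
    rwa [nsmul_eq_mul] at this
  obtain ⟨j, rfl | rfl⟩ := Int.eq_nat_or_neg k
  · rw [zpow_natCast]
    exact hnat v n hv j
  · rw [zpow_neg, zpow_natCast, ← inv_pow]
    have := hnat v⁻¹ (-n) (inv_mem_of_mem v hv) j
    rwa [mul_neg, ← neg_mul] at this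

variable (𝒜)

/-- the data: a homogeneous unit `u` of degree `N > 0` with `R_i R_j ⊆ m u` (`i + j = N`) -/
structure GUData [IsLocalRing (GrLC.deg0 𝒜)] where
  N : ℕ
  hN : 0 < N
  u : Rˣ
  hu : (u : R) ∈ 𝒜 (N : ℤ)
  hm : ∀ (i j : ℤ), 0 < i → 0 < j → i + j = (N : ℤ) → ∀ a ∈ 𝒜 i, ∀ b ∈ 𝒜 j,
      ∃ c : GrLC.deg0 𝒜, c ∈ maximalIdeal (GrLC.deg0 𝒜) ∧ a * b = (c : R) * (u : R)

variable {𝒜} [IsLocalRing (GrLC.deg0 𝒜)] (d : GUData 𝒜)

namespace GUData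

lemma N_pos : (0 : ℤ) < (d.N : ℤ) := by exact_mod_cast d.hN

lemma upow_mem (k : ℤ) : ((d.u ^ k : Rˣ) : R) ∈ 𝒜 (k * (d.N : ℤ)) := zpow_mem d.u d.hu k

lemma mul_eq_of_not_dvd {i j : ℤ} (hi : ¬ (d.N : ℤ) ∣ i) (hij : (d.N : ℤ) ∣ i + j) {a b : R}
    (ha : a ∈ 𝒜 i) (hb : b ∈ 𝒜 j) :
    ∃ c : GrLC.deg0 𝒜, c ∈ maximalIdeal (GrLC.deg0 𝒜) ∧
      a * b = (c : R) * ((d.u ^ ((i + j) / (d.N : ℤ)) : Rˣ) : R) := by
  have hNpos := d.N_pos
  obtain ⟨α, r, hr0, hrN, hdiv⟩ : ∃ α r : ℤ, 0 < r ∧ r < d.N ∧ i = r + d.N * α :=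
    ⟨i / d.N, i % d.N, (Int.emod_pos_of_not_dvd hi).resolve_left hNpos.ne',
      Int.emod_lt_of_pos i hNpos, (Int.emod_add_mul_ediv i d.N).symm⟩
  obtain ⟨γ, hγN⟩ := hij
  have hγ : (i + j) / (d.N : ℤ) = γ := by
    rw [hγN]
    exact Int.mul_ediv_cancel_left γ hNpos.ne'
  rw [hγ]
  have ha'mem : a * ((d.u ^ (-α) : Rˣ) : R) ∈ 𝒜 r := by
    have h1 := SetLike.GradedMul.mul_mem ha (d.upow_mem (-α))
    have h2 : i + -α * (d.N : ℤ) = r := by linear_combination hdiv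
    rwa [h2] at h1
  have hb'mem : b * ((d.u ^ (-(γ - α - 1)) : Rˣ) : R) ∈ 𝒜 (d.N - r) := by
    have h1 := SetLike.GradedMul.mul_mem hb (d.upow_mem (-(γ - α - 1)))
    have h2 : j + -(γ - α - 1) * (d.N : ℤ) = d.N - r := by linear_combination hγN - hdiv
    rwa [h2] at h1
  obtain ⟨c, hc, hab⟩ := d.hm r (d.N - r) hr0 (by linarith) (by ring) _ ha'mem _ hb'mem
  refine ⟨c, hc, ?_⟩
  have hunit : ((d.u ^ (-α) : Rˣ) : R) * ((d.u ^ (-(γ - α - 1)) : Rˣ) : R) *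
      ((d.u ^ (γ - 1) : Rˣ) : R) = 1 := by
    rw [← Units.val_mul, ← Units.val_mul, ← zpow_add, ← zpow_add]
    have : -α + -(γ - α - 1) + (γ - 1) = 0 := by ring
    rw [this, zpow_zero, Units.val_one]
  have hu1 : ((d.u ^ γ : Rˣ) : R) = (d.u : R) * ((d.u ^ (γ - 1) : Rˣ) : R) := by
    rw [← Units.val_mul, ← zpow_one_add]
    congr 2
    ring
  calc a * b = a * b * (((d.u ^ (-α) : Rˣ) : R) * ((d.u ^ (-(γ - α - 1)) : Rˣ) : R) *
        ((d.u ^ (γ - 1) : Rˣ) : R)) := by rw [hunit, mul_one]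
    _ = (a * ((d.u ^ (-α) : Rˣ) : R) * (b * ((d.u ^ (-(γ - α - 1)) : Rˣ) : R))) *
        ((d.u ^ (γ - 1) : Rˣ) : R) := by ring
    _ = (c : R) * ((d.u ^ γ : Rˣ) : R) := by rw [hab, hu1]; ring

/-- the components of `psi` -/
def psiComp (i : ℤ) : 𝒜 i →+ ResidueField (GrLC.deg0 𝒜) :=
  ((residue (GrLC.deg0 𝒜)).toAddMonoidHom.comp (proj0 𝒜)).comp
    ((AddMonoidHom.mulRight ((d.u ^ (-(i / (d.N : ℤ))) : Rˣ) : R)).comp (𝒜 i).subtype)

lemma psiComp_apply (i : ℤ) (x : 𝒜 i) :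
    d.psiComp i x = residue (GrLC.deg0 𝒜)
      (proj0 𝒜 ((x : R) * ((d.u ^ (-(i / (d.N : ℤ))) : Rˣ) : R))) := rfl

lemma mul_upow_mem_zero {i : ℤ} (hi : (d.N : ℤ) ∣ i) {x : R} (hx : x ∈ 𝒜 i) :
    x * ((d.u ^ (-(i / (d.N : ℤ))) : Rˣ) : R) ∈ 𝒜 0 := by
  have h1 := SetLike.GradedMul.mul_mem hx (d.upow_mem (-(i / (d.N : ℤ))))
  have h2 : i + -(i / (d.N : ℤ)) * (d.N : ℤ) = 0 := by
    have := Int.ediv_mul_cancel hi
    linear_combination -this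
  rwa [h2] at h1

lemma psiComp_of_not_dvd {i : ℤ} (hi : ¬ (d.N : ℤ) ∣ i) (x : 𝒜 i) : d.psiComp i x = 0 := by
  have h1 := SetLike.GradedMul.mul_mem x.2 (d.upow_mem (-(i / (d.N : ℤ))))
  have h2 : i + -(i / (d.N : ℤ)) * (d.N : ℤ) ≠ 0 := by
    intro h0
    apply hi
    refine ⟨i / (d.N : ℤ), ?_⟩
    linear_combination h0
  rw [psiComp_apply, proj0_of_mem_ne 𝒜 h1 h2, map_zero]

lemma psiComp_of_dvd {i : ℤ} (hi : (d.N : ℤ) ∣ i) (x : 𝒜 i) :
    d.psiComp i x = residue (GrLC.deg0 𝒜)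
      ⟨(x : R) * ((d.u ^ (-(i / (d.N : ℤ))) : Rˣ) : R), d.mul_upow_mem_zero hi x.2⟩ := by
  rw [psiComp_apply, proj0_of_mem_zero 𝒜 (d.mul_upow_mem_zero hi x.2)]

lemma psiComp_one : d.psiComp 0 (GradedMonoid.GOne.one (A := fun i : ℤ => ↥(𝒜 i))) = 1 := by
  rw [psiComp_apply]
  have h1 : ((GradedMonoid.GOne.one (A := fun i : ℤ => ↥(𝒜 i)) : 𝒜 0) : R) = 1 := rfl
  have h2 : ((d.u ^ (-((0 : ℤ) / (d.N : ℤ))) : Rˣ) : R) = 1 := by
    rw [Int.zero_ediv, neg_zero, zpow_zero, Units.val_one]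
  rw [h1, h2, mul_one, proj0_of_mem_zero 𝒜 (SetLike.GradedOne.one_mem)]
  exact map_one _

lemma psiComp_mul {i j : ℤ} (ai : 𝒜 i) (aj : 𝒜 j) :
    d.psiComp (i + j) (GradedMonoid.GMul.mul (A := fun i : ℤ => ↥(𝒜 i)) ai aj) =
      d.psiComp i ai * d.psiComp j aj := by
  have hcoe : ((GradedMonoid.GMul.mul (A := fun i : ℤ => ↥(𝒜 i)) ai aj : 𝒜 (i + j)) : R) =
      (ai : R) * (aj : R) := rfl
  by_cases hi : (d.N : ℤ) ∣ i
  · by_cases hj : (d.N : ℤ) ∣ j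
    · have hij : (d.N : ℤ) ∣ i + j := dvd_add hi hj
      rw [psiComp_of_dvd d hij, psiComp_of_dvd d hi, psiComp_of_dvd d hj, ← map_mul]
      congr 1
      apply Subtype.ext
      change ((GradedMonoid.GMul.mul (A := fun i : ℤ => ↥(𝒜 i)) ai aj : 𝒜 (i + j)) : R) * _ =
        ((ai : R) * _) * ((aj : R) * _)
      rw [hcoe, Int.add_ediv_of_dvd_left hi, neg_add, zpow_add, Units.val_mul]
      ring
    · have hij : ¬ (d.N : ℤ) ∣ i + j := fun h => hj ((Int.dvd_add_right hi).mp h)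
      rw [psiComp_of_not_dvd d hij, psiComp_of_not_dvd d hj, mul_zero]
  · rw [psiComp_of_not_dvd d hi ai, zero_mul]
    by_cases hij : (d.N : ℤ) ∣ i + j
    · obtain ⟨c, hc, hab⟩ := d.mul_eq_of_not_dvd hi hij ai.2 aj.2
      rw [psiComp_apply, hcoe, hab]
      have h1 : (c : R) * ((d.u ^ ((i + j) / (d.N : ℤ)) : Rˣ) : R) *
          ((d.u ^ (-((i + j) / (d.N : ℤ))) : Rˣ) : R) = (c : R) := by
        rw [mul_assoc, ← Units.val_mul, ← zpow_add, add_neg_cancel, zpow_zero, Units.val_one,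
          mul_one]
      rw [h1, proj0_of_mem_zero 𝒜 c.2]
      exact (residue_eq_zero_iff _).mpr hc
    · exact psiComp_of_not_dvd d hij _

/-- the ring homomorphism `R → R_0/m`, `x_i ↦ [x_i u^{-i/N}]` -/
def psi : R →+* ResidueField (GrLC.deg0 𝒜) :=
  (DirectSum.toSemiring d.psiComp d.psiComp_one (fun ai aj => d.psiComp_mul ai aj)).comp
    (DirectSum.decomposeRingEquiv 𝒜).toRingHom

lemma psi_of_mem {i : ℤ} {x : R} (hx : x ∈ 𝒜 i) : d.psi x = d.psiComp i ⟨x, hx⟩ := by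
  unfold psi
  rw [RingHom.comp_apply]
  change DirectSum.toSemiring _ _ _ (DirectSum.decompose 𝒜 x) = _
  rw [DirectSum.decompose_of_mem 𝒜 hx, DirectSum.toSemiring_of]

lemma psi_of_not_dvd {i : ℤ} (hi : ¬ (d.N : ℤ) ∣ i) {x : R} (hx : x ∈ 𝒜 i) : d.psi x = 0 := by
  rw [psi_of_mem d hx, psiComp_of_not_dvd d hi]

lemma psi_of_dvd {i : ℤ} (hi : (d.N : ℤ) ∣ i) {x : R} (hx : x ∈ 𝒜 i) :
    d.psi x = residue (GrLC.deg0 𝒜)
      ⟨x * ((d.u ^ (-(i / (d.N : ℤ))) : Rˣ) : R), d.mul_upow_mem_zero hi hx⟩ := by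
  rw [psi_of_mem d hx, psiComp_of_dvd d hi]

lemma psi_coe (c : GrLC.deg0 𝒜) : d.psi (c : R) = residue (GrLC.deg0 𝒜) c := by
  rw [psi_of_dvd d (dvd_zero _) c.2]
  congr 1
  apply Subtype.ext
  change (c : R) * _ = (c : R)
  rw [Int.zero_ediv, neg_zero, zpow_zero, Units.val_one, mul_one]

lemma psi_u : d.psi (d.u : R) = 1 := by
  rw [psi_of_dvd d (dvd_refl _) d.hu, ← map_one (residue (GrLC.deg0 𝒜))]
  congr 1
  apply Subtype.ext
  change (d.u : R) * _ = 1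
  rw [Int.ediv_self d.N_pos.ne', zpow_neg, zpow_one, Units.mul_inv]

lemma psi_surjective : Function.Surjective d.psi := by
  intro y
  obtain ⟨c, rfl⟩ := residue_surjective y
  exact ⟨c, d.psi_coe c⟩

lemma psi_u_sub_one : d.psi ((d.u : R) - 1) = 0 := by
  rw [map_sub, psi_u, map_one, sub_self]

/-- the components of `der` -/
def derComp (i : ℤ) : 𝒜 i →+ ResidueField (GrLC.deg0 𝒜) :=
  (i / (d.N : ℤ)) • (d.psi.toAddMonoidHom.comp (𝒜 i).subtype)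

/-- the `psi`-derivation `x_i ↦ (i/N) psi(x_i)` -/
def der : R →+ ResidueField (GrLC.deg0 𝒜) :=
  (DirectSum.toAddMonoid d.derComp).comp (DirectSum.decomposeAddEquiv 𝒜).toAddMonoidHom

lemma der_of_mem {i : ℤ} {x : R} (hx : x ∈ 𝒜 i) :
    d.der x = ((i / (d.N : ℤ) : ℤ) : ResidueField (GrLC.deg0 𝒜)) * d.psi x := by
  unfold der
  rw [AddMonoidHom.comp_apply]
  change DirectSum.toAddMonoid _ (DirectSum.decompose 𝒜 x) = _
  rw [DirectSum.decompose_of_mem 𝒜 hx, DirectSum.toAddMonoid_of]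
  change (i / (d.N : ℤ)) • d.psi x = _
  rw [zsmul_eq_mul]

lemma der_mul (x y : R) : d.der (x * y) = d.psi x * d.der y + d.der x * d.psi y := by
  refine Groth.Agent.Lib.Helper5.Coact.ring_ind 𝒜
    (P := fun x => d.der (x * y) = d.psi x * d.der y + d.der x * d.psi y) ?_ ?_ ?_ x
  · simp
  · intro i a ha
    refine Groth.Agent.Lib.Helper5.Coact.ring_ind 𝒜
      (P := fun y => d.der (a * y) = d.psi a * d.der y + d.der a * d.psi y) ?_ ?_ ?_ y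
    · simp
    · intro j b hb
      have hab : a * b ∈ 𝒜 (i + j) := SetLike.GradedMul.mul_mem ha hb
      rw [der_of_mem d hab, der_of_mem d ha, der_of_mem d hb, map_mul]
      by_cases hi : (d.N : ℤ) ∣ i
      · rw [Int.add_ediv_of_dvd_left hi]
        push_cast
        ring
      · rw [psi_of_not_dvd d hi ha]
        ring
    · intro b c hb hc
      rw [mul_add, map_add, map_add, map_add, hb, hc]
      ring
  · intro a b ha hb
    rw [add_mul, map_add, map_add, map_add, ha, hb]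
    ring

lemma der_u_sub_one : d.der ((d.u : R) - 1) = 1 := by
  rw [map_sub, der_of_mem d d.hu, der_of_mem d (SetLike.GradedOne.one_mem : (1 : R) ∈ 𝒜 0),
    Int.ediv_self d.N_pos.ne', Int.zero_ediv, psi_u]
  simp

lemma der_eq_zero_of_mem_sq {z : R} (hz : z ∈ (RingHom.ker d.psi) ^ 2) : d.der z = 0 := by
  rw [pow_two] at hz
  refine Submodule.mul_induction_on hz ?_ ?_
  · intro a ha b hb
    rw [der_mul, (RingHom.mem_ker).mp ha, (RingHom.mem_ker).mp hb]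
    ring
  · intro a b ha hb
    rw [map_add, ha, hb, add_zero]

theorem mem_ker_of_mul_mem_sq {s : R} (hs : s * ((d.u : R) - 1) ∈ (RingHom.ker d.psi) ^ 2) :
    s ∈ RingHom.ker d.psi := by
  have h1 := d.der_eq_zero_of_mem_sq hs
  rw [der_mul, der_u_sub_one, psi_u_sub_one, mul_one, mul_zero, add_zero] at h1
  exact (RingHom.mem_ker).mpr h1

end GUData

end Groth.Agent.Lib.LeadGU
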