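import Mathlib
import Groth.Agent.Lib.LeadGUa
import Groth.Agent.Lib.Helper5RLR
import Groth.Agent.Lib.Helper5RLR2
import Groth.Agent.Lib.Helper28FlatNormal

/-!
# ℤ-graded rings with a homogeneous unit of positive degree (lead), part b

`C = R/(u - 1)` is a local ring (its maximal ideal is the image of `ker psi`), and it is a regular
local ring when `R` is regular.
-/

set_option autoImplicit false
set_option maxHeartbeats 400000
set_option linter.style.haveILetI false
set_option linter.unusedSectionVars false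
set_option linter.unusedVariables false

universe u

noncomputable section

namespace Groth.Agent.Lib.LeadGU

open DirectSum IsLocalRing

variable {R : Type u} [CommRing R] {𝒜 : ℤ → AddSubgroup R} [GradedRing 𝒜]
  [IsLocalRing (GrLC.deg0 𝒜)] (d : GUData 𝒜)

namespace GUData

/-- the ideal `(u - 1)` -/
def I : Ideal R := Ideal.span {(d.u : R) - 1}

lemma u_sub_one_mem : (d.u : R) - 1 ∈ d.I := Ideal.subset_span rfl

lemma mk_u : Ideal.Quotient.mk d.I (d.u : R) = 1 := by
  rw [← sub_eq_zero, ← map_one (Ideal.Quotient.mk d.I), ← map_sub,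
    Ideal.Quotient.eq_zero_iff_mem]
  exact d.u_sub_one_mem

lemma mk_upow (k : ℤ) : Ideal.Quotient.mk d.I ((d.u ^ k : Rˣ) : R) = 1 := by
  have h1 : Units.map ((Ideal.Quotient.mk d.I : R →+* R ⧸ d.I) : R →* R ⧸ d.I) d.u = 1 := by
    apply Units.ext
    rw [Units.coe_map, Units.val_one]
    exact d.mk_u
  have h2 : Ideal.Quotient.mk d.I ((d.u ^ k : Rˣ) : R) =
      ((Units.map ((Ideal.Quotient.mk d.I : R →+* R ⧸ d.I) : R →* R ⧸ d.I) (d.u ^ k) :
        (R ⧸ d.I)ˣ) : R ⧸ d.I) := rfl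
  rw [h2, map_zpow, h1, one_zpow, Units.val_one]

lemma I_le_ker : d.I ≤ RingHom.ker d.psi := by
  rw [I, Ideal.span_le, Set.singleton_subset_iff]
  exact (RingHom.mem_ker).mpr d.psi_u_sub_one

instance ker_isMaximal : (RingHom.ker d.psi).IsMaximal :=
  RingHom.ker_isMaximal_of_surjective d.psi d.psi_surjective

lemma I_ne_top : d.I ≠ ⊤ := fun h =>
  (d.ker_isMaximal.ne_top) (top_le_iff.mp (h ▸ d.I_le_ker))

/-- `x^N = c u^i` with `c ∈ R_0` for `x ∈ R_i` -/
lemma pow_N_eq {i : ℤ} {x : R} (hx : x ∈ 𝒜 i) :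
    ∃ c : GrLC.deg0 𝒜, x ^ d.N = (c : R) * ((d.u ^ i : Rˣ) : R) := by
  have h1 : x ^ d.N ∈ 𝒜 (d.N • i) := SetLike.pow_mem_graded d.N hx
  have h2 := SetLike.GradedMul.mul_mem h1 (d.upow_mem (-i))
  have h3 : d.N • i + -i * (d.N : ℤ) = 0 := by
    rw [nsmul_eq_mul]
    ring
  rw [h3] at h2
  refine ⟨⟨_, h2⟩, ?_⟩
  change x ^ d.N = x ^ d.N * ((d.u ^ (-i) : Rˣ) : R) * ((d.u ^ i : Rˣ) : R)
  rw [mul_assoc, ← Units.val_mul, ← zpow_add, neg_add_cancel, zpow_zero, Units.val_one, mul_one]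

/-- for `N ∤ i` and `x ∈ R_i`: `x^N = c u^i` with `c ∈ m` -/
lemma pow_N_eq_of_not_dvd {i : ℤ} (hi : ¬ (d.N : ℤ) ∣ i) {x : R} (hx : x ∈ 𝒜 i) :
    ∃ c : GrLC.deg0 𝒜, c ∈ maximalIdeal (GrLC.deg0 𝒜) ∧
      x ^ d.N = (c : R) * ((d.u ^ i : Rˣ) : R) := by
  obtain ⟨M, hM⟩ : ∃ M : ℕ, d.N = M + 1 := ⟨d.N - 1, by have := d.hN; omega⟩
  have h1 : x ^ M ∈ 𝒜 (M • i) := SetLike.pow_mem_graded M hx
  have hdvd : (d.N : ℤ) ∣ i + M • i := by
    refine ⟨i, ?_⟩
    rw [hM, nsmul_eq_mul]
    push_cast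
    ring
  obtain ⟨c, hc, hab⟩ := d.mul_eq_of_not_dvd hi hdvd hx h1
  refine ⟨c, hc, ?_⟩
  have h2 : (i + M • i) / (d.N : ℤ) = i := by
    have : i + M • i = (d.N : ℤ) * i := by
      rw [hM, nsmul_eq_mul]
      push_cast
      ring
    rw [this]
    exact Int.mul_ediv_cancel_left i d.N_pos.ne'
  rw [h2] at hab
  rw [← hab, hM, pow_succ']

instance algebra_isIntegral : Algebra.IsIntegral (GrLC.deg0 𝒜) (R ⧸ d.I) := by
  constructor
  intro y
  obtain ⟨x, rfl⟩ := Ideal.Quotient.mk_surjective y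
  refine Groth.Agent.Lib.Helper5.Coact.ring_ind 𝒜
    (P := fun x => IsIntegral (GrLC.deg0 𝒜) (Ideal.Quotient.mk d.I x)) ?_ ?_ ?_ x
  · rw [map_zero]
    exact isIntegral_zero
  · intro i a ha
    obtain ⟨c, hc⟩ := d.pow_N_eq ha
    apply IsIntegral.of_pow d.hN
    rw [← map_pow, hc, map_mul, mk_upow, mul_one]
    exact isIntegral_algebraMap (x := c)
  · intro a b ha hb
    rw [map_add]
    exact ha.add hb

/-- every maximal ideal of `R/(u - 1)` pulls back to `ker psi` -/
theorem comap_mk_eq_ker (M : Ideal (R ⧸ d.I)) [hM : M.IsMaximal] :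
    M.comap (Ideal.Quotient.mk d.I) = RingHom.ker d.psi := by
  have hM0 : (M.comap (algebraMap (GrLC.deg0 𝒜) (R ⧸ d.I))).IsMaximal :=
    Ideal.isMaximal_comap_of_isIntegral_of_isMaximal M
  have hM0' : M.comap (algebraMap (GrLC.deg0 𝒜) (R ⧸ d.I)) = maximalIdeal (GrLC.deg0 𝒜) :=
    IsLocalRing.eq_maximalIdeal hM0
  have hmem : ∀ c : GrLC.deg0 𝒜, c ∈ maximalIdeal (GrLC.deg0 𝒜) →
      Ideal.Quotient.mk d.I (c : R) ∈ M := by
    intro c hc
    rw [← hM0'] at hc
    exact hc
  have hprime : M.IsPrime := hM.isPrime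
  have key : ∀ x : R, ∃ c : GrLC.deg0 𝒜, residue (GrLC.deg0 𝒜) c = d.psi x ∧
      Ideal.Quotient.mk d.I (x - (c : R)) ∈ M := by
    intro x
    refine Groth.Agent.Lib.Helper5.Coact.ring_ind 𝒜
      (P := fun x => ∃ c : GrLC.deg0 𝒜, residue (GrLC.deg0 𝒜) c = d.psi x ∧
        Ideal.Quotient.mk d.I (x - (c : R)) ∈ M) ?_ ?_ ?_ x
    · exact ⟨0, by rw [map_zero, map_zero], by simp⟩
    · intro i a ha
      by_cases hi : (d.N : ℤ) ∣ i
      · refine ⟨⟨_, d.mul_upow_mem_zero hi ha⟩, (d.psi_of_dvd hi ha).symm, ?_⟩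
        have h0 : Ideal.Quotient.mk d.I
            (a - a * ((d.u ^ (-(i / (d.N : ℤ))) : Rˣ) : R)) = 0 := by
          rw [map_sub, map_mul, mk_upow, mul_one, sub_self]
        change Ideal.Quotient.mk d.I (a - a * ((d.u ^ (-(i / (d.N : ℤ))) : Rˣ) : R)) ∈ M
        rw [h0]
        exact Ideal.zero_mem _
      · refine ⟨0, by rw [map_zero, d.psi_of_not_dvd hi ha], ?_⟩
        obtain ⟨c, hc, hac⟩ := d.pow_N_eq_of_not_dvd hi ha
        have h1 : Ideal.Quotient.mk d.I a ^ d.N ∈ M := by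
          rw [← map_pow, hac, map_mul, mk_upow, mul_one]
          exact hmem c hc
        have h2 := hprime.mem_of_pow_mem _ h1
        simpa using h2
    · rintro a b ⟨c₁, hc₁, h₁⟩ ⟨c₂, hc₂, h₂⟩
      refine ⟨c₁ + c₂, by rw [map_add, map_add, hc₁, hc₂], ?_⟩
      have : a + b - ((c₁ + c₂ : GrLC.deg0 𝒜) : R) = (a - (c₁ : R)) + (b - (c₂ : R)) := by
        push_cast
        ring
      rw [this, map_add]
      exact Ideal.add_mem _ h₁ h₂
  have hle : RingHom.ker d.psi ≤ M.comap (Ideal.Quotient.mk d.I) := by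
    intro x hx
    obtain ⟨c, hc, hxc⟩ := key x
    rw [(RingHom.mem_ker).mp hx, residue_eq_zero_iff] at hc
    have h1 := hmem c hc
    have h2 := Ideal.add_mem _ hxc h1
    rw [← map_add, sub_add_cancel] at h2
    exact h2
  have hproper : M.comap (Ideal.Quotient.mk d.I) ≠ ⊤ :=
    (Ideal.comap_isPrime (Ideal.Quotient.mk d.I) M).ne_top
  exact (d.ker_isMaximal.eq_of_le hproper hle).symm

theorem isLocalRing_quotient : IsLocalRing (R ⧸ d.I) := by
  haveI : Nontrivial (R ⧸ d.I) := Ideal.Quotient.nontrivial_iff.mpr d.I_ne_top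
  obtain ⟨M₀, hM₀⟩ := Ideal.exists_maximal (R ⧸ d.I)
  refine IsLocalRing.of_unique_max_ideal ⟨M₀, hM₀, ?_⟩
  intro M hM
  apply Ideal.comap_injective_of_surjective (Ideal.Quotient.mk d.I) Ideal.Quotient.mk_surjective
  rw [d.comap_mk_eq_ker M, d.comap_mk_eq_ker M₀]

/-- `R/(u - 1)` is a regular local ring when `R` is regular -/
theorem isRegularLocalRing_quotient [IsNoetherianRing R]
    (hreg : ∀ (p : Ideal R) [p.IsPrime], IsRegularLocalRing (Localization.AtPrime p)) :
    IsRegularLocalRing (R ⧸ d.I) := by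
  haveI hloc : IsLocalRing (R ⧸ d.I) := d.isLocalRing_quotient
  have hp := d.comap_mk_eq_ker (maximalIdeal (R ⧸ d.I))
  have hmain : IsRegularLocalRing (Localization.AtPrime (maximalIdeal (R ⧸ d.I))) := by
    apply Groth.Agent.Lib.Helper5.isRegularLocalRing_localization_quotient_of d.I
      (maximalIdeal (R ⧸ d.I))
    set p : Ideal R := (maximalIdeal (R ⧸ d.I)).comap (Ideal.Quotient.mk d.I) with hpdef
    haveI hreg' : IsRegularLocalRing (Localization.AtPrime p) := hreg p
    have hmap : d.I.map (algebraMap R (Localization.AtPrime p)) =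
        Ideal.span {algebraMap R (Localization.AtPrime p) ((d.u : R) - 1)} := by
      change (Ideal.span {(d.u : R) - 1}).map (algebraMap R (Localization.AtPrime p)) = _
      rw [Ideal.map_span, Set.image_singleton]
    rw [hmap]
    have hx : algebraMap R (Localization.AtPrime p) ((d.u : R) - 1) ∈
        maximalIdeal (Localization.AtPrime p) := by
      rw [IsLocalization.AtPrime.to_map_mem_maximal_iff (Localization.AtPrime p) p]
      rw [hp]
      exact (RingHom.mem_ker).mpr d.psi_u_sub_one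
    have hx2 : algebraMap R (Localization.AtPrime p) ((d.u : R) - 1) ∉
        maximalIdeal (Localization.AtPrime p) ^ 2 := by
      intro hmem
      rw [← Localization.AtPrime.map_eq_maximalIdeal, ← Ideal.map_pow,
        IsLocalization.mem_map_algebraMap_iff p.primeCompl] at hmem
      obtain ⟨⟨a, s⟩, has⟩ := hmem
      rw [← map_mul, IsLocalization.eq_iff_exists p.primeCompl] at has
      obtain ⟨s', hs'⟩ := has
      have h1 : ((s' : R) * (s : R)) * ((d.u : R) - 1) ∈ (RingHom.ker d.psi) ^ 2 := by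
        have : ((s' : R) * (s : R)) * ((d.u : R) - 1) = (s' : R) * (((d.u : R) - 1) * (s : R)) := by
          ring
        rw [this, hs', ← hp]
        exact Ideal.mul_mem_left _ _ a.2
      have h2 := d.mem_ker_of_mul_mem_sq h1
      rw [← hp] at h2
      rcases (inferInstance : p.IsPrime).mem_or_mem h2 with h3 | h3
      · exact s'.2 h3
      · exact s.2 h3
    haveI : IsLocalRing (Localization.AtPrime p ⧸
        Ideal.span {algebraMap R (Localization.AtPrime p) ((d.u : R) - 1)}) :=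
      Groth.Agent.Lib.Helper5.isLocalRing_quotient (by
        intro htop
        have : algebraMap R (Localization.AtPrime p) ((d.u : R) - 1) ∈
            maximalIdeal (Localization.AtPrime p) := hx
        have h1 : Ideal.span {algebraMap R (Localization.AtPrime p) ((d.u : R) - 1)} ≤
            maximalIdeal (Localization.AtPrime p) :=
          (Ideal.span_singleton_le_iff_mem _).mpr hx
        rw [htop] at h1
        exact (IsLocalRing.maximalIdeal.isMaximal _).ne_top (top_le_iff.mp h1))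
    exact (Groth.Agent.Lib.Helper5.isRegularLocalRing_quotient_span_singleton hx hx2).1
  exact IsRegularLocalRing.of_ringEquiv
    (Groth.Agent.Lib.Helper28.localizationMaximalIdealEquiv (R ⧸ d.I)).symm

end GUData

end Groth.Agent.Lib.LeadGU
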