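import Mathlib
import Groth.Agent.Lib.LeadGUb
import Groth.Agent.Lib.LeadERb
import Groth.Agent.Lib.Helper6SmReg
import Groth.Agent.Lib.Helper28RegLoc

/-!
# ℤ-graded rings with a homogeneous unit of positive degree (lead), part c

`R[U]/(U^N - u) ≅ C[T;T⁻¹]` with `C = R/(u - 1)`; hence `R[U]/(U^N - u)` is regular when `R` is.
-/

set_option autoImplicit false
set_option maxHeartbeats 400000
set_option linter.style.haveILetI false
set_option linter.unusedSectionVars false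
set_option linter.unusedVariables false

universe u

noncomputable section

namespace Groth.Agent.Lib.LeadGU

open scoped Polynomial
open LaurentPolynomial IsLocalRing

/-- a unit of the Laurent polynomial ring equal to `T` has `k`-th power `T^k` -/
lemma unit_zpow_eq_T {S : Type u} [CommRing S] (τ : (S[T;T⁻¹])ˣ) (hτ : (τ : S[T;T⁻¹]) = T 1)
    (k : ℤ) : ((τ ^ k : (S[T;T⁻¹])ˣ) : S[T;T⁻¹]) = T k := by
  have hinv : ((τ⁻¹ : (S[T;T⁻¹])ˣ) : S[T;T⁻¹]) = T (-1) := by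
    apply Units.inv_eq_of_mul_eq_one_right
    rw [hτ, ← T_add, add_neg_cancel, T_zero]
  obtain ⟨j, rfl | rfl⟩ := Int.eq_nat_or_neg k
  · rw [zpow_natCast, Units.val_pow_eq_pow_val, hτ, T_pow, mul_one]
  · rw [zpow_neg, zpow_natCast, ← inv_pow, Units.val_pow_eq_pow_val, hinv, T_pow, mul_neg, mul_one]

/-- Laurent polynomial rings over regular rings are regular -/
theorem isRegularLocalRing_laurent (C : Type u) [CommRing C] [IsNoetherianRing C]
    (hC : ∀ (p : Ideal C) [p.IsPrime], IsRegularLocalRing (Localization.AtPrime p))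
    (Q : Ideal C[T;T⁻¹]) [Q.IsPrime] : IsRegularLocalRing (Localization.AtPrime Q) := by
  haveI : Algebra.FinitePresentation C[X] C[T;T⁻¹] :=
    IsLocalization.Away.finitePresentation (Polynomial.X : C[X])
  haveI : Algebra.FinitePresentation C C[T;T⁻¹] :=
    Algebra.FinitePresentation.trans C C[X] C[T;T⁻¹]
  haveI : Algebra.Smooth C C[T;T⁻¹] :=
    ⟨Groth.Agent.Lib.LeadER.formallySmooth_laurent C, inferInstance⟩
  haveI := hC (Q.comap (algebraMap C C[T;T⁻¹]))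
  exact Groth.Agent.Lib.Helper6.SmReg.isRegularLocalRing_of_smooth_of_comap (R := C) Q

variable {R : Type u} [CommRing R] {𝒜 : ℤ → AddSubgroup R} [GradedRing 𝒜]
  [IsLocalRing (GrLC.deg0 𝒜)] (d : GUData 𝒜)

namespace GUData

/-- the polynomial `X^N - u` -/
def pol : R[X] := Polynomial.X ^ d.N - Polynomial.C (d.u : R)

lemma root_pow : (AdjoinRoot.root d.pol) ^ d.N = AdjoinRoot.of d.pol (d.u : R) := by
  have h : Polynomial.eval₂ (AdjoinRoot.of d.pol) (AdjoinRoot.root d.pol)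
      (Polynomial.X ^ d.N - Polynomial.C (d.u : R)) = 0 := AdjoinRoot.eval₂_root d.pol
  rw [Polynomial.eval₂_sub, Polynomial.eval₂_pow, Polynomial.eval₂_X, Polynomial.eval₂_C,
    sub_eq_zero] at h
  exact h

/-- the root as a unit -/
def rho : (AdjoinRoot d.pol)ˣ :=
  Units.mkOfMulEqOne (AdjoinRoot.root d.pol)
    ((AdjoinRoot.root d.pol) ^ (d.N - 1) * AdjoinRoot.of d.pol ((d.u⁻¹ : Rˣ) : R)) (by
      rw [← mul_assoc, ← pow_succ', Nat.sub_add_cancel d.hN, root_pow, ← map_mul, Units.mul_inv,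
        map_one])

lemma coe_rho : (d.rho : AdjoinRoot d.pol) = AdjoinRoot.root d.pol := rfl

lemma rho_pow_N : ((d.rho ^ (d.N : ℤ) : (AdjoinRoot d.pol)ˣ) : AdjoinRoot d.pol) =
    AdjoinRoot.of d.pol (d.u : R) := by
  rw [zpow_natCast, Units.val_pow_eq_pow_val, coe_rho, root_pow]

/-- the coaction followed by reduction mod `(u - 1)` -/
def Phi : R →+* (R ⧸ d.I)[T;T⁻¹] :=
  (AddMonoidAlgebra.mapRingHom ℤ (Ideal.Quotient.mk d.I)).comp
    (Groth.Agent.Lib.Helper5.Coact.coact 𝒜 (AddMonoidHom.id ℤ))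

lemma Phi_of_mem {i : ℤ} {x : R} (hx : x ∈ 𝒜 i) :
    d.Phi x = C (Ideal.Quotient.mk d.I x) * T i := by
  change AddMonoidAlgebra.mapRingHom ℤ (Ideal.Quotient.mk d.I)
    (Groth.Agent.Lib.Helper5.Coact.coact 𝒜 (AddMonoidHom.id ℤ) x) = _
  rw [Groth.Agent.Lib.Helper5.Coact.coact_of_mem 𝒜 _ hx, AddMonoidHom.id_apply,
    AddMonoidAlgebra.mapRingHom_single, single_eq_C_mul_T]

/-- `R[U]/(U^N - u) → C[T;T⁻¹]` -/
def Theta : AdjoinRoot d.pol →+* (R ⧸ d.I)[T;T⁻¹] :=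
  AdjoinRoot.lift d.Phi (T 1) (by
    change Polynomial.eval₂ d.Phi (T 1) (Polynomial.X ^ d.N - Polynomial.C (d.u : R)) = 0
    rw [Polynomial.eval₂_sub, Polynomial.eval₂_pow, Polynomial.eval₂_X, Polynomial.eval₂_C,
      d.Phi_of_mem d.hu, d.mk_u, map_one, one_mul, T_pow, mul_one, sub_self])

lemma Theta_of (x : R) : d.Theta (AdjoinRoot.of d.pol x) = d.Phi x := AdjoinRoot.lift_of _

lemma Theta_root : d.Theta (AdjoinRoot.root d.pol) = T 1 := AdjoinRoot.lift_root _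

lemma Theta_upow (k : ℤ) :
    d.Theta ((d.rho ^ k : (AdjoinRoot d.pol)ˣ) : AdjoinRoot d.pol) = T k := by
  have h1 : d.Theta ((d.rho ^ k : (AdjoinRoot d.pol)ˣ) : AdjoinRoot d.pol) =
      ((Units.map (d.Theta : AdjoinRoot d.pol →* (R ⧸ d.I)[T;T⁻¹]) (d.rho ^ k) :
        ((R ⧸ d.I)[T;T⁻¹])ˣ) : (R ⧸ d.I)[T;T⁻¹]) := rfl
  rw [h1, map_zpow]
  apply unit_zpow_eq_T
  rw [Units.coe_map]
  exact d.Theta_root

/-- `R → R[U]/(U^N - u)`, `x_i ↦ x_i U^{-i}` -/
def g0 : R →+* AdjoinRoot d.pol :=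
  (LaurentPolynomial.eval₂ (AdjoinRoot.of d.pol) d.rho⁻¹).comp
    (Groth.Agent.Lib.Helper5.Coact.coact 𝒜 (AddMonoidHom.id ℤ))

lemma g0_of_mem {i : ℤ} {x : R} (hx : x ∈ 𝒜 i) :
    d.g0 x = AdjoinRoot.of d.pol x * ((d.rho ^ (-i) : (AdjoinRoot d.pol)ˣ) : AdjoinRoot d.pol) := by
  change LaurentPolynomial.eval₂ (AdjoinRoot.of d.pol) d.rho⁻¹
    (Groth.Agent.Lib.Helper5.Coact.coact 𝒜 (AddMonoidHom.id ℤ) x) = _
  rw [Groth.Agent.Lib.Helper5.Coact.coact_of_mem 𝒜 _ hx, AddMonoidHom.id_apply,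
    single_eq_C_mul_T, eval₂_C_mul_T, inv_zpow']

lemma g0_u : d.g0 (d.u : R) = 1 := by
  rw [d.g0_of_mem d.hu, ← d.rho_pow_N, ← Units.val_mul, ← zpow_add, add_neg_cancel, zpow_zero,
    Units.val_one]

/-- `C = R/(u - 1) → R[U]/(U^N - u)` -/
def g : R ⧸ d.I →+* AdjoinRoot d.pol :=
  Ideal.Quotient.lift d.I d.g0 (by
    intro a ha
    have hle : d.I ≤ RingHom.ker d.g0 := by
      change Ideal.span {(d.u : R) - 1} ≤ _
      rw [Ideal.span_le, Set.singleton_subset_iff, SetLike.mem_coe, RingHom.mem_ker, map_sub,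
        g0_u, map_one, sub_self]
    exact (RingHom.mem_ker).mp (hle ha))

lemma g_mk (x : R) : d.g (Ideal.Quotient.mk d.I x) = d.g0 x := Ideal.Quotient.lift_mk _ _ _

/-- `C[T;T⁻¹] → R[U]/(U^N - u)` -/
def Lam : (R ⧸ d.I)[T;T⁻¹] →+* AdjoinRoot d.pol := LaurentPolynomial.eval₂ d.g d.rho

lemma Lam_C_mul_T (c : R ⧸ d.I) (n : ℤ) :
    d.Lam (C c * T n) = d.g c * ((d.rho ^ n : (AdjoinRoot d.pol)ˣ) : AdjoinRoot d.pol) :=
  eval₂_C_mul_T _ _ _ _

lemma Lam_T (n : ℤ) : d.Lam (T n) = ((d.rho ^ n : (AdjoinRoot d.pol)ˣ) : AdjoinRoot d.pol) :=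
  eval₂_T _ _ _

lemma Lam_comp_Theta : d.Lam.comp d.Theta = RingHom.id _ := by
  apply AdjoinRoot.ringHom_ext
  · refine RingHom.ext (fun x => ?_)
    change d.Lam (d.Theta (AdjoinRoot.of d.pol x)) = AdjoinRoot.of d.pol x
    rw [Theta_of]
    refine Groth.Agent.Lib.Helper5.Coact.ring_ind 𝒜
      (P := fun x => d.Lam (d.Phi x) = AdjoinRoot.of d.pol x) ?_ ?_ ?_ x
    · rw [map_zero, map_zero, map_zero]
    · intro i a ha
      rw [d.Phi_of_mem ha, Lam_C_mul_T, g_mk, d.g0_of_mem ha, mul_assoc, ← Units.val_mul,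
        ← zpow_add, neg_add_cancel, zpow_zero, Units.val_one, mul_one]
    · intro a b ha hb
      rw [map_add, map_add, map_add, ha, hb]
  · change d.Lam (d.Theta (AdjoinRoot.root d.pol)) = AdjoinRoot.root d.pol
    rw [Theta_root, Lam_T, zpow_one, coe_rho]

lemma Theta_g0 (x : R) : d.Theta (d.g0 x) = C (Ideal.Quotient.mk d.I x) := by
  refine Groth.Agent.Lib.Helper5.Coact.ring_ind 𝒜
    (P := fun x => d.Theta (d.g0 x) = C (Ideal.Quotient.mk d.I x)) ?_ ?_ ?_ x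
  · rw [map_zero, map_zero, map_zero, map_zero]
  · intro i a ha
    rw [d.g0_of_mem ha, map_mul, d.Theta_upow, Theta_of, d.Phi_of_mem ha, mul_assoc, ← T_add,
      add_neg_cancel, T_zero, mul_one]
  · intro a b ha hb
    rw [map_add, map_add, map_add, map_add, ha, hb]

lemma Theta_comp_Lam : d.Theta.comp d.Lam = RingHom.id _ := by
  refine RingHom.ext (fun p => ?_)
  change d.Theta (d.Lam p) = p
  induction p using LaurentPolynomial.induction_on' with
  | add p q hp hq => rw [map_add, map_add, hp, hq]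
  | C_mul_T n c =>
    obtain ⟨x, rfl⟩ := Ideal.Quotient.mk_surjective c
    rw [Lam_C_mul_T, map_mul, d.Theta_upow, g_mk, Theta_g0]

/-- `R[U]/(U^N - u) ≅ C[T;T⁻¹]` -/
def equiv : AdjoinRoot d.pol ≃+* (R ⧸ d.I)[T;T⁻¹] :=
  RingEquiv.ofRingHom d.Theta d.Lam d.Theta_comp_Lam d.Lam_comp_Theta

/-- `R[U]/(U^N - u)` is regular when `R` is -/
theorem isRegularLocalRing_adjoinRoot [IsNoetherianRing R]
    (hreg : ∀ (p : Ideal R) [p.IsPrime], IsRegularLocalRing (Localization.AtPrime p))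
    (q : Ideal (AdjoinRoot d.pol)) [q.IsPrime] :
    IsRegularLocalRing (Localization.AtPrime q) := by
  haveI hC : IsRegularLocalRing (R ⧸ d.I) := d.isRegularLocalRing_quotient hreg
  have hC' : ∀ (p : Ideal (R ⧸ d.I)) [p.IsPrime], IsRegularLocalRing (Localization.AtPrime p) :=
    fun p _ => Groth.Agent.Lib.Helper28.isRegularLocalRing_localization_of_isRegularLocalRing _ p
  haveI : (q.comap d.equiv.symm).IsPrime := Ideal.comap_isPrime _ _
  have hq : q = (q.comap d.equiv.symm).comap d.equiv := by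
    ext x
    rw [Ideal.mem_comap, Ideal.mem_comap, RingEquiv.symm_apply_apply]
  have h1 : IsRegularLocalRing (Localization.AtPrime (q.comap d.equiv.symm)) :=
    isRegularLocalRing_laurent (R ⧸ d.I) hC' _
  have e : Localization.AtPrime (q.comap d.equiv.symm) ≃+* Localization.AtPrime q :=
    (Localization.localRingEquiv q (q.comap d.equiv.symm) d.equiv hq).symm
  haveI := h1
  exact IsRegularLocalRing.of_ringEquiv (R := Localization.AtPrime (q.comap d.equiv.symm)) e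

end GUData

end Groth.Agent.Lib.LeadGU
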