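import Mathlib
import Groth.Prelude.Def_W4c5qcohlocdualityLoc

/-!
# Closed objects for the localizing closure of a class closed under subquotients

For `P` closed under subobjects and quotients in a Grothendieck abelian category, an object `M` which
is `P`-closed is closed for the localizing closure of `P`.  The proof introduces the class `Qc P` of
objects all of whose `P`-torsion-free subquotients vanish, shows that it is localizing (AB5 is used
for coproducts), and that `M` is closed for it.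
-/

universe w v u

open CategoryTheory CategoryTheory.Limits ZeroObject

namespace Groth.Agent.Lib.LeadGabLoc

section basic

variable {C : Type u} [Category.{v} C] [Abelian C]

lemma img_fact {X Y : C} (f : X ⟶ Y) :
    ∃ (I : C) (e : X ⟶ I) (m : I ⟶ Y), Epi e ∧ Mono m ∧ e ≫ m = f :=
  ⟨image f, factorThruImage f, image.ι f, inferInstance, inferInstance, image.fac f⟩

/-- torsion-free: no nonzero maps from `P`-objects -/
def TF (P : ObjectProperty C) (Y : C) : Prop := ∀ ⦃A : C⦄, P A → ∀ a : A ⟶ Y, a = 0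

lemma TF.of_mono {P : ObjectProperty C} {Y Y' : C} (h : TF P Y) (m : Y' ⟶ Y) [Mono m] :
    TF P Y' := by
  intro A hA a
  have h1 : a ≫ m = 0 := h hA (a ≫ m)
  exact zero_of_comp_mono m h1

/-- every torsion-free subquotient vanishes -/
def Qc (P : ObjectProperty C) : ObjectProperty C := fun X =>
  ∀ ⦃B Y : C⦄ (i : B ⟶ X) (p : B ⟶ Y), Mono i → Epi p → TF P Y → IsZero Y

lemma Qc.isZero_of_TF {P : ObjectProperty C} {X : C} (h : Qc P X) (hX : TF P X) : IsZero X :=
  h (𝟙 X) (𝟙 X) inferInstance inferInstance hX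

lemma Qc.of_mono {P : ObjectProperty C} {X X' : C} (h : Qc P X) (f : X' ⟶ X) [Mono f] :
    Qc P X' := by
  intro B Y i p hi hp hY
  have := hi
  exact h (i ≫ f) p (mono_comp i f) hp hY

lemma Qc.of_epi {P : ObjectProperty C} {X X'' : C} (h : Qc P X) (f : X ⟶ X'') [Epi f] :
    Qc P X'' := by
  intro B Y i p hi hp hY
  have := hi
  have := hp
  exact h (pullback.snd i f) (pullback.fst i f ≫ p) inferInstance (epi_comp _ _) hY

lemma Qc.of_isZero {P : ObjectProperty C} {X : C} (hX : IsZero X) : Qc P X := by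
  intro B Y i p hi hp _
  have := hi
  have := hp
  have hB : IsZero B := IsZero.of_mono i hX
  exact IsZero.of_epi p hB

lemma le_Qc (P : ObjectProperty C) [P.IsClosedUnderSubobjects] : P ≤ Qc P := by
  intro X hX B Y i p hi hp hY
  have := hi
  have := hp
  have hB : P B := P.prop_of_mono i hX
  exact IsZero.of_epi_eq_zero p (hY hB p)

lemma Qc.of_shortExact {P : ObjectProperty C} {S : ShortComplex C} (hS : S.ShortExact)
    (h₁ : Qc P S.X₁) (h₃ : Qc P S.X₃) : Qc P S.X₂ := by
  intro B Y i p hi hp hY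
  have := hi
  have := hp
  have := hS.mono_f
  have := hS.epi_g
  have h0 : pullback.fst i S.f ≫ p = 0 := by
    obtain ⟨I, e, m, he, hm, hem⟩ := img_fact (pullback.fst i S.f ≫ p)
    have := he
    have := hm
    have hz : IsZero I := h₁ (pullback.snd i S.f) e inferInstance inferInstance (hY.of_mono m)
    rw [← hem, hz.eq_of_tgt e 0, zero_comp]
  obtain ⟨I, e, m, he, hm, hem⟩ := img_fact (i ≫ S.g)
  have := he
  have := hm
  have hker : kernel.ι e ≫ p = 0 := by
    have h2 : (kernel.ι e ≫ i) ≫ S.g = 0 := by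
      calc (kernel.ι e ≫ i) ≫ S.g = kernel.ι e ≫ (i ≫ S.g) := Category.assoc _ _ _
        _ = kernel.ι e ≫ (e ≫ m) := by rw [hem]
        _ = (kernel.ι e ≫ e) ≫ m := (Category.assoc _ _ _).symm
        _ = 0 := by rw [kernel.condition, zero_comp]
    have hk : hS.exact.lift (kernel.ι e ≫ i) h2 ≫ S.f = kernel.ι e ≫ i := hS.exact.lift_f _ _
    have hl : pullback.lift (kernel.ι e) (hS.exact.lift (kernel.ι e ≫ i) h2) hk.symm ≫
        pullback.fst i S.f = kernel.ι e := pullback.lift_fst _ _ _
    calc kernel.ι e ≫ p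
        = (pullback.lift (kernel.ι e) (hS.exact.lift (kernel.ι e ≫ i) h2) hk.symm ≫
            pullback.fst i S.f) ≫ p := by rw [hl]
      _ = pullback.lift (kernel.ι e) (hS.exact.lift (kernel.ι e ≫ i) h2) hk.symm ≫
            (pullback.fst i S.f ≫ p) := Category.assoc _ _ _
      _ = 0 := by rw [h0, comp_zero]
  have hp'' : e ≫ Abelian.epiDesc e p hker = p := Abelian.comp_epiDesc e p hker
  have : Epi (Abelian.epiDesc e p hker) := epi_of_epi_fac hp''
  exact h₃ m (Abelian.epiDesc e p hker) inferInstance inferInstance hY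

instance instSerre (P : ObjectProperty C) : (Qc P).IsSerreClass where
  exists_zero := ⟨0, isZero_zero C, Qc.of_isZero (isZero_zero C)⟩
  prop_of_mono f _ h := Qc.of_mono h f
  prop_of_epi f _ h := Qc.of_epi h f
  prop_X₂_of_shortExact hS h₁ h₃ := Qc.of_shortExact hS h₁ h₃

lemma Qc.hom_eq_zero {P : ObjectProperty C} {X M : C} (h : Qc P X) (hM : TF P M) (f : X ⟶ M) :
    f = 0 := by
  obtain ⟨I, e, m, he, hm, hem⟩ := img_fact f
  have := he
  have := hm
  have hz : IsZero I := h (𝟙 X) e inferInstance inferInstance (hM.of_mono m)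
  rw [← hem, hz.eq_of_tgt e 0, zero_comp]

lemma mono_comp_cokernel_of_inf_eq_bot {W : C} (Y S : Subobject W) (h : Y ⊓ S = ⊥) :
    Mono (S.arrow ≫ cokernel.π Y.arrow) := by
  apply Preadditive.mono_of_cancel_zero
  intro T g hg
  have h1 : (g ≫ S.arrow) ≫ cokernel.π Y.arrow = 0 := by rw [Category.assoc]; exact hg
  have hY : Y.Factors (g ≫ S.arrow) := by
    have h2 := Subobject.factors_comp_arrow (P := Y) (Abelian.monoLift Y.arrow (g ≫ S.arrow) h1)
    rwa [Abelian.monoLift_comp] at h2
  have hS : S.Factors (g ≫ S.arrow) := Subobject.factors_comp_arrow g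
  have hYS : (Y ⊓ S).Factors (g ≫ S.arrow) := (Subobject.inf_factors _).2 ⟨hY, hS⟩
  rw [h, Subobject.bot_factors_iff_zero] at hYS
  exact zero_of_comp_mono S.arrow hYS

lemma shortExact_cokernel {X Y : C} (f : X ⟶ Y) [Mono f] :
    (ShortComplex.mk f (cokernel.π f) (cokernel.condition f)).ShortExact :=
  ShortComplex.ShortExact.mk' (ShortComplex.exact_cokernel f) ‹_› (by dsimp; infer_instance)

lemma shortExact_pullback {S : ShortComplex C} (hS : S.ShortExact) {A : C} (a : A ⟶ S.X₃) :
    ∃ (u : S.X₁ ⟶ pullback S.g a) (hu : u ≫ pullback.snd S.g a = 0),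
      u ≫ pullback.fst S.g a = S.f ∧
        (ShortComplex.mk u (pullback.snd S.g a) hu).ShortExact := by
  have := hS.mono_f
  have := hS.epi_g
  have huc : S.f ≫ S.g = (0 : S.X₁ ⟶ A) ≫ a := by rw [S.zero, zero_comp]
  have hu1 : pullback.lift S.f 0 huc ≫ pullback.fst S.g a = S.f :=
    pullback.lift_fst _ _ _
  have hu2 : pullback.lift S.f 0 huc ≫ pullback.snd S.g a = 0 :=
    pullback.lift_snd _ _ _
  refine ⟨pullback.lift S.f 0 huc, hu2, hu1, ?_⟩
  have : Mono (pullback.lift S.f 0 huc) := mono_of_mono_fac hu1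
  refine ShortComplex.ShortExact.mk' ?_ (by dsimp; infer_instance) (by dsimp; infer_instance)
  rw [ShortComplex.exact_iff_exact_up_to_refinements]
  intro T x₂ hx₂
  have hx₂' : x₂ ≫ pullback.snd S.g a = 0 := hx₂
  have h1 : (x₂ ≫ pullback.fst S.g a) ≫ S.g = 0 := by
    rw [Category.assoc, pullback.condition, ← Category.assoc, hx₂', zero_comp]
  refine ⟨T, 𝟙 T, inferInstance, hS.exact.lift _ h1, ?_⟩
  apply pullback.hom_ext
  · have h3 : hS.exact.lift _ h1 ≫ S.f = x₂ ≫ pullback.fst S.g a := hS.exact.lift_f _ _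
    calc (𝟙 T ≫ x₂) ≫ pullback.fst S.g a = x₂ ≫ pullback.fst S.g a := by rw [Category.id_comp]
      _ = hS.exact.lift _ h1 ≫ S.f := h3.symm
      _ = hS.exact.lift _ h1 ≫ (pullback.lift S.f 0 huc ≫
            pullback.fst S.g a) := by rw [hu1]
      _ = _ := (Category.assoc _ _ _).symm
  · calc (𝟙 T ≫ x₂) ≫ pullback.snd S.g a = 0 := by rw [Category.id_comp, hx₂']
      _ = hS.exact.lift _ h1 ≫ (pullback.lift S.f 0 huc ≫
            pullback.snd S.g a) := by rw [hu2, comp_zero]
      _ = _ := (Category.assoc _ _ _).symm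

end basic

section ab5

variable {C : Type u} [Category.{v} C] [Abelian C] [IsGrothendieckAbelian.{w} C]

lemma eq_bot_of_directed {W : C} {J : Type w} [Preorder J] [IsDirected J (· ≤ ·)] [Nonempty J]
    (S : J → Subobject W) (hS : Monotone S) (Y : Subobject W)
    (h : ∀ j, Y ⊓ S j = ⊥)
    (hepi : ∀ ⦃V : C⦄ (φ : W ⟶ V), (∀ j, (S j).arrow ≫ φ = 0) → φ = 0) : Y = ⊥ := by
  have hm : ∀ j, Mono ((S j).arrow ≫ cokernel.π Y.arrow) :=
    fun j => mono_comp_cokernel_of_inf_eq_bot Y (S j) (h j)
  let Φ : J ⥤ MonoOver (cokernel Y.arrow) :=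
    { obj := fun j => MonoOver.mk ((S j).arrow ≫ cokernel.π Y.arrow)
      map := fun {j j'} f => MonoOver.homMk (Subobject.ofLE _ _ (hS (leOfHom f))) (by
        show Subobject.ofLE _ _ _ ≫ ((S j').arrow ≫ cokernel.π Y.arrow) =
          (S j).arrow ≫ cokernel.π Y.arrow
        rw [← Category.assoc, Subobject.ofLE_arrow])
      map_id := fun _ => Subsingleton.elim _ _
      map_comp := fun _ _ => Subsingleton.elim _ _ }
  let G : J ⥤ C := Φ ⋙ MonoOver.forget _ ⋙ Over.forget _
  let cc : Cocone G := Cocone.mk W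
    { app := fun j => (S j).arrow
      naturality := fun j j' φ => by
        show Subobject.ofLE _ _ _ ≫ (S j').arrow = (S j).arrow ≫ 𝟙 W
        rw [Subobject.ofLE_arrow, Category.comp_id] }
  let g : colimit G ⟶ W := colimit.desc G cc
  have hg : ∀ j, colimit.ι G j ≫ g = (S j).arrow := fun j => colimit.ι_desc cc j
  have hgq : Mono (g ≫ cokernel.π Y.arrow) :=
    IsGrothendieckAbelian.mono_of_isColimit_monoOver Φ (colimit.isColimit G)
      (g ≫ cokernel.π Y.arrow) (fun j =>
        (Category.assoc _ _ _).symm.trans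
          (congrArg (fun x => x ≫ cokernel.π Y.arrow) (hg j)))
  have := hgq
  have : Mono g := mono_of_mono g (cokernel.π Y.arrow)
  have : Epi g := by
    apply Preadditive.epi_of_cancel_zero
    intro V φ hφ
    apply hepi
    intro j
    calc (S j).arrow ≫ φ = (colimit.ι G j ≫ g) ≫ φ := congrArg (fun x => x ≫ φ) (hg j).symm
      _ = colimit.ι G j ≫ (g ≫ φ) := Category.assoc _ _ _
      _ = 0 := by rw [hφ, comp_zero]
  have : IsIso g := isIso_of_mono_of_epi g
  have : Mono (cokernel.π Y.arrow) := by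
    have h1 : inv g ≫ (g ≫ cokernel.π Y.arrow) = cokernel.π Y.arrow :=
      IsIso.inv_hom_id_assoc g _
    rw [← h1]
    exact mono_comp (inv g) (g ≫ cokernel.π Y.arrow)
  have hY0 : Y.arrow = 0 := zero_of_comp_mono (cokernel.π Y.arrow) (cokernel.condition _)
  exact eq_bot_iff.2 (Subobject.le_of_comm 0 (by rw [zero_comp, hY0]))

lemma inf_sup_eq_bot {P : ObjectProperty C} {W : C} (Y S T : Subobject W)
    (hY : ∀ Z : Subobject W, Z ≤ Y → Qc P (Z : C) → Z = ⊥)
    (hYS : Y ⊓ S = ⊥) (hT : Qc P (T : C)) : Y ⊓ (T ⊔ S) = ⊥ := by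
  apply hY (Y ⊓ (T ⊔ S)) inf_le_left
  have hZS : S ⊓ (Y ⊓ (T ⊔ S)) = ⊥ := by
    apply eq_bot_iff.2
    calc S ⊓ (Y ⊓ (T ⊔ S)) ≤ S ⊓ Y := inf_le_inf_left S inf_le_left
      _ = Y ⊓ S := inf_comm _ _
      _ = ⊥ := hYS
  have : Mono ((Y ⊓ (T ⊔ S)).arrow ≫ cokernel.π S.arrow) :=
    mono_comp_cokernel_of_inf_eq_bot S _ hZS
  obtain ⟨I, e, m, he, hm, hem⟩ := img_fact (T.arrow ≫ cokernel.π S.arrow)
  have := he
  have := hm
  have hI : Qc P I := hT.of_epi e
  have hTU : T ≤ kernelSubobject (cokernel.π S.arrow ≫ cokernel.π m) :=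
    le_kernelSubobject _ _ (by
      rw [← Category.assoc, ← hem, Category.assoc, cokernel.condition, comp_zero])
  have hSU : S ≤ kernelSubobject (cokernel.π S.arrow ≫ cokernel.π m) :=
    le_kernelSubobject _ _ (by
      rw [← Category.assoc, cokernel.condition, zero_comp])
  have hZU : Y ⊓ (T ⊔ S) ≤ kernelSubobject (cokernel.π S.arrow ≫ cokernel.π m) :=
    inf_le_right.trans (sup_le hTU hSU)
  have hZ0 : ((Y ⊓ (T ⊔ S)).arrow ≫ cokernel.π S.arrow) ≫ cokernel.π m = 0 := by
    calc ((Y ⊓ (T ⊔ S)).arrow ≫ cokernel.π S.arrow) ≫ cokernel.π m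
        = (Subobject.ofLE _ _ hZU ≫
            (kernelSubobject (cokernel.π S.arrow ≫ cokernel.π m)).arrow) ≫
              (cokernel.π S.arrow ≫ cokernel.π m) := by
          rw [Subobject.ofLE_arrow, Category.assoc]
      _ = 0 := by rw [Category.assoc, kernelSubobject_arrow_comp, comp_zero]
  have hz : Abelian.monoLift m _ hZ0 ≫ m = (Y ⊓ (T ⊔ S)).arrow ≫ cokernel.π S.arrow :=
    Abelian.monoLift_comp _ _ _
  have : Mono (Abelian.monoLift m _ hZ0) := mono_of_mono_fac hz
  exact hI.of_mono (Abelian.monoLift m _ hZ0)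

lemma Qc.of_isColimit_discrete {P : ObjectProperty C} {J : Type w} {F : Discrete J ⥤ C}
    (c : Cocone F) (hc : IsColimit c) (h : ∀ j, Qc P (F.obj j)) : Qc P c.pt := by
  classical
  intro B Y i p hi hp hY
  have := hi
  have := hp
  have : Epi (pushout.inl i p) := inferInstance
  have : Mono (pushout.inr i p) := inferInstance
  let T : J → Subobject (pushout i p) := fun j => imageSubobject (c.ι.app ⟨j⟩ ≫ pushout.inl i p)
  have hT : ∀ j, Qc P (T j : C) := fun j =>
    (h ⟨j⟩).of_epi (factorThruImageSubobject (c.ι.app ⟨j⟩ ≫ pushout.inl i p))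
  have hY' : ∀ Z : Subobject (pushout i p), Z ≤ Subobject.mk (pushout.inr i p) →
      Qc P (Z : C) → Z = ⊥ := by
    intro Z hZ hQ
    have hTF : TF P (Z : C) :=
      hY.of_mono (Subobject.ofLE Z _ hZ ≫ (Subobject.underlyingIso (pushout.inr i p)).hom)
    have hz : IsZero (Z : C) := hQ.isZero_of_TF hTF
    exact eq_bot_iff.2 (Subobject.le_of_comm 0 (by rw [zero_comp]; exact hz.eq_of_src _ _))
  have hind : ∀ F : Finset J, Subobject.mk (pushout.inr i p) ⊓ F.sup T = ⊥ := by
    intro F
    induction F using Finset.induction_on with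
    | empty => simp
    | insert j F hj ih =>
      rw [Finset.sup_insert]
      exact inf_sup_eq_bot _ (F.sup T) (T j) hY' ih (hT j)
  have hbot : Subobject.mk (pushout.inr i p) = ⊥ :=
    eq_bot_of_directed (fun F : Finset J => F.sup T) (fun F F' hFF' => Finset.sup_mono hFF') _
      hind (by
        intro V φ hφ
        have h1 : pushout.inl i p ≫ φ = 0 := by
          apply hc.hom_ext
          rintro ⟨j⟩
          rw [comp_zero]
          have h2 : (T j).arrow ≫ φ = 0 := by
            have hle : T j ≤ ({j} : Finset J).sup T := by rw [Finset.sup_singleton]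
            have h3 := hφ {j}
            calc (T j).arrow ≫ φ = (Subobject.ofLE _ _ hle ≫ (({j} : Finset J).sup T).arrow) ≫ φ := by
                  rw [Subobject.ofLE_arrow]
              _ = 0 := by rw [Category.assoc, h3, comp_zero]
          calc c.ι.app ⟨j⟩ ≫ pushout.inl i p ≫ φ
              = (factorThruImageSubobject (c.ι.app ⟨j⟩ ≫ pushout.inl i p) ≫ (T j).arrow) ≫ φ := by
                rw [imageSubobject_arrow_comp, Category.assoc]
            _ = 0 := by rw [Category.assoc, h2, comp_zero]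
        exact (cancel_epi (pushout.inl i p)).1 (by rw [h1, comp_zero]))
  have hy0 : pushout.inr i p = 0 := by
    have h1 : (Subobject.mk (pushout.inr i p)).arrow = 0 := by
      rw [hbot]; exact Subobject.bot_arrow
    rw [← Subobject.underlyingIso_arrow (pushout.inr i p), h1, comp_zero]
  exact IsZero.of_mono_eq_zero (pushout.inr i p) hy0

lemma Qc.isClosedUnderCoproducts (P : ObjectProperty C) (J : Type w) :
    (Qc P).IsClosedUnderColimitsOfShape (Discrete J) where
  colimitsOfShape_le := by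
    rintro X ⟨pres⟩
    exact Qc.of_isColimit_discrete pres.cocone pres.isColimit pres.prop_diag_obj

lemma isLocalizing_Qc (P : ObjectProperty C) : GabLoc.IsLocalizing.{w} (Qc P) :=
  ⟨inferInstance, fun J => Qc.isClosedUnderCoproducts P J⟩

lemma exists_largest (P : ObjectProperty C) (N : C) :
    ∃ (T : C) (τ : T ⟶ N), Mono τ ∧ Qc P T ∧
      ∀ ⦃S : C⦄ (s : S ⟶ N), Qc P S → s ≫ cokernel.π τ = 0 := by
  let I := {S : Subobject N // Qc P (S : C)}
  let e : I ≃ Shrink.{w} I := equivShrink I
  let fam : Shrink.{w} I → C := fun j => ((e.symm j).1 : C)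
  let σ : ∐ fam ⟶ N := Sigma.desc (fun j => (e.symm j).1.arrow)
  obtain ⟨T, ε, τ, hε, hτ, hετ⟩ := img_fact σ
  have := hε
  have := hτ
  refine ⟨T, τ, hτ, ?_, ?_⟩
  · have h1 : Qc P (∐ fam) :=
      Qc.of_isColimit_discrete _ (colimit.isColimit (Discrete.functor fam))
        (fun j => (e.symm j.as).2)
    exact h1.of_epi ε
  · intro S s hS
    obtain ⟨I', e', m', he', hm', hem'⟩ := img_fact s
    have := he'
    have := hm'
    have hI' : Qc P I' := hS.of_epi e'
    have hQ : Qc P (Subobject.mk m' : C) := hI'.of_mono (Subobject.underlyingIso m').hom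
    have h2 : ∀ j : Shrink.{w} I, (e.symm j).1.arrow ≫ cokernel.π τ = 0 := by
      intro j
      have h4 : (e.symm j).1.arrow = Sigma.ι fam j ≫ σ := (Sigma.ι_desc (fun j => (e.symm j).1.arrow) j).symm
      rw [h4, ← hετ, Category.assoc, Category.assoc, cokernel.condition, comp_zero, comp_zero]
    have h3 : (Subobject.mk m').arrow ≫ cokernel.π τ = 0 := by
      have h5 := h2 (e ⟨Subobject.mk m', hQ⟩)
      rw [e.symm_apply_apply] at h5
      exact h5
    calc s ≫ cokernel.π τ = (e' ≫ m') ≫ cokernel.π τ := by rw [hem']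
      _ = (e' ≫ (Subobject.underlyingIso m').inv ≫ (Subobject.mk m').arrow) ≫ cokernel.π τ := by
          rw [Subobject.underlyingIso_arrow]
      _ = 0 := by simp only [Category.assoc, h3, comp_zero]

theorem isSplitMono_of_Qc {P : ObjectProperty C} [P.IsClosedUnderSubobjects]
    {M N X : C} (hM : GabLoc.IsClosedFor P M) (i : M ⟶ N) (p : N ⟶ X) (hp : i ≫ p = 0)
    (hX : Qc P X) (hS : (ShortComplex.mk i p hp).ShortExact) : IsSplitMono i := by
  have hTF : TF P M := fun A hA a => hM.1 hA a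
  have : Mono i := hS.mono_f
  have : Epi p := hS.epi_g
  obtain ⟨T, τ, hτ, hT, hmax⟩ := exists_largest P N
  have := hτ
  -- (a) `i ≫ π` is a monomorphism
  have hmono : Mono (i ≫ cokernel.π τ) := by
    apply Preadditive.mono_of_kernel_zero
    have h1 : (kernel.ι (i ≫ cokernel.π τ) ≫ i) ≫ cokernel.π τ = 0 := by
      rw [Category.assoc]; exact kernel.condition (i ≫ cokernel.π τ)
    have hl : Abelian.monoLift τ _ h1 ≫ τ = kernel.ι (i ≫ cokernel.π τ) ≫ i :=
      Abelian.monoLift_comp _ _ _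
    have : Mono (Abelian.monoLift τ _ h1) := mono_of_mono_fac hl
    exact (hT.of_mono (Abelian.monoLift τ _ h1)).hom_eq_zero hTF _
  -- (b) the quotient `N / T` is torsion-free
  have hNbar : TF P (cokernel τ) := by
    intro A hA a
    obtain ⟨u, hu, hu1, hpb⟩ := shortExact_pullback (shortExact_cokernel τ) a
    have hQ : Qc P (pullback (cokernel.π τ) a) := Qc.of_shortExact hpb hT (le_Qc P _ hA)
    have h0 : pullback.fst (cokernel.π τ) a ≫ cokernel.π τ = 0 := hmax _ hQ
    have h1 : pullback.snd (cokernel.π τ) a ≫ a = 0 := by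
      rw [← pullback.condition]; exact h0
    have : Epi (pullback.snd (cokernel.π τ) a) := inferInstance
    exact (cancel_epi (pullback.snd (cokernel.π τ) a)).1 (by rw [h1, comp_zero])
  -- (c) the cokernel of `i ≫ π` vanishes
  have hX' : IsZero (cokernel (i ≫ cokernel.π τ)) := by
    have hQ : Qc P (cokernel (i ≫ cokernel.π τ)) := by
      have h1 : i ≫ (cokernel.π τ ≫ cokernel.π (i ≫ cokernel.π τ)) = 0 := by
        rw [← Category.assoc]; exact cokernel.condition _
      have hx : p ≫ hS.exact.desc _ h1 = cokernel.π τ ≫ cokernel.π (i ≫ cokernel.π τ) :=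
        hS.exact.g_desc _ _
      have : Epi (cokernel.π τ ≫ cokernel.π (i ≫ cokernel.π τ)) := epi_comp _ _
      have : Epi (hS.exact.desc _ h1) := epi_of_epi_fac hx
      exact hX.of_epi (hS.exact.desc _ h1)
    refine hQ.isZero_of_TF ?_
    intro A hA a
    obtain ⟨u, hu, hu1, hpb⟩ := shortExact_pullback (shortExact_cokernel (i ≫ cokernel.π τ)) a
    have : IsSplitMono u := hM.2 u _ hu hA hpb
    let spl := ShortComplex.Splitting.ofExactOfRetraction _ hpb.exact (retraction u)
      (IsSplitMono.id u) hpb.epi_g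
    have hs : spl.s ≫ pullback.snd (cokernel.π (i ≫ cokernel.π τ)) a = 𝟙 A := spl.s_g
    have h0 : spl.s ≫ pullback.fst (cokernel.π (i ≫ cokernel.π τ)) a = 0 := hNbar hA _
    calc a = (spl.s ≫ pullback.snd (cokernel.π (i ≫ cokernel.π τ)) a) ≫ a := by
          rw [hs, Category.id_comp]
      _ = spl.s ≫ (pullback.fst (cokernel.π (i ≫ cokernel.π τ)) a ≫
            cokernel.π (i ≫ cokernel.π τ)) := by rw [Category.assoc, pullback.condition]
      _ = 0 := by rw [← Category.assoc, h0, zero_comp]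
  have : Epi (i ≫ cokernel.π τ) := Preadditive.epi_of_isZero_cokernel _ hX'
  have : IsIso (i ≫ cokernel.π τ) := isIso_of_mono_of_epi _
  exact IsSplitMono.mk' ⟨cokernel.π τ ≫ inv (i ≫ cokernel.π τ), by
    rw [← Category.assoc, IsIso.hom_inv_id]⟩

theorem closedFor_locClosure {P : ObjectProperty C} [P.IsClosedUnderSubobjects]
    {M : C} (hM : GabLoc.IsClosedFor P M) : GabLoc.IsClosedFor (GabLoc.locClosure.{w} P) M := by
  have hle : ∀ X, GabLoc.locClosure.{w} P X → Qc P X :=
    fun X hX => hX (Qc P) (isLocalizing_Qc P) (le_Qc P)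
  exact ⟨fun Y hY f => (hle Y hY).hom_eq_zero (fun A hA a => hM.1 hA a) f,
    fun N Y i p hp hY hS => isSplitMono_of_Qc hM i p hp (hle Y hY) hS⟩

omit [IsGrothendieckAbelian.{w} C] in
lemma le_locClosure (P : ObjectProperty C) : ∀ X, P X → GabLoc.locClosure.{w} P X :=
  fun X hX _ _ hPQ => hPQ X hX

end ab5

end Groth.Agent.Lib.LeadGabLoc
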