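import Mathlib
import Groth.Prelude.Def_W4c5qcohlocdualityLoc
import Groth.Agent.Lib.LeadGabLoc

/-!
# The localizing closure via transfinite filtrations

`X` lies in the localizing closure of `P` iff `0 ⟶ X` is a transfinite composition of
monomorphisms whose cokernels are subquotients of coproducts of objects of `P`.
The construction of the filtration follows the pattern of Mathlib's
`IsGrothendieckAbelian.generatingMonomorphisms.exists_transfiniteCompositionOfShape`.
-/

universe w v u

open CategoryTheory CategoryTheory.Limits ZeroObject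

namespace Groth.Agent.Lib.LeadGabLoc

section converse

variable {C : Type u} [Category.{v} C] [Abelian C] [IsGrothendieckAbelian.{w} C]

lemma IsLocalizing.prop_of_isColimit {Q : ObjectProperty C} (hQ : GabLoc.IsLocalizing.{w} Q)
    {K : Type w} [Category.{w} K] {D : K ⥤ C} (c : Cocone D) (hc : IsColimit c)
    (h : ∀ k, Q (D.obj k)) : Q c.pt := by
  have := hQ.isSerreClass
  have := hQ.isClosedUnderCoproducts K
  have h1 : Q (∐ D.obj) := Q.prop_colimit (Discrete.functor D.obj) (fun ⟨k⟩ => h k)
  have : Epi (Sigma.desc c.ι.app) := ⟨fun g g' hgg' => hc.hom_ext (fun k => by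
    have h2 := congrArg (fun x => Sigma.ι D.obj k ≫ x) hgg'
    simpa using h2)⟩
  exact Q.prop_of_epi (Sigma.desc c.ι.app) h1

lemma subquotCoprod_le {P Q : ObjectProperty C} (hQ : GabLoc.IsLocalizing.{w} Q) (hPQ : P ≤ Q) :
    GabLoc.subquotCoprod.{w} P ≤ Q := by
  rintro A ⟨J, X, hX, B, i, p, hi, hp⟩
  have := hQ.isSerreClass
  have := hQ.isClosedUnderCoproducts J
  have h1 : Q (∐ X) := Q.prop_colimit (Discrete.functor X) (fun ⟨j⟩ => hPQ _ (hX j))
  exact Q.prop_of_epi p (Q.prop_of_mono i h1)

theorem locClosure_of_tc (P : ObjectProperty C) (X : C)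
    (h : MorphismProperty.transfiniteCompositions.{w} (GabLoc.monoModSubquot.{w} P)
      (0 : (0 : C) ⟶ X)) : GabLoc.locClosure.{w} P X := by
  intro Q hQ hPQ
  rw [MorphismProperty.transfiniteCompositions_iff] at h
  obtain ⟨J, _, _, _, _, ⟨h⟩⟩ := h
  have := hQ.isSerreClass
  have key : ∀ j : J, Q (h.F.obj j) := by
    intro j
    induction j using SuccOrder.limitRecOn with
    | isMin j hj =>
      obtain rfl := hj.eq_bot
      exact Q.prop_of_isZero (IsZero.of_iso (isZero_zero C) h.isoBot)
    | succ j hj ih =>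
      obtain ⟨hmono, hcok⟩ := h.map_mem j hj
      exact Q.prop_X₂_of_shortExact
        (shortExact_cokernel (h.F.map (homOfLE (Order.le_succ j)))) ih
        (subquotCoprod_le hQ hPQ _ hcok)
    | isSuccLimit j hj ih =>
      exact IsLocalizing.prop_of_isColimit hQ _ (h.F.isColimitOfIsWellOrderContinuous j hj)
        (fun k => ih k.1 k.2)
  exact IsLocalizing.prop_of_isColimit hQ _ h.isColimit key

end converse

section closure

variable {C : Type u} [Category.{v} C] [Abelian C] [IsGrothendieckAbelian.{w} C]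

lemma le_subquotCoprod (P : ObjectProperty C) : P ≤ GabLoc.subquotCoprod.{w} P := by
  intro X hX
  refine ⟨PUnit.{w+1}, fun _ => X, fun _ => hX, ∐ (fun _ : PUnit.{w+1} => X), 𝟙 _,
    Sigma.desc (fun _ => 𝟙 X), inferInstance, ?_⟩
  have h1 : Sigma.ι (fun _ : PUnit.{w+1} => X) PUnit.unit ≫ Sigma.desc (fun _ => 𝟙 X) = 𝟙 X :=
    Sigma.ι_desc _ _
  have : Epi (Sigma.ι (fun _ : PUnit.{w+1} => X) PUnit.unit ≫ Sigma.desc (fun _ => 𝟙 X)) := by
    rw [h1]; infer_instance
  exact epi_of_epi (Sigma.ι (fun _ : PUnit.{w+1} => X) PUnit.unit) _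

instance subquot_sub (P : ObjectProperty C) :
    (GabLoc.subquotCoprod.{w} P).IsClosedUnderSubobjects where
  prop_of_mono {A' A} f _ := by
    rintro ⟨J, X, hX, B, i, p, hi, hp⟩
    exact ⟨J, X, hX, pullback p f, pullback.fst p f ≫ i, pullback.snd p f,
      mono_comp _ _, inferInstance⟩

instance subquot_quot (P : ObjectProperty C) :
    (GabLoc.subquotCoprod.{w} P).IsClosedUnderQuotients where
  prop_of_epi {A A''} f _ := by
    rintro ⟨J, X, hX, B, i, p, hi, hp⟩
    exact ⟨J, X, hX, B, i, p ≫ f, hi, epi_comp _ _⟩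

lemma subquot_of_isZero (P : ObjectProperty C) {Z : C} (hZ : IsZero Z) :
    GabLoc.subquotCoprod.{w} P Z :=
  ⟨PEmpty.{w+1}, fun j => j.elim, fun j => j.elim, Z, 0, 𝟙 Z,
    ⟨fun g h _ => hZ.eq_of_tgt _ _⟩, inferInstance⟩

lemma mem_of_eq {P : ObjectProperty C} {X : C} {A B : Subobject X} (h : A ≤ B) (hAB : A = B) :
    GabLoc.monoModSubquot.{w} P (Subobject.ofLE A B h) := by
  subst hAB
  refine ⟨inferInstance, subquot_of_isZero P ?_⟩
  have h1 : Subobject.ofLE A A h = 𝟙 _ := Subobject.ofLE_refl A
  rw [h1]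
  exact isZero_cokernel_of_epi _

lemma mem_congr {P : ObjectProperty C} {X : C} {A B B' : Subobject X} (h : A ≤ B) (hB : B = B')
    (h' : A ≤ B') (hm : GabLoc.monoModSubquot.{w} P (Subobject.ofLE A B h)) :
    GabLoc.monoModSubquot.{w} P (Subobject.ofLE A B' h') := by
  subst hB
  exact hm

lemma shortExact_pullback_cokernel {X Y A : C} (f : X ⟶ Y) [Mono f] (a : A ⟶ cokernel f) :
    ∃ (u : X ⟶ pullback (cokernel.π f) a) (hu : u ≫ pullback.snd (cokernel.π f) a = 0),
      u ≫ pullback.fst (cokernel.π f) a = f ∧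
        (ShortComplex.mk u (pullback.snd (cokernel.π f) a) hu).ShortExact :=
  shortExact_pullback (shortExact_cokernel f) a

lemma exists_larger {P : ObjectProperty C} {X : C} (hX : Qc (GabLoc.subquotCoprod.{w} P) X)
    (A : Subobject X) (hA : A ≠ ⊤) :
    ∃ (A' : Subobject X) (h : A < A'),
      GabLoc.monoModSubquot.{w} P (Subobject.ofLE A A' h.le) := by
  have hZQ : Qc (GabLoc.subquotCoprod.{w} P) (cokernel A.arrow) := hX.of_epi (cokernel.π A.arrow)
  have hZ : ¬ IsZero (cokernel A.arrow) := by
    intro hz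
    apply hA
    have : Epi A.arrow := Preadditive.epi_of_isZero_cokernel _ hz
    have : IsIso A.arrow := isIso_of_mono_of_epi _
    exact (Subobject.isIso_arrow_iff_eq_top A).1 inferInstance
  have hTF : ¬ TF (GabLoc.subquotCoprod.{w} P) (cokernel A.arrow) :=
    fun h => hZ (hZQ.isZero_of_TF h)
  obtain ⟨B, hB, b, hb⟩ : ∃ (B : C), GabLoc.subquotCoprod.{w} P B ∧
      ∃ b : B ⟶ cokernel A.arrow, b ≠ 0 := by
    by_contra hcon
    push_neg at hcon
    exact hTF (fun B hB b => hcon B hB b)
  obtain ⟨I, e, m, he, hm, hem⟩ := img_fact b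
  have hI : GabLoc.subquotCoprod.{w} P I := (GabLoc.subquotCoprod.{w} P).prop_of_epi e hB
  have hm0 : m ≠ 0 := by
    rintro rfl
    exact hb (by rw [← hem, comp_zero])
  obtain ⟨u, hu, hu1, hpb⟩ := shortExact_pullback_cokernel A.arrow m
  have hle : A ≤ Subobject.mk (pullback.fst (cokernel.π A.arrow) m) :=
    Subobject.le_mk_of_comm u hu1
  have hne : ¬ (Subobject.mk (pullback.fst (cokernel.π A.arrow) m) ≤ A) := by
    intro hge
    have h1 : pullback.fst (cokernel.π A.arrow) m ≫ cokernel.π A.arrow = 0 := by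
      have h3 : pullback.fst (cokernel.π A.arrow) m =
          ((Subobject.underlyingIso _).inv ≫ Subobject.ofLE _ _ hge) ≫ A.arrow := by
        rw [Category.assoc, Subobject.ofLE_arrow, Subobject.underlyingIso_arrow]
      rw [h3, Category.assoc, cokernel.condition, comp_zero]
    have h2 : pullback.snd (cokernel.π A.arrow) m ≫ m = 0 := by
      rw [← pullback.condition]; exact h1
    exact hm0 ((cancel_epi (pullback.snd (cokernel.π A.arrow) m)).1 (by rw [h2, comp_zero]))
  refine ⟨Subobject.mk (pullback.fst (cokernel.π A.arrow) m), lt_of_le_not_ge hle hne,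
    inferInstance, ?_⟩
  -- the cokernel is a quotient of `I`
  have ho : u ≫ (Subobject.underlyingIso (pullback.fst (cokernel.π A.arrow) m)).inv =
      Subobject.ofLE A _ hle := by
    rw [← cancel_mono (Subobject.mk (pullback.fst (cokernel.π A.arrow) m)).arrow,
      Category.assoc, Subobject.underlyingIso_arrow, hu1, Subobject.ofLE_arrow]
  have hk : u ≫ ((Subobject.underlyingIso (pullback.fst (cokernel.π A.arrow) m)).inv ≫
      cokernel.π (Subobject.ofLE A _ hle)) = 0 := by
    rw [← Category.assoc, ho, cokernel.condition]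
  have := hpb.epi_g
  have hd : pullback.snd (cokernel.π A.arrow) m ≫ hpb.exact.desc _ hk =
      (Subobject.underlyingIso (pullback.fst (cokernel.π A.arrow) m)).inv ≫
        cokernel.π (Subobject.ofLE A _ hle) := hpb.exact.g_desc _ hk
  have : Epi ((Subobject.underlyingIso (pullback.fst (cokernel.π A.arrow) m)).inv ≫
        cokernel.π (Subobject.ofLE A _ hle)) := epi_comp _ _
  have : Epi (hpb.exact.desc _ hk) := epi_of_epi_fac hd
  exact (GabLoc.subquotCoprod.{w} P).prop_of_epi (hpb.exact.desc _ hk) hI

open Classical in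
/-- the next step of the filtration -/
noncomputable def next {P : ObjectProperty C} {X : C}
    (hX : Qc (GabLoc.subquotCoprod.{w} P) X) (A : Subobject X) : Subobject X :=
  if hA : A = ⊤ then ⊤ else (exists_larger hX A hA).choose

variable {P : ObjectProperty C} {X : C} (hX : Qc (GabLoc.subquotCoprod.{w} P) X)

lemma next_top : next hX ⊤ = ⊤ := dif_pos rfl

lemma lt_next (A : Subobject X) (hA : A ≠ ⊤) : A < next hX A := by
  dsimp only [next]
  rw [dif_neg hA]
  exact (exists_larger hX A hA).choose_spec.choose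

lemma le_next (A : Subobject X) : A ≤ next hX A := by
  by_cases hA : A = ⊤
  · subst hA
    rw [next_top]
  · exact (lt_next hX A hA).le

lemma mem_next (A : Subobject X) :
    GabLoc.monoModSubquot.{w} P (Subobject.ofLE A (next hX A) (le_next hX A)) := by
  by_cases hA : A = ⊤
  · have h1 : next hX A = A := by rw [hA, next_top]
    exact mem_of_eq _ h1.symm
  · have h2 := (exists_larger hX A hA).choose_spec.choose_spec
    have h1 : (exists_larger hX A hA).choose = next hX A := by
      dsimp only [next]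
      rw [dif_neg hA]
    exact mem_congr _ h1 _ h2

end closure

section iter

open Category

variable {C : Type u} [Category.{v} C] [Abelian C] [IsGrothendieckAbelian.{w} C] {X : C}
  (φ : Subobject X → Subobject X) (hφ : ∀ A, A ≤ φ A)
  (A₀ : Subobject X) (J : Type w) [LinearOrder J] [OrderBot J] [SuccOrder J] [WellFoundedLT J]

/-- the functor `J ⥤ MonoOver X` given by the transfinite iteration of `φ` -/
@[simps]
noncomputable def functorToMonoOver : J ⥤ MonoOver X where
  obj j := MonoOver.mk (transfiniteIterate φ j A₀).arrow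
  map {j j'} f := MonoOver.homMk (Subobject.ofLE _ _
      (monotone_transfiniteIterate _ _ hφ (leOfHom f)))

/-- the induced functor `J ⥤ C` -/
noncomputable abbrev functor : J ⥤ C :=
  functorToMonoOver φ hφ A₀ J ⋙ MonoOver.forget _ ⋙ Over.forget _

set_option backward.defeqAttrib.useBackward true in
instance : (functor φ hφ A₀ J).IsWellOrderContinuous where
  nonempty_isColimit m hm := ⟨by
    have := hm.nonempty_Iio.to_subtype
    let c := (Set.principalSegIio m).cocone (functorToMonoOver φ hφ A₀ J ⋙ MonoOver.forget _)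
    have : Mono c.pt.hom := by dsimp [c]; infer_instance
    apply IsGrothendieckAbelian.isColimitMapCoconeOfSubobjectMkEqISup
      ((Set.principalSegIio m).monotone.functor ⋙ functorToMonoOver φ hφ A₀ J) c
    dsimp [c]
    simp only [Subobject.mk_arrow]
    exact transfiniteIterate_limit φ A₀ m hm⟩

set_option backward.isDefEq.respectTransparency.types false in
set_option backward.defeqAttrib.useBackward true in
variable {J} in
/-- the map from the bottom stage to stage `j` is a transfinite composition -/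
noncomputable def tcMapFromBot (W : MorphismProperty C)
    (hW : ∀ A, W (Subobject.ofLE A (φ A) (hφ A))) (j : J) :
    W.TransfiniteCompositionOfShape (Set.Iic j)
    ((functor φ hφ A₀ J).map (homOfLE bot_le : ⊥ ⟶ j)) where
  F := (Set.initialSegIic j).monotone.functor ⋙ functor φ hφ A₀ J
  isoBot := Iso.refl _
  incl :=
    { app k := (functor φ hφ A₀ J).map (homOfLE k.2)
      naturality k k' h := by simp [MonoOver.forget] }
  isColimit := colimitOfDiagramTerminal isTerminalTop _
  map_mem k hk := by
    dsimp [MonoOver.forget]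
    convert! hW (transfiniteIterate φ k.1 A₀) using 2
    all_goals
      rw [Set.Iic.succ_eq_of_not_isMax hk,
        transfiniteIterate_succ _ _ _ (Set.not_isMax_coe _ hk)]

variable {A : C} {f : A ⟶ X} [Mono f]

set_option backward.defeqAttrib.useBackward true in
set_option backward.isDefEq.respectTransparency false in
/-- if the iteration reaches `⊤`, then `f` is a transfinite composition -/
noncomputable def tcOfEqTop (W : MorphismProperty C)
    (hW : ∀ A, W (Subobject.ofLE A (φ A) (hφ A)))
    {J : Type w} [LinearOrder J] [OrderBot J] [SuccOrder J] [WellFoundedLT J] {j : J}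
    (hj : transfiniteIterate φ j (Subobject.mk f) = ⊤) :
    W.TransfiniteCompositionOfShape (Set.Iic j) f := by
  let t := transfiniteIterate φ j (Subobject.mk f)
  have := (Subobject.isIso_arrow_iff_eq_top t).2 hj
  apply (tcMapFromBot φ hφ (Subobject.mk f) W hW j).ofArrowIso
  refine Arrow.isoMk ((Subobject.isoOfEq _ _ (transfiniteIterate_bot _ _) ≪≫
    Subobject.underlyingIso f)) (asIso t.arrow) ?_
  dsimp [MonoOver.forget]
  rw [assoc, Subobject.underlyingIso_hom_comp_eq_mk, Subobject.ofLE_arrow,
    Subobject.ofLE_arrow]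

omit [Mono f] in
lemma top_mem_range (hφ' : ∀ A, A ≠ (⊤ : Subobject X) → A < φ A) (hφtop : φ ⊤ = ⊤)
    (A₀ : Subobject X) {J : Type w} [LinearOrder J] [OrderBot J] [SuccOrder J]
    [WellFoundedLT J] (hJ : HasCardinalLT (Subobject X) (Cardinal.mk J)) :
    ∃ (j : J), transfiniteIterate φ j A₀ = ⊤ :=
  top_mem_range_transfiniteIterate φ A₀ hφ' hφtop
    (fun h ↦ by simpa [hasCardinalLT_iff_cardinal_mk_lt] using hJ.of_injective _ h)

omit [Mono f] in
lemma exists_ordinal (hφ' : ∀ A, A ≠ (⊤ : Subobject X) → A < φ A) (hφtop : φ ⊤ = ⊤)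
    (A₀ : Subobject X) :
    ∃ (o : Ordinal.{w}) (j : o.ToType), transfiniteIterate φ j A₀ = ⊤ := by
  let κ := Order.succ (Cardinal.mk (Shrink.{w} (Subobject X)))
  have : Nonempty κ.ord.ToType := by simp [κ]
  have := WellFoundedLT.toOrderBot κ.ord.ToType
  exact ⟨κ.ord, top_mem_range φ hφ' hφtop A₀
    (lt_of_lt_of_le (Order.lt_succ _) (by simp [κ]))⟩

end iter

section main

variable {C : Type u} [Category.{v} C] [Abelian C] [IsGrothendieckAbelian.{w} C]

theorem tc_of_Qc {P : ObjectProperty C} {X : C} (hX : Qc (GabLoc.subquotCoprod.{w} P) X) :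
    MorphismProperty.transfiniteCompositions.{w} (GabLoc.monoModSubquot.{w} P)
      (0 : (0 : C) ⟶ X) := by
  obtain ⟨o, j, hj⟩ := exists_ordinal (next hX) (lt_next hX) (next_top hX)
    (Subobject.mk (0 : (0 : C) ⟶ X))
  have : Nonempty o.ToType := ⟨j⟩
  have : OrderBot o.ToType := WellFoundedLT.toOrderBot _
  rw [MorphismProperty.transfiniteCompositions_iff]
  exact ⟨_, _, _, _, _, ⟨tcOfEqTop (next hX) (le_next hX) _ (mem_next hX) hj⟩⟩

theorem locClosure_iff (P : ObjectProperty C) (X : C) :
    GabLoc.locClosure.{w} P X ↔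
      MorphismProperty.transfiniteCompositions.{w} (GabLoc.monoModSubquot.{w} P)
        (0 : (0 : C) ⟶ X) := by
  constructor
  · intro h
    exact tc_of_Qc (h (Qc (GabLoc.subquotCoprod.{w} P)) (isLocalizing_Qc _)
      (fun Y hY => le_Qc _ Y (le_subquotCoprod P Y hY)))
  · exact locClosure_of_tc P X

end main

end Groth.Agent.Lib.LeadGabLoc
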