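import Mathlib
import Groth.Prelude.Def_W4c5qcohlocdualityLoc
import Groth.Agent.Lib.LeadGabLoc

/-!
# Indecomposable injectives in a Grothendieck abelian category are uniform

AB5 for directed families of subobjects, existence of maximal disjoint subobjects (Zorn), and the
fact that two nonzero subobjects of an indecomposable injective object meet nontrivially.
-/

universe w v u

open CategoryTheory CategoryTheory.Limits ZeroObject

namespace Groth.Agent.Lib.LeadGabLoc

section helpers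

variable {C : Type u} [Category.{v} C] [Abelian C]

lemma factors_arrow_of_le {W : C} {Z B : Subobject W} (h : Z ≤ B) : B.Factors Z.arrow := by
  rw [← Subobject.ofLE_arrow h]
  exact Subobject.factors_comp_arrow _

lemma arrow_comp_eq_zero_of_le_kernel {W V : C} {Z : Subobject W} (φ : W ⟶ V)
    (h : Z ≤ kernelSubobject φ) : Z.arrow ≫ φ = 0 := by
  rw [← Subobject.ofLE_arrow h, Category.assoc, kernelSubobject_arrow_comp, comp_zero]

lemma factors_of_comp_cokernel_eq_zero {W T : C} (A : Subobject W) (t : T ⟶ W)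
    (h : t ≫ cokernel.π A.arrow = 0) : A.Factors t := by
  have h2 := Subobject.factors_comp_arrow (P := A) (Abelian.monoLift A.arrow t h)
  rwa [Abelian.monoLift_comp] at h2

lemma comp_cokernel_eq_zero_of_factors {W T : C} (A : Subobject W) (t : T ⟶ W)
    (h : A.Factors t) : t ≫ cokernel.π A.arrow = 0 := by
  rw [← Subobject.factorThru_arrow _ _ h, Category.assoc, cokernel.condition, comp_zero]

lemma eq_bot_of_arrow_eq_zero {W : C} {Z : Subobject W} (h : Z.arrow = 0) : Z = ⊥ :=
  eq_bot_iff.2 (Subobject.le_of_comm 0 (by rw [zero_comp, h]))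

end helpers

section ab5

variable {C : Type u} [Category.{v} C] [Abelian C] [IsGrothendieckAbelian.{w} C]

/-- AB5 for directed families of subobjects. -/
lemma inf_iSup_eq_bot {W : C} {J : Type w} [Preorder J] [IsDirected J (· ≤ ·)] [Nonempty J]
    (S : J → Subobject W) (hS : Monotone S) (Y : Subobject W) (h : ∀ j, Y ⊓ S j = ⊥) :
    Y ⊓ ⨆ j, S j = ⊥ := by
  have hm : ∀ j, Mono ((S j).arrow ≫ cokernel.π Y.arrow) :=
    fun j => mono_comp_cokernel_of_inf_eq_bot Y (S j) (h j)
  let Φ : J ⥤ MonoOver (cokernel Y.arrow) :=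
    { obj := fun j => MonoOver.mk ((S j).arrow ≫ cokernel.π Y.arrow)
      map := fun {j j'} f => MonoOver.homMk (Subobject.ofLE _ _ (hS (leOfHom f))) (by
        show Subobject.ofLE _ _ _ ≫ ((S j').arrow ≫ cokernel.π Y.arrow) =
          (S j).arrow ≫ cokernel.π Y.arrow
        rw [← Category.assoc, Subobject.ofLE_arrow])
      map_id := fun _ => Subsingleton.elim _ _
      map_comp := fun _ _ => Subsingleton.elim _ _ }
  let Φ' : J ⥤ MonoOver W :=
    { obj := fun j => MonoOver.mk (S j).arrow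
      map := fun {j j'} f => MonoOver.homMk (Subobject.ofLE _ _ (hS (leOfHom f))) (by
        show Subobject.ofLE _ _ _ ≫ (S j').arrow = (S j).arrow
        exact Subobject.ofLE_arrow _)
      map_id := fun _ => Subsingleton.elim _ _
      map_comp := fun _ _ => Subsingleton.elim _ _ }
  let G : J ⥤ C := Φ' ⋙ MonoOver.forget _ ⋙ Over.forget _
  let cc : Cocone G := Cocone.mk W
    { app := fun j => (S j).arrow
      naturality := fun j j' φ => by
        show Subobject.ofLE _ _ _ ≫ (S j').arrow = (S j).arrow ≫ 𝟙 W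
        rw [Subobject.ofLE_arrow, Category.comp_id] }
  let g : colimit G ⟶ W := colimit.desc G cc
  have hg : ∀ j, colimit.ι G j ≫ g = (S j).arrow := fun j => colimit.ι_desc cc j
  have hgm : Mono g :=
    IsGrothendieckAbelian.mono_of_isColimit_monoOver Φ' (colimit.isColimit G) g hg
  have hsup : Subobject.mk g = ⨆ j, S j := by
    have h1 := IsGrothendieckAbelian.subobjectMk_of_isColimit_eq_iSup Φ' (colimit.isColimit G) g hg
    rw [h1]
    congr 1
    funext j
    exact Subobject.mk_arrow (S j)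
  have hgq : Mono (g ≫ cokernel.π Y.arrow) :=
    IsGrothendieckAbelian.mono_of_isColimit_monoOver Φ (colimit.isColimit G)
      (g ≫ cokernel.π Y.arrow) (fun j =>
        (Category.assoc _ _ _).symm.trans
          (congrArg (fun x => x ≫ cokernel.π Y.arrow) (hg j)))
  rw [← hsup]
  apply eq_bot_of_arrow_eq_zero
  have hZY : Y ⊓ Subobject.mk g ≤ Y := inf_le_left
  have hZg : Y ⊓ Subobject.mk g ≤ Subobject.mk g := inf_le_right
  have ha : (Subobject.ofLE _ _ hZg ≫ (Subobject.underlyingIso g).hom) ≫ g =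
      (Y ⊓ Subobject.mk g).arrow := by
    rw [Category.assoc, Subobject.underlyingIso_hom_comp_eq_mk, Subobject.ofLE_arrow]
  have h0 : (Subobject.ofLE _ _ hZg ≫ (Subobject.underlyingIso g).hom) ≫
      (g ≫ cokernel.π Y.arrow) = 0 := by
    rw [← Category.assoc, ha, ← Subobject.ofLE_arrow hZY, Category.assoc, cokernel.condition,
      comp_zero]
  have ha0 : Subobject.ofLE _ _ hZg ≫ (Subobject.underlyingIso g).hom = 0 :=
    zero_of_comp_mono _ h0
  rw [← ha, ha0, zero_comp]

lemma inf_sSup_eq_bot_of_chain {W : C} (c : Set (Subobject W)) (hc : IsChain (· ≤ ·) c)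
    (hne : c.Nonempty) (Y : Subobject W) (h : ∀ S ∈ c, Y ⊓ S = ⊥) : Y ⊓ sSup c = ⊥ := by
  let e : ↥c ≃ Shrink.{w} ↥c := equivShrink _
  let S : Shrink.{w} ↥c → Subobject W := fun j => (e.symm j).1
  letI : Preorder (Shrink.{w} ↥c) := Preorder.lift S
  have hS : Monotone S := fun _ _ h => h
  haveI : IsDirected (Shrink.{w} ↥c) (· ≤ ·) := ⟨fun a b => by
    rcases hc.total (e.symm a).2 (e.symm b).2 with hab | hab
    · exact ⟨b, hab, le_refl _⟩
    · exact ⟨a, le_refl _, hab⟩⟩
  haveI : Nonempty (Shrink.{w} ↥c) := ⟨e ⟨hne.some, hne.some_mem⟩⟩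
  have hsup : ⨆ j, S j = sSup c := by
    apply le_antisymm
    · exact iSup_le (fun j => le_sSup (e.symm j).2)
    · apply sSup_le
      intro B hB
      have h1 : S (e ⟨B, hB⟩) = B := by simp [S]
      rw [← h1]
      exact le_iSup S _
  rw [← hsup]
  exact inf_iSup_eq_bot S hS Y (fun j => h _ (e.symm j).2)

lemma exists_max_disjoint {W : C} (Y B₀ : Subobject W) (h₀ : Y ⊓ B₀ = ⊥) :
    ∃ B : Subobject W, B₀ ≤ B ∧ Y ⊓ B = ⊥ ∧
      ∀ B' : Subobject W, B ≤ B' → Y ⊓ B' = ⊥ → B' = B := by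
  obtain ⟨B, hB₀, hmax⟩ := zorn_le_nonempty₀ {B : Subobject W | Y ⊓ B = ⊥} (by
    intro c hcs hc y hy
    exact ⟨sSup c, inf_sSup_eq_bot_of_chain c hc ⟨y, hy⟩ Y (fun S hS => hcs hS),
      fun z hz => le_sSup hz⟩) B₀ h₀
  exact ⟨B, hB₀, hmax.prop, fun B' hBB' hB' => le_antisymm (hmax.le_of_ge hB' hBB') hBB'⟩

theorem inf_ne_bot_of_indecomposable (E : C) [Injective E]
    (hind : ∀ (A B : C), Nonempty (E ≅ A ⊞ B) → IsZero A ∨ IsZero B)
    (A₁ A₂ : Subobject E) (h₁ : A₁ ≠ ⊥) (h₂ : A₂ ≠ ⊥) : A₁ ⊓ A₂ ≠ ⊥ := by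
  intro h12
  obtain ⟨B, hA₂B, hA₁B, hBmax⟩ := exists_max_disjoint A₁ A₂ h12
  obtain ⟨A', hA₁A', hBA', hA'max⟩ := exists_max_disjoint B A₁ (by rw [inf_comm]; exact hA₁B)
  have hmono : Mono (B.arrow ≫ cokernel.π A'.arrow) :=
    mono_comp_cokernel_of_inf_eq_bot A' B (by rw [inf_comm]; exact hBA')
  obtain ⟨g, hg⟩ : ∃ g : cokernel A'.arrow ⟶ E,
      (B.arrow ≫ cokernel.π A'.arrow) ≫ g = B.arrow :=
    ⟨Injective.factorThru B.arrow (B.arrow ≫ cokernel.π A'.arrow),
      Injective.comp_factorThru _ _⟩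
  have hfB : B.arrow ≫ (cokernel.π A'.arrow ≫ g) = B.arrow := by
    rw [← Category.assoc]; exact hg
  have hfA' : A'.arrow ≫ (cokernel.π A'.arrow ≫ g) = 0 := by
    rw [← Category.assoc, cokernel.condition, zero_comp]
  -- a generalized element of `B` whose image under `f` lies in `A'` vanishes
  have key1 : ∀ {T : C} (t : T ⟶ E), B.Factors t →
      A'.Factors (t ≫ (cokernel.π A'.arrow ≫ g)) → t = 0 := by
    intro T t hB hA
    have h1 : t ≫ (cokernel.π A'.arrow ≫ g) = t := by
      calc t ≫ (cokernel.π A'.arrow ≫ g)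
          = (B.factorThru t hB ≫ B.arrow) ≫ (cokernel.π A'.arrow ≫ g) := by
            rw [Subobject.factorThru_arrow]
        _ = B.factorThru t hB ≫ B.arrow := by rw [Category.assoc, hfB]
        _ = t := Subobject.factorThru_arrow _ _ _
    rw [h1] at hA
    have h2 : (B ⊓ A').Factors t := (Subobject.inf_factors _).2 ⟨hB, hA⟩
    rw [hBA', Subobject.bot_factors_iff_zero] at h2
    exact h2
  -- the preimage of `A'` under `f` is `A'`
  have hD : kernelSubobject ((cokernel.π A'.arrow ≫ g) ≫ cokernel.π A'.arrow) = A' := by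
    apply hA'max
    · exact le_kernelSubobject _ _ (by rw [← Category.assoc, hfA', zero_comp])
    · apply eq_bot_of_arrow_eq_zero
      apply key1
      · exact factors_arrow_of_le inf_le_left
      · apply factors_of_comp_cokernel_eq_zero
        exact (Category.assoc _ _ _).trans (arrow_comp_eq_zero_of_le_kernel
          ((cokernel.π A'.arrow ≫ g) ≫ cokernel.π A'.arrow) inf_le_right)
  -- elements killed by `f ≫ π` lie in `A'`
  have key2 : ∀ {T : C} (t : T ⟶ E),
      (t ≫ (cokernel.π A'.arrow ≫ g)) ≫ cokernel.π A'.arrow = 0 →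
      t ≫ cokernel.π A'.arrow = 0 := by
    intro T t ht
    have h2 : A'.Factors t := by
      rw [← hD]
      exact kernelSubobject_factors _ _ (by rw [← Category.assoc]; exact ht)
    exact comp_cokernel_eq_zero_of_factors A' t h2
  -- `g` is a monomorphism
  have hgm : Mono g := by
    apply Preadditive.mono_of_cancel_zero
    intro T t ht
    have h3 : pullback.fst (cokernel.π A'.arrow) t ≫ cokernel.π A'.arrow = 0 := by
      apply key2
      have h4 : pullback.fst (cokernel.π A'.arrow) t ≫ (cokernel.π A'.arrow ≫ g) = 0 := by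
        rw [← Category.assoc, pullback.condition, Category.assoc, ht, comp_zero]
      rw [h4, zero_comp]
    have h4 : pullback.snd (cokernel.π A'.arrow) t ≫ t = 0 := by
      rw [← pullback.condition]; exact h3
    exact (cancel_epi (pullback.snd (cokernel.π A'.arrow) t)).1 (by rw [h4, comp_zero])
  -- the image of `f` meets `A'` trivially
  have hgA' : Subobject.mk g ⊓ A' = ⊥ := by
    apply eq_bot_of_arrow_eq_zero
    have hZg : Subobject.mk g ⊓ A' ≤ Subobject.mk g := inf_le_left
    have hZA : Subobject.mk g ⊓ A' ≤ A' := inf_le_right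
    have ha : (Subobject.ofLE _ _ hZg ≫ (Subobject.underlyingIso g).hom) ≫ g =
        (Subobject.mk g ⊓ A').arrow := by
      rw [Category.assoc, Subobject.underlyingIso_hom_comp_eq_mk, Subobject.ofLE_arrow]
    have h3 : pullback.fst (cokernel.π A'.arrow)
        (Subobject.ofLE _ _ hZg ≫ (Subobject.underlyingIso g).hom) ≫ cokernel.π A'.arrow = 0 := by
      apply key2
      have h4 : pullback.fst (cokernel.π A'.arrow)
          (Subobject.ofLE _ _ hZg ≫ (Subobject.underlyingIso g).hom) ≫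
            (cokernel.π A'.arrow ≫ g) =
          pullback.snd (cokernel.π A'.arrow)
            (Subobject.ofLE _ _ hZg ≫ (Subobject.underlyingIso g).hom) ≫
              (Subobject.mk g ⊓ A').arrow := by
        rw [← Category.assoc, pullback.condition, Category.assoc, ha]
      rw [h4, Category.assoc,
        comp_cokernel_eq_zero_of_factors A' _ (factors_arrow_of_le hZA), comp_zero]
    have h4 : pullback.snd (cokernel.π A'.arrow)
        (Subobject.ofLE _ _ hZg ≫ (Subobject.underlyingIso g).hom) ≫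
          (Subobject.ofLE _ _ hZg ≫ (Subobject.underlyingIso g).hom) = 0 := by
      rw [← pullback.condition]; exact h3
    have h5 : Subobject.ofLE _ _ hZg ≫ (Subobject.underlyingIso g).hom = 0 :=
      (cancel_epi (pullback.snd (cokernel.π A'.arrow)
        (Subobject.ofLE _ _ hZg ≫ (Subobject.underlyingIso g).hom))).1 (by rw [h4, comp_zero])
    rw [← ha, h5, zero_comp]
  -- the image of `f` is `B`
  have hgB : Subobject.mk g = B := by
    apply hBmax
    · exact Subobject.le_mk_of_comm (B.arrow ≫ cokernel.π A'.arrow) hg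
    · apply eq_bot_iff.2
      calc A₁ ⊓ Subobject.mk g ≤ A' ⊓ Subobject.mk g := inf_le_inf_right _ hA₁A'
        _ = Subobject.mk g ⊓ A' := inf_comm _ _
        _ = ⊥ := hgA'
  -- hence `B` is a retract of `E`
  have hr : (cokernel.π A'.arrow ≫ (Subobject.underlyingIso g).inv ≫
      (Subobject.isoOfEq _ _ hgB).hom) ≫ B.arrow = cokernel.π A'.arrow ≫ g := by
    have h6 : (Subobject.isoOfEq _ _ hgB).hom ≫ B.arrow = (Subobject.mk g).arrow :=
      Subobject.ofLE_arrow _
    rw [Category.assoc, Category.assoc, h6, Subobject.underlyingIso_arrow]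
  have hBr : B.arrow ≫ (cokernel.π A'.arrow ≫ (Subobject.underlyingIso g).inv ≫
      (Subobject.isoOfEq _ _ hgB).hom) = 𝟙 _ := by
    rw [← cancel_mono B.arrow, Category.assoc, hr, hfB, Category.id_comp]
  have hSe := shortExact_cokernel B.arrow
  have spl := ShortComplex.Splitting.ofExactOfRetraction _ hSe.exact _ hBr hSe.epi_g
  rcases hind _ _ ⟨spl.isoBinaryBiproduct⟩ with hz | hz
  · apply h₂
    apply eq_bot_of_arrow_eq_zero
    rw [← Subobject.ofLE_arrow hA₂B, hz.eq_of_tgt (Subobject.ofLE _ _ hA₂B) 0, zero_comp]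
  · apply h₁
    have : Epi B.arrow := Preadditive.epi_of_isZero_cokernel _ hz
    have : IsIso B.arrow := isIso_of_mono_of_epi _
    have hB : B = ⊤ := (Subobject.isIso_arrow_iff_eq_top B).1 inferInstance
    rw [hB, inf_top_eq] at hA₁B
    exact hA₁B

theorem hasTorsion_inf (E : C) [Injective E]
    (hind : ∀ (A B : C), Nonempty (E ≅ A ⊞ B) → IsZero A ∨ IsZero B)
    (S₁ S₂ : ObjectProperty C) (h₁ : GabLoc.IsLocalizing.{w} S₁) (h₂ : GabLoc.IsLocalizing.{w} S₂)
    (ht₁ : GabLoc.HasTorsion S₁ E) (ht₂ : GabLoc.HasTorsion S₂ E) :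
    GabLoc.HasTorsion (S₁ ⊓ S₂) E := by
  obtain ⟨Y₁, hY₁, f₁, hf₁⟩ := ht₁
  obtain ⟨Y₂, hY₂, f₂, hf₂⟩ := ht₂
  have := h₁.isSerreClass
  have := h₂.isSerreClass
  obtain ⟨I₁, e₁, m₁, he₁, hm₁, hem₁⟩ := img_fact f₁
  obtain ⟨I₂, e₂, m₂, he₂, hm₂, hem₂⟩ := img_fact f₂
  have hI₁ : S₁ I₁ := S₁.prop_of_epi e₁ hY₁
  have hI₂ : S₂ I₂ := S₂.prop_of_epi e₂ hY₂
  have hm₁0 : m₁ ≠ 0 := by
    rintro rfl
    exact hf₁ (by rw [← hem₁, comp_zero])
  have hm₂0 : m₂ ≠ 0 := by
    rintro rfl
    exact hf₂ (by rw [← hem₂, comp_zero])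
  have hA₁ : Subobject.mk m₁ ≠ ⊥ := fun h => hm₁0 (Subobject.mk_eq_bot_iff_zero.1 h)
  have hA₂ : Subobject.mk m₂ ≠ ⊥ := fun h => hm₂0 (Subobject.mk_eq_bot_iff_zero.1 h)
  have hne := inf_ne_bot_of_indecomposable E hind _ _ hA₁ hA₂
  refine ⟨((Subobject.mk m₁ ⊓ Subobject.mk m₂ : Subobject E) : C),
    (ObjectProperty.prop_inf_iff _ _ _).2 ⟨?_, ?_⟩, (Subobject.mk m₁ ⊓ Subobject.mk m₂).arrow, ?_⟩
  · exact S₁.prop_of_mono
      (Subobject.ofLE _ _ inf_le_left ≫ (Subobject.underlyingIso m₁).hom) hI₁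
  · exact S₂.prop_of_mono
      (Subobject.ofLE _ _ inf_le_right ≫ (Subobject.underlyingIso m₂).hom) hI₂
  · intro h0
    exact hne (eq_bot_of_arrow_eq_zero h0)

end ab5

end Groth.Agent.Lib.LeadGabLoc
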