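import Mathlib

/-!
# Separability of residue extensions for group actions of order prime to the characteristic (lead)

In the `Algebra.IsInvariant A B G` setting (`G` a finite group acting on `B` with invariants `A`),
for a maximal ideal `Q` of `B` which is the kernel of a map `B → F` to a field, lying over the
kernel of `A → k`, the residue of every `b : B` is separable over `k` as soon as the residue
characteristic does not divide `|G|`.
-/

set_option autoImplicit false
set_option maxHeartbeats 400000
set_option linter.style.haveILetI false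
set_option linter.unusedSectionVars false
set_option linter.unusedVariables false

noncomputable section

namespace Groth.Agent.Lib.LeadGalTame

open Polynomial

section pow

variable {k F : Type*} [Field k] [Field F] [Algebra k F]

/-- a monic polynomial over `k` which splits over `F` and all of whose roots in `F` are roots of
the irreducible monic polynomial `μ` is a power of `μ`. -/
theorem eq_pow_of_roots (μ : k[X]) (hμ : Irreducible μ) (hμm : μ.Monic) :
    ∀ (n : ℕ) (h : k[X]), h.natDegree = n → h.Monic → (h.map (algebraMap k F)).Splits →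
      (∀ y : F, aeval y h = 0 → aeval y μ = 0) → ∃ t : ℕ, h = μ ^ t := by
  intro n
  induction n using Nat.strong_induction_on with
  | _ n ih =>
    intro h hn hm hs hroots
    by_cases h0 : h.natDegree = 0
    · refine ⟨0, ?_⟩
      rw [pow_zero]
      exact eq_one_of_monic_natDegree_zero hm h0
    · have hdeg : (h.map (algebraMap k F)).degree ≠ 0 := by
        rw [degree_map]
        intro hd
        exact h0 (natDegree_eq_zero_iff_degree_le_zero.mpr (le_of_eq hd))
      obtain ⟨y, hy⟩ := hs.exists_eval_eq_zero hdeg
      have hy' : aeval y h = 0 := by rwa [eval_map_algebraMap] at hy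
      have hμy := hroots y hy'
      have hmin : μ = minpoly k y := minpoly.eq_of_irreducible_of_monic hμ hμy hμm
      obtain ⟨h₁, hh₁⟩ : μ ∣ h := hmin ▸ minpoly.dvd k y hy'
      have hm₁ : h₁.Monic := hμm.of_mul_monic_left (hh₁ ▸ hm)
      have hμdeg : 0 < μ.natDegree := hμ.natDegree_pos
      have hdeg₁ : h₁.natDegree < n := by
        have : h.natDegree = μ.natDegree + h₁.natDegree := by rw [hh₁, hμm.natDegree_mul hm₁]
        omega
      have hs₁ : (h₁.map (algebraMap k F)).Splits := by
        refine hs.of_dvd (hm.map _).ne_zero ?_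
        rw [hh₁, Polynomial.map_mul]
        exact dvd_mul_left _ _
      have hr₁ : ∀ y : F, aeval y h₁ = 0 → aeval y μ = 0 := by
        intro y hy₁
        apply hroots
        rw [hh₁, map_mul, hy₁, mul_zero]
      obtain ⟨t, ht⟩ := ih _ hdeg₁ h₁ rfl hm₁ hs₁ hr₁
      exact ⟨t + 1, by rw [hh₁, ht, pow_succ']⟩

end pow

section sep

open scoped Pointwise

variable {A B : Type*} [CommRing A] [CommRing B] [Algebra A B]
  (G : Type*) [Group G] [Finite G] [MulSemiringAction G B]

/-- an element congruent to `1` modulo the maximal ideal `Q` and lying in all the other conjugates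
of `Q`. -/
theorem exists_sub_one_mem (Q : Ideal B) [hQ : Q.IsMaximal] :
    ∃ c : B, c - 1 ∈ Q ∧ ∀ g : G, g • Q ≠ Q → c ∈ g • Q := by
  classical
  cases nonempty_fintype G
  let P : Ideal B := (Finset.univ.filter (fun g : G => g • Q ≠ Q)).inf (fun g => g • Q)
  have h1 : ¬ P ≤ Q := by
    rw [Ideal.IsPrime.inf_le' hQ.isPrime]
    rintro ⟨g, hg, hle⟩
    exact (Finset.mem_filter.mp hg).2 (smul_eq_of_smul_le hle)
  obtain ⟨c, hcP, hcQ⟩ := SetLike.not_le_iff_exists.mp h1
  obtain ⟨d, i, hi, hdi⟩ := hQ.exists_inv hcQ
  refine ⟨d * c, ?_, ?_⟩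
  · have : d * c - 1 = -i := by rw [← hdi]; ring
    rw [this]
    exact Q.neg_mem hi
  · intro g hg
    have hle : P ≤ g • Q := Finset.inf_le (Finset.mem_filter.mpr ⟨Finset.mem_univ g, hg⟩)
    exact Ideal.mul_mem_left _ d (hle hcP)

variable [SMulCommClass G A B] [Algebra.IsInvariant A B G]
  (k F : Type*) [Field k] [Field F] [Algebra k F] [Algebra A k] [Algebra B F] [Algebra A F]
  [IsScalarTower A k F] [IsScalarTower A B F]

/-- the number of elements of the stabilizer of `Q`, as a filter cardinality, divides `|G|`. -/
theorem card_filter_stabilizer_dvd [Fintype G] (Q : Ideal B)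
    [DecidablePred fun g : G => g • Q = Q] :
    (Finset.univ.filter (fun g : G => g • Q = Q)).card ∣ Nat.card G := by
  have h1 : (Finset.univ.filter (fun g : G => g • Q = Q)).card =
      Nat.card (MulAction.stabilizer G Q) := by
    rw [Nat.card_eq_fintype_card, ← Fintype.card_subtype]
    exact Fintype.card_congr (Equiv.subtypeEquivRight (fun g => MulAction.mem_stabilizer_iff.symm))
  rw [h1]
  exact Subgroup.card_subgroup_dvd_card _

include G in
/-- **Separability of residues**: the residue of every `b : B` in `F` is separable over `k` when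
the residue characteristic does not divide `|G|`. -/
theorem isSeparable_algebraMap (hAk : Function.Surjective (algebraMap A k))
    (hQ : (RingHom.ker (algebraMap B F)).IsMaximal)
    (hp : ∀ p : ℕ, p.Prime → CharP k p → ¬ p ∣ Nat.card G) (b : B) :
    IsSeparable k (algebraMap B F b) := by
  classical
  cases nonempty_fintype G
  set Q : Ideal B := RingHom.ker (algebraMap B F) with hQdef
  haveI := hQ
  obtain ⟨c, hc1, hc2⟩ := exists_sub_one_mem G Q
  set b' := b * c with hb'
  have hbb' : algebraMap B F b' = algebraMap B F b := by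
    have h1 : b' - b = b * (c - 1) := by rw [hb']; ring
    have h2 : b' - b ∈ Q := by rw [h1]; exact Q.mul_mem_left _ hc1
    rw [hQdef, RingHom.mem_ker, map_sub, sub_eq_zero] at h2
    exact h2
  rw [← hbb']
  set ψ : B →+* F := algebraMap B F with hψ
  set y := ψ b' with hy
  -- the characteristic polynomial
  obtain ⟨P₀, hP₀map, -, hP₀m⟩ := Polynomial.lifts_and_natDegree_eq_and_monic
    (Algebra.IsInvariant.charpoly_mem_lifts A B G b') (MulSemiringAction.monic_charpoly G b')
  set Pk : k[X] := P₀.map (algebraMap A k) with hPk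
  have hPkm : Pk.Monic := hP₀m.map _
  have hPkF : Pk.map (algebraMap k F) = ∏ g : G, (X - C (ψ (g • b'))) := by
    rw [hPk, Polynomial.map_map, ← IsScalarTower.algebraMap_eq A k F,
      IsScalarTower.algebraMap_eq A B F, ← Polynomial.map_map, hP₀map,
      MulSemiringAction.charpoly_eq, Polynomial.map_prod]
    refine Finset.prod_congr rfl fun g _ => ?_
    rw [Polynomial.map_sub, Polynomial.map_X, Polynomial.map_C]
  have hyroot : aeval y Pk = 0 := by
    rw [← eval_map_algebraMap, hPkF, eval_prod]
    apply Finset.prod_eq_zero (Finset.mem_univ (1 : G))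
    rw [one_smul, eval_sub, eval_X, eval_C, sub_self]
  have hint : IsIntegral k y := ⟨Pk, hPkm, by rwa [← aeval_def]⟩
  -- the conjugates outside the stabilizer vanish in `F`
  have hzero : ∀ g : G, g • Q ≠ Q → ψ (g • b') = 0 := by
    intro g hg
    have hg' : g⁻¹ • Q ≠ Q := by
      intro h
      apply hg
      have := congrArg (fun I => g • I) h
      simp only [smul_inv_smul] at this
      exact this.symm
    have h1 : b' ∈ g⁻¹ • Q := by
      rw [hb']
      exact Ideal.mul_mem_left _ b (hc2 g⁻¹ hg')
    have h2 : g • b' ∈ Q := Ideal.mem_inv_pointwise_smul_iff.mp h1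
    rwa [hQdef, RingHom.mem_ker] at h2
  set D : Finset G := Finset.univ.filter (fun g : G => g • Q = Q) with hD
  set m : ℕ := (Finset.univ.filter (fun g : G => ¬ g • Q = Q)).card with hm
  set h : F[X] := ∏ g ∈ D, (X - C (ψ (g • b'))) with hh
  have hsplit : Pk.map (algebraMap k F) = h * X ^ m := by
    rw [hPkF, ← Finset.prod_filter_mul_prod_filter_not Finset.univ (fun g : G => g • Q = Q)]
    congr 1
    rw [hm, ← Finset.prod_const]
    refine Finset.prod_congr rfl fun g hg => ?_
    rw [hzero g (Finset.mem_filter.mp hg).2, C_0, sub_zero]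
  have hhm : h.Monic := monic_prod_of_monic _ _ (fun g _ => monic_X_sub_C _)
  have hhdeg : h.natDegree = D.card := by
    rw [hh, natDegree_prod_of_monic _ _ (fun g _ => monic_X_sub_C _)]
    simp
  have hhsplits : h.Splits := Splits.prod fun g _ => Splits.X_sub_C _
  -- descend `h` to `k`
  have hX : X ^ m ∣ Pk := by
    rw [X_pow_dvd_iff]
    intro d hd
    apply (algebraMap k F).injective
    rw [map_zero, ← coeff_map, hsplit, coeff_mul_X_pow', if_neg (not_le.mpr hd)]
  obtain ⟨h₀, hh₀⟩ := hX
  have hh₀map : h₀.map (algebraMap k F) = h := by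
    have h1 : X ^ m * h₀.map (algebraMap k F) = X ^ m * h := by
      rw [← hsplit.trans (mul_comm _ _), hh₀, Polynomial.map_mul, Polynomial.map_pow,
        Polynomial.map_X]
    exact mul_left_cancel₀ (pow_ne_zero m X_ne_zero) h1
  have hh₀m : h₀.Monic := (monic_X_pow m).of_mul_monic_left (hh₀ ▸ hPkm)
  have hh₀deg : h₀.natDegree = D.card := by
    rw [← hhdeg, ← hh₀map, natDegree_map]
  -- the minimal polynomial
  set μ := minpoly k y with hμ
  have hμirr : Irreducible μ := minpoly.irreducible hint
  have hμm : μ.Monic := minpoly.monic hint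
  obtain ⟨μ₀, hμ₀⟩ := Polynomial.map_surjective (algebraMap A k) hAk μ
  have key : ∀ x : B, aeval (ψ x) μ = ψ (aeval x μ₀) := by
    intro x
    rw [← eval_map_algebraMap, ← hμ₀, Polynomial.map_map, ← IsScalarTower.algebraMap_eq A k F,
      eval_map_algebraMap, hψ, aeval_algebraMap_apply]
  have hroots : ∀ z : F, aeval z h₀ = 0 → aeval z μ = 0 := by
    intro z hz
    rw [← eval_map_algebraMap, hh₀map, hh, eval_prod, Finset.prod_eq_zero_iff] at hz
    obtain ⟨g, hgD, hg0⟩ := hz
    rw [eval_sub, eval_X, eval_C, sub_eq_zero] at hg0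
    have hgQ : g • Q = Q := (Finset.mem_filter.mp hgD).2
    rw [hg0, key]
    have h1 : aeval b' μ₀ ∈ Q := by
      rw [hQdef, RingHom.mem_ker, ← key]
      exact minpoly.aeval k y
    have h2 : g • aeval b' μ₀ ∈ g • Q := Ideal.smul_mem_pointwise_smul_iff.mpr h1
    rw [hgQ] at h2
    have h3 : g • aeval b' μ₀ = aeval (g • b') μ₀ := by
      have := Polynomial.aeval_algHom_apply (MulSemiringAction.toAlgHom A B g) b' μ₀
      simpa using this.symm
    rw [h3, hQdef, RingHom.mem_ker] at h2
    exact h2
  obtain ⟨t, ht⟩ := eq_pow_of_roots (F := F) μ hμirr hμm _ h₀ rfl hh₀m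
    (by rw [hh₀map]; exact hhsplits) hroots
  have hdvd : μ.natDegree ∣ Nat.card G := by
    have h1 : μ.natDegree ∣ D.card := by
      rw [← hh₀deg, ht, natDegree_pow]
      exact dvd_mul_left _ _
    exact h1.trans (card_filter_stabilizer_dvd G Q)
  -- separability
  change (minpoly k y).Separable
  obtain ⟨p, hpchar⟩ := CharP.exists k
  rcases CharP.char_is_prime_or_zero k p with hprime | hzero'
  · rcases separable_or p hμirr with hsep | ⟨-, g, -, hexp⟩
    · exact hsep
    · exfalso
      apply hp p hprime hpchar
      refine Dvd.dvd.trans ?_ hdvd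
      rw [← hexp, natDegree_expand]
      exact dvd_mul_left _ _
  · subst hzero'
    haveI : CharZero k := CharP.charP_to_charZero k
    exact hμirr.separable

end sep

end Groth.Agent.Lib.LeadGalTame
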