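import Mathlib
import Groth.Prelude.Def_EtRam

set_option autoImplicit false
set_option linter.style.haveILetI false
set_option linter.unusedSectionVars false
universe u

namespace Groth.Agent.Lib.T2H9.ValDom

open IsLocalRing

section extension

variable {L M : Type u} [Field L] [Field M]

/-- a valuation subring is the contraction of a valuation subring of any bigger field -/
theorem exists_comap_eq (f : L →+* M) (V : ValuationSubring L) :
    ∃ W : ValuationSubring M, W.comap f = V := by
  obtain ⟨W, hW⟩ := LocalSubring.exists_le_valuationSubring (V.toLocalSubring.map f)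
  refine ⟨W, ?_⟩
  have hle : V.toLocalSubring ≤ (W.comap f).toLocalSubring := by
    refine ⟨?_, ⟨?_⟩⟩
    · intro x hx
      exact hW.1 ⟨x, hx, rfl⟩
    · rintro ⟨x, hx⟩ hu
      obtain ⟨⟨y, hy⟩, hxy⟩ := isUnit_iff_exists_inv.mp hu
      have hxy' : x * y = 1 := congrArg Subtype.val hxy
      have hfy : f y ∈ W := hy
      have h1 : IsUnit (Subring.inclusion hW.1 ⟨f x, ⟨x, hx, rfl⟩⟩) := by
        refine isUnit_iff_exists_inv.mpr ⟨⟨f y, hfy⟩, Subtype.ext ?_⟩
        change f x * f y = 1
        rw [← map_mul, hxy', map_one]
      have h2 := hW.2.1 _ h1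
      obtain ⟨⟨z, ⟨z', hz', rfl⟩⟩, hz⟩ := isUnit_iff_exists_inv.mp h2
      have hz2 : f x * f z' = 1 := congrArg Subtype.val hz
      have : z' = y := by
        apply f.injective
        have hx0 : f x ≠ 0 := left_ne_zero_of_mul_eq_one hz2
        apply mul_left_cancel₀ hx0
        rw [hz2, ← map_mul, hxy', map_one]
      refine isUnit_iff_exists_inv.mpr ⟨⟨y, this ▸ hz'⟩, Subtype.ext hxy'⟩
  exact (ValuationSubring.toLocalSubring_injective
    ((V.isMax_toLocalSubring).eq_of_le hle)).symm

end extension

section dvr

variable (A K : Type u) [CommRing A] [IsDomain A] [IsDiscreteValuationRing A] [Field K]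
  [Algebra A K] [IsFractionRing A K] (L : Type u) [Field L] [Algebra K L] [FiniteDimensional K L]
  [Algebra.IsSeparable K L] [Algebra A L] [IsScalarTower A K L]

/-- integral elements lie in every valuation subring containing the base -/
theorem integralClosure_le (V : ValuationSubring L) (hV : ∀ a : A, algebraMap A L a ∈ V) :
    (integralClosure A L).toSubring ≤ V.toSubring := by
  intro x hx
  letI : Algebra A V.toSubring := (RingHom.codRestrict (algebraMap A L) V.toSubring hV).toAlgebra
  haveI : IsScalarTower A V.toSubring L := IsScalarTower.of_algebraMap_eq (fun _ => rfl)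
  have hx' : IsIntegral A x := hx
  have hx'' : IsIntegral V.toSubring x := hx'.tower_top
  exact LocalSubring.mem_of_isMax_of_isIntegral (V.isMax_toLocalSubring) hx''

include K in
/-- a valuation subring of a finite separable extension dominating a discrete valuation ring
is the localization of the integral closure at a maximal ideal; consequently it is a
discrete valuation ring -/
theorem isDiscreteValuationRing_of_dominates (V : ValuationSubring L)
    (h : EtRam.Dominates A (algebraMap A L) V) : IsDiscreteValuationRing V := by
  have hBV := integralClosure_le A L V h.1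
  haveI : IsLocalRing V.toSubring := V.isLocalRing
  haveI : IsDedekindDomain (integralClosure A L).toSubring :=
    integralClosure.isDedekindDomain A K L
  haveI : IsFractionRing (integralClosure A L).toSubring L :=
    integralClosure.isFractionRing_of_finite_extension K L
  let q : Ideal (integralClosure A L).toSubring :=
    (maximalIdeal V.toSubring).comap (Subring.inclusion hBV)
  haveI : q.IsPrime := Ideal.comap_isPrime _ _
  have hinj : Function.Injective (algebraMap A L) := by
    rw [IsScalarTower.algebraMap_eq A K L]
    exact (algebraMap K L).injective.comp (IsFractionRing.injective A K)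
  have hq0 : q ≠ ⊥ := by
    obtain ⟨π, hπ⟩ := IsDiscreteValuationRing.exists_irreducible A
    have hπm : π ∈ maximalIdeal A := by
      rw [mem_maximalIdeal, mem_nonunits_iff]
      exact hπ.not_isUnit
    intro hq
    have hmem : (⟨algebraMap A L π, (integralClosure A L).algebraMap_mem π⟩ :
        (integralClosure A L).toSubring) ∈ q := by
      change (⟨algebraMap A L π, _⟩ : V.toSubring) ∈ maximalIdeal V.toSubring
      exact (V.valuation_lt_one_iff ⟨_, h.1 π⟩).mpr (h.2 π hπm)
    rw [hq, Ideal.mem_bot] at hmem
    have : algebraMap A L π = 0 := congrArg Subtype.val hmem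
    rw [map_eq_zero_iff _ hinj] at this
    exact hπ.ne_zero this
  let R := LocalSubring.ofPrime (integralClosure A L).toSubring q
  haveI : IsDiscreteValuationRing R.toSubring :=
    IsLocalization.AtPrime.isDiscreteValuationRing_of_dedekind_domain
      (integralClosure A L).toSubring hq0 R.toSubring
  haveI : IsFractionRing R.toSubring L :=
    IsFractionRing.isFractionRing_of_isDomain_of_isLocalization q.primeCompl R.toSubring L
  have hRval : ∀ x : L, x ∈ R.toSubring ∨ x⁻¹ ∈ R.toSubring := by
    intro x
    rcases ValuationRing.isInteger_or_isInteger R.toSubring x with ⟨y, hy⟩ | ⟨y, hy⟩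
    · left
      rw [← hy]
      exact y.2
    · right
      rw [← hy]
      exact y.2
  let V₀ : ValuationSubring L := ⟨R.toSubring, hRval⟩
  -- membership in `q` is membership in the maximal ideal of `V`
  have hq_iff : ∀ b : (integralClosure A L).toSubring, b ∈ q ↔ ¬ IsUnit (Subring.inclusion hBV b) := by
    intro b
    change Subring.inclusion hBV b ∈ maximalIdeal V.toSubring ↔ _
    rw [mem_maximalIdeal, mem_nonunits_iff]
  have hunitV : ∀ (x : L) (hx : x ∈ V.toSubring), IsUnit (⟨x, hx⟩ : V.toSubring) → x⁻¹ ∈ V.toSubring := by
    intro x hx hu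
    obtain ⟨⟨y, hy⟩, hxy⟩ := isUnit_iff_exists_inv.mp hu
    have hxy' : x * y = 1 := congrArg Subtype.val hxy
    rw [← eq_inv_of_mul_eq_one_right hxy']
    exact hy
  have key : ∀ (r : L) (hr : r ∈ R.toSubring), ∃ (b : (integralClosure A L).toSubring)
      (s : q.primeCompl), r * (s.1 : L) = (b : L) := by
    intro r hr
    obtain ⟨b, s, hbs⟩ := IsLocalization.exists_mk'_eq q.primeCompl (⟨r, hr⟩ : R.toSubring)
    refine ⟨b, s, ?_⟩
    have := IsLocalization.mk'_spec (M := q.primeCompl) R.toSubring b s
    rw [hbs] at this
    exact congrArg Subtype.val this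
  have hs_unit : ∀ s : q.primeCompl, (s.1 : L)⁻¹ ∈ V.toSubring := by
    intro s
    have h1 : ¬ (s.1 ∈ q) := s.2
    rw [hq_iff, not_not] at h1
    exact hunitV _ _ h1
  have hsub : R.toSubring ≤ V.toSubring := by
    intro r hr
    obtain ⟨b, s, hbs⟩ := key r hr
    have hs0 : (s.1 : L) ≠ 0 := by
      intro h0
      have := hs_unit s
      have h1 : ¬ (s.1 ∈ q) := s.2
      apply h1
      have : s.1 = 0 := Subtype.ext h0
      rw [this]
      exact q.zero_mem
    have hr' : r = (b : L) * (s.1 : L)⁻¹ := by
      rw [← hbs, mul_assoc, mul_inv_cancel₀ hs0, mul_one]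
    rw [hr']
    exact V.toSubring.mul_mem (hBV b.2) (hs_unit s)
  have hRV : R ≤ V.toLocalSubring := by
    rw [LocalSubring.le_def]
    refine ⟨hsub, ⟨?_⟩⟩
    rintro ⟨r, hr⟩ hu
    have hu' : IsUnit (Subring.inclusion hsub ⟨r, hr⟩ : V.toSubring) := hu
    obtain ⟨b, s, hbs⟩ := key r hr
    -- `b` is a unit of `V`
    have hsV : IsUnit (Subring.inclusion hBV s.1) := by
      have h1 : ¬ (s.1 ∈ q) := s.2
      rwa [hq_iff, not_not] at h1
    have hbV : IsUnit (Subring.inclusion hBV b) := by
      have : Subring.inclusion hBV b = Subring.inclusion hsub ⟨r, hr⟩ * Subring.inclusion hBV s.1 :=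
        Subtype.ext hbs.symm
      rw [this]
      exact hu'.mul hsV
    have hbq : b ∈ q.primeCompl := by
      change ¬ (b ∈ q)
      rw [hq_iff, not_not]
      exact hbV
    have hbR : IsUnit (algebraMap (integralClosure A L).toSubring R.toSubring b) :=
      IsLocalization.map_units R.toSubring ⟨b, hbq⟩
    have hsR : IsUnit (algebraMap (integralClosure A L).toSubring R.toSubring s.1) :=
      IsLocalization.map_units R.toSubring s
    have heq : (⟨r, hr⟩ : R.toSubring) * algebraMap (integralClosure A L).toSubring R.toSubring s.1 =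
        algebraMap (integralClosure A L).toSubring R.toSubring b := Subtype.ext hbs
    have : IsUnit ((⟨r, hr⟩ : R.toSubring) *
        algebraMap (integralClosure A L).toSubring R.toSubring s.1) := heq ▸ hbR
    exact (IsUnit.mul_iff.mp this).1
  have hV₀ : V₀.toLocalSubring = R := rfl
  have hRmax : IsMax R := hV₀ ▸ V₀.isMax_toLocalSubring
  have hRV' : R = V.toLocalSubring := hRmax.eq_of_le hRV
  have hVV₀ : V = V₀ := ValuationSubring.toLocalSubring_injective (hRV'.symm.trans hV₀.symm)
  rw [hVV₀]
  exact (inferInstance : IsDiscreteValuationRing R.toSubring)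

end dvr

end Groth.Agent.Lib.T2H9.ValDom
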