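import Mathlib
import Groth.Prelude.Def_EtRam
import Groth.Agent.Lib.T2H9ValDom

set_option autoImplicit false
set_option linter.style.haveILetI false
set_option linter.unusedSectionVars false
universe u

namespace Groth.Agent.Lib.T2H9.RamTower

open IsLocalRing

section basic

variable {L M : Type u} [Field L] [Field M]

theorem valuation_comap_lt_one_iff (W : ValuationSubring M) (f : L →+* M) (x : L) :
    (W.comap f).valuation x < 1 ↔ W.valuation (f x) < 1 := by
  rw [← ValuationSubring.mem_nonunits_iff, ← ValuationSubring.mem_nonunits_iff,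
    ValuationSubring.mem_nonunits_iff_or, ValuationSubring.mem_nonunits_iff_or,
    ValuationSubring.mem_comap, map_inv₀, map_eq_zero]

variable {A : Type u} [CommRing A] [IsLocalRing A]

theorem dominates_comap_iff (g : A →+* L) (f : L →+* M) (W : ValuationSubring M) :
    EtRam.Dominates A g (W.comap f) ↔ EtRam.Dominates A (f.comp g) W := by
  unfold EtRam.Dominates
  simp only [ValuationSubring.mem_comap, valuation_comap_lt_one_iff, RingHom.comp_apply]

theorem dominates_congr {g g' : A →+* L} (h : ∀ a, g' a = g a) (V : ValuationSubring L) :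
    EtRam.Dominates A g V ↔ EtRam.Dominates A g' V := by
  have : g' = g := RingHom.ext h
  rw [this]

/-- domination gives a local homomorphism -/
theorem isLocalHom_of_dominates (g : A →+* L) (V : ValuationSubring L)
    (h : EtRam.Dominates A g V) : IsLocalHom (RingHom.codRestrict g V h.1) := by
  constructor
  intro a ha
  by_contra hna
  have hm : a ∈ maximalIdeal A := by rwa [mem_maximalIdeal, mem_nonunits_iff]
  have h1 := h.2 a hm
  have h2 : (RingHom.codRestrict g V h.1 a) ∈ maximalIdeal V :=
    (V.valuation_lt_one_iff _).mpr h1
  rw [mem_maximalIdeal, mem_nonunits_iff] at h2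
  exact h2 ha

end basic

section tower

variable {A V W : Type u} [CommRing A] [IsLocalRing A]
  [CommRing V] [IsDomain V] [IsDiscreteValuationRing V]
  [CommRing W] [IsDomain W] [IsDiscreteValuationRing W]
  [Algebra A V] [Algebra V W] [Algebra A W] [IsScalarTower A V W]
  [IsLocalHom (algebraMap A V)] [IsLocalHom (algebraMap V W)] [IsLocalHom (algebraMap A W)]

theorem ramificationIdx'_tower (hVW : Function.Injective (algebraMap V W))
    (hAW : (maximalIdeal A).map (algebraMap A W) ≠ ⊥) :
    Ideal.ramificationIdx' (maximalIdeal A) (maximalIdeal W) =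
      Ideal.ramificationIdx' (maximalIdeal A) (maximalIdeal V) *
        Ideal.ramificationIdx' (maximalIdeal V) (maximalIdeal W) := by
  apply Ideal.ramificationIdx'_algebra_tower
  · rw [Ne, Ideal.map_eq_bot_iff_of_injective hVW]
    exact IsDiscreteValuationRing.not_a_field V
  · exact hAW
  · exact ((local_hom_TFAE (algebraMap V W)).out 0 2).mp ‹_›

theorem separable_bot_of_tower
    [Algebra.IsSeparable (ResidueField A) (ResidueField W)] :
    Algebra.IsSeparable (ResidueField A) (ResidueField V) :=
  Algebra.isSeparable_tower_bot_of_isSeparable (ResidueField A) (ResidueField V) (ResidueField W)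

theorem separable_trans_of_tower
    [Algebra.IsSeparable (ResidueField A) (ResidueField V)]
    [Algebra.IsSeparable (ResidueField V) (ResidueField W)] :
    Algebra.IsSeparable (ResidueField A) (ResidueField W) :=
  Algebra.IsSeparable.trans (ResidueField A) (ResidueField V) (ResidueField W)

end tower

section unram

variable {L M : Type u} [Field L] [Field M]
  {A : Type u} [CommRing A] [IsDomain A] [IsDiscreteValuationRing A]

/-- weak unramifiedness passes to the contraction of a valuation subring -/
theorem weaklyUnramified_comap (g : A →+* L) (g' : A →+* M) (f : L →+* M)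
    (hgg' : ∀ a, g' a = f (g a)) (W : ValuationSubring M)
    [Algebra A W] [Algebra A (W.comap f)] [IsLocalHom (algebraMap A (W.comap f))]
    (h1 : ∀ a, ((algebraMap A W a : W) : M) = g' a)
    (h2 : ∀ a, ((algebraMap A (W.comap f) a : W.comap f) : L) = g a) :
    EtRam.IsWeaklyUnramified A W → EtRam.IsWeaklyUnramified A (W.comap f) := by
  intro hWu
  unfold EtRam.IsWeaklyUnramified at hWu ⊢
  obtain ⟨π, hπ⟩ := IsDiscreteValuationRing.exists_irreducible A
  have hmA : maximalIdeal A = Ideal.span {π} := hπ.maximalIdeal_eq
  apply le_antisymm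
  · exact ((local_hom_TFAE (algebraMap A (W.comap f))).out 0 2).mp ‹_›
  · intro x hx
    have hx1 : (W.comap f).valuation (x : L) < 1 := ((W.comap f).valuation_lt_one_iff x).mp hx
    rw [valuation_comap_lt_one_iff] at hx1
    have hx2 : (⟨f x, x.2⟩ : W) ∈ maximalIdeal W := (W.valuation_lt_one_iff _).mpr hx1
    rw [← hWu, hmA, Ideal.map_span, Set.image_singleton, Ideal.mem_span_singleton'] at hx2
    obtain ⟨w, hw⟩ := hx2
    have hw' : (w : M) * g' π = f x := by
      rw [← h1]
      exact congrArg Subtype.val hw
    rw [hmA, Ideal.map_span, Set.image_singleton, Ideal.mem_span_singleton']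
    by_cases h0 : g π = 0
    · refine ⟨0, ?_⟩
      rw [hgg', h0, map_zero, mul_zero] at hw'
      have : (x : L) = 0 := by
        apply f.injective
        rw [← hw', map_zero]
      rw [zero_mul]
      exact Subtype.ext this.symm
    · have hfx : f ((x : L) / g π) = w := by
        rw [map_div₀, ← hw', hgg', mul_div_assoc, div_self, mul_one]
        rwa [Ne, map_eq_zero]
      refine ⟨⟨(x : L) / g π, ?_⟩, ?_⟩
      · change f _ ∈ W
        rw [hfx]
        exact w.2
      · apply Subtype.ext
        change (x : L) / g π * ((algebraMap A (W.comap f) π : W.comap f) : L) = x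
        rw [h2, div_mul_cancel₀ _ h0]

end unram

end Groth.Agent.Lib.T2H9.RamTower
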