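import Mathlib
import Groth.Prelude.Def_EtRam
import Groth.Agent.Lib.T2H9RamTower

set_option autoImplicit false
set_option linter.style.haveILetI false
set_option linter.unusedSectionVars false
universe u

namespace Groth.Agent.Lib.T2H9.TotRam

open IsLocalRing Groth.Agent.Lib.T2H9.RamTower

section general

variable {A : Type u} [CommRing A] [IsLocalRing A] {L : Type u} [Field L]

/-- integral elements lie in every valuation subring containing the image of the base -/
theorem mem_of_isIntegralElem (g : A →+* L) (V : ValuationSubring L) (hV : ∀ a : A, g a ∈ V)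
    (x : L) (hx : g.IsIntegralElem x) : x ∈ V := by
  letI : Algebra A L := g.toAlgebra
  letI : Algebra A V.toSubring := (RingHom.codRestrict g V.toSubring hV).toAlgebra
  haveI : IsScalarTower A V.toSubring L := IsScalarTower.of_algebraMap_eq (fun _ => rfl)
  have hx' : IsIntegral A x := hx
  have hx'' : IsIntegral V.toSubring x := hx'.tower_top
  exact LocalSubring.mem_of_isMax_of_isIntegral (V.isMax_toLocalSubring) hx''

end general

section dvr

variable {A : Type u} [CommRing A] [IsDomain A] [IsDiscreteValuationRing A]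
  {B : Type u} [CommRing B] [IsDomain B] [IsDiscreteValuationRing B] [Algebra A B]
  [Algebra.IsIntegral A B] [IsLocalHom (algebraMap A B)]
  (L : Type u) [Field L] [Algebra B L] [IsFractionRing B L]

/-- the valuation subring of the fraction field given by a discrete valuation ring -/
def V0 (B : Type u) [CommRing B] [IsDomain B] [IsDiscreteValuationRing B]
    (L : Type u) [Field L] [Algebra B L] [IsFractionRing B L] : ValuationSubring L :=
  { (algebraMap B L).range with
    mem_or_inv_mem' := fun x => by
      rcases ValuationRing.isInteger_or_isInteger B x with ⟨b, hb⟩ | ⟨b, hb⟩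
      · exact Or.inl ⟨b, hb⟩
      · exact Or.inr ⟨b, hb⟩ }

theorem mem_V0 (x : L) : x ∈ V0 B L ↔ ∃ b : B, algebraMap B L b = x := Iff.rfl

theorem valuation_V0_lt_one (b : B) (hb : b ∈ maximalIdeal B) :
    (V0 B L).valuation (algebraMap B L b) < 1 := by
  have hιinj : Function.Injective (algebraMap B L) := IsFractionRing.injective B L
  rw [← ValuationSubring.mem_nonunits_iff, ValuationSubring.mem_nonunits_iff_or]
  by_cases h0 : algebraMap B L b = 0
  · exact Or.inl h0
  · refine Or.inr ?_
    rintro ⟨y, hy⟩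
    have h1 : algebraMap B L (b * y) = algebraMap B L 1 := by
      rw [map_mul, hy, map_one, mul_inv_cancel₀ h0]
    have h2 : b * y = 1 := hιinj h1
    exact (IsLocalRing.mem_maximalIdeal b).mp hb (IsUnit.of_mul_eq_one y h2)

/-- every valuation subring dominating `A` dominates the discrete valuation ring `B` -/
theorem dominates_key (hinj : Function.Injective (algebraMap A B)) (V : ValuationSubring L)
    (hV : EtRam.Dominates A ((algebraMap B L).comp (algebraMap A B)) V) :
    (∀ b : B, algebraMap B L b ∈ V) ∧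
      ∀ b : B, b ∈ maximalIdeal B → V.valuation (algebraMap B L b) < 1 := by
  have hmem : ∀ b : B, algebraMap B L b ∈ V := by
    intro b
    apply mem_of_isIntegralElem _ V hV.1
    have hb : IsIntegral A b := Algebra.IsIntegral.isIntegral b
    obtain ⟨p, hp, hpb⟩ := hb
    refine ⟨p, hp, ?_⟩
    rw [← Polynomial.hom_eval₂, hpb, map_zero]
  refine ⟨hmem, ?_⟩
  obtain ⟨ϖ, hϖ⟩ := IsDiscreteValuationRing.exists_irreducible B
  obtain ⟨π, hπ⟩ := IsDiscreteValuationRing.exists_irreducible A
  have hπm : π ∈ maximalIdeal A := by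
    rw [mem_maximalIdeal, mem_nonunits_iff]
    exact hπ.not_isUnit
  -- `π` is a nonzero element of the maximal ideal of `B`
  have hπB : algebraMap A B π ∈ maximalIdeal B := by
    rw [mem_maximalIdeal, mem_nonunits_iff]
    intro hu
    exact hπ.not_isUnit (isUnit_of_map_unit (algebraMap A B) π hu)
  have hϖV : V.valuation (algebraMap B L ϖ) < 1 := by
    by_contra hcon
    rw [not_lt] at hcon
    have h1 : V.valuation (algebraMap B L ϖ) = 1 :=
      le_antisymm ((V.valuation_le_one_iff _).mpr (hmem ϖ)) hcon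
    have hπ0 : algebraMap A B π ≠ 0 := by
      rw [Ne, map_eq_zero_iff _ hinj]
      exact hπ.ne_zero
    obtain ⟨e, u, hu⟩ := IsDiscreteValuationRing.eq_unit_mul_pow_irreducible hπ0 hϖ
    have hu1 : V.valuation (algebraMap B L (u : B)) = 1 := by
      have h2 : V.valuation (algebraMap B L (u : B)) ≤ 1 := (V.valuation_le_one_iff _).mpr (hmem _)
      have h3 : V.valuation (algebraMap B L ((u⁻¹ : Bˣ) : B)) ≤ 1 :=
        (V.valuation_le_one_iff _).mpr (hmem _)
      have h4 : V.valuation (algebraMap B L (u : B)) * V.valuation (algebraMap B L ((u⁻¹ : Bˣ) : B))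
          = 1 := by
        rw [← map_mul, ← map_mul, Units.mul_inv, map_one, map_one]
      apply le_antisymm h2
      by_contra h5
      rw [not_le] at h5
      have : V.valuation (algebraMap B L (u : B)) *
          V.valuation (algebraMap B L ((u⁻¹ : Bˣ) : B)) < 1 := by
        calc _ ≤ V.valuation (algebraMap B L (u : B)) * 1 := mul_le_mul' le_rfl h3
          _ = V.valuation (algebraMap B L (u : B)) := mul_one _
          _ < 1 := h5
      rw [h4] at this
      exact lt_irrefl _ this
    have h6 := hV.2 π hπm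
    rw [RingHom.comp_apply, hu, map_mul, map_mul, map_pow, map_pow, hu1, h1, one_pow, one_mul]
      at h6
    exact lt_irrefl _ h6
  intro b hb
  rw [hϖ.maximalIdeal_eq, Ideal.mem_span_singleton] at hb
  obtain ⟨c, rfl⟩ := hb
  rw [map_mul, map_mul]
  calc V.valuation (algebraMap B L ϖ) * V.valuation (algebraMap B L c)
      ≤ V.valuation (algebraMap B L ϖ) * 1 :=
        mul_le_mul' le_rfl ((V.valuation_le_one_iff _).mpr (hmem c))
    _ = V.valuation (algebraMap B L ϖ) := mul_one _
    _ < 1 := hϖV

/-- the valuation subring of `B` dominates `A` -/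
theorem dominates_V0 :
    EtRam.Dominates A ((algebraMap B L).comp (algebraMap A B)) (V0 B L) := by
  refine ⟨fun a => ⟨algebraMap A B a, rfl⟩, fun a ha => valuation_V0_lt_one L _ ?_⟩
  rw [mem_maximalIdeal, mem_nonunits_iff] at ha ⊢
  intro hu
  exact ha (isUnit_of_map_unit (algebraMap A B) a hu)

/-- `V0` is the only valuation subring dominating `A` -/
theorem eq_V0_of_dominates (hinj : Function.Injective (algebraMap A B)) (V : ValuationSubring L)
    (hV : EtRam.Dominates A ((algebraMap B L).comp (algebraMap A B)) V) : V = V0 B L := by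
  obtain ⟨hmem, hmax⟩ := dominates_key L hinj V hV
  have hsub : (V0 B L).toSubring ≤ V.toSubring := by
    rintro x ⟨b, rfl⟩
    exact hmem b
  have hle : (V0 B L).toLocalSubring ≤ V.toLocalSubring := by
    rw [LocalSubring.le_def]
    refine ⟨hsub, ⟨?_⟩⟩
    rintro ⟨x, ⟨b, rfl⟩⟩ hu
    have hu' : IsUnit (⟨algebraMap B L b, hmem b⟩ : V) := hu
    by_contra hnu
    have hb : b ∈ maximalIdeal B := by
      rw [mem_maximalIdeal, mem_nonunits_iff]
      intro hbu
      apply hnu
      obtain ⟨c, hc⟩ := isUnit_iff_exists_inv.mp hbu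
      refine isUnit_iff_exists_inv.mpr ⟨⟨algebraMap B L c, ⟨c, rfl⟩⟩, Subtype.ext ?_⟩
      change algebraMap B L b * algebraMap B L c = 1
      rw [← map_mul, hc, map_one]
    have h1 := hmax b hb
    have h2 : (⟨algebraMap B L b, hmem b⟩ : V) ∈ maximalIdeal V :=
      (V.valuation_lt_one_iff _).mpr h1
    rw [mem_maximalIdeal, mem_nonunits_iff] at h2
    exact h2 hu'
  exact (ValuationSubring.toLocalSubring_injective
    (((V0 B L).isMax_toLocalSubring).eq_of_le hle)).symm

theorem isTotallyRamified_of_dvr (hinj : Function.Injective (algebraMap A B))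
    (hres : ∀ b : B, ∃ a : A, b - algebraMap A B a ∈ maximalIdeal B) :
    EtRam.IsTotallyRamified A ((algebraMap B L).comp (algebraMap A B)) := by
  refine ⟨⟨V0 B L, dominates_V0 L⟩, fun V V' hV hV' =>
    (eq_V0_of_dominates L hinj V hV).trans (eq_V0_of_dominates L hinj V' hV').symm, ?_⟩
  intro V hV r
  obtain rfl := eq_V0_of_dominates L hinj V hV
  obtain ⟨⟨x, ⟨b, rfl⟩⟩, rfl⟩ := Ideal.Quotient.mk_surjective r
  obtain ⟨a, ha⟩ := hres b
  refine ⟨a, ?_⟩
  symm
  apply Ideal.Quotient.eq.mpr
  rw [ValuationSubring.valuation_lt_one_iff]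
  have h1 := valuation_V0_lt_one L _ ha
  rw [map_sub] at h1
  exact h1

end dvr

section unifRoot

variable {A : Type u} [CommRing A] [IsDomain A] [IsDiscreteValuationRing A] {π : A}
  {B : Type u} [CommRing B] [IsDomain B] [Algebra A B] [Module.Finite A B]

theorem maximal_eq_span (hπ : Irreducible π) {q : ℕ} (x c d : B)
    (h1 : algebraMap A B π = x * c) (h2 : x ^ q = algebraMap A B π * d)
    (hdec : ∀ b : B, ∃ (a : A) (y : B), b = algebraMap A B a + x * y)
    (Q : Ideal B) [Q.IsMaximal] : Q = Ideal.span {x} := by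
  haveI : Algebra.IsIntegral A B := Algebra.IsIntegral.of_finite A B
  have hQA : (Q.comap (algebraMap A B)).IsMaximal :=
    Ideal.isMaximal_comap_of_isIntegral_of_isMaximal Q
  have hQA' : Q.comap (algebraMap A B) = maximalIdeal A := IsLocalRing.eq_maximalIdeal hQA
  have hπQ : algebraMap A B π ∈ Q := by
    have : π ∈ Q.comap (algebraMap A B) := by
      rw [hQA', hπ.maximalIdeal_eq]
      exact Ideal.mem_span_singleton_self π
    exact this
  have hxQ : x ∈ Q := by
    have : x ^ q ∈ Q := by
      rw [h2]
      exact Q.mul_mem_right _ hπQ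
    exact (Ideal.IsMaximal.isPrime inferInstance).mem_of_pow_mem q this
  apply le_antisymm
  · intro b hb
    obtain ⟨a, y, rfl⟩ := hdec b
    have ha : algebraMap A B a ∈ Q := by
      have : x * y ∈ Q := Q.mul_mem_right _ hxQ
      exact (Ideal.add_mem_iff_left Q this).mp hb
    have ha' : a ∈ maximalIdeal A := by
      rw [← hQA']
      exact ha
    rw [hπ.maximalIdeal_eq, Ideal.mem_span_singleton] at ha'
    obtain ⟨a', rfl⟩ := ha'
    refine Ideal.add_mem _ ?_ (Ideal.mul_mem_right _ _ (Ideal.mem_span_singleton_self x))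
    rw [map_mul, h1, mul_assoc]
    exact Ideal.mul_mem_right _ _ (Ideal.mem_span_singleton_self x)
  · rw [Ideal.span_singleton_le_iff_mem]
    exact hxQ

theorem isLocalRing_of_unifRoot (hπ : Irreducible π) {q : ℕ} (x c d : B)
    (h1 : algebraMap A B π = x * c) (h2 : x ^ q = algebraMap A B π * d)
    (hdec : ∀ b : B, ∃ (a : A) (y : B), b = algebraMap A B a + x * y) : IsLocalRing B := by
  obtain ⟨Q, hQ⟩ := Ideal.exists_maximal B
  refine IsLocalRing.of_unique_max_ideal ⟨Q, hQ, fun Q' hQ' => ?_⟩
  haveI := hQ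
  haveI := hQ'
  rw [maximal_eq_span hπ x c d h1 h2 hdec Q', maximal_eq_span hπ x c d h1 h2 hdec Q]

theorem isDVR_of_unifRoot (hinj : Function.Injective (algebraMap A B)) (hπ : Irreducible π)
    {q : ℕ} (x c d : B)
    (h1 : algebraMap A B π = x * c) (h2 : x ^ q = algebraMap A B π * d)
    (hdec : ∀ b : B, ∃ (a : A) (y : B), b = algebraMap A B a + x * y) :
    IsDiscreteValuationRing B ∧ ∀ [IsLocalRing B], maximalIdeal B = Ideal.span {x} := by
  haveI := isLocalRing_of_unifRoot hπ x c d h1 h2 hdec
  haveI : IsNoetherianRing B := IsNoetherianRing.of_finite A B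
  have hmax : maximalIdeal B = Ideal.span {x} :=
    maximal_eq_span hπ x c d h1 h2 hdec (maximalIdeal B)
  have hx0 : x ≠ 0 := by
    intro h
    rw [h, zero_mul] at h1
    exact hπ.ne_zero (hinj (by rw [h1, map_zero]))
  have hnf : ¬ IsField B := by
    rw [IsLocalRing.isField_iff_maximalIdeal_eq, hmax, Ideal.span_singleton_eq_bot]
    exact hx0
  have hpr : (maximalIdeal B).IsPrincipal := ⟨⟨x, hmax⟩⟩
  refine ⟨((IsDiscreteValuationRing.TFAE B hnf).out 0 4).mpr hpr, ?_⟩
  intro inst
  exact maximal_eq_span hπ x c d h1 h2 hdec (maximalIdeal B)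

end unifRoot

end Groth.Agent.Lib.T2H9.TotRam
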