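import Mathlib
import Groth.Prelude.Def_EtRam
import Groth.Agent.Lib.Helper4DVRDom
import Groth.Agent.Lib.Helper5IntDim
import Groth.Agent.Lib.T2H9TotRam

set_option autoImplicit false
set_option linter.style.haveILetI false
set_option linter.unusedSectionVars false
universe u

/-!
# Valuation rings of a finite extension dominating a discrete valuation ring are discrete

No separability assumption (Krull–Akizuki).
-/

namespace Groth.Agent.Lib.T2H9.FinDVR

open IsLocalRing Groth.Agent.Lib.T2H9.TotRam

section dvr

variable (B L M : Type u) [CommRing B] [IsDomain B] [IsDiscreteValuationRing B]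
  [Field L] [Algebra B L] [IsFractionRing B L] [Field M] [Algebra L M] [FiniteDimensional L M]
  [Algebra B M] [IsScalarTower B L M]

include L in
theorem algebraMap_injective : Function.Injective (algebraMap B M) := by
  rw [IsScalarTower.algebraMap_eq B L M]
  exact (algebraMap L M).injective.comp (IsFractionRing.injective B L)

include L in
/-- a valuation subring of a finite extension of the fraction field dominating a discrete
valuation ring is a discrete valuation ring -/
theorem isDiscreteValuationRing_of_dominates (W : ValuationSubring M)
    (hW : EtRam.Dominates B (algebraMap B M) W) : IsDiscreteValuationRing W := by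
  classical
  obtain ⟨s, b, hb⟩ := FiniteDimensional.exists_is_basis_integral B L M
  have hinj := algebraMap_injective B L M
  set S' : Subalgebra B M := Algebra.adjoin B (Set.range b) with hS'
  haveI hfin : Module.Finite B S' :=
    Algebra.finite_adjoin_of_finite_of_isIntegral (Set.finite_range b) (by
      rintro _ ⟨i, rfl⟩
      exact hb i)
  haveI : IsNoetherianRing S' := IsNoetherianRing.of_finite B S'
  haveI : Algebra.IsIntegral B S' := Algebra.IsIntegral.of_finite B S'
  have hdim : ringKrullDim S' ≤ 1 :=
    (Groth.Agent.Lib.Helper5.ringKrullDim_le_of_isIntegral B S').trans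
      (IsDiscreteValuationRing.ringKrullDim_eq_one B).le
  have hS'W : ∀ x ∈ S', x ∈ W := by
    intro x hx
    induction hx using Algebra.adjoin_induction with
    | mem y hy =>
      obtain ⟨i, rfl⟩ := hy
      exact mem_of_isIntegralElem (algebraMap B M) W hW.1 _ (hb i)
    | algebraMap c => exact hW.1 c
    | add y y' _ _ hy hy' => exact W.add_mem _ _ hy hy'
    | mul y y' _ _ hy hy' => exact W.mul_mem _ _ hy hy'
  have hcl : Subfield.closure (S'.toSubring : Set M) = ⊤ := by
    rw [eq_top_iff]
    intro m _
    set F := Subfield.closure (S'.toSubring : Set M)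
    have hB : ∀ c : B, algebraMap B M c ∈ F := fun c =>
      Subfield.subset_closure (S'.algebraMap_mem c)
    have hL : ∀ l : L, algebraMap L M l ∈ F := by
      intro l
      obtain ⟨p, q, hq, rfl⟩ := IsFractionRing.div_surjective (A := B) l
      rw [map_div₀, ← IsScalarTower.algebraMap_apply, ← IsScalarTower.algebraMap_apply]
      exact F.div_mem (hB p) (hB q)
    rw [← b.sum_repr m]
    apply sum_mem
    intro i _
    rw [Algebra.smul_def]
    exact F.mul_mem (hL _) (Subfield.subset_closure (Algebra.subset_adjoin ⟨i, rfl⟩))
  haveI : IsFractionRing S'.toSubring M :=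
    Groth.Agent.Lib.Helper4.DVRDom.isFractionRing_of_closure_eq_top _ hcl
  haveI : IsNoetherianRing S'.toSubring := ‹IsNoetherianRing S'›
  have hdim' : ringKrullDim S'.toSubring ≤ 1 := hdim
  haveI := Groth.Agent.Lib.Helper4.DVRDom.isNoetherianRing_valuationSubring S'.toSubring hdim' W
    (fun x hx => hS'W x hx)
  obtain ⟨π, hπ⟩ := IsDiscreteValuationRing.exists_irreducible B
  refine Groth.Agent.Lib.Helper4.DVRDom.isDiscreteValuationRing_of_isNoetherianRing W
    (x := algebraMap B M π) ?_ ?_
  · rw [ValuationSubring.mem_nonunits_iff]
    apply hW.2 π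
    rw [hπ.maximalIdeal_eq]
    exact Ideal.mem_span_singleton_self π
  · intro h0
    exact hπ.ne_zero (hinj (h0.trans (map_zero _).symm))

end dvr

end Groth.Agent.Lib.T2H9.FinDVR
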