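import Mathlib
import Groth.Prelude.Def_EtRam
import Groth.Agent.Lib.T2H9TotRam
import Groth.Agent.Lib.Helper24DvrEF

set_option autoImplicit false
set_option linter.style.haveILetI false
set_option linter.unusedSectionVars false
universe u

namespace Groth.Agent.Lib.T2H9.TotRamDeg

open IsLocalRing Groth.Agent.Lib.T2H9.RamTower Groth.Agent.Lib.T2H9.TotRam
  Groth.Agent.Lib.T2H9.ValDom

section unique

variable (A K : Type u) [CommRing A] [IsDomain A] [IsDiscreteValuationRing A] [Field K]
  [Algebra A K] [IsFractionRing A K] (L : Type u) [Field L] [Algebra K L]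
  [Algebra.IsAlgebraic K L] [Algebra A L] [IsScalarTower A K L]

include K in
/-- a valuation subring of an algebraic extension of the fraction field containing the
discrete valuation ring either dominates it or is everything -/
theorem dominates_or_eq_top (V : ValuationSubring L) (hV : ∀ a : A, algebraMap A L a ∈ V) :
    EtRam.Dominates A (algebraMap A L) V ∨ V = ⊤ := by
  obtain ⟨π, hπ⟩ := IsDiscreteValuationRing.exists_irreducible A
  by_cases h1 : V.valuation (algebraMap A L π) < 1
  · left
    refine ⟨hV, fun a ha => ?_⟩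
    rw [hπ.maximalIdeal_eq, Ideal.mem_span_singleton'] at ha
    obtain ⟨b, rfl⟩ := ha
    rw [map_mul, map_mul]
    calc V.valuation (algebraMap A L b) * V.valuation (algebraMap A L π)
        ≤ 1 * V.valuation (algebraMap A L π) :=
          mul_le_mul' ((V.valuation_le_one_iff _).mpr (hV b)) le_rfl
      _ = V.valuation (algebraMap A L π) := one_mul _
      _ < 1 := h1
  · right
    have hπ1 : V.valuation (algebraMap A L π) = 1 :=
      le_antisymm ((V.valuation_le_one_iff _).mpr (hV π)) (not_lt.mp h1)
    have hinj : Function.Injective (algebraMap A L) := by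
      rw [IsScalarTower.algebraMap_eq A K L]
      exact (algebraMap K L).injective.comp (IsFractionRing.injective A K)
    -- every nonzero element of `A` has valuation one
    have hA1 : ∀ a : A, a ≠ 0 → V.valuation (algebraMap A L a) = 1 := by
      intro a ha
      obtain ⟨n, u, rfl⟩ := IsDiscreteValuationRing.eq_unit_mul_pow_irreducible ha hπ
      rw [map_mul, map_mul, map_pow, map_pow, hπ1, one_pow, mul_one]
      apply le_antisymm ((V.valuation_le_one_iff _).mpr (hV _))
      have h2 : V.valuation (algebraMap A L ((u⁻¹ : Aˣ) : A)) ≤ 1 :=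
        (V.valuation_le_one_iff _).mpr (hV _)
      have h3 : V.valuation (algebraMap A L (u : A)) *
          V.valuation (algebraMap A L ((u⁻¹ : Aˣ) : A)) = 1 := by
        rw [← map_mul, ← map_mul, Units.mul_inv, map_one, map_one]
      calc (1 : _) = V.valuation (algebraMap A L (u : A)) *
            V.valuation (algebraMap A L ((u⁻¹ : Aˣ) : A)) := h3.symm
        _ ≤ V.valuation (algebraMap A L (u : A)) * 1 := mul_le_mul' le_rfl h2
        _ = _ := mul_one _
    have hK : ∀ x : K, algebraMap K L x ∈ V := by
      intro x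
      obtain ⟨a, b, hb, rfl⟩ := IsFractionRing.div_surjective (A := A) x
      have hb0 : b ≠ 0 := nonZeroDivisors.ne_zero hb
      rw [← V.valuation_le_one_iff, map_div₀, map_div₀, ← IsScalarTower.algebraMap_apply,
        ← IsScalarTower.algebraMap_apply, hA1 b hb0, div_one]
      exact (V.valuation_le_one_iff _).mpr (hV a)
    rw [eq_top_iff]
    intro y _
    exact mem_of_isIntegralElem (algebraMap K L) V hK y (Algebra.IsIntegral.isIntegral (R := K) y)

include K in
/-- if only one valuation subring dominates `A`, it is the integral closure of `A` -/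
theorem le_integralClosure_of_unique (V : ValuationSubring L)
    (huniq : ∀ V' : ValuationSubring L, EtRam.Dominates A (algebraMap A L) V' → V' = V) :
    V.toSubring ≤ (integralClosure A L).toSubring := by
  intro x hx
  by_contra hxS
  haveI : IsIntegrallyClosedIn (integralClosure A L).toSubring L :=
    inferInstanceAs (IsIntegrallyClosedIn (integralClosure A L) L)
  obtain ⟨V', hV', hxV'⟩ :=
    Subring.exists_le_valuationSubring_of_isIntegrallyClosedIn (R := (integralClosure A L).toSubring) hxS
  have hAV' : ∀ a : A, algebraMap A L a ∈ V' := fun a =>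
    hV' ((integralClosure A L).algebraMap_mem a)
  rcases dominates_or_eq_top A K L V' hAV' with h | h
  · rw [huniq V' h] at hxV'
    exact hxV' hx
  · rw [h] at hxV'
    exact hxV' trivial

end unique

section degree

variable (A K : Type u) [CommRing A] [IsDomain A] [IsDiscreteValuationRing A] [Field K]
  [Algebra A K] [IsFractionRing A K] (L : Type u) [Field L] [Algebra K L] [FiniteDimensional K L]
  [Algebra.IsSeparable K L] [Algebra A L] [IsScalarTower A K L]

include K in
/-- for a totally ramified extension, a uniformizer of the base is a unit times the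
`[L:K]`-th power of a uniformizer of the unique valuation ring above -/
theorem exists_unif_of_totallyRamified
    (ht : EtRam.IsTotallyRamified A (algebraMap A L)) (π : A) (hπ : Irreducible π)
    (V : ValuationSubring L) (hV : EtRam.Dominates A (algebraMap A L) V) :
    ∃ (ϖ : V) (u : Vˣ), Irreducible ϖ ∧
      algebraMap A L π = ((u : V) : L) * (ϖ : L) ^ (Module.finrank K L) := by
  haveI : IsDiscreteValuationRing V := isDiscreteValuationRing_of_dominates A K L V hV
  letI : Algebra A V := (RingHom.codRestrict (algebraMap A L) V hV.1).toAlgebra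
  haveI : IsScalarTower A V L := IsScalarTower.of_algebraMap_eq (fun _ => rfl)
  have hSV := integralClosure_le A L V hV.1
  have hVS := le_integralClosure_of_unique A K L V (fun V' h' => ht.2.1 V' V h' hV)
  haveI : IsIntegralClosure V A L :=
    ⟨Subtype.val_injective, fun {x} => ⟨fun hx => ⟨⟨x, hSV hx⟩, rfl⟩, fun ⟨y, hy⟩ => hy ▸ hVS y.2⟩⟩
  haveI : Module.Finite A V := IsIntegralClosure.finite A K L V
  have hinj : Function.Injective (algebraMap A L) := by
    rw [IsScalarTower.algebraMap_eq A K L]
    exact (algebraMap K L).injective.comp (IsFractionRing.injective A K)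
  haveI : Module.IsTorsionFree A L := Module.isTorsionFree_iff_algebraMap_injective.mpr hinj
  haveI : Module.Free A V := IsIntegralClosure.module_free A K L V
  have hrank : Module.finrank A V = Module.finrank K L := IsIntegralClosure.rank A K L V
  have hinjV : Function.Injective (algebraMap A V) := fun a b hab =>
    hinj (congrArg Subtype.val hab)
  haveI : Module.IsTorsionFree A V := Module.isTorsionFree_iff_algebraMap_injective.mpr hinjV
  haveI hloc : IsLocalHom (algebraMap A V) := isLocalHom_of_dominates (algebraMap A L) V hV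
  have hcomap : (maximalIdeal V).comap (algebraMap A V) = maximalIdeal A :=
    ((local_hom_TFAE (algebraMap A V)).out 0 4).mp hloc
  haveI hlies : (maximalIdeal V).LiesOver (maximalIdeal A) := ⟨hcomap.symm⟩
  have hmA0 : maximalIdeal A ≠ ⊥ := IsDiscreteValuationRing.not_a_field A
  -- the only prime over the maximal ideal is the maximal ideal
  have honly : ∀ q : (maximalIdeal A).primesOver V, q.1 = maximalIdeal V := by
    rintro ⟨q, hq, hqo⟩
    have hq0 : q ≠ ⊥ := by
      intro h0
      have h1 : algebraMap A V π ∈ q := by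
        have : π ∈ q.under A := by
          rw [← hqo.over, hπ.maximalIdeal_eq]
          exact Ideal.mem_span_singleton_self π
        exact this
      rw [h0, Ideal.mem_bot] at h1
      exact hπ.ne_zero (hinjV (h1.trans (map_zero _).symm))
    haveI : q.IsMaximal := hq.isMaximal hq0
    exact IsLocalRing.eq_maximalIdeal ‹_›
  letI : Unique ((maximalIdeal A).primesOver V) :=
    { default := ⟨maximalIdeal V, inferInstance, hlies⟩
      uniq := fun q => Subtype.ext (honly q) }
  have hsum := Ideal.sum_ramification_inertia_eq_finrank (maximalIdeal A) V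
  rw [Fintype.sum_unique, hrank] at hsum
  change (maximalIdeal V).ramificationIdx A * (maximalIdeal V).inertiaDeg A = _ at hsum
  -- the inertia degree is one
  have hf : (maximalIdeal V).inertiaDeg A = 1 := by
    rw [Ideal.inertiaDeg_eq_of_isMaximal (maximalIdeal A) (maximalIdeal V)]
    have hsurj : Function.Surjective
        (algebraMap (A ⧸ maximalIdeal A) (V ⧸ maximalIdeal V)) := by
      intro r
      obtain ⟨a, ha⟩ := ht.2.2 V hV r
      exact ⟨Ideal.Quotient.mk _ a, ha⟩
    letI : Field (A ⧸ maximalIdeal A) := Ideal.Quotient.field _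
    have hbij : Function.Bijective
        (Algebra.linearMap (A ⧸ maximalIdeal A) (V ⧸ maximalIdeal V)) :=
      ⟨(algebraMap (A ⧸ maximalIdeal A) (V ⧸ maximalIdeal V)).injective, hsurj⟩
    rw [← (LinearEquiv.ofBijective _ hbij).finrank_eq, Module.finrank_self]
  rw [hf, mul_one, ← Ideal.ramificationIdx'_eq_ramificationIdx (maximalIdeal A) (maximalIdeal V) hmA0]
    at hsum
  -- now unwind the ramification index
  obtain ⟨ϖ, hϖ⟩ := IsDiscreteValuationRing.exists_irreducible V
  have hπV0 : algebraMap A V π ≠ 0 := fun h => hπ.ne_zero (hinjV (h.trans (map_zero _).symm))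
  obtain ⟨k, u, hku⟩ := IsDiscreteValuationRing.eq_unit_mul_pow_irreducible hπV0 hϖ
  have hmap : (maximalIdeal A).map (algebraMap A V) = (maximalIdeal V) ^ k := by
    rw [hπ.maximalIdeal_eq, Ideal.map_span, Set.image_singleton, hku, hϖ.maximalIdeal_eq,
      Ideal.span_singleton_pow]
    exact Ideal.span_singleton_eq_span_singleton.mpr
      (associated_unit_mul_left _ _ u.isUnit)
  have hk : Ideal.ramificationIdx' (maximalIdeal A) (maximalIdeal V) = k := by
    apply Ideal.ramificationIdx'_spec
    · rw [hmap]
    · rw [hmap]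
      intro hle
      exact not_lt_of_ge hle
        (Ideal.pow_succ_lt_pow (IsDiscreteValuationRing.not_a_field V) k)
  refine ⟨ϖ, u, hϖ, ?_⟩
  rw [← hsum, hk]
  have h2 := congrArg Subtype.val hku
  rw [MulMemClass.coe_mul, SubmonoidClass.coe_pow] at h2
  exact h2

end degree

section dvrfacts

variable {A W : Type u} [CommRing A] [IsLocalRing A]
  [CommRing W] [IsDomain W] [IsDiscreteValuationRing W] [Algebra A W]

/-- ramification index into a discrete valuation ring when the image of the maximal ideal is
generated by a unit times a power of a uniformizer -/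
theorem ramificationIdx'_eq_of_span (x : W) (hx : (maximalIdeal A).map (algebraMap A W) = Ideal.span {x})
    (ω : W) (hω : Irreducible ω) (w : Wˣ) (k : ℕ) (hxk : x = (w : W) * ω ^ k) :
    Ideal.ramificationIdx' (maximalIdeal A) (maximalIdeal W) = k := by
  have hmap : (maximalIdeal A).map (algebraMap A W) = (maximalIdeal W) ^ k := by
    rw [hx, hxk, hω.maximalIdeal_eq, Ideal.span_singleton_pow]
    exact Ideal.span_singleton_eq_span_singleton.mpr (associated_unit_mul_left _ _ w.isUnit)
  apply Ideal.ramificationIdx'_spec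
  · rw [hmap]
  · rw [hmap]
    intro hle
    exact not_lt_of_ge hle (Ideal.pow_succ_lt_pow (IsDiscreteValuationRing.not_a_field W) k)

end dvrfacts

section compositum

open TensorProduct

variable (A B K L : Type u) [CommRing A] [IsDomain A] [IsDiscreteValuationRing A]
  [CommRing B] [IsDomain B] [IsDiscreteValuationRing B] [Algebra A B] [IsLocalHom (algebraMap A B)]
  [Field K] [Field L] [Algebra A K] [IsFractionRing A K] [Algebra B L] [IsFractionRing B L]
  [Algebra K L] [Algebra A L] [IsScalarTower A K L] [IsScalarTower A B L]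
  (K₁ : Type u) [Field K₁] [Algebra K K₁] [FiniteDimensional K K₁] [Algebra.IsSeparable K K₁]
  (M : Type u) [Field M] [Algebra K M] [Algebra L M] [Algebra K₁ M] [IsScalarTower K L M]
  [IsScalarTower K K₁ M]

/-- the canonical map from the tensor product to a compositum -/
noncomputable def toComp : L ⊗[K] K₁ →ₐ[L] M :=
  Algebra.TensorProduct.productLeftAlgHom (Algebra.ofId L M) (IsScalarTower.toAlgHom K K₁ M)

theorem toComp_surjective (hgen : Algebra.adjoin L (Set.range (algebraMap K₁ M)) = ⊤) :
    Function.Surjective (toComp K L K₁ M) := by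
  rw [← AlgHom.range_eq_top, eq_top_iff, ← hgen]
  apply Algebra.adjoin_le
  rintro _ ⟨x, rfl⟩
  exact ⟨1 ⊗ₜ x, by simp [toComp]⟩

theorem finrank_le (hgen : Algebra.adjoin L (Set.range (algebraMap K₁ M)) = ⊤) :
    Module.Finite L M ∧ Module.finrank L M ≤ Module.finrank K K₁ := by
  have hs := toComp_surjective K L K₁ M hgen
  haveI : Module.Finite L M := Module.Finite.of_surjective (toComp K L K₁ M).toLinearMap hs
  refine ⟨inferInstance, ?_⟩
  have h1 := LinearMap.finrank_le_finrank_of_surjective (f := (toComp K L K₁ M).toLinearMap) hs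
  rwa [Module.finrank_baseChange] at h1

include K in
theorem isSeparable_comp (hgen : Algebra.adjoin L (Set.range (algebraMap K₁ M)) = ⊤) :
    Algebra.IsSeparable L M := by
  have hs := toComp_surjective K L K₁ M hgen
  haveI := (finrank_le K L K₁ M hgen).1
  haveI : Algebra.FormallyUnramified K K₁ := Algebra.FormallyUnramified.of_isSeparable K K₁
  haveI : Algebra.FormallyUnramified L M :=
    Algebra.FormallyUnramified.of_surjective (toComp K L K₁ M) hs
  exact Algebra.FormallyUnramified.isSeparable L M

/-- the main computation: in a compositum of a weakly unramified extension and a totally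
ramified finite separable extension, the degree does not drop and the uniformizer of the
totally ramified extension stays a uniformizer -/
theorem core (hw : EtRam.IsWeaklyUnramified A B)
    (ht : EtRam.IsTotallyRamified A ((algebraMap K K₁).comp (algebraMap A K)))
    (hgen : Algebra.adjoin L (Set.range (algebraMap K₁ M)) = ⊤) (W : ValuationSubring M)
    (hW : EtRam.Dominates B ((algebraMap L M).comp (algebraMap B L)) W) :
    Module.finrank L M = Module.finrank K K₁ ∧
      (letI : Algebra (W.comap (algebraMap K₁ M)) W :=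
        (EtRam.inclOfComap W (algebraMap K₁ M)).toAlgebra
       EtRam.IsWeaklyUnramified (W.comap (algebraMap K₁ M)) W) := by
  classical
  letI : Algebra A K₁ := ((algebraMap K K₁).comp (algebraMap A K)).toAlgebra
  haveI : IsScalarTower A K K₁ := IsScalarTower.of_algebraMap_eq (fun _ => rfl)
  letI : Algebra B M := ((algebraMap L M).comp (algebraMap B L)).toAlgebra
  haveI : IsScalarTower B L M := IsScalarTower.of_algebraMap_eq (fun _ => rfl)
  obtain ⟨hfin, hle⟩ := finrank_le K L K₁ M hgen
  haveI := hfin
  haveI : Algebra.IsSeparable L M := isSeparable_comp K L K₁ M hgen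
  have hWB : EtRam.Dominates B (algebraMap B M) W := hW
  haveI : IsDiscreteValuationRing W := isDiscreteValuationRing_of_dominates B L M W hWB
  have hcompat : ∀ a : A,
      algebraMap K₁ M (algebraMap A K₁ a) = algebraMap B M (algebraMap A B a) := by
    intro a
    change algebraMap K₁ M (algebraMap K K₁ (algebraMap A K a)) =
      algebraMap L M (algebraMap B L (algebraMap A B a))
    rw [← IsScalarTower.algebraMap_apply K K₁ M, ← IsScalarTower.algebraMap_apply A B L,
      IsScalarTower.algebraMap_apply A K L, ← IsScalarTower.algebraMap_apply K L M]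
  have hV₁dom : EtRam.Dominates A (algebraMap A K₁) (W.comap (algebraMap K₁ M)) := by
    rw [dominates_comap_iff]
    refine ⟨fun a => ?_, fun a ha => ?_⟩
    · rw [RingHom.comp_apply, hcompat]
      exact hWB.1 _
    · rw [RingHom.comp_apply, hcompat]
      apply hWB.2
      rw [mem_maximalIdeal, mem_nonunits_iff] at ha ⊢
      intro hu
      exact ha (isUnit_of_map_unit (algebraMap A B) a hu)
  obtain ⟨π, hπ⟩ := IsDiscreteValuationRing.exists_irreducible A
  obtain ⟨ϖ, u, hϖ, hπu⟩ := exists_unif_of_totallyRamified A K K₁ ht π hπ _ hV₁dom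
  -- the extension `B → W`
  letI : Algebra B W := (RingHom.codRestrict (algebraMap B M) W hWB.1).toAlgebra
  haveI : IsScalarTower B W M := IsScalarTower.of_algebraMap_eq (fun _ => rfl)
  haveI : IsLocalHom (algebraMap B W) := isLocalHom_of_dominates (algebraMap B M) W hWB
  have hinjBM : Function.Injective (algebraMap B M) :=
    (algebraMap L M).injective.comp (IsFractionRing.injective B L)
  have hinjBW : Function.Injective (algebraMap B W) := fun a b hab =>
    hinjBM (congrArg Subtype.val hab)
  obtain ⟨hresfin, hef⟩ := Groth.Agent.Lib.Helper24DvrEF.s7132 B W L M hinjBW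
  haveI := hresfin
  have hfpos : 0 < Module.finrank (ResidueField B) (ResidueField W) := Module.finrank_pos
  -- the image of the uniformizer in `W`
  letI : Algebra (W.comap (algebraMap K₁ M)) W :=
    (EtRam.inclOfComap W (algebraMap K₁ M)).toAlgebra
  set n := Module.finrank K K₁ with hn
  have hnpos : 0 < n := Module.finrank_pos
  set ϖ' : W := EtRam.inclOfComap W (algebraMap K₁ M) ϖ with hϖ'
  set u' : W := EtRam.inclOfComap W (algebraMap K₁ M) (u : W.comap (algebraMap K₁ M)) with hu'
  have hu'unit : IsUnit u' := u.isUnit.map (EtRam.inclOfComap W (algebraMap K₁ M))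
  have hϖ'nonunit : ¬ IsUnit ϖ' := fun h =>
    hϖ.not_isUnit (isUnit_of_map_unit (EtRam.inclOfComap W (algebraMap K₁ M)) ϖ h)
  have hϖ'0 : ϖ' ≠ 0 := by
    intro h0
    have : algebraMap K₁ M (ϖ : K₁) = 0 := congrArg Subtype.val h0
    rw [map_eq_zero] at this
    exact hϖ.ne_zero (Subtype.ext this)
  have hπW : algebraMap B W (algebraMap A B π) = u' * ϖ' ^ n := by
    apply Subtype.ext
    change algebraMap B M (algebraMap A B π) = _
    rw [← hcompat, hπu, map_mul, map_pow]
    rfl
  obtain ⟨ω, hω⟩ := IsDiscreteValuationRing.exists_irreducible W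
  obtain ⟨j, w, hjw⟩ := IsDiscreteValuationRing.eq_unit_mul_pow_irreducible hϖ'0 hω
  have hjpos : 0 < j := by
    rcases Nat.eq_zero_or_pos j with h0 | h0
    · exfalso
      apply hϖ'nonunit
      rw [hjw, h0, pow_zero, mul_one]
      exact w.isUnit
    · exact h0
  have hmB : (maximalIdeal B).map (algebraMap B W) =
      Ideal.span {algebraMap B W (algebraMap A B π)} := by
    unfold EtRam.IsWeaklyUnramified at hw
    rw [← hw, hπ.maximalIdeal_eq, Ideal.map_span, Set.image_singleton, Ideal.map_span,
      Set.image_singleton]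
  have hram : Ideal.ramificationIdx' (maximalIdeal B) (maximalIdeal W) = j * n := by
    refine ramificationIdx'_eq_of_span _ hmB ω hω (hu'unit.unit * w ^ n) (j * n) ?_
    rw [hπW, hjw, mul_pow, ← pow_mul]
    simp only [Units.val_mul, Units.val_pow_eq_pow_val, IsUnit.unit_spec]
    ring
  rw [hram] at hef
  have hj1 : j = 1 := by
    by_contra hne
    have hj2 : 2 ≤ j := by omega
    have h1 : 2 * n ≤ j * n * Module.finrank (ResidueField B) (ResidueField W) := by
      calc 2 * n ≤ j * n := Nat.mul_le_mul_right n hj2
        _ ≤ j * n * Module.finrank (ResidueField B) (ResidueField W) :=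
          Nat.le_mul_of_pos_right _ hfpos
    omega
  subst hj1
  refine ⟨?_, ?_⟩
  · apply le_antisymm hle
    calc n = 1 * n := (one_mul n).symm
      _ ≤ 1 * n * Module.finrank (ResidueField B) (ResidueField W) :=
        Nat.le_mul_of_pos_right _ hfpos
      _ ≤ _ := hef
  · unfold EtRam.IsWeaklyUnramified
    apply le_antisymm
    · exact ((local_hom_TFAE (algebraMap (W.comap (algebraMap K₁ M)) W)).out 0 2).mp
        (EtRam.isLocalHom_inclOfComap W (algebraMap K₁ M))
    · rw [hω.maximalIdeal_eq, Ideal.span_singleton_le_iff_mem]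
      have hωeq : ω = ((w⁻¹ : Wˣ) : W) * ϖ' := by
        rw [hjw, pow_one, ← mul_assoc, Units.inv_mul, one_mul]
      rw [hωeq]
      apply Ideal.mul_mem_left
      apply Ideal.mem_map_of_mem
      rw [mem_maximalIdeal, mem_nonunits_iff]
      exact hϖ.not_isUnit

omit [Algebra A B] [IsLocalHom (algebraMap A B)] [Algebra A L] [IsScalarTower A K L]
  [IsScalarTower A B L] [IsFractionRing A K] [Algebra A K] [IsDiscreteValuationRing A] [IsDomain A]
  [FiniteDimensional K K₁] [Algebra.IsSeparable K K₁] in
theorem dominates_V0_self : EtRam.Dominates B (algebraMap B L) (V0 B L) :=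
  ⟨fun b => ⟨b, rfl⟩, fun b hb => valuation_V0_lt_one L b hb⟩

theorem isField_tensor (hw : EtRam.IsWeaklyUnramified A B)
    (ht : EtRam.IsTotallyRamified A ((algebraMap K K₁).comp (algebraMap A K))) :
    IsField (L ⊗[K] K₁) := by
  classical
  have hn : Module.finrank L (L ⊗[K] K₁) = Module.finrank K K₁ := Module.finrank_baseChange
  have hnpos : 0 < Module.finrank K K₁ := Module.finrank_pos
  haveI : Nontrivial (L ⊗[K] K₁) := Module.nontrivial_of_finrank_pos (R := L) (hn ▸ hnpos)
  obtain ⟨𝔪, h𝔪⟩ := Ideal.exists_maximal (L ⊗[K] K₁)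
  letI : Field ((L ⊗[K] K₁) ⧸ 𝔪) := Ideal.Quotient.field 𝔪
  letI : Algebra K₁ ((L ⊗[K] K₁) ⧸ 𝔪) :=
    ((Ideal.Quotient.mk 𝔪).comp
      (Algebra.TensorProduct.includeRight : K₁ →ₐ[K] L ⊗[K] K₁).toRingHom).toAlgebra
  haveI : IsScalarTower K K₁ ((L ⊗[K] K₁) ⧸ 𝔪) := by
    refine IsScalarTower.of_algebraMap_eq (fun c => ?_)
    change Ideal.Quotient.mk 𝔪 (algebraMap K (L ⊗[K] K₁) c) =
      Ideal.Quotient.mk 𝔪 ((Algebra.TensorProduct.includeRight : K₁ →ₐ[K] L ⊗[K] K₁)
        (algebraMap K K₁ c))
    rw [AlgHom.commutes]
  have hgen : Algebra.adjoin L (Set.range (algebraMap K₁ ((L ⊗[K] K₁) ⧸ 𝔪))) = ⊤ := by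
    rw [eq_top_iff]
    intro x hx
    clear hx
    obtain ⟨t, rfl⟩ := Ideal.Quotient.mk_surjective x
    induction t using TensorProduct.induction_on with
    | zero => rw [map_zero]; exact zero_mem _
    | tmul l x =>
      have h1 : (l ⊗ₜ[K] x : L ⊗[K] K₁) = l • ((1 : L) ⊗ₜ[K] x) := by
        rw [TensorProduct.smul_tmul', smul_eq_mul, mul_one]
      rw [h1]
      have h2 : Ideal.Quotient.mk 𝔪 (l • ((1 : L) ⊗ₜ[K] x)) =
          l • Ideal.Quotient.mk 𝔪 ((1 : L) ⊗ₜ[K] x) := rfl
      rw [h2]
      have h3 : Ideal.Quotient.mk 𝔪 ((1 : L) ⊗ₜ[K] x) ∈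
          Set.range (algebraMap K₁ ((L ⊗[K] K₁) ⧸ 𝔪)) := ⟨x, rfl⟩
      exact Subalgebra.smul_mem _ (Algebra.subset_adjoin h3) l
    | add a b ha hb => rw [map_add]; exact add_mem ha hb
  obtain ⟨W, hWc⟩ := exists_comap_eq (algebraMap L ((L ⊗[K] K₁) ⧸ 𝔪)) (V0 B L)
  have hW : EtRam.Dominates B ((algebraMap L ((L ⊗[K] K₁) ⧸ 𝔪)).comp (algebraMap B L)) W := by
    rw [← dominates_comap_iff, hWc]
    exact dominates_V0_self B L
  have hdeg := (core A B K L K₁ _ hw ht hgen W hW).1
  have hsurj : Function.Surjective (Ideal.Quotient.mkₐ L 𝔪).toLinearMap :=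
    Ideal.Quotient.mk_surjective
  have hinj : Function.Injective (Ideal.Quotient.mkₐ L 𝔪).toLinearMap :=
    (LinearMap.injective_iff_surjective_of_finrank_eq_finrank (hn.trans hdeg.symm)).mpr hsurj
  exact MulEquiv.isField (Field.toIsField ((L ⊗[K] K₁) ⧸ 𝔪))
    (RingEquiv.ofBijective (Ideal.Quotient.mk 𝔪) ⟨hinj, Ideal.Quotient.mk_surjective⟩).toMulEquiv

end compositum

end Groth.Agent.Lib.T2H9.TotRamDeg
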