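import Mathlib
import Groth.Prelude.Def_EtRam
import Groth.Agent.Lib.LeadGalTameA
import Groth.Agent.Lib.T2H9ValDom
import Groth.Agent.Lib.T2H9FinDVR
import Groth.Agent.Lib.T2H9TotRamDeg
import Groth.Agent.Lib.T2H9RamTower

/-!
# A finite Galois extension of degree prime to the residue characteristic is tamely ramified (lead)

`R` a discrete valuation ring with fraction field `K`, `L/K` finite Galois of degree not divisible
by the residue characteristic: then `L` is tamely ramified with respect to `R`
(`EtRam.IsTamelyRamified`).
-/

set_option autoImplicit false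
set_option maxHeartbeats 400000
set_option linter.style.haveILetI false
set_option linter.unusedSectionVars false
set_option linter.unusedVariables false
universe u

noncomputable section

namespace Groth.Agent.Lib.LeadGalTame

open IsLocalRing
open scoped Pointwise

section frac

variable (A K : Type u) [CommRing A] [IsDomain A] [IsDiscreteValuationRing A] [Field K]
  [Algebra A K] [IsFractionRing A K] (L : Type u) [Field L] [Algebra K L] [FiniteDimensional K L]
  [Algebra.IsSeparable K L] [Algebra A L] [IsScalarTower A K L]

include K in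
/-- every element of a valuation subring dominating `A` is a fraction `b / s` of integral elements
with `s` a unit of the valuation subring (adapted from helper9's
`T2H9.ValDom.isDiscreteValuationRing_of_dominates`). -/
theorem exists_fraction (V : ValuationSubring L)
    (h : EtRam.Dominates A (algebraMap A L) V) (x : L) (hx : x ∈ V) :
    ∃ b s : integralClosure A L, V.valuation (s : L) = 1 ∧ x * (s : L) = (b : L) := by
  have hBV := Groth.Agent.Lib.T2H9.ValDom.integralClosure_le A L V h.1
  haveI : IsLocalRing V.toSubring := V.isLocalRing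
  haveI : IsDedekindDomain (integralClosure A L).toSubring :=
    integralClosure.isDedekindDomain A K L
  haveI : IsFractionRing (integralClosure A L).toSubring L :=
    integralClosure.isFractionRing_of_finite_extension K L
  let q : Ideal (integralClosure A L).toSubring :=
    (maximalIdeal V.toSubring).comap (Subring.inclusion hBV)
  haveI : q.IsPrime := Ideal.comap_isPrime _ _
  have hinj : Function.Injective (algebraMap A L) := by
    rw [IsScalarTower.algebraMap_eq A K L]
    exact (algebraMap K L).injective.comp (IsFractionRing.injective A K)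
  have hq0 : q ≠ ⊥ := by
    obtain ⟨π, hπ⟩ := IsDiscreteValuationRing.exists_irreducible A
    have hπm : π ∈ maximalIdeal A := by
      rw [mem_maximalIdeal, mem_nonunits_iff]
      exact hπ.not_isUnit
    intro hq
    have hmem : (⟨algebraMap A L π, (integralClosure A L).algebraMap_mem π⟩ :
        (integralClosure A L).toSubring) ∈ q := by
      change (⟨algebraMap A L π, _⟩ : V.toSubring) ∈ maximalIdeal V.toSubring
      exact (V.valuation_lt_one_iff ⟨_, h.1 π⟩).mpr (h.2 π hπm)
    rw [hq, Ideal.mem_bot] at hmem
    have : algebraMap A L π = 0 := congrArg Subtype.val hmem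
    rw [map_eq_zero_iff _ hinj] at this
    exact hπ.ne_zero this
  let R := LocalSubring.ofPrime (integralClosure A L).toSubring q
  haveI : IsDiscreteValuationRing R.toSubring :=
    IsLocalization.AtPrime.isDiscreteValuationRing_of_dedekind_domain
      (integralClosure A L).toSubring hq0 R.toSubring
  haveI : IsFractionRing R.toSubring L :=
    IsFractionRing.isFractionRing_of_isDomain_of_isLocalization q.primeCompl R.toSubring L
  have hRval : ∀ x : L, x ∈ R.toSubring ∨ x⁻¹ ∈ R.toSubring := by
    intro x
    rcases ValuationRing.isInteger_or_isInteger R.toSubring x with ⟨y, hy⟩ | ⟨y, hy⟩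
    · left
      rw [← hy]
      exact y.2
    · right
      rw [← hy]
      exact y.2
  let V₀ : ValuationSubring L := ⟨R.toSubring, hRval⟩
  have hq_iff : ∀ b : (integralClosure A L).toSubring,
      b ∈ q ↔ ¬ IsUnit (Subring.inclusion hBV b) := by
    intro b
    change Subring.inclusion hBV b ∈ maximalIdeal V.toSubring ↔ _
    rw [mem_maximalIdeal, mem_nonunits_iff]
  have hunitV : ∀ (x : L) (hx : x ∈ V.toSubring), IsUnit (⟨x, hx⟩ : V.toSubring) →
      x⁻¹ ∈ V.toSubring := by
    intro x hx hu
    obtain ⟨⟨y, hy⟩, hxy⟩ := isUnit_iff_exists_inv.mp hu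
    have hxy' : x * y = 1 := congrArg Subtype.val hxy
    rw [← eq_inv_of_mul_eq_one_right hxy']
    exact hy
  have key : ∀ (r : L) (hr : r ∈ R.toSubring), ∃ (b : (integralClosure A L).toSubring)
      (s : q.primeCompl), r * (s.1 : L) = (b : L) := by
    intro r hr
    obtain ⟨b, s, hbs⟩ := IsLocalization.exists_mk'_eq q.primeCompl (⟨r, hr⟩ : R.toSubring)
    refine ⟨b, s, ?_⟩
    have := IsLocalization.mk'_spec (M := q.primeCompl) R.toSubring b s
    rw [hbs] at this
    exact congrArg Subtype.val this
  have hs_unit : ∀ s : q.primeCompl, (s.1 : L)⁻¹ ∈ V.toSubring := by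
    intro s
    have h1 : ¬ (s.1 ∈ q) := s.2
    rw [hq_iff, not_not] at h1
    exact hunitV _ _ h1
  have hsub : R.toSubring ≤ V.toSubring := by
    intro r hr
    obtain ⟨b, s, hbs⟩ := key r hr
    have hs0 : (s.1 : L) ≠ 0 := by
      intro h0
      have h1 : ¬ (s.1 ∈ q) := s.2
      apply h1
      have : s.1 = 0 := Subtype.ext h0
      rw [this]
      exact q.zero_mem
    have hr' : r = (b : L) * (s.1 : L)⁻¹ := by
      rw [← hbs, mul_assoc, mul_inv_cancel₀ hs0, mul_one]
    rw [hr']
    exact V.toSubring.mul_mem (hBV b.2) (hs_unit s)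
  have hRV : R ≤ V.toLocalSubring := by
    rw [LocalSubring.le_def]
    refine ⟨hsub, ⟨?_⟩⟩
    rintro ⟨r, hr⟩ hu
    have hu' : IsUnit (Subring.inclusion hsub ⟨r, hr⟩ : V.toSubring) := hu
    obtain ⟨b, s, hbs⟩ := key r hr
    have hsV : IsUnit (Subring.inclusion hBV s.1) := by
      have h1 : ¬ (s.1 ∈ q) := s.2
      rwa [hq_iff, not_not] at h1
    have hbV : IsUnit (Subring.inclusion hBV b) := by
      have : Subring.inclusion hBV b =
          Subring.inclusion hsub ⟨r, hr⟩ * Subring.inclusion hBV s.1 :=
        Subtype.ext hbs.symm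
      rw [this]
      exact hu'.mul hsV
    have hbq : b ∈ q.primeCompl := by
      change ¬ (b ∈ q)
      rw [hq_iff, not_not]
      exact hbV
    have hbR : IsUnit (algebraMap (integralClosure A L).toSubring R.toSubring b) :=
      IsLocalization.map_units R.toSubring ⟨b, hbq⟩
    have hsR : IsUnit (algebraMap (integralClosure A L).toSubring R.toSubring s.1) :=
      IsLocalization.map_units R.toSubring s
    have heq : (⟨r, hr⟩ : R.toSubring) *
        algebraMap (integralClosure A L).toSubring R.toSubring s.1 =
        algebraMap (integralClosure A L).toSubring R.toSubring b := Subtype.ext hbs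
    have : IsUnit ((⟨r, hr⟩ : R.toSubring) *
        algebraMap (integralClosure A L).toSubring R.toSubring s.1) := heq ▸ hbR
    exact (IsUnit.mul_iff.mp this).1
  have hV₀ : V₀.toLocalSubring = R := rfl
  have hRmax : IsMax R := hV₀ ▸ V₀.isMax_toLocalSubring
  have hRV' : R = V.toLocalSubring := hRmax.eq_of_le hRV
  have hVV₀ : V = V₀ := ValuationSubring.toLocalSubring_injective (hRV'.symm.trans hV₀.symm)
  have hxR : x ∈ R.toSubring := by
    have : x ∈ V₀ := hVV₀ ▸ hx
    exact this
  obtain ⟨b, s, hbs⟩ := key x hxR
  refine ⟨⟨b.1, b.2⟩, ⟨s.1.1, s.1.2⟩, ?_, hbs⟩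
  have h1 : ¬ (s.1 ∈ q) := s.2
  rw [hq_iff, not_not] at h1
  exact (V.valuation_eq_one_iff ⟨(s.1 : L), hBV s.1.2⟩).mp h1

end frac

section main

variable (R K L : Type u) [CommRing R] [IsDomain R] [IsDiscreteValuationRing R] [Field K]
  [Field L] [Algebra R K] [IsFractionRing R K] [Algebra K L] [FiniteDimensional K L]
  [IsGalois K L] [Algebra R L] [IsScalarTower R K L]
  (V : ValuationSubring L) (hV : EtRam.Dominates R (algebraMap R L) V)

include hV in
theorem integralClosure_mem (b : integralClosure R L) : (b : L) ∈ V :=
  Groth.Agent.Lib.T2H9.ValDom.integralClosure_le R L V hV.1 b.2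

/-- the inclusion of the integral closure into the valuation subring. -/
def incl : integralClosure R L →+* V :=
  RingHom.codRestrict (algebraMap (integralClosure R L) L) V
    (fun b => integralClosure_mem R L V hV b)

/-- the residue map on the integral closure. -/
def resMap : integralClosure R L →+* ResidueField V :=
  (residue V).comp (incl R L V hV)

theorem mem_ker_resMap (b : integralClosure R L) :
    b ∈ RingHom.ker (resMap R L V hV) ↔ V.valuation (b : L) < 1 := by
  rw [RingHom.mem_ker, resMap, RingHom.comp_apply, residue_eq_zero_iff,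
    V.valuation_lt_one_iff]
  rfl

include K hV in
theorem valuation_algebraMap_lt_one_iff (r : R) :
    V.valuation (algebraMap R L r) < 1 ↔ r ∈ maximalIdeal R := by
  constructor
  · intro h
    by_contra hr
    rw [mem_maximalIdeal, mem_nonunits_iff, not_not] at hr
    obtain ⟨r', hr'⟩ := isUnit_iff_exists_inv.mp hr
    have h1 : V.valuation (algebraMap R L r) * V.valuation (algebraMap R L r') = 1 := by
      rw [← map_mul, ← map_mul, hr', map_one, map_one]
    have h2 : V.valuation (algebraMap R L r') ≤ 1 := (V.valuation_le_one_iff _).mpr (hV.1 r')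
    have h3 : V.valuation (algebraMap R L r) * V.valuation (algebraMap R L r') < 1 :=
      mul_lt_one_of_lt_of_le h h2
    rw [h1] at h3
    exact lt_irrefl _ h3
  · exact hV.2 r

include K in
theorem isMaximal_ker_resMap : (RingHom.ker (resMap R L V hV)).IsMaximal := by
  haveI : (RingHom.ker (resMap R L V hV)).IsPrime := RingHom.ker_isPrime _
  haveI : Algebra.IsIntegral R (integralClosure R L) := integralClosure.AlgebraIsIntegral
  apply Ideal.isMaximal_of_isIntegral_of_isMaximal_comap (R := R)
  have : (RingHom.ker (resMap R L V hV)).comap (algebraMap R (integralClosure R L)) =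
      maximalIdeal R := by
    ext r
    rw [Ideal.mem_comap, mem_ker_resMap]
    exact valuation_algebraMap_lt_one_iff R K L V hV r
  rw [this]
  infer_instance

/-- the Galois group of the integral closure is finite of order `[L : K]`. -/
theorem card_aut : Nat.card (integralClosure R L ≃ₐ[R] integralClosure R L) =
    Module.finrank K L := by
  rw [← IsGalois.card_aut_eq_finrank K L]
  exact Nat.card_congr (galRestrict R K L (integralClosure R L)).toEquiv.symm

include K in
theorem finite_aut : Finite (integralClosure R L ≃ₐ[R] integralClosure R L) :=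
  Finite.of_equiv _ (galRestrict R K L (integralClosure R L)).toEquiv

include K in
/-- **Separable residue extension.** -/
theorem isSeparable_residue
    (hcard : ∀ p : ℕ, p.Prime → CharP (ResidueField R) p → ¬ p ∣ Module.finrank K L) :
    letI : Algebra R V := (RingHom.codRestrict (algebraMap R L) V hV.1).toAlgebra
    ∀ [IsLocalHom (algebraMap R V)],
      Algebra.IsSeparable (ResidueField R) (ResidueField V) := by
  letI algRV : Algebra R V := (RingHom.codRestrict (algebraMap R L) V hV.1).toAlgebra
  intro hloc
  letI algBF : Algebra (integralClosure R L) (ResidueField V) := (resMap R L V hV).toAlgebra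
  haveI : IsScalarTower R (integralClosure R L) (ResidueField V) :=
    IsScalarTower.of_algebraMap_eq (fun r => rfl)
  haveI := finite_aut R K L
  haveI : IsFractionRing (integralClosure R L) L :=
    integralClosure.isFractionRing_of_finite_extension K L
  haveI : Algebra.IsInvariant R (integralClosure R L)
      (integralClosure R L ≃ₐ[R] integralClosure R L) :=
    Algebra.isInvariant_of_isGalois' R K L (integralClosure R L)
  have hsep : ∀ b : integralClosure R L, IsSeparable (ResidueField R) (resMap R L V hV b) := by
    intro b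
    refine isSeparable_algebraMap (A := R) (B := integralClosure R L)
      (integralClosure R L ≃ₐ[R] integralClosure R L) (ResidueField R) (ResidueField V)
      residue_surjective (isMaximal_ker_resMap R K L V hV) ?_ b
    intro p hp hchar
    rw [card_aut R K L]
    exact hcard p hp hchar
  refine ⟨fun z => ?_⟩
  obtain ⟨x, rfl⟩ := residue_surjective z
  obtain ⟨b, s, hs1, hbs⟩ := exists_fraction R K L V hV (x : L) x.2
  have hs0 : resMap R L V hV s ≠ 0 := by
    intro h0
    have := (mem_ker_resMap R L V hV s).mp h0
    rw [hs1] at this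
    exact lt_irrefl _ this
  have hmul : residue V x * resMap R L V hV s = resMap R L V hV b := by
    change residue V x * residue V (incl R L V hV s) = residue V (incl R L V hV b)
    rw [← map_mul]
    congr 1
    exact Subtype.ext hbs
  have hx : residue V x = resMap R L V hV b / resMap R L V hV s := by
    rw [eq_div_iff hs0, hmul]
  rw [hx, ← mem_separableClosure_iff]
  exact div_mem (mem_separableClosure_iff.mpr (hsep b)) (mem_separableClosure_iff.mpr (hsep s))

/-- in a discrete valuation subring, elements of valuation `< 1` have valuation at most that of a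
uniformizer. -/
theorem valuation_le_of_lt_one {L : Type u} [Field L] (V : ValuationSubring L)
    (ϖ : V) (hϖ : Irreducible ϖ) [IsDiscreteValuationRing V] (x : L)
    (hx : V.valuation x < 1) : V.valuation x ≤ V.valuation (ϖ : L) := by
  have hxV : x ∈ V := V.mem_of_valuation_le_one x hx.le
  have hm : (⟨x, hxV⟩ : V) ∈ maximalIdeal V := (V.valuation_lt_one_iff ⟨x, hxV⟩).mpr hx
  rw [hϖ.maximalIdeal_eq, Ideal.mem_span_singleton'] at hm
  obtain ⟨w, hw⟩ := hm
  have hx' : x = (w : L) * (ϖ : L) := by
    have := congrArg Subtype.val hw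
    exact this.symm
  rw [hx', map_mul]
  calc V.valuation (w : L) * V.valuation (ϖ : L) ≤ 1 * V.valuation (ϖ : L) :=
        mul_le_mul_left (V.valuation_le_one w) _
    _ = V.valuation (ϖ : L) := one_mul _

include K in
/-- **The ramification index divides the degree.** -/
theorem ramificationIdx'_dvd_finrank :
    letI : Algebra R V := (RingHom.codRestrict (algebraMap R L) V hV.1).toAlgebra
    ∀ [IsLocalHom (algebraMap R V)],
      Ideal.ramificationIdx' (maximalIdeal R) (maximalIdeal V) ∣ Module.finrank K L := by
  letI algRV : Algebra R V := (RingHom.codRestrict (algebraMap R L) V hV.1).toAlgebra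
  intro hloc
  classical
  haveI : IsDiscreteValuationRing V :=
    Groth.Agent.Lib.T2H9.FinDVR.isDiscreteValuationRing_of_dominates R K L V hV
  haveI := finite_aut R K L
  haveI : IsFractionRing (integralClosure R L) L :=
    integralClosure.isFractionRing_of_finite_extension K L
  haveI : Algebra.IsInvariant R (integralClosure R L)
      (integralClosure R L ≃ₐ[R] integralClosure R L) :=
    Algebra.isInvariant_of_isGalois' R K L (integralClosure R L)
  cases nonempty_fintype (integralClosure R L ≃ₐ[R] integralClosure R L)
  set Q : Ideal (integralClosure R L) := RingHom.ker (resMap R L V hV) with hQ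
  haveI hQmax : Q.IsMaximal := isMaximal_ker_resMap R K L V hV
  have hQmem : ∀ b : integralClosure R L, b ∈ Q ↔ V.valuation (b : L) < 1 :=
    mem_ker_resMap R L V hV
  have hle1 : ∀ b : integralClosure R L, V.valuation (b : L) ≤ 1 := fun b =>
    (V.valuation_le_one_iff _).mpr (integralClosure_mem R L V hV b)
  -- uniformizers
  obtain ⟨π, hπ⟩ := IsDiscreteValuationRing.exists_irreducible R
  obtain ⟨ϖ, hϖ⟩ := IsDiscreteValuationRing.exists_irreducible V
  have hinjRL : Function.Injective (algebraMap R L) := by
    rw [IsScalarTower.algebraMap_eq R K L]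
    exact (algebraMap K L).injective.comp (IsFractionRing.injective R K)
  have hπ0 : algebraMap R V π ≠ 0 := by
    intro h0
    apply hπ.ne_zero
    apply hinjRL
    rw [map_zero]
    exact congrArg Subtype.val h0
  obtain ⟨e, u, hu⟩ := IsDiscreteValuationRing.eq_unit_mul_pow_irreducible hπ0 hϖ
  have hmap : (maximalIdeal R).map (algebraMap R V) = Ideal.span {algebraMap R V π} := by
    rw [hπ.maximalIdeal_eq, Ideal.map_span, Set.image_singleton]
  have hram := Groth.Agent.Lib.T2H9.TotRamDeg.ramificationIdx'_eq_of_span
    (algebraMap R V π) hmap ϖ hϖ u e hu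
  rw [hram]
  set γ := V.valuation (ϖ : L) with hγ
  have hγ1 : γ < 1 := (V.valuation_lt_one_iff ϖ).mp (by
    rw [mem_maximalIdeal, mem_nonunits_iff]
    exact hϖ.not_isUnit)
  have hγ0 : γ ≠ 0 := (Valuation.ne_zero_iff _).mpr (fun h => hϖ.ne_zero (Subtype.ext h))
  have hγpos : 0 < γ := zero_lt_iff.mpr hγ0
  have hγsq : γ ^ 2 < γ := by
    rw [pow_two]
    exact mul_lt_of_lt_one_left hγpos hγ1
  have hvπ : V.valuation (algebraMap R L π) = γ ^ e := by
    have h1 : algebraMap R L π = ((u : V) : L) * (ϖ : L) ^ e := by
      have := congrArg Subtype.val hu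
      exact this
    rw [h1, map_mul, map_pow, V.valuation_unit u, one_mul]
  have hle : ∀ x : L, V.valuation x < 1 → V.valuation x ≤ γ :=
    fun x hx => valuation_le_of_lt_one V ϖ hϖ x hx
  -- an integral element of valuation `γ`
  obtain ⟨b, s, hs1, hbs⟩ := exists_fraction R K L V hV (ϖ : L) ϖ.2
  have hvb : V.valuation (b : L) = γ := by rw [← hbs, map_mul, hs1, mul_one]
  have hb0 : (b : L) ≠ 0 := by
    intro h0
    rw [h0, map_zero] at hvb
    exact hγ0 hvb.symm
  obtain ⟨c, hc1, hc2⟩ := exists_sub_one_mem
    (integralClosure R L ≃ₐ[R] integralClosure R L) Q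
  have hvc1 : V.valuation ((c : L) - 1) < 1 := by
    have := (hQmem _).mp hc1
    simpa using this
  have hvc : V.valuation (c : L) = 1 := by
    have : (c : L) = 1 + ((c : L) - 1) := by ring
    rw [this]
    exact V.valuation.map_one_add_of_lt hvc1
  set t : integralClosure R L := b * c + (1 - c) ^ 2 with ht
  have htL : (t : L) = (b : L) * (c : L) + (1 - (c : L)) ^ 2 := by
    rw [ht]
    simp
  have hvt : V.valuation (t : L) = γ := by
    have h1 : V.valuation ((b : L) * (c : L)) = γ := by rw [map_mul, hvb, hvc, mul_one]
    have h2 : V.valuation ((1 - (c : L)) ^ 2) < γ := by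
      have h3 : V.valuation (1 - (c : L)) ≤ γ := by
        have : 1 - (c : L) = -((c : L) - 1) := by ring
        rw [this, Valuation.map_neg]
        exact hle _ hvc1
      rw [map_pow]
      exact lt_of_le_of_lt (pow_le_pow_left₀ zero_le h3 2) hγsq
    rw [htL, Valuation.map_add_eq_of_lt_left _ (by rw [h1]; exact h2), h1]
  have htQ : ∀ g : (integralClosure R L ≃ₐ[R] integralClosure R L), g • Q ≠ Q → t ∉ g • Q := by
    intro g hg htg
    haveI : (g • Q).IsPrime := Ideal.IsPrime.smul g
    have hc := hc2 g hg
    have h1 : (1 - c) ^ 2 ∈ g • Q := by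
      have : (1 - c) ^ 2 = t - b * c := by rw [ht]; ring
      rw [this]
      exact (g • Q).sub_mem htg ((g • Q).mul_mem_left b hc)
    have h2 : 1 - c ∈ g • Q := Ideal.IsPrime.mem_of_pow_mem inferInstance 2 h1
    have h3 : (1 : integralClosure R L) ∈ g • Q := by
      have : (1 : integralClosure R L) = (1 - c) + c := by ring
      rw [this]
      exact (g • Q).add_mem h2 hc
    exact (Ideal.IsPrime.ne_top inferInstance) ((Ideal.eq_top_iff_one _).mpr h3)
  have hinvne : ∀ g : (integralClosure R L ≃ₐ[R] integralClosure R L), g • Q ≠ Q →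
      g⁻¹ • Q ≠ Q := by
    intro g hg h
    apply hg
    have := congrArg (fun I => g • I) h
    simp only [smul_inv_smul] at this
    exact this.symm
  have hinveq : ∀ g : (integralClosure R L ≃ₐ[R] integralClosure R L), g • Q = Q →
      g⁻¹ • Q = Q := by
    intro g hg
    by_contra h
    have := hinvne g⁻¹ h
    rw [inv_inv] at this
    exact this hg
  have hD : ∀ g : (integralClosure R L ≃ₐ[R] integralClosure R L), g • Q = Q →
      ∀ x : integralClosure R L, (g • x ∈ Q ↔ x ∈ Q) := by
    intro g hg x
    have : g • x ∈ g • Q ↔ x ∈ Q := Ideal.smul_mem_pointwise_smul_iff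
    rwa [hg] at this
  have hvout : ∀ g : (integralClosure R L ≃ₐ[R] integralClosure R L), ¬ g • Q = Q →
      V.valuation ((g • t : integralClosure R L) : L) = 1 := by
    intro g hg
    have h1 : g • t ∉ Q := fun h =>
      htQ g⁻¹ (hinvne g hg) (Ideal.mem_inv_pointwise_smul_iff.mpr h)
    rw [hQmem, not_lt] at h1
    exact le_antisymm (hle1 _) h1
  have hvin : ∀ g : (integralClosure R L ≃ₐ[R] integralClosure R L), g • Q = Q →
      V.valuation ((g • t : integralClosure R L) : L) = γ := by
    intro g hg
    have hgt : g • t ∈ Q := (hD g hg t).mpr ((hQmem t).mpr (hvt ▸ hγ1))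
    have h1 : V.valuation ((g • t : integralClosure R L) : L) ≤ γ := hle _ ((hQmem _).mp hgt)
    refine le_antisymm h1 ?_
    by_contra hlt
    push Not at hlt
    -- then `v(g • t) ≤ γ ^ 2`
    have hsq : V.valuation ((g • t : integralClosure R L) : L) ≤ γ ^ 2 := by
      have hz : V.valuation (((g • t : integralClosure R L) : L) / (b : L)) < 1 := by
        rw [map_div₀, hvb, div_lt_one₀ hγpos]
        exact hlt
      have hz' := hle _ hz
      rw [map_div₀, hvb, div_le_iff₀ hγpos] at hz'
      rwa [pow_two]
    set x : L := ((g • t : integralClosure R L) : L) / (b : L) ^ 2 with hx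
    have hxV : x ∈ V := by
      rw [← V.valuation_le_one_iff, hx, map_div₀, map_pow, hvb, div_le_one₀ (pow_pos hγpos 2)]
      exact hsq
    obtain ⟨b', s', hs'1, hb's'⟩ := exists_fraction R K L V hV x hxV
    have heq : g • t * s' = b ^ 2 * b' := by
      apply Subtype.ext
      have h2 : ((g • t : integralClosure R L) : L) = x * (b : L) ^ 2 := by
        rw [hx, div_mul_cancel₀ _ (pow_ne_zero 2 hb0)]
      have h3 : ((g • t * s' : integralClosure R L) : L) =
          ((g • t : integralClosure R L) : L) * (s' : L) := rfl
      have h4 : ((b ^ 2 * b' : integralClosure R L) : L) = (b : L) ^ 2 * (b' : L) := by simp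
      rw [h3, h4, h2, ← hb's']
      ring
    have heq2 : t * (g⁻¹ • s') = (g⁻¹ • b) ^ 2 * (g⁻¹ • b') := by
      have := congrArg (fun y => g⁻¹ • y) heq
      simpa [smul_mul', smul_pow', inv_smul_smul] using this
    have hg' : g⁻¹ • Q = Q := hinveq g hg
    have hvs : V.valuation ((g⁻¹ • s' : integralClosure R L) : L) = 1 := by
      have h2 : g⁻¹ • s' ∉ Q := by
        rw [hD g⁻¹ hg', hQmem, hs'1]
        exact lt_irrefl _
      rw [hQmem, not_lt] at h2
      exact le_antisymm (hle1 _) h2
    have hvb2 : V.valuation ((g⁻¹ • b : integralClosure R L) : L) ≤ γ :=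
      hle _ ((hQmem _).mp ((hD g⁻¹ hg' b).mpr ((hQmem b).mpr (hvb ▸ hγ1))))
    have hfinal : γ ≤ γ ^ 2 := by
      have h2 : V.valuation ((t * (g⁻¹ • s') : integralClosure R L) : L) =
          V.valuation (((g⁻¹ • b) ^ 2 * (g⁻¹ • b') : integralClosure R L) : L) := by rw [heq2]
      have h3 : ((t * (g⁻¹ • s') : integralClosure R L) : L) =
          (t : L) * ((g⁻¹ • s' : integralClosure R L) : L) := rfl
      have h4 : (((g⁻¹ • b) ^ 2 * (g⁻¹ • b') : integralClosure R L) : L) =
          ((g⁻¹ • b : integralClosure R L) : L) ^ 2 * ((g⁻¹ • b' : integralClosure R L) : L) := by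
        simp
      rw [h3, h4, map_mul, map_mul, map_pow, hvt, hvs, mul_one] at h2
      calc γ = V.valuation ((g⁻¹ • b : integralClosure R L) : L) ^ 2 *
            V.valuation ((g⁻¹ • b' : integralClosure R L) : L) := h2
        _ ≤ γ ^ 2 * 1 :=
            mul_le_mul' (pow_le_pow_left₀ zero_le hvb2 2) (hle1 _)
        _ = γ ^ 2 := mul_one _
    exact absurd hfinal (not_le.mpr hγsq)
  -- the norm
  set N : integralClosure R L :=
    ∏ g : (integralClosure R L ≃ₐ[R] integralClosure R L), g • t with hN
  have hNinv : ∀ g : (integralClosure R L ≃ₐ[R] integralClosure R L), g • N = N :=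
    fun g => Finset.smul_prod_perm t g
  obtain ⟨r, hr⟩ := Algebra.IsInvariant.isInvariant (A := R) N hNinv
  have hvN : V.valuation (N : L) = γ ^ (Finset.univ.filter
      (fun g : (integralClosure R L ≃ₐ[R] integralClosure R L) => g • Q = Q)).card := by
    have h1 : (N : L) = ∏ g : (integralClosure R L ≃ₐ[R] integralClosure R L),
        ((g • t : integralClosure R L) : L) := by
      rw [hN]
      exact map_prod (algebraMap (integralClosure R L) L) _ _
    rw [h1, map_prod, ← Finset.prod_filter_mul_prod_filter_not Finset.univ
      (fun g : (integralClosure R L ≃ₐ[R] integralClosure R L) => g • Q = Q),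
      Finset.prod_congr rfl (fun g hg => hvin g (Finset.mem_filter.mp hg).2), Finset.prod_const,
      Finset.prod_congr rfl (fun g hg => hvout g (Finset.mem_filter.mp hg).2),
      Finset.prod_const_one, mul_one]
  have hrL : algebraMap R L r = (N : L) := by
    rw [← hr]
    rfl
  have hr0 : r ≠ 0 := by
    intro h0
    rw [h0, map_zero] at hrL
    have : V.valuation (N : L) = 0 := by rw [← hrL, map_zero]
    rw [hvN] at this
    exact pow_ne_zero _ hγ0 this
  obtain ⟨j, w, hw⟩ := IsDiscreteValuationRing.eq_unit_mul_pow_irreducible hr0 hπ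
  have hvw : V.valuation (algebraMap R L (w : R)) = 1 := by
    have h1 : ¬ V.valuation (algebraMap R L (w : R)) < 1 := by
      rw [valuation_algebraMap_lt_one_iff R K L V hV, mem_maximalIdeal, mem_nonunits_iff, not_not]
      exact w.isUnit
    exact le_antisymm ((V.valuation_le_one_iff _).mpr (hV.1 _)) (not_lt.mp h1)
  have hvr : V.valuation (algebraMap R L r) = γ ^ (e * j) := by
    rw [hw, map_mul, map_pow, map_mul, map_pow, hvw, one_mul, hvπ, ← pow_mul]
  have hpow : γ ^ (Finset.univ.filter
      (fun g : (integralClosure R L ≃ₐ[R] integralClosure R L) => g • Q = Q)).card =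
      γ ^ (e * j) := by rw [← hvN, ← hrL, hvr]
  have hinj := (pow_right_strictAnti₀ hγpos hγ1).injective hpow
  have hdvd : e ∣ (Finset.univ.filter
      (fun g : (integralClosure R L ≃ₐ[R] integralClosure R L) => g • Q = Q)).card := ⟨j, hinj⟩
  refine hdvd.trans ?_
  rw [← card_aut R K L]
  exact card_filter_stabilizer_dvd (integralClosure R L ≃ₐ[R] integralClosure R L) Q

include K in
/-- **Galois of degree prime to the residue characteristic implies tame.** -/
theorem tame_of_isGalois
    (hcard : ∀ p : ℕ, p.Prime → CharP (ResidueField R) p → ¬ p ∣ Module.finrank K L) :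
    EtRam.IsTamelyRamified R (algebraMap R L) := by
  intro V hV
  letI algRV : Algebra R V := (RingHom.codRestrict (algebraMap R L) V hV.1).toAlgebra
  intro hloc
  refine ⟨isSeparable_residue R K L V hV hcard, ?_⟩
  intro p hp hchar hdvd
  exact hcard p hp hchar (hdvd.trans (ramificationIdx'_dvd_finrank R K L V hV))

end main

end Groth.Agent.Lib.LeadGalTame
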