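import Mathlib
import Groth.Prelude.Def_EtRam
import Groth.Prelude.Def_FEt
import Groth.Prelude.Def_PiSp
import Groth.Agent.Lib.LeadGalTameB
import Groth.Agent.Lib.Helper20EtLocalSch

/-!
# Residue field extensions of Galois covers are Galois of degree dividing `|Aut|` (lead)

For a Galois cover `Z ⟶ X` (finite étale, the automorphism group acting transitively on geometric
fibres) and a point `z` of `Z`, the residue field extension `κ(z)/κ(x)` is finite Galois and its
degree divides the order of `Aut Z`. Consequently it is tamely ramified with respect to every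
discrete valuation ring of `κ(x)` whose residue characteristic does not divide `|Aut Z|`.
-/

set_option autoImplicit false
set_option maxHeartbeats 400000
set_option linter.style.haveILetI false
set_option linter.unusedSectionVars false
set_option linter.unusedVariables false
universe u

noncomputable section

namespace Groth.Agent.Lib.LeadGalTame

open CategoryTheory AlgebraicGeometry IsLocalRing

section block

/-- orbit–stabilizer for a fibre of an equivariant map out of a transitive action. -/
theorem card_fibre_dvd {G F P : Type*} [Group G] [Finite G] [MulAction G F] [MulAction G P]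
    [MulAction.IsPretransitive G F] (pt : F → P) (hpt : ∀ (g : G) (s : F), pt (g • s) = g • pt s)
    (s₁ : F) : Nat.card {s : F // pt s = pt s₁} ∣ Nat.card G := by
  classical
  set z := pt s₁ with hz
  let S : Subgroup G := MulAction.stabilizer G z
  have horb : MulAction.orbit S s₁ = {s : F | pt s = z} := by
    ext s
    constructor
    · rintro ⟨σ, rfl⟩
      change pt ((σ : G) • s₁) = z
      rw [hpt]
      exact σ.2
    · intro hs
      obtain ⟨g, hg⟩ := MulAction.exists_smul_eq G s₁ s
      have hgS : g ∈ S := by
        change g • z = z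
        rw [hz, ← hpt, hg]
        exact hs
      exact ⟨⟨g, hgS⟩, hg⟩
  have h1 : Nat.card (MulAction.orbit S s₁) * Nat.card (MulAction.stabilizer S s₁) =
      Nat.card S := by
    cases nonempty_fintype S
    have : Finite ↥(MulAction.orbit S s₁) := by
      unfold MulAction.orbit
      infer_instance
    have := Fintype.ofFinite (MulAction.orbit S s₁)
    have := Fintype.ofFinite (MulAction.stabilizer S s₁)
    simp only [Nat.card_eq_fintype_card]
    exact MulAction.card_orbit_mul_card_stabilizer_eq_card_group S s₁
  have h2 : Nat.card {s : F // pt s = z} = Nat.card (MulAction.orbit S s₁) := by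
    rw [horb]
    rfl
  rw [h2]
  exact (Dvd.intro _ h1).trans (Subgroup.card_subgroup_dvd_card S)

end block

section action

variable {X : Scheme.{u}} (Z : FEt.Cat X) {Ω : Type u} [Field Ω]
  (ξ : Spec (CommRingCat.of Ω) ⟶ X)

/-- the action of the automorphism group on a geometric fibre. -/
instance fibreAction : MulAction (Aut Z) (FEt.fiberObj ξ Z) where
  smul σ s := ⟨s.1 ≫ σ.hom.left, by
    rw [Category.assoc]
    exact (congrArg (s.1 ≫ ·) (Over.w σ.hom.hom)).trans s.2⟩
  one_smul s := Subtype.ext (Category.comp_id _)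
  mul_smul σ σ' s := Subtype.ext (Category.assoc _ _ _).symm

theorem fibreAction_smul_val (σ : Aut Z) (s : FEt.fiberObj ξ Z) :
    (σ • s).1 = s.1 ≫ σ.hom.left := rfl

theorem fiber_map_eq_smul (σ : Aut Z) (s : FEt.fiberObj ξ Z) :
    (FEt.fiber ξ).map σ.hom s = σ • s := rfl

/-- the action of the automorphism group on the points. -/
instance pointAction : MulAction (Aut Z) Z.left where
  smul σ p := σ.hom.left.base p
  one_smul p := rfl
  mul_smul σ σ' p := rfl

theorem pointAction_smul (σ : Aut Z) (p : Z.left) : σ • p = σ.hom.left.base p := rfl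

/-- the image point of a geometric point. -/
def ptOf (s : FEt.fiberObj ξ Z) : Z.left := s.1.base (closedPoint Ω)

theorem ptOf_smul (σ : Aut Z) (s : FEt.fiberObj ξ Z) :
    ptOf Z ξ (σ • s) = σ • ptOf Z ξ s := rfl

end action

section general

variable {X Y : Scheme.{u}} {Ω : Type u} [Field Ω]

/-- cancellation for points with values in a field. -/
theorem hom_eq_of_SpecMap_comp_eq {x : X} (a b : X.residueField x ⟶ CommRingCat.of Ω)
    (h : Spec.map a ≫ X.fromSpecResidueField x = Spec.map b ≫ X.fromSpecResidueField x) :
    a = b := by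
  rw [cancel_mono] at h
  exact Spec.map_injective h

/-- composing a field-valued point with a morphism. -/
theorem SpecMap_comp_fromSpecResidueField_comp (g : Y ⟶ X) (z : Y)
    (a : Y.residueField z ⟶ CommRingCat.of Ω) :
    (Spec.map a ≫ Y.fromSpecResidueField z) ≫ g =
      Spec.map (g.residueFieldMap z ≫ a) ≫ X.fromSpecResidueField (g.base z) := by
  rw [Category.assoc, ← Scheme.Hom.SpecMap_residueFieldMap_fromSpecResidueField,
    Spec.map_comp, Category.assoc]

/-- a field-valued point with image `z` factors through `Spec κ(z)`. -/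
theorem exists_SpecMap_eq (s : Spec (CommRingCat.of Ω) ⟶ Y) (z : Y)
    (hs : s.base (closedPoint Ω) = z) :
    ∃ a : Y.residueField z ⟶ CommRingCat.of Ω, Spec.map a ≫ Y.fromSpecResidueField z = s := by
  subst hs
  exact ⟨Y.descResidueField (Scheme.stalkClosedPointTo s),
    Scheme.descResidueField_stalkClosedPointTo_fromSpecResidueField Ω Y s⟩

theorem SpecMap_comp_fromSpecResidueField_base (z : Y) (a : Y.residueField z ⟶ CommRingCat.of Ω) :
    (Spec.map a ≫ Y.fromSpecResidueField z).base (closedPoint Ω) = z :=
  Scheme.fromSpecResidueField_apply z _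

/-- an endomorphism fixing `z` acts on the `κ(z)`-points through an endomorphism of `κ(z)`. -/
theorem exists_residue_endo (f : Y ⟶ Y) (z : Y) (hz : f.base z = z) :
    ∃ φ₀ : Y.residueField z ⟶ Y.residueField z,
      Spec.map φ₀ ≫ Y.fromSpecResidueField z = Y.fromSpecResidueField z ≫ f := by
  refine ⟨(Y.residueFieldCongr hz.symm).hom ≫ f.residueFieldMap z, ?_⟩
  rw [Spec.map_comp, Category.assoc, Scheme.residueFieldCongr_fromSpecResidueField,
    Scheme.Hom.SpecMap_residueFieldMap_fromSpecResidueField]

end general

section glue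

variable {X : Scheme.{u}} (Z : FEt.Cat X) (z : Z.left)

/-- the residue field extension `κ(z)/κ(x)` as an algebra. -/
@[reducible] def resAlg : Algebra (X.residueField (Z.hom.base z)) (Z.left.residueField z) :=
  (Z.hom.residueFieldMap z).hom.toAlgebra

attribute [local instance] resAlg

theorem finite_resAlg :
    Module.Finite (X.residueField (Z.hom.base z)) (Z.left.residueField z) := by
  haveI : IsFinite Z.hom := Z.prop.1
  haveI : Etale Z.hom := Z.prop.2
  obtain ⟨-, hfin, -⟩ :=
    (Groth.Agent.Lib.Helper20.EtLocal.formallyUnramified_stalkMap_iff_local Z.hom z).mp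
      (FormallyUnramified.stalkMap Z.hom z)
  exact hfin

theorem isSeparable_resAlg :
    Algebra.IsSeparable (X.residueField (Z.hom.base z)) (Z.left.residueField z) := by
  haveI : IsFinite Z.hom := Z.prop.1
  haveI : Etale Z.hom := Z.prop.2
  obtain ⟨-, -, hsep⟩ :=
    (Groth.Agent.Lib.Helper20.EtLocal.formallyUnramified_stalkMap_iff_local Z.hom z).mp
      (FormallyUnramified.stalkMap Z.hom z)
  exact hsep

/-- the algebraic closure of `κ(z)`. -/
abbrev Om : Type u := AlgebraicClosure (Z.left.residueField z)

/-- the structure map `κ(x) ⟶ Ω` as a morphism of rings. -/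
def baseHom : X.residueField (Z.hom.base z) ⟶ CommRingCat.of (Om Z z) :=
  CommRingCat.ofHom (algebraMap (X.residueField (Z.hom.base z)) (Om Z z))

/-- the geometric point of `X` over `x`. -/
def xi : Spec (CommRingCat.of (Om Z z)) ⟶ X :=
  Spec.map (baseHom Z z) ≫ X.fromSpecResidueField (Z.hom.base z)

/-- an embedding of `κ(z)` as a morphism of rings. -/
def homOf (τ : Z.left.residueField z →ₐ[X.residueField (Z.hom.base z)] Om Z z) :
    Z.left.residueField z ⟶ CommRingCat.of (Om Z z) :=
  CommRingCat.ofHom τ.toRingHom

theorem homOf_apply (τ : Z.left.residueField z →ₐ[X.residueField (Z.hom.base z)] Om Z z)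
    (y : Z.left.residueField z) : (homOf Z z τ).hom y = τ y := rfl

theorem residueFieldMap_comp_homOf
    (τ : Z.left.residueField z →ₐ[X.residueField (Z.hom.base z)] Om Z z) :
    Z.hom.residueFieldMap z ≫ homOf Z z τ = baseHom Z z := by
  ext c
  exact τ.commutes c

/-- the geometric point of `Z` over `z` attached to an embedding of `κ(z)`. -/
def sOf (τ : Z.left.residueField z →ₐ[X.residueField (Z.hom.base z)] Om Z z) :
    FEt.fiberObj (xi Z z) Z :=
  ⟨Spec.map (homOf Z z τ) ≫ Z.left.fromSpecResidueField z, by
    have h1 := SpecMap_comp_fromSpecResidueField_comp Z.hom z (homOf Z z τ)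
    have h2 := residueFieldMap_comp_homOf Z z τ
    exact h1.trans (by rw [h2]; rfl)⟩

theorem sOf_val (τ : Z.left.residueField z →ₐ[X.residueField (Z.hom.base z)] Om Z z) :
    (sOf Z z τ).1 = Spec.map (homOf Z z τ) ≫ Z.left.fromSpecResidueField z :=
  rfl

theorem sOf_injective : Function.Injective (sOf Z z) := by
  intro τ τ' h
  have h1 : (sOf Z z τ).1 = (sOf Z z τ').1 := congrArg Subtype.val h
  have h2 := hom_eq_of_SpecMap_comp_eq _ _ h1
  ext y
  have := congrArg (fun f => f.hom y) h2
  exact this

theorem ptOf_sOf (τ : Z.left.residueField z →ₐ[X.residueField (Z.hom.base z)] Om Z z) :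
    ptOf Z (xi Z z) (sOf Z z τ) = z :=
  SpecMap_comp_fromSpecResidueField_base z (homOf Z z τ)

theorem exists_sOf (s : FEt.fiberObj (xi Z z) Z) (hs : ptOf Z (xi Z z) s = z) :
    ∃ τ, sOf Z z τ = s := by
  obtain ⟨a, ha⟩ := exists_SpecMap_eq s.1 z hs
  have hlin : Z.hom.residueFieldMap z ≫ a = baseHom Z z := by
    apply hom_eq_of_SpecMap_comp_eq
    have h1 := SpecMap_comp_fromSpecResidueField_comp Z.hom z a
    have h2 : (Spec.map a ≫ Z.left.fromSpecResidueField z) ≫ Z.hom = xi Z z := by
      rw [ha]
      exact s.2
    exact h1.symm.trans h2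
  refine ⟨{ toRingHom := a.hom, commutes' := fun c => ?_ }, Subtype.ext ?_⟩
  · have := congrArg (fun g => g.hom c) hlin
    exact this
  · exact ha

/-- the embeddings of `κ(z)` correspond to the geometric points over `z`. -/
def embEquiv : (Z.left.residueField z →ₐ[X.residueField (Z.hom.base z)] Om Z z) ≃
    {s : FEt.fiberObj (xi Z z) Z // ptOf Z (xi Z z) s = z} :=
  Equiv.ofBijective (fun τ => ⟨sOf Z z τ, ptOf_sOf Z z τ⟩)
    ⟨fun τ τ' h => sOf_injective Z z (congrArg Subtype.val h),
      fun s => by
        obtain ⟨τ, hτ⟩ := exists_sOf Z z s.1 s.2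
        exact ⟨τ, Subtype.ext hτ⟩⟩

theorem card_emb : Nat.card (Z.left.residueField z →ₐ[X.residueField (Z.hom.base z)] Om Z z) =
    Module.finrank (X.residueField (Z.hom.base z)) (Z.left.residueField z) := by
  haveI := isSeparable_resAlg Z z
  rw [← Field.finSepDegree_eq_finrank_of_isSeparable]
  rfl

variable (hZ : PiSp.IsGaloisCover Z)

include hZ in
theorem isPretransitive : MulAction.IsPretransitive (Aut Z) (FEt.fiberObj (xi Z z) Z) :=
  ⟨fun s t => hZ.2 (Om Z z) (xi Z z) s t⟩

include hZ in
/-- the degree of the residue field extension divides the order of the automorphism group. -/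
theorem finrank_dvd_card_aut [Finite (Aut Z)] :
    Module.finrank (X.residueField (Z.hom.base z)) (Z.left.residueField z) ∣ Nat.card (Aut Z) := by
  haveI := isPretransitive Z z hZ
  let τ₁ : Z.left.residueField z →ₐ[X.residueField (Z.hom.base z)] Om Z z :=
    IsScalarTower.toAlgHom _ _ _
  have h1 := card_fibre_dvd (G := Aut Z) (ptOf Z (xi Z z)) (ptOf_smul Z (xi Z z)) (sOf Z z τ₁)
  rw [ptOf_sOf] at h1
  rwa [← card_emb, Nat.card_congr (embEquiv Z z)]

include hZ in
/-- every embedding of `κ(z)` differs from the standard one by a `κ(x)`-endomorphism. -/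
theorem exists_algHom (τ : Z.left.residueField z →ₐ[X.residueField (Z.hom.base z)] Om Z z) :
    ∃ φ : Z.left.residueField z →ₐ[X.residueField (Z.hom.base z)] Z.left.residueField z,
      ∀ y, algebraMap (Z.left.residueField z) (Om Z z) (φ y) = τ y := by
  haveI := isPretransitive Z z hZ
  let τ₁ : Z.left.residueField z →ₐ[X.residueField (Z.hom.base z)] Om Z z :=
    IsScalarTower.toAlgHom _ _ _
  obtain ⟨σ, hσ⟩ := MulAction.exists_smul_eq (Aut Z) (sOf Z z τ₁) (sOf Z z τ)
  have hσ1 : (sOf Z z τ₁).1 ≫ σ.hom.left = (sOf Z z τ).1 := congrArg Subtype.val hσ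
  have hpt : σ.hom.left.base z = z := by
    have h1 : ptOf Z (xi Z z) (σ • sOf Z z τ₁) = ptOf Z (xi Z z) (sOf Z z τ) := by rw [hσ]
    rw [ptOf_smul, ptOf_sOf, ptOf_sOf] at h1
    exact h1
  obtain ⟨φ₀, hφ₀⟩ := exists_residue_endo σ.hom.left z hpt
  have hcomp : φ₀ ≫ homOf Z z τ₁ = homOf Z z τ := by
    apply hom_eq_of_SpecMap_comp_eq
    rw [Spec.map_comp, Category.assoc, hφ₀, ← Category.assoc]
    exact hσ1
  have hval : ∀ y, algebraMap (Z.left.residueField z) (Om Z z) (φ₀.hom y) = τ y := by
    intro y
    have := congrArg (fun g => g.hom y) hcomp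
    exact this
  refine ⟨{ toRingHom := φ₀.hom, commutes' := fun c => ?_ }, hval⟩
  apply (algebraMap (Z.left.residueField z) (Om Z z)).injective
  have h1 := hval (algebraMap _ _ c)
  rw [τ.commutes] at h1
  change algebraMap (Z.left.residueField z) (Om Z z) (φ₀.hom (algebraMap _ _ c)) = _
  rw [h1, ← IsScalarTower.algebraMap_apply]

include hZ in
/-- the residue field extension of a Galois cover is Galois. -/
theorem isGalois_resAlg :
    IsGalois (X.residueField (Z.hom.base z)) (Z.left.residueField z) := by
  haveI := finite_resAlg Z z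
  haveI := isSeparable_resAlg Z z
  apply IsGalois.of_card_aut_eq_finrank
  apply le_antisymm
  · rw [Nat.card_eq_fintype_card]
    exact AlgEquiv.card_le
  · rw [← card_emb Z z,
      Nat.card_congr (algEquivEquivAlgHom (X.residueField (Z.hom.base z))
        (Z.left.residueField z)).toEquiv]
    choose Φ hΦ using exists_algHom Z z hZ
    refine Nat.card_le_card_of_injective Φ ?_
    intro τ τ' h
    ext y
    rw [← hΦ τ y, ← hΦ τ' y, h]

end glue

section final

variable {X : Scheme.{u}}

attribute [local instance] resAlg

/-- **Galois covers of order prime to the characteristic are tame.** -/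
theorem main_galois (k : Type u) [Field k] (Z : FEt.Cat X) (hZ : PiSp.IsGaloisCover Z)
    (hn : (Nat.card (Aut Z) : k) ≠ 0) (z : Z.left)
    (A : ValuationSubring (X.residueField (Z.hom.base z))) [IsDiscreteValuationRing A]
    (a : Spec (CommRingCat.of A) ⟶ Spec (CommRingCat.of k)) :
    EtRam.IsTamelyRamified A ((Z.hom.residueFieldMap z).hom.comp A.subtype) := by
  haveI : Finite (Aut Z) := Nat.finite_of_card_ne_zero (fun h => hn (by rw [h]; simp))
  haveI := finite_resAlg Z z
  haveI := isGalois_resAlg Z z hZ
  letI algAL : Algebra A (Z.left.residueField z) :=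
    ((Z.hom.residueFieldMap z).hom.comp A.subtype).toAlgebra
  haveI : IsScalarTower A (X.residueField (Z.hom.base z)) (Z.left.residueField z) :=
    IsScalarTower.of_algebraMap_eq (fun _ => rfl)
  have hcard : ∀ p : ℕ, p.Prime → CharP (ResidueField A) p →
      ¬ p ∣ Module.finrank (X.residueField (Z.hom.base z)) (Z.left.residueField z) := by
    intro p hp hchar hdvd
    let f : k →+* ResidueField A := (residue A).comp (Spec.preimage a).hom
    have hk : CharP k p := (RingHom.charP_iff f f.injective p).mpr hchar
    have h1 : p ∣ Nat.card (Aut Z) := hdvd.trans (finrank_dvd_card_aut Z z hZ)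
    exact hn ((CharP.cast_eq_zero_iff k p _).mpr h1)
  exact tame_of_isGalois A (X.residueField (Z.hom.base z)) (Z.left.residueField z) hcard

end final

end Groth.Agent.Lib.LeadGalTame
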