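import Mathlib
import Groth.Agent.Lib.Helper10KaehlerField
import Groth.Agent.Lib.LeadFlatSm
import Groth.Agent.Lib.Helper3SmDim
import Groth.Agent.Lib.Helper4DimFormulaU

/-!
# Generic smoothness in characteristic zero (lead)

Namespace `Groth.Agent.Lib.LeadGenSm`.

* `formallySmooth_of_isField_of_charZero`: an essentially finite type map from a characteristic zero
  field to a field is formally smooth.
* `rank_kaehler_eq`: `Ω` of a localisation of a standard smooth algebra of relative dimension `m`
  over a localisation of the base has rank `m`.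
* `rank_kaehler_stalk_eq`: scheme version for stalks on a standard smooth chart.
* `smoothOfRelativeDimension_ι_comp`: a standard smooth chart gives smoothness of relative dimension
  on the open.
* `main_S14417`: generic smoothness on the source.
-/

set_option autoImplicit false
set_option maxHeartbeats 400000
set_option linter.style.haveILetI false
set_option linter.unusedSectionVars false
set_option linter.unusedVariables false

universe u

open CategoryTheory CategoryTheory.Limits AlgebraicGeometry TopologicalSpace Opposite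
open TensorProduct KaehlerDifferential

namespace Groth.Agent.Lib.LeadGenSm

section ring

theorem formallySmooth_of_isField_of_charZero {K L : Type u} [CommRing K] [Field L]
    (hK : IsField K) [CharZero K] (φ : K →+* L) (hφ : φ.EssFiniteType) : φ.FormallySmooth := by
  letI : Field K := hK.toField
  letI := φ.toAlgebra
  haveI : Algebra.EssFiniteType K L := hφ
  exact (Algebra.FormallySmooth.of_perfectField : Algebra.FormallySmooth K L)

theorem rank_kaehler_eq_trdeg_of_isField {K L : Type u} [CommRing K] [Field L]
    (hK : IsField K) [CharZero K] (φ : K →+* L) (hφ : φ.EssFiniteType) :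
    letI := φ.toAlgebra
    Module.rank L Ω[L⁄K] = Algebra.trdeg K L := by
  letI : Field K := hK.toField
  letI := φ.toAlgebra
  haveI : Algebra.EssFiniteType K L := hφ
  exact Groth.Agent.Lib.Helper10.KaehlerField.rank_kaehlerDifferential_eq_trdeg K L

/-- `Ω` of a localisation `L` of a standard smooth `R`-algebra `S` of relative dimension `m`, over a
localisation `K` of `R`, is of rank `m`. -/
theorem rank_kaehler_eq (m : ℕ) (R S K L : Type u) [CommRing R] [CommRing S] [CommRing K]
    [CommRing L] [Nontrivial L]
    [Algebra R S] [Algebra R K] [Algebra S L] [Algebra K L] [Algebra R L]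
    [IsScalarTower R S L] [IsScalarTower R K L]
    [Algebra.IsStandardSmoothOfRelativeDimension m R S]
    [Algebra.FormallyEtale S L] [Algebra.FormallyUnramified R K] :
    Module.rank L Ω[L⁄K] = m := by
  haveI : Nontrivial S := (algebraMap S L).domain_nontrivial
  have e1 := KaehlerDifferential.tensorKaehlerEquivOfFormallyEtale R S L
  have hsurj : Function.Surjective (KaehlerDifferential.map R K L L) :=
    KaehlerDifferential.map_surjective R K L
  have hzero : ∀ y : L ⊗[K] Ω[K⁄R], y = 0 := by
    intro y
    induction y using TensorProduct.induction_on with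
    | zero => rfl
    | tmul a b => rw [Subsingleton.elim b 0, TensorProduct.tmul_zero]
    | add x y hx hy => rw [hx, hy, add_zero]
  have hinj : Function.Injective (KaehlerDifferential.map R K L L) := by
    rw [injective_iff_map_eq_zero]
    intro x hx
    obtain ⟨y, rfl⟩ := (KaehlerDifferential.exact_mapBaseChange_map R K L x).mp hx
    rw [hzero y, map_zero]
  have e2 := LinearEquiv.ofBijective (KaehlerDifferential.map R K L L) ⟨hinj, hsurj⟩
  haveI : Algebra.IsStandardSmooth R S :=
    Algebra.IsStandardSmoothOfRelativeDimension.isStandardSmooth m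
  rw [← e2.rank_eq, ← e1.rank_eq, Module.rank_baseChange,
    Algebra.IsStandardSmoothOfRelativeDimension.rank_kaehlerDifferential m]
  simp

end ring

section scheme

variable {X Y : Scheme.{u}}

/-- on a standard smooth chart of relative dimension `m`, the differentials of the stalks have rank
`m`. -/
theorem rank_kaehler_stalk_eq (π : X ⟶ Y) (x : X) {U : Y.Opens} (hU : IsAffineOpen U)
    {V : X.Opens} (hV : IsAffineOpen V) (e : V ≤ π ⁻¹ᵁ U) (hx : x ∈ V) (m : ℕ)
    (hm : RingHom.IsStandardSmoothOfRelativeDimension m (π.appLE U V e).hom) :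
    letI := (π.stalkMap x).hom.toAlgebra
    Module.rank (X.presheaf.stalk x) Ω[X.presheaf.stalk x⁄Y.presheaf.stalk (π.base x)] = m := by
  letI algRS : Algebra Γ(Y, U) Γ(X, V) := (π.appLE U V e).hom.toAlgebra
  letI algSL : Algebra Γ(X, V) (X.presheaf.stalk x) :=
    TopCat.Presheaf.algebra_section_stalk X.presheaf ⟨x, hx⟩
  letI algRK : Algebra Γ(Y, U) (Y.presheaf.stalk (π.base x)) :=
    TopCat.Presheaf.algebra_section_stalk Y.presheaf ⟨π.base x, e hx⟩
  letI algKL : Algebra (Y.presheaf.stalk (π.base x)) (X.presheaf.stalk x) :=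
    (π.stalkMap x).hom.toAlgebra
  letI algRL : Algebra Γ(Y, U) (X.presheaf.stalk x) :=
    ((algebraMap Γ(X, V) (X.presheaf.stalk x)).comp (algebraMap Γ(Y, U) Γ(X, V))).toAlgebra
  haveI : IsScalarTower Γ(Y, U) Γ(X, V) (X.presheaf.stalk x) :=
    IsScalarTower.of_algebraMap_eq' rfl
  haveI : IsScalarTower Γ(Y, U) (Y.presheaf.stalk (π.base x)) (X.presheaf.stalk x) :=
    IsScalarTower.of_algebraMap_eq fun a =>
      (Groth.Agent.Lib.Helper4.DimFormula.stalkMap_germ_eq_germ_appLE π e x hx a).symm
  haveI : Algebra.IsStandardSmoothOfRelativeDimension m Γ(Y, U) Γ(X, V) := hm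
  haveI hlocS : IsLocalization.AtPrime (X.presheaf.stalk x) (hV.primeIdealOf ⟨x, hx⟩).asIdeal :=
    hV.isLocalization_stalk ⟨x, hx⟩
  haveI : Algebra.FormallyEtale Γ(X, V) (X.presheaf.stalk x) :=
    Algebra.FormallyEtale.of_isLocalization (hV.primeIdealOf ⟨x, hx⟩).asIdeal.primeCompl
  haveI hlocR : IsLocalization.AtPrime (Y.presheaf.stalk (π.base x))
      (hU.primeIdealOf ⟨π.base x, e hx⟩).asIdeal := hU.isLocalization_stalk ⟨π.base x, e hx⟩
  haveI : Algebra.FormallyEtale Γ(Y, U) (Y.presheaf.stalk (π.base x)) :=
    Algebra.FormallyEtale.of_isLocalization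
      (hU.primeIdealOf ⟨π.base x, e hx⟩).asIdeal.primeCompl
  exact rank_kaehler_eq m Γ(Y, U) Γ(X, V) (Y.presheaf.stalk (π.base x)) (X.presheaf.stalk x)

/-- a standard smooth chart of relative dimension `m` makes the restriction to the chart smooth of
relative dimension `m`. -/
theorem smoothOfRelativeDimension_ι_comp (f : X ⟶ Y) {U : Y.Opens} (hU : IsAffineOpen U)
    {V : X.Opens} (hV : IsAffineOpen V) (e : V ≤ f ⁻¹ᵁ U) (m : ℕ)
    (h : RingHom.IsStandardSmoothOfRelativeDimension m (f.appLE U V e).hom) :
    SmoothOfRelativeDimension m (V.ι ≫ f) := by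
  have : IsAffine U.toScheme := hU
  have : IsAffine V.toScheme := hV
  have h1 : SmoothOfRelativeDimension m (f.resLE U V e) := by
    rw [HasRingHomProperty.iff_of_isAffine (P := @SmoothOfRelativeDimension m)]
    exact ((RingHom.locally_respectsIso
      RingHom.isStandardSmoothOfRelativeDimension_respectsIso).arrow_mk_iso_iff
        (arrowResLEAppIso f U V e)).mpr
      (RingHom.locally_of RingHom.isStandardSmoothOfRelativeDimension_respectsIso _ h)
  rw [← Scheme.Hom.resLE_comp_ι f e]
  exact inferInstanceAs (SmoothOfRelativeDimension (m + 0) (f.resLE U V e ≫ U.ι))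

theorem main_S14417
    (X Y : Scheme.{u}) [IsIntegral X] [IsIntegral Y] [IsNoetherian X] [IsNoetherian Y]
    (π : X ⟶ Y) [LocallyOfFiniteType π] [QuasiCompact π]
    (hdom : π.base (genericPoint X) = genericPoint Y) [CharZero Y.functionField]
    (n : ℕ) (hn : @Algebra.trdeg (Y.presheaf.stalk (π.base (genericPoint X))) X.functionField _ _
      (π.stalkMap (genericPoint X)).hom.toAlgebra = n) :
    ∃ U : X.Opens, (U : Set X).Nonempty ∧ SmoothOfRelativeDimension n (U.ι ≫ π) := by
  haveI : LocallyOfFinitePresentation π := inferInstance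
  have hK : IsField (Y.presheaf.stalk (π.base (genericPoint X))) := by
    apply isField_stalk_of_closure_mem_irreducibleComponents
    rw [hdom, (genericPoint_spec Y : closure {genericPoint Y} = Set.univ)]
    simp [irreducibleComponents_eq_singleton]
  haveI hchar : CharZero (Y.presheaf.stalk (π.base (genericPoint X))) := by
    have key : ∀ y : Y, y = genericPoint Y → CharZero (Y.presheaf.stalk y) := by
      rintro _ rfl; infer_instance
    exact key _ hdom
  have hess := LocallyOfFiniteType.stalkMap π (genericPoint X)
  have H : (π.stalkMap (genericPoint X)).hom.FormallySmooth :=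
    formallySmooth_of_isField_of_charZero hK _ hess
  obtain ⟨U, hU, V, hV, hVU, hξV, hsm⟩ := exists_smooth_of_formallySmooth_stalk π _ H
  obtain ⟨r, hξr, hstd⟩ :=
    Groth.Agent.Lib.LeadFlatSm.exists_basicOpen_isStandardSmooth' π hV hVU hsm _ hξV
  obtain ⟨m, hm⟩ := Groth.Agent.Lib.Helper3.SmDim.exists_relDim_of_isStandardSmooth _ hstd
  have h1 := rank_kaehler_stalk_eq π (genericPoint X) hU (hV.basicOpen r) _ hξr m hm
  have h2 := rank_kaehler_eq_trdeg_of_isField hK (π.stalkMap (genericPoint X)).hom hess
  have hmn : (m : Cardinal) = n := h1.symm.trans (h2.trans hn)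
  have hmn' : m = n := Nat.cast_injective hmn
  subst hmn'
  exact ⟨X.basicOpen r, ⟨_, hξr⟩, smoothOfRelativeDimension_ι_comp π hU (hV.basicOpen r) _ m hm⟩

end scheme

end Groth.Agent.Lib.LeadGenSm
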