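import Mathlib
import Groth.Agent.Lib.LeadGenSm
import Groth.Agent.Lib.LeadCotSmSch
import Groth.Agent.Lib.Helper6SmRegSch3
import Groth.Agent.Lib.T2H3StalkSmooth

/-!
# Dominance via the differential at a regular point, characteristic zero (lead)

Namespace `Groth.Agent.Lib.LeadGenSm2`.
-/

set_option autoImplicit false
set_option maxHeartbeats 400000
set_option linter.style.haveILetI false
set_option linter.unusedSectionVars false
set_option linter.unusedVariables false

universe u

open CategoryTheory CategoryTheory.Limits AlgebraicGeometry TopologicalSpace Opposite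
open TensorProduct IsLocalRing KaehlerDifferential
open Groth.Agent.Lib.LeadCotSm Groth.Agent.Lib.LeadCotSmSch

namespace Groth.Agent.Lib.LeadGenSm2

section ring

/-- version of `LeadGenSm.formallySmooth_of_isField_of_charZero` with both rings given by `IsField`. -/
theorem formallySmooth_of_isField_of_charZero' {K L : Type u} [CommRing K] [CommRing L]
    (hK : IsField K) (hL : IsField L) [CharZero K] (φ : K →+* L) (hφ : φ.EssFiniteType) :
    φ.FormallySmooth := by
  letI : Field L := hL.toField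
  exact Groth.Agent.Lib.LeadGenSm.formallySmooth_of_isField_of_charZero hK φ hφ

end ring

section pointwise

variable (k : Type u) [Field k] {X Y : Scheme.{u}}

/-- smoothness over `k` at a point, on an affine chart with its `k`-algebra structure. -/
theorem isSmoothAt_algK (q : X ⟶ Spec (CommRingCat.of k)) [LocallyOfFinitePresentation q]
    {U : X.Opens} (hU : IsAffineOpen U) (x : X) (hxU : x ∈ U) (hxs : x ∈ q.smoothLocus) :
    letI := algK k q U
    Algebra.IsSmoothAt k (hU.primeIdealOf ⟨x, hxU⟩).asIdeal := by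
  have h0 : (q.stalkMap x).hom.FormallySmooth := hxs
  rw [formallySmooth_stalkMap_iff ⊤ (isAffineOpen_top _) U hU (fun _ _ => trivial) hxU] at h0
  letI alg0 : Algebra Γ(Spec (CommRingCat.of k), ⊤) Γ(X, U) :=
    (q.appLE ⊤ U (fun _ _ => trivial)).hom.toAlgebra
  have h1 : Algebra.FormallySmooth Γ(Spec (CommRingCat.of k), ⊤)
      (Localization.AtPrime (hU.primeIdealOf ⟨x, hxU⟩).asIdeal) := h0
  letI algk : Algebra k Γ(X, U) := algK k q U
  letI algk0 : Algebra k Γ(Spec (CommRingCat.of k), ⊤) :=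
    ((Scheme.ΓSpecIso (CommRingCat.of k)).inv).hom.toAlgebra
  haveI : IsScalarTower k Γ(Spec (CommRingCat.of k), ⊤) Γ(X, U) :=
    IsScalarTower.of_algebraMap_eq' rfl
  haveI : Algebra.FormallySmooth k Γ(Spec (CommRingCat.of k), ⊤) :=
    Algebra.FormallySmooth.of_equiv (AlgEquiv.ofBijective (Algebra.ofId k _)
      (ConcreteCategory.bijective_of_isIso (Scheme.ΓSpecIso (CommRingCat.of k)).inv))
  haveI : IsScalarTower k Γ(Spec (CommRingCat.of k), ⊤)
      (Localization.AtPrime (hU.primeIdealOf ⟨x, hxU⟩).asIdeal) :=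
    IsScalarTower.of_algebraMap_eq fun c => by
      rw [IsScalarTower.algebraMap_apply k Γ(X, U)
          (Localization.AtPrime (hU.primeIdealOf ⟨x, hxU⟩).asIdeal),
        IsScalarTower.algebraMap_apply Γ(Spec (CommRingCat.of k), ⊤) Γ(X, U)
          (Localization.AtPrime (hU.primeIdealOf ⟨x, hxU⟩).asIdeal),
        IsScalarTower.algebraMap_apply k Γ(Spec (CommRingCat.of k), ⊤) Γ(X, U)]
  exact Algebra.FormallySmooth.comp k Γ(Spec (CommRingCat.of k), ⊤) _

variable [IsAlgClosed k]
  (qX : X ⟶ Spec (CommRingCat.of k)) (qY : Y ⟶ Spec (CommRingCat.of k))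
  [LocallyOfFiniteType qX] [LocallyOfFiniteType qY]
  (f : X ⟶ Y) (hf : f ≫ qY = qX)

include hf in
/-- **pointwise cotangent criterion**: at a closed point where `X` is smooth over `k`, `f` is smooth
iff the map of cotangent spaces is injective. -/
theorem mem_smoothLocus_iff_cotangent [LocallyOfFinitePresentation f] (x : X)
    (hx : IsClosed ({x} : Set X)) (hxs : x ∈ qX.smoothLocus) :
    x ∈ f.smoothLocus ↔
      ∀ r ∈ maximalIdeal (Y.presheaf.stalk (f.base x)),
        (f.stalkMap x).hom r ∈ maximalIdeal (X.presheaf.stalk x) ^ 2 →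
          r ∈ maximalIdeal (Y.presheaf.stalk (f.base x)) ^ 2 := by
  obtain ⟨V, hV, hfxV, -⟩ := exists_isAffineOpen_mem_and_subset (x := f.base x) (U := ⊤) trivial
  obtain ⟨U, hU, hxU, hUV⟩ := exists_isAffineOpen_mem_and_subset (x := x) (U := f ⁻¹ᵁ V) hfxV
  letI algA : Algebra k Γ(Y, V) := algK k qY V
  letI algB : Algebra k Γ(X, U) := algK k qX U
  letI algAB : Algebra Γ(Y, V) Γ(X, U) := (f.appLE V U hUV).hom.toAlgebra
  haveI : IsScalarTower k Γ(Y, V) Γ(X, U) := tower_algK k qX qY f hf hUV
  haveI : Algebra.FiniteType k Γ(Y, V) := finiteType_algK k qY hV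
  haveI : Algebra.FiniteType k Γ(X, U) := finiteType_algK k qX hU
  haveI : Algebra.FinitePresentation k Γ(Y, V) :=
    Algebra.FinitePresentation.of_finiteType.mp inferInstance
  haveI : Algebra.FinitePresentation k Γ(X, U) :=
    Algebra.FinitePresentation.of_finiteType.mp inferInstance
  haveI hqmax : (hU.primeIdealOf ⟨x, hxU⟩).asIdeal.IsMaximal :=
    hU.primeIdealOf_isMaximal_of_isClosed ⟨x, hxU⟩ hx
  have hbij := bijective_algebraMap_residueField (RingEquiv.refl k)
    (hU.primeIdealOf ⟨x, hxU⟩).asIdeal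
  have hB : Algebra.IsSmoothAt k (hU.primeIdealOf ⟨x, hxU⟩).asIdeal :=
    isSmoothAt_algK k qX hU x hxU hxs
  rw [Scheme.Hom.mem_smoothLocus, formallySmooth_stalkMap_iff V hV U hU hUV hxU]
  change Algebra.IsSmoothAt Γ(Y, V) (hU.primeIdealOf ⟨x, hxU⟩).asIdeal ↔ _
  rw [isSmoothAt_iff_cotangent_cond k Γ(Y, V) Γ(X, U) (hU.primeIdealOf ⟨x, hxU⟩).asIdeal hB hbij]
  letI algSt : Algebra Γ(X, U) (X.presheaf.stalk x) :=
    TopCat.Presheaf.algebra_section_stalk X.presheaf ⟨x, hxU⟩
  haveI hlocS : IsLocalization.AtPrime (X.presheaf.stalk x) (hU.primeIdealOf ⟨x, hxU⟩).asIdeal :=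
    hU.isLocalization_stalk ⟨x, hxU⟩
  letI algStY : Algebra Γ(Y, V) (Y.presheaf.stalk (f.base x)) :=
    TopCat.Presheaf.algebra_section_stalk Y.presheaf ⟨f.base x, hUV hxU⟩
  have hp : (hU.primeIdealOf ⟨x, hxU⟩).asIdeal.comap (algebraMap Γ(Y, V) Γ(X, U)) =
      (hV.primeIdealOf ⟨f.base x, hUV hxU⟩).asIdeal :=
    congr($(IsAffineOpen.comap_primeIdealOf_appLE V hV U hU hUV hxU).1)
  haveI hpmax : ((hU.primeIdealOf ⟨x, hxU⟩).asIdeal.comap
      (algebraMap Γ(Y, V) Γ(X, U))).IsMaximal :=
    isMaximal_comap_of_bijective (C := k) (hU.primeIdealOf ⟨x, hxU⟩).asIdeal hbij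
  have key : ∀ (I : Ideal Γ(Y, V)) (hI : I = (hV.primeIdealOf ⟨f.base x, hUV hxU⟩).asIdeal)
      [I.IsPrime], IsLocalization.AtPrime (Y.presheaf.stalk (f.base x)) I := by
    rintro I rfl _
    exact hV.isLocalization_stalk ⟨f.base x, hUV hxU⟩
  haveI hlocR := key _ hp
  exact (cotangent_cond_iff_local (hU.primeIdealOf ⟨x, hxU⟩).asIdeal (X.presheaf.stalk x)
    ((hU.primeIdealOf ⟨x, hxU⟩).asIdeal.comap (algebraMap Γ(Y, V) Γ(X, U)))
    (Y.presheaf.stalk (f.base x)) (f.stalkMap x).hom
    (fun a => Groth.Agent.Lib.Helper4.DimFormula.stalkMap_germ_eq_germ_appLE f hUV x hxU a)).symm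

end pointwise


section main

theorem charZero_stalk (k : Type u) [Field k] [CharZero k] (Y : Scheme.{u})
    [Y.Over (Spec (CommRingCat.of k))] (y : Y) : CharZero (Y.presheaf.stalk y) := by
  letI := Curv2.stalkAlgebra k Y y
  exact charZero_of_injective_algebraMap (algebraMap k (Y.presheaf.stalk y)).injective

/-- a dominant morphism from a Noetherian scheme to an integral scheme maps the generic point of
some irreducible component to the generic point. -/
theorem exists_closure_mem_irreducibleComponents_of_isDominant {X Y : Scheme.{u}}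
    [IsNoetherian X] [IsIntegral Y] (u : X ⟶ Y) [IsDominant u] :
    ∃ ξ : X, closure {ξ} ∈ irreducibleComponents X ∧ u.base ξ = genericPoint Y := by
  have hfin : (irreducibleComponents X).Finite :=
    TopologicalSpace.NoetherianSpace.finite_irreducibleComponents
  have hcov : (⋃₀ irreducibleComponents X) = Set.univ := sUnion_irreducibleComponents
  have hdense : closure (Set.range u.base) = Set.univ := u.denseRange.closure_range
  have h1 : Set.range u.base = ⋃ Z ∈ irreducibleComponents X, u.base '' Z := by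
    rw [← Set.image_univ, ← hcov, Set.sUnion_eq_biUnion, Set.image_iUnion₂]
  rw [h1, hfin.closure_biUnion] at hdense
  have hη : genericPoint Y ∈ ⋃ Z ∈ irreducibleComponents X, closure (u.base '' Z) := by
    rw [hdense]; trivial
  simp only [Set.mem_iUnion] at hη
  obtain ⟨Z, hZ, hηZ⟩ := hη
  have hZirr : IsIrreducible Z := hZ.1
  have hZcl : IsClosed Z := isClosed_of_mem_irreducibleComponents Z hZ
  obtain ⟨ξ, hξ⟩ := QuasiSober.sober hZirr hZcl
  refine ⟨ξ, by rw [hξ.def]; exact hZ, ?_⟩
  have h2 : closure (u.base '' Z) = closure {u.base ξ} := by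
    rw [← hξ.def, closure_image_closure u.continuous, Set.image_singleton]
  rw [h2] at hηZ
  have h3 : IsGenericPoint (u.base ξ) (Set.univ : Set Y) := by
    apply Set.eq_univ_of_univ_subset
    rw [← (genericPoint_spec Y : closure {genericPoint Y} = Set.univ)]
    exact (isClosed_closure.closure_subset_iff).mpr (Set.singleton_subset_iff.mpr hηZ)
  exact h3.eq (genericPoint_spec Y)

theorem main_S17413 (k : Type u) [Field k]
    [IsAlgClosed k] [CharZero k] (X Y : Scheme.{u})
    [X.Over (Spec (CommRingCat.of k))] [Y.Over (Spec (CommRingCat.of k))]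
    [LocallyOfFiniteType (X ↘ Spec (CommRingCat.of k))] [QuasiCompact (X ↘ Spec (CommRingCat.of k))]
    [LocallyOfFiniteType (Y ↘ Spec (CommRingCat.of k))] [QuasiCompact (Y ↘ Spec (CommRingCat.of k))]
    [AlgebraicGeometry.IsReduced X] [AlgebraicGeometry.IsIntegral Y] (u : X ⟶ Y)
    [u.IsOver (Spec (CommRingCat.of k))] :
    IsDominant u ↔
      ∃ P : X, IsClosed ({P} : Set X) ∧ IsRegularLocalRing (X.presheaf.stalk P) ∧
        ∀ a ∈ IsLocalRing.maximalIdeal (Y.presheaf.stalk (u P)),
          (u.stalkMap P).hom a ∈ IsLocalRing.maximalIdeal (X.presheaf.stalk P) ^ 2 →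
            a ∈ IsLocalRing.maximalIdeal (Y.presheaf.stalk (u P)) ^ 2 := by
  have hf : u ≫ (Y ↘ Spec (CommRingCat.of k)) = X ↘ Spec (CommRingCat.of k) := comp_over u _
  haveI : CompactSpace X :=
    QuasiCompact.compactSpace_of_compactSpace (X ↘ Spec (CommRingCat.of k))
  haveI : IsLocallyNoetherian X :=
    LocallyOfFiniteType.isLocallyNoetherian (X ↘ Spec (CommRingCat.of k))
  haveI : IsNoetherian X := { toIsLocallyNoetherian := inferInstance, toCompactSpace := inferInstance }
  haveI : IsLocallyNoetherian Y :=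
    LocallyOfFiniteType.isLocallyNoetherian (Y ↘ Spec (CommRingCat.of k))
  haveI : LocallyOfFiniteType (u ≫ (Y ↘ Spec (CommRingCat.of k))) := by rw [hf]; infer_instance
  haveI : LocallyOfFiniteType u := locallyOfFiniteType_of_comp u (Y ↘ Spec (CommRingCat.of k))
  haveI : LocallyOfFinitePresentation u := inferInstance
  haveI : LocallyOfFinitePresentation (X ↘ Spec (CommRingCat.of k)) := inferInstance
  haveI : JacobsonSpace X := LocallyOfFiniteType.jacobsonSpace (X ↘ Spec (CommRingCat.of k))
  constructor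
  · intro hdomi
    obtain ⟨ξ, hξ, hξη⟩ := exists_closure_mem_irreducibleComponents_of_isDominant u
    have hK : IsField (Y.presheaf.stalk (u.base ξ)) := by
      apply isField_stalk_of_closure_mem_irreducibleComponents
      rw [hξη, (genericPoint_spec Y : closure {genericPoint Y} = Set.univ)]
      simp [irreducibleComponents_eq_singleton]
    have hL : IsField (X.presheaf.stalk ξ) :=
      isField_stalk_of_closure_mem_irreducibleComponents X ξ hξ
    haveI : CharZero (Y.presheaf.stalk (u.base ξ)) := charZero_stalk k Y _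
    have h1 : ξ ∈ u.smoothLocus :=
      formallySmooth_of_isField_of_charZero' hK hL _ (LocallyOfFiniteType.stalkMap u ξ)
    have h2 : ξ ∈ (X ↘ Spec (CommRingCat.of k)).smoothLocus := by
      refine (Groth.Agent.Lib.T2H3.StalkSmooth.mem_smoothLocus_iff_formallySmooth_stalk
        k X ξ).mpr ?_
      letI := Curv2.stalkAlgebra k X ξ
      letI : Field (X.presheaf.stalk ξ) := hL.toField
      haveI : Algebra.EssFiniteType k (X.presheaf.stalk ξ) :=
        Groth.Agent.Lib.T2H3.StalkSmooth.essFiniteType_stalk k X ξ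
      exact Algebra.FormallySmooth.of_perfectField
    obtain ⟨P, hPW, hPc⟩ := nonempty_inter_closedPoints
      (⟨ξ, ⟨h1, h2⟩⟩ : ((u.smoothLocus ⊓ (X ↘ Spec (CommRingCat.of k)).smoothLocus : X.Opens) :
        Set X).Nonempty)
      (u.smoothLocus ⊓ (X ↘ Spec (CommRingCat.of k)).smoothLocus).isOpen.isLocallyClosed
    refine ⟨P, hPc, ?_, ?_⟩
    · exact (Groth.Agent.Lib.Helper6.SmRegSch3.mem_smoothLocus_iff_isRegularLocalRing
        k X _ P).mp hPW.2
    · exact (mem_smoothLocus_iff_cotangent k _ _ u hf P hPc hPW.2).mp hPW.1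
  · rintro ⟨P, hPc, hreg, hcot⟩
    have h2 : P ∈ (X ↘ Spec (CommRingCat.of k)).smoothLocus :=
      (Groth.Agent.Lib.Helper6.SmRegSch3.mem_smoothLocus_iff_isRegularLocalRing
        k X _ P).mpr hreg
    have h1 : P ∈ u.smoothLocus := (mem_smoothLocus_iff_cotangent k _ _ u hf P hPc h2).mpr hcot
    haveI : Smooth (u.smoothLocus.ι ≫ u) := by
      rw [← Scheme.Hom.smoothLocus_eq_top_iff, ← Scheme.Hom.preimage_smoothLocus_eq,
        Scheme.Opens.ι_preimage_self]
    have hopen : IsOpen (Set.range (u.smoothLocus.ι ≫ u)) :=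
      (u.smoothLocus.ι ≫ u).isOpenMap.isOpen_range
    have hne : (Set.range (u.smoothLocus.ι ≫ u)).Nonempty := ⟨_, ⟨⟨P, h1⟩, rfl⟩⟩
    have hdense : Dense (Set.range (u.smoothLocus.ι ≫ u)) := hopen.dense hne
    refine ⟨hdense.mono ?_⟩
    rintro _ ⟨x, rfl⟩
    exact ⟨u.smoothLocus.ι x, rfl⟩

end main


end Groth.Agent.Lib.LeadGenSm2
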