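import Mathlib

/-!
# Geometrically irreducible polynomials

* irreducibility of a polynomial over an algebraically closed field is preserved by every field
  extension (specialisation via the Nullstellensatz);
* irreducibility descends along field extensions;
* `K ⊗ k[T]/(F)` is a domain iff `F` is irreducible over `K`;
* `Spec k[T]/(F)` is geometrically integral iff `F` is irreducible over every extension field.
-/

set_option autoImplicit false
universe u
open TensorProduct MvPolynomial

namespace Groth.Agent.LeadGeomIrr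

section units
variable {σ : Type*} {K : Type*} [Field K]

theorem isUnit_iff_forall_coeff (P : MvPolynomial σ K) :
    IsUnit P ↔ P ≠ 0 ∧ ∀ m : σ →₀ ℕ, m ≠ 0 → coeff m P = 0 := by
  classical
  rw [isUnit_iff_eq_C_of_isReduced]
  constructor
  · rintro ⟨r, hr, rfl⟩
    refine ⟨?_, ?_⟩
    · intro h
      exact hr.ne_zero ((map_eq_zero_iff C (C_injective σ K)).1 h)
    · intro m hm
      rw [coeff_C, if_neg (Ne.symm hm)]
  · rintro ⟨h0, h⟩
    have hP : P = C (coeff 0 P) := by
      ext m
      by_cases hm : m = 0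
      · subst hm; simp
      · rw [h m hm, coeff_C, if_neg (Ne.symm hm)]
    refine ⟨coeff 0 P, ?_, hP⟩
    rw [isUnit_iff_ne_zero]
    intro hc
    apply h0
    rw [hP, hc, map_zero]

theorem isUnit_map_iff {L : Type*} [Field L] (ι : K →+* L) (P : MvPolynomial σ K) :
    IsUnit (map ι P) ↔ IsUnit P := by
  rw [isUnit_iff_forall_coeff, isUnit_iff_forall_coeff]
  have hinj : Function.Injective ι := ι.injective
  constructor
  · rintro ⟨h0, h⟩
    refine ⟨fun hP => h0 (by rw [hP, map_zero]), fun m hm => ?_⟩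
    have := h m hm
    rw [coeff_map] at this
    exact (map_eq_zero_iff ι hinj).1 this
  · rintro ⟨h0, h⟩
    refine ⟨fun hP => h0 (map_injective ι hinj (by rw [hP, map_zero])), fun m hm => ?_⟩
    rw [coeff_map, h m hm, map_zero]

/-- Irreducibility descends along a field extension. -/
theorem irreducible_of_irreducible_map {L : Type*} [Field L] (ι : K →+* L)
    (P : MvPolynomial σ K) (h : Irreducible (map ι P)) : Irreducible P := by
  rw [irreducible_iff] at h ⊢
  refine ⟨fun hu => h.1 ((isUnit_map_iff ι P).2 hu), fun a b hab => ?_⟩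
  have := @h.2 (map ι a) (map ι b) (by rw [hab, map_mul])
  rcases this with h1 | h1
  · exact Or.inl ((isUnit_map_iff ι a).1 h1)
  · exact Or.inr ((isUnit_map_iff ι b).1 h1)

end units

/-- A nonzero element of a finitely generated domain over an algebraically closed field is
nonzero at some rational point. -/
theorem exists_algHom_ne_zero {Ω S : Type*} [Field Ω] [IsAlgClosed Ω] [CommRing S] [IsDomain S]
    [Algebra Ω S] [Algebra.FiniteType Ω S] (s : S) (hs : s ≠ 0) :
    ∃ φ : S →ₐ[Ω] Ω, φ s ≠ 0 := by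
  have hJ : IsJacobsonRing S := isJacobsonRing_of_finiteType (A := Ω) (B := S)
  have hjac : (⊥ : Ideal S).jacobson = ⊥ := hJ.out (Ideal.isPrime_bot.isRadical)
  have hex : ∃ m : Ideal S, m.IsMaximal ∧ s ∉ m := by
    by_contra hcon
    apply hs
    have hmem : s ∈ (⊥ : Ideal S).jacobson := by
      rw [Ideal.jacobson, Ideal.mem_sInf]
      rintro J ⟨-, hJmax⟩
      by_contra hsJ
      exact hcon ⟨J, hJmax, hsJ⟩
    rw [hjac] at hmem
    exact (Submodule.mem_bot S).1 hmem
  obtain ⟨m, hm, hsm⟩ := hex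
  letI : Field (S ⧸ m) := Ideal.Quotient.field m
  haveI : Algebra.FiniteType Ω (S ⧸ m) :=
    Algebra.FiniteType.of_surjective (Ideal.Quotient.mkₐ Ω m) (Ideal.Quotient.mkₐ_surjective Ω m)
  haveI : Module.Finite Ω (S ⧸ m) := finite_of_finite_type_of_isJacobsonRing Ω (S ⧸ m)
  haveI : Algebra.IsIntegral Ω (S ⧸ m) := Algebra.IsIntegral.of_finite Ω (S ⧸ m)
  have hbij : Function.Bijective (algebraMap Ω (S ⧸ m)) :=
    IsAlgClosed.algebraMap_bijective_of_isIntegral
  let e : Ω ≃ₐ[Ω] (S ⧸ m) := AlgEquiv.ofBijective (Algebra.ofId Ω (S ⧸ m)) hbij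
  refine ⟨(e.symm : (S ⧸ m) →ₐ[Ω] Ω).comp (Ideal.Quotient.mkₐ Ω m), ?_⟩
  intro h0
  apply hsm
  rw [← Ideal.Quotient.eq_zero_iff_mem]
  have h1 : e.symm (Ideal.Quotient.mk m s) = 0 := h0
  exact (map_eq_zero_iff e.symm e.symm.injective).1 h1

/-- A polynomial which is irreducible over an algebraically closed field stays irreducible over
every extension field. -/
theorem irreducible_map_of_isAlgClosed {Ω L : Type*} [Field Ω] [IsAlgClosed Ω] [Field L]
    [Algebra Ω L] {σ : Type*} (G : MvPolynomial σ Ω) (hG : Irreducible G) :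
    Irreducible (map (algebraMap Ω L) G) := by
  classical
  have hinj : Function.Injective (algebraMap Ω L) := (algebraMap Ω L).injective
  rw [irreducible_iff]
  refine ⟨fun hu => hG.not_isUnit ((isUnit_map_iff (algebraMap Ω L) G).1 hu), ?_⟩
  intro A B hAB
  by_contra hcon
  rw [not_or] at hcon
  obtain ⟨hA, hB⟩ := hcon
  have hG0 : map (algebraMap Ω L) G ≠ 0 := fun h =>
    hG.ne_zero (map_injective _ hinj (by rw [h, map_zero]))
  have hA0 : A ≠ 0 := by
    rintro rfl
    exact hG0 (by rw [hAB, zero_mul])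
  have hB0 : B ≠ 0 := by
    rintro rfl
    exact hG0 (by rw [hAB, mul_zero])
  obtain ⟨mA, hmA, hcA⟩ : ∃ m : σ →₀ ℕ, m ≠ 0 ∧ coeff m A ≠ 0 := by
    by_contra h
    exact hA ((isUnit_iff_forall_coeff A).2
      ⟨hA0, fun m hm => by_contra fun hc => h ⟨m, hm, hc⟩⟩)
  obtain ⟨mB, hmB, hcB⟩ : ∃ m : σ →₀ ℕ, m ≠ 0 ∧ coeff m B ≠ 0 := by
    by_contra h
    exact hB ((isUnit_iff_forall_coeff B).2
      ⟨hB0, fun m hm => by_contra fun hc => h ⟨m, hm, hc⟩⟩)
  -- the subalgebra generated by the coefficients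
  obtain ⟨S, hS⟩ : ∃ S : Subalgebra Ω L,
      S = Algebra.adjoin Ω ((A.coeffs ∪ B.coeffs : Finset L) : Set L) := ⟨_, rfl⟩
  haveI : Algebra.FiniteType Ω S := by
    rw [hS]
    exact (Subalgebra.fg_iff_finiteType _).1 (Subalgebra.fg_adjoin_finset _)
  have hAS : ∀ c ∈ A.coeffs, c ∈ S := fun c hc => by
    rw [hS]
    exact Algebra.subset_adjoin (Finset.mem_coe.2 (Finset.mem_union_left _ hc))
  have hBS : ∀ c ∈ B.coeffs, c ∈ S := fun c hc => by
    rw [hS]
    exact Algebra.subset_adjoin (Finset.mem_coe.2 (Finset.mem_union_right _ hc))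
  obtain ⟨A', hA'⟩ : A ∈ Set.range (map (algebraMap S L)) := by
    rw [mem_range_map_iff_coeffs_subset]
    intro c hc
    exact ⟨⟨c, hAS c (Finset.mem_coe.1 hc)⟩, rfl⟩
  obtain ⟨B', hB'⟩ : B ∈ Set.range (map (algebraMap S L)) := by
    rw [mem_range_map_iff_coeffs_subset]
    intro c hc
    exact ⟨⟨c, hBS c (Finset.mem_coe.1 hc)⟩, rfl⟩
  have hinjS : Function.Injective (algebraMap S L) := Subtype.val_injective
  have hGS : map (algebraMap Ω S) G = A' * B' := by
    apply map_injective (algebraMap S L) hinjS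
    rw [MvPolynomial.map_map, ← IsScalarTower.algebraMap_eq Ω S L, map_mul, hA', hB', hAB]
  have hcA' : coeff mA A' ≠ 0 := fun h => hcA (by rw [← hA', coeff_map, h, map_zero])
  have hcB' : coeff mB B' ≠ 0 := fun h => hcB (by rw [← hB', coeff_map, h, map_zero])
  obtain ⟨φ, hφ⟩ := exists_algHom_ne_zero (Ω := Ω) (coeff mA A' * coeff mB B')
    (mul_ne_zero hcA' hcB')
  have hG' : G = map (φ : S →+* Ω) A' * map (φ : S →+* Ω) B' := by
    rw [← map_mul, ← hGS, MvPolynomial.map_map]
    have hid : (φ : S →+* Ω).comp (algebraMap Ω S) = RingHom.id Ω := by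
      ext x
      simp
    rw [hid, MvPolynomial.map_id]
  rcases hG.isUnit_or_isUnit hG' with hu | hu
  · have h1 := ((isUnit_iff_forall_coeff _).1 hu).2 mA hmA
    rw [coeff_map] at h1
    apply hφ
    have h2 : φ (coeff mA A') = 0 := h1
    rw [map_mul, h2, zero_mul]
  · have h1 := ((isUnit_iff_forall_coeff _).1 hu).2 mB hmB
    rw [coeff_map] at h1
    apply hφ
    have h2 : φ (coeff mB B') = 0 := h1
    rw [map_mul, h2, mul_zero]

/-- If `F` is irreducible over an algebraically closed extension `Ω` of `k`, it is irreducible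
over every extension field `K` of `k`. -/
theorem irreducible_map_of_irreducible_map_isAlgClosed {k Ω K : Type u} [Field k] [Field Ω]
    [Algebra k Ω] [IsAlgClosed Ω] [Field K] [Algebra k K] {σ : Type*} (F : MvPolynomial σ k)
    (h : Irreducible (map (algebraMap k Ω) F)) : Irreducible (map (algebraMap k K) F) := by
  obtain ⟨m, hm⟩ := Ideal.exists_maximal (Ω ⊗[k] K)
  letI : Field ((Ω ⊗[k] K) ⧸ m) := Ideal.Quotient.field m
  let iΩ : Ω →+* (Ω ⊗[k] K) ⧸ m := (Ideal.Quotient.mk m).comp
    (Algebra.TensorProduct.includeLeft (R := k) (S := k) (A := Ω) (B := K)).toRingHom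
  let iK : K →+* (Ω ⊗[k] K) ⧸ m := (Ideal.Quotient.mk m).comp
    (Algebra.TensorProduct.includeRight (R := k) (A := Ω) (B := K)).toRingHom
  have hcomp : iΩ.comp (algebraMap k Ω) = iK.comp (algebraMap k K) := by
    ext c
    simp only [iΩ, iK, RingHom.comp_apply, AlgHom.toRingHom_eq_coe, RingHom.coe_coe,
      AlgHom.commutes]
  letI : Algebra Ω ((Ω ⊗[k] K) ⧸ m) := iΩ.toAlgebra
  have h1 : Irreducible (map (algebraMap Ω ((Ω ⊗[k] K) ⧸ m)) (map (algebraMap k Ω) F)) :=
    irreducible_map_of_isAlgClosed _ h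
  have h2 : map (algebraMap Ω ((Ω ⊗[k] K) ⧸ m)) (map (algebraMap k Ω) F) =
      map iK (map (algebraMap k K) F) := by
    rw [MvPolynomial.map_map, MvPolynomial.map_map]
    show map (iΩ.comp (algebraMap k Ω)) F = _
    rw [hcomp]
  rw [h2] at h1
  exact irreducible_of_irreducible_map iK _ h1

section domain
variable {k K : Type u} [Field k] [Field K] [Algebra k K] {σ : Type*}

/-- `k[T]/(F) ⊗ K ≃ K[T]/(F)`. -/
noncomputable def quotTensorEquiv (F : MvPolynomial σ k) :
    ((MvPolynomial σ k ⧸ Ideal.span ({F} : Set (MvPolynomial σ k))) ⊗[k] K) ≃+*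
      (MvPolynomial σ K ⧸ Ideal.span ({map (algebraMap k K) F} : Set (MvPolynomial σ K))) :=
  ((Algebra.TensorProduct.comm k
      (MvPolynomial σ k ⧸ Ideal.span ({F} : Set (MvPolynomial σ k))) K).toRingEquiv.trans
    (Algebra.TensorProduct.tensorQuotientEquiv (R := k) k (MvPolynomial σ k) K
      (Ideal.span ({F} : Set (MvPolynomial σ k)))).toRingEquiv).trans
    (Ideal.quotientEquiv _ _ (algebraTensorAlgEquiv k K).toRingEquiv (by
      rw [Ideal.map_span, Ideal.map_span, Set.image_singleton, Set.image_singleton]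
      congr 2
      simp))

theorem isDomain_tensor_iff (F : MvPolynomial σ k) (hF : F ≠ 0) :
    IsDomain ((MvPolynomial σ k ⧸ Ideal.span ({F} : Set (MvPolynomial σ k))) ⊗[k] K) ↔
      Irreducible (map (algebraMap k K) F) := by
  have hG : map (algebraMap k K) F ≠ 0 := fun h =>
    hF (map_injective _ (algebraMap k K).injective (by rw [h, map_zero]))
  rw [UniqueFactorizationMonoid.irreducible_iff_prime, ← Ideal.span_singleton_prime hG,
    ← Ideal.Quotient.isDomain_iff_prime]
  constructor
  · intro h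
    exact MulEquiv.isDomain
      ((MvPolynomial σ k ⧸ Ideal.span ({F} : Set (MvPolynomial σ k))) ⊗[k] K)
      (quotTensorEquiv (K := K) F).symm.toMulEquiv
  · intro h
    exact MulEquiv.isDomain
      (MvPolynomial σ K ⧸ Ideal.span ({map (algebraMap k K) F} : Set (MvPolynomial σ K)))
      (quotTensorEquiv (K := K) F).toMulEquiv

end domain

section geom
open CategoryTheory AlgebraicGeometry Limits

instance : ObjectProperty.IsClosedUnderIsomorphisms (C := Scheme.{u}) IsIntegral :=
  ⟨fun e h => @IsIntegral.of_isIso _ _ h e.hom _⟩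

theorem geomIntegral_iff {k : Type u} [Field k] {n : ℕ} (F : MvPolynomial (Fin n) k)
    (hF : F ≠ 0) :
    GeometricallyIntegral (Spec.map (CommRingCat.ofHom
        (algebraMap k (MvPolynomial (Fin n) k ⧸
          Ideal.span ({F} : Set (MvPolynomial (Fin n) k)))))) ↔
      ∀ (K : Type u) [Field K] [Algebra k K], Irreducible (map (algebraMap k K) F) := by
  rw [geometricallyIntegral_iff, geometrically_iff_of_commRing_of_isClosedUnderIsomorphisms]
  refine forall_congr' fun K => forall_congr' fun _ => forall_congr' fun _ => ?_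
  rw [← isDomain_tensor_iff F hF]
  refine Iff.trans ?_ (affine_isIntegral_iff (CommRingCat.of
    ((MvPolynomial (Fin n) k ⧸ Ideal.span ({F} : Set (MvPolynomial (Fin n) k))) ⊗[k] K)))
  constructor
  · intro h
    exact IsIntegral.of_isIso (pullbackSpecIso k
      (MvPolynomial (Fin n) k ⧸ Ideal.span ({F} : Set (MvPolynomial (Fin n) k))) K).hom
  · intro h
    exact IsIntegral.of_isIso (pullbackSpecIso k
      (MvPolynomial (Fin n) k ⧸ Ideal.span ({F} : Set (MvPolynomial (Fin n) k))) K).inv

end geom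

end Groth.Agent.LeadGeomIrr
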