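import Mathlib
import Groth.Agent.Lib.Helper22SqZero
import Groth.Agent.Lib.Helper22Thick

/-!
# Global sections of flat schemes over local Artinian rings (for S11468)

`X → Spec C` flat, `C` local Artinian with residue field `κ`, closed fibre `X₀`.
If `κ → Γ(X₀, O)` is bijective then `C → Γ(X, O)` is bijective.

Ring level: `mem_smul_top_of_smul_mem` (flatness and colon ideals),
`exists_maximal_lt` (a maximal proper subideal of a nonzero ideal of a local noetherian ring).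
-/

set_option autoImplicit false
set_option maxHeartbeats 400000
set_option linter.style.haveILetI false
set_option linter.unusedSectionVars false
set_option linter.unusedVariables false

universe u v

open TensorProduct

namespace Groth.Agent.Lib.LeadGlobArt

section ringlevel

variable {C : Type u} [CommRing C]

/-- flatness and colon ideals: if `t • x ∈ J' M` then `x ∈ (J' : t) M`. -/
theorem mem_smul_top_of_smul_mem {M : Type v} [AddCommGroup M] [Module C M] [Module.Flat C M]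
    (J' : Ideal C) (t : C) (x : M) (hx : t • x ∈ J' • (⊤ : Submodule C M)) :
    x ∈ (Submodule.comap (LinearMap.mulRight C t) J' : Ideal C) • (⊤ : Submodule C M) := by
  obtain ⟨K, hK⟩ : ∃ K : Ideal C, K = Submodule.comap (LinearMap.mulRight C t) J' := ⟨_, rfl⟩
  rw [← hK]
  have hKmem : ∀ c : C, c ∈ K ↔ c * t ∈ J' := by
    intro c
    rw [hK, Submodule.mem_comap, LinearMap.mulRight_apply]
  let f : K →ₗ[C] C := Submodule.subtype K
  let g : C →ₗ[C] C ⧸ J' := (Submodule.mkQ J').comp (LinearMap.mulRight C t)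
  have hg : ∀ c : C, g c = Submodule.Quotient.mk (c * t) := fun c => rfl
  have hexact : Function.Exact f g := by
    intro c
    constructor
    · intro h
      rw [hg, Submodule.Quotient.mk_eq_zero] at h
      exact ⟨⟨c, (hKmem c).mpr h⟩, rfl⟩
    · rintro ⟨⟨c', hc'⟩, rfl⟩
      rw [hg, Submodule.Quotient.mk_eq_zero]
      exact (hKmem c').mp hc'
  have h2 := Module.Flat.lTensor_exact M hexact
  have hzero : ∀ y : M, y ∈ J' • (⊤ : Submodule C M) →
      y ⊗ₜ[C] (Submodule.Quotient.mk (1 : C) : C ⧸ J') = 0 := by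
    intro y hy
    refine Submodule.smul_induction_on hy ?_ ?_
    · intro j hj y' _
      rw [TensorProduct.smul_tmul, ← Submodule.Quotient.mk_smul, smul_eq_mul, mul_one,
        (Submodule.Quotient.mk_eq_zero J').mpr hj, TensorProduct.tmul_zero]
    · intro a b ha hb
      rw [TensorProduct.add_tmul, ha, hb, add_zero]
  have h3 : g.lTensor M (x ⊗ₜ[C] (1 : C)) = 0 := by
    rw [LinearMap.lTensor_tmul, hg, one_mul]
    have : (Submodule.Quotient.mk t : C ⧸ J') = t • Submodule.Quotient.mk (1 : C) := by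
      rw [← Submodule.Quotient.mk_smul, smul_eq_mul, mul_one]
    rw [this, ← TensorProduct.smul_tmul]
    exact hzero _ hx
  obtain ⟨z, hz⟩ := (h2 _).mp h3
  have h4 : ∀ z : M ⊗[C] K, TensorProduct.rid C M (f.lTensor M z) ∈
      K • (⊤ : Submodule C M) := by
    intro z
    induction z using TensorProduct.induction_on with
    | zero => rw [map_zero, map_zero]; exact zero_mem _
    | tmul y c =>
      rw [LinearMap.lTensor_tmul, TensorProduct.rid_tmul]
      exact Submodule.smul_mem_smul c.2 Submodule.mem_top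
    | add a b ha hb => rw [map_add, map_add]; exact add_mem ha hb
  have h5 := h4 z
  rw [hz, TensorProduct.rid_tmul, one_smul] at h5
  exact h5

/-- a maximal proper subideal of a nonzero ideal in a noetherian local ring. -/
theorem exists_maximal_lt [IsLocalRing C] [IsNoetherianRing C] (J : Ideal C) (hJ : J ≠ ⊥) :
    ∃ (J' : Ideal C) (t : C), J' < J ∧ t ∈ J ∧ J = J' ⊔ Ideal.span {t} ∧
      (∀ a ∈ IsLocalRing.maximalIdeal C, a * t ∈ J') ∧
      (∀ c : C, c * t ∈ J' → c ∈ IsLocalRing.maximalIdeal C) := by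
  have hne : ({J' : Ideal C | J' < J} : Set (Ideal C)).Nonempty := ⟨⊥, bot_lt_iff_ne_bot.mpr hJ⟩
  obtain ⟨J', hJ'lt, hJ'max⟩ :=
    (set_has_maximal_iff_noetherian (R := C) (M := C)).mpr inferInstance _ hne
  have hJ'lt' : J' < J := hJ'lt
  obtain ⟨t, htJ, htJ'⟩ := SetLike.exists_of_lt hJ'lt'
  have hmax : ∀ I : Ideal C, J' < I → I ≤ J → I = J := by
    intro I h1 h2
    by_contra hne'
    exact hJ'max I (lt_of_le_of_ne h2 hne') h1
  have hlt_sup : ∀ y : C, y ∉ J' → J' < J' ⊔ Ideal.span {y} := by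
    intro y hy
    refine lt_of_le_of_ne le_sup_left ?_
    intro heq
    apply hy
    rw [heq]
    exact Ideal.mem_sup_right (Ideal.subset_span rfl)
  have hspan_le : ∀ y ∈ J, J' ⊔ Ideal.span {y} ≤ J := by
    intro y hy
    refine sup_le hJ'lt'.le ?_
    rw [Ideal.span_le]
    intro z hz
    rw [Set.mem_singleton_iff.mp hz]
    exact hy
  refine ⟨J', t, hJ'lt', htJ, (hmax _ (hlt_sup t htJ') (hspan_le t htJ)).symm, ?_, ?_⟩
  · intro a ha
    by_contra hat
    have h1 := hmax _ (hlt_sup (a * t) hat) (hspan_le _ (J.mul_mem_left a htJ))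
    have h2 : t ∈ J' ⊔ Ideal.span {a * t} := by rw [h1]; exact htJ
    obtain ⟨j', hj', z, hz, hsum⟩ := Submodule.mem_sup.mp h2
    obtain ⟨c, rfl⟩ := Ideal.mem_span_singleton'.mp hz
    have hunit : IsUnit (1 - c * a) := by
      have hmem : c * a ∈ IsLocalRing.maximalIdeal C := Ideal.mul_mem_left _ c ha
      have hnu : ¬ IsUnit (c * a) := (IsLocalRing.mem_maximalIdeal _).mp hmem
      rcases IsLocalRing.isUnit_or_isUnit_of_add_one (a := c * a) (b := 1 - c * a)
        (by ring) with h | h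
      · exact absurd h hnu
      · exact h
    have h3 : (1 - c * a) * t = j' := by
      linear_combination (-1 : C) * hsum
    apply htJ'
    have h4 : t = ↑(hunit.unit⁻¹) * ((1 - c * a) * t) := by
      rw [← mul_assoc, IsUnit.val_inv_mul, one_mul]
    rw [h4, h3]
    exact Ideal.mul_mem_left _ _ hj'
  · intro c hc
    by_contra hcm
    have hunit : IsUnit c := by
      by_contra hnu
      exact hcm ((IsLocalRing.mem_maximalIdeal _).mpr hnu)
    apply htJ'
    have h4 : t = ↑(hunit.unit⁻¹) * (c * t) := by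
      rw [← mul_assoc, IsUnit.val_inv_mul, one_mul]
    rw [h4]
    exact Ideal.mul_mem_left _ _ hc

end ringlevel

section schemelevel

open AlgebraicGeometry CategoryTheory Limits TopologicalSpace
open Groth.Agent.Lib.Helper22.SqZero

variable {C : Type u} [CommRing C] {X X₀ : Scheme.{u}} (g : X ⟶ Spec (CommRingCat.of C))
  (i : X₀ ⟶ X)

/-- the structure map `C → Γ(X, V)`. -/
noncomputable def γV (V : X.Opens) : C →+* Γ(X, V) :=
  (g.appLE ⊤ V le_top).hom.comp (Scheme.ΓSpecIso (CommRingCat.of C)).inv.hom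

theorem γV_res {W V : X.Opens} (h : W ≤ V) (c : C) : rX' h (γV g V c) = γV g W c := by
  unfold γV rX'
  have h1 := g.appLE_map (U := ⊤) (V := V) le_top (homOfLE h).op
  have h2 := congrArg (fun φ => φ.hom ((Scheme.ΓSpecIso (CommRingCat.of C)).inv.hom c)) h1
  simp only [CommRingCat.hom_comp, RingHom.comp_apply] at h2
  exact h2

theorem γV_res_comp {W V : X.Opens} (h : W ≤ V) : (rX' h).comp (γV g V) = γV g W :=
  RingHom.ext (γV_res g h)

theorem flat_γV [Flat g] {V : X.Opens} (hV : IsAffineOpen V) : (γV g V).Flat := by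
  unfold γV
  have h1 : (g.appLE ⊤ V le_top).hom.Flat := g.flat_appLE (isAffineOpen_top _) hV le_top
  have h2 : ((Scheme.ΓSpecIso (CommRingCat.of C)).inv.hom).Flat :=
    RingHom.Flat.of_bijective (ConcreteCategory.bijective_of_isIso _)
  exact RingHom.Flat.comp h2 h1

/-- sections vanishing on all affine opens vanish. -/
theorem eq_zero_of_locally_zero (s : Γ(X, ⊤))
    (h : ∀ V : X.Opens, IsAffineOpen V → rX' (le_top : V ≤ ⊤) s = 0) : s = 0 := by
  refine X.sheaf.eq_of_locally_eq' (fun V : X.affineOpens => V.1) ⊤ (fun V => homOfLE le_top)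
    ?_ s 0 ?_
  · intro x _
    obtain ⟨W, hW, hxW, -⟩ := exists_isAffineOpen_mem_and_subset (x := x) (U := ⊤) trivial
    exact Opens.mem_iSup.mpr ⟨⟨W, hW⟩, hxW⟩
  · intro V
    change rX' (le_top : V.1 ≤ ⊤) s = rX' (le_top : V.1 ≤ ⊤) 0
    rw [h V.1 V.2, map_zero]

/-- gluing sections of `X₀` given compatibly on the preimages of the affine opens of `X`. -/
theorem exists_glue (β : ∀ V : X.Opens, IsAffineOpen V → Γ(X₀, i ⁻¹ᵁ V))
    (hβ : ∀ (V W : X.Opens) (hV : IsAffineOpen V) (hW : IsAffineOpen W) (h : W ≤ V),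
      β W hW = rX (i.preimage_mono h) (β V hV)) :
    ∃ b : Γ(X₀, ⊤), ∀ (V : X.Opens) (hV : IsAffineOpen V),
      rX (le_top : i ⁻¹ᵁ V ≤ ⊤) b = β V hV := by
  have hcompat : TopCat.Presheaf.IsCompatible X₀.presheaf
      (fun V : X.affineOpens => i ⁻¹ᵁ V.1) (fun V => β V.1 V.2) := by
    intro V W
    change rX (inf_le_left : i ⁻¹ᵁ V.1 ⊓ i ⁻¹ᵁ W.1 ≤ i ⁻¹ᵁ V.1) (β V.1 V.2) =
      rX (inf_le_right : i ⁻¹ᵁ V.1 ⊓ i ⁻¹ᵁ W.1 ≤ i ⁻¹ᵁ W.1) (β W.1 W.2)
    have hA : ∀ A : {A : X.affineOpens // A.1 ≤ V.1 ⊓ W.1},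
        i ⁻¹ᵁ A.1.1 ≤ i ⁻¹ᵁ V.1 ⊓ i ⁻¹ᵁ W.1 := fun A =>
      le_inf (i.preimage_mono (A.2.trans inf_le_left)) (i.preimage_mono (A.2.trans inf_le_right))
    refine X₀.sheaf.eq_of_locally_eq'
      (fun A : {A : X.affineOpens // A.1 ≤ V.1 ⊓ W.1} => i ⁻¹ᵁ A.1.1) _
      (fun A => homOfLE (hA A)) ?_ _ _ ?_
    · intro x hx
      have hx' : i x ∈ V.1 ⊓ W.1 := hx
      obtain ⟨A, hA', hxA, hAle⟩ :=
        exists_isAffineOpen_mem_and_subset (x := i x) (U := V.1 ⊓ W.1) hx'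
      exact Opens.mem_iSup.mpr ⟨⟨⟨A, hA'⟩, hAle⟩, hxA⟩
    · intro A
      change rX (hA A) (rX inf_le_left (β V.1 V.2)) = rX (hA A) (rX inf_le_right (β W.1 W.2))
      rw [rX_rX, rX_rX, ← hβ V.1 A.1.1 V.2 A.1.2 (A.2.trans inf_le_left),
        ← hβ W.1 A.1.1 W.2 A.1.2 (A.2.trans inf_le_right)]
  have hcover : (⊤ : X₀.Opens) ≤ ⨆ V : X.affineOpens, i ⁻¹ᵁ V.1 := by
    intro x _
    obtain ⟨W, hW, hxW, -⟩ := exists_isAffineOpen_mem_and_subset (x := i x) (U := ⊤) trivial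
    exact Opens.mem_iSup.mpr ⟨⟨W, hW⟩, hxW⟩
  obtain ⟨b, hb, -⟩ := X₀.sheaf.existsUnique_gluing' (fun V : X.affineOpens => i ⁻¹ᵁ V.1) ⊤
    (fun V => homOfLE le_top) hcover (fun V => β V.1 V.2) hcompat
  exact ⟨b, fun V hV => hb ⟨V, hV⟩⟩

/-- `t · 𝔪B ⊆ J'B` when `t𝔪 ⊆ J'`. -/
theorem mul_mem_map_of_forall {B : Type v} [CommRing B] (γ : C →+* B) (𝔪 J' : Ideal C) (t : C)
    (h : ∀ a ∈ 𝔪, a * t ∈ J') (x : B) (hx : x ∈ 𝔪.map γ) : γ t * x ∈ J'.map γ := by
  have h1 : 𝔪 * Ideal.span {t} ≤ J' := by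
    rw [Ideal.mul_le]
    intro a ha y hy
    obtain ⟨c, rfl⟩ := Ideal.mem_span_singleton'.mp hy
    rw [← mul_assoc, mul_comm a c, mul_assoc]
    exact J'.mul_mem_left c (h a ha)
  have h2 : x * γ t ∈ (𝔪 * Ideal.span {t}).map γ := by
    rw [Ideal.map_mul]
    exact Ideal.mul_mem_mul hx (Ideal.mem_map_of_mem γ (Ideal.subset_span rfl))
  rw [mul_comm]
  exact Ideal.map_mono h1 h2

variable (𝔪 : Ideal C) (f₀ : X₀ ⟶ Spec (CommRingCat.of (C ⧸ 𝔪)))

/-- the structure map `C/𝔪 → Γ(X₀, ⊤)`. -/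
noncomputable def φ₀ : (C ⧸ 𝔪) →+* Γ(X₀, ⊤) :=
  (f₀.appTop).hom.comp (Scheme.ΓSpecIso (CommRingCat.of (C ⧸ 𝔪))).inv.hom

variable (hsq : IsPullback i f₀ g (Spec.map (CommRingCat.ofHom (Ideal.Quotient.mk 𝔪))))

include hsq in
theorem τ_γV_top (c : C) : τ i ⊤ (γV g ⊤ c) = φ₀ 𝔪 f₀ (Ideal.Quotient.mk 𝔪 c) := by
  have h1 : g.appTop ≫ i.appTop =
      (Spec.map (CommRingCat.ofHom (Ideal.Quotient.mk 𝔪))).appTop ≫ f₀.appTop := by
    rw [← Scheme.Hom.comp_appTop, ← Scheme.Hom.comp_appTop, hsq.w]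
  have h2 : ((Scheme.ΓSpecIso (CommRingCat.of C)).inv ≫ g.appTop) ≫ i.appTop =
      CommRingCat.ofHom (Ideal.Quotient.mk 𝔪) ≫
        ((Scheme.ΓSpecIso (CommRingCat.of (C ⧸ 𝔪))).inv ≫ f₀.appTop) := by
    rw [Category.assoc, h1, ← Category.assoc, ← Scheme.ΓSpecIso_inv_naturality, Category.assoc]
  have h0 : g.appLE ⊤ ⊤ le_top = g.appTop := Scheme.Hom.appLE_eq_app g (U := ⊤)
  have h3 := congrArg (fun φ => φ.hom c) h2
  unfold γV τ φ₀
  rw [h0]
  exact h3

include hsq in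
theorem τ_γV (V : X.Opens) (c : C) :
    τ i V (γV g V c) = rX (le_top : i ⁻¹ᵁ V ≤ ⊤) (φ₀ 𝔪 f₀ (Ideal.Quotient.mk 𝔪 c)) := by
  rw [← τ_γV_top g i 𝔪 f₀ hsq c, ← γV_res g (le_top : V ≤ ⊤) c, τ_rX']
  rfl

include hsq in
theorem map_le_ker_τ (V : X.Opens) : 𝔪.map (γV g V) ≤ RingHom.ker (τ i V) := by
  rw [Ideal.map_le_iff_le_comap]
  intro a ha
  rw [Ideal.mem_comap, RingHom.mem_ker, τ_γV g i 𝔪 f₀ hsq,
    Ideal.Quotient.eq_zero_iff_mem.mpr ha, map_zero, map_zero]

include hsq in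
theorem ker_τ_le {V : X.Opens} (hV : IsAffineOpen V) :
    RingHom.ker (τ i V) ≤ 𝔪.map (γV g V) := by
  haveI : IsClosedImmersion (Spec.map (CommRingCat.ofHom (Ideal.Quotient.mk 𝔪))) :=
    IsClosedImmersion.spec_of_surjective _ Ideal.Quotient.mk_surjective
  have h1 := Groth.Agent.Lib.Helper22.Thick.ker_app_le hsq (isAffineOpen_top _) hV le_top
  refine h1.trans ?_
  unfold γV
  rw [← Ideal.map_map]
  refine Ideal.map_mono ?_
  intro x hx
  have hxa : x = (Scheme.ΓSpecIso (CommRingCat.of C)).inv.hom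
      ((Scheme.ΓSpecIso (CommRingCat.of C)).hom.hom x) := by
    have := congrArg (fun f => f.hom x) (Scheme.ΓSpecIso (CommRingCat.of C)).hom_inv_id
    exact this.symm
  have ha : (Scheme.ΓSpecIso (CommRingCat.of C)).hom.hom x ∈ 𝔪 := by
    have hnat := congrArg (fun f => f.hom x)
      (Scheme.ΓSpecIso_naturality (CommRingCat.ofHom (Ideal.Quotient.mk 𝔪)))
    have hnat' : (Scheme.ΓSpecIso (CommRingCat.of (C ⧸ 𝔪))).hom.hom
        ((Spec.map (CommRingCat.ofHom (Ideal.Quotient.mk 𝔪))).appTop.hom x) =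
        Ideal.Quotient.mk 𝔪 ((Scheme.ΓSpecIso (CommRingCat.of C)).hom.hom x) := hnat
    have hx' : (Spec.map (CommRingCat.ofHom (Ideal.Quotient.mk 𝔪))).appTop.hom x = 0 :=
      RingHom.mem_ker.mp hx
    rw [← Ideal.Quotient.eq_zero_iff_mem, ← hnat', hx', map_zero]
  rw [hxa]
  exact Ideal.mem_map_of_mem _ ha

include hsq in
/-- uniqueness of the coefficient of `t` modulo `𝔪`. -/
theorem τ_eq_of_sub_mem [Flat g] (J' : Ideal C) (t : C) (hcolon : ∀ c : C, c * t ∈ J' → c ∈ 𝔪)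
    {V : X.Opens} (hV : IsAffineOpen V) (sV b₁ b₂ : Γ(X, V))
    (h₁ : sV - γV g V t * b₁ ∈ J'.map (γV g V)) (h₂ : sV - γV g V t * b₂ ∈ J'.map (γV g V)) :
    τ i V b₁ = τ i V b₂ := by
  have hd : γV g V t * (b₁ - b₂) ∈ J'.map (γV g V) := by
    have : γV g V t * (b₁ - b₂) = (sV - γV g V t * b₂) - (sV - γV g V t * b₁) := by ring
    rw [this]
    exact sub_mem h₂ h₁
  letI alg : Algebra C Γ(X, V) := (γV g V).toAlgebra
  haveI hflat : Module.Flat C Γ(X, V) := flat_γV g hV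
  have hd' : t • (b₁ - b₂) ∈ J' • (⊤ : Submodule C Γ(X, V)) := by
    rw [Ideal.smul_top_eq_map, Algebra.smul_def]
    exact hd
  have h3 := mem_smul_top_of_smul_mem J' t (b₁ - b₂) hd'
  have hK : (Submodule.comap (LinearMap.mulRight C t) J' : Ideal C) ≤ 𝔪 := by
    intro c hc
    rw [Submodule.mem_comap, LinearMap.mulRight_apply] at hc
    exact hcolon c hc
  have h4 : b₁ - b₂ ∈ 𝔪 • (⊤ : Submodule C Γ(X, V)) := Submodule.smul_mono hK le_rfl h3
  rw [Ideal.smul_top_eq_map] at h4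
  have h5 : b₁ - b₂ ∈ 𝔪.map (γV g V) := h4
  have h6 := map_le_ker_τ g i 𝔪 f₀ hsq V h5
  rw [RingHom.mem_ker, map_sub, sub_eq_zero] at h6
  exact h6

end schemelevel

section main

open AlgebraicGeometry CategoryTheory Limits TopologicalSpace
open Groth.Agent.Lib.Helper22.SqZero

variable {C : Type u} [CommRing C] [IsLocalRing C] [IsArtinianRing C] {X X₀ : Scheme.{u}}
  (g : X ⟶ Spec (CommRingCat.of C)) [Flat g] (i : X₀ ⟶ X)
  (f₀ : X₀ ⟶ Spec (CommRingCat.of (C ⧸ IsLocalRing.maximalIdeal C)))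
  (hsq : IsPullback i f₀ g
    (Spec.map (CommRingCat.ofHom (Ideal.Quotient.mk (IsLocalRing.maximalIdeal C)))))
  (h0 : Function.Surjective (φ₀ (IsLocalRing.maximalIdeal C) f₀))

include hsq h0 in
/-- **the induction**: a global section lying locally in `J O_X` comes from `J`. -/
theorem exists_of_locally_mem (J : Ideal C) : ∀ s : Γ(X, ⊤),
    (∀ V : X.Opens, IsAffineOpen V → rX' (le_top : V ≤ ⊤) s ∈ J.map (γV g V)) →
    ∃ c ∈ J, γV g ⊤ c = s := by
  haveI : IsNoetherianRing C := inferInstance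
  refine IsArtinian.induction (R := C) (M := C)
    (P := fun J : Submodule C C => ∀ s : Γ(X, ⊤),
      (∀ V : X.Opens, IsAffineOpen V → rX' (le_top : V ≤ ⊤) s ∈ Ideal.map (γV g V) J) →
      ∃ c ∈ J, γV g ⊤ c = s) ?_ J
  intro J IH s hs
  by_cases hJ : J = ⊥
  · refine ⟨0, zero_mem _, ?_⟩
    rw [map_zero]
    symm
    apply eq_zero_of_locally_zero
    intro V hV
    have := hs V hV
    rw [hJ, Ideal.map_bot] at this
    exact (Ideal.mem_bot).mp this
  · obtain ⟨J', t, hlt, htJ, hsup, hmt, hcolon⟩ := exists_maximal_lt J hJ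
    have hloc : ∀ (V : X.Opens) (hV : IsAffineOpen V), ∃ b : Γ(X, V),
        rX' (le_top : V ≤ ⊤) s - γV g V t * b ∈ J'.map (γV g V) := by
      intro V hV
      have h1 := hs V hV
      rw [hsup, Ideal.map_sup, Ideal.map_span, Set.image_singleton] at h1
      obtain ⟨y, hy, z, hz, hyz⟩ := Submodule.mem_sup.mp h1
      obtain ⟨b, rfl⟩ := Ideal.mem_span_singleton'.mp hz
      refine ⟨b, ?_⟩
      rw [← hyz, mul_comm, add_sub_cancel_right]
      exact hy
    choose b hb using hloc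
    have hcompat : ∀ (V W : X.Opens) (hV : IsAffineOpen V) (hW : IsAffineOpen W) (h : W ≤ V),
        τ i W (b W hW) = rX (i.preimage_mono h) (τ i V (b V hV)) := by
      intro V W hV hW h
      rw [← τ_rX']
      refine τ_eq_of_sub_mem g i _ f₀ hsq J' t hcolon hW (rX' le_top s) _ _ (hb W hW) ?_
      have h1 := Ideal.mem_map_of_mem (rX' h) (hb V hV)
      rw [Ideal.map_map, map_sub, map_mul, rX'_rX', γV_res, γV_res_comp] at h1
      exact h1
    obtain ⟨β, hβ⟩ := exists_glue i (fun V hV => τ i V (b V hV)) hcompat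
    obtain ⟨cbar, hcbar⟩ := h0 β
    obtain ⟨c₀, rfl⟩ := Ideal.Quotient.mk_surjective cbar
    have hs' : ∀ (V : X.Opens), IsAffineOpen V →
        rX' (le_top : V ≤ ⊤) (s - γV g ⊤ (t * c₀)) ∈ Ideal.map (γV g V) J' := by
      intro V hV
      have h1 : b V hV - γV g V c₀ ∈ RingHom.ker (τ i V) := by
        rw [RingHom.mem_ker, map_sub, τ_γV g i _ f₀ hsq, hcbar, hβ V hV, sub_self]
      have h2 := mul_mem_map_of_forall (γV g V) _ J' t hmt _ (ker_τ_le g i _ f₀ hsq hV h1)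
      have h3 : rX' (le_top : V ≤ ⊤) (s - γV g ⊤ (t * c₀)) =
          (rX' le_top s - γV g V t * b V hV) + γV g V t * (b V hV - γV g V c₀) := by
        rw [map_sub, γV_res, map_mul]; ring
      rw [h3]
      exact add_mem (hb V hV) h2
    obtain ⟨c', hc'J, hc'⟩ := IH J' hlt _ hs'
    refine ⟨c' + t * c₀, add_mem (hlt.le hc'J) (Ideal.mul_mem_right _ _ htJ), ?_⟩
    rw [map_add, hc', sub_add_cancel]

include hsq h0 in
theorem surjective_γV_top : Function.Surjective (γV g (⊤ : X.Opens)) := by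
  intro s
  obtain ⟨cbar, hcbar⟩ := h0 (τ i ⊤ s)
  obtain ⟨c, rfl⟩ := Ideal.Quotient.mk_surjective cbar
  have hs' : ∀ (V : X.Opens), IsAffineOpen V →
      rX' (le_top : V ≤ ⊤) (s - γV g ⊤ c) ∈ (IsLocalRing.maximalIdeal C).map (γV g V) := by
    intro V hV
    refine ker_τ_le g i _ f₀ hsq hV ?_
    rw [RingHom.mem_ker, τ_rX', map_sub, τ_γV_top g i _ f₀ hsq, hcbar, sub_self, map_zero]
  obtain ⟨c', -, hc'⟩ := exists_of_locally_mem g i f₀ hsq h0 _ _ hs'
  refine ⟨c' + c, ?_⟩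
  rw [map_add, hc', sub_add_cancel]

include hsq in
theorem injective_γV_top [Nonempty X] : Function.Injective (γV g (⊤ : X.Opens)) := by
  rw [injective_iff_map_eq_zero]
  intro a ha
  by_contra hane
  obtain ⟨x⟩ := ‹Nonempty X›
  obtain ⟨V, hV, hxV, -⟩ := exists_isAffineOpen_mem_and_subset (x := x) (U := ⊤) trivial
  haveI : Nonempty V := ⟨⟨x, hxV⟩⟩
  haveI hnt : Nontrivial Γ(X, V) := inferInstance
  have haV : γV g V a = 0 := by
    rw [← γV_res g (le_top : V ≤ ⊤), ha, map_zero]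
  letI alg : Algebra C Γ(X, V) := (γV g V).toAlgebra
  haveI hflat : Module.Flat C Γ(X, V) := flat_γV g hV
  have h1 : a • (1 : Γ(X, V)) ∈ (⊥ : Ideal C) • (⊤ : Submodule C Γ(X, V)) := by
    have h0 : a • (1 : Γ(X, V)) = 0 := by
      rw [Algebra.smul_def, mul_one]
      exact haV
    rw [h0]
    exact zero_mem _
  have h2 := mem_smul_top_of_smul_mem (⊥ : Ideal C) a (1 : Γ(X, V)) h1
  have hK : (Submodule.comap (LinearMap.mulRight C a) (⊥ : Ideal C) : Ideal C) ≤
      IsLocalRing.maximalIdeal C := by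
    apply IsLocalRing.le_maximalIdeal
    intro htop
    have h3 : (1 : C) ∈ (Submodule.comap (LinearMap.mulRight C a) (⊥ : Ideal C) : Ideal C) := by
      rw [htop]; trivial
    rw [Submodule.mem_comap, LinearMap.mulRight_apply, one_mul] at h3
    exact hane ((Submodule.mem_bot C).mp h3)
  have h4 : (1 : Γ(X, V)) ∈ (IsLocalRing.maximalIdeal C) • (⊤ : Submodule C Γ(X, V)) :=
    Submodule.smul_mono hK le_rfl h2
  rw [Ideal.smul_top_eq_map] at h4
  have h5 : (IsLocalRing.maximalIdeal C).map (γV g V) = ⊤ := (Ideal.eq_top_iff_one _).mpr h4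
  -- nilpotency of the maximal ideal
  obtain ⟨n, hn⟩ : IsNilpotent (IsLocalRing.maximalIdeal C) := by
    have := IsArtinianRing.isNilpotent_jacobson_bot (R := C)
    rwa [IsLocalRing.jacobson_eq_maximalIdeal ⊥ bot_ne_top] at this
  have h6 : ((IsLocalRing.maximalIdeal C) ^ n).map (γV g V) = ⊤ := by
    rw [Ideal.map_pow, h5, Ideal.top_pow]
  rw [hn, Ideal.zero_eq_bot, Ideal.map_bot] at h6
  exact bot_ne_top h6

/-- **S11468.** -/
theorem main_S11468 (C : Type u) [CommRing C]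
    [IsLocalRing C] [IsArtinianRing C] (X X₀ : Scheme.{u}) (g : X ⟶ Spec (CommRingCat.of C)) [Flat g]
    (i : X₀ ⟶ X) (f₀ : X₀ ⟶ Spec (CommRingCat.of (C ⧸ IsLocalRing.maximalIdeal C)))
    (hsq : IsPullback i f₀ g
      (Spec.map (CommRingCat.ofHom (Ideal.Quotient.mk (IsLocalRing.maximalIdeal C)))))
    (h0 : Function.Bijective ((Scheme.ΓSpecIso (CommRingCat.of (C ⧸ IsLocalRing.maximalIdeal C))).inv ≫
      f₀.appTop)) :
    Function.Bijective ((Scheme.ΓSpecIso (CommRingCat.of C)).inv ≫ g.appTop) := by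
  have h0s : Function.Surjective (φ₀ (IsLocalRing.maximalIdeal C) f₀) := h0.2
  have hfun : ∀ c : C, ((Scheme.ΓSpecIso (CommRingCat.of C)).inv ≫ g.appTop).hom c =
      γV g ⊤ c := by
    intro c
    have h0' : g.appLE ⊤ ⊤ le_top = g.appTop := Scheme.Hom.appLE_eq_app g (U := ⊤)
    unfold γV
    rw [h0']
    rfl
  -- `X` is nonempty
  haveI hne : Nonempty X := by
    haveI : Nontrivial (C ⧸ IsLocalRing.maximalIdeal C) :=
      Ideal.Quotient.nontrivial_iff.mpr (IsLocalRing.maximalIdeal.isMaximal C).ne_top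
    have hnt : Nontrivial Γ(X₀, ⊤) := by
      have hinj : Function.Injective (φ₀ (IsLocalRing.maximalIdeal C) f₀) := h0.1
      exact hinj.nontrivial
    by_contra hemp
    rw [not_nonempty_iff] at hemp
    haveI : IsEmpty X₀ := Function.isEmpty i
    have : Subsingleton Γ(X₀, ⊤) := inferInstance
    exact not_subsingleton _ this
  constructor
  · intro c c' hcc'
    apply injective_γV_top g i f₀ hsq
    rw [← hfun, ← hfun]
    exact hcc'
  · intro s
    obtain ⟨c, hc⟩ := surjective_γV_top g i f₀ hsq h0s s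
    exact ⟨c, (hfun c).trans hc⟩

end main

end Groth.Agent.Lib.LeadGlobArt
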