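import Mathlib
import Groth.Agent.Lib.LeadGlobArt
import Groth.Agent.Lib.LeadDualDef
import Groth.Agent.Lib.Helper22Hartogs2
import Groth.Agent.Lib.Helper28Normal
import Groth.Agent.Lib.Helper28Kollar
import Groth.Prelude.Def_Pi1

/-!
# Restriction of functions to an open with small complement, over a local Artinian base (S11462)

`X = Spec A → Spec C` flat, `C` local Artinian, closed fibre `X₀`, `U ⊆ X` open.
If `Γ(X₀, O) → Γ(U₀, O)` is bijective, so is `Γ(X, O) → Γ(U, O)`.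
-/

set_option autoImplicit false
set_option maxHeartbeats 400000
set_option linter.style.haveILetI false
set_option linter.unusedSectionVars false
set_option linter.unusedVariables false

universe u v

open AlgebraicGeometry CategoryTheory Limits TopologicalSpace

namespace Groth.Agent.Lib.LeadGlobArtU

open Groth.Agent.Lib.LeadGlobArt Groth.Agent.Lib.Helper22.SqZero

section glue

variable {X X₀ : Scheme.{u}} (i : X₀ ⟶ X) (U : X.Opens)

/-- sections over `U` vanishing on all affine opens inside `U` vanish. -/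
theorem eq_zero_of_locally_zero_U (s : Γ(X, U))
    (h : ∀ (V : X.Opens) (hVU : V ≤ U), IsAffineOpen V → rX' hVU s = 0) : s = 0 := by
  refine X.sheaf.eq_of_locally_eq' (fun V : {V : X.affineOpens // V.1 ≤ U} => V.1.1) U
    (fun V => homOfLE V.2) ?_ s 0 ?_
  · intro x hx
    obtain ⟨W, hW, hxW, hWU⟩ := exists_isAffineOpen_mem_and_subset (x := x) (U := U) hx
    exact Opens.mem_iSup.mpr ⟨⟨⟨W, hW⟩, hWU⟩, hxW⟩
  · intro V
    change rX' V.2 s = rX' V.2 0
    rw [h V.1.1 V.2 V.1.2, map_zero]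

/-- sections of `X₀` over `i⁻¹U` vanishing on the preimages of all affine opens inside `U`
vanish. -/
theorem eq_zero_of_locally_zero_X₀ (β : Γ(X₀, i ⁻¹ᵁ U))
    (h : ∀ (V : X.Opens) (hVU : V ≤ U), IsAffineOpen V → rX (i.preimage_mono hVU) β = 0) :
    β = 0 := by
  refine X₀.sheaf.eq_of_locally_eq' (fun V : {V : X.affineOpens // V.1 ≤ U} => i ⁻¹ᵁ V.1.1)
    (i ⁻¹ᵁ U) (fun V => homOfLE (i.preimage_mono V.2)) ?_ β 0 ?_
  · intro x hx
    have hx' : i x ∈ U := hx
    obtain ⟨W, hW, hxW, hWU⟩ := exists_isAffineOpen_mem_and_subset (x := i x) (U := U) hx'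
    exact Opens.mem_iSup.mpr ⟨⟨⟨W, hW⟩, hWU⟩, hxW⟩
  · intro V
    change rX (i.preimage_mono V.2) β = rX (i.preimage_mono V.2) 0
    rw [h V.1.1 V.2 V.1.2, map_zero]

/-- gluing sections of `X₀` given compatibly on the preimages of the affine opens inside `U`. -/
theorem exists_glue_U (β : ∀ V : X.Opens, V ≤ U → IsAffineOpen V → Γ(X₀, i ⁻¹ᵁ V))
    (hβ : ∀ (V W : X.Opens) (hVU : V ≤ U) (hV : IsAffineOpen V) (hW : IsAffineOpen W)
      (h : W ≤ V), β W (h.trans hVU) hW = rX (i.preimage_mono h) (β V hVU hV)) :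
    ∃ b : Γ(X₀, i ⁻¹ᵁ U), ∀ (V : X.Opens) (hVU : V ≤ U) (hV : IsAffineOpen V),
      rX (i.preimage_mono hVU) b = β V hVU hV := by
  have hcompat : TopCat.Presheaf.IsCompatible X₀.presheaf
      (fun V : {V : X.affineOpens // V.1 ≤ U} => i ⁻¹ᵁ V.1.1)
      (fun V => β V.1.1 V.2 V.1.2) := by
    intro V W
    change rX (inf_le_left : i ⁻¹ᵁ V.1.1 ⊓ i ⁻¹ᵁ W.1.1 ≤ i ⁻¹ᵁ V.1.1) (β V.1.1 V.2 V.1.2) =
      rX (inf_le_right : i ⁻¹ᵁ V.1.1 ⊓ i ⁻¹ᵁ W.1.1 ≤ i ⁻¹ᵁ W.1.1) (β W.1.1 W.2 W.1.2)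
    have hA : ∀ A : {A : X.affineOpens // A.1 ≤ V.1.1 ⊓ W.1.1},
        i ⁻¹ᵁ A.1.1 ≤ i ⁻¹ᵁ V.1.1 ⊓ i ⁻¹ᵁ W.1.1 := fun A =>
      le_inf (i.preimage_mono (A.2.trans inf_le_left)) (i.preimage_mono (A.2.trans inf_le_right))
    refine X₀.sheaf.eq_of_locally_eq'
      (fun A : {A : X.affineOpens // A.1 ≤ V.1.1 ⊓ W.1.1} => i ⁻¹ᵁ A.1.1) _
      (fun A => homOfLE (hA A)) ?_ _ _ ?_
    · intro x hx
      have hx' : i x ∈ V.1.1 ⊓ W.1.1 := hx
      obtain ⟨A, hA', hxA, hAle⟩ :=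
        exists_isAffineOpen_mem_and_subset (x := i x) (U := V.1.1 ⊓ W.1.1) hx'
      exact Opens.mem_iSup.mpr ⟨⟨⟨A, hA'⟩, hAle⟩, hxA⟩
    · intro A
      change rX (hA A) (rX inf_le_left (β V.1.1 V.2 V.1.2)) =
        rX (hA A) (rX inf_le_right (β W.1.1 W.2 W.1.2))
      rw [rX_rX, rX_rX, ← hβ V.1.1 A.1.1 V.2 V.1.2 A.1.2 (A.2.trans inf_le_left),
        ← hβ W.1.1 A.1.1 W.2 W.1.2 A.1.2 (A.2.trans inf_le_right)]
  have hcover : i ⁻¹ᵁ U ≤ ⨆ V : {V : X.affineOpens // V.1 ≤ U}, i ⁻¹ᵁ V.1.1 := by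
    intro x hx
    have hx' : i x ∈ U := hx
    obtain ⟨W, hW, hxW, hWU⟩ := exists_isAffineOpen_mem_and_subset (x := i x) (U := U) hx'
    exact Opens.mem_iSup.mpr ⟨⟨⟨W, hW⟩, hWU⟩, hxW⟩
  obtain ⟨b, hb, -⟩ := X₀.sheaf.existsUnique_gluing'
    (fun V : {V : X.affineOpens // V.1 ≤ U} => i ⁻¹ᵁ V.1.1) (i ⁻¹ᵁ U)
    (fun V => homOfLE (i.preimage_mono V.2)) hcover (fun V => β V.1.1 V.2 V.1.2) hcompat
  exact ⟨b, fun V hVU hV => hb ⟨⟨V, hV⟩, hVU⟩⟩

end glue

section main

variable {C : Type u} [CommRing C] [IsLocalRing C] [IsArtinianRing C] {X X₀ : Scheme.{u}}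
  (g : X ⟶ Spec (CommRingCat.of C)) [Flat g] (i : X₀ ⟶ X)
  (f₀ : X₀ ⟶ Spec (CommRingCat.of (C ⧸ IsLocalRing.maximalIdeal C)))
  (hsq : IsPullback i f₀ g
    (Spec.map (CommRingCat.ofHom (Ideal.Quotient.mk (IsLocalRing.maximalIdeal C)))))
  (U : X.Opens)

include hsq in
/-- **the induction (surjectivity)**: a section over `U` lying locally in `J O_X` comes from a
global section in `J Γ(X, O)`, if `Γ(X) → Γ(X₀)` and `Γ(X₀) → Γ(U₀)` are surjective. -/
theorem exists_of_locally_mem_U (hτ : Function.Surjective (τ i ⊤))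
    (h0 : Function.Surjective (rX (i.preimage_mono (le_top : U ≤ ⊤))))
    (J : Ideal C) : ∀ s : Γ(X, U),
    (∀ (V : X.Opens) (hVU : V ≤ U), IsAffineOpen V → rX' hVU s ∈ J.map (γV g V)) →
    ∃ a ∈ J.map (γV g ⊤), rX' (le_top : U ≤ ⊤) a = s := by
  haveI : IsNoetherianRing C := inferInstance
  refine IsArtinian.induction (R := C) (M := C)
    (P := fun J : Submodule C C => ∀ s : Γ(X, U),
      (∀ (V : X.Opens) (hVU : V ≤ U), IsAffineOpen V → rX' hVU s ∈ Ideal.map (γV g V) J) →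
      ∃ a ∈ Ideal.map (γV g ⊤) J, rX' (le_top : U ≤ ⊤) a = s) ?_ J
  intro J IH s hs
  by_cases hJ : J = ⊥
  · refine ⟨0, zero_mem _, ?_⟩
    rw [map_zero]
    symm
    apply eq_zero_of_locally_zero_U
    intro V hVU hV
    have := hs V hVU hV
    rw [hJ, Ideal.map_bot] at this
    exact (Ideal.mem_bot).mp this
  · obtain ⟨J', t, hlt, htJ, hsup, hmt, hcolon⟩ := exists_maximal_lt J hJ
    have hloc : ∀ (V : X.Opens) (hVU : V ≤ U) (hV : IsAffineOpen V), ∃ b : Γ(X, V),
        rX' hVU s - γV g V t * b ∈ J'.map (γV g V) := by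
      intro V hVU hV
      have h1 := hs V hVU hV
      rw [hsup, Ideal.map_sup, Ideal.map_span, Set.image_singleton] at h1
      obtain ⟨y, hy, z, hz, hyz⟩ := Submodule.mem_sup.mp h1
      obtain ⟨b, rfl⟩ := Ideal.mem_span_singleton'.mp hz
      refine ⟨b, ?_⟩
      rw [← hyz, mul_comm, add_sub_cancel_right]
      exact hy
    choose b hb using hloc
    have hcompat : ∀ (V W : X.Opens) (hVU : V ≤ U) (hV : IsAffineOpen V) (hW : IsAffineOpen W)
        (h : W ≤ V), τ i W (b W (h.trans hVU) hW) =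
          rX (i.preimage_mono h) (τ i V (b V hVU hV)) := by
      intro V W hVU hV hW h
      rw [← τ_rX']
      refine τ_eq_of_sub_mem g i _ f₀ hsq J' t hcolon hW (rX' (h.trans hVU) s) _ _
        (hb W (h.trans hVU) hW) ?_
      have h1 := Ideal.mem_map_of_mem (rX' h) (hb V hVU hV)
      rw [Ideal.map_map, map_sub, map_mul, rX'_rX', γV_res, γV_res_comp] at h1
      exact h1
    obtain ⟨β, hβ⟩ := exists_glue_U i U (fun V hVU hV => τ i V (b V hVU hV)) hcompat
    obtain ⟨β', hβ'⟩ := h0 β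
    obtain ⟨a₀, ha₀⟩ := hτ β'
    have hs' : ∀ (V : X.Opens) (hVU : V ≤ U), IsAffineOpen V →
        rX' hVU (s - rX' (le_top : U ≤ ⊤) (γV g ⊤ t * a₀)) ∈ Ideal.map (γV g V) J' := by
      intro V hVU hV
      have h1 : b V hVU hV - rX' (le_top : V ≤ ⊤) a₀ ∈ RingHom.ker (τ i V) := by
        rw [RingHom.mem_ker, map_sub, τ_rX', ha₀, ← hβ V hVU hV, ← hβ', rX_rX, sub_self]
      have h2 := mul_mem_map_of_forall (γV g V) _ J' t hmt _ (ker_τ_le g i _ f₀ hsq hV h1)
      have h3 : rX' hVU (s - rX' (le_top : U ≤ ⊤) (γV g ⊤ t * a₀)) =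
          (rX' hVU s - γV g V t * b V hVU hV) +
            γV g V t * (b V hVU hV - rX' (le_top : V ≤ ⊤) a₀) := by
        rw [map_sub, rX'_rX', map_mul, γV_res]; ring
      rw [h3]
      exact add_mem (hb V hVU hV) h2
    obtain ⟨a', ha'J, ha'⟩ := IH J' hlt _ hs'
    refine ⟨a' + γV g ⊤ t * a₀, add_mem (Ideal.map_mono hlt.le ha'J)
      (Ideal.mul_mem_right _ _ (Ideal.mem_map_of_mem _ htJ)), ?_⟩
    rw [map_add, ha', sub_add_cancel]

include hsq in
/-- **the induction (injectivity)**. -/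
theorem eq_zero_of_res_eq_zero (hXaff : IsAffineOpen (⊤ : X.Opens))
    (h0 : Function.Injective (rX (i.preimage_mono (le_top : U ≤ ⊤))))
    (J : Ideal C) : ∀ a ∈ J.map (γV g ⊤), rX' (le_top : U ≤ ⊤) a = 0 → a = 0 := by
  haveI : IsNoetherianRing C := inferInstance
  refine IsArtinian.induction (R := C) (M := C)
    (P := fun J : Submodule C C => ∀ a ∈ Ideal.map (γV g ⊤) J,
      rX' (le_top : U ≤ ⊤) a = 0 → a = 0) ?_ J
  intro J IH a haJ ha
  by_cases hJ : J = ⊥
  · rw [hJ, Ideal.map_bot] at haJ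
    exact (Ideal.mem_bot).mp haJ
  · obtain ⟨J', t, hlt, htJ, hsup, hmt, hcolon⟩ := exists_maximal_lt J hJ
    rw [hsup, Ideal.map_sup, Ideal.map_span, Set.image_singleton] at haJ
    obtain ⟨y, hy, z, hz, hyz⟩ := Submodule.mem_sup.mp haJ
    obtain ⟨b, rfl⟩ := Ideal.mem_span_singleton'.mp hz
    -- `τ b` vanishes on `i⁻¹ U`
    have hloc : ∀ (V : X.Opens) (hVU : V ≤ U), IsAffineOpen V →
        rX (i.preimage_mono hVU) (rX (i.preimage_mono (le_top : U ≤ ⊤)) (τ i ⊤ b)) = 0 := by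
      intro V hVU hV
      rw [rX_rX, ← τ_rX' i (le_top : V ≤ ⊤) b]
      have h1 : rX' (le_top : V ≤ ⊤) a = 0 := by
        rw [← rX'_rX' hVU (le_top : U ≤ ⊤), ha, map_zero]
      have h2 : rX' (le_top : V ≤ ⊤) y ∈ J'.map (γV g V) := by
        have := Ideal.mem_map_of_mem (rX' (le_top : V ≤ ⊤)) hy
        rw [Ideal.map_map, γV_res_comp] at this
        exact this
      have h3 : (0 : Γ(X, V)) - γV g V t * rX' (le_top : V ≤ ⊤) b ∈ J'.map (γV g V) := by
        have h4 : (0 : Γ(X, V)) - γV g V t * rX' (le_top : V ≤ ⊤) b = rX' (le_top : V ≤ ⊤) y := by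
          rw [← hyz, map_add, map_mul, γV_res] at h1
          rw [zero_sub, neg_eq_iff_add_eq_zero, add_comm, mul_comm]
          exact h1
        rw [h4]; exact h2
      have h5 : (0 : Γ(X, V)) - γV g V t * 0 ∈ J'.map (γV g V) := by
        rw [mul_zero, sub_zero]; exact zero_mem _
      have h6 := τ_eq_of_sub_mem g i _ f₀ hsq J' t hcolon hV 0 _ _ h3 h5
      rw [h6, map_zero]
    have h7 : rX (i.preimage_mono (le_top : U ≤ ⊤)) (τ i ⊤ b) = 0 :=
      eq_zero_of_locally_zero_X₀ i U _ hloc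
    have h8 : τ i ⊤ b = 0 := h0 (h7.trans (map_zero _).symm)
    have h9 : b ∈ (IsLocalRing.maximalIdeal C).map (γV g ⊤) :=
      ker_τ_le g i _ f₀ hsq hXaff (RingHom.mem_ker.mpr h8)
    have h10 : γV g ⊤ t * b ∈ J'.map (γV g ⊤) := mul_mem_map_of_forall (γV g ⊤) _ J' t hmt _ h9
    apply IH J' hlt a _ ha
    rw [← hyz, mul_comm]
    exact add_mem hy h10

include hsq in
/-- restriction `Γ(X) → Γ(U)` is bijective if it is so on the closed fibre (`X` affine). -/
theorem bijective_res_U [IsAffine X] [IsAffine X₀]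
    (h0 : Function.Bijective (rX (i.preimage_mono (le_top : U ≤ ⊤)))) :
    Function.Bijective (rX' (le_top : U ≤ ⊤)) := by
  haveI : IsClosedImmersion (Spec.map (CommRingCat.ofHom
      (Ideal.Quotient.mk (IsLocalRing.maximalIdeal C)))) :=
    IsClosedImmersion.spec_of_surjective _ Ideal.Quotient.mk_surjective
  haveI : IsClosedImmersion i := MorphismProperty.of_isPullback hsq.flip inferInstance
  have hτ : Function.Surjective (τ i ⊤) :=
    (IsClosedImmersion.isAffine_surjective_of_isAffine i).2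
  constructor
  · rw [injective_iff_map_eq_zero]
    intro a ha
    refine eq_zero_of_res_eq_zero g i f₀ hsq U (isAffineOpen_top X) h0.1 ⊤ a ?_ ha
    rw [Ideal.map_top]
    trivial
  · intro s
    obtain ⟨a, -, ha⟩ := exists_of_locally_mem_U g i f₀ hsq U hτ h0.2 ⊤ s (by
      intro V hVU hV
      rw [Ideal.map_top]
      trivial)
    exact ⟨a, ha⟩

end main

section final

/-- the stalks of a normal noetherian affine scheme at primes of height `≥ 2` have depth `≥ 2`. -/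
theorem two_le_depth_stalk (R : Type u) [CommRing R] [IsNoetherianRing R]
    (hnorm : Pi1.IsNormalScheme (Spec (CommRingCat.of R)))
    (x : ↥(Spec (CommRingCat.of R))) (hx : (2 : ℕ∞) ≤ x.asIdeal.height) :
    (2 : ℕ∞) ≤ LocCoh.depth ((Spec (CommRingCat.of R)).presheaf.stalk x)
      ((Spec (CommRingCat.of R)).presheaf.stalk x) := by
  obtain ⟨hdom, hic⟩ := hnorm x
  haveI := hdom
  haveI := hic
  haveI : x.asIdeal.IsPrime := x.isPrime
  letI k : Algebra R ((Spec (CommRingCat.of R)).presheaf.stalk x) :=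
    StructureSheaf.stalkAlgebra R x
  haveI : IsLocalization.AtPrime ((Spec (CommRingCat.of R)).presheaf.stalk x) x.asIdeal :=
    StructureSheaf.IsLocalization.to_stalk R x
  haveI : IsNoetherianRing ((Spec (CommRingCat.of R)).presheaf.stalk x) :=
    IsLocalization.isNoetherianRing x.asIdeal.primeCompl _ inferInstance
  apply Groth.Agent.Lib.Helper28.two_le_depth_of_isIntegrallyClosed_of_two_le_dim
  rw [IsLocalization.AtPrime.ringKrullDim_eq_height x.asIdeal
    ((Spec (CommRingCat.of R)).presheaf.stalk x)]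
  have h2 : ((2 : ℕ∞) : WithBot ℕ∞) ≤ ↑x.asIdeal.height := WithBot.coe_le_coe.mpr hx
  exact h2

set_option maxHeartbeats 1600000 in
/-- **S11462.** -/
theorem main_S11462 (C : Type u) [CommRing C]
    [IsLocalRing C] [IsArtinianRing C] (A : Type u) [CommRing A] [IsNoetherianRing A] [Algebra C A]
    [Module.Flat C A]
    (hnorm : Pi1.IsNormalScheme (Spec (CommRingCat.of
      (A ⧸ (IsLocalRing.maximalIdeal C).map (algebraMap C A)))))
    (U : (Spec (CommRingCat.of A)).Opens)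
    (hU : ∀ p : ↥(Spec (CommRingCat.of A)), p ∉ U → (2 : ℕ∞) ≤ p.asIdeal.height) :
    Function.Bijective ((Spec (CommRingCat.of A)).presheaf.map
      (homOfLE (le_top : U ≤ ⊤)).op) := by
  obtain ⟨I, hI⟩ : ∃ I : Ideal A, I = (IsLocalRing.maximalIdeal C).map (algebraMap C A) :=
    ⟨_, rfl⟩
  rw [← hI] at hnorm
  obtain ⟨φ, hφ⟩ : ∃ φ : (C ⧸ IsLocalRing.maximalIdeal C) →+* A ⧸ I,
      ∀ c : C, φ (Ideal.Quotient.mk _ c) = Ideal.Quotient.mk I (algebraMap C A c) := by
    refine ⟨Ideal.quotientMap I (algebraMap C A) ?_, fun c => Ideal.quotientMap_mk⟩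
    rw [hI]
    exact Ideal.le_comap_map
  -- the pullback square
  have hpo : IsPushout (CommRingCat.ofHom (algebraMap C A))
      (CommRingCat.ofHom (Ideal.Quotient.mk (IsLocalRing.maximalIdeal C)))
      (CommRingCat.ofHom (Ideal.Quotient.mk I)) (CommRingCat.ofHom φ) := by
    apply Groth.Agent.Lib.LeadDualDef.isPushout_of_surjective
    · refine CommRingCat.hom_ext (RingHom.ext fun c => ?_)
      exact (hφ c).symm
    · exact Ideal.Quotient.mk_surjective
    · exact Ideal.Quotient.mk_surjective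
    · intro a ha
      have ha' : a ∈ I := by
        have := RingHom.mem_ker.mp ha
        exact Ideal.Quotient.eq_zero_iff_mem.mp this
      rw [hI] at ha'
      have hk : RingHom.ker (CommRingCat.ofHom
          (Ideal.Quotient.mk (IsLocalRing.maximalIdeal C))).hom = IsLocalRing.maximalIdeal C :=
        Ideal.mk_ker
      rw [hk]
      exact ha'
  have hsq := isPullback_SpecMap_of_isPushout _ _ _ _ hpo
  haveI : Flat (Spec.map (CommRingCat.ofHom (algebraMap C A))) := by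
    rw [Flat.SpecMap_iff]
    exact (RingHom.flat_algebraMap_iff (R := C) (S := A)).mpr inferInstance
  -- Hartogs on the closed fibre
  haveI : IsNoetherianRing (A ⧸ I) := inferInstance
  haveI : IsLocallyNoetherian (Spec (CommRingCat.of (A ⧸ I))) := inferInstance
  have hker : RingHom.ker (Ideal.Quotient.mk I) ≤ nilradical A := by
    rw [Ideal.mk_ker]
    obtain ⟨n, hn⟩ : IsNilpotent (IsLocalRing.maximalIdeal C) := by
      have := IsArtinianRing.isNilpotent_jacobson_bot (R := C)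
      rwa [IsLocalRing.jacobson_eq_maximalIdeal ⊥ bot_ne_top] at this
    intro a ha
    refine ⟨n, ?_⟩
    have h1 : a ^ n ∈ I ^ n := Ideal.pow_mem_pow ha n
    rw [hI, ← Ideal.map_pow, hn, Ideal.zero_eq_bot, Ideal.map_bot] at h1
    exact (Ideal.mem_bot).mp h1
  have hdepth : ∀ x : ↥(Spec (CommRingCat.of (A ⧸ I))),
      x ∉ (Spec.map (CommRingCat.ofHom (Ideal.Quotient.mk I))) ⁻¹ᵁ U →
      (2 : ℕ∞) ≤ LocCoh.depth ((Spec (CommRingCat.of (A ⧸ I))).presheaf.stalk x)
        ((Spec (CommRingCat.of (A ⧸ I))).presheaf.stalk x) := by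
    intro x hx
    apply two_le_depth_stalk (A ⧸ I) hnorm x
    have h1 := hU (Spec.map (CommRingCat.ofHom (Ideal.Quotient.mk I)) x) hx
    have h2 : (Spec.map (CommRingCat.ofHom (Ideal.Quotient.mk I)) x).asIdeal =
        x.asIdeal.comap (Ideal.Quotient.mk I) := rfl
    rw [h2] at h1
    haveI : x.asIdeal.IsPrime := x.isPrime
    exact h1.trans (Groth.Agent.Lib.Helper28.height_comap_le_of_ker_le_nilradical
      Ideal.Quotient.mk_surjective hker x.asIdeal)
  have h0 := Groth.Agent.Lib.Helper22.Hartogs.bijective_res_of_depth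
    ((Spec.map (CommRingCat.ofHom (Ideal.Quotient.mk I))) ⁻¹ᵁ U) hdepth
    ((Spec.map (CommRingCat.ofHom (Ideal.Quotient.mk I))) ⁻¹ᵁ ⊤)
    ((Spec.map (CommRingCat.ofHom (Ideal.Quotient.mk I))) ⁻¹ᵁ U)
    ((Spec.map (CommRingCat.ofHom (Ideal.Quotient.mk I))).preimage_mono le_top)
    inf_le_right le_rfl
  exact bijective_res_U (Spec.map (CommRingCat.ofHom (algebraMap C A)))
    (Spec.map (CommRingCat.ofHom (Ideal.Quotient.mk I))) (Spec.map (CommRingCat.ofHom φ)) hsq U h0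

end final

end Groth.Agent.Lib.LeadGlobArtU
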