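import Mathlib
import Groth.Agent.Lib.LeadGrHEb
import Groth.Agent.Lib.Helper28Normal

/-!
# Local rings of `Proj A` for a Cohen–Macaulay / `(S_k)` graded ring `A` (lead)

Every point of `Proj A` lies in some `D₊(f)`, `f` homogeneous of positive degree, whose ring of sections is
`A_(f)`; by `LeadGrHEb` this ring is Cohen–Macaulay, resp. `(S_k)`, when `A` is, and the stalks are its
localizations.
-/

set_option autoImplicit false
set_option maxHeartbeats 400000
set_option linter.style.haveILetI false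
set_option linter.unusedSectionVars false
set_option linter.unusedVariables false

universe u

noncomputable section

namespace Groth.Agent.Lib.LeadGrHE

open AlgebraicGeometry HomogeneousLocalization CategoryTheory Groth.Agent.Lib.Helper28

section Stalk

/-- the stalk at a point of an affine open with Cohen–Macaulay ring of sections is Cohen–Macaulay -/
theorem isCohenMacaulayLocalRing_stalk_of_sections {X : Scheme.{u}} (U : X.Opens)
    (hU : IsAffineOpen U) (hΓ : LocCoh.IsCohenMacaulayRing Γ(X, U)) (x : X) (hx : x ∈ U) :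
    LocCoh.IsCohenMacaulayLocalRing (X.presheaf.stalk x) := by
  let _ := TopCat.Presheaf.algebra_section_stalk X.presheaf (⟨x, hx⟩ : U)
  have hloc := hU.isLocalization_stalk ⟨x, hx⟩
  have := hΓ.isCohenMacaulayLocalRing_localization (hU.primeIdealOf ⟨x, hx⟩).asIdeal
  exact isCohenMacaulayLocalRing_of_ringEquiv
    (IsLocalization.algEquiv (hU.primeIdealOf ⟨x, hx⟩).asIdeal.primeCompl
      (Localization.AtPrime (hU.primeIdealOf ⟨x, hx⟩).asIdeal) (X.presheaf.stalk x)).toRingEquiv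

/-- the stalk at a point of an affine open whose ring of sections satisfies `(S_k)` satisfies `(S_k)` -/
theorem hasSk_stalk_of_sections {X : Scheme.{u}} (U : X.Opens) (hU : IsAffineOpen U)
    [IsNoetherianRing Γ(X, U)] (k : ℕ) (h : LocCoh.HasSk k Γ(X, U) Γ(X, U)) (x : X) (hx : x ∈ U) :
    LocCoh.HasSk k (X.presheaf.stalk x) (X.presheaf.stalk x) := by
  let _ := TopCat.Presheaf.algebra_section_stalk X.presheaf (⟨x, hx⟩ : U)
  have hloc := hU.isLocalization_stalk ⟨x, hx⟩
  have h1 := hasSk_localization_atPrime (hU.primeIdealOf ⟨x, hx⟩).asIdeal h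
  let e := (IsLocalization.algEquiv (hU.primeIdealOf ⟨x, hx⟩).asIdeal.primeCompl
    (Localization.AtPrime (hU.primeIdealOf ⟨x, hx⟩).asIdeal) (X.presheaf.stalk x)).toRingEquiv
  haveI : IsNoetherianRing (X.presheaf.stalk x) := isNoetherianRing_of_ringEquiv _ e
  exact Groth.Agent.Lib.Helper5.TensorSk.hasSk_self_of_ringEquiv e k h1

end Stalk

section Proj

variable {A : Type u} [CommRing A] (𝒜 : ℕ → AddSubgroup A) [GradedRing 𝒜]

/-- every point of `Proj A` lies in `D₊(f)` for some homogeneous `f` of positive degree -/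
theorem exists_pos_mem_basicOpen (x : Proj 𝒜) :
    ∃ (m : ℕ) (f : A), 0 < m ∧ f ∈ 𝒜 m ∧ x ∈ Proj.basicOpen 𝒜 f := by
  classical
  have h := x.not_irrelevant_le
  rw [SetLike.not_le_iff_exists] at h
  obtain ⟨a, ha, hax⟩ := h
  have hex : ∃ i : ℕ, (GradedRing.proj 𝒜 i a) ∉ x.asHomogeneousIdeal := by
    by_contra hcon
    push Not at hcon
    apply hax
    rw [← DirectSum.sum_support_decompose 𝒜 a]
    exact sum_mem fun i _ => hcon i
  obtain ⟨i, hi⟩ := hex
  refine ⟨i, GradedRing.proj 𝒜 i a, ?_, (DirectSum.decompose 𝒜 a i).2, ?_⟩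
  · rcases Nat.eq_zero_or_pos i with h0 | h0
    · exfalso
      subst h0
      apply hi
      rw [(HomogeneousIdeal.mem_irrelevant_iff _ _).mp ha]
      exact zero_mem _
    · exact h0
  · rw [Proj.mem_basicOpen]
    exact hi

/-- `Proj` of a Noetherian graded Cohen–Macaulay ring has Cohen–Macaulay local rings. -/
theorem isCohenMacaulayLocalRing_stalk_proj (hA : LocCoh.IsCohenMacaulayRing A) (x : Proj 𝒜) :
    LocCoh.IsCohenMacaulayLocalRing ((Proj 𝒜).presheaf.stalk x) := by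
  obtain ⟨m, f, hm, hf, hx⟩ := exists_pos_mem_basicOpen 𝒜 x
  have hCM : LocCoh.IsCohenMacaulayRing (Away 𝒜 f) := isCohenMacaulayRing_away 𝒜 hf hm.ne' hA
  have e : Away 𝒜 f ≃+* Γ(Proj 𝒜, Proj.basicOpen 𝒜 f) :=
    (Proj.basicOpenIsoAway 𝒜 f hf hm).commRingCatIsoToRingEquiv
  have hΓ : LocCoh.IsCohenMacaulayRing Γ(Proj 𝒜, Proj.basicOpen 𝒜 f) := by
    haveI := hCM
    exact isCohenMacaulayRing_of_ringEquiv e
  exact isCohenMacaulayLocalRing_stalk_of_sections (Proj.basicOpen 𝒜 f)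
    (Proj.isAffineOpen_basicOpen 𝒜 f hf hm) hΓ x hx

/-- `Proj` of a Noetherian graded ring satisfying `(S_k)` has local rings satisfying `(S_k)`. -/
theorem hasSk_stalk_proj [IsNoetherianRing A] (k : ℕ) (hA : LocCoh.HasSk k A A) (x : Proj 𝒜) :
    LocCoh.HasSk k ((Proj 𝒜).presheaf.stalk x) ((Proj 𝒜).presheaf.stalk x) := by
  obtain ⟨m, f, hm, hf, hx⟩ := exists_pos_mem_basicOpen 𝒜 x
  obtain ⟨hN, hS⟩ := hasSk_away_aux' 𝒜 hf hm.ne' k hA
  let e : Away 𝒜 f ≃+* Γ(Proj 𝒜, Proj.basicOpen 𝒜 f) :=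
    (Proj.basicOpenIsoAway 𝒜 f hf hm).commRingCatIsoToRingEquiv
  haveI : IsNoetherianRing Γ(Proj 𝒜, Proj.basicOpen 𝒜 f) := isNoetherianRing_of_ringEquiv _ e
  have hΓ : LocCoh.HasSk k Γ(Proj 𝒜, Proj.basicOpen 𝒜 f) Γ(Proj 𝒜, Proj.basicOpen 𝒜 f) :=
    Groth.Agent.Lib.Helper5.TensorSk.hasSk_self_of_ringEquiv e k hS
  exact hasSk_stalk_of_sections (Proj.basicOpen 𝒜 f) (Proj.isAffineOpen_basicOpen 𝒜 f hf hm) k hΓ x hx

end Proj

end Groth.Agent.Lib.LeadGrHE
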