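import Mathlib
import Groth.Agent.Lib.LeadGrHEc
import Groth.Agent.Lib.Helper5GorRing

/-!
# `Proj` of a Gorenstein graded ring satisfying (#) is Gorenstein (lead)

If the `ℤ`-graded ring `A_f` has homogeneous units `e k` of every degree `k` (equivalently a unit of degree one),
then `A_f` is a free `A_(f)`-module on the `e k`; hence `A_(f)` is Gorenstein when `A_f` is (descent of the
Gorenstein property along faithfully flat maps).  Under condition (#) every point of `Proj A` has a
neighbourhood `D₊(f h)` with `deg h = deg f + 1`, and `h / f` is a unit of degree one.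
-/

set_option autoImplicit false
set_option maxHeartbeats 400000
set_option linter.style.haveILetI false
set_option linter.unusedSectionVars false
set_option linter.unusedVariables false

universe u

noncomputable section

namespace Groth.Agent.Lib.LeadGrHE

open AddMonoidAlgebra HomogeneousLocalization AlgebraicGeometry Pointwise

section FreeUnit

variable {A : Type u} [CommRing A] (𝒜 : ℕ → AddSubgroup A) [GradedRing 𝒜]
variable {f : A} {m : ℕ} (hf : f ∈ 𝒜 m)
variable (e : ℤ → Localization.Away f) (he : ∀ k, IsHom (ρZ 𝒜 hf) k (e k))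
  (he1 : ∀ k, e k * e (-k) = 1)

include he in
theorem coeff_ρZ_sum' (c : ℤ →₀ Away 𝒜 f) (k₀ : ℤ) :
    ((ρZ 𝒜 hf) (c.sum fun k r => r.val * e k)).coeff k₀ = (c k₀).val * e k₀ := by
  classical
  rw [Finsupp.sum, coeff_finset_sum]
  have hterm : ∀ k ∈ c.support, ((ρZ 𝒜 hf) ((c k).val * e k)).coeff k₀ =
      if k = k₀ then (c k₀).val * e k₀ else 0 := by
    intro k _
    have h1 : IsHom (ρZ 𝒜 hf) (0 + k) ((c k).val * e k) :=
      (isHom_val 𝒜 _ hf (c k)).mul (he k)
    rw [zero_add] at h1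
    rw [coeff_of_isHom h1]
    by_cases h : k = k₀
    · subst h; rw [if_pos rfl]
    · rw [if_neg h, if_neg h]
  rw [Finset.sum_congr rfl hterm, Finset.sum_ite_eq' c.support k₀]
  split_ifs with h
  · rfl
  · rw [Finsupp.notMem_support_iff.mp h, HomogeneousLocalization.val_zero, zero_mul]

include hf he he1 in
theorem eq_zero_of_sum_eq_zero' (c : ℤ →₀ Away 𝒜 f)
    (h : (c.sum fun k r => r.val * e k) = 0) : c = 0 := by
  ext k₀
  have h1 := coeff_ρZ_sum' 𝒜 hf e he c k₀
  rw [h] at h1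
  have h0 : ((ρZ 𝒜 hf) 0).coeff k₀ = 0 := by simp
  rw [h0] at h1
  have h2 : (c k₀).val = 0 := by
    calc (c k₀).val = (c k₀).val * e k₀ * e (-k₀) := by
          rw [mul_assoc, he1, mul_one]
      _ = 0 := by rw [← h1, zero_mul]
  rw [h2, Finsupp.zero_apply, HomogeneousLocalization.val_zero]

include he he1 in
theorem exists_sum_eq' (x : Localization.Away f) :
    ∃ c : ℤ →₀ Away 𝒜 f, (c.sum fun k r => r.val * e k) = x := by
  classical
  have hρZ := isGrCoaction_coactB 𝒜 (Nat.castAddMonoidHom ℤ) hf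
  have hsum : x = ∑ n ∈ ((ρZ 𝒜 hf) x).coeff.support, ((ρZ 𝒜 hf) x).coeff n :=
    (hρZ.counit x).symm
  rw [hsum]
  refine Finset.sum_induction _
    (fun y => ∃ c : ℤ →₀ Away 𝒜 f, (c.sum fun k r => r.val * e k) = y) ?_ ?_ ?_
  · rintro a b ⟨c, rfl⟩ ⟨c', rfl⟩
    refine ⟨c + c', ?_⟩
    rw [Finsupp.sum_add_index' (by intro k; simp) (by intro k r r'; simp [add_mul])]
  · exact ⟨0, by simp⟩
  · intro n _
    have h1 : IsHom (ρZ 𝒜 hf) 0 (((ρZ 𝒜 hf) x).coeff n * e (-n)) := by
      have := (hρZ.isHom_coeff x n).mul (he (-n))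
      rwa [add_neg_cancel] at this
    obtain ⟨z, hz⟩ := exists_val_eq_of_isHom_zero 𝒜 hf h1
    refine ⟨Finsupp.single n z, ?_⟩
    have he2 : e (-n) * e n = 1 := by rw [mul_comm]; exact he1 n
    rw [Finsupp.sum_single_index (by simp), hz, mul_assoc, he2, mul_one]

include he he1 in
/-- If `A_f` has homogeneous units in every degree, it is a free `A_(f)`-module. -/
theorem faithfullyFlat_away_of_units :
    Module.FaithfullyFlat (Away 𝒜 f) (Localization.Away f) := by
  classical
  let Φ : (ℤ →₀ Away 𝒜 f) →ₗ[Away 𝒜 f] Localization.Away f :=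
    Finsupp.linearCombination _ e
  have hΦ : ∀ c, Φ c = c.sum fun k r => r.val * e k := by
    intro c
    simp only [Φ, Finsupp.linearCombination_apply]
    refine Finsupp.sum_congr fun k _ => ?_
    rw [Algebra.smul_def, HomogeneousLocalization.algebraMap_apply]
  have hinj : Function.Injective Φ := by
    rw [← LinearMap.ker_eq_bot, LinearMap.ker_eq_bot']
    intro c hc
    apply eq_zero_of_sum_eq_zero' 𝒜 hf e he he1
    rw [← hΦ, hc]
  have hsurj : Function.Surjective Φ := by
    intro x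
    obtain ⟨c, hc⟩ := exists_sum_eq' 𝒜 hf e he he1 x
    exact ⟨c, by rw [hΦ, hc]⟩
  exact Module.FaithfullyFlat.of_linearEquiv _ (ℤ →₀ Away 𝒜 f)
    (LinearEquiv.ofBijective Φ ⟨hinj, hsurj⟩).symm

end FreeUnit

section Gor

open Groth.Agent.Lib.Helper5.GorRing

/-- The Gorenstein property descends along faithfully flat maps of Noetherian rings. -/
theorem gorRing_of_faithfullyFlat {R S : Type u} [CommRing R] [CommRing S] [Algebra R S]
    [Module.FaithfullyFlat R S] [IsNoetherianRing R] (hS : LocCoh.IsGorensteinRing S) :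
    LocCoh.IsGorensteinRing R := by
  haveI : IsNoetherianRing S := by haveI := hS; infer_instance
  refine { isGorensteinLocalRing_localization := fun p hp => ?_ }
  obtain ⟨Q, hQ, hQp⟩ := Ideal.exists_isPrime_liesOver_of_faithfullyFlat (B := S) p
  have h1 := ((gor_localization_iff (A := R) Q).mp (hS.isGorensteinLocalRing_localization Q)).1
  have hpQ : p = Q.comap (algebraMap R S) := hQp.over
  subst hpQ
  exact h1

end Gor

section Unit

variable {A : Type u} [CommRing A] (𝒜 : ℕ → AddSubgroup A) [GradedRing 𝒜]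

/-- If `f ∈ A_d`, `h ∈ A_{d+1}` then `A_(fh)` is Gorenstein when `A` is. -/
theorem gorRing_away_mul {d : ℕ} {f h : A} (hf : f ∈ 𝒜 d) (hh : h ∈ 𝒜 (d + 1))
    (hA : LocCoh.IsGorensteinRing A) : LocCoh.IsGorensteinRing (Away 𝒜 (f * h)) := by
  haveI : IsNoetherianRing A := by haveI := hA; infer_instance
  have hg : f * h ∈ 𝒜 (d + (d + 1)) := SetLike.mul_mem_graded hf hh
  set g := f * h with hgdef
  -- the unit `h / f = h² / g` of degree one
  let uval : Localization.Away g := Localization.mk (h * h) (pw g 1)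
  let uinv : Localization.Away g := Localization.mk (f * f) (pw g 1)
  have hmul : uval * uinv = 1 := by
    change Localization.mk (h * h) (pw g 1) * Localization.mk (f * f) (pw g 1) = 1
    rw [Localization.mk_mul]
    have : h * h * (f * f) = ((pw g 1 * pw g 1 : Submonoid.powers g) : A) := by
      simp only [pw, Submonoid.coe_mul, pow_one, hgdef]
      ring
    rw [this, Localization.mk_self]
  let U : (Localization.Away g)ˣ := ⟨uval, uinv, hmul, by rw [mul_comm]; exact hmul⟩
  have hU1 : IsHom (ρZ 𝒜 hg) 1 uval := by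
    have := isHom_coactB_mk 𝒜 (Nat.castAddMonoidHom ℤ) hg (SetLike.mul_mem_graded hh hh) 1
    have hd : (Nat.castAddMonoidHom ℤ) (d + 1 + (d + 1)) -
        1 • (Nat.castAddMonoidHom ℤ) (d + (d + 1)) = 1 := by
      simp only [Nat.coe_castAddMonoidHom, one_smul]
      push_cast
      ring
    rwa [hd] at this
  have hU2 : IsHom (ρZ 𝒜 hg) (-1) uinv := by
    have := isHom_coactB_mk 𝒜 (Nat.castAddMonoidHom ℤ) hg (SetLike.mul_mem_graded hf hf) 1
    have hd : (Nat.castAddMonoidHom ℤ) (d + d) -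
        1 • (Nat.castAddMonoidHom ℤ) (d + (d + 1)) = -1 := by
      simp only [Nat.coe_castAddMonoidHom, one_smul]
      push_cast
      ring
    rwa [hd] at this
  let e : ℤ → Localization.Away g := fun k => ((U ^ k : (Localization.Away g)ˣ) : Localization.Away g)
  have he : ∀ k, IsHom (ρZ 𝒜 hg) k (e k) := by
    intro k
    obtain ⟨n, rfl | rfl⟩ := k.eq_nat_or_neg
    · have h1 : e (n : ℤ) = uval ^ n := by
        change ((U ^ (n : ℤ) : (Localization.Away g)ˣ) : Localization.Away g) = uval ^ n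
        rw [zpow_natCast, Units.val_pow_eq_pow_val]
      rw [h1]
      have := hU1.pow n
      rwa [nsmul_eq_mul, mul_one] at this
    · have h1 : e (-(n : ℤ)) = uinv ^ n := by
        change ((U ^ (-(n : ℤ)) : (Localization.Away g)ˣ) : Localization.Away g) = uinv ^ n
        rw [zpow_neg, zpow_natCast, ← inv_pow, Units.val_pow_eq_pow_val]
        rfl
      rw [h1]
      have := hU2.pow n
      rwa [nsmul_eq_mul, mul_neg, mul_one] at this
  have he1 : ∀ k, e k * e (-k) = 1 := by
    intro k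
    change ((U ^ k : (Localization.Away g)ˣ) : Localization.Away g) *
      ((U ^ (-k) : (Localization.Away g)ˣ) : Localization.Away g) = 1
    rw [← Units.val_mul, zpow_neg, mul_inv_cancel, Units.val_one]
  haveI := faithfullyFlat_away_of_units 𝒜 hg e he he1
  haveI : IsNoetherianRing (Localization.Away g) :=
    IsLocalization.isNoetherianRing (Submonoid.powers g) _ inferInstance
  haveI : IsNoetherianRing (Away 𝒜 g) :=
    Groth.Agent.Lib.Helper28.isNoetherianRing_of_faithfullyFlat (R := Away 𝒜 g)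
      (S := Localization.Away g)
  have hB : LocCoh.IsGorensteinRing (Localization.Away g) := by
    haveI := hA
    exact Groth.Agent.Lib.Helper5.GorRing.gorRing_of_isLocalization (Submonoid.powers g) _
  exact gorRing_of_faithfullyFlat (R := Away 𝒜 g) (S := Localization.Away g) hB

end Unit

section Proj

variable {A : Type u} [CommRing A] (𝒜 : ℕ → AddSubgroup A) [GradedRing 𝒜]

/-- Under (#), for every point of `Proj A` and every large `d` some element of `A_d` does not vanish there. -/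
theorem exists_notMem_of_sharp
    (hsharp : ∃ d₀ : ℕ, ∀ d : ℕ, d₀ ≤ d → ∀ n : ℕ, 1 ≤ n →
      𝒜 ((n + 1) * d) = AddSubgroup.closure ((𝒜 d : Set A) * (𝒜 (n * d) : Set A)))
    (x : Proj 𝒜) : ∃ d₁ : ℕ, ∀ d : ℕ, d₁ ≤ d → ∃ f ∈ 𝒜 d, f ∉ x.asHomogeneousIdeal := by
  obtain ⟨d₀, hd₀⟩ := hsharp
  obtain ⟨e, g₀, he, hg₀, hxg₀⟩ := exists_pos_mem_basicOpen 𝒜 x
  rw [Proj.mem_basicOpen] at hxg₀
  refine ⟨d₀, fun d hd => ?_⟩
  by_contra hcon
  push Not at hcon
  -- `g₀ ^ d ∈ A_{e d}` is not in `x`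
  have h1 : g₀ ^ d ∈ 𝒜 (e * d) := by
    have := SetLike.pow_mem_graded d hg₀
    rwa [smul_eq_mul, mul_comm] at this
  have h2 : g₀ ^ d ∉ x.asHomogeneousIdeal := fun hmem =>
    hxg₀ (x.isPrime.mem_of_pow_mem d hmem)
  apply h2
  obtain ⟨n, rfl⟩ : ∃ n, e = n + 1 := ⟨e - 1, by omega⟩
  rcases Nat.eq_zero_or_pos n with hn | hn
  · subst hn
    rw [zero_add, one_mul] at h1
    exact hcon _ h1
  · rw [hd₀ d hd n hn] at h1
    refine AddSubgroup.closure_induction (p := fun y _ => y ∈ x.asHomogeneousIdeal) ?_ ?_ ?_ ?_ h1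
    · rintro y ⟨a, ha, b, hb, rfl⟩
      exact Ideal.mul_mem_right _ _ (hcon a ha)
    · exact zero_mem _
    · intro a b _ _ ha hb
      exact add_mem ha hb
    · intro a _ ha
      exact (Ideal.neg_mem_iff _).mpr ha

/-- `Proj` of a Noetherian graded Gorenstein ring satisfying (#) has Gorenstein local rings. -/
theorem isGorensteinLocalRing_stalk_proj (hA : LocCoh.IsGorensteinRing A)
    (hsharp : ∃ d₀ : ℕ, ∀ d : ℕ, d₀ ≤ d → ∀ n : ℕ, 1 ≤ n →
      𝒜 ((n + 1) * d) = AddSubgroup.closure ((𝒜 d : Set A) * (𝒜 (n * d) : Set A)))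
    (x : Proj 𝒜) : LocCoh.IsGorensteinLocalRing ((Proj 𝒜).presheaf.stalk x) := by
  obtain ⟨d₁, hd₁⟩ := exists_notMem_of_sharp 𝒜 hsharp x
  obtain ⟨f, hf, hfx⟩ := hd₁ (d₁ + 1) (Nat.le_succ _)
  obtain ⟨h, hh, hhx⟩ := hd₁ (d₁ + 1 + 1) (by omega)
  have hgx : f * h ∉ x.asHomogeneousIdeal := fun hmem =>
    (x.isPrime.mem_or_mem hmem).elim hfx hhx
  have hg : f * h ∈ 𝒜 (d₁ + 1 + (d₁ + 1 + 1)) := SetLike.mul_mem_graded hf hh
  have hpos : 0 < d₁ + 1 + (d₁ + 1 + 1) := by omega
  have hx : x ∈ Proj.basicOpen 𝒜 (f * h) := (Proj.mem_basicOpen 𝒜 _ x).mpr hgx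
  have hGor : LocCoh.IsGorensteinRing (Away 𝒜 (f * h)) := gorRing_away_mul 𝒜 hf hh hA
  let e : Away 𝒜 (f * h) ≃+* Γ(Proj 𝒜, Proj.basicOpen 𝒜 (f * h)) :=
    (Proj.basicOpenIsoAway 𝒜 (f * h) hg hpos).commRingCatIsoToRingEquiv
  have hΓ : LocCoh.IsGorensteinRing Γ(Proj 𝒜, Proj.basicOpen 𝒜 (f * h)) := by
    haveI := hGor
    exact Groth.Agent.Lib.Helper5.GorRing.gorRing_of_ringEquiv e
  have hU := Proj.isAffineOpen_basicOpen 𝒜 (f * h) hg hpos
  let _ := TopCat.Presheaf.algebra_section_stalk (Proj 𝒜).presheaf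
    (⟨x, hx⟩ : (Proj.basicOpen 𝒜 (f * h) : (Proj 𝒜).Opens))
  have hloc := hU.isLocalization_stalk ⟨x, hx⟩
  haveI := hΓ.isGorensteinLocalRing_localization (hU.primeIdealOf ⟨x, hx⟩).asIdeal
  exact Groth.Agent.Lib.Helper5.GorRing.gorLocal_of_ringEquiv
    (IsLocalization.algEquiv (hU.primeIdealOf ⟨x, hx⟩).asIdeal.primeCompl
      (Localization.AtPrime (hU.primeIdealOf ⟨x, hx⟩).asIdeal)
      ((Proj 𝒜).presheaf.stalk x)).toRingEquiv

end Proj

end Groth.Agent.Lib.LeadGrHE
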