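import Mathlib

set_option maxHeartbeats 400000
set_option linter.style.haveILetI false
set_option linter.unusedSectionVars false
set_option autoImplicit false

/-!
# `H₁(L_{K'/Λ}) ⊗ K ≅ H₁(L_{K/Λ})` for `Λ ↠ K'` and `K/K'` finite separable
-/

namespace Groth.Agent.Lib.LeadH1Sep

open Polynomial TensorProduct Algebra IntermediateField

universe u

section prim

variable {Λ K' K : Type u} [CommRing Λ] [Field K'] [Field K] [Algebra Λ K'] [Algebra Λ K]
  [Algebra K' K] [IsScalarTower Λ K' K]

lemma exists_prim (hsurj : Function.Surjective (algebraMap Λ K'))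
    [FiniteDimensional K' K] [Algebra.IsSeparable K' K] :
    ∃ (θ : K) (G : Λ[X]), G.Monic ∧ aeval θ G = 0 ∧ IsUnit (aeval θ (derivative G)) ∧
      (∀ y : K, ∃ p : Λ[X], aeval θ p = y) ∧
      (∀ p : Λ[X], aeval θ p = 0 →
        ∃ q r : Λ[X], p = G * q + r ∧ ∀ i, algebraMap Λ K' (r.coeff i) = 0) := by
  obtain ⟨θ, hθ⟩ := Field.exists_primitive_element K' K
  have hint : IsIntegral K' θ := Algebra.IsIntegral.isIntegral θ
  have hmon : (minpoly K' θ).Monic := minpoly.monic hint
  have hsep : (minpoly K' θ).Separable := Algebra.IsSeparable.isSeparable K' θ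
  obtain ⟨G, hGmap, -, hGmon⟩ := lifts_and_natDegree_eq_and_monic
    ((mem_lifts _).mpr (map_surjective _ hsurj _)) hmon
  have haeval : ∀ p : Λ[X], aeval θ p = aeval θ (p.map (algebraMap Λ K')) :=
    fun p => (aeval_map_algebraMap K' θ p).symm
  refine ⟨θ, G, hGmon, ?_, ?_, ?_, ?_⟩
  · rw [haeval, hGmap, minpoly.aeval]
  · rw [haeval, ← derivative_map, hGmap]
    exact (hsep.aeval_derivative_ne_zero (minpoly.aeval K' θ)).isUnit
  · intro y
    have hy : y ∈ (K'⟮θ⟯).toSubalgebra := by
      rw [hθ, IntermediateField.top_toSubalgebra]; exact Algebra.mem_top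
    rw [IntermediateField.adjoin_simple_toSubalgebra_of_isAlgebraic hint.isAlgebraic,
      Algebra.adjoin_singleton_eq_range_aeval] at hy
    obtain ⟨p', rfl⟩ := (AlgHom.mem_range _).mp hy
    obtain ⟨p, rfl⟩ := map_surjective _ hsurj p'
    exact ⟨p, haeval p⟩
  · intro p hp
    rw [haeval] at hp
    obtain ⟨q', hq'⟩ := minpoly.dvd K' θ hp
    obtain ⟨q, rfl⟩ := map_surjective _ hsurj q'
    refine ⟨q, p - G * q, by ring, fun i => ?_⟩
    rw [← coeff_map, Polynomial.map_sub, Polynomial.map_mul, hGmap, hq', sub_self, coeff_zero]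

end prim

section pair

variable {Λ : Type u} [CommRing Λ]

/-- The standard étale pair `(G, G')`. -/
noncomputable def pair (G : Λ[X]) (hG : G.Monic) : StandardEtalePair Λ :=
  ⟨G, hG, derivative G, ⟨1, 0, 1, by simp⟩⟩

/-- The tautological presentation of the standard étale algebra. -/
noncomputable def pres (G : Λ[X]) (hG : G.Monic) :
    StandardEtalePresentation Λ (pair G hG).Ring :=
  ⟨pair G hG, (pair G hG).X, (pair G hG).hasMap_X,
    by simpa [StandardEtalePair.lift_X_left] using Function.bijective_id⟩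

variable {K' K : Type u} [Field K'] [Field K] [Algebra Λ K'] [Algebra Λ K]
  [Algebra K' K] [IsScalarTower Λ K' K]

lemma ker_lift (G : Λ[X]) (hG : G.Monic) (θ : K) (hmap : (pair G hG).HasMap θ)
    (hker : ∀ p : Λ[X], aeval θ p = 0 →
        ∃ q r : Λ[X], p = G * q + r ∧ ∀ i, algebraMap Λ K' (r.coeff i) = 0)
    (a : (pair G hG).Ring) (ha : (pair G hG).lift θ hmap a = 0) :
    a ∈ Ideal.map (algebraMap Λ (pair G hG).Ring) (RingHom.ker (algebraMap Λ K')) := by
  obtain ⟨p, n, hpn⟩ := (pres G hG).exists_mul_aeval_x_g_pow_eq_aeval_x a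
  change a * aeval (pair G hG).X (derivative G) ^ n = aeval (pair G hG).X p at hpn
  have hp : aeval θ p = 0 := by
    have h1 := congrArg ((pair G hG).lift θ hmap) hpn
    have h2 := aeval_algHom_apply ((pair G hG).lift θ hmap) (pair G hG).X p
    rw [StandardEtalePair.lift_X] at h2
    rw [h2, ← h1, map_mul, ha, zero_mul]
  obtain ⟨q, r, rfl, hr⟩ := hker p hp
  have hG0 : aeval (pair G hG).X G = 0 := (pair G hG).hasMap_X.1
  have hmem : aeval (pair G hG).X (G * q + r) ∈
      Ideal.map (algebraMap Λ (pair G hG).Ring) (RingHom.ker (algebraMap Λ K')) := by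
    rw [map_add, map_mul, hG0, zero_mul, zero_add, aeval_eq_sum_range]
    refine Ideal.sum_mem _ fun i _ => ?_
    rw [Algebra.smul_def]
    exact Ideal.mul_mem_right _ _ (Ideal.mem_map_of_mem _ (RingHom.mem_ker.mpr (hr i)))
  have hu : IsUnit (aeval (pair G hG).X (derivative G) ^ n) := ((pair G hG).hasMap_X.2).pow n
  obtain ⟨v, hv⟩ := hu
  have hav : a = (a * aeval (pair G hG).X (derivative G) ^ n) * ↑v⁻¹ := by
    rw [← hv, mul_assoc, Units.mul_inv, mul_one]
  rw [hav, hpn]
  exact Ideal.mul_mem_right _ _ hmem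

end pair

section glue

variable {R S T : Type u} [CommRing R] [CommRing S] [CommRing T] [Algebra R S] [Algebra R T]
  [Algebra S T] [IsScalarTower R S T]

set_option backward.isDefEq.respectTransparency false in
/-- The hom from the canonical (polynomial) extension to any extension. -/
noncomputable def selfHom (P : Extension.{u} R S) : (Generators.self R S).toExtension.Hom P where
  toRingHom := (MvPolynomial.aeval P.σ).toRingHom
  toRingHom_algebraMap := (MvPolynomial.aeval P.σ).commutes
  algebraMap_toRingHom := by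
    have : (IsScalarTower.toAlgHom R P.Ring S).comp (MvPolynomial.aeval P.σ) =
        IsScalarTower.toAlgHom _ (Generators.self R S).toExtension.Ring _ := by
      ext i
      change _ = algebraMap (Generators.self R S).Ring _ (.X i)
      simp
    exact DFunLike.congr_fun this

set_option backward.isDefEq.respectTransparency false in
lemma bijective_map_selfHom (P : Extension.{u} R S) [FormallySmooth R P.Ring] :
    Function.Bijective (Extension.H1Cotangent.map (selfHom P)) := by
  haveI : FormallySmooth R (Generators.self R S).toExtension.Ring :=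
    inferInstanceAs (FormallySmooth R (MvPolynomial _ _))
  have h := Extension.H1Cotangent.equivOfFormallySmooth_toLinearMap (selfHom P)
  rw [← h]
  exact (Extension.H1Cotangent.equivOfFormallySmooth _ _).bijective

theorem glue (P : Extension.{u} R S) (Q : Extension.{u} R T)
    [FormallySmooth R P.Ring] [FormallySmooth R Q.Ring] (f : P.Hom Q)
    (hf : Function.Bijective ((Extension.H1Cotangent.map f).liftBaseChange T)) :
    Function.Bijective ((Algebra.H1Cotangent.map R R S T).liftBaseChange T) := by
  obtain ⟨F, hF⟩ : ∃ F : (Generators.self R S).toExtension.Hom (Generators.self R T).toExtension,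
      Algebra.H1Cotangent.map R R S T = Extension.H1Cotangent.map F := ⟨_, rfl⟩
  rw [hF]
  have hα := bijective_map_selfHom P
  have hβ := bijective_map_selfHom Q
  have hcomm : ∀ x, Extension.H1Cotangent.map (selfHom Q) (Extension.H1Cotangent.map F x) =
      Extension.H1Cotangent.map f (Extension.H1Cotangent.map (selfHom P) x) := by
    intro x
    rw [← Extension.H1Cotangent.map_comp_apply, ← Extension.H1Cotangent.map_comp_apply,
      Extension.H1Cotangent.map_eq ((selfHom Q).comp F) (f.comp (selfHom P))]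
  have hα' : Function.Bijective ((Extension.H1Cotangent.map (selfHom P)).baseChange T) := by
    rw [LinearMap.baseChange_eq_ltensor]
    exact (LinearEquiv.lTensor T (LinearEquiv.ofBijective _ hα)).bijective
  have heq : ∀ t, Extension.H1Cotangent.map (selfHom Q)
        ((Extension.H1Cotangent.map F).liftBaseChange T t) =
      (Extension.H1Cotangent.map f).liftBaseChange T
        ((Extension.H1Cotangent.map (selfHom P)).baseChange T t) := by
    intro t
    induction t using TensorProduct.induction_on with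
    | zero => simp only [map_zero]
    | tmul c x =>
      rw [LinearMap.liftBaseChange_tmul, LinearMap.baseChange_tmul, LinearMap.liftBaseChange_tmul,
        map_smul, hcomm]
    | add t₁ t₂ h₁ h₂ => simp only [map_add, h₁, h₂]
  constructor
  · intro t₁ t₂ h
    apply hα'.injective
    apply hf.injective
    rw [← heq, ← heq, h]
  · intro y
    obtain ⟨t, ht⟩ := hf.surjective (Extension.H1Cotangent.map (selfHom Q) y)
    obtain ⟨t', rfl⟩ := hα'.surjective t
    refine ⟨t', hβ.injective ?_⟩
    rw [heq, ht]

lemma bij_ext {P : Extension.{u} R S} {Q : Extension.{u} R T} (f : P.Hom Q)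
    [alg : Algebra P.Ring Q.Ring] (halg : algebraMap P.Ring Q.Ring = f.toRingHom)
    [Module.Flat P.Ring Q.Ring]
    (hJ : ∀ a ∈ Q.ker, a ∈ Ideal.map (algebraMap P.Ring Q.Ring) P.ker) :
    Function.Bijective ((f.mapKer halg).liftBaseChange Q.Ring) := by
  have key : ∀ t : Q.Ring ⊗[P.Ring] P.ker,
      (((f.mapKer halg).liftBaseChange Q.Ring t : Q.ker) : Q.Ring) =
      TensorProduct.rid P.Ring Q.Ring ((P.ker.subtype).lTensor Q.Ring t) := by
    intro t
    induction t using TensorProduct.induction_on with
    | zero => simp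
    | tmul a x =>
      have h1 : ((f.mapKer halg).liftBaseChange Q.Ring (a ⊗ₜ x) : Q.ker) =
          a • (f.mapKer halg x) := LinearMap.liftBaseChange_tmul _ _ _ _
      have h2 : TensorProduct.rid P.Ring Q.Ring ((P.ker.subtype).lTensor Q.Ring (a ⊗ₜ x)) =
          (x : P.Ring) • a := by
        rw [LinearMap.lTensor_tmul, TensorProduct.rid_tmul, Submodule.subtype_apply]
      rw [h1, h2, Submodule.coe_smul, Extension.Hom.mapKer_apply_coe, ← halg, smul_eq_mul,
        Algebra.smul_def, mul_comm]
    | add t₁ t₂ h₁ h₂ => simp only [map_add, Submodule.coe_add, h₁, h₂]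
  constructor
  · intro t₁ t₂ h
    apply Module.Flat.lTensor_preserves_injective_linearMap (M := Q.Ring) P.ker.subtype
      P.ker.injective_subtype
    apply (TensorProduct.rid P.Ring Q.Ring).injective
    rw [← key, ← key, h]
  · have hle : Ideal.map (algebraMap P.Ring Q.Ring) P.ker ≤
        LinearMap.range ((Submodule.subtype Q.ker) ∘ₗ ((f.mapKer halg).liftBaseChange Q.Ring)) := by
      rw [Ideal.map, Ideal.span_le]
      rintro _ ⟨x, hx, rfl⟩
      refine ⟨1 ⊗ₜ ⟨x, hx⟩, ?_⟩
      rw [LinearMap.comp_apply, LinearMap.liftBaseChange_tmul, one_smul, Submodule.subtype_apply,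
        Extension.Hom.mapKer_apply_coe, ← halg]
    intro j
    obtain ⟨t, ht⟩ := hle (hJ j.1 j.2)
    exact ⟨t, Subtype.ext ht⟩

end glue

section main

variable {Λ K' K : Type u} [CommRing Λ] [Field K'] [Field K] [Algebra Λ K'] [Algebra Λ K]
  [Algebra K' K] [IsScalarTower Λ K' K]

/-- The trivial extension `Λ ↠ K'`. -/
noncomputable def P0 (hsurj : Function.Surjective (algebraMap Λ K')) : Extension.{u} Λ K' where
  Ring := Λ
  σ := fun x => (hsurj x).choose
  algebraMap_σ := fun x => (hsurj x).choose_spec

/-- The standard étale extension `Λ[X]_{G'}/(G) ↠ K`. -/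
noncomputable def Q1 (G : Λ[X]) (hG : G.Monic) (θ : K) (hmap : (pair G hG).HasMap θ)
    (hsurjπ : Function.Surjective ((pair G hG).lift θ hmap)) : Extension.{u} Λ K :=
  Extension.ofSurjective ((pair G hG).lift θ hmap) hsurjπ

/-- The hom of extensions `P0 → Q1`. -/
noncomputable def f01 (hsurj : Function.Surjective (algebraMap Λ K'))
    (G : Λ[X]) (hG : G.Monic) (θ : K) (hmap : (pair G hG).HasMap θ)
    (hsurjπ : Function.Surjective ((pair G hG).lift θ hmap)) :
    (P0 hsurj).Hom (Q1 G hG θ hmap hsurjπ) where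
  toRingHom := algebraMap Λ (pair G hG).Ring
  toRingHom_algebraMap := fun _ => rfl
  algebraMap_toRingHom := fun x =>
    (((pair G hG).lift θ hmap).commutes x).trans (IsScalarTower.algebraMap_apply Λ K' K x)

theorem core_aux (hsurj : Function.Surjective (algebraMap Λ K'))
    (G : Λ[X]) (hG : G.Monic) (θ : K) (hmap : (pair G hG).HasMap θ)
    (hsurjπ : Function.Surjective ((pair G hG).lift θ hmap))
    (hkerπ : ∀ a : (pair G hG).Ring, (pair G hG).lift θ hmap a = 0 →
      a ∈ Ideal.map (algebraMap Λ (pair G hG).Ring) (RingHom.ker (algebraMap Λ K'))) :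
    Function.Bijective ((Algebra.H1Cotangent.map Λ Λ K' K).liftBaseChange K) := by
  haveI : FormallySmooth Λ (P0 hsurj).Ring := inferInstanceAs (FormallySmooth Λ Λ)
  haveI : FormallySmooth Λ (Q1 G hG θ hmap hsurjπ).Ring :=
    inferInstanceAs (FormallySmooth Λ (pair G hG).Ring)
  letI alg : Algebra (P0 hsurj).Ring (Q1 G hG θ hmap hsurjπ).Ring :=
    (inferInstance : Algebra Λ (pair G hG).Ring)
  haveI : Module.Flat (P0 hsurj).Ring (Q1 G hG θ hmap hsurjπ).Ring :=
    inferInstanceAs (Module.Flat Λ (pair G hG).Ring)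
  have halg : algebraMap (P0 hsurj).Ring (Q1 G hG θ hmap hsurjπ).Ring =
      (f01 hsurj G hG θ hmap hsurjπ).toRingHom := rfl
  have H₁ : (f01 hsurj G hG θ hmap hsurjπ).toRingHom.FormallyEtale := by
    change (algebraMap Λ (pair G hG).Ring).FormallyEtale
    exact RingHom.formallyEtale_algebraMap.mpr inferInstance
  have H₂ : Function.Bijective (((f01 hsurj G hG θ hmap hsurjπ).mapKer halg).liftBaseChange
      (Q1 G hG θ hmap hsurjπ).Ring) :=
    bij_ext (f01 hsurj G hG θ hmap hsurjπ) halg (fun a ha => hkerπ a ha)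
  have hbij : Function.Bijective
      ((Extension.H1Cotangent.map (f01 hsurj G hG θ hmap hsurjπ)).liftBaseChange K) :=
    (Extension.tensorH1CotangentOfFormallyEtale (f01 hsurj G hG θ hmap hsurjπ) halg H₁ H₂).bijective
  exact glue (P0 hsurj) (Q1 G hG θ hmap hsurjπ) (f01 hsurj G hG θ hmap hsurjπ) hbij

theorem core (hsurj : Function.Surjective (algebraMap Λ K'))
    [Module.Finite Λ K] [Algebra.IsSeparable K' K] :
    Function.Bijective ((Algebra.H1Cotangent.map Λ Λ K' K).liftBaseChange K) := by
  haveI : FiniteDimensional K' K := Module.Finite.of_restrictScalars_finite Λ K' K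
  obtain ⟨θ, G, hG, h0, hunit, hsurjθ, hker⟩ := exists_prim (Λ := Λ) (K' := K') (K := K) hsurj
  have hmap : (pair G hG).HasMap θ := ⟨h0, hunit⟩
  have hsurjπ : Function.Surjective ((pair G hG).lift θ hmap) := by
    intro y
    obtain ⟨p, rfl⟩ := hsurjθ y
    refine ⟨aeval (pair G hG).X p, ?_⟩
    rw [← aeval_algHom_apply, StandardEtalePair.lift_X]
  exact core_aux hsurj G hG θ hmap hsurjπ (ker_lift G hG θ hmap hker)

end main

end Groth.Agent.Lib.LeadH1Sep
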