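import Mathlib

/-!
# Signed maximal minors of an `(r+1) × r` matrix (for the Hilbert–Burch statements S11459/S11458)
-/

set_option autoImplicit false
set_option maxHeartbeats 400000
set_option linter.style.haveILetI false
set_option linter.unusedSectionVars false
set_option linter.unusedVariables false

universe u

namespace Groth.Agent.Lib.LeadHB

section minors

variable {S : Type*} [CommRing S] {r : ℕ}

/-- signed maximal minors of an `(r+1) × r` matrix. -/
def sminor (M : Matrix (Fin (r + 1)) (Fin r) S) (i : Fin (r + 1)) : S :=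
  (-1 : S) ^ (i : ℕ) * (M.submatrix i.succAbove id).det

/-- the square matrix with first column `c` and remaining columns those of `M`. -/
def augment (c : Fin (r + 1) → S) (M : Matrix (Fin (r + 1)) (Fin r) S) :
    Matrix (Fin (r + 1)) (Fin (r + 1)) S :=
  Matrix.of fun i => Fin.cons (c i) (M i)

theorem augment_zero (c : Fin (r + 1) → S) (M : Matrix (Fin (r + 1)) (Fin r) S) (i : Fin (r + 1)) :
    augment c M i 0 = c i := rfl

theorem augment_succ (c : Fin (r + 1) → S) (M : Matrix (Fin (r + 1)) (Fin r) S) (i : Fin (r + 1))
    (j : Fin r) : augment c M i j.succ = M i j := rfl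

theorem augment_submatrix (c : Fin (r + 1) → S) (M : Matrix (Fin (r + 1)) (Fin r) S)
    (i : Fin (r + 1)) : (augment c M).submatrix i.succAbove Fin.succ = M.submatrix i.succAbove id := by
  ext a b
  rfl

theorem det_augment (c : Fin (r + 1) → S) (M : Matrix (Fin (r + 1)) (Fin r) S) :
    (augment c M).det = ∑ i, c i * sminor M i := by
  rw [Matrix.det_succ_column_zero]
  refine Finset.sum_congr rfl fun i _ => ?_
  rw [augment_submatrix, augment_zero]
  unfold sminor
  ring

/-- the signed minors annihilate the matrix. -/
theorem sum_mul_sminor (M : Matrix (Fin (r + 1)) (Fin r) S) (j : Fin r) :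
    ∑ i, M i j * sminor M i = 0 := by
  rw [← det_augment (fun i => M i j) M]
  exact Matrix.det_zero_of_column_eq (Fin.succ_ne_zero j).symm (fun k => rfl)

/-- **Cramer**: a row vector annihilating the matrix is proportional to the signed minors. -/
theorem mul_sminor_comm (M : Matrix (Fin (r + 1)) (Fin r) S) (v : Fin (r + 1) → S)
    (hv : ∀ j, ∑ i, v i * M i j = 0) (i k : Fin (r + 1)) :
    sminor M k * v i = v k * sminor M i := by
  obtain ⟨N, hN⟩ : ∃ N, N = augment (Pi.single k (1 : S)) M := ⟨_, rfl⟩
  have hdet : N.det = sminor M k := by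
    rw [hN, det_augment, Finset.sum_eq_single k]
    · rw [Pi.single_eq_same, one_mul]
    · intro b _ hb
      rw [Pi.single_eq_of_ne hb, zero_mul]
    · intro h; exact absurd (Finset.mem_univ k) h
  have hvN : Matrix.vecMul v N = v k • Pi.single (0 : Fin (r + 1)) (1 : S) := by
    funext c
    refine Fin.cases ?_ (fun j => ?_) c
    · rw [Matrix.vecMul, dotProduct]
      simp only [hN, augment_zero, Pi.smul_apply, Pi.single_eq_same, smul_eq_mul, mul_one]
      rw [Finset.sum_eq_single k]
      · rw [Pi.single_eq_same, mul_one]
      · intro b _ hb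
        rw [Pi.single_eq_of_ne hb, mul_zero]
      · intro h; exact absurd (Finset.mem_univ k) h
    · rw [Matrix.vecMul, dotProduct]
      simp only [hN, augment_succ, Pi.smul_apply, smul_eq_mul]
      rw [hv j, Pi.single_eq_of_ne (Fin.succ_ne_zero j), mul_zero]
  have h1 : Matrix.vecMul (Matrix.vecMul v N) N.adjugate = N.det • v := by
    rw [Matrix.vecMul_vecMul, Matrix.mul_adjugate, Matrix.vecMul_smul, Matrix.vecMul_one]
  have hadj : N.adjugate 0 i = sminor M i := by
    rw [Matrix.adjugate_apply, Matrix.det_succ_row _ i, Finset.sum_eq_single (0 : Fin (r + 1))]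
    · rw [Matrix.updateRow_self, Pi.single_eq_same, Fin.succAbove_zero,
        Matrix.submatrix_updateRow_succAbove, hN, augment_submatrix]
      unfold sminor
      simp
    · intro b _ hb
      rw [Matrix.updateRow_self, Pi.single_eq_of_ne hb, mul_zero, zero_mul]
    · intro h; exact absurd (Finset.mem_univ _) h
  have h2 := congrFun h1 i
  rw [hvN, Matrix.smul_vecMul, Pi.smul_apply, Pi.smul_apply, Matrix.single_one_vecMul, Matrix.row_apply, hadj, hdet,
    smul_eq_mul, smul_eq_mul] at h2
  exact h2.symm

/-- signed minors commute with ring homomorphisms. -/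
theorem map_sminor {T : Type*} [CommRing T] (f : S →+* T) (M : Matrix (Fin (r + 1)) (Fin r) S)
    (i : Fin (r + 1)) : f (sminor M i) = sminor (M.map f) i := by
  unfold sminor
  rw [map_mul, map_pow, map_neg, map_one, RingHom.map_det, RingHom.mapMatrix_apply]
  rfl

end minors

end Groth.Agent.Lib.LeadHB
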