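import Mathlib
import Groth.Agent.Lib.LeadGlobArtU
import Groth.Agent.Lib.Helper6SmNorm
import Groth.Agent.Lib.Helper11SmInt
import Groth.Agent.Lib.Helper19SmVarB

/-!
# Hartogs-type lemmas for flat algebras over local Artinian rings with smooth special fibre
(for S11459)
-/

set_option autoImplicit false
set_option maxHeartbeats 400000
set_option linter.style.haveILetI false
set_option linter.unusedSectionVars false
set_option linter.unusedVariables false

universe u

open AlgebraicGeometry CategoryTheory Limits TopologicalSpace TensorProduct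

namespace Groth.Agent.Lib.LeadHB

open Groth.Agent.Lib.Helper22.SqZero

section pure

variable {C : Type u} [CommRing C] (J : Ideal C)

/-- the multiplication map `J ⊗ M → M`. -/
noncomputable def mulMap (M : Type u) [AddCommGroup M] [Module C M] : J ⊗[C] M →ₗ[C] M :=
  (TensorProduct.lid C M).toLinearMap ∘ₗ (LinearMap.rTensor M J.subtype)

theorem mulMap_tmul (M : Type u) [AddCommGroup M] [Module C M] (j : J) (m : M) :
    mulMap J M (j ⊗ₜ m) = (j : C) • m := by
  simp [mulMap]

theorem mulMap_injective (M : Type u) [AddCommGroup M] [Module C M] [Module.Flat C M] :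
    Function.Injective (mulMap J M) :=
  (TensorProduct.lid C M).injective.comp (Module.Flat.iff_rTensor_injective'.mp inferInstance J)

/-- an ideal with flat quotient is a pure submodule: `I' ∩ J R = J I'`. -/
theorem mem_mul_of_mem_inf {R : Type u} [CommRing R] [Algebra C R] (I' : Ideal R)
    [Module.Flat C (R ⧸ I')] {x : R} (hx1 : x ∈ I') (hx2 : x ∈ J.map (algebraMap C R)) :
    x ∈ J.map (algebraMap C R) * I' := by
  obtain ⟨q, hq⟩ : ∃ q : R →ₗ[C] R ⧸ I', q = (Ideal.Quotient.mkₐ C I').toLinearMap := ⟨_, rfl⟩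
  have hqapp : ∀ y, q y = Ideal.Quotient.mk I' y := fun y => by rw [hq]; rfl
  obtain ⟨ι, hι⟩ : ∃ ι : (I'.restrictScalars C) →ₗ[C] R, ι = (I'.restrictScalars C).subtype :=
    ⟨_, rfl⟩
  have hιapp : ∀ y, ι y = (y : R) := fun y => by rw [hι]; rfl
  have hex : Function.Exact ι q := by
    intro y
    rw [hqapp, Ideal.Quotient.eq_zero_iff_mem]
    constructor
    · intro hy; exact ⟨⟨y, hy⟩, hιapp _⟩
    · rintro ⟨z, rfl⟩; rw [hιapp]; exact z.2
  have hqs : Function.Surjective q := fun y => by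
    obtain ⟨z, rfl⟩ := Ideal.Quotient.mk_surjective y
    exact ⟨z, hqapp z⟩
  have hex2 : Function.Exact (ι.lTensor J) (q.lTensor J) := lTensor_exact J hex hqs
  have hz : ∃ z : J ⊗[C] R, mulMap J R z = x := by
    have hx3 : x ∈ (J • (⊤ : Submodule C R)) := by
      rw [Ideal.smul_top_eq_map]; exact hx2
    refine Submodule.smul_induction_on hx3 (fun j hj r _ => ⟨(⟨j, hj⟩ : J) ⊗ₜ r, ?_⟩) ?_
    · rw [mulMap_tmul]
    · rintro a b ⟨za, rfl⟩ ⟨zb, rfl⟩
      exact ⟨za + zb, map_add _ _ _⟩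
  have key : ∀ w : J ⊗[C] (I'.restrictScalars C),
      mulMap J R (ι.lTensor J w) ∈ J.map (algebraMap C R) * I' := by
    intro w
    induction w using TensorProduct.induction_on with
    | zero => simp
    | tmul j y =>
      rw [LinearMap.lTensor_tmul, mulMap_tmul, hιapp, Algebra.smul_def]
      exact Ideal.mul_mem_mul (Ideal.mem_map_of_mem _ j.2) y.2
    | add a b ha hb =>
      rw [map_add, map_add]
      exact add_mem ha hb
  obtain ⟨z, rfl⟩ := hz
  have hnat : ∀ z : J ⊗[C] R, mulMap J (R ⧸ I') (q.lTensor J z) = q (mulMap J R z) := by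
    intro z
    induction z using TensorProduct.induction_on with
    | zero => simp
    | tmul j r => rw [LinearMap.lTensor_tmul, mulMap_tmul, mulMap_tmul, map_smul]
    | add a b ha hb => rw [map_add, map_add, map_add, map_add, ha, hb]
  have h0 : q.lTensor J z = 0 := by
    apply mulMap_injective J (R ⧸ I')
    rw [hnat, map_zero, hqapp]
    exact Ideal.Quotient.eq_zero_iff_mem.mpr hx1
  obtain ⟨w, rfl⟩ := (hex2 z).mp h0
  exact key w

end pure

section normal

/-- the spectrum of a smooth algebra over a field has normal local rings. -/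
theorem isNormalScheme_of_smooth_field (K A₀ : Type u) [CommRing K] (hK : IsField K) [CommRing A₀]
    [Algebra K A₀] [Algebra.Smooth K A₀] : Pi1.IsNormalScheme (Spec (CommRingCat.of A₀)) := by
  have hN : EGA4.IsNormalRing A₀ :=
    Groth.Agent.Lib.Helper6.SmNorm.isNormalRing_of_smooth K A₀
      (Groth.Agent.Lib.Helper11SmInt.isNormalRing_of_isField K hK)
  intro x
  haveI : x.asIdeal.IsPrime := x.isPrime
  obtain ⟨hd, hic⟩ := hN x.asIdeal
  letI k : Algebra A₀ ((Spec (CommRingCat.of A₀)).presheaf.stalk x) :=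
    StructureSheaf.stalkAlgebra A₀ x
  haveI : IsLocalization.AtPrime ((Spec (CommRingCat.of A₀)).presheaf.stalk x) x.asIdeal :=
    StructureSheaf.IsLocalization.to_stalk A₀ x
  let e : Localization.AtPrime x.asIdeal ≃ₐ[A₀] (Spec (CommRingCat.of A₀)).presheaf.stalk x :=
    IsLocalization.algEquiv x.asIdeal.primeCompl _ _
  have hd' : IsDomain ((Spec (CommRingCat.of A₀)).presheaf.stalk x) :=
    e.toRingEquiv.toMulEquiv.isDomain_iff.mp hd
  exact ⟨hd', IsIntegrallyClosed.of_equiv e.toRingEquiv⟩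

end normal

section hartogs

variable {C : Type u} [CommRing C] [IsLocalRing C] [IsArtinianRing C] {R : Type u} [CommRing R]
  [IsNoetherianRing R] [Algebra C R] [Module.Flat C R]
  (hnorm : Pi1.IsNormalScheme (Spec (CommRingCat.of
    (R ⧸ (IsLocalRing.maximalIdeal C).map (algebraMap C R)))))
  {n : ℕ} (x : Fin n → R)
  (hht : ∀ p : Ideal R, p.IsPrime → (∀ i, x i ∈ p) → (2 : ℕ∞) ≤ p.height)

/-- `R → Γ(Spec R, ⊤)`. -/
noncomputable abbrev toΓ (R : Type u) [CommRing R] : R →+* Γ(Spec (CommRingCat.of R), ⊤) :=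
  (Scheme.ΓSpecIso (CommRingCat.of R)).inv.hom

theorem toΓ_injective (R : Type u) [CommRing R] : Function.Injective (toΓ R) :=
  (ConcreteCategory.bijective_of_isIso (Scheme.ΓSpecIso (CommRingCat.of R)).inv).1

theorem toΓ_surjective (R : Type u) [CommRing R] : Function.Surjective (toΓ R) :=
  (ConcreteCategory.bijective_of_isIso (Scheme.ΓSpecIso (CommRingCat.of R)).inv).2

/-- the basic opens of the `x i`. -/
noncomputable abbrev DD (i : Fin n) : (Spec (CommRingCat.of R)).Opens :=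
  (Spec (CommRingCat.of R)).basicOpen (toΓ R (x i))

/-- the complement of `V(x)`. -/
noncomputable abbrev UU : (Spec (CommRingCat.of R)).Opens := ⨆ i, DD x i

theorem DD_le_UU (i : Fin n) : DD x i ≤ UU x := le_iSup (DD x) i

theorem isUnit_res_DD (i : Fin n) :
    IsUnit (rX' (le_top : DD x i ≤ ⊤) (toΓ R (x i))) :=
  Groth.Agent.Lib.Helper22.Hartogs.isUnit_resW (W := ⊤) (toΓ R (x i))

include hnorm hht in
theorem bijective_res_UU : Function.Bijective (rX' (le_top : UU x ≤ ⊤)) := by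
  refine Groth.Agent.Lib.LeadGlobArtU.main_S11462 C R hnorm (UU x) ?_
  intro p hp
  haveI : p.asIdeal.IsPrime := p.isPrime
  refine hht p.asIdeal inferInstance fun i => ?_
  by_contra hxi
  apply hp
  refine Opens.mem_iSup.mpr ⟨i, ?_⟩
  change p ∈ (Spec (CommRingCat.of R)).basicOpen
    ((Scheme.ΓSpecIso (CommRingCat.of R)).inv.hom (x i))
  rw [basicOpen_eq_of_affine]
  exact hxi

include hnorm hht in
/-- an element vanishing on all `D(x i)` vanishes. -/
theorem eq_zero_of_res_DD_eq_zero (a : R)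
    (ha : ∀ i, rX' (le_top : DD x i ≤ ⊤) (toΓ R a) = 0) : a = 0 := by
  apply toΓ_injective R
  rw [map_zero]
  apply (bijective_res_UU hnorm x hht).1
  rw [map_zero]
  refine (Spec (CommRingCat.of R)).sheaf.eq_of_locally_eq' (fun i => DD x i) (UU x)
    (fun i => homOfLE (DD_le_UU x i)) le_rfl _ 0 ?_
  intro i
  change rX' (DD_le_UU x i) (rX' (le_top : UU x ≤ ⊤) (toΓ R a)) = rX' (DD_le_UU x i) 0
  rw [rX'_rX', ha i, map_zero]

include hnorm hht in
/-- an element killing all the `x i` vanishes. -/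
theorem eq_zero_of_forall_mul_eq_zero (a : R) (ha : ∀ i, a * x i = 0) : a = 0 := by
  apply eq_zero_of_res_DD_eq_zero hnorm x hht
  intro i
  have h1 : rX' (le_top : DD x i ≤ ⊤) (toΓ R a) * rX' (le_top : DD x i ≤ ⊤) (toΓ R (x i)) = 0 := by
    rw [← map_mul, ← map_mul, ha i, map_zero, map_zero]
  exact (isUnit_res_DD x i).mul_left_eq_zero.mp h1

include hnorm hht in
/-- **Hartogs**: a vector proportional to `x` on the complement of `V(x)` is a multiple of `x`. -/
theorem exists_eq_mul_of_cross (y : Fin n → R) (hxy : ∀ i k, x i * y k = x k * y i) :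
    ∃ b : R, ∀ i, y i = b * x i := by
  -- the local sections `y i / x i`
  have hs : ∀ i, ∃ s : Γ(Spec (CommRingCat.of R), DD x i),
      s * rX' (le_top : DD x i ≤ ⊤) (toΓ R (x i)) = rX' (le_top : DD x i ≤ ⊤) (toΓ R (y i)) := by
    intro i
    obtain ⟨u, hu⟩ := isUnit_res_DD x i
    refine ⟨rX' (le_top : DD x i ≤ ⊤) (toΓ R (y i)) * ↑u⁻¹, ?_⟩
    rw [← hu, mul_assoc, Units.inv_mul, mul_one]
  choose s hs using hs
  have hcompat : TopCat.Presheaf.IsCompatible (Spec (CommRingCat.of R)).presheaf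
      (fun i => DD x i) s := by
    intro i k
    change rX' (inf_le_left : DD x i ⊓ DD x k ≤ DD x i) (s i) =
      rX' (inf_le_right : DD x i ⊓ DD x k ≤ DD x k) (s k)
    have hui : IsUnit (rX' (le_top : DD x i ⊓ DD x k ≤ ⊤) (toΓ R (x i))) := by
      rw [← rX'_rX' (inf_le_left : DD x i ⊓ DD x k ≤ DD x i) le_top]
      exact (isUnit_res_DD x i).map _
    have huk : IsUnit (rX' (le_top : DD x i ⊓ DD x k ≤ ⊤) (toΓ R (x k))) := by
      rw [← rX'_rX' (inf_le_right : DD x i ⊓ DD x k ≤ DD x k) le_top]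
      exact (isUnit_res_DD x k).map _
    apply (hui.mul huk).mul_left_injective
    change _ * _ = _ * _
    have e1 : rX' (inf_le_left : DD x i ⊓ DD x k ≤ DD x i) (s i) *
        (rX' (le_top : DD x i ⊓ DD x k ≤ ⊤) (toΓ R (x i)) *
          rX' (le_top : DD x i ⊓ DD x k ≤ ⊤) (toΓ R (x k))) =
        rX' (le_top : DD x i ⊓ DD x k ≤ ⊤) (toΓ R (y i * x k)) := by
      rw [← mul_assoc, ← rX'_rX' (inf_le_left : DD x i ⊓ DD x k ≤ DD x i) le_top (toΓ R (x i)),
        ← map_mul, hs i, rX'_rX', ← map_mul, ← map_mul]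
    have e2 : rX' (inf_le_right : DD x i ⊓ DD x k ≤ DD x k) (s k) *
        (rX' (le_top : DD x i ⊓ DD x k ≤ ⊤) (toΓ R (x i)) *
          rX' (le_top : DD x i ⊓ DD x k ≤ ⊤) (toΓ R (x k))) =
        rX' (le_top : DD x i ⊓ DD x k ≤ ⊤) (toΓ R (y k * x i)) := by
      rw [mul_comm (rX' (le_top : DD x i ⊓ DD x k ≤ ⊤) (toΓ R (x i))), ← mul_assoc,
        ← rX'_rX' (inf_le_right : DD x i ⊓ DD x k ≤ DD x k) le_top (toΓ R (x k)),
        ← map_mul, hs k, rX'_rX', ← map_mul, ← map_mul]
    rw [e1, e2]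
    congr 2
    rw [mul_comm (y i), mul_comm (y k)]
    exact (hxy i k).symm
  obtain ⟨sU, hsU, -⟩ := (Spec (CommRingCat.of R)).sheaf.existsUnique_gluing'
    (fun i => DD x i) (UU x) (fun i => homOfLE (DD_le_UU x i)) le_rfl s hcompat
  have hsU' : ∀ i, rX' (DD_le_UU x i) sU = s i := hsU
  obtain ⟨β, hβ⟩ := (bijective_res_UU hnorm x hht).2 sU
  obtain ⟨b, rfl⟩ := toΓ_surjective R β
  refine ⟨b, fun i => ?_⟩
  rw [← sub_eq_zero]
  apply eq_zero_of_res_DD_eq_zero hnorm x hht
  intro k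
  have hbk : rX' (le_top : DD x k ≤ ⊤) (toΓ R b) = s k := by
    rw [← hsU' k, ← hβ, rX'_rX']
  apply (isUnit_res_DD x k).mul_left_eq_zero.mp
  have hρ : ∀ a a' : R, rX' (le_top : DD x k ≤ ⊤) (toΓ R (a * a')) =
      rX' (le_top : DD x k ≤ ⊤) (toΓ R a) * rX' (le_top : DD x k ≤ ⊤) (toΓ R a') :=
    fun a a' => by rw [map_mul, map_mul]
  have e3 : rX' (le_top : DD x k ≤ ⊤) (toΓ R (y i - b * x i)) *
      rX' (le_top : DD x k ≤ ⊤) (toΓ R (x k)) =
      rX' (le_top : DD x k ≤ ⊤) (toΓ R (y i * x k - x i * y k)) := by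
    rw [map_sub, map_sub, map_sub, map_sub, sub_mul, hρ, hρ, hρ, hbk, ← hs k]
    ring
  rw [e3, hxy i k, mul_comm (y i), sub_self, map_zero, map_zero]

end hartogs

end Groth.Agent.Lib.LeadHB
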