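import Mathlib
import Groth.Agent.Lib.LeadHB
import Groth.Agent.Lib.LeadHB2

/-!
# Lifting Hilbert–Burch matrices along small extensions (S11459)
-/

set_option autoImplicit false
set_option maxHeartbeats 400000
set_option linter.style.haveILetI false
set_option linter.unusedSectionVars false
set_option linter.unusedVariables false

universe u

open AlgebraicGeometry

namespace Groth.Agent.Lib.LeadHB

set_option maxHeartbeats 1600000 in
/-- **Lifting a Hilbert–Burch matrix.** -/
theorem exists_lift_matrix {C' : Type u} [CommRing C'] [IsLocalRing C'] [IsArtinianRing C']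
    (J : Ideal C') (hJ : IsLocalRing.maximalIdeal C' * J = ⊥) (hJne : J ≠ ⊤)
    {R : Type u} [CommRing R] [IsNoetherianRing R] [Algebra C' R] [Module.Flat C' R]
    (hnorm : Pi1.IsNormalScheme (Spec (CommRingCat.of
      (R ⧸ (IsLocalRing.maximalIdeal C').map (algebraMap C' R)))))
    {A : Type u} [CommRing A] (π : R →+* A) (hπ : Function.Surjective π)
    (hker : RingHom.ker π = J.map (algebraMap C' R))
    (r : ℕ) (φ : Matrix (Fin (r + 1)) (Fin r) A)
    (hcodim : ∀ p : Ideal A, p.IsPrime → Ideal.span (Set.range (sminor φ)) ≤ p →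
      (2 : ℕ∞) ≤ p.height)
    (I' : Ideal R) [Module.Flat C' (R ⧸ I')]
    (hI' : I'.map π = Ideal.span (Set.range (sminor φ))) :
    ∃ φ' : Matrix (Fin (r + 1)) (Fin r) R, φ'.map π = φ ∧
      I' = Ideal.span (Set.range (sminor φ')) := by
  obtain ⟨Jr, hJr⟩ : ∃ Jr : Ideal R, Jr = J.map (algebraMap C' R) := ⟨_, rfl⟩
  rw [← hJr] at hker
  have hJm : J ≤ IsLocalRing.maximalIdeal C' := IsLocalRing.le_maximalIdeal hJne
  have hJJ : J * J = ⊥ := by
    rw [← le_bot_iff, ← hJ]
    exact Ideal.mul_mono_left hJm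
  have hJrJr : Jr * Jr = ⊥ := by rw [hJr, ← Ideal.map_mul, hJJ, Ideal.map_bot]
  have hJrnil : Jr ≤ nilradical R := by
    intro a ha
    refine ⟨2, ?_⟩
    have h := Ideal.mul_mem_mul ha ha
    rw [hJrJr] at h
    rw [pow_two]
    exact (Ideal.mem_bot).mp h
  have hpure : ∀ x : R, x ∈ I' → x ∈ Jr → x ∈ Jr * I' := by
    intro x hx1 hx2
    rw [hJr] at hx2 ⊢
    exact mem_mul_of_mem_inf J I' hx1 hx2
  -- Step 1: lift the generators
  have h1 : ∀ i, ∃ y ∈ I', π y = sminor φ i := by
    intro i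
    have h : sminor φ i ∈ I'.map π := by rw [hI']; exact Ideal.subset_span ⟨i, rfl⟩
    exact (Ideal.mem_map_iff_of_surjective π hπ).mp h
  choose f'' hf''I hf''π using h1
  -- Step 2: they generate
  have hS_le : Ideal.span (Set.range f'') ≤ I' :=
    Ideal.span_le.mpr (by rintro _ ⟨i, rfl⟩; exact hf''I i)
  have hmapS : (Ideal.span (Set.range f'')).map π = Ideal.span (Set.range (sminor φ)) := by
    rw [Ideal.map_span, ← Set.range_comp]
    congr 2
    exact funext hf''π
  have hI'le : I' ≤ Ideal.span (Set.range f'') ⊔ Jr * I' := by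
    intro x hx
    have hx' : π x ∈ (Ideal.span (Set.range f'')).map π := by
      rw [hmapS, ← hI']; exact Ideal.mem_map_of_mem π hx
    obtain ⟨y, hy, hyx⟩ := (Ideal.mem_map_iff_of_surjective π hπ).mp hx'
    have hxy : x - y ∈ Jr := by rw [← hker, RingHom.mem_ker, map_sub, hyx, sub_self]
    have hxyI : x - y ∈ I' := sub_mem hx (hS_le hy)
    have h3 := hpure _ hxyI hxy
    have hx2 : x = y + (x - y) := by ring
    rw [hx2]
    exact Submodule.add_mem_sup hy h3
  have hIS : I' = Ideal.span (Set.range f'') := by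
    apply le_antisymm _ hS_le
    have h3 : Jr * I' ≤ Ideal.span (Set.range f'') := by
      calc Jr * I' ≤ Jr * (Ideal.span (Set.range f'') ⊔ Jr * I') := Ideal.mul_mono_right hI'le
        _ = Jr * Ideal.span (Set.range f'') ⊔ Jr * (Jr * I') := Ideal.mul_sup _ _ _
        _ ≤ Ideal.span (Set.range f'') := by
            rw [← mul_assoc, hJrJr, Ideal.bot_mul, sup_bot_eq]
            exact Ideal.mul_le_right
    intro x hx
    obtain ⟨y, hy, z, hz, rfl⟩ := Submodule.mem_sup.mp (hI'le hx)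
    exact add_mem hy (h3 hz)
  -- Step 3: lift the relations
  have hψ : ∀ i j, ∃ a : R, π a = φ i j := fun i j => hπ _
  choose ψ hψ using hψ
  have hrel : ∀ j, ∑ i, f'' i * ψ i j ∈ Jr * I' := by
    intro j
    apply hpure
    · exact Ideal.sum_mem _ fun i _ => Ideal.mul_mem_right _ _ (hf''I i)
    · rw [← hker, RingHom.mem_ker, map_sum]
      simp only [map_mul, hf''π, hψ]
      rw [← sum_mul_sminor φ j]
      exact Finset.sum_congr rfl fun i _ => mul_comm _ _
  have hc : ∀ j, ∃ c : Fin (r + 1) → R, (∀ i, c i ∈ Jr) ∧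
      ∑ i, c i * f'' i = ∑ i, f'' i * ψ i j := by
    intro j
    have h := hrel j
    rw [hIS, ← Ideal.smul_eq_mul] at h
    obtain ⟨a, ha, hsum⟩ := (Submodule.mem_ideal_smul_span_iff_exists_sum Jr f'' _).mp h
    refine ⟨fun i => a i, ha, ?_⟩
    rw [← hsum, Finsupp.sum_fintype a _ (fun i => by rw [zero_smul])]
    rfl
  choose c hcJ hcsum using hc
  obtain ⟨φ', hφ'⟩ : ∃ φ' : Matrix (Fin (r + 1)) (Fin r) R, ∀ i j, φ' i j = ψ i j - c j i :=
    ⟨Matrix.of fun i j => ψ i j - c j i, fun i j => rfl⟩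
  have hφ'π : φ'.map π = φ := by
    ext i j
    rw [Matrix.map_apply, hφ', map_sub, hψ]
    have : π (c j i) = 0 := by rw [← RingHom.mem_ker, hker]; exact hcJ j i
    rw [this, sub_zero]
  have hφ'rel : ∀ j, ∑ i, f'' i * φ' i j = 0 := by
    intro j
    simp only [hφ', mul_sub]
    rw [Finset.sum_sub_distrib, ← hcsum j, sub_eq_zero]
    exact Finset.sum_congr rfl fun i _ => mul_comm _ _
  -- Step 4: the minors of the lifted matrix
  have hπg : ∀ i, π (sminor φ' i) = sminor φ i := fun i => by rw [map_sminor, hφ'π]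
  have hcramer : ∀ i k, sminor φ' k * f'' i = f'' k * sminor φ' i :=
    fun i k => mul_sminor_comm φ' f'' hφ'rel i k
  -- heights
  have hht : ∀ (v : Fin (r + 1) → R), (∀ i, π (v i) = sminor φ i) → ∀ p : Ideal R, p.IsPrime →
      (∀ i, v i ∈ p) → (2 : ℕ∞) ≤ p.height := by
    intro v hv p hp hvp
    have hkp : RingHom.ker π ≤ p := by rw [hker]; exact hJrnil.trans (nilradical_le_prime p)
    haveI hQ : (p.map π).IsPrime := Ideal.map_isPrime_of_surjective hπ hkp
    have hcm : (p.map π).comap π = p := by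
      rw [Ideal.comap_map_of_surjective π hπ, ← RingHom.ker_eq_comap_bot]
      exact sup_eq_left.mpr hkp
    have h2 := hcodim (p.map π) hQ (Ideal.span_le.mpr (by
      rintro _ ⟨i, rfl⟩
      rw [← hv i]
      exact Ideal.mem_map_of_mem π (hvp i)))
    have h3 := Groth.Agent.Lib.Helper19.SmVar.height_le_height_comap_of_surjective π hπ (p.map π)
    rw [hcm] at h3
    exact h2.trans h3
  -- Step 5: Hartogs
  obtain ⟨b, hb⟩ := exists_eq_mul_of_cross hnorm f'' (hht f'' hf''π) (sminor φ') (fun i k => by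
    rw [mul_comm (f'' i)]; exact hcramer i k)
  obtain ⟨b', hb'⟩ := exists_eq_mul_of_cross hnorm (sminor φ') (hht _ hπg) f'' (fun i k => by
    rw [mul_comm (sminor φ' k)]; exact hcramer k i)
  refine ⟨φ', hφ'π, ?_⟩
  rw [hIS]
  apply le_antisymm
  · refine Ideal.span_le.mpr ?_
    rintro _ ⟨i, rfl⟩
    change f'' i ∈ _
    rw [hb' i]
    exact Ideal.mul_mem_left _ _ (Ideal.subset_span ⟨i, rfl⟩)
  · refine Ideal.span_le.mpr ?_
    rintro _ ⟨i, rfl⟩
    change sminor φ' i ∈ _
    rw [hb i]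
    exact Ideal.mul_mem_left _ _ (Ideal.subset_span ⟨i, rfl⟩)

/-- **S11459.** -/
theorem main_S11459 (C' : Type u) [CommRing C'] [IsLocalRing C'] [IsArtinianRing C'] (J : Ideal C')
    (hJ : IsLocalRing.maximalIdeal C' * J = ⊥) (hJne : J ≠ ⊤) (A' : Type u) [CommRing A']
    [Algebra C' A'] [Module.Flat C' A'] [Algebra.FiniteType C' A']
    [Algebra.Smooth (C' ⧸ IsLocalRing.maximalIdeal C')
      (A' ⧸ (IsLocalRing.maximalIdeal C').map (algebraMap C' A'))]
    (r : ℕ) (φ : Matrix (Fin (r + 1)) (Fin r) (A' ⧸ J.map (algebraMap C' A')))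
    (hcodim : ∀ p : Ideal (A' ⧸ J.map (algebraMap C' A')), p.IsPrime →
      Ideal.span (Set.range (fun i : Fin (r + 1) =>
        (-1 : (A' ⧸ J.map (algebraMap C' A'))) ^ (i : ℕ) * ((φ).submatrix i.succAbove id).det)) ≤ p →
        (2 : ℕ∞) ≤ p.height)
    (I' : Ideal A') [Module.Flat C' (A' ⧸ I')]
    (hI' : I'.map (Ideal.Quotient.mk (J.map (algebraMap C' A'))) =
      Ideal.span (Set.range (fun i : Fin (r + 1) =>
        (-1 : (A' ⧸ J.map (algebraMap C' A'))) ^ (i : ℕ) * ((φ).submatrix i.succAbove id).det))) :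
    ∃ φ' : Matrix (Fin (r + 1)) (Fin r) A',
      φ'.map (Ideal.Quotient.mk (J.map (algebraMap C' A'))) = φ ∧
      I' = Ideal.span (Set.range (fun i : Fin (r + 1) =>
        (-1 : A') ^ (i : ℕ) * ((φ').submatrix i.succAbove id).det)) := by
  haveI : IsNoetherianRing C' := inferInstance
  haveI : IsNoetherianRing A' := Algebra.FiniteType.isNoetherianRing C' A'
  have hfld : IsField (C' ⧸ IsLocalRing.maximalIdeal C') :=
    (Ideal.Quotient.maximal_ideal_iff_isField_quotient _).mp (IsLocalRing.maximalIdeal.isMaximal C')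
  have hnorm := isNormalScheme_of_smooth_field (C' ⧸ IsLocalRing.maximalIdeal C')
    (A' ⧸ (IsLocalRing.maximalIdeal C').map (algebraMap C' A')) hfld
  exact exists_lift_matrix J hJ hJne hnorm (Ideal.Quotient.mk (J.map (algebraMap C' A')))
    Ideal.Quotient.mk_surjective Ideal.mk_ker r φ hcodim I' hI'

end Groth.Agent.Lib.LeadHB
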