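import Mathlib
import Groth.Agent.Lib.LeadHB3
import Groth.Agent.Lib.Helper5HilbertBurch
import Groth.Agent.Lib.Helper28FormalFibres
import Groth.Agent.Lib.Helper19FlatResExtB

/-!
# Hilbert–Burch resolutions for flat deformations in codimension two (S11458)

Induction on the nilpotency index of the maximal ideal of the Artinian base, lifting the matrix
along each small extension with `exists_lift_matrix`; exactness from helper5's
`hilbertBurch_lift`.
-/

set_option autoImplicit false
set_option maxHeartbeats 400000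
set_option linter.style.haveILetI false
set_option linter.unusedSectionVars false
set_option linter.unusedVariables false

universe u

open AlgebraicGeometry

namespace Groth.Agent.Lib.LeadHB

/-- a normal ring has a normal spectrum. -/
theorem isNormalScheme_of_isNormalRing (A₀ : Type u) [CommRing A₀] (hN : EGA4.IsNormalRing A₀) :
    Pi1.IsNormalScheme (Spec (CommRingCat.of A₀)) := by
  intro x
  haveI : x.asIdeal.IsPrime := x.isPrime
  obtain ⟨hd, hic⟩ := hN x.asIdeal
  letI k : Algebra A₀ ((Spec (CommRingCat.of A₀)).presheaf.stalk x) :=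
    StructureSheaf.stalkAlgebra A₀ x
  haveI : IsLocalization.AtPrime ((Spec (CommRingCat.of A₀)).presheaf.stalk x) x.asIdeal :=
    StructureSheaf.IsLocalization.to_stalk A₀ x
  let e : Localization.AtPrime x.asIdeal ≃ₐ[A₀] (Spec (CommRingCat.of A₀)).presheaf.stalk x :=
    IsLocalization.algEquiv x.asIdeal.primeCompl _ _
  have hd' : IsDomain ((Spec (CommRingCat.of A₀)).presheaf.stalk x) :=
    e.toRingEquiv.toMulEquiv.isDomain_iff.mp hd
  exact ⟨hd', IsIntegrallyClosed.of_equiv e.toRingEquiv⟩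

section quot

variable {C R : Type u} [CommRing C] [CommRing R] [Algebra C R] (J : Ideal C)

/-- flatness of the double quotient. -/
theorem flat_quot_quot (I : Ideal R) [Module.Flat C (R ⧸ I)] :
    Module.Flat (C ⧸ J) ((R ⧸ J.map (algebraMap C R)) ⧸
      I.map (Ideal.Quotient.mk (J.map (algebraMap C R)))) := by
  haveI h1 : Module.Flat (C ⧸ J) ((R ⧸ I) ⧸ J.map (algebraMap C (R ⧸ I))) :=
    Groth.Agent.Lib.Helper19.FlatResExt.flat_quotient_map J
  have hJ : J.map (algebraMap C (R ⧸ I)) =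
      (J.map (algebraMap C R)).map (Ideal.Quotient.mk I) := by
    rw [Ideal.map_map]
    rfl
  let e : ((R ⧸ I) ⧸ J.map (algebraMap C (R ⧸ I))) ≃+*
      ((R ⧸ J.map (algebraMap C R)) ⧸ I.map (Ideal.Quotient.mk (J.map (algebraMap C R)))) :=
    (Ideal.quotEquivOfEq hJ).trans (DoubleQuot.quotQuotEquivComm I (J.map (algebraMap C R)))
  have he : ∀ (c : C ⧸ J) (x : (R ⧸ I) ⧸ J.map (algebraMap C (R ⧸ I))),
      e (c • x) = c • e x := by
    intro c x
    obtain ⟨c, rfl⟩ := Ideal.Quotient.mk_surjective c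
    obtain ⟨x, rfl⟩ := Ideal.Quotient.mk_surjective x
    obtain ⟨x, rfl⟩ := Ideal.Quotient.mk_surjective x
    rw [Algebra.smul_def, Algebra.smul_def, map_mul]
    congr 1
  let el : ((R ⧸ I) ⧸ J.map (algebraMap C (R ⧸ I))) ≃ₗ[C ⧸ J]
      ((R ⧸ J.map (algebraMap C R)) ⧸ I.map (Ideal.Quotient.mk (J.map (algebraMap C R)))) :=
    { e.toAddEquiv with map_smul' := he }
  exact Module.Flat.of_linearEquiv el.symm

variable [IsLocalRing C] [IsLocalRing (C ⧸ J)]

theorem map_maximalIdeal_quot :
    (IsLocalRing.maximalIdeal (C ⧸ J)).map (algebraMap (C ⧸ J) (R ⧸ J.map (algebraMap C R))) =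
      ((IsLocalRing.maximalIdeal C).map (algebraMap C R)).map
        (Ideal.Quotient.mk (J.map (algebraMap C R))) := by
  rw [← Groth.Agent.Lib.Helper19.FlatResExt.map_maximalIdeal_of_surjective (Ideal.Quotient.mk J)
    Ideal.Quotient.mk_surjective, Ideal.map_map, Ideal.map_map]
  rfl

theorem isNormalRing_quot (hJm : J ≤ IsLocalRing.maximalIdeal C)
    (hN : EGA4.IsNormalRing (R ⧸ (IsLocalRing.maximalIdeal C).map (algebraMap C R))) :
    EGA4.IsNormalRing ((R ⧸ J.map (algebraMap C R)) ⧸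
      (IsLocalRing.maximalIdeal (C ⧸ J)).map
        (algebraMap (C ⧸ J) (R ⧸ J.map (algebraMap C R)))) := by
  have hsup : J.map (algebraMap C R) ⊔ (IsLocalRing.maximalIdeal C).map (algebraMap C R) =
      (IsLocalRing.maximalIdeal C).map (algebraMap C R) :=
    sup_eq_right.mpr (Ideal.map_mono hJm)
  let e : (R ⧸ (IsLocalRing.maximalIdeal C).map (algebraMap C R)) ≃+*
      ((R ⧸ J.map (algebraMap C R)) ⧸ (IsLocalRing.maximalIdeal (C ⧸ J)).map
        (algebraMap (C ⧸ J) (R ⧸ J.map (algebraMap C R)))) :=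
    ((Ideal.quotEquivOfEq hsup.symm).trans
      (DoubleQuot.quotQuotEquivQuotSup (J.map (algebraMap C R))
        ((IsLocalRing.maximalIdeal C).map (algebraMap C R))).symm).trans
      (Ideal.quotEquivOfEq (map_maximalIdeal_quot (R := R) J).symm)
  exact Groth.Agent.Lib.Helper28.isNormalRing_of_ringEquiv e hN

end quot

section step

variable {C : Type u} [CommRing C] [IsLocalRing C] [IsArtinianRing C]
  {R : Type u} [CommRing R] [IsNoetherianRing R] [Algebra C R] [Module.Flat C R]

/-- one step of the induction: lifting along a small extension. -/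
theorem exists_matrix_step (J : Ideal C) (hJ : IsLocalRing.maximalIdeal C * J = ⊥) (hJne : J ≠ ⊤)
    (hN : EGA4.IsNormalRing (R ⧸ (IsLocalRing.maximalIdeal C).map (algebraMap C R)))
    (I : Ideal R) [Module.Flat C (R ⧸ I)] (r : ℕ) (φ₀ : Matrix (Fin (r + 1)) (Fin r) R)
    (hcodim : ∀ p : Ideal R, p.IsPrime → I ≤ p → (2 : ℕ∞) ≤ p.height)
    (hbar : ∃ φb : Matrix (Fin (r + 1)) (Fin r) (R ⧸ J.map (algebraMap C R)),
      (∀ i j, φb i j - Ideal.Quotient.mk (J.map (algebraMap C R)) (φ₀ i j) ∈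
        ((IsLocalRing.maximalIdeal C).map (algebraMap C R)).map
          (Ideal.Quotient.mk (J.map (algebraMap C R)))) ∧
      I.map (Ideal.Quotient.mk (J.map (algebraMap C R))) = Ideal.span (Set.range (sminor φb))) :
    ∃ φ : Matrix (Fin (r + 1)) (Fin r) R,
      (∀ i j, φ i j - φ₀ i j ∈ (IsLocalRing.maximalIdeal C).map (algebraMap C R)) ∧
      I = Ideal.span (Set.range (sminor φ)) := by
  obtain ⟨φb, hφb1, hφb2⟩ := hbar
  have hJm : J ≤ IsLocalRing.maximalIdeal C := IsLocalRing.le_maximalIdeal hJne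
  have hJJ : J * J = ⊥ := by
    rw [← le_bot_iff, ← hJ]
    exact Ideal.mul_mono_left hJm
  have hJnil : J.map (algebraMap C R) ≤ nilradical R := by
    intro a ha
    refine ⟨2, ?_⟩
    have h := Ideal.mul_mem_mul ha ha
    rw [← Ideal.map_mul, hJJ, Ideal.map_bot] at h
    rw [pow_two]
    exact (Ideal.mem_bot).mp h
  have hcodimb : ∀ p : Ideal (R ⧸ J.map (algebraMap C R)), p.IsPrime →
      Ideal.span (Set.range (sminor φb)) ≤ p → (2 : ℕ∞) ≤ p.height := by
    intro p hp hle
    have h1 := hcodim (p.comap (Ideal.Quotient.mk (J.map (algebraMap C R))))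
      (Ideal.comap_isPrime _ _) (by rw [← Ideal.map_le_iff_le_comap, hφb2]; exact hle)
    exact h1.trans (Groth.Agent.Lib.Helper28.height_comap_le_of_ker_le_nilradical
      Ideal.Quotient.mk_surjective (by rw [Ideal.mk_ker]; exact hJnil) p)
  obtain ⟨φ', h1, h2⟩ := exists_lift_matrix J hJ hJne (isNormalScheme_of_isNormalRing _ hN)
    (Ideal.Quotient.mk (J.map (algebraMap C R))) Ideal.Quotient.mk_surjective Ideal.mk_ker r φb
    hcodimb I hφb2
  refine ⟨φ', fun i j => ?_, h2⟩
  have h3 : Ideal.Quotient.mk (J.map (algebraMap C R)) (φ' i j - φ₀ i j) ∈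
      ((IsLocalRing.maximalIdeal C).map (algebraMap C R)).map
        (Ideal.Quotient.mk (J.map (algebraMap C R))) := by
    rw [map_sub]
    have : Ideal.Quotient.mk (J.map (algebraMap C R)) (φ' i j) = φb i j := by
      rw [← h1]; rfl
    rw [this]
    exact hφb1 i j
  obtain ⟨y, hy, hyx⟩ := (Ideal.mem_map_iff_of_surjective _ Ideal.Quotient.mk_surjective).mp h3
  have h4 : φ' i j - φ₀ i j - y ∈ J.map (algebraMap C R) := by
    rw [← Ideal.Quotient.eq_zero_iff_mem, map_sub, hyx, sub_self]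
  have h5 : φ' i j - φ₀ i j = (φ' i j - φ₀ i j - y) + y := by ring
  rw [h5]
  exact add_mem (Ideal.map_mono hJm h4) hy

end step

/-- the induction on the nilpotency index. -/
theorem exists_matrix_aux (n : ℕ) : ∀ (C : Type u) [CommRing C] [IsLocalRing C] [IsArtinianRing C],
    IsLocalRing.maximalIdeal C ^ (n + 1) = ⊥ →
    ∀ (R : Type u) [CommRing R] [IsNoetherianRing R] [Algebra C R] [Module.Flat C R],
    EGA4.IsNormalRing (R ⧸ (IsLocalRing.maximalIdeal C).map (algebraMap C R)) →
    ∀ (I : Ideal R) [Module.Flat C (R ⧸ I)] (r : ℕ) (φ₀ : Matrix (Fin (r + 1)) (Fin r) R),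
    (∀ p : Ideal R, p.IsPrime → I ≤ p → (2 : ℕ∞) ≤ p.height) →
    I ⊔ (IsLocalRing.maximalIdeal C).map (algebraMap C R) =
      Ideal.span (Set.range (sminor φ₀)) ⊔ (IsLocalRing.maximalIdeal C).map (algebraMap C R) →
    ∃ φ : Matrix (Fin (r + 1)) (Fin r) R,
      (∀ i j, φ i j - φ₀ i j ∈ (IsLocalRing.maximalIdeal C).map (algebraMap C R)) ∧
      I = Ideal.span (Set.range (sminor φ)) := by
  induction n with
  | zero =>
    intro C _ _ _ hm R _ _ _ _ hN I _ r φ₀ hcodim h₀
    rw [zero_add, pow_one] at hm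
    rw [hm, Ideal.map_bot, sup_bot_eq, sup_bot_eq] at h₀
    exact ⟨φ₀, fun i j => by rw [sub_self]; exact zero_mem _, h₀⟩
  | succ n ih =>
    intro C _ _ _ hm R _ _ _ _ hN I _ r φ₀ hcodim h₀
    obtain ⟨J, hJdef⟩ : ∃ J : Ideal C, J = IsLocalRing.maximalIdeal C ^ (n + 1) := ⟨_, rfl⟩
    have hJm : J ≤ IsLocalRing.maximalIdeal C := by
      rw [hJdef]; exact Ideal.pow_le_self (Nat.succ_ne_zero n)
    have hJne : J ≠ ⊤ := fun h =>
      (IsLocalRing.maximalIdeal.isMaximal C).ne_top (top_le_iff.mp (h ▸ hJm))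
    have hJ : IsLocalRing.maximalIdeal C * J = ⊥ := by
      rw [hJdef, ← pow_succ', hm]
    haveI : Nontrivial (C ⧸ J) := Ideal.Quotient.nontrivial_iff.mpr hJne
    haveI : IsLocalRing (C ⧸ J) :=
      IsLocalRing.of_surjective' (Ideal.Quotient.mk J) Ideal.Quotient.mk_surjective
    have hmbar : IsLocalRing.maximalIdeal (C ⧸ J) ^ (n + 1) = ⊥ := by
      rw [← Groth.Agent.Lib.Helper19.FlatResExt.map_maximalIdeal_of_surjective
        (Ideal.Quotient.mk J) Ideal.Quotient.mk_surjective, ← Ideal.map_pow, ← hJdef,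
        Ideal.map_quotient_self]
    haveI : Module.Flat (C ⧸ J) (R ⧸ J.map (algebraMap C R)) :=
      Groth.Agent.Lib.Helper19.FlatResExt.flat_quotient_map J
    haveI : Module.Flat (C ⧸ J) ((R ⧸ J.map (algebraMap C R)) ⧸
        I.map (Ideal.Quotient.mk (J.map (algebraMap C R)))) := flat_quot_quot J I
    have hmap := map_maximalIdeal_quot (R := R) J
    have hNb := isNormalRing_quot (R := R) J hJm hN
    have hJJ : J * J = ⊥ := by
      rw [← le_bot_iff, ← hJ]
      exact Ideal.mul_mono_left hJm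
    have hJnil : J.map (algebraMap C R) ≤ nilradical R := by
      intro a ha
      refine ⟨2, ?_⟩
      have h := Ideal.mul_mem_mul ha ha
      rw [← Ideal.map_mul, hJJ, Ideal.map_bot] at h
      rw [pow_two]
      exact (Ideal.mem_bot).mp h
    have hcodimb : ∀ p : Ideal (R ⧸ J.map (algebraMap C R)), p.IsPrime →
        I.map (Ideal.Quotient.mk (J.map (algebraMap C R))) ≤ p → (2 : ℕ∞) ≤ p.height := by
      intro p hp hle
      have h1 := hcodim (p.comap (Ideal.Quotient.mk (J.map (algebraMap C R))))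
        (Ideal.comap_isPrime _ _) (by rw [← Ideal.map_le_iff_le_comap]; exact hle)
      exact h1.trans (Groth.Agent.Lib.Helper28.height_comap_le_of_ker_le_nilradical
        Ideal.Quotient.mk_surjective (by rw [Ideal.mk_ker]; exact hJnil) p)
    have h₀b : I.map (Ideal.Quotient.mk (J.map (algebraMap C R))) ⊔
        (IsLocalRing.maximalIdeal (C ⧸ J)).map
          (algebraMap (C ⧸ J) (R ⧸ J.map (algebraMap C R))) =
        Ideal.span (Set.range (sminor (φ₀.map (Ideal.Quotient.mk (J.map (algebraMap C R)))))) ⊔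
        (IsLocalRing.maximalIdeal (C ⧸ J)).map
          (algebraMap (C ⧸ J) (R ⧸ J.map (algebraMap C R))) := by
      rw [hmap, ← Ideal.map_sup, h₀, Ideal.map_sup, Ideal.map_span, ← Set.range_comp]
      congr 3
      funext i
      exact map_sminor _ _ _
    obtain ⟨φb, hφb1, hφb2⟩ := ih (C ⧸ J) hmbar (R ⧸ J.map (algebraMap C R)) hNb
      (I.map (Ideal.Quotient.mk (J.map (algebraMap C R)))) r
      (φ₀.map (Ideal.Quotient.mk (J.map (algebraMap C R)))) hcodimb h₀b
    exact exists_matrix_step J hJ hJne hN I r φ₀ hcodim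
      ⟨φb, fun i j => by rw [← hmap]; exact hφb1 i j, hφb2⟩

/-- **S11458.** -/
theorem main_S11458 (C : Type u) [CommRing C] [IsLocalRing C] [IsArtinianRing C] (A : Type u)
    [CommRing A] [Algebra C A] [Module.Flat C A] [Algebra.FiniteType C A]
    [Algebra.Smooth (C ⧸ IsLocalRing.maximalIdeal C)
      (A ⧸ (IsLocalRing.maximalIdeal C).map (algebraMap C A))]
    (I : Ideal A) [Module.Flat C (A ⧸ I)]
    (hcodim : ∀ p : Ideal (A ⧸ (IsLocalRing.maximalIdeal C).map (algebraMap C A)), p.IsPrime →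
      I.map (Ideal.Quotient.mk ((IsLocalRing.maximalIdeal C).map (algebraMap C A))) ≤ p →
      (2 : ℕ∞) ≤ p.height)
    (r : ℕ)
    (φ₀ : Matrix (Fin (r + 1)) (Fin r) (A ⧸ (IsLocalRing.maximalIdeal C).map (algebraMap C A)))
    (h₀ : (Ideal.span (Set.range (fun i : Fin (r + 1) =>
        (-1 : (A ⧸ (IsLocalRing.maximalIdeal C).map (algebraMap C A))) ^ (i : ℕ) *
          ((φ₀).submatrix i.succAbove id).det)) =
          I.map (Ideal.Quotient.mk ((IsLocalRing.maximalIdeal C).map (algebraMap C A))) ∧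
        Function.Injective (φ₀).mulVecLin ∧
        LinearMap.range (φ₀).mulVecLin = LinearMap.ker (Fintype.linearCombination
          (A ⧸ (IsLocalRing.maximalIdeal C).map (algebraMap C A)) (fun i : Fin (r + 1) =>
            (-1 : (A ⧸ (IsLocalRing.maximalIdeal C).map (algebraMap C A))) ^ (i : ℕ) *
              ((φ₀).submatrix i.succAbove id).det)))) :
    ∃ φ : Matrix (Fin (r + 1)) (Fin r) A,
      (Ideal.span (Set.range (fun i : Fin (r + 1) =>
        (-1 : A) ^ (i : ℕ) * ((φ).submatrix i.succAbove id).det)) = I ∧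
        Function.Injective (φ).mulVecLin ∧
        LinearMap.range (φ).mulVecLin = LinearMap.ker (Fintype.linearCombination A
          (fun i : Fin (r + 1) => (-1 : A) ^ (i : ℕ) * ((φ).submatrix i.succAbove id).det))) := by
  haveI : IsNoetherianRing C := inferInstance
  haveI : IsNoetherianRing A := Algebra.FiniteType.isNoetherianRing C A
  have hfld : IsField (C ⧸ IsLocalRing.maximalIdeal C) :=
    (Ideal.Quotient.maximal_ideal_iff_isField_quotient _).mp (IsLocalRing.maximalIdeal.isMaximal C)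
  have hN : EGA4.IsNormalRing (A ⧸ (IsLocalRing.maximalIdeal C).map (algebraMap C A)) :=
    Groth.Agent.Lib.Helper6.SmNorm.isNormalRing_of_smooth (C ⧸ IsLocalRing.maximalIdeal C) _
      (Groth.Agent.Lib.Helper11SmInt.isNormalRing_of_isField _ hfld)
  obtain ⟨n, hn⟩ : ∃ n, IsLocalRing.maximalIdeal C ^ (n + 1) = ⊥ := by
    have h1 : IsNilpotent (Ideal.jacobson (⊥ : Ideal C)) :=
      IsArtinianRing.isNilpotent_jacobson_bot
    rw [IsLocalRing.jacobson_eq_maximalIdeal ⊥ bot_ne_top] at h1
    obtain ⟨n, hn⟩ := h1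
    exact ⟨n, by rw [pow_succ, hn]; exact Ideal.bot_mul _⟩
  have hnil : IsNilpotent (IsLocalRing.maximalIdeal C) := ⟨n + 1, hn⟩
  have hsurj : Function.Surjective
      (Ideal.Quotient.mk ((IsLocalRing.maximalIdeal C).map (algebraMap C A))) :=
    Ideal.Quotient.mk_surjective
  have hψ : ∀ i j, ∃ a : A,
      Ideal.Quotient.mk ((IsLocalRing.maximalIdeal C).map (algebraMap C A)) a = φ₀ i j :=
    fun i j => hsurj _
  choose ψ hψ using hψ
  obtain ⟨Ψ, hΨ⟩ : ∃ Ψ : Matrix (Fin (r + 1)) (Fin r) A,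
      Ψ.map (Ideal.Quotient.mk ((IsLocalRing.maximalIdeal C).map (algebraMap C A))) = φ₀ :=
    ⟨Matrix.of ψ, by ext i j; exact hψ i j⟩
  have hspan : (Ideal.span (Set.range (sminor Ψ))).map
      (Ideal.Quotient.mk ((IsLocalRing.maximalIdeal C).map (algebraMap C A))) =
      I.map (Ideal.Quotient.mk ((IsLocalRing.maximalIdeal C).map (algebraMap C A))) := by
    rw [Ideal.map_span, ← Set.range_comp, ← h₀.1]
    congr 2
    funext i
    rw [Function.comp, map_sminor, hΨ]
    rfl
  have h₀' : I ⊔ (IsLocalRing.maximalIdeal C).map (algebraMap C A) =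
      Ideal.span (Set.range (sminor Ψ)) ⊔ (IsLocalRing.maximalIdeal C).map (algebraMap C A) := by
    have := congrArg (Ideal.comap
      (Ideal.Quotient.mk ((IsLocalRing.maximalIdeal C).map (algebraMap C A)))) hspan
    rw [Ideal.comap_map_of_surjective _ hsurj, Ideal.comap_map_of_surjective _ hsurj,
      ← RingHom.ker_eq_comap_bot, Ideal.mk_ker] at this
    exact this.symm
  have hmnil : (IsLocalRing.maximalIdeal C).map (algebraMap C A) ≤ nilradical A := by
    intro a ha
    refine ⟨n + 1, ?_⟩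
    have h := Ideal.pow_mem_pow ha (n + 1)
    rw [← Ideal.map_pow, hn, Ideal.map_bot] at h
    exact (Ideal.mem_bot).mp h
  have hcodim' : ∀ p : Ideal A, p.IsPrime → I ≤ p → (2 : ℕ∞) ≤ p.height := by
    intro p hp hIp
    have hkp : RingHom.ker
        (Ideal.Quotient.mk ((IsLocalRing.maximalIdeal C).map (algebraMap C A))) ≤ p := by
      rw [Ideal.mk_ker]; exact hmnil.trans (nilradical_le_prime p)
    haveI hQ : (p.map
        (Ideal.Quotient.mk ((IsLocalRing.maximalIdeal C).map (algebraMap C A)))).IsPrime :=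
      Ideal.map_isPrime_of_surjective hsurj hkp
    have hcm : (p.map (Ideal.Quotient.mk ((IsLocalRing.maximalIdeal C).map
        (algebraMap C A)))).comap
        (Ideal.Quotient.mk ((IsLocalRing.maximalIdeal C).map (algebraMap C A))) = p := by
      rw [Ideal.comap_map_of_surjective _ hsurj, ← RingHom.ker_eq_comap_bot]
      exact sup_eq_left.mpr hkp
    have h2 := hcodim _ hQ (Ideal.map_mono hIp)
    have h3 := Groth.Agent.Lib.Helper19.SmVar.height_le_height_comap_of_surjective
      (Ideal.Quotient.mk ((IsLocalRing.maximalIdeal C).map (algebraMap C A))) hsurj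
      (p.map (Ideal.Quotient.mk ((IsLocalRing.maximalIdeal C).map (algebraMap C A))))
    rw [hcm] at h3
    exact h2.trans h3
  obtain ⟨φ, hφ1, hφ2⟩ := exists_matrix_aux n C hn A hN I r Ψ hcodim' h₀'
  have hφmap : φ.map (Ideal.Quotient.mk ((IsLocalRing.maximalIdeal C).map (algebraMap C A))) =
      φ₀ := by
    ext i j
    rw [← hΨ, Matrix.map_apply, Matrix.map_apply, ← sub_eq_zero, ← map_sub,
      Ideal.Quotient.eq_zero_iff_mem]
    exact hφ1 i j
  have hflat : Module.Flat (C ⧸ IsLocalRing.maximalIdeal C)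
      ((A ⧸ (IsLocalRing.maximalIdeal C).map (algebraMap C A)) ⧸
        Ideal.span (Set.range (Groth.Agent.Lib.Helper5.signedMinor
          (φ.map (Ideal.Quotient.mk ((IsLocalRing.maximalIdeal C).map (algebraMap C A))))))) := by
    letI : Field (C ⧸ IsLocalRing.maximalIdeal C) :=
      Ideal.Quotient.field (IsLocalRing.maximalIdeal C)
    infer_instance
  have h3 := Groth.Agent.Lib.Helper5.hilbertBurch_lift (C := C) (S := A)
    (IsLocalRing.maximalIdeal C) hnil φ (by rw [hφmap]; exact h₀.2.1)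
    (by rw [hφmap]; exact h₀.2.2) hflat
  exact ⟨φ, hφ2.symm, h3.1, h3.2.1⟩

end Groth.Agent.Lib.LeadHB
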