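import Mathlib
import Groth.Agent.Lib.LeadHB

/-!
# Spreading out a Hilbert–Burch presentation from a local ring to a principal localization

Algebra for S11460. Namespace `Groth.Agent.Lib.LeadHBG`.
-/

set_option autoImplicit false
set_option maxHeartbeats 400000
set_option linter.style.haveILetI false
set_option linter.unusedSectionVars false
set_option linter.unusedVariables false

universe u

namespace Groth.Agent.Lib.LeadHBG

open Groth.Agent.Lib.LeadHB

section uniform

variable {R : Type u} [CommRing R] (p : Ideal R) [hp : p.IsPrime]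

/-- a uniform multiplier for a finitely generated submodule. -/
theorem exists_uniform_smul_mem {M : Type*} [AddCommGroup M] [Module R M] (N Q : Submodule R M)
    (hN : N.FG) (h : ∀ w ∈ N, ∃ s : R, s ∉ p ∧ s • w ∈ Q) :
    ∃ g : R, g ∉ p ∧ ∀ w ∈ N, g • w ∈ Q := by
  classical
  obtain ⟨T, hT⟩ := hN
  have h' : ∀ t : M, ∃ s : R, s ∉ p ∧ (t ∈ N → s • t ∈ Q) := by
    intro t
    by_cases ht : t ∈ N
    · obtain ⟨s, hs, hst⟩ := h t ht
      exact ⟨s, hs, fun _ => hst⟩
    · exact ⟨1, fun h1 => hp.ne_top ((Ideal.eq_top_iff_one p).mpr h1), fun h => absurd h ht⟩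
  choose m hm1 hm2 using h'
  refine ⟨∏ t ∈ T, m t, ?_, ?_⟩
  · intro hmem
    obtain ⟨t, -, ht⟩ := (Ideal.IsPrime.prod_mem_iff).mp hmem
    exact hm1 t ht
  · intro w hw
    rw [← hT] at hw
    refine Submodule.span_induction ?_ ?_ ?_ ?_ hw
    · intro t ht
      obtain ⟨c, hc⟩ := Finset.dvd_prod_of_mem m ht
      rw [hc, mul_comm, mul_smul]
      exact Q.smul_mem c (hm2 t (hT ▸ Submodule.subset_span ht))
    · rw [smul_zero]; exact Q.zero_mem
    · intro x y _ _ hx hy; rw [smul_add]; exact Q.add_mem hx hy
    · intro a x _ hx; rw [smul_comm]; exact Q.smul_mem a hx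

variable {A : Type u} [CommRing A] [Algebra R A]

/-- an element of the complement of `p` killing the kernel of the localization map. -/
theorem exists_ker_killer [IsNoetherianRing R] [IsLocalization.AtPrime A p] :
    ∃ g₀ : R, g₀ ∉ p ∧ ∀ a : R, algebraMap R A a = 0 → g₀ * a = 0 := by
  obtain ⟨g, hg, h⟩ := exists_uniform_smul_mem p (RingHom.ker (algebraMap R A)) ⊥
    (IsNoetherian.noetherian _) (by
      intro w hw
      obtain ⟨m, hm⟩ := (IsLocalization.map_eq_zero_iff p.primeCompl A w).mp hw
      exact ⟨m.1, m.2, by rw [smul_eq_mul, hm]; exact Submodule.zero_mem _⟩)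
  exact ⟨g, hg, fun a ha => by simpa using h a ha⟩

/-- injectivity of the map from a principal localization to `A`. -/
theorem injective_algebraMap_of_away (g₀ : R) (hg₀ : ∀ a : R, algebraMap R A a = 0 → g₀ * a = 0)
    (g : R) (hdvd : g₀ ∣ g) {R' : Type u} [CommRing R'] [Algebra R R'] [Algebra R' A]
    [IsScalarTower R R' A] [IsLocalization.Away g R'] :
    Function.Injective (algebraMap R' A) := by
  rw [injective_iff_map_eq_zero]
  intro x hx
  obtain ⟨⟨a, s⟩, hxs⟩ := IsLocalization.surj (Submonoid.powers g) x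
  have h1 : algebraMap R A a = 0 := by
    rw [IsScalarTower.algebraMap_apply R R' A, ← hxs, map_mul, hx, zero_mul]
  have h2 : g * a = 0 := by
    obtain ⟨c, rfl⟩ := hdvd
    rw [mul_right_comm, hg₀ a h1, zero_mul]
  have hgu : IsUnit (algebraMap R R' g) := IsLocalization.Away.algebraMap_isUnit g
  have h3 : algebraMap R R' a = 0 := by
    have : algebraMap R R' g * algebraMap R R' a = 0 := by rw [← map_mul, h2, map_zero]
    exact hgu.mul_right_eq_zero.mp this
  have hsu : IsUnit (algebraMap R R' s) := IsLocalization.map_units R' s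
  rw [h3] at hxs
  exact hsu.mul_left_eq_zero.mp hxs

/-- lifting an element with a given denominator. -/
theorem exists_lift_of_den (a : A) (g n : R) (hgA : IsUnit (algebraMap R A g))
    (h : a * algebraMap R A g = algebraMap R A n) (g' : R) (hdvd : g ∣ g')
    {R' : Type u} [CommRing R'] [Algebra R R'] [Algebra R' A] [IsScalarTower R R' A]
    [IsLocalization.Away g' R'] : ∃ a' : R', algebraMap R' A a' = a := by
  have hu : IsUnit (algebraMap R R' g) := by
    obtain ⟨c, rfl⟩ := hdvd
    have := IsLocalization.Away.algebraMap_isUnit (S := R') (g * c)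
    rw [map_mul] at this
    exact isUnit_of_mul_isUnit_left this
  obtain ⟨u, hu⟩ := hu
  refine ⟨algebraMap R R' n * ↑u⁻¹, ?_⟩
  have e1 : algebraMap R A g = algebraMap R' A ↑u := by
    rw [hu, ← IsScalarTower.algebraMap_apply]
  have e2 : algebraMap R' A (algebraMap R R' n * ↑u⁻¹) * algebraMap R A g =
      a * algebraMap R A g := by
    rw [h, e1, ← map_mul, mul_assoc, Units.inv_mul, mul_one, ← IsScalarTower.algebraMap_apply]
  exact hgA.mul_left_injective e2

/-- Stage 1: lift the matrix to a principal localization, injecting into `A`. -/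
theorem exists_matrix_lift [IsNoetherianRing R] [IsLocalization.AtPrime A p] {r : ℕ}
    (φA : Matrix (Fin (r + 1)) (Fin r) A) :
    ∃ g : R, g ∉ p ∧ ∀ (R' : Type u) [CommRing R'] [Algebra R R'] [Algebra R' A]
      [IsScalarTower R R' A] [IsLocalization.Away g R'],
      Function.Injective (algebraMap R' A) ∧
      ∃ φ : Matrix (Fin (r + 1)) (Fin r) R', φ.map (algebraMap R' A) = φA := by
  obtain ⟨g₀, hg₀p, hg₀⟩ := exists_ker_killer (A := A) p
  obtain ⟨b, hb⟩ := IsLocalization.exist_integer_multiples_of_finite p.primeCompl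
    (fun ij : Fin (r + 1) × Fin r => φA ij.1 ij.2)
  refine ⟨g₀ * b, ?_, ?_⟩
  · intro hmem
    rcases hp.mem_or_mem hmem with h | h
    · exact hg₀p h
    · exact b.2 h
  · intro R' _ _ _ _ _
    refine ⟨injective_algebraMap_of_away g₀ hg₀ (g₀ * b) (Dvd.intro _ rfl), ?_⟩
    have hbu : IsUnit (algebraMap R A (b : R)) := IsLocalization.map_units A b
    have h1 : ∀ i j, ∃ a' : R', algebraMap R' A a' = φA i j := by
      intro i j
      obtain ⟨n, hn⟩ := hb (i, j)
      refine exists_lift_of_den (φA i j) (b : R) n hbu ?_ (g₀ * b) (Dvd.intro_left _ rfl)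
      rw [hn, Algebra.smul_def, mul_comm]
    choose ψ hψ using h1
    exact ⟨Matrix.of ψ, by ext i j; exact hψ i j⟩

/-- Stage 2, ideals. -/
theorem exists_mul_mem_of_map_le [IsNoetherianRing R] [IsLocalization.AtPrime A p] (J₁ J₂ : Ideal R)
    (h : J₁.map (algebraMap R A) ≤ J₂.map (algebraMap R A)) :
    ∃ s : R, s ∉ p ∧ ∀ x ∈ J₁, s * x ∈ J₂ := by
  refine exists_uniform_smul_mem p J₁ J₂ (IsNoetherian.noetherian _) ?_
  intro w hw
  have h1 : algebraMap R A w ∈ J₂.map (algebraMap R A) := h (Ideal.mem_map_of_mem _ hw)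
  obtain ⟨⟨y, s⟩, hys⟩ := (IsLocalization.mem_map_algebraMap_iff p.primeCompl A).mp h1
  have h2 : algebraMap R A (w * s - y) = 0 := by
    rw [map_sub, map_mul, hys, sub_self]
  obtain ⟨m, hm⟩ := (IsLocalization.map_eq_zero_iff p.primeCompl A _).mp h2
  refine ⟨m * s, ?_, ?_⟩
  · intro hmem
    rcases hp.mem_or_mem hmem with h | h
    · exact m.2 h
    · exact s.2 h
  · have h3 : (m * s : R) • w = m * y := by
      rw [smul_eq_mul]
      have : (m : R) * (w * s - y) = 0 := hm
      linear_combination this
    rw [h3]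
    exact Ideal.mul_mem_left _ _ y.2

end uniform

section maps

variable {R R' : Type u} [CommRing R] [CommRing R'] [Algebra R R']

theorem map_le_map_of_isUnit (J₁ J₂ : Ideal R) (s : R) (hs : IsUnit (algebraMap R R' s))
    (h : ∀ x ∈ J₁, s * x ∈ J₂) : J₁.map (algebraMap R R') ≤ J₂.map (algebraMap R R') := by
  rw [Ideal.map_le_iff_le_comap]
  intro x hx
  rw [Ideal.mem_comap]
  obtain ⟨u, hu⟩ := hs
  have h1 : algebraMap R R' x = ↑u⁻¹ * algebraMap R R' (s * x) := by
    rw [map_mul, ← hu, ← mul_assoc, Units.inv_mul, one_mul]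
  rw [h1]
  exact Ideal.mul_mem_left _ _ (Ideal.mem_map_of_mem _ (h x hx))

variable {r : ℕ}

theorem linearCombination_sminor_map (f : R →+* R') (φ : Matrix (Fin (r + 1)) (Fin r) R)
    (w : Fin (r + 1) → R) :
    Fintype.linearCombination R' (sminor (φ.map f)) (fun i => f (w i)) =
      f (Fintype.linearCombination R (sminor φ) w) := by
  rw [Fintype.linearCombination_apply, Fintype.linearCombination_apply, map_sum]
  refine Finset.sum_congr rfl fun i _ => ?_
  rw [smul_eq_mul, smul_eq_mul, map_mul, map_sminor]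

/-- the composite is zero. -/
theorem range_le_ker (φ : Matrix (Fin (r + 1)) (Fin r) R) :
    LinearMap.range φ.mulVecLin ≤ LinearMap.ker (Fintype.linearCombination R (sminor φ)) := by
  rintro _ ⟨v, rfl⟩
  rw [LinearMap.mem_ker, Fintype.linearCombination_apply]
  simp only [Matrix.mulVecLin_apply, Matrix.mulVec, dotProduct, smul_eq_mul, Finset.sum_mul]
  rw [Finset.sum_comm]
  refine Finset.sum_eq_zero fun j _ => ?_
  have h := sum_mul_sminor φ j
  calc ∑ i, φ i j * v j * sminor φ i = v j * ∑ i, φ i j * sminor φ i := by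
        rw [Finset.mul_sum]; exact Finset.sum_congr rfl fun i _ => by ring
    _ = 0 := by rw [h, mul_zero]

/-- injectivity transfers along an injective ring map. -/
theorem injective_mulVecLin_of_map (f : R →+* R') (hf : Function.Injective f)
    (φ : Matrix (Fin (r + 1)) (Fin r) R)
    (h : Function.Injective (φ.map f).mulVecLin) : Function.Injective φ.mulVecLin := by
  rw [injective_iff_map_eq_zero]
  intro v hv
  have h1 : (φ.map f).mulVecLin (fun j => f (v j)) = 0 := by
    funext i
    have := RingHom.map_mulVec f φ v i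
    rw [Matrix.mulVecLin_apply]
    change (φ.map f).mulVec (f ∘ v) i = 0
    rw [← this]
    have hv' : φ.mulVec v = 0 := hv
    rw [hv', Pi.zero_apply, map_zero]
  have h2 := (injective_iff_map_eq_zero _).mp h _ h1
  funext j
  exact hf ((congrFun h2 j).trans (map_zero f).symm)

end maps

section exact

variable {R : Type u} [CommRing R] (p : Ideal R) [hp : p.IsPrime] {A : Type u} [CommRing A]
  [Algebra R A] {r : ℕ}

/-- Stage 2, exactness: a uniform multiplier. -/
theorem exists_smul_mem_range [IsNoetherianRing R] [IsLocalization.AtPrime A p]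
    (hinj : Function.Injective (algebraMap R A)) (φ : Matrix (Fin (r + 1)) (Fin r) R)
    (hex : LinearMap.ker (Fintype.linearCombination A (sminor (φ.map (algebraMap R A)))) ≤
      LinearMap.range (φ.map (algebraMap R A)).mulVecLin) :
    ∃ s : R, s ∉ p ∧ ∀ w ∈ LinearMap.ker (Fintype.linearCombination R (sminor φ)),
      s • w ∈ LinearMap.range φ.mulVecLin := by
  refine exists_uniform_smul_mem p _ _ (IsNoetherian.noetherian _) ?_
  intro w hw
  have h1 : (fun i => algebraMap R A (w i)) ∈
      LinearMap.ker (Fintype.linearCombination A (sminor (φ.map (algebraMap R A)))) := by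
    rw [LinearMap.mem_ker, linearCombination_sminor_map, LinearMap.mem_ker.mp hw, map_zero]
  obtain ⟨vA, hvA⟩ := hex h1
  obtain ⟨b, hb⟩ := IsLocalization.exist_integer_multiples_of_finite p.primeCompl vA
  choose n hn using hb
  refine ⟨b, b.2, n, ?_⟩
  funext i
  apply hinj
  rw [Matrix.mulVecLin_apply, RingHom.map_mulVec]
  have h2 : (algebraMap R A) ∘ n = (b : R) • vA := funext fun j => hn j
  rw [h2, Matrix.mulVec_smul, Pi.smul_apply, ← Matrix.mulVecLin_apply, hvA, Pi.smul_apply,
    smul_eq_mul, Algebra.smul_def, map_mul]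

end exact

section away

variable {R R' : Type u} [CommRing R] [CommRing R'] [Algebra R R'] {r : ℕ}

/-- Stage 2, exactness over the localization. -/
theorem ker_le_range_of_away (s : R) [IsLocalization.Away s R']
    (φ : Matrix (Fin (r + 1)) (Fin r) R)
    (hs : ∀ w ∈ LinearMap.ker (Fintype.linearCombination R (sminor φ)),
      s • w ∈ LinearMap.range φ.mulVecLin) :
    LinearMap.ker (Fintype.linearCombination R' (sminor (φ.map (algebraMap R R')))) ≤
      LinearMap.range (φ.map (algebraMap R R')).mulVecLin := by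
  intro w' hw'
  obtain ⟨b, hb⟩ := IsLocalization.exist_integer_multiples_of_finite (Submonoid.powers s) w'
  choose n hn using hb
  have hn' : (fun i => algebraMap R R' (n i)) = (algebraMap R R' (b : R)) • w' :=
    funext fun i => by rw [hn i, Pi.smul_apply, Algebra.smul_def, smul_eq_mul]
  have h1 : algebraMap R R' (Fintype.linearCombination R (sminor φ) n) = 0 := by
    rw [← linearCombination_sminor_map, hn', map_smul, LinearMap.mem_ker.mp hw', smul_zero]
  obtain ⟨m, hm⟩ := (IsLocalization.map_eq_zero_iff (Submonoid.powers s) R' _).mp h1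
  have h2 : (m : R) • n ∈ LinearMap.ker (Fintype.linearCombination R (sminor φ)) := by
    rw [LinearMap.mem_ker, map_smul, smul_eq_mul, hm]
  obtain ⟨v, hv⟩ := hs _ h2
  -- the unit
  have hmem : s * m * b ∈ Submonoid.powers s :=
    mul_mem (mul_mem (Submonoid.mem_powers s) m.2) b.2
  obtain ⟨u, hu⟩ := IsLocalization.map_units R' (⟨s * m * b, hmem⟩ : Submonoid.powers s)
  refine ⟨(↑u⁻¹ : R') • (fun j => algebraMap R R' (v j)), ?_⟩
  rw [map_smul]
  have h3 : (φ.map (algebraMap R R')).mulVecLin (fun j => algebraMap R R' (v j)) =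
      (u : R') • w' := by
    funext i
    rw [Matrix.mulVecLin_apply]
    change (φ.map (algebraMap R R')).mulVec ((algebraMap R R') ∘ v) i = _
    rw [← RingHom.map_mulVec]
    have hv' : φ.mulVec v = s • (m : R) • n := hv
    rw [hv']
    simp only [Pi.smul_apply, smul_eq_mul]
    rw [hu]
    change algebraMap R R' (s * ((m : R) * n i)) = algebraMap R R' (s * m * b) * w' i
    rw [map_mul, map_mul, hn i, Algebra.smul_def, map_mul, map_mul]
    ring
  rw [h3, smul_smul, Units.inv_mul, one_smul]

end away

end Groth.Agent.Lib.LeadHBG
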