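import Mathlib
import Groth.Agent.Lib.LeadHBG
import Groth.Agent.Lib.Helper6SmRegSch
import Groth.Agent.Lib.Helper28PolyCM
import Groth.Agent.S11449

/-!
# Hilbert–Burch presentations on affine neighbourhoods (S11460)
-/

set_option autoImplicit false
set_option maxHeartbeats 400000
set_option linter.style.haveILetI false
set_option linter.unusedSectionVars false
set_option linter.unusedVariables false

universe u

open CategoryTheory AlgebraicGeometry

namespace Groth.Agent.Lib.LeadHBG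

open Groth.Agent.Lib.LeadHB

/-- the kernel of the stalk map of a closed immersion is generated by the ideal sheaf. -/
theorem ker_stalkMap_eq {X Y : Scheme.{u}} (ι : Y ⟶ X) [IsClosedImmersion ι] (y : Y)
    (U : X.affineOpens) (hx : ι y ∈ U.1) :
    RingHom.ker (ι.stalkMap y).hom =
      (ι.ker.ideal U).map (X.presheaf.germ U.1 (ι y) hx).hom := by
  letI : Algebra Γ(X, U.1) (X.presheaf.stalk (ι y)) :=
    TopCat.Presheaf.algebra_section_stalk X.presheaf ⟨ι y, hx⟩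
  haveI hlocX : IsLocalization.AtPrime (X.presheaf.stalk (ι y))
      (U.2.primeIdealOf ⟨ι y, hx⟩).asIdeal := U.2.isLocalization_stalk ⟨ι y, hx⟩
  have hV : IsAffineOpen (ι ⁻¹ᵁ U.1) := U.2.preimage ι
  letI : Algebra Γ(Y, ι ⁻¹ᵁ U.1) (Y.presheaf.stalk y) :=
    TopCat.Presheaf.algebra_section_stalk Y.presheaf ⟨y, hx⟩
  haveI hlocY : IsLocalization.AtPrime (Y.presheaf.stalk y)
      (hV.primeIdealOf ⟨y, hx⟩).asIdeal := hV.isLocalization_stalk ⟨y, hx⟩
  have hgX : ∀ s : Γ(X, U.1), algebraMap Γ(X, U.1) (X.presheaf.stalk (ι y)) s =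
      X.presheaf.germ U.1 (ι y) hx s := fun s => rfl
  have hgY : ∀ s : Γ(Y, ι ⁻¹ᵁ U.1), algebraMap Γ(Y, ι ⁻¹ᵁ U.1) (Y.presheaf.stalk y) s =
      Y.presheaf.germ (ι ⁻¹ᵁ U.1) y hx s := fun s => rfl
  have hker : ∀ s : Γ(X, U.1), s ∈ ι.ker.ideal U ↔ ι.app U.1 s = 0 := by
    intro s
    rw [Scheme.Hom.ker_apply, RingHom.mem_ker]
  apply le_antisymm
  · intro a ha
    rw [RingHom.mem_ker] at ha
    obtain ⟨⟨s, t⟩, hst⟩ := IsLocalization.surj (U.2.primeIdealOf ⟨ι y, hx⟩).asIdeal.primeCompl a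
    have h1 : Y.presheaf.germ (ι ⁻¹ᵁ U.1) y hx (ι.app U.1 s) = 0 := by
      rw [← Scheme.Hom.germ_stalkMap_apply, ← hgX, ← hst, map_mul, ha, zero_mul]
    rw [← hgY] at h1
    obtain ⟨t', ht'⟩ := (IsLocalization.map_eq_zero_iff
      (hV.primeIdealOf ⟨y, hx⟩).asIdeal.primeCompl (Y.presheaf.stalk y) _).mp h1
    obtain ⟨t'', ht''⟩ := ι.app_surjective U.1 U.2 (t' : Γ(Y, ι ⁻¹ᵁ U.1))
    have h2 : t'' * s ∈ ι.ker.ideal U := by
      rw [hker, map_mul, ht'']
      exact ht'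
    have hu1 : IsUnit (algebraMap Γ(X, U.1) (X.presheaf.stalk (ι y)) t) :=
      IsLocalization.map_units _ t
    have hu2 : IsUnit (algebraMap Γ(X, U.1) (X.presheaf.stalk (ι y)) t'') := by
      have h3 : IsUnit ((ι.stalkMap y).hom (X.presheaf.germ U.1 (ι y) hx t'')) := by
        rw [Scheme.Hom.germ_stalkMap_apply, ht'', ← hgY]
        exact IsLocalization.map_units _ t'
      exact isUnit_of_map_unit (ι.stalkMap y).hom _ h3
    obtain ⟨u1, hu1⟩ := hu1
    obtain ⟨u2, hu2⟩ := hu2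
    have h4 : a = algebraMap Γ(X, U.1) (X.presheaf.stalk (ι y)) (t'' * s) * (↑u1⁻¹ * ↑u2⁻¹) := by
      rw [map_mul, ← hst, ← hu1, ← hu2]
      have e1 : (u2 : X.presheaf.stalk (ι y)) * (a * ↑u1) * (↑u1⁻¹ * ↑u2⁻¹) =
          a * (↑u1 * ↑u1⁻¹) * (↑u2 * ↑u2⁻¹) := by ring
      rw [e1, Units.mul_inv, Units.mul_inv, mul_one, mul_one]
    rw [h4]
    exact Ideal.mul_mem_right _ _ (Ideal.mem_map_of_mem _ h2)
  · rw [Ideal.map_le_iff_le_comap]
    intro s hs
    rw [Ideal.mem_comap, RingHom.mem_ker]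
    change (ι.stalkMap y).hom (X.presheaf.germ U.1 (ι y) hx s) = 0
    rw [Scheme.Hom.germ_stalkMap_apply, (hker s).mp hs, map_zero]

theorem mem_basicOpen_iff_not_mem {X : Scheme.{u}} {U : X.Opens} (hU : IsAffineOpen U) (x : X)
    (hx : x ∈ U) (g : Γ(X, U)) :
    x ∈ X.basicOpen g ↔ g ∉ (hU.primeIdealOf ⟨x, hx⟩).asIdeal := by
  letI : Algebra Γ(X, U) (X.presheaf.stalk x) :=
    TopCat.Presheaf.algebra_section_stalk X.presheaf ⟨x, hx⟩
  haveI := hU.isLocalization_stalk ⟨x, hx⟩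
  rw [Scheme.mem_basicOpen X g x hx]
  exact IsLocalization.AtPrime.isUnit_to_map_iff (X.presheaf.stalk x)
    (hU.primeIdealOf ⟨x, hx⟩).asIdeal g

/-- Stage 1 on schemes. -/
theorem stage1 {X : Scheme.{u}} [IsLocallyNoetherian X] (x : X) (U : X.affineOpens) (hx : x ∈ U.1)
    {r : ℕ} (φA : Matrix (Fin (r + 1)) (Fin r) (X.presheaf.stalk x)) :
    ∃ (g : Γ(X, U.1)) (hxg : x ∈ X.basicOpen g),
      Function.Injective (X.presheaf.germ (X.basicOpen g) x hxg).hom ∧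
      ∃ φ : Matrix (Fin (r + 1)) (Fin r) Γ(X, X.basicOpen g),
        φ.map (X.presheaf.germ (X.basicOpen g) x hxg).hom = φA := by
  letI alg0 : Algebra Γ(X, U.1) (X.presheaf.stalk x) :=
    TopCat.Presheaf.algebra_section_stalk X.presheaf ⟨x, hx⟩
  haveI : IsNoetherianRing Γ(X, U.1) := IsLocallyNoetherian.component_noetherian U
  haveI loc0 := U.2.isLocalization_stalk ⟨x, hx⟩
  obtain ⟨g, hg, hgprop⟩ := exists_matrix_lift (U.2.primeIdealOf ⟨x, hx⟩).asIdeal φA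
  have hxg : x ∈ X.basicOpen g := (mem_basicOpen_iff_not_mem U.2 x hx g).mpr hg
  letI alg1 : Algebra Γ(X, X.basicOpen g) (X.presheaf.stalk x) :=
    TopCat.Presheaf.algebra_section_stalk X.presheaf ⟨x, hxg⟩
  haveI tower : IsScalarTower Γ(X, U.1) Γ(X, X.basicOpen g) (X.presheaf.stalk x) :=
    IsScalarTower.of_algebraMap_eq fun a =>
      (X.presheaf.germ_res_apply (homOfLE (X.basicOpen_le g)) x hxg a).symm
  haveI away := U.2.isLocalization_basicOpen g
  obtain ⟨hinj, φ, hφ⟩ := hgprop Γ(X, X.basicOpen g)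
  exact ⟨g, hxg, hinj, φ, hφ⟩

set_option maxHeartbeats 1600000 in
/-- Stage 2 on schemes. -/
theorem stage2 {X Y : Scheme.{u}} [IsLocallyNoetherian X] (ι : Y ⟶ X) [IsClosedImmersion ι] (y : Y)
    (U : X.affineOpens) (hx : ι y ∈ U.1) {r : ℕ} (φ : Matrix (Fin (r + 1)) (Fin r) Γ(X, U.1))
    (hinj : Function.Injective (X.presheaf.germ U.1 (ι y) hx).hom)
    (hspan : Ideal.span (Set.range (sminor (φ.map (X.presheaf.germ U.1 (ι y) hx).hom))) =
      RingHom.ker (ι.stalkMap y).hom)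
    (hφinj : Function.Injective (φ.map (X.presheaf.germ U.1 (ι y) hx).hom).mulVecLin)
    (hex : LinearMap.ker (Fintype.linearCombination (X.presheaf.stalk (ι y))
        (sminor (φ.map (X.presheaf.germ U.1 (ι y) hx).hom))) ≤
      LinearMap.range (φ.map (X.presheaf.germ U.1 (ι y) hx).hom).mulVecLin) :
    ∃ h : Γ(X, U.1), ι y ∈ X.basicOpen h ∧
      Ideal.span (Set.range (sminor (φ.map (algebraMap Γ(X, U.1) Γ(X, X.basicOpen h))))) =
        ι.ker.ideal (X.affineBasicOpen h) ∧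
      Function.Injective (φ.map (algebraMap Γ(X, U.1) Γ(X, X.basicOpen h))).mulVecLin ∧
      LinearMap.range (φ.map (algebraMap Γ(X, U.1) Γ(X, X.basicOpen h))).mulVecLin =
        LinearMap.ker (Fintype.linearCombination Γ(X, X.basicOpen h)
          (sminor (φ.map (algebraMap Γ(X, U.1) Γ(X, X.basicOpen h))))) := by
  letI algA : Algebra Γ(X, U.1) (X.presheaf.stalk (ι y)) :=
    TopCat.Presheaf.algebra_section_stalk X.presheaf ⟨ι y, hx⟩
  haveI : IsNoetherianRing Γ(X, U.1) := IsLocallyNoetherian.component_noetherian U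
  haveI loc := U.2.isLocalization_stalk ⟨ι y, hx⟩
  haveI hprime : (U.2.primeIdealOf ⟨ι y, hx⟩).asIdeal.IsPrime := (U.2.primeIdealOf ⟨ι y, hx⟩).isPrime
  have hI : RingHom.ker (ι.stalkMap y).hom =
      (ι.ker.ideal U).map (algebraMap Γ(X, U.1) (X.presheaf.stalk (ι y))) :=
    ker_stalkMap_eq ι y U hx
  have hJ : (Ideal.span (Set.range (sminor φ))).map
      (algebraMap Γ(X, U.1) (X.presheaf.stalk (ι y))) =
      (ι.ker.ideal U).map (algebraMap Γ(X, U.1) (X.presheaf.stalk (ι y))) := by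
    rw [Ideal.map_span, ← Set.range_comp, ← hI, ← hspan]
    congr 2
    funext i
    exact map_sminor _ _ _
  obtain ⟨s₁, hs₁, hs₁'⟩ := exists_mul_mem_of_map_le (U.2.primeIdealOf ⟨ι y, hx⟩).asIdeal
    (Ideal.span (Set.range (sminor φ))) (ι.ker.ideal U) hJ.le
  obtain ⟨s₂, hs₂, hs₂'⟩ := exists_mul_mem_of_map_le (U.2.primeIdealOf ⟨ι y, hx⟩).asIdeal
    (ι.ker.ideal U) (Ideal.span (Set.range (sminor φ))) hJ.ge
  obtain ⟨s₃, hs₃, hs₃'⟩ := exists_smul_mem_range (U.2.primeIdealOf ⟨ι y, hx⟩).asIdeal hinj φ hex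
  have hxh : ι y ∈ X.basicOpen (s₁ * s₂ * s₃) := by
    rw [mem_basicOpen_iff_not_mem U.2 _ hx]
    intro hmem
    rcases hprime.mem_or_mem hmem with h | h
    · rcases hprime.mem_or_mem h with h | h
      · exact hs₁ h
      · exact hs₂ h
    · exact hs₃ h
  refine ⟨s₁ * s₂ * s₃, hxh, ?_⟩
  haveI away := U.2.isLocalization_basicOpen (s₁ * s₂ * s₃)
  letI algA2 : Algebra Γ(X, X.basicOpen (s₁ * s₂ * s₃)) (X.presheaf.stalk (ι y)) :=
    TopCat.Presheaf.algebra_section_stalk X.presheaf ⟨ι y, hxh⟩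
  haveI tower : IsScalarTower Γ(X, U.1) Γ(X, X.basicOpen (s₁ * s₂ * s₃))
      (X.presheaf.stalk (ι y)) :=
    IsScalarTower.of_algebraMap_eq fun a =>
      (X.presheaf.germ_res_apply (homOfLE (X.basicOpen_le (s₁ * s₂ * s₃))) (ι y) hxh a).symm
  have hu : IsUnit (algebraMap Γ(X, U.1) Γ(X, X.basicOpen (s₁ * s₂ * s₃)) (s₁ * s₂ * s₃)) :=
    IsLocalization.Away.algebraMap_isUnit (s₁ * s₂ * s₃)
  have hu12 : IsUnit (algebraMap Γ(X, U.1) Γ(X, X.basicOpen (s₁ * s₂ * s₃)) (s₁ * s₂)) := by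
    rw [map_mul] at hu
    exact isUnit_of_mul_isUnit_left hu
  have hu₁ : IsUnit (algebraMap Γ(X, U.1) Γ(X, X.basicOpen (s₁ * s₂ * s₃)) s₁) := by
    rw [map_mul] at hu12
    exact isUnit_of_mul_isUnit_left hu12
  have hu₂ : IsUnit (algebraMap Γ(X, U.1) Γ(X, X.basicOpen (s₁ * s₂ * s₃)) s₂) := by
    rw [map_mul] at hu12
    exact isUnit_of_mul_isUnit_right hu12
  have hinj2 : Function.Injective
      (algebraMap Γ(X, X.basicOpen (s₁ * s₂ * s₃)) (X.presheaf.stalk (ι y))) :=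
    injective_algebraMap_of_away (R := Γ(X, U.1)) 1
      (fun a ha => by rw [one_mul]; exact hinj (ha.trans (map_zero _).symm))
      (s₁ * s₂ * s₃) (one_dvd _)
  have hφ' : (φ.map (algebraMap Γ(X, U.1) Γ(X, X.basicOpen (s₁ * s₂ * s₃)))).map
      (algebraMap Γ(X, X.basicOpen (s₁ * s₂ * s₃)) (X.presheaf.stalk (ι y))) =
      φ.map (algebraMap Γ(X, U.1) (X.presheaf.stalk (ι y))) := by
    ext i j
    exact (IsScalarTower.algebraMap_apply _ _ _ _).symm
  refine ⟨?_, ?_, ?_⟩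
  · have e1 : Ideal.span (Set.range (sminor (φ.map (algebraMap Γ(X, U.1)
        Γ(X, X.basicOpen (s₁ * s₂ * s₃)))))) =
        (Ideal.span (Set.range (sminor φ))).map
          (algebraMap Γ(X, U.1) Γ(X, X.basicOpen (s₁ * s₂ * s₃))) := by
      rw [Ideal.map_span, ← Set.range_comp]
      congr 2
      funext i
      exact (map_sminor _ _ _).symm
    rw [e1, ← ι.ker.map_ideal_basicOpen U (s₁ * s₂ * s₃)]
    exact le_antisymm (map_le_map_of_isUnit _ _ s₁ hu₁ hs₁')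
      (map_le_map_of_isUnit _ _ s₂ hu₂ hs₂')
  · exact injective_mulVecLin_of_map
      (algebraMap Γ(X, X.basicOpen (s₁ * s₂ * s₃)) (X.presheaf.stalk (ι y))) hinj2 _
      (by rw [hφ']; exact hφinj)
  · apply le_antisymm (range_le_ker _)
    apply ker_le_range_of_away (s₁ * s₂ * s₃) φ
    intro w hw
    rw [mul_smul]
    exact Submodule.smul_mem _ _ (hs₃' w hw)

set_option maxHeartbeats 1600000 in
/-- **S11460.** -/
theorem main_S11460 (k : Type u) [Field k]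
    (X Y : Scheme.{u}) (f : X ⟶ Spec (CommRingCat.of k)) [Smooth f] (ι : Y ⟶ X)
    [IsClosedImmersion ι]
    (hCM : ∀ y : Y, LocCoh.IsCohenMacaulayLocalRing (Y.presheaf.stalk y))
    (hcodim : ∀ y : Y, ringKrullDim (Y.presheaf.stalk y) + 2 =
      ringKrullDim (X.presheaf.stalk (ι.base y)))
    (y : Y) :
    ∃ U : X.affineOpens, ι.base y ∈ (U : X.Opens) ∧
      ∃ (r : ℕ) (φ : Matrix (Fin (r + 1)) (Fin r) Γ(X, U)),
      (Ideal.span (Set.range (fun i : Fin (r + 1) =>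
        (-1 : Γ(X, U)) ^ (i : ℕ) * ((φ).submatrix i.succAbove id).det)) = ι.ker.ideal U ∧
        Function.Injective (φ).mulVecLin ∧
        LinearMap.range (φ).mulVecLin = LinearMap.ker (Fintype.linearCombination Γ(X, U)
          (fun i : Fin (r + 1) => (-1 : Γ(X, U)) ^ (i : ℕ) *
            ((φ).submatrix i.succAbove id).det))) := by
  haveI : IsLocallyNoetherian X := LocallyOfFiniteType.isLocallyNoetherian f
  haveI hreg : IsRegularLocalRing (X.presheaf.stalk (ι y)) :=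
    Groth.Agent.Lib.Helper6.SmRegSch.isRegularLocalRing_stalk_of_smooth_over_field k X f (ι y)
  have hsurj : Function.Surjective (ι.stalkMap y).hom := ι.stalkMap_surjective y
  let e : (X.presheaf.stalk (ι y)) ⧸ RingHom.ker (ι.stalkMap y).hom ≃+* Y.presheaf.stalk y :=
    RingHom.quotientKerEquivOfSurjective hsurj
  haveI hCM' : LocCoh.IsCohenMacaulayLocalRing
      ((X.presheaf.stalk (ι y)) ⧸ RingHom.ker (ι.stalkMap y).hom) :=
    haveI := hCM y
    Groth.Agent.Lib.Helper28.isCohenMacaulayLocalRing_of_ringEquiv e.symm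
  have hdim : ringKrullDim ((X.presheaf.stalk (ι y)) ⧸ RingHom.ker (ι.stalkMap y).hom) + 2 =
      ringKrullDim (X.presheaf.stalk (ι y)) := by
    rw [ringKrullDim_eq_of_ringEquiv e]
    exact hcodim y
  obtain ⟨r, φA, hφA1, -, hφA2, hφA3⟩ := Groth.Agent.S11449.result (X.presheaf.stalk (ι y))
    (RingHom.ker (ι.stalkMap y).hom) hdim
  obtain ⟨U₀, hU₀, hxU₀, -⟩ := exists_isAffineOpen_mem_and_subset (X := X) (x := ι y) (U := ⊤)
    trivial
  obtain ⟨g, hxg, hinj, φ₁, hφ₁⟩ := stage1 (ι y) ⟨U₀, hU₀⟩ hxU₀ φA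
  have k1 := hφA1
  have k2 := hφA2
  have k3 := hφA3.ge
  rw [← hφ₁] at k1 k2 k3
  obtain ⟨h, hxh, h1, h2, h3⟩ := stage2 ι y (X.affineBasicOpen (U := ⟨U₀, hU₀⟩) g) hxg φ₁ hinj
    k1 k2 k3
  exact ⟨X.affineBasicOpen h, hxh, r, _, h1, h2, h3⟩

end Groth.Agent.Lib.LeadHBG
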