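import Groth.Agent.Lib.Helper25FinQuot
import Mathlib.RingTheory.Ideal.GoingDown
import Mathlib.RingTheory.Ideal.GoingUp

/-!
# Going-down for the invariants of a finite group scheme action (lead)

`H` a finite-dimensional commutative Hopf algebra over a field `k` coacting on a commutative `k`-algebra `R`
(multiplicatively), `A = R^H` the invariants.  Then the fibres of `Spec R → Spec A` are orbits:
two primes `n₀, n` of `R` with the same contraction to `A` are of the form `ι⁻¹ Q`, `ρ⁻¹ Q` for a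
prime `Q` of `R ⊗ H` (`exists_prime_comap_eq`); consequently `A → R` has going-down
(`hasGoingDown_invariants`), since `ι : R → R ⊗ H` is flat.
-/

set_option autoImplicit false
set_option maxHeartbeats 400000
set_option linter.style.haveILetI false
set_option linter.unusedSectionVars false
set_option linter.unusedVariables false

universe u

noncomputable section

namespace Groth.Agent.Lib.LeadHE

open TensorProduct HopfRep Groth.Agent.Lib.Helper25

section Norm

variable {k : Type u} [Field k] {H : Type u} [CommRing H] [Algebra k H] [Module.Finite k H]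
  {K : Type u} [Field K] [Algebra k K]

/-- Over a field, if the constant coefficient of the characteristic polynomial of multiplication
by `y` on `K ⊗ H` vanishes then `y` is not a unit. -/
theorem mem_nonunits_of_coeff_zero_chiPoly (y : K ⊗[k] H)
    (h : (chiPoly k H K y).coeff 0 = 0) : y ∈ nonunits (K ⊗[k] H) := by
  have hdet : LinearMap.det (Algebra.lmul K (K ⊗[k] H) y) = 0 := by
    rw [LinearMap.det_eq_sign_charpoly_coeff]
    unfold chiPoly at h
    rw [h, mul_zero]
  obtain ⟨z, hz, hz0⟩ := (Submodule.ne_bot_iff _).mp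
    (LinearMap.bot_lt_ker_of_det_eq_zero hdet).ne'
  rw [LinearMap.mem_ker] at hz
  have hyz : y * z = 0 := by simpa using hz
  intro hu
  apply hz0
  obtain ⟨u, rfl⟩ := hu
  calc z = (↑u⁻¹ : K ⊗[k] H) * (↑u * z) := by rw [← mul_assoc, Units.inv_mul, one_mul]
    _ = 0 := by rw [hyz, mul_zero]

end Norm

section Orbits

variable {k : Type u} [Field k] {H : Type u} [CommRing H] [HopfAlgebra k H] [Module.Finite k H]
  {R : Type u} [CommRing R] [Algebra k R] [Comod k H R] [GLin.IsCoactAlg k H R]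

local notation "Ainv" => GLin.invariants k H R
local notation "ρ" => GLin.coactAlgHom k H R
local notation "ι" => (Algebra.TensorProduct.includeLeft : R →ₐ[k] R ⊗[k] H)

theorem coact_eq_includeLeft_of_mem {a : R} (ha : a ∈ Ainv) : ρ a = ι a := by
  rw [GLin.coactAlgHom_apply, (GLin.mem_invariants_iff k H R a).mp ha]
  rfl

instance isIntegral_invariants' : Algebra.IsIntegral ↥Ainv R := ⟨isIntegral_invariants⟩

theorem comap_coact_comap_eq (Q : Ideal (R ⊗[k] H)) :
    (Q.comap (ρ : R →+* R ⊗[k] H)).comap (algebraMap ↥Ainv R) =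
      (Q.comap (ι : R →+* R ⊗[k] H)).comap (algebraMap ↥Ainv R) := by
  ext a
  simp only [Ideal.mem_comap]
  have : (ρ : R →+* R ⊗[k] H) (algebraMap ↥Ainv R a) =
      (ι : R →+* R ⊗[k] H) (algebraMap ↥Ainv R a) :=
    coact_eq_includeLeft_of_mem a.2
  rw [this]

/-- Incomparability for the integral extension `A ⊆ R`. -/
theorem eq_of_le_of_comap_eq {n P : Ideal R} [n.IsPrime] [P.IsPrime] (hle : n ≤ P)
    (h : n.comap (algebraMap ↥Ainv R) = P.comap (algebraMap ↥Ainv R)) : n = P := by
  by_contra hne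
  have hlt : n < P := lt_of_le_of_ne hle hne
  obtain ⟨x, hxP, hxn⟩ := Set.exists_of_ssubset hlt
  have := Ideal.comap_lt_comap_of_integral_mem_sdiff hle ⟨hxP, hxn⟩
    (Algebra.IsIntegral.isIntegral (R := ↥Ainv) x)
  exact this.ne h

/-- The fibres of `Spec R → Spec R^H` are orbits. -/
theorem exists_prime_comap_eq (n₀ n : Ideal R) [n₀.IsPrime] [n.IsPrime]
    (h : n₀.comap (algebraMap ↥Ainv R) = n.comap (algebraMap ↥Ainv R)) :
    ∃ Q : Ideal (R ⊗[k] H), Q.IsPrime ∧ Q.comap (ι : R →+* R ⊗[k] H) = n₀ ∧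
      Q.comap (ρ : R →+* R ⊗[k] H) = n := by
  classical
  let K := n₀.ResidueField
  let θ : R →ₐ[k] K := IsScalarTower.toAlgHom k R K
  let π : R ⊗[k] H →ₐ[k] K ⊗[k] H := Algebra.TensorProduct.map θ (AlgHom.id k H)
  let ρb : R →+* K ⊗[k] H := (π : R ⊗[k] H →+* K ⊗[k] H).comp (ρ : R →+* R ⊗[k] H)
  haveI : IsArtinianRing (K ⊗[k] H) := IsArtinianRing.of_finite K (K ⊗[k] H)
  haveI : Fintype (MaximalSpectrum (K ⊗[k] H)) := Fintype.ofFinite _
  have hθ : ∀ r : R, θ r = 0 ↔ r ∈ n₀ := fun r => Ideal.algebraMap_residueField_eq_zero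
  -- Step 1: some maximal ideal of `K ⊗ H` contains the image of `n`.
  have key : ∃ 𝔐 : MaximalSpectrum (K ⊗[k] H), n ≤ 𝔐.asIdeal.comap ρb := by
    by_contra hcon
    push Not at hcon
    have hnot : ¬ ((n : Set R) ⊆ ⋃ i ∈ (Finset.univ : Finset (MaximalSpectrum (K ⊗[k] H))),
        ((i.asIdeal.comap ρb : Ideal R) : Set R)) := by
      intro hsub
      have hp : ∀ i ∈ (Finset.univ : Finset (MaximalSpectrum (K ⊗[k] H))),
          i ≠ i → i ≠ i → (i.asIdeal.comap ρb).IsPrime := fun i _ hi => absurd rfl hi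
      by_cases hemp : Nonempty (MaximalSpectrum (K ⊗[k] H))
      · obtain ⟨a⟩ := hemp
        obtain ⟨i, -, hi⟩ := (Ideal.subset_union_prime (R := R)
          (s := (Finset.univ : Finset (MaximalSpectrum (K ⊗[k] H))))
          (f := fun i => i.asIdeal.comap ρb) a a
          (fun i _ _ _ => Ideal.comap_isPrime ρb i.asIdeal)).mp hsub
        exact hcon i hi
      · rw [not_nonempty_iff] at hemp
        have h0 : (0 : R) ∈ (n : Set R) := n.zero_mem
        have := hsub h0
        simp only [Set.mem_iUnion] at this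
        obtain ⟨i, -⟩ := this
        exact hemp.elim i
    rw [Set.not_subset] at hnot
    obtain ⟨r, hrn, hr⟩ := hnot
    simp only [Set.mem_iUnion, not_exists] at hr
    have hunit : IsUnit (ρb r) := by
      by_contra hnu
      obtain ⟨I, hI, hrI⟩ := exists_max_ideal_of_mem_nonunits hnu
      exact hr ⟨I, hI⟩ (Finset.mem_univ _) hrI
    -- the norm of `ρ r`
    set c := chiPoly k H R (Comod.coact (k := k) (A := H) r) with hc
    have hc0A : c.coeff 0 ∈ Ainv := coeff_chiPoly_mem_invariants r 0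
    have hroot : Polynomial.eval r c = 0 := by
      have := aeval_self_chiPoly_coact (k := k) (A := H) r
      rwa [Polynomial.coe_aeval_eq_eval] at this
    have hdvd : r ∣ c.coeff 0 := by
      have h1 := Polynomial.sub_dvd_eval_sub r 0 c
      rw [sub_zero, hroot, zero_sub, ← Polynomial.coeff_zero_eq_eval_zero] at h1
      exact (dvd_neg.mp h1)
    have hc0n : c.coeff 0 ∈ n := Ideal.mem_of_dvd n hdvd hrn
    have hc0n₀ : c.coeff 0 ∈ n₀ := by
      have h1 : (⟨c.coeff 0, hc0A⟩ : ↥Ainv) ∈ n.comap (algebraMap ↥Ainv R) := hc0n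
      rw [← h] at h1
      exact h1
    have hmap := chiPoly_map (A := H) θ (Comod.coact (k := k) (A := H) r)
    have hcoeff : (chiPoly k H K (π (Comod.coact (k := k) (A := H) r))).coeff 0 = 0 := by
      rw [hmap, Polynomial.coeff_map]
      exact (hθ _).mpr hc0n₀
    exact mem_nonunits_of_coeff_zero_chiPoly _ hcoeff hunit
  obtain ⟨𝔐, h𝔐⟩ := key
  have h𝔐max : 𝔐.asIdeal.IsMaximal := 𝔐.isMaximal
  refine ⟨𝔐.asIdeal.comap (π : R ⊗[k] H →+* K ⊗[k] H), Ideal.comap_isPrime _ _, ?_, ?_⟩
  · ext r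
    simp only [Ideal.mem_comap]
    have hπ : (π : R ⊗[k] H →+* K ⊗[k] H) ((ι : R →+* R ⊗[k] H) r) =
        algebraMap K (K ⊗[k] H) (θ r) := by
      simp [π, Algebra.TensorProduct.algebraMap_apply]
    rw [hπ]
    constructor
    · intro hmem
      by_contra hrn
      have hne : θ r ≠ 0 := fun h0 => hrn ((hθ r).mp h0)
      have hu : IsUnit (algebraMap K (K ⊗[k] H) (θ r)) := (isUnit_iff_ne_zero.mpr hne).map _
      exact h𝔐max.ne_top (Ideal.eq_top_of_isUnit_mem _ hmem hu)
    · intro hrn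
      rw [(hθ r).mpr hrn, map_zero]
      exact Ideal.zero_mem _
  · symm
    have hle : n ≤ (𝔐.asIdeal.comap (π : R ⊗[k] H →+* K ⊗[k] H)).comap
        (ρ : R →+* R ⊗[k] H) := by
      rw [Ideal.comap_comap]
      exact h𝔐
    haveI : ((𝔐.asIdeal.comap (π : R ⊗[k] H →+* K ⊗[k] H)).comap
        (ρ : R →+* R ⊗[k] H)).IsPrime := Ideal.comap_isPrime _ _
    refine eq_of_le_of_comap_eq (k := k) (H := H) hle ?_
    rw [comap_coact_comap_eq, ← h]
    congr 1
    -- `ι⁻¹ Q = n₀`, proved above; redo quickly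
    ext r
    simp only [Ideal.mem_comap]
    have hπ : (π : R ⊗[k] H →+* K ⊗[k] H) ((ι : R →+* R ⊗[k] H) r) =
        algebraMap K (K ⊗[k] H) (θ r) := by
      simp [π, Algebra.TensorProduct.algebraMap_apply]
    rw [hπ]
    constructor
    · intro hrn
      rw [(hθ r).mpr hrn, map_zero]
      exact Ideal.zero_mem _
    · intro hmem
      by_contra hrn
      have hne : θ r ≠ 0 := fun h0 => hrn ((hθ r).mp h0)
      have hu : IsUnit (algebraMap K (K ⊗[k] H) (θ r)) := (isUnit_iff_ne_zero.mpr hne).map _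
      exact h𝔐max.ne_top (Ideal.eq_top_of_isUnit_mem _ hmem hu)

/-- Going-down for the invariants of a finite group scheme. -/
theorem hasGoingDown_invariants : Algebra.HasGoingDown ↥Ainv R := by
  refine ⟨fun {p'} _ n _ hlt => ?_⟩
  -- lying over for `p'`
  obtain ⟨n₀', -, hn₀'prime, hn₀'⟩ := Ideal.exists_ideal_over_prime_of_isIntegral p'
    (⊥ : Ideal R) (by
      rw [← RingHom.ker_eq_comap_bot]
      have hinj : Function.Injective (algebraMap ↥Ainv R) := Subtype.val_injective
      rw [(RingHom.injective_iff_ker_eq_bot _).mp hinj]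
      exact bot_le)
  haveI := hn₀'prime
  -- going up
  haveI : (n.under ↥Ainv).IsPrime := Ideal.comap_isPrime _ _
  obtain ⟨n₀, hn₀le, hn₀prime, hn₀⟩ := Ideal.exists_ideal_over_prime_of_isIntegral
    (n.under ↥Ainv) n₀' (by rw [hn₀']; exact hlt.le)
  haveI := hn₀prime
  -- transitivity
  obtain ⟨Q, hQprime, hQι, hQρ⟩ := exists_prime_comap_eq (k := k) (H := H) n₀ n hn₀
  haveI := hQprime
  -- flat going-down for `ι`
  haveI : Q.LiesOver n₀ := ⟨hQι.symm⟩
  obtain ⟨Q', hQ'le, hQ'prime, hQ'over⟩ :=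
    Ideal.exists_ideal_le_liesOver_of_le (p := n₀') (q := n₀) Q hn₀le
  haveI := hQ'prime
  refine ⟨Q'.comap (ρ : R →+* R ⊗[k] H), ?_, Ideal.comap_isPrime _ _, ⟨?_⟩⟩
  · rw [← hQρ]
    exact Ideal.comap_mono hQ'le
  · change p' = (Q'.comap (ρ : R →+* R ⊗[k] H)).comap (algebraMap ↥Ainv R)
    rw [comap_coact_comap_eq, ← hn₀']
    congr 1
    exact hQ'over.over

end Orbits

end Groth.Agent.Lib.LeadHE
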