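import Groth.Agent.Lib.LeadHEa
import Groth.Agent.Lib.LeadHEb
import Groth.Agent.Lib.Helper25CoactAlg

/-!
# Invariants of a finite linearly reductive group scheme: Cohen–Macaulay and `(S_r)` (lead)
-/

set_option autoImplicit false
set_option maxHeartbeats 400000
set_option linter.style.haveILetI false
set_option linter.unusedSectionVars false
set_option linter.unusedVariables false

universe u

noncomputable section

namespace Groth.Agent.Lib.LeadHE

open TensorProduct HopfRep Groth.Agent.Lib.Helper25

variable {k : Type u} [Field k] {H : Type u} [CommRing H] [HopfAlgebra k H] [Module.Finite k H]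
  {R : Type u} [CommRing R] [Algebra k R] [Comod k H R] [GLin.IsCoactAlg k H R]

local notation "Ainv" => GLin.invariants k H R

/-- The Reynolds operator as an `R^H`-linear retraction of `R^H → R`. -/
theorem exists_retraction (hG : HopfRep.IsLinearlyReductive k H) :
    ∃ s : R →ₗ[↥Ainv] ↥Ainv, ∀ a : ↥Ainv, s (algebraMap ↥Ainv R a) = a := by
  have hss : IsSemisimpleComod k H R := isSemisimpleComod_of_isLinearlyReductive hG R
  obtain ⟨E, hE, hEE, hEx⟩ := exists_reynolds hss
  have hmem : ∀ r : R, E r ∈ Ainv := fun r => (hEx (E r)).mp (LinearMap.congr_fun hEE r)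
  refine ⟨{ toFun := fun r => ⟨E r, hmem r⟩
            map_add' := fun x y => Subtype.ext (map_add E x y)
            map_smul' := fun a x => Subtype.ext ?_ }, fun a => Subtype.ext ?_⟩
  · change E (a • x) = (a : R) * E x
    rw [show a • x = (a : R) * x from rfl]
    exact reynolds_mul_of_mem_fixedPts hss hE hEE hEx a.2 x
  · exact (hEx a.1).mpr a.2

variable [Algebra.FiniteType k R]

theorem isNoetherianRing_invariants : IsNoetherianRing ↥Ainv := by
  haveI := (finite_quotient k H R).1
  exact Algebra.FiniteType.isNoetherianRing k ↥Ainv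

theorem isCohenMacaulay_invariants (hG : HopfRep.IsLinearlyReductive k H)
    (hR : LocCoh.IsCohenMacaulayRing R) :
    LocCoh.IsCohenMacaulayRing ↥Ainv ∧ ∀ (p : Ideal ↥Ainv) [p.IsPrime],
      LocCoh.IsCohenMacaulayModule (Localization.AtPrime p) (LocalizedModule p.primeCompl R) ∧
        Module.supportDim (Localization.AtPrime p) (LocalizedModule p.primeCompl R) =
          ringKrullDim (Localization.AtPrime p) := by
  haveI : IsNoetherianRing ↥Ainv := isNoetherianRing_invariants
  haveI : Module.Finite ↥Ainv R := (finite_quotient k H R).2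
  haveI : Algebra.HasGoingDown ↥Ainv R := hasGoingDown_invariants
  haveI : IsNoetherianRing R := Algebra.FiniteType.isNoetherianRing k R
  obtain ⟨s, hs⟩ := exists_retraction (k := k) (H := H) (R := R) hG
  exact isCohenMacaulayRing_of_split s hs hR

theorem hasSk_invariants (hG : HopfRep.IsLinearlyReductive k H) (r : ℕ)
    (hR : LocCoh.HasSk r R R) :
    LocCoh.HasSk r ↥Ainv R ∧ LocCoh.HasSk r ↥Ainv ↥Ainv := by
  haveI : IsNoetherianRing ↥Ainv := isNoetherianRing_invariants
  haveI : Module.Finite ↥Ainv R := (finite_quotient k H R).2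
  haveI : Algebra.HasGoingDown ↥Ainv R := hasGoingDown_invariants
  haveI : IsNoetherianRing R := Algebra.FiniteType.isNoetherianRing k R
  obtain ⟨s, hs⟩ := exists_retraction (k := k) (H := H) (R := R) hG
  have h := hasSk_of_split (A := ↥Ainv) (R := R) r hR
  exact ⟨h.1, h.2 s hs⟩

end Groth.Agent.Lib.LeadHE
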