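import Groth.Agent.Lib.Helper28DepthMore
import Groth.Prelude.Def_GrLC
import Mathlib.RingTheory.GradedAlgebra.Radical

/-!
# Hilbert functions of standard graded Cohen–Macaulay rings are nondecreasing (lead), part a:
the irrelevant ideal of a `ℤ`-graded ring with vanishing negative part and a field in degree zero;
a Cohen–Macaulay such ring of positive dimension has no socle.
-/

set_option autoImplicit false
set_option maxHeartbeats 400000
set_option linter.style.haveILetI false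
set_option linter.unusedSectionVars false
set_option linter.unusedVariables false

universe u

noncomputable section

namespace Groth.Agent.Lib.LeadHM

section Irr

variable {R : Type u} [CommRing R] (𝒜 : ℤ → AddSubgroup R) [GradedRing 𝒜]

/-- the irrelevant ideal -/
def irrI : Ideal R := Ideal.span (⋃ n ∈ Set.Ioi (0 : ℤ), (𝒜 n : Set R))

lemma decompose_neg_eq_zero (hpos : ∀ n : ℤ, n < 0 → 𝒜 n = ⊥) (r : R) {n : ℤ} (hn : n < 0) :
    (DirectSum.decompose 𝒜 r n : R) = 0 := by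
  have h' : ((DirectSum.decompose 𝒜 r n) : R) ∈ (⊥ : AddSubgroup R) :=
    (congrArg (fun s : AddSubgroup R => ((DirectSum.decompose 𝒜 r n) : R) ∈ s) (hpos n hn)).mp
      (DirectSum.decompose 𝒜 r n).2
  exact AddSubgroup.mem_bot.mp h'

lemma decompose_mul_zero_of_mem_irrI (hpos : ∀ n : ℤ, n < 0 → 𝒜 n = ⊥) {y : R}
    (hy : y ∈ irrI 𝒜) : ∀ r : R, (DirectSum.decompose 𝒜 (r * y) 0 : R) = 0 := by
  classical
  rw [irrI] at hy
  induction hy using Submodule.span_induction with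
  | mem a ha =>
    intro r
    simp only [Set.mem_iUnion, Set.mem_Ioi, SetLike.mem_coe, exists_prop] at ha
    obtain ⟨n, hn, han⟩ := ha
    have h1 : (DirectSum.decompose 𝒜 (r * a) 0 : R) = (DirectSum.decompose 𝒜 r (-n) : R) * a := by
      have := DirectSum.coe_decompose_mul_add_of_right_mem 𝒜 (i := -n) (a := r) han
      rwa [neg_add_cancel] at this
    rw [h1, decompose_neg_eq_zero 𝒜 hpos r (by omega), zero_mul]
  | zero =>
    intro r
    rw [mul_zero, DirectSum.decompose_zero, DirectSum.zero_apply, ZeroMemClass.coe_zero]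
  | add y z _ _ hy hz =>
    intro r
    rw [mul_add, DirectSum.decompose_add, DirectSum.add_apply, AddMemClass.coe_add, hy r, hz r,
      add_zero]
  | smul s y _ hy =>
    intro r
    rw [smul_eq_mul, ← mul_assoc]
    exact hy (r * s)

lemma sub_decompose_zero_mem_irrI (hpos : ∀ n : ℤ, n < 0 → 𝒜 n = ⊥) (x : R) :
    x - (DirectSum.decompose 𝒜 x 0 : R) ∈ irrI 𝒜 := by
  classical
  induction x using DirectSum.Decomposition.inductionOn 𝒜 with
  | zero =>
    rw [DirectSum.decompose_zero, DirectSum.zero_apply, ZeroMemClass.coe_zero, sub_zero]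
    exact Ideal.zero_mem _
  | homogeneous x =>
    rename_i i
    rcases lt_trichotomy i 0 with hi | hi | hi
    · have hx0 : (x : R) = 0 := by
        have h' : (x : R) ∈ (⊥ : AddSubgroup R) :=
          (congrArg (fun s : AddSubgroup R => (x : R) ∈ s) (hpos i hi)).mp x.2
        exact AddSubgroup.mem_bot.mp h'
      rw [hx0, DirectSum.decompose_zero, DirectSum.zero_apply, ZeroMemClass.coe_zero, sub_zero]
      exact Ideal.zero_mem _
    · subst hi
      rw [DirectSum.decompose_of_mem_same 𝒜 x.2, sub_self]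
      exact Ideal.zero_mem _
    · rw [DirectSum.decompose_of_mem_ne 𝒜 x.2 (ne_of_gt hi), sub_zero]
      refine Ideal.subset_span ?_
      simp only [Set.mem_iUnion, Set.mem_Ioi, SetLike.mem_coe, exists_prop]
      exact ⟨i, hi, x.2⟩
  | add x y hx hy =>
    rw [DirectSum.decompose_add, DirectSum.add_apply, AddMemClass.coe_add]
    have : x + y - ((DirectSum.decompose 𝒜 x 0 : R) + (DirectSum.decompose 𝒜 y 0 : R)) =
        (x - (DirectSum.decompose 𝒜 x 0 : R)) + (y - (DirectSum.decompose 𝒜 y 0 : R)) := by ring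
    rw [this]
    exact Ideal.add_mem _ hx hy

lemma one_notMem_irrI [Nontrivial R] (hpos : ∀ n : ℤ, n < 0 → 𝒜 n = ⊥) : (1 : R) ∉ irrI 𝒜 := by
  intro h1
  have h2 := decompose_mul_zero_of_mem_irrI 𝒜 hpos h1 1
  rw [mul_one, DirectSum.decompose_of_mem_same 𝒜 (SetLike.GradedOne.one_mem)] at h2
  exact one_ne_zero h2

/-- a nonzero element of degree zero is a unit when the degree-zero part is a field -/
lemma exists_mul_eq_one_of_mem_zero (h0 : IsField (GrLC.deg0 𝒜)) {c : R} (hc : c ∈ 𝒜 0)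
    (hc0 : c ≠ 0) : ∃ u : R, c * u = 1 := by
  have hne : (⟨c, hc⟩ : GrLC.deg0 𝒜) ≠ 0 := fun h => hc0 (congrArg Subtype.val h)
  obtain ⟨u, hu⟩ := h0.mul_inv_cancel hne
  exact ⟨u.1, congrArg Subtype.val hu⟩

lemma irrI_isMaximal [Nontrivial R] (hpos : ∀ n : ℤ, n < 0 → 𝒜 n = ⊥)
    (h0 : IsField (GrLC.deg0 𝒜)) : (irrI 𝒜).IsMaximal := by
  classical
  rw [Ideal.isMaximal_iff]
  refine ⟨one_notMem_irrI 𝒜 hpos, fun J x hpJ hxp hxJ => ?_⟩
  have hsub : x - (DirectSum.decompose 𝒜 x 0 : R) ∈ irrI 𝒜 := sub_decompose_zero_mem_irrI 𝒜 hpos x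
  have hc0 : (DirectSum.decompose 𝒜 x 0 : R) ≠ 0 := by
    intro h
    rw [h, sub_zero] at hsub
    exact hxp hsub
  have h1 : (DirectSum.decompose 𝒜 x 0 : R) ∈ J := by
    have : (DirectSum.decompose 𝒜 x 0 : R) = x - (x - (DirectSum.decompose 𝒜 x 0 : R)) := by ring
    rw [this]
    exact Ideal.sub_mem _ hxJ (hpJ hsub)
  obtain ⟨u, hu⟩ := exists_mul_eq_one_of_mem_zero 𝒜 h0 (DirectSum.decompose 𝒜 x 0).2 hc0
  rw [← hu]
  exact Ideal.mul_mem_right _ _ h1

lemma le_irrI_of_isHomogeneous (hpos : ∀ n : ℤ, n < 0 → 𝒜 n = ⊥)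
    (h0 : IsField (GrLC.deg0 𝒜)) {I : Ideal R} (hI : I.IsHomogeneous 𝒜)
    (hne : I ≠ ⊤) : I ≤ irrI 𝒜 := by
  classical
  intro x hx
  have hsub : x - (DirectSum.decompose 𝒜 x 0 : R) ∈ irrI 𝒜 := sub_decompose_zero_mem_irrI 𝒜 hpos x
  have hxI : (DirectSum.decompose 𝒜 x 0 : R) ∈ I := hI 0 hx
  have hc0 : (DirectSum.decompose 𝒜 x 0 : R) = 0 := by
    by_contra hc0
    apply hne
    rw [Ideal.eq_top_iff_one]
    obtain ⟨u, hu⟩ := exists_mul_eq_one_of_mem_zero 𝒜 h0 (DirectSum.decompose 𝒜 x 0).2 hc0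
    rw [← hu]
    exact Ideal.mul_mem_right _ _ hxI
  rwa [hc0, sub_zero] at hsub

lemma isHomogeneous_of_mem_minimalPrimes {I : Ideal R} (hI : I.IsHomogeneous 𝒜) {p : Ideal R}
    (hp : p ∈ I.minimalPrimes) : p.IsHomogeneous 𝒜 := by
  classical
  have hpp : p.IsPrime := hp.1.1
  have hcp : (p.homogeneousCore 𝒜).toIdeal.IsPrime := Ideal.IsPrime.homogeneousCore hpp
  have hle : (p.homogeneousCore 𝒜).toIdeal ≤ p := Ideal.toIdeal_homogeneousCore_le 𝒜 p
  have hIle : I ≤ (p.homogeneousCore 𝒜).toIdeal :=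
    hI.toIdeal_homogeneousCore_eq_self.symm.trans_le (Ideal.homogeneousCore_mono 𝒜 hp.1.2)
  have hge : p ≤ (p.homogeneousCore 𝒜).toIdeal := hp.2 ⟨hcp, hIle⟩ hle
  have heq : (p.homogeneousCore 𝒜).toIdeal = p := le_antisymm hle hge
  rw [← heq]
  exact (p.homogeneousCore 𝒜).isHomogeneous

end Irr

section Socle

variable {R : Type u} [CommRing R] (𝒜 : ℤ → AddSubgroup R) [GradedRing 𝒜]

/-- a Cohen–Macaulay graded ring of positive dimension with a field in degree zero has no socle -/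
theorem eq_zero_of_forall_mul_eq_zero [hCM : LocCoh.IsCohenMacaulayRing R]
    (hpos : ∀ n : ℤ, n < 0 → 𝒜 n = ⊥) (h0 : IsField (GrLC.deg0 𝒜))
    (h1 : 1 ≤ ringKrullDim R) (a : R) (ha : ∀ y ∈ irrI 𝒜, a * y = 0) : a = 0 := by
  classical
  by_contra ha0
  haveI : Nontrivial R := ⟨⟨a, 0, ha0⟩⟩
  haveI h𝔪 : (irrI 𝒜).IsMaximal := irrI_isMaximal 𝒜 hpos h0
  haveI h𝔪p : (irrI 𝒜).IsPrime := h𝔪.isPrime
  -- the irrelevant ideal is an associated prime
  have hass : irrI 𝒜 ∈ associatedPrimes R R := by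
    show IsAssociatedPrime (irrI 𝒜) R
    rw [isAssociatedPrime_iff]
    refine ⟨h𝔪p, a, ?_⟩
    have hle : irrI 𝒜 ≤ (⊥ : Submodule R R).colon {a} := by
      intro y hy
      rw [Submodule.mem_colon_singleton, Submodule.mem_bot, smul_eq_mul, mul_comm]
      exact ha y hy
    have hne : (⊥ : Submodule R R).colon {a} ≠ ⊤ := by
      intro h
      have h1' : (1 : R) ∈ (⊥ : Submodule R R).colon {a} := h ▸ Submodule.mem_top
      rw [Submodule.mem_colon_singleton, Submodule.mem_bot, one_smul] at h1'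
      exact ha0 h1'
    exact (h𝔪.eq_of_le hne hle)
  -- hence it has height zero
  have hd0 := (Groth.Agent.Lib.Helper28.depth_localization_eq_zero_iff (M := R) (irrI 𝒜)).mpr hass
  rw [Groth.Agent.Lib.Helper28.depth_localizedModule_self] at hd0
  have hcm := (hCM.isCohenMacaulayLocalRing_localization (irrI 𝒜)).supportDim_eq_depth
  rw [Groth.Agent.Lib.Helper28.supportDim_localization_self, hd0] at hcm
  have hht : (irrI 𝒜).height = 0 := by
    have := WithBot.coe_injective hcm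
    simpa using this
  have hmin : irrI 𝒜 ∈ minimalPrimes R := Ideal.height_eq_zero_iff.mp hht
  -- so it is the only prime
  have hall : ∀ q : PrimeSpectrum R, q.asIdeal = irrI 𝒜 := by
    intro q
    obtain ⟨p, hpmin, hpq⟩ := Ideal.exists_minimalPrimes_le (I := (⊥ : Ideal R)) (J := q.asIdeal)
      bot_le
    have hphom : p.IsHomogeneous 𝒜 :=
      isHomogeneous_of_mem_minimalPrimes 𝒜 (Ideal.IsHomogeneous.bot 𝒜) hpmin
    have hp𝔪 : p ≤ irrI 𝒜 := le_irrI_of_isHomogeneous 𝒜 hpos h0 hphom hpmin.1.1.ne_top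
    have h𝔪p' : irrI 𝒜 ≤ p := hmin.2 hpmin.1 hp𝔪
    exact (h𝔪.eq_of_le q.2.ne_top (h𝔪p'.trans hpq)).symm
  haveI : Subsingleton (PrimeSpectrum R) :=
    ⟨fun q q' => PrimeSpectrum.ext ((hall q).trans (hall q').symm)⟩
  have hdim : ringKrullDim R ≤ 0 := Order.krullDim_nonpos_of_subsingleton
  have : (1 : WithBot ℕ∞) ≤ 0 := h1.trans hdim
  exact absurd this (by decide)

end Socle

end Groth.Agent.Lib.LeadHM
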