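import Groth.Agent.Lib.LeadHMb

/-!
# Hilbert functions of standard graded Cohen–Macaulay rings are nondecreasing (lead), part c
-/

set_option autoImplicit false
set_option maxHeartbeats 400000
set_option linter.style.haveILetI false
set_option linter.unusedSectionVars false
set_option linter.unusedVariables false

universe u

noncomputable section

open Polynomial

namespace Groth.Agent.Lib.LeadHM

section Gens

variable {R : Type u} [CommRing R] (𝒜 : ℤ → AddSubgroup R) [GradedRing 𝒜]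

/-- finitely many generators of degree one of the irrelevant ideal -/
lemma exists_gens [IsNoetherianRing R]
    (hstd : Ideal.span (⋃ n ∈ Set.Ioi (0 : ℤ), (𝒜 n : Set R)) =
      Ideal.span ((𝒜 1 : AddSubgroup R) : Set R)) :
    ∃ (m : ℕ) (x : Fin m → R), (∀ i, x i ∈ 𝒜 1) ∧ irrI 𝒜 = Ideal.span (Set.range x) := by
  classical
  have hfg : (Ideal.span ((𝒜 1 : AddSubgroup R) : Set R)).FG := IsNoetherian.noetherian _
  obtain ⟨s', hs', hspan⟩ := (Submodule.fg_span_iff_fg_span_finset_subset _).mp hfg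
  refine ⟨s'.card, fun i => (s'.equivFin.symm i : R), fun i => hs' (s'.equivFin.symm i).2, ?_⟩
  have hrange : Set.range (fun i => (s'.equivFin.symm i : R)) = (s' : Set R) := by
    ext y
    constructor
    · rintro ⟨i, rfl⟩
      exact (s'.equivFin.symm i).2
    · intro hy
      exact ⟨s'.equivFin ⟨y, hy⟩, by simp⟩
  rw [hrange, irrI, hstd]
  exact hspan

variable {m : ℕ} (x : Fin m → R) (hx : ∀ i, x i ∈ 𝒜 1)

lemma comp_eq_bot_of_neg (hpos : ∀ n : ℤ, n < 0 → 𝒜 n = ⊥) {n : ℤ} (hn : n < 0) :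
    GrLC.comp 𝒜 𝒜 n = ⊥ := by
  rw [eq_bot_iff]
  intro y hy
  have hy' : y ∈ 𝒜 n := hy
  rw [hpos n hn] at hy'
  rw [Submodule.mem_bot]
  exact AddSubgroup.mem_bot.mp hy'

include hx in
/-- multiplication by a generator, between graded pieces -/
lemma mul_gen_mem {n : ℤ} (i : Fin m) {v : R} (hv : v ∈ 𝒜 n) : x i * v ∈ 𝒜 (n + 1) := by
  have h := SetLike.GradedMul.mul_mem (hx i) hv
  rwa [add_comm] at h

/-- the sum-of-multiples map `(R_n)^m → R_{n+1}` -/
def gensMap (n : ℤ) : (Fin m → GrLC.comp 𝒜 𝒜 n) →ₗ[GrLC.deg0 𝒜] GrLC.comp 𝒜 𝒜 (n + 1) where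
  toFun f := ⟨∑ i, x i * (f i : R), by
    refine AddSubgroup.sum_mem _ fun i _ => ?_
    exact mul_gen_mem 𝒜 x hx i (f i).2⟩
  map_add' f g := by
    apply Subtype.ext
    show ∑ i, x i * ((f i + g i : GrLC.comp 𝒜 𝒜 n) : R) = ∑ i, x i * (f i : R) + ∑ i, x i * (g i : R)
    rw [← Finset.sum_add_distrib]
    refine Finset.sum_congr rfl fun i _ => ?_
    rw [Submodule.coe_add, mul_add]
  map_smul' c f := by
    apply Subtype.ext
    show ∑ i, x i * ((c • f i : GrLC.comp 𝒜 𝒜 n) : R) = (c : R) * ∑ i, x i * (f i : R)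
    rw [Finset.mul_sum]
    refine Finset.sum_congr rfl fun i _ => ?_
    show x i * ((c : R) * (f i : R)) = (c : R) * (x i * (f i : R))
    ring

include hx in
lemma gensMap_surjective (hirr : irrI 𝒜 = Ideal.span (Set.range x)) {n : ℤ} (hn : 0 ≤ n) :
    Function.Surjective (gensMap 𝒜 x hx n) := by
  classical
  rintro ⟨y, hy⟩
  have hy' : y ∈ 𝒜 (n + 1) := hy
  have hyirr : y ∈ irrI 𝒜 := by
    refine Ideal.subset_span ?_
    simp only [Set.mem_iUnion, Set.mem_Ioi, SetLike.mem_coe, exists_prop]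
    exact ⟨n + 1, by omega, hy'⟩
  rw [hirr] at hyirr
  obtain ⟨c, hc⟩ := (Ideal.mem_span_range_iff_exists_fun).mp hyirr
  refine ⟨fun i => ⟨(DirectSum.decompose 𝒜 (c i) n : R), (DirectSum.decompose 𝒜 (c i) n).2⟩, ?_⟩
  apply Subtype.ext
  show ∑ i, x i * (DirectSum.decompose 𝒜 (c i) n : R) = y
  have h1 : (DirectSum.decompose 𝒜 y (n + 1) : R) = y := DirectSum.decompose_of_mem_same 𝒜 hy'
  rw [← h1, ← hc, DirectSum.decompose_sum, DFinsupp.finsetSum_apply, AddSubmonoidClass.coe_finsetSum]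
  refine Finset.sum_congr rfl fun i _ => ?_
  rw [DirectSum.coe_decompose_mul_add_of_right_mem 𝒜 (hx i), mul_comm]

include hx in
/-- the graded pieces are finite-dimensional over the degree-zero field -/
lemma finite_comp (hpos : ∀ n : ℤ, n < 0 → 𝒜 n = ⊥)
    (hirr : irrI 𝒜 = Ideal.span (Set.range x)) (n : ℤ) :
    Module.Finite (GrLC.deg0 𝒜) (GrLC.comp 𝒜 𝒜 n) := by
  classical
  rcases lt_or_ge n 0 with hn | hn
  · rw [comp_eq_bot_of_neg 𝒜 hpos hn]
    infer_instance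
  obtain ⟨k, rfl⟩ : ∃ k : ℕ, n = (k : ℤ) := ⟨n.toNat, (Int.toNat_of_nonneg hn).symm⟩
  clear hn
  induction k with
  | zero =>
    let one0 : GrLC.comp 𝒜 𝒜 ((0 : ℕ) : ℤ) := ⟨1, by
      show (1 : R) ∈ 𝒜 ((0 : ℕ) : ℤ)
      rw [Nat.cast_zero]
      exact SetLike.GradedOne.one_mem⟩
    refine Module.Finite.of_surjective (LinearMap.toSpanSingleton (GrLC.deg0 𝒜) _ one0) ?_
    rintro ⟨y, hy⟩
    have hy' : y ∈ 𝒜 0 := by
      have : y ∈ 𝒜 ((0 : ℕ) : ℤ) := hy
      rwa [Nat.cast_zero] at this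
    refine ⟨⟨y, hy'⟩, ?_⟩
    apply Subtype.ext
    show y * 1 = y
    rw [mul_one]
  | succ k ih =>
    haveI := ih
    have hsurj := gensMap_surjective 𝒜 x hx hirr (n := (k : ℤ)) (by omega)
    have hfin : Module.Finite (GrLC.deg0 𝒜) (GrLC.comp 𝒜 𝒜 ((k : ℤ) + 1)) :=
      Module.Finite.of_surjective (gensMap 𝒜 x hx (k : ℤ)) hsurj
    have hcast : ((k + 1 : ℕ) : ℤ) = (k : ℤ) + 1 := by push_cast; ring
    rw [hcast]
    exact hfin

end Gens

section Main

variable {R : Type u} [CommRing R] (𝒜 : ℤ → AddSubgroup R) [GradedRing 𝒜]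

/-- **The Hilbert function of a standard graded Cohen–Macaulay ring of positive dimension over a
field is nondecreasing.** -/
theorem finrank_comp_le_succ [hCM : LocCoh.IsCohenMacaulayRing R]
    (hpos : ∀ n : ℤ, n < 0 → 𝒜 n = ⊥) (h0 : IsField (GrLC.deg0 𝒜))
    (hstd : Ideal.span (⋃ n ∈ Set.Ioi (0 : ℤ), (𝒜 n : Set R)) =
      Ideal.span ((𝒜 1 : AddSubgroup R) : Set R))
    (h1 : 1 ≤ ringKrullDim R) (n : ℤ) :
    Module.finrank (GrLC.deg0 𝒜) (GrLC.comp 𝒜 𝒜 n) ≤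
      Module.finrank (GrLC.deg0 𝒜) (GrLC.comp 𝒜 𝒜 (n + 1)) := by
  classical
  haveI : Nontrivial (GrLC.deg0 𝒜) := h0.nontrivial
  rcases lt_or_ge n 0 with hn | hn
  · rw [comp_eq_bot_of_neg 𝒜 hpos hn, finrank_bot]
    exact Nat.zero_le _
  obtain ⟨m, x, hx, hirr⟩ := exists_gens 𝒜 hstd
  haveI := finite_comp 𝒜 x hx hpos hirr n
  haveI := finite_comp 𝒜 x hx hpos hirr (n + 1)
  -- the generic linear form
  obtain ⟨ℓ, hℓdef⟩ : ∃ ℓ : R[X], ℓ = ∑ i : Fin m, Polynomial.monomial (i : ℕ) (x i) := ⟨_, rfl⟩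
  have hcoeff : ∀ j : ℕ, ℓ.coeff j = if h : j < m then x ⟨j, h⟩ else 0 := by
    intro j
    rw [hℓdef, Polynomial.finsetSum_coeff]
    simp only [Polynomial.coeff_monomial]
    split_ifs with h
    · rw [Finset.sum_eq_single (⟨j, h⟩ : Fin m)]
      · rw [if_pos rfl]
      · intro b _ hb
        rw [if_neg]
        intro hbj
        exact hb (Fin.ext hbj)
      · intro hn'
        exact absurd (Finset.mem_univ _) hn'
    · refine Finset.sum_eq_zero fun i _ => ?_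
      rw [if_neg]
      intro hij
      apply h
      rw [← hij]
      exact i.2
  have hnzd : ℓ ∈ nonZeroDivisors R[X] := by
    rw [Polynomial.mem_nonZeroDivisors_iff]
    intro a ha
    apply eq_zero_of_forall_mul_eq_zero 𝒜 hpos h0 h1 a
    intro y hy
    rw [hirr] at hy
    obtain ⟨c, rfl⟩ := (Ideal.mem_span_range_iff_exists_fun).mp hy
    rw [Finset.mul_sum]
    refine Finset.sum_eq_zero fun i _ => ?_
    have h2 := congrArg (fun P => P.coeff (i : ℕ)) ha
    simp only [Polynomial.coeff_smul, Polynomial.coeff_zero, hcoeff, i.2, dif_pos, Fin.eta,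
      smul_eq_mul] at h2
    rw [mul_left_comm, h2, mul_zero]
  have hVW : ∀ j : ℕ, ∀ v ∈ GrLC.comp 𝒜 𝒜 n, ℓ.coeff j * v ∈ GrLC.comp 𝒜 𝒜 (n + 1) := by
    intro j v hv
    rw [hcoeff]
    split_ifs with h
    · exact mul_gen_mem 𝒜 x hx ⟨j, h⟩ hv
    · rw [zero_mul]
      exact Submodule.zero_mem _
  exact finrank_le_of_nzd (GrLC.comp 𝒜 𝒜 n) (GrLC.comp 𝒜 𝒜 (n + 1)) ℓ hVW h0 hnzd

end Main

end Groth.Agent.Lib.LeadHM
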