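import Mathlib

/-!
# Lifting bounded above acyclic complexes along `R → R/I` (linear algebra core)
-/

set_option autoImplicit false
universe u
open CategoryTheory
open Pointwise

namespace Groth.Agent.Lib.T2H4.AcycLift

variable {R : Type u} [CommRing R] (I : Ideal R)
  (Pc : ObjectProperty (ModuleCat.{u} R)) [Pc.IsClosedUnderIsomorphisms]

section step

variable {X₀ X₁ E₀ E₁ : Type u} [AddCommGroup X₀] [Module R X₀] [AddCommGroup X₁] [Module R X₁]
  [AddCommGroup E₀] [Module R E₀] [AddCommGroup E₁] [Module R E₁]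

/-- a retraction onto a submodule maps `I • ⊤` into `I • ⊤`. -/
theorem mem_smul_top_of_retraction (K : Submodule R X₁) (r : X₁ →ₗ[R] K) (hr : ∀ x : K, r x = x)
    (y : K) (hy : (y : X₁) ∈ (I • ⊤ : Submodule R X₁)) : y ∈ (I • ⊤ : Submodule R K) := by
  have h1 : r (y : X₁) ∈ Submodule.map r (I • ⊤ : Submodule R X₁) := Submodule.mem_map_of_mem hy
  rw [Submodule.map_smul''] at h1
  rw [hr y] at h1
  exact Submodule.smul_mono le_rfl le_top h1

include Pc in
theorem step_abs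
    (h1 : ∀ X : ModuleCat.{u} R, Pc X → Module.Projective R X)
    (h2 : ∀ X Y : ModuleCat.{u} R, Pc X → Pc (ModuleCat.of R (X × Y)) → Pc Y)
    (h3 : ∀ (X Y : ModuleCat.{u} R) (f : X ⟶ Y), Pc X → Pc Y →
      LinearMap.range f.hom ⊔ I • (⊤ : Submodule R Y) = ⊤ → Function.Surjective f.hom)
    (π₀ : X₀ →ₗ[R] E₀) (π₁ : X₁ →ₗ[R] E₁) (δ₀ : E₀ →ₗ[R] E₁)
    (hπ₀ : Function.Surjective π₀) (hk₀ : (I • ⊤ : Submodule R X₀) ≤ LinearMap.ker π₀)
    (hk₁ : LinearMap.ker π₁ ≤ (I • ⊤ : Submodule R X₁))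
    (K : Submodule R X₁) (r : X₁ →ₗ[R] K) (hr : ∀ x : K, r x = x)
    (hPK : Pc (ModuleCat.of R K)) (hP₀ : Pc (ModuleCat.of R X₀))
    (hKZ : ∀ e₀ : E₀, ∃ x ∈ K, π₁ x = δ₀ e₀) (hKZ' : ∀ x ∈ K, ∃ e₀, δ₀ e₀ = π₁ x) :
    ∃ g : X₀ →ₗ[R] X₁, LinearMap.range g = K ∧ (∀ x, π₁ (g x) = δ₀ (π₀ x)) ∧
      (∃ r₀ : X₀ →ₗ[R] LinearMap.ker g, ∀ x : LinearMap.ker g, r₀ x = x) ∧
      Pc (ModuleCat.of R (LinearMap.ker g)) ∧
      (∀ e, δ₀ e = 0 → ∃ x ∈ LinearMap.ker g, π₀ x = e) := by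
  have projX₀ : Module.Projective R X₀ := h1 _ hP₀
  have projK : Module.Projective R K := h1 _ hPK
  -- step 1: lift
  let f : K →ₗ[R] LinearMap.range (π₁ ∘ₗ K.subtype) := (π₁ ∘ₗ K.subtype).rangeRestrict
  have hf : Function.Surjective f := LinearMap.surjective_rangeRestrict _
  let t : X₀ →ₗ[R] LinearMap.range (π₁ ∘ₗ K.subtype) :=
    LinearMap.codRestrict _ (δ₀ ∘ₗ π₀) (by
      intro x
      obtain ⟨y, hy, hy'⟩ := hKZ (π₀ x)
      exact ⟨⟨y, hy⟩, hy'⟩)
  obtain ⟨h, hh⟩ := Module.projective_lifting_property f t hf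
  have hcomm : ∀ x, π₁ (h x : X₁) = δ₀ (π₀ x) := by
    intro x
    have := congrArg (fun (m : X₀ →ₗ[R] LinearMap.range (π₁ ∘ₗ K.subtype)) => ((m x : _) : E₁)) hh
    exact this
  -- step 2: surjectivity
  have hsurj : Function.Surjective h := by
    refine h3 (ModuleCat.of R X₀) (ModuleCat.of R K) (ModuleCat.ofHom h) hP₀ hPK ?_
    rw [eq_top_iff]
    intro y _
    obtain ⟨e₀, he₀⟩ := hKZ' y y.2
    obtain ⟨x, rfl⟩ := hπ₀ e₀
    have hmem : ((y - h x : K) : X₁) ∈ (I • ⊤ : Submodule R X₁) := by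
      apply hk₁
      rw [LinearMap.mem_ker]
      push_cast
      rw [map_sub, hcomm, he₀, sub_self]
    have := mem_smul_top_of_retraction I K r hr _ hmem
    have hy : y = h x + (y - h x) := by abel
    rw [hy]
    exact Submodule.add_mem_sup ⟨x, rfl⟩ this
  -- step 3: the map
  have hkerg : LinearMap.ker (K.subtype ∘ₗ h) = LinearMap.ker h :=
    LinearMap.ker_comp_of_ker_eq_bot _ (Submodule.ker_subtype K)
  have hrange : LinearMap.range (K.subtype ∘ₗ h) = K := by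
    rw [LinearMap.range_comp, LinearMap.range_eq_top.2 hsurj, Submodule.map_top,
      Submodule.range_subtype]
  -- step 4: splitting
  obtain ⟨s, hs⟩ := Module.projective_lifting_property h LinearMap.id hsurj
  have hs' : ∀ k, h (s k) = k := fun k => LinearMap.congr_fun hs k
  have hmem : ∀ z : LinearMap.ker (K.subtype ∘ₗ h), h (z : X₀) = 0 :=
    fun z => LinearMap.mem_ker.1 (hkerg.le z.2)
  let r₀ : X₀ →ₗ[R] LinearMap.ker (K.subtype ∘ₗ h) :=
    LinearMap.codRestrict _ (LinearMap.id - s ∘ₗ h) (by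
      intro x
      rw [hkerg, LinearMap.mem_ker]
      simp [hs'])
  have hr₀ : ∀ x : LinearMap.ker (K.subtype ∘ₗ h), r₀ x = x := by
    intro x
    have hx : h (x : X₀) = 0 := hmem x
    apply Subtype.ext
    simp [r₀, hx]
  -- step 5
  let e : X₀ ≃ₗ[R] (K × LinearMap.ker (K.subtype ∘ₗ h)) :=
    LinearEquiv.ofLinearMap (LinearMap.prod h r₀)
      (LinearMap.coprod s (LinearMap.ker (K.subtype ∘ₗ h)).subtype)
      (by
        apply LinearMap.ext
        rintro ⟨k, z⟩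
        have hz : h (z : X₀) = 0 := hmem z
        apply Prod.ext
        · simp [hs', hz]
        · apply Subtype.ext
          simp [r₀, hs', hz])
      (by
        apply LinearMap.ext
        intro x
        simp [r₀])
  have hPprod : Pc (ModuleCat.of R (K × LinearMap.ker (K.subtype ∘ₗ h))) :=
    Pc.prop_of_iso e.toModuleIso hP₀
  have hPker : Pc (ModuleCat.of R (LinearMap.ker (K.subtype ∘ₗ h))) :=
    h2 (ModuleCat.of R K) (ModuleCat.of R (LinearMap.ker (K.subtype ∘ₗ h))) hPK hPprod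
  refine ⟨K.subtype ∘ₗ h, hrange, hcomm, ⟨r₀, hr₀⟩, hPker, ?_⟩
  -- step 6
  intro e he
  obtain ⟨x, rfl⟩ := hπ₀ e
  have h1' : ((h x : K) : X₁) ∈ (I • ⊤ : Submodule R X₁) := by
    apply hk₁
    rw [LinearMap.mem_ker, hcomm, he]
  have h2' : h x ∈ (I • ⊤ : Submodule R K) := mem_smul_top_of_retraction I K r hr _ h1'
  have h3' : (I • ⊤ : Submodule R K) = Submodule.map h (I • ⊤ : Submodule R X₀) := by
    rw [Submodule.map_smul'', Submodule.map_top, LinearMap.range_eq_top.2 hsurj]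
  rw [h3'] at h2'
  obtain ⟨z, hz, hz'⟩ := h2'
  refine ⟨x - z, ?_, ?_⟩
  · rw [hkerg, LinearMap.mem_ker, map_sub, hz', sub_self]
  · have : π₀ z = 0 := hk₀ hz
    rw [map_sub, this, sub_zero]

end step

section core

variable (X : ℤ → Type u) [∀ i, AddCommGroup (X i)] [∀ i, Module R (X i)]
  (E : ℤ → Type u) [∀ i, AddCommGroup (E i)] [∀ i, Module R (E i)]
  (π : ∀ i, X i →ₗ[R] E i) (δ : ∀ i, E i →ₗ[R] E (i + 1)) (b : ℤ)

/-- the property carried by the kernel at stage `i`. -/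
def StProp (i : ℤ) (K : Submodule R (X i)) : Prop :=
  (∃ r : X i →ₗ[R] K, ∀ x : K, r x = x) ∧ Pc (ModuleCat.of R K) ∧
    (∀ e : E i, δ i e = 0 → ∃ x ∈ K, π i x = e) ∧ (∀ x ∈ K, δ i (π i x) = 0)

/-- the hypotheses. -/
structure Hyp : Prop where
  h1 : ∀ X : ModuleCat.{u} R, Pc X → Module.Projective R X
  h2 : ∀ X Y : ModuleCat.{u} R, Pc X → Pc (ModuleCat.of R (X × Y)) → Pc Y
  h3 : ∀ (X Y : ModuleCat.{u} R) (f : X ⟶ Y), Pc X → Pc Y →
      LinearMap.range f.hom ⊔ I • (⊤ : Submodule R Y) = ⊤ → Function.Surjective f.hom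
  hπ : ∀ i, Function.Surjective (π i)
  hk : ∀ i, LinearMap.ker (π i) = (I • ⊤ : Submodule R (X i))
  hsq : ∀ i e, δ (i + 1) (δ i e) = 0
  hex : ∀ i (e : E (i + 1)), δ (i + 1) e = 0 → ∃ e', δ i e' = e
  hX : ∀ i, Pc (ModuleCat.of R (X i))
  hbE : ∀ i, b < i → Subsingleton (E i)
  hbX : ∀ i, b < i → Subsingleton (X i)

variable {I Pc X E π δ b}

theorem step (H : Hyp I Pc X E π δ b) (i : ℤ) (K : Submodule R (X (i + 1)))
    (hK : StProp Pc X E π δ (i + 1) K) :
    ∃ g : X i →ₗ[R] X (i + 1), LinearMap.range g = K ∧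
      (∀ x, π (i + 1) (g x) = δ i (π i x)) ∧ StProp Pc X E π δ i (LinearMap.ker g) := by
  obtain ⟨⟨r, hr⟩, hPK, hZ, hZ'⟩ := hK
  obtain ⟨g, hrange, hcomm, hr₀, hPker, h6⟩ := step_abs I Pc H.h1 H.h2 H.h3 (π i) (π (i + 1)) (δ i)
    (H.hπ i) (H.hk i).ge (H.hk (i + 1)).le K r hr hPK (H.hX i)
    (fun e₀ => hZ (δ i e₀) (H.hsq i e₀)) (fun x hx => H.hex i (π (i + 1) x) (hZ' x hx))
  refine ⟨g, hrange, hcomm, hr₀, hPker, h6, ?_⟩
  intro x hx
  rw [← hcomm, LinearMap.mem_ker.1 hx, map_zero]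

/-- stage data. -/
def St (Pc : ObjectProperty (ModuleCat.{u} R)) (X : ℤ → Type u) [∀ i, AddCommGroup (X i)]
    [∀ i, Module R (X i)]
    (E : ℤ → Type u) [∀ i, AddCommGroup (E i)] [∀ i, Module R (E i)]
    (π : ∀ i, X i →ₗ[R] E i) (δ : ∀ i, E i →ₗ[R] E (i + 1)) (i : ℤ) :=
  {K : Submodule R (X i) // StProp Pc X E π δ i K}

noncomputable def stepMap (H : Hyp I Pc X E π δ b) (i : ℤ) (s : St Pc X E π δ (i + 1)) :
    X i →ₗ[R] X (i + 1) :=
  (step H i s.1 s.2).choose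

theorem stepMap_range (H : Hyp I Pc X E π δ b) (i : ℤ) (s : St Pc X E π δ (i + 1)) :
    LinearMap.range (stepMap H i s) = s.1 :=
  (step H i s.1 s.2).choose_spec.1

theorem stepMap_comm (H : Hyp I Pc X E π δ b) (i : ℤ) (s : St Pc X E π δ (i + 1)) (x : X i) :
    π (i + 1) (stepMap H i s x) = δ i (π i x) :=
  (step H i s.1 s.2).choose_spec.2.1 x

noncomputable def stepSt (H : Hyp I Pc X E π δ b) (i : ℤ) (s : St Pc X E π δ (i + 1)) :
    St Pc X E π δ i :=
  ⟨LinearMap.ker (stepMap H i s), (step H i s.1 s.2).choose_spec.2.2⟩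

theorem stProp_top (H : Hyp I Pc X E π δ b) (i : ℤ) (hi : b ≤ i) :
    StProp Pc X E π δ i (⊤ : Submodule R (X i)) := by
  refine ⟨⟨LinearMap.codRestrict _ LinearMap.id (fun _ => Submodule.mem_top), ?_⟩, ?_, ?_, ?_⟩
  · intro x
    apply Subtype.ext
    rfl
  · exact Pc.prop_of_iso (Submodule.topEquiv (R := R) (M := X i)).symm.toModuleIso (H.hX i)
  · intro e _
    obtain ⟨x, hx⟩ := H.hπ i e
    exact ⟨x, Submodule.mem_top, hx⟩
  · intro x _
    have := H.hbE (i + 1) (by omega)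
    exact Subsingleton.elim _ _

noncomputable def baseSt (H : Hyp I Pc X E π δ b) (i : ℤ) (hi : b ≤ i) : St Pc X E π δ i :=
  ⟨⊤, stProp_top H i hi⟩

noncomputable def aux (H : Hyp I Pc X E π δ b) : ∀ (n : ℕ) (i : ℤ), i + n = b → St Pc X E π δ i
  | 0, i, h => baseSt H i (by omega)
  | n + 1, i, h => stepSt H i (aux H n (i + 1) (by omega))

theorem aux_congr (H : Hyp I Pc X E π δ b) (n m : ℕ) (hnm : n = m) (i : ℤ) (h : i + n = b)
    (h' : i + m = b) : aux H n i h = aux H m i h' := by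
  subst hnm
  rfl

noncomputable def stage (H : Hyp I Pc X E π δ b) (i : ℤ) : St Pc X E π δ i :=
  if h : i ≤ b then aux H (b - i).toNat i (by omega) else baseSt H i (by omega)

theorem stage_of_lt (H : Hyp I Pc X E π δ b) (i : ℤ) (hi : i < b) :
    stage H i = stepSt H i (stage H (i + 1)) := by
  unfold stage
  rw [dif_pos (by omega : i ≤ b), dif_pos (by omega : i + 1 ≤ b)]
  have h1 : (b - i).toNat = (b - (i + 1)).toNat + 1 := by omega
  rw [aux_congr H _ _ h1 i (by omega) (by omega)]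
  rfl

theorem stage_of_ge (H : Hyp I Pc X E π δ b) (i : ℤ) (hi : b ≤ i) :
    (stage H i).1 = ⊤ := by
  unfold stage
  by_cases h : i ≤ b
  · rw [dif_pos h]
    have h1 : (b - i).toNat = 0 := by omega
    rw [aux_congr H _ _ h1 i (by omega) (by omega)]
    rfl
  · rw [dif_neg h]
    rfl

noncomputable def dmap (H : Hyp I Pc X E π δ b) (i : ℤ) : X i →ₗ[R] X (i + 1) :=
  if i < b then stepMap H i (stage H (i + 1)) else 0

theorem ker_dmap (H : Hyp I Pc X E π δ b) (i : ℤ) :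
    LinearMap.ker (dmap H i) = (stage H i).1 := by
  unfold dmap
  by_cases hi : i < b
  · rw [if_pos hi, stage_of_lt H i hi]
    rfl
  · rw [if_neg hi, stage_of_ge H i (by omega), LinearMap.ker_zero]

theorem core (H : Hyp I Pc X E π δ b) :
    ∃ d : ∀ i, X i →ₗ[R] X (i + 1), (∀ i, LinearMap.ker (d (i + 1)) = LinearMap.range (d i)) ∧
      (∀ i x, π (i + 1) (d i x) = δ i (π i x)) := by
  refine ⟨dmap H, ?_, ?_⟩
  · intro i
    by_cases hi : i < b
    · rw [ker_dmap]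
      unfold dmap
      rw [if_pos hi, stepMap_range]
    · have := H.hbX (i + 1) (by omega)
      ext x
      have hx : x = 0 := Subsingleton.elim _ _
      subst hx
      simp
  · intro i x
    unfold dmap
    by_cases hi : i < b
    · rw [if_pos hi]
      exact stepMap_comm H i _ x
    · have := H.hbE (i + 1) (by omega)
      exact Subsingleton.elim _ _

end core

section pimap

open TensorProduct

variable {X : Type u} [AddCommGroup X] [Module R X] {M : ModuleCat.{u} (R ⧸ I)}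

theorem smul_one_tmul (r : R) (x : X) :
    ((1 : R ⧸ I) ⊗ₜ[R] (r • x)) = (Ideal.Quotient.mk I r) • ((1 : R ⧸ I) ⊗ₜ[R] x) := by
  rw [TensorProduct.smul_tmul', TensorProduct.tmul_smul, TensorProduct.smul_tmul']
  congr 1

noncomputable def piMap (θ : TensorProduct R (R ⧸ I) X ≃ₗ[R ⧸ I] M) :
    X →ₗ[R] ((ModuleCat.restrictScalars (Ideal.Quotient.mk I)).obj M) where
  toFun x := θ ((1 : R ⧸ I) ⊗ₜ[R] x)
  map_add' x y := by rw [TensorProduct.tmul_add, map_add]; rfl
  map_smul' r x := by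
    rw [smul_one_tmul, map_smul]
    rfl

theorem piMap_apply (θ : TensorProduct R (R ⧸ I) X ≃ₗ[R ⧸ I] M) (x : X) :
    piMap I θ x = θ ((1 : R ⧸ I) ⊗ₜ[R] x) := rfl

theorem exists_one_tmul (t : TensorProduct R (R ⧸ I) X) : ∃ x : X, t = (1 : R ⧸ I) ⊗ₜ[R] x := by
  induction t using TensorProduct.induction_on with
  | zero => exact ⟨0, by simp⟩
  | tmul a x =>
    obtain ⟨r, rfl⟩ := Ideal.Quotient.mk_surjective a
    refine ⟨r • x, ?_⟩
    rw [smul_one_tmul, TensorProduct.smul_tmul', smul_eq_mul, mul_one]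
  | add t₁ t₂ h₁ h₂ =>
    obtain ⟨x₁, rfl⟩ := h₁
    obtain ⟨x₂, rfl⟩ := h₂
    exact ⟨x₁ + x₂, by rw [TensorProduct.tmul_add]⟩

theorem piMap_surjective (θ : TensorProduct R (R ⧸ I) X ≃ₗ[R ⧸ I] M) :
    Function.Surjective (piMap I θ) := by
  intro m
  obtain ⟨x, hx⟩ := exists_one_tmul I (θ.symm m)
  refine ⟨x, ?_⟩
  rw [piMap_apply, ← hx, LinearEquiv.apply_symm_apply]

theorem one_tmul_eq_zero_iff (x : X) :
    ((1 : R ⧸ I) ⊗ₜ[R] x) = 0 ↔ x ∈ (I • ⊤ : Submodule R X) := by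
  rw [← (TensorProduct.quotTensorEquivQuotSMul X I).map_eq_zero_iff,
    TensorProduct.quotTensorEquivQuotSMul_mk_one_tmul I x, Submodule.Quotient.mk_eq_zero]

theorem piMap_ker (θ : TensorProduct R (R ⧸ I) X ≃ₗ[R ⧸ I] M) :
    LinearMap.ker (piMap I θ) = (I • ⊤ : Submodule R X) := by
  ext x
  rw [LinearMap.mem_ker, ← one_tmul_eq_zero_iff, ← θ.map_eq_zero_iff]
  rfl

end pimap

section app

open CategoryTheory.Limits

theorem app (R : Type u) [CommRing R] (I : Ideal R)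
    (Pc : ObjectProperty (ModuleCat.{u} R)) [Pc.IsClosedUnderIsomorphisms]
    (h1 : ∀ X : ModuleCat.{u} R, Pc X → Module.Projective R X)
    (h2 : ∀ X Y : ModuleCat.{u} R, Pc X → Pc (ModuleCat.of R (X × Y)) → Pc Y)
    (h3 : ∀ (X Y : ModuleCat.{u} R) (f : X ⟶ Y), Pc X → Pc Y →
      LinearMap.range f.hom ⊔ I • (⊤ : Submodule R Y) = ⊤ → Function.Surjective f.hom)
    (E : CochainComplex (ModuleCat.{u} (R ⧸ I)) ℤ) (b : ℤ) (hEb : ∀ i : ℤ, b < i → IsZero (E.X i))
    (hEa : E.Acyclic)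
    (hEt : ∀ i : ℤ, ∃ X : ModuleCat.{u} R, Pc X ∧
      Nonempty (TensorProduct R (R ⧸ I) X ≃ₗ[R ⧸ I] E.X i)) :
    ∃ (P : CochainComplex (ModuleCat.{u} R) ℤ), (∀ i : ℤ, b < i → IsZero (P.X i)) ∧ P.Acyclic ∧
      (∀ i : ℤ, Pc (P.X i)) ∧
      Nonempty ((((ModuleCat.extendScalars (Ideal.Quotient.mk I)).mapHomologicalComplex
        (ComplexShape.up ℤ)).obj P) ≅ E) := by
  choose Xc hXc hθ using hEt
  let θ : ∀ i, TensorProduct R (R ⧸ I) (Xc i) ≃ₗ[R ⧸ I] E.X i := fun i => (hθ i).some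
  let E' : ℤ → Type u := fun i => ((ModuleCat.restrictScalars (Ideal.Quotient.mk I)).obj (E.X i))
  let π : ∀ i, Xc i →ₗ[R] E' i := fun i => piMap I (θ i)
  let δ : ∀ i, E' i →ₗ[R] E' (i + 1) := fun i =>
    ((ModuleCat.restrictScalars (Ideal.Quotient.mk I)).map (E.d i (i + 1))).hom
  have hbE : ∀ i, b < i → Subsingleton (E' i) := fun i hi =>
    (ModuleCat.subsingleton_of_isZero (hEb i hi) : Subsingleton (E.X i))
  -- zero module in Pc
  have hP0 : Pc (ModuleCat.of R PUnit.{u + 1}) := by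
    refine h2 (Xc b) (ModuleCat.of R PUnit.{u + 1}) (hXc b) ?_
    exact Pc.prop_of_iso (LinearEquiv.prodUnique (R := R) (M := Xc b)
      (M₂ := PUnit.{u + 1})).symm.toModuleIso (hXc b)
  have hbX : ∀ i, b < i → Subsingleton (Xc i) := by
    intro i hi
    have hs := h3 (ModuleCat.of R PUnit.{u + 1}) (Xc i) 0 hP0 (hXc i) (by
      have := hbE i hi
      have hk : LinearMap.ker (π i) = ⊤ := by
        rw [eq_top_iff]
        intro x _
        exact Subsingleton.elim _ _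
      rw [← piMap_ker I (θ i), hk, sup_top_eq])
    constructor
    intro x y
    obtain ⟨_, rfl⟩ := hs x
    obtain ⟨_, rfl⟩ := hs y
    simp
  have H : Hyp I Pc (fun i => Xc i) E' π δ b :=
    { h1 := h1
      h2 := h2
      h3 := h3
      hπ := fun i => piMap_surjective I (θ i)
      hk := fun i => piMap_ker I (θ i)
      hsq := by
        intro i e
        show (E.d i (i + 1) ≫ E.d (i + 1) (i + 1 + 1)).hom e = 0
        rw [E.d_comp_d]
        rfl
      hex := by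
        intro i e he
        have h := (E.exactAt_iff' i (i + 1) (i + 1 + 1) (by simp) (by simp)).1 (hEa (i + 1))
        exact (ShortComplex.moduleCat_exact_iff _).1 h e he
      hX := hXc
      hbE := hbE
      hbX := hbX }
  obtain ⟨d, hexd, hcomm⟩ := core H
  have hsq : ∀ i x, d (i + 1) (d i x) = 0 := by
    intro i x
    have : d i x ∈ LinearMap.ker (d (i + 1)) := by
      rw [hexd]
      exact ⟨x, rfl⟩
    exact this
  let P : CochainComplex (ModuleCat.{u} R) ℤ :=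
    CochainComplex.of Xc (fun i => ModuleCat.ofHom (d i)) (by
      intro i
      ext x
      exact hsq i x)
  refine ⟨P, ?_, ?_, ?_, ⟨?_⟩⟩
  · intro i hi
    have := hbX i hi
    exact ModuleCat.isZero_of_subsingleton _
  · intro j
    obtain ⟨i, rfl⟩ : ∃ i, j = i + 1 := ⟨j - 1, by omega⟩
    rw [P.exactAt_iff' i (i + 1) (i + 1 + 1) (by simp) (by simp),
      ShortComplex.moduleCat_exact_iff]
    have hd : ∀ i, P.d i (i + 1) = ModuleCat.ofHom (d i) := fun i =>
      CochainComplex.of_d Xc (fun i => ModuleCat.ofHom (d i)) i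
    intro x hx
    have hx' : d (i + 1) x = 0 := by
      have h : (P.d (i + 1) (i + 1 + 1)).hom x = 0 := hx
      rw [hd] at h
      exact h
    have hx'' : x ∈ LinearMap.range (d i) := by
      rw [← hexd]
      exact hx'
    obtain ⟨y, hy⟩ := hx''
    refine ⟨y, ?_⟩
    show (P.d i (i + 1)).hom y = x
    rw [hd]
    exact hy
  · intro i
    exact hXc i
  · have hd : ∀ i, P.d i (i + 1) = ModuleCat.ofHom (d i) := fun i =>
      CochainComplex.of_d Xc (fun i => ModuleCat.ofHom (d i)) i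
    refine HomologicalComplex.Hom.isoOfComponents (fun i => (θ i).toModuleIso) ?_
    intro i j hij
    obtain rfl : i + 1 = j := hij
    apply ModuleCat.ExtendScalars.hom_ext
    intro m
    have := hcomm i m
    have e1 : (((ModuleCat.extendScalars (Ideal.Quotient.mk I)).mapHomologicalComplex
        (ComplexShape.up ℤ)).obj P).d i (i + 1) =
        (ModuleCat.extendScalars (Ideal.Quotient.mk I)).map (ModuleCat.ofHom (d i)) := by
      show (ModuleCat.extendScalars (Ideal.Quotient.mk I)).map (P.d i (i + 1)) = _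
      rw [hd]
    rw [e1]
    exact this.symm

end app

end Groth.Agent.Lib.T2H4.AcycLift
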