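import Mathlib
import Groth.Agent.Lib.T2H4AcycLift

/-!
# Helper library (helper4): lifting projective modules along `R → R/I` for a nilpotent ideal `I`

`exists_projective_lift`: for `I` nilpotent, every projective `R/I`-module `Pb` is of the form
`R/I ⊗ X` for a projective `R`-module `X` (lift the idempotent of a free module cutting out `Pb`).
-/

set_option autoImplicit false
universe u
open TensorProduct

namespace Groth.Agent.Lib.T2H4.ProjLift

open Groth.Agent.Lib.T2H4.AcycLift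

variable {R : Type u} [CommRing R] (I : Ideal R)

/-- lifting of linear maps modulo `I` from a projective source. -/
lemma exists_lift_lin {X Y : Type u} [AddCommGroup X] [Module R X] [AddCommGroup Y] [Module R Y]
    [Module.Projective R X] (u : (R ⧸ I) ⊗[R] X →ₗ[R ⧸ I] (R ⧸ I) ⊗[R] Y) :
    ∃ v : X →ₗ[R] Y, v.baseChange (R ⧸ I) = u := by
  let πY : Y →ₗ[R] (R ⧸ I) ⊗[R] Y := TensorProduct.mk R (R ⧸ I) Y 1
  have hπY : Function.Surjective πY := fun t => by
    obtain ⟨y, rfl⟩ := exists_one_tmul I t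
    exact ⟨y, rfl⟩
  let w : X →ₗ[R] (R ⧸ I) ⊗[R] Y := (u.restrictScalars R) ∘ₗ (TensorProduct.mk R (R ⧸ I) X 1)
  obtain ⟨h, hh⟩ := Module.projective_lifting_property πY w hπY
  refine ⟨h, ?_⟩
  ext x
  have := LinearMap.congr_fun hh x
  simpa [πY, w] using this

lemma pow_apply_mem {F : Type u} [AddCommGroup F] [Module R F] (g : Module.End R F)
    (hg : ∀ x, g x ∈ (I • ⊤ : Submodule R F)) (k : ℕ) (x : F) :
    (g ^ k) x ∈ (I ^ k • ⊤ : Submodule R F) := by
  induction k generalizing x with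
  | zero => rw [pow_zero, Ideal.one_eq_top, Submodule.top_smul]; trivial
  | succ k ih =>
    have h0 : (g ^ (k + 1)) x = g ((g ^ k) x) := by
      rw [pow_succ' g k]
      rfl
    rw [h0]
    have h1 : (I ^ k • ⊤ : Submodule R F).map g ≤ I ^ (k + 1) • ⊤ := by
      rw [Submodule.map_smul'', pow_succ, Submodule.mul_smul]
      apply Submodule.smul_mono le_rfl
      rintro _ ⟨y, -, rfl⟩
      exact hg y
    exact h1 (Submodule.mem_map_of_mem (ih x))

/-- for `I` nilpotent, projective `R/I`-modules lift to projective `R`-modules. -/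
theorem exists_projective_lift (hI : IsNilpotent I)
    (Pb : Type u) [AddCommGroup Pb] [Module (R ⧸ I) Pb] [Module.Projective (R ⧸ I) Pb] :
    ∃ (X : Type u) (_ : AddCommGroup X) (_ : Module R X), Module.Projective R X ∧
      Nonempty ((R ⧸ I) ⊗[R] X ≃ₗ[R ⧸ I] Pb) := by
  classical
  letI : Module R Pb := Module.compHom Pb (Ideal.Quotient.mk I)
  haveI : IsScalarTower R (R ⧸ I) Pb := IsScalarTower.of_algebraMap_smul (fun r x => rfl)
  let F := Pb →₀ R
  let π : F →ₗ[R] Pb := Finsupp.linearCombination R id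
  have hπ : Function.Surjective π := Finsupp.linearCombination_id_surjective R Pb
  let πb : (R ⧸ I) ⊗[R] F →ₗ[R ⧸ I] Pb := LinearMap.liftBaseChange (R ⧸ I) π
  have hπb : Function.Surjective πb := by
    intro y
    obtain ⟨x, rfl⟩ := hπ y
    exact ⟨1 ⊗ₜ x, by simp [πb]⟩
  obtain ⟨s, hs⟩ := Module.projective_lifting_property πb LinearMap.id hπb
  obtain ⟨e0, he0⟩ := exists_lift_lin I (s ∘ₗ πb)
  let ρ : Module.End R F →+* Module.End (R ⧸ I) ((R ⧸ I) ⊗[R] F) :=
    (Module.End.baseChangeHom R (R ⧸ I) F : Module.End R F →+* _)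
  have hρ : ∀ g, ρ g = g.baseChange (R ⧸ I) := fun g => rfl
  have hker : ∀ g ∈ RingHom.ker ρ, IsNilpotent g := by
    intro g hg
    rw [RingHom.mem_ker, hρ] at hg
    obtain ⟨n, hn⟩ := hI
    refine ⟨n, ?_⟩
    apply LinearMap.ext
    intro x
    have h1 : ∀ x, g x ∈ (I • ⊤ : Submodule R F) := fun x => by
      rw [← one_tmul_eq_zero_iff I]
      have := LinearMap.congr_fun hg ((1 : R ⧸ I) ⊗ₜ[R] x)
      simpa using this
    have h2 := pow_apply_mem I g h1 n x
    rw [hn, Ideal.zero_eq_bot, Submodule.bot_smul] at h2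
    simpa using h2
  have hidem : IsIdempotentElem (s ∘ₗ πb : Module.End (R ⧸ I) ((R ⧸ I) ⊗[R] F)) := by
    show (s ∘ₗ πb) ∘ₗ (s ∘ₗ πb) = s ∘ₗ πb
    apply LinearMap.ext
    intro z
    show s (πb (s (πb z))) = s (πb z)
    have h0 : πb (s (πb z)) = πb z := LinearMap.congr_fun hs (πb z)
    rw [h0]
  obtain ⟨e, he, hee⟩ :=
    exists_isIdempotentElem_eq_of_ker_isNilpotent ρ hker (s ∘ₗ πb) ⟨e0, he0⟩ hidem
  have hee' : e.baseChange (R ⧸ I) = s ∘ₗ πb := hee
  have he' : ∀ x, e (e x) = e x := fun x => by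
    have := LinearMap.congr_fun he.eq x
    simpa using this
  let X := LinearMap.range e
  let ι : X →ₗ[R] F := X.subtype
  let r : F →ₗ[R] X := e.rangeRestrict
  have hrι : r ∘ₗ ι = LinearMap.id := by
    apply LinearMap.ext
    rintro ⟨y, x, rfl⟩
    apply Subtype.ext
    exact he' x
  have hιr : ι ∘ₗ r = e := by
    apply LinearMap.ext
    intro x
    rfl
  have hreι : r ∘ₗ e ∘ₗ ι = LinearMap.id := by
    apply LinearMap.ext
    rintro ⟨y, x, rfl⟩
    apply Subtype.ext
    show e (e (e x)) = e x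
    rw [he', he']
  have : Module.Projective R X := Module.Projective.of_split ι r hrι
  have hsπ : ∀ z, s (πb z) = (e.baseChange (R ⧸ I)) z := fun z =>
    (LinearMap.congr_fun hee' z).symm
  have hπs : ∀ y, πb (s y) = y := fun y => LinearMap.congr_fun hs y
  refine ⟨X, inferInstance, inferInstance, inferInstance, ⟨?_⟩⟩
  refine LinearEquiv.ofLinearMap (πb ∘ₗ ι.baseChange (R ⧸ I)) (r.baseChange (R ⧸ I) ∘ₗ s) ?_ ?_
  · apply LinearMap.ext
    intro y
    have h1 : (ι.baseChange (R ⧸ I)) ((r.baseChange (R ⧸ I)) (s y)) = s (πb (s y)) := by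
      rw [hsπ, ← hιr, LinearMap.baseChange_comp]
      rfl
    show πb ((ι.baseChange (R ⧸ I)) ((r.baseChange (R ⧸ I)) (s y))) = y
    rw [h1, hπs, hπs]
  · apply LinearMap.ext
    intro t
    show (r.baseChange (R ⧸ I)) (s (πb ((ι.baseChange (R ⧸ I)) t))) = t
    rw [hsπ]
    have h2 : (r.baseChange (R ⧸ I)) ∘ₗ (e.baseChange (R ⧸ I)) ∘ₗ (ι.baseChange (R ⧸ I))
        = LinearMap.id := by
      rw [← LinearMap.baseChange_comp, ← LinearMap.baseChange_comp, hreι, LinearMap.baseChange_id]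
    exact LinearMap.congr_fun h2 t

end Groth.Agent.Lib.T2H4.ProjLift
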