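import Mathlib
import Groth.Agent.Lib.Helper26HenselIdem
import Groth.Agent.Lib.T2H4ProjLift

/-!
# Lifting finite projective modules along a Henselian pair (lead)
-/
set_option autoImplicit false
set_option linter.style.haveILetI false
set_option linter.deprecated false
set_option linter.unusedSectionVars false
set_option linter.unusedVariables false
set_option maxHeartbeats 400000
universe u
open TensorProduct Polynomial

namespace Groth.Agent.Lib.LeadHensProj

section
variable {R : Type u} [CommRing R] (I : Ideal R)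

theorem aeval_mem_map {C : Type*} [CommRing C] [Algebra R C] (q : R[X])
    (hq : ∀ i, q.coeff i ∈ I) (x : C) : aeval x q ∈ I.map (algebraMap R C) := by
  rw [aeval_eq_sum_range]
  refine Ideal.sum_mem _ (fun i _ => ?_)
  rw [Algebra.smul_def]
  exact Ideal.mul_mem_right _ _ (Ideal.mem_map_of_mem _ (hq i))

theorem exists_poly_pow_eq (F : Type u) [AddCommGroup F] [Module R F] [Module.Finite R F]
    [Module.Free R F] (c : Module.End R F) (hc : c.baseChange (R ⧸ I) = 0) :
    ∃ q : R[X], (∀ i, q.coeff i ∈ I) ∧ c ^ (Module.finrank R F) = aeval c q := by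
  by_cases hI : I = ⊤
  · refine ⟨X ^ Module.finrank R F, fun i => by rw [hI]; trivial, by simp⟩
  haveI : Nontrivial (R ⧸ I) := Ideal.Quotient.nontrivial_iff.mpr hI
  haveI : Nontrivial R := (Ideal.Quotient.mk I).domain_nontrivial
  set n := Module.finrank R F with hn
  have hp : c.charpoly.map (algebraMap R (R ⧸ I)) = X ^ n := by
    rw [← LinearMap.charpoly_baseChange, hc, LinearMap.charpoly_zero, Module.finrank_baseChange]
  refine ⟨X ^ n - c.charpoly, fun i => ?_, ?_⟩
  · rw [← Ideal.Quotient.eq_zero_iff_mem]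
    have h1 : (X ^ n - c.charpoly).map (algebraMap R (R ⧸ I)) = 0 := by
      rw [Polynomial.map_sub, hp, Polynomial.map_pow, Polynomial.map_X, sub_self]
    have h2 := congrArg (fun p => p.coeff i) h1
    simpa [Polynomial.coeff_map] using h2
  · rw [map_sub, LinearMap.aeval_self_charpoly, sub_zero, map_pow, aeval_X]

theorem exists_quot_ringHom (F : Type u) [AddCommGroup F] [Module R F]
    (B : Type u) [CommRing B] [Algebra R B] (ι : B →ₐ[R] Module.End R F) :
    ∃ f : B ⧸ I.map (algebraMap R B) →+* Module.End (R ⧸ I) ((R ⧸ I) ⊗[R] F),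
      ∀ c : B, f (Ideal.Quotient.mk _ c) = (ι c).baseChange (R ⧸ I) := by
  let ρ : Module.End R F →+* Module.End (R ⧸ I) ((R ⧸ I) ⊗[R] F) :=
    (Module.End.baseChangeHom R (R ⧸ I) F : Module.End R F →+* _)
  let ρC : B →+* Module.End (R ⧸ I) ((R ⧸ I) ⊗[R] F) := ρ.comp ι.toRingHom
  have hρC : ∀ c : B, ρC c = (ι c).baseChange (R ⧸ I) := fun c => rfl
  have hIC : ∀ a ∈ I.map (algebraMap R B), ρC a = 0 := by
    intro a ha
    have hle : I.map (algebraMap R B) ≤ RingHom.ker ρC := by
      rw [Ideal.map_le_iff_le_comap]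
      intro r hr
      rw [Ideal.mem_comap, RingHom.mem_ker, hρC]
      apply LinearMap.ext
      intro z
      have h1 : ι (algebraMap R B r) = r • (1 : Module.End R F) := by
        rw [AlgHom.commutes, Algebra.smul_def, mul_one]
      rw [h1, LinearMap.baseChange_smul]
      show r • ((1 : Module.End R F).baseChange (R ⧸ I)) z = 0
      rw [← algebraMap_smul (R ⧸ I) r]
      have h2 : algebraMap R (R ⧸ I) r = 0 := Ideal.Quotient.eq_zero_iff_mem.mpr hr
      rw [h2, zero_smul]
    exact (RingHom.mem_ker).mp (hle ha)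
  exact ⟨Ideal.Quotient.lift _ ρC hIC, fun c => (Ideal.Quotient.lift_mk _ ρC hIC).trans (hρC c)⟩

theorem exists_idempotent_lift_aux [HenselianRing R I] (F : Type u) [AddCommGroup F] [Module R F]
    [Module.Finite R F] [Module.Free R F] (B : Type u) [CommRing B] [Algebra R B]
    [Algebra.IsIntegral R B] (ι : B →ₐ[R] Module.End R F) (hι : Function.Injective ι) (b0 : B)
    (h0 : IsIdempotentElem ((ι b0).baseChange (R ⧸ I) : Module.End (R ⧸ I) ((R ⧸ I) ⊗[R] F))) :
    ∃ b : B, IsIdempotentElem b ∧ (ι b).baseChange (R ⧸ I) = (ι b0).baseChange (R ⧸ I) := by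
  classical
  obtain ⟨f, hf⟩ := exists_quot_ringHom I F B ι
  have hker : ∀ x ∈ RingHom.ker f, IsNilpotent x := by
    intro x hx
    obtain ⟨c, rfl⟩ := Ideal.Quotient.mk_surjective x
    rw [RingHom.mem_ker, hf] at hx
    obtain ⟨q, hq, hpow⟩ := exists_poly_pow_eq I F (ι c) hx
    refine ⟨Module.finrank R F, ?_⟩
    rw [← map_pow, Ideal.Quotient.eq_zero_iff_mem]
    have h1 : c ^ Module.finrank R F = aeval c q := by
      apply hι
      rw [map_pow, hpow, Polynomial.aeval_algHom_apply]
    rw [h1]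
    exact aeval_mem_map I q hq c
  have key : ∃ e' : B ⧸ I.map (algebraMap R B), IsIdempotentElem e' ∧
      f e' = (ι b0).baseChange (R ⧸ I) := by
    set N : Ideal (B ⧸ I.map (algebraMap R B)) := RingHom.ker f with hN
    set t : B ⧸ I.map (algebraMap R B) := Ideal.Quotient.mk _ b0 with ht
    have hft : f t = (ι b0).baseChange (R ⧸ I) := hf b0
    have htt : t * t - t ∈ N := by
      rw [hN, RingHom.mem_ker, map_sub, map_mul, hft, h0.eq, sub_self]
    have hkerN : ∀ x ∈ RingHom.ker (Ideal.Quotient.mk N), IsNilpotent x := by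
      intro x hx
      rw [Ideal.mk_ker] at hx
      exact hker x hx
    have hidem : IsIdempotentElem (Ideal.Quotient.mk N t) := by
      show Ideal.Quotient.mk N t * Ideal.Quotient.mk N t = Ideal.Quotient.mk N t
      rw [← map_mul, Ideal.Quotient.mk_eq_mk_iff_sub_mem]
      exact htt
    obtain ⟨e', he', hfe'⟩ := exists_isIdempotentElem_eq_of_ker_isNilpotent
      (Ideal.Quotient.mk N) hkerN (Ideal.Quotient.mk N t) (RingHom.mem_range.mpr ⟨t, rfl⟩) hidem
    refine ⟨e', he', ?_⟩
    rw [← hft]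
    have h1 : e' - t ∈ N := Ideal.Quotient.mk_eq_mk_iff_sub_mem _ _ |>.mp hfe'
    rw [hN, RingHom.mem_ker, map_sub, sub_eq_zero] at h1
    exact h1
  obtain ⟨e', he', hfe'⟩ := key
  obtain ⟨e'', he'', hmk⟩ := Groth.Agent.Lib.Helper26.HenselIdem.idem_surjOn R I B he'
  refine ⟨e'', he'', ?_⟩
  rw [← hfe', ← hmk]
  exact (hf e'').symm

/-- Idempotents of `End (F/IF)` lift to `End F` along a Henselian pair, for `F` finite free. -/
theorem exists_idempotent_lift_end [HenselianRing R I] (F : Type u) [AddCommGroup F] [Module R F]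
    [Module.Finite R F] [Module.Free R F] (e0 : Module.End R F)
    (h0 : IsIdempotentElem (e0.baseChange (R ⧸ I) : Module.End (R ⧸ I) ((R ⧸ I) ⊗[R] F))) :
    ∃ e : Module.End R F, IsIdempotentElem e ∧ e.baseChange (R ⧸ I) = e0.baseChange (R ⧸ I) := by
  classical
  have hcomm : ∀ a ∈ ({e0} : Set (Module.End R F)), ∀ b ∈ ({e0} : Set (Module.End R F)),
      a * b = b * a := by
    intro a ha b hb
    rw [Set.mem_singleton_iff] at ha hb
    rw [ha, hb]
  let C : Subalgebra R (Module.End R F) := Algebra.adjoin R {e0}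
  letI : CommRing C := Algebra.adjoinCommRingOfComm R hcomm
  haveI : Algebra.IsIntegral R C := by
    refine ⟨fun x => ?_⟩
    exact (isIntegral_algHom_iff C.val Subtype.val_injective).mp
      (Algebra.IsIntegral.isIntegral (x : Module.End R F))
  have he0C : e0 ∈ C := Algebra.subset_adjoin (Set.mem_singleton e0)
  obtain ⟨b, hb, hbb⟩ := exists_idempotent_lift_aux I F C C.val Subtype.val_injective ⟨e0, he0C⟩ h0
  refine ⟨(b : Module.End R F), ?_, hbb⟩
  exact congrArg (Subtype.val) hb.eq

/-- Finite projective `R/I`-modules lift to finite projective `R`-modules along a Henselian pair. -/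
theorem exists_finiteProjective_lift [HenselianRing R I]
    (Pb : Type u) [AddCommGroup Pb] [Module (R ⧸ I) Pb] [Module.Finite (R ⧸ I) Pb]
    [Module.Projective (R ⧸ I) Pb] :
    ∃ (X : Type u) (_ : AddCommGroup X) (_ : Module R X), Module.Finite R X ∧
      Module.Projective R X ∧ Nonempty ((R ⧸ I) ⊗[R] X ≃ₗ[R ⧸ I] Pb) := by
  classical
  letI : Module R Pb := Module.compHom Pb (Ideal.Quotient.mk I)
  haveI : IsScalarTower R (R ⧸ I) Pb := IsScalarTower.of_algebraMap_smul (fun r x => rfl)
  haveI : Module.Finite R (R ⧸ I) :=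
    Module.Finite.of_surjective (Algebra.linearMap R (R ⧸ I)) Ideal.Quotient.mk_surjective
  haveI : Module.Finite R Pb := Module.Finite.trans (R ⧸ I) Pb
  obtain ⟨n, π, hπ⟩ := Module.Finite.exists_fin' R Pb
  let F := Fin n → R
  let πb : (R ⧸ I) ⊗[R] F →ₗ[R ⧸ I] Pb := LinearMap.liftBaseChange (R ⧸ I) π
  have hπb : Function.Surjective πb := by
    intro y
    obtain ⟨x, rfl⟩ := hπ y
    exact ⟨1 ⊗ₜ x, by simp [πb]⟩
  obtain ⟨s, hs⟩ := Module.projective_lifting_property πb LinearMap.id hπb
  obtain ⟨e0, he0⟩ := Groth.Agent.Lib.T2H4.ProjLift.exists_lift_lin I (s ∘ₗ πb)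
  have hidem : IsIdempotentElem (s ∘ₗ πb : Module.End (R ⧸ I) ((R ⧸ I) ⊗[R] F)) := by
    show (s ∘ₗ πb) ∘ₗ (s ∘ₗ πb) = s ∘ₗ πb
    apply LinearMap.ext
    intro z
    show s (πb (s (πb z))) = s (πb z)
    have h0 : πb (s (πb z)) = πb z := LinearMap.congr_fun hs (πb z)
    rw [h0]
  obtain ⟨e, he, hee⟩ := exists_idempotent_lift_end I F e0 (by rw [he0]; exact hidem)
  have hee' : e.baseChange (R ⧸ I) = s ∘ₗ πb := hee.trans he0
  have he' : ∀ x, e (e x) = e x := fun x => by
    have := LinearMap.congr_fun he.eq x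
    simpa using this
  let X := LinearMap.range e
  let ι : X →ₗ[R] F := X.subtype
  let r : F →ₗ[R] X := e.rangeRestrict
  have hrι : r ∘ₗ ι = LinearMap.id := by
    apply LinearMap.ext
    rintro ⟨y, x, rfl⟩
    apply Subtype.ext
    exact he' x
  have hιr : ι ∘ₗ r = e := by
    apply LinearMap.ext
    intro x
    rfl
  have hreι : r ∘ₗ e ∘ₗ ι = LinearMap.id := by
    apply LinearMap.ext
    rintro ⟨y, x, rfl⟩
    apply Subtype.ext
    show e (e (e x)) = e x
    rw [he', he']
  have : Module.Projective R X := Module.Projective.of_split ι r hrι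
  have hfin : Module.Finite R X := Module.Finite.range e
  have hsπ : ∀ z, s (πb z) = (e.baseChange (R ⧸ I)) z := fun z =>
    (LinearMap.congr_fun hee' z).symm
  have hπs : ∀ y, πb (s y) = y := fun y => LinearMap.congr_fun hs y
  refine ⟨X, inferInstance, inferInstance, hfin, inferInstance, ⟨?_⟩⟩
  refine LinearEquiv.ofLinearMap (πb ∘ₗ ι.baseChange (R ⧸ I)) (r.baseChange (R ⧸ I) ∘ₗ s) ?_ ?_
  · apply LinearMap.ext
    intro y
    have h1 : (ι.baseChange (R ⧸ I)) ((r.baseChange (R ⧸ I)) (s y)) = s (πb (s y)) := by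
      rw [hsπ, ← hιr, LinearMap.baseChange_comp]
      rfl
    show πb ((ι.baseChange (R ⧸ I)) ((r.baseChange (R ⧸ I)) (s y))) = y
    rw [h1, hπs, hπs]
  · apply LinearMap.ext
    intro t
    show (r.baseChange (R ⧸ I)) (s (πb ((ι.baseChange (R ⧸ I)) t))) = t
    rw [hsπ]
    have h2 : (r.baseChange (R ⧸ I)) ∘ₗ (e.baseChange (R ⧸ I)) ∘ₗ (ι.baseChange (R ⧸ I))
        = LinearMap.id := by
      rw [← LinearMap.baseChange_comp, ← LinearMap.baseChange_comp, hreι, LinearMap.baseChange_id]
    exact LinearMap.congr_fun h2 t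

end

end Groth.Agent.Lib.LeadHensProj
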