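import Mathlib

/-!
# Rational hyperplane sections of `∑ (X_i Y_i^q - Y_i X_i^q) = 0` are singular (lead)

For a finite field `k` with `q` elements, `F = ∑ (X_i Y_i^q - Y_i X_i^q)` and a nonzero linear form
`L = ∑ c_v x_v` over `k`, the `k`-algebra `k[X, Y]/(F, L)[1/x_w]` is not formally smooth when `w`
is a coordinate with `P_w ≠ 0`, where `P` is the rational point with `dF_P = L`: the arc
`P + t d` (`d` a `k[s]`-point of the hyperplane with `F(d) ≠ 0`) is defined modulo `t^(q+1)` but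
does not lift modulo `t^(q+2)`.
-/

set_option maxHeartbeats 400000
set_option linter.style.haveILetI false
set_option linter.unusedSectionVars false
set_option autoImplicit false

universe u
open Polynomial

namespace Groth.Agent.Lib.LeadHermHyp

variable {k : Type u} [Field k] [Fintype k]

/-- additivity of the `q`-th power in a `k`-algebra -/
theorem add_pow_card {B : Type*} [CommRing B] [Algebra k B] (x y : B) :
    (x + y) ^ Fintype.card k = x ^ Fintype.card k + y ^ Fintype.card k := by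
  rcases subsingleton_or_nontrivial B with h | h
  · exact Subsingleton.elim _ _
  · obtain ⟨p, hp⟩ := CharP.exists k
    haveI := hp
    haveI : Fact p.Prime := ⟨CharP.char_is_prime k p⟩
    obtain ⟨e, -, he⟩ := FiniteField.card k p
    haveI : CharP B p := charP_of_injective_algebraMap (algebraMap k B).injective p
    rw [he]
    exact add_pow_char_pow x y p e

theorem sum_pow_card {B : Type*} [CommRing B] [Algebra k B] {ι : Type*} (s : Finset ι)
    (g : ι → B) :
    (∑ i ∈ s, g i) ^ Fintype.card k = ∑ i ∈ s, g i ^ Fintype.card k := by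
  classical
  induction s using Finset.induction_on with
  | empty => simp [Fintype.card_ne_zero]
  | insert a s ha ih => rw [Finset.sum_insert ha, Finset.sum_insert ha, add_pow_card, ih]

theorem algebraMap_pow_card {B : Type*} [CommRing B] [Algebra k B] (a : k) :
    (algebraMap k B a) ^ Fintype.card k = algebraMap k B a := by
  rw [← map_pow, FiniteField.pow_card]

variable {n : ℕ}

/-- the value of the form `F` at a point -/
def Fv {B : Type*} [CommRing B] (Q : ℕ) (z : Fin (n + 1) ⊕ Fin (n + 1) → B) : B :=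
  ∑ i : Fin (n + 1), (z (Sum.inl i) * z (Sum.inr i) ^ Q - z (Sum.inr i) * z (Sum.inl i) ^ Q)

/-- the value of the linear form `L` at a point -/
def Lv {B : Type*} [CommRing B] [Algebra k B] (c : Fin (n + 1) ⊕ Fin (n + 1) → k)
    (z : Fin (n + 1) ⊕ Fin (n + 1) → B) : B :=
  ∑ v, algebraMap k B (c v) * z v

theorem Lv_split {B : Type*} [CommRing B] [Algebra k B] (c : Fin (n + 1) ⊕ Fin (n + 1) → k)
    (z : Fin (n + 1) ⊕ Fin (n + 1) → B) :
    Lv c z = ∑ i : Fin (n + 1), (algebraMap k B (c (Sum.inl i)) * z (Sum.inl i) +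
      algebraMap k B (c (Sum.inr i)) * z (Sum.inr i)) := by
  rw [Lv, Fintype.sum_sum_type, Finset.sum_add_distrib]

/-- the point of tangency: `dF_P = L` -/
def pt (c : Fin (n + 1) ⊕ Fin (n + 1) → k) : Fin (n + 1) ⊕ Fin (n + 1) → k :=
  Sum.elim (fun i => - c (Sum.inr i)) (fun i => c (Sum.inl i))

theorem key {B : Type*} [CommRing B] [Algebra k B] (c : Fin (n + 1) ⊕ Fin (n + 1) → k) (t : B)
    (ht : t ^ (Fintype.card k + 2) = 0) (V U : Fin (n + 1) ⊕ Fin (n + 1) → B)
    (hV : Lv c V = 0) :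
    Fv (Fintype.card k)
        (fun v => algebraMap k B (pt c v) + t * V v + t ^ (Fintype.card k + 1) * U v)
      - Lv c (fun v => algebraMap k B (pt c v) + t * V v + t ^ (Fintype.card k + 1) * U v)
      = t ^ (Fintype.card k + 1) * Fv (Fintype.card k) V := by
  have hQ : 2 ≤ Fintype.card k := Fintype.one_lt_card
  generalize hQdef : Fintype.card k = Q at *
  have h0 : t ^ (Q + 1) * t ^ Q = 0 := by
    rw [← pow_add]
    exact pow_eq_zero_of_le (by omega) ht
  have hT : (t ^ (Q + 1)) ^ Q = 0 := by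
    rw [← pow_mul]
    exact pow_eq_zero_of_le (by nlinarith) ht
  have hapc : ∀ a : k, (algebraMap k B a) ^ Q = algebraMap k B a := by
    intro a; rw [← hQdef]; exact algebraMap_pow_card a
  have hadd : ∀ x y : B, (x + y) ^ Q = x ^ Q + y ^ Q := by
    intro x y; rw [← hQdef]; exact add_pow_card x y
  have hpow : ∀ v, (algebraMap k B (pt c v) + t * V v + t ^ (Q + 1) * U v) ^ Q =
      algebraMap k B (pt c v) + t ^ Q * V v ^ Q := by
    intro v
    rw [hadd, hadd, mul_pow, mul_pow, hT, zero_mul, add_zero, hapc]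
  have hterm : ∀ i : Fin (n + 1),
      ((algebraMap k B (pt c (Sum.inl i)) + t * V (Sum.inl i) + t ^ (Q + 1) * U (Sum.inl i)) *
          (algebraMap k B (pt c (Sum.inr i)) + t * V (Sum.inr i) + t ^ (Q + 1) * U (Sum.inr i)) ^ Q
        - (algebraMap k B (pt c (Sum.inr i)) + t * V (Sum.inr i) + t ^ (Q + 1) * U (Sum.inr i)) *
          (algebraMap k B (pt c (Sum.inl i)) + t * V (Sum.inl i) + t ^ (Q + 1) * U (Sum.inl i)) ^ Q)
      - (algebraMap k B (c (Sum.inl i)) *
          (algebraMap k B (pt c (Sum.inl i)) + t * V (Sum.inl i) + t ^ (Q + 1) * U (Sum.inl i)) +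
        algebraMap k B (c (Sum.inr i)) *
          (algebraMap k B (pt c (Sum.inr i)) + t * V (Sum.inr i) + t ^ (Q + 1) * U (Sum.inr i)))
      - t ^ (Q + 1) * (V (Sum.inl i) * V (Sum.inr i) ^ Q - V (Sum.inr i) * V (Sum.inl i) ^ Q)
      = - t ^ Q * ((algebraMap k B (c (Sum.inl i)) * V (Sum.inl i)) ^ Q +
          (algebraMap k B (c (Sum.inr i)) * V (Sum.inr i)) ^ Q) := by
    intro i
    rw [hpow (Sum.inl i), hpow (Sum.inr i), mul_pow, mul_pow, hapc, hapc]
    simp only [pt, Sum.elim_inl, Sum.elim_inr, map_neg]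
    linear_combination
      (U (Sum.inl i) * V (Sum.inr i) ^ Q - U (Sum.inr i) * V (Sum.inl i) ^ Q) * h0
  have hsum : (∑ v, (algebraMap k B (c v) * V v) ^ Q) = 0 := by
    have h1 := hadd 0 0
    have h2 : (∑ v, (algebraMap k B (c v) * V v)) ^ Q = ∑ v, (algebraMap k B (c v) * V v) ^ Q := by
      rw [← hQdef]; exact sum_pow_card _ _
    rw [← h2]
    have h3 : (∑ v, algebraMap k B (c v) * V v) = 0 := hV
    rw [h3]
    exact zero_pow (by omega)
  have h4 : (∑ i : Fin (n + 1), ((algebraMap k B (c (Sum.inl i)) * V (Sum.inl i)) ^ Q +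
      (algebraMap k B (c (Sum.inr i)) * V (Sum.inr i)) ^ Q)) =
      ∑ v, (algebraMap k B (c v) * V v) ^ Q := by
    rw [Fintype.sum_sum_type, Finset.sum_add_distrib]
  have hmain : Fv Q (fun v => algebraMap k B (pt c v) + t * V v + t ^ (Q + 1) * U v)
      - Lv c (fun v => algebraMap k B (pt c v) + t * V v + t ^ (Q + 1) * U v)
      - t ^ (Q + 1) * Fv Q V = 0 := by
    rw [Lv_split, Fv, Fv, Finset.mul_sum, ← Finset.sum_sub_distrib, ← Finset.sum_sub_distrib,
      Finset.sum_congr rfl (fun i _ => hterm i), ← Finset.mul_sum, h4, hsum, mul_zero]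
  exact sub_eq_zero.mp hmain

/-! ### the test ring -/

/-- the test ring `B = k[s][t]/(t^(q+2))` -/
def TB (k : Type u) [Field k] [Fintype k] : Type u :=
  Polynomial (Polynomial k) ⧸
    Ideal.span {(X : Polynomial (Polynomial k)) ^ (Fintype.card k + 2)}

noncomputable instance : CommRing (TB k) :=
  inferInstanceAs (CommRing (Polynomial (Polynomial k) ⧸
    Ideal.span {(X : Polynomial (Polynomial k)) ^ (Fintype.card k + 2)}))

noncomputable instance : Algebra k (TB k) :=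
  inferInstanceAs (Algebra k (Polynomial (Polynomial k) ⧸
    Ideal.span {(X : Polynomial (Polynomial k)) ^ (Fintype.card k + 2)}))

/-- the quotient map -/
noncomputable def TBmk : Polynomial (Polynomial k) →ₐ[k] TB k :=
  Ideal.Quotient.mkₐ k (Ideal.span {(X : Polynomial (Polynomial k)) ^ (Fintype.card k + 2)})

theorem TBmk_eq_zero_iff (p : Polynomial (Polynomial k)) :
    (TBmk p : TB k) = 0 ↔ X ^ (Fintype.card k + 2) ∣ p := by
  change Ideal.Quotient.mk (Ideal.span {(X : Polynomial (Polynomial k)) ^ (Fintype.card k + 2)}) p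
    = 0 ↔ _
  rw [Ideal.Quotient.eq_zero_iff_mem, Ideal.mem_span_singleton]

/-- the class of `t` -/
noncomputable def tt : TB k := TBmk X

theorem tt_pow : (tt : TB k) ^ (Fintype.card k + 2) = 0 := by
  rw [tt, ← map_pow, TBmk_eq_zero_iff]

/-- `k[s] → B` -/
noncomputable def ιD : Polynomial k →ₐ[k] TB k :=
  TBmk.comp Polynomial.CAlgHom

theorem ιD_inj (r : Polynomial k) (h : (tt : TB k) ^ (Fintype.card k + 1) * ιD r = 0) : r = 0 := by
  have h1 : (tt : TB k) ^ (Fintype.card k + 1) * ιD r =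
      TBmk (X ^ (Fintype.card k + 1) * C r) := by
    rw [map_mul, map_pow]; rfl
  rw [h1, TBmk_eq_zero_iff] at h
  have h2 := (Polynomial.X_pow_dvd_iff.mp h) (Fintype.card k + 1) (by omega)
  have h3 : (X ^ (Fintype.card k + 1) * C r : Polynomial (Polynomial k)).coeff
      (0 + (Fintype.card k + 1)) = (C r : Polynomial (Polynomial k)).coeff 0 :=
    Polynomial.coeff_X_pow_mul _ _ _
  rw [zero_add] at h3
  rw [h3, coeff_C_zero] at h2
  exact h2

/-! ### the direction -/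

/-- a `k[s]`-point of the hyperplane `L = 0` outside the cone `F = 0` -/
noncomputable def dvec (c : Fin (n + 1) ⊕ Fin (n + 1) → k) (v₀ : Fin (n + 1) ⊕ Fin (n + 1))
    (j : Fin (n + 1)) : Fin (n + 1) ⊕ Fin (n + 1) → Polynomial k :=
  fun v => (if v = Sum.inl j then 1 else 0) + (if v = Sum.inr j then X else 0) +
    (if v = v₀ then -(C (c (Sum.inl j) / c v₀) + C (c (Sum.inr j) / c v₀) * X) else 0)

theorem Lv_dvec (c : Fin (n + 1) ⊕ Fin (n + 1) → k) (v₀ : Fin (n + 1) ⊕ Fin (n + 1))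
    (j : Fin (n + 1)) (h₀ : c v₀ ≠ 0) : Lv c (dvec c v₀ j) = 0 := by
  classical
  simp only [Lv, dvec, mul_add, Finset.sum_add_distrib, mul_ite, mul_one, mul_zero,
    Finset.sum_ite_eq', Finset.mem_univ, if_true, Polynomial.algebraMap_eq]
  rw [mul_neg, mul_add, ← mul_assoc, ← C_mul, ← C_mul, mul_div_cancel₀ _ h₀,
    mul_div_cancel₀ _ h₀]
  ring

theorem Fv_dvec (c : Fin (n + 1) ⊕ Fin (n + 1) → k) (v₀ : Fin (n + 1) ⊕ Fin (n + 1))
    (j : Fin (n + 1)) (hj : v₀ ≠ Sum.inl j ∧ v₀ ≠ Sum.inr j) (Q : ℕ) (hQ : Q ≠ 0) :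
    Fv Q (dvec c v₀ j) = X ^ Q - X := by
  classical
  rw [Fv, Finset.sum_eq_single j]
  · simp [dvec, hj.1.symm, hj.2.symm]
  · intro b _ hb
    rcases v₀ with i₀ | i₀
    · have h : dvec c (Sum.inl i₀) j (Sum.inr b) = 0 := by simp [dvec, hb]
      rw [h]; simp [hQ]
    · have h : dvec c (Sum.inr i₀) j (Sum.inl b) = 0 := by simp [dvec, hb]
      rw [h]; simp [hQ]
  · intro h; exact absurd (Finset.mem_univ j) h

/-! ### the polynomials -/

/-- the form `F = ∑ (X_i Y_i^q - Y_i X_i^q)` -/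
noncomputable def Fpoly (k : Type u) [Field k] [Fintype k] (n : ℕ) :
    MvPolynomial (Fin (n + 1) ⊕ Fin (n + 1)) k :=
  ∑ i : Fin (n + 1), (MvPolynomial.X (Sum.inl i) * MvPolynomial.X (Sum.inr i) ^ Fintype.card k -
      MvPolynomial.X (Sum.inr i) * MvPolynomial.X (Sum.inl i) ^ Fintype.card k)

/-- the linear form `L = ∑ c_v x_v` -/
noncomputable def Lpoly (c : Fin (n + 1) ⊕ Fin (n + 1) → k) :
    MvPolynomial (Fin (n + 1) ⊕ Fin (n + 1)) k :=
  ∑ v, MvPolynomial.C (c v) * MvPolynomial.X v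

theorem aeval_Fpoly {B : Type*} [CommRing B] [Algebra k B] (z : Fin (n + 1) ⊕ Fin (n + 1) → B) :
    MvPolynomial.aeval z (Fpoly k n) = Fv (Fintype.card k) z := by
  simp [Fpoly, Fv]

theorem aeval_Lpoly {B : Type*} [CommRing B] [Algebra k B] (c : Fin (n + 1) ⊕ Fin (n + 1) → k)
    (z : Fin (n + 1) ⊕ Fin (n + 1) → B) :
    MvPolynomial.aeval z (Lpoly c) = Lv c z := by
  simp [Lpoly, Lv]

/-- the arc `P + t d + t^(q+1) U` -/
noncomputable def yy (c : Fin (n + 1) ⊕ Fin (n + 1) → k)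
    (d : Fin (n + 1) ⊕ Fin (n + 1) → Polynomial k) (U : Fin (n + 1) ⊕ Fin (n + 1) → TB k) :
    Fin (n + 1) ⊕ Fin (n + 1) → TB k :=
  fun v => algebraMap k (TB k) (pt c v) + tt * ιD (d v) + tt ^ (Fintype.card k + 1) * U v

theorem sum_c_pt (c : Fin (n + 1) ⊕ Fin (n + 1) → k) : ∑ v, c v * pt c v = 0 := by
  rw [Fintype.sum_sum_type, ← Finset.sum_add_distrib]
  refine Finset.sum_eq_zero fun i _ => ?_
  simp only [pt, Sum.elim_inl, Sum.elim_inr]
  ring

theorem Lv_ιD (c : Fin (n + 1) ⊕ Fin (n + 1) → k) (d : Fin (n + 1) ⊕ Fin (n + 1) → Polynomial k) :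
    Lv c (fun v => (ιD (d v) : TB k)) = ιD (Lv c d) := by
  unfold Lv
  rw [map_sum]
  exact Finset.sum_congr rfl fun v _ => by rw [map_mul, AlgHom.commutes]

theorem Fv_ιD (Q : ℕ) (d : Fin (n + 1) ⊕ Fin (n + 1) → Polynomial k) :
    Fv Q (fun v => (ιD (d v) : TB k)) = ιD (Fv Q d) := by
  simp [Fv, map_sum, map_sub, map_mul, map_pow]

theorem Lv_yy (c : Fin (n + 1) ⊕ Fin (n + 1) → k) (d : Fin (n + 1) ⊕ Fin (n + 1) → Polynomial k)
    (hd : Lv c d = 0) (U : Fin (n + 1) ⊕ Fin (n + 1) → TB k) :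
    Lv c (yy c d U) = tt ^ (Fintype.card k + 1) * Lv c U := by
  have h1 : Lv c (fun v => (ιD (d v) : TB k)) = 0 := by rw [Lv_ιD, hd, map_zero]
  have h2 : (∑ v, algebraMap k (TB k) (c v) * algebraMap k (TB k) (pt c v)) = 0 := by
    simp only [← map_mul, ← map_sum, sum_c_pt, map_zero]
  unfold Lv at h1 ⊢
  simp only [yy, mul_add, Finset.sum_add_distrib, h2, zero_add]
  have h3 : (∑ v, algebraMap k (TB k) (c v) * (tt * ιD (d v))) =
      tt * ∑ v, algebraMap k (TB k) (c v) * ιD (d v) := by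
    rw [Finset.mul_sum]; exact Finset.sum_congr rfl fun v _ => by ring
  have h4 : (∑ v, algebraMap k (TB k) (c v) * (tt ^ (Fintype.card k + 1) * U v)) =
      tt ^ (Fintype.card k + 1) * ∑ v, algebraMap k (TB k) (c v) * U v := by
    rw [Finset.mul_sum]; exact Finset.sum_congr rfl fun v _ => by ring
  rw [h3, h4, h1, mul_zero, zero_add]

theorem Fv_yy (c : Fin (n + 1) ⊕ Fin (n + 1) → k) (d : Fin (n + 1) ⊕ Fin (n + 1) → Polynomial k)
    (hd : Lv c d = 0) (U : Fin (n + 1) ⊕ Fin (n + 1) → TB k) :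
    Fv (Fintype.card k) (yy c d U) = tt ^ (Fintype.card k + 1) * ιD (Fv (Fintype.card k) d) +
      tt ^ (Fintype.card k + 1) * Lv c U := by
  have h1 : Lv c (fun v => (ιD (d v) : TB k)) = 0 := by rw [Lv_ιD, hd, map_zero]
  have h2 := key c (tt : TB k) tt_pow (fun v => (ιD (d v) : TB k)) U h1
  rw [Fv_ιD] at h2
  have h3 := Lv_yy c d hd U
  have h4 : Fv (Fintype.card k) (yy c d U) - Lv c (yy c d U) =
      tt ^ (Fintype.card k + 1) * ιD (Fv (Fintype.card k) d) := h2
  rw [h3] at h4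
  linear_combination h4

/-! ### the obstruction -/

/-- the ideal `(F, L)` -/
noncomputable abbrev JJ (c : Fin (n + 1) ⊕ Fin (n + 1) → k) :
    Ideal (MvPolynomial (Fin (n + 1) ⊕ Fin (n + 1)) k) :=
  Ideal.span {Fpoly k n, Lpoly c}

/-- the cone ring `k[X, Y]/(F, L)` -/
noncomputable abbrev RR (c : Fin (n + 1) ⊕ Fin (n + 1) → k) : Type u :=
  MvPolynomial (Fin (n + 1) ⊕ Fin (n + 1)) k ⧸ JJ c

/-- the class of `x_w` -/
noncomputable abbrev xw (c : Fin (n + 1) ⊕ Fin (n + 1) → k) (w : Fin (n + 1) ⊕ Fin (n + 1)) :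
    RR c :=
  Ideal.Quotient.mk (JJ c) (MvPolynomial.X w)

/-- the chart `x_w ≠ 0` of the cone -/
noncomputable abbrev AA (c : Fin (n + 1) ⊕ Fin (n + 1) → k) (w : Fin (n + 1) ⊕ Fin (n + 1)) : Type u :=
  Localization.Away (xw c w)

theorem no_lift_aux (c : Fin (n + 1) ⊕ Fin (n + 1) → k) (w : Fin (n + 1) ⊕ Fin (n + 1))
    (hw : pt c w ≠ 0) (d : Fin (n + 1) ⊕ Fin (n + 1) → Polynomial k) (hLd : Lv c d = 0)
    (hFd : Fv (Fintype.card k) d ≠ 0) (hsm : Algebra.FormallySmooth k (AA c w)) : False := by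
  classical
  let I : Ideal (TB k) := Ideal.span {(tt : TB k) ^ (Fintype.card k + 1)}
  have hI : I ^ 2 = ⊥ := by
    show Ideal.span {(tt : TB k) ^ (Fintype.card k + 1)} ^ 2 = ⊥
    rw [Ideal.span_singleton_pow, Ideal.span_singleton_eq_bot, ← pow_mul]
    exact pow_eq_zero_of_le (by omega) tt_pow
  have hmemI : ∀ U : Fin (n + 1) ⊕ Fin (n + 1) → TB k,
      Fv (Fintype.card k) (yy c d U) ∈ I ∧ Lv c (yy c d U) ∈ I := by
    intro U
    constructor
    · rw [Fv_yy c d hLd U, ← mul_add]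
      exact I.mul_mem_right _ (Ideal.subset_span rfl)
    · rw [Lv_yy c d hLd U]
      exact I.mul_mem_right _ (Ideal.subset_span rfl)
  let φ₁ : MvPolynomial (Fin (n + 1) ⊕ Fin (n + 1)) k →ₐ[k] TB k ⧸ I :=
    (Ideal.Quotient.mkₐ k I).comp (MvPolynomial.aeval (yy c d 0))
  have hφ₁ : ∀ a ∈ JJ c, φ₁ a = 0 := by
    intro a ha
    have hle : JJ c ≤ RingHom.ker φ₁.toRingHom := by
      rw [Ideal.span_le]
      intro x hx
      rcases hx with rfl | rfl
      · show Ideal.Quotient.mk I (MvPolynomial.aeval (yy c d 0) (Fpoly k n)) = 0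
        rw [aeval_Fpoly, Ideal.Quotient.eq_zero_iff_mem]
        exact (hmemI 0).1
      · show Ideal.Quotient.mk I (MvPolynomial.aeval (yy c d 0) (Lpoly c)) = 0
        rw [aeval_Lpoly, Ideal.Quotient.eq_zero_iff_mem]
        exact (hmemI 0).2
    exact hle ha
  let φ₂ : RR c →ₐ[k] TB k ⧸ I := Ideal.Quotient.liftₐ (JJ c) φ₁ hφ₁
  have hφ₂ : ∀ v, φ₂ (xw c v) = Ideal.Quotient.mk I (yy c d 0 v) := by
    intro v
    show Ideal.Quotient.mk I (MvPolynomial.aeval (yy c d 0) (MvPolynomial.X v)) = _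
    rw [MvPolynomial.aeval_X]
  have hunitB : IsUnit (yy c d 0 w) := by
    have hu : IsUnit (algebraMap k (TB k) (pt c w)) :=
      (IsUnit.mk0 _ hw).map (algebraMap k (TB k))
    have hnil : IsNilpotent ((tt : TB k) * ιD (d w)) :=
      ⟨Fintype.card k + 2, by rw [mul_pow, tt_pow, zero_mul]⟩
    have h1 : yy c d 0 w = algebraMap k (TB k) (pt c w) + tt * ιD (d w) := by simp [yy]
    rw [h1]
    exact hnil.isUnit_add_left_of_commute hu (Commute.all _ _)
  have hunit : ∀ y : Submonoid.powers (xw c w), IsUnit (φ₂ y) := by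
    rintro ⟨_, m, rfl⟩
    rw [map_pow]
    refine IsUnit.pow m ?_
    rw [hφ₂ w]
    exact hunitB.map (Ideal.Quotient.mk I)
  let φ₃ : AA c w →ₐ[k] TB k ⧸ I :=
    IsLocalization.liftAlgHom (M := Submonoid.powers (xw c w)) (f := φ₂) hunit
  obtain ⟨f, hf⟩ := Algebra.FormallySmooth.comp_surjective k (AA c w) I hI φ₃
  let e : Fin (n + 1) ⊕ Fin (n + 1) → TB k := fun v =>
    f ((algebraMap (RR c) (AA c w) : RR c →+* AA c w) (xw c v))
  have he : ∀ v, Ideal.Quotient.mk I (e v) = Ideal.Quotient.mk I (yy c d 0 v) := by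
    intro v
    have h1 := congrArg (fun g : AA c w →ₐ[k] TB k ⧸ I =>
      g ((algebraMap (RR c) (AA c w) : RR c →+* AA c w) (xw c v))) hf
    have h2 : φ₃ ((algebraMap (RR c) (AA c w) : RR c →+* AA c w) (xw c v)) = φ₂ (xw c v) := by
      show IsLocalization.lift hunit _ = _
      exact IsLocalization.lift_eq _ _
    exact h1.trans (h2.trans (hφ₂ v))
  have hU : ∀ v, ∃ u : TB k, e v = yy c d 0 v + tt ^ (Fintype.card k + 1) * u := by
    intro v
    have h1 := Ideal.Quotient.eq.mp (he v)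
    obtain ⟨u, hu⟩ := Ideal.mem_span_singleton'.mp h1
    exact ⟨u, eq_add_of_sub_eq' (hu.symm.trans (mul_comm _ _))⟩
  choose U hU using hU
  have heU : e = yy c d U := by
    funext v
    rw [hU v]
    simp [yy]
  have haev : ∀ p : MvPolynomial (Fin (n + 1) ⊕ Fin (n + 1)) k,
      MvPolynomial.aeval e p =
        f ((algebraMap (RR c) (AA c w) : RR c →+* AA c w) (Ideal.Quotient.mk (JJ c) p)) := by
    intro p
    have h1 : MvPolynomial.aeval e = f.comp ((IsScalarTower.toAlgHom k (RR c) (AA c w)).comp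
        (Ideal.Quotient.mkₐ k (JJ c))) := by
      apply MvPolynomial.algHom_ext
      intro v
      rw [MvPolynomial.aeval_X]
      rfl
    rw [h1]; rfl
  have hmemF : Fpoly k n ∈ JJ c := Ideal.subset_span (Set.mem_insert _ _)
  have hmemL : Lpoly c ∈ JJ c :=
    Ideal.subset_span (Set.mem_insert_of_mem _ (Set.mem_singleton _))
  have hF0 : Fv (Fintype.card k) e = 0 := by
    rw [← aeval_Fpoly, haev, Ideal.Quotient.eq_zero_iff_mem.mpr hmemF, map_zero, map_zero]
  have hL0 : Lv c e = 0 := by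
    rw [← aeval_Lpoly, haev, Ideal.Quotient.eq_zero_iff_mem.mpr hmemL, map_zero, map_zero]
  rw [heU] at hF0 hL0
  have h5 := Fv_yy c d hLd U
  have h6 := Lv_yy c d hLd U
  rw [hF0] at h5
  rw [hL0] at h6
  have h7 : (tt : TB k) ^ (Fintype.card k + 1) * ιD (Fv (Fintype.card k) d) = 0 := by
    rw [← h6, add_zero] at h5
    exact h5.symm
  exact hFd (ιD_inj _ h7)

theorem not_formallySmooth (hn : 1 ≤ n) (c : Fin (n + 1) ⊕ Fin (n + 1) → k) (hc : c ≠ 0)
    (w : Fin (n + 1) ⊕ Fin (n + 1)) (hw : pt c w ≠ 0)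
    (hsm : Algebra.FormallySmooth k (AA c w)) : False := by
  classical
  obtain ⟨v₀, hv₀⟩ := Function.ne_iff.mp hc
  have hv₀' : c v₀ ≠ 0 := hv₀
  obtain ⟨j, hj⟩ : ∃ j : Fin (n + 1), v₀ ≠ Sum.inl j ∧ v₀ ≠ Sum.inr j := by
    haveI : Nontrivial (Fin (n + 1)) := Fin.nontrivial_iff_two_le.mpr (by omega)
    rcases v₀ with i₀ | i₀
    · obtain ⟨j, hj⟩ := exists_ne i₀
      exact ⟨j, fun h => hj (Sum.inl.inj h).symm, Sum.inl_ne_inr⟩
    · obtain ⟨j, hj⟩ := exists_ne i₀
      exact ⟨j, Sum.inr_ne_inl, fun h => hj (Sum.inr.inj h).symm⟩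
  have hLd : Lv c (dvec c v₀ j) = 0 := Lv_dvec c v₀ j hv₀'
  have hFd : Fv (Fintype.card k) (dvec c v₀ j) ≠ 0 := by
    rw [Fv_dvec c v₀ j hj _ Fintype.card_ne_zero]
    exact FiniteField.X_pow_card_sub_X_ne_zero k Fintype.one_lt_card
  exact no_lift_aux c w hw (dvec c v₀ j) hLd hFd hsm

/-- some coordinate of the tangency point is nonzero -/
theorem exists_pt_ne_zero (c : Fin (n + 1) ⊕ Fin (n + 1) → k) (hc : c ≠ 0) :
    ∃ w, pt c w ≠ 0 := by
  obtain ⟨v₀, hv₀⟩ := Function.ne_iff.mp hc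
  have hv₀' : c v₀ ≠ 0 := hv₀
  rcases v₀ with i₀ | i₀
  · exact ⟨Sum.inr i₀, by simpa [pt] using hv₀'⟩
  · exact ⟨Sum.inl i₀, by simpa [pt] using hv₀'⟩

end Groth.Agent.Lib.LeadHermHyp
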