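import Mathlib
import Groth.Prelude.Def_W4c1hilbpnTgt
import Groth.Agent.Lib.Helper20Monomial
import Groth.Agent.Lib.Helper24TgtPiece
import Groth.Agent.Lib.Helper24TgtPiece2

/-!
Tangent space `T(I) = Hom(I, S/I)` of a monomial ideal: socle-monomial / minimal-generator tangent
vectors, vanishing of graded pieces.
-/

set_option autoImplicit false
universe u

namespace Groth.Agent.LeadHilbTgt

open W4c1hilbpn MvPolynomial Groth.Agent.Lib.Helper24TgtPiece

variable {σ : Type*} {k : Type*} [Field k] [Fintype σ]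
variable {I : Ideal (MvPolynomial σ k)}

lemma exps_of_le {β γ : σ →₀ ℕ} (hβ : β ∈ exps I) (h : β ≤ γ) : γ ∈ exps I := by
  have : γ = β + (γ - β) := (add_tsub_cancel_of_le h).symm
  rw [this]
  exact exps_add hβ _

/-- an isolated nonnegative point of the region gives a nonzero tangent vector -/
lemma tPiece_ne_bot_of_isolated (hI : IsMonomial I) (α : σ → ℤ)
    (g : σ →₀ ℕ) (hg : g ∈ exps I)
    (hu : shift g α ∉ exps I)
    (hnn : ∀ i, 0 ≤ (g i : ℤ) + α i)
    (hiso : ∀ γ ∈ region I α, ¬ (stepGraph σ).Adj (pt α g) γ) :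
    tPiece I α ≠ ⊥ := by
  classical
  obtain ⟨F, hFdef⟩ : ∃ F : (σ → ℤ) → k, F = fun γ => if γ = pt α g then 1 else 0 := ⟨_, rfl⟩
  have hFv : F (pt α g) = 1 := by rw [hFdef]; simp
  have hFne : ∀ γ, γ ≠ pt α g → F γ = 0 := by intro γ hγ; rw [hFdef]; simp [hγ]
  have hF : Good I α F := by
    constructor
    · intro γ γ' hγ hγ' hadj
      have h1 : γ ≠ pt α g := by
        intro h
        rw [h] at hadj
        exact hiso γ' hγ' hadj
      have h2 : γ' ≠ pt α g := by
        intro h
        rw [h] at hadj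
        exact hiso γ hγ hadj.symm
      rw [hFne γ h1, hFne γ' h2]
    · intro γ hγ hneg
      obtain ⟨i, hi⟩ := hneg
      apply hFne
      intro h
      rw [h] at hi
      have := hnn i
      simp only [pt] at hi
      omega
  intro hbot
  have hmem := mkTgt_mem hI F hF
  rw [hbot, Submodule.mem_bot] at hmem
  have h1 := mkTgt_apply hI F hF g hg
  rw [hmem, LinearMap.zero_apply] at h1
  unfold gF at h1
  rw [hFv, one_smul] at h1
  exact hu (mk_monomial_eq_zero.mp h1.symm)

/-- a minimal generator `g` and a socle monomial `u` give a nonzero tangent vector of degree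
`u - g` -/
lemma tPiece_ne_bot_of_socle_gen (hI : IsMonomial I) (g u : σ →₀ ℕ) (hg : g ∈ exps I)
    (hgmin : ∀ i, 0 < g i → g - Finsupp.single i 1 ∉ exps I)
    (hu : u ∉ exps I) (husoc : ∀ i, u + Finsupp.single i 1 ∈ exps I) :
    tPiece I (fun i => (u i : ℤ) - (g i : ℤ)) ≠ ⊥ := by
  classical
  obtain ⟨α, hα⟩ : ∃ α : σ → ℤ, α = fun i => (u i : ℤ) - (g i : ℤ) := ⟨_, rfl⟩
  rw [← hα]
  have hαi : ∀ i, α i = (u i : ℤ) - (g i : ℤ) := fun i => by rw [hα]
  have hshift : shift g α = u := by
    ext i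
    rw [shift_apply, hαi]
    omega
  have hgnn : ∀ l, 0 ≤ (g l : ℤ) + α l := by
    intro l; rw [hαi]; omega
  apply tPiece_ne_bot_of_isolated hI α g hg
  · rw [hshift]; exact hu
  · exact hgnn
  · intro γ hγ hadj
    obtain ⟨⟨β, hβ, rfl⟩, hn⟩ := hγ
    have hr : pt α β ∈ region I α := ⟨⟨β, hβ, rfl⟩, hn⟩
    have hr' := (mem_region_pt hβ).mp hr
    have hadj' : (stepGraph σ).Adj (pt α g) (pt α β) := hadj
    obtain ⟨i, h | h⟩ := adj_pt_cases α hadj'
    · apply hr'
      have hs : shift β α = u + Finsupp.single i 1 := by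
        rw [h, shift_add_of_nonneg α (Finsupp.single i 1) hgnn, hshift]
      refine ⟨fun l => ?_, ?_⟩
      · rw [h, Finsupp.add_apply]
        have := hgnn l
        push_cast
        omega
      · rw [hs]; exact husoc i
    · have hgi : 0 < g i := by rw [h]; simp
      apply hgmin i hgi
      have : g - Finsupp.single i 1 = β := by rw [h]; exact add_tsub_cancel_right _ _
      rw [this]; exact hβ

/-- sign-pattern version -/
lemma sigPiece_ne_bot_of_socle_gen (hI : IsMonomial I) (N : Set σ) (g u : σ →₀ ℕ) (hg : g ∈ exps I)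
    (hgmin : ∀ i, 0 < g i → g - Finsupp.single i 1 ∉ exps I)
    (hu : u ∉ exps I) (husoc : ∀ i, u + Finsupp.single i 1 ∈ exps I)
    (hN : ∀ l, u l < g l ↔ l ∈ N) : sigPiece I N ≠ ⊥ := by
  intro hbot
  apply tPiece_ne_bot_of_socle_gen hI g u hg hgmin hu husoc
  rw [eq_bot_iff, ← hbot]
  unfold sigPiece
  have hmem : ∀ l, (fun i => (u i : ℤ) - (g i : ℤ)) l < 0 ↔ l ∈ N := by
    intro l
    rw [← hN l]
    show (u l : ℤ) - (g l : ℤ) < 0 ↔ u l < g l
    constructor <;> intro h <;> omega
  exact le_iSup (fun α : {α : σ → ℤ // ∀ i, α i < 0 ↔ i ∈ N} => tPiece I α.1)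
    ⟨fun i => (u i : ℤ) - (g i : ℤ), hmem⟩

/-- above every standard monomial there is a socle monomial -/
lemma exists_socle_ge (hI : IsMonomial I) [Module.Finite k (MvPolynomial σ k ⧸ I)]
    (w : σ →₀ ℕ) (hw : w ∉ exps I) :
    ∃ u, w ≤ u ∧ u ∉ exps I ∧ ∀ i, u + Finsupp.single i 1 ∈ exps I := by
  have hfin : {β : σ →₀ ℕ | β ∉ exps I}.Finite := by
    have := Groth.Agent.Lib.Helper20.finite_compl_exps I hI
    exact Set.finite_coe_iff.mp this
  obtain ⟨u, hwu, hmax⟩ := hfin.exists_le_maximal (a := w) hw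
  refine ⟨u, hwu, hmax.1, fun i => ?_⟩
  by_contra hcon
  have h1 : u + Finsupp.single i 1 ≤ u := hmax.2 hcon le_self_add
  have h2 := h1 i
  simp at h2

lemma exists_single_mem (hI : IsMonomial I) [Module.Finite k (MvPolynomial σ k ⧸ I)] (i : σ) :
    ∃ N : ℕ, Finsupp.single i N ∈ exps I := by
  by_contra h
  have h' : ∀ N : ℕ, Finsupp.single i N ∉ exps I := fun N hN => h ⟨N, hN⟩
  haveI := Groth.Agent.Lib.Helper20.finite_compl_exps I hI
  have hinj : Function.Injective
      (fun N : ℕ => (⟨Finsupp.single i N, h' N⟩ : {β : σ →₀ ℕ // β ∉ exps I})) := by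
    intro a b hab
    have := congrArg Subtype.val hab
    exact Finsupp.single_injective i this
  haveI := Finite.of_injective _ hinj
  exact not_finite ℕ

lemma exists_climb (hI : IsMonomial I) [Module.Finite k (MvPolynomial σ k ⧸ I)] (i : σ)
    (u : σ →₀ ℕ) (hu : u ∉ exps I) :
    ∃ s : ℕ, u + Finsupp.single i s ∉ exps I ∧ u + Finsupp.single i (s+1) ∈ exps I := by
  classical
  obtain ⟨N, hN⟩ := exists_single_mem hI i
  have hex : ∃ N : ℕ, u + Finsupp.single i N ∈ exps I :=
    ⟨N, by rw [add_comm]; exact exps_add hN u⟩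
  have hmin := fun m => Nat.find_min hex (m := m)
  have hspec := Nat.find_spec hex
  have hpos : Nat.find hex ≠ 0 := by
    intro h0
    rw [h0] at hspec
    simp only [Finsupp.single_zero, add_zero] at hspec
    exact hu hspec
  obtain ⟨s, hs⟩ := Nat.exists_eq_succ_of_ne_zero hpos
  refine ⟨s, hmin s (by omega), ?_⟩
  rw [← Nat.succ_eq_add_one, ← hs]
  exact hspec


/-! ### vanishing results -/

/-- degrees with all entries nonnegative -/
theorem tPiece_eq_bot_of_nonneg (hI : IsMonomial I) (α : σ → ℤ) (hα : ∀ l, 0 ≤ α l) :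
    tPiece I α = ⊥ := by
  rw [eq_bot_iff]
  intro φ hφ
  rw [Submodule.mem_bot]
  apply ext_monomial hI
  intro β hβ
  rw [LinearMap.zero_apply]
  have hnn : ∀ l, 0 ≤ (β l : ℤ) + α l := fun l => by have := hα l; omega
  have h1 := (hφ β hβ).1 hnn
  have hle : β ≤ shift β α := by
    intro l
    rw [shift_apply]
    have := hα l
    omega
  have hin : shift β α ∈ exps I := exps_of_le hβ hle
  rw [mk_monomial_eq_zero.mpr hin] at h1
  obtain ⟨c, hc⟩ := Submodule.mem_span_singleton.mp h1
  rw [← hc, smul_zero]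

/-- if the variable `x_i` lies in `I`, degrees positive at `i` vanish -/
theorem tPiece_eq_bot_of_var_mem_of_pos (hI : IsMonomial I) (α : σ → ℤ) (i : σ)
    (hxi : Finsupp.single i 1 ∈ exps I) (hα : 0 < α i) : tPiece I α = ⊥ := by
  classical
  rw [eq_bot_iff]
  intro φ hφ
  rw [Submodule.mem_bot]
  apply ext_monomial hI
  intro β hβ
  rw [LinearMap.zero_apply]
  by_cases hnn : ∀ l, 0 ≤ (β l : ℤ) + α l
  · have h1 := (hφ β hβ).1 hnn
    have hle : Finsupp.single i 1 ≤ shift β α := by
      intro l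
      rw [shift_apply]
      by_cases hl : l = i
      · subst hl
        simp only [Finsupp.single_eq_same]
        omega
      · rw [Finsupp.single_apply, if_neg (Ne.symm hl)]
        exact Nat.zero_le _
    have hin : shift β α ∈ exps I := exps_of_le hxi hle
    rw [mk_monomial_eq_zero.mpr hin] at h1
    obtain ⟨c, hc⟩ := Submodule.mem_span_singleton.mp h1
    rw [← hc, smul_zero]
  · simp only [not_forall, not_le] at hnn
    exact (hφ β hβ).2 hnn

/-- if the variable `x_i` lies in `I`, degrees negative at `i` and at another index vanish -/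
theorem tPiece_eq_bot_of_var_mem_of_neg (hI : IsMonomial I) (α : σ → ℤ) (i j : σ) (hij : i ≠ j)
    (hxi : Finsupp.single i 1 ∈ exps I) (hi : α i < 0) (hj : α j < 0) : tPiece I α = ⊥ := by
  classical
  rw [eq_bot_iff]
  intro φ hφ
  rw [Submodule.mem_bot]
  obtain ⟨F, hF, hFe⟩ := exists_good_of_mem hφ
  apply ext_monomial hI
  intro β hβ
  rw [hFe β hβ, LinearMap.zero_apply]
  unfold gF
  by_cases hnn : ∀ l, 0 ≤ (β l : ℤ) + α l
  · by_cases hin : shift β α ∈ exps I
    · rw [mk_monomial_eq_zero.mpr hin, smul_zero]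
    · have hr : pt α β ∈ region I α := (mem_region_pt hβ).mpr (fun h => hin h.2)
      obtain ⟨t, ht⟩ : ∃ t : ℕ, (t : ℤ) = (β j : ℤ) + α j + 1 :=
        ⟨((β j : ℤ) + α j + 1).toNat, by have := hnn j; omega⟩
      obtain ⟨β₀, hβ₀def⟩ : ∃ β₀ : σ →₀ ℕ, β₀ = β - Finsupp.single j t := ⟨_, rfl⟩
      have hle : Finsupp.single j t ≤ β := by
        intro l
        by_cases hl : l = j
        · subst hl
          simp only [Finsupp.single_eq_same]
          omega
        · rw [Finsupp.single_apply, if_neg (Ne.symm hl)]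
          exact Nat.zero_le _
      have hadd : β₀ + Finsupp.single j t = β := by
        rw [hβ₀def]; exact tsub_add_cancel_of_le hle
      have hβ₀i : β₀ i = β i := by
        rw [hβ₀def, Finsupp.tsub_apply, Finsupp.single_apply, if_neg (Ne.symm hij), Nat.sub_zero]
      have hβ₀j : (β₀ j : ℤ) + α j = -1 := by
        have h1 : β₀ j + t = β j := by
          have := congrArg (fun f : σ →₀ ℕ => f j) hadd
          simpa using this
        omega
      have hβ₀ : β₀ ∈ exps I := by
        apply exps_of_le hxi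
        intro l
        by_cases hl : l = i
        · subst hl
          simp only [Finsupp.single_eq_same]
          have := hnn l
          omega
        · rw [Finsupp.single_apply, if_neg (Ne.symm hl)]
          exact Nat.zero_le _
      have hr₀ : pt α β₀ ∈ region I α :=
        (mem_region_pt hβ₀).mpr (fun h => by have := h.1 j; omega)
      have hneg : F (pt α β₀) = 0 := hF.neg _ hr₀ ⟨j, by simp only [pt]; omega⟩
      have hpath := path hF (Finsupp.single j t) β₀ hβ₀ (by rw [hadd]; exact hr)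
      rw [hadd] at hpath
      rw [← hpath, hneg, zero_smul]
  · simp only [not_forall, not_le] at hnn
    obtain ⟨l, hl⟩ := hnn
    have hr : pt α β ∈ region I α :=
      (mem_region_pt hβ).mpr (fun h => absurd (h.1 l) (not_le.mpr hl))
    rw [hF.neg _ hr ⟨l, hl⟩, zero_smul]

/-- one step of the zig-zag: climb in direction `i` to the boundary, then step down in `j` -/
lemma reduce_step (hI : IsMonomial I) [Module.Finite k (MvPolynomial σ k ⧸ I)]
    {α : σ → ℤ} (hα : ∀ l, α l ≤ 0) {i j : σ} (hij : i ≠ j) (hi : α i < 0) (hj : α j < 0)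
    {F : (σ → ℤ) → k} (hF : Good I α F)
    (β : σ →₀ ℕ) (hβ : β ∈ exps I) (hnn : ∀ l, 0 ≤ (β l : ℤ) + α l) (hout : shift β α ∉ exps I) :
    ∃ β'' : σ →₀ ℕ, β'' ∈ exps I ∧ F (pt α β) = F (pt α β'') ∧ pt α β'' ∈ region I α ∧
      (∀ l, l ≠ j → 0 ≤ (β'' l : ℤ) + α l) ∧ (β'' j : ℤ) + α j = (β j : ℤ) + α j - 1 := by
  classical
  obtain ⟨s, hs1, hs2⟩ := exists_climb hI i (shift β α) hout
  obtain ⟨β', hβ'def⟩ : ∃ β' : σ →₀ ℕ, β' = β + Finsupp.single i s := ⟨_, rfl⟩
  have hβ' : β' ∈ exps I := by rw [hβ'def]; exact exps_add hβ _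
  have hshift' : shift β' α = shift β α + Finsupp.single i s := by
    rw [hβ'def]; exact shift_add_of_nonneg α _ hnn
  have hnn' : ∀ l, 0 ≤ (β' l : ℤ) + α l := by
    intro l
    have := hnn l
    rw [hβ'def, Finsupp.add_apply]
    push_cast
    omega
  have hout' : shift β' α ∉ exps I := by rw [hshift']; exact hs1
  have hin' : shift β' α + Finsupp.single i 1 ∈ exps I := by
    rw [hshift', add_assoc, ← Finsupp.single_add]; exact hs2
  have hr' : pt α β' ∈ region I α := (mem_region_pt hβ').mpr (fun h => hout' h.2)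
  have hF1 : F (pt α β) = F (pt α β') := by
    rw [hβ'def]
    exact path hF (Finsupp.single i s) β hβ (by rw [← hβ'def]; exact hr')
  have hβ'j : β' j = β j := by
    rw [hβ'def, Finsupp.add_apply, Finsupp.single_apply, if_neg hij, add_zero]
  have hβ'j1 : 1 ≤ β' j := by
    have := hnn' j
    omega
  obtain ⟨β'', hβ''def⟩ : ∃ β'' : σ →₀ ℕ, β'' = β' - Finsupp.single j 1 := ⟨_, rfl⟩
  have hle1 : Finsupp.single j 1 ≤ β' := by
    intro l
    by_cases hl : l = j
    · subst hl
      simp only [Finsupp.single_eq_same]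
      exact hβ'j1
    · rw [Finsupp.single_apply, if_neg (Ne.symm hl)]
      exact Nat.zero_le _
  have hadd : β'' + Finsupp.single j 1 = β' := by
    rw [hβ''def]; exact tsub_add_cancel_of_le hle1
  have hβ''l : ∀ l, l ≠ j → β'' l = β' l := by
    intro l hl
    rw [hβ''def, Finsupp.tsub_apply, Finsupp.single_apply, if_neg (Ne.symm hl), Nat.sub_zero]
  have hβ''j : β'' j + 1 = β' j := by
    have := congrArg (fun f : σ →₀ ℕ => f j) hadd
    simpa using this
  have hβ'' : β'' ∈ exps I := by
    apply exps_of_le hin'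
    intro l
    rw [Finsupp.add_apply, shift_apply]
    by_cases hl : l = j
    · subst hl
      rw [Finsupp.single_apply, if_neg hij, add_zero]
      have := hnn' l
      omega
    · rw [hβ''l l hl]
      by_cases hli : l = i
      · subst hli
        simp only [Finsupp.single_eq_same]
        have := hnn' l
        omega
      · rw [Finsupp.single_apply, if_neg (Ne.symm hli), add_zero]
        have := hnn' l
        have := hα l
        omega
  have hr'' : pt α β'' ∈ region I α := by
    refine (mem_region_pt hβ'').mpr (fun h => hout' ?_)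
    have := shift_add_of_nonneg α (Finsupp.single j 1) h.1
    rw [hadd] at this
    rw [this]
    exact exps_add h.2 _
  have hF2 : F (pt α β'') = F (pt α β') := by
    have hadj := adj_step α β'' j
    rw [hadd] at hadj
    exact hF.adj _ _ hr'' hr' hadj
  refine ⟨β'', hβ'', hF1.trans hF2.symm, hr'', fun l hl => ?_, ?_⟩
  · rw [hβ''l l hl]; exact hnn' l
  · omega

lemma good_eq_zero_of_nonpos (hI : IsMonomial I) [Module.Finite k (MvPolynomial σ k ⧸ I)]
    {α : σ → ℤ} (hα : ∀ l, α l ≤ 0) {i j : σ} (hij : i ≠ j) (hi : α i < 0) (hj : α j < 0)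
    {F : (σ → ℤ) → k} (hF : Good I α F) :
    ∀ (n : ℕ) (β : σ →₀ ℕ), β ∈ exps I → (∀ l, 0 ≤ (β l : ℤ) + α l) → shift β α ∉ exps I →
      (β j : ℤ) + α j = n → F (pt α β) = 0 := by
  intro n
  induction n with
  | zero =>
    intro β hβ hnn hout hn
    obtain ⟨β'', hβ'', hFe, hr'', hl, hjj⟩ := reduce_step hI hα hij hi hj hF β hβ hnn hout
    rw [hFe]
    exact hF.neg _ hr'' ⟨j, by simp only [pt]; push_cast at hn; omega⟩
  | succ m ih =>
    intro β hβ hnn hout hn
    obtain ⟨β'', hβ'', hFe, hr'', hl, hjj⟩ := reduce_step hI hα hij hi hj hF β hβ hnn hout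
    rw [hFe]
    have hnn'' : ∀ l, 0 ≤ (β'' l : ℤ) + α l := by
      intro l
      by_cases h : l = j
      · subst h
        push_cast at hn
        omega
      · exact hl l h
    have hout'' : shift β'' α ∉ exps I := fun h => (mem_region_pt hβ'').mp hr'' ⟨hnn'', h⟩
    exact ih β'' hβ'' hnn'' hout'' (by push_cast at hn ⊢; omega)

/-- degrees with all entries nonpositive and at least two entries negative vanish -/
theorem tPiece_eq_bot_of_nonpos (hI : IsMonomial I) [Module.Finite k (MvPolynomial σ k ⧸ I)]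
    (α : σ → ℤ) (hα : ∀ l, α l ≤ 0) (i j : σ) (hij : i ≠ j) (hi : α i < 0) (hj : α j < 0) :
    tPiece I α = ⊥ := by
  rw [eq_bot_iff]
  intro φ hφ
  rw [Submodule.mem_bot]
  obtain ⟨F, hF, hFe⟩ := exists_good_of_mem hφ
  apply ext_monomial hI
  intro β hβ
  rw [hFe β hβ, LinearMap.zero_apply]
  unfold gF
  by_cases hnn : ∀ l, 0 ≤ (β l : ℤ) + α l
  · by_cases hin : shift β α ∈ exps I
    · rw [mk_monomial_eq_zero.mpr hin, smul_zero]
    · have := good_eq_zero_of_nonpos hI hα hij hi hj hF ((β j : ℤ) + α j).toNat β hβ hnn hin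
        (by rw [Int.toNat_of_nonneg (hnn j)])
      rw [this, zero_smul]
  · simp only [not_forall, not_le] at hnn
    obtain ⟨l, hl⟩ := hnn
    have hr : pt α β ∈ region I α :=
      (mem_region_pt hβ).mpr (fun h => absurd (h.1 l) (not_le.mpr hl))
    rw [hF.neg _ hr ⟨l, hl⟩, zero_smul]

end Groth.Agent.LeadHilbTgt
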