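import Mathlib
import Groth.Prelude.Def_W4c1hilbpnTgt
import Groth.Agent.Lib.LeadHilbTgt

/-! Computing the dimension of a graded piece of `T(I)` from a finite set of isolated points. -/

set_option autoImplicit false
universe u

namespace Groth.Agent.LeadHilbTgt

open W4c1hilbpn MvPolynomial Groth.Agent.Lib.Helper24TgtPiece

variable {σ : Type*} {k : Type*} [Field k] [Fintype σ] {I : Ideal (MvPolynomial σ k)}

open Classical in
/-- function supported on a finite set of (source) exponents -/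
noncomputable def FP (α : σ → ℤ) (P : Finset (σ →₀ ℕ)) (f : ↥P → k) : (σ → ℤ) → k :=
  fun γ => if h : bOf α γ ∈ P then f ⟨bOf α γ, h⟩ else 0

open Classical in
lemma FP_pt (α : σ → ℤ) (P : Finset (σ →₀ ℕ)) (f : ↥P → k) (β : σ →₀ ℕ) :
    FP α P f (pt α β) = if h : β ∈ P then f ⟨β, h⟩ else 0 := by
  unfold FP
  by_cases h : β ∈ P
  · have h' : bOf α (pt α β) ∈ P := by rw [bOf_pt]; exact h
    rw [dif_pos h', dif_pos h]
    congr 1
    exact Subtype.ext (bOf_pt α β)
  · have h' : ¬ bOf α (pt α β) ∈ P := by rw [bOf_pt]; exact h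
    rw [dif_neg h', dif_neg h]

lemma good_FP {α : σ → ℤ} {P : Finset (σ →₀ ℕ)}
    (hP1 : ∀ β ∈ P, ∀ l, 0 ≤ (β l : ℤ) + α l)
    (hP2 : ∀ β ∈ P, ∀ γ ∈ region I α, ¬ (stepGraph σ).Adj (pt α β) γ) (f : ↥P → k) :
    Good I α (FP α P f) := by
  constructor
  · rintro γ γ' ⟨⟨β, hβ, rfl⟩, hn⟩ ⟨⟨β', hβ', rfl⟩, hn'⟩ hadj
    have hr : pt α β ∈ region I α := ⟨⟨β, hβ, rfl⟩, hn⟩
    have hr' : pt α β' ∈ region I α := ⟨⟨β', hβ', rfl⟩, hn'⟩
    have hadj' : (stepGraph σ).Adj (pt α β) (pt α β') := hadj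
    show FP α P f (pt α β) = FP α P f (pt α β')
    rw [FP_pt, FP_pt, dif_neg, dif_neg]
    · intro h; exact hP2 β' h _ hr hadj'.symm
    · intro h; exact hP2 β h _ hr' hadj'
  · rintro γ ⟨⟨β, hβ, rfl⟩, hn⟩ ⟨i, hi⟩
    show FP α P f (pt α β) = 0
    rw [FP_pt, dif_neg]
    intro h
    have := hP1 β h i
    simp only at hi
    omega

/-- the linear map from functions on `P` to the tangent space -/
noncomputable def Theta (hI : IsMonomial I) (α : σ → ℤ) (P : Finset (σ →₀ ℕ))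
    (hP1 : ∀ β ∈ P, ∀ l, 0 ≤ (β l : ℤ) + α l)
    (hP2 : ∀ β ∈ P, ∀ γ ∈ region I α, ¬ (stepGraph σ).Adj (pt α β) γ) :
    (↥P → k) →ₗ[k] Tgt I where
  toFun f := mkTgt hI (FP α P f) (good_FP hP1 hP2 f)
  map_add' f g := by
    classical
    apply ext_monomial hI
    intro β hβ
    rw [LinearMap.add_apply, mkTgt_apply, mkTgt_apply, mkTgt_apply]
    unfold gF
    rw [← add_smul, FP_pt, FP_pt, FP_pt]
    congr 1
    by_cases h : β ∈ P
    · rw [dif_pos h, dif_pos h, dif_pos h]; rfl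
    · rw [dif_neg h, dif_neg h, dif_neg h, add_zero]
  map_smul' c f := by
    classical
    apply ext_monomial hI
    intro β hβ
    rw [LinearMap.smul_apply, RingHom.id_apply, mkTgt_apply, mkTgt_apply]
    unfold gF
    rw [smul_smul, FP_pt, FP_pt]
    congr 1
    by_cases h : β ∈ P
    · rw [dif_pos h, dif_pos h]; rfl
    · rw [dif_neg h, dif_neg h, mul_zero]

open Classical in
lemma Theta_apply (hI : IsMonomial I) (α : σ → ℤ) (P : Finset (σ →₀ ℕ))
    (hP1 : ∀ β ∈ P, ∀ l, 0 ≤ (β l : ℤ) + α l)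
    (hP2 : ∀ β ∈ P, ∀ γ ∈ region I α, ¬ (stepGraph σ).Adj (pt α β) γ) (f : ↥P → k)
    (β : σ →₀ ℕ) (hβ : monomial β (1:k) ∈ I) :
    Theta hI α P hP1 hP2 f ⟨monomial β 1, hβ⟩ =
      (if h : β ∈ P then f ⟨β, h⟩ else 0) • Ideal.Quotient.mk I (monomial (shift β α) (1:k)) := by
  show mkTgt hI (FP α P f) (good_FP hP1 hP2 f) ⟨monomial β 1, hβ⟩ = _
  rw [mkTgt_apply]
  unfold gF
  rw [FP_pt]

/-- **dimension of a graded piece from isolated points** -/
theorem finrank_tPiece_eq_card (hI : IsMonomial I) (α : σ → ℤ) (P : Finset (σ →₀ ℕ))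
    (hP0 : ∀ β ∈ P, β ∈ exps I)
    (hP1 : ∀ β ∈ P, ∀ l, 0 ≤ (β l : ℤ) + α l)
    (hP3 : ∀ β ∈ P, shift β α ∉ exps I)
    (hP2 : ∀ β ∈ P, ∀ γ ∈ region I α, ¬ (stepGraph σ).Adj (pt α β) γ)
    (hP4 : ∀ F : (σ → ℤ) → k, Good I α F → ∀ β ∈ exps I, (∀ l, 0 ≤ (β l : ℤ) + α l) →
      shift β α ∉ exps I → β ∉ P → F (pt α β) = 0) :
    Module.finrank k ↥(tPiece I α) = P.card := by
  classical
  have hinj : Function.Injective (Theta hI α P hP1 hP2) := by
    rw [injective_iff_map_eq_zero]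
    intro f hf
    funext b
    obtain ⟨β, hβP⟩ := b
    have h1 := Theta_apply hI α P hP1 hP2 f β (hP0 β hβP)
    rw [hf, LinearMap.zero_apply, dif_pos hβP] at h1
    have hne : Ideal.Quotient.mk I (monomial (shift β α) (1:k)) ≠ 0 :=
      fun h0 => hP3 β hβP (mk_monomial_eq_zero.mp h0)
    rcases smul_eq_zero.mp h1.symm with h3 | h3
    · exact h3
    · exact absurd h3 hne
  have hrange : LinearMap.range (Theta hI α P hP1 hP2) = tPiece I α := by
    apply le_antisymm
    · rintro _ ⟨f, rfl⟩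
      exact mkTgt_mem hI (FP α P f) (good_FP hP1 hP2 f)
    · intro φ hφ
      obtain ⟨F, hF, hFe⟩ := exists_good_of_mem hφ
      refine ⟨fun b => F (pt α b.1), ?_⟩
      apply ext_monomial hI
      intro β hβ
      rw [Theta_apply, hFe]
      unfold gF
      by_cases h : β ∈ P
      · rw [dif_pos h]
      · rw [dif_neg h, zero_smul]
        by_cases hnn : ∀ l, 0 ≤ (β l : ℤ) + α l
        · by_cases hin : shift β α ∈ exps I
          · rw [mk_monomial_eq_zero.mpr hin, smul_zero]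
          · rw [hP4 F hF β hβ hnn hin h, zero_smul]
        · simp only [not_forall, not_le] at hnn
          obtain ⟨l, hl⟩ := hnn
          have hr : pt α β ∈ region I α :=
            (mem_region_pt hβ).mpr (fun h => absurd (h.1 l) (not_le.mpr hl))
          rw [hF.neg _ hr ⟨l, hl⟩, zero_smul]
  rw [← hrange, LinearMap.finrank_range_of_inj hinj, Module.finrank_fintype_fun_eq_card,
    Fintype.card_coe]

/-- generic descent: if every nonnegative region point can be moved, inside the region, to a point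
whose `j`-th coordinate is one less (the other coordinates staying nonnegative), then a good
function vanishes at all nonnegative region points -/
lemma good_eq_zero_of_reduce {α : σ → ℤ} {F : (σ → ℤ) → k} (hF : Good I α F) (j : σ)
    (hred : ∀ β : σ →₀ ℕ, β ∈ exps I → (∀ l, 0 ≤ (β l : ℤ) + α l) → shift β α ∉ exps I →
      ∃ β'' : σ →₀ ℕ, β'' ∈ exps I ∧ F (pt α β) = F (pt α β'') ∧ pt α β'' ∈ region I α ∧
        (∀ l, l ≠ j → 0 ≤ (β'' l : ℤ) + α l) ∧ (β'' j : ℤ) + α j = (β j : ℤ) + α j - 1) :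
    ∀ (n : ℕ) (β : σ →₀ ℕ), β ∈ exps I → (∀ l, 0 ≤ (β l : ℤ) + α l) → shift β α ∉ exps I →
      (β j : ℤ) + α j = n → F (pt α β) = 0 := by
  intro n
  induction n with
  | zero =>
    intro β hβ hnn hout hn
    obtain ⟨β'', hβ'', hFe, hr'', hl, hjj⟩ := hred β hβ hnn hout
    rw [hFe]
    exact hF.neg _ hr'' ⟨j, by simp only [pt]; push_cast at hn; omega⟩
  | succ m ih =>
    intro β hβ hnn hout hn
    obtain ⟨β'', hβ'', hFe, hr'', hl, hjj⟩ := hred β hβ hnn hout
    rw [hFe]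
    have hnn'' : ∀ l, 0 ≤ (β'' l : ℤ) + α l := by
      intro l
      by_cases h : l = j
      · subst h
        push_cast at hn
        omega
      · exact hl l h
    have hout'' : shift β'' α ∉ exps I := fun h => (mem_region_pt hβ'').mp hr'' ⟨hnn'', h⟩
    exact ih β'' hβ'' hnn'' hout'' (by push_cast at hn ⊢; omega)

end Groth.Agent.LeadHilbTgt
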