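import Mathlib
import Groth.Prelude.Def_W4c1hilbpnTgt
import Groth.Agent.Lib.LeadHilbTgt

/-! Decomposition of `T(I) = Hom(I, S/I)` into its multigraded pieces (monomial ideal of finite
colength). -/

set_option autoImplicit false
universe u

namespace Groth.Agent.LeadHilbTgt

open W4c1hilbpn MvPolynomial Groth.Agent.Lib.Helper24TgtPiece

variable {σ : Type*} {k : Type*} [Field k] [Fintype σ] {I : Ideal (MvPolynomial σ k)}

/-- a representative -/
noncomputable def rep (y : MvPolynomial σ k ⧸ I) : MvPolynomial σ k :=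
  Classical.choose (Ideal.Quotient.mk_surjective y)

lemma mk_rep (y : MvPolynomial σ k ⧸ I) : Ideal.Quotient.mk I (rep y) = y :=
  Classical.choose_spec (Ideal.Quotient.mk_surjective y)

/-- coefficient of a class at a standard monomial -/
noncomputable def ell (γ : σ →₀ ℕ) (y : MvPolynomial σ k ⧸ I) : k := coeff γ (rep y)

lemma ell_mk (hI : IsMonomial I) {γ : σ →₀ ℕ} (hγ : γ ∉ exps I) (q : MvPolynomial σ k) :
    ell γ (Ideal.Quotient.mk I q) = coeff γ q := by
  unfold ell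
  have h1 : rep (Ideal.Quotient.mk I q) - q ∈ I := Ideal.Quotient.eq.mp (mk_rep _)
  by_contra hne
  have h2 : coeff γ (rep (Ideal.Quotient.mk I q) - q) ≠ 0 := by
    rw [coeff_sub]; exact sub_ne_zero.mpr hne
  exact hγ (hI _ h1 γ (mem_support_iff.mpr h2))

lemma ell_mul (hI : IsMonomial I) {γ : σ →₀ ℕ} (hγ : γ ∉ exps I) (δ : σ →₀ ℕ)
    (y : MvPolynomial σ k ⧸ I) :
    ell γ (Ideal.Quotient.mk I (monomial δ 1) * y) = if δ ≤ γ then ell (γ - δ) y else 0 := by
  classical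
  obtain ⟨q, rfl⟩ := Ideal.Quotient.mk_surjective y
  rw [← map_mul, ell_mk hI hγ, coeff_monomial_mul', one_mul]
  split_ifs with h
  · have hγ' : γ - δ ∉ exps I := fun h' => hγ (by
      have := exps_add h' δ
      rwa [tsub_add_cancel_of_le h] at this)
    rw [ell_mk hI hγ']
  · rfl

lemma recon (hI : IsMonomial I) [Fintype {γ : σ →₀ ℕ // γ ∉ exps I}]
    (y : MvPolynomial σ k ⧸ I) :
    y = ∑ γ : {γ : σ →₀ ℕ // γ ∉ exps I},
      ell γ.1 y • Ideal.Quotient.mk I (monomial γ.1 (1:k)) := by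
  classical
  obtain ⟨q, rfl⟩ := Ideal.Quotient.mk_surjective y
  induction q using MvPolynomial.induction_on' with
  | monomial β a =>
    by_cases hβ : β ∈ exps I
    · have h0 : Ideal.Quotient.mk I (monomial β a) = 0 := by
        rw [mk_monomial_smul, mk_monomial_eq_zero.mpr hβ, smul_zero]
      conv_lhs => rw [h0]
      symm
      apply Finset.sum_eq_zero
      intro γ _
      rw [ell_mk hI γ.2, coeff_monomial, if_neg, zero_smul]
      intro h
      exact γ.2 (h ▸ hβ)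
    · rw [Finset.sum_eq_single ⟨β, hβ⟩]
      · rw [ell_mk hI hβ, coeff_monomial, if_pos rfl, ← mk_monomial_smul]
      · intro γ _ hne
        rw [ell_mk hI γ.2, coeff_monomial, if_neg, zero_smul]
        intro h
        exact hne (Subtype.ext h.symm)
      · intro h; exact absurd (Finset.mem_univ _) h
  | add q1 q2 h1 h2 =>
    have e : ∀ γ : {γ : σ →₀ ℕ // γ ∉ exps I},
        ell γ.1 (Ideal.Quotient.mk I (q1 + q2)) =
          ell γ.1 (Ideal.Quotient.mk I q1) + ell γ.1 (Ideal.Quotient.mk I q2) := by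
      intro γ; rw [ell_mk hI γ.2, ell_mk hI γ.2, ell_mk hI γ.2, coeff_add]
    calc Ideal.Quotient.mk I (q1 + q2)
        = Ideal.Quotient.mk I q1 + Ideal.Quotient.mk I q2 := map_add _ _ _
      _ = (∑ γ : {γ : σ →₀ ℕ // γ ∉ exps I},
            ell γ.1 (Ideal.Quotient.mk I q1) • Ideal.Quotient.mk I (monomial γ.1 (1:k))) +
          (∑ γ : {γ : σ →₀ ℕ // γ ∉ exps I},
            ell γ.1 (Ideal.Quotient.mk I q2) • Ideal.Quotient.mk I (monomial γ.1 (1:k))) := by
          rw [← h1, ← h2]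
      _ = _ := by
          rw [← Finset.sum_add_distrib]
          apply Finset.sum_congr rfl
          intro γ _
          rw [e γ, add_smul]

/-- value of a tangent vector on a monomial (zero outside the ideal) -/
noncomputable def val (φ : Tgt I) (β : σ →₀ ℕ) : MvPolynomial σ k ⧸ I := by
  classical
  exact if h : monomial β (1:k) ∈ I then φ ⟨monomial β 1, h⟩ else 0

lemma val_of_mem (φ : Tgt I) {β : σ →₀ ℕ} (h : monomial β (1:k) ∈ I) :
    val φ β = φ ⟨monomial β 1, h⟩ := by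
  unfold val; rw [dif_pos h]

lemma val_add (φ : Tgt I) {β : σ →₀ ℕ} (hβ : β ∈ exps I) (δ : σ →₀ ℕ) :
    val φ (β + δ) = Ideal.Quotient.mk I (monomial δ 1) * val φ β := by
  rw [val_of_mem φ (exps_add hβ δ), val_of_mem φ hβ]
  exact map_monomial_add φ hβ δ _

/-- the coefficient function of the component of degree `α` -/
noncomputable def Fc (φ : Tgt I) (α : σ → ℤ) (β : σ →₀ ℕ) : k := by
  classical
  exact if (∀ l, 0 ≤ (β l : ℤ) + α l) ∧ shift β α ∉ exps I then ell (shift β α) (val φ β) else 0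

lemma Fc_step (hI : IsMonomial I) (φ : Tgt I) (α : σ → ℤ) (β : σ →₀ ℕ) (hβ : β ∈ exps I) (i : σ)
    (hr' : pt α (β + Finsupp.single i 1) ∈ region I α) :
    Fc φ α β = Fc φ α (β + Finsupp.single i 1) := by
  classical
  have hβ' : β + Finsupp.single i 1 ∈ exps I := exps_add hβ _
  have hr'' := (mem_region_pt hβ').mp hr'
  have hval := val_add φ hβ (Finsupp.single i 1)
  by_cases hnn : ∀ l, 0 ≤ (β l : ℤ) + α l
  · have hs : shift (β + Finsupp.single i 1) α = shift β α + Finsupp.single i 1 :=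
      shift_add_of_nonneg α _ hnn
    have hnn' : ∀ l, 0 ≤ (((β + Finsupp.single i 1 : σ →₀ ℕ) l : ℕ) : ℤ) + α l := by
      intro l; have := hnn l; rw [Finsupp.add_apply]; push_cast; omega
    have hout' : shift (β + Finsupp.single i 1) α ∉ exps I := fun h => hr'' ⟨hnn', h⟩
    have hout : shift β α ∉ exps I := fun h => hout' (by rw [hs]; exact exps_add h _)
    unfold Fc
    rw [if_pos ⟨hnn, hout⟩, if_pos ⟨hnn', hout'⟩, hval, ell_mul hI hout', hs, if_pos le_add_self,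
      add_tsub_cancel_right]
  · unfold Fc
    rw [if_neg (fun h => hnn h.1)]
    by_cases hc : (∀ l, 0 ≤ (((β + Finsupp.single i 1 : σ →₀ ℕ) l : ℕ) : ℤ) + α l) ∧
        shift (β + Finsupp.single i 1) α ∉ exps I
    · rw [if_pos hc, hval, ell_mul hI hc.2, if_neg]
      intro hle
      have h1 := hle i
      rw [Finsupp.single_eq_same, shift_apply] at h1
      simp only [not_forall, not_le] at hnn
      obtain ⟨l, hl⟩ := hnn
      have h2 := hc.1 l
      rw [Finsupp.add_apply] at h2 h1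
      by_cases hli : l = i
      · subst hli
        rw [Finsupp.single_eq_same] at h2 h1
        push_cast at h2 h1
        omega
      · rw [Finsupp.single_apply, if_neg (Ne.symm hli)] at h2
        push_cast at h2
        omega
    · rw [if_neg hc]

lemma good_Fc (hI : IsMonomial I) (φ : Tgt I) (α : σ → ℤ) :
    Good I α (fun γ => Fc φ α (bOf α γ)) := by
  constructor
  · rintro γ γ' ⟨⟨β, hβ, rfl⟩, hn⟩ ⟨⟨β', hβ', rfl⟩, hn'⟩ hadj
    have hr : pt α β ∈ region I α := ⟨⟨β, hβ, rfl⟩, hn⟩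
    have hr' : pt α β' ∈ region I α := ⟨⟨β', hβ', rfl⟩, hn'⟩
    show Fc φ α (bOf α (pt α β)) = Fc φ α (bOf α (pt α β'))
    rw [bOf_pt, bOf_pt]
    obtain ⟨i, hi | hi⟩ := adj_pt_cases α hadj
    · subst hi; exact Fc_step hI φ α β hβ i hr'
    · subst hi; exact (Fc_step hI φ α β' hβ' i hr).symm
  · rintro γ ⟨⟨β, hβ, rfl⟩, hn⟩ ⟨i, hi⟩
    show Fc φ α (bOf α (pt α β)) = 0
    rw [bOf_pt]
    unfold Fc
    rw [if_neg]
    intro h
    have := h.1 i
    simp only at hi
    omega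

/-- the component of degree `α` of a tangent vector -/
noncomputable def comp (hI : IsMonomial I) (φ : Tgt I) (α : σ → ℤ) : Tgt I :=
  mkTgt hI (fun γ => Fc φ α (bOf α γ)) (good_Fc hI φ α)

lemma comp_mem (hI : IsMonomial I) (φ : Tgt I) (α : σ → ℤ) : comp hI φ α ∈ tPiece I α :=
  mkTgt_mem hI _ _

lemma comp_apply (hI : IsMonomial I) (φ : Tgt I) (α : σ → ℤ) (β : σ →₀ ℕ)
    (hβ : monomial β (1:k) ∈ I) :
    comp hI φ α ⟨monomial β 1, hβ⟩ =
      Fc φ α β • Ideal.Quotient.mk I (monomial (shift β α) (1:k)) := by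
  unfold comp
  rw [mkTgt_apply]
  unfold gF
  show Fc φ α (bOf α (pt α β)) • _ = _
  rw [bOf_pt]

lemma sum_comp_apply (hI : IsMonomial I) [Fintype {γ : σ →₀ ℕ // γ ∉ exps I}] (φ : Tgt I)
    (β : σ →₀ ℕ) (hβ : monomial β (1:k) ∈ I) (A : Finset (σ → ℤ))
    (hA : ∀ γ : {γ : σ →₀ ℕ // γ ∉ exps I}, (fun l => ((γ.1 l : ℤ)) - (β l : ℤ)) ∈ A) :
    ∑ α ∈ A, comp hI φ α ⟨monomial β 1, hβ⟩ = φ ⟨monomial β 1, hβ⟩ := by
  classical
  obtain ⟨f, hfdef⟩ : ∃ f : {γ : σ →₀ ℕ // γ ∉ exps I} → (σ → ℤ),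
      f = fun γ l => (γ.1 l : ℤ) - (β l : ℤ) := ⟨_, rfl⟩
  have hfl : ∀ γ l, f γ l = (γ.1 l : ℤ) - (β l : ℤ) := fun γ l => by rw [hfdef]
  have hf : Function.Injective f := by
    intro γ γ' h
    apply Subtype.ext
    ext l
    have := congrFun h l
    rw [hfl, hfl] at this
    omega
  have hsub : Finset.univ.image f ⊆ A := by
    intro α hα
    obtain ⟨γ, _, rfl⟩ := Finset.mem_image.mp hα
    rw [hfdef]
    exact hA γ
  rw [← Finset.sum_subset hsub]
  · rw [Finset.sum_image (fun γ _ γ' _ h => hf h)]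
    conv_rhs => rw [← val_of_mem φ hβ, recon hI (val φ β)]
    apply Finset.sum_congr rfl
    intro γ _
    rw [comp_apply]
    have hs : shift β (f γ) = γ.1 := by
      ext l; rw [shift_apply, hfl]; omega
    have hnn : ∀ l, 0 ≤ (β l : ℤ) + f γ l := by intro l; rw [hfl]; omega
    unfold Fc
    rw [if_pos ⟨hnn, by rw [hs]; exact γ.2⟩, hs]
  · intro α _ hα
    rw [comp_apply]
    unfold Fc
    rw [if_neg, zero_smul]
    rintro ⟨hnn, hout⟩
    apply hα
    rw [Finset.mem_image]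
    refine ⟨⟨shift β α, hout⟩, Finset.mem_univ _, ?_⟩
    funext l
    rw [hfl, shift_apply]
    have := hnn l
    omega

lemma exists_finset_ext (hI : IsMonomial I) :
    ∃ B : Finset (σ →₀ ℕ), ∀ φ ψ : Tgt I,
      (∀ β ∈ B, ∀ hβ : monomial β (1:k) ∈ I,
        φ ⟨monomial β 1, hβ⟩ = ψ ⟨monomial β 1, hβ⟩) → φ = ψ := by
  classical
  have hfg : (⊤ : Submodule (MvPolynomial σ k) ↥I).FG := IsNoetherian.noetherian ⊤
  obtain ⟨t, ht⟩ := hfg
  refine ⟨t.biUnion (fun x => x.1.support), ?_⟩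
  intro φ ψ h
  apply LinearMap.ext_on ht
  intro x hx
  have hx' : x = ∑ β ∈ x.1.support.attach, (C (coeff β.1 x.1) : MvPolynomial σ k) •
      (⟨monomial β.1 1, hI x.1 x.2 β.1 β.2⟩ : ↥I) := by
    apply Subtype.ext
    rw [Submodule.coe_sum]
    simp only [Submodule.coe_smul, smul_eq_mul, C_mul_monomial, mul_one]
    rw [Finset.sum_attach x.1.support (fun β => monomial β (coeff β x.1))]
    exact (support_sum_monomial_coeff x.1).symm
  rw [hx', map_sum, map_sum]
  apply Finset.sum_congr rfl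
  intro β _
  rw [map_smul, map_smul, h β.1 (Finset.mem_biUnion.mpr ⟨x, hx, β.2⟩)]

/-- `T(I)` is spanned by its multigraded pieces -/
theorem iSup_tPiece_eq_top (hI : IsMonomial I) [Module.Finite k (MvPolynomial σ k ⧸ I)] :
    (⨆ α : σ → ℤ, tPiece I α) = ⊤ := by
  classical
  rw [eq_top_iff]
  intro φ _
  obtain ⟨B, hext⟩ := exists_finset_ext hI
  haveI := Groth.Agent.Lib.Helper20.finite_compl_exps I hI
  haveI := Fintype.ofFinite {γ : σ →₀ ℕ // γ ∉ exps I}
  obtain ⟨A, hAdef⟩ : ∃ A : Finset (σ → ℤ), A = B.biUnion (fun β => Finset.univ.image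
      (fun (γ : {γ : σ →₀ ℕ // γ ∉ exps I}) (l : σ) => (γ.1 l : ℤ) - (β l : ℤ))) := ⟨_, rfl⟩
  have key : φ = ∑ α ∈ A, comp hI φ α := by
    apply hext
    intro β hβB hβ
    rw [LinearMap.sum_apply]
    symm
    apply sum_comp_apply hI φ β hβ A
    intro γ
    rw [hAdef, Finset.mem_biUnion]
    exact ⟨β, hβB, Finset.mem_image.mpr ⟨γ, Finset.mem_univ _, rfl⟩⟩
  rw [key]
  exact Submodule.sum_mem _ (fun α _ => Submodule.mem_iSup_of_mem α (comp_mem hI φ α))

theorem s13434 (n : ℕ) (hn : 2 ≤ n) (I : Ideal (MvPolynomial (Fin n) k)) (hI : IsMonomial I)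
    [Module.Finite k (MvPolynomial (Fin n) k ⧸ I)] :
    (∀ α : Fin n → ℤ, ((∀ i, 0 ≤ α i) ∨ (∀ i, α i < 0)) → tPiece I α = ⊥) ∧
      (⨆ N : {N : Set (Fin n) // N.Nonempty ∧ N ≠ Set.univ}, sigPiece I N.1) = ⊤ := by
  have hA : ∀ α : Fin n → ℤ, ((∀ i, 0 ≤ α i) ∨ (∀ i, α i < 0)) → tPiece I α = ⊥ := by
    intro α h
    rcases h with h | h
    · exact tPiece_eq_bot_of_nonneg hI α h
    · exact tPiece_eq_bot_of_nonpos hI α (fun l => le_of_lt (h l)) ⟨0, by omega⟩ ⟨1, by omega⟩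
        (by simp) (h _) (h _)
  refine ⟨hA, ?_⟩
  rw [eq_top_iff, ← iSup_tPiece_eq_top hI]
  apply iSup_le
  intro α
  by_cases hbot : tPiece I α = ⊥
  · rw [hbot]; exact bot_le
  · have h1 : ¬ (∀ i, 0 ≤ α i) := fun h => hbot (hA α (Or.inl h))
    have h2 : ¬ (∀ i, α i < 0) := fun h => hbot (hA α (Or.inr h))
    simp only [not_forall, not_le, not_lt] at h1 h2
    obtain ⟨i, hi⟩ := h1
    obtain ⟨j, hj⟩ := h2
    have hN : ({l | α l < 0} : Set (Fin n)).Nonempty ∧
        ({l | α l < 0} : Set (Fin n)) ≠ Set.univ := by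
      refine ⟨⟨i, hi⟩, fun h => ?_⟩
      have : j ∈ ({l | α l < 0} : Set (Fin n)) := by rw [h]; exact Set.mem_univ _
      exact absurd this (not_lt.mpr hj)
    refine le_trans ?_ (le_iSup
      (fun N : {N : Set (Fin n) // N.Nonempty ∧ N ≠ Set.univ} => sigPiece I N.1) ⟨_, hN⟩)
    unfold sigPiece
    exact le_iSup (fun a : {a : Fin n → ℤ // ∀ i, a i < 0 ↔ i ∈ {l | α l < 0}} => tPiece I a.1)
      ⟨α, fun i => Iff.rfl⟩

end Groth.Agent.LeadHilbTgt
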