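import Mathlib
import Groth.Prelude.Def_W4c1hilbpnTgt
import Groth.Agent.Lib.LeadHilbCount
import Groth.Agent.Lib.LeadHilbDecomp

/-! Independence of the multigraded pieces of `T(I)` and dimension of finite sums of pieces. -/

set_option autoImplicit false
universe u

namespace Groth.Agent.LeadHilbTgt

open W4c1hilbpn MvPolynomial Groth.Agent.Lib.Helper24TgtPiece

variable {σ : Type*} {k : Type*} [Field k] [Fintype σ] {I : Ideal (MvPolynomial σ k)}

/-- the piece of degree `α` is isomorphic to the functions on the set `P` of isolated points -/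
theorem tPiece_equiv (hI : IsMonomial I) (α : σ → ℤ) (P : Finset (σ →₀ ℕ))
    (hP0 : ∀ β ∈ P, β ∈ exps I)
    (hP1 : ∀ β ∈ P, ∀ l, 0 ≤ (β l : ℤ) + α l)
    (hP3 : ∀ β ∈ P, shift β α ∉ exps I)
    (hP2 : ∀ β ∈ P, ∀ γ ∈ region I α, ¬ (stepGraph σ).Adj (pt α β) γ)
    (hP4 : ∀ F : (σ → ℤ) → k, Good I α F → ∀ β ∈ exps I, (∀ l, 0 ≤ (β l : ℤ) + α l) →
      shift β α ∉ exps I → β ∉ P → F (pt α β) = 0) :
    Nonempty ((↥P → k) ≃ₗ[k] ↥(tPiece I α)) := by
  classical
  have hinj : Function.Injective (Theta hI α P hP1 hP2) := by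
    rw [injective_iff_map_eq_zero]
    intro f hf
    funext b
    obtain ⟨β, hβP⟩ := b
    have h1 := Theta_apply hI α P hP1 hP2 f β (hP0 β hβP)
    rw [hf, LinearMap.zero_apply, dif_pos hβP] at h1
    have hne : Ideal.Quotient.mk I (monomial (shift β α) (1:k)) ≠ 0 :=
      fun h0 => hP3 β hβP (mk_monomial_eq_zero.mp h0)
    rcases smul_eq_zero.mp h1.symm with h3 | h3
    · exact h3
    · exact absurd h3 hne
  have hrange : LinearMap.range (Theta hI α P hP1 hP2) = tPiece I α := by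
    apply le_antisymm
    · rintro _ ⟨f, rfl⟩
      exact mkTgt_mem hI (FP α P f) (good_FP hP1 hP2 f)
    · intro φ hφ
      obtain ⟨F, hF, hFe⟩ := exists_good_of_mem hφ
      refine ⟨fun b => F (pt α b.1), ?_⟩
      apply ext_monomial hI
      intro β hβ
      rw [Theta_apply, hFe]
      unfold gF
      by_cases h : β ∈ P
      · rw [dif_pos h]
      · rw [dif_neg h, zero_smul]
        by_cases hnn : ∀ l, 0 ≤ (β l : ℤ) + α l
        · by_cases hin : shift β α ∈ exps I
          · rw [mk_monomial_eq_zero.mpr hin, smul_zero]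
          · rw [hP4 F hF β hβ hnn hin h, zero_smul]
        · simp only [not_forall, not_le] at hnn
          obtain ⟨l, hl⟩ := hnn
          have hr : pt α β ∈ region I α :=
            (mem_region_pt hβ).mpr (fun h => absurd (h.1 l) (not_le.mpr hl))
          rw [hF.neg _ hr ⟨l, hl⟩, zero_smul]
  exact ⟨(LinearEquiv.ofInjective _ hinj).trans (LinearEquiv.ofEq _ _ hrange)⟩

lemma ell_add (hI : IsMonomial I) {γ : σ →₀ ℕ} (hγ : γ ∉ exps I) (y z : MvPolynomial σ k ⧸ I) :
    ell γ (y + z) = ell γ y + ell γ z := by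
  obtain ⟨p, rfl⟩ := Ideal.Quotient.mk_surjective y
  obtain ⟨q, rfl⟩ := Ideal.Quotient.mk_surjective z
  rw [← map_add, ell_mk hI hγ, ell_mk hI hγ, ell_mk hI hγ, coeff_add]

lemma ell_zero' (hI : IsMonomial I) {γ : σ →₀ ℕ} (hγ : γ ∉ exps I) :
    ell γ (0 : MvPolynomial σ k ⧸ I) = 0 := by
  rw [← map_zero (Ideal.Quotient.mk I), ell_mk hI hγ, coeff_zero]

lemma ell_sum (hI : IsMonomial I) {γ : σ →₀ ℕ} (hγ : γ ∉ exps I) {ι : Type*} (s : Finset ι)
    (y : ι → MvPolynomial σ k ⧸ I) : ell γ (∑ i ∈ s, y i) = ∑ i ∈ s, ell γ (y i) := by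
  classical
  induction s using Finset.induction_on with
  | empty => rw [Finset.sum_empty, Finset.sum_empty, ell_zero' hI hγ]
  | insert a s ha ih => rw [Finset.sum_insert ha, Finset.sum_insert ha, ell_add hI hγ, ih]

lemma ell_smul_mk (hI : IsMonomial I) {γ : σ →₀ ℕ} (hγ : γ ∉ exps I) (c : k) (δ : σ →₀ ℕ) :
    ell γ (c • Ideal.Quotient.mk I (monomial δ (1:k))) = if δ = γ then c else 0 := by
  classical
  rw [← mk_monomial_smul, ell_mk hI hγ, coeff_monomial]
  by_cases h : δ = γ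
  · rw [if_pos h, if_pos h]
  · rw [if_neg h, if_neg h]

lemma eq_zero_of_mem_tPiece_of_eq_sum (hI : IsMonomial I) {α₀ : σ → ℤ} {A : Finset (σ → ℤ)}
    (hα₀ : α₀ ∉ A) {x : Tgt I} (hx : x ∈ tPiece I α₀) (μ : ∀ α : σ → ℤ, ↥(tPiece I α))
    (hsum : ∑ α ∈ A, (μ α : Tgt I) = x) : x = 0 := by
  classical
  apply ext_monomial hI
  intro β hβ
  rw [LinearMap.zero_apply]
  by_cases hnn : ∀ l, 0 ≤ (β l : ℤ) + α₀ l
  · by_cases hin : shift β α₀ ∈ exps I
    · have h1 := (hx β hβ).1 hnn
      rw [mk_monomial_eq_zero.mpr hin] at h1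
      obtain ⟨c, hc⟩ := Submodule.mem_span_singleton.mp h1
      rw [← hc, smul_zero]
    · obtain ⟨c, hc⟩ := Submodule.mem_span_singleton.mp ((hx β hβ).1 hnn)
      have h2 : ell (shift β α₀) (x ⟨monomial β 1, hβ⟩) = c := by
        rw [← hc, ell_smul_mk hI hin, if_pos rfl]
      have h3 : ell (shift β α₀) (x ⟨monomial β 1, hβ⟩) = 0 := by
        rw [← hsum, LinearMap.sum_apply, ell_sum hI hin]
        apply Finset.sum_eq_zero
        intro α hα
        have hne : α ≠ α₀ := fun h => hα₀ (h ▸ hα)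
        by_cases hnnα : ∀ l, 0 ≤ (β l : ℤ) + α l
        · obtain ⟨c', hc'⟩ := Submodule.mem_span_singleton.mp (((μ α).2 β hβ).1 hnnα)
          rw [← hc', ell_smul_mk hI hin, if_neg]
          intro hs
          apply hne
          funext l
          have := congrArg (fun f : σ →₀ ℕ => f l) hs
          simp only [shift_apply] at this
          have h1 := hnn l
          have h2 := hnnα l
          omega
        · simp only [not_forall, not_le] at hnnα
          rw [((μ α).2 β hβ).2 hnnα, ell_zero' hI hin]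
      rw [← hc, ← h2, h3, zero_smul]
  · simp only [not_forall, not_le] at hnn
    exact (hx β hβ).2 hnn

lemma disjoint_tPiece_sup (hI : IsMonomial I) {α₀ : σ → ℤ} {A : Finset (σ → ℤ)} (hα₀ : α₀ ∉ A) :
    tPiece I α₀ ⊓ A.sup (fun α => tPiece I α) = ⊥ := by
  rw [eq_bot_iff]
  rintro x ⟨hx1, hx2⟩
  have hx2' : x ∈ A.sup (fun α => tPiece I α) := hx2
  rw [Finset.sup_eq_iSup] at hx2'
  obtain ⟨μ, hμ⟩ := (Submodule.mem_iSup_finset_iff_exists_sum _ _).mp hx2'
  exact (Submodule.mem_bot _).mpr (eq_zero_of_mem_tPiece_of_eq_sum hI hα₀ hx1 μ hμ)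

theorem finrank_sup_tPiece (hI : IsMonomial I) (A : Finset (σ → ℤ))
    (hfd : ∀ α ∈ A, FiniteDimensional k ↥(tPiece I α)) :
    FiniteDimensional k ↥(A.sup (fun α => tPiece I α)) ∧
    Module.finrank k ↥(A.sup (fun α => tPiece I α)) =
      ∑ α ∈ A, Module.finrank k ↥(tPiece I α) := by
  classical
  induction A using Finset.induction_on with
  | empty =>
    rw [Finset.sup_empty, Finset.sum_empty]
    exact ⟨inferInstance, finrank_bot k _⟩
  | insert a A ha ih =>
    have hfdA : ∀ α ∈ A, FiniteDimensional k ↥(tPiece I α) :=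
      fun α hα => hfd α (Finset.mem_insert_of_mem hα)
    obtain ⟨h1, h2⟩ := ih hfdA
    haveI := hfd a (Finset.mem_insert_self a A)
    haveI := h1
    rw [Finset.sup_insert, Finset.sum_insert ha]
    refine ⟨inferInstance, ?_⟩
    have h3 := Submodule.finrank_sup_add_finrank_inf_eq (tPiece I a) (A.sup (fun α => tPiece I α))
    rw [disjoint_tPiece_sup hI ha, finrank_bot, add_zero] at h3
    rw [h3, h2]

/-- dimension of a submodule squeezed between a finite sum of pieces -/
theorem finrank_eq_sum_of_eq_sup (hI : IsMonomial I) (A : Finset (σ → ℤ))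
    (hfd : ∀ α ∈ A, FiniteDimensional k ↥(tPiece I α)) (S : Submodule k (Tgt I))
    (hS : S = A.sup (fun α => tPiece I α)) :
    Module.finrank k ↥S = ∑ α ∈ A, Module.finrank k ↥(tPiece I α) := by
  subst hS
  exact (finrank_sup_tPiece hI A hfd).2

/-- `T(I)` is spanned by its multigraded pieces (finitely many standard monomials) -/
theorem iSup_tPiece_eq_top' (hI : IsMonomial I) [Finite {γ : σ →₀ ℕ // γ ∉ exps I}] :
    (⨆ α : σ → ℤ, tPiece I α) = ⊤ := by
  classical
  rw [eq_top_iff]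
  intro φ _
  obtain ⟨B, hext⟩ := exists_finset_ext hI
  haveI := Fintype.ofFinite {γ : σ →₀ ℕ // γ ∉ exps I}
  obtain ⟨A, hAdef⟩ : ∃ A : Finset (σ → ℤ), A = B.biUnion (fun β => Finset.univ.image
      (fun (γ : {γ : σ →₀ ℕ // γ ∉ exps I}) (l : σ) => (γ.1 l : ℤ) - (β l : ℤ))) := ⟨_, rfl⟩
  have key : φ = ∑ α ∈ A, comp hI φ α := by
    apply hext
    intro β hβB hβ
    rw [LinearMap.sum_apply]
    symm
    apply sum_comp_apply hI φ β hβ A
    intro γ
    rw [hAdef, Finset.mem_biUnion]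
    exact ⟨β, hβB, Finset.mem_image.mpr ⟨γ, Finset.mem_univ _, rfl⟩⟩
  rw [key]
  exact Submodule.sum_mem _ (fun α _ => Submodule.mem_iSup_of_mem α (comp_mem hI φ α))

end Groth.Agent.LeadHilbTgt
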