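import Mathlib
import Groth.Prelude.Def_W4c1hilbpnTgt
import Groth.Agent.Lib.LeadHilbCount

/-! Graded pieces of the tangent space of a power of the irrelevant ideal. -/

set_option autoImplicit false
universe u

namespace Groth.Agent.LeadHilbTgt

open W4c1hilbpn MvPolynomial Groth.Agent.Lib.Helper24TgtPiece

variable {σ : Type*} {k : Type*} [Field k] [Fintype σ]

lemma mem_exps_pow {r : ℕ} {β : σ →₀ ℕ} : β ∈ exps (idealOfVars σ k ^ r) ↔ r ≤ β.degree :=
  monomial_mem_pow_idealOfVars_iff r β one_ne_zero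

lemma isMonomial_pow (r : ℕ) : IsMonomial (idealOfVars σ k ^ r) := by
  intro p hp β hβ
  rw [mem_pow_idealOfVars_iff] at hp
  exact (monomial_mem_pow_idealOfVars_iff r β one_ne_zero).mpr (hp β hβ)

lemma degree_shift {β : σ →₀ ℕ} {α : σ → ℤ} (hnn : ∀ l, 0 ≤ (β l : ℤ) + α l) :
    ((shift β α).degree : ℤ) = (β.degree : ℤ) + ∑ l, α l := by
  rw [Finsupp.degree_eq_sum, Finsupp.degree_eq_sum]
  push_cast
  rw [← Finset.sum_add_distrib]
  apply Finset.sum_congr rfl
  intro l _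
  rw [shift_apply, Int.toNat_of_nonneg (hnn l)]

lemma pow_isolated {r : ℕ} {α : σ → ℤ} (hs : ∑ l, α l = -1) {β : σ →₀ ℕ} (hdeg : β.degree = r)
    (hnn : ∀ l, 0 ≤ (β l : ℤ) + α l) :
    ∀ γ ∈ region (idealOfVars σ k ^ r) α, ¬ (stepGraph σ).Adj (pt α β) γ := by
  intro γ hγ hadj
  obtain ⟨⟨β', hβ', rfl⟩, hn⟩ := hγ
  have hr : pt α β' ∈ region (idealOfVars σ k ^ r) α := ⟨⟨β', hβ', rfl⟩, hn⟩
  have hr' := (mem_region_pt hβ').mp hr
  have hadj' : (stepGraph σ).Adj (pt α β) (pt α β') := hadj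
  obtain ⟨i, h | h⟩ := adj_pt_cases α hadj'
  · apply hr'
    have hnn' : ∀ l, 0 ≤ (β' l : ℤ) + α l := by
      intro l; have := hnn l; rw [h, Finsupp.add_apply]; push_cast; omega
    refine ⟨hnn', ?_⟩
    rw [mem_exps_pow]
    have h1 := degree_shift hnn'
    have h2 : β'.degree = r + 1 := by rw [h, map_add, Finsupp.degree_single, hdeg]
    rw [h2, hs] at h1
    push_cast at h1
    omega
  · have h1 := mem_exps_pow.mp hβ'
    have h2 : β.degree = β'.degree + 1 := by rw [h, map_add, Finsupp.degree_single]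
    omega

lemma pow_char {r : ℕ} {α : σ → ℤ} (hs : ∑ l, α l = -1) {β : σ →₀ ℕ}
    (hβ : β ∈ exps (idealOfVars σ k ^ r)) (hnn : ∀ l, 0 ≤ (β l : ℤ) + α l)
    (hout : shift β α ∉ exps (idealOfVars σ k ^ r)) :
    β.degree = r := by
  have h1 := mem_exps_pow.mp hβ
  have h2 : ¬ r ≤ (shift β α).degree := fun h => hout (mem_exps_pow.mpr h)
  have h3 := degree_shift hnn
  rw [hs] at h3
  omega

/-- the vector of negative parts of `α` -/
noncomputable def aOf (α : σ → ℤ) : σ →₀ ℕ :=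
  Finsupp.equivFunOnFinite.symm (fun l => (-α l).toNat)

lemma aOf_apply (α : σ → ℤ) (l : σ) : aOf α l = (-α l).toNat := rfl

lemma degree_aOf (α : σ → ℤ) : (aOf α).degree = ∑ l, (-α l).toNat := by
  rw [Finsupp.degree_eq_sum]; rfl

lemma aOf_le_iff (α : σ → ℤ) (β : σ →₀ ℕ) : aOf α ≤ β ↔ ∀ l, 0 ≤ (β l : ℤ) + α l := by
  constructor
  · intro h l; have := h l; rw [aOf_apply] at this; omega
  · intro h l; have := h l; rw [aOf_apply]; omega

open Classical in
/-- the exponents `β` of degree `r` with `β + α ≥ 0` -/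
noncomputable def Ppow (r : ℕ) (α : σ → ℤ) : Finset (σ →₀ ℕ) :=
  ((Finset.univ : Finset σ).finsuppAntidiag (r - (aOf α).degree)).map (addLeftEmbedding (aOf α))

lemma mem_Ppow {r : ℕ} {α : σ → ℤ} (hw : (aOf α).degree ≤ r) {β : σ →₀ ℕ} :
    β ∈ Ppow r α ↔ aOf α ≤ β ∧ β.degree = r := by
  classical
  unfold Ppow
  rw [Finset.mem_map]
  constructor
  · rintro ⟨u, hu, rfl⟩
    rw [Finset.mem_finsuppAntidiag] at hu
    rw [addLeftEmbedding_apply]
    refine ⟨le_self_add, ?_⟩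
    rw [map_add, Finsupp.degree_eq_sum u, hu.1]
    omega
  · rintro ⟨hle, hdeg⟩
    refine ⟨β - aOf α, ?_, ?_⟩
    · rw [Finset.mem_finsuppAntidiag]
      refine ⟨?_, Finset.subset_univ _⟩
      have h1 : (β - aOf α).degree + (aOf α).degree = β.degree := by
        rw [← map_add, tsub_add_cancel_of_le hle]
      rw [← Finsupp.degree_eq_sum]
      omega
    · rw [addLeftEmbedding_apply]; exact add_tsub_cancel_of_le hle

lemma card_Ppow_gen (r : ℕ) (α : σ → ℤ) :
    (Ppow r α).card =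
      Nat.choose (Fintype.card σ + (r - (aOf α).degree) - 1) (r - (aOf α).degree) := by
  classical
  unfold Ppow
  rw [Finset.card_map, Finset.card_finsuppAntidiag_nat_eq_choose, Finset.card_univ]

lemma card_Ppow {n r : ℕ} (hn : 1 ≤ n) (α : Fin n → ℤ) (hw : (aOf α).degree ≤ r) :
    (Ppow r α).card = Nat.choose (n + r - (aOf α).degree - 1) (n - 1) := by
  rw [card_Ppow_gen, Fintype.card_fin]
  have e1 : n + (r - (aOf α).degree) - 1 = (r - (aOf α).degree) + (n - 1) := by omega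
  have e2 : n + r - (aOf α).degree - 1 = (r - (aOf α).degree) + (n - 1) := by omega
  rw [e1, e2, Nat.choose_symm_add]

lemma pow_down {r : ℕ} {α : σ → ℤ} {F : (σ → ℤ) → k} (hF : Good (idealOfVars σ k ^ r) α F)
    {i : σ} (hi : α i < 0)
    (β : σ →₀ ℕ) (hdeg : r + 1 ≤ β.degree) (hnn : ∀ l, 0 ≤ (β l : ℤ) + α l)
    (hout : shift β α ∉ exps (idealOfVars σ k ^ r)) :
    ∃ β₁ : σ →₀ ℕ, β₁ ∈ exps (idealOfVars σ k ^ r) ∧ F (pt α β) = F (pt α β₁) ∧
      pt α β₁ ∈ region (idealOfVars σ k ^ r) α ∧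
      (∀ l, l ≠ i → 0 ≤ (β₁ l : ℤ) + α l) ∧ (β₁ i : ℤ) + α i = (β i : ℤ) + α i - 1 := by
  classical
  have hβ : β ∈ exps (idealOfVars σ k ^ r) := mem_exps_pow.mpr (by omega)
  have hβi : 1 ≤ β i := by have := hnn i; omega
  obtain ⟨β₁, hβ₁def⟩ : ∃ β₁ : σ →₀ ℕ, β₁ = β - Finsupp.single i 1 := ⟨_, rfl⟩
  have hle1 : Finsupp.single i 1 ≤ β := by
    intro l
    by_cases hl : l = i
    · subst hl; simp only [Finsupp.single_eq_same]; exact hβi
    · rw [Finsupp.single_apply, if_neg (Ne.symm hl)]; exact Nat.zero_le _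
  have hadd : β₁ + Finsupp.single i 1 = β := by rw [hβ₁def]; exact tsub_add_cancel_of_le hle1
  have hdeg1 : β₁.degree + 1 = β.degree := by
    rw [← hadd, map_add, Finsupp.degree_single]
  have hβ₁ : β₁ ∈ exps (idealOfVars σ k ^ r) := mem_exps_pow.mpr (by omega)
  have hβ₁l : ∀ l, l ≠ i → β₁ l = β l := by
    intro l hl
    rw [hβ₁def, Finsupp.tsub_apply, Finsupp.single_apply, if_neg (Ne.symm hl), Nat.sub_zero]
  have hβ₁i : β₁ i + 1 = β i := by
    have := congrArg (fun f : σ →₀ ℕ => f i) hadd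
    simpa using this
  have hr : pt α β ∈ region (idealOfVars σ k ^ r) α :=
    (mem_region_pt hβ).mpr (fun h => hout h.2)
  have hr₁ : pt α β₁ ∈ region (idealOfVars σ k ^ r) α := by
    refine (mem_region_pt hβ₁).mpr (fun h => hout ?_)
    have := shift_add_of_nonneg α (Finsupp.single i 1) h.1
    rw [hadd] at this
    rw [this]
    exact exps_add h.2 _
  have hF2 : F (pt α β₁) = F (pt α β) := by
    have hadj := adj_step α β₁ i
    rw [hadd] at hadj
    exact hF.adj _ _ hr₁ hr hadj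
  refine ⟨β₁, hβ₁, hF2.symm, hr₁, fun l hl => ?_, ?_⟩
  · rw [hβ₁l l hl]; exact hnn l
  · omega

lemma pow_reduce {r : ℕ} {α : σ → ℤ} {F : (σ → ℤ) → k} (hF : Good (idealOfVars σ k ^ r) α F)
    (hs : ∑ l, α l ≤ -2) {i j : σ} (hij : i ≠ j) (hi : α i < 0)
    (β : σ →₀ ℕ) (hβ : β ∈ exps (idealOfVars σ k ^ r)) (hnn : ∀ l, 0 ≤ (β l : ℤ) + α l)
    (hout : shift β α ∉ exps (idealOfVars σ k ^ r)) :
    ∃ β₁ : σ →₀ ℕ, β₁ ∈ exps (idealOfVars σ k ^ r) ∧ F (pt α β) = F (pt α β₁) ∧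
      pt α β₁ ∈ region (idealOfVars σ k ^ r) α ∧
      (∀ l, l ≠ i → 0 ≤ (β₁ l : ℤ) + α l) ∧ (β₁ i : ℤ) + α i = (β i : ℤ) + α i - 1 := by
  classical
  have hdeg := mem_exps_pow.mp hβ
  by_cases hd : r + 1 ≤ β.degree
  · exact pow_down hF hi β hd hnn hout
  · have hdr : β.degree = r := by omega
    have hβ₂ : β + Finsupp.single j 1 ∈ exps (idealOfVars σ k ^ r) := exps_add hβ _
    have hdeg₂ : (β + Finsupp.single j 1).degree = r + 1 := by
      rw [map_add, Finsupp.degree_single, hdr]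
    have hnn₂ : ∀ l, 0 ≤ (((β + Finsupp.single j 1 : σ →₀ ℕ) l : ℕ) : ℤ) + α l := by
      intro l; have := hnn l; rw [Finsupp.add_apply]; push_cast; omega
    have hout₂ : shift (β + Finsupp.single j 1) α ∉ exps (idealOfVars σ k ^ r) := by
      intro h
      have h1 := mem_exps_pow.mp h
      have h2 := degree_shift hnn₂
      rw [hdeg₂] at h2
      push_cast at h2
      omega
    have hr : pt α β ∈ region (idealOfVars σ k ^ r) α :=
      (mem_region_pt hβ).mpr (fun h => hout h.2)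
    have hr₂ : pt α (β + Finsupp.single j 1) ∈ region (idealOfVars σ k ^ r) α :=
      (mem_region_pt hβ₂).mpr (fun h => hout₂ h.2)
    have hF1 : F (pt α β) = F (pt α (β + Finsupp.single j 1)) :=
      hF.adj _ _ hr hr₂ (adj_step α β j)
    obtain ⟨β₁, h1, h2, h3, h4, h5⟩ :=
      pow_down hF hi (β + Finsupp.single j 1) (by omega) hnn₂ hout₂
    refine ⟨β₁, h1, hF1.trans h2, h3, h4, ?_⟩
    rw [h5, Finsupp.add_apply, Finsupp.single_apply, if_neg (Ne.symm hij)]
    push_cast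
    ring

lemma pow_vanish [Nontrivial σ] {r : ℕ} {α : σ → ℤ} (hs : ∑ l, α l ≠ -1) {F : (σ → ℤ) → k}
    (hF : Good (idealOfVars σ k ^ r) α F)
    (β : σ →₀ ℕ) (hβ : β ∈ exps (idealOfVars σ k ^ r)) (hnn : ∀ l, 0 ≤ (β l : ℤ) + α l)
    (hout : shift β α ∉ exps (idealOfVars σ k ^ r)) : F (pt α β) = 0 := by
  have h1 := mem_exps_pow.mp hβ
  have h2 : ¬ r ≤ (shift β α).degree := fun h => hout (mem_exps_pow.mpr h)
  have h3 := degree_shift hnn
  have hs2 : ∑ l, α l ≤ -2 := by omega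
  have hex : ∃ i, α i < 0 := by
    by_contra hcon
    simp only [not_exists, not_lt] at hcon
    have : 0 ≤ ∑ l, α l := Finset.sum_nonneg (fun l _ => hcon l)
    omega
  obtain ⟨i, hi⟩ := hex
  obtain ⟨j, hj⟩ := exists_ne i
  exact good_eq_zero_of_reduce hF i
    (fun β hβ hnn hout => pow_reduce hF hs2 (Ne.symm hj) hi β hβ hnn hout)
    ((β i : ℤ) + α i).toNat β hβ hnn hout (by rw [Int.toNat_of_nonneg (hnn i)])

theorem s13435 (n : ℕ) (hn : 2 ≤ n) (r : ℕ) (α : Fin n → ℤ) :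
    Module.finrank k ↥(tPiece ((Ideal.span (Set.range
      (MvPolynomial.X : Fin n → MvPolynomial (Fin n) k))) ^ r) α) =
      if (∑ i, α i = -1 ∧ ∑ i, (-α i).toNat ≤ r)
        then Nat.choose (n + r - (∑ i, (-α i).toNat) - 1) (n - 1) else 0 := by
  classical
  haveI : Nontrivial (Fin n) := Fin.nontrivial_iff_two_le.mpr hn
  show Module.finrank k ↥(tPiece (idealOfVars (Fin n) k ^ r) α) = _
  rw [← degree_aOf α]
  have hI := isMonomial_pow (σ := Fin n) (k := k) r
  split_ifs with h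
  · obtain ⟨hs, hw⟩ := h
    rw [← card_Ppow (by omega) α hw]
    apply finrank_tPiece_eq_card hI α (Ppow r α)
    · intro β hβ
      rw [mem_Ppow hw] at hβ
      exact mem_exps_pow.mpr (le_of_eq hβ.2.symm)
    · intro β hβ
      rw [mem_Ppow hw] at hβ
      exact (aOf_le_iff α β).mp hβ.1
    · intro β hβ hin
      rw [mem_Ppow hw] at hβ
      have h1 := mem_exps_pow.mp hin
      have h3 := degree_shift ((aOf_le_iff α β).mp hβ.1)
      rw [hs, hβ.2] at h3
      omega
    · intro β hβ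
      rw [mem_Ppow hw] at hβ
      exact pow_isolated hs hβ.2 ((aOf_le_iff α β).mp hβ.1)
    · intro F hF β hβ hnn hout hβP
      exfalso
      apply hβP
      rw [mem_Ppow hw]
      exact ⟨(aOf_le_iff α β).mpr hnn, pow_char hs hβ hnn hout⟩
  · have h0 : Module.finrank k ↥(tPiece (idealOfVars (Fin n) k ^ r) α) =
        (∅ : Finset (Fin n →₀ ℕ)).card := by
      apply finrank_tPiece_eq_card hI α ∅
      · intro β hβ; exact absurd hβ (Finset.notMem_empty _)
      · intro β hβ; exact absurd hβ (Finset.notMem_empty _)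
      · intro β hβ; exact absurd hβ (Finset.notMem_empty _)
      · intro β hβ; exact absurd hβ (Finset.notMem_empty _)
      · intro F hF β hβ hnn hout _
        by_cases hs : ∑ i, α i = -1
        · exfalso
          apply h
          refine ⟨hs, ?_⟩
          have hd := pow_char hs hβ hnn hout
          have hle := (aOf_le_iff α β).mpr hnn
          have : (aOf α).degree ≤ β.degree := Finsupp.degree_mono hle
          omega
        · exact pow_vanish hs hF β hβ hnn hout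
    rw [h0, Finset.card_empty]

end Groth.Agent.LeadHilbTgt
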