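import Mathlib
import Groth.Prelude.Def_W4c1hilbpnTgt
import Groth.Agent.Lib.LeadHilbTgt

/-! Three-variable helpers for the tangent space of monomial ideals. -/

set_option autoImplicit false
universe u

namespace Groth.Agent.LeadHilbTgt

open W4c1hilbpn MvPolynomial Groth.Agent.Lib.Helper24TgtPiece Groth.Agent.Lib.Helper20

variable {k : Type*} [Field k]

lemma fin3_cases (l : Fin 3) : l = 0 ∨ l = 1 ∨ l = 2 := by
  fin_cases l <;> simp

lemma e3_le_iff (a b c : ℕ) (u : Fin 3 →₀ ℕ) : e3 a b c ≤ u ↔ a ≤ u 0 ∧ b ≤ u 1 ∧ c ≤ u 2 := by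
  constructor
  · intro h
    refine ⟨?_, ?_, ?_⟩
    · have := h 0; rwa [e3_zero] at this
    · have := h 1; rwa [e3_one] at this
    · have := h 2; rwa [e3_two] at this
  · rintro ⟨h0, h1, h2⟩ l
    rcases fin3_cases l with rfl | rfl | rfl
    · rw [e3_zero]; exact h0
    · rw [e3_one]; exact h1
    · rw [e3_two]; exact h2

lemma e3_sub_single0 (a b c : ℕ) : e3 a b c - Finsupp.single 0 1 = e3 (a-1) b c := by
  apply e3_ext
  · simp [Finsupp.tsub_apply, e3_zero]
  · simp [Finsupp.tsub_apply, e3_one, Finsupp.single_apply]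
  · simp [Finsupp.tsub_apply, e3_two, Finsupp.single_apply]

lemma e3_sub_single1 (a b c : ℕ) : e3 a b c - Finsupp.single 1 1 = e3 a (b-1) c := by
  apply e3_ext
  · simp [Finsupp.tsub_apply, e3_zero, Finsupp.single_apply]
  · simp [Finsupp.tsub_apply, e3_one]
  · simp [Finsupp.tsub_apply, e3_two, Finsupp.single_apply]

lemma e3_sub_single2 (a b c : ℕ) : e3 a b c - Finsupp.single 2 1 = e3 a b (c-1) := by
  apply e3_ext
  · simp [Finsupp.tsub_apply, e3_zero, Finsupp.single_apply]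
  · simp [Finsupp.tsub_apply, e3_one, Finsupp.single_apply]
  · simp [Finsupp.tsub_apply, e3_two]

/-- a minimal generator `g` and a standard monomial `w` such that every standard monomial above
`w` is smaller than `g` exactly at the indices in `N`: the piece of sign pattern `N` is nonzero -/
lemma sigPiece_ne_bot_of_gen_of_standard {σ : Type*} [Fintype σ] {I : Ideal (MvPolynomial σ k)}
    (hI : IsMonomial I) [Module.Finite k (MvPolynomial σ k ⧸ I)] (g w : σ →₀ ℕ) (N : Set σ)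
    (hg : g ∈ exps I) (hgmin : ∀ i, 0 < g i → g - Finsupp.single i 1 ∉ exps I) (hw : w ∉ exps I)
    (hN : ∀ u, w ≤ u → u ∉ exps I → ∀ l, u l < g l ↔ l ∈ N) : sigPiece I N ≠ ⊥ := by
  obtain ⟨u, hwu, hu, hsoc⟩ := exists_socle_ge hI w hw
  exact sigPiece_ne_bot_of_socle_gen hI N g u hg hgmin hu hsoc (hN u hwu hu)

theorem s13438 (I : Ideal (MvPolynomial (Fin 3) k)) (hI : IsMonomial I)
    [Module.Finite k (MvPolynomial (Fin 3) k ⧸ I)]
    (a1 a2 b1 b3 c2 c3 : ℕ) (ha1 : 0 < a1) (ha2 : 0 < a2) (hb1 : 0 < b1) (hb3 : 0 < b3)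
    (hc2 : 0 < c2) (hc3 : 0 < c3)
    (hA : e3 a1 a2 0 ∈ exps I ∧ e3 (a1 - 1) a2 0 ∉ exps I ∧ e3 a1 (a2 - 1) 0 ∉ exps I)
    (hB : e3 b1 0 b3 ∈ exps I ∧ e3 (b1 - 1) 0 b3 ∉ exps I ∧ e3 b1 0 (b3 - 1) ∉ exps I)
    (hC : e3 0 c2 c3 ∈ exps I ∧ e3 0 (c2 - 1) c3 ∉ exps I ∧ e3 0 c2 (c3 - 1) ∉ exps I)
    (hcase : (b1 ≤ a1 ∧ c2 ≤ a2) ∨ (a1 ≤ b1 ∧ c3 ≤ b3) ∨ (a2 ≤ c2 ∧ b3 ≤ c3)) :
    sigPiece I ({0, 1} : Set (Fin 3)) ≠ ⊥ ∨ sigPiece I ({0, 2} : Set (Fin 3)) ≠ ⊥ ∨
      sigPiece I ({1, 2} : Set (Fin 3)) ≠ ⊥ := by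
  classical
  rcases hcase with ⟨h1, h2⟩ | ⟨h1, h2⟩ | ⟨h1, h2⟩
  · left
    apply sigPiece_ne_bot_of_gen_of_standard hI (e3 a1 a2 0) (e3 0 0 (max b3 c3)) _ hA.1
    · intro i hi
      rcases fin3_cases i with rfl | rfl | rfl
      · rw [e3_sub_single0]; exact hA.2.1
      · rw [e3_sub_single1]; exact hA.2.2
      · rw [e3_two] at hi; exact absurd hi (lt_irrefl _)
    · intro hw
      rcases le_total b3 c3 with h | h
      · rw [max_eq_right h] at hw
        exact hC.2.1 (exps_of_le hw ((e3_le_iff _ _ _ _).mpr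
          ⟨by rw [e3_zero], by rw [e3_one]; exact Nat.zero_le _, by rw [e3_two]⟩))
      · rw [max_eq_left h] at hw
        exact hB.2.1 (exps_of_le hw ((e3_le_iff _ _ _ _).mpr
          ⟨by rw [e3_zero]; exact Nat.zero_le _, by rw [e3_one], by rw [e3_two]⟩))
    · intro u hwu hu l
      obtain ⟨-, -, hu2⟩ := (e3_le_iff _ _ _ _).mp hwu
      have hu0 : u 0 < b1 := by
        by_contra hcon
        exact hu (exps_of_le hB.1 ((e3_le_iff _ _ _ _).mpr
          ⟨not_lt.mp hcon, Nat.zero_le _, le_trans (le_max_left _ _) hu2⟩))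
      have hu1 : u 1 < c2 := by
        by_contra hcon
        exact hu (exps_of_le hC.1 ((e3_le_iff _ _ _ _).mpr
          ⟨Nat.zero_le _, not_lt.mp hcon, le_trans (le_max_right _ _) hu2⟩))
      rcases fin3_cases l with rfl | rfl | rfl
      · rw [e3_zero]; simp; omega
      · rw [e3_one]; simp; omega
      · rw [e3_two]; simp
  · right; left
    apply sigPiece_ne_bot_of_gen_of_standard hI (e3 b1 0 b3) (e3 0 (max a2 c2) 0) _ hB.1
    · intro i hi
      rcases fin3_cases i with rfl | rfl | rfl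
      · rw [e3_sub_single0]; exact hB.2.1
      · rw [e3_one] at hi; exact absurd hi (lt_irrefl _)
      · rw [e3_sub_single2]; exact hB.2.2
    · intro hw
      rcases le_total a2 c2 with h | h
      · rw [max_eq_right h] at hw
        exact hC.2.2 (exps_of_le hw ((e3_le_iff _ _ _ _).mpr
          ⟨by rw [e3_zero], by rw [e3_one], by rw [e3_two]; exact Nat.zero_le _⟩))
      · rw [max_eq_left h] at hw
        exact hA.2.1 (exps_of_le hw ((e3_le_iff _ _ _ _).mpr
          ⟨by rw [e3_zero]; exact Nat.zero_le _, by rw [e3_one], by rw [e3_two]⟩))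
    · intro u hwu hu l
      obtain ⟨-, hu1, -⟩ := (e3_le_iff _ _ _ _).mp hwu
      have hu0 : u 0 < a1 := by
        by_contra hcon
        exact hu (exps_of_le hA.1 ((e3_le_iff _ _ _ _).mpr
          ⟨not_lt.mp hcon, le_trans (le_max_left _ _) hu1, Nat.zero_le _⟩))
      have hu2 : u 2 < c3 := by
        by_contra hcon
        exact hu (exps_of_le hC.1 ((e3_le_iff _ _ _ _).mpr
          ⟨Nat.zero_le _, le_trans (le_max_right _ _) hu1, not_lt.mp hcon⟩))
      rcases fin3_cases l with rfl | rfl | rfl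
      · rw [e3_zero]; simp; omega
      · rw [e3_one]; simp
      · rw [e3_two]; simp; omega
  · right; right
    apply sigPiece_ne_bot_of_gen_of_standard hI (e3 0 c2 c3) (e3 (max a1 b1) 0 0) _ hC.1
    · intro i hi
      rcases fin3_cases i with rfl | rfl | rfl
      · rw [e3_zero] at hi; exact absurd hi (lt_irrefl _)
      · rw [e3_sub_single1]; exact hC.2.1
      · rw [e3_sub_single2]; exact hC.2.2
    · intro hw
      rcases le_total a1 b1 with h | h
      · rw [max_eq_right h] at hw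
        exact hB.2.2 (exps_of_le hw ((e3_le_iff _ _ _ _).mpr
          ⟨by rw [e3_zero], by rw [e3_one], by rw [e3_two]; exact Nat.zero_le _⟩))
      · rw [max_eq_left h] at hw
        exact hA.2.2 (exps_of_le hw ((e3_le_iff _ _ _ _).mpr
          ⟨by rw [e3_zero], by rw [e3_one]; exact Nat.zero_le _, by rw [e3_two]⟩))
    · intro u hwu hu l
      obtain ⟨hu0, -, -⟩ := (e3_le_iff _ _ _ _).mp hwu
      have hu1 : u 1 < a2 := by
        by_contra hcon
        exact hu (exps_of_le hA.1 ((e3_le_iff _ _ _ _).mpr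
          ⟨le_trans (le_max_left _ _) hu0, not_lt.mp hcon, Nat.zero_le _⟩))
      have hu2 : u 2 < b3 := by
        by_contra hcon
        exact hu (exps_of_le hB.1 ((e3_le_iff _ _ _ _).mpr
          ⟨le_trans (le_max_right _ _) hu0, Nat.zero_le _, not_lt.mp hcon⟩))
      rcases fin3_cases l with rfl | rfl | rfl
      · rw [e3_zero]; simp
      · rw [e3_one]; simp; omega
      · rw [e3_two]; simp; omega

end Groth.Agent.LeadHilbTgt
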