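import Mathlib
import Groth.Prelude.Def_W4c1hilbpnTgt
import Groth.Agent.Lib.LeadHilbPow
import Groth.Agent.Lib.LeadHilbIndep
import Groth.Agent.Lib.LeadHilbTgt3

/-! Sign-pattern pieces of the tangent space of `m^r` in three variables. -/

set_option autoImplicit false
universe u

namespace Groth.Agent.LeadHilbTgt

open W4c1hilbpn MvPolynomial Groth.Agent.Lib.Helper24TgtPiece

section general

variable {σ : Type*} {k : Type*} [Field k] [Fintype σ]

instance finite_compl_exps_pow (r : ℕ) : Finite {γ : σ →₀ ℕ // γ ∉ exps (idealOfVars σ k ^ r)} := by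
  have h := Finsupp.finite_of_degree_lt (σ := σ) r
  have hsub : {γ : σ →₀ ℕ | γ ∉ exps (idealOfVars σ k ^ r)} ⊆ {f : σ →₀ ℕ | f.degree < r} := by
    intro γ hγ
    have : ¬ r ≤ γ.degree := fun h' => hγ (mem_exps_pow.mpr h')
    exact not_le.mp this
  exact Set.finite_coe_iff.mpr (h.subset hsub)

theorem pow_equiv [Nontrivial σ] (r : ℕ) (α : σ → ℤ) :
    ((∑ i, α i = -1 ∧ (aOf α).degree ≤ r) →
      Nonempty ((↥(Ppow r α) → k) ≃ₗ[k] ↥(tPiece (idealOfVars σ k ^ r) α))) ∧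
    (¬ (∑ i, α i = -1 ∧ (aOf α).degree ≤ r) → tPiece (idealOfVars σ k ^ r) α = ⊥) := by
  classical
  have hI := isMonomial_pow (σ := σ) (k := k) r
  constructor
  · rintro ⟨hs, hw⟩
    apply tPiece_equiv hI α (Ppow r α)
    · intro β hβ
      rw [mem_Ppow hw] at hβ
      exact mem_exps_pow.mpr (le_of_eq hβ.2.symm)
    · intro β hβ
      rw [mem_Ppow hw] at hβ
      exact (aOf_le_iff α β).mp hβ.1
    · intro β hβ hin
      rw [mem_Ppow hw] at hβ
      have h1 := mem_exps_pow.mp hin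
      have h3 := degree_shift ((aOf_le_iff α β).mp hβ.1)
      rw [hs, hβ.2] at h3
      omega
    · intro β hβ
      rw [mem_Ppow hw] at hβ
      exact pow_isolated hs hβ.2 ((aOf_le_iff α β).mp hβ.1)
    · intro F hF β hβ hnn hout hβP
      exfalso
      apply hβP
      rw [mem_Ppow hw]
      exact ⟨(aOf_le_iff α β).mpr hnn, pow_char hs hβ hnn hout⟩
  · intro h
    have h0 : Nonempty ((↥(∅ : Finset (σ →₀ ℕ)) → k) ≃ₗ[k]
        ↥(tPiece (idealOfVars σ k ^ r) α)) := by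
      apply tPiece_equiv hI α ∅
      · intro β hβ; exact absurd hβ (Finset.notMem_empty _)
      · intro β hβ; exact absurd hβ (Finset.notMem_empty _)
      · intro β hβ; exact absurd hβ (Finset.notMem_empty _)
      · intro β hβ; exact absurd hβ (Finset.notMem_empty _)
      · intro F hF β hβ hnn hout _
        by_cases hs : ∑ i, α i = -1
        · exfalso
          apply h
          refine ⟨hs, ?_⟩
          have hd := pow_char hs hβ hnn hout
          have hle := (aOf_le_iff α β).mpr hnn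
          have : (aOf α).degree ≤ β.degree := Finsupp.degree_mono hle
          omega
        · exact pow_vanish hs hF β hβ hnn hout
    obtain ⟨e⟩ := h0
    rw [Submodule.eq_bot_iff]
    intro x hx
    have h1 : e.symm ⟨x, hx⟩ = 0 := by
      funext b
      exact absurd b.2 (Finset.notMem_empty _)
    have h2 : (⟨x, hx⟩ : ↥(tPiece (idealOfVars σ k ^ r) α)) = 0 := by
      rw [← e.apply_symm_apply ⟨x, hx⟩, h1, map_zero]
    exact congrArg Subtype.val h2

theorem finiteDimensional_tPiece_pow [Nontrivial σ] (r : ℕ) (α : σ → ℤ) :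
    FiniteDimensional k ↥(tPiece (idealOfVars σ k ^ r) α) := by
  by_cases h : (∑ i, α i = -1 ∧ (aOf α).degree ≤ r)
  · obtain ⟨e⟩ := (pow_equiv (k := k) r α).1 h
    exact LinearEquiv.finiteDimensional e
  · rw [(pow_equiv (k := k) r α).2 h]
    infer_instance

end general

/-! ### binomial sums -/

lemma sumA (n : ℕ) :
    ∑ p ∈ Finset.HasAntidiagonal.antidiagonal n, (p.1 + 1) = (n + 2).choose 2 := by
  induction n with
  | zero => simp
  | succ n ih =>
    rw [Finset.Nat.sum_antidiagonal_succ']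
    dsimp only
    rw [ih]
    have h1 : (n + 1 + 2).choose 2 = (n + 2).choose 1 + (n + 2).choose 2 :=
      Nat.choose_succ_succ' _ _
    have h2 := Nat.choose_one_right (n + 2)
    omega

lemma sumAB (n : ℕ) :
    ∑ p ∈ Finset.HasAntidiagonal.antidiagonal n, (p.1 + 1) * (p.2 + 1) = (n + 3).choose 3 := by
  induction n with
  | zero => simp
  | succ n ih =>
    rw [Finset.Nat.sum_antidiagonal_succ']
    dsimp only
    have h0 : ∀ p : ℕ × ℕ, (p.1 + 1) * (p.2 + 1 + 1) = (p.1 + 1) * (p.2 + 1) + (p.1 + 1) := by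
      intro p; ring
    rw [Finset.sum_congr rfl (fun p _ => h0 p), Finset.sum_add_distrib]
    rw [ih, sumA]
    have h1 : (n + 1 + 3).choose 3 = (n + 3).choose 2 + (n + 3).choose 3 :=
      Nat.choose_succ_succ' _ _
    have h2 : (n + 3).choose 2 = (n + 2).choose 1 + (n + 2).choose 2 :=
      Nat.choose_succ_succ' _ _
    have h3 := Nat.choose_one_right (n + 2)
    omega

lemma sumPhi (n : ℕ) :
    ∑ p ∈ Finset.HasAntidiagonal.antidiagonal n, (p.1 + 1) * (p.2 + 2).choose 2 =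
      (n + 4).choose 4 := by
  induction n with
  | zero => simp
  | succ n ih =>
    rw [Finset.Nat.sum_antidiagonal_succ']
    dsimp only
    have h0 : ∀ p : ℕ × ℕ, (p.1 + 1) * (p.2 + 1 + 2).choose 2 =
        (p.1 + 1) * (p.2 + 1) + (p.1 + 1) + (p.1 + 1) * (p.2 + 2).choose 2 := by
      intro p
      have : (p.2 + 1 + 2).choose 2 = (p.2 + 2).choose 1 + (p.2 + 2).choose 2 :=
        Nat.choose_succ_succ' _ _
      rw [this, Nat.choose_one_right]
      ring
    rw [Finset.sum_congr rfl (fun p _ => h0 p), Finset.sum_add_distrib, Finset.sum_add_distrib]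
    rw [ih, sumA, sumAB]
    have h1 : (n + 1 + 4).choose 4 = (n + 4).choose 3 + (n + 4).choose 4 :=
      Nat.choose_succ_succ' _ _
    have h2 : (n + 4).choose 3 = (n + 3).choose 2 + (n + 3).choose 3 :=
      Nat.choose_succ_succ' _ _
    have h3 : (n + 3).choose 2 = (n + 2).choose 1 + (n + 2).choose 2 :=
      Nat.choose_succ_succ' _ _
    have h4 := Nat.choose_one_right (n + 2)
    have h5 : (0 + 2).choose 2 = 1 := by decide
    rw [h5]
    omega

lemma sum_range_F (r : ℕ) :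
    ∑ a ∈ Finset.range r, (a + 1) * (r - a + 1).choose 2 = (r + 3).choose 4 := by
  cases r with
  | zero => decide
  | succ m =>
    have e : m + 1 + 3 = m + 4 := by omega
    rw [e, ← sumPhi m, Finset.Nat.sum_antidiagonal_eq_sum_range_succ_mk]
    apply Finset.sum_congr rfl
    intro k hk
    have hk' := Finset.mem_range.mp hk
    have : m + 1 - k + 1 = m - k + 2 := by omega
    rw [this]

lemma sum_range_G (r : ℕ) :
    ∑ a ∈ Finset.range (r - 1), (a + 1) * (r - a).choose 2 = (r + 2).choose 4 := by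
  cases r with
  | zero => decide
  | succ m =>
    have e : m + 1 + 2 = m + 3 := by omega
    rw [Nat.add_sub_cancel, e, ← sum_range_F m]
    apply Finset.sum_congr rfl
    intro k hk
    have hk' := Finset.mem_range.mp hk
    have : m + 1 - k = m - k + 1 := by omega
    rw [this]

lemma choose_identity (r : ℕ) :
    3 * (r + 3).choose 4 + 3 * (r + 2).choose 4 = (r + 2).choose 2 * (r + 1).choose 2 := by
  cases r with
  | zero => decide
  | succ m =>
    have e1 : (m + 1 + 3) * (m + 1 + 2).choose 3 = (m + 1 + 3).choose 4 * 4 :=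
      Nat.add_one_mul_choose_eq (m + 1 + 2) 3
    have e2 : (m + 1 + 2) * (m + 1 + 1).choose 2 = (m + 1 + 2).choose 3 * 3 :=
      Nat.add_one_mul_choose_eq (m + 1 + 1) 2
    have e3 : (m + 1 + 1) * (m + 1).choose 1 = (m + 1 + 1).choose 2 * 2 :=
      Nat.add_one_mul_choose_eq (m + 1) 1
    have e5 : (m + 1 + 2) * (m + 1 + 1).choose 1 = (m + 1 + 2).choose 2 * 2 :=
      Nat.add_one_mul_choose_eq (m + 1 + 1) 1
    have e4 : (m + 1 + 2) * (m + 1 + 1).choose 3 = (m + 1 + 2).choose 4 * 4 :=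
      Nat.add_one_mul_choose_eq (m + 1 + 1) 3
    have e6 : (m + 1 + 1) * (m + 1).choose 2 = (m + 1 + 1).choose 3 * 3 :=
      Nat.add_one_mul_choose_eq (m + 1) 2
    have e7 : (m + 1) * m.choose 1 = (m + 1).choose 2 * 2 :=
      Nat.add_one_mul_choose_eq m 1
    rw [Nat.choose_one_right] at e3 e5 e7
    have q1 : ((m : ℚ) + 1 + 3) * ((m + 1 + 2).choose 3 : ℚ) = ((m + 1 + 3).choose 4 : ℚ) * 4 := by
      exact_mod_cast e1
    have q2 : ((m : ℚ) + 1 + 2) * ((m + 1 + 1).choose 2 : ℚ) = ((m + 1 + 2).choose 3 : ℚ) * 3 := by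
      exact_mod_cast e2
    have q3 : ((m : ℚ) + 1 + 1) * ((m : ℚ) + 1) = ((m + 1 + 1).choose 2 : ℚ) * 2 := by
      exact_mod_cast e3
    have q5 : ((m : ℚ) + 1 + 2) * ((m : ℚ) + 1 + 1) = ((m + 1 + 2).choose 2 : ℚ) * 2 := by
      exact_mod_cast e5
    have q4 : ((m : ℚ) + 1 + 2) * ((m + 1 + 1).choose 3 : ℚ) = ((m + 1 + 2).choose 4 : ℚ) * 4 := by
      exact_mod_cast e4
    have q6 : ((m : ℚ) + 1 + 1) * ((m + 1).choose 2 : ℚ) = ((m + 1 + 1).choose 3 : ℚ) * 3 := by
      exact_mod_cast e6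
    have q7 : ((m : ℚ) + 1) * (m : ℚ) = ((m + 1).choose 2 : ℚ) * 2 := by
      exact_mod_cast e7
    have key : (3 : ℚ) * ((m + 1 + 3).choose 4 : ℚ) + 3 * ((m + 1 + 2).choose 4 : ℚ) =
        ((m + 1 + 2).choose 2 : ℚ) * ((m + 1 + 1).choose 2 : ℚ) := by
      linear_combination (-(6:ℚ)/8) * q1 - (2 * ((m:ℚ) + 1 + 3) / 8) * q2
        + ((4 * ((m + 1 + 2).choose 2 : ℚ) - ((m:ℚ) + 1 + 3) * ((m:ℚ) + 1 + 2)) / 8) * q3
        - ((6:ℚ)/8) * q4 + (2 * ((m:ℚ) + 1 + 1) * ((m:ℚ) + 1) / 8) * q5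
        - (2 * ((m:ℚ) + 1 + 2) / 8) * q6 - (((m:ℚ) + 1 + 2) * ((m:ℚ) + 1 + 1) / 8) * q7
    exact_mod_cast key

/-! ### three variables -/

section three

variable {k : Type*} [Field k]

lemma forall_fin3 (i : Fin 3) (P : Fin 3 → Prop) :
    (∀ l, P l) ↔ P i ∧ P (i.succAbove 0) ∧ P (i.succAbove 1) := by
  constructor
  · intro h; exact ⟨h _, h _, h _⟩
  · rintro ⟨h0, h1, h2⟩ l
    rcases Fin.eq_self_or_eq_succAbove i l with h | ⟨j, h⟩
    · rw [h]; exact h0
    · rw [h]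
      have := (Fin.forall_fin_two (p := fun j => P (i.succAbove j))).mpr ⟨h1, h2⟩
      exact this j

lemma sum_fin3 {M : Type*} [AddCommMonoid M] (i : Fin 3) (g : Fin 3 → M) :
    ∑ l, g l = g i + (g (i.succAbove 0) + g (i.succAbove 1)) := by
  rw [Fin.sum_univ_succAbove _ i, Fin.sum_univ_two]

/-- the vector with value `x` at `i` and `y, z` at the two other places -/
def ins (i : Fin 3) (x y z : ℤ) : Fin 3 → ℤ := Fin.insertNth (α := fun _ => ℤ) i x ![y, z]

@[simp] lemma ins_same (i : Fin 3) (x y z : ℤ) : ins i x y z i = x := by simp [ins]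
@[simp] lemma ins_zero (i : Fin 3) (x y z : ℤ) : ins i x y z (i.succAbove 0) = y := by simp [ins]
@[simp] lemma ins_one (i : Fin 3) (x y z : ℤ) : ins i x y z (i.succAbove 1) = z := by simp [ins]

/-- index set: `(a, (b, c))` with `a < m` and `b + c = a` -/
noncomputable def idx (m : ℕ) : Finset (Σ _ : ℕ, ℕ × ℕ) :=
  (Finset.range m).sigma (fun a => Finset.HasAntidiagonal.antidiagonal a)

lemma mem_idx {m : ℕ} {p : Σ _ : ℕ, ℕ × ℕ} : p ∈ idx m ↔ p.1 < m ∧ p.2.1 + p.2.2 = p.1 := by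
  unfold idx
  rw [Finset.mem_sigma, Finset.mem_range, Finset.HasAntidiagonal.mem_antidiagonal]

/-- multidegree negative exactly at `i` -/
def alpha1 (i : Fin 3) (p : Σ _ : ℕ, ℕ × ℕ) : Fin 3 → ℤ :=
  ins i (-((p.1 : ℤ) + 1)) (p.2.1 : ℤ) (p.2.2 : ℤ)

/-- multidegree nonnegative exactly at `i` -/
def alpha2 (i : Fin 3) (p : Σ _ : ℕ, ℕ × ℕ) : Fin 3 → ℤ :=
  ins i ((p.1 : ℤ) + 1) (-((p.2.1 : ℤ) + 1)) (-((p.2.2 : ℤ) + 1))

lemma alpha1_facts (i : Fin 3) {m : ℕ} {p : Σ _ : ℕ, ℕ × ℕ} (hp : p ∈ idx m) :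
    (∀ l, alpha1 i p l < 0 ↔ l = i) ∧ ∑ l, alpha1 i p l = -1 ∧
      ∑ l, (-alpha1 i p l).toNat = p.1 + 1 := by
  obtain ⟨h1, h2⟩ := mem_idx.mp hp
  refine ⟨?_, ?_, ?_⟩
  · refine (forall_fin3 i _).mpr ⟨?_, ?_, ?_⟩
    · unfold alpha1; rw [ins_same]
      exact ⟨fun _ => rfl, fun _ => by omega⟩
    · unfold alpha1; rw [ins_zero]
      exact ⟨fun h => by exfalso; omega, fun h => absurd h (Fin.succAbove_ne i 0)⟩
    · unfold alpha1; rw [ins_one]
      exact ⟨fun h => by exfalso; omega, fun h => absurd h (Fin.succAbove_ne i 1)⟩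
  · rw [sum_fin3 i]
    unfold alpha1
    rw [ins_same, ins_zero, ins_one]
    omega
  · rw [sum_fin3 i]
    unfold alpha1
    rw [ins_same, ins_zero, ins_one]
    omega

lemma alpha2_facts (i : Fin 3) {m : ℕ} {p : Σ _ : ℕ, ℕ × ℕ} (hp : p ∈ idx m) :
    (∀ l, alpha2 i p l < 0 ↔ l ≠ i) ∧ ∑ l, alpha2 i p l = -1 ∧
      ∑ l, (-alpha2 i p l).toNat = p.1 + 2 := by
  obtain ⟨h1, h2⟩ := mem_idx.mp hp
  refine ⟨?_, ?_, ?_⟩
  · refine (forall_fin3 i _).mpr ⟨?_, ?_, ?_⟩
    · unfold alpha2; rw [ins_same]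
      exact ⟨fun h => by exfalso; omega, fun h => absurd rfl h⟩
    · unfold alpha2; rw [ins_zero]
      exact ⟨fun _ => Fin.succAbove_ne i 0, fun _ => by omega⟩
    · unfold alpha2; rw [ins_one]
      exact ⟨fun _ => Fin.succAbove_ne i 1, fun _ => by omega⟩
  · rw [sum_fin3 i]
    unfold alpha2
    rw [ins_same, ins_zero, ins_one]
    omega
  · rw [sum_fin3 i]
    unfold alpha2
    rw [ins_same, ins_zero, ins_one]
    omega

lemma alpha1_inj (i : Fin 3) (m : ℕ) : Set.InjOn (alpha1 i) ↑(idx m) := by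
  intro p _ q _ h
  have e0 := congrFun h i
  have e1 := congrFun h (i.succAbove 0)
  have e2 := congrFun h (i.succAbove 1)
  unfold alpha1 at e0 e1 e2
  rw [ins_same, ins_same] at e0
  rw [ins_zero, ins_zero] at e1
  rw [ins_one, ins_one] at e2
  have ha : p.1 = q.1 := by omega
  have hb : p.2.1 = q.2.1 := by omega
  have hc : p.2.2 = q.2.2 := by omega
  exact Sigma.ext ha (heq_of_eq (Prod.ext hb hc))

lemma alpha2_inj (i : Fin 3) (m : ℕ) : Set.InjOn (alpha2 i) ↑(idx m) := by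
  intro p _ q _ h
  have e0 := congrFun h i
  have e1 := congrFun h (i.succAbove 0)
  have e2 := congrFun h (i.succAbove 1)
  unfold alpha2 at e0 e1 e2
  rw [ins_same, ins_same] at e0
  rw [ins_zero, ins_zero] at e1
  rw [ins_one, ins_one] at e2
  have ha : p.1 = q.1 := by omega
  have hb : p.2.1 = q.2.1 := by omega
  have hc : p.2.2 = q.2.2 := by omega
  exact Sigma.ext ha (heq_of_eq (Prod.ext hb hc))

lemma alpha1_surj (i : Fin 3) {r : ℕ} (α : Fin 3 → ℤ) (hpat : ∀ l, α l < 0 ↔ l = i)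
    (hs : ∑ l, α l = -1) (hw : ∑ l, (-α l).toNat ≤ r) : ∃ p ∈ idx r, alpha1 i p = α := by
  rw [sum_fin3 i] at hs hw
  have h0 : α i < 0 := (hpat i).mpr rfl
  have h1 : ¬ α (i.succAbove 0) < 0 := fun h => Fin.succAbove_ne i 0 ((hpat _).mp h)
  have h2 : ¬ α (i.succAbove 1) < 0 := fun h => Fin.succAbove_ne i 1 ((hpat _).mp h)
  refine ⟨⟨(-α i).toNat - 1, ((α (i.succAbove 0)).toNat, (α (i.succAbove 1)).toNat)⟩, ?_, ?_⟩
  · rw [mem_idx]
    dsimp only
    constructor <;> omega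
  · funext l
    revert l
    refine (forall_fin3 i _).mpr ⟨?_, ?_, ?_⟩
    · unfold alpha1; rw [ins_same]; dsimp only; omega
    · unfold alpha1; rw [ins_zero]; dsimp only; omega
    · unfold alpha1; rw [ins_one]; dsimp only; omega

lemma alpha2_surj (i : Fin 3) {r : ℕ} (α : Fin 3 → ℤ) (hpat : ∀ l, α l < 0 ↔ l ≠ i)
    (hs : ∑ l, α l = -1) (hw : ∑ l, (-α l).toNat ≤ r) :
    ∃ p ∈ idx (r - 1), alpha2 i p = α := by
  rw [sum_fin3 i] at hs hw
  have h0 : ¬ α i < 0 := fun h => (hpat i).mp h rfl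
  have h1 : α (i.succAbove 0) < 0 := (hpat _).mpr (Fin.succAbove_ne i 0)
  have h2 : α (i.succAbove 1) < 0 := (hpat _).mpr (Fin.succAbove_ne i 1)
  refine ⟨⟨(α i).toNat - 1,
    ((-α (i.succAbove 0)).toNat - 1, (-α (i.succAbove 1)).toNat - 1)⟩, ?_, ?_⟩
  · rw [mem_idx]
    dsimp only
    constructor <;> omega
  · funext l
    revert l
    refine (forall_fin3 i _).mpr ⟨?_, ?_, ?_⟩
    · unfold alpha2; rw [ins_same]; dsimp only; omega
    · unfold alpha2; rw [ins_zero]; dsimp only; omega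
    · unfold alpha2; rw [ins_one]; dsimp only; omega

lemma classify (α : Fin 3 → ℤ) (hs : ∑ l, α l = -1) :
    ∃ i, (∀ l, α l < 0 ↔ l = i) ∨ (∀ l, α l < 0 ↔ l ≠ i) := by
  rw [Fin.sum_univ_three] at hs
  by_cases h0 : α 0 < 0 <;> by_cases h1 : α 1 < 0 <;> by_cases h2 : α 2 < 0
  · exfalso; omega
  · refine ⟨2, Or.inr ?_⟩
    intro l; rcases fin3_cases l with rfl | rfl | rfl <;> simp [h0, h1, h2]
  · refine ⟨1, Or.inr ?_⟩
    intro l; rcases fin3_cases l with rfl | rfl | rfl <;> simp [h0, h1, h2]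
  · refine ⟨0, Or.inl ?_⟩
    intro l; rcases fin3_cases l with rfl | rfl | rfl <;> simp [h0, h1, h2]
  · refine ⟨0, Or.inr ?_⟩
    intro l; rcases fin3_cases l with rfl | rfl | rfl <;> simp [h0, h1, h2]
  · refine ⟨1, Or.inl ?_⟩
    intro l; rcases fin3_cases l with rfl | rfl | rfl <;> simp [h0, h1, h2]
  · refine ⟨2, Or.inl ?_⟩
    intro l; rcases fin3_cases l with rfl | rfl | rfl <;> simp [h0, h1, h2]
  · exfalso; omega

/-- the multidegrees negative exactly at `i` with nonzero piece -/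
noncomputable def A1 (r : ℕ) (i : Fin 3) : Finset (Fin 3 → ℤ) := (idx r).image (alpha1 i)

/-- the multidegrees nonnegative exactly at `i` with nonzero piece -/
noncomputable def A2 (r : ℕ) (i : Fin 3) : Finset (Fin 3 → ℤ) := (idx (r - 1)).image (alpha2 i)

lemma pat_A1 {r : ℕ} {i : Fin 3} {α : Fin 3 → ℤ} (h : α ∈ A1 r i) : ∀ l, α l < 0 ↔ l = i := by
  obtain ⟨p, hp, rfl⟩ := Finset.mem_image.mp h
  exact (alpha1_facts i hp).1

lemma pat_A2 {r : ℕ} {i : Fin 3} {α : Fin 3 → ℤ} (h : α ∈ A2 r i) : ∀ l, α l < 0 ↔ l ≠ i := by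
  obtain ⟨p, hp, rfl⟩ := Finset.mem_image.mp h
  exact (alpha2_facts i hp).1

lemma finrank_alpha1 (r : ℕ) (i : Fin 3) {p : Σ _ : ℕ, ℕ × ℕ} (hp : p ∈ idx r) :
    Module.finrank k ↥(tPiece (idealOfVars (Fin 3) k ^ r) (alpha1 i p)) =
      (r - p.1 + 1).choose 2 := by
  obtain ⟨_, h2, h3⟩ := alpha1_facts i hp
  have hlt := (mem_idx.mp hp).1
  have key := s13435 (k := k) 3 (by norm_num) r (alpha1 i p)
  rw [h3] at key
  have hc : (∑ l, alpha1 i p l = -1 ∧ p.1 + 1 ≤ r) := ⟨h2, by omega⟩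
  rw [if_pos hc] at key
  have e : 3 + r - (p.1 + 1) - 1 = r - p.1 + 1 := by omega
  rw [e] at key
  exact key

lemma finrank_alpha2 (r : ℕ) (i : Fin 3) {p : Σ _ : ℕ, ℕ × ℕ} (hp : p ∈ idx (r - 1)) :
    Module.finrank k ↥(tPiece (idealOfVars (Fin 3) k ^ r) (alpha2 i p)) =
      (r - p.1).choose 2 := by
  obtain ⟨_, h2, h3⟩ := alpha2_facts i hp
  have hlt := (mem_idx.mp hp).1
  have key := s13435 (k := k) 3 (by norm_num) r (alpha2 i p)
  rw [h3] at key
  have hc : (∑ l, alpha2 i p l = -1 ∧ p.1 + 2 ≤ r) := ⟨h2, by omega⟩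
  rw [if_pos hc] at key
  have e : 3 + r - (p.1 + 2) - 1 = r - p.1 := by omega
  rw [e] at key
  exact key

lemma sum_A1 (r : ℕ) (i : Fin 3) :
    ∑ α ∈ A1 r i, Module.finrank k ↥(tPiece (idealOfVars (Fin 3) k ^ r) α) =
      (r + 3).choose 4 := by
  unfold A1
  rw [Finset.sum_image (alpha1_inj i r)]
  have h : ∀ p ∈ idx r, Module.finrank k ↥(tPiece (idealOfVars (Fin 3) k ^ r) (alpha1 i p)) =
      (r - p.1 + 1).choose 2 := fun p hp => finrank_alpha1 r i hp
  rw [Finset.sum_congr rfl h]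
  unfold idx
  rw [Finset.sum_sigma]
  dsimp only
  rw [← sum_range_F r]
  apply Finset.sum_congr rfl
  intro a _
  rw [Finset.sum_const, Finset.Nat.card_antidiagonal, smul_eq_mul]

lemma sum_A2 (r : ℕ) (i : Fin 3) :
    ∑ α ∈ A2 r i, Module.finrank k ↥(tPiece (idealOfVars (Fin 3) k ^ r) α) =
      (r + 2).choose 4 := by
  unfold A2
  rw [Finset.sum_image (alpha2_inj i (r - 1))]
  have h : ∀ p ∈ idx (r - 1),
      Module.finrank k ↥(tPiece (idealOfVars (Fin 3) k ^ r) (alpha2 i p)) =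
      (r - p.1).choose 2 := fun p hp => finrank_alpha2 r i hp
  rw [Finset.sum_congr rfl h]
  unfold idx
  rw [Finset.sum_sigma]
  dsimp only
  rw [← sum_range_G r]
  apply Finset.sum_congr rfl
  intro a _
  rw [Finset.sum_const, Finset.Nat.card_antidiagonal, smul_eq_mul]

lemma sigPiece_eq_sup1 (r : ℕ) (i : Fin 3) :
    sigPiece (idealOfVars (Fin 3) k ^ r) ({i} : Set (Fin 3)) =
      (A1 r i).sup (fun α => tPiece (idealOfVars (Fin 3) k ^ r) α) := by
  apply le_antisymm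
  · unfold sigPiece
    apply iSup_le
    rintro ⟨α, hα⟩
    show tPiece (idealOfVars (Fin 3) k ^ r) α ≤ _
    by_cases h : (∑ l, α l = -1 ∧ (aOf α).degree ≤ r)
    · have hw : ∑ l, (-α l).toNat ≤ r := by rw [← degree_aOf α]; exact h.2
      have hmem : α ∈ A1 r i := by
        obtain ⟨p, hp, rfl⟩ := alpha1_surj i α hα h.1 hw
        exact Finset.mem_image_of_mem _ hp
      exact Finset.le_sup (f := fun α => tPiece (idealOfVars (Fin 3) k ^ r) α) hmem
    · rw [(pow_equiv (k := k) r α).2 h]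
      exact bot_le
  · apply Finset.sup_le
    intro α hα
    obtain ⟨p, hp, rfl⟩ := Finset.mem_image.mp hα
    unfold sigPiece
    exact le_iSup (fun α : {α : Fin 3 → ℤ // ∀ l, α l < 0 ↔ l ∈ ({i} : Set (Fin 3))} =>
      tPiece (idealOfVars (Fin 3) k ^ r) α.1) ⟨alpha1 i p, (alpha1_facts i hp).1⟩

lemma sigPiece_eq_sup2 (r : ℕ) (i : Fin 3) :
    sigPiece (idealOfVars (Fin 3) k ^ r) ({i}ᶜ : Set (Fin 3)) =
      (A2 r i).sup (fun α => tPiece (idealOfVars (Fin 3) k ^ r) α) := by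
  apply le_antisymm
  · unfold sigPiece
    apply iSup_le
    rintro ⟨α, hα⟩
    show tPiece (idealOfVars (Fin 3) k ^ r) α ≤ _
    by_cases h : (∑ l, α l = -1 ∧ (aOf α).degree ≤ r)
    · have hw : ∑ l, (-α l).toNat ≤ r := by rw [← degree_aOf α]; exact h.2
      have hmem : α ∈ A2 r i := by
        obtain ⟨p, hp, rfl⟩ := alpha2_surj i α hα h.1 hw
        exact Finset.mem_image_of_mem _ hp
      exact Finset.le_sup (f := fun α => tPiece (idealOfVars (Fin 3) k ^ r) α) hmem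
    · rw [(pow_equiv (k := k) r α).2 h]
      exact bot_le
  · apply Finset.sup_le
    intro α hα
    obtain ⟨p, hp, rfl⟩ := Finset.mem_image.mp hα
    unfold sigPiece
    exact le_iSup (fun α : {α : Fin 3 → ℤ // ∀ l, α l < 0 ↔ l ∈ ({i}ᶜ : Set (Fin 3))} =>
      tPiece (idealOfVars (Fin 3) k ^ r) α.1) ⟨alpha2 i p, (alpha2_facts i hp).1⟩

theorem finrank_sig1 (r : ℕ) (i : Fin 3) :
    Module.finrank k ↥(sigPiece (idealOfVars (Fin 3) k ^ r) ({i} : Set (Fin 3))) =
      (r + 3).choose 4 := by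
  have hI := isMonomial_pow (σ := Fin 3) (k := k) r
  rw [finrank_eq_sum_of_eq_sup hI (A1 r i) (fun α _ => finiteDimensional_tPiece_pow r α) _
    (sigPiece_eq_sup1 r i)]
  exact sum_A1 r i

theorem finrank_sig2 (r : ℕ) (i : Fin 3) :
    Module.finrank k ↥(sigPiece (idealOfVars (Fin 3) k ^ r) ({i}ᶜ : Set (Fin 3))) =
      (r + 2).choose 4 := by
  have hI := isMonomial_pow (σ := Fin 3) (k := k) r
  rw [finrank_eq_sum_of_eq_sup hI (A2 r i) (fun α _ => finiteDimensional_tPiece_pow r α) _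
    (sigPiece_eq_sup2 r i)]
  exact sum_A2 r i

lemma fin3_no11 : ∀ i j : Fin 3, i ≠ j → ¬ ∀ l : Fin 3, (l = i ↔ l = j) := by decide
lemma fin3_no22 : ∀ i j : Fin 3, i ≠ j → ¬ ∀ l : Fin 3, (¬ l = i ↔ ¬ l = j) := by decide
lemma fin3_no12 : ∀ i j : Fin 3, ¬ ∀ l : Fin 3, (l = i ↔ ¬ l = j) := by decide

lemma disj_11 (r : ℕ) {i j : Fin 3} (hij : i ≠ j) : Disjoint (A1 r i) (A1 r j) := by
  rw [Finset.disjoint_left]
  intro α h1 h2
  exact fin3_no11 i j hij (fun l => (pat_A1 h1 l).symm.trans (pat_A1 h2 l))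

lemma disj_22 (r : ℕ) {i j : Fin 3} (hij : i ≠ j) : Disjoint (A2 r i) (A2 r j) := by
  rw [Finset.disjoint_left]
  intro α h1 h2
  exact fin3_no22 i j hij (fun l => (pat_A2 h1 l).symm.trans (pat_A2 h2 l))

lemma disj_12 (r : ℕ) (i j : Fin 3) : Disjoint (A1 r i) (A2 r j) := by
  rw [Finset.disjoint_left]
  intro α h1 h2
  exact fin3_no12 i j (fun l => (pat_A1 h1 l).symm.trans (pat_A2 h2 l))

theorem finrank_tgt (r : ℕ) :
    Module.finrank k (Tgt (idealOfVars (Fin 3) k ^ r)) =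
      (r + 2).choose 2 * (r + 1).choose 2 := by
  have hI := isMonomial_pow (σ := Fin 3) (k := k) r
  obtain ⟨Aall, hA⟩ : ∃ A : Finset (Fin 3 → ℤ),
      A = Finset.univ.biUnion (fun i => A1 r i ∪ A2 r i) := ⟨_, rfl⟩
  have htop : (⊤ : Submodule k (Tgt (idealOfVars (Fin 3) k ^ r))) =
      Aall.sup (fun α => tPiece (idealOfVars (Fin 3) k ^ r) α) := by
    apply le_antisymm
    · rw [← iSup_tPiece_eq_top' hI]
      apply iSup_le
      intro α
      by_cases h : (∑ l, α l = -1 ∧ (aOf α).degree ≤ r)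
      · have hw : ∑ l, (-α l).toNat ≤ r := by rw [← degree_aOf α]; exact h.2
        have hmem : α ∈ Aall := by
          rw [hA, Finset.mem_biUnion]
          obtain ⟨i, hi | hi⟩ := classify α h.1
          · obtain ⟨p, hp, rfl⟩ := alpha1_surj i α hi h.1 hw
            exact ⟨i, Finset.mem_univ i,
              Finset.mem_union_left _ (Finset.mem_image_of_mem _ hp)⟩
          · obtain ⟨p, hp, rfl⟩ := alpha2_surj i α hi h.1 hw
            exact ⟨i, Finset.mem_univ i,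
              Finset.mem_union_right _ (Finset.mem_image_of_mem _ hp)⟩
        exact Finset.le_sup (f := fun α => tPiece (idealOfVars (Fin 3) k ^ r) α) hmem
      · rw [(pow_equiv (k := k) r α).2 h]
        exact bot_le
    · exact le_top
  rw [← finrank_top k (Tgt (idealOfVars (Fin 3) k ^ r))]
  rw [finrank_eq_sum_of_eq_sup hI Aall (fun α _ => finiteDimensional_tPiece_pow r α) _ htop]
  have hpd : ((Finset.univ : Finset (Fin 3)) : Set (Fin 3)).PairwiseDisjoint
      (fun i => A1 r i ∪ A2 r i) := by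
    intro i _ j _ hij
    show Disjoint (A1 r i ∪ A2 r i) (A1 r j ∪ A2 r j)
    simp only [Finset.disjoint_union_left, Finset.disjoint_union_right]
    exact ⟨⟨disj_11 r hij, (disj_12 r j i).symm⟩, ⟨disj_12 r i j, disj_22 r hij⟩⟩
  rw [hA, Finset.sum_biUnion hpd]
  have hsum : ∀ i ∈ (Finset.univ : Finset (Fin 3)),
      ∑ α ∈ A1 r i ∪ A2 r i, Module.finrank k ↥(tPiece (idealOfVars (Fin 3) k ^ r) α) =
        (r + 3).choose 4 + (r + 2).choose 4 := by
    intro i _
    rw [Finset.sum_union (disj_12 r i i), sum_A1, sum_A2]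
  rw [Finset.sum_congr rfl hsum, Finset.sum_const, Finset.card_univ, Fintype.card_fin,
    smul_eq_mul, ← choose_identity r]
  ring

end three

theorem s13442 (k : Type u) [Field k] (r : ℕ) (i : Fin 3) :
    Module.finrank k ↥(sigPiece ((Ideal.span (Set.range
      (MvPolynomial.X : Fin 3 → MvPolynomial (Fin 3) k))) ^ r) {i}) = Nat.choose (r + 3) 4 ∧
    Module.finrank k ↥(sigPiece ((Ideal.span (Set.range
      (MvPolynomial.X : Fin 3 → MvPolynomial (Fin 3) k))) ^ r) ({i}ᶜ : Set (Fin 3))) =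
        Nat.choose (r + 2) 4 ∧
    Module.finrank k (Tgt ((Ideal.span (Set.range
      (MvPolynomial.X : Fin 3 → MvPolynomial (Fin 3) k))) ^ r)) =
        Nat.choose (r + 2) 2 * Nat.choose (r + 1) 2 :=
  ⟨finrank_sig1 r i, finrank_sig2 r i, finrank_tgt r⟩

end Groth.Agent.LeadHilbTgt
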