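import Mathlib
import Groth.Prelude.Def_W4c1hilbpnTgt
import Groth.Agent.Lib.LeadHilbTgt3

/-! Strongly stable ideals in three variables: `x ∈ I` iff the doubly negative pieces vanish. -/

set_option autoImplicit false
universe u

namespace Groth.Agent.LeadHilbTgt

open W4c1hilbpn MvPolynomial Groth.Agent.Lib.Helper24TgtPiece Groth.Agent.Lib.Helper20

variable {k : Type*} [Field k]

theorem s13439_mp (I : Ideal (MvPolynomial (Fin 3) k)) (hI : IsMonomial I)
    [Module.Finite k (MvPolynomial (Fin 3) k ⧸ I)] (hx : Finsupp.single (0 : Fin 3) 1 ∈ exps I) :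
    sigPiece I ({1, 2} : Set (Fin 3)) = ⊥ ∧ sigPiece I ({0, 2} : Set (Fin 3)) = ⊥ ∧
        sigPiece I ({0, 1} : Set (Fin 3)) = ⊥ := by
  refine ⟨?_, ?_, ?_⟩
  · unfold sigPiece
    rw [iSup_eq_bot]
    rintro ⟨α, hα⟩
    have h0 : ¬ α 0 < 0 := by rw [hα 0]; simp
    have h1 : α 1 < 0 := by rw [hα 1]; simp
    have h2 : α 2 < 0 := by rw [hα 2]; simp
    show tPiece I α = ⊥
    rcases lt_or_eq_of_le (not_lt.mp h0) with h | h
    · exact tPiece_eq_bot_of_var_mem_of_pos hI α 0 hx h
    · apply tPiece_eq_bot_of_nonpos hI α _ 1 2 (by decide) h1 h2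
      intro l
      rcases fin3_cases l with rfl | rfl | rfl
      · exact le_of_eq h.symm
      · exact le_of_lt h1
      · exact le_of_lt h2
  · unfold sigPiece
    rw [iSup_eq_bot]
    rintro ⟨α, hα⟩
    have h0 : α 0 < 0 := by rw [hα 0]; simp
    have h2 : α 2 < 0 := by rw [hα 2]; simp
    exact tPiece_eq_bot_of_var_mem_of_neg hI α 0 2 (by decide) hx h0 h2
  · unfold sigPiece
    rw [iSup_eq_bot]
    rintro ⟨α, hα⟩
    have h0 : α 0 < 0 := by rw [hα 0]; simp
    have h1 : α 1 < 0 := by rw [hα 1]; simp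
    exact tPiece_eq_bot_of_var_mem_of_neg hI α 0 1 (by decide) hx h0 h1

theorem s13439_mpr (I : Ideal (MvPolynomial (Fin 3) k)) (hI : IsStronglyStable I)
    [Module.Finite k (MvPolynomial (Fin 3) k ⧸ I)] (hx : Finsupp.single (0 : Fin 3) 1 ∉ exps I) :
    sigPiece I ({0, 1} : Set (Fin 3)) ≠ ⊥ := by
  classical
  obtain ⟨hmon, hss⟩ := hI
  have h1 : (0 : Fin 3 →₀ ℕ) ∉ exps I := fun h => hx (exps_of_le h zero_le)
  have hz : Finsupp.single (2 : Fin 3) 1 ∉ exps I := by
    intro h
    have := hss _ h 0 2 (by decide) (by rw [Finsupp.single_eq_same]; exact Nat.one_pos)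
    rw [tsub_self, zero_add] at this
    exact hx this
  have hy : Finsupp.single (1 : Fin 3) 1 ∉ exps I := by
    intro h
    have := hss _ h 0 1 (by decide) (by rw [Finsupp.single_eq_same]; exact Nat.one_pos)
    rw [tsub_self, zero_add] at this
    exact hx this
  -- powers of z
  have hexz := exists_single_mem hmon (2 : Fin 3)
  obtain ⟨c, hcdef⟩ : ∃ c, c = Nat.find hexz := ⟨_, rfl⟩
  have hc : Finsupp.single (2 : Fin 3) c ∈ exps I := by rw [hcdef]; exact Nat.find_spec hexz
  have hcmin : ∀ m, m < c → Finsupp.single (2 : Fin 3) m ∉ exps I := by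
    intro m hm; rw [hcdef] at hm; exact Nat.find_min hexz hm
  have hc2 : 2 ≤ c := by
    by_contra hcon
    have : c = 0 ∨ c = 1 := by omega
    rcases this with h | h
    · rw [h, Finsupp.single_zero] at hc; exact h1 hc
    · rw [h] at hc; exact hz hc
  -- powers of y
  have hexy := exists_single_mem hmon (1 : Fin 3)
  obtain ⟨b, hbdef⟩ : ∃ b, b = Nat.find hexy := ⟨_, rfl⟩
  have hb : Finsupp.single (1 : Fin 3) b ∈ exps I := by rw [hbdef]; exact Nat.find_spec hexy
  have hbmin : ∀ m, m < b → Finsupp.single (1 : Fin 3) m ∉ exps I := by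
    intro m hm; rw [hbdef] at hm; exact Nat.find_min hexy hm
  have hb2 : 2 ≤ b := by
    by_contra hcon
    have : b = 0 ∨ b = 1 := by omega
    rcases this with h | h
    · rw [h, Finsupp.single_zero] at hb; exact h1 hb
    · rw [h] at hb; exact hy hb
  -- the socle monomial
  obtain ⟨u, hudef⟩ : ∃ u : Fin 3 →₀ ℕ, u = Finsupp.single 2 (c - 1) := ⟨_, rfl⟩
  have hu : u ∉ exps I := by rw [hudef]; exact hcmin _ (by omega)
  have husoc : ∀ i, u + Finsupp.single i 1 ∈ exps I := by
    intro i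
    rcases fin3_cases i with rfl | rfl | rfl
    · have := hss _ hc 0 2 (by decide) (by rw [Finsupp.single_eq_same]; omega)
      rw [← Finsupp.single_tsub] at this
      rw [hudef]; exact this
    · have := hss _ hc 1 2 (by decide) (by rw [Finsupp.single_eq_same]; omega)
      rw [← Finsupp.single_tsub] at this
      rw [hudef]; exact this
    · rw [hudef, ← Finsupp.single_add]
      have : c - 1 + 1 = c := by omega
      rw [this]; exact hc
  -- the generator
  have hxy : Finsupp.single (0 : Fin 3) 1 + Finsupp.single (1 : Fin 3) (b - 1) ∈ exps I := by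
    have := hss _ hb 0 1 (by decide) (by rw [Finsupp.single_eq_same]; omega)
    rw [← Finsupp.single_tsub, add_comm] at this
    exact this
  have hexj : ∃ j : ℕ, Finsupp.single (0 : Fin 3) 1 + Finsupp.single (1 : Fin 3) j ∈ exps I :=
    ⟨b - 1, hxy⟩
  obtain ⟨j₀, hj₀def⟩ : ∃ j₀, j₀ = Nat.find hexj := ⟨_, rfl⟩
  have hj₀ : Finsupp.single (0 : Fin 3) 1 + Finsupp.single (1 : Fin 3) j₀ ∈ exps I := by
    rw [hj₀def]; exact Nat.find_spec hexj
  have hj₀min : ∀ m, m < j₀ →
      Finsupp.single (0 : Fin 3) 1 + Finsupp.single (1 : Fin 3) m ∉ exps I := by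
    intro m hm; rw [hj₀def] at hm; exact Nat.find_min hexj hm
  have hj₀le : j₀ ≤ b - 1 := by rw [hj₀def]; exact Nat.find_min' hexj hxy
  have hj₀pos : 0 < j₀ := by
    by_contra hcon
    have : j₀ = 0 := by omega
    rw [this, Finsupp.single_zero, add_zero] at hj₀
    exact hx hj₀
  obtain ⟨g, hgdef⟩ : ∃ g : Fin 3 →₀ ℕ,
      g = Finsupp.single (0 : Fin 3) 1 + Finsupp.single (1 : Fin 3) j₀ := ⟨_, rfl⟩
  have hg0 : g 0 = 1 := by rw [hgdef]; simp [Finsupp.single_apply]
  have hg1 : g 1 = j₀ := by rw [hgdef]; simp [Finsupp.single_apply]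
  have hg2 : g 2 = 0 := by rw [hgdef]; simp [Finsupp.single_apply]
  have hu0 : u 0 = 0 := by rw [hudef]; simp [Finsupp.single_apply]
  have hu1 : u 1 = 0 := by rw [hudef]; simp [Finsupp.single_apply]
  have hu2 : u 2 = c - 1 := by rw [hudef]; simp
  apply sigPiece_ne_bot_of_socle_gen hmon _ g u (by rw [hgdef]; exact hj₀) ?_ hu husoc ?_
  · intro i hi
    rcases fin3_cases i with rfl | rfl | rfl
    · have : g - Finsupp.single 0 1 = Finsupp.single 1 j₀ := by
        rw [hgdef]; exact add_tsub_cancel_left _ _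
      rw [this]; exact hbmin _ (by omega)
    · have : g - Finsupp.single 1 1 = Finsupp.single 0 1 + Finsupp.single 1 (j₀ - 1) := by
        ext l
        rcases fin3_cases l with rfl | rfl | rfl
        · rw [Finsupp.tsub_apply, hg0]; simp [Finsupp.single_apply]
        · rw [Finsupp.tsub_apply, hg1]; simp [Finsupp.single_apply]
        · rw [Finsupp.tsub_apply, hg2]; simp [Finsupp.single_apply]
      rw [this]; exact hj₀min _ (by omega)
    · rw [hg2] at hi; exact absurd hi (lt_irrefl _)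
  · intro l
    rcases fin3_cases l with rfl | rfl | rfl
    · rw [hu0, hg0]; simp
    · rw [hu1, hg1]; simp [hj₀pos]
    · rw [hu2, hg2]; simp

theorem s13439 (I : Ideal (MvPolynomial (Fin 3) k)) (hI : IsStronglyStable I)
    [Module.Finite k (MvPolynomial (Fin 3) k ⧸ I)] :
    (MvPolynomial.X 0 : MvPolynomial (Fin 3) k) ∈ I ↔
      (sigPiece I ({1, 2} : Set (Fin 3)) = ⊥ ∧ sigPiece I ({0, 2} : Set (Fin 3)) = ⊥ ∧
        sigPiece I ({0, 1} : Set (Fin 3)) = ⊥) := by
  constructor
  · intro hx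
    exact s13439_mp I hI.1 hx
  · intro h
    by_contra hx
    exact s13439_mpr I hI hx h.2.2

end Groth.Agent.LeadHilbTgt
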