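import Mathlib
import Groth.Agent.Lib.Helper29TsenNorm
import Groth.Prelude.Def_Curves

/-!
`C_1` fields: the norm of a finite extension is surjective (lead).
-/

set_option autoImplicit false
set_option maxHeartbeats 400000
set_option linter.style.haveILetI false
set_option linter.unusedSectionVars false
set_option linter.unusedVariables false

universe u v

namespace Groth.Agent.Lib.LeadHm

open MvPolynomial

theorem norm_surjective_of_isCr {K : Type u} {L : Type v} [Field K] [Field L] [Algebra K L]
    [FiniteDimensional K L] (hK : Curves.IsCr K 1) :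
    Function.Surjective (Algebra.norm K : L → K) := by
  classical
  intro a
  by_cases ha : a = 0
  · exact ⟨0, by rw [ha]; exact Algebra.norm_zero⟩
  set n := Module.finrank K L with hn
  have hnpos : 0 < n := Module.finrank_pos
  let ω : Module.Basis (Fin n) K L := Module.finBasis K L
  let g : MvPolynomial (Fin n) L := ∑ j, C (ω j) * X j
  have hg : g.IsHomogeneous 1 := by
    apply IsHomogeneous.sum
    intro j _
    have := (isHomogeneous_C (Fin n) (ω j)).mul (isHomogeneous_X L j)
    simpa using this
  obtain ⟨G, hGhom, hGeval⟩ :=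
    Groth.Agent.Lib.Helper29.TsenLang.exists_norm_form (K := K) g hg
  rw [mul_one] at hGhom
  have hgeval : ∀ y : Fin n → K, eval (fun t => algebraMap K L (y t)) g
      = ∑ j, y j • ω j := by
    intro y
    simp only [g, map_sum, map_mul, eval_C, eval_X]
    refine Finset.sum_congr rfl fun j _ => ?_
    rw [Algebra.smul_def, mul_comm]
  let F : MvPolynomial (Fin (n + 1)) K := rename Fin.succ G - C a * X 0 ^ n
  have hF : F.IsHomogeneous n := by
    apply IsHomogeneous.sub
    · exact hGhom.rename_isHomogeneous
    · have := (isHomogeneous_C (Fin (n + 1)) a).mul ((isHomogeneous_X K (0 : Fin (n + 1))).pow n)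
      simpa using this
  obtain ⟨y, hy0, hyF⟩ := hK (n + 1) n F hF hnpos (by rw [pow_one]; exact Nat.lt_succ_self n)
  have hev : Algebra.norm K (∑ j, y (Fin.succ j) • ω j) = a * y 0 ^ n := by
    have h1 : eval y F = eval (y ∘ Fin.succ) G - a * y 0 ^ n := by
      simp only [F, map_sub, eval_rename, map_mul, eval_C, map_pow, eval_X]
    rw [h1, hGeval, sub_eq_zero] at hyF
    rw [← hyF]
    congr 1
    rw [← hgeval]
    rfl
  by_cases hy : y 0 = 0
  · exfalso
    rw [hy, zero_pow hnpos.ne', mul_zero, Algebra.norm_eq_zero_iff] at hev
    have hli := ω.linearIndependent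
    rw [Fintype.linearIndependent_iff] at hli
    have hall := hli (fun j => y (Fin.succ j)) hev
    apply hy0
    funext i
    refine Fin.cases ?_ (fun j => ?_) i
    · exact hy
    · exact hall j
  · refine ⟨algebraMap K L (y 0)⁻¹ * ∑ j, y (Fin.succ j) • ω j, ?_⟩
    rw [map_mul, Algebra.norm_algebraMap, hev, ← hn, inv_pow]
    field_simp

end Groth.Agent.Lib.LeadHm
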