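import Mathlib

/-!
`Ĥ^{-1}(G, Lˣ)`: restriction to subgroups (transfer) and dévissage along a normal subfield (lead).
-/

set_option autoImplicit false
set_option maxHeartbeats 400000
set_option linter.style.haveILetI false
set_option linter.unusedSectionVars false
set_option linter.unusedVariables false

universe u v

namespace Groth.Agent.Lib.LeadHm

/-- The subgroup of `Lˣ` generated by the `w / g w`. -/
def I (K : Type u) (L : Type v) [Field K] [Field L] [Algebra K L] : Subgroup Lˣ :=
  Subgroup.closure {v : Lˣ | ∃ (w : Lˣ) (g : L ≃ₐ[K] L), (v : L) = (w : L) / g (w : L)}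

section basic

variable {K : Type u} {L : Type v} [Field K] [Field L] [Algebra K L]

/-- The action of an automorphism on units. -/
def φ (g : L ≃ₐ[K] L) : Lˣ →* Lˣ := Units.map (g : L →* L)

@[simp] theorem φ_coe (g : L ≃ₐ[K] L) (w : Lˣ) : ((φ g w : Lˣ) : L) = g (w : L) := rfl

theorem gen_mem (w : Lˣ) (g : L ≃ₐ[K] L) : w / φ g w ∈ I K L := by
  apply Subgroup.subset_closure
  refine ⟨w, g, ?_⟩
  rw [Units.val_div_eq_div_val]
  rfl

theorem gen_mem' (w : Lˣ) (g : L ≃ₐ[K] L) : φ g w / w ∈ I K L := by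
  have h := (I K L).inv_mem (gen_mem w g)
  rwa [inv_div] at h

theorem I_mono (E : IntermediateField K L) : I E L ≤ I K L := by
  unfold I
  rw [Subgroup.closure_le]
  rintro v ⟨w, g, hv⟩
  apply Subgroup.subset_closure
  exact ⟨w, g.restrictScalars K, hv⟩

theorem norm_eq_one_of_mem [FiniteDimensional K L] {v : Lˣ} (hv : v ∈ I K L) :
    Algebra.norm K (v : L) = 1 := by
  unfold I at hv
  induction hv using Subgroup.closure_induction with
  | mem x hx =>
    obtain ⟨w, g, hxw⟩ := hx
    rw [hxw, div_eq_mul_inv, map_mul, Algebra.norm_inv, Algebra.norm_eq_of_algEquiv]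
    have hne : Algebra.norm K (w : L) ≠ 0 := by
      rw [Algebra.norm_ne_zero_iff]
      exact w.ne_zero
    exact mul_inv_cancel₀ hne
  | one => simp
  | mul x y _ _ hx hy => rw [Units.val_mul, map_mul, hx, hy, mul_one]
  | inv x _ hx => rw [Units.val_inv_eq_inv_val, Algebra.norm_inv, hx, inv_one]

end basic

section transfer

variable {K : Type u} {L : Type u} [Field K] [Field L] [Algebra K L] [FiniteDimensional K L]
  [IsGalois K L]

/-- The bijection `(G ⧸ P) × P ≃ G`. -/
noncomputable def cosetEquiv {G : Type*} [Group G] (P : Subgroup G) : (G ⧸ P) × P ≃ G :=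
  Equiv.ofBijective (fun x => x.1.out * (x.2 : G)) (by
    constructor
    · rintro ⟨q, h⟩ ⟨q', h'⟩ hx
      simp only at hx
      have hq : q = q' := by
        have h1 : ((q.out * (h : G) : G) : G ⧸ P) = q := by
          rw [QuotientGroup.mk_mul_of_mem _ h.2, QuotientGroup.out_eq']
        have h2 : ((q'.out * (h' : G) : G) : G ⧸ P) = q' := by
          rw [QuotientGroup.mk_mul_of_mem _ h'.2, QuotientGroup.out_eq']
        rw [← h1, ← h2, hx]
      subst hq
      have : (h : G) = h' := mul_left_cancel hx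
      rw [Subtype.ext this]
    · intro g
      refine ⟨((g : G ⧸ P), ⟨((g : G ⧸ P).out)⁻¹ * g, ?_⟩), ?_⟩
      · rw [← QuotientGroup.eq, QuotientGroup.out_eq']
      · simp)

theorem prod_eq_prod_prod {G : Type*} [Group G] [Fintype G] (P : Subgroup G) [Fintype P]
    [Fintype (G ⧸ P)] {M : Type*} [CommMonoid M] (f : G → M) :
    ∏ g : G, f g = ∏ h : P, ∏ q : G ⧸ P, f ((h : G) * (q.out)⁻¹) := by
  classical
  calc ∏ g : G, f g = ∏ g : G, f g⁻¹ :=
        (Fintype.prod_equiv (Equiv.inv G) _ _ (fun g => by simp)).symm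
    _ = ∏ x : (G ⧸ P) × P, f ((x.1.out * (x.2 : G))⁻¹) :=
        (Fintype.prod_equiv (cosetEquiv P) _ _ (fun x => rfl)).symm
    _ = ∏ q : G ⧸ P, ∏ h : P, f ((q.out * (h : G))⁻¹) := Fintype.prod_prod_type _
    _ = ∏ h : P, ∏ q : G ⧸ P, f ((q.out * (h : G))⁻¹) := Finset.prod_comm
    _ = ∏ h : P, ∏ q : G ⧸ P, f (((h⁻¹ : P) : G) * (q.out)⁻¹) := by
        refine Finset.prod_congr rfl fun h _ => Finset.prod_congr rfl fun q _ => ?_
        rw [mul_inv_rev]; rfl
    _ = ∏ h : P, ∏ q : G ⧸ P, f ((h : G) * (q.out)⁻¹) :=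
        Fintype.prod_equiv (Equiv.inv P) _ _ (fun h => rfl)

theorem algebraMap_norm_eq_prod_fixing (E : IntermediateField K L) [Fintype E.fixingSubgroup]
    (x : L) :
    algebraMap E L (Algebra.norm E x) = ∏ h : E.fixingSubgroup, (h : L ≃ₐ[K] L) x := by
  classical
  rw [Algebra.norm_eq_prod_automorphisms]
  exact Fintype.prod_equiv (IntermediateField.fixingSubgroupEquiv E).symm.toEquiv _ _
    (fun σ => rfl)

/-- Transfer: if `Ĥ^{-1}` vanishes for `L/E` then `Ĥ^{-1}` for `L/K` is killed by `[E : K]`. -/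
theorem pow_mem_of_subfield (E : IntermediateField K L)
    (hE : ∀ u : Lˣ, Algebra.norm E (u : L) = 1 → u ∈ I E L)
    (u : Lˣ) (hu : Algebra.norm K (u : L) = 1) : u ^ (Module.finrank K E) ∈ I K L := by
  classical
  set G := L ≃ₐ[K] L
  set P : Subgroup G := E.fixingSubgroup with hP
  haveI : Fintype P := Fintype.ofFinite P
  haveI : Fintype (G ⧸ P) := Fintype.ofFinite _
  let b : Lˣ := ∏ q : G ⧸ P, φ ((q.out)⁻¹ : G) u
  have hbcoe : (b : L) = ∏ q : G ⧸ P, ((q.out)⁻¹ : G) (u : L) := by
    simp only [b, Units.coe_prod]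
    rfl
  have hnorm : algebraMap E L (Algebra.norm E (b : L)) = 1 := by
    rw [algebraMap_norm_eq_prod_fixing]
    have h1 : algebraMap K L (Algebra.norm K (u : L)) = ∏ g : G, g (u : L) :=
      Algebra.norm_eq_prod_automorphisms K (u : L)
    rw [hu, map_one, prod_eq_prod_prod P] at h1
    rw [h1]
    refine Finset.prod_congr rfl fun h _ => ?_
    rw [hbcoe, map_prod]
    rfl
  have hbE : b ∈ I K L := by
    apply I_mono E
    apply hE
    apply (algebraMap E L).injective
    rw [hnorm, map_one]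
  have hindex : Module.finrank K E = Fintype.card (G ⧸ P) := by
    rw [IntermediateField.finrank_eq_fixingSubgroup_index, Subgroup.index_eq_card,
      Nat.card_eq_fintype_card]
  have hquot : b / u ^ (Module.finrank K E) ∈ I K L := by
    have : b / u ^ (Module.finrank K E) = ∏ q : G ⧸ P, (φ ((q.out)⁻¹ : G) u / u) := by
      rw [Finset.prod_div_distrib, Finset.prod_const, Finset.card_univ, hindex]
    rw [this]
    exact Subgroup.prod_mem _ (fun q _ => gen_mem' u _)
  have := (I K L).div_mem hbE hquot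
  rwa [div_div_cancel] at this

end transfer

section normal

variable {K : Type u} {L : Type u} [Field K] [Field L] [Algebra K L] [FiniteDimensional K L]
  [IsGalois K L]

/-- Dévissage along a normal intermediate field. -/
theorem mem_of_normal (E : IntermediateField K L) [Normal K E]
    (hLE : ∀ u : Lˣ, Algebra.norm E (u : L) = 1 → u ∈ I E L)
    (hEK : ∀ v : Eˣ, Algebra.norm K (v : E) = 1 → v ∈ I K E)
    (hsurj : Function.Surjective (Algebra.norm E : L → E))
    (u : Lˣ) (hu : Algebra.norm K (u : L) = 1) : u ∈ I K L := by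
  classical
  let NE : Lˣ →* Eˣ := Units.map (Algebra.norm E : L →* E)
  have hNE : ∀ w : Lˣ, ((NE w : Eˣ) : E) = Algebra.norm E (w : L) := fun w => rfl
  -- lifting elements of `I K E`
  have hlift : ∀ v : Eˣ, v ∈ I K E → ∃ c : Lˣ, c ∈ I K L ∧ NE c = v := by
    intro v hv
    unfold I at hv
    induction hv using Subgroup.closure_induction with
    | mem x hx =>
      obtain ⟨w, gbar, hxw⟩ := hx
      obtain ⟨c0, hc0⟩ := hsurj (w : E)
      have hc0ne : c0 ≠ 0 := by
        rintro rfl
        rw [Algebra.norm_zero] at hc0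
        exact w.ne_zero hc0.symm
      let c0u : Lˣ := Units.mk0 c0 hc0ne
      let g : L ≃ₐ[K] L := gbar.liftNormal L
      refine ⟨c0u / φ g c0u, gen_mem c0u g, ?_⟩
      have hcomm : ∀ e : E, g (algebraMap E L e) = algebraMap E L (gbar e) := by
        intro e
        exact AlgEquiv.liftNormal_commutes gbar L e
      have hnorm : Algebra.norm E (g c0) = gbar (Algebra.norm E c0) := by
        have h := Algebra.norm_eq_of_equiv_equiv (A₁ := E) (B₁ := L) (A₂ := E) (B₂ := L)
          (gbar : E ≃+* E) (g : L ≃+* L) (by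
            ext e
            simp only [RingHom.coe_comp, RingHom.coe_coe, Function.comp_apply]
            exact (hcomm e).symm) c0
        rw [h]
        simp
      apply Units.ext
      rw [map_div, Units.val_div_eq_div_val, hNE, hNE, hxw]
      change Algebra.norm E c0 / Algebra.norm E (g c0) = _
      rw [hnorm, hc0]
    | one => exact ⟨1, (I K L).one_mem, map_one _⟩
    | mul x y _ _ hx hy =>
      obtain ⟨c1, hc1, h1⟩ := hx
      obtain ⟨c2, hc2, h2⟩ := hy
      exact ⟨c1 * c2, (I K L).mul_mem hc1 hc2, by rw [map_mul, h1, h2]⟩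
    | inv x _ hx =>
      obtain ⟨c1, hc1, h1⟩ := hx
      exact ⟨c1⁻¹, (I K L).inv_mem hc1, by rw [map_inv, h1]⟩
  have hb : Algebra.norm K ((NE u : Eˣ) : E) = 1 := by
    rw [hNE, Algebra.norm_norm, hu]
  obtain ⟨c, hcI, hc⟩ := hlift (NE u) (hEK _ hb)
  have hquot : u / c ∈ I E L := by
    apply hLE
    have : NE (u / c) = 1 := by rw [map_div, hc, div_self']
    rw [← hNE, this]
    rfl
  have := (I K L).mul_mem (I_mono E hquot) hcI
  rwa [div_mul_cancel] at this

end normal

end Groth.Agent.Lib.LeadHm
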