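import Mathlib

/-!
Hilbert's Theorem 90 for cyclic extensions, in arbitrary universes (lead).
-/

set_option autoImplicit false
set_option maxHeartbeats 400000
set_option linter.style.haveILetI false
set_option linter.unusedSectionVars false
set_option linter.unusedVariables false

universe u v

namespace Groth.Agent.Lib.LeadHm

open Finset

variable {K : Type u} {L : Type v} [Field K] [Field L] [Algebra K L] [FiniteDimensional K L]
  [IsGalois K L]

theorem prod_aut_eq_prod_range (σ : L ≃ₐ[K] L) (hσ : ∀ τ : L ≃ₐ[K] L, τ ∈ Subgroup.zpowers σ)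
    {M : Type*} [CommMonoid M] (F : (L ≃ₐ[K] L) → M) :
    ∏ τ : L ≃ₐ[K] L, F τ = ∏ i ∈ range (orderOf σ), F (σ ^ i) := by
  classical
  have himage : (range (orderOf σ)).image (σ ^ ·) = (univ : Finset (L ≃ₐ[K] L)) := by
    ext τ
    simp only [mem_univ, iff_true]
    rw [← mem_powers_iff_mem_range_orderOf, mem_powers_iff_mem_zpowers]
    exact hσ τ
  rw [← himage, Finset.prod_image]
  intro i hi j hj hij
  exact pow_injOn_Iio_orderOf (by simpa using hi) (by simpa using hj) hij

theorem hilbert90 (σ : L ≃ₐ[K] L) (hσ : ∀ τ : L ≃ₐ[K] L, τ ∈ Subgroup.zpowers σ)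
    {x : L} (hx : Algebra.norm K x = 1) : ∃ y : Lˣ, (y : L) / σ (y : L) = x := by
  classical
  set n := orderOf σ with hn
  have hnpos : 0 < n := orderOf_pos σ
  let a : ℕ → L := fun i => ∏ j ∈ range i, (σ ^ j) x
  have ha0 : a 0 = 1 := by simp [a]
  have ha_succ : ∀ i, a (i + 1) = x * σ (a i) := by
    intro i
    simp only [a]
    rw [prod_range_succ', map_prod, pow_zero, AlgEquiv.one_apply, mul_comm]
    congr 1
    refine prod_congr rfl fun j _ => ?_
    rw [pow_succ', AlgEquiv.mul_apply]
  have han : a n = 1 := by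
    have h1 : algebraMap K L (Algebra.norm K x) = ∏ τ : L ≃ₐ[K] L, τ x :=
      Algebra.norm_eq_prod_automorphisms K x
    rw [hx, map_one, prod_aut_eq_prod_range σ hσ] at h1
    exact h1.symm
  let T : L → L := fun z => ∑ i ∈ range n, a i * (σ ^ i) z
  have hT : ∀ z, x * σ (T z) = T z := by
    intro z
    have h1 : x * σ (T z) = ∑ i ∈ range n, a (i + 1) * (σ ^ (i + 1)) z := by
      simp only [T]
      rw [map_sum, mul_sum]
      refine sum_congr rfl fun i _ => ?_
      rw [map_mul, ← mul_assoc, ← ha_succ, pow_succ', AlgEquiv.mul_apply]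
    have h2 : ∑ i ∈ range (n + 1), a i * (σ ^ i) z
        = (∑ i ∈ range n, a (i + 1) * (σ ^ (i + 1)) z) + a 0 * (σ ^ 0) z :=
      sum_range_succ' _ n
    have h3 : ∑ i ∈ range (n + 1), a i * (σ ^ i) z = T z + a n * (σ ^ n) z :=
      sum_range_succ _ n
    rw [h1]
    have h4 : (σ ^ n) z = z := by rw [hn, pow_orderOf_eq_one]; rfl
    rw [h3, han, h4, ha0, pow_zero, AlgEquiv.one_apply] at h2
    exact (add_right_cancel h2).symm
  -- nonvanishing of `T`
  obtain ⟨z, hz⟩ : ∃ z, T z ≠ 0 := by
    by_contra hcon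
    push Not at hcon
    have hli := linearIndependent_monoidHom L L
    let e : Fin n → (L →* L) := fun i => ((σ ^ (i : ℕ) : L ≃ₐ[K] L) : L →* L)
    have hinj : Function.Injective e := by
      intro i j hij
      apply Fin.ext
      have : σ ^ (i : ℕ) = σ ^ (j : ℕ) := by
        ext w
        exact DFunLike.congr_fun hij w
      exact pow_injOn_Iio_orderOf (Set.mem_Iio.mpr i.2) (Set.mem_Iio.mpr j.2) this
    have hli' := hli.comp e hinj
    rw [Fintype.linearIndependent_iff] at hli'
    have h0 := hli' (fun i => a i) (by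
      funext z
      have := hcon z
      simp only [T] at this
      rw [← Fin.sum_univ_eq_sum_range (fun i => a i * (σ ^ i) z) n] at this
      simp only [Finset.sum_apply, Pi.smul_apply, Function.comp_apply, smul_eq_mul, Pi.zero_apply]
      exact this) ⟨0, hnpos⟩
    simp only at h0
    rw [ha0] at h0
    exact one_ne_zero h0
  refine ⟨Units.mk0 (T z) hz, ?_⟩
  have hσz : σ (T z) ≠ 0 := by
    intro h
    have := hT z
    rw [h, mul_zero] at this
    exact hz this.symm
  rw [Units.val_mk0, div_eq_iff hσz]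
  exact (hT z).symm

end Groth.Agent.Lib.LeadHm
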