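import Mathlib
import Groth.Agent.Lib.LeadHmA
import Groth.Agent.Lib.LeadHmB
import Groth.Agent.Lib.LeadHmH

/-!
`Ĥ^{-1}(Gal(L/K), Lˣ) = 0` for finite Galois extensions of `C_1` fields (lead).
-/

set_option autoImplicit false
set_option maxHeartbeats 400000
set_option linter.style.haveILetI false
set_option linter.unusedSectionVars false
set_option linter.unusedVariables false

universe u

namespace Groth.Agent.Lib.LeadHm

open Groth.Agent.Lib.Helper29.TsenLang

/-- trivial extension -/
theorem mem_of_finrank_one {K L : Type u} [Field K] [Field L] [Algebra K L]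
    [FiniteDimensional K L] [IsGalois K L] (h1 : Module.finrank K L = 1)
    (u : Lˣ) (hu : Algebra.norm K (u : L) = 1) : u ∈ I K L := by
  classical
  have hcard : Nat.card (L ≃ₐ[K] L) = 1 := by rw [IsGalois.card_aut_eq_finrank, h1]
  haveI : Subsingleton (L ≃ₐ[K] L) := (Nat.card_eq_one_iff_unique.mp hcard).1
  have h2 : algebraMap K L (Algebra.norm K (u : L)) = ∏ g : L ≃ₐ[K] L, g (u : L) :=
    Algebra.norm_eq_prod_automorphisms K (u : L)
  rw [hu, map_one, Fintype.prod_subsingleton _ (1 : L ≃ₐ[K] L)] at h2
  have : u = 1 := by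
    apply Units.ext
    rw [Units.val_one, h2]
    rfl
  rw [this]
  exact (I K L).one_mem

/-- Hilbert 90 for cyclic extensions of prime degree -/
theorem mem_of_prime_degree {K E : Type u} [Field K] [Field E] [Algebra K E]
    [FiniteDimensional K E] [IsGalois K E] {p : ℕ} (hp : p.Prime)
    (hdeg : Module.finrank K E = p) (v : Eˣ) (hv : Algebra.norm K (v : E) = 1) : v ∈ I K E := by
  haveI : Fact p.Prime := ⟨hp⟩
  have hcard : Nat.card (E ≃ₐ[K] E) = p := by rw [IsGalois.card_aut_eq_finrank, hdeg]
  haveI : IsCyclic (E ≃ₐ[K] E) := isCyclic_of_prime_card hcard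
  obtain ⟨g, hg⟩ := IsCyclic.exists_generator (α := E ≃ₐ[K] E)
  obtain ⟨y, hy⟩ := hilbert90 g hg hv
  apply Subgroup.subset_closure
  exact ⟨y, g, hy.symm⟩

theorem main : ∀ (n : ℕ) (K L : Type u) [Field K] [Field L] [Algebra K L]
    [FiniteDimensional K L] [IsGalois K L], Curves.IsCr K 1 → Module.finrank K L = n →
    ∀ u : Lˣ, Algebra.norm K (u : L) = 1 → u ∈ I K L := by
  intro n
  induction n using Nat.strong_induction_on with
  | _ n ih =>
  intro K L _ _ _ _ _ hK hn u hu
  classical
  by_cases hn1 : n = 1
  · exact mem_of_finrank_one (hn.trans hn1) u hu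
  have hnpos : 0 < n := hn ▸ Module.finrank_pos
  set G := L ≃ₐ[K] L with hG
  have hcard : Nat.card G = n := by rw [IsGalois.card_aut_eq_finrank, hn]
  have key : ∀ p : ℕ, p.Prime → u ∈ I K L ∨ ∃ m, ¬ p ∣ m ∧ u ^ m ∈ I K L := by
    intro p hp
    haveI : Fact p.Prime := ⟨hp⟩
    obtain ⟨P⟩ : Nonempty (Sylow p G) := inferInstance
    by_cases hP : (P : Subgroup G) = ⊤
    · left
      -- `G` is a `p`-group
      have hcardP : Nat.card (P : Subgroup G) = n := by rw [hP, Subgroup.card_top, hcard]
      set k := Nat.factorization (Nat.card G) p with hk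
      have hpk : n = p ^ k := by rw [← hcardP]; exact P.card_eq_multiplicity
      have hk0 : k ≠ 0 := by
        intro h0
        rw [h0, pow_zero] at hpk
        exact hn1 hpk
      obtain ⟨H, hH⟩ := Sylow.exists_subgroup_card_pow_prime (G := G) p (n := k - 1)
        (by rw [hcard, hpk]; exact pow_dvd_pow p (Nat.sub_le k 1))
      have hindex : H.index = p := by
        have h1 := H.index_mul_card
        rw [hH, hcard, hpk] at h1
        have h2 : p ^ k = p * p ^ (k - 1) := by
          rw [← pow_succ', Nat.sub_add_cancel (Nat.one_le_iff_ne_zero.mpr hk0)]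
        rw [h2] at h1
        exact Nat.eq_of_mul_eq_mul_right (pow_pos hp.pos _) h1
      haveI : H.Normal := by
        apply Subgroup.normal_of_index_eq_minFac_card
        rw [hindex, hcard, hpk, hp.pow_minFac hk0]
      set E := IntermediateField.fixedField H with hE
      haveI : Normal K E := IsGalois.to_normal
      have hfix : E.fixingSubgroup = H := IntermediateField.fixingSubgroup_fixedField _
      have hEC : Curves.IsCr E 1 := isCr_one_of_finite hK
      have hlt : Module.finrank E L < n := by
        rw [IntermediateField.finrank_fixedField_eq_card, hH, hpk]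
        exact Nat.pow_lt_pow_right hp.one_lt (Nat.sub_lt (Nat.pos_of_ne_zero hk0) one_pos)
      have hLE := ih _ hlt E L hEC rfl
      have hdeg : Module.finrank K E = p := by
        rw [IntermediateField.finrank_eq_fixingSubgroup_index, hfix, hindex]
      exact mem_of_normal E hLE (fun v hv => mem_of_prime_degree hp hdeg v hv)
        (norm_surjective_of_isCr hEC) u hu
    · right
      set E := IntermediateField.fixedField (P : Subgroup G) with hE
      have hfix : E.fixingSubgroup = P := IntermediateField.fixingSubgroup_fixedField _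
      have hEC : Curves.IsCr E 1 := isCr_one_of_finite hK
      have hlt : Module.finrank E L < n := by
        rw [IntermediateField.finrank_fixedField_eq_card, ← hcard]
        refine lt_of_le_of_ne (Subgroup.card_le_card_group _) ?_
        intro h
        exact hP ((Subgroup.card_eq_iff_eq_top _).mp h)
      have hLE := ih _ hlt E L hEC rfl
      refine ⟨Module.finrank K E, ?_, pow_mem_of_subfield E hLE u hu⟩
      rw [IntermediateField.finrank_eq_fixingSubgroup_index, hfix]
      exact P.not_dvd_index
  -- the order argument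
  by_contra hu'
  set ubar : Lˣ ⧸ I K L := (u : Lˣ ⧸ I K L) with hubar
  have hne : orderOf ubar ≠ 1 := by
    rw [Ne, orderOf_eq_one_iff, hubar, QuotientGroup.eq_one_iff]
    exact hu'
  have hp := Nat.minFac_prime hne
  rcases key _ hp with h | ⟨m, hm, hmem⟩
  · exact hu' h
  · apply hm
    have h1 : ubar ^ m = 1 := by
      rw [hubar, ← QuotientGroup.mk_pow, QuotientGroup.eq_one_iff]
      exact hmem
    exact (Nat.minFac_dvd _).trans (orderOf_dvd_of_pow_eq_one h1)

end Groth.Agent.Lib.LeadHm
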