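import Mathlib

/-!
# Flat base change of `M[J]` (lead)

`FreeAt R J M` says that `M[J]` is a free `R ⧸ J`-module; this is preserved by flat base change.
-/

set_option autoImplicit false
set_option maxHeartbeats 400000
set_option linter.style.haveILetI false
set_option linter.unusedSectionVars false
set_option linter.unusedVariables false

universe u

namespace Groth.Agent.Lib.LeadHuSh

open TensorProduct

/-- `M[J]` is free over `R/J`. -/
def FreeAt (R : Type u) [CommRing R] (J : Ideal R) (M : Type u) [AddCommGroup M] [Module R M] :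
    Prop :=
  ∃ (ι : Type u) (g : (ι →₀ R ⧸ J) →ₗ[R] M), Function.Injective g ∧
    LinearMap.range g = Submodule.torsionBySet R M (J : Set R)

section equiv

variable {R : Type u} [CommRing R] {M M' : Type u} [AddCommGroup M] [Module R M]
  [AddCommGroup M'] [Module R M']

theorem map_torsionBySet_equiv (e : M ≃ₗ[R] M') (s : Set R) :
    (Submodule.torsionBySet R M s).map e.toLinearMap = Submodule.torsionBySet R M' s := by
  ext y
  simp only [Submodule.mem_map, Submodule.mem_torsionBySet_iff]
  constructor
  · rintro ⟨x, hx, rfl⟩ a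
    show (a : R) • e x = 0
    rw [← map_smul, hx a, map_zero]
  · intro hy
    refine ⟨e.symm y, fun a => ?_, e.apply_symm_apply y⟩
    rw [← map_smul, hy a, map_zero]

theorem FreeAt.of_equiv (e : M ≃ₗ[R] M') {J : Ideal R} (h : FreeAt R J M) : FreeAt R J M' := by
  obtain ⟨ι, g, hg, hr⟩ := h
  refine ⟨ι, e.toLinearMap ∘ₗ g, e.injective.comp hg, ?_⟩
  rw [LinearMap.range_comp, hr, map_torsionBySet_equiv]

end equiv

section flat

variable {R : Type u} [CommRing R] {S : Type u} [CommRing S] [Algebra R S]
  (M : Type u) [AddCommGroup M] [Module R M]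

theorem piRight_lTensor_pi {n : ℕ} (a : Fin n → R) (y : S ⊗[R] M) (j : Fin n) :
    TensorProduct.piRight R S S (fun _ : Fin n => M)
      (LinearMap.lTensor S (LinearMap.pi fun j => LinearMap.lsmul R M (a j)) y) j = a j • y := by
  induction y with
  | zero => simp
  | tmul s x =>
    simp only [LinearMap.lTensor_tmul, piRight_apply, piRightHom_tmul, LinearMap.pi_apply,
      LinearMap.lsmul_apply]
    rw [TensorProduct.tmul_smul]
  | add y z hy hz => simp only [map_add, Pi.add_apply, hy, hz, smul_add]

variable [Module.Flat R S]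

theorem range_baseChange_torsionBySet (J : Ideal R) (hJ : J.FG) :
    LinearMap.range ((Submodule.torsionBySet R M (J : Set R)).subtype.baseChange S) =
      Submodule.torsionBySet S (S ⊗[R] M) ((J.map (algebraMap R S) : Ideal S) : Set S) := by
  obtain ⟨n, a, ha⟩ := Submodule.fg_iff_exists_fin_generating_family.mp hJ
  let μ : M →ₗ[R] (Fin n → M) := LinearMap.pi fun j => LinearMap.lsmul R M (a j)
  have hex : Function.Exact (Submodule.torsionBySet R M (J : Set R)).subtype μ := by
    rw [LinearMap.exact_iff, Submodule.range_subtype]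
    ext x
    rw [LinearMap.mem_ker, ← ha, ← Submodule.torsionBySet_eq_torsionBySet_span,
      Submodule.mem_torsionBySet_iff]
    constructor
    · intro h b
      obtain ⟨j, hj⟩ := b.2
      have := congrFun h j
      rw [← hj]
      exact this
    · intro h
      funext j
      exact h ⟨a j, Set.mem_range_self j⟩
  have hex' := Module.Flat.lTensor_exact S hex
  have hmap : (J.map (algebraMap R S) : Ideal S) = Ideal.span (algebraMap R S '' Set.range a) := by
    rw [← ha]
    exact Ideal.map_span _ _
  ext y
  rw [hmap, ← Submodule.torsionBySet_eq_torsionBySet_span, Submodule.mem_torsionBySet_iff]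
  have h1 : y ∈ LinearMap.range ((Submodule.torsionBySet R M (J : Set R)).subtype.baseChange S) ↔
      LinearMap.lTensor S μ y = 0 := by
    constructor
    · rintro ⟨z, rfl⟩
      exact (hex' _).mpr ⟨z, rfl⟩
    · intro h
      obtain ⟨z, hz⟩ := (hex' y).mp h
      exact ⟨z, hz⟩
  have h2 : LinearMap.lTensor S μ y = 0 ↔ ∀ j, a j • y = 0 := by
    rw [← (TensorProduct.piRight R S S (fun _ : Fin n => M)).map_eq_zero_iff, funext_iff]
    exact forall_congr' fun j => by rw [piRight_lTensor_pi]; rfl
  rw [h1, h2]
  constructor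
  · intro h b
    obtain ⟨r, ⟨j, rfl⟩, hb⟩ := b.2
    rw [← hb, algebraMap_smul]
    exact h j
  · intro h j
    have := h ⟨algebraMap R S (a j), Set.mem_image_of_mem _ (Set.mem_range_self j)⟩
    rwa [algebraMap_smul] at this

theorem FreeAt.baseChange {J : Ideal R} (hJ : J.FG) (h : FreeAt R J M) :
    FreeAt S (J.map (algebraMap R S)) (S ⊗[R] M) := by
  obtain ⟨ι, g, hg, hr⟩ := h
  classical
  let e1 : (ι →₀ S ⧸ J.map (algebraMap R S)) ≃ₗ[S] (ι →₀ S ⊗[R] (R ⧸ J)) :=
    Finsupp.mapRange.linearEquiv
      (Algebra.TensorProduct.quotIdealMapEquivTensorQuot S J).toLinearEquiv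
  let e2 : S ⊗[R] (ι →₀ R ⧸ J) ≃ₗ[S] (ι →₀ S ⊗[R] (R ⧸ J)) :=
    TensorProduct.finsuppRight R S S (R ⧸ J) ι
  let T := Submodule.torsionBySet R M (J : Set R)
  let g₀ : (ι →₀ R ⧸ J) →ₗ[R] T :=
    g.codRestrict T (fun x => by
      have : g x ∈ LinearMap.range g := ⟨x, rfl⟩
      rw [hr] at this
      exact this)
  have hg₀ : Function.Surjective g₀ := by
    rintro ⟨y, hy⟩
    have : y ∈ LinearMap.range g := by rw [hr]; exact hy
    obtain ⟨x, hx⟩ := this
    exact ⟨x, Subtype.ext hx⟩
  have hcomp : g = T.subtype ∘ₗ g₀ := rfl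
  have hsurj : Function.Surjective (g₀.baseChange S) :=
    LinearMap.lTensor_surjective S hg₀
  refine ⟨ι, (g.baseChange S) ∘ₗ e2.symm.toLinearMap ∘ₗ e1.toLinearMap, ?_, ?_⟩
  · have : Function.Injective (g.baseChange S) :=
      Module.Flat.lTensor_preserves_injective_linearMap g hg
    intro x y hxy
    simp only [LinearMap.comp_apply, LinearEquiv.coe_coe] at hxy
    exact e1.injective (e2.symm.injective (this hxy))
  · have hs12 : Function.Surjective (e2.symm.toLinearMap ∘ₗ e1.toLinearMap) := by
      intro y
      obtain ⟨x, hx⟩ := e2.symm.surjective y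
      obtain ⟨w, hw⟩ := e1.surjective x
      exact ⟨w, by rw [LinearMap.comp_apply]; simp only [LinearEquiv.coe_coe]; rw [hw, hx]⟩
    rw [LinearMap.range_comp_of_range_eq_top _ (LinearMap.range_eq_top.mpr hs12),
      hcomp, LinearMap.baseChange_comp,
      LinearMap.range_comp_of_range_eq_top _ (LinearMap.range_eq_top.mpr hsurj)]
    exact range_baseChange_torsionBySet M J hJ

end flat

end Groth.Agent.Lib.LeadHuSh
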