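import Mathlib
import Groth.Agent.Lib.Helper28DepthLoc

/-!
# Kunz's theorem, part A (lead): module-level lemmas over one ring

* `exists_socle`: maximal regular sequence + socle element in a Noetherian local ring.
* `exists_pow_notMem`: Krull's intersection theorem pushes the socle element out of
  `(X) + m^N`.
* `isWeaklyRegular_take_succ`: kernels of maps from modules with a regular sequence gain depth.
* `top_case`: the key contradiction of Herzog's argument.
-/

set_option autoImplicit false
set_option maxHeartbeats 400000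
set_option linter.style.haveILetI false
set_option linter.unusedSectionVars false
set_option linter.unusedVariables false

universe u

namespace Groth.Agent.Lib.LeadKz

open RingTheory.Sequence IsLocalRing Function

section socle

variable (A : Type u) [CommRing A] [IsLocalRing A] [IsNoetherianRing A]

/-- a maximal regular sequence in the maximal ideal together with a socle element modulo it -/
theorem exists_socle :
    ∃ (X : List A) (s : A), (∀ x ∈ X, x ∈ maximalIdeal A) ∧ IsWeaklyRegular A X ∧
      s ∉ Ideal.ofList X ∧ ∀ a ∈ maximalIdeal A, a * s ∈ Ideal.ofList X := by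
  have hIM : maximalIdeal A • (⊤ : Submodule A A) ≠ ⊤ :=
    Groth.Agent.Lib.Helper28.maximalIdeal_smul_top_ne_top
  obtain ⟨X, -, hreg, hmem, hmax⟩ := Groth.Agent.Lib.Helper28.exists_maximal_extension hIM []
    (IsWeaklyRegular.nil A A) (by simp)
  have hIN : maximalIdeal A • (⊤ : Submodule A (A ⧸ (Ideal.ofList X • ⊤ : Submodule A A))) ≠ ⊤ :=
    Groth.Agent.Lib.Helper28.smul_top_quot_ofList_ne_top (maximalIdeal A) hmem hIM
  have hNnt : Nontrivial (A ⧸ (Ideal.ofList X • ⊤ : Submodule A A)) :=
    Groth.Agent.Lib.Helper28.nontrivial_of_smul_top_ne_top hIN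
  have hnr : ∀ r ∈ maximalIdeal A,
      ¬ IsSMulRegular (A ⧸ (Ideal.ofList X • ⊤ : Submodule A A)) r := fun r hr hreg' =>
    hmax r hr ((isWeaklyRegular_append_iff A X [r]).mpr
      ⟨hreg, (isWeaklyRegular_singleton_iff _ r).mpr hreg'⟩)
  obtain ⟨q, hq, hIq⟩ :=
    Groth.Agent.Lib.Helper28.exists_le_mem_associatedPrimes_of_forall_not_isSMulRegular hnr
  have hqp : q.IsPrime := hq.isPrime
  obtain ⟨z, hz⟩ := (isAssociatedPrime_iff.mp hq).2
  obtain ⟨s, rfl⟩ := Submodule.Quotient.mk_surjective _ z
  have hsm : (Ideal.ofList X • ⊤ : Submodule A A) = Ideal.ofList X := by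
    simp
  refine ⟨X, s, hmem, hreg, ?_, ?_⟩
  · intro hs
    apply hqp.ne_top
    rw [hz, Ideal.eq_top_iff_one, Submodule.mem_colon_singleton, one_smul, Submodule.mem_bot,
      Submodule.Quotient.mk_eq_zero, hsm]
    exact hs
  · intro a ha
    have h1 : a ∈ q := hIq ha
    rw [hz, Submodule.mem_colon_singleton, Submodule.mem_bot, ← Submodule.Quotient.mk_smul,
      Submodule.Quotient.mk_eq_zero, hsm] at h1
    exact h1

/-- Krull intersection: an element outside `J` is outside `J + m^N` for some `N`. -/
theorem exists_pow_notMem (J : Ideal A) (s : A) (hs : s ∉ J) :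
    ∃ N : ℕ, s ∉ J ⊔ maximalIdeal A ^ N := by
  by_contra hcon
  push Not at hcon
  apply hs
  have hbot := Ideal.iInf_pow_smul_eq_bot_of_isLocalRing (M := A ⧸ J)
    (maximalIdeal A) (Ideal.IsPrime.ne_top inferInstance)
  rw [← Ideal.Quotient.eq_zero_iff_mem, ← Submodule.mem_bot A, ← hbot, Submodule.mem_iInf]
  intro n
  obtain ⟨a, ha, b, hb, hab⟩ := Submodule.mem_sup.mp (hcon n)
  rw [← hab, map_add, Ideal.Quotient.eq_zero_iff_mem.mpr ha, zero_add]
  have h1 : (Ideal.Quotient.mk J) b = b • (1 : A ⧸ J) := by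
    rw [Algebra.smul_def, mul_one]; rfl
  rw [h1]
  exact Submodule.smul_mem_smul hb Submodule.mem_top

end socle

section step

variable {A : Type u} [CommRing A] {W' F W : Type u} [AddCommGroup W'] [Module A W']
  [AddCommGroup F] [Module A F] [AddCommGroup W] [Module A W]
  (ι : W' →ₗ[A] F) (π : F →ₗ[A] W)

/-- injectivity modulo a sequence which is weakly regular on the cokernel -/
theorem mapQ_injective_of_isWeaklyRegular (hι : Injective ι) (hπ : Surjective π)
    (hex : Exact ι π) (X : List A) (hW : IsWeaklyRegular W X) :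
    Injective (Submodule.mapQ (Ideal.ofList X • ⊤ : Submodule A W') (Ideal.ofList X • ⊤) ι
      (Submodule.smul_top_le_comap_smul_top (Ideal.ofList X) ι)) := by
  have h0 : Exact (0 : PUnit.{u+1} →ₗ[A] W') ι := by
    intro x
    constructor
    · intro hx
      refine ⟨PUnit.unit, ?_⟩
      rw [LinearMap.zero_apply]
      exact (hι (hx.trans (map_zero ι).symm)).symm
    · rintro ⟨y, rfl⟩
      simp
  have h1 := map_first_exact_on_four_term_right_exact_of_isSMulRegular_last h0 hex hπ hW
  rw [← LinearMap.ker_eq_bot, eq_bot_iff]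
  intro x hx
  obtain ⟨y, rfl⟩ := (h1 x).mp hx
  rw [Submodule.mem_bot]
  obtain ⟨y, rfl⟩ := Submodule.Quotient.mk_surjective _ y
  rw [Submodule.mapQ_apply, LinearMap.zero_apply, Submodule.Quotient.mk_zero]

theorem mem_smul_top_of_map_mem (hι : Injective ι) (hπ : Surjective π)
    (hex : Exact ι π) (X : List A) (hW : IsWeaklyRegular W X) (w : W')
    (hw : ι w ∈ (Ideal.ofList X • ⊤ : Submodule A F)) :
    w ∈ (Ideal.ofList X • ⊤ : Submodule A W') := by
  have hinj := mapQ_injective_of_isWeaklyRegular ι π hι hπ hex X hW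
  have h1 : Submodule.mapQ (Ideal.ofList X • ⊤ : Submodule A W') (Ideal.ofList X • ⊤) ι
      (Submodule.smul_top_le_comap_smul_top (Ideal.ofList X) ι) (Submodule.Quotient.mk w) = 0 := by
    rw [Submodule.mapQ_apply, Submodule.Quotient.mk_eq_zero]
    exact hw
  have h2 := hinj (h1.trans (map_zero _).symm)
  rwa [Submodule.Quotient.mk_eq_zero] at h2

/-- one more element of a regular sequence on a kernel -/
theorem isWeaklyRegular_append_singleton (hι : Injective ι) (hπ : Surjective π)
    (hex : Exact ι π) (X : List A) (x : A) (hF : IsWeaklyRegular F (X ++ [x]))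
    (hW : IsWeaklyRegular W X) (hW' : IsWeaklyRegular W' X) :
    IsWeaklyRegular W' (X ++ [x]) := by
  rw [isWeaklyRegular_append_iff]
  refine ⟨hW', ?_⟩
  rw [isWeaklyRegular_singleton_iff]
  have hFx : IsSMulRegular (F ⧸ (Ideal.ofList X • ⊤ : Submodule A F)) x :=
    (isWeaklyRegular_singleton_iff _ x).mp ((isWeaklyRegular_append_iff F X [x]).mp hF).2
  exact hFx.of_injective _ (mapQ_injective_of_isWeaklyRegular ι π hι hπ hex X hW)

theorem isWeaklyRegular_take_succ (hι : Injective ι) (hπ : Surjective π)
    (hex : Exact ι π) (X : List A) (hF : IsWeaklyRegular F X) (j : ℕ)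
    (hW : IsWeaklyRegular W (X.take j)) : IsWeaklyRegular W' (X.take (j + 1)) := by
  induction j with
  | zero =>
    rw [List.take_add_one]
    simp only [List.take_zero, List.nil_append]
    rcases hX : X[0]? with _ | x
    · simp
    · simp only [Option.toList_some]
      have h1 := isWeaklyRegular_append_singleton ι π hι hπ hex [] x ?_ (IsWeaklyRegular.nil A W)
        (IsWeaklyRegular.nil A W')
      · simpa using h1
      · have h2 := Groth.Agent.Lib.Helper28.IsWeaklyRegular.take' hF 1
        rw [List.take_add_one, hX] at h2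
        simpa using h2
  | succ j ih =>
    have hWj : IsWeaklyRegular W (X.take j) := by
      have h2 := Groth.Agent.Lib.Helper28.IsWeaklyRegular.take' hW j
      rwa [List.take_take, min_eq_left (Nat.le_succ j)] at h2
    have hW'j := ih hWj
    rw [List.take_add_one]
    rcases hX : X[j + 1]? with _ | x
    · simpa using hW'j
    · simp only [Option.toList_some]
      refine isWeaklyRegular_append_singleton ι π hι hπ hex _ x ?_ hW hW'j
      have h2 := Groth.Agent.Lib.Helper28.IsWeaklyRegular.take' hF (j + 1 + 1)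
      rw [List.take_add_one, hX] at h2
      simpa using h2

end step

section top

variable {A : Type u} [CommRing A] {V1 F0 V F1 : Type u} [AddCommGroup V1] [Module A V1]
  [AddCommGroup F0] [Module A F0] [AddCommGroup V] [Module A V] [AddCommGroup F1] [Module A F1]

/-- the key contradiction in Herzog's argument -/
theorem top_case (ι : V1 →ₗ[A] F0) (π : F0 →ₗ[A] V) (hι : Injective ι) (hπ : Surjective π)
    (hex : Exact ι π) (ρ : F1 →ₗ[A] V1) (hρ : Surjective ρ)
    (X : List A) (hV : IsWeaklyRegular V X) (s : A) (𝔞 : Ideal A)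
    (hs1 : ∀ a ∈ 𝔞, a * s ∈ Ideal.ofList X)
    (hs2 : s ∉ Ideal.ofList X ⊔ 𝔞)
    (hι𝔞 : LinearMap.range ι ≤ 𝔞 • (⊤ : Submodule A F0))
    (hρ𝔞 : LinearMap.ker ρ ≤ 𝔞 • (⊤ : Submodule A F1))
    (e : F1) (c : F1 →ₗ[A] A) (hc : c e = 1) : False := by
  apply hs2
  -- `s • ι (ρ e)` lies in `(X) F0`
  have h1 : ∀ f ∈ 𝔞 • (⊤ : Submodule A F0), s • f ∈ (Ideal.ofList X • ⊤ : Submodule A F0) := by
    intro f hf
    refine Submodule.smul_induction_on hf ?_ ?_
    · intro a ha n _
      rw [smul_smul, mul_comm]
      exact Submodule.smul_mem_smul (hs1 a ha) Submodule.mem_top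
    · intro x y hx hy
      rw [smul_add]
      exact Submodule.add_mem _ hx hy
  have h2 : ι (s • ρ e) ∈ (Ideal.ofList X • ⊤ : Submodule A F0) := by
    rw [map_smul]
    exact h1 _ (hι𝔞 ⟨_, rfl⟩)
  have h3 := mem_smul_top_of_map_mem ι π hι hπ hex X hV _ h2
  have h4 : (Ideal.ofList X • ⊤ : Submodule A V1) =
      (Ideal.ofList X • ⊤ : Submodule A F1).map ρ := by
    rw [Submodule.map_smul'', Submodule.map_top, LinearMap.range_eq_top.mpr hρ]
  rw [h4] at h3
  obtain ⟨y, hy, hye⟩ := h3
  have h5 : s • e - y ∈ LinearMap.ker ρ := by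
    rw [LinearMap.mem_ker, map_sub, map_smul, hye, sub_self]
  have h6 := hρ𝔞 h5
  have hcX : c y ∈ Ideal.ofList X := by
    have := Submodule.smul_top_le_comap_smul_top (Ideal.ofList X) c hy
    rw [Submodule.mem_comap] at this
    simpa using this
  have hc𝔞 : c (s • e - y) ∈ 𝔞 := by
    have := Submodule.smul_top_le_comap_smul_top 𝔞 c h6
    rw [Submodule.mem_comap] at this
    simpa using this
  rw [map_sub, map_smul, hc, smul_eq_mul, mul_one] at hc𝔞
  have : s = c y + (s - c y) := by ring
  rw [this]
  exact Submodule.add_mem_sup hcX hc𝔞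

end top

end Groth.Agent.Lib.LeadKz
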