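import Mathlib
import Groth.Agent.Lib.LeadKza
import Groth.Agent.Lib.Helper13Frob
import Groth.Agent.Lib.Helper21PdLoc

/-!
# Kunz's theorem, part B (lead): Herzog's lemma

Let `φ : R → R'` be a flat ring map, `R` Noetherian local, and let `X` be a weakly regular
sequence in `R'` with a "socle element" `s` modulo `(X)` such that `φ(m_R) s ⊆ (X)` and
`s ∉ (X) + φ(m_R) R'`.  Then every finite `R`-module has projective dimension `≤ |X|`.
-/

set_option autoImplicit false
set_option maxHeartbeats 400000
set_option linter.style.haveILetI false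
set_option linter.unusedSectionVars false
set_option linter.unusedVariables false

universe u

namespace Groth.Agent.Lib.LeadKz

open RingTheory.Sequence IsLocalRing Function TensorProduct CategoryTheory

section bc

variable {R R' : Type u} [CommRing R] [CommRing R'] [Algebra R R']
variable {M N P : Type u} [AddCommGroup M] [Module R M] [AddCommGroup N] [Module R N]
  [AddCommGroup P] [Module R P]

theorem tmul_mem_map_smul_top (I : Ideal R) (r : R') (n : N)
    (hn : n ∈ I • (⊤ : Submodule R N)) :
    r ⊗ₜ[R] n ∈ (I.map (algebraMap R R')) • (⊤ : Submodule R' (R' ⊗[R] N)) := by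
  refine Submodule.smul_induction_on hn ?_ ?_
  · intro a ha n _
    have h1 : r ⊗ₜ[R] (a • n) = (algebraMap R R' a) • (r ⊗ₜ[R] n) := by
      rw [TensorProduct.smul_tmul', smul_eq_mul, ← Algebra.smul_def, TensorProduct.smul_tmul]
    rw [h1]
    exact Submodule.smul_mem_smul (Ideal.mem_map_of_mem _ ha) Submodule.mem_top
  · intro x y hx hy
    rw [TensorProduct.tmul_add]
    exact Submodule.add_mem _ hx hy

theorem range_baseChange_le (I : Ideal R) (f : M →ₗ[R] N)
    (hf : LinearMap.range f ≤ I • (⊤ : Submodule R N)) :
    LinearMap.range (f.baseChange R') ≤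
      (I.map (algebraMap R R')) • (⊤ : Submodule R' (R' ⊗[R] N)) := by
  rintro _ ⟨y, rfl⟩
  induction y using TensorProduct.induction_on with
  | zero => simp
  | tmul r m =>
    rw [LinearMap.baseChange_tmul]
    exact tmul_mem_map_smul_top I r _ (hf ⟨m, rfl⟩)
  | add x y hx hy =>
    rw [map_add]
    exact Submodule.add_mem _ hx hy

theorem exact_baseChange (f : M →ₗ[R] N) (g : N →ₗ[R] P) (hex : Exact f g)
    (hg : Surjective g) : Exact (f.baseChange R') (g.baseChange R') := by
  have := lTensor_exact R' hex hg
  exact this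

theorem injective_baseChange [Module.Flat R R'] (f : M →ₗ[R] N) (hf : Injective f) :
    Injective (f.baseChange R') :=
  Module.Flat.lTensor_preserves_injective_linearMap f hf

theorem surjective_baseChange (f : M →ₗ[R] N) (hf : Surjective f) :
    Surjective (f.baseChange R') :=
  LinearMap.lTensor_surjective R' hf

theorem ker_baseChange_le (I : Ideal R) (g : N →ₗ[R] P) (hg : Surjective g)
    (hk : LinearMap.ker g ≤ I • (⊤ : Submodule R N)) :
    LinearMap.ker (g.baseChange R') ≤
      (I.map (algebraMap R R')) • (⊤ : Submodule R' (R' ⊗[R] N)) := by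
  have hex := exact_baseChange (R' := R') (LinearMap.ker g).subtype g
    (LinearMap.exact_subtype_ker_map g) hg
  intro x hx
  have h1 : x ∈ LinearMap.range ((LinearMap.ker g).subtype.baseChange R') :=
    (hex x).mp hx
  refine range_baseChange_le I _ ?_ h1
  rw [Submodule.range_subtype]
  exact hk

end bc

section main

variable {R R' : Type u} [CommRing R] [CommRing R'] [Algebra R R'] [Module.Flat R R']
  [IsLocalRing R] [IsNoetherianRing R]

/-- top case of Herzog's argument: a finite module whose base change carries the full regular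
sequence is free -/
theorem free_of_isWeaklyRegular_baseChange
    (X : List R') (s : R')
    (hs1 : ∀ a ∈ (maximalIdeal R).map (algebraMap R R'), a * s ∈ Ideal.ofList X)
    (hs2 : s ∉ Ideal.ofList X ⊔ (maximalIdeal R).map (algebraMap R R'))
    (Z : Type u) [AddCommGroup Z] [Module R Z] [Module.Finite R Z]
    (hZ : IsWeaklyRegular (R' ⊗[R] Z) X) : Module.Free R Z := by
  obtain ⟨n, b, hb, hK⟩ := Groth.Agent.Helper13Frob.exists_minimal_cover (R := R) Z
  obtain ⟨m, b1, hb1, hK1⟩ := Groth.Agent.Helper13Frob.exists_minimal_cover (R := R)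
    (LinearMap.ker (Fintype.linearCombination R b))
  have hm : m = 0 := by
    by_contra hm0
    have i : Fin m := ⟨0, Nat.pos_of_ne_zero hm0⟩
    refine top_case (A := R')
      ((LinearMap.ker (Fintype.linearCombination R b)).subtype.baseChange R')
      ((Fintype.linearCombination R b).baseChange R')
      (injective_baseChange _ (Submodule.injective_subtype _))
      (surjective_baseChange _ hb)
      (exact_baseChange _ _ (LinearMap.exact_subtype_ker_map _) hb)
      ((Fintype.linearCombination R b1).baseChange R')
      (surjective_baseChange _ hb1) X hZ s _ hs1 hs2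
      (range_baseChange_le _ _ ?_) (ker_baseChange_le _ _ hb1 hK1)
      ((1 : R') ⊗ₜ[R] (Pi.single i (1 : R) : Fin m → R))
      ((TensorProduct.AlgebraTensorModule.rid R R' R').toLinearMap ∘ₗ
        (LinearMap.proj i : (Fin m → R) →ₗ[R] R).baseChange R') ?_
    · rw [Submodule.range_subtype]
      exact hK
    · simp
  subst hm
  have hker : LinearMap.ker (Fintype.linearCombination R b) = ⊥ := by
    rw [eq_bot_iff]
    intro k hk
    obtain ⟨v, hv⟩ := hb1 ⟨k, hk⟩
    have hv0 : v = 0 := Subsingleton.elim _ _
    rw [hv0, map_zero] at hv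
    have := congrArg Subtype.val hv
    simpa using this.symm
  exact Module.Free.of_equiv
    (LinearEquiv.ofBijective _ ⟨LinearMap.ker_eq_bot.mp hker, hb⟩)

theorem isWeaklyRegular_baseChange_pi (X : List R') (hX : IsWeaklyRegular R' X) (n : ℕ) :
    IsWeaklyRegular (R' ⊗[R] (Fin n → R)) X := by
  have h1 := hX.isWeaklyRegular_lTensor (M₂ := R' ⊗[R] (Fin n → R))
  exact (LinearEquiv.isWeaklyRegular_congr (TensorProduct.rid R' (R' ⊗[R] (Fin n → R))) X).mp h1

theorem hasProjectiveDimensionLT_aux
    (X : List R') (hX : IsWeaklyRegular R' X) (s : R')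
    (hs1 : ∀ a ∈ (maximalIdeal R).map (algebraMap R R'), a * s ∈ Ideal.ofList X)
    (hs2 : s ∉ Ideal.ofList X ⊔ (maximalIdeal R).map (algebraMap R R')) (d : ℕ) :
    d ≤ X.length → ∀ (Z : Type u) [AddCommGroup Z] [Module R Z] [Module.Finite R Z],
      IsWeaklyRegular (R' ⊗[R] Z) (X.take (X.length - d)) →
      HasProjectiveDimensionLT (ModuleCat.of R Z) (d + 1) := by
  induction d with
  | zero =>
    intro _ Z _ _ _ hZ
    rw [Nat.sub_zero, List.take_length] at hZ
    have := free_of_isWeaklyRegular_baseChange X s hs1 hs2 Z hZ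
    exact (Groth.Agent.Lib.Helper21.PdLoc.pdLT_one_iff Z).mpr inferInstance
  | succ d ih =>
    intro hd Z _ _ _ hZ
    obtain ⟨n, g, hg⟩ := Module.Finite.exists_fin' R Z
    have hstep := isWeaklyRegular_take_succ (A := R')
      ((LinearMap.ker g).subtype.baseChange R') (g.baseChange R')
      (injective_baseChange _ (Submodule.injective_subtype _))
      (surjective_baseChange _ hg)
      (exact_baseChange _ _ (LinearMap.exact_subtype_ker_map _) hg) X
      (isWeaklyRegular_baseChange_pi X hX n) _ hZ
    have he : X.length - (d + 1) + 1 = X.length - d := by omega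
    rw [he] at hstep
    have h1 := ih (by omega) (LinearMap.ker g) hstep
    exact (Groth.Agent.Lib.Helper21.PdLoc.pdLT_succ_iff_of_ses (LinearMap.ker g).subtype g
      (Submodule.injective_subtype _) hg (LinearMap.exact_subtype_ker_map g) d).mpr h1

end main

/-- **Herzog's lemma.** -/
theorem hasProjectiveDimensionLT_of_ringHom_flat {R R' : Type u} [CommRing R] [CommRing R']
    [IsLocalRing R] [IsNoetherianRing R] (φ : R →+* R') (hφ : φ.Flat)
    (X : List R') (hX : IsWeaklyRegular R' X) (s : R')
    (hs1 : ∀ a ∈ (maximalIdeal R).map φ, a * s ∈ Ideal.ofList X)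
    (hs2 : s ∉ Ideal.ofList X ⊔ (maximalIdeal R).map φ)
    (Z : Type u) [AddCommGroup Z] [Module R Z] [Module.Finite R Z] :
    HasProjectiveDimensionLT (ModuleCat.of R Z) (X.length + 1) := by
  letI := φ.toAlgebra
  haveI : Module.Flat R R' := hφ
  refine hasProjectiveDimensionLT_aux X hX s hs1 hs2 X.length le_rfl Z ?_
  rw [Nat.sub_self, List.take_zero]
  exact IsWeaklyRegular.nil R' _

end Groth.Agent.Lib.LeadKz
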