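import Mathlib
import Groth.Agent.Lib.LeadKzb
import Groth.Agent.Lib.Helper28SerreConv
import Groth.Agent.Lib.Helper5RLR3
import Groth.Agent.S2082

/-!
# Kunz's theorem (lead)

A Noetherian ring of prime characteristic is regular iff its Frobenius is flat.
-/

set_option autoImplicit false
set_option maxHeartbeats 400000
set_option linter.style.haveILetI false
set_option linter.unusedSectionVars false
set_option linter.unusedVariables false

universe u

namespace Groth.Agent.Lib.LeadKz

open RingTheory.Sequence IsLocalRing Function CategoryTheory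

section loc

variable (p : ℕ) [Fact p.Prime] (R : Type u) [CommRing R] [CharP R p]

theorem iterateFrobenius_flat (hF : (frobenius R p).Flat) (n : ℕ) :
    (iterateFrobenius R p n).Flat := by
  induction n with
  | zero =>
    rw [iterateFrobenius_zero]
    exact RingHom.Flat.id R
  | succ n ih =>
    rw [iterateFrobenius_add, iterateFrobenius_one]
    exact hF.comp ih

/-- **Kunz, hard direction (local).** -/
theorem isRegularLocalRing_of_frobenius_flat [IsLocalRing R] [IsNoetherianRing R]
    (hF : (frobenius R p).Flat) : IsRegularLocalRing R := by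
  obtain ⟨X, s, hXm, hX, hsX, hsoc⟩ := exists_socle R
  obtain ⟨N, hN⟩ := exists_pow_notMem R (Ideal.ofList X) s hsX
  have hφ := iterateFrobenius_flat p R hF N
  have hle : (maximalIdeal R).map (iterateFrobenius R p N) ≤ maximalIdeal R ^ (p ^ N) := by
    rw [Ideal.map_le_iff_le_comap]
    intro a ha
    rw [Ideal.mem_comap, iterateFrobenius_def]
    exact Ideal.pow_mem_pow ha _
  have hp1 : 1 < p := (Fact.out : p.Prime).one_lt
  have hpN : N ≤ p ^ N := (Nat.lt_pow_self hp1).le
  have h1 : (maximalIdeal R).map (iterateFrobenius R p N) ≤ maximalIdeal R :=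
    hle.trans (Ideal.pow_le_self (pow_ne_zero _ (by omega)))
  have h2 : (maximalIdeal R).map (iterateFrobenius R p N) ≤ maximalIdeal R ^ N :=
    hle.trans (Ideal.pow_le_pow_right hpN)
  have h3 := hasProjectiveDimensionLT_of_ringHom_flat (iterateFrobenius R p N) hφ X hX s
    (fun a ha => hsoc a (h1 ha)) (fun h => hN (sup_le_sup_left h2 _ h)) (ResidueField R)
  exact Groth.Agent.Lib.Helper28.isRegularLocalRing_of_hasProjectiveDimensionLT_residueField R _ h3

/-- **Kunz, easy direction (local)**, via miracle flatness. -/
theorem frobenius_flat_of_isRegularLocalRing [IsRegularLocalRing R] :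
    (frobenius R p).Flat := by
  have hp0 : 0 < p := (Fact.out : p.Prime).pos
  letI alg : Algebra R R := (frobenius R p).toAlgebra
  have hloc : IsLocalHom (algebraMap R R) := by
    refine ⟨fun a ha => ?_⟩
    have h1 : algebraMap R R a = a ^ p := rfl
    rw [h1] at ha
    exact (isUnit_pow_iff hp0.ne').mp ha
  have hCM : LocCoh.IsCohenMacaulayLocalRing R :=
    Groth.Agent.Lib.Helper5.isCohenMacaulayLocalRing_of_isRegularLocalRing R
  have hJ : (maximalIdeal R).map (algebraMap R R) ≤ maximalIdeal R := by
    rw [Ideal.map_le_iff_le_comap]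
    intro a ha
    rw [Ideal.mem_comap]
    have h1 : algebraMap R R a = a ^ p := rfl
    rw [h1]
    exact Ideal.pow_mem_of_mem _ ha _ hp0
  have hdim0 : ringKrullDim (R ⧸ (maximalIdeal R).map (algebraMap R R)) = 0 := by
    haveI : Nontrivial (R ⧸ (maximalIdeal R).map (algebraMap R R)) :=
      Ideal.Quotient.nontrivial_iff.mpr
        (fun h => (Ideal.IsPrime.ne_top inferInstance : maximalIdeal R ≠ ⊤)
          (top_le_iff.mp (h ▸ hJ)))
    rw [← ringKrullDimZero_iff_ringKrullDim_eq_zero,
      Ideal.krullDimLE_zero_quotient_iff_forall_minimalPrimes_isMaximal]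
    intro J hJm
    have hJp : J.IsPrime := hJm.1.1
    have hle : maximalIdeal R ≤ J := by
      intro a ha
      have h1 : a ^ p ∈ J := hJm.1.2 (Ideal.mem_map_of_mem (algebraMap R R) ha)
      exact hJp.mem_of_pow_mem _ h1
    have : J = maximalIdeal R := le_antisymm (IsLocalRing.le_maximalIdeal hJp.ne_top) hle
    rw [this]
    infer_instance
  have hdim : ringKrullDim R = ringKrullDim R +
      ringKrullDim (R ⧸ (maximalIdeal R).map (algebraMap R R)) := by
    rw [hdim0, add_zero]
  exact @Groth.Agent.S2082.result R R _ _ _ hCM alg hloc hdim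

end loc

section glob

variable (p : ℕ) [Fact p.Prime] (R : Type u) [CommRing R] [CharP R p]

theorem charP_localization (P : Ideal R) [P.IsPrime] : CharP (Localization.AtPrime P) p := by
  rw [CharP.charP_iff_prime_eq_zero (Fact.out : p.Prime)]
  rw [← map_natCast (algebraMap R (Localization.AtPrime P)), CharP.cast_eq_zero R p, map_zero]

theorem comap_frobenius (P : Ideal R) [hP : P.IsPrime] : Ideal.comap (frobenius R p) P = P := by
  ext x
  rw [Ideal.mem_comap, frobenius_def]
  exact hP.pow_mem_iff_mem _ (Fact.out : p.Prime).pos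

theorem localRingHom_frobenius (P : Ideal R) [P.IsPrime] [CharP (Localization.AtPrime P) p]
    (h : P = Ideal.comap (frobenius R p) P) :
    Localization.localRingHom P P (frobenius R p) h = frobenius (Localization.AtPrime P) p := by
  apply IsLocalization.ringHom_ext P.primeCompl
  ext x
  rw [RingHom.comp_apply, RingHom.comp_apply, Localization.localRingHom_to_map, frobenius_def,
    frobenius_def, map_pow]

end glob

end Groth.Agent.Lib.LeadKz
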