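import Mathlib
import Groth.Agent.Lib.LeadHuShA
import Groth.Agent.Lib.LeadKzc
import Groth.Agent.Lib.Helper5GorArt
import Groth.Agent.S0344
import Groth.Agent.S0342
import Groth.Agent.S0300
import Groth.Agent.S5168

/-!
# Frobenius-stable torsion modules over regular local rings are injective (lead)
-/

set_option autoImplicit false
set_option maxHeartbeats 400000
set_option linter.style.haveILetI false
set_option linter.unusedSectionVars false
set_option linter.unusedVariables false

universe u

namespace Groth.Agent.Lib.LeadHuSh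

open IsLocalRing CategoryTheory

section frob

variable (p : ℕ) [Fact p.Prime] (R : Type u) [CommRing R] [CharP R p]

/-- The Frobenius power `m^[p^n]` of the maximal ideal. -/
def JF [IsLocalRing R] (n : ℕ) : Ideal R := (maximalIdeal R).map (iterateFrobenius R p n)

theorem JF_zero [IsLocalRing R] : JF p R 0 = maximalIdeal R := by
  unfold JF
  rw [iterateFrobenius_zero]
  exact Ideal.map_id _

theorem JF_succ [IsLocalRing R] (n : ℕ) :
    JF p R (n + 1) = (JF p R n).map (frobenius R p) := by
  unfold JF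
  rw [Ideal.map_map, add_comm, iterateFrobenius_add, iterateFrobenius_one]

theorem JF_le_pow [IsLocalRing R] (n : ℕ) : JF p R n ≤ maximalIdeal R ^ (p ^ n) := by
  unfold JF
  rw [Ideal.map_le_iff_le_comap]
  intro a ha
  rw [Ideal.mem_comap, iterateFrobenius_def]
  exact Ideal.pow_mem_pow ha _

theorem JF_le [IsLocalRing R] (n : ℕ) : JF p R n ≤ maximalIdeal R := by
  have hp0 : 0 < p := (Fact.out : p.Prime).pos
  exact (JF_le_pow p R n).trans (Ideal.pow_le_self (pow_ne_zero _ hp0.ne'))

theorem exists_JF_le_pow [IsLocalRing R] (k : ℕ) : ∃ n, JF p R n ≤ maximalIdeal R ^ k := by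
  have hp1 : 1 < p := (Fact.out : p.Prime).one_lt
  exact ⟨k, (JF_le_pow p R k).trans (Ideal.pow_le_pow_right (Nat.lt_pow_self hp1).le)⟩

theorem freeAt_frobenius_step (hF : (frobenius R p).Flat) (M : Type u) [AddCommGroup M]
    [Module R M]
    (h : Nonempty ((ModuleCat.extendScalars (frobenius R p)).obj (ModuleCat.of R M) ≅
      ModuleCat.of R M))
    (J : Ideal R) (hJ : J.FG) (hfree : FreeAt R J M) : FreeAt R (J.map (frobenius R p)) M := by
  obtain ⟨e⟩ := h
  letI alg : Algebra R R := (frobenius R p).toAlgebra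
  haveI hflat : @Module.Flat R R _ _ alg.toModule := hF
  have h1 := @FreeAt.baseChange R _ R _ alg M _ _ hflat J hJ hfree
  exact FreeAt.of_equiv e.toLinearEquiv h1

end frob

section ext

theorem freeAt_maximalIdeal (R : Type u) [CommRing R] [IsLocalRing R] (M : Type u)
    [AddCommGroup M] [Module R M] : FreeAt R (maximalIdeal R) M := by
  letI : Field (R ⧸ maximalIdeal R) := Ideal.Quotient.field (maximalIdeal R)
  let T := Submodule.torsionBySet R M (maximalIdeal R : Set R)
  let b := Module.Basis.ofVectorSpace (R ⧸ maximalIdeal R) T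
  let e : (Module.Basis.ofVectorSpaceIndex (R ⧸ maximalIdeal R) T →₀ R ⧸ maximalIdeal R) ≃ₗ[R] T :=
    b.repr.symm.restrictScalars R
  refine ⟨_, T.subtype ∘ₗ e.toLinearMap, T.subtype_injective.comp e.injective, ?_⟩
  rw [LinearMap.range_comp_of_range_eq_top _ (LinearMap.range_eq_top.mpr e.surjective),
    Submodule.range_subtype]

theorem exists_extension_of_freeAt {R : Type u} [CommRing R] (J : Ideal R)
    (hQ : ∀ ι : Type u, Module.Injective (R ⧸ J) (ι →₀ R ⧸ J))
    (M : Type u) [AddCommGroup M] [Module R M] (hfree : FreeAt R J M)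
    (M' : Type u) [AddCommGroup M'] [Module R M']
    (hM' : Module.IsTorsionBySet R M' (J : Set R))
    (N : Submodule R M') (g : N →ₗ[R] M) : ∃ g' : M' →ₗ[R] M, g' ∘ₗ N.subtype = g := by
  obtain ⟨ι, φ, hφ, hr⟩ := hfree
  have hN : Module.IsTorsionBySet R N (J : Set R) := fun x a => Subtype.ext (hM' (x := x.1) (a := a))
  have hg : ∀ x, g x ∈ LinearMap.range φ := by
    intro x
    rw [hr, Submodule.mem_torsionBySet_iff]
    intro a
    rw [← map_smul, hN (x := x) (a := a), map_zero]
  let eφ := LinearEquiv.ofInjective φ hφ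
  let g₁ : N →ₗ[R] (ι →₀ R ⧸ J) := eφ.symm.toLinearMap ∘ₗ g.codRestrict (LinearMap.range φ) hg
  have hg₁ : ∀ x, φ (g₁ x) = g x := by
    intro x
    have h1 : (eφ (g₁ x) : M) = g x := by
      simp only [g₁, LinearMap.comp_apply, LinearEquiv.coe_coe, LinearEquiv.apply_symm_apply]
      rfl
    rw [← h1]
    rfl
  letI modM' : Module (R ⧸ J) M' := hM'.module
  letI modN : Module (R ⧸ J) N := hN.module
  have hsurj : Function.Surjective (algebraMap R (R ⧸ J)) := Ideal.Quotient.mk_surjective
  let i' : N →ₗ[R ⧸ J] M' := N.subtype.extendScalarsOfSurjective hsurj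
  let g₁' : N →ₗ[R ⧸ J] (ι →₀ R ⧸ J) := g₁.extendScalarsOfSurjective hsurj
  have hbaer : Module.Baer (R ⧸ J) (ι →₀ R ⧸ J) := Module.Baer.of_injective (hQ ι)
  obtain ⟨h, hh⟩ := hbaer.extension_property i' Subtype.val_injective g₁'
  refine ⟨φ ∘ₗ (h.restrictScalars R), ?_⟩
  ext x
  have := LinearMap.congr_fun hh x
  simp only [LinearMap.comp_apply, Submodule.subtype_apply, LinearMap.restrictScalars_apply]
  rw [← hg₁ x]
  congr 1

end ext

section gor

variable (p : ℕ) [Fact p.Prime] (R : Type u) [CommRing R] [IsRegularLocalRing R] [CharP R p]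

theorem maximalIdeal_mem_minimalPrimes_JF (n : ℕ) :
    maximalIdeal R ∈ (JF p R n).minimalPrimes := by
  refine ⟨⟨inferInstance, JF_le p R n⟩, fun q hq _ => ?_⟩
  intro a ha
  have h1 : a ^ p ^ n ∈ q := hq.2 (Ideal.mem_map_of_mem (iterateFrobenius R p n) ha)
  exact hq.1.mem_of_pow_mem _ h1

theorem isGorenstein_quot_JF (n : ℕ) : LocCoh.IsGorensteinLocalRing (R ⧸ JF p R n) := by
  have hp0 : 0 < p := (Fact.out : p.Prime).pos
  letI alg : Algebra R R := (iterateFrobenius R p n).toAlgebra
  have hloc : IsLocalHom (algebraMap R R) := by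
    refine ⟨fun a ha => ?_⟩
    have h1 : algebraMap R R a = a ^ p ^ n := rfl
    rw [h1] at ha
    exact (isUnit_pow_iff (pow_ne_zero _ hp0.ne')).mp ha
  have hflat : @Module.Flat R R _ _ alg.toModule :=
    Groth.Agent.Lib.LeadKz.iterateFrobenius_flat p R
      (Groth.Agent.Lib.LeadKz.frobenius_flat_of_isRegularLocalRing p R) n
  have hG : LocCoh.IsGorensteinLocalRing R := Groth.Agent.S0342.result R
  exact ((@Groth.Agent.S0344.result R _ _ _ R _ _ _ alg hloc hflat).mp hG).2

theorem injective_finsupp_quot_JF (n : ℕ) (ι : Type u) :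
    Module.Injective (R ⧸ JF p R n) (ι →₀ R ⧸ JF p R n) := by
  haveI hG := isGorenstein_quot_JF p R n
  haveI : IsLocalRing (R ⧸ JF p R n) := hG.toIsLocalRing
  haveI : IsNoetherianRing (R ⧸ JF p R n) := inferInstance
  haveI : IsArtinianRing (R ⧸ JF p R n) :=
    IsLocalRing.quotient_artinian_of_mem_minimalPrimes_of_isLocalRing _
      (maximalIdeal_mem_minimalPrimes_JF p R n)
  have hself : Module.Injective (R ⧸ JF p R n) (R ⧸ JF p R n) :=
    Groth.Agent.Lib.Helper5.GorArt.injective_of_T1
      (Groth.Agent.Lib.Helper5.GorArt.T1_of_gor (R ⧸ JF p R n))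
  have hsum := Groth.Agent.S0300.result (R ⧸ JF p R n) (ι := ι)
    (fun _ => R ⧸ JF p R n) (fun _ => hself)
  classical
  exact (Module.Baer.of_equiv (finsuppLEquivDirectSum (R ⧸ JF p R n) (R ⧸ JF p R n) ι).symm
    (Module.Baer.of_injective hsum)).injective

/-- Over a regular local ring of characteristic `p`, an `m`-power torsion module isomorphic to its
Frobenius pullback is injective. -/
theorem injective_of_frobenius_stable (M : Type u) [AddCommGroup M] [Module R M]
    (hM : LocCoh.IsPowerTorsion (maximalIdeal R) M)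
    (h : Nonempty ((ModuleCat.extendScalars (frobenius R p)).obj (ModuleCat.of R M) ≅
      ModuleCat.of R M)) :
    Module.Injective R M := by
  have hF := Groth.Agent.Lib.LeadKz.frobenius_flat_of_isRegularLocalRing p R
  have hfree : ∀ n, FreeAt R (JF p R n) M := by
    intro n
    induction n with
    | zero =>
      rw [JF_zero]
      exact freeAt_maximalIdeal R M
    | succ n ih =>
      rw [JF_succ]
      exact freeAt_frobenius_step p R hF M h _ (IsNoetherian.noetherian _) ih
  rw [Groth.Agent.S5168.result R (maximalIdeal R) M hM]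
  intro M' _ _ hfin hk N g
  obtain ⟨k, hk⟩ := hk
  obtain ⟨n, hn⟩ := exists_JF_le_pow p R k
  have hM' : Module.IsTorsionBySet R M' (JF p R n : Set R) := by
    intro x a
    have h1 : (a : R) • x ∈ (maximalIdeal R ^ k) • (⊤ : Submodule R M') :=
      Submodule.smul_mem_smul (hn a.2) Submodule.mem_top
    rw [hk] at h1
    exact (Submodule.mem_bot R).mp h1
  exact exists_extension_of_freeAt (JF p R n) (injective_finsupp_quot_JF p R n) M (hfree n)
    M' hM' N g

end gor

end Groth.Agent.Lib.LeadHuSh
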