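import Mathlib
import Groth.Agent.S0303
import Groth.Agent.S0307

/-!
# Torsion injective modules over a Noetherian local ring are sums of copies of `E(k)` (lead)
-/

set_option autoImplicit false
set_option maxHeartbeats 400000
set_option linter.style.haveILetI false
set_option linter.unusedSectionVars false
set_option linter.unusedVariables false

universe u

namespace Groth.Agent.Lib.LeadHuSh

open IsLocalRing

section socle

variable {R : Type u} [CommRing R] [IsLocalRing R]

/-- A nonzero `m`-power torsion module has a nonzero socle element. -/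
theorem exists_socle_element (N : Type u) [AddCommGroup N] [Module R N] [Nontrivial N]
    (hN : LocCoh.IsPowerTorsion (maximalIdeal R) N) :
    ∃ y : N, y ≠ 0 ∧ ∀ a ∈ maximalIdeal R, a • y = 0 := by
  classical
  obtain ⟨x, hx⟩ := exists_ne (0 : N)
  have hex := hN x
  have hn0 : Nat.find hex ≠ 0 := by
    intro h0
    have h1 := Nat.find_spec hex
    rw [h0, pow_zero] at h1
    exact hx (by simpa using h1 1 (by simp))
  obtain ⟨k, hk⟩ := Nat.exists_eq_succ_of_ne_zero hn0
  have hmin : ¬ ∀ a ∈ maximalIdeal R ^ k, a • x = 0 := Nat.find_min hex (by omega)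
  push Not at hmin
  obtain ⟨a, ha, hax⟩ := hmin
  refine ⟨a • x, hax, fun b hb => ?_⟩
  rw [smul_smul]
  have h1 := Nat.find_spec hex
  rw [hk] at h1
  apply h1
  rw [pow_succ']
  exact Ideal.mul_mem_mul hb ha

/-- A nonzero socle element gives an embedding of the residue field. -/
theorem exists_residueField_embedding (N : Type u) [AddCommGroup N] [Module R N] [Nontrivial N]
    (hN : LocCoh.IsPowerTorsion (maximalIdeal R) N) :
    ∃ φ : ResidueField R →ₗ[R] N, Function.Injective φ := by
  obtain ⟨y, hy0, hy⟩ := exists_socle_element N hN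
  let ψ : (R ⧸ maximalIdeal R) →ₗ[R] N :=
    Submodule.liftQ (maximalIdeal R) (LinearMap.toSpanSingleton R N y)
      (fun a ha => by
        rw [LinearMap.mem_ker, LinearMap.toSpanSingleton_apply]
        exact hy a ha)
  suffices hψ : Function.Injective ψ from ⟨ψ, hψ⟩
  rw [← LinearMap.ker_eq_bot, LinearMap.ker_eq_bot']
  intro z hz
  obtain ⟨a, rfl⟩ := Submodule.Quotient.mk_surjective _ z
  have h1 : ψ (Submodule.Quotient.mk a) = a • y := by
    show Submodule.liftQ _ _ _ (Submodule.Quotient.mk a) = _
    rw [Submodule.liftQ_apply, LinearMap.toSpanSingleton_apply]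
  rw [h1] at hz
  by_contra hne
  have ha : a ∉ maximalIdeal R := fun ha => hne ((Submodule.Quotient.mk_eq_zero _).mpr ha)
  have hu : IsUnit a := by
    by_contra h
    exact ha ((IsLocalRing.mem_maximalIdeal a).mpr h)
  obtain ⟨u, rfl⟩ := hu
  apply hy0
  have := congrArg (fun t => (↑u⁻¹ : R) • t) hz
  simpa [smul_smul] using this

end socle

section main

variable (R : Type u) [CommRing R] [IsLocalRing R] [IsNoetherianRing R]
  (E : Type u) [AddCommGroup E] [Module R E] (f : ResidueField R →ₗ[R] E)
  (hf : InjHull.IsInjectiveHull f)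

include hf in
/-- An indecomposable injective `m`-power torsion module is isomorphic to the hull `E` of `k`. -/
theorem nonempty_equiv_of_indecomposable (N : Type u) [AddCommGroup N] [Module R N]
    (hN : LocCoh.IsPowerTorsion (maximalIdeal R) N) (hind : InjHull.IsIndecomposable R N)
    (hinj : Module.Injective R N) : Nonempty (E ≃ₗ[R] N) := by
  haveI := hind.1
  obtain ⟨φ, hφ⟩ := exists_residueField_embedding N hN
  obtain ⟨α, hα, -, I', hI'⟩ := Groth.Agent.S0303.result R (ResidueField R) E N f hf φ hφ hinj
  have hne : LinearMap.range α ≠ ⊥ := by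
    intro h
    have h1 : f 1 ≠ 0 := fun h0 => one_ne_zero (hf.injective (h0.trans (map_zero f).symm))
    have h2 : α (f 1) ∈ LinearMap.range α := ⟨_, rfl⟩
    rw [h, Submodule.mem_bot] at h2
    exact h1 (hα (h2.trans (map_zero α).symm))
  rcases hind.2 _ _ hI' with h | h
  · exact absurd h hne
  · have htop : LinearMap.range α = ⊤ := by
      have := hI'.sup_eq_top
      rwa [h, sup_bot_eq] at this
    exact ⟨LinearEquiv.ofBijective α ⟨hα, LinearMap.range_eq_top.mp htop⟩⟩

include hf in
/-- An injective `m`-power torsion module over a Noetherian local ring is a direct sum of copies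
of the injective hull of the residue field. -/
theorem exists_equiv_finsupp (M : Type u) [AddCommGroup M] [Module R M]
    (hM : LocCoh.IsPowerTorsion (maximalIdeal R) M) (hinj : Module.Injective R M) :
    ∃ ι : Type u, Nonempty (M ≃ₗ[R] (ι →₀ E)) := by
  classical
  obtain ⟨ι, Es, hint, hEs⟩ := Groth.Agent.S0307.result R M hinj
  have hsub : ∀ i, LocCoh.IsPowerTorsion (maximalIdeal R) (Es i) := by
    intro i x
    obtain ⟨n, hn⟩ := hM x.1
    exact ⟨n, fun a ha => Subtype.ext (hn a ha)⟩
  have he : ∀ i, Nonempty (E ≃ₗ[R] Es i) := fun i =>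
    nonempty_equiv_of_indecomposable R E f hf (Es i) (hsub i) (hEs i).1 (hEs i).2
  let e : ∀ i, E ≃ₗ[R] Es i := fun i => (he i).some
  refine ⟨ι, ⟨?_⟩⟩
  exact (LinearEquiv.ofBijective (DirectSum.coeLinearMap Es) hint).symm ≪≫ₗ
    (DFinsupp.mapRange.linearEquiv (fun i => (e i).symm)) ≪≫ₗ
    (finsuppLEquivDirectSum R E ι).symm

end main

end Groth.Agent.Lib.LeadHuSh
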