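import Mathlib
import Groth.Agent.Lib.LeadTrivDef

/-!
# Ring-level deformations over augmented rings: morphisms are isomorphisms, bases lift,
and gluing over fibre products of rings (for S12308)
-/

set_option autoImplicit false
set_option maxHeartbeats 400000
set_option linter.style.haveILetI false
set_option linter.unusedSectionVars false
set_option linter.unusedVariables false

universe u

namespace Groth.Agent.Lib.LeadHull

open Groth.Agent.Lib.LeadTrivDef

variable {k B₀ : Type u} [Field k] [CommRing B₀]

/-- a ring-level deformation of `B₀` over the augmented ring `(A, r)`. -/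
structure DefRing {A : Type u} [CommRing A] (r : A →+* k) (κ : k →+* B₀) : Type (u + 1) where
  E : Type u
  [commRing : CommRing E]
  γ : A →+* E
  π : E →+* B₀
  π_γ : ∀ a, π (γ a) = κ (r a)
  π_surj : Function.Surjective π
  ker_π : ∀ e, π e = 0 → e ∈ (RingHom.ker r).map γ
  flat : γ.Flat

instance {A : Type u} [CommRing A] {r : A →+* k} {κ : k →+* B₀} (D : DefRing r κ) :
    CommRing D.E := D.commRing

namespace DefRing

section basic

variable {A : Type u} [CommRing A] {r : A →+* k} {κ : k →+* B₀}

theorem π_eq_zero_of_mem (D : DefRing r κ) {e : D.E} (he : e ∈ (RingHom.ker r).map D.γ) :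
    D.π e = 0 := by
  have hle : (RingHom.ker r).map D.γ ≤ RingHom.ker D.π := by
    rw [Ideal.map_le_iff_le_comap]
    intro a ha
    rw [Ideal.mem_comap, RingHom.mem_ker, D.π_γ, RingHom.mem_ker.mp ha, map_zero]
  exact RingHom.mem_ker.mp (hle he)

end basic

/-- a morphism of ring-level deformations over a ring map `g`. -/
structure Hom {A A' : Type u} [CommRing A] [CommRing A'] {r : A →+* k} {r' : A' →+* k}
    {κ : k →+* B₀} (g : A →+* A') (D : DefRing r κ) (D' : DefRing r' κ) where
  G : D.E →+* D'.E
  G_γ : ∀ a, G (D.γ a) = D'.γ (g a)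
  π_G : ∀ e, D'.π (G e) = D.π e

section bij

variable {A : Type u} [CommRing A] {r : A →+* k} {κ : k →+* B₀}

/-- **a morphism of deformations over the same base is an isomorphism.** -/
theorem Hom.bijective (hnil : IsNilpotent (RingHom.ker r)) {D D' : DefRing r κ}
    (h : Hom (RingHom.id A) D D') : Function.Bijective h.G := by
  letI : Algebra A D.E := D.γ.toAlgebra
  letI : Algebra A D'.E := D'.γ.toAlgebra
  haveI : Module.Flat A D'.E := D'.flat
  obtain ⟨f, hf⟩ : ∃ f : D.E →ₗ[A] D'.E, ∀ e, f e = h.G e := by
    refine ⟨{ toFun := h.G, map_add' := map_add _, map_smul' := fun a e => ?_ }, fun e => rfl⟩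
    rw [Algebra.smul_def, Algebra.smul_def, map_mul, RingHom.id_apply]
    congr 1
    exact h.G_γ a
  have hb := bijective_of_flat_of_nilpotent (RingHom.ker r) hnil f ?_ ?_
  · refine ⟨fun x y hxy => hb.1 ((hf x).trans (hxy.trans (hf y).symm)), fun y => ?_⟩
    obtain ⟨x, hx⟩ := hb.2 y
    exact ⟨x, (hf x).symm.trans hx⟩
  · intro n
    obtain ⟨m, hm⟩ := D.π_surj (D'.π n)
    refine ⟨m, ?_⟩
    rw [Ideal.smul_top_eq_map]
    change n - f m ∈ (RingHom.ker r).map D'.γ
    apply D'.ker_π
    rw [map_sub, hf, h.π_G, hm, sub_self]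
  · intro m hm
    rw [Ideal.smul_top_eq_map] at hm ⊢
    have hm' : f m ∈ (RingHom.ker r).map D'.γ := hm
    have h0 : D'.π (f m) = 0 := D'.π_eq_zero_of_mem hm'
    rw [hf, h.π_G] at h0
    exact D.ker_π m h0

end bij

section basis

variable {A : Type u} [CommRing A] {r : A →+* k} {κ : k →+* B₀}
  (D : DefRing r κ) {S : Type u} (b : S → B₀) (e : S → D.E)

/-- linear combinations of a family in a deformation. -/
noncomputable def comb (c : S →₀ A) : D.E := c.sum (fun s a => D.γ a * e s)

theorem π_comb (he : ∀ s, D.π (e s) = b s) (c : S →₀ A) :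
    D.π (D.comb e c) = (c.mapRange r (map_zero r)).sum (fun s x => κ x * b s) := by
  unfold comb
  rw [map_finsuppSum, Finsupp.sum_mapRange_index (fun s => by rw [map_zero, zero_mul])]
  refine Finsupp.sum_congr (fun s _ => ?_)
  rw [map_mul, D.π_γ, he]

theorem comb_add (c c' : S →₀ A) : D.comb e (c + c') = D.comb e c + D.comb e c' := by
  unfold comb
  exact Finsupp.sum_add_index' (fun s => by rw [map_zero, zero_mul])
    (fun s a a' => by rw [map_add, add_mul])

theorem comb_single (s : S) (a : A) : D.comb e (Finsupp.single s a) = D.γ a * e s := by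
  unfold comb
  exact Finsupp.sum_single_index (by rw [map_zero, zero_mul])

variable (hr : Function.Surjective r) (hnil : IsNilpotent (RingHom.ker r))
  (hsp : ∀ y : B₀, ∃ c : S →₀ k, c.sum (fun s x => κ x * b s) = y)
  (hli : ∀ c : S →₀ k, c.sum (fun s x => κ x * b s) = 0 → c = 0)
  (he : ∀ s, D.π (e s) = b s)

include hr hnil hsp hli he in
/-- **lifts of a basis of the closed fibre form a basis of a deformation.** -/
theorem comb_bijective : Function.Bijective (D.comb e) := by
  letI : Algebra A D.E := D.γ.toAlgebra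
  haveI : Module.Flat A D.E := D.flat
  have hf : ∀ c, Finsupp.linearCombination A e c = D.comb e c := fun c => by
    rw [Finsupp.linearCombination_apply]
    unfold comb
    refine Finsupp.sum_congr (fun s _ => ?_)
    rw [Algebra.smul_def]
    rfl
  have hb := bijective_of_flat_of_nilpotent (RingHom.ker r) hnil
    (Finsupp.linearCombination A e) ?_ ?_
  · refine ⟨fun x y hxy => hb.1 ((hf x).trans (hxy.trans (hf y).symm)), fun y => ?_⟩
    obtain ⟨x, hx⟩ := hb.2 y
    exact ⟨x, (hf x).symm.trans hx⟩
  · intro n
    obtain ⟨c, hc⟩ := hsp (D.π n)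
    obtain ⟨m, hm⟩ := Finsupp.mapRange_surjective r (map_zero r) hr c
    refine ⟨m, ?_⟩
    rw [Ideal.smul_top_eq_map]
    change n - Finsupp.linearCombination A e m ∈ (RingHom.ker r).map D.γ
    apply D.ker_π
    rw [map_sub, hf, D.π_comb b e he, hm, hc, sub_self]
  · intro m hm
    rw [Ideal.smul_top_eq_map] at hm
    have hm' : Finsupp.linearCombination A e m ∈ (RingHom.ker r).map D.γ := hm
    have h0 : D.π (Finsupp.linearCombination A e m) = 0 := D.π_eq_zero_of_mem hm'
    rw [hf, D.π_comb b e he] at h0
    have h1 := hli _ h0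
    have hm0 : ∀ s, r (m s) = 0 := fun s => by
      have := DFunLike.congr_fun h1 s
      simpa using this
    rw [← Finsupp.sum_single m]
    unfold Finsupp.sum
    refine Submodule.sum_mem _ (fun s _ => ?_)
    have h2 : Finsupp.single s (m s) = (m s) • Finsupp.single s (1 : A) := by
      rw [Finsupp.smul_single, smul_eq_mul, mul_one]
    rw [h2]
    exact Submodule.smul_mem_smul (RingHom.mem_ker.mpr (hm0 s)) Submodule.mem_top

end basis

end DefRing

end Groth.Agent.Lib.LeadHull
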