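import Mathlib
import Groth.Agent.Lib.LeadHullA

/-!
# Gluing ring-level deformations over a fibre product of rings (for S12308)
-/

set_option autoImplicit false
set_option maxHeartbeats 400000
set_option linter.style.haveILetI false
set_option linter.unusedSectionVars false
set_option linter.unusedVariables false

universe u

namespace Groth.Agent.Lib.LeadHull

open DefRing

variable {k B₀ : Type u} [Field k] [CommRing B₀] {κ : k →+* B₀}

namespace DefRing

theorem comb_zero {A : Type u} [CommRing A] {r : A →+* k} (D : DefRing r κ) {S : Type u}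
    (e : S → D.E) : D.comb e 0 = 0 := by
  unfold comb
  exact Finsupp.sum_zero_index

theorem Hom.G_comb {A A' : Type u} [CommRing A] [CommRing A'] {r : A →+* k} {r' : A' →+* k}
    {g : A →+* A'} {D : DefRing r κ} {D' : DefRing r' κ} (h : Hom g D D') {S : Type u}
    (e : S → D.E) (c : S →₀ A) :
    h.G (D.comb e c) = D'.comb (fun s => h.G (e s)) (c.mapRange g (map_zero g)) := by
  unfold comb
  rw [map_finsuppSum, Finsupp.sum_mapRange_index (fun s => by rw [map_zero, zero_mul])]
  refine Finsupp.sum_congr (fun s _ => ?_)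
  rw [map_mul, h.G_γ]

end DefRing

section glue

variable {B A' A'' A : Type u} [CommRing B] [CommRing A'] [CommRing A''] [CommRing A]
  {rB : B →+* k} {r' : A' →+* k} {r'' : A'' →+* k} {r : A →+* k}
  (p' : B →+* A') (p'' : B →+* A'') {f' : A' →+* A} {f'' : A'' →+* A}
  {D' : DefRing r' κ} {D'' : DefRing r'' κ} {D : DefRing r κ}
  (u' : Hom f' D' D) (u'' : Hom f'' D'' D)

/-- the fibre product ring `E' ×_E E''`. -/
def glueRing : Subring (D'.E × D''.E) :=
  (u'.G.comp (RingHom.fst D'.E D''.E)).eqLocus (u''.G.comp (RingHom.snd D'.E D''.E))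

theorem mem_glueRing (y : D'.E × D''.E) : y ∈ glueRing u' u'' ↔ u'.G y.1 = u''.G y.2 := Iff.rfl

/-- the first projection. -/
def glueFst : glueRing u' u'' →+* D'.E := (RingHom.fst _ _).comp (Subring.subtype _)

/-- the second projection. -/
def glueSnd : glueRing u' u'' →+* D''.E := (RingHom.snd _ _).comp (Subring.subtype _)

theorem glue_ext {y z : glueRing u' u''} (h1 : glueFst u' u'' y = glueFst u' u'' z)
    (h2 : glueSnd u' u'' y = glueSnd u' u'' z) : y = z :=
  Subtype.ext (Prod.ext h1 h2)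

theorem glue_cond (y : glueRing u' u'') : u'.G (glueFst u' u'' y) = u''.G (glueSnd u' u'' y) :=
  y.2

variable (hw : ∀ b, f' (p' b) = f'' (p'' b))

/-- the structure map `B → E' ×_E E''`. -/
def glueγ : B →+* glueRing u' u'' :=
  RingHom.codRestrict ((D'.γ.comp p').prod (D''.γ.comp p'')) _ (fun b => by
    rw [mem_glueRing]
    change u'.G (D'.γ (p' b)) = u''.G (D''.γ (p'' b))
    rw [u'.G_γ, u''.G_γ, hw])

theorem glueFst_γ (b : B) : glueFst u' u'' (glueγ p' p'' u' u'' hw b) = D'.γ (p' b) := rfl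

theorem glueSnd_γ (b : B) : glueSnd u' u'' (glueγ p' p'' u' u'' hw b) = D''.γ (p'' b) := rfl

variable (hrf' : ∀ a, r (f' a) = r' a) (hrf'' : ∀ a, r (f'' a) = r'' a)
  (hrB : ∀ b, r' (p' b) = rB b)
  (hr' : Function.Surjective r') (hr'' : Function.Surjective r'') (hr : Function.Surjective r)
  (hnil' : IsNilpotent (RingHom.ker r')) (hnil'' : IsNilpotent (RingHom.ker r''))
  (hnil : IsNilpotent (RingHom.ker r))
  (hinj : ∀ b₁ b₂ : B, p' b₁ = p' b₂ → p'' b₁ = p'' b₂ → b₁ = b₂)
  (hsurj : ∀ (a' : A') (a'' : A''), f' a' = f'' a'' → ∃ b : B, p' b = a' ∧ p'' b = a'')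
  (hu'' : Function.Surjective u''.G)
  {S : Type u} (b : S → B₀)
  (hsp : ∀ y : B₀, ∃ c : S →₀ k, c.sum (fun s x => κ x * b s) = y)
  (hli : ∀ c : S →₀ k, c.sum (fun s x => κ x * b s) = 0 → c = 0)

include hw hrf' hrf'' hrB hr' hr'' hr hnil' hnil'' hnil hinj hsurj hu'' hsp hli in
set_option maxHeartbeats 1600000 in
/-- **the glued ring is a deformation over the fibre product** (kernel and flatness). -/
theorem glue_ker_flat :
    (∀ y : glueRing u' u'', D'.π (glueFst u' u'' y) = 0 →
      y ∈ (RingHom.ker rB).map (glueγ p' p'' u' u'' hw)) ∧ (glueγ p' p'' u' u'' hw).Flat := by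
  classical
  choose e' he' using fun s => D'.π_surj (b s)
  have heD : ∀ s, D.π (u'.G (e' s)) = b s := fun s => by rw [u'.π_G, he']
  choose e'' he'' using fun s => hu'' (u'.G (e' s))
  have hπ'' : ∀ s, D''.π (e'' s) = b s := fun s => by rw [← u''.π_G, he'', heD]
  have hb' := D'.comb_bijective b e' hr' hnil' hsp hli he'
  have hb'' := D''.comb_bijective b e'' hr'' hnil'' hsp hli hπ''
  have hbD := D.comb_bijective b (fun s => u'.G (e' s)) hr hnil hsp hli heD
  obtain ⟨n, hn1, hn2⟩ : ∃ n : S → glueRing u' u'',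
      (∀ s, glueFst u' u'' (n s) = e' s) ∧ (∀ s, glueSnd u' u'' (n s) = e'' s) :=
    ⟨fun s => ⟨(e' s, e'' s), (he'' s).symm⟩, fun s => rfl, fun s => rfl⟩
  obtain ⟨γN, hγN⟩ : ∃ γN : B →+* glueRing u' u'', γN = glueγ p' p'' u' u'' hw := ⟨_, rfl⟩
  have hγ1 : ∀ a, glueFst u' u'' (γN a) = D'.γ (p' a) := fun a => by rw [hγN]; rfl
  have hγ2 : ∀ a, glueSnd u' u'' (γN a) = D''.γ (p'' a) := fun a => by rw [hγN]; rfl
  have hfst : ∀ c : S →₀ B, glueFst u' u'' (c.sum fun s a => γN a * n s) =
      D'.comb e' (c.mapRange p' (map_zero p')) := by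
    intro c
    unfold comb
    rw [map_finsuppSum, Finsupp.sum_mapRange_index (fun s => by rw [map_zero, zero_mul])]
    refine Finsupp.sum_congr (fun s _ => ?_)
    rw [map_mul, hγ1, hn1]
  have hsnd : ∀ c : S →₀ B, glueSnd u' u'' (c.sum fun s a => γN a * n s) =
      D''.comb e'' (c.mapRange p'' (map_zero p'')) := by
    intro c
    unfold comb
    rw [map_finsuppSum, Finsupp.sum_mapRange_index (fun s => by rw [map_zero, zero_mul])]
    refine Finsupp.sum_congr (fun s _ => ?_)
    rw [map_mul, hγ2, hn2]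
  -- injectivity of coordinates
  have hinjN : ∀ c : S →₀ B, (c.sum fun s a => γN a * n s) = 0 → c = 0 := by
    intro c hc
    have h1 : c.mapRange p' (map_zero p') = 0 := by
      apply hb'.1
      rw [← hfst, hc, map_zero, comb_zero]
    have h2 : c.mapRange p'' (map_zero p'') = 0 := by
      apply hb''.1
      rw [← hsnd, hc, map_zero, comb_zero]
    ext s
    have h1s : p' (c s) = 0 := by simpa using DFunLike.congr_fun h1 s
    have h2s : p'' (c s) = 0 := by simpa using DFunLike.congr_fun h2 s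
    rw [Finsupp.coe_zero, Pi.zero_apply]
    exact hinj _ _ (h1s.trans (map_zero p').symm) (h2s.trans (map_zero p'').symm)
  -- surjectivity of coordinates
  have hsurjN : ∀ y : glueRing u' u'', ∃ c : S →₀ B, (c.sum fun s a => γN a * n s) = y := by
    intro y
    obtain ⟨c', hc'⟩ := hb'.2 (glueFst u' u'' y)
    obtain ⟨c'', hc''⟩ := hb''.2 (glueSnd u' u'' y)
    have hcc : c'.mapRange f' (map_zero f') = c''.mapRange f'' (map_zero f'') := by
      apply hbD.1
      have h1 := u'.G_comb e' c'
      have h2 := u''.G_comb e'' c''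
      rw [hc'] at h1
      rw [hc''] at h2
      have h3 : (fun s => u''.G (e'' s)) = fun s => u'.G (e' s) := funext he''
      rw [h3] at h2
      rw [← h1, ← h2]
      exact glue_cond u' u'' y
    have hcc' : ∀ s, f' (c' s) = f'' (c'' s) := fun s => by
      simpa using DFunLike.congr_fun hcc s
    choose bb hbb using fun s => hsurj (c' s) (c'' s) (hcc' s)
    have hsupp : ∀ s, bb s ≠ 0 → s ∈ c'.support ∪ c''.support := by
      intro s hs
      by_contra hns
      rw [Finset.mem_union, not_or, Finsupp.notMem_support_iff, Finsupp.notMem_support_iff] at hns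
      apply hs
      refine hinj _ _ ?_ ?_
      · rw [(hbb s).1, hns.1, map_zero]
      · rw [(hbb s).2, hns.2, map_zero]
    obtain ⟨c, hc⟩ : ∃ c : S →₀ B, ∀ s, c s = bb s :=
      ⟨Finsupp.onFinset (c'.support ∪ c''.support) bb hsupp, fun s => rfl⟩
    have hcp' : c.mapRange p' (map_zero p') = c' := by
      ext s
      rw [Finsupp.mapRange_apply, hc, (hbb s).1]
    have hcp'' : c.mapRange p'' (map_zero p'') = c'' := by
      ext s
      rw [Finsupp.mapRange_apply, hc, (hbb s).2]
    refine ⟨c, glue_ext u' u'' ?_ ?_⟩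
    · rw [hfst, hcp', hc']
    · rw [hsnd, hcp'', hc'']
  have hflat : γN.Flat := by
    letI : Algebra B (glueRing u' u'') := γN.toAlgebra
    have hlin : ∀ c, Finsupp.linearCombination B n c = c.sum fun s a => γN a * n s := fun c => by
      rw [Finsupp.linearCombination_apply]
      refine Finsupp.sum_congr (fun s _ => ?_)
      rw [Algebra.smul_def]
      rfl
    have hbij : Function.Bijective (Finsupp.linearCombination B n) := by
      refine ⟨?_, fun y => ?_⟩
      · rw [← LinearMap.ker_eq_bot, LinearMap.ker_eq_bot']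
        intro c hc
        rw [hlin] at hc
        exact hinjN c hc
      · obtain ⟨c, hc⟩ := hsurjN y
        exact ⟨c, (hlin c).trans hc⟩
    haveI : Module.Free B (glueRing u' u'') :=
      Module.Free.of_basis (Module.Basis.ofRepr (LinearEquiv.ofBijective _ hbij).symm)
    change Module.Flat B (glueRing u' u'')
    infer_instance
  rw [← hγN]
  refine ⟨fun y hy => ?_, hflat⟩
  obtain ⟨c, hc⟩ := hsurjN y
  have h0 : D'.π (glueFst u' u'' y) = 0 := hy
  rw [← hc, hfst, D'.π_comb b e' he'] at h0
  have h1 := hli _ h0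
  have hcs : ∀ s, rB (c s) = 0 := fun s => by
    have := DFunLike.congr_fun h1 s
    rw [← hrB]
    simpa using this
  rw [← hc]
  unfold Finsupp.sum
  refine Ideal.sum_mem _ (fun s _ => ?_)
  exact Ideal.mul_mem_right _ _ (Ideal.mem_map_of_mem _ (RingHom.mem_ker.mpr (hcs s)))

end glue

/-- a `k`-basis of `B₀`, in the form used by `comb_bijective`. -/
theorem exists_basis (κ : k →+* B₀) : ∃ (S : Type u) (b : S → B₀),
    (∀ y : B₀, ∃ c : S →₀ k, c.sum (fun s x => κ x * b s) = y) ∧
    (∀ c : S →₀ k, c.sum (fun s x => κ x * b s) = 0 → c = 0) := by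
  letI : Algebra k B₀ := κ.toAlgebra
  have hlin : ∀ c : (Module.Basis.ofVectorSpaceIndex k B₀) →₀ k,
      Finsupp.linearCombination k (Module.Basis.ofVectorSpace k B₀) c =
        c.sum (fun s x => κ x * (Module.Basis.ofVectorSpace k B₀) s) := fun c => by
    rw [Finsupp.linearCombination_apply]
    refine Finsupp.sum_congr (fun s _ => ?_)
    rw [Algebra.smul_def]
    rfl
  refine ⟨Module.Basis.ofVectorSpaceIndex k B₀, Module.Basis.ofVectorSpace k B₀, fun y => ?_,
    fun c hc => ?_⟩
  · exact ⟨(Module.Basis.ofVectorSpace k B₀).repr y,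
      (hlin _).symm.trans ((Module.Basis.ofVectorSpace k B₀).linearCombination_repr y)⟩
  · rw [← hlin] at hc
    exact (linearIndependent_iff.mp (Module.Basis.ofVectorSpace k B₀).linearIndependent) c hc

section glueDef

variable {B A' A'' A : Type u} [CommRing B] [CommRing A'] [CommRing A''] [CommRing A]
  {rB : B →+* k} {r' : A' →+* k} {r'' : A'' →+* k} {r : A →+* k}
  (p' : B →+* A') (p'' : B →+* A'') {f' : A' →+* A} {f'' : A'' →+* A}
  {D' : DefRing r' κ} {D'' : DefRing r'' κ} {D : DefRing r κ}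
  (u' : Hom f' D' D) (u'' : Hom f'' D'' D)
  (hw : ∀ b, f' (p' b) = f'' (p'' b))
  (hrf' : ∀ a, r (f' a) = r' a) (hrf'' : ∀ a, r (f'' a) = r'' a)
  (hrB : ∀ b, r' (p' b) = rB b)
  (hr' : Function.Surjective r') (hr'' : Function.Surjective r'') (hr : Function.Surjective r)
  (hnil' : IsNilpotent (RingHom.ker r')) (hnil'' : IsNilpotent (RingHom.ker r''))
  (hnil : IsNilpotent (RingHom.ker r))
  (hinj : ∀ b₁ b₂ : B, p' b₁ = p' b₂ → p'' b₁ = p'' b₂ → b₁ = b₂)
  (hsurj : ∀ (a' : A') (a'' : A''), f' a' = f'' a'' → ∃ b : B, p' b = a' ∧ p'' b = a'')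
  (hu'' : Function.Surjective u''.G)

/-- **the glued deformation over the fibre product.** -/
noncomputable def glueDef : DefRing rB κ where
  E := glueRing u' u''
  γ := glueγ p' p'' u' u'' hw
  π := D'.π.comp (glueFst u' u'')
  π_γ := fun a => by rw [RingHom.comp_apply, glueFst_γ, D'.π_γ, hrB]
  π_surj := fun y => by
    obtain ⟨y', hy'⟩ := D'.π_surj y
    obtain ⟨y'', hy''⟩ := hu'' (u'.G y')
    exact ⟨⟨(y', y''), hy''.symm⟩, hy'⟩
  ker_π := by
    obtain ⟨S, b, hsp, hli⟩ := exists_basis κ
    exact (glue_ker_flat p' p'' u' u'' hw hrf' hrf'' hrB hr' hr'' hr hnil' hnil'' hnil hinj hsurj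
      hu'' b hsp hli).1
  flat := by
    obtain ⟨S, b, hsp, hli⟩ := exists_basis κ
    exact (glue_ker_flat p' p'' u' u'' hw hrf' hrf'' hrB hr' hr'' hr hnil' hnil'' hnil hinj hsurj
      hu'' b hsp hli).2

/-- the projection of the glued deformation to the first factor. -/
noncomputable def glueHomFst :
    Hom p' (glueDef p' p'' u' u'' hw hrf' hrf'' hrB hr' hr'' hr hnil' hnil'' hnil hinj hsurj hu'')
      D' where
  G := glueFst u' u''
  G_γ := fun a => rfl
  π_G := fun y => rfl

/-- the projection of the glued deformation to the second factor. -/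
noncomputable def glueHomSnd :
    Hom p'' (glueDef p' p'' u' u'' hw hrf' hrf'' hrB hr' hr'' hr hnil' hnil'' hnil hinj hsurj hu'')
      D'' where
  G := glueSnd u' u''
  G_γ := fun a => rfl
  π_G := fun y => by
    change D''.π (glueSnd u' u'' y) = D'.π (glueFst u' u'' y)
    rw [← u''.π_G, ← glue_cond u' u'' y, u'.π_G]

/-- the universal property: a deformation over `B` mapping compatibly to `D'` and `D''` maps to
the glued deformation. -/
noncomputable def glueLift (M : DefRing rB κ) (w' : Hom p' M D') (w'' : Hom p'' M D'')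
    (hc : ∀ m, u'.G (w'.G m) = u''.G (w''.G m)) :
    Hom (RingHom.id B) M
      (glueDef p' p'' u' u'' hw hrf' hrf'' hrB hr' hr'' hr hnil' hnil'' hnil hinj hsurj hu'') where
  G := RingHom.codRestrict (w'.G.prod w''.G) (glueRing u' u'') (fun m => hc m)
  G_γ := fun a => by
    apply glue_ext u' u''
    · exact w'.G_γ a
    · exact w''.G_γ a
  π_G := fun m => w'.π_G m

end glueDef


end Groth.Agent.Lib.LeadHull
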