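import Mathlib
import Groth.Prelude.Def_ArtFun4
import Groth.Agent.Lib.LeadTrivDefSch
import Groth.Agent.Lib.LeadDualDef

/-!
# Extensions of a deformation across a semismall extension: scheme level, general lemmas
-/

set_option autoImplicit false
set_option maxHeartbeats 400000
set_option linter.style.haveILetI false
set_option linter.unusedSectionVars false
set_option linter.unusedVariables false

universe u

open AlgebraicGeometry CategoryTheory Limits

namespace Groth.Agent.Lib.LeadLx

open Groth.Agent.Lib.LeadTrivDefSch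

section gamS

variable {R : CommRingCat.{u}} {T T' : Scheme.{u}}

/-- the structure map `R → Γ(T)` of a scheme over `Spec R`. -/
noncomputable def gamS (f : T ⟶ Spec R) : R ⟶ Γ(T, ⊤) := (Scheme.ΓSpecIso R).inv ≫ f.appTop

theorem gamS_comp (φ : T ⟶ T') (f' : T' ⟶ Spec R) : gamS (φ ≫ f') = gamS f' ≫ φ.appTop := by
  unfold gamS
  rw [Scheme.Hom.comp_appTop, Category.assoc]

theorem eq_isoSpec_gamS [IsAffine T] (f : T ⟶ Spec R) :
    f = T.isoSpec.hom ≫ Spec.map (gamS f) := eq_isoSpec_hom_comp _ f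

theorem gamS_SpecMap {R S : CommRingCat.{u}} (φ : R ⟶ S) :
    gamS (Spec.map φ) ≫ (Scheme.ΓSpecIso S).hom = φ := by
  unfold gamS
  rw [Category.assoc, Scheme.ΓSpecIso_naturality, ← Category.assoc, Iso.inv_hom_id,
    Category.id_comp]

theorem gamS_comp_SpecMap {R R' : CommRingCat.{u}} (φ : R ⟶ R') (f : T ⟶ Spec R') :
    gamS (f ≫ Spec.map φ) = φ ≫ gamS f := by
  unfold gamS
  rw [Scheme.Hom.comp_appTop, ← Category.assoc, ← Scheme.ΓSpecIso_inv_naturality, Category.assoc]

theorem flat_gamS [IsAffine T] (f : T ⟶ Spec R) [Flat f] : (gamS f).hom.Flat := by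
  have h1 : f.appTop.hom.Flat :=
    (HasRingHomProperty.iff_of_isAffine (P := @Flat)).mp inferInstance
  exact (RingHom.Flat.respectsIso.cancel_left_isIso (Scheme.ΓSpecIso R).inv f.appTop).mpr h1

end gamS

section pullback

variable {R R' : CommRingCat.{u}} (φ : R ⟶ R') (hφ : Function.Surjective φ.hom)
  {T T' : Scheme.{u}} (f : T ⟶ Spec R') (f' : T' ⟶ Spec R) (ρ : T ⟶ T')
  (hsq : IsPullback ρ f f' (Spec.map φ))

include hφ hsq

theorem isClosedImmersion_of_isPullback' : IsClosedImmersion ρ :=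
  MorphismProperty.of_isPullback hsq.flip (IsClosedImmersion.spec_of_surjective φ hφ)

/-- the kernel of `Γ(T') → Γ(T)` is generated by the kernel of `φ`. -/
theorem ker_appTop_le' [IsAffine T] [IsAffine T'] :
    RingHom.ker ρ.appTop.hom ≤ (RingHom.ker φ.hom).map (gamS f').hom := by
  haveI hci : IsClosedImmersion (Spec.map φ) := IsClosedImmersion.spec_of_surjective φ hφ
  haveI := isClosedImmersion_of_isPullback' φ hφ f f' ρ hsq
  have h1 : ρ.ker = (Spec.map φ).ker.comap f' := by
    rw [← Scheme.IdealSheafData.ker_fst_of_isClosedImmersion (Spec.map φ) f',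
      ← hsq.isoPullback_hom_fst, Scheme.Hom.ker_comp_of_isIso]
  have h2 := congrArg (fun J : T'.IdealSheafData => J.ideal ⟨⊤, isAffineOpen_top T'⟩) h1
  simp only at h2
  rw [Groth.Agent.Lib.Helper20.IdealComap.ideal_comap_top_of_isAffine, Scheme.Hom.ker_apply,
    Scheme.Hom.ker_apply] at h2
  have h3 : RingHom.ker ρ.appTop.hom =
      (RingHom.ker (Spec.map φ).appTop.hom).map f'.appTop.hom := h2
  rw [h3, Ideal.map_le_iff_le_comap]
  intro x hx
  rw [Ideal.mem_comap]
  have hxa : x = (Scheme.ΓSpecIso R).inv.hom ((Scheme.ΓSpecIso R).hom.hom x) := by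
    have := congrArg (fun f => f.hom x) (Scheme.ΓSpecIso R).hom_inv_id
    exact this.symm
  have ha : (Scheme.ΓSpecIso R).hom.hom x ∈ RingHom.ker φ.hom := by
    rw [RingHom.mem_ker]
    have hnat := congrArg (fun f => f.hom x) (Scheme.ΓSpecIso_naturality φ)
    have hnat' : (Scheme.ΓSpecIso R').hom.hom ((Spec.map φ).appTop.hom x) =
        φ.hom ((Scheme.ΓSpecIso R).hom.hom x) := hnat
    rw [← hnat', RingHom.mem_ker.mp hx, map_zero]
  have hgx : f'.appTop.hom x = (gamS f').hom ((Scheme.ΓSpecIso R).hom.hom x) := by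
    conv_lhs => rw [hxa]
    rfl
  rw [hgx]
  exact Ideal.mem_map_of_mem _ ha

theorem surjective_appTop' [IsAffine T] [IsAffine T'] : Function.Surjective ρ.appTop.hom := by
  haveI := isClosedImmersion_of_isPullback' φ hφ f f' ρ hsq
  exact (IsClosedImmersion.isAffine_surjective_of_isAffine ρ).2

end pullback

end Groth.Agent.Lib.LeadLx
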