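import Mathlib
import Groth.Prelude.Def_ArtFun4
import Groth.Agent.Lib.LeadHullB
import Groth.Agent.Lib.LeadLxE
import Groth.Agent.Lib.LeadDualDef

/-!
# Deformations of an affine scheme over `Art Λ k` and ring-level deformations (for S12308)
-/

set_option autoImplicit false
set_option maxHeartbeats 400000
set_option linter.style.haveILetI false
set_option linter.unusedSectionVars false
set_option linter.unusedVariables false

universe u

open AlgebraicGeometry CategoryTheory Limits ArtFun ArtFun.Art

namespace Groth.Agent.Lib.LeadHull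

open Groth.Agent.Lib.LeadLx Groth.Agent.Lib.LeadTrivDefSch Groth.Agent.Lib.LeadDualDef DefRing

variable {Λ k : Type u} [CommRing Λ] [Field k] [Algebra Λ k]

/-- the augmentation of an object of `Art Λ k` as a ring map. -/
def resR (A : Art Λ k) : A →+* k := A.res.toRingHom

theorem resR_surjective (A : Art Λ k) : Function.Surjective (resR A) := A.res_surjective

theorem isNilpotent_ker_resR (A : Art Λ k) : IsNilpotent (RingHom.ker (resR A)) := by
  have hmax : (RingHom.ker (resR A)).IsMaximal :=
    RingHom.ker_isMaximal_of_surjective (resR A) (resR_surjective A)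
  have h1 : RingHom.ker (resR A) = IsLocalRing.maximalIdeal A := IsLocalRing.eq_maximalIdeal hmax
  have h2 := IsArtinianRing.isNilpotent_jacobson_bot (R := A)
  rw [IsLocalRing.jacobson_eq_maximalIdeal ⊥ bot_ne_top, ← h1] at h2
  exact h2

theorem surjective_specRes (A : Art Λ k) : Function.Surjective (specRes A) := by
  intro p
  have hmax : (RingHom.ker (resR A)).IsMaximal :=
    RingHom.ker_isMaximal_of_surjective (resR A) (resR_surjective A)
  haveI : p.asIdeal.IsPrime := p.isPrime
  have hle : RingHom.ker (resR A) ≤ p.asIdeal := by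
    obtain ⟨n, hn⟩ := isNilpotent_ker_resR A
    refine Ideal.IsPrime.le_of_pow_le (n := n) ?_
    have : RingHom.ker (resR A) ^ n = ⊥ := hn
    rw [this]
    exact bot_le
  have heq : RingHom.ker (resR A) = p.asIdeal := hmax.eq_of_le p.isPrime.ne_top hle
  refine ⟨(⟨⊥, Ideal.isPrime_bot⟩ : PrimeSpectrum k), ?_⟩
  apply PrimeSpectrum.ext
  change Ideal.comap (resR A) ⊥ = p.asIdeal
  rw [← RingHom.ker_eq_comap_bot]
  exact heq

variable {X : Scheme.{u}} [IsAffine X] (x : X ⟶ Spec (CommRingCat.of k))

/-- the structure map `k → Γ(X)`. -/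
noncomputable def kap : k →+* Γ(X, ⊤) := (gamS x).hom

variable {x}
variable {A : Art Λ k}

theorem isClosedImmersion_i (ξ : DefSch X x A) : IsClosedImmersion ξ.i :=
  isClosedImmersion_of_isPullback' (CommRingCat.ofHom (resR A)) (resR_surjective A) x ξ.f ξ.i
    ξ.isPullback

theorem isAffine_total (ξ : DefSch X x A) : IsAffine ξ.total := by
  haveI := isClosedImmersion_i ξ
  haveI : Surjective ξ.i :=
    MorphismProperty.of_isPullback ξ.isPullback.flip ⟨surjective_specRes A⟩
  exact Groth.Agent.Lib.Helper22.ThickAffine.isAffine_of_thickening ξ.i ξ.i.surjective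

/-- **the ring-level deformation of a deformation of an affine scheme.** -/
noncomputable def toDefRing (ξ : DefSch X x A) : DefRing (resR A) (kap x) :=
  haveI := isAffine_total ξ
  haveI : Flat ξ.f := ξ.flat
  { E := Γ(ξ.total, ⊤)
    γ := (gamS ξ.f).hom
    π := ξ.i.appTop.hom
    π_γ := fun a => by
      have h1 : gamS ξ.f ≫ ξ.i.appTop = CommRingCat.ofHom (resR A) ≫ gamS x := by
        rw [← gamS_comp, ξ.i_f, gamS_comp_SpecMap]
        rfl
      exact congrArg (fun m => m.hom a) h1
    π_surj := by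
      haveI := isClosedImmersion_i ξ
      exact (IsClosedImmersion.isAffine_surjective_of_isAffine ξ.i).2
    ker_π := fun e he =>
      ker_appTop_le' (CommRingCat.ofHom (resR A)) (resR_surjective A) x ξ.f ξ.i ξ.isPullback
        (RingHom.mem_ker.mpr he)
    flat := flat_gamS ξ.f }

theorem toDefRing_γ (ξ : DefSch X x A) : (toDefRing ξ).γ = (gamS ξ.f).hom := rfl

theorem toDefRing_π (ξ : DefSch X x A) : (toDefRing ξ).π = ξ.i.appTop.hom := rfl

/-- **the deformation of an affine scheme attached to a ring-level deformation.** -/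
noncomputable def ofDefRing (D : DefRing (resR A) (kap x)) : DefSch X x A where
  total := Spec (CommRingCat.of D.E)
  f := Spec.map (CommRingCat.ofHom D.γ)
  flat := by
    rw [Flat.SpecMap_iff]
    exact D.flat
  i := X.isoSpec.hom ≫ Spec.map (CommRingCat.ofHom D.π)
  isPullback := by
    have hpush : IsPushout (CommRingCat.ofHom D.γ) (CommRingCat.ofHom (resR A))
        (CommRingCat.ofHom D.π) (gamS x) := by
      refine isPushout_of_surjective _ _ _ _ ?_ D.π_surj (resR_surjective A) ?_
      · refine CommRingCat.hom_ext (RingHom.ext fun a => ?_)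
        exact D.π_γ a
      · intro e he
        exact D.ker_π e (RingHom.mem_ker.mp he)
    have hpb := isPullback_SpecMap_of_isPushout _ _ _ _ hpush
    have hleft : IsPullback X.isoSpec.hom x (Spec.map (gamS x)) (𝟙 _) :=
      IsPullback.of_horiz_isIso ⟨by rw [Category.comp_id]; exact (eq_isoSpec_gamS x).symm⟩
    have h := hleft.paste_horiz hpb
    rw [Category.id_comp] at h
    exact h

/-- a morphism of deformations of an affine scheme is an isomorphism. -/
theorem nonempty_iso_of_hom (ξ₁ ξ₂ : DefSch X x A) (ψ : ξ₁.total ⟶ ξ₂.total)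
    (h1 : ψ ≫ ξ₂.f = ξ₁.f) (h2 : ξ₁.i ≫ ψ = ξ₂.i) : Nonempty (ξ₁.Iso ξ₂) := by
  haveI := isAffine_total ξ₁
  haveI := isAffine_total ξ₂
  obtain ⟨h, hG⟩ : ∃ h : Hom (RingHom.id A) (toDefRing ξ₂) (toDefRing ξ₁),
      h.G = ψ.appTop.hom := by
    refine ⟨{ G := ψ.appTop.hom, G_γ := fun a => ?_, π_G := fun e => ?_ }, rfl⟩
    · have e1 : gamS ξ₂.f ≫ ψ.appTop = gamS ξ₁.f := by rw [← gamS_comp, h1]
      exact congrArg (fun m => m.hom a) e1
    · have e2 : ψ.appTop ≫ ξ₁.i.appTop = ξ₂.i.appTop := by
        rw [← Scheme.Hom.comp_appTop, h2]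
      exact congrArg (fun m => m.hom e) e2
  have hbij : Function.Bijective ψ.appTop.hom := by
    rw [← hG]
    exact h.bijective (isNilpotent_ker_resR A)
  haveI : IsIso ψ.appTop := (ConcreteCategory.isIso_iff_bijective ψ.appTop).mpr hbij
  haveI : IsIso ψ := by
    have hψ : ψ = ξ₁.total.isoSpec.hom ≫ Spec.map ψ.appTop ≫ ξ₂.total.isoSpec.inv := by
      rw [← Category.assoc, Scheme.isoSpec_hom_naturality, Category.assoc, Iso.hom_inv_id,
        Category.comp_id]
    rw [hψ]
    infer_instance
  exact ⟨⟨asIso ψ, h1, h2⟩⟩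

/-- every deformation is the deformation of its ring-level deformation. -/
theorem nonempty_iso_ofDefRing_toDefRing (ξ : DefSch X x A) :
    Nonempty (ξ.Iso (ofDefRing (toDefRing ξ))) := by
  haveI := isAffine_total ξ
  refine ⟨⟨ξ.total.isoSpec, ?_, ?_⟩⟩
  · exact (eq_isoSpec_gamS ξ.f).symm
  · exact (Scheme.isoSpec_hom_naturality ξ.i).symm

section baseChange

variable {A' : Art Λ k} (g : A ⟶ A')

/-- the canonical morphism from a deformation to its base change, on the ring level. -/
noncomputable def bcHom (ξ : DefSch X x A) :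
    Hom g.toAlgHom.toRingHom (toDefRing ξ) (toDefRing (ξ.baseChange g)) where
  G := (pullback.fst ξ.f (specMap g)).appTop.hom
  G_γ := fun a => by
    have e1 : gamS ξ.f ≫ (pullback.fst ξ.f (specMap g)).appTop =
        CommRingCat.ofHom g.toAlgHom.toRingHom ≫ gamS (pullback.snd ξ.f (specMap g)) := by
      rw [← gamS_comp, pullback.condition, gamS_comp_SpecMap]
    exact congrArg (fun m => m.hom a) e1
  π_G := fun e => by
    have e2 : (pullback.fst ξ.f (specMap g)).appTop ≫ (ξ.baseChange g).i.appTop = ξ.i.appTop := by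
      rw [← Scheme.Hom.comp_appTop, DefSch.baseChange_i_fst]
    exact congrArg (fun m => m.hom e) e2

/-- a ring-level morphism over `g` identifies the base change. -/
theorem nonempty_iso_baseChange_of_hom (N : DefRing (resR A) (kap x))
    (D' : DefRing (resR A') (kap x)) (h : Hom g.toAlgHom.toRingHom N D') :
    Nonempty (((ofDefRing N).baseChange g).Iso (ofDefRing D')) := by
  obtain ⟨a, ha⟩ : ∃ a : (ofDefRing D').total ⟶ (ofDefRing N).total,
      a = Spec.map (CommRingCat.ofHom h.G) := ⟨_, rfl⟩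
  have hcond : a ≫ (ofDefRing N).f = (ofDefRing D').f ≫ specMap g := by
    rw [ha]
    change Spec.map (CommRingCat.ofHom h.G) ≫ Spec.map (CommRingCat.ofHom N.γ) =
      Spec.map (CommRingCat.ofHom D'.γ) ≫ Spec.map (CommRingCat.ofHom g.toAlgHom.toRingHom)
    rw [← Spec.map_comp, ← Spec.map_comp]
    congr 1
    refine CommRingCat.hom_ext (RingHom.ext fun a => ?_)
    exact h.G_γ a
  have hai : (ofDefRing D').i ≫ a = (ofDefRing N).i := by
    rw [ha]
    change (X.isoSpec.hom ≫ Spec.map (CommRingCat.ofHom D'.π)) ≫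
      Spec.map (CommRingCat.ofHom h.G) = X.isoSpec.hom ≫ Spec.map (CommRingCat.ofHom N.π)
    rw [Category.assoc, ← Spec.map_comp]
    congr 2
    refine CommRingCat.hom_ext (RingHom.ext fun e => ?_)
    exact h.π_G e
  obtain ⟨ψ, hψ⟩ : ∃ ψ : (ofDefRing D').total ⟶ ((ofDefRing N).baseChange g).total,
      ψ = pullback.lift a (ofDefRing D').f hcond := ⟨_, rfl⟩
  have h1 : ψ ≫ ((ofDefRing N).baseChange g).f = (ofDefRing D').f := by
    rw [hψ]
    exact pullback.lift_snd _ _ _
  have h2 : (ofDefRing D').i ≫ ψ = ((ofDefRing N).baseChange g).i := by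
    apply pullback.hom_ext
    · rw [Category.assoc, hψ, pullback.lift_fst, DefSch.baseChange_i_fst, hai]
    · rw [Category.assoc, hψ, pullback.lift_snd]
      exact ((ofDefRing D').i_f).trans (DefSch.baseChange_i_f (ofDefRing N) g).symm
  obtain ⟨e⟩ := nonempty_iso_of_hom (ofDefRing D') ((ofDefRing N).baseChange g) ψ h1 h2
  exact ⟨e.symm⟩

end baseChange

/-- an isomorphism of deformations gives a ring-level morphism. -/
noncomputable def homOfIso {ξ₁ ξ₂ : DefSch X x A} (e : ξ₁.Iso ξ₂) :
    Hom (RingHom.id A) (toDefRing ξ₁) (toDefRing ξ₂) where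
  G := e.iso.inv.appTop.hom
  G_γ := fun a => by
    have e1 : gamS ξ₁.f ≫ e.iso.inv.appTop = gamS ξ₂.f := by
      rw [← gamS_comp]
      exact congrArg gamS (e.symm.hom_f : e.iso.inv ≫ ξ₁.f = ξ₂.f)
    exact congrArg (fun m => m.hom a) e1
  π_G := fun y => by
    have e2 : e.iso.inv.appTop ≫ ξ₂.i.appTop = ξ₁.i.appTop := by
      rw [← Scheme.Hom.comp_appTop]
      exact congrArg Scheme.Hom.appTop (e.symm.i_hom : ξ₂.i ≫ e.iso.inv = ξ₁.i)
    exact congrArg (fun m => m.hom y) e2

/-- ring-level morphisms over the identity give isomorphisms of deformations. -/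
theorem nonempty_iso_ofDefRing_of_hom {D₁ D₂ : DefRing (resR A) (kap x)}
    (h : Hom (RingHom.id A) D₁ D₂) : Nonempty ((ofDefRing D₂).Iso (ofDefRing D₁)) := by
  refine nonempty_iso_of_hom (ofDefRing D₂) (ofDefRing D₁) (Spec.map (CommRingCat.ofHom h.G)) ?_ ?_
  · change Spec.map (CommRingCat.ofHom h.G) ≫ Spec.map (CommRingCat.ofHom D₁.γ) =
      Spec.map (CommRingCat.ofHom D₂.γ)
    rw [← Spec.map_comp]
    congr 1
    refine CommRingCat.hom_ext (RingHom.ext fun a => ?_)
    exact h.G_γ a
  · change (X.isoSpec.hom ≫ Spec.map (CommRingCat.ofHom D₂.π)) ≫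
      Spec.map (CommRingCat.ofHom h.G) = X.isoSpec.hom ≫ Spec.map (CommRingCat.ofHom D₁.π)
    rw [Category.assoc, ← Spec.map_comp]
    congr 2
    refine CommRingCat.hom_ext (RingHom.ext fun e => ?_)
    exact h.π_G e

end Groth.Agent.Lib.LeadHull
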