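import Mathlib
import Groth.Prelude.Def_ArtFun4
import Groth.Agent.Lib.LeadHullC

/-!
# Schlessinger's conditions (H0), (S1), (Hε) for deformations of an affine scheme (for S12308)
-/

set_option autoImplicit false
set_option maxHeartbeats 400000
set_option linter.style.haveILetI false
set_option linter.unusedSectionVars false
set_option linter.unusedVariables false

universe u

open AlgebraicGeometry CategoryTheory Limits ArtFun ArtFun.Art

namespace Groth.Agent.Lib.LeadHull

open Groth.Agent.Lib.LeadLx DefRing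

variable {Λ k : Type u} [CommRing Λ] [Field k] [Algebra Λ k]
variable {X : Scheme.{u}} [IsAffine X] (x : X ⟶ Spec (CommRingCat.of k))

namespace DefRing

/-- composition of a morphism over `g` with a morphism over the identity. -/
def Hom.compId {B₀ : Type u} [CommRing B₀] {κ : k →+* B₀} {A A' : Type u} [CommRing A]
    [CommRing A'] {r : A →+* k} {r' : A' →+* k} {g : A →+* A'} {D : DefRing r κ}
    {D' D'' : DefRing r' κ} (h : Hom g D D') (h' : Hom (RingHom.id A') D' D'') : Hom g D D'' where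
  G := h'.G.comp h.G
  G_γ := fun a => by rw [RingHom.comp_apply, h.G_γ, h'.G_γ]; rfl
  π_G := fun e => by rw [RingHom.comp_apply, h'.π_G, h.π_G]

end DefRing

theorem flat_of_field {K B : Type u} [Field K] [CommRing B] (f : K →+* B) : f.Flat := by
  letI : Algebra K B := f.toAlgebra
  change Module.Flat K B
  infer_instance

/-- the deformation `X` itself over the base object. -/
noncomputable def baseDef : DefRing (resR (base Λ k)) (kap x) where
  E := Γ(X, ⊤)
  γ := kap (k := k) x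
  π := RingHom.id _
  π_γ := fun a => rfl
  π_surj := Function.surjective_id
  ker_π := fun e he => by
    have : e = 0 := he
    rw [this]
    exact Ideal.zero_mem _
  flat := flat_of_field (kap (k := k) x)

/-- every ring-level deformation over `A` maps to the base deformation over the augmentation. -/
def toBaseHom {A : Art Λ k} (D : DefRing (resR A) (kap x)) :
    Hom (toBase A).toAlgHom.toRingHom D (baseDef (Λ := Λ) x) where
  G := D.π
  G_γ := fun a => D.π_γ a
  π_G := fun e => rfl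

variable {x}

/-- (H0) for the deformation functor of an affine scheme. -/
theorem h0_defFunctor : H0 (defFunctor (Λ := Λ) X x) := by
  constructor
  · exact ⟨(ofDefRing (baseDef (Λ := Λ) x)).cl⟩
  · constructor
    intro a b
    induction a using Quotient.inductionOn with
    | h ξ₁ =>
    induction b using Quotient.inductionOn with
    | h ξ₂ =>
    obtain ⟨e1⟩ := nonempty_iso_ofDefRing_toDefRing ξ₁
    obtain ⟨e2⟩ := nonempty_iso_ofDefRing_toDefRing ξ₂
    obtain ⟨e3⟩ := nonempty_iso_ofDefRing_of_hom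
      (D₁ := toDefRing ξ₁) (D₂ := baseDef (Λ := Λ) x) (toBaseHom x (toDefRing ξ₁))
    obtain ⟨e4⟩ := nonempty_iso_ofDefRing_of_hom
      (D₁ := toDefRing ξ₂) (D₂ := baseDef (Λ := Λ) x) (toBaseHom x (toDefRing ξ₂))
    exact Quotient.sound ⟨e1.trans (e3.symm.trans (e4.trans e2.symm))⟩

section s1

variable {B A A' A'' : Art Λ k} {p' : B ⟶ A'} {p'' : B ⟶ A''} {f' : A' ⟶ A} {f'' : A'' ⟶ A}

set_option maxHeartbeats 1600000 in
/-- the gluing statement behind (S1). -/
theorem exists_glue_defSch (h : IsFibreProd p' p'' f' f'') (hf'' : Function.Surjective f'')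
    (ξ' : DefSch X x A') (ξ'' : DefSch X x A'')
    (θ : (ξ'.baseChange f').Iso (ξ''.baseChange f'')) :
    ∃ ζ : DefSch X x B, Nonempty ((ζ.baseChange p').Iso ξ') ∧
      Nonempty ((ζ.baseChange p'').Iso ξ'') := by
  haveI := isAffine_total ξ''
  haveI := isAffine_total (ξ''.baseChange f'')
  obtain ⟨u'', hu''G⟩ : ∃ u'' : Hom f''.toAlgHom.toRingHom (toDefRing ξ'')
      (toDefRing (ξ''.baseChange f'')),
      u''.G = (pullback.fst ξ''.f (specMap f'')).appTop.hom := ⟨bcHom f'' ξ'', rfl⟩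
  have hu'' : Function.Surjective u''.G := by
    rw [hu''G]
    exact surjective_appTop' (CommRingCat.ofHom f''.toAlgHom.toRingHom) hf''
      (pullback.snd ξ''.f (specMap f'')) ξ''.f (pullback.fst ξ''.f (specMap f''))
      (IsPullback.of_hasPullback ξ''.f (specMap f''))
  obtain ⟨u'⟩ : Nonempty (Hom f'.toAlgHom.toRingHom (toDefRing ξ')
      (toDefRing (ξ''.baseChange f''))) := ⟨(bcHom f' ξ').compId (homOfIso θ)⟩
  obtain ⟨N, v', v''⟩ : ∃ N : DefRing (resR B) (kap x),
      Nonempty (Hom p'.toAlgHom.toRingHom N (toDefRing ξ')) ∧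
      Nonempty (Hom p''.toAlgHom.toRingHom N (toDefRing ξ'')) :=
    ⟨glueDef p'.toAlgHom.toRingHom p''.toAlgHom.toRingHom u' u'' (fun b => h.w_apply b)
      (fun a => res_app f' a) (fun a => res_app f'' a) (fun b => res_app p' b)
      (resR_surjective A') (resR_surjective A'') (resR_surjective A)
      (isNilpotent_ker_resR A') (isNilpotent_ker_resR A'') (isNilpotent_ker_resR A)
      h.inj h.surj hu'', ⟨glueHomFst ..⟩, ⟨glueHomSnd ..⟩⟩
  obtain ⟨v'⟩ := v'
  obtain ⟨v''⟩ := v''
  refine ⟨ofDefRing N, ?_, ?_⟩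
  · obtain ⟨e1⟩ := nonempty_iso_baseChange_of_hom p' N (toDefRing ξ') v'
    obtain ⟨e2⟩ := nonempty_iso_ofDefRing_toDefRing ξ'
    exact ⟨e1.trans e2.symm⟩
  · obtain ⟨e1⟩ := nonempty_iso_baseChange_of_hom p'' N (toDefRing ξ'') v''
    obtain ⟨e2⟩ := nonempty_iso_ofDefRing_toDefRing ξ''
    exact ⟨e1.trans e2.symm⟩

theorem surjective_cmp (h : IsFibreProd p' p'' f' f'') (hf'' : Function.Surjective f'') :
    Function.Surjective (cmp (defFunctor (Λ := Λ) X x) h) := by
  rintro ⟨⟨η', η''⟩, hη⟩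
  induction η' using Quotient.inductionOn with
  | h ξ' =>
  induction η'' using Quotient.inductionOn with
  | h ξ'' =>
  have hη' : (ξ'.baseChange f').cl = (ξ''.baseChange f'').cl := hη
  obtain ⟨θ⟩ : Nonempty ((ξ'.baseChange f').Iso (ξ''.baseChange f'')) := Quotient.exact hη'
  obtain ⟨ζ, ⟨e1⟩, ⟨e2⟩⟩ := exists_glue_defSch h hf'' ξ' ξ'' θ
  refine ⟨ζ.cl, Subtype.ext (Prod.ext ?_ ?_)⟩
  · exact Quotient.sound ⟨e1⟩
  · exact Quotient.sound ⟨e2⟩

/-- (S1) for the deformation functor of an affine scheme. -/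
theorem s1_defFunctor : S1 (defFunctor (Λ := Λ) X x) :=
  fun _ _ _ _ _ _ _ _ h hf'' => surjective_cmp h hf''

end s1

section heps

variable {B A' : Art Λ k} {p' : B ⟶ A'} {p'' : B ⟶ dual Λ k}

set_option maxHeartbeats 1600000 in
theorem injective_cmp_eps (h : IsFibreProd p' p'' (toBase A') (toBase (dual Λ k))) :
    Function.Injective (cmp (defFunctor (Λ := Λ) X x) h) := by
  intro a b hab
  induction a using Quotient.inductionOn with
  | h ζ₁ =>
  induction b using Quotient.inductionOn with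
  | h ζ₂ =>
  have h1 : (ζ₁.baseChange p').cl = (ζ₂.baseChange p').cl :=
    congrArg (fun t => t.1.1) hab
  have h2 : (ζ₁.baseChange p'').cl = (ζ₂.baseChange p'').cl :=
    congrArg (fun t => t.1.2) hab
  obtain ⟨θ'⟩ : Nonempty ((ζ₁.baseChange p').Iso (ζ₂.baseChange p')) := Quotient.exact h1
  obtain ⟨θ''⟩ : Nonempty ((ζ₁.baseChange p'').Iso (ζ₂.baseChange p'')) := Quotient.exact h2
  obtain ⟨u'⟩ : Nonempty (Hom (toBase A').toAlgHom.toRingHom (toDefRing (ζ₂.baseChange p'))
      (baseDef (Λ := Λ) x)) := ⟨toBaseHom x _⟩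
  obtain ⟨u'', hu''G⟩ : ∃ u'' : Hom (toBase (dual Λ k)).toAlgHom.toRingHom
      (toDefRing (ζ₂.baseChange p'')) (baseDef (Λ := Λ) x),
      u''.G = (toDefRing (ζ₂.baseChange p'')).π := ⟨toBaseHom x _, rfl⟩
  have hu'G : ∀ e, u'.G e = (toDefRing (ζ₂.baseChange p')).π e := fun e =>
    (show (baseDef (Λ := Λ) x).π (u'.G e) = _ from u'.π_G e)
  have hu'' : Function.Surjective u''.G := by
    rw [hu''G]
    exact (toDefRing (ζ₂.baseChange p'')).π_surj
  have hu''G' : ∀ e, u''.G e = (toDefRing (ζ₂.baseChange p'')).π e := fun e => by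
    rw [hu''G]; rfl
  obtain ⟨N, ⟨l₁⟩, ⟨l₂⟩⟩ : ∃ N : DefRing (resR B) (kap x),
      Nonempty (Hom (RingHom.id B) (toDefRing ζ₁) N) ∧
      Nonempty (Hom (RingHom.id B) (toDefRing ζ₂) N) := by
    refine ⟨glueDef p'.toAlgHom.toRingHom p''.toAlgHom.toRingHom u' u'' (fun b => h.w_apply b)
      (fun a => res_app (toBase A') a) (fun a => res_app (toBase (dual Λ k)) a)
      (fun b => res_app p' b)
      (resR_surjective A') (resR_surjective (dual Λ k)) (resR_surjective (base Λ k))
      (isNilpotent_ker_resR A') (isNilpotent_ker_resR (dual Λ k))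
      (isNilpotent_ker_resR (base Λ k)) h.inj h.surj hu'', ⟨?_⟩, ⟨?_⟩⟩
    · refine glueLift _ _ _ _ _ _ _ _ _ _ _ _ _ _ _ _ _ (toDefRing ζ₁)
        ((bcHom p' ζ₁).compId (homOfIso θ')) ((bcHom p'' ζ₁).compId (homOfIso θ'')) (fun m => ?_)
      rw [hu'G, hu''G', DefRing.Hom.π_G, DefRing.Hom.π_G]
    · refine glueLift _ _ _ _ _ _ _ _ _ _ _ _ _ _ _ _ _ (toDefRing ζ₂)
        (bcHom p' ζ₂) (bcHom p'' ζ₂) (fun m => ?_)
      rw [hu'G, hu''G', DefRing.Hom.π_G, DefRing.Hom.π_G]
  obtain ⟨e1⟩ := nonempty_iso_ofDefRing_of_hom l₁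
  obtain ⟨e2⟩ := nonempty_iso_ofDefRing_of_hom l₂
  obtain ⟨e3⟩ := nonempty_iso_ofDefRing_toDefRing ζ₁
  obtain ⟨e4⟩ := nonempty_iso_ofDefRing_toDefRing ζ₂
  exact Quotient.sound ⟨e3.trans (e1.symm.trans (e2.trans e4.symm))⟩

/-- (Hε) for the deformation functor of an affine scheme. -/
theorem heps_defFunctor : Heps (defFunctor (Λ := Λ) X x) := by
  intro B A' p' p'' h
  refine ⟨injective_cmp_eps h, surjective_cmp h ?_⟩
  exact (dual Λ k).res_surjective

end heps

end Groth.Agent.Lib.LeadHull
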