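import Mathlib
import Groth.Prelude.Def_Exal
import Groth.Agent.Lib.Helper7ExalBaer

/-!
# Extensions of a deformation across a semismall extension: ring level, part A

Base data, lifts, the inclusion `ι : B₀ ⊗ J → E` of a lift, morphisms of lifts are isomorphisms.
-/

set_option autoImplicit false
set_option maxHeartbeats 400000
set_option linter.style.haveILetI false
set_option linter.unusedSectionVars false
set_option linter.unusedVariables false

universe u

open TensorProduct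

namespace Groth.Agent.Lib.LeadLx

section general

/-- induction principle for the extension of an ideal along a ring map. -/
theorem map_induction {R S : Type*} [CommRing R] [CommRing S] (f : R →+* S) (I : Ideal R)
    (P : S → Prop) (h0 : P 0) (hadd : ∀ x y, P x → P y → P (x + y))
    (hmul : ∀ s x, P x → P (s * x)) (hgen : ∀ a ∈ I, P (f a)) : ∀ x ∈ I.map f, P x := by
  intro x hx
  have hx' : x ∈ Submodule.span S (f '' I) := hx
  refine Submodule.span_induction (p := fun x _ => P x) ?_ h0 ?_ ?_ hx'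
  · rintro x ⟨a, ha, rfl⟩
    exact hgen a ha
  · intro x y _ _ hx hy
    exact hadd x y hx hy
  · intro s x _ hx
    exact hmul s x hx

/-- a bijection of quotients from a bi-total relation compatible with the relations. -/
theorem nonempty_quot_equiv {α : Type*} {β : Type*} (r : α → α → Prop) (sβ : Setoid β)
    (P : α → β → Prop) (ha : ∀ a, ∃ b, P a b) (hb : ∀ b, ∃ a, P a b)
    (hc : ∀ a a' b b', P a b → P a' b' → (r a a' ↔ sβ.r b b')) :
    Nonempty (Quot r ≃ Quotient sβ) := by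
  choose F hF using ha
  choose G hG using hb
  have hFG : ∀ b, sβ.r (F (G b)) b := fun b =>
    (hc (G b) (G b) (F (G b)) b (hF (G b)) (hG b)).mp
      ((hc (G b) (G b) b b (hG b) (hG b)).mpr (sβ.iseqv.refl _))
  have hGF : ∀ a, r (G (F a)) a := fun a =>
    (hc (G (F a)) a (F a) (F a) (hG (F a)) (hF a)).mpr (sβ.iseqv.refl _)
  refine ⟨⟨Quot.lift (fun a => Quotient.mk sβ (F a))
      (fun a a' h => Quotient.sound ((hc a a' _ _ (hF a) (hF a')).mp h)),
    Quotient.lift (fun b => Quot.mk r (G b))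
      (fun b b' h => Quot.sound ((hc _ _ b b' (hG b) (hG b')).mpr h)), ?_, ?_⟩⟩
  · intro q
    induction q using Quot.inductionOn with
    | h a => exact Quot.sound (hGF a)
  · intro q
    induction q using Quotient.inductionOn with
    | h b => exact Quotient.sound (hFG b)

/-- equational criterion of flatness for a flat ring map, written with multiplication. -/
theorem eqCrit {R E : Type*} [CommRing R] [CommRing E] (γ : R →+* E) (hfl : γ.Flat)
    {ι : Type*} [Fintype ι] (f : ι → R) (x : ι → E) (h : ∑ i, γ (f i) * x i = 0) :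
    ∃ (κ : ℕ) (a : ι → Fin κ → R) (y : Fin κ → E),
      (∀ i, x i = ∑ l, γ (a i l) * y l) ∧ ∀ l, ∑ i, f i * a i l = 0 :=
  @Module.Flat.isTrivialRelation_of_sum_smul_eq_zero R E _ _ γ.toAlgebra.toModule hfl ι _ f x h

end general

variable {k C' B₀ B : Type u} [Field k] [CommRing C'] [Algebra k C'] [CommRing B₀] [Algebra k B₀]
  [CommRing B]

/-- the base data: a deformation `B` of `B₀` over `C = C'/J`, written over `C'`. -/
structure IsBase (r' : C' →ₐ[k] k) (J : Ideal C') (γB : C' →+* B) (πB : B →+* B₀) : Prop where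
  mul_eq_zero : ∀ a : C', r' a = 0 → ∀ j ∈ J, a * j = 0
  J_le : ∀ j ∈ J, r' j = 0
  πB_surj : Function.Surjective πB
  πB_γB : ∀ c, πB (γB c) = algebraMap k B₀ (r' c)
  ker_πB : ∀ b, πB b = 0 → b ∈ (RingHom.ker r').map γB
  γB_J : ∀ j ∈ J, γB j = 0
  flatB : ∀ (n : ℕ) (c : Fin n → C') (b : Fin n → B), ∑ i, γB (c i) * b i = 0 →
    ∃ (κ : ℕ) (a : Fin n → Fin κ → C') (y : Fin κ → B),
      (∀ i, b i = ∑ l, γB (a i l) * y l) ∧ ∀ l, ∑ i, c i * a i l ∈ J

/-- a lift of the deformation `B` to `C'`: a flat `C'`-algebra `E` with a surjection onto `B`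
whose kernel is `J E`. -/
structure Lift (γB : C' →+* B) (J : Ideal C') : Type (u + 1) where
  E : Type u
  [commRing : CommRing E]
  γ : C' →+* E
  q : E →+* B
  q_γ : ∀ c, q (γ c) = γB c
  q_surj : Function.Surjective q
  ker_q : ∀ y, q y = 0 → y ∈ J.map γ
  flat : γ.Flat

variable {r' : C' →ₐ[k] k} {J : Ideal C'} {γB : C' →+* B} {πB : B →+* B₀}

instance (Y : Lift γB J) : CommRing Y.E := Y.commRing

/-- the projection of a lift to the closed fibre. -/
def pi (πB : B →+* B₀) (Y : Lift γB J) : Y.E →+* B₀ := πB.comp Y.q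

theorem pi_apply (Y : Lift γB J) (y : Y.E) : pi πB Y y = πB (Y.q y) := rfl

section basic

variable (hD : IsBase r' J γB πB) (Y : Lift γB J)

include hD

theorem pi_γ (c : C') : pi πB Y (Y.γ c) = algebraMap k B₀ (r' c) := by
  rw [pi_apply, Y.q_γ, hD.πB_γB]

theorem pi_surj : Function.Surjective (pi πB Y) := hD.πB_surj.comp Y.q_surj

theorem J_le_ker : J ≤ RingHom.ker r' := fun j hj => RingHom.mem_ker.mpr (hD.J_le j hj)

theorem mem_map_of_pi_eq_zero (y : Y.E) (hy : pi πB Y y = 0) : y ∈ (RingHom.ker r').map Y.γ := by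
  have h1 : Y.q y ∈ (RingHom.ker r').map γB := hD.ker_πB _ hy
  have hγ : γB = Y.q.comp Y.γ := RingHom.ext fun c => (Y.q_γ c).symm
  have hmm : (RingHom.ker r').map γB = ((RingHom.ker r').map Y.γ).map Y.q := by
    rw [Ideal.map_map]
    exact congrArg (fun f => Ideal.map f (RingHom.ker r')) hγ
  rw [hmm, Ideal.mem_map_iff_of_surjective Y.q Y.q_surj] at h1
  obtain ⟨y', hy', hq⟩ := h1
  have h2 : Y.q (y - y') = 0 := by rw [map_sub, hq, sub_self]
  have h3 : y - y' ∈ (RingHom.ker r').map Y.γ := Ideal.map_mono (J_le_ker hD) (Y.ker_q _ h2)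
  have : y = y' + (y - y') := by ring
  rw [this]
  exact add_mem hy' h3

theorem pi_eq_zero_of_mem_map (y : Y.E) (hy : y ∈ (RingHom.ker r').map Y.γ) : pi πB Y y = 0 := by
  refine map_induction Y.γ (RingHom.ker r') (fun y => pi πB Y y = 0) (map_zero _) ?_ ?_ ?_ y hy
  · intro x y hx hy
    rw [map_add, hx, hy, add_zero]
  · intro s x hx
    rw [map_mul, hx, mul_zero]
  · intro a ha
    rw [pi_γ hD, RingHom.mem_ker.mp ha, map_zero]

theorem γ_mul_eq_zero (j : C') (hj : j ∈ J) (u : Y.E) (hu : u ∈ (RingHom.ker r').map Y.γ) :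
    Y.γ j * u = 0 := by
  refine map_induction Y.γ (RingHom.ker r') (fun u => Y.γ j * u = 0) (mul_zero _) ?_ ?_ ?_ u hu
  · intro x y hx hy
    rw [mul_add, hx, hy, add_zero]
  · intro s x hx
    rw [mul_left_comm, hx, mul_zero]
  · intro a ha
    rw [← map_mul, mul_comm, hD.mul_eq_zero a (RingHom.mem_ker.mp ha) j hj, map_zero]

theorem mul_eq_zero_of_mem (t : Y.E) (ht : t ∈ J.map Y.γ) (u : Y.E)
    (hu : u ∈ (RingHom.ker r').map Y.γ) : t * u = 0 := by
  refine map_induction Y.γ J (fun t => t * u = 0) (zero_mul _) ?_ ?_ ?_ t ht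
  · intro x y hx hy
    rw [add_mul, hx, hy, add_zero]
  · intro s x hx
    rw [mul_assoc, hx, mul_zero]
  · intro a ha
    exact γ_mul_eq_zero hD Y a ha u hu

theorem γ_mul_congr (j : C') (hj : j ∈ J) (y y' : Y.E) (h : pi πB Y y = pi πB Y y') :
    Y.γ j * y = Y.γ j * y' := by
  have h0 : pi πB Y (y - y') = 0 := by rw [map_sub, h, sub_self]
  have h1 := γ_mul_eq_zero hD Y j hj _ (mem_map_of_pi_eq_zero hD Y _ h0)
  rw [mul_sub] at h1
  exact sub_eq_zero.mp h1

/-- a set-theoretic section of the projection to the closed fibre. -/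
noncomputable def sec : B₀ → Y.E := Function.surjInv (pi_surj hD Y)

theorem pi_sec (b : B₀) : pi πB Y (sec hD Y b) = b := Function.surjInv_eq (pi_surj hD Y) b

/-- the bi-additive map underlying `ι`. -/
noncomputable def iotaAux : B₀ →+ (↥J →+ Y.E) where
  toFun b :=
    { toFun := fun j => Y.γ (j : C') * sec hD Y b
      map_zero' := by
        change Y.γ ((0 : C')) * _ = 0
        rw [map_zero, zero_mul]
      map_add' := fun j j' => by
        change Y.γ ((j : C') + (j' : C')) * _ = _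
        rw [map_add, add_mul] }
  map_zero' := by
    ext j
    change Y.γ (j : C') * sec hD Y 0 = 0
    have h := γ_mul_congr hD Y (j : C') j.2 (sec hD Y 0) 0 (by rw [pi_sec, map_zero])
    rw [h, mul_zero]
  map_add' := fun b b' => by
    ext j
    change Y.γ (j : C') * sec hD Y (b + b') = Y.γ (j : C') * sec hD Y b + Y.γ (j : C') * sec hD Y b'
    rw [← mul_add]
    exact γ_mul_congr hD Y (j : C') j.2 _ _ (by rw [pi_sec, map_add, pi_sec, pi_sec])

theorem iotaAux_apply (b : B₀) (j : ↥J) : iotaAux hD Y b j = Y.γ (j : C') * sec hD Y b := rfl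

theorem iotaAux_balanced (c : k) (b : B₀) (j : ↥J) :
    iotaAux hD Y (c • b) j = iotaAux hD Y b (c • j) := by
  rw [iotaAux_apply, iotaAux_apply]
  have h1 : ((c • j : ↥J) : C') = algebraMap k C' c * (j : C') := by
    have h0 : ((c • j : ↥J) : C') = c • (j : C') := rfl
    rw [h0, Algebra.smul_def]
  rw [h1, map_mul, mul_comm (Y.γ _) (Y.γ _), mul_assoc]
  refine γ_mul_congr hD Y (j : C') j.2 _ _ ?_
  rw [pi_sec, map_mul, pi_sec, pi_γ hD, AlgHom.commutes, Algebra.smul_def]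
  rfl

/-- the inclusion `ι : B₀ ⊗ J → E`, `b ⊗ j ↦ j y` for any lift `y` of `b`. -/
noncomputable def iota : B₀ ⊗[k] ↥J →+ Y.E :=
  TensorProduct.liftAddHom (iotaAux hD Y) (iotaAux_balanced hD Y)

theorem iota_tmul_sec (b : B₀) (j : ↥J) :
    iota hD Y (b ⊗ₜ[k] j) = Y.γ (j : C') * sec hD Y b := rfl

theorem iota_tmul (y : Y.E) (j : ↥J) :
    iota hD Y (pi πB Y y ⊗ₜ[k] j) = Y.γ (j : C') * y := by
  rw [iota_tmul_sec]
  exact γ_mul_congr hD Y (j : C') j.2 _ _ (pi_sec hD Y _)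

theorem q_iota (m : B₀ ⊗[k] ↥J) : Y.q (iota hD Y m) = 0 := by
  induction m using TensorProduct.induction_on with
  | zero => rw [map_zero, map_zero]
  | tmul b j =>
    rw [iota_tmul_sec, map_mul, Y.q_γ, hD.γB_J _ j.2, zero_mul]
  | add x y hx hy => rw [map_add, map_add, hx, hy, add_zero]

theorem pi_iota (m : B₀ ⊗[k] ↥J) : pi πB Y (iota hD Y m) = 0 := by
  rw [pi_apply, q_iota, map_zero]

theorem mul_iota (y : Y.E) (m : B₀ ⊗[k] ↥J) :
    y * iota hD Y m = iota hD Y (pi πB Y y • m) := by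
  induction m using TensorProduct.induction_on with
  | zero => rw [map_zero, mul_zero, smul_zero, map_zero]
  | tmul b j =>
    obtain ⟨y', rfl⟩ := pi_surj hD Y b
    rw [iota_tmul, TensorProduct.smul_tmul', smul_eq_mul, ← map_mul, iota_tmul]
    ring
  | add x x' hx hx' => rw [map_add, mul_add, hx, hx', smul_add, map_add]

theorem γ_mul_iota (c : C') (m : B₀ ⊗[k] ↥J) :
    Y.γ c * iota hD Y m = iota hD Y (r' c • m) := by
  rw [mul_iota, pi_γ hD, algebraMap_smul]

theorem exists_iota_of_q_eq_zero (y : Y.E) (hy : Y.q y = 0) : ∃ m, iota hD Y m = y := by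
  refine map_induction Y.γ J (fun y => ∃ m, iota hD Y m = y) ⟨0, map_zero _⟩ ?_ ?_ ?_ y
    (Y.ker_q y hy)
  · rintro x y ⟨m, rfl⟩ ⟨m', rfl⟩
    exact ⟨m + m', map_add _ _ _⟩
  · rintro s x ⟨m, rfl⟩
    exact ⟨pi πB Y s • m, (mul_iota hD Y s m).symm⟩
  · intro a ha
    refine ⟨(1 : B₀) ⊗ₜ[k] (⟨a, ha⟩ : ↥J), ?_⟩
    have h := iota_tmul hD Y (1 : Y.E) (⟨a, ha⟩ : ↥J)
    rw [map_one, mul_one] at h
    exact h

end basic

section inj

variable (hD : IsBase r' J γB πB) (Y : Lift γB J)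

include hD

/-- `ι` is injective: this is where flatness of the lift is used. -/
theorem iota_eq_zero (m : B₀ ⊗[k] ↥J) (hm : iota hD Y m = 0) : m = 0 := by
  obtain ⟨S, rfl⟩ := TensorProduct.exists_finset m
  have hrel : ∑ i : ↥S, Y.γ ((i : B₀ × ↥J).2 : C') * sec hD Y (i : B₀ × ↥J).1 = 0 := by
    calc ∑ i : ↥S, Y.γ ((i : B₀ × ↥J).2 : C') * sec hD Y (i : B₀ × ↥J).1
        = ∑ i : ↥S, iota hD Y ((i : B₀ × ↥J).1 ⊗ₜ[k] (i : B₀ × ↥J).2) :=
          Finset.sum_congr rfl fun i _ => by rw [iota_tmul_sec]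
      _ = ∑ i ∈ S, iota hD Y (i.1 ⊗ₜ[k] i.2) :=
          Finset.sum_coe_sort S (fun i => iota hD Y (i.1 ⊗ₜ[k] i.2))
      _ = iota hD Y (∑ i ∈ S, i.1 ⊗ₜ[k] i.2) := (map_sum _ _ _).symm
      _ = 0 := hm
  obtain ⟨κ, a, u, h1, h2⟩ := eqCrit Y.γ Y.flat (fun i : ↥S => ((i : B₀ × ↥J).2 : C'))
    (fun i : ↥S => sec hD Y (i : B₀ × ↥J).1) hrel
  replace h1 : ∀ i : ↥S, sec hD Y (i : B₀ × ↥J).1 = ∑ l, Y.γ (a i l) * u l := h1
  replace h2 : ∀ l, ∑ i : ↥S, ((i : B₀ × ↥J).2 : C') * a i l = 0 := h2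
  have hb : ∀ i : ↥S, (i : B₀ × ↥J).1 = ∑ l, r' (a i l) • pi πB Y (u l) := by
    intro i
    rw [← pi_sec hD Y (i : B₀ × ↥J).1, h1 i, map_sum]
    refine Finset.sum_congr rfl fun l _ => ?_
    rw [map_mul, pi_γ hD, Algebra.smul_def]
  have hterm : ∀ i : ↥S, (i : B₀ × ↥J).1 ⊗ₜ[k] (i : B₀ × ↥J).2 =
      ∑ l, pi πB Y (u l) ⊗ₜ[k] (r' (a i l) • (i : B₀ × ↥J).2) := by
    intro i
    conv_lhs => rw [hb i]
    rw [TensorProduct.sum_tmul]
    refine Finset.sum_congr rfl fun l _ => ?_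
    rw [TensorProduct.smul_tmul]
  have hz : ∀ l, ∑ i : ↥S, r' (a i l) • (i : B₀ × ↥J).2 = 0 := by
    intro l
    apply Subtype.ext
    rw [AddSubmonoidClass.coe_finsetSum]
    have hi : ∀ i : ↥S, ((r' (a i l) • (i : B₀ × ↥J).2 : ↥J) : C') =
        ((i : B₀ × ↥J).2 : C') * a i l := by
      intro i
      have h0 : ((r' (a i l) • (i : B₀ × ↥J).2 : ↥J) : C') =
          r' (a i l) • (((i : B₀ × ↥J).2 : ↥J) : C') := rfl
      rw [h0, Algebra.smul_def]
      have h3 : r' (a i l - algebraMap k C' (r' (a i l))) = 0 := by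
        rw [map_sub, AlgHom.commutes]
        exact sub_self _
      have h4 := hD.mul_eq_zero _ h3 _ (i : B₀ × ↥J).2.2
      rw [sub_mul, sub_eq_zero] at h4
      rw [← h4, mul_comm]
    rw [Finset.sum_congr rfl fun i _ => hi i]
    exact h2 l
  rw [← Finset.sum_coe_sort S (fun i => i.1 ⊗ₜ[k] i.2), Finset.sum_congr rfl fun i _ => hterm i,
    Finset.sum_comm]
  refine Finset.sum_eq_zero fun l _ => ?_
  rw [← TensorProduct.tmul_sum, hz l, TensorProduct.tmul_zero]

theorem iota_injective : Function.Injective (iota hD Y) := by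
  rw [injective_iff_map_eq_zero]
  exact iota_eq_zero hD Y

end inj

/-- a morphism of lifts. -/
structure LiftHom (Y Y' : Lift γB J) where
  f : Y.E →+* Y'.E
  f_γ : ∀ c, f (Y.γ c) = Y'.γ c
  q_f : ∀ y, Y'.q (f y) = Y.q y

namespace LiftHom

variable {Y Y' Y'' : Lift γB J}

/-- identity. -/
def id (Y : Lift γB J) : LiftHom Y Y := ⟨RingHom.id _, fun _ => rfl, fun _ => rfl⟩

/-- composition. -/
def comp (g : LiftHom Y' Y'') (f : LiftHom Y Y') : LiftHom Y Y'' :=
  ⟨g.f.comp f.f, fun c => by rw [RingHom.comp_apply, f.f_γ, g.f_γ],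
    fun y => by rw [RingHom.comp_apply, g.q_f, f.q_f]⟩

theorem pi_f (f : LiftHom Y Y') (y : Y.E) : pi πB Y' (f.f y) = pi πB Y y := by
  rw [pi_apply, f.q_f]; rfl

variable (hD : IsBase r' J γB πB)

include hD

theorem f_iota (f : LiftHom Y Y') (m : B₀ ⊗[k] ↥J) : f.f (iota hD Y m) = iota hD Y' m := by
  induction m using TensorProduct.induction_on with
  | zero => rw [map_zero, map_zero, map_zero]
  | tmul b j =>
    obtain ⟨y, rfl⟩ := pi_surj hD Y b
    rw [iota_tmul, map_mul, f.f_γ, ← f.pi_f (πB := πB), iota_tmul]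
  | add x x' hx hx' => rw [map_add, map_add, hx, hx', map_add]

theorem bijective (f : LiftHom Y Y') : Function.Bijective f.f := by
  constructor
  · rw [injective_iff_map_eq_zero]
    intro y hy
    have h1 : Y.q y = 0 := by rw [← f.q_f, hy, map_zero]
    obtain ⟨m, rfl⟩ := exists_iota_of_q_eq_zero hD Y y h1
    rw [f.f_iota hD] at hy
    rw [iota_eq_zero hD Y' m hy, map_zero]
  · intro y'
    obtain ⟨y, hy⟩ := Y.q_surj (Y'.q y')
    have h1 : Y'.q (y' - f.f y) = 0 := by rw [map_sub, f.q_f, hy, sub_self]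
    obtain ⟨m, hm⟩ := exists_iota_of_q_eq_zero hD Y' _ h1
    refine ⟨y + iota hD Y m, ?_⟩
    rw [map_add, f.f_iota hD, hm]
    ring

/-- the inverse of a morphism of lifts. -/
noncomputable def symm (f : LiftHom Y Y') : LiftHom Y' Y where
  f := (RingEquiv.ofBijective f.f (f.bijective hD)).symm.toRingHom
  f_γ := fun c => by
    change (RingEquiv.ofBijective f.f (f.bijective hD)).symm (Y'.γ c) = Y.γ c
    rw [RingEquiv.symm_apply_eq]
    exact (f.f_γ c).symm
  q_f := fun y' => by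
    change Y.q ((RingEquiv.ofBijective f.f (f.bijective hD)).symm y') = Y'.q y'
    obtain ⟨y, rfl⟩ := (RingEquiv.ofBijective f.f (f.bijective hD)).surjective y'
    rw [RingEquiv.symm_apply_apply]
    exact (f.q_f y).symm

end LiftHom

/-- isomorphism classes of lifts. -/
def liftSetoid (hD : IsBase r' J γB πB) : Setoid (Lift γB J) where
  r Y Y' := Nonempty (LiftHom Y Y')
  iseqv := ⟨fun Y => ⟨LiftHom.id Y⟩, fun ⟨f⟩ => ⟨f.symm hD⟩, fun ⟨f⟩ ⟨g⟩ => ⟨g.comp f⟩⟩

end Groth.Agent.Lib.LeadLx
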