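import Mathlib
import Groth.Agent.Lib.LeadHullB
import Groth.Agent.Lib.LeadLxA

/-!
# First-order ring-level deformations and `Hom(I/I², B₀)` (for S12308), part 1

For a deformation `D` of `B₀` over the dual numbers and a presentation `G : k[x_i] → B₀`, a lift
`σ : k[x_i] → D.E` sends the kernel `I` into `ε D.E`; dividing by `ε` gives a `B₀`-linear map
`I/I² → B₀`, well defined up to restrictions of derivations.
-/

set_option autoImplicit false
set_option maxHeartbeats 400000
set_option linter.style.haveILetI false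
set_option linter.unusedSectionVars false
set_option linter.unusedVariables false

universe u

namespace Groth.Agent.Lib.LeadHull

open TrivSqZeroExt

variable {k B₀ : Type u} [Field k] [CommRing B₀] [Algebra k B₀]

/-! ### lifts of a presentation to a deformation -/

section lift

variable {A : Type u} [CommRing A] {r : A →+* k} (D : DefRing r (algebraMap k B₀))
  (Q : Algebra.Extension.{u} k B₀)

/-- `σ` lifts the extension `Q` to the deformation `D` (compatibly with `j : k → A`). -/
structure IsLift (j : k →+* A) (σ : Q.Ring →+* D.E) : Prop where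
  map_alg : ∀ c : k, σ (algebraMap k Q.Ring c) = D.γ (j c)
  π_map : ∀ p, D.π (σ p) = algebraMap Q.Ring B₀ p

theorem exists_isLift_gen {ι : Type} (G : Algebra.Generators k B₀ ι) {j : k →+* A}
    (hj : ∀ c, r (j c) = c) : ∃ σ, IsLift D G.toExtension j σ := by
  choose t ht using fun i : ι => D.π_surj (G.val i)
  obtain ⟨σ, hσ⟩ : ∃ σ : G.toExtension.Ring →+* D.E,
      σ = MvPolynomial.eval₂Hom (D.γ.comp j) t := ⟨_, rfl⟩
  have h : D.π.comp (MvPolynomial.eval₂Hom (D.γ.comp j) t) =
      (MvPolynomial.aeval (R := k) G.val).toRingHom := by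
    apply MvPolynomial.ringHom_ext
    · intro c
      rw [RingHom.comp_apply, MvPolynomial.eval₂Hom_C, RingHom.comp_apply, D.π_γ, hj]
      exact (MvPolynomial.aeval_C _ c).symm
    · intro i
      rw [RingHom.comp_apply, MvPolynomial.eval₂Hom_X', ht]
      exact (MvPolynomial.aeval_X _ i).symm
  refine ⟨σ, fun c => ?_, fun p => ?_⟩
  · rw [hσ]
    exact MvPolynomial.eval₂Hom_C _ _ c
  · rw [hσ]
    exact (RingHom.congr_fun h p).trans (G.algebraMap_apply p).symm

end lift

/-! ### deformations over the dual numbers -/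

section dual

variable {r : DualNumber k →+* k} (D : DefRing r (algebraMap k B₀))

/-- the image of `ε` in a deformation over the dual numbers. -/
def epsD : D.E := D.γ (inr 1)

theorem epsD_mul_epsD : epsD D * epsD D = 0 := by
  unfold epsD
  rw [← map_mul, inr_mul_inr, map_zero]

theorem γ_eq (a : DualNumber k) : D.γ a = D.γ (inl a.fst) + epsD D * D.γ (inl a.snd) := by
  unfold epsD
  rw [← map_mul, ← map_add]
  congr 1
  refine TrivSqZeroExt.ext ?_ ?_
  · rw [fst_add, fst_inl, fst_mul, fst_inr, zero_mul, add_zero]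
  · rw [snd_add, snd_inl, zero_add, mul_comm, inl_mul_inr, snd_inr, smul_eq_mul, mul_one]

variable (hr : ∀ a, r a = a.fst)

include hr in
theorem π_epsD : D.π (epsD D) = 0 := by
  unfold epsD
  rw [D.π_γ, hr, fst_inr, map_zero]

include hr in
theorem ker_r_eq : RingHom.ker r = Ideal.span {(inr 1 : DualNumber k)} := by
  ext a
  rw [RingHom.mem_ker, hr, Ideal.mem_span_singleton']
  constructor
  · intro ha
    refine ⟨inl a.snd, ?_⟩
    rw [inl_mul_inr, smul_eq_mul, mul_one]
    exact TrivSqZeroExt.ext (by rw [fst_inr, ha]) (by rw [snd_inr])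
  · rintro ⟨b, rfl⟩
    rw [fst_mul, fst_inr, mul_zero]

include hr in
/-- elements of the kernel of `π` are multiples of `ε`. -/
theorem exists_eq_eps_mul {y : D.E} (hy : D.π y = 0) : ∃ e, y = epsD D * e := by
  have h1 := D.ker_π y hy
  rw [ker_r_eq hr, Ideal.map_span, Set.image_singleton, Ideal.mem_span_singleton'] at h1
  obtain ⟨e, he⟩ := h1
  exact ⟨e, by rw [← he, mul_comm]; rfl⟩

include hr in
/-- flatness: `ε e = 0` implies `π e = 0`. -/
theorem π_eq_zero_of_eps_mul {e : D.E} (he : epsD D * e = 0) : D.π e = 0 := by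
  obtain ⟨n, a, y, hx, ha⟩ := Groth.Agent.Lib.LeadLx.eqCrit D.γ D.flat (ι := Fin 1)
    (fun _ => (inr 1 : DualNumber k)) (fun _ => e) (by
      rw [Fin.sum_univ_one]
      exact he)
  have h1 := hx 0
  rw [h1, map_sum]
  refine Finset.sum_eq_zero (fun l _ => ?_)
  have h2 := ha l
  rw [Fin.sum_univ_one] at h2
  have h3 : (a 0 l).fst = 0 := by
    have h4 := congrArg TrivSqZeroExt.snd h2
    rw [mul_comm, ← inl_fst_add_inr_snd_eq (a 0 l), add_mul, inr_mul_inr, add_zero,
      inl_mul_inr, snd_inr, smul_eq_mul, mul_one, snd_zero] at h4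
    rw [← inl_fst_add_inr_snd_eq (a 0 l), fst_add, fst_inl, fst_inr, add_zero]
    exact h4
  rw [map_mul, D.π_γ, hr, h3, map_zero, zero_mul]

/-- `y = ε e` with `π e = b`. -/
def DivEps (y : D.E) (b : B₀) : Prop := ∃ e, y = epsD D * e ∧ D.π e = b

theorem DivEps.eps_mul (e : D.E) : DivEps D (epsD D * e) (D.π e) := ⟨e, rfl, rfl⟩

theorem DivEps.zero : DivEps D 0 0 := ⟨0, by rw [mul_zero], map_zero _⟩

variable {D}

theorem DivEps.add {y y' : D.E} {b b' : B₀} (h : DivEps D y b) (h' : DivEps D y' b') :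
    DivEps D (y + y') (b + b') := by
  obtain ⟨e, rfl, rfl⟩ := h
  obtain ⟨e', rfl, rfl⟩ := h'
  exact ⟨e + e', by rw [mul_add], map_add _ _ _⟩

theorem DivEps.neg {y : D.E} {b : B₀} (h : DivEps D y b) : DivEps D (-y) (-b) := by
  obtain ⟨e, rfl, rfl⟩ := h
  exact ⟨-e, by rw [mul_neg], map_neg _ _⟩

theorem DivEps.sub {y y' : D.E} {b b' : B₀} (h : DivEps D y b) (h' : DivEps D y' b') :
    DivEps D (y - y') (b - b') := by
  rw [sub_eq_add_neg, sub_eq_add_neg]
  exact h.add h'.neg

theorem DivEps.mul_left {y : D.E} {b : B₀} (h : DivEps D y b) (z : D.E) :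
    DivEps D (z * y) (D.π z * b) := by
  obtain ⟨e, rfl, rfl⟩ := h
  exact ⟨z * e, by ring, map_mul _ _ _⟩

theorem DivEps.congr {y y' : D.E} {b b' : B₀} (h : DivEps D y b) (hy : y = y') (hb : b = b') :
    DivEps D y' b' := by
  subst hy; subst hb; exact h

include hr in
theorem DivEps.unique {y : D.E} {b b' : B₀} (h : DivEps D y b) (h' : DivEps D y b') :
    b = b' := by
  obtain ⟨e, he, rfl⟩ := h
  obtain ⟨e', he', rfl⟩ := h'
  have h0 : epsD D * (e - e') = 0 := by rw [mul_sub, ← he, ← he', sub_self]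
  have h1 := π_eq_zero_of_eps_mul D hr h0
  rw [map_sub, sub_eq_zero] at h1
  exact h1

include hr in
theorem DivEps.exists {y : D.E} (hy : D.π y = 0) : ∃ b, DivEps D y b := by
  obtain ⟨e, he⟩ := exists_eq_eps_mul D hr hy
  exact ⟨D.π e, e, he, rfl⟩

include hr in
/-- `ε e` vanishes when `π e = 0`. -/
theorem eps_mul_eq_zero {e : D.E} (he : D.π e = 0) : epsD D * e = 0 := by
  obtain ⟨e', rfl⟩ := exists_eq_eps_mul D hr he
  rw [← mul_assoc, epsD_mul_epsD, zero_mul]

end dual

/-! ### the linear map attached to a lift -/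

section rep

variable (Q : Algebra.Extension.{u} k B₀)

/-- the `B₀`-linear map on the cotangent module induced by a linear map on the kernel. -/
noncomputable def homOfKer (φ : Q.ker →ₗ[Q.Ring] B₀) : Q.Cotangent →ₗ[B₀] B₀ :=
  (((Q.ker • (⊤ : Submodule Q.Ring Q.ker)).liftQ φ (by
      rw [Submodule.smul_le]
      intro p hp n _
      rw [LinearMap.mem_ker, map_smul, Algebra.smul_def, RingHom.mem_ker.mp hp, zero_mul])).comp
    Q.cotangentEquivCotangentKer.toLinearMap).extendScalarsOfSurjective Q.algebraMap_surjective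

theorem homOfKer_mk (φ : Q.ker →ₗ[Q.Ring] B₀) (f : Q.ker) :
    homOfKer Q φ (Algebra.Extension.Cotangent.mk f) = φ f := rfl

/-- the class of the restriction of a derivation. -/
noncomputable def dH (d : Derivation k Q.Ring B₀) : Q.Cotangent →ₗ[B₀] B₀ :=
  (d.liftKaehlerDifferential.liftBaseChange B₀).comp Q.cotangentComplex

theorem dH_mk (d : Derivation k Q.Ring B₀) (f : Q.ker) :
    dH Q d (Algebra.Extension.Cotangent.mk f) = d f := by
  unfold dH
  rw [LinearMap.comp_apply, Algebra.Extension.cotangentComplex_mk,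
    LinearMap.liftBaseChange_tmul, one_smul]
  exact Derivation.liftKaehlerDifferential_comp_D d _

/-- the submodule of restrictions of derivations. -/
noncomputable abbrev Rg : Submodule B₀ (Q.Cotangent →ₗ[B₀] B₀) :=
  LinearMap.range (LinearMap.lcomp B₀ B₀ Q.cotangentComplex)

theorem dH_mem (d : Derivation k Q.Ring B₀) : dH Q d ∈ Rg Q :=
  ⟨d.liftKaehlerDifferential.liftBaseChange B₀, rfl⟩

theorem hom_ext_mk {h h' : Q.Cotangent →ₗ[B₀] B₀}
    (H : ∀ f : Q.ker, h (Algebra.Extension.Cotangent.mk f) =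
      h' (Algebra.Extension.Cotangent.mk f)) : h = h' := by
  refine LinearMap.ext (fun x => ?_)
  obtain ⟨f, rfl⟩ := Algebra.Extension.Cotangent.mk_surjective x
  exact H f

theorem exists_dH_of_mem {h : Q.Cotangent →ₗ[B₀] B₀} (hh : h ∈ Rg Q) :
    ∃ d : Derivation k Q.Ring B₀, h = dH Q d := by
  obtain ⟨l, rfl⟩ := hh
  refine ⟨((l.restrictScalars Q.Ring).comp
    (TensorProduct.mk Q.Ring B₀ (Ω[Q.Ring⁄k]) 1)).compDer (KaehlerDifferential.D k Q.Ring), ?_⟩
  refine hom_ext_mk Q (fun f => ?_)
  rw [dH_mk]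
  rfl

variable {r : DualNumber k →+* k} (D : DefRing r (algebraMap k B₀))

/-- `h` is the linear map attached to the lift `σ`. -/
def Rep (σ : Q.Ring →+* D.E) (h : Q.Cotangent →ₗ[B₀] B₀) : Prop :=
  ∀ f : Q.ker, DivEps D (σ f) (h (Algebra.Extension.Cotangent.mk f))

variable (hr : ∀ a, r a = a.fst)

variable {D Q}

include hr in
theorem Rep.unique {σ : Q.Ring →+* D.E} {h h' : Q.Cotangent →ₗ[B₀] B₀}
    (H : Rep Q D σ h) (H' : Rep Q D σ h') : h = h' :=
  hom_ext_mk Q (fun f => (H f).unique hr (H' f))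

include hr in
theorem exists_rep {σ : Q.Ring →+* D.E} (hσ : IsLift D Q (inlHom k k) σ) :
    ∃ h, Rep Q D σ h := by
  have h0 : ∀ f : Q.ker, D.π (σ f) = 0 := fun f => by
    rw [hσ.π_map]
    exact RingHom.mem_ker.mp f.2
  choose b hb using fun f : Q.ker => DivEps.exists hr (h0 f)
  have hadd : ∀ f f', b (f + f') = b f + b f' := fun f f' => by
    refine (hb (f + f')).unique hr (((hb f).add (hb f')).congr ?_ rfl)
    rw [Submodule.coe_add, map_add]
  have hsmul : ∀ (p : Q.Ring) f, b (p • f) = p • b f := fun p f => by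
    refine (hb (p • f)).unique hr (((hb f).mul_left (σ p)).congr ?_ ?_)
    · rw [Submodule.coe_smul, smul_eq_mul, map_mul]
    · rw [hσ.π_map, Algebra.smul_def]
  refine ⟨homOfKer Q { toFun := b, map_add' := hadd, map_smul' := hsmul }, fun f => ?_⟩
  rw [homOfKer_mk]
  exact hb f

include hr in
/-- two lifts differ by `ε` times a derivation. -/
theorem exists_derivation_of_isLift {σ σ' : Q.Ring →+* D.E}
    (hσ : IsLift D Q (inlHom k k) σ) (hσ' : IsLift D Q (inlHom k k) σ') :
    ∃ d : Derivation k Q.Ring B₀, ∀ p, DivEps D (σ' p - σ p) (d p) := by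
  have h0 : ∀ p : Q.Ring, D.π (σ' p - σ p) = 0 := fun p => by
    rw [map_sub, hσ.π_map, hσ'.π_map, sub_self]
  choose b hb using fun p : Q.Ring => DivEps.exists hr (h0 p)
  have hadd : ∀ p q, b (p + q) = b p + b q := fun p q => by
    refine (hb (p + q)).unique hr (((hb p).add (hb q)).congr ?_ rfl)
    rw [map_add, map_add]; ring
  have hsmul : ∀ (c : k) p, b (c • p) = c • b p := fun c p => by
    refine (hb (c • p)).unique hr (((hb p).mul_left (D.γ (inlHom k k c))).congr ?_ ?_)
    · rw [Algebra.smul_def, map_mul, map_mul, hσ.map_alg, hσ'.map_alg]; ring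
    · rw [D.π_γ, hr, Algebra.smul_def]; rfl
  have hleib : ∀ p q, b (p * q) = p • b q + q • b p := fun p q => by
    refine (hb (p * q)).unique hr
      ((((hb q).mul_left (σ p)).add ((hb p).mul_left (σ' q))).congr ?_ ?_)
    · rw [map_mul, map_mul]; ring
    · rw [hσ.π_map, hσ'.π_map, Algebra.smul_def, Algebra.smul_def]
  have hone : b 1 = 0 := by
    refine (hb 1).unique hr ((DivEps.zero D).congr ?_ rfl)
    rw [map_one, map_one, sub_self]
  exact ⟨{ toLinearMap := { toFun := b, map_add' := hadd, map_smul' := hsmul }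
           map_one_eq_zero' := hone
           leibniz' := hleib }, fun p => hb p⟩

include hr in
theorem eps_congr {e e' : D.E} (h : D.π e = D.π e') : epsD D * e = epsD D * e' := by
  have h1 : epsD D * (e - e') = 0 := eps_mul_eq_zero hr (by rw [map_sub, h, sub_self])
  rw [mul_sub, sub_eq_zero] at h1
  exact h1

include hr in
/-- a lift can be adjusted by any derivation. -/
theorem exists_isLift_adjust {σ : Q.Ring →+* D.E} (hσ : IsLift D Q (inlHom k k) σ)
    (d : Derivation k Q.Ring B₀) :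
    ∃ σ', IsLift D Q (inlHom k k) σ' ∧ ∀ p, DivEps D (σ' p - σ p) (d p) := by
  choose t ht using fun p : Q.Ring => D.π_surj (d p)
  have h1 : epsD D * t 1 = 0 := eps_mul_eq_zero hr (by rw [ht, Derivation.map_one_eq_zero])
  have h0 : epsD D * t 0 = 0 := eps_mul_eq_zero hr (by rw [ht, map_zero])
  have hmul : ∀ p q, epsD D * t (p * q) = epsD D * (σ p * t q + σ q * t p) := fun p q => by
    apply eps_congr hr
    rw [ht, Derivation.leibniz, map_add D.π, map_mul D.π, map_mul D.π, ht, ht, hσ.π_map,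
      hσ.π_map, Algebra.smul_def, Algebra.smul_def]
  have hadd : ∀ p q, epsD D * t (p + q) = epsD D * (t p + t q) := fun p q => by
    apply eps_congr hr
    rw [ht, map_add d, map_add D.π, ht, ht]
  have halg : ∀ c : k, epsD D * t (algebraMap k Q.Ring c) = 0 := fun c =>
    eps_mul_eq_zero hr (by rw [ht, Derivation.map_algebraMap])
  obtain ⟨σ', hσ'⟩ : ∃ σ' : Q.Ring →+* D.E, ∀ p, σ' p = σ p + epsD D * t p :=
    ⟨{ toFun := fun p => σ p + epsD D * t p
       map_one' := by rw [map_one, h1, add_zero]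
       map_mul' := fun p q => by
         rw [map_mul, hmul]
         linear_combination (-(t p * t q)) * epsD_mul_epsD D
       map_zero' := by rw [map_zero, h0, add_zero]
       map_add' := fun p q => by
         rw [map_add, hadd]; ring }, fun p => rfl⟩
  refine ⟨σ', ⟨fun c => ?_, fun p => ?_⟩, fun p => ?_⟩
  · rw [hσ', halg, add_zero, hσ.map_alg]
  · rw [hσ', map_add, map_mul, π_epsD D hr, zero_mul, add_zero, hσ.π_map]
  · exact ⟨t p, by rw [hσ']; ring, ht p⟩

theorem Rep.of_diff {σ σ' : Q.Ring →+* D.E} {h : Q.Cotangent →ₗ[B₀] B₀}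
    (H : Rep Q D σ h) {d : Derivation k Q.Ring B₀} (hd : ∀ p, DivEps D (σ' p - σ p) (d p)) :
    Rep Q D σ' (h + dH Q d) := by
  intro f
  refine ((H f).add (hd f)).congr (by ring) ?_
  rw [LinearMap.add_apply, dH_mk]

include hr in
theorem Rep.sub_mem {σ σ' : Q.Ring →+* D.E} {h h' : Q.Cotangent →ₗ[B₀] B₀}
    (hσ : IsLift D Q (inlHom k k) σ) (hσ' : IsLift D Q (inlHom k k) σ')
    (H : Rep Q D σ h) (H' : Rep Q D σ' h') : h' - h ∈ Rg Q := by
  obtain ⟨d, hd⟩ := exists_derivation_of_isLift hr hσ hσ'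
  have h1 : h' = h + dH Q d := H'.unique hr (H.of_diff hd)
  rw [h1, add_sub_cancel_left]
  exact dH_mem Q d

end rep

end Groth.Agent.Lib.LeadHull
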