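import Mathlib
import Groth.Agent.Lib.LeadHullE

/-!
# First-order ring-level deformations and `Hom(I/I², B₀)` (for S12308), part 2

The class of a first-order deformation in `T¹ = Hom(I/I², B₀) / Der`: it is well defined,
compatible with `ε ↦ c ε` and with the sum map `k[ε₁, ε₂] → k[ε]`, and it determines the
deformation.
-/

set_option autoImplicit false
set_option maxHeartbeats 400000
set_option linter.style.haveILetI false
set_option linter.unusedSectionVars false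
set_option linter.unusedVariables false

universe u

namespace Groth.Agent.Lib.LeadHull

open TrivSqZeroExt

variable {k B₀ : Type u} [Field k] [CommRing B₀] [Algebra k B₀]
  (Q : Algebra.Extension.{u} k B₀)

/-- the target `T¹` of the tangent map. -/
abbrev VT : Type u := (Q.Cotangent →ₗ[B₀] B₀) ⧸ Rg Q

section cls

variable {r : DualNumber k →+* k} (D : DefRing r (algebraMap k B₀))

/-- `v` is the class of the first-order deformation `D`. -/
def HasClass (v : VT Q) : Prop :=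
  ∃ (σ : Q.Ring →+* D.E) (h : Q.Cotangent →ₗ[B₀] B₀),
    IsLift D Q (inlHom k k) σ ∧ Rep Q D σ h ∧ Submodule.Quotient.mk h = v

variable {Q D}

theorem HasClass.unique (hr : ∀ a, r a = a.fst) {v v' : VT Q} (H : HasClass Q D v)
    (H' : HasClass Q D v') : v = v' := by
  obtain ⟨σ, h, hσ, hrep, rfl⟩ := H
  obtain ⟨σ', h', hσ', hrep', rfl⟩ := H'
  symm
  rw [Submodule.Quotient.eq]
  exact Rep.sub_mem hr hσ hσ' hrep hrep'

theorem exists_hasClass (hr : ∀ a, r a = a.fst) (hlift : ∃ σ, IsLift D Q (inlHom k k) σ) :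
    ∃ v, HasClass Q D v := by
  obtain ⟨σ, hσ⟩ := hlift
  obtain ⟨h, hrep⟩ := exists_rep hr hσ
  exact ⟨_, σ, h, hσ, hrep, rfl⟩

end cls

/-! ### compatibility with `ε ↦ c ε` -/

section scale

variable {Q}
variable {r r' : DualNumber k →+* k} {D : DefRing r (algebraMap k B₀)}
  {D' : DefRing r' (algebraMap k B₀)}

theorem isLift_comp {A : Type u} [CommRing A] {rA : A →+* k} {N : DefRing rA (algebraMap k B₀)}
    {j : k →+* A} {g : A →+* DualNumber k} (hg : ∀ a : k, g (j a) = inl a)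
    (F : DefRing.Hom g N D') {σ : Q.Ring →+* N.E} (hσ : IsLift N Q j σ) :
    IsLift D' Q (inlHom k k) (F.G.comp σ) := by
  refine ⟨fun a => ?_, fun p => ?_⟩
  · rw [RingHom.comp_apply, hσ.map_alg, F.G_γ, hg]
    rfl
  · rw [RingHom.comp_apply, F.π_G, hσ.π_map]

theorem HasClass.scale (hr' : ∀ a, r' a = a.fst) {g : DualNumber k →+* DualNumber k} {c : k}
    (hg1 : ∀ a : k, g (inl a) = inl a) (hg2 : g (inr 1) = inl c * inr 1)
    (F : DefRing.Hom g D D') {v : VT Q} (H : HasClass Q D v) : HasClass Q D' (c • v) := by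
  obtain ⟨σ, h, hσ, hrep, rfl⟩ := H
  refine ⟨F.G.comp σ, c • h, isLift_comp (j := inlHom k k) hg1 F hσ, fun f => ?_, rfl⟩
  obtain ⟨e, he, hπ⟩ := hrep f
  refine ⟨D'.γ (inl c) * F.G e, ?_, ?_⟩
  · rw [RingHom.comp_apply, he, map_mul]
    unfold epsD
    rw [F.G_γ, hg2, map_mul]
    ring
  · rw [map_mul, D'.π_γ, hr', fst_inl, F.π_G, hπ, LinearMap.smul_apply, Algebra.smul_def]

end scale

/-! ### compatibility with the sum map -/

section plus

variable {Q}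
variable {r2 : TrivSqZeroExt k (k × k) →+* k} (hr2 : ∀ a, r2 a = a.fst)
  (N : DefRing r2 (algebraMap k B₀))

include hr2 in
theorem ker_r2_eq : RingHom.ker r2 =
    Ideal.span {(inr (1, 0) : TrivSqZeroExt k (k × k)), inr (0, 1)} := by
  ext a
  rw [RingHom.mem_ker, hr2, Ideal.mem_span_pair]
  constructor
  · intro ha
    refine ⟨inl a.snd.1, inl a.snd.2, ?_⟩
    rw [inl_mul_inr, inl_mul_inr, ← inr_add]
    refine TrivSqZeroExt.ext (by rw [fst_inr, ha]) ?_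
    rw [snd_inr]
    refine Prod.ext ?_ ?_
    · simp
    · simp
  · rintro ⟨b, c, rfl⟩
    rw [fst_add, fst_mul, fst_mul, fst_inr, fst_inr, mul_zero, mul_zero, add_zero]

include hr2 in
theorem exists_eq_eps12 {y : N.E} (hy : N.π y = 0) :
    ∃ a b, y = N.γ (inr (1, 0)) * a + N.γ (inr (0, 1)) * b := by
  have h1 := N.ker_π y hy
  rw [ker_r2_eq hr2, Ideal.map_span, Set.image_pair, Ideal.mem_span_pair] at h1
  obtain ⟨a, b, hab⟩ := h1
  exact ⟨a, b, by rw [← hab]; ring⟩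

variable {r₁ r₂ r₃ : DualNumber k →+* k} {D₁ : DefRing r₁ (algebraMap k B₀)}
  {D₂ : DefRing r₂ (algebraMap k B₀)} {D₃ : DefRing r₃ (algebraMap k B₀)}

include hr2 in
theorem HasClass.plus (hr₁ : ∀ a, r₁ a = a.fst) (hr₂ : ∀ a, r₂ a = a.fst)
    (hr₃ : ∀ a, r₃ a = a.fst) {g₁ g₂ g₃ : TrivSqZeroExt k (k × k) →+* DualNumber k}
    (h1l : ∀ a : k, g₁ (inl a) = inl a) (h1a : g₁ (inr (1, 0)) = inr 1)
    (h1b : g₁ (inr (0, 1)) = 0)
    (h2l : ∀ a : k, g₂ (inl a) = inl a) (h2a : g₂ (inr (1, 0)) = 0)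
    (h2b : g₂ (inr (0, 1)) = inr 1)
    (h3l : ∀ a : k, g₃ (inl a) = inl a) (h3a : g₃ (inr (1, 0)) = inr 1)
    (h3b : g₃ (inr (0, 1)) = inr 1)
    (F₁ : DefRing.Hom g₁ N D₁) (F₂ : DefRing.Hom g₂ N D₂) (F₃ : DefRing.Hom g₃ N D₃)
    (hlift : ∃ σ, IsLift N Q (inlHom k (k × k)) σ)
    {v₁ v₂ v₃ : VT Q} (H₁ : HasClass Q D₁ v₁) (H₂ : HasClass Q D₂ v₂) (H₃ : HasClass Q D₃ v₃) :
    v₃ = v₁ + v₂ := by
  obtain ⟨σ, hσ⟩ := hlift
  have L₁ := isLift_comp (j := inlHom k (k × k)) h1l F₁ hσ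
  have L₂ := isLift_comp (j := inlHom k (k × k)) h2l F₂ hσ
  have L₃ := isLift_comp (j := inlHom k (k × k)) h3l F₃ hσ
  obtain ⟨h₁, hrep₁⟩ := exists_rep hr₁ L₁
  obtain ⟨h₂, hrep₂⟩ := exists_rep hr₂ L₂
  obtain ⟨h₃, hrep₃⟩ := exists_rep hr₃ L₃
  have e₁ : v₁ = Submodule.Quotient.mk h₁ := H₁.unique hr₁ ⟨_, _, L₁, hrep₁, rfl⟩
  have e₂ : v₂ = Submodule.Quotient.mk h₂ := H₂.unique hr₂ ⟨_, _, L₂, hrep₂, rfl⟩
  have e₃ : v₃ = Submodule.Quotient.mk h₃ := H₃.unique hr₃ ⟨_, _, L₃, hrep₃, rfl⟩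
  have key : h₃ = h₁ + h₂ := hom_ext_mk Q (fun f => by
    obtain ⟨a, b, hab⟩ := exists_eq_eps12 hr2 N (y := σ f) (by
      rw [hσ.π_map]
      exact RingHom.mem_ker.mp f.2)
    have d₁ : DivEps D₁ (F₁.G (σ f)) (N.π a) := ⟨F₁.G a, by
      rw [hab, map_add, map_mul, map_mul, F₁.G_γ, F₁.G_γ, h1a, h1b, map_zero, zero_mul,
        add_zero]
      rfl, F₁.π_G a⟩
    have d₂ : DivEps D₂ (F₂.G (σ f)) (N.π b) := ⟨F₂.G b, by
      rw [hab, map_add, map_mul, map_mul, F₂.G_γ, F₂.G_γ, h2a, h2b, map_zero, zero_mul,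
        zero_add]
      rfl, F₂.π_G b⟩
    have d₃ : DivEps D₃ (F₃.G (σ f)) (N.π a + N.π b) := ⟨F₃.G a + F₃.G b, by
      rw [hab, map_add, map_mul, map_mul, F₃.G_γ, F₃.G_γ, h3a, h3b, mul_add]
      rfl, by rw [map_add, F₃.π_G, F₃.π_G]⟩
    have q₁ : h₁ (Algebra.Extension.Cotangent.mk f) = N.π a := (hrep₁ f).unique hr₁ d₁
    have q₂ : h₂ (Algebra.Extension.Cotangent.mk f) = N.π b := (hrep₂ f).unique hr₂ d₂
    have q₃ : h₃ (Algebra.Extension.Cotangent.mk f) = N.π a + N.π b :=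
      (hrep₃ f).unique hr₃ d₃
    rw [LinearMap.add_apply, q₁, q₂, q₃])
  rw [e₁, e₂, e₃, key]
  rfl

end plus

/-! ### the class determines the deformation -/

section inj

variable {Q}

/-- the ring map `R[ε] → E`, `p + ε p' ↦ σ p + t σ p'`. -/
def Psi {E : Type u} [CommRing E] (σ : Q.Ring →+* E) (t : E) (ht : t * t = 0) :
    TrivSqZeroExt Q.Ring Q.Ring →+* E where
  toFun x := σ x.fst + t * σ x.snd
  map_one' := by
    rw [fst_one, snd_one, map_one, map_zero, mul_zero, add_zero]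
  map_mul' x y := by
    rw [fst_mul, snd_mul, smul_eq_mul, MulOpposite.smul_eq_mul_unop, MulOpposite.unop_op,
      map_mul, map_add, map_mul, map_mul]
    linear_combination (-(σ x.snd * σ y.snd)) * ht
  map_zero' := by
    rw [fst_zero, snd_zero, map_zero, mul_zero, add_zero]
  map_add' x y := by
    rw [fst_add, snd_add, map_add, map_add]
    ring

theorem Psi_apply {E : Type u} [CommRing E] (σ : Q.Ring →+* E) (t : E) (ht : t * t = 0)
    (x : TrivSqZeroExt Q.Ring Q.Ring) : Psi σ t ht x = σ x.fst + t * σ x.snd := rfl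

variable {r : DualNumber k →+* k} (hr : ∀ a, r a = a.fst) {D : DefRing r (algebraMap k B₀)}

include hr in
theorem π_Psi {σ : Q.Ring →+* D.E} (hσ : IsLift D Q (inlHom k k) σ)
    (x : TrivSqZeroExt Q.Ring Q.Ring) :
    D.π (Psi σ (epsD D) (epsD_mul_epsD D) x) = algebraMap Q.Ring B₀ x.fst := by
  rw [Psi_apply, map_add, map_mul, π_epsD D hr, zero_mul, add_zero, hσ.π_map]

include hr in
theorem Psi_surjective {σ : Q.Ring →+* D.E} (hσ : IsLift D Q (inlHom k k) σ) :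
    Function.Surjective (Psi σ (epsD D) (epsD_mul_epsD D)) := by
  intro e
  obtain ⟨p, hp⟩ := Q.algebraMap_surjective (D.π e)
  obtain ⟨e', he'⟩ := exists_eq_eps_mul D hr (y := e - σ p) (by
    rw [map_sub, hσ.π_map, hp, sub_self])
  obtain ⟨p', hp'⟩ := Q.algebraMap_surjective (D.π e')
  have h1 : epsD D * e' = epsD D * σ p' := eps_congr hr (by rw [hσ.π_map, hp'])
  refine ⟨inl p + inr p', ?_⟩
  rw [Psi_apply, fst_add, fst_inl, fst_inr, add_zero, snd_add, snd_inl, snd_inr, zero_add,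
    ← h1, ← he']
  ring

include hr in
theorem Psi_alg {σ : Q.Ring →+* D.E} (hσ : IsLift D Q (inlHom k k) σ) (a : DualNumber k) :
    Psi σ (epsD D) (epsD_mul_epsD D)
      (inl (algebraMap k Q.Ring a.fst) + inr (algebraMap k Q.Ring a.snd)) = D.γ a := by
  rw [Psi_apply, fst_add, fst_inl, fst_inr, add_zero, snd_add, snd_inl, snd_inr, zero_add,
    hσ.map_alg, hσ.map_alg, γ_eq D a]
  rfl

include hr in
theorem Psi_eq_zero_iff {σ : Q.Ring →+* D.E} (hσ : IsLift D Q (inlHom k k) σ)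
    {h : Q.Cotangent →ₗ[B₀] B₀} (hrep : Rep Q D σ h) (x : TrivSqZeroExt Q.Ring Q.Ring) :
    Psi σ (epsD D) (epsD_mul_epsD D) x = 0 ↔
      ∃ hx : x.fst ∈ Q.ker, h (Algebra.Extension.Cotangent.mk ⟨x.fst, hx⟩) +
        algebraMap Q.Ring B₀ x.snd = 0 := by
  constructor
  · intro h0
    have hx : x.fst ∈ Q.ker := by
      rw [RingHom.mem_ker, ← π_Psi hr hσ x, h0, map_zero]
    refine ⟨hx, ?_⟩
    obtain ⟨e, he, hπ⟩ := hrep ⟨x.fst, hx⟩
    have he' : σ x.fst = epsD D * e := he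
    have h1 : epsD D * (e + σ x.snd) = 0 := by
      rw [mul_add, ← he', ← Psi_apply σ (epsD D) (epsD_mul_epsD D) x, h0]
    have h2 := π_eq_zero_of_eps_mul D hr h1
    rw [map_add, hπ, hσ.π_map] at h2
    exact h2
  · rintro ⟨hx, h0⟩
    obtain ⟨e, he, hπ⟩ := hrep ⟨x.fst, hx⟩
    have he' : σ x.fst = epsD D * e := he
    rw [Psi_apply, he', ← mul_add]
    apply eps_mul_eq_zero hr
    rw [map_add, hπ, hσ.π_map]
    exact h0

include hr in
/-- **two first-order deformations with the same class are isomorphic.** -/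
theorem exists_hom_of_hasClass {D' : DefRing r (algebraMap k B₀)} {v : VT Q}
    (H : HasClass Q D v) (H' : HasClass Q D' v) :
    Nonempty (DefRing.Hom (RingHom.id _) D D') := by
  obtain ⟨σ, h, hσ, hrep, rfl⟩ := H
  obtain ⟨σ', h', hσ', hrep', hv⟩ := H'
  have hmem : h - h' ∈ Rg Q := (Submodule.Quotient.eq _).mp hv.symm
  obtain ⟨d, hd⟩ := exists_dH_of_mem Q hmem
  obtain ⟨σ'', hσ'', hdiff⟩ := exists_isLift_adjust hr hσ' d
  have hrep'' : Rep Q D' σ'' h := by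
    have h1 := hrep'.of_diff hdiff
    rwa [← hd, add_sub_cancel] at h1
  have hker : RingHom.ker (Psi σ (epsD D) (epsD_mul_epsD D)) ≤
      RingHom.ker (Psi σ'' (epsD D') (epsD_mul_epsD D')) := by
    intro x hx
    rw [RingHom.mem_ker] at hx ⊢
    rw [Psi_eq_zero_iff hr hσ'' hrep'']
    exact (Psi_eq_zero_iff hr hσ hrep x).mp hx
  obtain ⟨G, hG⟩ : ∃ G : D.E →+* D'.E, ∀ x, G (Psi σ (epsD D) (epsD_mul_epsD D) x) =
      Psi σ'' (epsD D') (epsD_mul_epsD D') x :=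
    ⟨(Psi σ (epsD D) (epsD_mul_epsD D)).liftOfSurjective (Psi_surjective hr hσ) ⟨_, hker⟩,
      fun x => RingHom.liftOfSurjective_comp_apply _ (Psi_surjective hr hσ) ⟨_, hker⟩ x⟩
  refine ⟨⟨G, fun a => ?_, fun e => ?_⟩⟩
  · rw [← Psi_alg hr hσ a, hG, Psi_alg hr hσ'' a]
    rfl
  · obtain ⟨x, rfl⟩ := Psi_surjective hr hσ e
    rw [hG, π_Psi hr hσ'', π_Psi hr hσ]

end inj

end Groth.Agent.Lib.LeadHull
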