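import Mathlib
import Groth.Agent.Lib.LeadHullF
import Groth.Agent.Lib.Helper19TorsRetrC

/-!
# Finite-dimensionality of `T¹` for isolated singularities (for S12308)
-/

set_option autoImplicit false
set_option maxHeartbeats 400000
set_option linter.style.haveILetI false
set_option linter.unusedSectionVars false
set_option linter.unusedVariables false

universe u

namespace Groth.Agent.Lib.LeadHull

open Groth.Agent.Lib.Helper19.TorsRetr

/-- a finite module whose ring of scalars modulo the annihilator is finite over `k` is finite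
over `k`. -/
theorem finite_of_annihilator (k R M : Type*) [Field k] [CommRing R] [Algebra k R]
    [AddCommGroup M] [Module R M] [Module k M] [IsScalarTower k R M] [Module.Finite R M]
    (hfin : Module.Finite k (R ⧸ Module.annihilator R M)) : Module.Finite k M := by
  letI : Module (R ⧸ Module.annihilator R M) M := Module.quotientAnnihilator
  have hsm : ∀ (a : R) (m : M),
      (Ideal.Quotient.mk (Module.annihilator R M) a) • m = a • m := fun a m => rfl
  haveI : IsScalarTower R (R ⧸ Module.annihilator R M) M := ⟨fun r a m => by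
    obtain ⟨a, rfl⟩ := Ideal.Quotient.mk_surjective a
    rw [Algebra.smul_def, Ideal.Quotient.algebraMap_eq, ← map_mul, hsm, hsm, mul_smul]⟩
  haveI : IsScalarTower k (R ⧸ Module.annihilator R M) M := ⟨fun c a m => by
    obtain ⟨a, rfl⟩ := Ideal.Quotient.mk_surjective a
    have h1 : c • Ideal.Quotient.mk (Module.annihilator R M) a =
        Ideal.Quotient.mk (Module.annihilator R M) (c • a) :=
      (map_smul (Ideal.Quotient.mkₐ k (Module.annihilator R M)) c a).symm
    rw [h1, hsm, hsm, smul_assoc]⟩
  haveI : Module.Finite (R ⧸ Module.annihilator R M) M :=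
    Module.Finite.of_restrictScalars_finite R _ M
  exact Module.Finite.trans (R ⧸ Module.annihilator R M) M

variable (k B₀ : Type u) [Field k] [CommRing B₀] [Algebra k B₀] [Algebra.FinitePresentation k B₀]

/-- **`T¹(B₀/k, B₀)` is finite-dimensional when `B₀` is smooth outside finitely many points.** -/
theorem finite_VT (hsm : ((Algebra.smoothLocus k B₀)ᶜ).Finite) :
    Module.Finite k (VT (P0 k B₀).toExtension) := by
  haveI : IsNoetherianRing B₀ := Algebra.FiniteType.isNoetherianRing k B₀
  obtain ⟨Q, hQ⟩ : ∃ Q : Algebra.Extension.{u} k B₀, Q = (P0 k B₀).toExtension := ⟨_, rfl⟩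
  rw [← hQ]
  haveI : Module.Finite B₀ Q.Cotangent := by
    rw [hQ]
    exact cotangent_finite k B₀
  haveI : IsNoetherian B₀ (Q.Cotangent →ₗ[B₀] B₀) := isNoetherian_linearMap _ _ _
  haveI : Module.Finite B₀ (VT Q) := inferInstance
  apply finite_of_annihilator k B₀ (VT Q)
  obtain ⟨J, hJdef⟩ : ∃ J : Ideal B₀, J = Module.annihilator B₀ (VT Q) := ⟨_, rfl⟩
  rw [← hJdef]
  have hJ : PrimeSpectrum.zeroLocus (J : Set B₀) ⊆ (Algebra.smoothLocus k B₀)ᶜ := by
    intro q hq hsmq
    obtain ⟨_, ⟨τ, rfl⟩, hqτ, hsub⟩ :=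
      PrimeSpectrum.isTopologicalBasis_basic_opens.exists_subset_of_mem_open hsmq
        Algebra.isOpen_smoothLocus
    have hret := (smooth_iff_hasRetr k τ).mp (fun q' hq' => hsub hq')
    rw [← hQ] at hret
    obtain ⟨n₀, hn₀⟩ := (hasRetr_iff_forall_smul_eq_zero (τ := τ)
      (d := Q.cotangentComplex)).mp hret
    have hmem : τ ^ n₀ ∈ J := by
      rw [hJdef]
      exact Module.mem_annihilator.mpr (fun x => hn₀ B₀ x)
    have h1 : τ ^ n₀ ∈ q.asIdeal := hq hmem
    exact hqτ (q.isPrime.mem_of_pow_mem _ h1)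
  haveI : Finite (PrimeSpectrum (B₀ ⧸ J)) := by
    have hinj := PrimeSpectrum.comap_injective_of_surjective (Ideal.Quotient.mk J)
      Ideal.Quotient.mk_surjective
    have hrange : ∀ p : PrimeSpectrum (B₀ ⧸ J),
        PrimeSpectrum.comap (Ideal.Quotient.mk J) p ∈ PrimeSpectrum.zeroLocus (J : Set B₀) := by
      intro p a ha
      change Ideal.Quotient.mk J a ∈ p.asIdeal
      rw [Ideal.Quotient.eq_zero_iff_mem.mpr ha]
      exact Ideal.zero_mem _
    haveI := hsm.to_subtype
    exact Finite.of_injective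
      (fun p => (⟨PrimeSpectrum.comap (Ideal.Quotient.mk J) p, hJ (hrange p)⟩ :
        ((Algebra.smoothLocus k B₀)ᶜ : Set (PrimeSpectrum B₀))))
      (fun p p' h => hinj (congrArg Subtype.val h))
  haveI : IsJacobsonRing (B₀ ⧸ J) := isJacobsonRing_of_finiteType (A := k)
  have h2 := (PrimeSpectrum.discreteTopology_iff_finite_and_krullDimLE_zero
    (R := B₀ ⧸ J)).mp inferInstance
  exact (Module.finite_iff_krullDimLE_zero k (B₀ ⧸ J)).mpr h2.2

end Groth.Agent.Lib.LeadHull
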