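import Mathlib
import Groth.Prelude.Def_ArtFun4
import Groth.Agent.Lib.LeadHullD
import Groth.Agent.Lib.LeadHullG

/-!
# (H_f) for deformations of an affine scheme with isolated singularities (for S12308)
-/

set_option autoImplicit false
set_option maxHeartbeats 400000
set_option linter.style.haveILetI false
set_option linter.unusedSectionVars false
set_option linter.unusedVariables false

universe u

open AlgebraicGeometry CategoryTheory Limits ArtFun ArtFun.Art

namespace Groth.Agent.Lib.LeadHull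

open Groth.Agent.Lib.LeadLx DefRing Groth.Agent.Lib.Helper19.TorsRetr

section algebra

/-- transfer of smooth-locus membership along an isomorphism of base rings. -/
theorem mem_smoothLocus_of_comp {K k B : Type u} [CommRing K] [CommRing k] [CommRing B]
    (e : k →+* K) (he : Function.Bijective e) (φ : K →+* B) (q : PrimeSpectrum B)
    (h : letI := φ.toAlgebra; q ∈ Algebra.smoothLocus K B) :
    letI := (φ.comp e).toAlgebra; q ∈ Algebra.smoothLocus k B := by
  letI a1 : Algebra K B := φ.toAlgebra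
  letI a2 : Algebra k B := (φ.comp e).toAlgebra
  letI a3 : Algebra k K := e.toAlgebra
  haveI : IsScalarTower k K B := IsScalarTower.of_algebraMap_eq' rfl
  change Algebra.FormallySmooth k (Localization.AtPrime q.asIdeal)
  have h' : Algebra.FormallySmooth K (Localization.AtPrime q.asIdeal) := h
  haveI : Algebra.FormallySmooth k K := RingHom.FormallySmooth.of_bijective he
  exact Algebra.FormallySmooth.comp k K (Localization.AtPrime q.asIdeal)

/-- an injective map into a finite-dimensional space compatible with the vector space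
operations gives finite-dimensionality. -/
theorem finite_of_classes {k V T : Type*} [Field k] [AddCommGroup V] [Module k V]
    [Module.Finite k V] [AddCommGroup T] [Module k T] (C : T → V → Prop)
    (hex : ∀ t, ∃ v, C t v) (huniq : ∀ t v v', C t v → C t v' → v = v')
    (hinj : ∀ t t' v, C t v → C t' v → t = t')
    (hsmul : ∀ (c : k) t v, C t v → C (c • t) (c • v))
    (hadd : ∀ a b va vb vc, C a va → C b vb → C (a + b) vc → vc = va + vb) :
    Module.Finite k T := by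
  choose φ hφ using hex
  have h1 : ∀ a b, φ (a + b) = φ a + φ b := fun a b => hadd a b _ _ _ (hφ a) (hφ b) (hφ (a + b))
  have h2 : ∀ (c : k) t, φ (c • t) = c • φ t := fun c t =>
    huniq _ _ _ (hφ (c • t)) (hsmul c t _ (hφ t))
  have h3 : Function.Injective φ := fun t t' h => hinj t t' (φ t) (hφ t) (h ▸ hφ t')
  exact Module.Finite.of_injective
    ({ toFun := φ, map_add' := h1, map_smul' := h2 } : T →ₗ[k] V) h3

end algebra

variable {Λ k : Type u} [CommRing Λ] [Field k] [Algebra Λ k]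
variable {X : Scheme.{u}} [IsAffine X] (x : X ⟶ Spec (CommRingCat.of k))

theorem kap_eq : kap x = (x.appLE ⊤ ⊤ (fun _ _ => trivial)).hom.comp
    (Scheme.ΓSpecIso (CommRingCat.of k)).inv.hom := by
  unfold kap gamS
  rw [CommRingCat.hom_comp]
  congr 2
  exact x.app_eq_appLE

theorem finiteType_kap [LocallyOfFiniteType x] : (kap x).FiniteType := by
  have h1 : x.appTop.hom.FiniteType :=
    (HasRingHomProperty.iff_of_isAffine (P := @LocallyOfFiniteType)).mp inferInstance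
  have h2 : ((Scheme.ΓSpecIso (CommRingCat.of k)).inv).hom.FiniteType :=
    RingHom.FiniteType.of_surjective _ (ConcreteCategory.bijective_of_isIso _).2
  have h3 := h1.comp h2
  exact h3

theorem mem_smoothLocus_kap [LocallyOfFiniteType x] (U : X.Opens) (hU : Smooth (U.ι ≫ x))
    (y : X) (hy : y ∈ U) :
    letI : Algebra k Γ(X, ⊤) := (kap x).toAlgebra
    (isAffineOpen_top X).primeIdealOf ⟨y, trivial⟩ ∈ Algebra.smoothLocus k Γ(X, ⊤) := by
  haveI : LocallyOfFinitePresentation x := inferInstance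
  haveI := hU
  have h1 : (U.ι ≫ x).smoothLocus = ⊤ := Scheme.Hom.smoothLocus_eq_top _
  have h2 : U.ι ⁻¹ᵁ x.smoothLocus = ⊤ := by rw [Scheme.Hom.preimage_smoothLocus_eq, h1]
  have h3 : y ∈ x.smoothLocus := by
    have h : (⟨y, hy⟩ : U) ∈ U.ι ⁻¹ᵁ x.smoothLocus := by rw [h2]; trivial
    exact h
  have h4 : (x.stalkMap y).hom.FormallySmooth := h3
  have h5 := (formallySmooth_stalkMap_iff (f := x) ⊤ (isAffineOpen_top _) ⊤ (isAffineOpen_top X)
    (fun _ _ => trivial) (Set.mem_univ y)).mp h4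
  have h6 := mem_smoothLocus_of_comp (Scheme.ΓSpecIso (CommRingCat.of k)).inv.hom
    (ConcreteCategory.bijective_of_isIso _) (x.appLE ⊤ ⊤ (fun _ _ => trivial)).hom _ h5
  rw [← kap_eq] at h6
  exact h6

theorem finite_compl_smoothLocus [LocallyOfFiniteType x] (U : X.Opens)
    (hU : Smooth (U.ι ≫ x)) (hfin : ((U : Set X)ᶜ).Finite) :
    letI : Algebra k Γ(X, ⊤) := (kap x).toAlgebra
    ((Algebra.smoothLocus k Γ(X, ⊤))ᶜ).Finite := by
  letI : Algebra k Γ(X, ⊤) := (kap x).toAlgebra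
  refine Set.Finite.subset (hfin.image
    (fun y => (isAffineOpen_top X).primeIdealOf ⟨y, trivial⟩)) ?_
  intro q hq
  obtain ⟨y', hy'⟩ : ∃ y' : ((⊤ : X.Opens) : Scheme), (isAffineOpen_top X).isoSpec.hom y' = q :=
    ⟨(isAffineOpen_top X).isoSpec.inv q, Scheme.inv_hom_apply _ _⟩
  refine ⟨y'.1, fun hy => hq ?_, hy'⟩
  have h1 := mem_smoothLocus_kap x U hU y'.1 hy
  rw [← hy']
  exact h1

/-! ### the maps `ε ↦ c ε`, `pr₁`, `pr₂`, `plus` on generators -/

section maps

open TrivSqZeroExt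

variable (Λ)

theorem scale_inl (c a : k) :
    (scale (Λ := Λ) c).toAlgHom.toRingHom (inl a) = inl a :=
  TrivSqZeroExt.ext rfl (map_zero (c • LinearMap.id : k →ₗ[k] k))

theorem scale_eps (c : k) :
    (scale (Λ := Λ) c).toAlgHom.toRingHom (inr 1) = inl c * inr 1 :=
  (TrivSqZeroExt.ext rfl rfl : _ = (inr (c • (1 : k)) : TrivSqZeroExt k k)).trans
    (inl_mul_inr c (1 : k)).symm

theorem pr₁_inl (a : k) : (pr₁ (Λ := Λ) (k := k)).toAlgHom.toRingHom (inl a) = inl a :=
  TrivSqZeroExt.ext rfl (map_zero (LinearMap.fst k k k))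

theorem pr₂_inl (a : k) : (pr₂ (Λ := Λ) (k := k)).toAlgHom.toRingHom (inl a) = inl a :=
  TrivSqZeroExt.ext rfl (map_zero (LinearMap.snd k k k))

theorem plus_inl (a : k) : (plus (Λ := Λ) (k := k)).toAlgHom.toRingHom (inl a) = inl a :=
  TrivSqZeroExt.ext rfl (map_zero (LinearMap.fst k k k + LinearMap.snd k k k))

theorem pr₁_e1 : (pr₁ (Λ := Λ) (k := k)).toAlgHom.toRingHom (inr (1, 0)) = inr 1 :=
  TrivSqZeroExt.ext rfl rfl

theorem pr₁_e2 : (pr₁ (Λ := Λ) (k := k)).toAlgHom.toRingHom (inr (0, 1)) = 0 :=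
  TrivSqZeroExt.ext rfl rfl

theorem pr₂_e1 : (pr₂ (Λ := Λ) (k := k)).toAlgHom.toRingHom (inr (1, 0)) = 0 :=
  TrivSqZeroExt.ext rfl rfl

theorem pr₂_e2 : (pr₂ (Λ := Λ) (k := k)).toAlgHom.toRingHom (inr (0, 1)) = inr 1 :=
  TrivSqZeroExt.ext rfl rfl

theorem plus_e1 : (plus (Λ := Λ) (k := k)).toAlgHom.toRingHom (inr (1, 0)) = inr 1 :=
  TrivSqZeroExt.ext rfl (add_zero (1 : k))

theorem plus_e2 : (plus (Λ := Λ) (k := k)).toAlgHom.toRingHom (inr (0, 1)) = inr 1 :=
  TrivSqZeroExt.ext rfl (zero_add (1 : k))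

end maps

/-! ### (H_f) -/

section assembly

open TrivSqZeroExt

variable {x}

set_option maxHeartbeats 1600000 in
/-- **(H_f) for the deformation functor of an affine scheme of finite type, smooth outside a
finite set.** -/
theorem hfin_defFunctor [LocallyOfFiniteType x] (U : X.Opens) (hU : Smooth (U.ι ≫ x))
    (hfin : ((U : Set X)ᶜ).Finite) [T : TangentStr (defFunctor (Λ := Λ) X x)] :
    Hfin (defFunctor (Λ := Λ) X x) := by
  letI : Algebra k Γ(X, ⊤) := (kap x).toAlgebra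
  haveI : Algebra.FiniteType k Γ(X, ⊤) := finiteType_kap x
  haveI : Algebra.FinitePresentation k Γ(X, ⊤) :=
    Algebra.FinitePresentation.of_finiteType.mp inferInstance
  have hVfin : Module.Finite k (VT (P0 k Γ(X, ⊤)).toExtension) :=
    finite_VT k Γ(X, ⊤) (finite_compl_smoothLocus x U hU hfin)
  obtain ⟨Q, hQ⟩ : ∃ Q : Algebra.Extension.{u} k Γ(X, ⊤),
      Q = (P0 k Γ(X, ⊤)).toExtension := ⟨_, rfl⟩
  rw [← hQ] at hVfin
  haveI := hVfin
  have hlift1 : ∀ D : DefRing (resR (dual Λ k)) (kap x),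
      ∃ σ, IsLift D Q (inlHom k k) σ := by
    intro D
    rw [hQ]
    exact exists_isLift_gen D (P0 k Γ(X, ⊤)).toGenerators (fun c => rfl)
  have hlift2 : ∀ N : DefRing (resR (dual2 Λ k)) (kap x),
      ∃ σ, IsLift N Q (inlHom k (k × k)) σ := by
    intro N
    rw [hQ]
    exact exists_isLift_gen N (P0 k Γ(X, ⊤)).toGenerators (fun c => rfl)
  have hr1 : ∀ a : DualNumber k, resR (dual Λ k) a = a.fst := fun a => rfl
  have hr2 : ∀ a : TrivSqZeroExt k (k × k), resR (dual2 Λ k) a = a.fst := fun a => rfl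
  have htrans : ∀ (ξ ξ' : DefSch X x (dual Λ k)) (v : VT Q), ξ.cl = ξ'.cl →
      HasClass Q (toDefRing ξ) v → HasClass Q (toDefRing ξ') v := by
    intro ξ ξ' v hcl H
    obtain ⟨e⟩ : Nonempty (ξ.Iso ξ') := Quotient.exact hcl
    have h1 := HasClass.scale (c := 1) hr1 (g := RingHom.id _) (fun a => rfl)
      (by rw [RingHom.id_apply, inl_one, one_mul]) (homOfIso e) H
    rwa [one_smul] at h1
  letI := T.addCommGroup
  letI := T.module
  change Module.Finite k ((defFunctor (Λ := Λ) X x).obj (dual Λ k))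
  refine finite_of_classes (V := VT Q)
    (fun t v => ∃ ξ : DefSch X x (dual Λ k), ξ.cl = t ∧ HasClass Q (toDefRing ξ) v)
    ?_ ?_ ?_ ?_ ?_
  · intro t
    obtain ⟨ξ, rfl⟩ := Quotient.exists_rep t
    obtain ⟨v, hv⟩ := exists_hasClass hr1 (hlift1 (toDefRing ξ))
    exact ⟨v, ξ, rfl, hv⟩
  · rintro t v v' ⟨ξ, h1, H⟩ ⟨ξ', h1', H'⟩
    exact HasClass.unique hr1 H (htrans ξ' ξ v' (h1'.trans h1.symm) H')
  · rintro t t' v ⟨ξ, rfl, H⟩ ⟨ξ', rfl, H'⟩
    obtain ⟨h⟩ := exists_hom_of_hasClass hr1 H H'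
    obtain ⟨e3⟩ := nonempty_iso_ofDefRing_of_hom (A := dual Λ k) (D₁ := toDefRing ξ)
      (D₂ := toDefRing ξ') h
    obtain ⟨e1⟩ := nonempty_iso_ofDefRing_toDefRing ξ
    obtain ⟨e2⟩ := nonempty_iso_ofDefRing_toDefRing ξ'
    exact Quotient.sound ⟨e1.trans (e3.symm.trans e2.symm)⟩
  · rintro c t v ⟨ξ, rfl, H⟩
    refine ⟨ξ.baseChange (scale c), ?_, HasClass.scale hr1 (scale_inl Λ c) (scale_eps Λ c)
      (bcHom (scale c) ξ) H⟩
    exact (T.smul_eq c ξ.cl).symm
  · rintro a b va vb vc ⟨ξa, rfl, Ha⟩ ⟨ξb, rfl, Hb⟩ ⟨ξc, hc, Hc⟩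
    haveI : Subsingleton ((defFunctor (Λ := Λ) X x).obj (base Λ k)) :=
      (h0_defFunctor (Λ := Λ) (x := x)).2
    obtain ⟨z, hz⟩ := (heps_defFunctor (Λ := Λ) (x := x) pr₁ pr₂ isFibreProd_dual2).2
      ⟨(ξa.cl, ξb.cl), Subsingleton.elim _ _⟩
    obtain ⟨ζ, rfl⟩ := Quotient.exists_rep z
    have h1 : (ζ.baseChange pr₁).cl = ξa.cl := congrArg (fun t => t.1.1) hz
    have h2 : (ζ.baseChange pr₂).cl = ξb.cl := congrArg (fun t => t.1.2) hz
    have h3 : ξc.cl = (ζ.baseChange plus).cl := by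
      rw [hc, ← h1, ← h2]
      exact T.add_eq ζ.cl
    exact HasClass.plus hr2 (toDefRing ζ) hr1 hr1 hr1 (pr₁_inl Λ) (pr₁_e1 Λ) (pr₁_e2 Λ)
      (pr₂_inl Λ) (pr₂_e1 Λ) (pr₂_e2 Λ) (plus_inl Λ) (plus_e1 Λ) (plus_e2 Λ)
      (bcHom pr₁ ζ) (bcHom pr₂ ζ) (bcHom plus ζ) (hlift2 (toDefRing ζ))
      (htrans ξa _ va h1.symm Ha) (htrans ξb _ vb h2.symm Hb) (htrans ξc _ vc h3 Hc)

end assembly

end Groth.Agent.Lib.LeadHull
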