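import Mathlib
import Groth.Prelude.Def_ArtFun2

/-!
# The vector space structure on the tangent space of a functor of Artin rings (lead)

For `F : Art Λ k ⥤ Type v` with `F(k)` a point (`H0`) and `(S2)` (`Heps`), `t_F = F(k[ε])` carries the
natural `k`-vector space structure (`nonempty_tangentStr`).
-/

set_option maxHeartbeats 400000
set_option autoImplicit false
set_option linter.style.haveILetI false
set_option linter.unusedSectionVars false
universe u v
open CategoryTheory ArtFun ArtFun.Art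

namespace Groth.Agent.Lib.LeadTangent

variable {Λ : Type u} {k : Type u} [CommRing Λ] [Field k] [Algebra Λ k]

section obj

variable (Λ k) in
/-- The square-zero extension `k ⊕ M` as an object of `Art Λ k`. -/
def obj (M : Type u) [AddCommGroup M] [Module k M] [Module kᵐᵒᵖ M] [SMulCommClass k kᵐᵒᵖ M]
    [IsCentralScalar k M] [Module Λ M] [IsScalarTower Λ k M] [IsScalarTower Λ kᵐᵒᵖ M]
    [Module.Finite k M] : Art Λ k :=
  { carrier := TrivSqZeroExt k M
    isLocalRing := isLocalRing_tsze k M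
    isArtinianRing := isArtinianRing_tsze k M
    res := TrivSqZeroExt.fstHom Λ k M
    res_surjective := fun a => ⟨TrivSqZeroExt.inl a, rfl⟩ }

variable {M N P : Type u}
  [AddCommGroup M] [Module k M] [Module kᵐᵒᵖ M] [SMulCommClass k kᵐᵒᵖ M]
  [IsCentralScalar k M] [Module Λ M] [IsScalarTower Λ k M] [IsScalarTower Λ kᵐᵒᵖ M]
  [Module.Finite k M]
  [AddCommGroup N] [Module k N] [Module kᵐᵒᵖ N] [SMulCommClass k kᵐᵒᵖ N]
  [IsCentralScalar k N] [Module Λ N] [IsScalarTower Λ k N] [IsScalarTower Λ kᵐᵒᵖ N]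
  [Module.Finite k N]
  [AddCommGroup P] [Module k P] [Module kᵐᵒᵖ P] [SMulCommClass k kᵐᵒᵖ P]
  [IsCentralScalar k P] [Module Λ P] [IsScalarTower Λ k P] [IsScalarTower Λ kᵐᵒᵖ P]
  [Module.Finite k P]

/-- The morphism `k ⊕ M ⟶ k ⊕ N` induced by a linear map. -/
def tmap (f : M →ₗ[k] N) : obj Λ k M ⟶ obj Λ k N :=
  ⟨tszeMap f, AlgHom.ext fun _ => rfl⟩

lemma tmap_comp (f : M →ₗ[k] N) (g : N →ₗ[k] P) :
    (tmap f : obj Λ k M ⟶ obj Λ k N) ≫ tmap g = tmap (g ∘ₗ f) :=
  hom_ext (AlgHom.ext fun _ => rfl)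

lemma tmap_id : (tmap (LinearMap.id : M →ₗ[k] M) : obj Λ k M ⟶ obj Λ k M) = 𝟙 _ :=
  hom_ext (AlgHom.ext fun _ => rfl)

theorem isFibreProd_prod :
    IsFibreProd (tmap (LinearMap.fst k M N) : obj Λ k (M × N) ⟶ obj Λ k M)
      (tmap (LinearMap.snd k M N) : obj Λ k (M × N) ⟶ obj Λ k N)
      (toBase (obj Λ k M)) (toBase (obj Λ k N)) where
  w := by
    rw [eq_toBase ((tmap (LinearMap.fst k M N) : obj Λ k (M × N) ⟶ obj Λ k M) ≫ toBase _),
      eq_toBase ((tmap (LinearMap.snd k M N) : obj Λ k (M × N) ⟶ obj Λ k N) ≫ toBase _)]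
  inj b₁ b₂ h₁ h₂ := by
    have e₁ : b₁.fst = b₂.fst := by have e := congrArg TrivSqZeroExt.fst h₁; exact e
    have e₂ : b₁.snd.1 = b₂.snd.1 := by have e := congrArg TrivSqZeroExt.snd h₁; exact e
    have e₃ : b₁.snd.2 = b₂.snd.2 := by have e := congrArg TrivSqZeroExt.snd h₂; exact e
    exact TrivSqZeroExt.ext e₁ (Prod.ext e₂ e₃)
  surj a' a'' h := by
    have h' : a'.fst = a''.fst := h
    exact ⟨(a'.fst, (a'.snd, a''.snd)), TrivSqZeroExt.ext rfl rfl, TrivSqZeroExt.ext h' rfl⟩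

end obj

section identities

theorem obj_k_eq : obj Λ k k = dual Λ k := rfl
theorem obj_kk_eq : obj Λ k (k × k) = dual2 Λ k := rfl

theorem scale_eq (c : k) : (scale c : dual Λ k ⟶ dual Λ k) = tmap (c • LinearMap.id) := rfl
theorem pr₁_eq : (pr₁ : dual2 Λ k ⟶ dual Λ k) = tmap (LinearMap.fst k k k) := rfl
theorem pr₂_eq : (pr₂ : dual2 Λ k ⟶ dual Λ k) = tmap (LinearMap.snd k k k) := rfl
theorem plus_eq : (plus : dual2 Λ k ⟶ dual Λ k) =
    tmap (LinearMap.fst k k k + LinearMap.snd k k k) := rfl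

theorem toBase_baseToDual : toBase (dual Λ k) ≫ baseToDual = scale (0 : k) := by
  apply hom_ext
  apply AlgHom.ext
  intro x
  refine TrivSqZeroExt.ext rfl ?_
  change (0 : k) = (0 : k) • x.snd
  rw [zero_smul]

theorem baseToDual_scale (c : k) : (baseToDual : base Λ k ⟶ dual Λ k) ≫ scale c = baseToDual := by
  apply hom_ext
  apply AlgHom.ext
  intro x
  refine TrivSqZeroExt.ext rfl ?_
  change c • (0 : k) = (0 : k)
  rw [smul_zero]

end identities

section tangent

variable (F : Art Λ k ⥤ Type v) (h0 : H0 F) (h2 : Heps F)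

/-- `baseToDual` with target written as `obj Λ k k`. -/
def b2d : base Λ k ⟶ obj Λ k k := baseToDual

theorem toBase_b2d :
    toBase (obj Λ k k) ≫ b2d = tmap ((0 : k) • (LinearMap.id : k →ₗ[k] k)) :=
  toBase_baseToDual

section pair

variable (M : Type u)
  [AddCommGroup M] [Module k M] [Module kᵐᵒᵖ M] [SMulCommClass k kᵐᵒᵖ M]
  [IsCentralScalar k M] [Module Λ M] [IsScalarTower Λ k M] [IsScalarTower Λ kᵐᵒᵖ M]
  [Module.Finite k M]

/-- The map `F(k ⊕ (M × k)) → F(k ⊕ M) × F(k[ε])`. -/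
def pairMap (z : F.obj (obj Λ k (M × k))) : F.obj (obj Λ k M) × F.obj (obj Λ k k) :=
  (F.map (tmap (LinearMap.fst k M k)) z, F.map (tmap (LinearMap.snd k M k)) z)

include h0 h2 in
theorem pairMap_bijective : Function.Bijective (pairMap F M) := by
  have hfp := isFibreProd_prod (Λ := Λ) (k := k) (M := M) (N := k)
  have hb := h2 (tmap (LinearMap.fst k M k))
    (tmap (LinearMap.snd k M k) : obj Λ k (M × k) ⟶ dual Λ k) hfp
  constructor
  · intro z₁ z₂ h
    apply hb.1
    apply FibProd.ext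
    · exact congrArg Prod.fst h
    · exact congrArg Prod.snd h
  · rintro ⟨x, y⟩
    haveI := h0.2
    obtain ⟨z, hz⟩ := hb.2 ⟨(x, y), Subsingleton.elim _ _⟩
    refine ⟨z, ?_⟩
    exact congrArg (fun t => t.1) hz

end pair

/-- `F(k[ε₁, ε₂]) ≃ t_F × t_F`. -/
noncomputable def e2 : F.obj (obj Λ k (k × k)) ≃ F.obj (obj Λ k k) × F.obj (obj Λ k k) :=
  Equiv.ofBijective (pairMap F k) (pairMap_bijective F h0 h2 k)

lemma e2_apply (z : F.obj (obj Λ k (k × k))) : e2 F h0 h2 z =
    (F.map (tmap (LinearMap.fst k k k)) z, F.map (tmap (LinearMap.snd k k k)) z) := rfl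

/-- `F(k ⊕ k³) ≃ F(k[ε₁, ε₂]) × t_F`. -/
noncomputable def e3 :
    F.obj (obj Λ k ((k × k) × k)) ≃ F.obj (obj Λ k (k × k)) × F.obj (obj Λ k k) :=
  Equiv.ofBijective (pairMap F (k × k)) (pairMap_bijective F h0 h2 (k × k))

lemma e3_apply (w : F.obj (obj Λ k ((k × k) × k))) : e3 F h0 h2 w =
    (F.map (tmap (LinearMap.fst k (k × k) k)) w, F.map (tmap (LinearMap.snd k (k × k) k)) w) := rfl

/-- Addition on the tangent space. -/
noncomputable def tadd (x y : F.obj (obj Λ k k)) : F.obj (obj Λ k k) :=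
  F.map (tmap (LinearMap.fst k k k + LinearMap.snd k k k)) ((e2 F h0 h2).symm (x, y))

/-- The zero of the tangent space. -/
noncomputable def tzero : F.obj (obj Λ k k) := F.map b2d (Classical.choice h0.1)

theorem tadd_of {W : Art Λ k} (c : W ⟶ obj Λ k (k × k)) (z : F.obj W) :
    tadd F h0 h2 (F.map (c ≫ tmap (LinearMap.fst k k k)) z)
      (F.map (c ≫ tmap (LinearMap.snd k k k)) z) =
      F.map (c ≫ tmap (LinearMap.fst k k k + LinearMap.snd k k k)) z := by
  unfold tadd
  have h : (e2 F h0 h2).symm (F.map (c ≫ tmap (LinearMap.fst k k k)) z,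
      F.map (c ≫ tmap (LinearMap.snd k k k)) z) = F.map c z := by
    rw [Equiv.symm_apply_eq, e2_apply, F.map_comp_apply, F.map_comp_apply]
  rw [h, F.map_comp_apply]

section master

variable {M : Type u}
  [AddCommGroup M] [Module k M] [Module kᵐᵒᵖ M] [SMulCommClass k kᵐᵒᵖ M]
  [IsCentralScalar k M] [Module Λ M] [IsScalarTower Λ k M] [IsScalarTower Λ kᵐᵒᵖ M]
  [Module.Finite k M]

/-- **Master lemma**: addition of two elements induced from the same element by two functionals. -/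
theorem tadd_tmap (f g : M →ₗ[k] k) (z : F.obj (obj Λ k M)) :
    tadd F h0 h2 (F.map (tmap f) z) (F.map (tmap g) z) = F.map (tmap (f + g)) z := by
  have h := tadd_of F h0 h2 (tmap (f.prod g)) z
  rw [tmap_comp, tmap_comp, tmap_comp, LinearMap.fst_prod,
    LinearMap.snd_prod, LinearMap.add_comp, LinearMap.fst_prod, LinearMap.snd_prod] at h
  exact h

theorem map_scale_tmap (c : k) (g : M →ₗ[k] k) (z : F.obj (obj Λ k M)) :
    F.map (tmap (c • (LinearMap.id : k →ₗ[k] k))) (F.map (tmap g) z) =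
      F.map (tmap (c • g)) z := by
  rw [← F.map_comp_apply, tmap_comp, LinearMap.smul_comp, LinearMap.id_comp]

end master

theorem map_tmap_id (x : F.obj (obj Λ k k)) :
    F.map (tmap (LinearMap.id : k →ₗ[k] k)) x = x := by
  rw [tmap_id]
  exact F.map_id_apply _ x

theorem map_scale_one (x : F.obj (obj Λ k k)) :
    F.map (tmap ((1 : k) • (LinearMap.id : k →ₗ[k] k))) x = x := by
  rw [one_smul, map_tmap_id]

theorem map_scale_zero (x : F.obj (obj Λ k k)) :
    F.map (tmap ((0 : k) • (LinearMap.id : k →ₗ[k] k))) x = tzero F h0 := by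
  rw [← toBase_b2d, F.map_comp_apply]
  unfold tzero
  congr 1
  haveI := h0.2
  exact Subsingleton.elim _ _

theorem map_scale_scale (a b : k) (x : F.obj (obj Λ k k)) :
    F.map (tmap (a • (LinearMap.id : k →ₗ[k] k)))
      (F.map (tmap (b • (LinearMap.id : k →ₗ[k] k))) x) =
      F.map (tmap ((a * b) • (LinearMap.id : k →ₗ[k] k))) x := by
  rw [map_scale_tmap, smul_smul]

theorem tadd_scale (a b : k) (x : F.obj (obj Λ k k)) :
    tadd F h0 h2 (F.map (tmap (a • (LinearMap.id : k →ₗ[k] k))) x)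
      (F.map (tmap (b • (LinearMap.id : k →ₗ[k] k))) x) =
      F.map (tmap ((a + b) • (LinearMap.id : k →ₗ[k] k))) x := by
  rw [tadd_tmap, add_smul]

theorem tzero_add (x : F.obj (obj Λ k k)) : tadd F h0 h2 (tzero F h0) x = x := by
  have h := tadd_scale F h0 h2 0 1 x
  rw [map_scale_zero F h0, map_scale_one, zero_add, map_scale_one] at h
  exact h

theorem tneg_add (x : F.obj (obj Λ k k)) :
    tadd F h0 h2 (F.map (tmap ((-1 : k) • (LinearMap.id : k →ₗ[k] k))) x) x = tzero F h0 := by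
  have h := tadd_scale F h0 h2 (-1) 1 x
  rw [map_scale_one, neg_add_cancel, map_scale_zero F h0] at h
  exact h

include h0 h2 in
/-- every pair of tangent vectors comes from `F(k[ε₁, ε₂])`. -/
theorem exists_pair (x y : F.obj (obj Λ k k)) :
    ∃ z : F.obj (obj Λ k (k × k)),
      F.map (tmap (LinearMap.fst k k k)) z = x ∧ F.map (tmap (LinearMap.snd k k k)) z = y := by
  refine ⟨(e2 F h0 h2).symm (x, y), ?_, ?_⟩
  · exact congrArg Prod.fst ((e2 F h0 h2).apply_symm_apply (x, y))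
  · exact congrArg Prod.snd ((e2 F h0 h2).apply_symm_apply (x, y))

theorem tadd_comm (x y : F.obj (obj Λ k k)) : tadd F h0 h2 x y = tadd F h0 h2 y x := by
  obtain ⟨z, rfl, rfl⟩ := exists_pair F h0 h2 x y
  rw [tadd_tmap, tadd_tmap, add_comm]

theorem map_scale_tadd (c : k) (x y : F.obj (obj Λ k k)) :
    F.map (tmap (c • (LinearMap.id : k →ₗ[k] k))) (tadd F h0 h2 x y) =
      tadd F h0 h2 (F.map (tmap (c • (LinearMap.id : k →ₗ[k] k))) x)
        (F.map (tmap (c • (LinearMap.id : k →ₗ[k] k))) y) := by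
  obtain ⟨z, rfl, rfl⟩ := exists_pair F h0 h2 x y
  rw [tadd_tmap, map_scale_tmap, map_scale_tmap, map_scale_tmap, tadd_tmap, smul_add]

include h0 h2 in
/-- every triple of tangent vectors comes from `F(k ⊕ k³)`. -/
theorem exists_triple (x y z : F.obj (obj Λ k k)) :
    ∃ w : F.obj (obj Λ k ((k × k) × k)),
      F.map (tmap ((LinearMap.fst k k k).comp (LinearMap.fst k (k × k) k))) w = x ∧
      F.map (tmap ((LinearMap.snd k k k).comp (LinearMap.fst k (k × k) k))) w = y ∧
      F.map (tmap (LinearMap.snd k (k × k) k)) w = z := by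
  obtain ⟨t, ht1, ht2⟩ := exists_pair F h0 h2 x y
  refine ⟨(e3 F h0 h2).symm (t, z), ?_, ?_, ?_⟩
  · have h := congrArg Prod.fst ((e3 F h0 h2).apply_symm_apply (t, z))
    rw [e3_apply] at h
    rw [← tmap_comp, F.map_comp_apply]
    exact (congrArg _ h).trans ht1
  · have h := congrArg Prod.fst ((e3 F h0 h2).apply_symm_apply (t, z))
    rw [e3_apply] at h
    rw [← tmap_comp, F.map_comp_apply]
    exact (congrArg _ h).trans ht2
  · have h := congrArg Prod.snd ((e3 F h0 h2).apply_symm_apply (t, z))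
    rw [e3_apply] at h
    exact h

theorem tadd_assoc (x y z : F.obj (obj Λ k k)) :
    tadd F h0 h2 (tadd F h0 h2 x y) z = tadd F h0 h2 x (tadd F h0 h2 y z) := by
  obtain ⟨w, rfl, rfl, rfl⟩ := exists_triple F h0 h2 x y z
  rw [tadd_tmap, tadd_tmap, tadd_tmap, tadd_tmap, add_assoc]

include h0 h2 in
theorem nonempty_tangentStr : Nonempty (TangentStr F) := by
  letI iAdd : Add (F.obj (dual Λ k)) := ⟨tadd F h0 h2⟩
  letI iZero : Zero (F.obj (dual Λ k)) := ⟨tzero F h0⟩
  letI iNeg : Neg (F.obj (dual Λ k)) := ⟨fun x => F.map (scale (-1 : k)) x⟩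
  letI iSMul : SMul k (F.obj (dual Λ k)) := ⟨fun c x => F.map (scale c) x⟩
  letI G : AddGroup (F.obj (dual Λ k)) :=
    AddGroup.ofLeftAxioms (tadd_assoc F h0 h2) (tzero_add F h0 h2) (tneg_add F h0 h2)
  letI CG : AddCommGroup (F.obj (dual Λ k)) := { G with add_comm := tadd_comm F h0 h2 }
  letI Mod : Module k (F.obj (dual Λ k)) :=
    Module.ofMinimalAxioms (map_scale_tadd F h0 h2)
      (fun r s x => (tadd_scale F h0 h2 r s x).symm)
      (fun r s x => (map_scale_scale F r s x).symm)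
      (map_scale_one F)
  refine ⟨{ addCommGroup := CG, module := Mod, smul_eq := fun c x => rfl, add_eq := fun z => ?_ }⟩
  change tadd F h0 h2 (F.map (tmap (LinearMap.fst k k k)) z)
    (F.map (tmap (LinearMap.snd k k k)) z) =
    F.map (tmap (LinearMap.fst k k k + LinearMap.snd k k k)) z
  unfold tadd
  have h : (e2 F h0 h2).symm (F.map (tmap (LinearMap.fst k k k)) z,
      F.map (tmap (LinearMap.snd k k k)) z) = z :=
    (e2 F h0 h2).symm_apply_apply z
  rw [h]

end tangent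

end Groth.Agent.Lib.LeadTangent
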