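import Mathlib
import Groth.Prelude.Def_ArtFun4
import Groth.Agent.Lib.LeadHullH
import Groth.Agent.Lib.Helper19CutDown
import Groth.Agent.Lib.LeadTangent

/-!
# Existence of a hull for deformations of an affine scheme with isolated singularities (S12308)
-/

set_option autoImplicit false
set_option maxHeartbeats 400000
set_option linter.style.haveILetI false
set_option linter.unusedSectionVars false
set_option linter.unusedVariables false

universe u

open AlgebraicGeometry CategoryTheory Limits ArtFun ArtFun.Art

namespace Groth.Agent.Lib.LeadHull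

theorem main_S12308 (Λ k : Type u) [CommRing Λ] [IsNoetherianRing Λ] [Field k] [Algebra Λ k]
    (hk : Function.Surjective (algebraMap Λ k))
    (X : Scheme.{u}) [IsAffine X] (x : X ⟶ Spec (CommRingCat.of k)) [LocallyOfFiniteType x]
    (U : X.Opens) (hU : Smooth (U.ι ≫ x)) (hfin : ((U : Set X)ᶜ).Finite) :
    HasHull (defFunctor (Λ := Λ) X x) := by
  haveI : Module.Finite Λ k := Module.Finite.of_surjective (Algebra.linearMap Λ k) hk
  have hder : Subsingleton (Derivation Λ k k) := ⟨fun d d' => Derivation.ext (fun a => by
    obtain ⟨l, rfl⟩ := hk a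
    rw [Derivation.map_algebraMap, Derivation.map_algebraMap])⟩
  obtain ⟨T⟩ := Groth.Agent.Lib.LeadTangent.nonempty_tangentStr (defFunctor (Λ := Λ) X x)
    h0_defFunctor heps_defFunctor
  exact Groth.Agent.Lib.Helper19.hasHull_of_subsingleton_derivation hder h0_defFunctor
    s1_defFunctor heps_defFunctor (hfin_defFunctor U hU hfin)

end Groth.Agent.Lib.LeadHull
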