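import Mathlib

set_option autoImplicit false
set_option maxHeartbeats 400000
set_option linter.style.haveILetI false
set_option linter.unusedSectionVars false
set_option linter.unusedVariables false

/-! Relative dimension of nested subspaces of a vector space. -/

namespace Groth.Agent.Lib.LeadIM

section Rel

variable {k U : Type*} [Field k] [AddCommGroup U] [Module k U]

/-- the quotient `V/(W ∩ V)`. -/
abbrev RelQ (V W : Submodule k U) := ↥V ⧸ (W.comap V.subtype)

/-- the dimension of `V/(W ∩ V)`. -/
noncomputable def relfinrank (V W : Submodule k U) : ℕ := Module.finrank k (RelQ V W)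

/-- `V/(W ∩ V)` is finite-dimensional. -/
def RelFinite (V W : Submodule k U) : Prop := Module.Finite k (RelQ V W)

lemma relFinite_self (V : Submodule k U) : RelFinite V V := by
  unfold RelFinite RelQ
  have : (V.comap V.subtype) = ⊤ := by
    ext v; simp
  rw [this]
  infer_instance

lemma relfinrank_self (V : Submodule k U) : relfinrank V V = 0 := by
  unfold relfinrank RelQ
  have : (V.comap V.subtype) = ⊤ := by
    ext v; simp
  rw [this]
  exact Module.finrank_zero_of_subsingleton

/-- the inclusion-induced map `V → T/W`. -/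
noncomputable def relIncl {T V : Submodule k U} (W : Submodule k U) (hVT : V ≤ T) :
    ↥V →ₗ[k] RelQ T W :=
  (W.comap T.subtype).mkQ.comp (Submodule.inclusion hVT)

lemma ker_relIncl {T V : Submodule k U} (W : Submodule k U) (hVT : V ≤ T) :
    LinearMap.ker (relIncl W hVT) = W.comap V.subtype := by
  ext v
  simp only [relIncl, LinearMap.mem_ker, LinearMap.comp_apply, Submodule.mkQ_apply,
    Submodule.Quotient.mk_eq_zero, Submodule.mem_comap, Submodule.subtype_apply]
  rfl

lemma range_relIncl {T V : Submodule k U} (W : Submodule k U) (hVT : V ≤ T) :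
    LinearMap.range (relIncl W hVT) = (V.comap T.subtype).map (W.comap T.subtype).mkQ := by
  ext a
  constructor
  · rintro ⟨v, rfl⟩
    exact ⟨⟨v, hVT v.2⟩, v.2, rfl⟩
  · rintro ⟨t, ht, rfl⟩
    exact ⟨⟨t, ht⟩, rfl⟩

/-- `V/W ≅` the image of `V` in `T/W`. -/
noncomputable def relEquivRange {T V : Submodule k U} (W : Submodule k U) (hVT : V ≤ T) :
    RelQ V W ≃ₗ[k] ↥((V.comap T.subtype).map (W.comap T.subtype).mkQ) :=
  ((Submodule.quotEquivOfEq _ _ (ker_relIncl W hVT).symm).trans
    (LinearMap.quotKerEquivRange (relIncl W hVT))).trans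
    (LinearEquiv.ofEq _ _ (range_relIncl W hVT))

theorem relfinrank_trans {T V W : Submodule k U} (hWV : W ≤ V) (hVT : V ≤ T)
    (h1 : RelFinite T V) (h2 : RelFinite V W) :
    RelFinite T W ∧ relfinrank T W = relfinrank T V + relfinrank V W := by
  have hle : W.comap T.subtype ≤ V.comap T.subtype := Submodule.comap_mono hWV
  set N : Submodule k (RelQ T W) := (V.comap T.subtype).map (W.comap T.subtype).mkQ with hN
  let e1 : (RelQ T W ⧸ N) ≃ₗ[k] RelQ T V :=
    Submodule.quotientQuotientEquivQuotient (W.comap T.subtype) (V.comap T.subtype) hle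
  let e2 : RelQ V W ≃ₗ[k] ↥N := relEquivRange W hVT
  haveI : Module.Finite k (RelQ T V) := h1
  haveI : Module.Finite k (RelQ V W) := h2
  haveI : Module.Finite k ↥N := Module.Finite.equiv e2
  haveI : Module.Finite k (RelQ T W ⧸ N) := Module.Finite.equiv e1.symm
  haveI hfin : Module.Finite k (RelQ T W) := Module.Finite.of_submodule_quotient N
  refine ⟨hfin, ?_⟩
  have h3 := Submodule.finrank_quotient_add_finrank N
  unfold relfinrank
  rw [← h3, e1.finrank_eq, e2.finrank_eq]

lemma relFinite_of_le_left {T V W : Submodule k U} (hWV : W ≤ V)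
    (h : RelFinite T W) : RelFinite T V := by
  have hle : W.comap T.subtype ≤ V.comap T.subtype := Submodule.comap_mono hWV
  haveI : Module.Finite k (RelQ T W) := h
  exact Module.Finite.of_surjective
    (Submodule.mapQ (W.comap T.subtype) (V.comap T.subtype) LinearMap.id hle)
    (by
      intro a
      obtain ⟨t, rfl⟩ := Submodule.mkQ_surjective _ a
      exact ⟨(W.comap T.subtype).mkQ t, rfl⟩)

lemma relFinite_of_le_right {T V W : Submodule k U} (hVT : V ≤ T)
    (h : RelFinite T W) : RelFinite V W := by
  haveI : Module.Finite k (RelQ T W) := h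
  exact Module.Finite.equiv (relEquivRange W hVT).symm

/-- transport along a linear automorphism. -/
noncomputable def relMapEquiv (e : U ≃ₗ[k] U) (V W : Submodule k U) :
    RelQ V W ≃ₗ[k] RelQ (V.map (e : U →ₗ[k] U)) (W.map (e : U →ₗ[k] U)) :=
  Submodule.Quotient.equiv _ _ (e.submoduleMap V) (by
    ext ⟨_, ⟨v, hv, rfl⟩⟩
    simp only [Submodule.mem_map, Submodule.mem_comap, Submodule.subtype_apply]
    constructor
    · rintro ⟨a, ha, ha'⟩
      have : e (a : U) = e v := congrArg Subtype.val ha'
      have hav : (a : U) = v := e.injective this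
      exact ⟨v, hav ▸ ha, rfl⟩
    · rintro ⟨w, hw, hw'⟩
      have hwv : w = v := e.injective hw'
      exact ⟨⟨v, hv⟩, hwv ▸ hw, rfl⟩)

lemma relfinrank_map (e : U ≃ₗ[k] U) (V W : Submodule k U) :
    relfinrank (V.map (e : U →ₗ[k] U)) (W.map (e : U →ₗ[k] U)) = relfinrank V W :=
  (relMapEquiv e V W).finrank_eq.symm

lemma relFinite_map (e : U ≃ₗ[k] U) {V W : Submodule k U} (h : RelFinite V W) :
    RelFinite (V.map (e : U →ₗ[k] U)) (W.map (e : U →ₗ[k] U)) := by
  haveI : Module.Finite k (RelQ V W) := h
  exact Module.Finite.equiv (relMapEquiv e V W)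

/-- relative dimension via a surjection with the right kernel. -/
lemma relfinrank_of_surjective {V W : Submodule k U} {F : Type*} [AddCommGroup F] [Module k F]
    [Module.Finite k F] (l : ↥V →ₗ[k] F) (hl : Function.Surjective l)
    (hker : LinearMap.ker l = W.comap V.subtype) :
    RelFinite V W ∧ relfinrank V W = Module.finrank k F := by
  let e : RelQ V W ≃ₗ[k] F :=
    (Submodule.quotEquivOfEq _ _ hker.symm).trans (l.quotKerEquivOfSurjective hl)
  exact ⟨Module.Finite.equiv e.symm, e.finrank_eq⟩

end Rel

end Groth.Agent.Lib.LeadIM
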