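import Groth.Agent.Lib.LeadIMa
import Groth.Agent.Lib.LeadFF29

set_option autoImplicit false
set_option maxHeartbeats 400000
set_option linter.style.haveILetI false
set_option linter.unusedSectionVars false
set_option linter.unusedVariables false

/-! The filtration of a semi-local ring of a function field by orders of vanishing. -/

namespace Groth.Agent.Lib.LeadIM

open FunFld WithZero IsLocalRing Groth.Agent.Lib.LeadFF

variable {k K : Type*} [Field k] [Field K] [Algebra k K]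

/-- elements with prescribed orders of vanishing at the places of `S`. -/
def Ifr (S : Finset (Place k K)) (n : Place k K → ℤ) : Submodule k K where
  carrier := {z | ∀ Q ∈ S, Q.1 z ≤ exp (-(n Q))}
  add_mem' ha hb Q hQ := (Q.1.map_add _ _).trans (max_le (ha Q hQ) (hb Q hQ))
  zero_mem' Q _ := by simp
  smul_mem' c z hz Q hQ := by
    rw [Algebra.smul_def, map_mul]
    exact (mul_le_mul' (Q.2.1 c) (hz Q hQ)).trans_eq (one_mul _)

lemma mem_Ifr {S : Finset (Place k K)} {n : Place k K → ℤ} {z : K} :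
    z ∈ Ifr S n ↔ ∀ Q ∈ S, Q.1 z ≤ exp (-(n Q)) := Iff.rfl

lemma Ifr_congr {S : Finset (Place k K)} {n n' : Place k K → ℤ} (h : ∀ Q ∈ S, n Q = n' Q) :
    Ifr S n = Ifr S n' := by
  ext z
  simp only [mem_Ifr]
  constructor
  · intro hz Q hQ; rw [← h Q hQ]; exact hz Q hQ
  · intro hz Q hQ; rw [h Q hQ]; exact hz Q hQ

lemma Ifr_anti {S : Finset (Place k K)} {n n' : Place k K → ℤ} (h : ∀ Q ∈ S, n Q ≤ n' Q) :
    Ifr S n' ≤ Ifr S n := by
  intro z hz Q hQ
  refine (hz Q hQ).trans ?_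
  rw [exp_le_exp]
  have := h Q hQ
  omega

lemma zm0_mul_exp_lt_one (a : ZM0) (m : ℤ) : a * exp m < 1 ↔ a ≤ exp (-(m + 1)) := by
  induction a using WithZero.expRecOn with
  | zero => simp
  | exp b =>
    rw [← exp_add, ← exp_zero, exp_lt_exp, exp_le_exp]; omega

lemma val_zpow_unif {Q : Place k K} {t : K} (ht : Q.1 t = exp (-1 : ℤ)) (m : ℤ) :
    Q.1 (t ^ m) = exp (-m) := by
  rw [map_zpow₀, ht, zm0_exp_zpow]
  congr 1; ring

open scoped Classical in
/-- one step of the filtration has relative dimension `deg Q₀`. -/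
theorem relfinrank_step (hK : IsFunctionField k K) (S : Finset (Place k K))
    (n : Place k K → ℤ) (Q₀ : Place k K) (hQ₀ : Q₀ ∈ S) :
    RelFinite (Ifr S n) (Ifr S (Function.update n Q₀ (n Q₀ + 1))) ∧
      relfinrank (Ifr S n) (Ifr S (Function.update n Q₀ (n Q₀ + 1))) = Q₀.deg := by
  obtain ⟨t, ht⟩ := exists_unif Q₀
  have ht0 : t ≠ 0 := unif_ne_zero ht
  set m := n Q₀ with hm
  have hval : ∀ z : K, Q₀.1 (z * t ^ (-m)) = Q₀.1 z * exp m := by
    intro z
    rw [map_mul, val_zpow_unif ht, neg_neg]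
  have hmem : ∀ z : ↥(Ifr S n), Q₀.1 ((z : K) * t ^ (-m)) ≤ 1 := by
    intro z
    rw [hval]
    calc Q₀.1 (z : K) * exp m ≤ exp (-m) * exp m := mul_le_mul' (z.2 Q₀ hQ₀) le_rfl
      _ = 1 := by rw [← exp_add]; simp
  let l : ↥(Ifr S n) →ₗ[k] ResidueField Q₀.O :=
    { toFun := fun z => residue Q₀.O ⟨(z : K) * t ^ (-m), hmem z⟩
      map_add' := by
        intro a b
        rw [← map_add]
        congr 1
        apply Subtype.ext
        show ((a + b : ↥(Ifr S n)) : K) * t ^ (-m) = (a : K) * t ^ (-m) + (b : K) * t ^ (-m)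
        rw [Submodule.coe_add, add_mul]
      map_smul' := by
        intro c a
        simp only [RingHom.id_apply]
        refine Eq.trans ?_ (residue_smul Q₀ c ⟨(a : K) * t ^ (-m), hmem a⟩)
        congr 1
        apply Subtype.ext
        rw [coe_smul_O]
        show ((c • a : ↥(Ifr S n)) : K) * t ^ (-m) = algebraMap k K c * ((a : K) * t ^ (-m))
        rw [Submodule.coe_smul, Algebra.smul_def, mul_assoc] }
  have hl : ∀ z : ↥(Ifr S n), l z = residue Q₀.O ⟨(z : K) * t ^ (-m), hmem z⟩ := fun z => rfl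
  have hsurj : Function.Surjective l := by
    intro ξ
    obtain ⟨u, rfl⟩ := residue_surjective ξ
    obtain ⟨z, hz⟩ := weak_approx S (fun Q => if Q = Q₀ then (u : K) * t ^ m else 0)
      (fun Q => if Q = Q₀ then -(m + 1) else -(n Q))
    have hz0 : Q₀.1 (z - (u : K) * t ^ m) = exp (-(m + 1)) := by
      have := hz Q₀ hQ₀
      rwa [if_pos rfl, if_pos rfl] at this
    have hu : Q₀.1 (u : K) ≤ 1 := u.2
    have hzmem : z ∈ Ifr S n := by
      intro Q hQ
      by_cases hQQ : Q = Q₀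
      · subst hQQ
        have : z = (z - (u : K) * t ^ m) + (u : K) * t ^ m := by ring
        rw [this]
        refine (Q.1.map_add _ _).trans (max_le ?_ ?_)
        · rw [hz0, exp_le_exp]; omega
        · rw [map_mul, val_zpow_unif ht]
          calc Q.1 (u : K) * exp (-m) ≤ 1 * exp (-m) := mul_le_mul' hu le_rfl
            _ = exp (-m) := one_mul _
      · have := hz Q hQ
        rw [if_neg hQQ, if_neg hQQ, sub_zero] at this
        rw [this]
    refine ⟨⟨z, hzmem⟩, ?_⟩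
    rw [hl, ← sub_eq_zero, ← map_sub, LeadFF.residue_eq_zero_iff]
    show Q₀.1 (z * t ^ (-m) - (u : K)) < 1
    have h1 : z * t ^ (-m) - (u : K) = (z - (u : K) * t ^ m) * t ^ (-m) := by
      rw [sub_mul, mul_assoc, ← zpow_add₀ ht0]
      simp
    rw [h1, hval, hz0, ← exp_add, ← exp_zero, exp_lt_exp]
    omega
  have hker : LinearMap.ker l =
      (Ifr S (Function.update n Q₀ (n Q₀ + 1))).comap (Ifr S n).subtype := by
    ext z
    rw [LinearMap.mem_ker, hl, LeadFF.residue_eq_zero_iff, Submodule.mem_comap]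
    show Q₀.1 ((z : K) * t ^ (-m)) < 1 ↔ (z : K) ∈ Ifr S (Function.update n Q₀ (n Q₀ + 1))
    rw [hval]
    have key : Q₀.1 (z : K) * exp m < 1 ↔ Q₀.1 (z : K) ≤ exp (-(m + 1)) :=
      zm0_mul_exp_lt_one _ m
    rw [key]
    constructor
    · intro h Q hQ
      by_cases hQQ : Q = Q₀
      · subst hQQ
        rw [Function.update_self]
        exact h
      · rw [Function.update_of_ne hQQ]
        exact z.2 Q hQ
    · intro h
      have := h Q₀ hQ₀
      rwa [Function.update_self] at this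
  haveI : Module.Finite k (ResidueField Q₀.O) := residueField_finite hK Q₀
  exact relfinrank_of_surjective l hsurj hker

open scoped Classical in
/-- the dimension of `I(0)/I(n)`. -/
theorem relfinrank_Ifr (hK : IsFunctionField k K) (S : Finset (Place k K)) :
    ∀ (N : ℕ) (n : Place k K → ℕ), ∑ Q ∈ S, n Q = N →
    RelFinite (Ifr S 0) (Ifr S (fun Q => (n Q : ℤ))) ∧
      relfinrank (Ifr S 0) (Ifr S (fun Q => (n Q : ℤ))) = ∑ Q ∈ S, n Q * Q.deg := by
  intro N
  induction N with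
  | zero =>
    intro n hn
    have h0 : ∀ Q ∈ S, n Q = 0 := fun Q hQ => (Finset.sum_eq_zero_iff.mp hn) Q hQ
    have : Ifr S (fun Q => (n Q : ℤ)) = Ifr S 0 :=
      Ifr_congr (fun Q hQ => by simp [h0 Q hQ])
    rw [this]
    refine ⟨relFinite_self _, ?_⟩
    rw [relfinrank_self]
    symm
    apply Finset.sum_eq_zero
    intro Q hQ
    rw [h0 Q hQ, zero_mul]
  | succ N ih =>
    intro n hn
    have hex : ∃ Q₀ ∈ S, 0 < n Q₀ := by
      by_contra hcon
      push Not at hcon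
      have : ∑ Q ∈ S, n Q = 0 := Finset.sum_eq_zero fun Q hQ => Nat.le_zero.mp (hcon Q hQ)
      omega
    obtain ⟨Q₀, hQ₀, hpos⟩ := hex
    set n₁ : Place k K → ℕ := Function.update n Q₀ (n Q₀ - 1) with hn₁
    have hn₁Q₀ : n₁ Q₀ = n Q₀ - 1 := Function.update_self ..
    have hn₁Q : ∀ Q, Q ≠ Q₀ → n₁ Q = n Q := fun Q hQ => Function.update_of_ne hQ ..
    have hsum1 : ∑ Q ∈ S, n Q = ∑ Q ∈ S, n₁ Q + 1 := by
      rw [← Finset.add_sum_erase S n hQ₀, ← Finset.add_sum_erase S n₁ hQ₀, hn₁Q₀]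
      have : ∑ Q ∈ S.erase Q₀, n₁ Q = ∑ Q ∈ S.erase Q₀, n Q :=
        Finset.sum_congr rfl fun Q hQ => hn₁Q Q (Finset.ne_of_mem_erase hQ)
      rw [this]
      omega
    have hsum2 : ∑ Q ∈ S, n Q * Q.deg = ∑ Q ∈ S, n₁ Q * Q.deg + Q₀.deg := by
      rw [← Finset.add_sum_erase S (fun Q => n Q * Q.deg) hQ₀,
        ← Finset.add_sum_erase S (fun Q => n₁ Q * Q.deg) hQ₀, hn₁Q₀]
      have : ∑ Q ∈ S.erase Q₀, n₁ Q * Q.deg = ∑ Q ∈ S.erase Q₀, n Q * Q.deg :=
        Finset.sum_congr rfl fun Q hQ => by rw [hn₁Q Q (Finset.ne_of_mem_erase hQ)]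
      rw [this]
      have : n Q₀ * Q₀.deg = (n Q₀ - 1) * Q₀.deg + Q₀.deg := by
        obtain ⟨j, hj⟩ : ∃ j, n Q₀ = j + 1 := ⟨n Q₀ - 1, by omega⟩
        rw [hj]; simp; ring
      rw [this]; ring
    obtain ⟨hfin1, hrank1⟩ := ih n₁ (by omega)
    obtain ⟨hfin2, hrank2⟩ := relfinrank_step hK S (fun Q => (n₁ Q : ℤ)) Q₀ hQ₀
    have hupd : Function.update (fun Q => (n₁ Q : ℤ)) Q₀ ((n₁ Q₀ : ℤ) + 1) =
        fun Q => (n Q : ℤ) := by
      funext Q
      by_cases hQ : Q = Q₀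
      · subst hQ
        rw [Function.update_self, hn₁Q₀]
        omega
      · rw [Function.update_of_ne hQ, hn₁Q Q hQ]
    rw [hupd] at hfin2 hrank2
    have hle1 : Ifr S (fun Q => (n Q : ℤ)) ≤ Ifr S (fun Q => (n₁ Q : ℤ)) := by
      apply Ifr_anti
      intro Q hQ
      by_cases hQQ : Q = Q₀
      · subst hQQ; rw [hn₁Q₀]; omega
      · rw [hn₁Q Q hQQ]
    have hle2 : Ifr S (fun Q => (n₁ Q : ℤ)) ≤ Ifr S 0 := by
      apply Ifr_anti
      intro Q hQ
      simp
    obtain ⟨hfin, hrank⟩ := relfinrank_trans hle1 hle2 hfin1 hfin2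
    exact ⟨hfin, by rw [hrank, hrank1, hrank2, hsum2]⟩

end Groth.Agent.Lib.LeadIM
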