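import Groth.Agent.Lib.LeadIMb

set_option autoImplicit false
set_option maxHeartbeats 400000
set_option linter.style.haveILetI false
set_option linter.unusedSectionVars false
set_option linter.unusedVariables false

/-! The conductor of the local ring of an affine curve at a point into the semi-local ring of the
places above the point. -/

namespace Groth.Agent.Lib.LeadIM

open FunFld WithZero IsLocalRing Groth.Agent.Lib.LeadFF

variable {k K : Type*} [Field k] [Field K] [Algebra k K]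

/-- the local ring of the affine curve with coordinate ring `R` at the point below the places of
`S`: fractions with denominator a unit at all places of `S`. -/
def Oa (R : Subalgebra k K) (S : Finset (Place k K)) : Submodule k K where
  carrier := {z | ∃ u ∈ R, ∃ w ∈ R, (∀ Q ∈ S, Q.1 w = 1) ∧ z * w = u}
  add_mem' := by
    rintro a b ⟨u, hu, w, hw, hw1, h⟩ ⟨u', hu', w', hw', hw1', h'⟩
    refine ⟨u * w' + u' * w, add_mem (mul_mem hu hw') (mul_mem hu' hw), w * w', mul_mem hw hw',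
      fun Q hQ => by rw [map_mul, hw1 Q hQ, hw1' Q hQ, one_mul], ?_⟩
    rw [← h, ← h']; ring
  zero_mem' := ⟨0, zero_mem _, 1, one_mem _, fun Q _ => map_one _, by simp⟩
  smul_mem' := by
    rintro c a ⟨u, hu, w, hw, hw1, h⟩
    refine ⟨c • u, Subalgebra.smul_mem _ hu c, w, hw, hw1, ?_⟩
    rw [← h, smul_mul_assoc]

lemma mem_Oa {R : Subalgebra k K} {S : Finset (Place k K)} {z : K} :
    z ∈ Oa R S ↔ ∃ u ∈ R, ∃ w ∈ R, (∀ Q ∈ S, Q.1 w = 1) ∧ z * w = u := Iff.rfl

lemma mem_Oa_of_mem {R : Subalgebra k K} {S : Finset (Place k K)} {z : K} (hz : z ∈ R) :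
    z ∈ Oa R S := ⟨z, hz, 1, one_mem _, fun Q _ => map_one _, mul_one z⟩

lemma mul_mem_Oa {R : Subalgebra k K} {S : Finset (Place k K)} {a b : K}
    (ha : a ∈ Oa R S) (hb : b ∈ Oa R S) : a * b ∈ Oa R S := by
  obtain ⟨u, hu, w, hw, hw1, h⟩ := ha
  obtain ⟨u', hu', w', hw', hw1', h'⟩ := hb
  refine ⟨u * u', mul_mem hu hu', w * w', mul_mem hw hw',
    fun Q hQ => by rw [map_mul, hw1 Q hQ, hw1' Q hQ, one_mul], ?_⟩
  rw [← h, ← h']; ring

section Cond

variable [IsAlgClosed k] {ι : Type*} [Fintype ι] (r : ι → K) (c : ι → k)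
  (S : Finset (Place k K))
  (hS : ∀ Q : Place k K, Q ∈ S ↔ ∀ i, Q.1 (r i - algebraMap k K (c i)) < 1)

lemma exists_const_of_le (hK : IsFunctionField k K) (Q : Place k K) {s : K} (hs : Q.1 s ≤ 1) :
    ∃ b : k, Q.1 (s - algebraMap k K b) < 1 := by
  obtain ⟨b, hb⟩ := residue_surjective_of_algClosed hK Q (residue Q.O ⟨s, hs⟩)
  refine ⟨b, ?_⟩
  have h2 : residue Q.O (⟨s, hs⟩ - algebraMap k Q.O b) = 0 := by
    rw [map_sub, ← hb]
    exact sub_self _
  rw [LeadFF.residue_eq_zero_iff] at h2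
  exact h2

include hS in
lemma val_le_one_of_mem_adjoin {Q : Place k K} (hQ : Q ∈ S) {w : K}
    (hw : w ∈ Algebra.adjoin k (Set.range r)) : Q.1 w ≤ 1 := by
  induction hw using Algebra.adjoin_induction with
  | mem x hx =>
    obtain ⟨i, rfl⟩ := hx
    have h1 := ((hS Q).mp hQ i).le
    have : r i = (r i - algebraMap k K (c i)) + algebraMap k K (c i) := by ring
    rw [this]
    exact (Q.1.map_add _ _).trans (max_le h1 (Q.2.1 _))
  | algebraMap b => exact Q.2.1 b
  | add x y _ _ hx hy => exact (Q.1.map_add _ _).trans (max_le hx hy)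
  | mul x y _ _ hx hy => rw [map_mul]; exact mul_le_one' hx hy

include hS in
/-- a multiplier in `R` vanishing at a finite place outside `S` and a unit on `S`. -/
lemma exists_multiplier (hK : IsFunctionField k K) {xg : K}
    (hgen : ∀ (Q : Place k K) (i : ι), 1 < Q.1 (r i) → Q.1 (r i) ≤ Q.1 xg)
    {Q0 : Place k K} (hQ0 : Q0.1 xg ≤ 1) (hQ0S : Q0 ∉ S) :
    ∃ w0 ∈ Algebra.adjoin k (Set.range r), Q0.1 w0 < 1 ∧ ∀ Q ∈ S, Q.1 w0 = 1 := by
  have hex : ∃ i, ¬ Q0.1 (r i - algebraMap k K (c i)) < 1 := by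
    by_contra hcon
    push Not at hcon
    exact hQ0S ((hS Q0).mpr hcon)
  obtain ⟨i, hi⟩ := hex
  have hri : Q0.1 (r i) ≤ 1 := by
    by_contra h
    rw [not_le] at h
    exact absurd (lt_of_lt_of_le h (hgen Q0 i h)) (not_lt.mpr hQ0)
  obtain ⟨b, hb⟩ := exists_const_of_le hK Q0 hri
  have hbc : b ≠ c i := by
    rintro rfl
    exact hi hb
  refine ⟨r i - algebraMap k K b,
    sub_mem (Algebra.subset_adjoin ⟨i, rfl⟩) (Subalgebra.algebraMap_mem _ _), hb, ?_⟩
  intro Q hQ
  have h1 := (hS Q).mp hQ i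
  have h2 : Q.1 (algebraMap k K (c i - b)) = 1 :=
    LeadFF.place_trivOn Q _ (sub_ne_zero.mpr hbc.symm)
  have h3 : r i - algebraMap k K b =
      algebraMap k K (c i - b) + (r i - algebraMap k K (c i)) := by
    rw [map_sub]; ring
  rw [h3]
  have := Valuation.map_add_eq_of_lt_left Q.1 (x := algebraMap k K (c i - b))
    (y := r i - algebraMap k K (c i)) (by rw [h2]; exact h1)
  rw [this, h2]

include hS in
lemma exists_clear_R (hK : IsFunctionField k K) {xg : K}
    (hgen : ∀ (Q : Place k K) (i : ι), 1 < Q.1 (r i) → Q.1 (r i) ≤ Q.1 xg)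
    (hRU : Algebra.adjoin k (Set.range r) ≤ finRing k xg) :
    ∀ (s : Finset (Place k K)) (z : K), (∀ Q ∈ S, Q.1 z ≤ 1) →
      (∀ Q : Place k K, Q.1 xg ≤ 1 → 1 < Q.1 z → Q ∈ s) →
      ∃ w ∈ Algebra.adjoin k (Set.range r), (∀ Q ∈ S, Q.1 w = 1) ∧ z * w ∈ finRing k xg := by
  classical
  intro s
  induction s using Finset.induction_on with
  | empty =>
    intro z _ hbad
    refine ⟨1, one_mem _, fun Q _ => map_one _, fun Q hQ => ?_⟩
    rw [mul_one]
    by_contra h
    rw [not_le] at h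
    simpa using hbad Q hQ h
  | insert Q0 s hQ0 ih =>
    intro z hz hbad
    by_cases hb : Q0.1 xg ≤ 1 ∧ 1 < Q0.1 z
    · obtain ⟨hb1, hb2⟩ := hb
      have hQ0S : Q0 ∉ S := fun h => absurd hb2 (not_lt.mpr (hz Q0 h))
      obtain ⟨w0, hw0R, hw0Q, hw0S⟩ := exists_multiplier r c S hS hK hgen hb1 hQ0S
      obtain ⟨M, hM⟩ := zm0_exists_le_exp (Q0.1 z)
      set z' := z * w0 ^ M with hz'
      have hSz' : ∀ Q ∈ S, Q.1 z' ≤ 1 := by
        intro Q hQ
        rw [hz', map_mul, map_pow, hw0S Q hQ, one_pow, mul_one]; exact hz Q hQ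
      have hQ0z' : Q0.1 z' ≤ 1 := by
        rw [hz', map_mul, map_pow]
        have h1 : Q0.1 w0 ^ M ≤ exp (-1 : ℤ) ^ M := pow_le_pow_left' (zm0_lt_one_iff.mp hw0Q) M
        rw [zm0_exp_pow] at h1
        calc Q0.1 z * Q0.1 w0 ^ M ≤ exp (M : ℤ) * exp ((M : ℤ) * (-1)) := mul_le_mul' hM h1
          _ = 1 := by rw [← exp_add]; simp
      have hbad' : ∀ Q : Place k K, Q.1 xg ≤ 1 → 1 < Q.1 z' → Q ∈ s := by
        intro Q hQ hQz'
        have hw0Q' : Q.1 w0 ≤ 1 := hRU hw0R Q hQ
        have hQz : 1 < Q.1 z := by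
          refine lt_of_lt_of_le hQz' ?_
          rw [hz', map_mul, map_pow]
          calc Q.1 z * Q.1 w0 ^ M ≤ Q.1 z * 1 := mul_le_mul' le_rfl (pow_le_one' hw0Q' M)
            _ = Q.1 z := mul_one _
        have := hbad Q hQ hQz
        rw [Finset.mem_insert] at this
        rcases this with rfl | h
        · exact absurd hQz' (not_lt.mpr hQ0z')
        · exact h
      obtain ⟨w', hw'R, hw'S, hw'⟩ := ih z' hSz' hbad'
      refine ⟨w0 ^ M * w', mul_mem (pow_mem hw0R M) hw'R, ?_, ?_⟩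
      · intro Q hQ
        rw [map_mul, map_pow, hw0S Q hQ, one_pow, one_mul, hw'S Q hQ]
      · rwa [hz', mul_assoc] at hw'
    · apply ih z hz
      intro Q hQ hQz
      have := hbad Q hQ hQz
      rw [Finset.mem_insert] at this
      rcases this with rfl | h
      · exact absurd ⟨hQ, hQz⟩ hb
      · exact h

include hS in
/-- the conductor of `O_a` in the semi-local ring of `S`. -/
theorem exists_conductor_local (hK : IsFunctionField k K)
    (hbir : IntermediateField.adjoin k (Set.range r) = ⊤) :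
    ∃ d ∈ Algebra.adjoin k (Set.range r), d ≠ 0 ∧
      ∀ z ∈ Ifr S 0, d * z ∈ Oa (Algebra.adjoin k (Set.range r)) S := by
  classical
  haveI : Infinite k := IsAlgClosed.instInfinite
  obtain ⟨a, hgen⟩ := exists_generic hK r
  set xg := ∑ l, a l • r l with hxg
  have hxR : xg ∈ Algebra.adjoin k (Set.range r) :=
    sum_mem fun l _ => Subalgebra.smul_mem _ (Algebra.subset_adjoin (Set.mem_range_self l)) _
  have hxk : xg ∉ Set.range (algebraMap k K) := by
    rintro ⟨c', hc'⟩
    have hnopole : ∀ (Q : Place k K) (i : ι), Q.1 (r i) ≤ 1 := by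
      intro Q i
      by_contra h
      rw [not_le] at h
      have := lt_of_lt_of_le h (hgen Q i h)
      rw [← hc'] at this
      exact absurd this (not_lt.mpr (Q.2.1 c'))
    have hconst : ∀ i, r i ∈ (⊥ : IntermediateField k K) := by
      intro i
      have : r i ∈ L (0 : Divisor k K) := fun Q => by simpa using hnopole Q i
      rw [L_zero hK, Submodule.mem_one] at this
      obtain ⟨c'', hc''⟩ := this
      rw [IntermediateField.mem_bot]; exact ⟨c'', hc''⟩
    have hbot : IntermediateField.adjoin k (Set.range r) = ⊥ := by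
      rw [eq_bot_iff, IntermediateField.adjoin_le_iff]
      rintro _ ⟨i, rfl⟩
      exact hconst i
    rw [hbir] at hbot
    obtain ⟨y, hy, -⟩ := hK.1
    have : y ∈ (⊥ : IntermediateField k K) := by rw [← hbot]; trivial
    rw [IntermediateField.mem_bot] at this
    obtain ⟨d, rfl⟩ := this
    exact hy (isAlgebraic_algebraMap d)
  have hxtr : Transcendental k xg := transcendental_of_not_mem hK hxk
  obtain ⟨B, hB⟩ := exists_codim_bound hK r hbir hxtr hxR hgen
  have hRU : Algebra.adjoin k (Set.range r) ≤ finRing k xg := by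
    intro u hu
    obtain ⟨m, hm⟩ := adjoin_mem_L hK r xg hgen u hu
    exact mem_finRing_of_mem_L hK hm
  obtain ⟨d, hdR, hd0, hd⟩ := exists_conductor_global (Algebra.adjoin k (Set.range r)) hxR hxtr
    hRU B (fun z hz => hB z (fun i => exists_mem_L_of_mem_finRing hK (hz i)))
  refine ⟨d, hdR, hd0, ?_⟩
  intro z hz
  have hz' : ∀ Q ∈ S, Q.1 z ≤ 1 := by
    intro Q hQ
    have := hz Q hQ
    simpa using this
  obtain ⟨w, hwR, hwS, hzw⟩ := exists_clear_R r c S hS hK hgen hRU
    (poles_finite' hK z).toFinset z hz' (fun Q _ hQz => by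
      rw [Set.Finite.mem_toFinset]; exact hQz)
  exact ⟨d * (z * w), hd _ hzw, w, hwR, hwS, by ring⟩

end Cond

end Groth.Agent.Lib.LeadIM
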