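import Groth.Agent.Lib.LeadIMc

set_option autoImplicit false
set_option maxHeartbeats 400000
set_option linter.style.haveILetI false
set_option linter.unusedSectionVars false
set_option linter.unusedVariables false

/-! `dim O_a / g O_a` as a sum of orders of vanishing. -/

namespace Groth.Agent.Lib.LeadIM

open FunFld WithZero IsLocalRing Groth.Agent.Lib.LeadFF

section Lattice

variable {k U : Type*} [Field k] [AddCommGroup U] [Module k U]

theorem relfinrank_lattice {O Ot : Submodule k U} (eg ec : U ≃ₗ[k] U)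
    (hO : O ≤ Ot) (hgO : O.map (eg : U →ₗ[k] U) ≤ O)
    (hgOt : Ot.map (eg : U →ₗ[k] U) ≤ Ot)
    (hc : Ot.map (ec : U →ₗ[k] U) ≤ O)
    (hfin : RelFinite Ot ((Ot.map (ec : U →ₗ[k] U)).map (eg : U →ₗ[k] U))) :
    RelFinite O (O.map (eg : U →ₗ[k] U)) ∧
      relfinrank O (O.map (eg : U →ₗ[k] U)) = relfinrank Ot (Ot.map (eg : U →ₗ[k] U)) := by
  have h1 : (Ot.map (ec : U →ₗ[k] U)).map (eg : U →ₗ[k] U) ≤ O.map (eg : U →ₗ[k] U) :=
    Submodule.map_mono hc
  have h2 : O.map (eg : U →ₗ[k] U) ≤ Ot.map (eg : U →ₗ[k] U) := Submodule.map_mono hO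
  have f1 : RelFinite Ot (O.map (eg : U →ₗ[k] U)) := relFinite_of_le_left h1 hfin
  have f2 : RelFinite Ot O := relFinite_of_le_left hgO f1
  have f3 : RelFinite O (O.map (eg : U →ₗ[k] U)) := relFinite_of_le_right hO f1
  have f4 : RelFinite (Ot.map (eg : U →ₗ[k] U)) (O.map (eg : U →ₗ[k] U)) := relFinite_map eg f2
  have f5 : RelFinite Ot (Ot.map (eg : U →ₗ[k] U)) := relFinite_of_le_left h2 f1
  obtain ⟨-, t1⟩ := relfinrank_trans hgO hO f2 f3
  obtain ⟨-, t2⟩ := relfinrank_trans h2 hgOt f5 f4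
  rw [relfinrank_map] at t2
  exact ⟨f3, by omega⟩

end Lattice

variable {k K : Type*} [Field k] [Field K] [Algebra k K]

/-- multiplication by a nonzero element, as a `k`-linear automorphism. -/
noncomputable def mulEquiv (g : K) (hg : g ≠ 0) : K ≃ₗ[k] K :=
  LinearEquiv.ofLinearMap (LinearMap.mulLeft k g) (LinearMap.mulLeft k g⁻¹)
    (by ext z; simp [hg]) (by ext z; simp [hg])

lemma mulEquiv_apply (g : K) (hg : g ≠ 0) (z : K) : (mulEquiv (k := k) g hg) z = g * z := rfl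

lemma ord_nonneg_of_le_one (Q : Place k K) {g : K} (hg : g ≠ 0) (h : Q.1 g ≤ 1) :
    0 ≤ Q.ord g := by
  rw [val_eq_exp_neg_ord Q hg, ← exp_zero, exp_le_exp] at h
  omega

lemma map_mulEquiv_Ifr (S : Finset (Place k K)) (g : K) (hg : g ≠ 0) (n : Place k K → ℤ) :
    (Ifr S n).map (mulEquiv (k := k) g hg : K →ₗ[k] K) = Ifr S (fun Q => n Q + Q.ord g) := by
  ext z
  constructor
  · rintro ⟨y, hy, rfl⟩
    intro Q hQ
    show Q.1 (g * y) ≤ _
    rw [map_mul, val_eq_exp_neg_ord Q hg]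
    calc exp (-Q.ord g) * Q.1 y ≤ exp (-Q.ord g) * exp (-(n Q)) := mul_le_mul' le_rfl (hy Q hQ)
      _ = exp (-(n Q + Q.ord g)) := by rw [← exp_add]; congr 1; ring
  · intro hz
    refine ⟨g⁻¹ * z, ?_, ?_⟩
    · intro Q hQ
      have h1 := hz Q hQ
      rw [map_mul, map_inv₀, val_eq_exp_neg_ord Q hg, ← exp_neg, neg_neg]
      calc exp (Q.ord g) * Q.1 z ≤ exp (Q.ord g) * exp (-(n Q + Q.ord g)) :=
            mul_le_mul' le_rfl h1
        _ = exp (-(n Q)) := by rw [← exp_add]; congr 1; ring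
    · show g * (g⁻¹ * z) = z
      rw [← mul_assoc, mul_inv_cancel₀ hg, one_mul]

section Main

variable [IsAlgClosed k] {ι : Type*} [Fintype ι] (r : ι → K) (c : ι → k)
  (S : Finset (Place k K))
  (hS : ∀ Q : Place k K, Q ∈ S ↔ ∀ i, Q.1 (r i - algebraMap k K (c i)) < 1)

include hS in
lemma Oa_le_Ifr : Oa (Algebra.adjoin k (Set.range r)) S ≤ Ifr S 0 := by
  rintro z ⟨u, hu, w, hw, hw1, h⟩ Q hQ
  have hu1 := val_le_one_of_mem_adjoin r c S hS hQ hu
  have : Q.1 z = Q.1 u := by rw [← h, map_mul, hw1 Q hQ, mul_one]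
  rw [this]
  simpa using hu1

include hS in
theorem relfinrank_Oa (hK : IsFunctionField k K)
    (hbir : IntermediateField.adjoin k (Set.range r) = ⊤)
    (g : K) (hg0 : g ≠ 0) (hgO : g ∈ Oa (Algebra.adjoin k (Set.range r)) S) :
    RelFinite (Oa (Algebra.adjoin k (Set.range r)) S)
      ((Oa (Algebra.adjoin k (Set.range r)) S).map (mulEquiv (k := k) g hg0 : K →ₗ[k] K)) ∧
    relfinrank (Oa (Algebra.adjoin k (Set.range r)) S)
      ((Oa (Algebra.adjoin k (Set.range r)) S).map (mulEquiv (k := k) g hg0 : K →ₗ[k] K)) =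
      ∑ Q ∈ S, (Q.ord g).toNat * Q.deg := by
  classical
  obtain ⟨d, hdR, hd0, hd⟩ := exists_conductor_local r c S hS hK hbir
  have hO := Oa_le_Ifr r c S hS
  have hgS : ∀ Q ∈ S, Q.1 g ≤ 1 := fun Q hQ => by simpa using hO hgO Q hQ
  have hdS : ∀ Q ∈ S, Q.1 d ≤ 1 := fun Q hQ => by
    simpa using hO (mem_Oa_of_mem hdR) Q hQ
  have hgn : ∀ Q ∈ S, 0 ≤ Q.ord g := fun Q hQ => ord_nonneg_of_le_one Q hg0 (hgS Q hQ)
  have hdn : ∀ Q ∈ S, 0 ≤ Q.ord d := fun Q hQ => ord_nonneg_of_le_one Q hd0 (hdS Q hQ)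
  have hgO' : (Oa (Algebra.adjoin k (Set.range r)) S).map
      (mulEquiv (k := k) g hg0 : K →ₗ[k] K) ≤ Oa (Algebra.adjoin k (Set.range r)) S := by
    rintro _ ⟨y, hy, rfl⟩
    exact mul_mem_Oa hgO hy
  have hgOt : (Ifr S 0).map (mulEquiv (k := k) g hg0 : K →ₗ[k] K) ≤ Ifr S 0 := by
    rw [map_mulEquiv_Ifr]
    apply Ifr_anti
    intro Q hQ
    simpa using hgn Q hQ
  have hc : (Ifr S 0).map (mulEquiv (k := k) d hd0 : K →ₗ[k] K) ≤
      Oa (Algebra.adjoin k (Set.range r)) S := by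
    rintro _ ⟨y, hy, rfl⟩
    exact hd y hy
  have hfin : RelFinite (Ifr S 0) (((Ifr S 0).map (mulEquiv (k := k) d hd0 : K →ₗ[k] K)).map
      (mulEquiv (k := k) g hg0 : K →ₗ[k] K)) := by
    rw [map_mulEquiv_Ifr, map_mulEquiv_Ifr]
    have : Ifr S (fun Q => (0 : Place k K → ℤ) Q + Q.ord d + Q.ord g) =
        Ifr S (fun Q => (((Q.ord d + Q.ord g).toNat : ℕ) : ℤ)) := by
      apply Ifr_congr
      intro Q hQ
      have h1 := hgn Q hQ
      have h2 := hdn Q hQ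
      simp only [Pi.zero_apply, zero_add]
      omega
    rw [this]
    exact (relfinrank_Ifr hK S _ (fun Q => (Q.ord d + Q.ord g).toNat) rfl).1
  obtain ⟨f3, hrank⟩ := relfinrank_lattice (mulEquiv (k := k) g hg0) (mulEquiv (k := k) d hd0)
    hO hgO' hgOt hc hfin
  refine ⟨f3, ?_⟩
  rw [hrank, map_mulEquiv_Ifr]
  have : Ifr S (fun Q => (0 : Place k K → ℤ) Q + Q.ord g) =
      Ifr S (fun Q => (((Q.ord g).toNat : ℕ) : ℤ)) := by
    apply Ifr_congr
    intro Q hQ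
    have h1 := hgn Q hQ
    simp only [Pi.zero_apply, zero_add]
    omega
  rw [this]
  exact (relfinrank_Ifr hK S _ (fun Q => (Q.ord g).toNat) rfl).2

end Main

end Groth.Agent.Lib.LeadIM
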