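import Groth.Agent.Lib.LeadIMe

set_option autoImplicit false
set_option maxHeartbeats 1600000
set_option linter.style.haveILetI false
set_option linter.unusedSectionVars false
set_option linter.unusedVariables false

/-! Intersection multiplicity at a point of an affine plane curve as the dimension of
`A/(f, g)`: the main theorem. -/

namespace Groth.Agent.Lib.LeadIM

open FunFld WithZero MvPolynomial Groth.Agent.Lib.LeadFF

variable {k K : Type*} [Field k] [Field K] [Algebra k K]

theorem intersection_mult [IsAlgClosed k] (hK : IsFunctionField k K) (x y : K)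
    (hxy : IntermediateField.adjoin k ({x, y} : Set K) = ⊤) (f g : MvPolynomial (Fin 2) k)
    (hf : Irreducible f) (hfxy : aeval ![x, y] f = 0) (hgxy : aeval ![x, y] g ≠ 0)
    (P : Place k K) (c : Fin 2 → k) (hc : ∀ i, P.1 (![x, y] i - algebraMap k K (c i)) < 1)
    (M : Ideal (MvPolynomial (Fin 2) k)) [M.IsMaximal]
    (hM : M = Ideal.span {X 0 - C (c 0), X 1 - C (c 1)}) :
    ∑ᶠ Q ∈ {Q : Place k K | SameImage ![(1 : K), x, y] P Q}, Q.ord (aeval ![x, y] g) =
      (Module.finrank k (Localization.AtPrime M ⧸
        Ideal.map (algebraMap (MvPolynomial (Fin 2) k) (Localization.AtPrime M))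
          (Ideal.span {f, g})) : ℤ) := by
  classical
  have hrange : Set.range ![x, y] = {x, y} := by
    ext z
    simp only [Set.mem_range, Fin.exists_fin_two, Set.mem_insert_iff, Set.mem_singleton_iff]
    constructor
    · rintro (h | h)
      · left; simpa using h.symm
      · right; simpa using h.symm
    · rintro (h | h)
      · left; simpa using h.symm
      · right; simpa using h.symm
  have hbir : IntermediateField.adjoin k (Set.range ![x, y]) = ⊤ := by rw [hrange]; exact hxy
  -- the fibre is finite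
  have hexne : ∃ i, ![x, y] i - algebraMap k K (c i) ≠ 0 := by
    by_contra hcon
    push Not at hcon
    rcases LeadKP.transcendental_or hK x y hxy with hx | hy
    · apply hx
      have h0 := hcon 0
      have : x = algebraMap k K (c 0) := by simpa [sub_eq_zero] using h0
      rw [this]
      exact isAlgebraic_algebraMap _
    · apply hy
      have h1 := hcon 1
      have : y = algebraMap k K (c 1) := by simpa [sub_eq_zero] using h1
      rw [this]
      exact isAlgebraic_algebraMap _
  obtain ⟨i₀, hi₀⟩ := hexne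
  have hfinS : {Q : Place k K | ∀ i, Q.1 (![x, y] i - algebraMap k K (c i)) < 1}.Finite :=
    (zeros_finite' hK hi₀).subset (fun Q hQ => hQ i₀)
  have hS : ∀ Q : Place k K, Q ∈ hfinS.toFinset ↔
      ∀ i, Q.1 (![x, y] i - algebraMap k K (c i)) < 1 := fun Q => hfinS.mem_toFinset
  have hPS : P ∈ hfinS.toFinset := (hS P).mpr hc
  -- the left hand side
  have hT : {Q : Place k K | SameImage ![(1 : K), x, y] P Q} =
      (hfinS.toFinset : Set (Place k K)) := by
    ext Q
    rw [Set.mem_ofPred_eq, sameImage_iff_pt hK x y P Q c hc, Finset.mem_coe, hS]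
  rw [hT, finsum_mem_coe_finset]
  -- evaluation
  have hevR : ∀ h : MvPolynomial (Fin 2) k,
      aeval ![x, y] h ∈ Algebra.adjoin k (Set.range ![x, y]) := by
    intro h
    rw [Algebra.adjoin_range_eq_range_aeval]
    exact ⟨h, rfl⟩
  have hRr : ∀ u ∈ Algebra.adjoin k (Set.range ![x, y]),
      ∃ U : MvPolynomial (Fin 2) k, aeval ![x, y] U = u := by
    intro u hu
    rw [Algebra.adjoin_range_eq_range_aeval] at hu
    exact hu
  have hunit : ∀ h : MvPolynomial (Fin 2) k, h ∉ M →
      ∀ Q ∈ hfinS.toFinset, Q.1 (aeval ![x, y] h) = 1 := by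
    intro h hh Q hQ
    have h1 := val_aeval_sub_eval_lt ![x, y] c Q ((hS Q).mp hQ) h
    have h2 : eval c h ≠ 0 := fun h0 => hh ((mem_maximal_iff c M hM h).mpr h0)
    exact eq_one_of_residue_ne_zero Q h1 h2
  have hnonunit : ∀ h ∈ M, ∀ Q ∈ hfinS.toFinset, Q.1 (aeval ![x, y] h) < 1 := by
    intro h hh Q hQ
    have h1 := val_aeval_sub_eval_lt ![x, y] c Q ((hS Q).mp hQ) h
    rw [(mem_maximal_iff c M hM h).mp hh, map_zero, sub_zero] at h1
    exact h1
  -- the map from the localization
  have hu : ∀ w : M.primeCompl,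
      IsUnit ((aeval ![x, y] : MvPolynomial (Fin 2) k →ₐ[k] K).toRingHom w) := by
    intro w
    apply IsUnit.mk0
    intro h0
    have h1 := hunit w w.2 P hPS
    have h2 : aeval ![x, y] (w : MvPolynomial (Fin 2) k) = 0 := h0
    rw [h2, map_zero] at h1
    exact zero_ne_one h1
  let ev' : Localization.AtPrime M →+* K := IsLocalization.lift (M := M.primeCompl) hu
  have hev' : ∀ h : MvPolynomial (Fin 2) k,
      ev' (algebraMap _ (Localization.AtPrime M) h) = aeval ![x, y] h :=
    fun h => IsLocalization.lift_eq hu h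
  have hmk : ∀ (u : MvPolynomial (Fin 2) k) (w : M.primeCompl),
      ev' (IsLocalization.mk' (Localization.AtPrime M) u w) *
        aeval ![x, y] (w : MvPolynomial (Fin 2) k) = aeval ![x, y] u := by
    intro u w
    rw [← hev' w, ← map_mul, IsLocalization.mk'_spec]
    exact hev' u
  have hsmul : ∀ (a : k) (z : Localization.AtPrime M), ev' (a • z) = a • ev' z := by
    intro a z
    rw [Algebra.smul_def, Algebra.smul_def, map_mul,
      IsScalarTower.algebraMap_apply k (MvPolynomial (Fin 2) k) (Localization.AtPrime M), hev',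
      AlgHom.commutes]
  -- the local ring
  have hg0 : aeval ![x, y] g ≠ 0 := hgxy
  have hev'O : ∀ z : Localization.AtPrime M,
      ev' z ∈ Oa (Algebra.adjoin k (Set.range ![x, y])) hfinS.toFinset := by
    intro z
    obtain ⟨⟨u, w⟩, rfl⟩ := IsLocalization.mk'_surjective M.primeCompl z
    exact ⟨aeval ![x, y] u, hevR u, aeval ![x, y] (w : MvPolynomial (Fin 2) k), hevR w,
      hunit w w.2, hmk u w⟩
  have hsurjO : ∀ o ∈ Oa (Algebra.adjoin k (Set.range ![x, y])) hfinS.toFinset,
      ∃ z : Localization.AtPrime M, ev' z = o := by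
    rintro o ⟨u, hu', w, hw, hw1, h⟩
    obtain ⟨U, rfl⟩ := hRr u hu'
    obtain ⟨W, rfl⟩ := hRr w hw
    have hWM : W ∉ M := by
      intro hW
      have h1 := hnonunit W hW P hPS
      rw [hw1 P hPS] at h1
      exact lt_irrefl _ h1
    refine ⟨IsLocalization.mk' (Localization.AtPrime M) U (⟨W, hWM⟩ : M.primeCompl), ?_⟩
    have h1 := hmk U (⟨W, hWM⟩ : M.primeCompl)
    have hW0 : aeval ![x, y] W ≠ 0 := by
      intro h0
      have h2 := hw1 P hPS
      rw [h0, map_zero] at h2
      exact zero_ne_one h2
    exact mul_right_cancel₀ hW0 (h1.trans h.symm)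
  let evO : Localization.AtPrime M →ₗ[k]
      ↥(Oa (Algebra.adjoin k (Set.range ![x, y])) hfinS.toFinset) :=
    { toFun := fun z => ⟨ev' z, hev'O z⟩
      map_add' := fun a b => Subtype.ext (map_add ev' a b)
      map_smul' := fun a z => Subtype.ext (hsmul a z) }
  let Ψ := ((((Oa (Algebra.adjoin k (Set.range ![x, y])) hfinS.toFinset).map
      (mulEquiv (k := k) (aeval ![x, y] g) hg0 : K →ₗ[k] K)).comap
      (Oa (Algebra.adjoin k (Set.range ![x, y])) hfinS.toFinset).subtype).mkQ).comp evO
  have hΨsurj : Function.Surjective Ψ := by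
    intro q
    obtain ⟨o, rfl⟩ := Submodule.mkQ_surjective _ q
    obtain ⟨z, hz⟩ := hsurjO o.1 o.2
    exact ⟨z, by
      show Submodule.mkQ _ (evO z) = Submodule.mkQ _ o
      congr 1
      exact Subtype.ext hz⟩
  have hΨ0 : ∀ z : Localization.AtPrime M, Ψ z = 0 ↔
      ∃ o ∈ Oa (Algebra.adjoin k (Set.range ![x, y])) hfinS.toFinset,
        aeval ![x, y] g * o = ev' z := by
    intro z
    show Submodule.mkQ _ (evO z) = 0 ↔ _
    rw [Submodule.mkQ_apply, Submodule.Quotient.mk_eq_zero, Submodule.mem_comap]
    show ev' z ∈ Submodule.map _ _ ↔ _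
    rw [Submodule.mem_map]
    rfl
  -- the kernel of `ev'`
  have hkerf := ker_aeval_eq hK x y hxy f hf hfxy
  have hker' : ∀ z : Localization.AtPrime M, ev' z = 0 →
      z ∈ Ideal.map (algebraMap (MvPolynomial (Fin 2) k) (Localization.AtPrime M))
        (Ideal.span {f}) := by
    intro z hz
    obtain ⟨⟨u, w⟩, rfl⟩ := IsLocalization.mk'_surjective M.primeCompl z
    have h1 := hmk u w
    rw [hz, zero_mul] at h1
    have h2 : u ∈ RingHom.ker (aeval ![x, y] : MvPolynomial (Fin 2) k →ₐ[k] K) := h1.symm
    rw [hkerf, Ideal.mem_span_singleton] at h2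
    obtain ⟨q, rfl⟩ := h2
    show IsLocalization.mk' (Localization.AtPrime M) (f * q) w ∈ _
    rw [← IsLocalization.mul_mk'_eq_mk'_of_mul]
    exact Ideal.mul_mem_right _ _ (Ideal.mem_map_of_mem _ (Ideal.subset_span rfl))
  -- the kernel of `Ψ`
  have hkerΨ : ∀ z : Localization.AtPrime M, Ψ z = 0 ↔
      z ∈ Ideal.map (algebraMap (MvPolynomial (Fin 2) k) (Localization.AtPrime M))
        (Ideal.span {f, g}) := by
    intro z
    constructor
    · intro hz
      obtain ⟨o, ho, hoz⟩ := (hΨ0 z).mp hz
      obtain ⟨z₁, rfl⟩ := hsurjO o ho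
      have h0 : ev' (z - algebraMap _ (Localization.AtPrime M) g * z₁) = 0 := by
        rw [map_sub, map_mul, hev', hoz, sub_self]
      have h1 := hker' _ h0
      have h2 : Ideal.map (algebraMap (MvPolynomial (Fin 2) k) (Localization.AtPrime M))
          (Ideal.span {f}) ≤
          Ideal.map (algebraMap (MvPolynomial (Fin 2) k) (Localization.AtPrime M))
            (Ideal.span {f, g}) :=
        Ideal.map_mono (Ideal.span_mono (by intro a ha; rw [Set.mem_singleton_iff] at ha; simp [ha]))
      have h3 : algebraMap _ (Localization.AtPrime M) g * z₁ ∈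
          Ideal.map (algebraMap (MvPolynomial (Fin 2) k) (Localization.AtPrime M))
            (Ideal.span {f, g}) :=
        Ideal.mul_mem_right _ _ (Ideal.mem_map_of_mem _ (Ideal.subset_span (by simp)))
      have : z = (z - algebraMap _ (Localization.AtPrime M) g * z₁) +
          algebraMap _ (Localization.AtPrime M) g * z₁ := by ring
      rw [this]
      exact Ideal.add_mem _ (h2 h1) h3
    · intro hz
      let I : Ideal (Localization.AtPrime M) :=
        { carrier := {z | ∃ o ∈ Oa (Algebra.adjoin k (Set.range ![x, y])) hfinS.toFinset,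
            aeval ![x, y] g * o = ev' z}
          add_mem' := by
            rintro a b ⟨o, ho, h⟩ ⟨o', ho', h'⟩
            exact ⟨o + o', Submodule.add_mem _ ho ho', by rw [mul_add, h, h', map_add]⟩
          zero_mem' := ⟨0, Submodule.zero_mem _, by rw [mul_zero, map_zero]⟩
          smul_mem' := by
            rintro a b ⟨o, ho, h⟩
            refine ⟨ev' a * o, mul_mem_Oa (hev'O a) ho, ?_⟩
            rw [smul_eq_mul, map_mul, ← h]; ring }
      have hJI : Ideal.map (algebraMap (MvPolynomial (Fin 2) k) (Localization.AtPrime M))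
          (Ideal.span {f, g}) ≤ I := by
        rw [Ideal.map_le_iff_le_comap, Ideal.span_le]
        intro a ha
        rcases ha with ha | ha
        · rw [ha]
          exact ⟨0, Submodule.zero_mem _, by
            show aeval ![x, y] g * 0 = ev' (algebraMap _ _ f)
            rw [mul_zero, hev', hfxy]⟩
        · rw [Set.mem_singleton_iff] at ha
          rw [ha]
          exact ⟨1, mem_Oa_of_mem (one_mem _), by
            show aeval ![x, y] g * 1 = ev' (algebraMap _ _ g)
            rw [mul_one, hev']⟩
      exact (hΨ0 z).mpr (hJI hz)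
  -- dimensions
  have hkerEq : LinearMap.ker Ψ =
      (Ideal.map (algebraMap (MvPolynomial (Fin 2) k) (Localization.AtPrime M))
        (Ideal.span {f, g})).restrictScalars k := by
    ext z
    rw [LinearMap.mem_ker, Submodule.restrictScalars_mem]
    exact hkerΨ z
  have e1 := Ψ.quotKerEquivOfSurjective hΨsurj
  have e2 := Submodule.Quotient.restrictScalarsEquiv k
    (Ideal.map (algebraMap (MvPolynomial (Fin 2) k) (Localization.AtPrime M))
      (Ideal.span {f, g}))
  have hfr : Module.finrank k (Localization.AtPrime M ⧸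
      Ideal.map (algebraMap (MvPolynomial (Fin 2) k) (Localization.AtPrime M))
        (Ideal.span {f, g})) =
      relfinrank (Oa (Algebra.adjoin k (Set.range ![x, y])) hfinS.toFinset)
        ((Oa (Algebra.adjoin k (Set.range ![x, y])) hfinS.toFinset).map
          (mulEquiv (k := k) (aeval ![x, y] g) hg0 : K →ₗ[k] K)) := by
    rw [← e2.finrank_eq, ← hkerEq, e1.finrank_eq]
    rfl
  obtain ⟨-, hrank⟩ := relfinrank_Oa ![x, y] c hfinS.toFinset hS hK hbir (aeval ![x, y] g) hg0
    (mem_Oa_of_mem (hevR g))
  rw [hfr, hrank]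
  push_cast
  apply Finset.sum_congr rfl
  intro Q hQ
  have h1 : Q.1 (aeval ![x, y] g) ≤ 1 :=
    val_le_one_of_mem_adjoin ![x, y] c hfinS.toFinset hS hQ (hevR g)
  have h2 := ord_nonneg_of_le_one Q hg0 h1
  rw [deg_eq_one_of_algClosed hK Q, Int.toNat_of_nonneg h2]
  simp

end Groth.Agent.Lib.LeadIM
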