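import Mathlib

/-! Abstract theory of objects of cofinite type (part A): `A / nA` lies in the small class. -/

set_option maxHeartbeats 400000
set_option autoImplicit false

universe v u

namespace Groth.Agent.Lib.Lead.IndCof

open CategoryTheory CategoryTheory.Limits

variable {𝒜 : Type u} [Category.{v} 𝒜] [Abelian 𝒜]

/-- `Le f g`: the image of `f` is contained in the image of `g`. -/
def Le {X₁ X₂ X : 𝒜} (f : X₁ ⟶ X) (g : X₂ ⟶ X) : Prop := f ≫ cokernel.π g = 0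

section Le
variable {X₁ X₂ X₃ X : 𝒜}

lemma Le.comp_eq_zero {f : X₁ ⟶ X} {g : X₂ ⟶ X} (h : Le f g) {Z : 𝒜} (k : X ⟶ Z)
    (hk : g ≫ k = 0) : f ≫ k = 0 :=
  calc f ≫ k = f ≫ cokernel.π g ≫ cokernel.desc g k hk := by rw [cokernel.π_desc]
    _ = (f ≫ cokernel.π g) ≫ cokernel.desc g k hk := (Category.assoc _ _ _).symm
    _ = 0 := by rw [show f ≫ cokernel.π g = 0 from h, zero_comp]

lemma le_of_fac {f : X₁ ⟶ X} {g : X₂ ⟶ X} (l : X₁ ⟶ X₂) (h : l ≫ g = f) : Le f g := by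
  show f ≫ cokernel.π g = 0
  rw [← h, Category.assoc, cokernel.condition, comp_zero]

lemma Le.refl (f : X₁ ⟶ X) : Le f f := le_of_fac (𝟙 _) (Category.id_comp _)

lemma Le.trans {f : X₁ ⟶ X} {g : X₂ ⟶ X} {h : X₃ ⟶ X} (h₁ : Le f g) (h₂ : Le g h) : Le f h :=
  h₁.comp_eq_zero _ h₂

lemma Le.comp_left {f : X₁ ⟶ X} {g : X₂ ⟶ X} (h : Le f g) {W : 𝒜} (a : W ⟶ X₁) :
    Le (a ≫ f) g := by
  show (a ≫ f) ≫ cokernel.π g = 0
  rw [Category.assoc, show f ≫ cokernel.π g = 0 from h, comp_zero]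

lemma Le.comp_right {f : X₁ ⟶ X} {g : X₂ ⟶ X} (h : Le f g) {Z : 𝒜} (k : X ⟶ Z) :
    Le (f ≫ k) (g ≫ k) := by
  show (f ≫ k) ≫ cokernel.π (g ≫ k) = 0
  rw [Category.assoc]
  exact h.comp_eq_zero _ (by rw [← Category.assoc, cokernel.condition])

lemma le_of_forall {f : X₁ ⟶ X} {g : X₂ ⟶ X}
    (h : ∀ ⦃Z : 𝒜⦄ (k : X ⟶ Z), g ≫ k = 0 → f ≫ k = 0) : Le f g :=
  h _ (cokernel.condition g)

lemma Le.exists_refinement {f : X₁ ⟶ X} {g : X₂ ⟶ X} (h : Le f g) {W : 𝒜} (x : W ⟶ X₁) :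
    ∃ (W' : 𝒜) (π : W' ⟶ W) (_ : Epi π) (y : W' ⟶ X₂), π ≫ x ≫ f = y ≫ g := by
  have hex : (ShortComplex.mk g (cokernel.π g) (cokernel.condition g)).Exact :=
    ShortComplex.exact_cokernel g
  exact hex.exact_up_to_refinements (x ≫ f) (by
    show (x ≫ f) ≫ cokernel.π g = 0
    rw [Category.assoc, show f ≫ cokernel.π g = 0 from h, comp_zero])

lemma le_of_refinement {f : X₁ ⟶ X} {g : X₂ ⟶ X} {W : 𝒜} (π : W ⟶ X₁) [Epi π] (y : W ⟶ X₂)
    (h : π ≫ f = y ≫ g) : Le f g := by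
  show f ≫ cokernel.π g = 0
  rw [← cancel_epi π, ← Category.assoc, h, Category.assoc, cokernel.condition, comp_zero,
    comp_zero]

end Le

section tor

lemma comp_nsmul_id {W A : 𝒜} (x : W ⟶ A) (n : ℕ) : x ≫ (n • 𝟙 A) = n • x := by
  rw [Preadditive.comp_nsmul, Category.comp_id]

lemma nsmul_id_comp' {X Y : 𝒜} (n : ℕ) (f : X ⟶ Y) : (n • 𝟙 X) ≫ f = n • f := by
  rw [Preadditive.nsmul_comp, Category.id_comp]

lemma nsmul_id_comm {X Y : 𝒜} (n : ℕ) (f : X ⟶ Y) : (n • 𝟙 X) ≫ f = f ≫ (n • 𝟙 Y) := by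
  rw [nsmul_id_comp', comp_nsmul_id]

lemma nsmul_id_mul' (A : 𝒜) (m n : ℕ) : (m * n) • 𝟙 A = (m • 𝟙 A) ≫ (n • 𝟙 A) := by
  rw [nsmul_id_comp', mul_nsmul']

lemma nsmul_comp_cokernel_π {W A : 𝒜} (n : ℕ) (w : W ⟶ A) :
    (n • w) ≫ cokernel.π (n • 𝟙 A) = 0 := by
  rw [← comp_nsmul_id w n, Category.assoc, cokernel.condition, comp_zero]

variable (A : 𝒜)

/-- The `n`-torsion subobject. -/
noncomputable abbrev tor (n : ℕ) : 𝒜 := kernel (n • 𝟙 A)

/-- The inclusion of the `n`-torsion. -/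
noncomputable abbrev torι (n : ℕ) : tor A n ⟶ A := kernel.ι (n • 𝟙 A)

lemma torι_nsmul (n : ℕ) : n • torι A n = 0 := by
  rw [← comp_nsmul_id]; exact kernel.condition _

/-- Lift of an `n`-torsion generalized element. -/
noncomputable def torLift {W : 𝒜} (n : ℕ) (x : W ⟶ A) (h : n • x = 0) : W ⟶ tor A n :=
  kernel.lift (n • 𝟙 A) x (by rw [comp_nsmul_id]; exact h)

@[reassoc (attr := simp)]
lemma torLift_ι {W : 𝒜} (n : ℕ) (x : W ⟶ A) (h : n • x = 0) :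
    torLift A n x h ≫ torι A n = x :=
  kernel.lift_ι _ _ _

lemma torι_le_of_dvd {a b : ℕ} (h : a ∣ b) : Le (torι A a) (torι A b) := by
  obtain ⟨c, rfl⟩ := h
  refine le_of_fac (torLift A (a * c) (torι A a) ?_) (torLift_ι _ _ _ _)
  rw [mul_nsmul, torι_nsmul, smul_zero]

/-- Multiplication by `m` from the `m * n`-torsion to the `n`-torsion. -/
noncomputable def delta (n m : ℕ) : tor A (m * n) ⟶ tor A n :=
  torLift A n (m • torι A (m * n)) (by rw [← mul_nsmul]; exact torι_nsmul A (m * n))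

@[reassoc (attr := simp)]
lemma delta_ι (n m : ℕ) : delta A n m ≫ torι A n = m • torι A (m * n) :=
  torLift_ι _ _ _ _

lemma le_delta_of_dvd (n m m' : ℕ) (h : m ∣ m') : Le (delta A n m') (delta A n m) := by
  obtain ⟨c, rfl⟩ := h
  refine le_of_fac (torLift A (m * n) (c • torι A (m * c * n)) ?_) ?_
  · rw [← mul_nsmul]
    have e : c * (m * n) = m * c * n := by ring
    rw [e]; exact torι_nsmul A _
  · rw [← cancel_mono (torι A n), Category.assoc, delta_ι, delta_ι, Preadditive.comp_nsmul,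
      torLift_ι, ← mul_nsmul, mul_comm c m]

end tor

/-- The axioms on the class `P` of "small" objects. -/
structure Ctx (P : 𝒜 → Prop) : Prop where
  of_iso : ∀ {X Y : 𝒜}, (X ≅ Y) → P X → P Y
  ker : ∀ {X Y : 𝒜} (f : X ⟶ Y), P X → P Y → P (kernel f)
  coker : ∀ {X Y : 𝒜} (f : X ⟶ Y), P X → P Y → P (cokernel f)
  tors : ∀ {T : 𝒜}, P T → ∃ n : ℕ, 0 < n ∧ n • 𝟙 T = 0
  sep : ∀ {X Y : 𝒜} (f : X ⟶ Y), (∀ (T : 𝒜), P T → ∀ t : T ⟶ X, t ≫ f = 0) → f = 0
  dcc : ∀ {X : 𝒜}, P X → ∀ (Y : ℕ → 𝒜) (φ : ∀ m, Y m ⟶ X), (∀ m, P (Y m)) →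
    (∀ m, Le (φ (m + 1)) (φ m)) → ∃ M : ℕ, ∀ m, M ≤ m → Le (φ M) (φ m)

variable {P : 𝒜 → Prop}

/-- `A` is of cofinite type: all its torsion subobjects are small. -/
def Cof (P : 𝒜 → Prop) (A : 𝒜) : Prop := ∀ n : ℕ, 0 < n → P (tor A n)

section Main

variable (hP : Ctx P) (A : 𝒜) (hA : Cof P A)
include hP hA

lemma exists_stable (n : ℕ) (hn : 0 < n) :
    ∃ m₀ : ℕ, 0 < m₀ ∧ ∀ m : ℕ, 0 < m → Le (delta A n m₀) (delta A n m) := by
  obtain ⟨M, hM⟩ := hP.dcc (hA n hn) (fun k => tor A (k.factorial * n))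
    (fun k => delta A n k.factorial)
    (fun k => hA _ (Nat.mul_pos (Nat.factorial_pos k) hn))
    (fun k => le_delta_of_dvd A n _ _ (Nat.factorial_dvd_factorial (Nat.le_succ k)))
  refine ⟨M.factorial, Nat.factorial_pos M, fun m hm => ?_⟩
  have h1 : Le (delta A n M.factorial) (delta A n (max M m).factorial) :=
    hM _ (le_max_left _ _)
  exact h1.trans (le_delta_of_dvd A n _ _ (Nat.dvd_factorial hm (le_max_right _ _)))

omit hP hA in
lemma reduce (n : ℕ) (hn : 0 < n) (m₀ : ℕ)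
    (hm₀ : ∀ m : ℕ, 0 < m → Le (delta A n m₀) (delta A n m)) (m : ℕ) (hm : 0 < m)
    (hdvd : m₀ ∣ m) :
    Le (torι A (m * n) ≫ cokernel.π (n • 𝟙 A)) (torι A m ≫ cokernel.π (n • 𝟙 A)) := by
  have h1 : Le (delta A n m) (delta A n (m * n)) :=
    (le_delta_of_dvd A n m₀ m hdvd).trans (hm₀ (m * n) (Nat.mul_pos hm hn))
  obtain ⟨W', π, hπ, b, hb⟩ := h1.exists_refinement (𝟙 _)
  obtain ⟨b', hb'⟩ : ∃ b' : W' ⟶ A, m • (π ≫ torι A (m * n)) = (m * n) • b' := by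
    refine ⟨b ≫ torι A (m * n * n), ?_⟩
    have e1 : (π ≫ 𝟙 _ ≫ delta A n m) ≫ torι A n = m • (π ≫ torι A (m * n)) := by
      rw [Category.id_comp, Category.assoc, delta_ι, Preadditive.comp_nsmul]
    have e2 : (b ≫ delta A n (m * n)) ≫ torι A n = (m * n) • (b ≫ torι A (m * n * n)) := by
      rw [Category.assoc, delta_ι, Preadditive.comp_nsmul]
    rw [← e1, ← e2, hb]
  have hy : m • (π ≫ torι A (m * n) - n • b') = 0 := by
    rw [smul_sub, hb', ← mul_nsmul, mul_comm n m, sub_self]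
  have := hπ
  refine le_of_refinement π (torLift A m _ hy) ?_
  rw [torLift_ι_assoc, Preadditive.sub_comp, nsmul_comp_cokernel_π, sub_zero, Category.assoc]

omit hP hA in
lemma claim (n : ℕ) (hn : 0 < n) (m₀ : ℕ) (hm₀pos : 0 < m₀)
    (hm₀ : ∀ m : ℕ, 0 < m → Le (delta A n m₀) (delta A n m)) (k : ℕ) (hk : 0 < k) :
    Le (torι A (m₀ * k) ≫ cokernel.π (n • 𝟙 A)) (torι A m₀ ≫ cokernel.π (n • 𝟙 A)) := by
  induction k using Nat.strong_induction_on with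
  | _ k ih =>
    by_cases hc : Nat.Coprime k n
    · obtain ⟨a, b, hab⟩ := Nat.isCoprime_iff_coprime.2 hc
      have hx0 : (m₀ * k) • torι A (m₀ * k) = 0 := torι_nsmul A _
      have hx : torι A (m₀ * k) = (a * (k : ℤ)) • torι A (m₀ * k)
          + n • (b • torι A (m₀ * k)) := by
        rw [← natCast_zsmul (b • torι A (m₀ * k)) n, ← mul_smul, ← add_smul,
          mul_comm (n : ℤ) b, hab, one_smul]
      have hy : m₀ • ((a * (k : ℤ)) • torι A (m₀ * k)) = 0 := by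
        rw [← natCast_zsmul, ← mul_smul]
        have e : (m₀ : ℤ) * (a * k) = a * ((m₀ * k : ℕ) : ℤ) := by push_cast; ring
        rw [e, mul_smul, natCast_zsmul, hx0, smul_zero]
      refine le_of_fac (torLift A m₀ _ hy) ?_
      rw [torLift_ι_assoc]
      conv_rhs => rw [hx]
      rw [Preadditive.add_comp, nsmul_comp_cokernel_π, add_zero]
    · have hg : 1 < Nat.gcd k n := by
        have := Nat.gcd_pos_of_pos_left n hk
        unfold Nat.Coprime at hc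
        omega
      obtain ⟨d, hd1, hd2, hd⟩ : ∃ d, d ∣ k ∧ d ∣ n ∧ 1 < d :=
        ⟨_, Nat.gcd_dvd_left k n, Nat.gcd_dvd_right k n, hg⟩
      obtain ⟨k', rfl⟩ := hd1
      obtain ⟨n', hn'⟩ := hd2
      have hk' : 0 < k' := Nat.pos_of_mul_pos_left hk
      have hlt : k' < d * k' := by nlinarith
      have hdvd : m₀ * (d * k') ∣ m₀ * k' * n := ⟨n', by rw [hn']; ring⟩
      have s1 : Le (torι A (m₀ * (d * k')) ≫ cokernel.π (n • 𝟙 A))
          (torι A (m₀ * k' * n) ≫ cokernel.π (n • 𝟙 A)) :=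
        (torι_le_of_dvd A hdvd).comp_right _
      have s2 := reduce A n hn m₀ hm₀ (m₀ * k') (Nat.mul_pos hm₀pos hk') (Dvd.intro _ rfl)
      exact (s1.trans s2).trans (ih k' hlt hk')

lemma epi_torι_comp (n : ℕ) (hn : 0 < n) (m₀ : ℕ) (hm₀pos : 0 < m₀)
    (hm₀ : ∀ m : ℕ, 0 < m → Le (delta A n m₀) (delta A n m)) :
    Epi (torι A m₀ ≫ cokernel.π (n • 𝟙 A)) := by
  apply Abelian.epi_of_cokernel_π_eq_zero
  have hcq : cokernel.π (n • 𝟙 A) ≫ cokernel.π (torι A m₀ ≫ cokernel.π (n • 𝟙 A)) = 0 := by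
    apply hP.sep
    intro T hT t
    obtain ⟨k, hk, hkT⟩ := hP.tors hT
    have ht : (m₀ * k) • t = 0 := by
      rw [mul_nsmul, ← nsmul_id_comp', hkT, zero_comp]
    have e : t = torLift A (m₀ * k) t ht ≫ torι A (m₀ * k) := (torLift_ι _ _ _ _).symm
    have h0 := (claim A n hn m₀ hm₀pos hm₀ k hk).comp_eq_zero _
      (cokernel.condition (torι A m₀ ≫ cokernel.π (n • 𝟙 A)))
    rw [e, Category.assoc]
    rw [Category.assoc] at h0
    rw [h0, comp_zero]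
  exact (cancel_epi (cokernel.π (n • 𝟙 A))).1 (by rw [hcq, comp_zero])

omit hP hA in
lemma exact_delta (n m₀ : ℕ) :
    (ShortComplex.mk (delta A m₀ n) (torι A m₀ ≫ cokernel.π (n • 𝟙 A))
      (by rw [delta_ι_assoc, nsmul_comp_cokernel_π])).Exact := by
  rw [ShortComplex.exact_iff_exact_up_to_refinements]
  intro W x hx
  have hex : (ShortComplex.mk (n • 𝟙 A) (cokernel.π (n • 𝟙 A)) (cokernel.condition _)).Exact :=
    ShortComplex.exact_cokernel _
  obtain ⟨W', π, hπ, b, hb⟩ := hex.exact_up_to_refinements (x ≫ torι A m₀)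
    (by rw [Category.assoc]; exact hx)
  dsimp at hb
  rw [comp_nsmul_id] at hb
  have hb0 : (n * m₀) • b = 0 := by
    rw [mul_nsmul, ← hb, ← Preadditive.comp_nsmul, ← Preadditive.comp_nsmul, torι_nsmul,
      comp_zero, comp_zero]
  refine ⟨W', π, hπ, torLift A (n * m₀) b hb0, ?_⟩
  dsimp
  rw [← cancel_mono (torι A m₀), Category.assoc, Category.assoc, delta_ι,
    Preadditive.comp_nsmul, torLift_ι, hb]

/-- **Lemma 1**: if `A` is of cofinite type then `A / nA` is small. -/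
theorem coker_nsmul (n : ℕ) (hn : 0 < n) : P (cokernel (n • 𝟙 A)) := by
  obtain ⟨m₀, hm₀pos, hm₀⟩ := exists_stable hP A hA n hn
  have := epi_torι_comp hP A hA n hn m₀ hm₀pos hm₀
  have hex := exact_delta A n m₀
  have hcok := hex.gIsCokernel
  have e : cokernel (delta A m₀ n) ≅ cokernel (n • 𝟙 A) :=
    (colimit.isColimit (parallelPair (delta A m₀ n) 0)).coconePointUniqueUpToIso hcok
  exact hP.of_iso e (hP.coker _ (hA _ (Nat.mul_pos hn hm₀pos)) (hA _ hm₀pos))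

end Main

end Groth.Agent.Lib.Lead.IndCof
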