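import Mathlib
import Groth.Agent.Lib.LeadIndCofA

/-! Abstract theory of objects of cofinite type (part B): kernels, cokernels, `p`-primary case. -/

set_option maxHeartbeats 400000
set_option autoImplicit false

universe v u

namespace Groth.Agent.Lib.Lead.IndCof

open CategoryTheory CategoryTheory.Limits

variable {𝒜 : Type u} [Category.{v} 𝒜] [Abelian 𝒜] {P : 𝒜 → Prop}

lemma eq_zero_of_coprime_nsmul {W A : 𝒜} (x : W ⟶ A) (a b : ℕ) (h : Nat.Coprime a b)
    (ha : a • x = 0) (hb : b • x = 0) : x = 0 := by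
  obtain ⟨s, t, hst⟩ := Nat.isCoprime_iff_coprime.2 h
  calc x = (1 : ℤ) • x := (one_smul _ _).symm
    _ = (s * (a : ℤ) + t * (b : ℤ)) • x := by rw [hst]
    _ = s • ((a : ℤ) • x) + t • ((b : ℤ) • x) := by rw [add_smul, mul_smul, mul_smul]
    _ = 0 := by rw [natCast_zsmul, natCast_zsmul, ha, hb, smul_zero, smul_zero, add_zero]

section torMap

/-- The map induced on `n`-torsion. -/
noncomputable def torMap {A B : 𝒜} (f : A ⟶ B) (n : ℕ) : tor A n ⟶ tor B n :=
  torLift B n (torι A n ≫ f) (by rw [← Preadditive.nsmul_comp, torι_nsmul, zero_comp])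

@[reassoc (attr := simp)]
lemma torMap_ι {A B : 𝒜} (f : A ⟶ B) (n : ℕ) : torMap f n ≫ torι B n = torι A n ≫ f :=
  torLift_ι _ _ _ _

instance {A B : 𝒜} (f : A ⟶ B) [Mono f] (n : ℕ) : Mono (torMap f n) := by
  have : Mono (torMap f n ≫ torι B n) := by rw [torMap_ι]; infer_instance
  exact mono_of_mono (torMap f n) (torι B n)

lemma cof_of_iso {A A' : 𝒜} (hP : Ctx P) (e : A ≅ A') (hA : Cof P A) : Cof P A' := fun n hn =>
  hP.of_iso (kernel.mapIso (n • 𝟙 A) (n • 𝟙 A') e e (nsmul_id_comm n e.hom)) (hA n hn)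

end torMap

section pPrimary

variable (hP : Ctx P) (p : ℕ) (hp : p.Prime) (hPp : ∀ T : 𝒜, P T → ∃ j : ℕ, (p ^ j) • 𝟙 T = 0)
include hP hp hPp

lemma mono_nsmul_of_coprime (A : 𝒜) (u : ℕ) (hu : Nat.Coprime u p) : Mono (u • 𝟙 A) := by
  apply Abelian.mono_of_kernel_ι_eq_zero
  apply hP.sep
  intro T hT t
  obtain ⟨j, hj⟩ := hPp T hT
  apply eq_zero_of_coprime_nsmul _ u (p ^ j) (Nat.Coprime.pow_right j hu)
  · rw [← comp_nsmul_id, Category.assoc, kernel.condition, comp_zero]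
  · rw [← nsmul_id_comp', hj, zero_comp]

lemma cof_of_cof_p (A : 𝒜) (hA : ∀ n : ℕ, P (tor A (p ^ n))) : Cof P A := by
  intro k hk
  obtain ⟨e, u, hu, rfl⟩ := Nat.exists_eq_pow_mul_and_not_dvd hk.ne' p hp.ne_one
  have hcop : Nat.Coprime u p := ((Nat.Prime.coprime_iff_not_dvd hp).2 hu).symm
  haveI := mono_nsmul_of_coprime hP p hp hPp A u hcop
  exact hP.of_iso ((kernelCompMono ((p ^ e) • 𝟙 A) (u • 𝟙 A)).symm ≪≫
    (kernelIsoOfEq (nsmul_id_mul' A (p ^ e) u)).symm) (hA e)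

end pPrimary

section kernel

variable (hP : Ctx P) {A B : 𝒜} (hA : Cof P A) (hB : Cof P B) (f : A ⟶ B)

/-- `(ker f)[n] ≅ ker (A[n] ⟶ B[n])`. -/
noncomputable def torKernelIso (n : ℕ) : tor (kernel f) n ≅ kernel (torMap f n) where
  hom := kernel.lift (torMap f n)
    (torLift A n (torι (kernel f) n ≫ kernel.ι f)
      (by rw [← Preadditive.nsmul_comp, torι_nsmul, zero_comp]))
    (by
      rw [← cancel_mono (torι B n), Category.assoc, torMap_ι, torLift_ι_assoc, Category.assoc,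
        kernel.condition, comp_zero, zero_comp])
  inv := torLift (kernel f) n
    (kernel.lift f (kernel.ι (torMap f n) ≫ torι A n)
      (by rw [Category.assoc, ← torMap_ι, kernel.condition_assoc, zero_comp]))
    (by
      rw [← cancel_mono (kernel.ι f), Preadditive.nsmul_comp, kernel.lift_ι, zero_comp,
        ← Preadditive.comp_nsmul, torι_nsmul, comp_zero])
  hom_inv_id := by
    rw [← cancel_mono (torι (kernel f) n), ← cancel_mono (kernel.ι f)]
    simp only [Category.assoc, torLift_ι, torLift_ι_assoc, kernel.lift_ι, kernel.lift_ι_assoc,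
      Category.id_comp]
  inv_hom_id := by
    rw [← cancel_mono (kernel.ι (torMap f n)), ← cancel_mono (torι A n)]
    simp only [Category.assoc, torLift_ι, torLift_ι_assoc, kernel.lift_ι, kernel.lift_ι_assoc,
      Category.id_comp]

include hP hA hB in
theorem cof_kernel : Cof P (kernel f) := fun n hn =>
  hP.of_iso (torKernelIso f n).symm (hP.ker _ (hA n hn) (hB n hn))

end kernel

section cokernelMono

variable {I B : 𝒜} (i : I ⟶ B) [Mono i]

/-- The natural map `B[m]/I[m] ⟶ B/I`. -/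
noncomputable def tauMap (m : ℕ) : cokernel (torMap i m) ⟶ cokernel i :=
  cokernel.desc (torMap i m) (torι B m ≫ cokernel.π i)
    (by rw [torMap_ι_assoc, cokernel.condition, comp_zero])

@[reassoc (attr := simp)]
lemma π_tauMap (m : ℕ) :
    cokernel.π (torMap i m) ≫ tauMap i m = torι B m ≫ cokernel.π i :=
  cokernel.π_desc _ _ _

instance mono_tauMap (m : ℕ) : Mono (tauMap i m) := by
  apply Preadditive.mono_of_cancel_zero
  intro W g hg
  obtain ⟨W', π, hπ, x, hx⟩ := surjective_up_to_refinements_of_epi (cokernel.π (torMap i m)) g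
  have h1 : (x ≫ torι B m) ≫ cokernel.π i = 0 := by
    rw [Category.assoc, ← π_tauMap, ← Category.assoc, ← hx, Category.assoc, hg, comp_zero]
  have hy : Abelian.monoLift i (x ≫ torι B m) h1 ≫ i = x ≫ torι B m :=
    Abelian.monoLift_comp _ _ _
  have hym : m • Abelian.monoLift i (x ≫ torι B m) h1 = 0 := by
    rw [← cancel_mono i, Preadditive.nsmul_comp, hy, zero_comp, ← Preadditive.comp_nsmul,
      torι_nsmul, comp_zero]
  have hx' : x = torLift I m _ hym ≫ torMap i m := by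
    rw [← cancel_mono (torι B m), Category.assoc, torMap_ι, torLift_ι_assoc, hy]
  have h2 : π ≫ g = 0 := by
    rw [hx, hx', Category.assoc, cokernel.condition, comp_zero]
  have := hπ
  exact (cancel_epi π).1 (by rw [h2, comp_zero])

variable (hP : Ctx P) (hI : Cof P I) (hB : Cof P B)
include hP hI

lemma epi_torMap_tauMap (n : ℕ) (hn : 0 < n) (m₀ : ℕ)
    (hepi : Epi (torι I m₀ ≫ cokernel.π (n • 𝟙 I))) :
    Epi (torMap (tauMap i (n * m₀)) n) := by
  rw [epi_iff_surjective_up_to_refinements]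
  intro W z
  -- Step 1: lift to `B`
  obtain ⟨W₁, π₁, hπ₁, b, hb⟩ :=
    surjective_up_to_refinements_of_epi (cokernel.π i) (z ≫ torι (cokernel i) n)
  have h2 : (n • b) ≫ cokernel.π i = 0 := by
    rw [Preadditive.nsmul_comp, ← hb, ← Preadditive.comp_nsmul, ← Preadditive.comp_nsmul,
      torι_nsmul, comp_zero, comp_zero]
  obtain ⟨y, hy⟩ : ∃ y : W₁ ⟶ I, y ≫ i = n • b :=
    ⟨Abelian.monoLift i (n • b) h2, Abelian.monoLift_comp _ _ _⟩
  -- Step 2: `y = y₀ + n y₁` with `y₀` killed by `m₀`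
  obtain ⟨W₂, π₂, hπ₂, y₀, hy₀⟩ :=
    surjective_up_to_refinements_of_epi (torι I m₀ ≫ cokernel.π (n • 𝟙 I))
      (y ≫ cokernel.π (n • 𝟙 I))
  have hex : (ShortComplex.mk (n • 𝟙 I) (cokernel.π (n • 𝟙 I)) (cokernel.condition _)).Exact :=
    ShortComplex.exact_cokernel _
  obtain ⟨W₃, π₃, hπ₃, y₁, hy₁⟩ := hex.exact_up_to_refinements (π₂ ≫ y - y₀ ≫ torι I m₀)
    (by
      show (π₂ ≫ y - y₀ ≫ torι I m₀) ≫ cokernel.π (n • 𝟙 I) = 0
      rw [Preadditive.sub_comp, Category.assoc, Category.assoc, hy₀, sub_self])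
  replace hy₁ : π₃ ≫ (π₂ ≫ y - y₀ ≫ torι I m₀) = n • y₁ := by
    rw [hy₁]; exact comp_nsmul_id _ _
  -- the corrected lift
  obtain ⟨y₀', hy₀', hy₀'m⟩ : ∃ y₀' : W₃ ⟶ I, y₀' = π₃ ≫ y₀ ≫ torι I m₀ ∧ m₀ • y₀' = 0 := by
    refine ⟨_, rfl, ?_⟩
    rw [← Preadditive.comp_nsmul, ← Preadditive.comp_nsmul, torι_nsmul, comp_zero, comp_zero]
  obtain ⟨x', hx'def⟩ : ∃ x' : W₃ ⟶ B, x' = π₃ ≫ π₂ ≫ b - y₁ ≫ i := ⟨_, rfl⟩
  have hnx' : n • x' = y₀' ≫ i := by
    have e1 : n • (π₃ ≫ π₂ ≫ b) = (π₃ ≫ π₂ ≫ y) ≫ i := by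
      rw [Category.assoc, Category.assoc, hy, Preadditive.comp_nsmul, Preadditive.comp_nsmul]
    have e2 : n • (y₁ ≫ i) = (π₃ ≫ π₂ ≫ y - y₀') ≫ i := by
      rw [← Preadditive.nsmul_comp, ← hy₁, hy₀', Preadditive.comp_sub]
    rw [hx'def, smul_sub, e1, e2, ← Preadditive.sub_comp, sub_sub_cancel]
  have hmx' : (n * m₀) • x' = 0 := by
    rw [mul_nsmul, hnx', ← Preadditive.nsmul_comp, hy₀'m, zero_comp]
  have hmy₀' : (n * m₀) • y₀' = 0 := by
    rw [mul_nsmul', hy₀'m, smul_zero]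
  have hx'' : n • torLift B (n * m₀) x' hmx' = torLift I (n * m₀) y₀' hmy₀' ≫ torMap i (n * m₀) := by
    rw [← cancel_mono (torι B (n * m₀)), Preadditive.nsmul_comp, torLift_ι, Category.assoc,
      torMap_ι, torLift_ι_assoc, hnx']
  have hnw : n • (torLift B (n * m₀) x' hmx' ≫ cokernel.π (torMap i (n * m₀))) = 0 := by
    rw [← Preadditive.nsmul_comp, hx'', Category.assoc, cokernel.condition, comp_zero]
  have := hπ₁
  have := hπ₂
  have := hπ₃
  refine ⟨W₃, π₃ ≫ π₂ ≫ π₁, inferInstance, torLift _ n _ hnw, ?_⟩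
  rw [← cancel_mono (torι (cokernel i) n)]
  simp only [Category.assoc, torMap_ι, torLift_ι_assoc, π_tauMap, torLift_ι_assoc]
  rw [hb, hx'def, Preadditive.sub_comp, Category.assoc, Category.assoc, Category.assoc,
    cokernel.condition, comp_zero, sub_zero]

include hB in
/-- **(M)**: the cokernel of a monomorphism between objects of cofinite type is of cofinite
type. -/
theorem cof_cokernel_mono : Cof P (cokernel i) := by
  intro n hn
  obtain ⟨m₀, hm₀pos, hm₀⟩ := exists_stable hP I hI n hn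
  have hepi := epi_torι_comp hP I hI n hn m₀ hm₀pos hm₀
  have hm : 0 < n * m₀ := Nat.mul_pos hn hm₀pos
  have hQm : P (cokernel (torMap i (n * m₀))) := hP.coker _ (hI _ hm) (hB _ hm)
  haveI := epi_torMap_tauMap i hP hI n hn m₀ hepi
  haveI : IsIso (torMap (tauMap i (n * m₀)) n) := isIso_of_mono_of_epi _
  exact hP.of_iso (asIso (torMap (tauMap i (n * m₀)) n)) (hP.ker _ hQm hQm)

end cokernelMono

section cokernel

variable (hP : Ctx P) {A B : 𝒜} (hA : Cof P A) (hB : Cof P B) (f : A ⟶ B)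
include hP hA hB

theorem cof_cokernel : Cof P (cokernel f) := by
  have hK : Cof P (kernel f) := cof_kernel hP hA hB f
  have hI : Cof P (Abelian.coimage f) := cof_cokernel_mono (kernel.ι f) hP hK hA
  have hQ : Cof P (cokernel (Abelian.factorThruCoimage f)) :=
    cof_cokernel_mono (Abelian.factorThruCoimage f) hP hI hB
  exact cof_of_iso hP ((cokernelEpiComp (Abelian.coimage.π f) (Abelian.factorThruCoimage f)).symm ≪≫
    cokernelIsoOfEq (Abelian.coimage.fac f)) hQ

end cokernel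

end Groth.Agent.Lib.Lead.IndCof
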