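import Mathlib
import Groth.Agent.Lib.LeadIndCofA

/-! Instantiation of the abstract cofinite-type context for `Ind C`. -/

set_option maxHeartbeats 400000
set_option autoImplicit false

universe v

namespace Groth.Agent.Lib.Lead.IndCof

open CategoryTheory CategoryTheory.Limits

section general

universe v₁ u₁ v₂ u₂
variable {𝒜 : Type u₁} [Category.{v₁} 𝒜] [Abelian 𝒜]

/-- `Le` in terms of image subobjects. -/
lemma le_iff_imageSubobject_le {X₁ X₂ X : 𝒜} (f : X₁ ⟶ X) (g : X₂ ⟶ X) :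
    Le f g ↔ imageSubobject f ≤ imageSubobject g := by
  constructor
  · intro h
    have hgi : g ≫ cokernel.π (imageSubobject g).arrow = 0 := by
      have e : g ≫ cokernel.π (imageSubobject g).arrow = factorThruImageSubobject g ≫
          (imageSubobject g).arrow ≫ cokernel.π (imageSubobject g).arrow := by
        rw [← Category.assoc, imageSubobject_arrow_comp]
      rw [e, cokernel.condition, comp_zero]
    have h0 : f ≫ cokernel.π (imageSubobject g).arrow = 0 := h.comp_eq_zero _ hgi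
    exact imageSubobject_le _ (Abelian.monoLift (imageSubobject g).arrow f h0)
      (Abelian.monoLift_comp _ _ _)
  · intro h
    show f ≫ cokernel.π g = 0
    have h1 : (imageSubobject g).arrow ≫ cokernel.π g = 0 := by
      rw [← cancel_epi (factorThruImageSubobject g), ← Category.assoc,
        imageSubobject_arrow_comp, cokernel.condition, comp_zero]
    rw [← imageSubobject_arrow_comp f, ← Subobject.ofLE_arrow h, Category.assoc, Category.assoc,
      h1, comp_zero, comp_zero]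

lemma dcc_of_isArtinianObject {X : 𝒜} [IsArtinianObject X] (Y : ℕ → 𝒜) (φ : ∀ m, Y m ⟶ X)
    (h : ∀ m, Le (φ (m + 1)) (φ m)) : ∃ M : ℕ, ∀ m, M ≤ m → Le (φ M) (φ m) := by
  let f : ℕ →o (Subobject X)ᵒᵈ :=
    ⟨fun m => OrderDual.toDual (imageSubobject (φ m)),
      monotone_nat_of_le_succ (fun m => (le_iff_imageSubobject_le _ _).1 (h m))⟩
  obtain ⟨M, hM⟩ := antitone_chain_condition_of_isArtinianObject f
  refine ⟨M, fun m hm => (le_iff_imageSubobject_le _ _).2 ?_⟩
  have := hM m hm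
  exact le_of_eq (congrArg OrderDual.ofDual this)

lemma le_iso_iff {X₁ X₂ X X₁' X₂' X' : 𝒜} (f : X₁ ⟶ X) (g : X₂ ⟶ X) (a : X₁' ≅ X₁)
    (a' : X₂' ≅ X₂) (b : X ≅ X') :
    Le (a.hom ≫ f ≫ b.hom) (a'.hom ≫ g ≫ b.hom) ↔ Le f g := by
  constructor
  · intro h
    apply le_of_forall
    intro Z k hk
    have h1 := h.comp_eq_zero (b.inv ≫ k) (by simp [hk])
    have e : (a.hom ≫ f ≫ b.hom) ≫ b.inv ≫ k = a.hom ≫ f ≫ k := by simp
    rw [e] at h1
    exact (cancel_epi a.hom).1 (by rw [h1, comp_zero])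
  · intro h
    apply le_of_forall
    intro Z k hk
    have hk' : g ≫ (b.hom ≫ k) = 0 := by
      have e : (a'.hom ≫ g ≫ b.hom) ≫ k = a'.hom ≫ g ≫ b.hom ≫ k := by simp
      rw [e] at hk
      exact (cancel_epi a'.hom).1 (by rw [hk, comp_zero])
    have h1 := h.comp_eq_zero _ hk'
    rw [Category.assoc, Category.assoc, h1, comp_zero]

variable {ℬ : Type u₂} [Category.{v₂} ℬ] [Abelian ℬ] (F : 𝒜 ⥤ ℬ) [F.Additive]
  [PreservesFiniteColimits F] [F.Faithful]

lemma le_map_iff {X₁ X₂ X : 𝒜} (f : X₁ ⟶ X) (g : X₂ ⟶ X) :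
    Le (F.map f) (F.map g) ↔ Le f g := by
  have hcomp : F.map f ≫ cokernel.π (F.map g) ≫ cokernelComparison g F
      = F.map (f ≫ cokernel.π g) := by
    rw [π_comp_cokernelComparison, F.map_comp]
  constructor
  · intro h
    have h' : F.map f ≫ cokernel.π (F.map g) = 0 := h
    have h2 : F.map (f ≫ cokernel.π g) = 0 := by
      rw [← hcomp, ← Category.assoc, h', zero_comp]
    exact (F.map_eq_zero_iff).1 h2
  · intro h
    have h' : f ≫ cokernel.π g = 0 := h
    show F.map f ≫ cokernel.π (F.map g) = 0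
    rw [← cancel_mono (cokernelComparison g F), Category.assoc, hcomp, h', F.map_zero,
      zero_comp]

end general

section Ind

variable {C : Type v} [SmallCategory C] [Abelian C]

instance yoneda_additive : (Ind.yoneda (C := C)).Additive :=
  Functor.additive_of_preserves_binary_products _

/-- The class of ind-objects isomorphic to objects of `C`. -/
abbrev PInd (C : Type v) [SmallCategory C] [Abelian C] : Ind C → Prop :=
  fun X => (Ind.yoneda (C := C)).essImage X

theorem ctx_ind (hart : ∀ X : C, IsArtinianObject X)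
    (htor : ∀ X : C, ∃ n : ℕ, 0 < n ∧ n • 𝟙 X = 0) : Ctx (PInd C) where
  of_iso := fun e h => Functor.essImage.ofIso e h
  ker := by
    intro X Y f hX hY
    let eX := hX.getIso
    let eY := hY.getIso
    let f' : hX.witness ⟶ hY.witness := (Ind.yoneda (C := C)).preimage (eX.hom ≫ f ≫ eY.inv)
    have hf' : (Ind.yoneda (C := C)).map f' = eX.hom ≫ f ≫ eY.inv := Functor.map_preimage _ _
    refine ⟨kernel f', ⟨PreservesKernel.iso _ f' ≪≫ kernel.mapIso _ _ eX eY ?_⟩⟩
    rw [hf']; simp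
  coker := by
    intro X Y f hX hY
    let eX := hX.getIso
    let eY := hY.getIso
    let f' : hX.witness ⟶ hY.witness := (Ind.yoneda (C := C)).preimage (eX.hom ≫ f ≫ eY.inv)
    have hf' : (Ind.yoneda (C := C)).map f' = eX.hom ≫ f ≫ eY.inv := Functor.map_preimage _ _
    refine ⟨cokernel f', ⟨PreservesCokernel.iso _ f' ≪≫ cokernel.mapIso _ _ eX eY ?_⟩⟩
    rw [hf']; simp
  tors := by
    intro T hT
    obtain ⟨n, hn, h0⟩ := htor hT.witness
    refine ⟨n, hn, ?_⟩
    have h1 : n • 𝟙 ((Ind.yoneda (C := C)).obj hT.witness) = 0 := by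
      rw [← (Ind.yoneda (C := C)).map_id, ← Functor.map_nsmul, h0, Functor.map_zero]
    exact (cancel_mono hT.getIso.inv).1 (by rw [nsmul_id_comm, h1, comp_zero, zero_comp])
  sep := by
    intro X Y f h
    apply Ind.isSeparating_range_yoneda
    intro G hG t
    obtain ⟨c⟩ := hG
    rw [comp_zero]
    exact h _ ⟨c, ⟨Iso.refl _⟩⟩ t
  dcc := by
    intro X hX Y φ hY hφ
    have := hart hX.witness
    let e := hX.getIso
    let ψ : ∀ m, (hY m).witness ⟶ hX.witness := fun m =>
      (Ind.yoneda (C := C)).preimage ((hY m).getIso.hom ≫ φ m ≫ e.symm.hom)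
    have hψ : ∀ m, (Ind.yoneda (C := C)).map (ψ m) = (hY m).getIso.hom ≫ φ m ≫ e.symm.hom :=
      fun m => Functor.map_preimage _ _
    have key : ∀ m m', Le (ψ m') (ψ m) ↔ Le (φ m') (φ m) := by
      intro m m'
      rw [← le_map_iff (Ind.yoneda (C := C)), hψ, hψ]
      exact le_iso_iff _ _ _ _ _
    obtain ⟨M, hM⟩ := dcc_of_isArtinianObject (fun m => (hY m).witness) ψ
      (fun m => (key m (m + 1)).2 (hφ m))
    exact ⟨M, fun m hm => (key m M).1 (hM m hm)⟩

lemma pInd_ptors (p : ℕ) (htor : ∀ X : C, ∃ n : ℕ, (p ^ n) • 𝟙 X = 0) :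
    ∀ T : Ind C, PInd C T → ∃ j : ℕ, (p ^ j) • 𝟙 T = 0 := by
  intro T hT
  obtain ⟨j, h0⟩ := htor hT.witness
  refine ⟨j, ?_⟩
  have h1 : (p ^ j) • 𝟙 ((Ind.yoneda (C := C)).obj hT.witness) = 0 := by
    rw [← (Ind.yoneda (C := C)).map_id, ← Functor.map_nsmul, h0, Functor.map_zero]
  exact (cancel_mono hT.getIso.inv).1 (by rw [nsmul_id_comm, h1, comp_zero, zero_comp])

lemma htor_of_p (p : ℕ) (hp : p.Prime) (htor : ∀ X : C, ∃ n : ℕ, (p ^ n) • 𝟙 X = 0) :
    ∀ X : C, ∃ n : ℕ, 0 < n ∧ n • 𝟙 X = 0 := fun X =>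
  let ⟨n, h⟩ := htor X
  ⟨p ^ n, pow_pos hp.pos n, h⟩

end Ind

end Groth.Agent.Lib.Lead.IndCof
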