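import Mathlib

/-! Mittag-Leffler property of the multiplication system of an object of an abelian category. -/

set_option autoImplicit false
universe v u

namespace Groth.Agent.LeadMLDiv

open CategoryTheory CategoryTheory.Limits

variable {V : Type u} [Category.{v} V] [Abelian V]

lemma imageSubobject_epi_comp {X' X Y : V} (g : X' ⟶ X) [Epi g] (f : X ⟶ Y) :
    imageSubobject (g ≫ f) = imageSubobject f := by
  apply le_antisymm (imageSubobject_comp_le g f)
  haveI : IsIso (Subobject.ofLE _ _ (imageSubobject_comp_le g f)) := isIso_of_mono_of_epi _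
  apply Subobject.le_of_comm (inv (Subobject.ofLE _ _ (imageSubobject_comp_le g f)))
  rw [IsIso.inv_comp_eq, Subobject.ofLE_arrow]

lemma nsmul_id_comp {X Y : V} (k : ℕ) (f : X ⟶ Y) : (k • 𝟙 X) ≫ f = f ≫ (k • 𝟙 Y) := by
  rw [Preadditive.nsmul_comp, Preadditive.comp_nsmul, Category.id_comp, Category.comp_id]

lemma nsmul_id_mul (B : V) (a b : ℕ) : (a * b) • 𝟙 B = (a • 𝟙 B) ≫ (b • 𝟙 B) := by
  rw [Preadditive.nsmul_comp, Category.id_comp, mul_nsmul']

lemma le_image_of_divisible {B : V} (S : Subobject B) (k : ℕ) (hk : Epi (k • 𝟙 (S : V))) :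
    S ≤ imageSubobject (k • 𝟙 B) := by
  have h1 : imageSubobject ((k • 𝟙 (S : V)) ≫ S.arrow) = S := by
    rw [imageSubobject_epi_comp, imageSubobject_mono, Subobject.mk_arrow]
  calc S = imageSubobject ((k • 𝟙 (S : V)) ≫ S.arrow) := h1.symm
    _ = imageSubobject (S.arrow ≫ (k • 𝟙 B)) := by rw [nsmul_id_comp]
    _ ≤ imageSubobject (k • 𝟙 B) := imageSubobject_comp_le _ _

lemma image_le_of_coker_killed {B : V} (S : Subobject B) (M : ℕ)
    (hM : M • 𝟙 (cokernel S.arrow) = 0) : imageSubobject (M • 𝟙 B) ≤ S := by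
  have h0 : (M • 𝟙 B) ≫ cokernel.π S.arrow = 0 := by
    rw [nsmul_id_comp, hM, comp_zero]
  exact imageSubobject_le _ (Abelian.monoLift S.arrow _ h0) (Abelian.monoLift_comp _ _ _)

lemma epi_of_image_eq {B : V} (S : Subobject B) (g : (S : V) ⟶ (S : V))
    (h : imageSubobject (g ≫ S.arrow) = S) : Epi g := by
  have key : ∀ (T : Subobject B) (hT : T = S), IsIso (Subobject.ofLE T S hT.le) := by
    intro T hT
    subst hT
    rw [Subobject.ofLE_refl]
    infer_instance
  haveI := key _ h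
  have e : g = factorThruImageSubobject (g ≫ S.arrow) ≫ Subobject.ofLE _ S h.le := by
    rw [← cancel_mono S.arrow, Category.assoc, Subobject.ofLE_arrow, imageSubobject_arrow_comp]
  rw [e]
  infer_instance

theorem main (B : V) :
    ((∀ n : ℕ, 0 < n → ∃ m : ℕ, 0 < m ∧ n ∣ m ∧ ∀ m' : ℕ, 0 < m' → m ∣ m' →
        imageSubobject ((m' / n) • 𝟙 B) = imageSubobject ((m / n) • 𝟙 B)) ↔
      ∃ B' : Subobject B, (∀ k : ℕ, 0 < k → Epi (k • 𝟙 (B' : V))) ∧
        ∃ M : ℕ, 0 < M ∧ M • 𝟙 (cokernel B'.arrow) = 0) ∧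
    (∀ B' : Subobject B, (∀ k : ℕ, 0 < k → Epi (k • 𝟙 (B' : V))) →
      (∃ M : ℕ, 0 < M ∧ M • 𝟙 (cokernel B'.arrow) = 0) →
      ∀ D : Subobject B, (∀ k : ℕ, 0 < k → Epi (k • 𝟙 (D : V))) → D ≤ B') := by
  refine ⟨⟨?_, ?_⟩, ?_⟩
  · intro h
    obtain ⟨m, hm0, -, hm1⟩ := h 1 Nat.one_pos
    have hm : ∀ m' : ℕ, 0 < m' → m ∣ m' →
        imageSubobject (m' • 𝟙 B) = imageSubobject (m • 𝟙 B) := by
      intro m' h1 h2
      have h3 := hm1 m' h1 h2
      rw [Nat.div_one, Nat.div_one] at h3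
      exact h3
    refine ⟨imageSubobject (m • 𝟙 B), ?_, m, hm0, ?_⟩
    · intro k hk
      apply epi_of_image_eq
      have h1 : (m * k) • 𝟙 B = factorThruImageSubobject (m • 𝟙 B) ≫
          ((k • 𝟙 _) ≫ (imageSubobject (m • 𝟙 B)).arrow) := by
        rw [nsmul_id_comp, ← Category.assoc, imageSubobject_arrow_comp, nsmul_id_mul]
      have h2 := hm (m * k) (Nat.mul_pos hm0 hk) (Dvd.intro k rfl)
      rw [h1, imageSubobject_epi_comp] at h2
      exact h2
    · have h3 : (m • 𝟙 B) ≫ cokernel.π (imageSubobject (m • 𝟙 B)).arrow = 0 := by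
        have := imageSubobject_arrow_comp (m • 𝟙 B)
        calc (m • 𝟙 B) ≫ cokernel.π (imageSubobject (m • 𝟙 B)).arrow
            = (factorThruImageSubobject (m • 𝟙 B) ≫ (imageSubobject (m • 𝟙 B)).arrow) ≫
                cokernel.π (imageSubobject (m • 𝟙 B)).arrow := by rw [this]
          _ = 0 := by rw [Category.assoc, cokernel.condition, comp_zero]
      rw [← cancel_epi (cokernel.π (imageSubobject (m • 𝟙 B)).arrow), comp_zero, ← nsmul_id_comp]
      exact h3
  · rintro ⟨B', hdiv, M, hM0, hM⟩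
    intro n hn
    refine ⟨n * M, Nat.mul_pos hn hM0, Dvd.intro M rfl, ?_⟩
    intro m' hm'0 hdvd
    obtain ⟨t, rfl⟩ := hdvd
    have ht : 0 < t := by
      rcases Nat.eq_zero_or_pos t with h | h
      · subst h; simp at hm'0
      · exact h
    have e1 : n * M * t / n = M * t := by
      rw [Nat.mul_assoc]; exact Nat.mul_div_cancel_left _ hn
    have e2 : n * M / n = M := Nat.mul_div_cancel_left _ hn
    rw [e1, e2]
    have hB : ∀ K : ℕ, 0 < K → M ∣ K → imageSubobject (K • 𝟙 B) = B' := by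
      intro K hK hMK
      apply le_antisymm
      · obtain ⟨s, rfl⟩ := hMK
        rw [show M * s = s * M from mul_comm _ _, nsmul_id_mul]
        exact (imageSubobject_comp_le _ _).trans (image_le_of_coker_killed B' M hM)
      · exact le_image_of_divisible B' K (hdiv K hK)
    rw [hB (M * t) (Nat.mul_pos hM0 ht) (Dvd.intro t rfl), hB M hM0 dvd_rfl]
  · rintro B' hdiv ⟨M, hM0, hM⟩ D hD
    exact (le_image_of_divisible D M (hD M hM0)).trans (image_le_of_coker_killed B' M hM)

end Groth.Agent.LeadMLDiv
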