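import Mathlib
import Groth.Agent.Lib.LeadIndCofA
import Groth.Agent.Lib.LeadIndCofB
import Groth.Agent.Lib.LeadIndCofInd
import Groth.Agent.Lib.LeadMLDiv

/-! Abstract theory of objects of cofinite type (part C): stabilization of `p^n A`, divisible part. -/

set_option maxHeartbeats 400000
set_option autoImplicit false

universe v u

namespace Groth.Agent.Lib.Lead.IndCof

open CategoryTheory CategoryTheory.Limits

variable {𝒜 : Type u} [Category.{v} 𝒜] [Abelian 𝒜] {P : 𝒜 → Prop}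

lemma stab_claim (p : ℕ) (A : 𝒜) (N : ℕ)
    (hN : ∀ j, N ≤ j → Le (delta A p (p ^ j)) (delta A p (p ^ (j + 1)))) :
    ∀ (j : ℕ) {W : 𝒜} (a : W ⟶ A), (p ^ j) • a = 0 →
      ((p ^ N) • a) ≫ cokernel.π ((p ^ (N + 1)) • 𝟙 A) = 0 := by
  intro j
  induction j with
  | zero =>
    intro W a ha
    rw [pow_zero, one_smul] at ha
    rw [ha, smul_zero, zero_comp]
  | succ j ih =>
    intro W a ha
    by_cases hj : N ≤ j
    · have ha' : (p ^ j * p) • a = 0 := by rw [← pow_succ]; exact ha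
      obtain ⟨W', π, hπ, b, hb⟩ := (hN j hj).exists_refinement (torLift A (p ^ j * p) a ha')
      obtain ⟨b', hb'⟩ : ∃ b' : W' ⟶ A, (p ^ j) • (π ≫ a) = (p ^ (j + 1)) • b' := by
        refine ⟨b ≫ torι A (p ^ (j + 1) * p), ?_⟩
        have e1 : (π ≫ torLift A (p ^ j * p) a ha' ≫ delta A p (p ^ j)) ≫ torι A p
            = (p ^ j) • (π ≫ a) := by
          rw [Category.assoc, Category.assoc, delta_ι, Preadditive.comp_nsmul, torLift_ι,
            Preadditive.comp_nsmul]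
        have e2 : (b ≫ delta A p (p ^ (j + 1))) ≫ torι A p
            = (p ^ (j + 1)) • (b ≫ torι A (p ^ (j + 1) * p)) := by
          rw [Category.assoc, delta_ι, Preadditive.comp_nsmul]
        rw [← e1, ← e2, hb]
      have hc : (p ^ j) • (π ≫ a - p • b') = 0 := by
        rw [smul_sub, hb', ← mul_nsmul, ← pow_succ', sub_self]
      have h1 := ih (π ≫ a - p • b') hc
      have h2 : ((p ^ N) • (p • b')) ≫ cokernel.π ((p ^ (N + 1)) • 𝟙 A) = 0 := by
        rw [← mul_nsmul, ← pow_succ']; exact nsmul_comp_cokernel_π _ _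
      have h3 : π ≫ ((p ^ N) • a) ≫ cokernel.π ((p ^ (N + 1)) • 𝟙 A) = 0 := by
        have e : π ≫ ((p ^ N) • a) = (p ^ N) • (π ≫ a - p • b') + (p ^ N) • (p • b') := by
          rw [← smul_add, sub_add_cancel, Preadditive.comp_nsmul]
        rw [← Category.assoc, e, Preadditive.add_comp, h1, h2, add_zero]
      have := hπ
      exact (cancel_epi π).1 (by rw [h3, comp_zero])
    · have hle : j + 1 ≤ N := by omega
      have h0 : (p ^ N) • a = 0 := by
        obtain ⟨c, rfl⟩ := Nat.exists_eq_add_of_le hle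
        rw [pow_add, mul_nsmul, ha, smul_zero]
      rw [h0, zero_comp]

section stab

variable (hP : Ctx P) (p : ℕ) (hp : p.Prime)
  (hPp : ∀ T : 𝒜, P T → ∃ j : ℕ, (p ^ j) • 𝟙 T = 0) (A : 𝒜) (hA : Cof P A)
include hP hp hPp hA

theorem exists_stab : ∃ N : ℕ, ∀ n, N ≤ n → Le ((p ^ N) • 𝟙 A) ((p ^ n) • 𝟙 A) := by
  have hppos : 0 < p := hp.pos
  obtain ⟨N, hN⟩ := hP.dcc (hA p hppos) (fun k => tor A (p ^ k * p))
    (fun k => delta A p (p ^ k))
    (fun k => hA _ (Nat.mul_pos (pow_pos hppos k) hppos))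
    (fun k => le_delta_of_dvd A p _ _ (pow_dvd_pow p (Nat.le_succ k)))
  have hN' : ∀ j, N ≤ j → Le (delta A p (p ^ j)) (delta A p (p ^ (j + 1))) := fun j hj =>
    (le_delta_of_dvd A p _ _ (pow_dvd_pow p hj)).trans (hN (j + 1) (by omega))
  have h0 : Le ((p ^ N) • 𝟙 A) ((p ^ (N + 1)) • 𝟙 A) := by
    show ((p ^ N) • 𝟙 A) ≫ cokernel.π ((p ^ (N + 1)) • 𝟙 A) = 0
    apply hP.sep
    intro T hT t
    obtain ⟨j, hj⟩ := hPp T hT
    have ht : (p ^ j) • t = 0 := by rw [← nsmul_id_comp', hj, zero_comp]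
    have h := stab_claim p A N hN' j t ht
    rw [← Category.assoc, comp_nsmul_id]; exact h
  refine ⟨N, fun n hn => ?_⟩
  induction n, hn using Nat.le_induction with
  | base => exact Le.refl _
  | succ n hn ih =>
    have h1 : Le (((p ^ N) • 𝟙 A) ≫ (p • 𝟙 A)) (((p ^ n) • 𝟙 A) ≫ (p • 𝟙 A)) := ih.comp_right _
    rw [← nsmul_id_mul', ← nsmul_id_mul', ← pow_succ, ← pow_succ] at h1
    exact h0.trans h1

theorem exists_stab_image : ∃ N : ℕ, ∀ n : ℕ, N ≤ n →
    imageSubobject ((p ^ n) • 𝟙 A) = imageSubobject ((p ^ N) • 𝟙 A) := by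
  obtain ⟨N, hN⟩ := exists_stab hP p hp hPp A hA
  refine ⟨N, fun n hn => le_antisymm ?_ ?_⟩
  · apply (le_iff_imageSubobject_le _ _).1
    obtain ⟨c, rfl⟩ := Nat.exists_eq_add_of_le hn
    exact le_of_fac ((p ^ c) • 𝟙 A) (by rw [← nsmul_id_mul', ← pow_add, Nat.add_comm c N])
  · exact (le_iff_imageSubobject_le _ _).1 (hN n hn)

omit hP hp hPp hA in
lemma epi_pow_nsmul (X : 𝒜) (h : Epi (p • 𝟙 X)) (k : ℕ) : Epi ((p ^ k) • 𝟙 X) := by
  induction k with
  | zero => rw [pow_zero, one_smul]; infer_instance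
  | succ k ih =>
    rw [pow_succ, nsmul_id_mul']
    exact epi_comp _ _

theorem divisible_part (N : ℕ)
    (hN : ∀ n : ℕ, N ≤ n →
      imageSubobject ((p ^ n) • 𝟙 A) = imageSubobject ((p ^ N) • 𝟙 A)) :
    Cof P ((imageSubobject ((p ^ N) • 𝟙 A) : Subobject A) : 𝒜) ∧
      Epi (p • 𝟙 ((imageSubobject ((p ^ N) • 𝟙 A) : Subobject A) : 𝒜)) ∧
      (∀ D : Subobject A, Epi (p • 𝟙 (D : 𝒜)) → D ≤ imageSubobject ((p ^ N) • 𝟙 A)) ∧
      (∀ (Q : 𝒜) (q : A ⟶ Q), Epi q → P Q →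
        (imageSubobject ((p ^ N) • 𝟙 A)).arrow ≫ q = 0) := by
  refine ⟨?_, ?_, ?_, ?_⟩
  · have hK : Cof P (kernel ((p ^ N) • 𝟙 A)) := cof_kernel hP hA hA _
    have hI : Cof P (Abelian.coimage ((p ^ N) • 𝟙 A)) := cof_cokernel hP hK hA (kernel.ι _)
    exact cof_of_iso hP (Abelian.coimageIsoImage' _ ≪≫ (imageSubobjectIso _).symm) hI
  · apply Groth.Agent.LeadMLDiv.epi_of_image_eq (imageSubobject ((p ^ N) • 𝟙 A))
    calc imageSubobject ((p • 𝟙 _) ≫ (imageSubobject ((p ^ N) • 𝟙 A)).arrow)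
        = imageSubobject ((imageSubobject ((p ^ N) • 𝟙 A)).arrow ≫ (p • 𝟙 A)) := by
          rw [nsmul_id_comm]
      _ = imageSubobject (factorThruImageSubobject ((p ^ N) • 𝟙 A) ≫
            (imageSubobject ((p ^ N) • 𝟙 A)).arrow ≫ (p • 𝟙 A)) :=
          (Groth.Agent.LeadMLDiv.imageSubobject_epi_comp _ _).symm
      _ = imageSubobject ((p ^ (N + 1)) • 𝟙 A) := by
          rw [← Category.assoc, imageSubobject_arrow_comp, ← nsmul_id_mul', ← pow_succ]
      _ = imageSubobject ((p ^ N) • 𝟙 A) := hN (N + 1) (Nat.le_succ N)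
  · intro D hD
    exact Groth.Agent.LeadMLDiv.le_image_of_divisible D (p ^ N) (epi_pow_nsmul p _ hD N)
  · intro Q q _ hQ
    obtain ⟨j, hj⟩ := hPp Q hQ
    have h1 : (imageSubobject ((p ^ (N + j)) • 𝟙 A)).arrow ≫ q = 0 := by
      rw [← cancel_epi (factorThruImageSubobject ((p ^ (N + j)) • 𝟙 A)), ← Category.assoc,
        imageSubobject_arrow_comp, comp_zero, nsmul_id_comm, pow_add, nsmul_id_mul', hj,
        comp_zero, comp_zero]
    have hle : imageSubobject ((p ^ N) • 𝟙 A) ≤ imageSubobject ((p ^ (N + j)) • 𝟙 A) :=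
      (hN (N + j) (Nat.le_add_right N j)).ge
    rw [← Subobject.ofLE_arrow hle, Category.assoc, h1, comp_zero]

end stab

end Groth.Agent.Lib.Lead.IndCof
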