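import Mathlib
import Groth.Agent.Lib.LeadIndCofC

/-! Abstract theory of objects of cofinite type (part D): the Artinian property. -/

set_option maxHeartbeats 400000
set_option autoImplicit false

universe v u

namespace Groth.Agent.Lib.Lead.IndCof

open CategoryTheory CategoryTheory.Limits

variable {𝒜 : Type u} [Category.{v} 𝒜] [Abelian 𝒜] {P : 𝒜 → Prop}

section LeMore
variable {X₁ X₂ X Y : 𝒜}

lemma le_of_comp_mono {f : X₁ ⟶ X} {g : X₂ ⟶ X} (s : X ⟶ Y) [Mono s]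
    (h : Le (f ≫ s) (g ≫ s)) : Le f g := by
  obtain ⟨W', π, hπ, y, hy⟩ := h.exists_refinement (𝟙 _)
  have := hπ
  refine le_of_refinement π y ?_
  rw [← cancel_mono s, Category.assoc, Category.assoc, ← hy, Category.id_comp]

lemma le_of_epi_comp_left {f : X₁ ⟶ X} {g : X₂ ⟶ X} {W : 𝒜} (e : W ⟶ X₁) [Epi e]
    (h : Le (e ≫ f) g) : Le f g := by
  show f ≫ cokernel.π g = 0
  have h' : (e ≫ f) ≫ cokernel.π g = 0 := h
  exact (cancel_epi e).1 (by rw [← Category.assoc, h', comp_zero])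

lemma le_epi_comp_right {f : X₁ ⟶ X} {g : X₂ ⟶ X} {W : 𝒜} (e : W ⟶ X₂) [Epi e]
    (h : Le f g) : Le f (e ≫ g) := by
  apply le_of_forall
  intro Z k hk
  refine h.comp_eq_zero k ((cancel_epi e).1 ?_)
  rw [← Category.assoc, hk, comp_zero]

lemma torMap_comp {A B C : 𝒜} (f : A ⟶ B) (g : B ⟶ C) (n : ℕ) :
    torMap (f ≫ g) n = torMap f n ≫ torMap g n := by
  rw [← cancel_mono (torι C n), Category.assoc, torMap_ι, torMap_ι, torMap_ι_assoc]

lemma imageSubobject_arrow' {A : 𝒜} (S : Subobject A) : imageSubobject S.arrow = S := by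
  rw [imageSubobject_mono, Subobject.mk_arrow]

lemma subobject_le_of_le {A : 𝒜} (E F : Subobject A) (h : Le E.arrow F.arrow) : E ≤ F := by
  have := (le_iff_imageSubobject_le _ _).1 h
  rwa [imageSubobject_arrow', imageSubobject_arrow'] at this

lemma cof_imageSubobject (hP : Ctx P) {X Y : 𝒜} (hX : Cof P X) (hY : Cof P Y) (f : X ⟶ Y) :
    Cof P ((imageSubobject f : Subobject Y) : 𝒜) := by
  have hK : Cof P (kernel f) := cof_kernel hP hX hY _
  have hI : Cof P (Abelian.coimage f) := cof_cokernel hP hK hX (kernel.ι _)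
  exact cof_of_iso hP (Abelian.coimageIsoImage' _ ≪≫ (imageSubobjectIso _).symm) hI

lemma epi_nsmul_image {X A : 𝒜} (d : X ⟶ A) (p : ℕ) (h : Le d (d ≫ (p • 𝟙 A))) :
    Epi (p • 𝟙 ((imageSubobject d : Subobject A) : 𝒜)) := by
  apply Groth.Agent.LeadMLDiv.epi_of_image_eq (imageSubobject d)
  calc imageSubobject ((p • 𝟙 _) ≫ (imageSubobject d).arrow)
      = imageSubobject ((imageSubobject d).arrow ≫ (p • 𝟙 A)) := by rw [nsmul_id_comm]
    _ = imageSubobject (factorThruImageSubobject d ≫ (imageSubobject d).arrow ≫ (p • 𝟙 A)) :=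
        (Groth.Agent.LeadMLDiv.imageSubobject_epi_comp _ _).symm
    _ = imageSubobject (d ≫ (p • 𝟙 A)) := by rw [← Category.assoc, imageSubobject_arrow_comp]
    _ = imageSubobject d := le_antisymm
        ((le_iff_imageSubobject_le _ _).1 (le_of_fac (p • 𝟙 X) (nsmul_id_comm p d)))
        ((le_iff_imageSubobject_le _ _).1 h)

end LeMore

/-- A divisible subobject `F ≤ E` with the same `p`-torsion as `E` equals `E`
(`E` being `p`-primary torsion). -/
lemma le_of_tor_le (hP : Ctx P) (p : ℕ)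
    (hPp : ∀ T : 𝒜, P T → ∃ j : ℕ, (p ^ j) • 𝟙 T = 0) {A : 𝒜} (E F : Subobject A)
    (hFE : F ≤ E) (hdiv : Epi (p • 𝟙 (F : 𝒜)))
    (htor : Le (torMap E.arrow p) (torMap F.arrow p)) : E ≤ F := by
  have claim : ∀ (j : ℕ) {W : 𝒜} (x : W ⟶ (E : 𝒜)), (p ^ j) • x = 0 →
      x ≫ E.arrow ≫ cokernel.π F.arrow = 0 := by
    intro j
    induction j with
    | zero =>
      intro W x hx
      rw [pow_zero, one_smul] at hx
      rw [hx, zero_comp]
    | succ j ih =>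
      intro W x hx
      have hy : p • ((p ^ j) • x) = 0 := by rw [← mul_nsmul, ← pow_succ]; exact hx
      obtain ⟨W', π, hπ, z, hz⟩ := htor.exists_refinement (torLift (E : 𝒜) p _ hy)
      have hz' : (p ^ j) • (π ≫ x ≫ E.arrow) = (z ≫ torι (F : 𝒜) p) ≫ F.arrow := by
        have e1 : (π ≫ torLift (E : 𝒜) p _ hy ≫ torMap E.arrow p) ≫ torι A p
            = (p ^ j) • (π ≫ x ≫ E.arrow) := by
          rw [Category.assoc, Category.assoc, torMap_ι, torLift_ι_assoc,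
            Preadditive.nsmul_comp, Preadditive.comp_nsmul]
        have e2 : (z ≫ torMap F.arrow p) ≫ torι A p = (z ≫ torι (F : 𝒜) p) ≫ F.arrow := by
          rw [Category.assoc, torMap_ι, Category.assoc]
        rw [← e1, ← e2, hz]
      haveI := epi_pow_nsmul p _ hdiv j
      obtain ⟨W'', π', hπ', z₂, hz₂⟩ :=
        surjective_up_to_refinements_of_epi ((p ^ j) • 𝟙 (F : 𝒜)) (z ≫ torι (F : 𝒜) p)
      rw [comp_nsmul_id] at hz₂
      have hx₁ : (p ^ j) • (π' ≫ π ≫ x - z₂ ≫ Subobject.ofLE F E hFE) = 0 := by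
        rw [← cancel_mono E.arrow, zero_comp, Preadditive.nsmul_comp, Preadditive.sub_comp,
          smul_sub]
        have a1 : (p ^ j) • ((π' ≫ π ≫ x) ≫ E.arrow) = π' ≫ (z ≫ torι (F : 𝒜) p) ≫ F.arrow := by
          rw [← hz', Preadditive.comp_nsmul, Category.assoc, Category.assoc]
        have a2 : (p ^ j) • ((z₂ ≫ Subobject.ofLE F E hFE) ≫ E.arrow)
            = π' ≫ (z ≫ torι (F : 𝒜) p) ≫ F.arrow := by
          rw [Category.assoc, Subobject.ofLE_arrow, ← Preadditive.nsmul_comp, ← hz₂,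
            Category.assoc]
        rw [a1, a2, sub_self]
      have h1 := ih _ hx₁
      have h2 : (z₂ ≫ Subobject.ofLE F E hFE) ≫ E.arrow ≫ cokernel.π F.arrow = 0 := by
        rw [Category.assoc, Subobject.ofLE_arrow_assoc, cokernel.condition, comp_zero]
      have h3 : (π' ≫ π) ≫ x ≫ E.arrow ≫ cokernel.π F.arrow = 0 := by
        have e : (π' ≫ π) ≫ x = (π' ≫ π ≫ x - z₂ ≫ Subobject.ofLE F E hFE)
            + z₂ ≫ Subobject.ofLE F E hFE := by
          rw [sub_add_cancel, Category.assoc]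
        rw [← Category.assoc, e, Preadditive.add_comp, h1, h2, add_zero]
      have := hπ
      have := hπ'
      exact (cancel_epi (π' ≫ π)).1 (by rw [h3, comp_zero])
  apply subobject_le_of_le
  show E.arrow ≫ cokernel.π F.arrow = 0
  apply hP.sep
  intro T hT t
  obtain ⟨j, hj⟩ := hPp T hT
  exact claim j t (by rw [← nsmul_id_comp', hj, zero_comp])

section chain

variable (p : ℕ) {A : 𝒜} (S : ℕ → Subobject A) (Nn : ℕ → ℕ)

/-- The map `S m ⟶ A` with image `p^(N m) (S m)`. -/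
noncomputable def dm (m : ℕ) : ((S m : Subobject A) : 𝒜) ⟶ A :=
  ((p ^ Nn m) • 𝟙 _) ≫ (S m).arrow

variable (hS : Antitone S)
  (hNn : ∀ m n, Nn m ≤ n → Le ((p ^ Nn m) • 𝟙 ((S m : Subobject A) : 𝒜))
    ((p ^ n) • 𝟙 ((S m : Subobject A) : 𝒜)))

include hNn in
lemma dm_div (m : ℕ) : Le (dm p S Nn m) (dm p S Nn m ≫ (p • 𝟙 A)) := by
  have e : dm p S Nn m ≫ (p • 𝟙 A) = ((p ^ (Nn m + 1)) • 𝟙 _) ≫ (S m).arrow := by
    unfold dm
    rw [Category.assoc, ← nsmul_id_comm p (S m).arrow, ← Category.assoc, ← nsmul_id_mul',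
      ← pow_succ]
  rw [e]
  exact (hNn m _ (Nat.le_succ _)).comp_right _

include hNn in
lemma dm_div_pow (m k : ℕ) : Le (dm p S Nn m) (dm p S Nn m ≫ ((p ^ k) • 𝟙 A)) := by
  induction k with
  | zero => rw [pow_zero, one_smul, Category.comp_id]; exact Le.refl _
  | succ k ih =>
    have h1 : Le (dm p S Nn m ≫ ((p ^ k) • 𝟙 A))
        ((dm p S Nn m ≫ (p • 𝟙 A)) ≫ ((p ^ k) • 𝟙 A)) := (dm_div p S Nn hNn m).comp_right _
    rw [Category.assoc, ← nsmul_id_mul', ← pow_succ'] at h1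
    exact ih.trans h1

include hS hNn in
lemma dm_le (m m' : ℕ) (h : m ≤ m') : Le (dm p S Nn m') (dm p S Nn m) := by
  have h1 : Le (S m').arrow (S m).arrow :=
    le_of_fac (Subobject.ofLE _ _ (hS h)) (Subobject.ofLE_arrow _)
  have h2 : Le ((S m').arrow ≫ ((p ^ Nn m) • 𝟙 A)) ((S m).arrow ≫ ((p ^ Nn m) • 𝟙 A)) :=
    h1.comp_right _
  have h3 : Le (dm p S Nn m' ≫ ((p ^ Nn m) • 𝟙 A)) ((S m).arrow ≫ ((p ^ Nn m) • 𝟙 A)) := by
    unfold dm
    rw [Category.assoc]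
    exact h2.comp_left _
  have e : (S m).arrow ≫ ((p ^ Nn m) • 𝟙 A) = dm p S Nn m := by
    unfold dm
    rw [nsmul_id_comm]
  rw [e] at h3
  exact (dm_div_pow p S Nn hNn m' (Nn m)).trans h3

end chain

section main

variable (hP : Ctx P) (p : ℕ) (hp : p.Prime)
  (hPp : ∀ T : 𝒜, P T → ∃ j : ℕ, (p ^ j) • 𝟙 T = 0) {A : 𝒜} (hA : Cof P A)
  (S : ℕ → Subobject A) (hS : Antitone S) (hcof : ∀ m, Cof P ((S m : Subobject A) : 𝒜))
include hP hp hPp hA hS hcof

theorem chain_stabilizes : ∃ N : ℕ, ∀ m : ℕ, N ≤ m → S m = S N := by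
  choose Nn hNn using fun m => exists_stab hP p hp hPp ((S m : Subobject A) : 𝒜) (hcof m)
  have hD'le : ∀ m m', m ≤ m' →
      imageSubobject (dm p S Nn m') ≤ imageSubobject (dm p S Nn m) :=
    fun m m' h => (le_iff_imageSubobject_le _ _).1 (dm_le p S Nn hS hNn m m' h)
  have hD'cof : ∀ m, Cof P ((imageSubobject (dm p S Nn m) : Subobject A) : 𝒜) :=
    fun m => cof_imageSubobject hP (hcof m) hA _
  have hD'div : ∀ m, Epi (p • 𝟙 ((imageSubobject (dm p S Nn m) : Subobject A) : 𝒜)) :=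
    fun m => epi_nsmul_image _ p (dm_div p S Nn hNn m)
  obtain ⟨M₁, hM₁⟩ := hP.dcc (hA p hp.pos)
    (fun m => tor ((imageSubobject (dm p S Nn m) : Subobject A) : 𝒜) p)
    (fun m => torMap (imageSubobject (dm p S Nn m)).arrow p)
    (fun m => hD'cof m p hp.pos)
    (fun m => le_of_fac (torMap (Subobject.ofLE _ _ (hD'le m (m + 1) (Nat.le_succ m))) p)
      (by rw [← torMap_comp, Subobject.ofLE_arrow]))
  have hDeq : ∀ m, M₁ ≤ m → Le (dm p S Nn M₁) (dm p S Nn m) := fun m hm =>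
    (le_iff_imageSubobject_le _ _).2
      (le_of_tor_le hP p hPp _ _ (hD'le M₁ m hm) (hD'div m) (hM₁ m hm))
  -- the quotient chain
  have hT : P (cokernel ((p ^ Nn M₁) • 𝟙 ((S M₁ : Subobject A) : 𝒜))) :=
    coker_nsmul hP _ (hcof M₁) _ (pow_pos hp.pos _)
  obtain ⟨κ, hκ⟩ : ∃ κ : ∀ k, ((S (M₁ + k) : Subobject A) : 𝒜) ⟶
      cokernel ((p ^ Nn M₁) • 𝟙 ((S M₁ : Subobject A) : 𝒜)),
      ∀ k, κ k = Subobject.ofLE (S (M₁ + k)) (S M₁) (hS (Nat.le_add_right M₁ k)) ≫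
        cokernel.π _ := ⟨_, fun k => rfl⟩
  have hκ0 : ∀ k, ((p ^ Nn (M₁ + k)) • 𝟙 _) ≫ κ k = 0 := by
    intro k
    rw [hκ, ← Category.assoc]
    have h1 : Le (((p ^ Nn (M₁ + k)) • 𝟙 _) ≫
        Subobject.ofLE (S (M₁ + k)) (S M₁) (hS (Nat.le_add_right M₁ k)))
        ((p ^ Nn M₁) • 𝟙 ((S M₁ : Subobject A) : 𝒜)) := by
      apply le_of_comp_mono (S M₁).arrow
      have h2 := dm_le p S Nn hS hNn M₁ (M₁ + k) (Nat.le_add_right _ _)
      unfold dm at h2
      rw [Category.assoc, Subobject.ofLE_arrow]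
      exact h2
    exact h1
  obtain ⟨κ', hκ'⟩ : ∃ κ' : ∀ k,
      cokernel ((p ^ Nn (M₁ + k)) • 𝟙 ((S (M₁ + k) : Subobject A) : 𝒜)) ⟶
        cokernel ((p ^ Nn M₁) • 𝟙 ((S M₁ : Subobject A) : 𝒜)),
      ∀ k, cokernel.π _ ≫ κ' k = κ k :=
    ⟨fun k => cokernel.desc _ (κ k) (hκ0 k), fun k => cokernel.π_desc _ _ _⟩
  have hκle : ∀ k, Le (κ (k + 1)) (κ k) := fun k =>
    le_of_fac (Subobject.ofLE (S (M₁ + (k + 1))) (S (M₁ + k)) (hS (by omega)))
      (by rw [hκ, hκ, ← Category.assoc, Subobject.ofLE_comp_ofLE])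
  obtain ⟨K₀, hK₀⟩ := hP.dcc hT
    (fun k => cokernel ((p ^ Nn (M₁ + k)) • 𝟙 ((S (M₁ + k) : Subobject A) : 𝒜))) κ'
    (fun k => coker_nsmul hP _ (hcof _) _ (pow_pos hp.pos _))
    (fun k => by
      apply le_of_epi_comp_left (cokernel.π _)
      rw [hκ']
      exact (hκle k).trans (le_of_fac (cokernel.π _) (hκ' k)))
  refine ⟨M₁ + K₀, fun m hm => ?_⟩
  obtain ⟨k, rfl⟩ : ∃ k, m = M₁ + k := ⟨m - M₁, by omega⟩
  have hk : K₀ ≤ k := by omega
  apply le_antisymm (hS hm)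
  apply subobject_le_of_le
  have hκK : Le (κ K₀) (κ k) := by
    have h1 : Le (κ' K₀) (κ' k) := hK₀ k hk
    have h2 : Le (κ K₀) (κ' k) := by rw [← hκ' K₀]; exact h1.comp_left _
    rw [← hκ' k]
    exact le_epi_comp_right _ h2
  obtain ⟨W, π, hπ, y, hy⟩ := hκK.exists_refinement (𝟙 _)
  rw [Category.id_comp, hκ, hκ] at hy
  have hex : (ShortComplex.mk ((p ^ Nn M₁) • 𝟙 ((S M₁ : Subobject A) : 𝒜)) (cokernel.π _)
      (cokernel.condition _)).Exact := ShortComplex.exact_cokernel _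
  obtain ⟨W', π', hπ', u, hu⟩ := hex.exact_up_to_refinements
    (π ≫ Subobject.ofLE (S (M₁ + K₀)) (S M₁) (hS (Nat.le_add_right M₁ K₀))
      - y ≫ Subobject.ofLE (S (M₁ + k)) (S M₁) (hS (Nat.le_add_right M₁ k)))
    (by
      show (_ - _) ≫ cokernel.π _ = 0
      rw [Preadditive.sub_comp, Category.assoc, Category.assoc, hy, sub_self])
  have hu' : π' ≫ (π ≫ (S (M₁ + K₀)).arrow - y ≫ (S (M₁ + k)).arrow)
      = u ≫ dm p S Nn M₁ := by
    calc π' ≫ (π ≫ (S (M₁ + K₀)).arrow - y ≫ (S (M₁ + k)).arrow)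
        = π' ≫ ((π ≫ Subobject.ofLE (S (M₁ + K₀)) (S M₁) (hS (Nat.le_add_right M₁ K₀))
          - y ≫ Subobject.ofLE (S (M₁ + k)) (S M₁) (hS (Nat.le_add_right M₁ k)))
            ≫ (S M₁).arrow) := by
          rw [Preadditive.sub_comp, Category.assoc, Category.assoc, Subobject.ofLE_arrow,
            Subobject.ofLE_arrow]
      _ = (π' ≫ (π ≫ Subobject.ofLE (S (M₁ + K₀)) (S M₁) (hS (Nat.le_add_right M₁ K₀))
          - y ≫ Subobject.ofLE (S (M₁ + k)) (S M₁) (hS (Nat.le_add_right M₁ k))))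
            ≫ (S M₁).arrow := (Category.assoc _ _ _).symm
      _ = (u ≫ ((p ^ Nn M₁) • 𝟙 ((S M₁ : Subobject A) : 𝒜))) ≫ (S M₁).arrow := by
          rw [hu]
      _ = u ≫ dm p S Nn M₁ := by unfold dm; rw [Category.assoc]
  have hd : Le (dm p S Nn M₁) (S (M₁ + k)).arrow :=
    (hDeq (M₁ + k) (Nat.le_add_right _ _)).trans (le_of_fac ((p ^ Nn (M₁ + k)) • 𝟙 _) rfl)
  have h1 : (u ≫ dm p S Nn M₁) ≫ cokernel.π (S (M₁ + k)).arrow = 0 := by
    rw [Category.assoc, show dm p S Nn M₁ ≫ cokernel.π (S (M₁ + k)).arrow = 0 from hd,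
      comp_zero]
  have h2 : (π' ≫ π) ≫ (S (M₁ + K₀)).arrow ≫ cokernel.π (S (M₁ + k)).arrow = 0 := by
    have e : (π' ≫ π) ≫ (S (M₁ + K₀)).arrow
        = u ≫ dm p S Nn M₁ + π' ≫ y ≫ (S (M₁ + k)).arrow := by
      rw [← hu', Preadditive.comp_sub, Category.assoc, sub_add_cancel]
    rw [← Category.assoc, e, Preadditive.add_comp, h1, zero_add, Category.assoc,
      Category.assoc, cokernel.condition, comp_zero, comp_zero]
  have := hπ
  have := hπ'
  show (S (M₁ + K₀)).arrow ≫ cokernel.π (S (M₁ + k)).arrow = 0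
  exact (cancel_epi (π' ≫ π)).1 (by rw [h2, comp_zero])

end main

end Groth.Agent.Lib.Lead.IndCof
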