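import Mathlib
import Groth.Agent.Lib.LeadInjB
import Groth.Agent.Lib.Helper29GrEss
import Groth.Agent.S18636

/-!
# Injective dimension from Bass numbers, part C (lead): *injective modules over ℤ-graded rings
-/

set_option autoImplicit false
set_option maxHeartbeats 400000
set_option linter.style.haveILetI false
set_option linter.unusedSectionVars false
set_option linter.unusedVariables false

universe u

namespace Groth.Agent.Lib.LeadInj

open CategoryTheory CategoryTheory.Abelian

section graded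

variable {R : Type u} [CommRing R] [IsNoetherianRing R] (𝒜 : ℤ → AddSubgroup R) [GradedRing 𝒜]
variable {M : Type u} [AddCommGroup M] [Module R M] (ℳ : ℤ → AddSubgroup M)
  [DirectSum.Decomposition ℳ] [SetLike.GradedSMul 𝒜 ℳ]

include ℳ in
/-- Positive Bass numbers of a *injective module vanish at homogeneous primes. -/
theorem bassNum_succ_eq_zero_of_isHomogeneous (hM : GrLC.IsStarInj 𝒜 ℳ) (p : Ideal R) [p.IsPrime]
    (hp : p.IsHomogeneous 𝒜) (i : ℕ) : GrLC.bassNum p M (i + 1) = 0 := by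
  rw [bassNum_eq_zero_iff]
  let p' : HomogeneousIdeal 𝒜 := ⟨p, hp⟩
  haveI : p'.toIdeal.IsPrime := ‹p.IsPrime›
  have key := Groth.Agent.Lib.Helper29GrExtLoc.ext_residue_eq_zero 𝒜 ℳ hM p' i
  exact ⟨fun a b => by rw [key a, key b]⟩

include ℳ in
/-- Bass numbers of a *injective module in degrees `≥ 2` vanish at all primes. -/
theorem bassNum_add_two_eq_zero (hM : GrLC.IsStarInj 𝒜 ℳ) (p : Ideal R) [p.IsPrime] (i : ℕ) :
    GrLC.bassNum p M (i + 2) = 0 := by
  by_cases hp : p.IsHomogeneous 𝒜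
  · exact bassNum_succ_eq_zero_of_isHomogeneous 𝒜 ℳ hM p hp (i + 1)
  · haveI : (Ideal.homogeneousCore 𝒜 p).toIdeal.IsPrime := Ideal.IsPrime.homogeneousCore ‹_›
    rw [(Groth.Agent.S18636.result R 𝒜 M ℳ p hp).2 (i + 1)]
    exact bassNum_succ_eq_zero_of_isHomogeneous 𝒜 ℳ hM _
      (Ideal.homogeneousCore 𝒜 p).isHomogeneous i

include ℳ in
/-- A *injective module has injective dimension at most one. -/
theorem hasInjectiveDimensionLT_two_of_isStarInj (hM : GrLC.IsStarInj 𝒜 ℳ) :
    HasInjectiveDimensionLT (ModuleCat.of R M) 2 :=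
  hasInjectiveDimensionLT_succ_of_bassNum M 1 (fun p _ => bassNum_add_two_eq_zero 𝒜 ℳ hM p 0)

include ℳ in
/-- A *injective module is injective iff `p*` is never associated for non-homogeneous `p`. -/
theorem injective_of_isStarInj_of_core_not_mem (hM : GrLC.IsStarInj 𝒜 ℳ)
    (h : ∀ p : Ideal R, p.IsPrime → ¬ p.IsHomogeneous 𝒜 →
      (Ideal.homogeneousCore 𝒜 p).toIdeal ∉ associatedPrimes R M) : Module.Injective R M := by
  refine injective_of_bassNum_one M (fun p _ => ?_)
  by_cases hp : p.IsHomogeneous 𝒜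
  · exact bassNum_succ_eq_zero_of_isHomogeneous 𝒜 ℳ hM p hp 0
  · haveI : (Ideal.homogeneousCore 𝒜 p).toIdeal.IsPrime := Ideal.IsPrime.homogeneousCore ‹_›
    rw [(Groth.Agent.S18636.result R 𝒜 M ℳ p hp).2 0]
    by_contra hne
    exact h p ‹_› hp ((bassNum_zero_ne_zero_iff _ M).mp hne)

include ℳ in
theorem not_injective_of_core_mem (p : Ideal R) [p.IsPrime] (hp : ¬ p.IsHomogeneous 𝒜)
    (hmem : (Ideal.homogeneousCore 𝒜 p).toIdeal ∈ associatedPrimes R M) :
    ¬ Module.Injective R M := by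
  intro hinj
  haveI : (Ideal.homogeneousCore 𝒜 p).toIdeal.IsPrime := Ideal.IsPrime.homogeneousCore ‹_›
  have h1 := bassNum_one_eq_zero_of_injective M p
  rw [(Groth.Agent.S18636.result R 𝒜 M ℳ p hp).2 0] at h1
  exact (bassNum_zero_ne_zero_iff _ M).mpr hmem h1

end graded

end Groth.Agent.Lib.LeadInj
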