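import Mathlib
import Groth.Agent.Lib.LeadInjC
import Groth.Prelude.Def_Wider

/-!
# Injective dimension from Bass numbers, part D (lead): the *injective hull of `R/m`
-/

set_option autoImplicit false
set_option maxHeartbeats 400000
set_option linter.style.haveILetI false
set_option linter.unusedSectionVars false
set_option linter.unusedVariables false

universe u

namespace Groth.Agent.Lib.LeadInj

open CategoryTheory CategoryTheory.Abelian

section graded

variable {R : Type u} [CommRing R] [IsNoetherianRing R] (𝒜 : ℤ → AddSubgroup R) [GradedRing 𝒜]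

open Groth.Agent.Lib.Helper29GrEss in
theorem isInjectiveHull_of_isStarInjHull (m : HomogeneousIdeal 𝒜) [m.toIdeal.IsMaximal]
    {E' : Type u} [AddCommGroup E'] [Module R E'] (𝓔 : ℤ → AddSubgroup E')
    [DirectSum.Decomposition 𝓔] [SetLike.GradedSMul 𝒜 𝓔] (e : (R ⧸ m.toIdeal) →ₗ[R] E')
    (he : GrLC.IsStarInjHull 𝒜 (GrLC.quotGr 𝒜 m) 𝓔 e) : InjHull.IsInjectiveHull e := by
  classical
  have hrange : (LinearMap.range e).IsHomogeneous 𝓔 := by
    have h1 : (LinearMap.range (e ∘ₗ m.toIdeal.mkQ)).IsHomogeneous 𝓔 :=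
      range_isHomogeneous 𝓔 𝒜 (e ∘ₗ m.toIdeal.mkQ)
        (fun g r hr => he.grHom g _ ⟨r, hr, rfl⟩)
    rwa [LinearMap.range_comp_of_range_eq_top _ (Submodule.range_mkQ _)] at h1
  have hess : ∀ y : E', y ≠ 0 → ∃ r : R, r • y ≠ 0 ∧ r • y ∈ LinearMap.range e := by
    intro y hy
    obtain ⟨h, r, -, h1, h2⟩ := exists_smul_mem 𝒜 𝓔 (LinearMap.range e) hrange he.essential y hy
    exact ⟨r, h1, h2⟩
  refine ⟨⟨he.injective, ?_⟩, ?_⟩
  · intro N hN hbot
    obtain ⟨x, hxN, hx0⟩ := Submodule.exists_mem_ne_zero_of_ne_bot hN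
    obtain ⟨r, hr0, hrmem⟩ := hess x hx0
    have : r • x ∈ N ⊓ LinearMap.range e := ⟨N.smul_mem r hxN, hrmem⟩
    rw [hbot] at this
    exact hr0 ((Submodule.mem_bot R).mp this)
  · refine injective_of_isStarInj_of_core_not_mem 𝒜 𝓔 he.starInj ?_
    intro p hp hph hmem
    haveI := hp
    haveI hcp : (Ideal.homogeneousCore 𝒜 p).toIdeal.IsPrime := Ideal.IsPrime.homogeneousCore hp
    obtain ⟨-, y, hy⟩ := (isAssociatedPrime_iff).mp (AssociatedPrimes.mem_iff.mp hmem)
    have hy' : ∀ r : R, r ∈ (Ideal.homogeneousCore 𝒜 p).toIdeal ↔ r • y = 0 := by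
      intro r
      rw [hy, Submodule.mem_colon_singleton, Submodule.mem_bot]
    have hy0 : y ≠ 0 := by
      intro h0
      apply hcp.ne_top
      rw [Ideal.eq_top_iff_one, hy' 1, h0, smul_zero]
    obtain ⟨r, hr0, z, hz⟩ := hess y hy0
    have hrp : r ∉ (Ideal.homogeneousCore 𝒜 p).toIdeal := fun h => hr0 ((hy' r).mp h)
    have hle : m.toIdeal ≤ (Ideal.homogeneousCore 𝒜 p).toIdeal := by
      intro a ha
      have h1 : a • z = 0 := by
        obtain ⟨b, rfl⟩ := Ideal.Quotient.mk_surjective z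
        have : a • (Ideal.Quotient.mk m.toIdeal b) = Ideal.Quotient.mk m.toIdeal (a * b) := rfl
        rw [this, Ideal.Quotient.eq_zero_iff_mem]
        exact m.toIdeal.mul_mem_right b ha
      have h2 : (a * r) • y = 0 := by
        rw [mul_smul, ← hz, ← map_smul, h1, map_zero]
      exact (hcp.mem_or_mem ((hy' (a * r)).mpr h2)).resolve_right hrp
    have hcore_le : (Ideal.homogeneousCore 𝒜 p).toIdeal ≤ p := Ideal.toIdeal_homogeneousCore_le 𝒜 p
    have hmp : m.toIdeal = p :=
      Ideal.IsMaximal.eq_of_le inferInstance hp.ne_top (hle.trans hcore_le)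
    apply hph
    have hpc : p = (Ideal.homogeneousCore 𝒜 p).toIdeal :=
      le_antisymm (hmp ▸ hle) hcore_le
    rw [hpc]
    exact (Ideal.homogeneousCore 𝒜 p).isHomogeneous

end graded

end Groth.Agent.Lib.LeadInj
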