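import Mathlib

/-!
# Inertia in a quotient group comes from inertia upstairs (lead)

`G` finite acting on `A`, `N ⊲ G`, `B = A^N` with its `G ⧸ N`-action.  If `P` is a prime of `A` over
the prime `𝔮` of `B`, every element of the inertia group of `𝔮` in `G ⧸ N` is the class of an
element of the inertia group of `P` in `G`.
-/

set_option autoImplicit false
set_option maxHeartbeats 400000
set_option linter.style.haveILetI false
set_option linter.unusedSectionVars false
set_option linter.unusedVariables false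
universe u v w

noncomputable section

namespace Groth.Agent.Lib.LeadInr

open scoped Pointwise

section QuotInertia

variable {R : Type u} [CommRing R] {A : Type v} [CommRing A] [Algebra R A]
  {G : Type w} [Group G] [Finite G] [MulSemiringAction G A] [SMulCommClass G R A]
  (N : Subgroup G) [N.Normal]

theorem isInvariant_fixedPoints : Algebra.IsInvariant (FixedPoints.subalgebra R A N) A N :=
  ⟨fun x h => ⟨⟨x, h⟩, rfl⟩⟩

theorem coe_quotient_smul (g : G) (b : FixedPoints.subalgebra R A N) :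
    (((g : G ⧸ N) • b : FixedPoints.subalgebra R A N) : A) = g • (b : A) := rfl

theorem subgroup_smul_ideal (n : N) (P : Ideal A) : n • P = (n : G) • P := rfl

/-- inertia in the quotient comes from inertia upstairs. -/
theorem exists_mem_inertia_of_mem_inertia_quotient
    (𝔮 : Ideal (FixedPoints.subalgebra R A N)) [𝔮.IsPrime] (P : Ideal A) [P.IsPrime]
    (hP : P.comap (algebraMap (FixedPoints.subalgebra R A N) A) = 𝔮)
    (γ : G ⧸ N) (hγ : γ ∈ 𝔮.inertia (G ⧸ N)) :
    ∃ g : G, (g : G ⧸ N) = γ ∧ g ∈ P.inertia G := by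
  haveI := isInvariant_fixedPoints (R := R) (A := A) N
  obtain ⟨g₀, rfl⟩ := QuotientGroup.mk_surjective γ
  have h1 : ∀ g : G, (g : G ⧸ N) ∈ 𝔮.inertia (G ⧸ N) →
      ∀ b : FixedPoints.subalgebra R A N, g • (b : A) - b ∈ P := by
    intro g hg b
    have h := hg b
    rw [← hP] at h
    exact h
  have h2 : (g₀ • P).under (FixedPoints.subalgebra R A N) =
      P.under (FixedPoints.subalgebra R A N) := by
    ext b
    rw [Ideal.under_def, Ideal.under_def, Ideal.mem_comap, Ideal.mem_comap,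
      Ideal.mem_pointwise_smul_iff_inv_smul_mem]
    change g₀⁻¹ • (b : A) ∈ P ↔ (b : A) ∈ P
    have hinv : ((g₀⁻¹ : G) : G ⧸ N) ∈ 𝔮.inertia (G ⧸ N) := by
      rw [QuotientGroup.mk_inv]; exact inv_mem hγ
    have h := h1 g₀⁻¹ hinv b
    constructor
    · intro h'
      have := P.sub_mem h' h
      rwa [sub_sub_cancel] at this
    · intro h'
      have := P.add_mem h h'
      rwa [sub_add_cancel] at this
  obtain ⟨n, hn⟩ := Algebra.IsInvariant.exists_smul_of_under_eq
    (FixedPoints.subalgebra R A N) A N (g₀ • P) P h2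
  set g₁ : G := (n : G) * g₀ with hg₁
  have hg₁P : g₁ • P = P := by
    rw [hg₁, mul_smul, ← subgroup_smul_ideal]; exact hn.symm
  have hg₁γ : (g₁ : G ⧸ N) = (g₀ : G ⧸ N) := by
    rw [hg₁, QuotientGroup.mk_mul, (QuotientGroup.eq_one_iff (n : G)).mpr n.2, one_mul]
  have hg₁in : (g₁ : G ⧸ N) ∈ 𝔮.inertia (G ⧸ N) := hg₁γ ▸ hγ
  haveI : P.LiesOver 𝔮 := ⟨hP.symm⟩
  let f : A ⧸ P ≃+* A ⧸ P := Ideal.quotientEquiv P P (MulSemiringAction.toRingEquiv G A g₁)
    hg₁P.symm
  have hf : ∀ a : A, f (Ideal.Quotient.mk P a) = Ideal.Quotient.mk P (g₁ • a) := fun a => rfl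
  let φ : (A ⧸ P) ≃ₐ[(FixedPoints.subalgebra R A N) ⧸ 𝔮] (A ⧸ P) :=
    AlgEquiv.ofRingEquiv (f := f) (by
      intro x
      obtain ⟨b, rfl⟩ := Ideal.Quotient.mk_surjective x
      rw [Ideal.Quotient.algebraMap_mk_of_liesOver, hf, Ideal.Quotient.eq]
      exact h1 g₁ hg₁in b)
  obtain ⟨n', hn'⟩ := Ideal.Quotient.stabilizerHom_surjective N 𝔮 P φ
  refine ⟨((n' : N) : G)⁻¹ * g₁, ?_, ?_⟩
  · rw [QuotientGroup.mk_mul, QuotientGroup.mk_inv,
      (QuotientGroup.eq_one_iff ((n' : N) : G)).mpr (n' : N).2, inv_one, one_mul, hg₁γ]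
  · intro a
    have hcong : Ideal.Quotient.mk P (((n' : N) : G) • a) = Ideal.Quotient.mk P (g₁ • a) := by
      have h := DFunLike.congr_fun hn' (Ideal.Quotient.mk P a)
      rw [Ideal.Quotient.stabilizerHom_apply] at h
      exact h
    have hmem : g₁ • a - ((n' : N) : G) • a ∈ P := by
      rw [← Ideal.Quotient.eq, hcong]
    have hstab : ((n' : N) : G) • P = P := by
      rw [← subgroup_smul_ideal]; exact n'.2
    have h3 : ((n' : N) : G)⁻¹ • (g₁ • a - ((n' : N) : G) • a) ∈ P := by
      rw [← Ideal.mem_pointwise_smul_iff_inv_smul_mem, hstab]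
      exact hmem
    rw [smul_sub, inv_smul_smul, ← mul_smul] at h3
    exact h3

end QuotInertia

end Groth.Agent.Lib.LeadInr
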