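import Mathlib
import Groth.Agent.Lib.LeadInrB
import Groth.Agent.Lib.LeadInrC
import Groth.Agent.Lib.LeadInrD
import Groth.Agent.Lib.Helper5IntDim

/-!
# The height-one inertia groups generate the Galois group (lead)
-/

set_option autoImplicit false
set_option maxHeartbeats 400000
set_option linter.style.haveILetI false
set_option linter.unusedSectionVars false
set_option linter.unusedVariables false
universe u v w

noncomputable section

namespace Groth.Agent.Lib.LeadInr

open IsLocalRing Groth.Agent.Lib.LeadWQ
open scoped Pointwise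

section LemmaF

/-- a finite unramified local extension with trivial residue field extension is surjective. -/
theorem surjective_of_unramified_of_residue {R B : Type*} [CommRing R] [IsLocalRing R]
    [CommRing B] [IsLocalRing B] [Algebra R B] [Module.Finite R B]
    (hinj : Function.Injective (algebraMap R B)) [Algebra.FormallyUnramified R B]
    (hres : Function.Surjective (IsLocalRing.residue B ∘ algebraMap R B)) :
    Function.Surjective (algebraMap R B) := by
  haveI : Algebra.IsIntegral R B := Algebra.IsIntegral.of_finite R B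
  haveI : IsLocalHom (algebraMap R B) :=
    RingHom.IsIntegral.isLocalHom (algebraMap_isIntegral_iff.mpr inferInstance) hinj
  have hm : (maximalIdeal R).map (algebraMap R B) = maximalIdeal B :=
    Algebra.FormallyUnramified.map_maximalIdeal
  have hle : (⊤ : Submodule R B) ≤ LinearMap.range (Algebra.linearMap R B) := by
    apply Submodule.le_of_le_smul_of_le_jacobson_bot (I := maximalIdeal R) Module.Finite.fg_top
      (IsLocalRing.maximalIdeal_le_jacobson ⊥)
    intro b _
    obtain ⟨r, hr⟩ := hres (IsLocalRing.residue B b)
    have hmem : b - algebraMap R B r ∈ maximalIdeal B := by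
      rw [← Ideal.Quotient.eq]
      exact hr.symm
    rw [← hm] at hmem
    have hmem' : b - algebraMap R B r ∈ maximalIdeal R • (⊤ : Submodule R B) := by
      rw [Ideal.smul_top_eq_map]; exact hmem
    have h2 : b = algebraMap R B r + (b - algebraMap R B r) := by ring
    rw [h2]
    exact Submodule.add_mem_sup ⟨r, rfl⟩ hmem'
  intro b
  obtain ⟨r, hr⟩ := hle (Submodule.mem_top : b ∈ ⊤)
  exact ⟨r, hr⟩

end LemmaF

section Normal

variable {A : Type v} [CommRing A] {H : Type w} [Group H] [MulSemiringAction H A]

theorem conj_mem_inertia_smul (g σ : H) (P : Ideal A) (hσ : σ ∈ P.inertia H) :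
    g * σ * g⁻¹ ∈ (g • P).inertia H := by
  intro x
  have h := hσ (g⁻¹ • x)
  have h' := Ideal.smul_mem_pointwise_smul g _ P h
  rw [smul_sub, smul_inv_smul, ← mul_smul, ← mul_smul] at h'
  exact h'

theorem height_smul (g : H) (P : Ideal A) : (g • P).height = P.height :=
  RingEquiv.height_map (MulSemiringAction.toRingEquiv H A g) P

theorem normal_iSup_inertia :
    (⨆ P : {P : Ideal A // P.IsPrime ∧ P.height = 1}, P.1.inertia H).Normal := by
  constructor
  intro n hn g
  have hmap : (⨆ P : {P : Ideal A // P.IsPrime ∧ P.height = 1}, P.1.inertia H).map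
      (MulAut.conj g).toMonoidHom ≤
      ⨆ P : {P : Ideal A // P.IsPrime ∧ P.height = 1}, P.1.inertia H := by
    rw [Subgroup.map_iSup]
    apply iSup_le
    intro P
    refine le_trans ?_ (le_iSup (fun P : {P : Ideal A // P.IsPrime ∧ P.height = 1} =>
      P.1.inertia H) ⟨g • P.1, P.2.1.smul g, by rw [height_smul]; exact P.2.2⟩)
    rintro _ ⟨σ, hσ, rfl⟩
    exact conj_mem_inertia_smul g σ P.1 hσ
  exact hmap ⟨n, hn, rfl⟩

end Normal

section Main

/-- the height-one inertia groups generate `H` (same universe version). -/
theorem iSup_inertia_eq_top_sameUniv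
    (R : Type v) [CommRing R] [IsRegularLocalRing R]
    (A : Type v) [CommRing A] [IsDomain A] [IsIntegrallyClosed A] [IsLocalRing A]
    [Algebra R A] [Module.Finite R A] (hinj : Function.Injective (algebraMap R A))
    (hres : Function.Surjective (IsLocalRing.residue A ∘ algebraMap R A))
    (H : Type w) [Group H] [Finite H] [MulSemiringAction H A] [SMulCommClass H R A]
    [FaithfulSMul H A]
    (hfix : ∀ a : A, (∀ h : H, h • a = a) → a ∈ Set.range (algebraMap R A)) :
    (⨆ P : {P : Ideal A // P.IsPrime ∧ P.height = 1}, P.1.inertia H) = ⊤ := by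
  classical
  set I : Subgroup H := ⨆ P : {P : Ideal A // P.IsPrime ∧ P.height = 1}, P.1.inertia H with hI
  haveI : I.Normal := normal_iSup_inertia
  let B := FixedPoints.subalgebra R A I
  haveI : IsLocalRing B := isLocalRing_fixedPoints (A := A) (G := I)
  haveI : IsIntegrallyClosed B := isIntegrallyClosed_fixedPoints A I
  haveI : IsNoetherian R A := isNoetherian_of_isNoetherianRing_of_finite R A
  haveI : IsNoetherianRing A := IsNoetherianRing.of_finite R A
  haveI : Module.Finite R B :=
    Module.Finite.of_injective (Subalgebra.val B).toLinearMap Subtype.val_injective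
  haveI : Algebra.IsInvariant R A H := ⟨hfix⟩
  have hinjB : Function.Injective (algebraMap R B) :=
    fun x y h => hinj (congrArg Subtype.val h)
  have hfixB : ∀ b : B, (∀ g : H ⧸ I, g • b = b) → b ∈ Set.range (algebraMap R B) :=
    fun b hb => Algebra.IsInvariant.isInvariant (A := R) (G := H ⧸ I) b hb
  letI : Fintype (H ⧸ I) := Fintype.ofFinite _
  haveI : Algebra.IsIntegral R A := Algebra.IsIntegral.of_finite R A
  haveI := isInvariant_fixedPoints (R := R) (A := A) I
  haveI : Algebra.IsIntegral B A := Algebra.IsInvariant.isIntegral B A I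
  -- trivial inertia in codimension ≤ 1
  have htriv : ∀ (Q : Ideal B), Q.IsPrime → (Q.comap (algebraMap R B)).height ≤ 1 →
      Q.inertia (H ⧸ I) = ⊥ := by
    intro Q hQ hht
    haveI := hQ
    obtain ⟨P, -, hPprime, hPQ⟩ := Ideal.exists_ideal_over_prime_of_isIntegral Q (⊥ : Ideal A)
      (by
        intro x hx
        rw [Ideal.mem_comap, Ideal.mem_bot] at hx
        have : x = 0 := Subtype.ext hx
        rw [this]; exact Q.zero_mem)
    haveI := hPprime
    rw [eq_bot_iff]
    intro γ hγ
    obtain ⟨g, rfl, hg⟩ := exists_mem_inertia_of_mem_inertia_quotient I Q P hPQ γ hγ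
    have hP1 : P.height ≤ 1 := by
      refine (Groth.Agent.Lib.Helper5.height_le_height_under_of_isIntegral (A := R) P).trans ?_
      have : P.under R = Q.comap (algebraMap R B) := by
        rw [← hPQ, Ideal.comap_comap]
        rfl
      rw [this]; exact hht
    have hgI : g ∈ I := by
      by_cases h1 : P.height = 1
      · exact le_iSup (fun P : {P : Ideal A // P.IsPrime ∧ P.height = 1} => P.1.inertia H)
          ⟨P, hPprime, h1⟩ hg
      · have h0 : P = ⊥ := by
          by_contra hne
          have hlt : (⊥ : Ideal A) < P := bot_lt_iff_ne_bot.mpr hne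
          haveI : (⊥ : Ideal A).IsPrime := Ideal.isPrime_bot
          have := Ideal.height_strict_mono_of_isPrime_of_isPrime hlt
          have h2 : 1 ≤ P.height := Order.one_le_iff_pos.mpr (pos_of_gt this)
          exact h1 (le_antisymm hP1 h2)
        have hg1 : g = 1 := by
          apply FaithfulSMul.eq_of_smul_eq_smul (α := A)
          intro a
          have := hg a
          rw [h0] at this
          change g • a - a ∈ (⊥ : Ideal A) at this
          rw [Ideal.mem_bot, sub_eq_zero] at this
          rw [this, one_smul]
        rw [hg1]; exact one_mem _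
    rw [Subgroup.mem_bot]
    exact (QuotientGroup.eq_one_iff g).mpr hgI
  -- étale
  haveI hEt : Algebra.Etale R B := etale_of_codim_one R B hinjB (fun q hq hht => by
    haveI := hq
    exact isEtaleAt_of_trivial_inertia hinjB hfixB q
      (fun Q hQ hle => htriv Q hQ ((Ideal.height_mono hle).trans hht)))
  -- `B = R`
  have hresB : Function.Surjective (IsLocalRing.residue B ∘ algebraMap R B) := by
    intro x
    obtain ⟨b, rfl⟩ := IsLocalRing.residue_surjective x
    obtain ⟨r, hr⟩ := hres (IsLocalRing.residue A (b : A))
    refine ⟨r, ?_⟩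
    change IsLocalRing.residue B (algebraMap R B r) = IsLocalRing.residue B b
    refine (Ideal.Quotient.eq).mpr ?_
    rw [IsLocalRing.mem_maximalIdeal, mem_nonunits_iff]
    intro hu
    have hu' : IsUnit (algebraMap B A (algebraMap R B r - b)) := hu.map (algebraMap B A)
    have hmem : algebraMap R A r - (b : A) ∈ maximalIdeal A :=
      (Ideal.Quotient.eq).mp hr
    rw [IsLocalRing.mem_maximalIdeal, mem_nonunits_iff] at hmem
    exact hmem hu'
  have hsurj : Function.Surjective (algebraMap R B) :=
    surjective_of_unramified_of_residue hinjB hresB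
  -- conclusion
  haveI : IsGaloisGroup H R A := ⟨inferInstance, inferInstance, ⟨hfix⟩⟩
  haveI : IsGaloisGroup I R A := ⟨inferInstance, inferInstance, ⟨fun a ha => by
    obtain ⟨r, hr⟩ := hsurj ⟨a, ha⟩
    exact ⟨r, congrArg Subtype.val hr⟩⟩⟩
  haveI : FaithfulSMul R A := (faithfulSMul_iff_algebraMap_injective R A).mpr hinj
  have h1 := IsGaloisGroup.card_eq_finrank' I R A
  have h2 := IsGaloisGroup.card_eq_finrank' H R A
  exact (Subgroup.card_eq_iff_eq_top I).mp (h1.trans h2.symm)

/-- the height-one inertia groups generate `H`. -/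
theorem iSup_inertia_eq_top
    (R : Type u) [CommRing R] [IsRegularLocalRing R]
    (A : Type v) [CommRing A] [IsDomain A] [IsIntegrallyClosed A] [IsLocalRing A]
    [Algebra R A] [Module.Finite R A] (hinj : Function.Injective (algebraMap R A))
    (hres : Function.Surjective (IsLocalRing.residue A ∘ algebraMap R A))
    (H : Type w) [Group H] [Finite H] [MulSemiringAction H A] [SMulCommClass H R A]
    [FaithfulSMul H A]
    (hfix : ∀ a : A, (∀ h : H, h • a = a) → a ∈ Set.range (algebraMap R A)) :
    (⨆ P : {P : Ideal A // P.IsPrime ∧ P.height = 1}, P.1.inertia H) = ⊤ := by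
  let R' : Subring A := (algebraMap R A).range
  let e : R ≃+* R' := RingEquiv.ofBijective (algebraMap R A).rangeRestrict
    ⟨fun x y h => hinj (congrArg Subtype.val h), (algebraMap R A).rangeRestrict_surjective⟩
  haveI : IsRegularLocalRing R' := IsRegularLocalRing.of_ringEquiv e
  letI : Algebra R R' := (algebraMap R A).rangeRestrict.toAlgebra
  haveI : IsScalarTower R R' A := IsScalarTower.of_algebraMap_eq' rfl
  haveI : Module.Finite R' A := Module.Finite.of_restrictScalars_finite R R' A
  have hinj' : Function.Injective (algebraMap R' A) := Subtype.val_injective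
  have hres' : Function.Surjective (IsLocalRing.residue A ∘ algebraMap R' A) := by
    intro x
    obtain ⟨r, hr⟩ := hres x
    exact ⟨⟨algebraMap R A r, r, rfl⟩, hr⟩
  haveI hG : IsGaloisGroup H R A := ⟨inferInstance, inferInstance, ⟨hfix⟩⟩
  haveI hG' : IsGaloisGroup H R' A := inferInstanceAs (IsGaloisGroup H (algebraMap R A).range A)
  haveI : SMulCommClass H R' A := hG'.commutes
  have hfix' : ∀ a : A, (∀ h : H, h • a = a) → a ∈ Set.range (algebraMap R' A) := by
    intro a ha
    obtain ⟨r, hr⟩ := hfix a ha
    exact ⟨⟨algebraMap R A r, r, rfl⟩, hr⟩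
  exact iSup_inertia_eq_top_sameUniv R' A hinj' hres' H hfix'

end Main

end Groth.Agent.Lib.LeadInr
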