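import Mathlib
import Groth.Agent.Lib.LeadInrE

/-!
# Group theory for the inertia statements (lead)
-/

set_option autoImplicit false
set_option maxHeartbeats 400000
set_option linter.style.haveILetI false
set_option linter.unusedSectionVars false
set_option linter.unusedVariables false
universe u v w

noncomputable section

namespace Groth.Agent.Lib.LeadInr

section GroupTheory

variable {H : Type w} [Group H] (p : ℕ) [Fact p.Prime] {ι : Sort*} (N : ι → Subgroup H)

/-- two normal subgroups of prime order commute elementwise. -/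
theorem commute_of_normal_card_prime (N₁ N₂ : Subgroup H) (h₁ : Nat.card N₁ = p) (h₂ : Nat.card N₂ = p)
    (hn₁ : N₁.Normal) (hn₂ : N₂.Normal) (x y : H) (hx : x ∈ N₁) (hy : y ∈ N₂) : Commute x y := by
  have hp : p.Prime := Fact.out
  by_cases hd : Disjoint N₁ N₂
  · exact Subgroup.commute_of_normal_of_disjoint N₁ N₂ hn₁ hn₂ hd x y hx hy
  · haveI : Finite N₁ := Nat.finite_of_card_ne_zero (h₁ ▸ hp.ne_zero)
    have hdvd : Nat.card (N₁ ⊓ N₂ : Subgroup H) ∣ p := h₁ ▸ Subgroup.card_dvd_of_le inf_le_left
    have hne1 : Nat.card (N₁ ⊓ N₂ : Subgroup H) ≠ 1 := by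
      intro h1
      apply hd
      rw [disjoint_iff]
      exact (Subgroup.eq_bot_iff_card _).mpr h1
    have hcard : Nat.card (N₁ ⊓ N₂ : Subgroup H) = p := by
      rcases (Nat.dvd_prime hp).mp hdvd with h | h
      · exact absurd h hne1
      · exact h
    have heq : N₁ ⊓ N₂ = N₁ := Subgroup.eq_of_le_of_card_ge inf_le_left (by rw [hcard, h₁])
    have hx' : x ∈ N₁ ⊓ N₂ := by rw [heq]; exact hx
    have hx₂ : x ∈ N₂ := hx'.2
    haveI : IsCyclic N₂ := isCyclic_of_prime_card h₂
    letI := IsCyclic.commGroup (α := N₂)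
    have := mul_comm (⟨x, hx₂⟩ : N₂) ⟨y, hy⟩
    exact congrArg Subtype.val this

/-- a group generated by normal subgroups of prime order `p` is an elementary abelian `p`-group. -/
theorem comm_and_pow_of_normal_card_prime
    (hN : ∀ i, N i ≠ ⊥ → Nat.card (N i) = p ∧ (N i).Normal) (htop : ⨆ i, N i = ⊤) :
    (∀ g h : H, g * h = h * g) ∧ ∀ h : H, h ^ p = 1 := by
  have hmem : ∀ h : H, h ∈ ⨆ i, N i := fun h => htop ▸ Subgroup.mem_top h
  -- generators commute
  have ha : ∀ i j, ∀ x ∈ N i, ∀ y ∈ N j, Commute x y := by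
    intro i j x hx y hy
    by_cases hi : N i = ⊥
    · rw [hi, Subgroup.mem_bot] at hx
      rw [hx]; exact Commute.one_left y
    by_cases hj : N j = ⊥
    · rw [hj, Subgroup.mem_bot] at hy
      rw [hy]; exact Commute.one_right x
    exact commute_of_normal_card_prime p (N i) (N j) (hN i hi).1 (hN j hj).1 (hN i hi).2 (hN j hj).2
      x y hx hy
  have hb : ∀ i, ∀ x ∈ N i, ∀ h : H, Commute x h := by
    intro i x hx h
    refine Subgroup.iSup_induction N (C := fun h => Commute x h) (hmem h) ?_ ?_ ?_
    · intro j y hy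
      exact ha i j x hx y hy
    · exact Commute.one_right x
    · intro y z hy hz
      exact hy.mul_right hz
  have hc : ∀ g h : H, Commute g h := by
    intro g h
    refine Subgroup.iSup_induction N (C := fun g => Commute g h) (hmem g) ?_ ?_ ?_
    · intro i x hx
      exact hb i x hx h
    · exact Commute.one_left h
    · intro y z hy hz
      exact hy.mul_left hz
  refine ⟨fun g h => hc g h, fun h => ?_⟩
  refine Subgroup.iSup_induction N (C := fun h => h ^ p = 1) (hmem h) ?_ ?_ ?_
  · intro i x hx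
    by_cases hi : N i = ⊥
    · rw [hi, Subgroup.mem_bot] at hx
      rw [hx, one_pow]
    · have h1 : (⟨x, hx⟩ : N i) ^ Nat.card (N i) = 1 := pow_card_eq_one'
      rw [(hN i hi).1] at h1
      exact congrArg Subtype.val h1
  · exact one_pow p
  · intro y z hy hz
    rw [(hc y z).mul_pow, hy, hz, one_mul]

end GroupTheory

section Statements

/-- S15803. -/
theorem comm_and_pow_of_inertia
    (p : ℕ) [Fact p.Prime] (R : Type u) [CommRing R] [IsRegularLocalRing R]
    (A : Type v) [CommRing A] [IsDomain A] [IsIntegrallyClosed A] [IsLocalRing A]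
    [Algebra R A] [Module.Finite R A] (hinj : Function.Injective (algebraMap R A))
    (hres : Function.Surjective (IsLocalRing.residue A ∘ algebraMap R A))
    (H : Type w) [Group H] [Finite H] [MulSemiringAction H A] [SMulCommClass H R A]
    [FaithfulSMul H A]
    (hfix : ∀ a : A, (∀ h : H, h • a = a) → a ∈ Set.range (algebraMap R A))
    (hMR2 : ∀ P : Ideal A, P.IsPrime → P.height = 1 → P.inertia H ≠ ⊥ →
      Nat.card (P.inertia H) = p ∧ (P.inertia H).Normal) :
    (∀ g h : H, g * h = h * g) ∧ ∀ h : H, h ^ p = 1 :=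
  comm_and_pow_of_normal_card_prime p
    (fun P : {P : Ideal A // P.IsPrime ∧ P.height = 1} => P.1.inertia H)
    (fun P hP => hMR2 P.1 P.2.1 P.2.2 hP) (iSup_inertia_eq_top R A hinj hres H hfix)

/-- S15804. -/
theorem card_inertia_of_card_sq
    (p : ℕ) [Fact p.Prime] (R : Type u) [CommRing R] [IsRegularLocalRing R]
    (A : Type v) [CommRing A] [IsDomain A] [IsIntegrallyClosed A] [IsLocalRing A]
    [Algebra R A] [Module.Finite R A] (hinj : Function.Injective (algebraMap R A))
    (hres : Function.Surjective (IsLocalRing.residue A ∘ algebraMap R A))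
    (H : Type w) [Group H] [Finite H] [MulSemiringAction H A] [SMulCommClass H R A]
    [FaithfulSMul H A]
    (hfix : ∀ a : A, (∀ h : H, h • a = a) → a ∈ Set.range (algebraMap R A))
    (hdim : ringKrullDim A = 2) (hcard : Nat.card H = p ^ 2)
    (Γ : Subgroup H) (hΓ : Nat.card Γ = p)
    (hram : ∀ P : Ideal A, P.IsPrime → P ≠ IsLocalRing.maximalIdeal A → P.inertia H ⊓ Γ = ⊥) :
    (∀ P : Ideal A, P.IsPrime → P.height = 1 → P.inertia H ≠ ⊥ → Nat.card (P.inertia H) = p) ∧
      (∀ g h : H, g * h = h * g) ∧ ∀ h : H, h ^ p = 1 := by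
  have hp : p.Prime := Fact.out
  have hcomm : ∀ a b : H, a * b = b * a := (IsPGroup.isMulCommutative_of_card_eq_prime_sq hcard).is_comm.comm
  have hi : ∀ P : Ideal A, P.IsPrime → P.height = 1 → P.inertia H ≠ ⊥ →
      Nat.card (P.inertia H) = p := by
    intro P hP hht hne
    have hPm : P ≠ IsLocalRing.maximalIdeal A := by
      intro h
      have h2 := IsLocalRing.maximalIdeal_height_eq_ringKrullDim (R := A)
      rw [← h, hht, hdim] at h2
      exact absurd h2 (by decide)
    have hdisj : Disjoint (P.inertia H) Γ := disjoint_iff.mpr (hram P hP hPm)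
    have hinj' := Subgroup.mul_injective_of_disjoint hdisj
    have hle : Nat.card (P.inertia H) * p ≤ p ^ 2 := by
      have h1 : Nat.card (P.inertia H × Γ) ≤ Nat.card H :=
        Nat.card_le_card_of_injective _ hinj'
      rw [Nat.card_prod, hΓ, hcard] at h1
      exact h1
    have hdvd : Nat.card (P.inertia H) ∣ p ^ 2 := hcard ▸ Subgroup.card_subgroup_dvd_card _
    obtain ⟨k, hk, hk'⟩ := (Nat.dvd_prime_pow hp).mp hdvd
    have hk1 : k ≠ 0 := by
      intro h0
      rw [h0, pow_zero] at hk'
      exact hne ((Subgroup.eq_bot_iff_card _).mpr hk')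
    have hk2 : k ≠ 2 := by
      intro h2
      rw [h2] at hk'
      rw [hk'] at hle
      have : p ^ 2 * p ≤ p ^ 2 * 1 := by rw [mul_one]; exact hle
      have := Nat.le_of_mul_le_mul_left this (pow_pos hp.pos 2)
      exact absurd this (not_le.mpr hp.one_lt)
    have : k = 1 := by omega
    rw [hk', this, pow_one]
  refine ⟨hi, ?_⟩
  exact comm_and_pow_of_normal_card_prime p
    (fun P : {P : Ideal A // P.IsPrime ∧ P.height = 1} => P.1.inertia H)
    (fun P hP => ⟨hi P.1 P.2.1 P.2.2 hP, ⟨fun n hn g => by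
      rw [hcomm g n, mul_inv_cancel_right]; exact hn⟩⟩)
    (iSup_inertia_eq_top R A hinj hres H hfix)

end Statements

end Groth.Agent.Lib.LeadInr
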