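import Mathlib

/-!
# Group theory for the product decomposition `H = G_1 × ⋯ × G_n` (lead)
-/

set_option autoImplicit false
set_option maxHeartbeats 400000
set_option linter.style.haveILetI false
set_option linter.unusedSectionVars false
set_option linter.unusedVariables false
universe u v w

noncomputable section

namespace Groth.Agent.Lib.LeadInr

section GroupTheory

variable {H : Type w} [Group H] {n : ℕ} (Gi : Fin n → Subgroup H)

theorem normal_of_comm (hcomm : ∀ g h : H, g * h = h * g) (K : Subgroup H) : K.Normal :=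
  ⟨fun n hn g => by rw [hcomm g n, mul_inv_cancel_right]; exact hn⟩

/-- the subgroup generated by the `G_j`, `j ≠ i`. -/
abbrev Nsub (i : Fin n) : Subgroup H := ⨆ j ∈ (Finset.univ.erase i : Finset (Fin n)), Gi j

theorem le_Nsub {i j : Fin n} (h : j ≠ i) : Gi j ≤ Nsub Gi i :=
  le_iSup₂ (f := fun j (_ : j ∈ (Finset.univ.erase i : Finset (Fin n))) => Gi j) j
    (Finset.mem_erase.mpr ⟨h, Finset.mem_univ j⟩)

theorem Nsub_sup (hsup : (⨆ i, Gi i) = ⊤) (i : Fin n) : Nsub Gi i ⊔ Gi i = ⊤ := by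
  rw [eq_top_iff, ← hsup]
  apply iSup_le
  intro j
  by_cases h : j = i
  · subst h; exact le_sup_right
  · exact (le_Nsub Gi h).trans le_sup_left

theorem card_quotient_le [Finite H] (p : ℕ) (hsup : (⨆ i, Gi i) = ⊤)
    (hGi : ∀ i, Nat.card (Gi i) = p) (i : Fin n) [(Nsub Gi i).Normal] :
    Nat.card (H ⧸ Nsub Gi i) ≤ p := by
  let f : Gi i →* H ⧸ Nsub Gi i := (QuotientGroup.mk' (Nsub Gi i)).comp (Gi i).subtype
  have hrange : f.range = ⊤ := by
    have h1 : f.range = (Gi i).map (QuotientGroup.mk' (Nsub Gi i)) := by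
      rw [MonoidHom.range_comp, Subgroup.range_subtype]
    rw [h1]
    have h2 : (Nsub Gi i ⊔ Gi i).map (QuotientGroup.mk' (Nsub Gi i)) = ⊤ := by
      rw [Nsub_sup Gi hsup i]
      exact Subgroup.map_top_of_surjective _ (QuotientGroup.mk'_surjective _)
    rw [Subgroup.map_sup, QuotientGroup.map_mk'_self, bot_sup_eq] at h2
    exact h2
  have hsurj : Function.Surjective f := MonoidHom.range_eq_top.mp hrange
  rw [← hGi i]
  exact Nat.card_le_card_of_surjective f hsurj

theorem exists_notMem_Nsub [Finite H] (hcomm : ∀ g h : H, g * h = h * g) (p : ℕ)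
    (hcard : Nat.card H = p ^ n) (hGi : ∀ i, Nat.card (Gi i) = p) (hsup : (⨆ i, Gi i) = ⊤)
    (j : Fin n) (τ : H) (hτ : τ ∈ Nsub Gi j) (hτ1 : τ ≠ 1) : ∃ i, i ≠ j ∧ τ ∉ Nsub Gi i := by
  classical
  have hc : Pairwise fun i j : Fin n => ∀ x y : H, x ∈ Gi i → y ∈ Gi j → Commute x y :=
    fun i j _ x y _ _ => hcomm x y
  let φ : (∀ i, Gi i) →* H := Subgroup.noncommPiCoprod hc
  have hsurj : Function.Surjective φ := by
    rw [← MonoidHom.range_eq_top, Subgroup.noncommPiCoprod_range, hsup]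
  have hcardpi : Nat.card (∀ i, Gi i) = Nat.card H := by
    rw [Nat.card_pi, hcard]
    simp [hGi]
  have hbij : Function.Bijective φ :=
    (Nat.bijective_iff_surjective_and_card φ).mpr ⟨hsurj, hcardpi⟩
  let e : (∀ i, Gi i) ≃* H := MulEquiv.ofBijective φ hbij
  let ψ : ∀ i, H →* Gi i := fun i => (Pi.evalMonoidHom _ i).comp e.symm.toMonoidHom
  have hψ : ∀ i k, k ≠ i → Gi k ≤ (ψ i).ker := by
    intro i k hk g hg
    rw [MonoidHom.mem_ker]
    have h1 : e.symm g = Pi.mulSingle k ⟨g, hg⟩ := by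
      rw [MulEquiv.symm_apply_eq]
      exact (Subgroup.noncommPiCoprod_mulSingle (hcomm := hc) k ⟨g, hg⟩).symm
    change (e.symm g) i = 1
    rw [h1, Pi.mulSingle_eq_of_ne (Ne.symm hk)]
  have hker : ∀ i, Nsub Gi i ≤ (ψ i).ker := by
    intro i
    apply iSup₂_le
    intro k hk
    exact hψ i k (Finset.ne_of_mem_erase hk)
  by_contra hcon
  push Not at hcon
  have hall : ∀ i, ψ i τ = 1 := by
    intro i
    by_cases h : i = j
    · subst h; exact hker i hτ
    · exact hker i (hcon i h)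
  apply hτ1
  have h2 : e.symm τ = 1 := by
    funext i
    exact hall i
  rw [← e.apply_symm_apply τ, h2, map_one]

end GroupTheory

end Groth.Agent.Lib.LeadInr
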