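import Groth.Agent.Lib.T2H3PurityK
import Groth.Agent.Lib.Helper5RLR3
import Groth.Agent.Lib.Helper28Depth
import Groth.Agent.Lib.Helper19Jacobson
import Groth.Agent.Lib.Helper19ComplDim
import Groth.Agent.S0563
import Groth.Agent.S0604

/-!
# The algebraic purity theorem: base case, induction and reduction to the complete case
-/

set_option autoImplicit false
set_option linter.unusedSectionVars false
universe u

open TensorProduct IsLocalRing CategoryTheory
open scoped Pointwise

namespace Groth.Agent.Lib.T2H3.Purity

section Base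

variable {A : Type u} [CommRing A]

theorem isSMulRegular_quot_of_regMod {M : Type u} [AddCommGroup M] [Module A M] {a b : A}
    (h : RegMod a b M) : IsSMulRegular (QuotSMulTop a M) b := by
  intro q q' hqq
  obtain ⟨y, rfl⟩ := Submodule.Quotient.mk_surjective _ q
  obtain ⟨y', rfl⟩ := Submodule.Quotient.mk_surjective _ q'
  have h1 : b • (y - y') ∈ a • (⊤ : Submodule A M) := by
    rw [← Submodule.Quotient.mk_eq_zero, Submodule.Quotient.mk_smul, Submodule.Quotient.mk_sub,
      smul_sub, sub_eq_zero]
    exact hqq
  rw [Submodule.mem_smul_pointwise_iff_exists] at h1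
  obtain ⟨z, _, hz⟩ := h1
  obtain ⟨w, hw⟩ := h (y - y') z hz.symm
  rw [← sub_eq_zero, ← Submodule.Quotient.mk_sub, Submodule.Quotient.mk_eq_zero, hw]
  exact Submodule.smul_mem_pointwise_smul w a ⊤ Submodule.mem_top

variable [IsLocalRing A]

theorem two_le_depth {M : Type u} [AddCommGroup M] [Module A M] {a b : A}
    (ha : a ∈ maximalIdeal A) (hb : b ∈ maximalIdeal A) (hreg : IsSMulRegular M a)
    (hab : RegMod a b M) : (2 : ℕ∞) ≤ LocCoh.depth A M := by
  have hw : RingTheory.Sequence.IsWeaklyRegular M [a, b] := by
    rw [RingTheory.Sequence.isWeaklyRegular_cons_iff, RingTheory.Sequence.isWeaklyRegular_cons_iff]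
    exact ⟨hreg, isSMulRegular_quot_of_regMod hab, RingTheory.Sequence.IsWeaklyRegular.nil _ _⟩
  have := Groth.Agent.Lib.Helper28.length_le_idealDepth (I := maximalIdeal A) hw (by
    intro r hr
    simp only [List.mem_cons, List.not_mem_nil, or_false] at hr
    rcases hr with rfl | rfl
    · exact ha
    · exact hb)
  have h2 : (([a, b] : List A).length : ℕ∞) = 2 := by simp
  rw [h2] at this
  exact this

/-- over a regular local ring, a finite module of maximal depth is free (Auslander–Buchsbaum). -/
theorem free_of_depth_ge (R : Type u) [CommRing R] [IsRegularLocalRing R] (M : Type u)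
    [AddCommGroup M] [Module R M] [Module.Finite R M] [Nontrivial M]
    (h : LocCoh.depth R R ≤ LocCoh.depth R M) : Module.Free R M := by
  have hcm := Groth.Agent.Lib.Helper5.isCohenMacaulayLocalRing_of_isRegularLocalRing R
  have h1 := hcm.supportDim_eq_depth
  rw [Module.supportDim_self_eq_ringKrullDim] at h1
  have hne : ringKrullDim R ≠ ⊤ := ringKrullDim_ne_top
  have hdtop : LocCoh.depth R R ≠ ⊤ := by
    intro h
    rw [h] at h1
    exact hne h1
  obtain ⟨d, hd⟩ := ENat.ne_top_iff_exists.mp hdtop
  have hdim : ringKrullDim R = (d : ℕ) := by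
    rw [h1, ← hd]
    rfl
  have hpd := Groth.Agent.S0563.result R d hdim M
  have hlt : projectiveDimension (ModuleCat.of R M) < ((d + 1 : ℕ) : WithBot ℕ∞) :=
    projectiveDimension_lt_iff.2 hpd
  have hnb : projectiveDimension (ModuleCat.of R M) ≠ ⊥ := by
    intro h
    rw [projectiveDimension_eq_bot_iff, ModuleCat.isZero_of_iff_subsingleton] at h
    exact not_subsingleton M h
  obtain ⟨e', he'⟩ := WithBot.ne_bot_iff_exists.mp hnb
  have he'top : e' ≠ ⊤ := by
    rintro rfl
    rw [← he'] at hlt
    exact absurd hlt (by simp)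
  obtain ⟨e, he⟩ := ENat.ne_top_iff_exists.mp he'top
  have hpe : projectiveDimension (ModuleCat.of R M) = (e : ℕ) := by
    rw [← he', ← he]
    rfl
  have hAB := Groth.Agent.S0604.result R M e hpe
  rw [← hd] at hAB h
  have he0 : e = 0 := by
    cases hM : LocCoh.depth R M with
    | top =>
      rw [hM] at hAB
      simp at hAB
    | coe d' =>
      rw [hM] at hAB h
      have h2 : d = e + d' := by exact_mod_cast hAB
      have h3 : d ≤ d' := by exact_mod_cast h
      omega
  rw [he0] at hpe
  have hproj : Projective (ModuleCat.of R M) :=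
    ((projectiveDimension_eq_zero_iff _).1 (by rw [hpe]; rfl)).1
  haveI : Module.Projective R M := (IsProjective.iff_projective M).2 hproj
  exact Module.free_of_flat_of_isLocalRing

theorem exists_regular_param_pair (A : Type u) [CommRing A] [IsRegularLocalRing A]
    (h2 : (2 : WithBot ℕ∞) ≤ ringKrullDim A) :
    ∃ f a : A, f ∈ maximalIdeal A ∧ a ∈ maximalIdeal A ∧ IsSMulRegular A f ∧ RegMod f a A := by
  obtain ⟨rs, hlen, hrs, hreg⟩ :=
    Groth.Agent.Lib.Helper5.exists_isRegular_ofList_eq_maximalIdeal A
  rw [hlen] at h2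
  have h2' : 2 ≤ rs.length := by exact_mod_cast h2
  have hmem : ∀ r ∈ rs, r ∈ maximalIdeal A := fun r hr => hrs ▸ Ideal.subset_span hr
  match rs, h2', hmem, hreg with
  | f :: a :: rest, _, hmem, hreg =>
    have hw := hreg.toIsWeaklyRegular
    rw [RingTheory.Sequence.isWeaklyRegular_cons_iff,
      RingTheory.Sequence.isWeaklyRegular_cons_iff] at hw
    exact ⟨f, a, hmem f (by simp), hmem a (by simp), hw.1,
      regMod_of_isSMulRegular_quot hw.2.1⟩

/-- the base case of purity: dimension two. -/
theorem purity_dim_two (A : Type u) [CommRing A] [IsRegularLocalRing A]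
    (hdim : ringKrullDim A = (2 : ℕ)) (B : Type u) [CommRing B] [Algebra A B]
    (hB : PurityData A B) : Algebra.Etale A B := by
  haveI := hB.finite
  obtain ⟨f, a, hf, ha, hfreg, hfa⟩ := exists_regular_param_pair A (by rw [hdim]; rfl)
  have hfree : Module.Free A B := by
    rcases subsingleton_or_nontrivial B with hs | hn
    · exact Module.Free.of_subsingleton A B
    · obtain ⟨a₁, ha₁, b₁, hb₁, hreg₁, hab₁⟩ := hB.depth
      have h2 : (2 : ℕ∞) ≤ LocCoh.depth A B := two_le_depth ha₁ hb₁ hreg₁ hab₁
      apply free_of_depth_ge A B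
      refine le_trans ?_ h2
      have hcm := Groth.Agent.Lib.Helper5.isCohenMacaulayLocalRing_of_isRegularLocalRing A
      have h1 := hcm.supportDim_eq_depth
      rw [Module.supportDim_self_eq_ringKrullDim, hdim] at h1
      have : ((2 : ℕ∞) : WithBot ℕ∞) = ((LocCoh.depth A A : ℕ∞) : WithBot ℕ∞) := by
        rw [← h1]
        rfl
      exact (WithBot.coe_injective this).ge
  exact etale_of_free A B hfreg hfa (hB.diff hf) (hB.diff ha)

end Base

section Induction

/-- purity over complete regular local rings, by induction on the dimension. -/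
theorem purity_complete (n : ℕ) : ∀ (A : Type u) [CommRing A] [IsRegularLocalRing A]
    [IsAdicComplete (maximalIdeal A) A], ringKrullDim A = ((n + 2 : ℕ) : WithBot ℕ∞) →
    ∀ (B : Type u) [CommRing B] [Algebra A B], PurityData A B → Algebra.Etale A B := by
  induction n with
  | zero =>
    intro A _ _ _ hdim B _ _ hB
    exact purity_dim_two A hdim B hB
  | succ n ih =>
    intro A _ _ _ hdim B _ _ hB
    refine purity_step A ?_ ?_ B hB
    · rw [hdim]
      exact_mod_cast (by omega : 3 ≤ n + 1 + 2)
    · intro Λ _ _ _ hΛ R _ _ hR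
      refine ih Λ ?_ R hR
      obtain ⟨d, hd⟩ := Groth.Agent.Lib.Helper5.exists_nat_ringKrullDim_eq Λ
      rw [hd, hdim] at hΛ
      rw [hd]
      have h1 : d + 1 = n + 1 + 2 := by exact_mod_cast hΛ
      have h2 : d = n + 2 := by omega
      rw [h2]

end Induction

section BaseChange

variable {A : Type u} [CommRing A]

theorem isSMulRegular_tensor_of_flat (T : Type u) [CommRing T] [Algebra A T] [Module.Flat A T]
    {M : Type u} [AddCommGroup M] [Module A M] {a : A} (h : IsSMulRegular M a) :
    IsSMulRegular (T ⊗[A] M) a := by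
  have h1 : Function.Injective ((LinearMap.lsmul A M a).lTensor T) :=
    Module.Flat.lTensor_preserves_injective_linearMap _ h
  have h2 : ∀ z : T ⊗[A] M, (LinearMap.lsmul A M a).lTensor T z = a • z := by
    intro z
    induction z using TensorProduct.induction_on with
    | zero => simp
    | tmul t m => simp [TensorProduct.tmul_smul]
    | add z z' hz hz' => rw [map_add, hz, hz', smul_add]
  intro z z' hzz
  apply h1
  rw [h2, h2]
  exact hzz

variable [IsLocalRing A]

/-- flat local base change of the purity hypotheses. -/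
theorem PurityData.baseChange (T : Type u) [CommRing T] [IsLocalRing T] [Algebra A T]
    [Module.Flat A T] (hm : maximalIdeal T = (maximalIdeal A).map (algebraMap A T))
    {B : Type u} [CommRing B] [Algebra A B] (hB : PurityData A B) :
    PurityData T (T ⊗[A] B) := by
  haveI := hB.finite
  have hsm : ∀ (a : A) (z : T ⊗[A] B), algebraMap A T a • z = a • z :=
    fun a z => algebraMap_smul T a z
  have hmem : ∀ {a : A}, a ∈ maximalIdeal A → algebraMap A T a ∈ maximalIdeal T := fun ha => by
    rw [hm]
    exact Ideal.mem_map_of_mem _ ha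
  refine ⟨inferInstance, ?_, ?_, ?_⟩
  · obtain ⟨a, ha, b, hb, hreg, hab⟩ := hB.depth
    refine ⟨algebraMap A T a, hmem ha, algebraMap A T b, hmem hb, ?_, ?_⟩
    · intro z z' hzz
      apply isSMulRegular_tensor_of_flat T hreg
      simpa only [hsm] using hzz
    · have h1 : IsSMulRegular (T ⊗[A] QuotSMulTop a B) b :=
        isSMulRegular_tensor_of_flat T (isSMulRegular_quot_of_regMod hab)
      have h2 : IsSMulRegular (QuotSMulTop a (T ⊗[A] B)) b := by
        let e := QuotSMulTop.tensorQuotSMulTopEquivQuotSMulTop a T B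
        intro q q' hqq
        apply e.symm.injective
        apply h1
        show b • e.symm q = b • e.symm q'
        rw [← map_smul, ← map_smul]
        exact congrArg _ hqq
      have h3 : RegMod a b (T ⊗[A] B) := regMod_of_isSMulRegular_quot h2
      intro y z hyz
      rw [hsm, hsm] at hyz
      obtain ⟨w, hw⟩ := h3 y z hyz
      exact ⟨w, by rw [hsm]; exact hw⟩
  · rw [hm, Ideal.map_le_iff_le_comap]
    intro s hs
    obtain ⟨K, hK⟩ := hB.diff hs
    have := diffIdeal_transfer (Λ := T) (R := T ⊗[A] B)
      (Algebra.TensorProduct.includeRight : B →ₐ[A] T ⊗[A] B) (1 : T) (by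
      intro y
      rw [one_smul]
      induction y using TensorProduct.induction_on with
      | zero => simp
      | tmul t b =>
        have : t ⊗ₜ[A] b = t • ((1 : T) ⊗ₜ[A] b) := by
          rw [TensorProduct.smul_tmul', smul_eq_mul, mul_one]
        rw [this]
        exact Submodule.smul_mem _ _ (Submodule.subset_span ⟨b, rfl⟩)
      | add y y' hy hy' => exact Submodule.add_mem _ hy hy') hK
    rw [one_mul, map_pow] at this
    exact ⟨K, this⟩
  · rw [hm, Ideal.map_le_iff_le_comap]
    intro s hs
    obtain ⟨K, hK⟩ := hB.proj hs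
    have := projIdeal_baseChange T hK
    rw [map_pow] at this
    exact ⟨K, this⟩

end BaseChange

section Main

/-- **Algebraic purity**: a finite algebra over a regular local ring of dimension `≥ 2`, of
depth `≥ 2`, which is unramified and projective over the punctured spectrum, is étale. -/
theorem purity_algebraic (A : Type u) [CommRing A] [IsRegularLocalRing A]
    (h2 : (2 : WithBot ℕ∞) ≤ ringKrullDim A) (B : Type u) [CommRing B] [Algebra A B]
    (hB : PurityData A B) : Algebra.Etale A B := by
  haveI : IsRegularLocalRing (AdicCompletion (maximalIdeal A) A) :=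
    (Groth.Agent.Lib.Helper19.isRegularLocalRing_adicCompletion_iff A).mp inferInstance
  have hdim : ringKrullDim (AdicCompletion (maximalIdeal A) A) = ringKrullDim A :=
    Groth.Agent.Lib.Helper19.ringKrullDim_adicCompletion_maximalIdeal A
  haveI : Module.FaithfullyFlat A (AdicCompletion (maximalIdeal A) A) :=
    Groth.Agent.Lib.Helper19.faithfullyFlat_adicCompletion_of_le_jacobson A (maximalIdeal A)
      (IsLocalRing.maximalIdeal_le_jacobson ⊥)
  have hB' : PurityData (AdicCompletion (maximalIdeal A) A)
      (AdicCompletion (maximalIdeal A) A ⊗[A] B) :=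
    PurityData.baseChange _ AdicCompletion.maximalIdeal_eq_map hB
  obtain ⟨d, hd⟩ := Groth.Agent.Lib.Helper5.exists_nat_ringKrullDim_eq A
  rw [hd] at h2
  have h2' : 2 ≤ d := by exact_mod_cast h2
  obtain ⟨n, rfl⟩ := Nat.exists_eq_add_of_le' h2'
  haveI : Algebra.Etale (AdicCompletion (maximalIdeal A) A)
      (AdicCompletion (maximalIdeal A) A ⊗[A] B) :=
    purity_complete n _ (by rw [hdim, hd]) _ hB'
  exact Algebra.Etale.of_etale_tensorProduct_of_faithfullyFlat
    (AdicCompletion (maximalIdeal A) A)

end Main

end Groth.Agent.Lib.T2H3.Purity
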