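import Mathlib
import Groth.Agent.Lib.T2H3PurityL
import Groth.Agent.Lib.Helper28RegLoc

/-!
# A free submodule that is everything in codimension one is everything (lead)
-/

set_option autoImplicit false
set_option maxHeartbeats 400000
set_option linter.style.haveILetI false
set_option linter.unusedSectionVars false
set_option linter.unusedVariables false
universe u v w

noncomputable section

namespace Groth.Agent.Lib.LeadInr

open Groth.Agent.Lib.T2H3.Purity

/-- a "regular sequence of length two at `𝔭`", with denominators cleared. -/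
theorem depth_two_pair (R : Type u) [CommRing R] [IsRegularLocalRing R] (𝔭 : Ideal R) [𝔭.IsPrime]
    (h2 : 2 ≤ 𝔭.height) :
    ∃ x y : R, x ∈ 𝔭 ∧ y ∈ 𝔭 ∧ x ≠ 0 ∧
      ∀ α β : R, y * α = x * β → ∃ t : R, t ∉ 𝔭 ∧ ∃ γ : R, t * α = x * γ := by
  haveI : IsDomain R := Groth.Agent.Lib.Helper5.isDomain_of_isRegularLocalRing R
  haveI : IsRegularLocalRing (Localization.AtPrime 𝔭) :=
    Groth.Agent.Lib.Helper28.isRegularLocalRing_localization_of_isRegularLocalRing R 𝔭
  have hdim : (2 : WithBot ℕ∞) ≤ ringKrullDim (Localization.AtPrime 𝔭) := by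
    rw [IsLocalization.AtPrime.ringKrullDim_eq_height 𝔭 (Localization.AtPrime 𝔭)]
    have h3 : ((2 : ℕ∞) : WithBot ℕ∞) ≤ (𝔭.height : WithBot ℕ∞) := WithBot.coe_le_coe.mpr h2
    exact h3
  obtain ⟨f, a, hf, ha, hfreg, hfa⟩ := exists_regular_param_pair (Localization.AtPrime 𝔭) hdim
  obtain ⟨⟨x, u⟩, hxu⟩ := IsLocalization.surj 𝔭.primeCompl f
  obtain ⟨⟨y, v⟩, hyv⟩ := IsLocalization.surj 𝔭.primeCompl a
  simp only at hxu hyv
  have hinjS : Function.Injective (algebraMap R (Localization.AtPrime 𝔭)) :=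
    IsLocalization.injective (Localization.AtPrime 𝔭) (Ideal.primeCompl_le_nonZeroDivisors 𝔭)
  have hx : x ∈ 𝔭 := by
    rw [← IsLocalization.AtPrime.to_map_mem_maximal_iff (Localization.AtPrime 𝔭) 𝔭 x, ← hxu]
    exact Ideal.mul_mem_right _ _ hf
  have hy : y ∈ 𝔭 := by
    rw [← IsLocalization.AtPrime.to_map_mem_maximal_iff (Localization.AtPrime 𝔭) 𝔭 y, ← hyv]
    exact Ideal.mul_mem_right _ _ ha
  have hx0 : x ≠ 0 := by
    intro h0
    rw [h0, map_zero] at hxu
    have hu : IsUnit (algebraMap R (Localization.AtPrime 𝔭) u) :=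
      IsLocalization.map_units (Localization.AtPrime 𝔭) u
    have hf0 : f = 0 := by
      have := hu.mul_left_eq_zero.mp hxu
      exact this
    rw [hf0] at hfreg
    have h10 : (1 : Localization.AtPrime 𝔭) = 0 := hfreg (by simp)
    exact one_ne_zero h10
  refine ⟨x, y, hx, hy, hx0, ?_⟩
  intro α β hαβ
  have h1 : a • (algebraMap R (Localization.AtPrime 𝔭) v * algebraMap R _ α) =
      f • (algebraMap R (Localization.AtPrime 𝔭) u * algebraMap R _ β) := by
    rw [smul_eq_mul, smul_eq_mul, ← mul_assoc, ← mul_assoc, hyv, hxu, ← map_mul, ← map_mul, hαβ]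
  obtain ⟨w, hw⟩ := hfa _ _ h1
  obtain ⟨⟨γ, t⟩, hγt⟩ := IsLocalization.surj 𝔭.primeCompl w
  simp only at hγt
  refine ⟨v * t * u, ?_, γ, ?_⟩
  · exact (𝔭.primeCompl.mul_mem (𝔭.primeCompl.mul_mem v.2 t.2) u.2)
  · apply hinjS
    simp only [map_mul]
    rw [← hxu, ← hγt]
    rw [smul_eq_mul] at hw
    linear_combination (algebraMap R (Localization.AtPrime 𝔭) t *
      algebraMap R (Localization.AtPrime 𝔭) u) * hw

/-- a free submodule `M'` of a torsion-free module `M` over a regular local ring which agrees with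
`M` at all primes of height `≤ 1` is all of `M`. -/
theorem eq_top_of_codim_one (R : Type u) [CommRing R] [IsRegularLocalRing R]
    (M : Type v) [AddCommGroup M] [Module R M]
    (htf : ∀ (r : R) (m : M), r ≠ 0 → r • m = 0 → m = 0)
    (M' : Submodule R M) {ι : Type w} [Finite ι] (e : Module.Basis ι R M')
    (h1 : ∀ 𝔭 : Ideal R, 𝔭.IsPrime → 𝔭.height ≤ 1 → ∃ s : R, s ∉ 𝔭 ∧ ∀ a : M, s • a ∈ M') :
    M' = ⊤ := by
  classical
  by_contra hne
  haveI : Fintype ι := Fintype.ofFinite ι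
  haveI : Nontrivial (M ⧸ M') :=
    Submodule.Quotient.nontrivial_iff.mpr hne
  obtain ⟨𝔭, h𝔭⟩ := associatedPrimes.nonempty R (M ⧸ M')
  rw [AssociatedPrimes.mem_iff, isAssociatedPrime_iff] at h𝔭
  obtain ⟨hprime, q, hq⟩ := h𝔭
  obtain ⟨a, rfl⟩ := Submodule.Quotient.mk_surjective M' q
  have hmem : ∀ r : R, r ∈ 𝔭 ↔ r • a ∈ M' := by
    intro r
    rw [hq, Submodule.mem_colon_singleton, ← Submodule.Quotient.mk_smul, Submodule.mem_bot,
      Submodule.Quotient.mk_eq_zero]
  have hht : 2 ≤ 𝔭.height := by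
    by_contra hlt
    have hle : 𝔭.height ≤ 1 := by
      rw [not_le] at hlt
      simpa using hlt
    obtain ⟨s, hs, hsa⟩ := h1 𝔭 hprime hle
    exact hs ((hmem s).mpr (hsa a))
  obtain ⟨x, y, hx, hy, hx0, hxy⟩ := depth_two_pair R 𝔭 hht
  have hxa := (hmem x).mp hx
  have hya := (hmem y).mp hy
  have hcoef : ∀ k, y * e.repr ⟨x • a, hxa⟩ k = x * e.repr ⟨y • a, hya⟩ k := by
    intro k
    have h : y • (⟨x • a, hxa⟩ : M') = x • (⟨y • a, hya⟩ : M') :=
      Subtype.ext (by simp only [Submodule.coe_smul]; exact smul_comm y x a)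
    have h' : e.repr (y • (⟨x • a, hxa⟩ : M')) k = e.repr (x • (⟨y • a, hya⟩ : M')) k := by
      rw [h]
    rw [map_smul, map_smul, Finsupp.smul_apply, Finsupp.smul_apply, smul_eq_mul,
      smul_eq_mul] at h'
    exact h'
  choose t ht γ hγ using fun k => hxy _ _ (hcoef k)
  have hT : (∏ k, t k) ∉ 𝔭 := by
    intro hmemT
    obtain ⟨k, _, hk⟩ := (Ideal.IsPrime.prod_mem_iff (hp := hprime)).mp hmemT
    exact ht k hk
  have hTk : ∀ k, (∏ k', t k') * e.repr ⟨x • a, hxa⟩ k =
      x * ((∏ k' ∈ Finset.univ.erase k, t k') * γ k) := by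
    intro k
    rw [← Finset.mul_prod_erase Finset.univ t (Finset.mem_univ k)]
    linear_combination (∏ k' ∈ Finset.univ.erase k, t k') * hγ k
  have hkey : (∏ k, t k) • (⟨x • a, hxa⟩ : M') =
      x • ∑ k, ((∏ k' ∈ Finset.univ.erase k, t k') * γ k) • e k := by
    apply e.repr.injective
    ext k
    rw [map_smul, map_smul, Finsupp.smul_apply, Finsupp.smul_apply, e.repr_sum_self, smul_eq_mul,
      smul_eq_mul]
    exact hTk k
  have hkey' : x • ((∏ k, t k) • a -
      ((∑ k, ((∏ k' ∈ Finset.univ.erase k, t k') * γ k) • e k : M') : M)) = 0 := by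
    have h := congrArg (fun m : M' => (m : M)) hkey
    simp only [Submodule.coe_smul] at h
    rw [smul_sub, smul_comm x, h, sub_self]
  have hTa := htf x _ hx0 hkey'
  rw [sub_eq_zero] at hTa
  apply hT
  rw [hmem, hTa]
  exact Submodule.coe_mem _

end Groth.Agent.Lib.LeadInr
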