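import Mathlib
import Groth.Agent.Lib.LeadInrH
import Groth.Agent.Lib.LeadCopC

/-!
# Subalgebras generating in codimension one generate (lead)
-/

set_option autoImplicit false
set_option maxHeartbeats 400000
set_option linter.style.haveILetI false
set_option linter.unusedSectionVars false
set_option linter.unusedVariables false
universe u v w

noncomputable section

namespace Groth.Agent.Lib.LeadInr

open PiTensorProduct Module
open scoped TensorProduct

section Span

variable {R : Type u} [CommRing R] {A : Type v} [CommRing A] [Algebra R A] {n : ℕ}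
  (B : Fin n → Subalgebra R A) {κ : Fin n → Type} [∀ i, Fintype (κ i)]
  (b : Π i, Basis (κ i) R (B i))

/-- the product family. -/
def prodFam (p : Π i, κ i) : A := ∏ i, ((b i (p i) : B i) : A)

theorem prodFam_mem (p : Π i, κ i) : prodFam B b p ∈ ⨆ i, B i :=
  Subalgebra.prod_mem _ (fun i _ => (le_iSup B i) (b i (p i)).2)

theorem mulT_basis (p : Π i, κ i) :
    Groth.Agent.Lib.LeadCop.mulT B (Basis.piTensorProduct b p) = prodFam B b p := by
  rw [Basis.piTensorProduct_apply, Groth.Agent.Lib.LeadCop.mulT_tprod]
  rfl

theorem iSup_le_range_mulT : (⨆ i, B i) ≤ (Groth.Agent.Lib.LeadCop.mulT B).range := by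
  apply iSup_le
  intro i x hx
  exact ⟨_, Groth.Agent.Lib.LeadCop.mulT_single B i ⟨x, hx⟩⟩

theorem toSubmodule_iSup_eq_span :
    Subalgebra.toSubmodule (⨆ i, B i) = Submodule.span R (Set.range (prodFam B b)) := by
  apply le_antisymm
  · intro x hx
    obtain ⟨t, rfl⟩ := iSup_le_range_mulT B hx
    have ht : t ∈ Submodule.span R (Set.range (Basis.piTensorProduct b)) := by
      rw [Basis.span_eq]; exact Submodule.mem_top
    have := Submodule.mem_map_of_mem (f := (Groth.Agent.Lib.LeadCop.mulT B).toLinearMap) ht
    rw [Submodule.map_span, ← Set.range_comp] at this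
    have hfun : ((Groth.Agent.Lib.LeadCop.mulT B).toLinearMap ∘ (Basis.piTensorProduct b)) =
        prodFam B b := by
      funext p
      exact mulT_basis B b p
    rw [hfun] at this
    exact this
  · rw [Submodule.span_le]
    rintro _ ⟨p, rfl⟩
    exact prodFam_mem B b p

end Span

section Main

/-- free subalgebras `B_i` of total rank at most that of `A` which generate `A` at all primes of
height `≤ 1` of the regular local base generate `A`. -/
theorem iSup_eq_top_of_codim_one (R : Type u) [CommRing R] [IsRegularLocalRing R]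
    (A : Type v) [CommRing A] [IsDomain A] [Algebra R A] [Module.Finite R A]
    (hinj : Function.Injective (algebraMap R A)) {n : ℕ} (B : Fin n → Subalgebra R A)
    (hfree : ∀ i, Module.Free R (B i))
    (hrank : ∏ i, Module.finrank R (B i) ≤ Module.finrank R A)
    (h1 : ∀ 𝔭 : Ideal R, 𝔭.IsPrime → 𝔭.height ≤ 1 →
      ∃ s : R, s ∉ 𝔭 ∧ ∀ a : A, s • a ∈ ⨆ i, B i) :
    (⨆ i, B i) = ⊤ := by
  classical
  haveI : IsDomain R := Groth.Agent.Lib.Helper5.isDomain_of_isRegularLocalRing R
  haveI : IsNoetherianRing R := inferInstance
  haveI : IsNoetherian R A := isNoetherian_of_isNoetherianRing_of_finite R A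
  haveI hfin : ∀ i, Module.Finite R (B i) := fun i =>
    inferInstanceAs (Module.Finite R (Subalgebra.toSubmodule (B i)))
  let b : Π i, Basis (Fin (Module.finrank R (B i))) R (B i) := fun i => Module.finBasis R (B i)
  have hspan := toSubmodule_iSup_eq_span B b
  -- torsion-freeness
  have htf : ∀ (r : R) (m : A), r ≠ 0 → r • m = 0 → m = 0 := by
    intro r m hr hrm
    rw [Algebra.smul_def, mul_eq_zero] at hrm
    rcases hrm with h | h
    · exact absurd ((map_eq_zero_iff _ hinj).mp h) hr
    · exact h
  -- rank
  have hbot : (⊥ : Ideal R).IsPrime := Ideal.isPrime_bot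
  obtain ⟨s, hs, hsa⟩ := h1 ⊥ hbot (by rw [Ideal.height_bot]; exact zero_le_one)
  have hs0 : s ≠ 0 := fun h => hs (by rw [h]; exact Submodule.zero_mem _)
  have hsa' : ∀ a : A, s • a ∈ Submodule.span R (Set.range (prodFam B b)) := by
    intro a
    rw [← hspan]
    exact hsa a
  let φ : A →ₗ[R] Submodule.span R (Set.range (prodFam B b)) :=
    LinearMap.codRestrict _ (LinearMap.lsmul R A s) hsa'
  have hφ : Function.Injective φ := by
    intro x y hxy
    have h := congrArg Subtype.val hxy
    change s • x = s • y at h
    have h0 : s • (x - y) = 0 := by rw [smul_sub, h, sub_self]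
    exact sub_eq_zero.mp (htf s _ hs0 h0)
  have hrk : Module.finrank R A ≤
      Module.finrank R (Submodule.span R (Set.range (prodFam B b))) :=
    LinearMap.finrank_le_finrank_of_injective hφ
  have hcard : Fintype.card (Π i, Fin (Module.finrank R (B i))) ≤
      (Set.range (prodFam B b)).finrank R := by
    rw [Fintype.card_pi]
    simp only [Fintype.card_fin]
    exact hrank.trans hrk
  have hli : LinearIndependent R (prodFam B b) :=
    linearIndependent_iff_card_le_finrank_span.mpr hcard
  have htop := eq_top_of_codim_one R A htf (Submodule.span R (Set.range (prodFam B b)))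
    (Basis.span hli) (by
      intro 𝔭 h𝔭 hht
      obtain ⟨s, hs, hsa⟩ := h1 𝔭 h𝔭 hht
      refine ⟨s, hs, fun a => ?_⟩
      rw [← hspan]
      exact hsa a)
  rw [← hspan] at htop
  exact Algebra.toSubmodule_eq_top.mp htop

end Main

end Groth.Agent.Lib.LeadInr
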