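import Mathlib
import Groth.Agent.Lib.LeadInrG
import Groth.Agent.Lib.LeadInrD
import Groth.Agent.Lib.LeadInrE
import Groth.Agent.Lib.Helper5IntDim

/-!
# Galois ranks of invariant rings and uniform inertia over a height-one prime (lead)
-/

set_option autoImplicit false
set_option maxHeartbeats 400000
set_option linter.style.haveILetI false
set_option linter.unusedSectionVars false
set_option linter.unusedVariables false
universe u v w

noncomputable section

namespace Groth.Agent.Lib.LeadInr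

open scoped Pointwise

section Rank

variable {R : Type u} [CommRing R] {A : Type v} [CommRing A] [IsDomain A] [Algebra R A]
  {H : Type w} [Group H] [Finite H] [MulSemiringAction H A] [SMulCommClass H R A]
  [FaithfulSMul H A]

theorem isGaloisGroup_of_fix (hfix : ∀ a : A, (∀ h : H, h • a = a) → a ∈ Set.range (algebraMap R A)) :
    IsGaloisGroup H R A where
  faithful := inferInstance
  commutes := inferInstance
  isInvariant := ⟨hfix⟩

theorem card_eq_finrank_of_fix (hinj : Function.Injective (algebraMap R A))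
    (hfix : ∀ a : A, (∀ h : H, h • a = a) → a ∈ Set.range (algebraMap R A)) :
    Nat.card H = Module.finrank R A := by
  haveI := isGaloisGroup_of_fix hfix
  haveI : FaithfulSMul R A := (faithfulSMul_iff_algebraMap_injective R A).mpr hinj
  exact IsGaloisGroup.card_eq_finrank' H R A

theorem isGaloisGroup_quotient (hinj : Function.Injective (algebraMap R A))
    (hfix : ∀ a : A, (∀ h : H, h • a = a) → a ∈ Set.range (algebraMap R A))
    (N : Subgroup H) [N.Normal] :
    IsGaloisGroup (H ⧸ N) R (FixedPoints.subalgebra R A N) := by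
  haveI hG := isGaloisGroup_of_fix hfix
  haveI : FaithfulSMul R A := (faithfulSMul_iff_algebraMap_injective R A).mpr hinj
  haveI : FaithfulSMul (FixedPoints.subalgebra R A N) A :=
    (faithfulSMul_iff_algebraMap_injective _ A).mpr Subtype.val_injective
  haveI : Algebra.IsInvariant R A H := ⟨hfix⟩
  have hfixing := IsGaloisGroup.fixingSubgroup_range_algebraMap H R
    (FixedPoints.subalgebra R A N) A N
  refine ⟨⟨?_⟩, inferInstance, inferInstance⟩
  intro g₁ g₂
  induction g₁ using QuotientGroup.induction_on with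
  | H a =>
    induction g₂ using QuotientGroup.induction_on with
    | H b =>
      intro h
      rw [QuotientGroup.eq, ← hfixing, mem_fixingSubgroup_iff]
      rintro _ ⟨x, rfl⟩
      have hx := congrArg Subtype.val (h x)
      change a • (x : A) = b • (x : A) at hx
      change (a⁻¹ * b) • (x : A) = (x : A)
      rw [mul_smul, ← hx, inv_smul_smul]

theorem card_quotient_eq_finrank (hinj : Function.Injective (algebraMap R A))
    (hfix : ∀ a : A, (∀ h : H, h • a = a) → a ∈ Set.range (algebraMap R A))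
    (N : Subgroup H) [N.Normal] :
    Nat.card (H ⧸ N) = Module.finrank R (FixedPoints.subalgebra R A N) := by
  haveI := isGaloisGroup_quotient hinj hfix N
  haveI : FaithfulSMul R (FixedPoints.subalgebra R A N) := by
    rw [faithfulSMul_iff_algebraMap_injective]
    intro x y hxy
    apply hinj
    exact congrArg Subtype.val hxy
  exact IsGaloisGroup.card_eq_finrank' (H ⧸ N) R (FixedPoints.subalgebra R A N)

end Rank

section Uniform

variable {R : Type u} [CommRing R] [IsDomain R] [IsNoetherianRing R] {A : Type v} [CommRing A]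
  [IsDomain A] [Algebra R A] [Algebra.IsIntegral R A]
  {H : Type w} [Group H] [Finite H] [MulSemiringAction H A] [SMulCommClass H R A]
  [FaithfulSMul H A]

theorem inertia_bot_eq_bot : (⊥ : Ideal A).inertia H = ⊥ := by
  rw [eq_bot_iff]
  intro σ hσ
  rw [Subgroup.mem_bot]
  apply eq_of_smul_eq_smul (α := A)
  intro x
  have h : σ • x - x ∈ (⊥ : Ideal A) := hσ x
  rw [Ideal.mem_bot, sub_eq_zero] at h
  rw [h, one_smul]

theorem height_one_of_inertia_ne_bot (𝔭 : Ideal R) [𝔭.IsPrime] (h𝔭 : 𝔭.height ≤ 1)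
    (P : Ideal A) [P.IsPrime] (hP : P.comap (algebraMap R A) ≤ 𝔭) (hI : P.inertia H ≠ ⊥) :
    P.height = 1 ∧ P.comap (algebraMap R A) = 𝔭 := by
  have hP0 : P ≠ ⊥ := by
    intro h
    apply hI
    rw [h]
    exact inertia_bot_eq_bot
  have hle : P.height ≤ 1 :=
    (Groth.Agent.Lib.Helper5.height_le_height_under_of_isIntegral (A := R) P).trans
      ((Ideal.height_mono hP).trans h𝔭)
  have hne0 : P.height ≠ 0 := fun h => hP0 (Ideal.height_eq_zero_iff_eq_bot.mp h)
  have hq0 : P.comap (algebraMap R A) ≠ ⊥ := fun h => hP0 (Ideal.eq_bot_of_comap_eq_bot h)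
  have hq1 : 1 ≤ (P.comap (algebraMap R A)).height :=
    Order.one_le_iff_ne_zero.mpr (fun h => hq0 (Ideal.height_eq_zero_iff_eq_bot.mp h))
  refine ⟨le_antisymm hle (Order.one_le_iff_ne_zero.mpr hne0), ?_⟩
  exact Ideal.eq_of_le_of_height_le _ hP (h𝔭.trans hq1)

theorem exists_index_inertia_le
    (hfix : ∀ a : A, (∀ h : H, h • a = a) → a ∈ Set.range (algebraMap R A))
    (hcomm : ∀ g h : H, g * h = h * g) {n : ℕ} (hn : 0 < n) (Gi : Fin n → Subgroup H)
    (hMR3 : ∀ P : Ideal A, P.IsPrime → P.height = 1 → P.inertia H ≠ ⊥ → ∃ i, P.inertia H = Gi i)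
    (𝔭 : Ideal R) [𝔭.IsPrime] (h𝔭 : 𝔭.height ≤ 1) :
    ∃ j, ∀ P : Ideal A, P.IsPrime → P.comap (algebraMap R A) ≤ 𝔭 → P.inertia H ≤ Gi j := by
  haveI : Algebra.IsInvariant R A H := ⟨hfix⟩
  by_cases hex : ∃ P₀ : Ideal A, P₀.IsPrime ∧ P₀.comap (algebraMap R A) ≤ 𝔭 ∧ P₀.inertia H ≠ ⊥
  · obtain ⟨P₀, hP₀, hP₀le, hP₀I⟩ := hex
    obtain ⟨hht₀, hcom₀⟩ := height_one_of_inertia_ne_bot 𝔭 h𝔭 P₀ hP₀le hP₀I
    obtain ⟨j, hj⟩ := hMR3 P₀ hP₀ hht₀ hP₀I
    refine ⟨j, fun P hP hPle => ?_⟩
    by_cases hI : P.inertia H = ⊥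
    · rw [hI]; exact bot_le
    · obtain ⟨hht, hcom⟩ := height_one_of_inertia_ne_bot 𝔭 h𝔭 P hPle hI
      obtain ⟨h, rfl⟩ := Algebra.IsInvariant.exists_smul_of_under_eq R A H P₀ P
        (by rw [Ideal.under_def, Ideal.under_def, hcom₀, hcom])
      intro σ hσ
      rw [← hj]
      have h1 := conj_mem_inertia_smul h⁻¹ σ (h • P₀) hσ
      rw [inv_smul_smul, inv_inv, hcomm h⁻¹ σ, mul_assoc, inv_mul_cancel, mul_one] at h1
      exact h1
  · push Not at hex
    refine ⟨⟨0, hn⟩, fun P hP hPle => ?_⟩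
    rw [hex P hP hPle]
    exact bot_le

end Uniform

end Groth.Agent.Lib.LeadInr
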