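import Mathlib
import Groth.Agent.Lib.LeadInrJ
import Groth.Agent.Lib.LeadInrA

/-!
# Generation in codimension one by the invariant rings `A^{G_i^⊥}` (lead)
-/

set_option autoImplicit false
set_option maxHeartbeats 400000
set_option linter.style.haveILetI false
set_option linter.unusedSectionVars false
set_option linter.unusedVariables false
universe u v w

noncomputable section

namespace Groth.Agent.Lib.LeadInr

open Groth.Agent.Lib.LeadWQ
open scoped Pointwise

section Stable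

variable {R : Type u} [CommRing R] {A : Type v} [CommRing A] [Algebra R A]
  {K : Type w} [Group K] [MulSemiringAction K A]

/-- the action on a stable subalgebra. -/
@[reducible] def stableAction (S : Subalgebra R A) (hS : ∀ (k : K) (a : A), a ∈ S → k • a ∈ S) :
    MulSemiringAction K S where
  smul k a := ⟨k • a.1, hS k a.1 a.2⟩
  one_smul a := Subtype.ext (one_smul _ _)
  mul_smul g h a := Subtype.ext (mul_smul _ _ _)
  smul_zero g := Subtype.ext (smul_zero _)
  smul_add g a b := Subtype.ext (smul_add _ _ _)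
  smul_one g := Subtype.ext (smul_one _)
  smul_mul g a b := Subtype.ext (smul_mul' _ _ _)

theorem smul_mem_iSup_fixedPoints {H : Type w} [Group H] [MulSemiringAction H A]
    [SMulCommClass H R A] (hcomm : ∀ g h : H, g * h = h * g) {ι : Type*} (N : ι → Subgroup H)
    (h : H) (a : A) (ha : a ∈ ⨆ i, FixedPoints.subalgebra R A ↥(N i)) :
    h • a ∈ ⨆ i, FixedPoints.subalgebra R A ↥(N i) := by
  have hle : (⨆ i, FixedPoints.subalgebra R A ↥(N i)) ≤
      (⨆ i, FixedPoints.subalgebra R A ↥(N i)).comap (MulSemiringAction.toAlgHom R A h) := by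
    apply iSup_le
    intro i x hx
    rw [Subalgebra.mem_comap]
    apply (le_iSup (fun i => FixedPoints.subalgebra R A ↥(N i)) i)
    intro k
    change (k : H) • (h • x) = h • x
    rw [← mul_smul, hcomm, mul_smul]
    congr 1
    exact hx k
  exact hle ha

end Stable

section Datum

variable {R : Type u} [CommRing R] {B : Type v} [CommRing B] [Algebra R B]
  {G : Type w} [Group G] [Fintype G] [MulSemiringAction G B]

/-- the Galois datum from move-ideal membership. -/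
theorem exists_galois_datum_of_move (𝔭 : Ideal R) [𝔭.IsPrime]
    (hmove : ∀ τ : G, τ ≠ 1 → ∃ t : R, t ∉ 𝔭 ∧ algebraMap R B t ∈ moveIdeal (A := B) τ) :
    ∃ (s : R) (n : ℕ) (x y : Fin n → B), s ∉ 𝔭 ∧ (∑ j, x j * y j = algebraMap R B s) ∧
      ∀ σ : G, σ ≠ 1 → ∑ j, x j * σ • y j = 0 := by
  classical
  have hex : ∀ τ : G, ∃ t : R, t ∉ 𝔭 ∧ (τ ≠ 1 → algebraMap R B t ∈ moveIdeal (A := B) τ) := by
    intro τ
    by_cases hτ : τ = 1
    · exact ⟨1, fun h => (Ideal.IsPrime.ne_top ‹_›) ((Ideal.eq_top_iff_one _).mpr h),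
        fun h => absurd hτ h⟩
    · obtain ⟨t, ht, htm⟩ := hmove τ hτ
      exact ⟨t, ht, fun _ => htm⟩
  choose t ht htm using hex
  obtain ⟨F, hF, hF1, hFσ⟩ := exists_indicator (A := B) (G := G)
    (fun τ => algebraMap R B (t τ)) htm
  obtain ⟨n, x, y, hs, hσ⟩ := exists_strong_dual_basis _ F hF hF1 hFσ
  refine ⟨∏ τ ∈ Finset.univ.erase (1 : G), t τ, n, x, y, ?_, ?_, hσ⟩
  · intro hmem
    obtain ⟨τ, _, hτ⟩ := (Ideal.IsPrime.prod_mem_iff (hp := ‹𝔭.IsPrime›)).mp hmem
    exact ht τ hτ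
  · rw [hs, map_prod]

end Datum

section Quot

variable {R : Type u} [CommRing R] {A : Type v} [CommRing A] [Algebra R A]
  {H : Type w} [Group H] [Finite H] [MulSemiringAction H A] [SMulCommClass H R A]

/-- if all inertia groups over generizations of `𝔭` lie in `K' ≤ N`, then `H ⧸ N` acts on `A^N`
without inertia over generizations of `𝔭`. -/
theorem inertia_quotient_eq_bot (N : Subgroup H) [N.Normal] (𝔭 : Ideal R)
    (K' : Subgroup H) (hK' : K' ≤ N)
    (hj : ∀ P : Ideal A, P.IsPrime → P.comap (algebraMap R A) ≤ 𝔭 → P.inertia H ≤ K')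
    (Q : Ideal (FixedPoints.subalgebra R A N)) (hQ : Q.IsPrime)
    (hQ𝔭 : Q.comap (algebraMap R (FixedPoints.subalgebra R A N)) ≤ 𝔭) :
    Q.inertia (H ⧸ N) = ⊥ := by
  haveI := isInvariant_fixedPoints (R := R) (A := A) N
  haveI : Algebra.IsIntegral (FixedPoints.subalgebra R A N) A :=
    Algebra.IsInvariant.isIntegral (FixedPoints.subalgebra R A N) A N
  obtain ⟨P, _, hPprime, hPQ⟩ := Ideal.exists_ideal_over_prime_of_isIntegral Q (⊥ : Ideal A)
    (Ideal.comap_bot_le_of_injective _ Subtype.val_injective)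
  rw [eq_bot_iff]
  intro γ hγ
  obtain ⟨g, rfl, hg⟩ := exists_mem_inertia_of_mem_inertia_quotient N Q P hPQ γ hγ
  have hPR : P.comap (algebraMap R A) ≤ 𝔭 := by
    have h1 : P.comap (algebraMap R A) =
        Q.comap (algebraMap R (FixedPoints.subalgebra R A N)) := by
      rw [← hPQ, Ideal.comap_comap]
      rfl
    rw [h1]
    exact hQ𝔭
  have hgN : g ∈ N := hK' (hj P hPprime hPR hg)
  rw [Subgroup.mem_bot, QuotientGroup.eq_one_iff]
  exact hgN

end Quot

section CodimOne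

/-- generation in codimension one. -/
theorem codim_one_generation (p : ℕ) (R : Type u) [CommRing R] [IsDomain R]
    [IsNoetherianRing R] (A : Type v) [CommRing A] [IsDomain A] [Algebra R A] [Module.Finite R A]
    (H : Type w) [Group H] [Finite H] [MulSemiringAction H A] [SMulCommClass H R A]
    [FaithfulSMul H A]
    (hfix : ∀ a : A, (∀ h : H, h • a = a) → a ∈ Set.range (algebraMap R A))
    (hcomm : ∀ g h : H, g * h = h * g)
    (n : ℕ) (hn : 0 < n) (hcard : Nat.card H = p ^ n) (Gi : Fin n → Subgroup H)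
    (hGi : ∀ i, Nat.card (Gi i) = p) (hsup : (⨆ i, Gi i) = ⊤)
    (hMR3 : ∀ P : Ideal A, P.IsPrime → P.height = 1 → P.inertia H ≠ ⊥ → ∃ i, P.inertia H = Gi i)
    (𝔭 : Ideal R) [𝔭.IsPrime] (h𝔭 : 𝔭.height ≤ 1) :
    ∃ s : R, s ∉ 𝔭 ∧ ∀ a : A, s • a ∈ ⨆ i, FixedPoints.subalgebra R A ↥(Nsub Gi i) := by
  classical
  haveI : Algebra.IsIntegral R A := Algebra.IsIntegral.of_finite R A
  obtain ⟨j, hj⟩ := exists_index_inertia_le hfix hcomm hn Gi hMR3 𝔭 h𝔭
  have hstab : ∀ (k : ↥(Nsub Gi j)) (a : A),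
      a ∈ (⨆ i, FixedPoints.subalgebra R A ↥(Nsub Gi i)) →
      k • a ∈ (⨆ i, FixedPoints.subalgebra R A ↥(Nsub Gi i)) :=
    fun k a ha => smul_mem_iSup_fixedPoints hcomm (fun i => Nsub Gi i) (k : H) a ha
  letI act : MulSemiringAction ↥(Nsub Gi j) ↥(⨆ i, FixedPoints.subalgebra R A ↥(Nsub Gi i)) :=
    stableAction _ hstab
  haveI : Fintype ↥(Nsub Gi j) := Fintype.ofFinite _
  have hmove : ∀ τ : ↥(Nsub Gi j), τ ≠ 1 → ∃ t : R, t ∉ 𝔭 ∧
      algebraMap R ↥(⨆ i, FixedPoints.subalgebra R A ↥(Nsub Gi i)) t ∈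
        moveIdeal (A := ↥(⨆ i, FixedPoints.subalgebra R A ↥(Nsub Gi i))) τ := by
    intro τ hτ1
    have hτ1' : (τ : H) ≠ 1 := fun h => hτ1 (Subtype.ext h)
    obtain ⟨i, hij, hτi⟩ := exists_notMem_Nsub Gi hcomm p hcard hGi hsup j (τ : H) τ.2 hτ1'
    haveI : (Nsub Gi i).Normal := normal_of_comm hcomm _
    haveI : Fintype (H ⧸ Nsub Gi i) := Fintype.ofFinite _
    have hγ : ((τ : H) : H ⧸ Nsub Gi i) ≠ 1 := by
      rw [Ne, QuotientGroup.eq_one_iff]
      exact hτi
    have hram : ∀ Q : Ideal (FixedPoints.subalgebra R A ↥(Nsub Gi i)), Q.IsPrime →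
        Q.comap (algebraMap R (FixedPoints.subalgebra R A ↥(Nsub Gi i))) ≤ 𝔭 →
        Q.inertia (H ⧸ Nsub Gi i) = ⊥ :=
      fun Q hQ hQ𝔭 => inertia_quotient_eq_bot (Nsub Gi i) 𝔭 (Gi j) (le_Nsub Gi (Ne.symm hij)) hj
        Q hQ hQ𝔭
    obtain ⟨t, ht, htm⟩ := exists_notMem_mem_moveIdeal 𝔭 hram _ hγ
    refine ⟨t, ht, ?_⟩
    let ι : FixedPoints.subalgebra R A ↥(Nsub Gi i) →ₐ[R]
        ↥(⨆ i, FixedPoints.subalgebra R A ↥(Nsub Gi i)) :=
      Subalgebra.inclusion (le_iSup (fun i => FixedPoints.subalgebra R A ↥(Nsub Gi i)) i)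
    have hmap : (moveIdeal (A := FixedPoints.subalgebra R A ↥(Nsub Gi i))
        ((τ : H) : H ⧸ Nsub Gi i)).map ι.toRingHom ≤
        moveIdeal (A := ↥(⨆ i, FixedPoints.subalgebra R A ↥(Nsub Gi i))) τ := by
      rw [moveIdeal, Ideal.map_span, Ideal.span_le]
      rintro _ ⟨_, ⟨b, rfl⟩, rfl⟩
      refine Ideal.subset_span ⟨ι b, ?_⟩
      apply Subtype.ext
      rfl
    have h1 := hmap (Ideal.mem_map_of_mem ι.toRingHom htm)
    have h2 : ι.toRingHom (algebraMap R (FixedPoints.subalgebra R A ↥(Nsub Gi i)) t) =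
        algebraMap R ↥(⨆ i, FixedPoints.subalgebra R A ↥(Nsub Gi i)) t := ι.commutes t
    rw [h2] at h1
    exact h1
  obtain ⟨s, m, x, y, hs, hxy, hσ⟩ := exists_galois_datum_of_move 𝔭 hmove
  refine ⟨s, hs, fun a => ?_⟩
  have hxy' : ∑ k, (x k : A) * (y k : A) = algebraMap R A s := by
    have h := congrArg Subtype.val hxy
    simpa using h
  have hσ' : ∀ σ : ↥(Nsub Gi j), σ ≠ 1 → ∑ k, (x k : A) * σ • (y k : A) = 0 := by
    intro σ hσ1
    have h := congrArg Subtype.val (hσ σ hσ1)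
    rw [AddSubmonoidClass.coe_finsetSum] at h
    exact h
  have hform := dual_basis_formula (B := A) (G := ↥(Nsub Gi j)) (algebraMap R A s)
    (fun k => (x k : A)) (fun k => (y k : A)) hxy' hσ' a
  rw [Algebra.smul_def, ← hform]
  apply Subalgebra.sum_mem
  intro k _
  apply Subalgebra.mul_mem _ (x k).2
  apply (le_iSup (fun i => FixedPoints.subalgebra R A ↥(Nsub Gi i)) j)
  intro τ
  exact sum_smul_invariant _ τ

end CodimOne

end Groth.Agent.Lib.LeadInr
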