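import Mathlib
import Groth.Agent.Lib.LeadInrI
import Groth.Agent.Lib.LeadInrK

/-!
# The invariant rings `A^{G_i^⊥}` generate `A` (lead)
-/

set_option autoImplicit false
set_option maxHeartbeats 400000
set_option linter.style.haveILetI false
set_option linter.unusedSectionVars false
set_option linter.unusedVariables false
universe u v w

noncomputable section

namespace Groth.Agent.Lib.LeadInr

/-- the invariant rings of the complementary subgroups generate. -/
theorem iSup_fixedPoints_complement_eq_top (p : ℕ) (R : Type u) [CommRing R]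
    [IsRegularLocalRing R] (A : Type v) [CommRing A] [IsDomain A] [Algebra R A]
    [Module.Finite R A] (hinj : Function.Injective (algebraMap R A))
    (H : Type w) [Group H] [Finite H] [MulSemiringAction H A] [SMulCommClass H R A]
    [FaithfulSMul H A]
    (hfix : ∀ a : A, (∀ h : H, h • a = a) → a ∈ Set.range (algebraMap R A))
    (hcomm : ∀ g h : H, g * h = h * g)
    (n : ℕ) (hcard : Nat.card H = p ^ n) (Gi : Fin n → Subgroup H)
    (hGi : ∀ i, Nat.card (Gi i) = p) (hsup : (⨆ i, Gi i) = ⊤)
    (hMR3 : ∀ P : Ideal A, P.IsPrime → P.height = 1 → P.inertia H ≠ ⊥ → ∃ i, P.inertia H = Gi i)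
    (hMR4 : ∀ i, Module.Free R (FixedPoints.subalgebra R A ↥(Nsub Gi i))) :
    (⨆ i, FixedPoints.subalgebra R A ↥(Nsub Gi i)) = ⊤ := by
  haveI : IsDomain R := Groth.Agent.Lib.Helper5.isDomain_of_isRegularLocalRing R
  haveI hnormal : ∀ i, (Nsub Gi i).Normal := fun i => normal_of_comm hcomm _
  rcases Nat.eq_zero_or_pos n with rfl | hn
  · rw [eq_top_iff]
    intro a _
    have hH : Nat.card H = 1 := by rw [hcard, pow_zero]
    haveI : Subsingleton H := (Nat.card_eq_one_iff_unique.mp hH).1
    obtain ⟨r, rfl⟩ := hfix a (fun h => by rw [Subsingleton.elim h 1, one_smul])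
    exact Subalgebra.algebraMap_mem _ r
  · apply iSup_eq_top_of_codim_one R A hinj (fun i => FixedPoints.subalgebra R A ↥(Nsub Gi i))
      hMR4 ?_ ?_
    · rw [← card_eq_finrank_of_fix hinj hfix, hcard]
      calc ∏ i, Module.finrank R (FixedPoints.subalgebra R A ↥(Nsub Gi i))
          = ∏ i, Nat.card (H ⧸ Nsub Gi i) := by
            apply Finset.prod_congr rfl
            intro i _
            exact (card_quotient_eq_finrank hinj hfix (Nsub Gi i)).symm
        _ ≤ ∏ i : Fin n, p :=
            Finset.prod_le_prod (fun i _ => Nat.zero_le _)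
              (fun i _ => card_quotient_le Gi p hsup hGi i)
        _ = p ^ n := by simp
    · intro 𝔭 h𝔭 hht
      haveI := h𝔭
      exact codim_one_generation p R A H hfix hcomm n hn hcard Gi hGi hsup hMR3 𝔭 hht

end Groth.Agent.Lib.LeadInr
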