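import Mathlib
import Groth.Prelude.Def_CotT2

/-!
# Jacobi–Zariski sequence for the cotangent functors: function-level dictionary

For a presentation `P` of `B` over `A` (ring `S = A[x]`, free module `F`, relation module `Q`) and a `B`-module `M`,
`B`-linear maps out of `L₀`, `L₁`, `L₂` are described by functions on `S`, `F`, `Q`:
`dv ψ r = ψ (1 ⊗ dr)`, `v1 χ x = χ (1 ⊗ x)`, `v2 ψ q = ψ [1 ⊗ q]`.
-/

set_option autoImplicit false
set_option maxHeartbeats 400000
set_option linter.style.haveILetI false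
set_option linter.unusedSectionVars false
set_option linter.unusedVariables false

universe u v w t u' v' w' t' m

open TensorProduct

namespace Groth.Agent.Lib.LeadJZ

open CotT

noncomputable section

section Dict

variable {A : Type u} {B : Type v} {ι : Type w} {σ : Type t}
variable [CommRing A] [CommRing B] [Algebra A B]
variable (P : Algebra.Presentation A B ι σ)
variable {M : Type m} [AddCommGroup M] [Module B M]

/-- the structure map `S → B` -/
abbrev bar (r : P.toExtension.Ring) : B := algebraMap P.toExtension.Ring B r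

/-! ### `L₀` -/

/-- `dv ψ r = ψ (1 ⊗ dr)` -/
def dv (ψ : L0 P →ₗ[B] M) (r : P.toExtension.Ring) : M :=
  ψ ((1 : B) ⊗ₜ[P.toExtension.Ring] KaehlerDifferential.D A P.toExtension.Ring r)

/-- derivation-like functions `S → M` -/
structure IsDer (δ : P.toExtension.Ring → M) : Prop where
  add : ∀ r s, δ (r + s) = δ r + δ s
  mul : ∀ r s, δ (r * s) = bar P r • δ s + bar P s • δ r
  alg : ∀ a : A, δ (algebraMap A P.toExtension.Ring a) = 0

lemma one_tmul_smul {N : Type*} [AddCommGroup N] [Module P.toExtension.Ring N]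
    (r : P.toExtension.Ring) (x : N) :
    (1 : B) ⊗ₜ[P.toExtension.Ring] (r • x) = bar P r • ((1 : B) ⊗ₜ[P.toExtension.Ring] x) := by
  rw [TensorProduct.tmul_smul, ← algebraMap_smul B r ((1 : B) ⊗ₜ[P.toExtension.Ring] x)]

lemma isDer_dv (ψ : L0 P →ₗ[B] M) : IsDer P (dv P ψ) where
  add r s := by
    unfold dv
    rw [map_add, TensorProduct.tmul_add, map_add]
  mul r s := by
    unfold dv
    rw [Derivation.leibniz, TensorProduct.tmul_add, one_tmul_smul, one_tmul_smul, map_add,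
      map_smul, map_smul]
  alg a := by
    unfold dv
    rw [Derivation.map_algebraMap, TensorProduct.tmul_zero, map_zero]

variable {P} in
lemma IsDer.zero {δ : P.toExtension.Ring → M} (h : IsDer P δ) : δ 0 = 0 := by
  have := h.alg 0
  rwa [map_zero] at this

variable {P} in
lemma IsDer.ext {δ δ' : P.toExtension.Ring → M} (h : IsDer P δ) (h' : IsDer P δ')
    (hX : ∀ i, δ (MvPolynomial.X i) = δ' (MvPolynomial.X i)) : ∀ r, δ r = δ' r := by
  intro r
  induction r using MvPolynomial.induction_on with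
  | C a =>
    have e : (MvPolynomial.C a : P.toExtension.Ring) = algebraMap A P.toExtension.Ring a := rfl
    rw [e, h.alg, h'.alg]
  | add p q hp hq =>
    have e1 := h.add p q
    have e2 := h'.add p q
    rw [hp, hq] at e1
    exact e1.trans e2.symm
  | mul_X p i hp =>
    have e1 := h.mul p (MvPolynomial.X i)
    have e2 := h'.mul p (MvPolynomial.X i)
    rw [hp, hX] at e1
    exact e1.trans e2.symm

lemma L0_ext {ψ ψ' : L0 P →ₗ[B] M}
    (h : ∀ i, dv P ψ (MvPolynomial.X i) = dv P ψ' (MvPolynomial.X i)) : ψ = ψ' := by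
  refine P.cotangentSpaceBasis.ext fun i => ?_
  rw [Algebra.Generators.cotangentSpaceBasis_apply]
  exact h i

lemma exists_L0 (c : ι → M) : ∃ ψ : L0 P →ₗ[B] M, ∀ i, dv P ψ (MvPolynomial.X i) = c i := by
  refine ⟨P.cotangentSpaceBasis.constr ℤ c, fun i => ?_⟩
  have := P.cotangentSpaceBasis.constr_basis ℤ c i
  rw [Algebra.Generators.cotangentSpaceBasis_apply] at this
  exact this

lemma exists_L0_of_isDer {δ : P.toExtension.Ring → M} (hδ : IsDer P δ) :
    ∃ ψ : L0 P →ₗ[B] M, ∀ r, dv P ψ r = δ r := by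
  obtain ⟨ψ, hψ⟩ := exists_L0 P (fun i => δ (MvPolynomial.X i))
  exact ⟨ψ, (isDer_dv P ψ).ext hδ hψ⟩

lemma dv_add' (ψ ψ' : L0 P →ₗ[B] M) (r : P.toExtension.Ring) :
    dv P (ψ + ψ') r = dv P ψ r + dv P ψ' r := rfl

lemma dv_sub' (ψ ψ' : L0 P →ₗ[B] M) (r : P.toExtension.Ring) :
    dv P (ψ - ψ') r = dv P ψ r - dv P ψ' r := rfl

lemma dv_zero' (r : P.toExtension.Ring) : dv P (0 : L0 P →ₗ[B] M) r = 0 := rfl

/-! ### `L₁` -/

/-- `v1 χ x = χ (1 ⊗ x)` -/
def v1 (χ : L1 P →ₗ[B] M) (x : relMod P) : M := χ ((1 : B) ⊗ₜ[P.toExtension.Ring] x)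

lemma v1_add (χ : L1 P →ₗ[B] M) (x y : relMod P) : v1 P χ (x + y) = v1 P χ x + v1 P χ y := by
  unfold v1
  rw [TensorProduct.tmul_add, map_add]

lemma v1_zero (χ : L1 P →ₗ[B] M) : v1 P χ 0 = 0 := by
  unfold v1
  rw [TensorProduct.tmul_zero, map_zero]

lemma v1_smul (χ : L1 P →ₗ[B] M) (r : P.toExtension.Ring) (x : relMod P) :
    v1 P χ (r • x) = bar P r • v1 P χ x := by
  unfold v1
  rw [one_tmul_smul, map_smul]

lemma v1_sub (χ : L1 P →ₗ[B] M) (x y : relMod P) : v1 P χ (x - y) = v1 P χ x - v1 P χ y := by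
  unfold v1
  rw [TensorProduct.tmul_sub, map_sub]

lemma L1_ext {χ χ' : L1 P →ₗ[B] M}
    (h : ∀ s, v1 P χ (Finsupp.single s 1) = v1 P χ' (Finsupp.single s 1)) : χ = χ' := by
  refine (L1basis P).ext fun s => ?_
  rw [L1basis_apply]
  exact h s

lemma exists_L1 (c : σ → M) :
    ∃ χ : L1 P →ₗ[B] M, ∀ s, v1 P χ (Finsupp.single s 1) = c s := by
  refine ⟨(L1basis P).constr ℤ c, fun s => ?_⟩
  have := (L1basis P).constr_basis ℤ c s
  rw [L1basis_apply] at this
  exact this

lemma v1_eq_of_single {χ : L1 P →ₗ[B] M} {φ : relMod P → M}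
    (hadd : ∀ x y, φ (x + y) = φ x + φ y)
    (hsmul : ∀ (r : P.toExtension.Ring) x, φ (r • x) = bar P r • φ x)
    (h : ∀ s, v1 P χ (Finsupp.single s 1) = φ (Finsupp.single s 1)) (x : relMod P) :
    v1 P χ x = φ x := by
  have h0 : φ 0 = 0 := by
    have := hsmul 0 0
    rw [zero_smul] at this
    rw [this]
    show algebraMap P.toExtension.Ring B 0 • φ 0 = 0
    rw [map_zero, zero_smul]
  induction x using Finsupp.induction_linear with
  | zero => rw [v1_zero, h0]
  | add x y hx hy => rw [v1_add, hadd, hx, hy]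
  | single s r =>
    have e : (Finsupp.single s r : relMod P) = r • Finsupp.single s 1 := by
      rw [Finsupp.smul_single, smul_eq_mul, mul_one]
    rw [e, v1_smul, hsmul, h]

lemma exists_L1_of_fun {φ : relMod P → M}
    (hadd : ∀ x y, φ (x + y) = φ x + φ y)
    (hsmul : ∀ (r : P.toExtension.Ring) x, φ (r • x) = bar P r • φ x) :
    ∃ χ : L1 P →ₗ[B] M, ∀ x, v1 P χ x = φ x := by
  obtain ⟨χ, hχ⟩ := exists_L1 P (fun s => φ (Finsupp.single s 1))
  exact ⟨χ, v1_eq_of_single P hadd hsmul hχ⟩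

lemma v1_add' (χ χ' : L1 P →ₗ[B] M) (x : relMod P) :
    v1 P (χ + χ') x = v1 P χ x + v1 P χ' x := rfl

lemma v1_sub' (χ χ' : L1 P →ₗ[B] M) (x : relMod P) :
    v1 P (χ - χ') x = v1 P χ x - v1 P χ' x := rfl

lemma v1_d1Star (ψ : L0 P →ₗ[B] M) (x : relMod P) :
    v1 P (d1Star P M ψ) x = dv P ψ (jmap P x) := by
  unfold v1 dv
  rw [d1Star_apply, LinearMap.comp_apply, d1_tmul, one_smul]

/-! ### `L₂` -/

/-- `v2 ψ q = ψ [1 ⊗ q]` -/
def v2 (ψ : L2 P →ₗ[B] M) (q : relKer P) : M :=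
  ψ (Submodule.Quotient.mk ((1 : B) ⊗ₜ[P.toExtension.Ring] q))

lemma v2_add (ψ : L2 P →ₗ[B] M) (q q' : relKer P) : v2 P ψ (q + q') = v2 P ψ q + v2 P ψ q' := by
  unfold v2
  rw [TensorProduct.tmul_add, Submodule.Quotient.mk_add, map_add]

lemma v2_smul (ψ : L2 P →ₗ[B] M) (r : P.toExtension.Ring) (q : relKer P) :
    v2 P ψ (r • q) = bar P r • v2 P ψ q := by
  unfold v2
  rw [one_tmul_smul P r q, Submodule.Quotient.mk_smul, map_smul]

lemma v2_triv (ψ : L2 P →ₗ[B] M) (q : relKer P) (hq : (q : relMod P) ∈ trivRel P) :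
    v2 P ψ q = 0 := by
  unfold v2
  have : (Submodule.Quotient.mk ((1 : B) ⊗ₜ[P.toExtension.Ring] q) : L2 P) = 0 := by
    rw [Submodule.Quotient.mk_eq_zero]
    exact ⟨(1 : B) ⊗ₜ ⟨q, hq⟩, rfl⟩
  rw [this, map_zero]

lemma L2_ext {ψ ψ' : L2 P →ₗ[B] M} (h : ∀ q, v2 P ψ q = v2 P ψ' q) : ψ = ψ' := by
  apply Submodule.linearMap_qext
  refine LinearMap.ext fun z => ?_
  induction z using TensorProduct.induction_on with
  | zero => rw [map_zero, map_zero]
  | add x y hx hy => rw [map_add, map_add, hx, hy]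
  | tmul b q =>
  show ψ (Submodule.Quotient.mk (b ⊗ₜ q)) = ψ' (Submodule.Quotient.mk (b ⊗ₜ q))
  have e : (Submodule.Quotient.mk (b ⊗ₜ[P.toExtension.Ring] q) : L2 P) =
      b • Submodule.Quotient.mk ((1 : B) ⊗ₜ[P.toExtension.Ring] q) := by
    rw [← Submodule.Quotient.mk_smul, TensorProduct.smul_tmul', smul_eq_mul, mul_one]
  rw [e, map_smul, map_smul]
  exact congrArg _ (h q)

lemma exists_L2_of_fun {g : relKer P → M}
    (hadd : ∀ x y, g (x + y) = g x + g y)
    (hsmul : ∀ (r : P.toExtension.Ring) x, g (r • x) = bar P r • g x)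
    (htriv : ∀ q : relKer P, (q : relMod P) ∈ trivRel P → g q = 0) :
    ∃ ψ : L2 P →ₗ[B] M, ∀ q, v2 P ψ q = g q := by
  letI : Module P.toExtension.Ring M := Module.compHom M (algebraMap P.toExtension.Ring B)
  haveI : IsScalarTower P.toExtension.Ring B M := IsScalarTower.of_compHom P.toExtension.Ring B M
  let g₀ : relKer P →ₗ[P.toExtension.Ring] M :=
    { toFun := g
      map_add' := hadd
      map_smul' := fun r x => by
        rw [hsmul, RingHom.id_apply]
        rfl }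
  refine ⟨Submodule.liftQ _ (LinearMap.liftBaseChange B g₀) ?_, fun q => ?_⟩
  · rintro _ ⟨z, rfl⟩
    rw [LinearMap.mem_ker]
    induction z using TensorProduct.induction_on with
    | zero => simp
    | add x y hx hy => rw [map_add, map_add, hx, hy, add_zero]
    | tmul b k =>
      rw [LinearMap.baseChange_tmul, LinearMap.liftBaseChange_tmul]
      have : g₀ ((trivRelKer P).subtype k) = 0 := htriv _ k.2
      rw [this, smul_zero]
  · unfold v2
    rw [Submodule.liftQ_apply, LinearMap.liftBaseChange_tmul, one_smul]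
    rfl

lemma v2_d2Star (χ : L1 P →ₗ[B] M) (q : relKer P) :
    v2 P (d2Star P M χ) q = v1 P χ (q : relMod P) := by
  unfold v2 v1
  rw [d2Star_apply, LinearMap.comp_apply, d2_mk_tmul]

lemma v2_add' (ψ ψ' : L2 P →ₗ[B] M) (q : relKer P) :
    v2 P (ψ + ψ') q = v2 P ψ q + v2 P ψ' q := rfl

lemma v2_sub' (ψ ψ' : L2 P →ₗ[B] M) (q : relKer P) :
    v2 P (ψ - ψ') q = v2 P ψ q - v2 P ψ' q := rfl

/-- membership in `T⁰` -/
lemma mem_T0_iff (ψ : L0 P →ₗ[B] M) :
    ψ ∈ LinearMap.ker (d1Star P M) ↔ ∀ x : relMod P, dv P ψ (jmap P x) = 0 := by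
  rw [LinearMap.mem_ker]
  constructor
  · intro h x
    rw [← v1_d1Star, h]
    rfl
  · intro h
    apply L1_ext
    intro s
    rw [v1_d1Star, h]
    rfl

/-- membership in the cocycles -/
lemma mem_cocycles1_iff (χ : L1 P →ₗ[B] M) :
    χ ∈ cocycles1 P M ↔ ∀ q : relKer P, v1 P χ (q : relMod P) = 0 := by
  rw [LinearMap.mem_ker]
  constructor
  · intro h q
    rw [← v2_d2Star, h]
    rfl
  · intro h
    apply L2_ext
    intro q
    rw [v2_d2Star, h]
    rfl

/-- coboundary in `T²` -/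
lemma mem_range_d2Star_iff (ψ : L2 P →ₗ[B] M) :
    ψ ∈ LinearMap.range (d2Star P M) ↔
      ∃ χ : L1 P →ₗ[B] M, ∀ q : relKer P, v1 P χ (q : relMod P) = v2 P ψ q := by
  constructor
  · rintro ⟨χ, rfl⟩
    exact ⟨χ, fun q => (v2_d2Star P χ q).symm⟩
  · rintro ⟨χ, hχ⟩
    refine ⟨χ, L2_ext P fun q => ?_⟩
    rw [v2_d2Star, hχ]

/-- coboundaries among the cocycles -/
lemma mem_coboundaries1_iff (z : cocycles1 P M) :
    z ∈ coboundaries1 P M ↔
      ∃ ψ : L0 P →ₗ[B] M, ∀ x : relMod P, dv P ψ (jmap P x) = v1 P (z : L1 P →ₗ[B] M) x := by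
  constructor
  · rintro ⟨ψ, hψ⟩
    refine ⟨ψ, fun x => ?_⟩
    rw [← v1_d1Star, hψ]
    rfl
  · rintro ⟨ψ, hψ⟩
    refine ⟨ψ, L1_ext P fun s => ?_⟩
    rw [v1_d1Star, hψ]
    rfl

end Dict

section Pull

variable {A : Type u} {B : Type v} {ι : Type w} {σ : Type t}
variable {A' : Type u'} {B' : Type v'} {ι' : Type w'} {σ' : Type t'}
variable [CommRing A] [CommRing B] [Algebra A B] [CommRing A'] [CommRing B'] [Algebra A' B']
variable [Algebra A A'] [Algebra B B'] [Algebra A B'] [IsScalarTower A A' B'] [IsScalarTower A B B']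
variable {P : Algebra.Presentation A B ι σ} {P' : Algebra.Presentation A' B' ι' σ'}
variable (h : PresHom P P')
variable {M' : Type m} [AddCommGroup M'] [Module B' M'] [Module B M'] [IsScalarTower B B' M']

lemma dv_pull0 (ψ' : L0 P' →ₗ[B'] M') (r : P.toExtension.Ring) :
    dv P (h.pull0 M' ψ') r = dv P' ψ' (h.ringHom r) := by
  unfold dv
  rw [PresHom.pull0_apply, PresHom.L0map_apply, Algebra.Extension.CotangentSpace.map_tmul, map_one]
  rfl

lemma v1_pull1 (χ' : L1 P' →ₗ[B'] M') (x : relMod P) :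
    v1 P (h.pull1 M' χ') x = v1 P' χ' (h.relModMap x) := by
  unfold v1
  rw [PresHom.pull1_apply, PresHom.L1map_tmul, map_one]

lemma v2_pull2 (ψ' : L2 P' →ₗ[B'] M') (q : relKer P) :
    v2 P (h.pull2 M' ψ') q = v2 P' ψ' (h.relKerMap q) := by
  unfold v2
  rw [PresHom.pull2_apply, PresHom.L2map_mk_tmul, map_one]

lemma bar_ringHom (r : P.toExtension.Ring) :
    bar P' (h.ringHom r) = algebraMap B B' (bar P r) :=
  h.algebraMap_ringHom r

lemma bar_ringHom_smul (r : P.toExtension.Ring) (m : M') :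
    bar P' (h.ringHom r) • m = bar P r • m := by
  rw [bar_ringHom, algebraMap_smul]

lemma T0pull_coe (x : T0 P' M') :
    ((h.T0pull M' x : T0 P M') : L0 P →ₗ[B] M') = h.pull0 M' (x : L0 P' →ₗ[B'] M') := rfl

lemma T1pull_mk (z : cocycles1 P' M') :
    h.T1pull M' (Submodule.Quotient.mk z) = Submodule.Quotient.mk (h.cocycles1Pull M' z) := rfl

lemma T2pull_mk (ψ' : L2 P' →ₗ[B'] M') :
    h.T2pull M' (Submodule.Quotient.mk ψ') = Submodule.Quotient.mk (h.pull2 M' ψ') := rfl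

end Pull

end

end Groth.Agent.Lib.LeadJZ
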