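import Groth.Agent.Lib.LeadJZA
import Groth.Agent.Lib.Helper19KosPush

/-!
# Jacobi–Zariski: homotopy invariance at the level of functions
-/

set_option autoImplicit false
set_option maxHeartbeats 400000
set_option linter.style.haveILetI false
set_option linter.unusedSectionVars false
set_option linter.unusedVariables false

universe u v w t u' v' w' t' m

open TensorProduct

namespace Groth.Agent.Lib.LeadJZ

open CotT Groth.Agent.Lib.Helper19.Kos

noncomputable section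

section HI2

variable {A : Type u} [CommRing A] {ι : Type w} {S' : Type u'} {B' : Type v'} [CommRing S']
  [CommRing B'] [Algebra S' B'] {σ : Type t} {σ' : Type t'} {f : σ → MvPolynomial ι A}
  {f' : σ' → S'} (hf' : ∀ s, algebraMap S' B' (f' s) = 0)
variable {M' : Type m} [AddCommGroup M'] [Module B' M'] [Module S' M'] [IsScalarTower S' B' M']
variable (g' : Q S' f' →ₗ[S'] M') (hg' : ∀ q : Q S' f', (q : σ' →₀ S') ∈ F0 S' f' → g' q = 0)

/-- non-unital commutative ring structure on the push-out extension: `e * e' = p e • e'` -/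
@[reducible] def nuRing : NonUnitalCommRing (Push.E g') :=
  { (inferInstance : AddCommGroup (Push.E g')) with
    mul := fun e e' => Push.p g' e • e'
    left_distrib := fun a b c => smul_add _ _ _
    right_distrib := fun a b c => by
      show Push.p g' (a + b) • c = Push.p g' a • c + Push.p g' b • c
      rw [map_add, add_smul]
    zero_mul := fun a => by
      show Push.p g' 0 • a = 0
      rw [map_zero, zero_smul]
    mul_zero := fun a => smul_zero _
    mul_assoc := fun a b c => by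
      show Push.p g' (Push.p g' a • b) • c = Push.p g' a • (Push.p g' b • c)
      rw [map_smul, smul_eq_mul, mul_smul]
    mul_comm := fun a b => Push.kosSym hf' g' hg' a b }

include hf' hg' in
theorem HI2
    (hspan' : ∀ z : S', algebraMap S' B' z = 0 → ∃ x, jm S' f' x = z)
    (τ₁ τ₂ : MvPolynomial ι A →+* S')
    (hbar : ∀ r, algebraMap S' B' (τ₁ r) = algebraMap S' B' (τ₂ r))
    (hA : ∀ a, τ₁ (MvPolynomial.C a) = τ₂ (MvPolynomial.C a))
    (φ₁ φ₂ : (σ →₀ MvPolynomial ι A) → (σ' →₀ S'))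
    (hφ₁a : ∀ x y, φ₁ (x + y) = φ₁ x + φ₁ y) (hφ₁s : ∀ r x, φ₁ (r • x) = τ₁ r • φ₁ x)
    (hφ₁j : ∀ x, jm S' f' (φ₁ x) = τ₁ (jm (MvPolynomial ι A) f x))
    (hφ₂a : ∀ x y, φ₂ (x + y) = φ₂ x + φ₂ y) (hφ₂s : ∀ r x, φ₂ (r • x) = τ₂ r • φ₂ x)
    (hφ₂j : ∀ x, jm S' f' (φ₂ x) = τ₂ (jm (MvPolynomial ι A) f x)) :
    ∃ G : (σ →₀ MvPolynomial ι A) → M', (∀ x y, G (x + y) = G x + G y) ∧
      (∀ r x, G (r • x) = τ₁ r • G x) ∧
      ∀ q : σ →₀ MvPolynomial ι A, jm (MvPolynomial ι A) f q = 0 →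
        ∀ (h₁ : φ₁ q ∈ Q S' f') (h₂ : φ₂ q ∈ Q S' f'), G q = g' ⟨φ₁ q, h₁⟩ - g' ⟨φ₂ q, h₂⟩ := by
  classical
  letI nu : NonUnitalCommRing (Push.E g') := nuRing hf' g' hg'
  haveI t1 : IsScalarTower S' (Push.E g') (Push.E g') := ⟨fun r e e' => by
    show Push.p g' (r • e) • e' = r • (Push.p g' e • e')
    rw [map_smul, smul_eq_mul, mul_smul]⟩
  haveI t2 : SMulCommClass S' (Push.E g') (Push.E g') := ⟨fun r e e' => by
    show r • (Push.p g' e • e') = Push.p g' e • (r • e')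
    exact smul_comm _ _ _⟩
  have hmul : ∀ e e' : Push.E g', e * e' = Push.p g' e • e' := fun _ _ => rfl
  have hM : ∀ r (m : M'), τ₁ r • m = τ₂ r • m := fun r m => by
    rw [← algebraMap_smul B' (τ₁ r) m, hbar, algebraMap_smul]
  have hy : ∀ i, ∃ y : Push.E g', Push.p g' y = τ₂ (MvPolynomial.X i) - τ₁ (MvPolynomial.X i) :=
    fun i => by
      obtain ⟨x, hx⟩ := hspan' (τ₂ (MvPolynomial.X i) - τ₁ (MvPolynomial.X i))
        (by rw [map_sub, hbar, sub_self])
      exact ⟨Push.inF g' x, by rw [Push.p_inF, hx]⟩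
  choose y hy using hy
  let π₂ : Unitization S' (Push.E g') →+* S' :=
    { toFun := fun x => x.fst + Push.p g' x.snd
      map_one' := by
        rw [Unitization.fst_one, Unitization.snd_one, map_zero, add_zero]
      map_mul' := fun x z => by
        rw [Unitization.fst_mul, Unitization.snd_mul, map_add, map_add, map_smul, map_smul, hmul,
          map_smul]
        simp only [smul_eq_mul]
        ring
      map_zero' := by
        rw [Unitization.fst_zero, Unitization.snd_zero, map_zero, add_zero]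
      map_add' := fun x z => by
        rw [Unitization.fst_add, Unitization.snd_add, map_add]
        ring }
  have hπ₂ : ∀ x, π₂ x = x.fst + Push.p g' x.snd := fun _ => rfl
  let Φ : MvPolynomial ι A →+* Unitization S' (Push.E g') :=
    MvPolynomial.eval₂Hom ((Unitization.inlRingHom S' (Push.E g')).comp (τ₁.comp MvPolynomial.C))
      (fun i => Unitization.inl (τ₁ (MvPolynomial.X i)) +
        ((y i : Push.E g') : Unitization S' (Push.E g')))
  have hΦC : ∀ a, Φ (MvPolynomial.C a) = Unitization.inl (τ₁ (MvPolynomial.C a)) := fun a => by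
    show MvPolynomial.eval₂Hom _ _ (MvPolynomial.C a) = _
    rw [MvPolynomial.eval₂Hom_C]
    rfl
  have hΦX : ∀ i, Φ (MvPolynomial.X i) = Unitization.inl (τ₁ (MvPolynomial.X i)) +
      ((y i : Push.E g') : Unitization S' (Push.E g')) := fun i => by
    show MvPolynomial.eval₂Hom _ _ (MvPolynomial.X i) = _
    rw [MvPolynomial.eval₂Hom_X']
  have hfst : ∀ r, (Φ r).fst = τ₁ r := by
    have := MvPolynomial.ringHom_ext
      (f := (Unitization.fstHom S' (Push.E g')).toRingHom.comp Φ) (g := τ₁) ?_ ?_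
    · intro r
      exact RingHom.congr_fun this r
    · intro a
      show (Φ (MvPolynomial.C a)).fst = _
      rw [hΦC, Unitization.fst_inl]
    · intro i
      show (Φ (MvPolynomial.X i)).fst = _
      rw [hΦX, Unitization.fst_add, Unitization.fst_inl, Unitization.fst_inr, add_zero]
  have hπ : ∀ r, π₂ (Φ r) = τ₂ r := by
    have := MvPolynomial.ringHom_ext (f := π₂.comp Φ) (g := τ₂) ?_ ?_
    · intro r
      exact RingHom.congr_fun this r
    · intro a
      show π₂ (Φ (MvPolynomial.C a)) = _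
      rw [hΦC, hπ₂, Unitization.fst_inl, Unitization.snd_inl, map_zero, add_zero, hA]
    · intro i
      show π₂ (Φ (MvPolynomial.X i)) = _
      rw [hΦX, hπ₂, Unitization.fst_add, Unitization.fst_inl, Unitization.fst_inr,
        Unitization.snd_add, Unitization.snd_inl, Unitization.snd_inr, add_zero, zero_add, hy]
      ring
  let ε : MvPolynomial ι A → Push.E g' := fun r => (Φ r).snd
  have hεdef : ∀ r, ε r = (Φ r).snd := fun _ => rfl
  have hpε : ∀ r, Push.p g' (ε r) = τ₂ r - τ₁ r := fun r => by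
    rw [← hπ r, ← hfst r, hπ₂, hεdef]
    ring
  have hε_add : ∀ r s, ε (r + s) = ε r + ε s := fun r s => by
    rw [hεdef, map_add, Unitization.snd_add]
  have hε_mul : ∀ r s, ε (r * s) = τ₂ r • ε s + τ₁ s • ε r := fun r s => by
    rw [hεdef, map_mul, Unitization.snd_mul, hfst, hfst, hmul, ← hεdef, ← hεdef, hpε, sub_smul]
    abel
  have hε0 : ε 0 = 0 := by
    rw [hεdef, map_zero, Unitization.snd_zero]
  let u : (σ →₀ MvPolynomial ι A) → Push.E g' :=
    fun x => Push.inF g' (φ₁ x) - Push.inF g' (φ₂ x) + ε (jm (MvPolynomial ι A) f x)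
  have hudef : ∀ x, u x =
      Push.inF g' (φ₁ x) - Push.inF g' (φ₂ x) + ε (jm (MvPolynomial ι A) f x) := fun _ => rfl
  have hpu : ∀ x, Push.p g' (u x) = 0 := fun x => by
    rw [hudef, map_add, map_sub, Push.p_inF, Push.p_inF, hφ₁j, hφ₂j, hpε]
    ring
  have hu_add : ∀ x z, u (x + z) = u x + u z := fun x z => by
    rw [hudef, hudef, hudef, hφ₁a, hφ₂a, map_add, map_add, map_add, hε_add]
    abel
  have hu_smul : ∀ r x, u (r • x) = τ₂ r • u x := fun r x => by
    rw [hudef, hudef, hφ₁s, hφ₂s, map_smul, map_smul, map_smul (jm (MvPolynomial ι A) f),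
      smul_eq_mul, hε_mul]
    have key := Push.kosSym hf' g' hg' (ε r) (Push.inF g' (φ₁ x))
    rw [hpε, Push.p_inF, hφ₁j] at key
    rw [smul_add, smul_sub, ← key, sub_smul]
    abel
  choose G hG using fun x => Push.exists_of_p_eq_zero g' (u x) (hpu x)
  refine ⟨G, ?_, ?_, ?_⟩
  · intro x z
    apply Push.inM_injective g'
    rw [map_add, hG, hG, hG, hu_add]
  · intro r x
    apply Push.inM_injective g'
    rw [hM, map_smul, hG, hG, hu_smul]
  · intro q hq h₁ h₂
    apply Push.inM_injective g'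
    rw [hG, hudef, hq, hε0, add_zero, map_sub]
    have e1 := Push.inF_eq_inM g' ⟨φ₁ q, h₁⟩
    have e2 := Push.inF_eq_inM g' ⟨φ₂ q, h₂⟩
    rw [← e1, ← e2]

end HI2

section HIpres

variable {A : Type u} {B : Type v} {ι : Type w} {σ : Type t}
variable {A' : Type u'} {B' : Type v'} {ι' : Type w'} {σ' : Type t'}
variable [CommRing A] [CommRing B] [Algebra A B] [CommRing A'] [CommRing B'] [Algebra A' B']
variable (P : Algebra.Presentation A B ι σ) (P' : Algebra.Presentation A' B' ι' σ')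
variable {M' : Type m} [AddCommGroup M'] [Module B' M']

lemma exists_jmap_eq (z : P'.toExtension.Ring) (hz : bar P' z = 0) :
    ∃ y : relMod P', jmap P' y = z := by
  have h : z ∈ LinearMap.range (jmap P') := by
    rw [range_jmap]
    exact hz
  exact h

lemma bar_sub_eq_zero (τ₁ τ₂ : P.toExtension.Ring →+* P'.toExtension.Ring)
    (hbar : ∀ r, bar P' (τ₁ r) = bar P' (τ₂ r)) (r : P.toExtension.Ring) :
    bar P' (τ₁ r - τ₂ r) = 0 := by
  show algebraMap P'.toExtension.Ring B' (τ₁ r - τ₂ r) = 0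
  rw [map_sub]
  exact sub_eq_zero.mpr (hbar r)

/-- homotopy invariance, degree 0 -/
lemma HI0 (τ₁ τ₂ : P.toExtension.Ring →+* P'.toExtension.Ring)
    (hbar : ∀ r, bar P' (τ₁ r) = bar P' (τ₂ r))
    (ψ' : L0 P' →ₗ[B'] M') (hψ' : ∀ x : relMod P', dv P' ψ' (jmap P' x) = 0)
    (r : P.toExtension.Ring) : dv P' ψ' (τ₁ r) = dv P' ψ' (τ₂ r) := by
  obtain ⟨y, hy⟩ := exists_jmap_eq P' (τ₁ r - τ₂ r) (bar_sub_eq_zero P P' τ₁ τ₂ hbar r)
  have e : τ₁ r = τ₂ r + jmap P' y := by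
    rw [hy]
    ring
  rw [e, (isDer_dv P' ψ').add, hψ', add_zero]

/-- homotopy invariance, degree 1 -/
theorem HI1 (τ₁ τ₂ : P.toExtension.Ring →+* P'.toExtension.Ring)
    (hbar : ∀ r, bar P' (τ₁ r) = bar P' (τ₂ r))
    (hA : ∀ a : A, τ₁ (algebraMap A P.toExtension.Ring a) = τ₂ (algebraMap A P.toExtension.Ring a))
    (φ₁ φ₂ : relMod P → relMod P')
    (hφ₁j : ∀ x, jmap P' (φ₁ x) = τ₁ (jmap P x)) (hφ₂j : ∀ x, jmap P' (φ₂ x) = τ₂ (jmap P x))
    (χ' : L1 P' →ₗ[B'] M') (hχ' : ∀ q : relKer P', v1 P' χ' (q : relMod P') = 0) :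
    ∃ δ : P.toExtension.Ring → M', (∀ r s, δ (r + s) = δ r + δ s) ∧
      (∀ r s, δ (r * s) = bar P' (τ₁ r) • δ s + bar P' (τ₁ s) • δ r) ∧
      (∀ a : A, δ (algebraMap A P.toExtension.Ring a) = 0) ∧
      ∀ x, v1 P' χ' (φ₁ x) - v1 P' χ' (φ₂ x) = δ (jmap P x) := by
  have key : ∀ y y' : relMod P', jmap P' y = jmap P' y' → v1 P' χ' y = v1 P' χ' y' := by
    intro y y' hyy
    have hq : y - y' ∈ relKer P' := by
      show jmap P' (y - y') = 0
      rw [map_sub, hyy, sub_self]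
    have := hχ' ⟨y - y', hq⟩
    rw [v1_sub] at this
    exact sub_eq_zero.mp this
  choose Y hY using fun r => exists_jmap_eq P' (τ₁ r - τ₂ r) (bar_sub_eq_zero P P' τ₁ τ₂ hbar r)
  have hδ : ∀ r y, jmap P' y = τ₁ r - τ₂ r → v1 P' χ' y = v1 P' χ' (Y r) := fun r y hy =>
    key _ _ (by rw [hy, hY])
  refine ⟨fun r => v1 P' χ' (Y r), ?_, ?_, ?_, ?_⟩
  · intro r s
    show v1 P' χ' (Y (r + s)) = v1 P' χ' (Y r) + v1 P' χ' (Y s)
    rw [← v1_add]
    refine (hδ (r + s) (Y r + Y s) ?_).symm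
    rw [map_add, hY, hY, map_add, map_add]
    ring
  · intro r s
    show v1 P' χ' (Y (r * s)) = bar P' (τ₁ r) • v1 P' χ' (Y s) + bar P' (τ₁ s) • v1 P' χ' (Y r)
    rw [hbar s, ← v1_smul, ← v1_smul, ← v1_add]
    refine (hδ (r * s) (τ₁ r • Y s + τ₂ s • Y r) ?_).symm
    rw [map_add, map_smul, map_smul, hY, hY, map_mul, map_mul, smul_eq_mul, smul_eq_mul]
    ring
  · intro a
    show v1 P' χ' (Y (algebraMap A P.toExtension.Ring a)) = 0
    rw [← hδ (algebraMap A P.toExtension.Ring a) 0 (by rw [map_zero, hA, sub_self]), v1_zero]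
  · intro x
    show v1 P' χ' (φ₁ x) - v1 P' χ' (φ₂ x) = v1 P' χ' (Y (jmap P x))
    rw [← v1_sub]
    exact hδ (jmap P x) (φ₁ x - φ₂ x) (by rw [map_sub, hφ₁j, hφ₂j])

/-- homotopy invariance, degree 2 -/
theorem HI2' (τ₁ τ₂ : P.toExtension.Ring →+* P'.toExtension.Ring)
    (hbar : ∀ r, bar P' (τ₁ r) = bar P' (τ₂ r))
    (hA : ∀ a : A, τ₁ (algebraMap A P.toExtension.Ring a) = τ₂ (algebraMap A P.toExtension.Ring a))
    (φ₁ φ₂ : relMod P → relMod P')
    (hφ₁a : ∀ x y, φ₁ (x + y) = φ₁ x + φ₁ y) (hφ₁s : ∀ r x, φ₁ (r • x) = τ₁ r • φ₁ x)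
    (hφ₁j : ∀ x, jmap P' (φ₁ x) = τ₁ (jmap P x))
    (hφ₂a : ∀ x y, φ₂ (x + y) = φ₂ x + φ₂ y) (hφ₂s : ∀ r x, φ₂ (r • x) = τ₂ r • φ₂ x)
    (hφ₂j : ∀ x, jmap P' (φ₂ x) = τ₂ (jmap P x))
    (ψ' : L2 P' →ₗ[B'] M') :
    ∃ G : relMod P → M', (∀ x y, G (x + y) = G x + G y) ∧
      (∀ r x, G (r • x) = bar P' (τ₁ r) • G x) ∧
      ∀ q : relKer P, ∀ (h₁ : φ₁ q ∈ relKer P') (h₂ : φ₂ q ∈ relKer P'),
        G q = v2 P' ψ' ⟨φ₁ q, h₁⟩ - v2 P' ψ' ⟨φ₂ q, h₂⟩ := by
  letI : Module P'.toExtension.Ring M' := Module.compHom M' (algebraMap P'.toExtension.Ring B')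
  haveI : IsScalarTower P'.toExtension.Ring B' M' :=
    IsScalarTower.of_compHom P'.toExtension.Ring B' M'
  let g' : Q P'.toExtension.Ring (rel P') →ₗ[P'.toExtension.Ring] M' :=
    { toFun := fun q => v2 P' ψ' q
      map_add' := fun q q' => v2_add P' ψ' q q'
      map_smul' := fun r q => by
        rw [RingHom.id_apply]
        exact v2_smul P' ψ' r q }
  have hg' : ∀ q : Q P'.toExtension.Ring (rel P'),
      (q : σ' →₀ P'.toExtension.Ring) ∈ F0 P'.toExtension.Ring (rel P') → g' q = 0 :=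
    fun q hq => v2_triv P' ψ' q hq
  obtain ⟨G, hGa, hGs, hGq⟩ := HI2 (A := A) (ι := ι) (f := rel P) (f' := rel P')
    (algebraMap_rel P') g' hg' (fun z hz => exists_jmap_eq P' z hz) τ₁ τ₂ hbar hA φ₁ φ₂
    hφ₁a hφ₁s hφ₁j hφ₂a hφ₂s hφ₂j
  refine ⟨G, hGa, fun r x => ?_, fun q h₁ h₂ => ?_⟩
  · exact hGs r x
  · exact hGq (q : relMod P) q.2 h₁ h₂

end HIpres

end

end Groth.Agent.Lib.LeadJZ
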