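import Groth.Agent.Lib.LeadJZA

/-!
# Jacobi–Zariski: the long exact sequence from a short exact sequence of dual complexes
-/

set_option autoImplicit false
set_option maxHeartbeats 400000
set_option linter.style.haveILetI false
set_option linter.unusedSectionVars false
set_option linter.unusedVariables false

universe u w m

open TensorProduct

namespace Groth.Agent.Lib.LeadJZ

open CotT

noncomputable section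

section T1mk

variable {A B : Type u} {ι σ : Type w} [CommRing A] [CommRing B] [Algebra A B]
variable (P : Algebra.Presentation A B ι σ) (M : Type m) [AddCommGroup M] [Module B M]

/-- the class of a cocycle -/
def T1mk (χ : L1 P →ₗ[B] M) (hχ : d2Star P M χ = 0) : T1 P M :=
  Submodule.Quotient.mk ⟨χ, LinearMap.mem_ker.mpr hχ⟩

lemma T1mk_surj (x : T1 P M) : ∃ χ hχ, x = T1mk P M χ hχ := by
  obtain ⟨z, rfl⟩ := Submodule.Quotient.mk_surjective _ x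
  exact ⟨z.1, LinearMap.mem_ker.mp z.2, rfl⟩

lemma T1mk_eq_iff {χ₁ χ₂ : L1 P →ₗ[B] M} (h₁ h₂) :
    T1mk P M χ₁ h₁ = T1mk P M χ₂ h₂ ↔ ∃ ψ, d1Star P M ψ = χ₁ - χ₂ := by
  unfold T1mk
  rw [Submodule.Quotient.eq]
  constructor
  · rintro ⟨ψ, hψ⟩
    exact ⟨ψ, hψ⟩
  · rintro ⟨ψ, hψ⟩
    exact ⟨ψ, hψ⟩

lemma T1mk_eq_zero_iff {χ : L1 P →ₗ[B] M} (h) :
    T1mk P M χ h = 0 ↔ ∃ ψ, d1Star P M ψ = χ := by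
  unfold T1mk
  rw [Submodule.Quotient.mk_eq_zero]
  constructor
  · rintro ⟨ψ, hψ⟩
    exact ⟨ψ, hψ⟩
  · rintro ⟨ψ, hψ⟩
    exact ⟨ψ, hψ⟩

lemma T1mk_add {χ₁ χ₂ : L1 P →ₗ[B] M} (h₁ h₂) (h₁₂) :
    T1mk P M χ₁ h₁ + T1mk P M χ₂ h₂ = T1mk P M (χ₁ + χ₂) h₁₂ := rfl

lemma T1mk_congr {χ₁ χ₂ : L1 P →ₗ[B] M} (h₁ h₂) (e : χ₁ = χ₂) :
    T1mk P M χ₁ h₁ = T1mk P M χ₂ h₂ := by
  subst e
  rfl

/-- the class of a map `L₂ → M` -/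
def T2mk (ψ : L2 P →ₗ[B] M) : T2 P M := Submodule.Quotient.mk ψ

lemma T2mk_surj (x : T2 P M) : ∃ ψ, x = T2mk P M ψ := by
  obtain ⟨ψ, rfl⟩ := Submodule.Quotient.mk_surjective _ x
  exact ⟨ψ, rfl⟩

lemma T2mk_eq_zero_iff (ψ : L2 P →ₗ[B] M) :
    T2mk P M ψ = 0 ↔ ∃ χ, d2Star P M χ = ψ := by
  unfold T2mk
  rw [Submodule.Quotient.mk_eq_zero]
  rfl

lemma T2mk_eq_iff (ψ₁ ψ₂ : L2 P →ₗ[B] M) :
    T2mk P M ψ₁ = T2mk P M ψ₂ ↔ ∃ χ, d2Star P M χ = ψ₁ - ψ₂ := by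
  unfold T2mk
  rw [Submodule.Quotient.eq]
  rfl

lemma T2mk_add (ψ₁ ψ₂ : L2 P →ₗ[B] M) :
    T2mk P M ψ₁ + T2mk P M ψ₂ = T2mk P M (ψ₁ + ψ₂) := rfl

lemma d2Star_d1Star (ψ : L0 P →ₗ[B] M) : d2Star P M (d1Star P M ψ) = 0 := by
  have := LinearMap.congr_fun (d2Star_comp_d1Star P M) ψ
  exact this

end T1mk

section LES

variable {A B C : Type u} [CommRing A] [CommRing B] [CommRing C] [Algebra A B] [Algebra B C]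
  [Algebra A C] [IsScalarTower A B C]
variable {ι σ ι' σ' ι'' σ'' : Type w}
variable {P : Algebra.Presentation A B ι σ} {P'' : Algebra.Presentation A C ι'' σ''}
  {P' : Algebra.Presentation B C ι' σ'}
variable (h₁ : PresHom P P'') (h₂ : PresHom P'' P')
variable (M : Type m) [AddCommGroup M] [Module C M] [Module B M] [IsScalarTower B C M]

/-- the dual complexes form a short exact sequence (left exact in degree 2) -/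
structure SES : Prop where
  inj0 : Function.Injective (h₂.pull0 M)
  inj1 : Function.Injective (h₂.pull1 M)
  inj2 : Function.Injective (h₂.pull2 M)
  ex0 : ∀ ψ, h₁.pull0 M ψ = 0 → ∃ ψ', h₂.pull0 M ψ' = ψ
  ex1 : ∀ ψ, h₁.pull1 M ψ = 0 → ∃ ψ', h₂.pull1 M ψ' = ψ
  ex2 : ∀ ψ, h₁.pull2 M ψ = 0 → ∃ ψ', h₂.pull2 M ψ' = ψ
  zero0 : ∀ ψ', h₁.pull0 M (h₂.pull0 M ψ') = 0
  zero1 : ∀ ψ', h₁.pull1 M (h₂.pull1 M ψ') = 0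
  zero2 : ∀ ψ', h₁.pull2 M (h₂.pull2 M ψ') = 0
  surj0 : Function.Surjective (h₁.pull0 M)
  surj1 : Function.Surjective (h₁.pull1 M)

lemma T1pull_T1mk₂ (χ' : L1 P' →ₗ[C] M) (hχ' : d2Star P' M χ' = 0) (hχ'') :
    h₂.T1pull M (T1mk P' M χ' hχ') = T1mk P'' M (h₂.pull1 M χ') hχ'' := rfl

lemma T1pull_T1mk₁ (χ'' : L1 P'' →ₗ[C] M) (hχ'' : d2Star P'' M χ'' = 0) (hχ) :
    h₁.T1pull M (T1mk P'' M χ'' hχ'') = T1mk P M (h₁.pull1 M χ'') hχ := rfl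

lemma T2pull_T2mk₂ (ψ' : L2 P' →ₗ[C] M) :
    h₂.T2pull M (T2mk P' M ψ') = T2mk P'' M (h₂.pull2 M ψ') := rfl

lemma T2pull_T2mk₁ (ψ'' : L2 P'' →ₗ[C] M) :
    h₁.T2pull M (T2mk P'' M ψ'') = T2mk P M (h₁.pull2 M ψ'') := rfl

lemma cocycle_pull₂ (χ' : L1 P' →ₗ[C] M) (hχ' : d2Star P' M χ' = 0) :
    d2Star P'' M (h₂.pull1 M χ') = 0 := by
  rw [← h₂.pull2_d2Star, hχ', map_zero]

lemma cocycle_pull₁ (χ'' : L1 P'' →ₗ[C] M) (hχ'' : d2Star P'' M χ'' = 0) :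
    d2Star P M (h₁.pull1 M χ'') = 0 := by
  rw [← h₁.pull2_d2Star, hχ'', map_zero]

variable {h₁ h₂ M}

theorem SES.T0_inj (H : SES h₁ h₂ M) : Function.Injective (h₂.T0pull M) := by
  intro x y hxy
  apply Subtype.ext
  apply H.inj0
  exact congrArg Subtype.val hxy

theorem SES.T0_exact (H : SES h₁ h₂ M) : Function.Exact (h₂.T0pull M) (h₁.T0pull M) := by
  intro y
  constructor
  · intro hy
    have hy0 : h₁.pull0 M y.1 = 0 := congrArg Subtype.val hy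
    obtain ⟨ψ', hψ'⟩ := H.ex0 _ hy0
    have hmem : d1Star P' M ψ' = 0 := by
      apply H.inj1
      rw [h₂.pull1_d1Star, hψ', map_zero]
      exact y.2
    exact ⟨⟨ψ', LinearMap.mem_ker.mpr hmem⟩, Subtype.ext hψ'⟩
  · rintro ⟨x, rfl⟩
    exact Subtype.ext (H.zero0 x.1)

theorem SES.T1_exact (H : SES h₁ h₂ M) : Function.Exact (h₂.T1pull M) (h₁.T1pull M) := by
  intro y
  obtain ⟨χ'', hχ'', rfl⟩ := T1mk_surj P'' M y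
  constructor
  · intro hy
    rw [T1pull_T1mk₁ h₁ M χ'' hχ'' (cocycle_pull₁ h₁ M χ'' hχ''), T1mk_eq_zero_iff] at hy
    obtain ⟨ψ, hψ⟩ := hy
    obtain ⟨ψ'', rfl⟩ := H.surj0 ψ
    have h0 : h₁.pull1 M (χ'' - d1Star P'' M ψ'') = 0 := by
      rw [map_sub, h₁.pull1_d1Star, hψ, sub_self]
    obtain ⟨χ', hχ'⟩ := H.ex1 _ h0
    have hc : d2Star P' M χ' = 0 := by
      apply H.inj2
      rw [h₂.pull2_d2Star, hχ', map_sub, hχ'', d2Star_d1Star, sub_zero, map_zero]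
    refine ⟨T1mk P' M χ' hc, ?_⟩
    rw [T1pull_T1mk₂ h₂ M χ' hc (cocycle_pull₂ h₂ M χ' hc), T1mk_eq_iff]
    refine ⟨-ψ'', ?_⟩
    rw [hχ', map_neg]
    abel
  · rintro ⟨x, hx⟩
    obtain ⟨χ', hχ', rfl⟩ := T1mk_surj P' M x
    rw [← hx, T1pull_T1mk₂ h₂ M χ' hχ' (cocycle_pull₂ h₂ M χ' hχ'),
      T1pull_T1mk₁ h₁ M _ _ (cocycle_pull₁ h₁ M _ (cocycle_pull₂ h₂ M χ' hχ')), T1mk_eq_zero_iff]
    exact ⟨0, by rw [map_zero, H.zero1]⟩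

lemma SES.T2_exact_mp (H : SES h₁ h₂ M) (ψ'' : L2 P'' →ₗ[C] M)
    (hy : h₁.T2pull M (T2mk P'' M ψ'') = 0) :
    ∃ ψ', h₂.T2pull M (T2mk P' M ψ') = T2mk P'' M ψ'' := by
  rw [T2pull_T2mk₁ h₁ M ψ'', T2mk_eq_zero_iff] at hy
  obtain ⟨χ, hχ⟩ := hy
  obtain ⟨χ'', hχ''⟩ := H.surj1 χ
  have h0 : h₁.pull2 M (ψ'' - d2Star P'' M χ'') = 0 := by
    rw [map_sub, h₁.pull2_d2Star, hχ'', hχ, sub_self]
  obtain ⟨ψ', hψ'⟩ := H.ex2 _ h0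
  refine ⟨ψ', ?_⟩
  rw [T2pull_T2mk₂ h₂ M ψ', T2mk_eq_iff]
  refine ⟨-χ'', ?_⟩
  rw [hψ', map_neg]
  abel

lemma SES.T2_exact_mpr (H : SES h₁ h₂ M) (ψ' : L2 P' →ₗ[C] M) :
    h₁.T2pull M (h₂.T2pull M (T2mk P' M ψ')) = 0 := by
  rw [T2pull_T2mk₂ h₂ M ψ', T2pull_T2mk₁ h₁ M, T2mk_eq_zero_iff]
  exact ⟨0, by rw [map_zero, H.zero2]⟩

theorem SES.T2_exact (H : SES h₁ h₂ M) : Function.Exact (h₂.T2pull M) (h₁.T2pull M) := by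
  intro y
  obtain ⟨ψ'', hy'⟩ := T2mk_surj P'' M y
  constructor
  · intro hy
    rw [hy'] at hy
    obtain ⟨ψ', hψ'⟩ := H.T2_exact_mp ψ'' hy
    exact ⟨T2mk P' M ψ', hψ'.trans hy'.symm⟩
  · rintro ⟨x, hx⟩
    obtain ⟨ψ', hx'⟩ := T2mk_surj P' M x
    rw [← hx, hx']
    exact H.T2_exact_mpr ψ'


/-! ### the connecting maps -/

variable (h₁ h₂ M) in
/-- the snake relation in degree 0 -/
def R0 (x : L0 P →ₗ[B] M) (χ' : L1 P' →ₗ[C] M) : Prop :=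
  ∃ ψ'' : L0 P'' →ₗ[C] M, h₁.pull0 M ψ'' = x ∧ h₂.pull1 M χ' = d1Star P'' M ψ''

variable (h₁ h₂ M) in
/-- the snake relation in degree 1 -/
def R1 (χ : L1 P →ₗ[B] M) (ψ' : L2 P' →ₗ[C] M) : Prop :=
  ∃ χ'' : L1 P'' →ₗ[C] M, h₁.pull1 M χ'' = χ ∧ h₂.pull2 M ψ' = d2Star P'' M χ''

lemma SES.R0_exists (H : SES h₁ h₂ M) (x : L0 P →ₗ[B] M) (hx : d1Star P M x = 0) :
    ∃ χ', R0 h₁ h₂ M x χ' := by
  obtain ⟨ψ'', hψ''⟩ := H.surj0 x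
  have h0 : h₁.pull1 M (d1Star P'' M ψ'') = 0 := by
    rw [h₁.pull1_d1Star, hψ'', hx]
  obtain ⟨χ', hχ'⟩ := H.ex1 _ h0
  exact ⟨χ', ψ'', hψ'', hχ'⟩

lemma SES.R0_cocycle (H : SES h₁ h₂ M) {x : L0 P →ₗ[B] M} {χ' : L1 P' →ₗ[C] M}
    (h : R0 h₁ h₂ M x χ') : d2Star P' M χ' = 0 := by
  obtain ⟨ψ'', hb, ha⟩ := h
  apply H.inj2
  rw [h₂.pull2_d2Star, ha, d2Star_d1Star, map_zero]

lemma R0_add {x₁ x₂ : L0 P →ₗ[B] M} {χ₁ χ₂ : L1 P' →ₗ[C] M}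
    (h : R0 h₁ h₂ M x₁ χ₁) (h' : R0 h₁ h₂ M x₂ χ₂) : R0 h₁ h₂ M (x₁ + x₂) (χ₁ + χ₂) := by
  obtain ⟨ψ₁, hb₁, ha₁⟩ := h
  obtain ⟨ψ₂, hb₂, ha₂⟩ := h'
  exact ⟨ψ₁ + ψ₂, by rw [map_add, hb₁, hb₂], by rw [map_add, map_add, ha₁, ha₂]⟩

lemma R0_sub {x₁ x₂ : L0 P →ₗ[B] M} {χ₁ χ₂ : L1 P' →ₗ[C] M}
    (h : R0 h₁ h₂ M x₁ χ₁) (h' : R0 h₁ h₂ M x₂ χ₂) : R0 h₁ h₂ M (x₁ - x₂) (χ₁ - χ₂) := by
  obtain ⟨ψ₁, hb₁, ha₁⟩ := h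
  obtain ⟨ψ₂, hb₂, ha₂⟩ := h'
  exact ⟨ψ₁ - ψ₂, by rw [map_sub, hb₁, hb₂], by rw [map_sub, map_sub, ha₁, ha₂]⟩

lemma SES.R0_zero_left (H : SES h₁ h₂ M) {χ' : L1 P' →ₗ[C] M} (h : R0 h₁ h₂ M 0 χ') :
    ∃ ψ', d1Star P' M ψ' = χ' := by
  obtain ⟨ψ'', hb, ha⟩ := h
  obtain ⟨ψ', hψ'⟩ := H.ex0 _ hb
  refine ⟨ψ', ?_⟩
  apply H.inj1
  rw [h₂.pull1_d1Star, hψ', ha]

/-- the connecting map `T⁰(B/A) → T¹(C/B)` as a function -/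
def SES.δ0fun (H : SES h₁ h₂ M) (x : T0 P M) : T1 P' M :=
  T1mk P' M (Classical.choose (H.R0_exists x.1 (LinearMap.mem_ker.mp x.2)))
    (H.R0_cocycle (Classical.choose_spec (H.R0_exists x.1 (LinearMap.mem_ker.mp x.2))))

lemma SES.δ0_eq (H : SES h₁ h₂ M) (x : T0 P M) (χ' : L1 P' →ₗ[C] M)
    (h : R0 h₁ h₂ M x.1 χ') : H.δ0fun x = T1mk P' M χ' (H.R0_cocycle h) := by
  unfold SES.δ0fun
  rw [T1mk_eq_iff]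
  have h0 := Classical.choose_spec (H.R0_exists x.1 (LinearMap.mem_ker.mp x.2))
  have := R0_sub h0 h
  rw [sub_self] at this
  exact H.R0_zero_left this

lemma SES.δ0_add (H : SES h₁ h₂ M) (x y : T0 P M) :
    H.δ0fun (x + y) = H.δ0fun x + H.δ0fun y := by
  have hx := Classical.choose_spec (H.R0_exists x.1 (LinearMap.mem_ker.mp x.2))
  have hy := Classical.choose_spec (H.R0_exists y.1 (LinearMap.mem_ker.mp y.2))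
  have hxy : R0 h₁ h₂ M (x + y).1 _ := R0_add hx hy
  rw [H.δ0_eq (x + y) _ hxy]
  rfl

/-- the connecting map `T⁰(B/A) → T¹(C/B)` -/
def SES.δ0 (H : SES h₁ h₂ M) : T0 P M →+ T1 P' M := AddMonoidHom.mk' H.δ0fun H.δ0_add

lemma SES.δ0_apply (H : SES h₁ h₂ M) (x : T0 P M) : H.δ0 x = H.δ0fun x := rfl

theorem SES.exact_T0_δ0 (H : SES h₁ h₂ M) : Function.Exact (h₁.T0pull M) H.δ0 := by
  intro x
  constructor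
  · intro hx
    have h0 := Classical.choose_spec (H.R0_exists x.1 (LinearMap.mem_ker.mp x.2))
    rw [H.δ0_apply, H.δ0_eq x _ h0, T1mk_eq_zero_iff] at hx
    obtain ⟨ψ', hψ'⟩ := hx
    obtain ⟨ψ'', hb, ha⟩ := h0
    have hmem : d1Star P'' M (ψ'' - h₂.pull0 M ψ') = 0 := by
      rw [map_sub, ← h₂.pull1_d1Star, hψ', ha, sub_self]
    refine ⟨⟨ψ'' - h₂.pull0 M ψ', LinearMap.mem_ker.mpr hmem⟩, Subtype.ext ?_⟩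
    rw [T0pull_coe]
    show h₁.pull0 M (ψ'' - h₂.pull0 M ψ') = x.1
    rw [map_sub, H.zero0, sub_zero, hb]
  · rintro ⟨y, hy⟩
    have h0 : R0 h₁ h₂ M x.1 0 :=
      ⟨y.1, by rw [← hy]; rfl, by rw [map_zero]; exact (LinearMap.mem_ker.mp y.2).symm⟩
    rw [H.δ0_apply, H.δ0_eq x 0 h0, T1mk_eq_zero_iff]
    exact ⟨0, map_zero _⟩

lemma SES.exact_δ0_T1_mp (H : SES h₁ h₂ M) (χ' : L1 P' →ₗ[C] M) (hχ' : d2Star P' M χ' = 0)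
    (hy : h₂.T1pull M (T1mk P' M χ' hχ') = 0) : ∃ x, H.δ0 x = T1mk P' M χ' hχ' := by
  rw [T1pull_T1mk₂ h₂ M χ' hχ' (cocycle_pull₂ h₂ M χ' hχ'), T1mk_eq_zero_iff] at hy
  obtain ⟨ψ'', hψ''⟩ := hy
  have hx : d1Star P M (h₁.pull0 M ψ'') = 0 := by
    rw [← h₁.pull1_d1Star, hψ'', H.zero1]
  have h0 : R0 h₁ h₂ M (h₁.pull0 M ψ'') χ' := ⟨ψ'', rfl, hψ''.symm⟩
  refine ⟨⟨h₁.pull0 M ψ'', LinearMap.mem_ker.mpr hx⟩, ?_⟩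
  rw [H.δ0_apply, H.δ0_eq _ χ' h0]

lemma SES.exact_δ0_T1_mpr (H : SES h₁ h₂ M) (x : T0 P M) : h₂.T1pull M (H.δ0 x) = 0 := by
  have h0 := Classical.choose_spec (H.R0_exists x.1 (LinearMap.mem_ker.mp x.2))
  rw [H.δ0_apply, H.δ0_eq x _ h0,
    T1pull_T1mk₂ h₂ M _ _ (cocycle_pull₂ h₂ M _ (H.R0_cocycle h0)), T1mk_eq_zero_iff]
  obtain ⟨ψ'', hb, ha⟩ := h0
  exact ⟨ψ'', ha.symm⟩

theorem SES.exact_δ0_T1 (H : SES h₁ h₂ M) : Function.Exact H.δ0 (h₂.T1pull M) := by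
  intro y
  obtain ⟨χ', hχ', hy'⟩ := T1mk_surj P' M y
  constructor
  · intro hy
    rw [hy'] at hy
    obtain ⟨x, hx⟩ := H.exact_δ0_T1_mp χ' hχ' hy
    exact ⟨x, hx.trans hy'.symm⟩
  · rintro ⟨x, hx⟩
    rw [← hx]
    exact H.exact_δ0_T1_mpr x

/-! degree 1 -/

lemma SES.R1_exists (H : SES h₁ h₂ M) (χ : L1 P →ₗ[B] M) (hχ : d2Star P M χ = 0) :
    ∃ ψ', R1 h₁ h₂ M χ ψ' := by
  obtain ⟨χ'', hχ''⟩ := H.surj1 χ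
  have h0 : h₁.pull2 M (d2Star P'' M χ'') = 0 := by
    rw [h₁.pull2_d2Star, hχ'', hχ]
  obtain ⟨ψ', hψ'⟩ := H.ex2 _ h0
  exact ⟨ψ', χ'', hχ'', hψ'⟩

lemma R1_add {χ₁ χ₂ : L1 P →ₗ[B] M} {ψ₁ ψ₂ : L2 P' →ₗ[C] M}
    (h : R1 h₁ h₂ M χ₁ ψ₁) (h' : R1 h₁ h₂ M χ₂ ψ₂) : R1 h₁ h₂ M (χ₁ + χ₂) (ψ₁ + ψ₂) := by
  obtain ⟨c₁, hb₁, ha₁⟩ := h
  obtain ⟨c₂, hb₂, ha₂⟩ := h'
  exact ⟨c₁ + c₂, by rw [map_add, hb₁, hb₂], by rw [map_add, map_add, ha₁, ha₂]⟩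

lemma R1_sub {χ₁ χ₂ : L1 P →ₗ[B] M} {ψ₁ ψ₂ : L2 P' →ₗ[C] M}
    (h : R1 h₁ h₂ M χ₁ ψ₁) (h' : R1 h₁ h₂ M χ₂ ψ₂) : R1 h₁ h₂ M (χ₁ - χ₂) (ψ₁ - ψ₂) := by
  obtain ⟨c₁, hb₁, ha₁⟩ := h
  obtain ⟨c₂, hb₂, ha₂⟩ := h'
  exact ⟨c₁ - c₂, by rw [map_sub, hb₁, hb₂], by rw [map_sub, map_sub, ha₁, ha₂]⟩

lemma SES.R1_cobdry (H : SES h₁ h₂ M) (ψ : L0 P →ₗ[B] M) {ψ' : L2 P' →ₗ[C] M}
    (h : R1 h₁ h₂ M (d1Star P M ψ) ψ') : ∃ χ', d2Star P' M χ' = ψ' := by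
  obtain ⟨χ'', hb, ha⟩ := h
  obtain ⟨ψ''₀, hψ''₀⟩ := H.surj0 ψ
  have h0 : h₁.pull1 M (χ'' - d1Star P'' M ψ''₀) = 0 := by
    rw [map_sub, hb, h₁.pull1_d1Star, hψ''₀, sub_self]
  obtain ⟨χ', hχ'⟩ := H.ex1 _ h0
  refine ⟨χ', ?_⟩
  apply H.inj2
  rw [h₂.pull2_d2Star, hχ', map_sub, d2Star_d1Star, sub_zero, ha]

lemma SES.exists_R1 (H : SES h₁ h₂ M) (x : T1 P M) :
    ∃ ψ', ∃ χ hχ, x = T1mk P M χ hχ ∧ R1 h₁ h₂ M χ ψ' := by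
  obtain ⟨χ, hχ, hx⟩ := T1mk_surj P M x
  obtain ⟨ψ', hψ'⟩ := H.R1_exists χ hχ
  exact ⟨ψ', χ, hχ, hx, hψ'⟩

/-- the connecting map `T¹(B/A) → T²(C/B)` as a function -/
def SES.δ1fun (H : SES h₁ h₂ M) (x : T1 P M) : T2 P' M :=
  T2mk P' M (Classical.choose (H.exists_R1 x))

lemma SES.δ1_eq (H : SES h₁ h₂ M) (χ : L1 P →ₗ[B] M) (hχ : d2Star P M χ = 0)
    (ψ' : L2 P' →ₗ[C] M) (h : R1 h₁ h₂ M χ ψ') :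
    H.δ1fun (T1mk P M χ hχ) = T2mk P' M ψ' := by
  unfold SES.δ1fun
  obtain ⟨χ₀, hχ₀, e, h₀⟩ := Classical.choose_spec (H.exists_R1 (T1mk P M χ hχ))
  rw [T2mk_eq_iff]
  obtain ⟨ψ, hψ⟩ := (T1mk_eq_iff P M hχ₀ hχ).mp e.symm
  have := R1_sub h₀ h
  rw [← hψ] at this
  exact H.R1_cobdry ψ this

lemma SES.δ1_add (H : SES h₁ h₂ M) (x y : T1 P M) :
    H.δ1fun (x + y) = H.δ1fun x + H.δ1fun y := by
  obtain ⟨χx, hχx, hx⟩ := T1mk_surj P M x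
  obtain ⟨χy, hχy, hy⟩ := T1mk_surj P M y
  obtain ⟨ψx, hψx⟩ := H.R1_exists χx hχx
  obtain ⟨ψy, hψy⟩ := H.R1_exists χy hχy
  have hxy : d2Star P M (χx + χy) = 0 := by rw [map_add, hχx, hχy, add_zero]
  rw [hx, hy, T1mk_add P M hχx hχy hxy, H.δ1_eq _ hxy _ (R1_add hψx hψy), H.δ1_eq _ hχx _ hψx,
    H.δ1_eq _ hχy _ hψy, T2mk_add]

/-- the connecting map `T¹(B/A) → T²(C/B)` -/
def SES.δ1 (H : SES h₁ h₂ M) : T1 P M →+ T2 P' M := AddMonoidHom.mk' H.δ1fun H.δ1_add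

lemma SES.δ1_apply (H : SES h₁ h₂ M) (x : T1 P M) : H.δ1 x = H.δ1fun x := rfl

lemma SES.exact_T1_δ1_mp (H : SES h₁ h₂ M) (χ : L1 P →ₗ[B] M) (hχ : d2Star P M χ = 0)
    (hx : H.δ1 (T1mk P M χ hχ) = 0) : ∃ y, h₁.T1pull M y = T1mk P M χ hχ := by
  obtain ⟨ψ', h0⟩ := H.R1_exists χ hχ
  rw [H.δ1_apply, H.δ1_eq χ hχ ψ' h0, T2mk_eq_zero_iff] at hx
  obtain ⟨χ', hχ'⟩ := hx
  obtain ⟨χ'', hb, ha⟩ := h0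
  have hc : d2Star P'' M (χ'' - h₂.pull1 M χ') = 0 := by
    rw [map_sub, ← h₂.pull2_d2Star, hχ', ha, sub_self]
  refine ⟨T1mk P'' M _ hc, ?_⟩
  rw [T1pull_T1mk₁ h₁ M _ hc (cocycle_pull₁ h₁ M _ hc)]
  apply T1mk_congr
  rw [map_sub, H.zero1, sub_zero, hb]

lemma SES.exact_T1_δ1_mpr (H : SES h₁ h₂ M) (χ'' : L1 P'' →ₗ[C] M)
    (hχ'' : d2Star P'' M χ'' = 0) : H.δ1 (h₁.T1pull M (T1mk P'' M χ'' hχ'')) = 0 := by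
  have h0 : R1 h₁ h₂ M (h₁.pull1 M χ'') 0 := ⟨χ'', rfl, by rw [map_zero, hχ'']⟩
  rw [T1pull_T1mk₁ h₁ M χ'' hχ'' (cocycle_pull₁ h₁ M χ'' hχ''), H.δ1_apply,
    H.δ1_eq _ _ 0 h0, T2mk_eq_zero_iff]
  exact ⟨0, map_zero _⟩

theorem SES.exact_T1_δ1 (H : SES h₁ h₂ M) : Function.Exact (h₁.T1pull M) H.δ1 := by
  intro x
  obtain ⟨χ, hχ, hx'⟩ := T1mk_surj P M x
  constructor
  · intro hx
    rw [hx'] at hx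
    obtain ⟨y, hy⟩ := H.exact_T1_δ1_mp χ hχ hx
    exact ⟨y, hy.trans hx'.symm⟩
  · rintro ⟨y, hy⟩
    obtain ⟨χ'', hχ'', hy'⟩ := T1mk_surj P'' M y
    rw [← hy, hy']
    exact H.exact_T1_δ1_mpr χ'' hχ''

lemma SES.exact_δ1_T2_mp (H : SES h₁ h₂ M) (ψ' : L2 P' →ₗ[C] M)
    (hy : h₂.T2pull M (T2mk P' M ψ') = 0) : ∃ x, H.δ1 x = T2mk P' M ψ' := by
  rw [T2pull_T2mk₂ h₂ M ψ', T2mk_eq_zero_iff] at hy
  obtain ⟨χ'', hχ''⟩ := hy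
  have hz : d2Star P M (h₁.pull1 M χ'') = 0 := by
    rw [← h₁.pull2_d2Star, hχ'', H.zero2]
  have h0 : R1 h₁ h₂ M (h₁.pull1 M χ'') ψ' := ⟨χ'', rfl, hχ''.symm⟩
  exact ⟨T1mk P M _ hz, by rw [H.δ1_apply, H.δ1_eq _ hz ψ' h0]⟩

lemma SES.exact_δ1_T2_mpr (H : SES h₁ h₂ M) (χ : L1 P →ₗ[B] M) (hχ : d2Star P M χ = 0) :
    h₂.T2pull M (H.δ1 (T1mk P M χ hχ)) = 0 := by
  obtain ⟨ψ', h0⟩ := H.R1_exists χ hχ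
  rw [H.δ1_apply, H.δ1_eq χ hχ ψ' h0, T2pull_T2mk₂ h₂ M ψ', T2mk_eq_zero_iff]
  obtain ⟨χ'', hb, ha⟩ := h0
  exact ⟨χ'', ha.symm⟩

theorem SES.exact_δ1_T2 (H : SES h₁ h₂ M) : Function.Exact H.δ1 (h₂.T2pull M) := by
  intro y
  obtain ⟨ψ', hy'⟩ := T2mk_surj P' M y
  constructor
  · intro hy
    rw [hy'] at hy
    obtain ⟨x, hx⟩ := H.exact_δ1_T2_mp ψ' hy
    exact ⟨x, hx.trans hy'.symm⟩
  · rintro ⟨x, hx⟩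
    obtain ⟨χ, hχ, hx'⟩ := T1mk_surj P M x
    rw [← hx, hx']
    exact H.exact_δ1_T2_mpr χ hχ

end LES

end

end Groth.Agent.Lib.LeadJZ
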