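import Groth.Agent.Lib.LeadJZD

/-!
# Jacobi–Zariski: the composite presentation and exactness in degrees 0 and 1
-/

set_option autoImplicit false
set_option maxHeartbeats 400000
set_option linter.style.haveILetI false
set_option linter.unusedSectionVars false
set_option linter.unusedVariables false

universe u w m

open TensorProduct

namespace Groth.Agent.Lib.LeadJZ

open CotT

noncomputable section

section Xv

variable {A B : Type u} [CommRing A] [CommRing B] [Algebra A B] {ι σ : Type w}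
variable (P : Algebra.Presentation A B ι σ) {M : Type m} [AddCommGroup M] [Module B M]

/-- the variable `X i` as an element of the presentation's ring -/
def Xv (i : ι) : P.toExtension.Ring := MvPolynomial.X i

lemma L0_ext' {ψ ψ' : L0 P →ₗ[B] M} (h : ∀ i, dv P ψ (Xv P i) = dv P ψ' (Xv P i)) : ψ = ψ' :=
  L0_ext P h

lemma exists_L0' (c : ι → M) : ∃ ψ : L0 P →ₗ[B] M, ∀ i, dv P ψ (Xv P i) = c i := exists_L0 P c

end Xv

section Special

variable {A B C : Type u} [CommRing A] [CommRing B] [CommRing C] [Algebra A B] [Algebra B C]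
  [Algebra A C] [IsScalarTower A B C]
variable {ι σ ι' σ' : Type w}
variable (P : Algebra.Presentation A B ι σ) (P' : Algebra.Presentation B C ι' σ')

/-- `P → P'.comp P` -/
def hh₁ : PresHom P (P'.comp P) where
  hom := P'.toGenerators.toComp P.toGenerators
  relVal s := Finsupp.single (Sum.inr s) 1
  jmap_relVal s := by
    rw [jmap_single, one_mul]
    show (P'.comp P).relation (Sum.inr s) =
      (P'.toGenerators.toComp P.toGenerators).toAlgHom (P.relation s)
    rw [Algebra.Presentation.comp_relation_inr, Algebra.Generators.toComp_toAlgHom]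

/-- `P'.comp P → P'` -/
def hh₂ : PresHom (P'.comp P) P' where
  hom := P'.toGenerators.ofComp P.toGenerators
  relVal := Sum.elim (fun s' => Finsupp.single s' 1) (fun _ => 0)
  jmap_relVal s := by
    rcases s with s' | s
    · rw [Sum.elim_inl, jmap_single, one_mul]
      show P'.relation s' =
        (P'.toGenerators.ofComp P.toGenerators).toAlgHom ((P'.comp P).relation (Sum.inl s'))
      exact (Algebra.Presentation.comp_aeval_relation_inl P' P s').symm
    · rw [Sum.elim_inr, map_zero]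
      show 0 = (P'.toGenerators.ofComp P.toGenerators).toAlgHom ((P'.comp P).relation (Sum.inr s))
      rw [Algebra.Presentation.comp_relation_inr, Algebra.Generators.toAlgHom_ofComp_rename]
      have : algebraMap P.toGenerators.Ring B (P.relation s) = 0 := algebraMap_rel P s
      rw [this, map_zero]

lemma hh₁_ringHom_X (i : ι) :
    (hh₁ P P').ringHom (Xv P i) = Xv (P'.comp P) (Sum.inr i) := by
  show (P'.toGenerators.toComp P.toGenerators).toAlgHom (MvPolynomial.X i) = _
  rw [Algebra.Generators.Hom.toAlgHom_X]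
  rfl

lemma hh₂_ringHom_X_inl (i' : ι') :
    (hh₂ P P').ringHom (Xv (P'.comp P) (Sum.inl i')) = Xv P' i' := by
  show (P'.toGenerators.ofComp P.toGenerators).toAlgHom (MvPolynomial.X (Sum.inl i')) = _
  rw [Algebra.Generators.Hom.toAlgHom_X]
  rfl

lemma hh₂_ringHom_X_inr (i : ι) :
    (hh₂ P P').ringHom (Xv (P'.comp P) (Sum.inr i)) =
      algebraMap B P'.toExtension.Ring (P.val i) := by
  show (P'.toGenerators.ofComp P.toGenerators).toAlgHom (MvPolynomial.X (Sum.inr i)) = _
  rw [Algebra.Generators.Hom.toAlgHom_X]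
  rfl

lemma hh₁_relModMap_single (s : σ) :
    (hh₁ P P').relModMap (Finsupp.single s 1) = Finsupp.single (Sum.inr s) 1 := by
  rw [PresHom.relModMap_single, map_one, one_smul]
  rfl

lemma hh₂_relModMap_single_inl (s' : σ') :
    (hh₂ P P').relModMap (Finsupp.single (Sum.inl s') 1) = Finsupp.single s' 1 := by
  rw [PresHom.relModMap_single, map_one, one_smul]
  rfl

lemma hh₂_relModMap_single_inr (s : σ) (r : (P'.comp P).toExtension.Ring) :
    (hh₂ P P').relModMap (Finsupp.single (Sum.inr s) r) = 0 := by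
  rw [PresHom.relModMap_single]
  show _ • (0 : relMod P') = 0
  rw [smul_zero]

variable (M : Type m) [AddCommGroup M] [Module C M] [Module B M] [IsScalarTower B C M]

/-! ### degree 0 -/

lemma sp_inj0 : Function.Injective ((hh₂ P P').pull0 M) := by
  intro ψ₁ ψ₂ h
  apply L0_ext' P'
  intro i'
  have := congrArg (fun ψ => dv (P'.comp P) ψ (Xv (P'.comp P) (Sum.inl i'))) h
  simp only [dv_pull0, hh₂_ringHom_X_inl] at this
  exact this

lemma dv_algebraMap_B (ψ' : L0 P' →ₗ[C] M) (b : B) :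
    dv P' ψ' (algebraMap B P'.toExtension.Ring b) = 0 := (isDer_dv P' ψ').alg b

lemma sp_zero0 (ψ' : L0 P' →ₗ[C] M) : (hh₁ P P').pull0 M ((hh₂ P P').pull0 M ψ') = 0 := by
  apply L0_ext' P
  intro i
  rw [dv_pull0, dv_pull0, hh₁_ringHom_X, hh₂_ringHom_X_inr, dv_algebraMap_B]
  rfl

lemma sp_ex0 (ψ'' : L0 (P'.comp P) →ₗ[C] M) (h : (hh₁ P P').pull0 M ψ'' = 0) :
    ∃ ψ', (hh₂ P P').pull0 M ψ' = ψ'' := by
  obtain ⟨ψ', hψ'⟩ := exists_L0' P' (M := M)
    (fun i' => dv (P'.comp P) ψ'' (Xv (P'.comp P) (Sum.inl i')))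
  refine ⟨ψ', L0_ext' (P'.comp P) ?_⟩
  rintro (i' | i)
  · rw [dv_pull0, hh₂_ringHom_X_inl, hψ']
  · rw [dv_pull0, hh₂_ringHom_X_inr, dv_algebraMap_B]
    have := congrArg (fun ψ => dv P ψ (Xv P i)) h
    simp only [dv_pull0, hh₁_ringHom_X] at this
    exact this.symm

lemma sp_surj0 : Function.Surjective ((hh₁ P P').pull0 M) := by
  intro ψ
  obtain ⟨ψ'', hψ''⟩ := exists_L0' (P'.comp P) (M := M)
    (Sum.elim (fun _ => 0) (fun i => dv P ψ (Xv P i)))
  refine ⟨ψ'', L0_ext' P ?_⟩
  intro i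
  rw [dv_pull0, hh₁_ringHom_X, hψ'']
  rfl

/-! ### degree 1 -/

lemma sp_inj1 : Function.Injective ((hh₂ P P').pull1 M) := by
  intro χ₁ χ₂ h
  apply L1_ext P'
  intro s'
  have := congrArg (fun χ => v1 (P'.comp P) χ (Finsupp.single (Sum.inl s') 1)) h
  simp only [v1_pull1, hh₂_relModMap_single_inl] at this
  exact this

lemma sp_zero1 (χ' : L1 P' →ₗ[C] M) : (hh₁ P P').pull1 M ((hh₂ P P').pull1 M χ') = 0 := by
  apply L1_ext P
  intro s
  rw [v1_pull1, v1_pull1, hh₁_relModMap_single, hh₂_relModMap_single_inr, v1_zero]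
  rfl

lemma sp_ex1 (χ'' : L1 (P'.comp P) →ₗ[C] M) (h : (hh₁ P P').pull1 M χ'' = 0) :
    ∃ χ', (hh₂ P P').pull1 M χ' = χ'' := by
  obtain ⟨χ', hχ'⟩ := exists_L1 P' (M := M)
    (fun s' => v1 (P'.comp P) χ'' (Finsupp.single (Sum.inl s') 1))
  refine ⟨χ', L1_ext (P'.comp P) ?_⟩
  rintro (s' | s)
  · rw [v1_pull1, hh₂_relModMap_single_inl, hχ']
  · rw [v1_pull1, hh₂_relModMap_single_inr, v1_zero]
    have := congrArg (fun χ => v1 P χ (Finsupp.single s 1)) h
    simp only [v1_pull1, hh₁_relModMap_single] at this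
    exact this.symm

lemma sp_surj1 : Function.Surjective ((hh₁ P P').pull1 M) := by
  intro χ
  obtain ⟨χ'', hχ''⟩ := exists_L1 (P'.comp P) (M := M)
    (Sum.elim (fun _ => 0) (fun s => v1 P χ (Finsupp.single s 1)))
  refine ⟨χ'', L1_ext P ?_⟩
  intro s
  rw [v1_pull1, hh₁_relModMap_single, hχ'']
  rfl

end Special

end

end Groth.Agent.Lib.LeadJZ
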