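import Groth.Agent.Lib.LeadJZE

/-!
# Jacobi–Zariski: exactness in degree 2 for the composite presentation
-/

set_option autoImplicit false
set_option maxHeartbeats 400000
set_option linter.style.haveILetI false
set_option linter.unusedSectionVars false
set_option linter.unusedVariables false

universe u w m

open TensorProduct

namespace Groth.Agent.Lib.LeadJZ

open CotT

noncomputable section

section Coeff

variable {A : Type u} [CommRing A] {ι ι' : Type w}

/-- coefficient of `Y^m` in `A[Y, X] = A[X][Y]` -/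
def cf (m : ι' →₀ ℕ) : MvPolynomial (ι' ⊕ ι) A →+ MvPolynomial ι A where
  toFun z := MvPolynomial.coeff m (MvPolynomial.sumAlgEquiv A ι' ι z)
  map_zero' := by rw [map_zero, MvPolynomial.coeff_zero]
  map_add' z z' := by rw [map_add, MvPolynomial.coeff_add]

lemma cf_apply (m : ι' →₀ ℕ) (z : MvPolynomial (ι' ⊕ ι) A) :
    cf m z = MvPolynomial.coeff m (MvPolynomial.sumAlgEquiv A ι' ι z) := rfl

lemma sumAlgEquiv_rename_inr (r : MvPolynomial ι A) :
    MvPolynomial.sumAlgEquiv A ι' ι (MvPolynomial.rename Sum.inr r) = MvPolynomial.C r :=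
  DFunLike.congr_fun (MvPolynomial.sumAlgEquiv_comp_rename_inr (R := A) (S₁ := ι') (S₂ := ι)) r

lemma cf_rename_mul (m : ι' →₀ ℕ) (r : MvPolynomial ι A) (z : MvPolynomial (ι' ⊕ ι) A) :
    cf m (MvPolynomial.rename Sum.inr r * z) = r * cf m z := by
  rw [cf_apply, cf_apply, map_mul, sumAlgEquiv_rename_inr, MvPolynomial.coeff_C_mul]

/-- the monomial `Y^m` -/
def Ymon (m : ι' →₀ ℕ) : MvPolynomial (ι' ⊕ ι) A :=
  (MvPolynomial.sumAlgEquiv A ι' ι).symm (MvPolynomial.monomial m 1)

lemma eq_sum_cf (z : MvPolynomial (ι' ⊕ ι) A) (U : Finset (ι' →₀ ℕ))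
    (hU : (MvPolynomial.sumAlgEquiv A ι' ι z).support ⊆ U) :
    z = ∑ m ∈ U, MvPolynomial.rename Sum.inr (cf m z) * Ymon m := by
  apply (MvPolynomial.sumAlgEquiv A ι' ι).injective
  rw [map_sum]
  have h1 : ∀ m, MvPolynomial.sumAlgEquiv A ι' ι (MvPolynomial.rename Sum.inr (cf m z) * Ymon m) =
      MvPolynomial.monomial m (MvPolynomial.coeff m (MvPolynomial.sumAlgEquiv A ι' ι z)) := by
    intro m
    rw [map_mul, sumAlgEquiv_rename_inr, Ymon, AlgEquiv.apply_symm_apply,
      MvPolynomial.C_mul_monomial, mul_one, cf_apply]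
  simp_rw [h1]
  conv_lhs => rw [(MvPolynomial.sumAlgEquiv A ι' ι z).as_sum]
  refine Finset.sum_subset hU (fun m _ hm => ?_)
  rw [MvPolynomial.notMem_support_iff.mp hm, MvPolynomial.monomial_zero]

lemma H3core {σ : Type w} (f : σ → MvPolynomial ι A) (a : σ →₀ MvPolynomial (ι' ⊕ ι) A)
    (ha : a.sum (fun s r => MvPolynomial.rename Sum.inr (f s) * r) = 0) :
    ∃ (U : Finset (ι' →₀ ℕ)) (qq : (ι' →₀ ℕ) → (σ →₀ MvPolynomial ι A)),
      (∀ m, (qq m).sum (fun s r => r * f s) = 0) ∧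
      ∀ s, a s = ∑ m ∈ U, Ymon m * MvPolynomial.rename Sum.inr (qq m s) := by
  classical
  refine ⟨a.support.biUnion fun s => (MvPolynomial.sumAlgEquiv A ι' ι (a s)).support,
    fun m => Finsupp.mapRange (cf m) (map_zero _) a, fun m => ?_, fun s => ?_⟩
  · rw [Finsupp.sum_mapRange_index (fun s => zero_mul _)]
    have := congrArg (cf m) ha
    rw [map_zero, map_finsuppSum] at this
    rw [← this]
    refine Finsupp.sum_congr fun s _ => ?_
    rw [cf_rename_mul, mul_comm]
  · have hU : (MvPolynomial.sumAlgEquiv A ι' ι (a s)).support ⊆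
        a.support.biUnion fun s => (MvPolynomial.sumAlgEquiv A ι' ι (a s)).support := by
      by_cases hs : s ∈ a.support
      · exact Finset.subset_biUnion_of_mem
          (fun s => (MvPolynomial.sumAlgEquiv A ι' ι (a s)).support) hs
      · rw [Finsupp.notMem_support_iff.mp hs, map_zero, MvPolynomial.support_zero]
        exact Finset.empty_subset _
    conv_lhs => rw [eq_sum_cf (a s) _ hU]
    refine Finset.sum_congr rfl fun m _ => ?_
    rw [Finsupp.mapRange_apply, mul_comm]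

end Coeff

section V2

variable {A B : Type u} [CommRing A] [CommRing B] [Algebra A B] {ι σ : Type w}
variable (P : Algebra.Presentation A B ι σ) {M : Type m} [AddCommGroup M] [Module B M]

lemma v2_zero (ψ : L2 P →ₗ[B] M) : v2 P ψ 0 = 0 := by
  have h := v2_smul P ψ 0 0
  rw [zero_smul] at h
  rw [h]
  show algebraMap P.toExtension.Ring B 0 • _ = 0
  rw [map_zero, zero_smul]

lemma v2_sum {κ : Type*} (ψ : L2 P →ₗ[B] M) (U : Finset κ) (f : κ → relKer P) :
    v2 P ψ (∑ m ∈ U, f m) = ∑ m ∈ U, v2 P ψ (f m) := by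
  classical
  induction U using Finset.induction_on with
  | empty => rw [Finset.sum_empty, Finset.sum_empty, v2_zero]
  | insert m U hm ih => rw [Finset.sum_insert hm, Finset.sum_insert hm, v2_add, ih]

lemma v2_sub (ψ : L2 P →ₗ[B] M) (q q' : relKer P) : v2 P ψ (q - q') = v2 P ψ q - v2 P ψ q' := by
  have h := v2_add P ψ (q - q') q'
  have e : q - q' + q' = q := sub_add_cancel q q'
  rw [e] at h
  rw [h, add_sub_cancel_right]

end V2

section E2

variable {A B C : Type u} [CommRing A] [CommRing B] [CommRing C] [Algebra A B] [Algebra B C]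
  [Algebra A C] [IsScalarTower A B C]
variable {ι σ ι' σ' : Type w}
variable (P : Algebra.Presentation A B ι σ) (P' : Algebra.Presentation B C ι' σ')

lemma hh₁_ringHom (r : P.toExtension.Ring) :
    (hh₁ P P').ringHom r = MvPolynomial.rename Sum.inr r := by
  show (P'.toGenerators.toComp P.toGenerators).toAlgHom r = _
  rw [Algebra.Generators.toComp_toAlgHom]

lemma hh₂_ringHom_surj : Function.Surjective (hh₂ P P').ringHom :=
  Algebra.Generators.toAlgHom_ofComp_surjective P'.toGenerators P.toGenerators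

lemma hh₁_relModMap (x : relMod P) :
    (hh₁ P P').relModMap x =
      Finsupp.mapDomain Sum.inr (Finsupp.mapRange (hh₁ P P').ringHom (map_zero _) x) := by
  induction x using Finsupp.induction_linear with
  | zero => rw [map_zero, Finsupp.mapRange_zero, Finsupp.mapDomain_zero]
  | add x y hx hy =>
    rw [map_add, hx, hy, Finsupp.mapRange_add (map_add _), Finsupp.mapDomain_add]
  | single s r =>
    rw [PresHom.relModMap_single, Finsupp.mapRange_single, Finsupp.mapDomain_single]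
    show _ • (Finsupp.single (Sum.inr s) 1 : relMod (P'.comp P)) = _
    rw [Finsupp.smul_single, smul_eq_mul, mul_one]

lemma hh₂_relModMap_mapDomain_inr (a : σ →₀ (P'.comp P).toExtension.Ring) :
    (hh₂ P P').relModMap (Finsupp.mapDomain Sum.inr a) = 0 := by
  induction a using Finsupp.induction_linear with
  | zero => rw [Finsupp.mapDomain_zero, map_zero]
  | add x y hx hy => rw [Finsupp.mapDomain_add, map_add, hx, hy, add_zero]
  | single s r => rw [Finsupp.mapDomain_single, hh₂_relModMap_single_inr]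

lemma hh₂_relModMap_surj (y' : relMod P') :
    ∃ y'' : relMod (P'.comp P), (hh₂ P P').relModMap y'' = y' := by
  induction y' using Finsupp.induction_linear with
  | zero => exact ⟨0, map_zero _⟩
  | add x y hx hy =>
    obtain ⟨x'', hx''⟩ := hx
    obtain ⟨y'', hy''⟩ := hy
    exact ⟨x'' + y'', by rw [map_add, hx'', hy'']⟩
  | single s' r' =>
    obtain ⟨r, hr⟩ := hh₂_ringHom_surj P P' r'
    refine ⟨Finsupp.single (Sum.inl s') r, ?_⟩
    rw [PresHom.relModMap_single, hr]
    show r' • (Finsupp.single s' 1 : relMod P') = _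
    rw [Finsupp.smul_single, smul_eq_mul, mul_one]

lemma hh₂_relModMap_apply (x'' : relMod (P'.comp P)) (s' : σ') :
    (hh₂ P P').relModMap x'' s' = (hh₂ P P').ringHom (x'' (Sum.inl s')) := by
  classical
  induction x'' using Finsupp.induction_linear with
  | zero => rw [map_zero, Finsupp.zero_apply, Finsupp.zero_apply, map_zero]
  | add x y hx hy => rw [map_add, Finsupp.add_apply, Finsupp.add_apply, hx, hy, map_add]
  | single t r =>
    rcases t with t' | t
    · rw [PresHom.relModMap_single]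
      show ((hh₂ P P').ringHom r • (Finsupp.single t' 1 : relMod P')) s' = _
      rw [Finsupp.smul_apply, Finsupp.single_apply, Finsupp.single_apply, smul_eq_mul]
      by_cases h : t' = s'
      · rw [if_pos h, if_pos (by rw [h]), mul_one]
      · rw [if_neg h, if_neg (fun e => h (Sum.inl_injective e)), mul_zero, map_zero]
    · rw [hh₂_relModMap_single_inr, Finsupp.zero_apply, Finsupp.single_apply,
        if_neg (by simp), map_zero]

/-- the kernel of `A[Y, X] → B[Y]` is generated by the relations of `P` -/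
lemma ker_ofComp (z : (P'.comp P).toExtension.Ring) (hz : (hh₂ P P').ringHom z = 0) :
    ∃ c : σ →₀ (P'.comp P).toExtension.Ring,
      jmap (P'.comp P) (Finsupp.mapDomain Sum.inr c) = z := by
  have h1 : z ∈ RingHom.ker (P'.toGenerators.ofComp P.toGenerators).toAlgHom := hz
  rw [← Algebra.Generators.map_toComp_ker, ← P.span_range_relation_eq_ker, Ideal.map_span,
    ← Set.range_comp, Algebra.Generators.toComp_toAlgHom] at h1
  have h2 : z ∈ Submodule.span (P'.comp P).toExtension.Ring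
      (Set.range fun s : σ => rel (P'.comp P) (Sum.inr s)) := h1
  obtain ⟨c, hc⟩ := (Finsupp.mem_span_range_iff_exists_finsupp).mp h2
  refine ⟨c, ?_⟩
  rw [jmap, Finsupp.linearCombination_mapDomain, Finsupp.linearCombination_apply, ← hc]
  rfl

lemma relKerMap₂_surj (q' : relKer P') :
    ∃ x'' : relKer (P'.comp P), (hh₂ P P').relKerMap x'' = q' := by
  obtain ⟨y'', hy''⟩ := hh₂_relModMap_surj P P' (q' : relMod P')
  have hz : (hh₂ P P').ringHom (jmap (P'.comp P) y'') = 0 := by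
    rw [← PresHom.jmap_relModMap, hy'']
    exact q'.2
  obtain ⟨c, hc⟩ := ker_ofComp P P' _ hz
  have hmem : y'' - Finsupp.mapDomain Sum.inr c ∈ relKer (P'.comp P) := by
    show jmap (P'.comp P) (y'' - _) = 0
    rw [map_sub, hc, sub_self]
  refine ⟨⟨_, hmem⟩, Subtype.ext ?_⟩
  rw [PresHom.relKerMap_coe]
  show (hh₂ P P').relModMap (y'' - Finsupp.mapDomain Sum.inr c) = q'
  rw [map_sub, hh₂_relModMap_mapDomain_inr, sub_zero, hy'']


/-- `Y^m` in the ring of the composite presentation -/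
def YmonP (m : ι' →₀ ℕ) : (P'.comp P).toExtension.Ring := Ymon (A := A) (ι := ι) m

lemma H3coreP (a : σ →₀ (P'.comp P).toExtension.Ring)
    (ha : jmap (P'.comp P) (Finsupp.mapDomain Sum.inr a) = 0) :
    ∃ (U : Finset (ι' →₀ ℕ)) (qq : (ι' →₀ ℕ) → relMod P), (∀ m, qq m ∈ relKer P) ∧
      ∀ s, a s = ∑ m ∈ U, YmonP P P' m * (hh₁ P P').ringHom (qq m s) := by
  have ha' : (Finsupp.sum a fun s r => rel (P'.comp P) (Sum.inr s) * r) = 0 := by
    rw [jmap, Finsupp.linearCombination_mapDomain, Finsupp.linearCombination_apply] at ha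
    refine Eq.trans (Finsupp.sum_congr fun s _ => ?_) ha
    show _ = a s • rel (P'.comp P) (Sum.inr s)
    rw [smul_eq_mul, mul_comm]
  obtain ⟨U, qq, hqq, hsum⟩ := H3core (A := A) (ι := ι) (ι' := ι') (rel P) a ha'
  refine ⟨U, qq, fun m => ?_, fun s => ?_⟩
  · show jmap P (qq m) = 0
    exact hqq m
  · refine (hsum s).trans (Finset.sum_congr rfl fun m _ => ?_)
    have e := hh₁_ringHom P P' (qq m s)
    exact (congrArg (fun z => YmonP P P' m * z) e).symm

lemma H3 (a : σ →₀ (P'.comp P).toExtension.Ring)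
    (ha : jmap (P'.comp P) (Finsupp.mapDomain Sum.inr a) = 0) :
    ∃ (U : Finset (ι' →₀ ℕ)) (q : (ι' →₀ ℕ) → relKer P)
      (c : (ι' →₀ ℕ) → (P'.comp P).toExtension.Ring),
      Finsupp.mapDomain Sum.inr a = ∑ m ∈ U, c m • (hh₁ P P').relModMap (q m) := by
  classical
  obtain ⟨U, qq, hq, hsum⟩ := H3coreP P P' a ha
  refine ⟨U, fun m => ⟨qq m, hq m⟩, fun m => YmonP P P' m, ?_⟩
  ext t
  rw [Finsupp.finsetSum_apply]
  beta_reduce
  rcases t with s' | s
  · rw [Finsupp.mapDomain_of_notMem_range _ _ (by simp)]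
    symm
    refine Finset.sum_eq_zero fun m _ => ?_
    rw [Finsupp.smul_apply, hh₁_relModMap, Finsupp.mapDomain_of_notMem_range _ _ (by simp),
      smul_zero]
  · rw [Finsupp.mapDomain_apply Sum.inr_injective]
    refine (hsum s).trans (Finset.sum_congr rfl fun m _ => ?_)
    rw [Finsupp.smul_apply, hh₁_relModMap, Finsupp.mapDomain_apply Sum.inr_injective,
      Finsupp.mapRange_apply, smul_eq_mul]

lemma ker_relModMap₂ (x'' : relMod (P'.comp P)) (h0 : (hh₂ P P').relModMap x'' = 0) :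
    ∃ a : σ →₀ (P'.comp P).toExtension.Ring,
      x'' - Finsupp.mapDomain Sum.inr a ∈ trivRel (P'.comp P) := by
  classical
  obtain ⟨N, hNdef⟩ : ∃ N : Submodule (P'.comp P).toExtension.Ring (relMod (P'.comp P)),
      N = trivRel (P'.comp P) ⊔ LinearMap.range (Finsupp.lmapDomain (P'.comp P).toExtension.Ring
        (P'.comp P).toExtension.Ring (Sum.inr : σ → σ' ⊕ σ)) := ⟨_, rfl⟩
  have hN : ∀ t, Finsupp.single t (x'' t) ∈ N := by
    rintro (s' | s)
    · have hz : (hh₂ P P').ringHom (x'' (Sum.inl s')) = 0 := by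
        rw [← hh₂_relModMap_apply, h0]
        rfl
      obtain ⟨c, hc⟩ := ker_ofComp P P' _ hz
      obtain ⟨e, he⟩ : ∃ e : relMod (P'.comp P), e = Finsupp.single (Sum.inl s') 1 := ⟨_, rfl⟩
      obtain ⟨c', hc'⟩ : ∃ c' : relMod (P'.comp P), c' = Finsupp.mapDomain Sum.inr c := ⟨_, rfl⟩
      have h1 : Finsupp.single (Sum.inl s') (x'' (Sum.inl s')) =
          (jmap (P'.comp P) c' • e - jmap (P'.comp P) e • c') +
            Finsupp.mapDomain Sum.inr (jmap (P'.comp P) e • c) := by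
        rw [Finsupp.mapDomain_smul, ← hc', sub_add_cancel, hc', hc, he, Finsupp.smul_single,
          smul_eq_mul, mul_one]
      rw [h1, hNdef]
      exact Submodule.add_mem _
        (Submodule.mem_sup_left (Submodule.subset_span ⟨c', e, rfl⟩))
        (Submodule.mem_sup_right ⟨_, rfl⟩)
    · rw [hNdef]
      refine Submodule.mem_sup_right ⟨Finsupp.single s (x'' (Sum.inr s)), ?_⟩
      rw [Finsupp.lmapDomain_apply, Finsupp.mapDomain_single]
  have hx : x'' ∈ N := by
    have := Submodule.sum_mem N (fun t (_ : t ∈ x''.support) => hN t)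
    change x''.sum Finsupp.single ∈ N at this
    rwa [Finsupp.sum_single] at this
  rw [hNdef] at hx
  obtain ⟨tr, htr, y, ⟨a, rfl⟩, hsum⟩ := Submodule.mem_sup.mp hx
  refine ⟨a, ?_⟩
  rw [← hsum, Finsupp.lmapDomain_apply, add_sub_cancel_right]
  exact htr

lemma exists_trivRel_lift (y' : relMod P') (hy' : y' ∈ trivRel P') :
    ∃ x'' ∈ trivRel (P'.comp P), (hh₂ P P').relModMap x'' = y' := by
  induction hy' using Submodule.span_induction with
  | mem x hx =>
    obtain ⟨a', b', rfl⟩ := hx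
    obtain ⟨a'', ha''⟩ := hh₂_relModMap_surj P P' a'
    obtain ⟨b'', hb''⟩ := hh₂_relModMap_surj P P' b'
    refine ⟨jmap (P'.comp P) a'' • b'' - jmap (P'.comp P) b'' • a'',
      Submodule.subset_span ⟨a'', b'', rfl⟩, ?_⟩
    rw [map_sub, LinearMap.map_smulₛₗ, LinearMap.map_smulₛₗ, ← PresHom.jmap_relModMap,
      ← PresHom.jmap_relModMap, ha'', hb'']
  | zero => exact ⟨0, Submodule.zero_mem _, map_zero _⟩
  | add x y _ _ hx hy =>
    obtain ⟨x'', hx1, hx2⟩ := hx
    obtain ⟨y'', hy1, hy2⟩ := hy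
    exact ⟨x'' + y'', Submodule.add_mem _ hx1 hy1, by rw [map_add, hx2, hy2]⟩
  | smul r' x _ hx =>
    obtain ⟨x'', hx1, hx2⟩ := hx
    obtain ⟨r, hr⟩ := hh₂_ringHom_surj P P' r'
    exact ⟨r • x'', Submodule.smul_mem _ _ hx1, by rw [LinearMap.map_smulₛₗ, hx2, hr]⟩

variable (M : Type m) [AddCommGroup M] [Module C M] [Module B M] [IsScalarTower B C M]

lemma v2_eq_zero_of_ker (ψ'' : L2 (P'.comp P) →ₗ[C] M) (hψ'' : (hh₁ P P').pull2 M ψ'' = 0)
    (d : relKer (P'.comp P)) (hd : (hh₂ P P').relModMap (d : relMod (P'.comp P)) = 0) :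
    v2 (P'.comp P) ψ'' d = 0 := by
  obtain ⟨a, ha⟩ := ker_relModMap₂ P P' (d : relMod (P'.comp P)) hd
  have ha2 : Finsupp.mapDomain Sum.inr a ∈ relKer (P'.comp P) := by
    have h1 := (relKer (P'.comp P)).sub_mem d.2 (trivRel_le_relKer (P'.comp P) ha)
    rwa [sub_sub_cancel] at h1
  obtain ⟨U, q, c, hsum⟩ := H3 P P' a ha2
  have hkill : ∀ q : relKer P, v2 (P'.comp P) ψ'' ((hh₁ P P').relKerMap q) = 0 := by
    intro q
    rw [← v2_pull2, hψ'']
    rfl
  have e1 : d = ⟨(d : relMod (P'.comp P)) - Finsupp.mapDomain Sum.inr a,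
      trivRel_le_relKer (P'.comp P) ha⟩ + ∑ m ∈ U, c m • (hh₁ P P').relKerMap (q m) := by
    apply Subtype.ext
    rw [Submodule.coe_add, Submodule.coe_sum]
    show (d : relMod (P'.comp P)) = ((d : relMod (P'.comp P)) - Finsupp.mapDomain Sum.inr a) +
      ∑ m ∈ U, c m • (hh₁ P P').relModMap (q m)
    rw [← hsum, sub_add_cancel]
  rw [e1, v2_add, v2_triv (P'.comp P) ψ'' _ ha, zero_add, v2_sum]
  refine Finset.sum_eq_zero fun m _ => ?_
  rw [v2_smul, hkill, smul_zero]

lemma v2_eq_of_relKerMap₂_eq (ψ'' : L2 (P'.comp P) →ₗ[C] M)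
    (hψ'' : (hh₁ P P').pull2 M ψ'' = 0) (x₁ x₂ : relKer (P'.comp P))
    (h : (hh₂ P P').relKerMap x₁ = (hh₂ P P').relKerMap x₂) :
    v2 (P'.comp P) ψ'' x₁ = v2 (P'.comp P) ψ'' x₂ := by
  have hd : (hh₂ P P').relModMap ((x₁ - x₂ : relKer (P'.comp P)) : relMod (P'.comp P)) = 0 := by
    have := congrArg Subtype.val h
    rw [PresHom.relKerMap_coe, PresHom.relKerMap_coe] at this
    rw [Submodule.coe_sub, map_sub, this, sub_self]
  have := v2_eq_zero_of_ker P P' M ψ'' hψ'' (x₁ - x₂) hd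
  rw [v2_sub] at this
  exact sub_eq_zero.mp this

lemma sp_inj2 : Function.Injective ((hh₂ P P').pull2 M) := by
  intro ψ₁ ψ₂ h
  apply L2_ext P'
  intro q'
  obtain ⟨x'', hx''⟩ := relKerMap₂_surj P P' q'
  have := congrArg (fun ψ => v2 (P'.comp P) ψ x'') h
  simp only [v2_pull2] at this
  rw [← hx'']
  exact this

lemma sp_zero2 (ψ' : L2 P' →ₗ[C] M) : (hh₁ P P').pull2 M ((hh₂ P P').pull2 M ψ') = 0 := by
  apply L2_ext P
  intro q
  rw [v2_pull2, v2_pull2]
  have : (hh₂ P P').relKerMap ((hh₁ P P').relKerMap q) = 0 := Subtype.ext (by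
    rw [PresHom.relKerMap_coe, PresHom.relKerMap_coe, hh₁_relModMap, hh₂_relModMap_mapDomain_inr]
    rfl)
  rw [this, v2_zero]
  rfl

lemma sp_ex2 (ψ'' : L2 (P'.comp P) →ₗ[C] M) (h : (hh₁ P P').pull2 M ψ'' = 0) :
    ∃ ψ', (hh₂ P P').pull2 M ψ' = ψ'' := by
  choose lift hlift using relKerMap₂_surj P P'
  have hW := v2_eq_of_relKerMap₂_eq P P' M ψ'' h
  have key : ∀ x'' : relKer (P'.comp P),
      v2 (P'.comp P) ψ'' (lift ((hh₂ P P').relKerMap x'')) = v2 (P'.comp P) ψ'' x'' :=
    fun x'' => hW _ _ (hlift _)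
  have hadd : ∀ x y : relKer P', v2 (P'.comp P) ψ'' (lift (x + y)) =
      v2 (P'.comp P) ψ'' (lift x) + v2 (P'.comp P) ψ'' (lift y) := by
    intro x y
    rw [← v2_add]
    exact hW _ _ (by rw [hlift, map_add, hlift, hlift])
  have hsmul : ∀ (r' : P'.toExtension.Ring) (q' : relKer P'),
      v2 (P'.comp P) ψ'' (lift (r' • q')) = bar P' r' • v2 (P'.comp P) ψ'' (lift q') := by
    intro r' q'
    obtain ⟨r, hr⟩ := hh₂_ringHom_surj P P' r'
    have e1 : v2 (P'.comp P) ψ'' (lift (r' • q')) = v2 (P'.comp P) ψ'' (r • lift q') :=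
      hW _ _ (by rw [hlift, LinearMap.map_smulₛₗ, hlift, hr])
    rw [e1, v2_smul, ← hr]
    congr 1
    exact ((hh₂ P P').algebraMap_ringHom r).symm
  have htriv : ∀ q' : relKer P', (q' : relMod P') ∈ trivRel P' →
      v2 (P'.comp P) ψ'' (lift q') = 0 := by
    intro q' hq'
    obtain ⟨x'', hx''t, hx''⟩ := exists_trivRel_lift P P' (q' : relMod P') hq'
    have e1 : v2 (P'.comp P) ψ'' (lift q') =
        v2 (P'.comp P) ψ'' ⟨x'', trivRel_le_relKer _ hx''t⟩ :=
      hW _ _ (by rw [hlift]; exact Subtype.ext hx''.symm)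
    rw [e1]
    exact v2_triv (P'.comp P) ψ'' _ hx''t
  obtain ⟨ψ', hψ'⟩ := exists_L2_of_fun P' (M := M)
    (g := fun q' => v2 (P'.comp P) ψ'' (lift q')) hadd hsmul htriv
  refine ⟨ψ', L2_ext (P'.comp P) fun x'' => ?_⟩
  rw [v2_pull2, hψ', key]

theorem sp_SES : SES (hh₁ P P') (hh₂ P P') M where
  inj0 := sp_inj0 P P' M
  inj1 := sp_inj1 P P' M
  inj2 := sp_inj2 P P' M
  ex0 := sp_ex0 P P' M
  ex1 := sp_ex1 P P' M
  ex2 := sp_ex2 P P' M
  zero0 := sp_zero0 P P' M
  zero1 := sp_zero1 P P' M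
  zero2 := sp_zero2 P P' M
  surj0 := sp_surj0 P P' M
  surj1 := sp_surj1 P P' M

end E2

end

end Groth.Agent.Lib.LeadJZ
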