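import Mathlib

set_option autoImplicit false
set_option maxHeartbeats 400000
set_option linter.style.haveILetI false
set_option linter.unusedSectionVars false
set_option linter.unusedVariables false

/-! Polynomial-side algebra for the Jacobian criterion: rank under a field isomorphism, the
second-order Taylor expansion at a point modulo the square of its maximal ideal, and gradients. -/

namespace Groth.Agent.Lib.LeadJac

open MvPolynomial

section Rank

universe u v

variable {k : Type u} {κ : Type v} [Field k] [Field κ]

lemma map_mulVec' (f : k →+* κ) {m n : Type*} [Fintype n] (J : Matrix m n k) (v : n → k) :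
    (J.map f).mulVec (fun i => f (v i)) = fun i => f (J.mulVec v i) := by
  funext i
  exact (RingHom.map_mulVec f J v i).symm

lemma rank_map_of_inverse (f : k →+* κ) (g : κ →+* k) (hgf : ∀ x, g (f x) = x)
    (hfg : ∀ y, f (g y) = y) {m n : Type*} [Fintype m] [Fintype n] (J : Matrix m n k) :
    (J.map f).rank = J.rank := by
  classical
  have hJ : (J.map f).map g = J := by
    ext i j
    simp [hgf]
  let j : LinearMap.range J.mulVecLin ≃+ LinearMap.range (J.map f).mulVecLin :=
    { toFun := fun x => ⟨fun i => f (x.1 i), by
        obtain ⟨v, hv⟩ := x.2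
        refine ⟨fun i => f (v i), ?_⟩
        rw [Matrix.mulVecLin_apply, map_mulVec' f J v]
        funext i
        rw [← hv, Matrix.mulVecLin_apply]⟩
      invFun := fun y => ⟨fun i => g (y.1 i), by
        obtain ⟨v, hv⟩ := y.2
        refine ⟨fun i => g (v i), ?_⟩
        have := map_mulVec' g (J.map f) v
        rw [hJ] at this
        rw [Matrix.mulVecLin_apply, this]
        funext i
        rw [← hv, Matrix.mulVecLin_apply]⟩
      left_inv := fun x => by
        apply Subtype.ext
        funext i
        exact hgf _
      right_inv := fun y => by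
        apply Subtype.ext
        funext i
        exact hfg _
      map_add' := fun x y => by
        apply Subtype.ext
        funext i
        exact map_add f _ _ }
  have hbij : Function.Bijective f :=
    ⟨fun a b h => by rw [← hgf a, ← hgf b, h], fun y => ⟨g y, hfg y⟩⟩
  have h1 := lift_rank_eq_of_equiv_equiv (f : k → κ) j hbij (fun r x => by
    apply Subtype.ext
    funext i
    exact map_mul f _ _)
  unfold Matrix.rank Module.finrank
  have h2 := congrArg Cardinal.toNat h1
  rw [Cardinal.toNat_lift, Cardinal.toNat_lift] at h2
  exact h2.symm

end Rank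

section Taylor

variable {k : Type*} [Field k] {σ : Type*} [Fintype σ] [DecidableEq σ] (α : σ → k)

/-- the maximal ideal of the point `α`. -/
noncomputable def nn : Ideal (MvPolynomial σ k) := RingHom.ker (eval α)

lemma mem_nn (F : MvPolynomial σ k) : F ∈ nn α ↔ eval α F = 0 := RingHom.mem_ker

/-- the second-order Taylor remainder at `α`. -/
noncomputable def T (F : MvPolynomial σ k) : MvPolynomial σ k :=
  F - C (eval α F) - ∑ l, C (eval α (pderiv l F)) * (X l - C (α l))

lemma eval_pderiv_mul (l : σ) (p q : MvPolynomial σ k) :
    eval α (pderiv l (p * q)) =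
      eval α p * eval α (pderiv l q) + eval α q * eval α (pderiv l p) := by
  rw [Derivation.leibniz]
  simp [smul_eq_mul]

lemma sub_C_mem (p : MvPolynomial σ k) : p - C (eval α p) ∈ nn α := by
  rw [mem_nn]; simp

lemma T_mem (F : MvPolynomial σ k) : T α F ∈ nn α ^ 2 := by
  induction F using MvPolynomial.induction_on with
  | C a =>
    have : T α (C a) = 0 := by simp [T]
    rw [this]; exact zero_mem _
  | add p q hp hq =>
    have : T α (p + q) = T α p + T α q := by
      simp only [T, map_add, add_mul, Finset.sum_add_distrib]
      ring
    rw [this]; exact add_mem hp hq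
  | mul_X p j hp =>
    have hd : ∀ i, eval α (pderiv i (p * X j)) =
        eval α (pderiv i p) * α j + (if i = j then eval α p else 0) := by
      intro i
      rw [eval_pderiv_mul, pderiv_X, eval_X]
      by_cases hij : i = j
      · subst hij
        simp only [Pi.single_eq_same, map_one, mul_one, if_true]
        ring
      · have : Pi.single (M := fun _ => MvPolynomial σ k) i 1 j = 0 :=
          Pi.single_eq_of_ne (Ne.symm hij) _
        rw [this, map_zero, mul_zero, zero_add, if_neg hij, add_zero, mul_comm]
    have key : T α (p * X j) = C (α j) * T α p + (p - C (eval α p)) * (X j - C (α j)) := by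
      have h1 : ∑ x, C (if x = j then eval α p else 0) * (X x - C (α x)) =
          C (eval α p) * (X j - C (α j)) := by
        rw [Finset.sum_eq_single j]
        · rw [if_pos rfl]
        · intro b _ hb; rw [if_neg hb, map_zero, zero_mul]
        · intro h; exact absurd (Finset.mem_univ j) h
      have h2 : ∑ x, C (eval α (pderiv x p)) * C (α j) * (X x - C (α x)) =
          C (α j) * ∑ x, C (eval α (pderiv x p)) * (X x - C (α x)) := by
        rw [Finset.mul_sum]
        apply Finset.sum_congr rfl
        intro x _
        ring
      simp only [T, hd, map_add, add_mul, Finset.sum_add_distrib, map_mul, eval_X]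
      rw [h1, h2]
      ring
    rw [key]
    refine add_mem (Ideal.mul_mem_left _ _ hp) ?_
    rw [pow_two]
    apply Ideal.mul_mem_mul (sub_C_mem α p)
    rw [mem_nn]; simp

lemma eval_pderiv_of_mem_sq {F : MvPolynomial σ k} (hF : F ∈ nn α ^ 2) (l : σ) :
    eval α (pderiv l F) = 0 := by
  rw [pow_two] at hF
  refine Submodule.mul_induction_on hF ?_ ?_
  · intro p hp q hq
    rw [eval_pderiv_mul, (mem_nn α p).mp hp, (mem_nn α q).mp hq]; ring
  · intro x y hx hy; rw [map_add, map_add, hx, hy, add_zero]

lemma mem_sq_of_grad_eq_zero {F : MvPolynomial σ k} (h0 : eval α F = 0)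
    (h1 : ∀ l, eval α (pderiv l F) = 0) : F ∈ nn α ^ 2 := by
  have := T_mem α F
  have e : T α F = F := by
    simp [T, h0, h1]
  rwa [e] at this

end Taylor

end Groth.Agent.Lib.LeadJac
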