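import Groth.Agent.Lib.LeadJacA

set_option autoImplicit false
set_option maxHeartbeats 400000
set_option linter.style.haveILetI false
set_option linter.unusedSectionVars false
set_option linter.unusedVariables false

/-! Affine gradients at a point with first coordinate `1`, and the Nakayama step for the Jacobian
criterion. -/

namespace Groth.Agent.Lib.LeadJac

open MvPolynomial

section Grad

variable {k : Type*} [Field k] {n : ℕ} (α : Fin (n + 1) → k)

/-- gradient at `α` in the affine directions. -/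
noncomputable def D : MvPolynomial (Fin (n + 1)) k →ₗ[k] (Fin n → k) where
  toFun F := fun j => eval α (pderiv j.succ F)
  map_add' F G := by funext j; simp
  map_smul' c F := by funext j; simp [smul_eq_mul]

lemma D_apply (F : MvPolynomial (Fin (n + 1)) k) (j : Fin n) :
    D α F j = eval α (pderiv j.succ F) := rfl

lemma D_mul (p q : MvPolynomial (Fin (n + 1)) k) :
    D α (p * q) = eval α p • D α q + eval α q • D α p := by
  funext j
  simp only [D_apply, Pi.add_apply, Pi.smul_apply, smul_eq_mul]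
  exact eval_pderiv_mul α _ p q

/-- the linear form with gradient `c` vanishing at `α`. -/
noncomputable def lin (c : Fin n → k) : MvPolynomial (Fin (n + 1)) k :=
  ∑ j, C (c j) * (X j.succ - C (α j.succ))

lemma eval_lin (c : Fin n → k) : eval α (lin α c) = 0 := by simp [lin]

lemma lin_zero : lin α (0 : Fin n → k) = 0 := by simp [lin]

lemma D_lin (c : Fin n → k) : D α (lin α c) = c := by
  funext j'
  rw [D_apply, lin, map_sum, map_sum]
  rw [Finset.sum_eq_single j']
  · rw [pderiv_C_mul, map_sub, pderiv_X, pderiv_C, sub_zero, Pi.single_eq_same, mul_one, eval_C]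
  · intro b _ hb
    have : Pi.single (M := fun _ => MvPolynomial (Fin (n + 1)) k) j'.succ 1 b.succ = 0 :=
      Pi.single_eq_of_ne (fun h => hb (Fin.succ_injective _ h)) _
    rw [pderiv_C_mul, map_sub, pderiv_X, pderiv_C, sub_zero, this, mul_zero, map_zero]
  · intro h; exact absurd (Finset.mem_univ _) h

lemma pderiv_zero_lin (c : Fin n → k) : eval α (pderiv 0 (lin α c)) = 0 := by
  rw [lin, map_sum, map_sum]
  apply Finset.sum_eq_zero
  intro b _
  have : Pi.single (M := fun _ => MvPolynomial (Fin (n + 1)) k) 0 1 b.succ = 0 :=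
    Pi.single_eq_of_ne (Fin.succ_ne_zero b) _
  rw [pderiv_C_mul, map_sub, pderiv_X, pderiv_C, sub_zero, this, mul_zero, map_zero]

lemma D_X_zero_sub_one : D α (X 0 - 1 : MvPolynomial (Fin (n + 1)) k) = 0 := by
  funext j
  have : Pi.single (M := fun _ => MvPolynomial (Fin (n + 1)) k) j.succ 1 0 = 0 :=
    Pi.single_eq_of_ne (Fin.succ_ne_zero j).symm _
  rw [D_apply, map_sub, pderiv_X, pderiv_one, sub_zero, this, map_zero]
  rfl

end Grad

section Span

variable {k : Type*} [Field k] {σ : Type*} {V : Type*} [AddCommGroup V] [Module k V]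

lemma D_mem_of_mem_span (α : σ → k) (Dv : MvPolynomial σ k →ₗ[k] V)
    (hD : ∀ p q, Dv (p * q) = eval α p • Dv q + eval α q • Dv p) (W : Submodule k V)
    (G : Set (MvPolynomial σ k)) (hG0 : ∀ g ∈ G, eval α g = 0) (hGW : ∀ g ∈ G, Dv g ∈ W) :
    ∀ F ∈ Ideal.span G, eval α F = 0 ∧ Dv F ∈ W := by
  intro F hF
  induction hF using Submodule.span_induction with
  | mem x hx => exact ⟨hG0 x hx, hGW x hx⟩
  | zero => simp
  | add x y _ _ hx hy =>
    exact ⟨by rw [map_add, hx.1, hy.1, add_zero], by rw [map_add]; exact add_mem hx.2 hy.2⟩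
  | smul a x _ hx =>
    rw [smul_eq_mul]
    refine ⟨by rw [map_mul, hx.1, mul_zero], ?_⟩
    rw [hD, hx.1, zero_smul, add_zero]
    exact W.smul_mem _ hx.2

end Span

section Nak

variable {k : Type*} [Field k] {n : ℕ} (α : Fin (n + 1) → k)

theorem nakayama_poly {r : ℕ} (f : Fin r → MvPolynomial (Fin (n + 1)) k) (hα0 : α 0 = 1)
    (hf0 : ∀ i, eval α (f i) = 0)
    (𝔞 : Ideal (MvPolynomial (Fin (n + 1)) k)) (hf𝔞 : ∀ i, f i ∈ 𝔞)
    (hX : (X 0 - 1 : MvPolynomial (Fin (n + 1)) k) ∈ 𝔞)
    (c₀ : Fin n → k)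
    (hW : Submodule.span k (Set.range fun i => D α (f i)) ⊔ Submodule.span k {c₀} = ⊤) :
    ∃ ρ : MvPolynomial (Fin (n + 1)) k, eval α ρ = 1 ∧
      ∀ F, eval α F = 0 → ∃ G, ρ * F - G * lin α c₀ ∈ 𝔞 := by
  classical
  set 𝔟 : Ideal (MvPolynomial (Fin (n + 1)) k) := 𝔞 ⊔ Ideal.span {lin α c₀} with h𝔟
  -- Step 1
  have step1 : nn α ≤ 𝔟 ⊔ nn α ^ 2 := by
    intro F hF
    rw [mem_nn] at hF
    have hDF : D α F ∈ Submodule.span k (Set.range fun i => D α (f i)) ⊔
        Submodule.span k {c₀} := by rw [hW]; trivial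
    obtain ⟨w, hw, v, hv, hwv⟩ := Submodule.mem_sup.mp hDF
    obtain ⟨lam, rfl⟩ := Submodule.mem_span_singleton.mp hv
    obtain ⟨q, hq⟩ := (Submodule.mem_span_range_iff_exists_fun k).mp hw
    set μ : k := eval α (pderiv 0 F) - ∑ i, q i * eval α (pderiv 0 (f i)) with hμ
    set F' : MvPolynomial (Fin (n + 1)) k :=
      F - ∑ i, C (q i) * f i - C lam * lin α c₀ - C μ * (X 0 - 1) with hF'
    have e0 : eval α F' = 0 := by
      rw [hF']
      simp only [map_sub, map_sum, map_mul, eval_C, hf0, mul_zero, Finset.sum_const_zero,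
        eval_lin, hF, eval_X, hα0, map_one, sub_self]
    have e1 : ∀ l, eval α (pderiv l F') = 0 := by
      intro l
      have hgen : eval α (pderiv l F') = eval α (pderiv l F) -
          ∑ i, q i * eval α (pderiv l (f i)) - lam * eval α (pderiv l (lin α c₀)) -
            μ * eval α (pderiv l (X 0 - 1 : MvPolynomial (Fin (n + 1)) k)) := by
        rw [hF']
        simp only [map_sub, map_sum, pderiv_C_mul, map_mul, eval_C]
      rw [hgen]
      refine Fin.cases ?_ (fun j => ?_) l
      · rw [pderiv_zero_lin, map_sub, pderiv_X, pderiv_one, sub_zero, Pi.single_eq_same,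
          map_one, hμ]
        ring
      · have h1 : eval α (pderiv j.succ (X 0 - 1 : MvPolynomial (Fin (n + 1)) k)) = 0 := by
          have := congrFun (D_X_zero_sub_one α) j
          rwa [D_apply] at this
        have h2 : eval α (pderiv j.succ (lin α c₀)) = c₀ j := by
          have := congrFun (D_lin α c₀) j
          rwa [D_apply] at this
        have h3 := congrFun hwv j
        have h4 := congrFun hq j
        simp only [Pi.add_apply, Pi.smul_apply, smul_eq_mul, Finset.sum_apply, D_apply] at h3 h4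
        rw [h1, h2, h4, ← h3]
        ring
    have hF'2 : F' ∈ nn α ^ 2 := mem_sq_of_grad_eq_zero α e0 e1
    have hdecomp : F = (∑ i, C (q i) * f i + C μ * (X 0 - 1) + C lam * lin α c₀) + F' := by
      rw [hF']; ring
    rw [hdecomp]
    refine Submodule.add_mem_sup ?_ hF'2
    rw [h𝔟]
    refine Submodule.add_mem_sup ?_ (Ideal.mul_mem_left _ _ (Ideal.subset_span rfl))
    exact add_mem (sum_mem fun i _ => Ideal.mul_mem_left _ _ (hf𝔞 i)) (Ideal.mul_mem_left _ _ hX)
  -- Step 2: Nakayama
  set N : Submodule (MvPolynomial (Fin (n + 1)) k) (MvPolynomial (Fin (n + 1)) k ⧸ 𝔟) :=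
    Submodule.map 𝔟.mkQ (nn α) with hN
  have hfg : N.FG := Submodule.FG.map _ (IsNoetherian.noetherian (nn α))
  have hin : N ≤ nn α • N := by
    rw [hN, ← Submodule.map_smul'']
    rintro _ ⟨x, hx, rfl⟩
    obtain ⟨a, ha, b, hb, rfl⟩ := Submodule.mem_sup.mp (step1 hx)
    refine ⟨b, ?_, ?_⟩
    · rw [pow_two] at hb
      exact hb
    · rw [map_add]
      have : 𝔟.mkQ a = 0 := by
        rw [Submodule.mkQ_apply, Submodule.Quotient.mk_eq_zero]
        exact ha
      rw [this, zero_add]
  obtain ⟨ρ, hρ1, hρ⟩ :=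
    Submodule.exists_sub_one_mem_and_smul_eq_zero_of_fg_of_le_smul (nn α) N hfg hin
  refine ⟨ρ, ?_, ?_⟩
  · rw [mem_nn, map_sub, map_one, sub_eq_zero] at hρ1
    exact hρ1
  · intro F hF
    have h1 : 𝔟.mkQ F ∈ N := ⟨F, (mem_nn α F).mpr hF, rfl⟩
    have h2 := hρ _ h1
    rw [← map_smul, Submodule.mkQ_apply, Submodule.Quotient.mk_eq_zero, smul_eq_mul, h𝔟] at h2
    obtain ⟨a, ha, b, hb, hab⟩ := Submodule.mem_sup.mp h2
    obtain ⟨G, rfl⟩ := Ideal.mem_span_singleton'.mp hb
    refine ⟨G, ?_⟩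
    rw [← hab, add_sub_cancel_right]
    exact ha

end Nak

end Groth.Agent.Lib.LeadJac
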