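import Groth.Agent.Lib.LeadJacB
import Groth.Agent.Lib.LeadKP7

set_option autoImplicit false
set_option maxHeartbeats 800000
set_option linter.style.haveILetI false
set_option linter.unusedSectionVars false
set_option linter.unusedVariables false

/-! The Jacobian criterion for a birational projective map of a function field, general `n`. -/

namespace Groth.Agent.Lib.LeadJac

open MvPolynomial FunFld WithZero Groth.Agent.Lib.LeadFF Groth.Agent.Lib.LeadPC
  Groth.Agent.Lib.LeadKP

variable {k K : Type*} [Field k] [Field K] [Algebra k K]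

/-- dehomogenization: the kernel of the affine evaluation is generated by the homogeneous
relations and `X₀ - 1`. -/
lemma ker_le_span {n r : ℕ} (φ ψ : Fin (n + 1) → K) (hφ0 : φ 0 ≠ 0)
    (hψ : ∀ i, ψ i = φ i / φ 0) (f : Fin r → MvPolynomial (Fin (n + 1)) k)
    (hgen : Ideal.span (Set.range f) = RingHom.ker (gev (k := k) φ)) :
    RingHom.ker (aeval ψ : MvPolynomial (Fin (n + 1)) k →ₐ[k] K) ≤
      Ideal.span (Set.range f ∪ {X 0 - 1}) := by
  intro F hF
  rw [RingHom.mem_ker] at hF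
  have hψ0 : ψ 0 = 1 := by rw [hψ, div_self hφ0]
  set Hh := hom 0 F F.totalDegree with hHh
  have hHhhom : Hh.IsHomogeneous F.totalDegree := hom_isHomogeneous 0 F _
  have hHhψ : aeval ψ Hh = 0 := by
    rw [hHh, map_hom 0 F le_rfl (aeval ψ) (by rw [aeval_X, hψ0])]
    exact hF
  have hHhφ : aeval φ Hh = 0 := by
    have := aeval_smul_of_homog Hh F.totalDegree hHhhom (φ 0) ψ
    rw [hHhψ, mul_zero] at this
    have e : φ = fun i => φ 0 * ψ i := by
      funext i; rw [hψ]; field_simp
    rw [e, this]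
  have hgev : gev φ Hh = 0 := (gev_eq_zero_iff_of_homog φ hHhhom).mpr hHhφ
  have h1 : Hh ∈ Ideal.span (Set.range f) := by
    rw [hgen, RingHom.mem_ker]; exact hgev
  set θ := Ideal.Quotient.mkₐ k (Ideal.span {(X 0 - 1 : MvPolynomial (Fin (n + 1)) k)}) with hθ
  have hθ0 : θ (X 0) = 1 := by
    rw [← sub_eq_zero, ← map_one θ, ← map_sub, hθ, Ideal.Quotient.mkₐ_eq_mk,
      Ideal.Quotient.eq_zero_iff_mem]
    exact Ideal.subset_span rfl
  have h2 : F - Hh ∈ Ideal.span {(X 0 - 1 : MvPolynomial (Fin (n + 1)) k)} := by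
    have := map_hom 0 F le_rfl θ hθ0
    rw [← Ideal.Quotient.eq_zero_iff_mem, ← Ideal.Quotient.mkₐ_eq_mk k, ← hθ, map_sub, hHh, this,
      sub_self]
  have h3 : F = Hh + (F - Hh) := by ring
  rw [h3, Ideal.span_union]
  exact Submodule.add_mem_sup h1 h2

theorem jacobian_rank [IsAlgClosed k] (hK : IsFunctionField k K) {n : ℕ} (hn : 1 ≤ n)
    (φ : Fin (n + 1) → K) (hφ : LinearIndependent k φ)
    (hbir : IntermediateField.adjoin k (Set.range fun i => φ i / φ 0) = ⊤)
    (P : Place k K) (hP : ∀ i, P.1 (φ i) ≤ P.1 (φ 0)) {r : ℕ}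
    (f : Fin r → MvPolynomial (Fin (n + 1)) k)
    (hhom : ∀ i, (f i).IsHomogeneous (f i).totalDegree)
    (hgen : Ideal.span (Set.range f) =
      RingHom.ker (aeval fun i => Polynomial.C (φ i) * Polynomial.X))
    (α : Fin (n + 1) → k) (hα : ∀ i, P.1 (φ i / φ 0 - algebraMap k K (α i)) < 1) :
    IsNonsingularAt φ P ↔
      Module.finrank k (Submodule.span k (Set.range fun i => D α (f i))) = n - 1 := by
  classical
  have hj0 : φ 0 ≠ 0 := hφ.ne_zero 0
  set ψ : Fin (n + 1) → K := fun i => φ i / φ 0 with hψ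
  have hψ0 : ψ 0 = 1 := div_self hj0
  have hα0 : α 0 = 1 := residue_max_eq_one P hψ0 (hα 0)
  set A : Subalgebra k K := chart k φ 0 with hAdef
  have hA1 : ∀ u ∈ A, P.1 u ≤ 1 := chart_le_one φ P 0 hj0 hP
  have hrange : ∀ x ∈ A, ∃ p : MvPolynomial (Fin (n + 1)) k, aeval ψ p = x := by
    intro x hx
    rw [hAdef, chart, Algebra.adjoin_range_eq_range_aeval] at hx
    exact hx
  have hmemA : ∀ p : MvPolynomial (Fin (n + 1)) k, aeval ψ p ∈ A := by
    intro p
    rw [hAdef, chart, Algebra.adjoin_range_eq_range_aeval]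
    exact ⟨p, rfl⟩
  have hres : ∀ g : MvPolynomial (Fin (n + 1)) k,
      P.1 (aeval ψ g - algebraMap k K (eval α g)) < 1 := val_aeval_sub_lt_one P ψ α hα
  have hlt_iff : ∀ g : MvPolynomial (Fin (n + 1)) k, P.1 (aeval ψ g) < 1 ↔ eval α g = 0 :=
    fun g => lt_one_iff_residue_zero P (hres g)
  have hval1 : ∀ g : MvPolynomial (Fin (n + 1)) k, eval α g ≠ 0 → P.1 (aeval ψ g) = 1 :=
    fun g hg => eq_one_of_residue_ne_zero P (hres g) hg
  have hgen' : Ideal.span (Set.range f) = RingHom.ker (gev (k := k) φ) := hgen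
  have hfψ : ∀ i, aeval ψ (f i) = 0 := by
    intro i
    have h1 : f i ∈ RingHom.ker (gev (k := k) φ) := by
      rw [← hgen']; exact Ideal.subset_span ⟨i, rfl⟩
    rw [RingHom.mem_ker] at h1
    have hfφ : aeval φ (f i) = 0 := (gev_eq_zero_iff_of_homog φ (hhom i)).mp h1
    have := aeval_smul_of_homog (f i) (f i).totalDegree (hhom i) (φ 0)⁻¹ φ
    rw [hfφ, mul_zero] at this
    have e : ψ = fun i => (φ 0)⁻¹ * φ i := by
      funext i; rw [hψ]; ring
    rw [e, this]
  have hf0 : ∀ i, eval α (f i) = 0 := by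
    intro i
    rw [← hlt_iff, hfψ, map_zero]
    exact zero_lt_one
  set 𝔞 : Ideal (MvPolynomial (Fin (n + 1)) k) :=
    RingHom.ker (aeval ψ : MvPolynomial (Fin (n + 1)) k →ₐ[k] K) with h𝔞
  have hf𝔞 : ∀ i, f i ∈ 𝔞 := fun i => by rw [h𝔞, RingHom.mem_ker]; exact hfψ i
  have hX : (X 0 - 1 : MvPolynomial (Fin (n + 1)) k) ∈ 𝔞 := by
    rw [h𝔞, RingHom.mem_ker, map_sub, aeval_X, map_one, hψ0, sub_self]
  have hker : 𝔞 ≤ Ideal.span (Set.range f ∪ {X 0 - 1}) :=
    ker_le_span φ ψ hj0 (fun _ => rfl) f hgen'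
  set W : Submodule k (Fin n → k) := Submodule.span k (Set.range fun i => D α (f i)) with hW
  have hDW : ∀ H ∈ 𝔞, D α H ∈ W := by
    intro H hH
    refine (D_mem_of_mem_span α (D α) (D_mul α) W (Set.range f ∪ {X 0 - 1}) ?_ ?_ H
      (hker hH)).2
    · rintro g (⟨i, rfl⟩ | hg)
      · exact hf0 i
      · rw [Set.mem_singleton_iff] at hg
        rw [hg, map_sub, eval_X, map_one, hα0, sub_self]
    · rintro g (⟨i, rfl⟩ | hg)
      · exact Submodule.subset_span ⟨i, rfl⟩
      · rw [Set.mem_singleton_iff] at hg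
        rw [hg, D_X_zero_sub_one]
        exact zero_mem _
  -- K ≠ k
  have hnontriv : ¬ ∀ i, ψ i = algebraMap k K (α i) := by
    intro hall
    obtain ⟨⟨x, hx, -⟩, -⟩ := hK
    have hle : IntermediateField.adjoin k (Set.range fun i => φ i / φ 0) ≤ ⊥ := by
      rw [IntermediateField.adjoin_le_iff]
      rintro _ ⟨i, rfl⟩
      have := hall i
      simp only [hψ] at this
      show φ i / φ 0 ∈ _
      rw [this]
      exact IntermediateField.algebraMap_mem _ _
    rw [hbir] at hle
    have hxb : x ∈ (⊥ : IntermediateField k K) := hle trivial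
    rw [IntermediateField.mem_bot] at hxb
    obtain ⟨c, rfl⟩ := hxb
    exact hx (isAlgebraic_algebraMap c)
  have hcontra : ∀ ρ : MvPolynomial (Fin (n + 1)) k, eval α ρ = 1 →
      (∀ F, eval α F = 0 → ρ * F ∈ 𝔞) → False := by
    intro ρ hρ1 hρ
    have hw1 : P.1 (aeval ψ ρ) = 1 := hval1 ρ (by rw [hρ1]; exact one_ne_zero)
    have hw0 : aeval ψ ρ ≠ 0 := by
      intro h; rw [h, map_zero] at hw1; exact zero_ne_one hw1
    apply hnontriv
    intro i
    have h1 := hρ (X i - C (α i)) (by simp)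
    rw [h𝔞, RingHom.mem_ker, map_mul, map_sub, aeval_X, aeval_C] at h1
    rcases mul_eq_zero.mp h1 with h | h
    · exact absurd h hw0
    · exact sub_eq_zero.mp h
  -- W ≠ ⊤
  have hWtop : W ≠ ⊤ := by
    intro htop
    have h1 : W ⊔ Submodule.span k {(0 : Fin n → k)} = ⊤ := by rw [htop]; simp
    obtain ⟨ρ, hρ1, hρ⟩ := nakayama_poly α f hα0 hf0 𝔞 hf𝔞 hX 0 h1
    refine hcontra ρ hρ1 fun F hF => ?_
    obtain ⟨G, hG⟩ := hρ F hF
    rwa [lin_zero, mul_zero, sub_zero] at hG
  have hWlt : Module.finrank k W < n := by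
    have := Submodule.finrank_lt hWtop
    rwa [Module.finrank_fin_fun] at this
  have hfrac : ∀ z : K, ∃ p ∈ A, ∃ q ∈ A, q ≠ 0 ∧ z = p / q := by
    intro z
    have hz : z ∈ IntermediateField.adjoin k (Set.range fun i => φ i / φ 0) := by
      rw [hbir]; trivial
    obtain ⟨p, hp, q, hq, hzpq⟩ := IntermediateField.mem_adjoin_iff_div.mp hz
    by_cases hq0 : q = 0
    · refine ⟨0, zero_mem _, 1, one_mem _, one_ne_zero, ?_⟩
      rw [hzpq, hq0, div_zero, zero_div]
    · exact ⟨p, hp, q, hq, hq0, hzpq⟩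
  constructor
  · -- nonsingular ⇒ rank = n - 1
    intro hns
    have hloc : ∀ z, P.1 z ≤ 1 → InLoc φ P 0 z :=
      fun z hz => (inLocRing_iff φ P 0 hj0 hP z).mp (hns z hz)
    obtain ⟨t, ht⟩ := exists_unif P
    obtain ⟨u0, hu0, w0, hw0, hw01, htw⟩ := hloc t (unif_lt_one ht).le
    have hu0v : P.1 u0 = exp (-1 : ℤ) := by rw [← htw, map_mul, hw01, mul_one, ht]
    have hu00 : u0 ≠ 0 := by
      intro h0
      rw [h0, map_zero] at hu0v
      exact (exp_ne_zero).symm hu0v
    obtain ⟨U0, hU0⟩ := hrange u0 hu0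
    have hlt1 : (exp (-1 : ℤ) : WithZero (Multiplicative ℤ)) < 1 := by
      rw [← exp_zero, exp_lt_exp]; omega
    have hU0α : eval α U0 = 0 := by
      rw [← hlt_iff, hU0, hu0v]; exact hlt1
    set c₀ : Fin n → k := D α U0 with hc₀
    have hstep : ∀ F : MvPolynomial (Fin (n + 1)) k, eval α F = 0 →
        ∃ β : k, D α F - β • c₀ ∈ W := by
      intro F hF
      set u := aeval ψ F with hu
      have hu1 : P.1 u < 1 := (hlt_iff F).mpr hF
      have hz1 : P.1 (u / u0) ≤ 1 := by
        rw [map_div₀, hu0v, div_le_one₀ (by exact exp_pos)]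
        exact zm0_lt_one_iff.mp hu1
      obtain ⟨β, hβ⟩ := exists_const_sub_lt_one hK P hz1
      have hz' : P.1 ((u / u0 - algebraMap k K β) / u0) ≤ 1 := by
        rw [map_div₀, hu0v, div_le_one₀ (by exact exp_pos)]
        exact zm0_lt_one_iff.mp hβ
      obtain ⟨u1, hu1A, w1, hw1A, hw11, hzw⟩ := hloc _ hz'
      have hrel : (u - algebraMap k K β * u0) * w1 = u0 ^ 2 * u1 := by
        rw [← hzw]
        field_simp
      obtain ⟨U1, hU1⟩ := hrange u1 hu1A
      obtain ⟨W1, hW1⟩ := hrange w1 hw1A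
      have hW1α : eval α W1 ≠ 0 := by
        intro h0
        have := (hlt_iff W1).mpr h0
        rw [hW1, hw11] at this
        exact lt_irrefl _ this
      set H : MvPolynomial (Fin (n + 1)) k := (F - C β * U0) * W1 - U0 ^ 2 * U1 with hH
      have hH𝔞 : H ∈ 𝔞 := by
        rw [h𝔞, RingHom.mem_ker, hH]
        simp only [map_sub, map_mul, map_pow, aeval_C, hU0, hU1, hW1]
        rw [← hu, hrel, sub_self]
      have hDH : D α H = eval α W1 • (D α F - β • c₀) := by
        have e1 : D α (C β * U0) = β • D α U0 := by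
          rw [← smul_eq_C_mul, map_smul]
        have e2 : D α (U0 ^ 2 * U1) = 0 := by
          rw [D_mul, pow_two, D_mul, map_mul, hU0α]
          simp
        have e3 : eval α (F - C β * U0) = 0 := by
          rw [map_sub, map_mul, eval_C, hF, hU0α, mul_zero, sub_zero]
        rw [hH, map_sub, D_mul, e2, sub_zero, e3, zero_smul, zero_add, map_sub, e1]
      have := hDW H hH𝔞
      rw [hDH, Submodule.smul_mem_iff _ hW1α] at this
      exact ⟨β, this⟩
    have hsup : W ⊔ Submodule.span k {c₀} = ⊤ := by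
      rw [eq_top_iff]
      intro c _
      obtain ⟨β, hβ⟩ := hstep (lin α c) (eval_lin α c)
      rw [D_lin] at hβ
      have : c = (c - β • c₀) + β • c₀ := by abel
      rw [this]
      exact Submodule.add_mem_sup hβ (Submodule.smul_mem _ _ (Submodule.mem_span_singleton_self _))
    have h1 : Module.finrank k (W ⊔ Submodule.span k {c₀} : Submodule k (Fin n → k)) ≤
        Module.finrank k W + Module.finrank k (Submodule.span k {c₀}) :=
      Submodule.finrank_add_le_finrank_add_finrank _ _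
    have h2 : Module.finrank k (Submodule.span k {c₀}) ≤ 1 := by
      have := finrank_span_le_card (R := k) ({c₀} : Set (Fin n → k))
      simpa using this
    rw [hsup, finrank_top, Module.finrank_fin_fun] at h1
    omega
  · -- rank = n - 1 ⇒ nonsingular
    intro hrank
    obtain ⟨c₀, hc₀⟩ : ∃ c₀ : Fin n → k, c₀ ∉ W := by
      by_contra hall
      push Not at hall
      exact hWtop (Submodule.eq_top_iff'.mpr hall)
    have hsup : W ⊔ Submodule.span k {c₀} = ⊤ := by
      apply Submodule.eq_top_of_finrank_eq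
      rw [Module.finrank_fin_fun]
      have hlt : W < W ⊔ Submodule.span k {c₀} := by
        refine lt_of_le_of_ne le_sup_left ?_
        intro h
        apply hc₀
        rw [h]
        exact Submodule.mem_sup_right (Submodule.mem_span_singleton_self _)
      have h1 := Submodule.finrank_lt_finrank_of_lt hlt
      have h2 := Submodule.finrank_le (W ⊔ Submodule.span k {c₀})
      rw [Module.finrank_fin_fun] at h2
      omega
    obtain ⟨ρ, hρ1, hρ⟩ := nakayama_poly α f hα0 hf0 𝔞 hf𝔞 hX c₀ hsup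
    set w := aeval ψ ρ with hw
    set t := aeval ψ (lin α c₀) with ht
    have hw1 : P.1 w = 1 := hval1 ρ (by rw [hρ1]; exact one_ne_zero)
    have ht1 : P.1 t < 1 := (hlt_iff _).mpr (eval_lin α c₀)
    have ht0 : t ≠ 0 := by
      intro h0
      have hlin : lin α c₀ ∈ 𝔞 := by rw [h𝔞, RingHom.mem_ker]; exact h0
      refine hcontra ρ hρ1 fun F hF => ?_
      obtain ⟨G, hG⟩ := hρ F hF
      have := add_mem hG (Ideal.mul_mem_left _ G hlin)
      rwa [sub_add_cancel] at this
    have hprin : ∀ u ∈ A, P.1 u < 1 → ∃ G ∈ A, u * w = t * G := by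
      intro u hu hu1
      obtain ⟨F, rfl⟩ := hrange u hu
      have hF : eval α F = 0 := (hlt_iff F).mp hu1
      obtain ⟨G, hG⟩ := hρ F hF
      refine ⟨aeval ψ G, hmemA G, ?_⟩
      rw [h𝔞, RingHom.mem_ker, map_sub, map_mul, map_mul, ← hw, ← ht] at hG
      linear_combination hG
    have hloc := loc_of_principal P A hA1 hfrac t w (hmemA _) ht0 (hmemA _) ht1 hw1 hprin
    intro z hz
    exact ⟨0, hj0, hP, hloc z hz⟩

end Groth.Agent.Lib.LeadJac
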