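import Groth.Agent.Lib.LeadJacC

set_option autoImplicit false
set_option maxHeartbeats 800000
set_option linter.style.haveILetI false
set_option linter.unusedSectionVars false
set_option linter.unusedVariables false

/-! The Jacobian criterion in matrix form (S11071). -/

namespace Groth.Agent.Lib.LeadJac

open MvPolynomial FunFld WithZero Groth.Agent.Lib.LeadFF Groth.Agent.Lib.LeadPC
  Groth.Agent.Lib.LeadKP

variable {k K : Type*} [Field k] [Field K] [Algebra k K]

theorem jacobian_rank_matrix [IsAlgClosed k] (hK : IsFunctionField k K) {n : ℕ} (hn : 1 ≤ n)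
    (φ : Fin (n + 1) → K) (hφ : LinearIndependent k φ)
    (hbir : IntermediateField.adjoin k (Set.range fun i => φ i / φ 0) = ⊤)
    (P : Place k K) (hP : ∀ i, P.1 (φ i) ≤ P.1 (φ 0)) {r : ℕ}
    (f : Fin r → MvPolynomial (Fin (n + 1)) k)
    (hhom : ∀ i, (f i).IsHomogeneous (f i).totalDegree)
    (hgen : Ideal.span (Set.range f) =
      RingHom.ker (aeval fun i => Polynomial.C (φ i) * Polynomial.X))
    (M : Matrix (Fin r) (Fin n) P.O)
    (hM : ∀ i j, ((M i j : P.O) : K) =
      aeval (fun l => φ l / φ 0) (pderiv j.succ (f i))) :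
    IsNonsingularAt φ P ↔ (M.map (IsLocalRing.residue P.O)).rank = n - 1 := by
  classical
  have hj0 : φ 0 ≠ 0 := hφ.ne_zero 0
  have h0 : 0 < P.1 (φ 0) := zero_lt_iff.mpr ((Valuation.ne_zero_iff _).mpr hj0)
  have hψ1 : ∀ i, P.1 (φ i / φ 0) ≤ 1 := by
    intro i
    rw [map_div₀, div_le_one₀ h0]
    exact hP i
  choose α hα using fun i => exists_const_sub_lt_one hK P (hψ1 i)
  set J : Matrix (Fin r) (Fin n) k := fun i j => eval α (pderiv j.succ (f i)) with hJ
  have hMJ : M.map (IsLocalRing.residue P.O) =
      J.map (algebraMap k (IsLocalRing.ResidueField P.O)) := by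
    ext i j
    rw [Matrix.map_apply, Matrix.map_apply]
    have h1 : P.1 (((M i j : P.O) : K) - algebraMap k K (J i j)) < 1 := by
      rw [hM]
      exact val_aeval_sub_lt_one P _ α hα _
    have h2 : IsLocalRing.residue P.O (M i j - algebraMap k P.O (J i j)) = 0 := by
      rw [residue_eq_zero_iff]
      exact h1
    rw [map_sub, sub_eq_zero] at h2
    rw [h2]
    rfl
  have hbij : Function.Bijective (algebraMap k (IsLocalRing.ResidueField P.O)) :=
    ⟨(algebraMap k (IsLocalRing.ResidueField P.O)).injective,
      residue_surjective_of_algClosed hK P⟩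
  set e : k ≃+* IsLocalRing.ResidueField P.O := RingEquiv.ofBijective _ hbij with he
  have hrank : (J.map (algebraMap k (IsLocalRing.ResidueField P.O))).rank = J.rank :=
    rank_map_of_inverse (algebraMap k (IsLocalRing.ResidueField P.O)) e.symm.toRingHom
      (fun x => e.symm_apply_apply x) (fun y => e.apply_symm_apply y) J
  have hJW : J.rank = Module.finrank k (Submodule.span k (Set.range fun i => D α (f i))) := by
    rw [Matrix.rank_eq_finrank_span_row]
    rfl
  rw [hMJ, hrank, hJW]
  exact jacobian_rank hK hn φ hφ hbir P hP f hhom hgen α hα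

end Groth.Agent.Lib.LeadJac
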