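import Groth.Agent.Lib.LeadTT4
import Groth.Agent.Lib.LeadMS3

set_option autoImplicit false
set_option maxHeartbeats 400000
set_option linter.style.haveILetI false
set_option linter.unusedSectionVars false
set_option linter.unusedVariables false

/-! Expansions over their own coefficient field: residues, constants, and coefficient series. -/

namespace Groth.Agent.Lib.LeadLT

open WithZero LocRes

section Gen

variable {k A : Type*} [Field k] [Field A] [Algebra k A]
  {vA : Valuation A (WithZero (Multiplicative ℤ))} {χ : A →ₐ[k] LaurentSeries k}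

lemma map_const (χ : A →ₐ[k] LaurentSeries k) (c : k) :
    χ (algebraMap k A c) = HahnSeries.C c := by
  rw [LocRes.map_algebraMap]
  rfl

/-- the residue field of an expansion over its own coefficient field is that field. -/
lemma exists_residue (hχ : IsExpansionAt vA χ) {z : A} (hz : vA z ≤ 1) :
    ∃ c : k, vA (z - algebraMap k A c) < 1 := by
  refine ⟨(χ z).coeff 0, ?_⟩
  rw [← hχ.1, map_sub, map_const]
  have h1 : Valued.v (χ z - HahnSeries.C ((χ z).coeff 0)) ≤ exp (-(1 : ℤ)) := by
    rw [LaurentSeries.valuation_le_iff_coeff_lt_eq_zero]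
    intro n hn
    rw [HahnSeries.coeff_sub]
    rcases (by omega : n < 0 ∨ n = 0) with h | h
    · have hz' : Valued.v (χ z) ≤ exp (-(0 : ℤ)) := by
        rw [hχ.1]; simpa using hz
      rw [(LaurentSeries.valuation_le_iff_coeff_lt_eq_zero k).mp hz' n h, HahnSeries.C_apply,
        HahnSeries.coeff_single_of_ne (by omega), sub_zero]
    · subst h
      rw [HahnSeries.C_apply, HahnSeries.coeff_single_same, sub_self]
  exact lt_of_le_of_lt h1 (by rw [← exp_zero, exp_lt_exp]; norm_num)

lemma val_const (hχ : IsExpansionAt vA χ) {c : k} (hc : c ≠ 0) : vA (algebraMap k A c) = 1 := by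
  rw [← hχ.1, map_const]
  have := (Groth.Agent.Lib.LeadMS.val_eq_exp_iff (f := (HahnSeries.C c : LaurentSeries k))
    (n := 0)).mpr ⟨fun m hm => by
      rw [HahnSeries.C_apply, HahnSeries.coeff_single_of_ne (by omega)], by
      rw [HahnSeries.C_apply, HahnSeries.coeff_single_same]; exact hc⟩
  simpa using this

lemma val_const_le (hχ : IsExpansionAt vA χ) (c : k) : vA (algebraMap k A c) ≤ 1 := by
  by_cases hc : c = 0
  · rw [hc, map_zero, map_zero]; exact zero_le
  · exact (val_const hχ hc).le

lemma lt_one_iff_le_exp (x : WithZero (Multiplicative ℤ)) : x < 1 ↔ x ≤ exp (-1 : ℤ) := by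
  rw [← exp_zero, Groth.Agent.Lib.LeadFF.zm0_lt_exp_iff]; rfl

end Gen

section Coeff

variable {k A : Type*} [Field k] [Field A] [Algebra k A]
  {vA : Valuation A (WithZero (Multiplicative ℤ))} {χ : A →ₐ[k] LaurentSeries k}

/-- the element with prescribed coefficient sequence (for a surjective expansion). -/
noncomputable def ofSeq (hs : Function.Surjective χ) (c : ℕ → k) : A :=
  Classical.choose (hs ((PowerSeries.mk c : PowerSeries k) : LaurentSeries k))

lemma map_ofSeq (hs : Function.Surjective χ) (c : ℕ → k) :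
    χ (ofSeq hs c) = ((PowerSeries.mk c : PowerSeries k) : LaurentSeries k) :=
  Classical.choose_spec (hs _)

lemma val_ofSeq_le (hχ : IsExpansionAt vA χ) (hs : Function.Surjective χ) (c : ℕ → k) :
    vA (ofSeq hs c) ≤ 1 := by
  rw [← hχ.1, map_ofSeq, LaurentSeries.val_le_one_iff_eq_coe]
  exact ⟨_, rfl⟩

lemma ofSeq_shift (hs : Function.Surjective χ) {t : A} (ht : χ t = HahnSeries.single 1 1)
    (c : ℕ → k) :
    ofSeq hs c = algebraMap k A (c 0) + t * ofSeq hs (fun n => c (n + 1)) := by
  apply χ.toRingHom.injective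
  show χ (ofSeq hs c) = χ (algebraMap k A (c 0) + t * ofSeq hs (fun n => c (n + 1)))
  rw [map_add, map_mul, map_ofSeq, map_ofSeq, ht, map_const]
  conv_lhs => rw [PowerSeries.eq_X_mul_shift_add_const (PowerSeries.mk c)]
  rw [map_add, map_mul, HahnSeries.ofPowerSeries_X, HahnSeries.ofPowerSeries_C, add_comm]
  simp [PowerSeries.coeff_mk]

end Coeff

end Groth.Agent.Lib.LeadLT
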