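import Groth.Agent.Lib.LeadLT1

set_option autoImplicit false
set_option maxHeartbeats 400000
set_option linter.style.haveILetI false
set_option linter.unusedSectionVars false
set_option linter.unusedVariables false

/-! Successive approximation in a finite extension of a complete discretely valued field with
coefficient field: the valuation ring above is spanned over the valuation ring below by
`ω_i s^j`. -/

namespace Groth.Agent.Lib.LeadLT

open WithZero LocRes Module

universe u v
variable {K L : Type u} {F E : Type v} [Field K] [Field L] [Field F] [Field E]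
  [Algebra K F] [Algebra F E] [Algebra K E] [IsScalarTower K F E]
  [Algebra K L] [Algebra L E] [IsScalarTower K L E]
  {v : Valuation F (WithZero (Multiplicative ℤ))} {w : Valuation E (WithZero (Multiplicative ℤ))}
  {φ : F →ₐ[K] LaurentSeries K} {ψ : E →ₐ[L] LaurentSeries L}

/-- the family `ω_i s^j`. -/
noncomputable def fam {m : ℕ} (ω : Basis (Fin m) K L) (s : E) (e : ℕ) : Fin m × Fin e → E :=
  fun l => algebraMap L E (ω l.1) * s ^ (l.2 : ℕ)

lemma val_fam_le (hψ : IsExpansionAt w ψ) {m : ℕ} (ω : Basis (Fin m) K L) {s : E}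
    (hs : w s = exp (-1 : ℤ)) (e : ℕ) (l : Fin m × Fin e) : w (fam ω s e l) ≤ 1 := by
  unfold fam
  rw [map_mul, map_pow, hs]
  refine mul_le_one' (val_const_le hψ _) (pow_le_one' ?_ _)
  rw [← exp_zero, exp_le_exp]; norm_num

/-- one digit. -/
lemma exists_digit (hψ : IsExpansionAt w ψ) {s : E} (hs : w s = exp (-1 : ℤ)) (z : E) (j : ℕ)
    (hz : w z ≤ exp (-(j : ℤ))) :
    ∃ c : L, w (z - algebraMap L E c * s ^ j) ≤ exp (-((j : ℤ) + 1)) := by
  have hs0 : s ≠ 0 := by
    rintro rfl
    rw [map_zero] at hs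
    exact exp_ne_zero hs.symm
  have hsj : w (s ^ j) = exp (-(j : ℤ)) := by
    rw [map_pow, hs, ← exp_nsmul]; congr 1; simp
  have hz' : w (z * (s ^ j)⁻¹) ≤ 1 := by
    rw [map_mul, map_inv₀, hsj, ← exp_neg, neg_neg]
    calc w z * exp (j : ℤ) ≤ exp (-(j : ℤ)) * exp (j : ℤ) := mul_le_mul' hz le_rfl
      _ = 1 := by rw [← exp_add, neg_add_cancel, exp_zero]
  obtain ⟨c, hc⟩ := exists_residue hψ hz'
  refine ⟨c, ?_⟩
  have e1 : z - algebraMap L E c * s ^ j = (z * (s ^ j)⁻¹ - algebraMap L E c) * s ^ j := by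
    have : s ^ j ≠ 0 := pow_ne_zero _ hs0
    field_simp
  rw [e1, map_mul, hsj, neg_add, add_comm, exp_add]
  exact mul_le_mul' ((lt_one_iff_le_exp _).mp hc) le_rfl

/-- one round: approximation modulo `s^j` by the `K`-span of the family. -/
lemma exists_round (hψ : IsExpansionAt w ψ) {m : ℕ} (ω : Basis (Fin m) K L) {s : E}
    (hs : w s = exp (-1 : ℤ)) (e : ℕ) :
    ∀ j ≤ e, ∀ z : E, w z ≤ 1 →
      ∃ r ∈ Submodule.span K (Set.range (fam ω s e)), w (z - r) ≤ exp (-(j : ℤ)) := by
  intro j
  induction j with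
  | zero =>
    intro _ z hz
    exact ⟨0, Submodule.zero_mem _, by simpa using hz⟩
  | succ j ih =>
    intro hj z hz
    obtain ⟨r, hr, hzr⟩ := ih (by omega) z hz
    obtain ⟨c, hc⟩ := exists_digit hψ hs (z - r) j hzr
    refine ⟨r + algebraMap L E c * s ^ j, Submodule.add_mem _ hr ?_, ?_⟩
    · -- `c s^j` lies in the span
      have hcω : c = ∑ i, ω.repr c i • ω i := (ω.sum_repr c).symm
      have : algebraMap L E c * s ^ j =
          ∑ i, ω.repr c i • fam ω s e (i, ⟨j, by omega⟩) := by
        conv_lhs => rw [hcω]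
        rw [map_sum, Finset.sum_mul]
        refine Finset.sum_congr rfl fun i _ => ?_
        unfold fam
        rw [Algebra.smul_def (ω.repr c i) (ω i), map_mul, ← IsScalarTower.algebraMap_apply,
          Algebra.smul_def, mul_assoc]
      rw [this]
      exact Submodule.sum_mem _ fun i _ =>
        Submodule.smul_mem _ _ (Submodule.subset_span ⟨_, rfl⟩)
    · have : z - (r + algebraMap L E c * s ^ j) = z - r - algebraMap L E c * s ^ j := by ring
      rw [this]
      push_cast
      exact hc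

/-- one step of the successive approximation. -/
lemma exists_step (hψ : IsExpansionAt w ψ) {m : ℕ} (ω : Basis (Fin m) K L) {s : E}
    (hs : w s = exp (-1 : ℤ)) {e : ℕ} {t' : E} (ht' : w t' = exp (-(e : ℤ))) (z : E)
    (hz : w z ≤ 1) :
    ∃ c : Fin m × Fin e → K, ∃ z₁ : E, w z₁ ≤ 1 ∧
      z = ∑ l, c l • fam ω s e l + t' * z₁ := by
  obtain ⟨r, hr, hzr⟩ := exists_round hψ ω hs e e le_rfl z hz
  obtain ⟨c, hc⟩ := (Submodule.mem_span_range_iff_exists_fun K).mp hr
  have ht0 : t' ≠ 0 := by
    rintro rfl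
    rw [map_zero] at ht'
    exact exp_ne_zero ht'.symm
  refine ⟨c, (z - r) * t'⁻¹, ?_, ?_⟩
  · rw [map_mul, map_inv₀, ht', ← exp_neg, neg_neg]
    calc w (z - r) * exp (e : ℤ) ≤ exp (-(e : ℤ)) * exp (e : ℤ) := mul_le_mul' hzr le_rfl
      _ = 1 := by rw [← exp_add, neg_add_cancel, exp_zero]
  · rw [hc]
    field_simp
    ring

end Groth.Agent.Lib.LeadLT
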