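import Groth.Agent.Lib.LeadLT2

set_option autoImplicit false
set_option maxHeartbeats 400000
set_option linter.style.haveILetI false
set_option linter.unusedSectionVars false
set_option linter.unusedVariables false

/-! Convergence of the successive approximation: the valuation ring above is spanned over the
valuation ring below by the family `ω_i s^j`. -/

namespace Groth.Agent.Lib.LeadLT

open WithZero LocRes Module

universe u v
variable {K L : Type u} {F E : Type v} [Field K] [Field L] [Field F] [Field E]
  [Algebra K F] [Algebra F E] [Algebra K E] [IsScalarTower K F E]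
  [Algebra K L] [Algebra L E] [IsScalarTower K L E]
  {v : Valuation F (WithZero (Multiplicative ℤ))} {w : Valuation E (WithZero (Multiplicative ℤ))}
  [v.HasExtension w]
  {φ : F →ₐ[K] LaurentSeries K} {ψ : E →ₐ[L] LaurentSeries L}

lemma eq_zero_of_forall_le {x : WithZero (Multiplicative ℤ)}
    (h : ∀ N : ℕ, x ≤ exp (-(N : ℤ))) : x = 0 := by
  by_contra hx
  obtain ⟨n, hn⟩ : ∃ n : ℤ, x = exp n := ⟨log x, (exp_log hx).symm⟩
  have h1 := h (n.natAbs + 1)
  rw [hn, exp_le_exp] at h1
  push_cast at h1
  have h2 : -n ≤ |n| := neg_le_abs n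
  omega

/-- the valuation ring above is spanned by the family over the valuation ring below. -/
theorem exists_coeffs (hφ : IsExpansionAt v φ) (hφs : Function.Surjective φ)
    (hψ : IsExpansionAt w ψ) {m : ℕ} (ω : Basis (Fin m) K L) {s : E}
    (hs : w s = exp (-1 : ℤ)) {e : ℕ} {t : F} (ht : φ t = HahnSeries.single 1 1)
    (ht' : w (algebraMap F E t) = exp (-(e : ℤ))) (z : E) (hz : w z ≤ 1) :
    ∃ a : Fin m × Fin e → F, (∀ l, v (a l) ≤ 1) ∧
      z = ∑ l, algebraMap F E (a l) * fam ω s e l := by
  classical
  set t' := algebraMap F E t with ht'def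
  set O := {z : E // w z ≤ 1} with hO
  choose cf σ hσ1 hσ2 using fun z : O => exists_step hψ ω hs ht' z.1 z.2
  set σ' : O → O := fun z => ⟨σ z, hσ1 z⟩ with hσ'
  set a : O → Fin m × Fin e → F := fun z l => ofSeq hφs (fun n => cf (σ'^[n] z) l) with ha
  have hav : ∀ z l, v (a z l) ≤ 1 := fun z l => val_ofSeq_le hφ hφs _
  have hashift : ∀ z l, a z l = algebraMap K F (cf z l) + t * a (σ' z) l := by
    intro z l
    have := ofSeq_shift hφs ht (fun n => cf (σ'^[n] z) l)
    simp only [Function.iterate_zero, id_eq, Function.iterate_succ, Function.comp_apply] at this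
    exact this
  set R : O → E := fun z => z.1 - ∑ l, algebraMap F E (a z l) * fam ω s e l with hR
  have hRstep : ∀ z, R z = t' * R (σ' z) := by
    intro z
    simp only [hR]
    have h1 : ∑ l, algebraMap F E (a z l) * fam ω s e l =
        ∑ l, cf z l • fam ω s e l + t' * ∑ l, algebraMap F E (a (σ' z) l) * fam ω s e l := by
      rw [Finset.mul_sum, ← Finset.sum_add_distrib]
      refine Finset.sum_congr rfl fun l _ => ?_
      rw [hashift z l, map_add, map_mul, ← IsScalarTower.algebraMap_apply K F E,
        Algebra.smul_def]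
      ring
    rw [h1]
    conv_lhs => rw [hσ2 z]
    show _ = t' * (σ z - _)
    ring
  have hR1 : ∀ z, w (R z) ≤ 1 := by
    intro z
    simp only [hR]
    refine (Valuation.map_sub _ _ _).trans (max_le z.2 ?_)
    apply Valuation.map_sum_le
    intro l _
    rw [map_mul]
    exact mul_le_one' ((Valuation.HasExtension.val_map_le_one_iff v w _).mpr (hav z l))
      (val_fam_le hψ ω hs e l)
  have htlt : w t' ≤ exp (-1 : ℤ) := by
    have hvt : v t = exp (-1 : ℤ) := by
      rw [← hφ.1, ht]
      have := LaurentSeries.valuation_single_zpow (K := K) 1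
      simpa using this
    have : w t' < 1 := by
      rw [ht'def, Valuation.HasExtension.val_map_lt_one_iff v w, hvt, ← exp_zero, exp_lt_exp]
      norm_num
    exact (lt_one_iff_le_exp _).mp this
  have hRN : ∀ (N : ℕ) (z : O), w (R z) ≤ exp (-(N : ℤ)) := by
    intro N
    induction N with
    | zero => intro z; simpa using hR1 z
    | succ N ih =>
      intro z
      rw [hRstep z, map_mul]
      calc w t' * w (R (σ' z)) ≤ exp (-1 : ℤ) * exp (-(N : ℤ)) := mul_le_mul' htlt (ih _)
        _ = exp (-((N + 1 : ℕ) : ℤ)) := by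
            rw [← exp_add]; congr 1; push_cast; ring
  refine ⟨a ⟨z, hz⟩, hav _, ?_⟩
  have h0 : w (R ⟨z, hz⟩) = 0 := eq_zero_of_forall_le (fun N => hRN N _)
  have := (Valuation.zero_iff _).mp h0
  simp only [hR] at this
  exact sub_eq_zero.mp this

end Groth.Agent.Lib.LeadLT
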