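import Groth.Agent.Lib.LeadLT3

set_option autoImplicit false
set_option maxHeartbeats 400000
set_option linter.style.haveILetI false
set_option linter.unusedSectionVars false
set_option linter.unusedVariables false

/-! Independence of the family `ω_i s^j` modulo the uniformizer below. -/

namespace Groth.Agent.Lib.LeadLT

open WithZero LocRes Module

universe u v
variable {K L : Type u} {F E : Type v} [Field K] [Field L] [Field F] [Field E]
  [Algebra K F] [Algebra F E] [Algebra K E] [IsScalarTower K F E]
  [Algebra K L] [Algebra L E] [IsScalarTower K L E]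
  {v : Valuation F (WithZero (Multiplicative ℤ))} {w : Valuation E (WithZero (Multiplicative ℤ))}
  [v.HasExtension w]
  {φ : F →ₐ[K] LaurentSeries K} {ψ : E →ₐ[L] LaurentSeries L}

lemma exp_neg_one_lt_one : (exp (-1 : ℤ) : WithZero (Multiplicative ℤ)) < 1 := by
  rw [← exp_zero, exp_lt_exp]; norm_num

/-- a polynomial in the uniformizer of degree `< n` with constant coefficients vanishing to order
`n` is zero. -/
lemma coeffs_zero_of_val_le (hψ : IsExpansionAt w ψ) {s : E} (hs : w s = exp (-1 : ℤ)) :
    ∀ (n : ℕ) (lam : ℕ → L),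
      w (∑ j ∈ Finset.range n, algebraMap L E (lam j) * s ^ j) ≤ exp (-(n : ℤ)) →
      ∀ j < n, lam j = 0 := by
  intro n
  induction n with
  | zero => intro lam _ j hj; omega
  | succ n ih =>
    intro lam h
    rw [Finset.sum_range_succ', pow_zero, mul_one] at h
    have h1 : ∑ j ∈ Finset.range n, algebraMap L E (lam (j + 1)) * s ^ (j + 1) =
        s * ∑ j ∈ Finset.range n, algebraMap L E (lam (j + 1)) * s ^ j := by
      rw [Finset.mul_sum]
      refine Finset.sum_congr rfl fun j _ => ?_
      ring
    rw [h1] at h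
    set S' := ∑ j ∈ Finset.range n, algebraMap L E (lam (j + 1)) * s ^ j with hS'
    have hS'1 : w S' ≤ 1 := by
      apply Valuation.map_sum_le
      intro j _
      rw [map_mul, map_pow, hs]
      exact mul_le_one' (val_const_le hψ _) (pow_le_one' exp_neg_one_lt_one.le _)
    have hsS : w (s * S') < 1 := by
      rw [map_mul, hs]
      calc exp (-1 : ℤ) * w S' ≤ exp (-1 : ℤ) * 1 := mul_le_mul' le_rfl hS'1
        _ = exp (-1 : ℤ) := mul_one _
        _ < 1 := exp_neg_one_lt_one
    have hlt : (exp (-((n + 1 : ℕ) : ℤ)) : WithZero (Multiplicative ℤ)) < 1 := by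
      rw [← exp_zero, exp_lt_exp]; push_cast; omega
    have h0 : lam 0 = 0 := by
      by_contra hne
      have h2 : w (algebraMap L E (lam 0)) = 1 := val_const hψ hne
      have h3 : w (s * S' + algebraMap L E (lam 0)) = 1 := by
        rw [Valuation.map_add_eq_of_lt_right _ (by rw [h2]; exact hsS), h2]
      rw [h3] at h
      exact absurd h (not_le.mpr hlt)
    rw [h0, map_zero, add_zero, map_mul, hs] at h
    have h4 : w S' ≤ exp (-(n : ℤ)) := by
      have h5 : (exp (-((n + 1 : ℕ) : ℤ)) : WithZero (Multiplicative ℤ)) =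
          exp (-1 : ℤ) * exp (-(n : ℤ)) := by
        rw [← exp_add]; congr 1; push_cast; ring
      rw [h5] at h
      exact (mul_le_mul_iff_right₀ (exp_pos)).mp h
    have h6 := ih (fun j => lam (j + 1)) h4
    intro j hj
    rcases Nat.eq_zero_or_pos j with rfl | hjpos
    · exact h0
    · obtain ⟨j', rfl⟩ : ∃ j', j = j' + 1 := ⟨j - 1, by omega⟩
      exact h6 j' (by omega)

/-- independence modulo the uniformizer below. -/
theorem resIndep (hφ : IsExpansionAt v φ) (hψ : IsExpansionAt w ψ) {m : ℕ}
    (ω : Basis (Fin m) K L) {s : E} (hs : w s = exp (-1 : ℤ)) {e : ℕ} {t : F}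
    (hvt : v t = exp (-1 : ℤ)) (ht' : w (algebraMap F E t) = exp (-(e : ℤ)))
    (a : Fin m × Fin e → F) (ha : ∀ l, v (a l) ≤ 1)
    (hsum : w (∑ l, algebraMap F E (a l) * fam ω s e l) ≤ exp (-(e : ℤ))) :
    ∀ l, v (a l) < 1 := by
  classical
  choose c hc using fun l => exists_residue hφ (ha l)
  -- the error terms
  have herr : ∀ l, w (algebraMap F E (a l - algebraMap K F (c l)) * fam ω s e l) ≤
      exp (-(e : ℤ)) := by
    intro l
    rw [map_mul, ← ht']
    have h1 : w (algebraMap F E (a l - algebraMap K F (c l))) ≤ w (algebraMap F E t) := by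
      rw [Valuation.HasExtension.val_map_le_iff v w, hvt]
      exact (lt_one_iff_le_exp _).mp (hc l)
    calc w (algebraMap F E (a l - algebraMap K F (c l))) * w (fam ω s e l)
        ≤ w (algebraMap F E t) * 1 := mul_le_mul' h1 (val_fam_le hψ ω hs e l)
      _ = w (algebraMap F E t) := mul_one _
  have hsplit : ∑ l, algebraMap F E (algebraMap K F (c l)) * fam ω s e l =
      ∑ l, algebraMap F E (a l) * fam ω s e l -
        ∑ l, algebraMap F E (a l - algebraMap K F (c l)) * fam ω s e l := by
    rw [← Finset.sum_sub_distrib]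
    refine Finset.sum_congr rfl fun l _ => ?_
    rw [map_sub]; ring
  have hmain : w (∑ l, algebraMap F E (algebraMap K F (c l)) * fam ω s e l) ≤ exp (-(e : ℤ)) := by
    rw [hsplit]
    refine (Valuation.map_sub _ _ _).trans (max_le hsum ?_)
    exact Valuation.map_sum_le _ (fun l _ => herr l)
  -- regroup by powers of `s`
  set lam : ℕ → L := fun j => if h : j < e then ∑ i, c (i, ⟨j, h⟩) • ω i else 0 with hlam
  have hregroup : ∑ l, algebraMap F E (algebraMap K F (c l)) * fam ω s e l =
      ∑ j ∈ Finset.range e, algebraMap L E (lam j) * s ^ j := by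
    rw [← Fin.sum_univ_eq_sum_range (fun j => algebraMap L E (lam j) * s ^ j) e,
      Fintype.sum_prod_type, Finset.sum_comm]
    refine Finset.sum_congr rfl fun j _ => ?_
    have hlj : lam j = ∑ i, c (i, j) • ω i := by
      simp only [hlam, j.2, dif_pos]
    rw [hlj, map_sum, Finset.sum_mul]
    refine Finset.sum_congr rfl fun i _ => ?_
    unfold fam
    rw [Algebra.smul_def, map_mul, ← IsScalarTower.algebraMap_apply K F E,
      ← IsScalarTower.algebraMap_apply K L E]
    ring
  rw [hregroup] at hmain
  have hzero := coeffs_zero_of_val_le hψ hs e lam hmain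
  have hc0 : ∀ l, c l = 0 := by
    rintro ⟨i, j⟩
    have h1 := hzero j j.2
    simp only [hlam, j.2, dif_pos] at h1
    exact Fintype.linearIndependent_iff.mp ω.linearIndependent (fun i => c (i, j)) h1 i
  intro l
  have := hc l
  rwa [hc0 l, map_zero, sub_zero] at this

end Groth.Agent.Lib.LeadLT
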