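import Groth.Agent.Lib.LeadLT4

set_option autoImplicit false
set_option maxHeartbeats 400000
set_option linter.style.haveILetI false
set_option linter.unusedSectionVars false
set_option linter.unusedVariables false

/-! An integral basis of a finite extension of a complete discretely valued field with coefficient
fields, and the trace formula for residues. -/

namespace Groth.Agent.Lib.LeadLT

open WithZero LocRes Module

universe u v
variable {K L : Type u} {F E : Type v} [Field K] [Field L] [Field F] [Field E]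
  [Algebra K F] [Algebra F E] [Algebra K E] [IsScalarTower K F E]
  [Algebra K L] [Algebra L E] [IsScalarTower K L E]
  {v : Valuation F (WithZero (Multiplicative ℤ))} {w : Valuation E (WithZero (Multiplicative ℤ))}
  [v.HasExtension w]
  {φ : F →ₐ[K] LaurentSeries K} {ψ : E →ₐ[L] LaurentSeries L}

lemma val_t (hφ : IsExpansionAt v φ) {t : F} (ht : φ t = HahnSeries.single 1 1) :
    v t = exp (-1 : ℤ) := by
  rw [← hφ.1, ht]
  have := LaurentSeries.valuation_single_zpow (K := K) 1
  simpa using this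

/-- the ramification index. -/
lemma exists_e {t : F} (hvt : v t = exp (-1 : ℤ)) :
    ∃ e : ℕ, 0 < e ∧ w (algebraMap F E t) = exp (-(e : ℤ)) := by
  have hlt : w (algebraMap F E t) < 1 := by
    rw [Valuation.HasExtension.val_map_lt_one_iff v w, hvt]; exact exp_neg_one_lt_one
  have hne : w (algebraMap F E t) ≠ 0 := by
    intro h0
    have h1 : w (algebraMap F E t) ≤ w (algebraMap F E 0) := by rw [h0]; exact zero_le
    rw [Valuation.HasExtension.val_map_le_iff v w, map_zero, hvt] at h1
    exact exp_ne_zero (le_antisymm h1 zero_le)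
  obtain ⟨n, hn⟩ : ∃ n : ℤ, w (algebraMap F E t) = exp n := ⟨_, (exp_log hne).symm⟩
  rw [hn, ← exp_zero, exp_lt_exp] at hlt
  refine ⟨(-n).toNat, by omega, ?_⟩
  rw [hn]; congr 1; omega

lemma linearIndependent_fam (hφ : IsExpansionAt v φ) (hψ : IsExpansionAt w ψ) {m : ℕ}
    (ω : Basis (Fin m) K L) {s : E} (hs : w s = exp (-1 : ℤ)) {e : ℕ} {t : F}
    (hvt : v t = exp (-1 : ℤ)) (ht' : w (algebraMap F E t) = exp (-(e : ℤ))) :
    LinearIndependent F (fam ω s e) := by
  classical
  rw [Fintype.linearIndependent_iff]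
  intro g hg
  by_contra hne
  push Not at hne
  obtain ⟨l₁, hl₁⟩ := hne
  obtain ⟨l₀, -, hl₀⟩ := Finset.exists_max_image Finset.univ (fun l => v (g l))
    ⟨l₁, Finset.mem_univ _⟩
  have hg0 : g l₀ ≠ 0 := by
    intro h0
    have := hl₀ l₁ (Finset.mem_univ _)
    rw [h0, map_zero] at this
    exact hl₁ ((Valuation.zero_iff _).mp (le_antisymm this zero_le))
  have hv0 : v (g l₀) ≠ 0 := (Valuation.ne_zero_iff _).mpr hg0
  set a : Fin m × Fin e → F := fun l => g l / g l₀ with ha
  have hav : ∀ l, v (a l) ≤ 1 := by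
    intro l
    simp only [ha]
    rw [map_div₀]
    exact div_le_one_of_le₀ (hl₀ l (Finset.mem_univ _)) zero_le
  have hsum : ∑ l, algebraMap F E (a l) * fam ω s e l = 0 := by
    have h1 : ∑ l, algebraMap F E (a l) * fam ω s e l =
        algebraMap F E (g l₀)⁻¹ * ∑ l, g l • fam ω s e l := by
      rw [Finset.mul_sum]
      refine Finset.sum_congr rfl fun l _ => ?_
      simp only [ha]
      rw [Algebra.smul_def, div_eq_mul_inv, map_mul]
      ring
    rw [h1, hg, mul_zero]
  have := resIndep hφ hψ ω hs hvt ht' a hav (by rw [hsum, map_zero]; exact zero_le) l₀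
  simp only [ha] at this
  rw [div_self hg0, map_one] at this
  exact lt_irrefl _ this

lemma span_fam (hφ : IsExpansionAt v φ) (hφs : Function.Surjective φ)
    (hψ : IsExpansionAt w ψ) {m : ℕ} (ω : Basis (Fin m) K L) {s : E}
    (hs : w s = exp (-1 : ℤ)) {e : ℕ} (he : 0 < e) {t : F} (ht : φ t = HahnSeries.single 1 1)
    (ht' : w (algebraMap F E t) = exp (-(e : ℤ))) :
    ⊤ ≤ Submodule.span F (Set.range (fam ω s e)) := by
  intro z _
  have hvt := val_t hφ ht
  have ht0 : t ≠ 0 := by
    rintro rfl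
    rw [map_zero] at hvt
    exact exp_ne_zero hvt.symm
  -- scale into the valuation ring
  obtain ⟨N, hN⟩ : ∃ N : ℕ, w (z * algebraMap F E t ^ N) ≤ 1 := by
    by_cases hz : z = 0
    · exact ⟨0, by rw [hz, zero_mul, map_zero]; exact zero_le⟩
    · have hwz : w z ≠ 0 := (Valuation.ne_zero_iff _).mpr hz
      obtain ⟨n, hn⟩ : ∃ n : ℤ, w z = exp n := ⟨_, (exp_log hwz).symm⟩
      refine ⟨n.toNat, ?_⟩
      rw [map_mul, map_pow, ht', hn, ← exp_nsmul, ← exp_add, ← exp_zero, exp_le_exp]
      have h1 : (0 : ℤ) ≤ (n.toNat : ℤ) := Int.natCast_nonneg _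
      have h2 : n ≤ (n.toNat : ℤ) := Int.self_le_toNat n
      have h3 : (n.toNat : ℤ) * 1 ≤ (n.toNat : ℤ) * (e : ℤ) :=
        mul_le_mul_of_nonneg_left (by exact_mod_cast he) h1
      simp only [nsmul_eq_mul]
      nlinarith
  obtain ⟨a, -, hza⟩ := exists_coeffs hφ hφs hψ ω hs ht ht' _ hN
  have hz : z = ∑ l, ((t ^ N)⁻¹ * a l) • fam ω s e l := by
    have h1 : ∑ l, ((t ^ N)⁻¹ * a l) • fam ω s e l =
        algebraMap F E (t ^ N)⁻¹ * ∑ l, algebraMap F E (a l) * fam ω s e l := by
      rw [Finset.mul_sum]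
      refine Finset.sum_congr rfl fun l _ => ?_
      rw [Algebra.smul_def, map_mul]; ring
    rw [h1, ← hza, map_inv₀, map_pow]
    have : algebraMap F E t ^ N ≠ 0 := pow_ne_zero _ (by simpa using ht0)
    field_simp
  rw [hz]
  exact Submodule.sum_mem _ fun l _ =>
    Submodule.smul_mem _ _ (Submodule.subset_span ⟨l, rfl⟩)

/-- **Integral basis**: a basis of `E` over `F` whose coordinates detect the valuation ring. -/
theorem exists_adapted_basis' [FiniteDimensional K L] (hφ : IsExpansionAt v φ)
    (hφs : Function.Surjective φ) (hψ : IsExpansionAt w ψ) :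
    ∃ (n : ℕ) (b : Basis (Fin n) F E), ∀ z, w z ≤ 1 ↔ ∀ i, v (b.repr z i) ≤ 1 := by
  classical
  obtain ⟨s, hs⟩ := hψ.2.2
  obtain ⟨t, ht⟩ := hφs (HahnSeries.single 1 1)
  have hvt := val_t hφ ht
  obtain ⟨e, he, ht'⟩ := exists_e (w := w) hvt
  set ω := Module.finBasis K L with hω
  set m := Module.finrank K L with hm
  have hli := linearIndependent_fam hφ hψ ω hs hvt ht'
  have hsp := span_fam hφ hφs hψ ω hs he ht ht'
  set b₀ : Basis (Fin m × Fin e) F E := Basis.mk hli hsp with hb₀
  have hb₀app : ∀ l, b₀ l = fam ω s e l := fun l => by rw [hb₀, Basis.mk_apply]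
  have key : ∀ z, w z ≤ 1 ↔ ∀ l, v (b₀.repr z l) ≤ 1 := by
    intro z
    constructor
    · intro hz l
      obtain ⟨a, hav, hza⟩ := exists_coeffs hφ hφs hψ ω hs ht ht' z hz
      have h1 : z = ∑ l, a l • b₀ l := by
        rw [hza]
        refine Finset.sum_congr rfl fun l _ => ?_
        rw [hb₀app, Algebra.smul_def]
      rw [h1, Basis.repr_sum_self]
      exact hav l
    · intro h
      rw [← b₀.sum_repr z]
      apply Valuation.map_sum_le
      intro l _
      rw [Algebra.smul_def, map_mul, hb₀app]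
      exact mul_le_one' ((Valuation.HasExtension.val_map_le_one_iff v w _).mpr (h l))
        (val_fam_le hψ ω hs e l)
  -- reindex by `Fin n`
  set eqv := Fintype.equivFin (Fin m × Fin e) with heqv
  refine ⟨Fintype.card (Fin m × Fin e), b₀.reindex eqv, fun z => ?_⟩
  rw [key z]
  constructor
  · intro h i
    rw [Basis.repr_reindex_apply]
    exact h _
  · intro h l
    have := h (eqv l)
    rwa [Basis.repr_reindex_apply, Equiv.symm_apply_apply] at this

end Groth.Agent.Lib.LeadLT
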