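import Groth.Agent.Lib.LeadLT5
import Groth.Agent.Lib.LeadTT5

set_option autoImplicit false
set_option maxHeartbeats 400000
set_option linter.style.haveILetI false
set_option linter.unusedSectionVars false
set_option linter.unusedVariables false

/-! The trace formula for residues in a finite extension of complete discretely valued fields. -/

namespace Groth.Agent.Lib.LeadLT

open WithZero LocRes Module Groth.Agent.Lib.LeadTR

universe u v
variable {K L : Type u} {F E : Type v} [Field K] [Field L] [Field F] [Field E]
  [Algebra K F] [Algebra F E] [Algebra K E] [IsScalarTower K F E]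
  [Algebra K L] [Algebra L E] [IsScalarTower K L E]
  {v : Valuation F (WithZero (Multiplicative ℤ))} {w : Valuation E (WithZero (Multiplicative ℤ))}
  [v.HasExtension w]
  {φ : F →ₐ[K] LaurentSeries K} {ψ : E →ₐ[L] LaurentSeries L}

lemma algebraMap_laurent (K L : Type*) [Field K] [Field L] [Algebra K L] (x : K) :
    algebraMap K (LaurentSeries L) x = HahnSeries.C (algebraMap K L x) := by
  rw [HahnSeries.algebraMap_apply', PowerSeries.algebraMap_apply, HahnSeries.ofPowerSeries_C]

theorem trace_resExp [FiniteDimensional K L] (hφ : IsExpansionAt v φ)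
    (hφs : Function.Surjective φ) (hψ : IsExpansionAt w ψ) (x : F) (y : E) :
    Algebra.trace K L (resExp ψ y (algebraMap F E x)) = resExp φ (Algebra.trace F E y) x := by
  classical
  obtain ⟨n, b, hb⟩ := exists_adapted_basis' hφ hφs hψ
  haveI h0 : @IsScalarTower K L (LaurentSeries L) Algebra.toSMul Algebra.toSMul Algebra.toSMul := by
    refine IsScalarTower.of_algebraMap_eq (R := K) (S := L) (A := LaurentSeries L) (fun x => ?_)
    rw [algebraMap_laurent, algebraMap_laurent]
    rfl
  set ψ' : E →ₐ[K] LaurentSeries L := ψ.restrictScalars K with hψ'def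
  have hψ' : IsExpansionAt w ψ' := ⟨hψ.1, hψ.2.1, hψ.2.2⟩
  obtain ⟨C, hC⟩ := Submodule.exists_isCompl (OExp φ)
  set π : Module.End K F := (OExp φ).projection C hC with hπdef
  have hπ : LinearMap.IsProj (OExp φ) π :=
    ⟨fun x => Submodule.projection_apply_mem hC x,
      fun x hx => Submodule.projection_apply_of_mem_left hC hx⟩
  have hA' : ∀ z, z ∈ OExp ψ' ↔ ∀ i, b.repr z i ∈ OExp φ := by
    intro z
    rw [mem_OExp hψ', hb z]
    exact forall_congr' fun i => (mem_OExp hφ).symm
  obtain ⟨h1, h2⟩ := resP_trace b (OExp φ) (OExp ψ') hA' (inE_mulLeft φ) hπ y x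
  have h3 := resP_mul_eq_locRes ψ' hψ' y (algebraMap F E x) h1
  have h4 := resP_mul_eq_locRes φ hφ (Algebra.trace F E y) x hπ
  have h5 : locRes ψ' y (algebraMap F E x) = locRes φ (Algebra.trace F E y) x := by
    rw [← h3, h2, h4]
  have h6 : locRes ψ' y (algebraMap F E x) =
      Algebra.trace K L (resExp ψ y (algebraMap F E x)) := rfl
  have h7 : locRes φ (Algebra.trace F E y) x = resExp φ (Algebra.trace F E y) x := by
    unfold locRes
    rw [Algebra.trace_self_apply]
  rw [← h6, h5, h7]

end Groth.Agent.Lib.LeadLT
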