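import Mathlib

/-!
# Lead: a lattice computation

For `d ∈ ℤ^r` with gcd `D`, the subgroup of `Hom(ℤ^r, ℤ/δ)` generated by the maps
`x ↦ b(d,x) + (1-g) b(x,x)` (`b` symmetric bilinear), its quotient and its isomorphism type.
-/

set_option autoImplicit false

namespace Groth.Agent.Lib.LeadLattice

/-! ### additive maps out of `ℤ × (Fin n → ℤ)` -/

lemma int_hom_apply {A : Type*} [AddGroup A] (f : ℤ →+ A) (a : ℤ) : f a = a • f 1 := by
  rw [← map_zsmul, zsmul_one, Int.cast_id]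

lemma hom_eval_P (δ : ℕ) {n : ℕ} (ψ : ℤ × (Fin n → ℤ) →+ ZMod δ) (a : ℤ) (v : Fin n → ℤ) :
    ψ (a, v) = (a : ZMod δ) * ψ (1, 0) + ∑ j, (v j : ZMod δ) * ψ (0, Pi.single j 1) := by
  have h1 : ψ (a, v) = ψ (a, 0) + ψ (0, v) := by
    rw [← map_add]
    congr 1
    simp
  have h2 : ψ (a, 0) = (a : ZMod δ) * ψ (1, 0) := by
    have h := int_hom_apply (ψ.comp (AddMonoidHom.inl ℤ (Fin n → ℤ))) a
    simpa [zsmul_eq_mul] using h
  have h3 : ψ (0, v) = ∑ j, (v j : ZMod δ) * ψ (0, Pi.single j 1) := by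
    have hv : ((0 : ℤ), v) = ∑ j, ((0 : ℤ), (Pi.single j (v j) : Fin n → ℤ)) := by
      refine Prod.ext ?_ ?_
      · simp [Prod.fst_sum]
      · simp [Prod.snd_sum, Finset.univ_sum_single]
    rw [hv, map_sum]
    refine Finset.sum_congr rfl fun j _ => ?_
    have h := int_hom_apply (ψ.comp ((AddMonoidHom.inr ℤ (Fin n → ℤ)).comp
      (AddMonoidHom.single (fun _ : Fin n => ℤ) j))) (v j)
    simpa [zsmul_eq_mul] using h
  rw [h1, h2, h3]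

/-! ### `ZMod` lemmas -/

lemma cast_eq_zero_of_dvd {m : ℕ} {k : ℤ} (h : (m : ℤ) ∣ k) : ((k : ℤ) : ZMod m) = 0 :=
  (ZMod.intCast_zmod_eq_zero_iff_dvd k m).2 h

lemma castHom_intCast {δ m : ℕ} (h : m ∣ δ) (k : ℤ) :
    ZMod.castHom h (ZMod m) (k : ZMod δ) = (k : ZMod m) := map_intCast _ k

lemma ker_cast_one {δ : ℕ} (y : ℤ) (h : Int.gcd (δ : ℤ) y ∣ δ) (a : ZMod δ)
    (ha : ZMod.castHom h (ZMod (Int.gcd (δ : ℤ) y)) a = 0) :
    ∃ c : ℤ, a = ((y * c : ℤ) : ZMod δ) := by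
  obtain ⟨k, rfl⟩ := ZMod.intCast_surjective a
  rw [castHom_intCast, ZMod.intCast_zmod_eq_zero_iff_dvd] at ha
  obtain ⟨k', rfl⟩ := ha
  refine ⟨(δ : ℤ).gcdB y * k', ?_⟩
  rw [ZMod.intCast_eq_intCast_iff_dvd_sub]
  refine ⟨-((δ : ℤ).gcdA y * k'), ?_⟩
  linear_combination (-k') * Int.gcd_eq_gcd_ab (δ : ℤ) y

lemma ker_cast_two {δ : ℕ} (y z : ℤ) (h : Int.gcd (δ : ℤ) (Int.gcd y z : ℕ) ∣ δ) (a : ZMod δ)
    (ha : ZMod.castHom h (ZMod (Int.gcd (δ : ℤ) (Int.gcd y z : ℕ))) a = 0) :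
    ∃ p q : ℤ, a = ((y * p + z * q : ℤ) : ZMod δ) := by
  obtain ⟨c, rfl⟩ := ker_cast_one ((Int.gcd y z : ℕ) : ℤ) h a ha
  refine ⟨y.gcdA z * c, y.gcdB z * c, ?_⟩
  congr 1
  linear_combination c * Int.gcd_eq_gcd_ab y z

/-! ### The general computation -/

section General

variable {L : Type*} [AddCommGroup L] [Module ℤ L] {n : ℕ}
  (e : L ≃ₗ[ℤ] ℤ × (Fin n → ℤ)) (δ : ℕ) (g : ℤ)

/-- The generating set. -/
def gens (d : L) : Set (L →+ ZMod δ) :=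
  {φ | ∃ b : LinearMap.BilinForm ℤ L, b.IsSymm ∧
      ∀ x, φ x = ((b d x + (1 - g) * b x x : ℤ) : ZMod δ)}

/-- first basis vector -/
abbrev f0 : L := e.symm (1, 0)
/-- the other basis vectors -/
abbrev fj (j : Fin n) : L := e.symm (0, Pi.single j 1)

lemma e_f0 : e (f0 e) = (1, 0) := e.apply_symm_apply _
lemma e_fj (j : Fin n) : e (fj e j) = (0, Pi.single j 1) := e.apply_symm_apply _

lemma hom_eval (φ : L →+ ZMod δ) (x : L) :
    φ x = ((e x).1 : ZMod δ) * φ (f0 e) + ∑ j, ((e x).2 j : ZMod δ) * φ (fj e j) := by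
  have h := hom_eval_P δ (φ.comp e.symm.toLinearMap.toAddMonoidHom) (e x).1 (e x).2
  simpa using h

lemma hom_ext_basis (φ ψ : L →+ ZMod δ) (h0 : φ (f0 e) = ψ (f0 e))
    (hj : ∀ j, φ (fj e j) = ψ (fj e j)) : φ = ψ := by
  ext x
  rw [hom_eval e δ φ x, hom_eval e δ ψ x, h0]
  congr 1
  exact Finset.sum_congr rfl fun j _ => by rw [hj j]

/-- The additive map with prescribed values on the basis. -/
def mk (c0 : ZMod δ) (c : Fin n → ZMod δ) : L →+ ZMod δ where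
  toFun x := ((e x).1 : ZMod δ) * c0 + ∑ j, ((e x).2 j : ZMod δ) * c j
  map_zero' := by simp
  map_add' x y := by
    simp only [map_add, Prod.fst_add, Prod.snd_add, Pi.add_apply, Int.cast_add, add_mul,
      Finset.sum_add_distrib]
    abel

lemma mk_apply (c0 : ZMod δ) (c : Fin n → ZMod δ) (x : L) :
    mk e δ c0 c x = ((e x).1 : ZMod δ) * c0 + ∑ j, ((e x).2 j : ZMod δ) * c j := rfl

lemma mk_f0 (c0 : ZMod δ) (c : Fin n → ZMod δ) : mk e δ c0 c (f0 e) = c0 := by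
  rw [mk_apply, e_f0]
  simp

lemma mk_fj (c0 : ZMod δ) (c : Fin n → ZMod δ) (i : Fin n) : mk e δ c0 c (fj e i) = c i := by
  rw [mk_apply, e_fj]
  simp [Pi.single_apply]

section PsiDef

variable {m₁ m₂ : ℕ} (h₁ : m₁ ∣ δ) (h₂ : m₂ ∣ δ)

/-- Evaluation on the basis followed by reduction. -/
def Psi : (L →+ ZMod δ) →+ ZMod m₁ × (Fin n → ZMod m₂) where
  toFun φ := (ZMod.castHom h₁ (ZMod m₁) (φ (f0 e)),
    fun j => ZMod.castHom h₂ (ZMod m₂) (φ (fj e j)))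
  map_zero' := by
    refine Prod.ext ?_ (funext fun j => ?_)
    · exact map_zero (ZMod.castHom h₁ (ZMod m₁))
    · exact map_zero (ZMod.castHom h₂ (ZMod m₂))
  map_add' φ ψ := by
    refine Prod.ext ?_ (funext fun j => ?_)
    · exact map_add (ZMod.castHom h₁ (ZMod m₁)) (φ (f0 e)) (ψ (f0 e))
    · exact map_add (ZMod.castHom h₂ (ZMod m₂)) (φ (fj e j)) (ψ (fj e j))

lemma Psi_fst (φ : L →+ ZMod δ) :
    (Psi e δ h₁ h₂ φ).1 = ZMod.castHom h₁ (ZMod m₁) (φ (f0 e)) := rfl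

lemma Psi_snd (φ : L →+ ZMod δ) (j : Fin n) :
    (Psi e δ h₁ h₂ φ).2 j = ZMod.castHom h₂ (ZMod m₂) (φ (fj e j)) := rfl

lemma Psi_surjective : Function.Surjective (Psi e δ h₁ h₂) := by
  rintro ⟨s, t⟩
  obtain ⟨s', hs'⟩ := ZMod.castHom_surjective h₁ s
  choose t' ht' using fun j => ZMod.castHom_surjective h₂ (t j)
  refine ⟨mk e δ s' t', ?_⟩
  refine Prod.ext ?_ (funext fun j => ?_)
  · rw [Psi_fst, mk_f0, hs']
  · rw [Psi_snd, mk_fj, ht']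

end PsiDef

/-- dual basis -/
def l0 : L →ₗ[ℤ] ℤ := (LinearMap.fst ℤ ℤ (Fin n → ℤ)).comp e.toLinearMap
/-- dual basis -/
def lj (j : Fin n) : L →ₗ[ℤ] ℤ :=
  ((LinearMap.proj j : (Fin n → ℤ) →ₗ[ℤ] ℤ).comp (LinearMap.snd ℤ ℤ (Fin n → ℤ))).comp
    e.toLinearMap

lemma l0_apply (x : L) : l0 e x = (e x).1 := rfl
lemma lj_apply (j : Fin n) (x : L) : lj e j x = (e x).2 j := rfl

/-- The symmetric form with prescribed coefficients. -/
def Bform (c0 : ℤ) (p q : Fin n → ℤ) : LinearMap.BilinForm ℤ L :=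
  c0 • LinearMap.BilinForm.linMulLin (l0 e) (l0 e) +
    ∑ j, (p j • LinearMap.BilinForm.linMulLin (lj e j) (lj e j) +
      q j • (LinearMap.BilinForm.linMulLin (l0 e) (lj e j) +
        LinearMap.BilinForm.linMulLin (lj e j) (l0 e)))

lemma Bform_apply (c0 : ℤ) (p q : Fin n → ℤ) (x y : L) : Bform e c0 p q x y =
    c0 * ((e x).1 * (e y).1) + ∑ j, (p j * ((e x).2 j * (e y).2 j) +
      q j * ((e x).1 * (e y).2 j + (e x).2 j * (e y).1)) := by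
  simp only [Bform, LinearMap.add_apply, LinearMap.smul_apply, LinearMap.sum_apply,
    LinearMap.BilinForm.linMulLin_apply, l0_apply, lj_apply, smul_eq_mul]

lemma Bform_symm (c0 : ℤ) (p q : Fin n → ℤ) : (Bform e c0 p q).IsSymm := ⟨fun x y => by
  rw [Bform_apply, Bform_apply]
  congr 1
  · ring
  · exact Finset.sum_congr rfl fun j _ => by ring⟩

lemma Bform_f0_f0 (c0 : ℤ) (p q : Fin n → ℤ) : Bform e c0 p q (f0 e) (f0 e) = c0 := by
  rw [Bform_apply, e_f0]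
  simp

lemma Bform_f0_fj (c0 : ℤ) (p q : Fin n → ℤ) (i : Fin n) :
    Bform e c0 p q (f0 e) (fj e i) = q i := by
  rw [Bform_apply, e_f0, e_fj]
  simp [Pi.single_apply]

lemma Bform_fj_fj (c0 : ℤ) (p q : Fin n → ℤ) (i : Fin n) :
    Bform e c0 p q (fj e i) (fj e i) = p i := by
  rw [Bform_apply, e_fj]
  simp only [mul_zero, zero_mul, add_zero, zero_add]
  rw [Finset.sum_eq_single i]
  · simp
  · intro j _ hj
    simp [Pi.single_eq_of_ne hj]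
  · intro h
    exact absurd (Finset.mem_univ i) h

lemma b_d {d : L} {D : ℤ} (hd : e d = (D, 0)) (b : LinearMap.BilinForm ℤ L) (x : L) :
    b d x = D * b (f0 e) x := by
  have hd' : d = e.symm (D, 0) := by rw [← hd, e.symm_apply_apply]
  have h := int_hom_apply (((b.flip x).toAddMonoidHom).comp
    (e.symm.toLinearMap.toAddMonoidHom.comp (AddMonoidHom.inl ℤ (Fin n → ℤ)))) D
  rw [hd']
  simpa [zsmul_eq_mul] using h

lemma gen_f0 {d : L} {D : ℤ} (hd : e d = (D, 0)) (b : LinearMap.BilinForm ℤ L) :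
    b d (f0 e) + (1 - g) * b (f0 e) (f0 e) = (D + 1 - g) * b (f0 e) (f0 e) := by
  rw [b_d e hd]
  ring

lemma gen_fj {d : L} {D : ℤ} (hd : e d = (D, 0)) (b : LinearMap.BilinForm ℤ L) (j : Fin n) :
    b d (fj e j) + (1 - g) * b (fj e j) (fj e j) =
      D * b (f0 e) (fj e j) + (1 - g) * b (fj e j) (fj e j) := by
  rw [b_d e hd]

lemma Psi_gens {d : L} {D : ℤ} (hd : e d = (D, 0))
    (h₁ : Int.gcd (δ : ℤ) (D + 1 - g) ∣ δ) (h₂ : Int.gcd (δ : ℤ) (Int.gcd (g - 1) D : ℕ) ∣ δ)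
    (φ : L →+ ZMod δ) (hφ : φ ∈ gens δ g d) : Psi e δ h₁ h₂ φ = 0 := by
  obtain ⟨b, hb, hφ⟩ := hφ
  refine Prod.ext ?_ (funext fun j => ?_)
  · rw [Psi_fst, hφ, gen_f0 e g hd, castHom_intCast]
    exact cast_eq_zero_of_dvd (Dvd.dvd.mul_right (Int.gcd_dvd_right _ _) _)
  · rw [Psi_snd, hφ, gen_fj e g hd, castHom_intCast]
    have hG : ((Int.gcd (δ : ℤ) (Int.gcd (g - 1) D : ℕ) : ℕ) : ℤ) ∣ ((Int.gcd (g - 1) D : ℕ) : ℤ) :=
      Int.gcd_dvd_right _ _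
    have hD : ((Int.gcd (δ : ℤ) (Int.gcd (g - 1) D : ℕ) : ℕ) : ℤ) ∣ D :=
      hG.trans (Int.gcd_dvd_right _ _)
    have hg : ((Int.gcd (δ : ℤ) (Int.gcd (g - 1) D : ℕ) : ℕ) : ℤ) ∣ 1 - g := by
      have h' : ((Int.gcd (δ : ℤ) (Int.gcd (g - 1) D : ℕ) : ℕ) : ℤ) ∣ g - 1 :=
        hG.trans (Int.gcd_dvd_left _ _)
      rw [show (1 - g) = -(g - 1) by ring]
      exact (dvd_neg).2 h'
    exact cast_eq_zero_of_dvd (dvd_add (Dvd.dvd.mul_right hD _) (Dvd.dvd.mul_right hg _))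

variable (hδ : (δ : ℤ) ∣ 2 * (g - 1))

include hδ in
lemma phi_add_aux (b : LinearMap.BilinForm ℤ L) (hb : b.IsSymm) (d x y : L) :
    ((b d (x + y) + (1 - g) * b (x + y) (x + y) : ℤ) : ZMod δ) =
      ((b d x + (1 - g) * b x x : ℤ) : ZMod δ) + ((b d y + (1 - g) * b y y : ℤ) : ZMod δ) := by
  have h2 : (((1 - g) * (2 * b x y) : ℤ) : ZMod δ) = 0 := by
    rw [ZMod.intCast_zmod_eq_zero_iff_dvd]
    obtain ⟨k, hk⟩ := hδ
    exact ⟨-k * b x y, by linear_combination (-(b x y)) * hk⟩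
  have h3 : b d (x + y) + (1 - g) * b (x + y) (x + y) =
      (b d x + (1 - g) * b x x) + (b d y + (1 - g) * b y y) + (1 - g) * (2 * b x y) := by
    simp only [map_add, LinearMap.add_apply]
    rw [hb.eq y x]
    ring
  rw [h3, Int.cast_add, Int.cast_add, h2, add_zero]

/-- The additive map attached to a symmetric form. -/
def phi (d : L) (b : LinearMap.BilinForm ℤ L) (hb : b.IsSymm) : L →+ ZMod δ where
  toFun x := ((b d x + (1 - g) * b x x : ℤ) : ZMod δ)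
  map_zero' := by simp
  map_add' x y := phi_add_aux δ g hδ b hb d x y

include hδ in
lemma mem_gens_of_ker {d : L} {D : ℤ} (hd : e d = (D, 0))
    (h₁ : Int.gcd (δ : ℤ) (D + 1 - g) ∣ δ) (h₂ : Int.gcd (δ : ℤ) (Int.gcd (g - 1) D : ℕ) ∣ δ)
    (φ : L →+ ZMod δ) (hφ : Psi e δ h₁ h₂ φ = 0) : φ ∈ gens δ g d := by
  have hφ0 : ZMod.castHom h₁ (ZMod (Int.gcd (δ : ℤ) (D + 1 - g))) (φ (f0 e)) = 0 := by
    rw [← Psi_fst e δ h₁ h₂ φ, hφ]
    rfl
  have hφj : ∀ j, ZMod.castHom h₂ (ZMod (Int.gcd (δ : ℤ) (Int.gcd (g - 1) D : ℕ)))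
      (φ (fj e j)) = 0 := fun j => by
    rw [← Psi_snd e δ h₁ h₂ φ j, hφ]
    rfl
  obtain ⟨c0, hc0⟩ := ker_cast_one (D + 1 - g) h₁ _ hφ0
  choose p q hpq using fun j => ker_cast_two (g - 1) D h₂ _ (hφj j)
  obtain ⟨p', hp'⟩ : ∃ p' : Fin n → ℤ, ∀ j, p' j = -p j := ⟨fun j => -p j, fun j => rfl⟩
  have hB := Bform_symm e c0 p' q
  have key : φ = phi δ g hδ d (Bform e c0 p' q) hB := by
    refine hom_ext_basis e δ _ _ ?_ fun j => ?_
    · rw [hc0]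
      show _ = ((Bform e c0 p' q d (f0 e) +
        (1 - g) * Bform e c0 p' q (f0 e) (f0 e) : ℤ) : ZMod δ)
      rw [gen_f0 e g hd, Bform_f0_f0]
    · rw [hpq j]
      show _ = ((Bform e c0 p' q d (fj e j) +
        (1 - g) * Bform e c0 p' q (fj e j) (fj e j) : ℤ) : ZMod δ)
      rw [gen_fj e g hd, Bform_f0_fj, Bform_fj_fj, hp' j]
      congr 1
      ring
  exact ⟨_, hB, fun x => DFunLike.congr_fun key x⟩

include hδ in
theorem ker_eq {d : L} {D : ℤ} (hd : e d = (D, 0))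
    (h₁ : Int.gcd (δ : ℤ) (D + 1 - g) ∣ δ) (h₂ : Int.gcd (δ : ℤ) (Int.gcd (g - 1) D : ℕ) ∣ δ) :
    (Psi e δ h₁ h₂).ker = AddSubgroup.closure (gens δ g d) := by
  apply le_antisymm
  · intro φ hφ
    exact AddSubgroup.subset_closure
      (mem_gens_of_ker e δ g hδ hd h₁ h₂ φ (AddMonoidHom.mem_ker.1 hφ))
  · rw [AddSubgroup.closure_le]
    intro φ hφ
    exact AddMonoidHom.mem_ker.2 (Psi_gens e δ g hd h₁ h₂ φ hφ)

lemma gcd_dvd_nat (x : ℤ) : Int.gcd (δ : ℤ) x ∣ δ :=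
  Int.natCast_dvd_natCast.1 (Int.gcd_dvd_left _ _)

include hδ in
theorem quot_iso {d : L} {D : ℤ} (hd : e d = (D, 0)) :
    Nonempty (((L →+ ZMod δ) ⧸ AddSubgroup.closure (gens δ g d)) ≃+
      (ZMod (Int.gcd δ (D + 1 - g)) × (Fin n → ZMod (Int.gcd δ (Int.gcd (g - 1) D))))) :=
  ⟨(QuotientAddGroup.quotientAddEquivOfEq
      (ker_eq e δ g hδ hd (gcd_dvd_nat δ _) (gcd_dvd_nat δ _)).symm).trans
    (QuotientAddGroup.quotientKerEquivOfSurjective _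
      (Psi_surjective e δ (gcd_dvd_nat δ _) (gcd_dvd_nat δ _)))⟩

end General

end Groth.Agent.Lib.LeadLattice
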