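import Mathlib
import Groth.Agent.Lib.LeadLattice

/-!
# Lead: the lattice computation, concrete form
-/

set_option autoImplicit false

namespace Groth.Agent.Lib.LeadLattice

/-! ### A basis adapted to a vector -/

/-- The linear form `x ↦ ∑ c i * x i`. -/
def dotL {r : ℕ} (c : Fin r → ℤ) : (Fin r → ℤ) →ₗ[ℤ] ℤ :=
  ∑ i, c i • (LinearMap.proj i : (Fin r → ℤ) →ₗ[ℤ] ℤ)

lemma dotL_apply {r : ℕ} (c x : Fin r → ℤ) : dotL c x = ∑ i, c i * x i := by
  simp [dotL, LinearMap.sum_apply]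

/-- Splitting off a vector on which a linear form takes the value one. -/
noncomputable def splitEquiv {r : ℕ} (ℓ : (Fin r → ℤ) →ₗ[ℤ] ℤ) (u : Fin r → ℤ) (hu : ℓ u = 1) :
    (Fin r → ℤ) ≃ₗ[ℤ] ℤ × LinearMap.ker ℓ where
  toFun x := (ℓ x, ⟨x - ℓ x • u, by
    rw [LinearMap.mem_ker, map_sub, map_smul, hu, smul_eq_mul, mul_one, sub_self]⟩)
  map_add' x y := by
    refine Prod.ext (map_add ℓ x y) (Subtype.ext ?_)
    show (x + y) - ℓ (x + y) • u = (x - ℓ x • u) + (y - ℓ y • u)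
    rw [map_add, add_smul]
    abel
  map_smul' a x := by
    refine Prod.ext (map_smul ℓ a x) (Subtype.ext ?_)
    show a • x - ℓ (a • x) • u = a • (x - ℓ x • u)
    rw [map_smul, smul_eq_mul, mul_smul, smul_sub]
  invFun p := p.1 • u + (p.2 : Fin r → ℤ)
  left_inv x := by
    show ℓ x • u + (x - ℓ x • u) = x
    abel
  right_inv p := by
    obtain ⟨a, ⟨k, hk⟩⟩ := p
    have hk' : ℓ k = 0 := hk
    have h1 : ℓ (a • u + k) = a := by
      rw [map_add, map_smul, hu, hk', smul_eq_mul, mul_one, add_zero]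
    refine Prod.ext h1 (Subtype.ext ?_)
    show (a • u + k) - ℓ (a • u + k) • u = k
    rw [h1]
    abel

theorem exists_equiv (r : ℕ) (hr : 0 < r) (d : Fin r → ℤ) :
    ∃ e : (Fin r → ℤ) ≃ₗ[ℤ] ℤ × (Fin (r - 1) → ℤ), e d = (Finset.univ.gcd d, 0) := by
  by_cases hD : Finset.univ.gcd d = 0
  · have hd0 : d = 0 := by
      funext i
      exact (Finset.gcd_eq_zero_iff.1 hD) i (Finset.mem_univ i)
    have hrank : Module.finrank ℤ (Fin r → ℤ) = Module.finrank ℤ (ℤ × (Fin (r - 1) → ℤ)) := by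
      simp [Module.finrank_prod, Module.finrank_self]
      omega
    refine ⟨LinearEquiv.ofFinrankEq _ _ hrank, ?_⟩
    rw [hD, hd0, map_zero]
    rfl
  · obtain ⟨c, hc⟩ := Finset.gcd_eq_sum_mul Finset.univ d
    obtain ⟨D, hDdef⟩ : ∃ D : ℤ, D = Finset.univ.gcd d := ⟨_, rfl⟩
    rw [← hDdef] at hc hD ⊢
    obtain ⟨u, hu⟩ : ∃ u : Fin r → ℤ, ∀ i, d i = D * u i :=
      ⟨fun i => d i / D, fun i => by
        rw [hDdef]
        exact (Int.mul_ediv_cancel' (Finset.gcd_dvd (Finset.mem_univ i))).symm⟩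
    have hℓu : dotL c u = 1 := by
      have h : D * dotL c u = D * 1 := by
        rw [dotL_apply, mul_one, Finset.mul_sum]
        calc ∑ i, D * (c i * u i) = ∑ i, d i * c i :=
              Finset.sum_congr rfl fun i _ => by rw [hu i]; ring
          _ = D := hc.symm
      exact mul_left_cancel₀ hD h
    have hdu : d = D • u := by
      funext i
      rw [hu i]
      simp
    obtain ⟨n, bK⟩ := Submodule.basisOfPid (Pi.basisFun ℤ (Fin r)) (LinearMap.ker (dotL c))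
    obtain ⟨E, hE⟩ : ∃ E : (Fin r → ℤ) ≃ₗ[ℤ] ℤ × (Fin n → ℤ),
        ∀ x, E x = ((splitEquiv (dotL c) u hℓu x).1,
          bK.equivFun (splitEquiv (dotL c) u hℓu x).2) :=
      ⟨(splitEquiv (dotL c) u hℓu).trans
        (LinearEquiv.prodCongr (LinearEquiv.refl ℤ ℤ) bK.equivFun), fun x => rfl⟩
    have hn : n = r - 1 := by
      have h := E.finrank_eq
      simp [Module.finrank_prod, Module.finrank_self] at h
      omega
    subst hn
    refine ⟨E, ?_⟩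
    have hℓd : dotL c d = D := by
      rw [hdu, map_smul, hℓu, smul_eq_mul, mul_one]
    have hz : (splitEquiv (dotL c) u hℓu d).2 = 0 := by
      apply Subtype.ext
      show d - dotL c d • u = 0
      rw [hℓd, ← hdu, sub_self]
    rw [hE, hz, map_zero]
    exact Prod.ext hℓd rfl

/-! ### The quotient -/

theorem main1 (r : ℕ) (hr : 0 < r) (δ : ℕ) (g : ℤ) (hδ : (δ : ℤ) ∣ 2 * (g - 1))
    (d : Fin r → ℤ) :
    Nonempty ((((Fin r → ℤ) →+ ZMod δ) ⧸ AddSubgroup.closure (gens δ g d)) ≃+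
      (ZMod (Int.gcd δ (Finset.univ.gcd d + 1 - g)) ×
        (Fin (r - 1) → ZMod (Int.gcd δ (Int.gcd (g - 1) (Finset.univ.gcd d)))))) := by
  obtain ⟨e, he⟩ := exists_equiv r hr d
  exact quot_iso e δ g hδ he

/-! ### The subgroup itself -/

section Iota

variable {δ m : ℕ} (h : m ∣ δ)

/-- Multiplication by `m`, as a map `ℤ/(δ/m) → ℤ/δ`. -/
def iota : ZMod (δ / m) →+ ZMod δ :=
  ZMod.lift (δ / m) ⟨zmultiplesHom (ZMod δ) (m : ZMod δ), by
    rw [zmultiplesHom_apply, zsmul_eq_mul, Int.cast_natCast, ← Nat.cast_mul,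
      Nat.div_mul_cancel h, ZMod.natCast_self]⟩

lemma iota_intCast (k : ℤ) : iota h (k : ZMod (δ / m)) = (k : ZMod δ) * (m : ZMod δ) := by
  rw [iota, ZMod.lift_coe]
  show zmultiplesHom (ZMod δ) (m : ZMod δ) k = _
  rw [zmultiplesHom_apply, zsmul_eq_mul]

lemma iota_injective (hδ0 : 0 < δ) : Function.Injective (iota h) := by
  have hm : (m : ℤ) ≠ 0 := by
    intro h0
    have : m = 0 := by exact_mod_cast h0
    subst this
    rw [zero_dvd_iff] at h
    omega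
  rw [iota, ZMod.lift_injective]
  intro k hk
  have hk' : zmultiplesHom (ZMod δ) (m : ZMod δ) k = 0 := hk
  rw [zmultiplesHom_apply, zsmul_eq_mul, ← Int.cast_natCast, ← Int.cast_mul,
    ZMod.intCast_zmod_eq_zero_iff_dvd] at hk'
  rw [ZMod.intCast_zmod_eq_zero_iff_dvd]
  have hδm : (δ : ℤ) = ((δ / m : ℕ) : ℤ) * (m : ℤ) := by
    rw [← Nat.cast_mul, Nat.div_mul_cancel h]
  rw [hδm] at hk'
  exact (mul_dvd_mul_iff_right hm).1 hk'

lemma castHom_iota (y : ZMod (δ / m)) : ZMod.castHom h (ZMod m) (iota h y) = 0 := by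
  obtain ⟨k, rfl⟩ := ZMod.intCast_surjective y
  rw [iota_intCast, map_mul, map_natCast, ZMod.natCast_self, mul_zero]

lemma exists_iota_eq (a : ZMod δ) (ha : ZMod.castHom h (ZMod m) a = 0) :
    ∃ y : ZMod (δ / m), iota h y = a := by
  obtain ⟨k, rfl⟩ := ZMod.intCast_surjective a
  rw [castHom_intCast, ZMod.intCast_zmod_eq_zero_iff_dvd] at ha
  obtain ⟨k', rfl⟩ := ha
  refine ⟨(k' : ZMod (δ / m)), ?_⟩
  rw [iota_intCast]
  push_cast
  ring

end Iota

section Sub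

variable {L : Type*} [AddCommGroup L] [Module ℤ L] {n : ℕ}
  (e : L ≃ₗ[ℤ] ℤ × (Fin n → ℤ)) (δ : ℕ) {m₁ m₂ : ℕ} (h₁ : m₁ ∣ δ) (h₂ : m₂ ∣ δ)

/-- The parametrisation of the kernel of `Psi`. -/
def Theta : ZMod (δ / m₁) × (Fin n → ZMod (δ / m₂)) →+ (L →+ ZMod δ) where
  toFun st := mk e δ (iota h₁ st.1) (fun j => iota h₂ (st.2 j))
  map_zero' := by
    ext x
    simp [mk_apply]
  map_add' a b := by
    ext x
    simp only [mk_apply, Prod.fst_add, Prod.snd_add, Pi.add_apply, map_add,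
      AddMonoidHom.add_apply, mul_add, Finset.sum_add_distrib]
    abel

lemma Theta_f0 (st : ZMod (δ / m₁) × (Fin n → ZMod (δ / m₂))) :
    Theta e δ h₁ h₂ st (f0 e) = iota h₁ st.1 := mk_f0 e δ _ _

lemma Theta_fj (st : ZMod (δ / m₁) × (Fin n → ZMod (δ / m₂))) (j : Fin n) :
    Theta e δ h₁ h₂ st (fj e j) = iota h₂ (st.2 j) := mk_fj e δ _ _ j

lemma Psi_Theta (st : ZMod (δ / m₁) × (Fin n → ZMod (δ / m₂))) :
    Psi e δ h₁ h₂ (Theta e δ h₁ h₂ st) = 0 := by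
  refine Prod.ext ?_ (funext fun j => ?_)
  · rw [Psi_fst, Theta_f0, castHom_iota]
    rfl
  · rw [Psi_snd, Theta_fj, castHom_iota]
    rfl

theorem ker_iso (hδ0 : 0 < δ) :
    Nonempty ((Psi e δ h₁ h₂).ker ≃+ (ZMod (δ / m₁) × (Fin n → ZMod (δ / m₂)))) := by
  let F : ZMod (δ / m₁) × (Fin n → ZMod (δ / m₂)) →+ (Psi e δ h₁ h₂).ker :=
    (Theta e δ h₁ h₂).codRestrict _ fun st => AddMonoidHom.mem_ker.2 (Psi_Theta e δ h₁ h₂ st)
  have hF : ∀ st, ((F st : (Psi e δ h₁ h₂).ker) : L →+ ZMod δ) = Theta e δ h₁ h₂ st := fun st => rfl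
  have hinj : Function.Injective F := by
    intro a b hab
    have hab' : Theta e δ h₁ h₂ a = Theta e δ h₁ h₂ b := by
      rw [← hF a, ← hF b, hab]
    refine Prod.ext ?_ (funext fun j => ?_)
    · apply iota_injective h₁ hδ0
      rw [← Theta_f0 e δ h₁ h₂ a, ← Theta_f0 e δ h₁ h₂ b, hab']
    · apply iota_injective h₂ hδ0
      rw [← Theta_fj e δ h₁ h₂ a j, ← Theta_fj e δ h₁ h₂ b j, hab']
  have hsurj : Function.Surjective F := by
    rintro ⟨φ, hφ⟩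
    have hφ' : Psi e δ h₁ h₂ φ = 0 := AddMonoidHom.mem_ker.1 hφ
    have h0 : ZMod.castHom h₁ (ZMod m₁) (φ (f0 e)) = 0 := by
      rw [← Psi_fst e δ h₁ h₂ φ, hφ']
      rfl
    have hj : ∀ j, ZMod.castHom h₂ (ZMod m₂) (φ (fj e j)) = 0 := fun j => by
      rw [← Psi_snd e δ h₁ h₂ φ j, hφ']
      rfl
    obtain ⟨s, hs⟩ := exists_iota_eq h₁ _ h0
    choose t ht using fun j => exists_iota_eq h₂ _ (hj j)
    refine ⟨(s, t), Subtype.ext ?_⟩
    rw [hF]
    refine hom_ext_basis e δ _ _ ?_ fun j => ?_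
    · rw [Theta_f0, hs]
    · rw [Theta_fj, ht]
  exact ⟨(AddEquiv.ofBijective F ⟨hinj, hsurj⟩).symm⟩

end Sub

theorem main2 (r : ℕ) (hr : 0 < r) (δ : ℕ) (hδ0 : 0 < δ) (g : ℤ)
    (hδ : (δ : ℤ) ∣ 2 * (g - 1)) (d : Fin r → ℤ) :
    Nonempty (AddSubgroup.closure (gens δ g d) ≃+
      (ZMod (δ / Int.gcd δ (Finset.univ.gcd d + 1 - g)) ×
        (Fin (r - 1) → ZMod (δ / Int.gcd δ (Int.gcd (g - 1) (Finset.univ.gcd d)))))) := by
  obtain ⟨e, he⟩ := exists_equiv r hr d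
  obtain ⟨I⟩ := ker_iso e δ (gcd_dvd_nat δ (Finset.univ.gcd d + 1 - g))
    (gcd_dvd_nat δ ((Int.gcd (g - 1) (Finset.univ.gcd d) : ℕ) : ℤ)) hδ0
  exact ⟨(AddEquiv.addSubgroupCongr
    (ker_eq e δ g hδ he (gcd_dvd_nat δ _) (gcd_dvd_nat δ _)).symm).trans I⟩

end Groth.Agent.Lib.LeadLattice
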