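import Mathlib
import Groth.Agent.Lib.T2H7FPFlatF
/-
Helper library (helper7): the regularity hypothesis of the fibrewise regular sequence criterion
(T2H7FPFlatF) in elementary form.
-/

universe u
open TensorProduct

namespace Groth.Agent.Lib.T2H7.SyntA

open Groth.Agent.Lib.T2H7.FPFlat

section Bridge
variable {A B : Type u} [CommRing A] [CommRing B] [Algebra A B] (p : Ideal A) [p.IsPrime]
  (q : Ideal B) [q.IsPrime] [q.LiesOver p]
  {M : Type u} [AddCommGroup M] [Module B M] [Module A M] [IsScalarTower A B M]

/-- an element of `A` outside `p` can be cancelled in the localized fibre module -/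
theorem mem_of_algebraMap_smul_mem (I : Ideal B) {a : A} (ha : a ∉ p)
    (y : LocalizedModule q.primeCompl (M ⊗[A] p.ResidueField))
    (h : a • y ∈ (I • ⊤ : Submodule B (LocalizedModule q.primeCompl (M ⊗[A] p.ResidueField)))) :
    y ∈ (I • ⊤ : Submodule B (LocalizedModule q.primeCompl (M ⊗[A] p.ResidueField))) := by
  induction y using LocalizedModule.induction_on with
  | h f s =>
    have e : a • LocalizedModule.mk f s = LocalizedModule.mk (algebraMap A B a • f) s := by
      rw [LocalizedModule.smul'_mk, algebraMap_smul]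
    rw [e, mk_mem_smul_top_iff'] at h
    obtain ⟨t, ht, h1⟩ := h
    rw [mk_mem_smul_top_iff']
    refine ⟨t * algebraMap A B a, mul_mem ht (algebraMap_mem_primeCompl_of_notMem p q ha), ?_⟩
    rw [mul_smul]
    exact h1

/-- the elementary form of regularity on the localized fibre module -/
theorem isSMulRegular_fibre_of_elementary (I : Ideal B) (r : B)
    (h : ∀ m : M, (∃ t ∈ q.primeCompl,
        t • r • m ∈ (p.map (algebraMap A B) • ⊤ ⊔ I • ⊤ : Submodule B M)) →
      ∃ t ∈ q.primeCompl, t • m ∈ (p.map (algebraMap A B) • ⊤ ⊔ I • ⊤ : Submodule B M)) :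
    IsSMulRegular (LocalizedModule q.primeCompl (M ⊗[A] p.ResidueField) ⧸
      (I • ⊤ : Submodule B (LocalizedModule q.primeCompl (M ⊗[A] p.ResidueField)))) r := by
  rw [isSMulRegular_quotient_iff_mem_of_smul_mem]
  intro y hy
  induction y using LocalizedModule.induction_on with
  | h f s =>
    obtain ⟨a, ha, m, e⟩ := exists_smul_eq_tmul_one_module p M f
    apply mem_of_algebraMap_smul_mem p q I ha
    have e1 : a • LocalizedModule.mk f s = LocalizedModule.mk (m ⊗ₜ[A] (1 : p.ResidueField)) s := by
      rw [LocalizedModule.smul'_mk, e]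
    rw [e1, mk_tmul_one_mem_smul_top_iff]
    apply h
    rw [← mk_tmul_one_mem_smul_top_iff p q I (r • m) s]
    have e2 : LocalizedModule.mk ((r • m) ⊗ₜ[A] (1 : p.ResidueField)) s =
        a • (r • LocalizedModule.mk f s) := by
      rw [smul_comm a r, e1, LocalizedModule.smul'_mk, TensorProduct.smul_tmul']
    rw [e2]
    exact Submodule.smul_of_tower_mem _ a hy

end Bridge

end Groth.Agent.Lib.T2H7.SyntA
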