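import Mathlib
import Groth.Prelude.Def_RegImm
import Groth.Agent.Lib.T2H7SyntA
import Groth.Agent.Lib.T2H7SyntB

/-!
# Relative global complete intersections: regularity and flatness at primes (helper7)

For a relative global complete intersection `R[x]/(F)` and a prime `q'` of the polynomial ring
containing the equations, `F` is a regular sequence in the localization and all the partial
quotients are flat over `R`.
-/

universe u
open TensorProduct MvPolynomial

namespace Groth.Agent.Lib.T2H7.SyntC

open Groth.Agent.Lib.T2H7.SyntA Groth.Agent.Lib.T2H7.SyntB Groth.Agent.Lib.T2H7.FPFlat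

variable {R : Type u} [CommRing R] {n c : ℕ} (F : Fin c → MvPolynomial (Fin n) R)

lemma ofList_ofFn : Ideal.ofList (List.ofFn F) = Ideal.span (Set.range F) := by
  unfold Ideal.ofList
  congr 1
  ext x
  simp only [Set.mem_ofPred_eq, List.mem_ofFn, Set.mem_range]

lemma mem_sup_smul_top_iff {L : Type*} [CommRing L] (I J : Ideal L) (x : L) :
    x ∈ (I • ⊤ ⊔ J • ⊤ : Submodule L L) ↔ x ∈ I ⊔ J := by
  rw [← Submodule.sup_smul, mem_smul_top_iff]

/-- flatness of the localization of the polynomial ring -/
lemma flat_localizedModule_mvPolynomial (q' : Ideal (MvPolynomial (Fin n) R)) [q'.IsPrime] :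
    Module.Flat R (LocalizedModule q'.primeCompl (MvPolynomial (Fin n) R)) := by
  have h1 : Module.Flat (MvPolynomial (Fin n) R) (Localization q'.primeCompl) :=
    IsLocalization.flat _ q'.primeCompl
  have h2 : Module.Flat R (Localization q'.primeCompl) :=
    Module.Flat.trans R (MvPolynomial (Fin n) R) (Localization q'.primeCompl)
  let e : LocalizedModule q'.primeCompl (MvPolynomial (Fin n) R) ≃ₗ[MvPolynomial (Fin n) R]
      Localization q'.primeCompl :=
    IsLocalizedModule.iso q'.primeCompl
      (Algebra.linearMap (MvPolynomial (Fin n) R) (Localization q'.primeCompl))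
  exact Module.Flat.of_linearEquiv (e.restrictScalars R)

variable (h : Synt.IsRelGCI R n c F) (q' : Ideal (MvPolynomial (Fin n) R)) [q'.IsPrime]
  (hq' : Ideal.span (Set.range F) ≤ q')

include h hq' in
/-- the equations of a relative global complete intersection form a regular sequence on the
localized fibre module -/
theorem isRegular_fibre_module :
    RingTheory.Sequence.IsRegular
      (LocalizedModule q'.primeCompl (MvPolynomial (Fin n) R ⊗[R]
        (q'.comap (algebraMap R (MvPolynomial (Fin n) R))).ResidueField)) (List.ofFn F) := by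
  set p := q'.comap (algebraMap R (MvPolynomial (Fin n) R)) with hp
  have hlo : q'.LiesOver p := ⟨rfl⟩
  obtain ⟨Q, hQp, hQ⟩ := exists_prime_comap p n q' rfl
  have hIQ : (Ideal.span (Set.range F)).map (ι p n) ≤ Q := by
    rw [Ideal.map_le_iff_le_comap, hQ]
    exact hq'
  have hFQ : ∀ i, ι p n (F i) ∈ Q := fun i =>
    hIQ (Ideal.mem_map_of_mem _ (Ideal.subset_span ⟨i, rfl⟩))
  have hnt : Nontrivial (p.Fiber (MvPolynomial (Fin n) R ⧸ Ideal.span (Set.range F))) := by
    by_contra hcon
    rw [not_nontrivial_iff_subsingleton] at hcon
    have h1 : (1 : MvPolynomial (Fin n) p.ResidueField) ∈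
        RingHom.ker (φ p n (Ideal.span (Set.range F))).toRingHom := by
      rw [RingHom.mem_ker]
      exact Subsingleton.elim _ _
    rw [ker_φ] at h1
    exact hQp.ne_top ((Ideal.eq_top_iff_one Q).mpr (hIQ h1))
  obtain ⟨hcn, hdim⟩ := h ⟨p, inferInstance⟩ hnt
  have hreg := isRegular_localization_fibre p n F hcn hdim Q hFQ
  have hmap : (List.ofFn fun i => ι p n (F i)) = (List.ofFn F).map (ι p n) := by
    rw [List.map_ofFn]
    rfl
  rw [hmap] at hreg
  refine ⟨⟨fun i hi => ?_⟩, ?_⟩
  · apply isSMulRegular_fibre_of_elementary p q'
    intro m hm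
    obtain ⟨t, ht, hm'⟩ := hm
    have key := elementary_of_isWeaklyRegular p n q' Q rfl hQ (List.ofFn F) hreg.toIsWeaklyRegular
      i hi m ⟨t, ht, (mem_sup_smul_top_iff _ _ _).mp hm'⟩
    obtain ⟨t', ht', hk⟩ := key
    exact ⟨t', ht', (mem_sup_smul_top_iff _ _ _).mpr hk⟩
  · intro htop
    have h1 : LocalizedModule.mk ((1 : MvPolynomial (Fin n) R) ⊗ₜ[R] (1 : p.ResidueField))
        (1 : q'.primeCompl) ∈ (Ideal.ofList (List.ofFn F) • ⊤ : Submodule (MvPolynomial (Fin n) R)
          (LocalizedModule q'.primeCompl (MvPolynomial (Fin n) R ⊗[R] p.ResidueField))) := by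
      rw [← htop]
      exact Submodule.mem_top
    rw [mk_tmul_one_mem_smul_top_iff] at h1
    obtain ⟨t, ht, h2⟩ := h1
    rw [mem_sup_smul_top_iff, smul_eq_mul, mul_one] at h2
    apply ht
    have hle : p.map (algebraMap R (MvPolynomial (Fin n) R)) ⊔ Ideal.ofList (List.ofFn F) ≤ q' := by
      rw [sup_le_iff]
      refine ⟨Ideal.map_le_iff_le_comap.mpr le_rfl, ?_⟩
      rw [ofList_ofFn]
      exact hq'
    exact hle h2

include h hq' in
/-- regularity and flatness of the quotients at a prime containing the equations -/
theorem isRegular_and_flat :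
    RingTheory.Sequence.IsRegular (LocalizedModule q'.primeCompl (MvPolynomial (Fin n) R))
        (List.ofFn F) ∧
      ∀ i ≤ (List.ofFn F).length, Module.Flat R (LocalizedModule q'.primeCompl
        (MvPolynomial (Fin n) R ⧸ (Ideal.ofList ((List.ofFn F).take i) • ⊤ :
          Submodule (MvPolynomial (Fin n) R) (MvPolynomial (Fin n) R)))) := by
  have hlo : q'.LiesOver (q'.comap (algebraMap R (MvPolynomial (Fin n) R))) := ⟨rfl⟩
  exact isRegular_and_flat_quotients_of_isRegular_fibre
    (q'.comap (algebraMap R (MvPolynomial (Fin n) R))) q' (List.ofFn F)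
    (flat_localizedModule_mvPolynomial q') (isRegular_fibre_module F h q' hq')

section Convert

variable {A B : Type u} [CommRing A] [CommRing B] [Algebra A B] (q : Ideal B) [q.IsPrime]

/-- from the localized module to the local ring -/
theorem isRegular_localization_of_localizedModule (g : List B)
    (h : RingTheory.Sequence.IsRegular (LocalizedModule q.primeCompl B) g) :
    RingTheory.Sequence.IsRegular (Localization.AtPrime q)
      (g.map (algebraMap B (Localization.AtPrime q))) := by
  let e : LocalizedModule q.primeCompl B ≃ₗ[B] Localization.AtPrime q :=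
    IsLocalizedModule.iso q.primeCompl (Algebra.linearMap B (Localization.AtPrime q))
  refine (e.toAddEquiv.isRegular_congr (as := g)
    (bs := g.map (algebraMap B (Localization.AtPrime q))) ?_).mp h
  refine List.forall₂_map_right_iff.mpr (List.forall₂_same.mpr fun r _ x => ?_)
  show e (r • x) = algebraMap B (Localization.AtPrime q) r • e x
  rw [map_smul, algebraMap_smul]

/-- flatness of the quotient of the local ring from flatness of the localized quotient module -/
theorem flat_quotient_localization (J : Ideal B)
    (h : Module.Flat A (LocalizedModule q.primeCompl (B ⧸ (J • ⊤ : Submodule B B)))) :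
    Module.Flat A (Localization.AtPrime q ⧸ J.map (algebraMap B (Localization.AtPrime q))) := by
  have hJ : (J • ⊤ : Submodule B B) = J := by rw [smul_eq_mul, Ideal.mul_top]
  let f := Submodule.toLocalizedQuotient' (Localization.AtPrime q) q.primeCompl
    (Algebra.linearMap B (Localization.AtPrime q)) (J • ⊤ : Submodule B B)
  let e1 : LocalizedModule q.primeCompl (B ⧸ (J • ⊤ : Submodule B B)) ≃ₗ[B]
      (Localization.AtPrime q ⧸ Submodule.localized' (Localization.AtPrime q) q.primeCompl
        (Algebra.linearMap B (Localization.AtPrime q)) (J • ⊤ : Submodule B B)) :=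
    IsLocalizedModule.iso q.primeCompl f
  have h2 : Submodule.localized' (Localization.AtPrime q) q.primeCompl
      (Algebra.linearMap B (Localization.AtPrime q)) (J • ⊤ : Submodule B B) =
      J.map (algebraMap B (Localization.AtPrime q)) := by
    rw [hJ]
    exact Ideal.localized'_eq_map (Localization.AtPrime q) q.primeCompl J
  let e2 : (Localization.AtPrime q ⧸ Submodule.localized' (Localization.AtPrime q) q.primeCompl
        (Algebra.linearMap B (Localization.AtPrime q)) (J • ⊤ : Submodule B B)) ≃ₗ[Localization.AtPrime q]
      (Localization.AtPrime q ⧸ J.map (algebraMap B (Localization.AtPrime q))) :=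
    Submodule.quotEquivOfEq _ _ h2
  exact Module.Flat.of_linearEquiv
    ((e1.restrictScalars A).trans (e2.restrictScalars A)).symm

end Convert

include h hq' in
/-- parts (1) and (2) in the form of the statement: regularity in the local ring and flatness of
the partial quotients -/
theorem regular_and_flat_localization :
    RingTheory.Sequence.IsRegular (Localization.AtPrime q')
        ((List.ofFn F).map (algebraMap (MvPolynomial (Fin n) R) (Localization.AtPrime q'))) ∧
      (∀ i ≤ c, Module.Flat R (Localization.AtPrime q' ⧸ Ideal.ofList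
        (((List.ofFn F).take i).map
          (algebraMap (MvPolynomial (Fin n) R) (Localization.AtPrime q'))))) := by
  obtain ⟨h1, h2⟩ := isRegular_and_flat F h q' hq'
  refine ⟨isRegular_localization_of_localizedModule q' _ h1, fun i hi => ?_⟩
  have h3 := flat_quotient_localization (A := R) q' _ (h2 i (by simpa using hi))
  rwa [Ideal.map_ofList] at h3

end Groth.Agent.Lib.T2H7.SyntC
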