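import Mathlib
import Groth.Prelude.Def_RegImm
import Groth.Agent.Lib.T2H7JacCrit
import Groth.Agent.Lib.T2H7SyntC
import Groth.Agent.S15821

/-!
# Jacobian criterion for quotients by Koszul-regular sequences (helper7)

For a formally smooth `R`-algebra `P` with a finite basis of differentials, an ideal generated by
`F` and a prime `q` of `P ⧸ (F)` such that `F` is Koszul-regular in the local ring of `P` at the
preimage of `q`: smoothness at `q` is equivalent to the nonvanishing at `q` of some maximal minor
of the Jacobian matrix.
-/

set_option autoImplicit false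
set_option linter.unusedSectionVars false

namespace Groth.Agent.Lib.T2H7.JacCritB

open Module TensorProduct KaehlerDifferential MvPolynomial

universe u

section Loc

variable {A B : Type u} [CommRing A] [CommRing B] (φ : A →+* B) (hφ : Function.Surjective φ)
  (q : Ideal B) [q.IsPrime]

include hφ in
lemma surjective_localRingHom :
    Function.Surjective (Localization.localRingHom (q.comap φ) q φ rfl) := by
  intro y
  obtain ⟨b, t, rfl⟩ := IsLocalization.exists_mk'_eq q.primeCompl y
  obtain ⟨a, rfl⟩ := hφ b
  obtain ⟨s, hs⟩ := hφ t.1
  have hs' : s ∈ (q.comap φ).primeCompl := by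
    show s ∉ q.comap φ
    rw [Ideal.mem_comap, hs]
    exact t.2
  refine ⟨IsLocalization.mk' _ a ⟨s, hs'⟩, ?_⟩
  rw [Localization.localRingHom_mk']
  congr 1
  exact Subtype.ext hs

include hφ in
lemma ker_localRingHom :
    RingHom.ker (Localization.localRingHom (q.comap φ) q φ rfl) =
      (RingHom.ker φ).map (algebraMap A (Localization.AtPrime (q.comap φ))) := by
  apply le_antisymm
  · intro x hx
    obtain ⟨a, s, rfl⟩ := IsLocalization.exists_mk'_eq (q.comap φ).primeCompl x
    rw [RingHom.mem_ker, Localization.localRingHom_mk', IsLocalization.mk'_eq_zero_iff] at hx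
    obtain ⟨t, ht⟩ := hx
    obtain ⟨u, hu⟩ := hφ t.1
    rw [IsLocalization.mk'_mem_map_algebraMap_iff]
    refine ⟨u, ?_, ?_⟩
    · show u ∉ q.comap φ
      rw [Ideal.mem_comap, hu]
      exact t.2
    · rw [RingHom.mem_ker, map_mul, hu]
      exact ht
  · rw [Ideal.map_le_iff_le_comap]
    intro a ha
    rw [Ideal.mem_comap, RingHom.mem_ker, Localization.localRingHom_to_map,
      (RingHom.mem_ker).mp ha, map_zero]

end Loc

section Inst

variable {R P : Type u} [CommRing R] [CommRing P] [Algebra R P] [Algebra.FormallySmooth R P]
  {n c : ℕ} (b : Basis (Fin n) P Ω[P⁄R]) (F : Fin c → P)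
  (q : Ideal (P ⧸ Ideal.span (Set.range F))) [q.IsPrime]

theorem isSmoothAt_iff_linearIndependent
    (hreg : LCI.IsKoszulRegularSeq
      (Localization.AtPrime (q.comap (Ideal.Quotient.mk (Ideal.span (Set.range F)))))
      (List.ofFn (fun i => algebraMap P
        (Localization.AtPrime (q.comap (Ideal.Quotient.mk (Ideal.span (Set.range F))))) (F i)))) :
    Algebra.IsSmoothAt R q ↔ LinearIndependent q.ResidueField
      (fun (i : Fin c) (j : Fin n) => algebraMap (P ⧸ Ideal.span (Set.range F)) q.ResidueField
        (Ideal.Quotient.mk (Ideal.span (Set.range F)) (b.repr (D R P (F i)) j))) := by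
  let q' : Ideal P := q.comap (Ideal.Quotient.mk (Ideal.span (Set.range F)))
  have hlo : q.LiesOver q' := ⟨rfl⟩
  let alg1 : Algebra (Localization.AtPrime q') (Localization.AtPrime q) :=
    Localization.AtPrime.algebraOfLiesOver q' q
  let alg2 : Algebra (Localization.AtPrime q') q.ResidueField :=
    ((algebraMap (Localization.AtPrime q) q.ResidueField).comp
      (algebraMap (Localization.AtPrime q') (Localization.AtPrime q))).toAlgebra
  have : IsScalarTower (Localization.AtPrime q') (Localization.AtPrime q) q.ResidueField :=
    IsScalarTower.of_algebraMap_eq' rfl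
  have : IsScalarTower R (Localization.AtPrime q') (Localization.AtPrime q) := inferInstance
  have : Algebra.FormallySmooth P (Localization.AtPrime q') :=
    Algebra.FormallySmooth.of_isLocalization q'.primeCompl
  have : Algebra.FormallyEtale P (Localization.AtPrime q') :=
    Algebra.FormallyEtale.of_isLocalization q'.primeCompl
  have : Algebra.FormallySmooth R (Localization.AtPrime q') :=
    Algebra.FormallySmooth.comp R P (Localization.AtPrime q')
  let b' : Basis (Fin n) (Localization.AtPrime q') Ω[Localization.AtPrime q'⁄R] :=
    (b.baseChange (Localization.AtPrime q')).map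
      (tensorKaehlerEquivOfFormallyEtale R P (Localization.AtPrime q'))
  have hb' : ∀ (p : P) (j : Fin n), b'.repr (D R (Localization.AtPrime q')
      (algebraMap P (Localization.AtPrime q') p)) j =
      algebraMap P (Localization.AtPrime q') (b.repr (D R P p) j) := by
    intro p j
    show (b.baseChange (Localization.AtPrime q')).repr
      ((tensorKaehlerEquivOfFormallyEtale R P (Localization.AtPrime q')).symm _) j = _
    rw [tensorKaehlerEquivOfFormallyEtale_symm_D_algebraMap, Basis.baseChange_repr_tmul,
      Algebra.smul_def, mul_one]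
  have halg : algebraMap (Localization.AtPrime q') (Localization.AtPrime q) =
      Localization.localRingHom q' q (Ideal.Quotient.mk (Ideal.span (Set.range F))) rfl := rfl
  have h₁ : Function.Surjective (algebraMap (Localization.AtPrime q') (Localization.AtPrime q)) := by
    rw [halg]
    exact surjective_localRingHom _ Ideal.Quotient.mk_surjective q
  have hf : Ideal.span (Set.range (fun i => algebraMap P (Localization.AtPrime q') (F i))) =
      RingHom.ker (algebraMap (Localization.AtPrime q') (Localization.AtPrime q)) := by
    rw [halg, ker_localRingHom _ Ideal.Quotient.mk_surjective q, Ideal.mk_ker, Ideal.map_span,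
      ← Set.range_comp]
    rfl
  have h₃ : IsLocalRing.maximalIdeal (Localization.AtPrime q) ≤
      RingHom.ker (algebraMap (Localization.AtPrime q) q.ResidueField) := by
    intro x hx
    rw [RingHom.mem_ker]
    exact (IsLocalRing.residue_eq_zero_iff x).mpr hx
  have key := Groth.Agent.Lib.T2H7.JacCrit.formallySmooth_iff_linearIndependent_jac
    (R := R) (P := Localization.AtPrime q') (S := Localization.AtPrime q) (K := q.ResidueField)
    (fun i => algebraMap P (Localization.AtPrime q') (F i)) hf b' h₁ h₃ hreg
  have hjac : Groth.Agent.Lib.T2H7.JacCrit.jac (R := R) (K := q.ResidueField)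
      (fun i => algebraMap P (Localization.AtPrime q') (F i)) b' =
      fun (i : Fin c) (j : Fin n) => algebraMap (P ⧸ Ideal.span (Set.range F)) q.ResidueField
        (Ideal.Quotient.mk (Ideal.span (Set.range F)) (b.repr (D R P (F i)) j)) := by
    funext i j
    unfold Groth.Agent.Lib.T2H7.JacCrit.jac
    rw [hb']
    show algebraMap (Localization.AtPrime q) q.ResidueField
      (algebraMap (Localization.AtPrime q') (Localization.AtPrime q) (algebraMap P _ _)) = _
    rw [halg, Localization.localRingHom_to_map, ← IsScalarTower.algebraMap_apply]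
  rw [hjac] at key
  exact key

theorem isSmoothAt_iff_exists_minor
    (hreg : LCI.IsKoszulRegularSeq
      (Localization.AtPrime (q.comap (Ideal.Quotient.mk (Ideal.span (Set.range F)))))
      (List.ofFn (fun i => algebraMap P
        (Localization.AtPrime (q.comap (Ideal.Quotient.mk (Ideal.span (Set.range F))))) (F i)))) :
    Algebra.IsSmoothAt R q ↔ ∃ I : Fin c ↪ Fin n,
      Ideal.Quotient.mk (Ideal.span (Set.range F))
        (Matrix.det (Matrix.of fun j i => b.repr (D R P (F j)) (I i))) ∉ q := by
  rw [isSmoothAt_iff_linearIndependent b F q hreg]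
  let χ : P →+* q.ResidueField :=
    (algebraMap (P ⧸ Ideal.span (Set.range F)) q.ResidueField).comp
      (Ideal.Quotient.mk (Ideal.span (Set.range F)))
  let M : Matrix (Fin c) (Fin n) q.ResidueField := Matrix.of fun i j => χ (b.repr (D R P (F i)) j)
  have h1 := Groth.Agent.Lib.T2H7.JacCrit.linearIndependent_row_iff_exists_minor M
  refine Iff.trans h1 (exists_congr fun I => ?_)
  have h2 : (M.submatrix id I).det =
      χ (Matrix.det (Matrix.of fun j i => b.repr (D R P (F j)) (I i))) := by
    rw [RingHom.map_det]
    rfl
  rw [h2]
  show algebraMap (P ⧸ Ideal.span (Set.range F)) q.ResidueField _ ≠ 0 ↔ _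
  rw [Ne, Ideal.algebraMap_residueField_eq_zero]

end Inst

end Groth.Agent.Lib.T2H7.JacCritB
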