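import Mathlib
import Groth.Prelude.Def_RegImm
import Groth.Agent.Lib.T2H7JacCritB
import Groth.Agent.Lib.LeadJacDim

/-!
# Jacobian criterion for quotients by Koszul-regular sequences, surjection form (lead)

* `isSmoothAt_iff_linearIndependent_of_surjective`: helper7's `isSmoothAt_iff_linearIndependent`
  for an arbitrary surjection `P → S` with kernel generated by `F`.
* `finrank_le_iff_linearIndependent`: `dim K ⊗ Ω_{S/R} ≤ m` iff the rows of the Jacobian matrix are
  linearly independent (`Ω_{P/R}` free of rank `m + c`).
* `isSmoothAt_iff_finrank_le`.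
-/

set_option autoImplicit false
set_option maxHeartbeats 400000
set_option linter.style.haveILetI false
set_option linter.unusedSectionVars false
set_option linter.unusedVariables false

universe u

namespace Groth.Agent.Lib.LeadLciJac

open Module TensorProduct KaehlerDifferential

section JacSurj

variable {R P S : Type u} [CommRing R] [CommRing P] [CommRing S] [Algebra R P] [Algebra R S]
  [Algebra P S] [IsScalarTower R P S] [Algebra.FormallySmooth R P]
  {n c : ℕ} (b : Basis (Fin n) P Ω[P⁄R]) (F : Fin c → P)
  (h₁ : Function.Surjective (algebraMap P S))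
  (hf : Ideal.span (Set.range F) = RingHom.ker (algebraMap P S))
  (q : Ideal S) [q.IsPrime]

include h₁ hf in
theorem isSmoothAt_iff_linearIndependent_of_surjective
    (hreg : LCI.IsKoszulRegularSeq (Localization.AtPrime (q.comap (algebraMap P S)))
      (List.ofFn (fun i => algebraMap P
        (Localization.AtPrime (q.comap (algebraMap P S))) (F i)))) :
    Algebra.IsSmoothAt R q ↔ LinearIndependent q.ResidueField
      (fun (i : Fin c) (j : Fin n) => algebraMap P q.ResidueField (b.repr (D R P (F i)) j)) := by
  let q' : Ideal P := q.comap (algebraMap P S)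
  have hlo : q.LiesOver q' := ⟨rfl⟩
  let alg1 : Algebra (Localization.AtPrime q') (Localization.AtPrime q) :=
    Localization.AtPrime.algebraOfLiesOver q' q
  let alg2 : Algebra (Localization.AtPrime q') q.ResidueField :=
    ((algebraMap (Localization.AtPrime q) q.ResidueField).comp
      (algebraMap (Localization.AtPrime q') (Localization.AtPrime q))).toAlgebra
  have : IsScalarTower (Localization.AtPrime q') (Localization.AtPrime q) q.ResidueField :=
    IsScalarTower.of_algebraMap_eq' rfl
  have : IsScalarTower R (Localization.AtPrime q') (Localization.AtPrime q) := inferInstance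
  have : Algebra.FormallySmooth P (Localization.AtPrime q') :=
    Algebra.FormallySmooth.of_isLocalization q'.primeCompl
  have : Algebra.FormallyEtale P (Localization.AtPrime q') :=
    Algebra.FormallyEtale.of_isLocalization q'.primeCompl
  have : Algebra.FormallySmooth R (Localization.AtPrime q') :=
    Algebra.FormallySmooth.comp R P (Localization.AtPrime q')
  let b' : Basis (Fin n) (Localization.AtPrime q') Ω[Localization.AtPrime q'⁄R] :=
    (b.baseChange (Localization.AtPrime q')).map
      (tensorKaehlerEquivOfFormallyEtale R P (Localization.AtPrime q'))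
  have hb' : ∀ (p : P) (j : Fin n), b'.repr (D R (Localization.AtPrime q')
      (algebraMap P (Localization.AtPrime q') p)) j =
      algebraMap P (Localization.AtPrime q') (b.repr (D R P p) j) := by
    intro p j
    show (b.baseChange (Localization.AtPrime q')).repr
      ((tensorKaehlerEquivOfFormallyEtale R P (Localization.AtPrime q')).symm _) j = _
    rw [tensorKaehlerEquivOfFormallyEtale_symm_D_algebraMap, Basis.baseChange_repr_tmul,
      Algebra.smul_def, mul_one]
  have halg : algebraMap (Localization.AtPrime q') (Localization.AtPrime q) =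
      Localization.localRingHom q' q (algebraMap P S) rfl := rfl
  have h₁' : Function.Surjective
      (algebraMap (Localization.AtPrime q') (Localization.AtPrime q)) := by
    rw [halg]
    exact Groth.Agent.Lib.T2H7.JacCritB.surjective_localRingHom _ h₁ q
  have hf' : Ideal.span (Set.range (fun i => algebraMap P (Localization.AtPrime q') (F i))) =
      RingHom.ker (algebraMap (Localization.AtPrime q') (Localization.AtPrime q)) := by
    rw [halg, Groth.Agent.Lib.T2H7.JacCritB.ker_localRingHom _ h₁ q, ← hf, Ideal.map_span,
      ← Set.range_comp]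
    rfl
  have h₃ : IsLocalRing.maximalIdeal (Localization.AtPrime q) ≤
      RingHom.ker (algebraMap (Localization.AtPrime q) q.ResidueField) := by
    intro x hx
    rw [RingHom.mem_ker]
    exact (IsLocalRing.residue_eq_zero_iff x).mpr hx
  have key := Groth.Agent.Lib.T2H7.JacCrit.formallySmooth_iff_linearIndependent_jac
    (R := R) (P := Localization.AtPrime q') (S := Localization.AtPrime q) (K := q.ResidueField)
    (fun i => algebraMap P (Localization.AtPrime q') (F i)) hf' b' h₁' h₃ hreg
  have hjac : Groth.Agent.Lib.T2H7.JacCrit.jac (R := R) (K := q.ResidueField)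
      (fun i => algebraMap P (Localization.AtPrime q') (F i)) b' =
      fun (i : Fin c) (j : Fin n) => algebraMap P q.ResidueField (b.repr (D R P (F i)) j) := by
    funext i j
    unfold Groth.Agent.Lib.T2H7.JacCrit.jac
    rw [hb']
    show algebraMap (Localization.AtPrime q) q.ResidueField
      (algebraMap (Localization.AtPrime q') (Localization.AtPrime q) (algebraMap P _ _)) = _
    rw [halg, Localization.localRingHom_to_map, ← IsScalarTower.algebraMap_apply,
      ← IsScalarTower.algebraMap_apply]
  rw [hjac] at key
  exact key

end JacSurj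

section LemmaJ

variable {R P S K : Type u} [CommRing R] [CommRing P] [CommRing S] [Field K]
  [Algebra R P] [Algebra R S] [Algebra P S] [IsScalarTower R P S]
  [Algebra S K] [Algebra P K] [IsScalarTower P S K]
  {n c : ℕ} (b : Basis (Fin n) P Ω[P⁄R]) (F : Fin c → P)
  (h₁ : Function.Surjective (algebraMap P S))
  (hf : Ideal.span (Set.range F) = RingHom.ker (algebraMap P S))

include h₁ hf in
theorem finrank_le_iff_linearIndependent (m : ℕ) (hn : n = m + c) :
    Module.finrank K (K ⊗[S] Ω[S⁄R]) ≤ m ↔ LinearIndependent K
      (fun (i : Fin c) (j : Fin n) => algebraMap P K (b.repr (D R P (F i)) j)) := by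
  haveI : Module.Free P Ω[P⁄R] := Module.Free.of_basis b
  haveI : Module.Finite P Ω[P⁄R] := Module.Finite.of_basis b
  haveI : Nontrivial P := RingHom.domain_nontrivial (algebraMap P K)
  have hrank : Module.finrank P Ω[P⁄R] = n := by
    rw [Module.finrank_eq_card_basis b, Fintype.card_fin]
  have hF0 : ∀ i, algebraMap P K (F i) = 0 := by
    intro i
    have h1 : F i ∈ RingHom.ker (algebraMap P S) := by
      rw [← hf]
      exact Ideal.subset_span ⟨i, rfl⟩
    rw [IsScalarTower.algebraMap_apply P S K, RingHom.mem_ker.mp h1, map_zero]
  have h := Groth.Agent.Lib.LeadJacDim.finrank_add_finrank_span (R := R) (A := P) (S := S)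
    (K := K) h₁
  rw [← hf, Groth.Agent.Lib.LeadJacDim.span_image_span (R := R) F hF0, hrank] at h
  -- the vectors
  let v : Fin c → K ⊗[P] Ω[P⁄R] := fun i => (1 : K) ⊗ₜ[P] D R P (F i)
  have hrows : (fun (i : Fin c) (j : Fin n) => algebraMap P K (b.repr (D R P (F i)) j)) =
      ((b.baseChange K).equivFun.toLinearMap ∘ v) := by
    funext i j
    show _ = (b.baseChange K).equivFun ((1 : K) ⊗ₜ[P] D R P (F i)) j
    rw [Basis.equivFun_apply, Basis.baseChange_repr_tmul, Algebra.smul_def, mul_one]
  have hli : LinearIndependent K
      (fun (i : Fin c) (j : Fin n) => algebraMap P K (b.repr (D R P (F i)) j)) ↔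
      LinearIndependent K v := by
    rw [hrows]
    constructor
    · intro h2
      exact LinearIndependent.of_comp _ h2
    · intro h2
      exact h2.map' _ (LinearEquiv.ker _)
  rw [hli, linearIndependent_iff_card_eq_finrank_span, Fintype.card_fin]
  have hle : (Set.range v).finrank K ≤ c := by
    have := finrank_range_le_card (R := K) v
    rwa [Fintype.card_fin] at this
  have h' : Module.finrank K (K ⊗[S] Ω[S⁄R]) + (Set.range v).finrank K = m + c := by
    rw [← hn]
    exact h
  constructor
  · intro h2
    omega
  · intro h2
    omega

end LemmaJ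

section Combined

variable {R P S : Type u} [CommRing R] [CommRing P] [CommRing S] [Algebra R P] [Algebra R S]
  [Algebra P S] [IsScalarTower R P S] [Algebra.FormallySmooth R P]
  {n c : ℕ} (b : Basis (Fin n) P Ω[P⁄R]) (F : Fin c → P)
  (h₁ : Function.Surjective (algebraMap P S))
  (hf : Ideal.span (Set.range F) = RingHom.ker (algebraMap P S))
  (q : Ideal S) [q.IsPrime]

include b h₁ hf in
theorem isSmoothAt_iff_finrank_le (m : ℕ) (hn : n = m + c)
    (hreg : LCI.IsKoszulRegularSeq (Localization.AtPrime (q.comap (algebraMap P S)))
      (List.ofFn (fun i => algebraMap P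
        (Localization.AtPrime (q.comap (algebraMap P S))) (F i)))) :
    Algebra.IsSmoothAt R q ↔
      Module.finrank q.ResidueField (q.ResidueField ⊗[S] Ω[S⁄R]) ≤ m := by
  rw [isSmoothAt_iff_linearIndependent_of_surjective b F h₁ hf q hreg,
    finrank_le_iff_linearIndependent (K := q.ResidueField) b F h₁ hf m hn]

end Combined

end Groth.Agent.Lib.LeadLciJac
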