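import Groth.Agent.Lib.Helper13KzLiftH
import Groth.Prelude.Def_RegImm

/-!
# Flat base change of regular immersions of the four kinds (T2 helper9)

* `isPullback_morphismRestrict_of_isPullback`, `isClosedImmersion_morphismRestrict_of_isPullback`:
  the restriction of a base change is the base change of the restriction.
* `ker_app_eq`: in a cartesian square over `i` with `i ∣_ U` a closed immersion,
  `ker (i'.app V) = ker (i.app U) · Γ(X, V)` for affine `V ≤ g⁻¹ U`.
* `isH1Regular_comp_of_flat`, `isQuasiRegular_comp_of_flat`, `isKoszulRegularSeq_map_of_flat`,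
  `seq_map_of_flat`: sequences of the four kinds are preserved by flat ring maps.
* `isRegularImmersion_of_isPullback`.
-/

set_option autoImplicit false
set_option linter.style.haveILetI false
set_option linter.unusedSectionVars false
universe u
open CategoryTheory AlgebraicGeometry Limits

namespace Groth.Agent.Lib.T2H9.RegImmBC

open Groth.Agent.Helper13KzLift Groth.Agent.Helper13Kz CohIII
open scoped TensorProduct

section Scheme

variable {X Y X₀ Y₀ : Scheme.{u}} {g : X ⟶ Y} {i : Y₀ ⟶ Y} {i' : X₀ ⟶ X} {g₀ : X₀ ⟶ Y₀}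

theorem preimage_le_of_isPullback (sq : IsPullback i' g₀ g i) (U : Y.Opens) (V : X.Opens)
    (e : V ≤ g ⁻¹ᵁ U) : i' ⁻¹ᵁ V ≤ g₀ ⁻¹ᵁ (i ⁻¹ᵁ U) := by
  rw [← Scheme.Hom.comp_preimage, ← sq.w, Scheme.Hom.comp_preimage]
  exact i'.preimage_mono e

/-- the restriction of a base change is the base change of the restriction -/
theorem isPullback_morphismRestrict_of_isPullback (sq : IsPullback i' g₀ g i) (U : Y.Opens)
    (V : X.Opens) (e : V ≤ g ⁻¹ᵁ U) :
    IsPullback (i' ∣_ V) (g₀.resLE (i ⁻¹ᵁ U) (i' ⁻¹ᵁ V) (preimage_le_of_isPullback sq U V e))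
      (g.resLE U V e) (i ∣_ U) := by
  have S1 := isPullback_morphismRestrict i' V
  have S3 := isPullback_morphismRestrict i U
  have big : IsPullback (i' ∣_ V) ((i' ⁻¹ᵁ V).ι ≫ g₀) (V.ι ≫ g) i := S1.paste_vert sq
  have hw : (i' ∣_ V) ≫ g.resLE U V e =
      g₀.resLE (i ⁻¹ᵁ U) (i' ⁻¹ᵁ V) (preimage_le_of_isPullback sq U V e) ≫ (i ∣_ U) := by
    rw [← cancel_mono U.ι]
    simp only [Category.assoc, Scheme.Hom.resLE_comp_ι, morphismRestrict_ι]
    rw [← Category.assoc, morphismRestrict_ι, Category.assoc, sq.w, Scheme.Hom.resLE_comp_ι_assoc]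
  refine IsPullback.of_bot ?_ hw S3
  rw [Scheme.Hom.resLE_comp_ι, Scheme.Hom.resLE_comp_ι]
  exact big

theorem isClosedImmersion_morphismRestrict_of_isPullback (sq : IsPullback i' g₀ g i) (U : Y.Opens)
    (V : X.Opens) (e : V ≤ g ⁻¹ᵁ U) [IsClosedImmersion (i ∣_ U)] : IsClosedImmersion (i' ∣_ V) :=
  MorphismProperty.of_isPullback (isPullback_morphismRestrict_of_isPullback sq U V e).flip ‹_›

theorem isAffineOpen_preimage_of_restrict (i : Y₀ ⟶ Y) {U : Y.Opens} (hU : IsAffineOpen U)
    [IsClosedImmersion (i ∣_ U)] : IsAffineOpen (i ⁻¹ᵁ U) := by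
  have : IsAffine U.toScheme := hU
  exact (IsClosedImmersion.isAffine_surjective_of_isAffine (i ∣_ U)).1

theorem app_surjective_of_restrict (i : Y₀ ⟶ Y) {U : Y.Opens} (hU : IsAffineOpen U)
    [IsClosedImmersion (i ∣_ U)] : Function.Surjective (i.app U).hom := by
  have : IsAffine U.toScheme := hU
  have h := (IsClosedImmersion.isAffine_surjective_of_isAffine (i ∣_ U)).2
  rw [morphismRestrict_appTop] at h
  have key : ∀ W' : Y.Opens, W' = U → Function.Surjective (i.app W').hom →
      Function.Surjective (i.app U).hom := by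
    rintro W' rfl h; exact h
  refine key _ U.ι_image_top ?_
  intro a
  obtain ⟨b, hb⟩ := h ((Y₀.presheaf.map
    (eqToHom (image_morphismRestrict_preimage i U ⊤)).op).hom a)
  refine ⟨b, ?_⟩
  have hinj : Function.Injective (Y₀.presheaf.map
      (eqToHom (image_morphismRestrict_preimage i U ⊤)).op).hom :=
    (ConcreteCategory.bijective_of_isIso (Y₀.presheaf.map
      (eqToHom (image_morphismRestrict_preimage i U ⊤)).op)).1
  exact hinj hb

theorem appLE_congr_hom {X Y : Scheme.{u}} {f g : X ⟶ Y} (e : f = g) (U : Y.Opens) (V : X.Opens)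
    (h : V ≤ f ⁻¹ᵁ U) : f.appLE U V h = g.appLE U V (e ▸ h) := by
  subst e; rfl

/-- generalisation of `Helper22.Thick.ker_app_le` to immersions -/
theorem ker_app_le (sq : IsPullback i' g₀ g i)
    {U : Y.Opens} (hU : IsAffineOpen U) [IsClosedImmersion (i ∣_ U)]
    {V : X.Opens} (hV : IsAffineOpen V) (e : V ≤ g ⁻¹ᵁ U) :
    RingHom.ker (i'.app V).hom ≤ (RingHom.ker (i.app U).hom).map (g.appLE U V e).hom := by
  haveI : IsClosedImmersion (i' ∣_ V) := isClosedImmersion_morphismRestrict_of_isPullback sq U V e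
  have hW : IsAffineOpen (i ⁻¹ᵁ U) := isAffineOpen_preimage_of_restrict i hU
  have hV' : IsAffineOpen (i' ⁻¹ᵁ V) := isAffineOpen_preimage_of_restrict i' hV
  have hsurj := app_surjective_of_restrict i hU
  set J : Ideal Γ(X, V) := (RingHom.ker (i.app U).hom).map (g.appLE U V e).hom with hJ
  let q : Γ(X, V) ⟶ CommRingCat.of (Γ(X, V) ⧸ J) := CommRingCat.ofHom (Ideal.Quotient.mk J)
  have hkill : RingHom.ker (i.app U).hom ≤ RingHom.ker ((g.appLE U V e) ≫ q).hom := by
    intro a ha
    rw [RingHom.mem_ker, CommRingCat.hom_comp, RingHom.comp_apply]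
    exact Ideal.Quotient.eq_zero_iff_mem.mpr (Ideal.mem_map_of_mem _ ha)
  let θ₀ : Γ(Y₀, i ⁻¹ᵁ U) →+* (Γ(X, V) ⧸ J) :=
    RingHom.liftOfSurjective (i.app U).hom hsurj ⟨((g.appLE U V e) ≫ q).hom, hkill⟩
  let θ : Γ(Y₀, i ⁻¹ᵁ U) ⟶ CommRingCat.of (Γ(X, V) ⧸ J) := CommRingCat.ofHom θ₀
  have hθ : i.app U ≫ θ = g.appLE U V e ≫ q := by
    ext a
    exact RingHom.liftOfSurjective_comp_apply (i.app U).hom hsurj
      ⟨((g.appLE U V e) ≫ q).hom, hkill⟩ a
  let z : Spec (CommRingCat.of (Γ(X, V) ⧸ J)) ⟶ X := Spec.map q ≫ hV.fromSpec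
  let w : Spec (CommRingCat.of (Γ(X, V) ⧸ J)) ⟶ Y₀ := Spec.map θ ≫ hW.fromSpec
  have hzw : z ≫ g = w ≫ i := by
    simp only [z, w, Category.assoc]
    rw [← IsAffineOpen.SpecMap_appLE_fromSpec g hU hV e,
      ← IsAffineOpen.SpecMap_appLE_fromSpec i hU hW le_rfl, ← Scheme.Hom.app_eq_appLE,
      ← Spec.map_comp_assoc, ← Spec.map_comp_assoc, hθ]
  let l : Spec (CommRingCat.of (Γ(X, V) ⧸ J)) ⟶ X₀ := sq.lift z w hzw
  have hl : l ≫ i' = z := sq.lift_fst _ _ _
  have hrange : Set.range l ⊆ Set.range hV'.fromSpec := by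
    rw [hV'.range_fromSpec]
    rintro _ ⟨t, rfl⟩
    show i' (l t) ∈ V
    rw [← Scheme.Hom.comp_apply, hl]
    have := hV.range_fromSpec
    rw [← SetLike.mem_coe, ← this]
    exact ⟨Spec.map q t, rfl⟩
  let l' := IsOpenImmersion.lift hV'.fromSpec l hrange
  have hl' : l' ≫ hV'.fromSpec = l := IsOpenImmersion.lift_fac _ _ _
  obtain ⟨lam, hlam⟩ := Spec.map_surjective l'
  have hq : i'.app V ≫ lam = q := by
    apply Spec.map_injective
    rw [← cancel_mono hV.fromSpec, Spec.map_comp, Category.assoc, Scheme.Hom.app_eq_appLE,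
      IsAffineOpen.SpecMap_appLE_fromSpec i' hV hV' le_rfl, ← Category.assoc, hlam, hl', hl]
  intro b hb
  rw [RingHom.mem_ker] at hb
  have : q.hom b = 0 := by
    rw [← hq, CommRingCat.hom_comp, RingHom.comp_apply, hb, map_zero]
  exact Ideal.Quotient.eq_zero_iff_mem.mp this

theorem ker_app_eq (sq : IsPullback i' g₀ g i)
    {U : Y.Opens} (hU : IsAffineOpen U) [IsClosedImmersion (i ∣_ U)]
    {V : X.Opens} (hV : IsAffineOpen V) (e : V ≤ g ⁻¹ᵁ U) :
    RingHom.ker (i'.app V).hom = (RingHom.ker (i.app U).hom).map (g.appLE U V e).hom := by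
  apply le_antisymm (ker_app_le sq hU hV e)
  rw [Ideal.map_le_iff_le_comap]
  intro a ha
  rw [RingHom.mem_ker] at ha
  rw [Ideal.mem_comap, RingHom.mem_ker]
  have e1 : g.appLE U V e ≫ i'.app V =
      i.app U ≫ g₀.appLE (i ⁻¹ᵁ U) (i' ⁻¹ᵁ V) (preimage_le_of_isPullback sq U V e) := by
    rw [Scheme.Hom.app_eq_appLE, Scheme.Hom.appLE_comp_appLE, Scheme.Hom.app_eq_appLE,
      Scheme.Hom.appLE_comp_appLE]
    exact appLE_congr_hom sq.w _ _ _
  have e2 := congrArg (fun φ => φ.hom a) e1
  simp only [CommRingCat.hom_comp, RingHom.comp_apply] at e2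
  rw [e2, ha, map_zero]

end Scheme

section Ring

theorem isH1Regular_comp_of_flat {R R' : Type u} [CommRing R] [CommRing R'] [Algebra R R']
    [Module.Flat R R'] {c : ℕ} (f : Fin c → R) (h : CAlgX.IsH1Regular f) :
    CAlgX.IsH1Regular (fun i => algebraMap R R' (f i)) := by
  intro a' ha'
  have hrel : ∑ i, f i • a' i = 0 := by
    rw [← ha']
    apply Finset.sum_congr rfl
    intro i _
    rw [Algebra.smul_def, mul_comm]
  obtain ⟨k, a, y, hx, hrel'⟩ := Module.Flat.isTrivialRelation_of_sum_smul_eq_zero (R := R) (M := R') (f := f) (x := a') hrel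
  have ha'eq : a' = ∑ j, y j • (fun i => algebraMap R R' (a i j)) := by
    funext i
    rw [hx i, Finset.sum_apply]
    apply Finset.sum_congr rfl
    intro j _
    simp [Algebra.smul_def, mul_comm]
  rw [ha'eq]
  refine Submodule.sum_mem _ fun j _ => Submodule.smul_mem _ _ ?_
  have hcol : (fun i => a i j) ∈ Submodule.span R
      {v : Fin c → R | ∃ i j : Fin c, v = Pi.single i (f j) - Pi.single j (f i)} := by
    apply h
    rw [← hrel' j]
    apply Finset.sum_congr rfl
    intro i _
    ring
  let ψ : (Fin c → R) →ₗ[R] (Fin c → R') := (Algebra.linearMap R R').compLeft (Fin c)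
  have hle : Submodule.span R
      {v : Fin c → R | ∃ i j : Fin c, v = Pi.single i (f j) - Pi.single j (f i)} ≤
      ((Submodule.span R' {v : Fin c → R' | ∃ i j : Fin c, v =
        Pi.single i (algebraMap R R' (f j)) - Pi.single j (algebraMap R R' (f i))}).restrictScalars
          R).comap ψ := by
    rw [Submodule.span_le]
    rintro v ⟨i, j, rfl⟩
    show ψ _ ∈ Submodule.span R' _
    apply Submodule.subset_span
    refine ⟨i, j, ?_⟩
    funext l
    simp only [ψ, LinearMap.compLeft_apply, Function.comp_apply, Pi.sub_apply,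
      Algebra.linearMap_apply, map_sub, Pi.single_apply]
    split_ifs <;> simp
  exact hle hcol

theorem h1_congr {R : Type u} [CommRing R] {c c' : ℕ} (h : c = c') (f : Fin c → R)
    (f' : Fin c' → R) (hf : ∀ i, f i = f' (Fin.cast h i)) :
    CAlgX.IsH1Regular f → CAlgX.IsH1Regular f' := by
  subst h
  have : f = f' := funext fun i => by simpa using hf i
  subst this
  exact id

theorem isH1Regular_map_of_flat {R R' : Type u} [CommRing R] [CommRing R'] (φ : R →+* R')
    (hφ : φ.Flat) (rs : List R) (h : CAlgX.IsH1Regular rs.get) :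
    CAlgX.IsH1Regular (rs.map φ).get := by
  letI := φ.toAlgebra
  haveI : Module.Flat R R' := hφ
  refine h1_congr (List.length_map φ).symm _ _ ?_ (isH1Regular_comp_of_flat rs.get h)
  intro i
  simp [RingHom.algebraMap_toAlgebra]

open MvPolynomial in
theorem isQuasiRegular_comp_of_flat {R R' : Type u} [CommRing R] [CommRing R'] [Algebra R R']
    [Module.Flat R R'] {c : ℕ} (f : Fin c → R) (h : CAlgX.IsQuasiRegular f) :
    CAlgX.IsQuasiRegular (fun i => algebraMap R R' (f i)) := by
  classical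
  intro n P hP hmem d
  set J : Ideal R := Ideal.span (Set.range f) with hJ
  have hJ' : Ideal.span (Set.range fun i => algebraMap R R' (f i)) = J.map (algebraMap R R') := by
    rw [hJ, Ideal.map_span, ← Set.range_comp]
    rfl
  rw [hJ'] at hmem ⊢
  rw [← Ideal.map_pow] at hmem
  -- write the value as a combination of images of elements of J^(n+1)
  have hmem' : eval (fun i => algebraMap R R' (f i)) P ∈
      Submodule.span R' ((algebraMap R R') '' ((J ^ (n + 1) : Ideal R) : Set R)) := hmem
  obtain ⟨t, ht, cf, hsum⟩ := (Submodule.mem_span_image_iff_exists_fun R').mp hmem'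
  -- monomials evaluated at f
  let mon : (Fin c →₀ ℕ) → R := fun e => ∏ i, f i ^ e i
  have hev : eval (fun i => algebraMap R R' (f i)) P =
      ∑ e : ↥P.support, mon e.1 • coeff e.1 P := by
    rw [eval_eq', ← Finset.sum_coe_sort]
    apply Finset.sum_congr rfl
    intro e _
    rw [Algebra.smul_def, mul_comm]
    congr 1
    simp only [mon, map_prod, map_pow]
  -- the relation
  let r : ↥P.support ⊕ ↥t → R := Sum.elim (fun e => mon e.1) (fun g => g.1)
  let x : ↥P.support ⊕ ↥t → R' := Sum.elim (fun e => coeff e.1 P) (fun g => - cf g)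
  have hrel : ∑ i, r i • x i = 0 := by
    rw [Fintype.sum_sum_type]
    simp only [r, x, Sum.elim_inl, Sum.elim_inr]
    rw [← hev, ← hsum, ← Finset.sum_add_distrib]
    apply Finset.sum_eq_zero
    intro g _
    rw [smul_neg, Algebra.smul_def (g : R) (cf g), smul_eq_mul, mul_comm, add_neg_cancel]
  obtain ⟨k, a, y, hx, hrel'⟩ := Module.Flat.isTrivialRelation_of_sum_smul_eq_zero (R := R)
    (M := R') (f := r) (x := x) hrel
  -- each column gives a homogeneous polynomial over R
  have hcol : ∀ (j : Fin k) (e : ↥P.support), a (Sum.inl e) j ∈ J := by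
    intro j e₀
    let Q : MvPolynomial (Fin c) R := ∑ e : ↥P.support, monomial e.1 (a (Sum.inl e) j)
    have hQhom : Q.IsHomogeneous n := by
      apply IsHomogeneous.sum
      intro e _
      apply isHomogeneous_monomial
      have he : coeff e.1 P ≠ 0 := mem_support_iff.mp e.2
      have := hP he
      rw [Finsupp.degree_eq_weight_one]
      exact this
    have hQev : eval f Q ∈ J ^ (n + 1) := by
      have h1 : eval f Q = ∑ e : ↥P.support, mon e.1 * a (Sum.inl e) j := by
        simp only [Q, map_sum, eval_monomial, mon]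
        apply Finset.sum_congr rfl
        intro e _
        rw [mul_comm]
        congr 1
        rw [Finsupp.prod_fintype]
        intro i
        exact pow_zero _
      have h2 := hrel' j
      rw [Fintype.sum_sum_type] at h2
      simp only [r, Sum.elim_inl, Sum.elim_inr] at h2
      rw [h1, eq_neg_of_add_eq_zero_left h2]
      apply Ideal.neg_mem_iff _ |>.mpr
      apply Ideal.sum_mem
      intro g _
      exact Ideal.mul_mem_right _ _ (ht g.2)
    have := h n Q hQhom hQev e₀.1
    have hco : coeff e₀.1 Q = a (Sum.inl e₀) j := by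
      simp only [Q, coeff_sum, coeff_monomial]
      rw [Finset.sum_eq_single e₀]
      · simp
      · intro b _ hb
        rw [if_neg]
        intro hbe
        exact hb (Subtype.ext hbe)
      · intro hne
        exact absurd (Finset.mem_univ _) hne
    rwa [hco] at this
  by_cases hd : d ∈ P.support
  · have h1 : coeff d P = ∑ j, a (Sum.inl ⟨d, hd⟩) j • y j := hx (Sum.inl ⟨d, hd⟩)
    rw [h1]
    apply Ideal.sum_mem
    intro j _
    rw [Algebra.smul_def]
    exact Ideal.mul_mem_right _ _ (Ideal.mem_map_of_mem _ (hcol j ⟨d, hd⟩))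
  · rw [notMem_support_iff.mp hd]
    exact Ideal.zero_mem _

theorem isKoszulRegularSeq_map_of_flat {R R' : Type u} [CommRing R] [CommRing R'] (φ : R →+* R')
    (hφ : φ.Flat) (rs : List R) (h : LCI.IsKoszulRegularSeq R rs) :
    LCI.IsKoszulRegularSeq R' (rs.map φ) := by
  letI := φ.toAlgebra
  haveI : Module.Flat R R' := hφ
  rw [isKoszulRegularSeq_iff] at h ⊢
  intro i hi
  have h1 : Subsingleton (KH rs (R ⊗[R] R') i) := subsingleton_KH_tensor_flat R R' rs i (h i hi)
  have h2 : Subsingleton (KH rs R' i) := subsingleton_KH_of_equiv rs (TensorProduct.lid R R') i h1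
  let M : ModuleCat.{u} R' := ModuleCat.of R' R'
  let e : R' ≃ₗ[R] ↑((ModuleCat.restrictScalars φ).obj M) :=
    { toFun := fun x => x
      invFun := fun x => x
      left_inv := fun _ => rfl
      right_inv := fun _ => rfl
      map_add' := fun _ _ => rfl
      map_smul' := fun r x => by
        show r • x = φ r • x
        rw [Algebra.smul_def]
        rfl }
  have h3 : Subsingleton (KH rs ↑((ModuleCat.restrictScalars φ).obj M) i) :=
    subsingleton_KH_of_equiv rs e i h2
  have h4 : IsZero ((koszulCx ((ModuleCat.restrictScalars φ).obj M) rs).homology i) :=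
    ModuleCat.isZero_of_subsingleton _
  have h5 : IsZero ((((ModuleCat.restrictScalars φ).mapHomologicalComplex (ComplexShape.up ℤ)).obj
      (koszulCx M (rs.map φ))).homology i) :=
    IsZero.of_iso h4 ((HomologicalComplex.homologyFunctor _ _ i).mapIso (restrictIso φ M rs))
  rw [← HomologicalComplex.exactAt_iff_isZero_homology] at h5
  have h6 : (((koszulCx M (rs.map φ)).sc i).map (ModuleCat.restrictScalars φ)).Exact := h5
  rw [ShortComplex.exact_map_iff_of_faithful] at h6
  have h7 : IsZero ((koszulCx M (rs.map φ)).homology i) := by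
    rw [← HomologicalComplex.exactAt_iff_isZero_homology]
    exact h6
  exact ModuleCat.subsingleton_of_isZero h7

theorem quasi_congr {R : Type u} [CommRing R] {c c' : ℕ} (h : c = c') (f : Fin c → R)
    (f' : Fin c' → R) (hf : ∀ i, f i = f' (Fin.cast h i)) :
    CAlgX.IsQuasiRegular f → CAlgX.IsQuasiRegular f' := by
  subst h
  have : f = f' := funext fun i => by simpa using hf i
  subst this
  exact id

theorem isQuasiRegular_map_of_flat {R R' : Type u} [CommRing R] [CommRing R'] (φ : R →+* R')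
    (hφ : φ.Flat) (rs : List R) (h : CAlgX.IsQuasiRegular rs.get) :
    CAlgX.IsQuasiRegular (rs.map φ).get := by
  letI := φ.toAlgebra
  haveI : Module.Flat R R' := hφ
  refine quasi_congr (List.length_map φ).symm _ _ ?_ (isQuasiRegular_comp_of_flat rs.get h)
  intro i
  simp [RingHom.algebraMap_toAlgebra]

/-- sequences of each of the four kinds are preserved by flat ring maps (for the kind `regular`,
provided the extended ideal is proper) -/
theorem seq_map_of_flat (k : RegImm.Kind) {R R' : Type u} [CommRing R] [CommRing R'] (φ : R →+* R')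
    (hφ : φ.Flat) (rs : List R) (h : k.Seq R rs) (hne : Ideal.ofList (rs.map φ) ≠ ⊤) :
    k.Seq R' (rs.map φ) := by
  cases k with
  | regular =>
    have h' : RingTheory.Sequence.IsRegular R rs := h
    letI := φ.toAlgebra
    haveI : Module.Flat R R' := hφ
    refine ⟨h'.toIsWeaklyRegular.of_flat, ?_⟩
    rw [smul_eq_mul, Ideal.mul_top]
    exact hne.symm
  | koszul => exact isKoszulRegularSeq_map_of_flat φ hφ rs h
  | h1 => exact isH1Regular_map_of_flat φ hφ rs h
  | quasi => exact isQuasiRegular_map_of_flat φ hφ rs h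

end Ring

section Main

variable {X Y X₀ Y₀ : Scheme.{u}} {g : X ⟶ Y} {i : Y₀ ⟶ Y} {i' : X₀ ⟶ X} {g₀ : X₀ ⟶ Y₀}

/-- flat base change of regular immersions of any of the four kinds -/
theorem isRegularImmersion_of_isPullback (sq : IsPullback i' g₀ g i) [Flat g] (k : RegImm.Kind)
    (hi : RegImm.IsRegularImmersion k i) : RegImm.IsRegularImmersion k i' := by
  obtain ⟨himm, hat⟩ := hi
  haveI := himm
  refine ⟨MorphismProperty.of_isPullback sq.flip himm, fun z' => ?_⟩
  obtain ⟨U, hzU, hcl, rs, hseq, hker⟩ := hat (g₀ z')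
  haveI := hcl
  have hx' : i' z' ∈ g ⁻¹ᵁ U.1 := by
    show g (i' z') ∈ U.1
    have h := congrArg (fun φ : X₀ ⟶ Y => φ z') sq.w
    have h' : g (i' z') = i (g₀ z') := h
    rw [h']
    exact hzU
  obtain ⟨V, hV, hxV, hle⟩ := TopologicalSpace.Opens.isBasis_iff_nbhd.mp X.isBasis_affineOpens hx'
  haveI hcl' : IsClosedImmersion (i' ∣_ V) :=
    isClosedImmersion_morphismRestrict_of_isPullback sq U.1 V hle
  have hk : RingHom.ker (i'.app V).hom = Ideal.ofList (rs.map (g.appLE U.1 V hle).hom) := by
    rw [ker_app_eq sq U.2 hV hle, hker, Ideal.map_ofList]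
  refine ⟨⟨V, hV⟩, hxV, hcl', rs.map (g.appLE U.1 V hle).hom, ?_, hk⟩
  refine seq_map_of_flat k _ (Flat.flat_appLE g U.2 hV hle) rs hseq ?_
  haveI : Nonempty ↥(i' ⁻¹ᵁ V) := ⟨⟨z', hxV⟩⟩
  rw [← hk]
  exact RingHom.ker_ne_top _

end Main

end Groth.Agent.Lib.T2H9.RegImmBC
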