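import Mathlib
import Groth.Prelude.Def_RegImm
import Groth.Agent.Lib.LeadLciJac
import Groth.Agent.Lib.LeadFittSing
import Groth.Agent.Lib.T2H9RegImmBC

/-!
# Smoothness of a local complete intersection morphism and the Jacobian locus (lead)

`main_S16256`: for `f` lci of virtual dimension `m` near `y` (factorisation through a Koszul-regular
immersion of codimension `c` into a smooth scheme of relative dimension `m + c`), `f` is smooth near
`y` iff `y` is not in the support of `Fit_m Ω_f`.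
-/

set_option autoImplicit false
set_option maxHeartbeats 1000000
set_option linter.style.haveILetI false
set_option linter.unusedSectionVars false
set_option linter.unusedVariables false

universe u

namespace Groth.Agent.Lib.LeadLciFitt

open CategoryTheory CategoryTheory.Limits AlgebraicGeometry TopologicalSpace Opposite TensorProduct
  KaehlerDifferential
open Groth.Agent.Lib.LeadFittSing Groth.Agent.Lib.T2H9.RegImmBC

variable {Y X : Scheme.{u}} (f : Y ⟶ X)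

theorem chart_S16256 [LocallyOfFinitePresentation f] [QuasiSeparated f] (m c : ℕ) (y : Y)
    (U : Y.Opens) (P : Scheme.{u}) (i : (U : Scheme.{u}) ⟶ P) (π : P ⟶ X) (hyU : y ∈ U)
    (hreg : RegImm.IsRegularImmersionOfCodim RegImm.Kind.koszul c i)
    (hπ : SmoothOfRelativeDimension (m + c) π) (hcomm : i ≫ π = U.ι ≫ f) :
    y ∈ f.smoothLocus ↔ y ∉ (Fitt.sheafIdeal (Omega.sheaf f) m).support := by
  obtain ⟨⟨U', hU'⟩, hzU', hci, rs, hlen, hkos, hker⟩ := hreg.2 ⟨y, hyU⟩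
  subst hlen
  have hkos' : LCI.IsKoszulRegularSeq Γ(P, U') rs := hkos
  obtain ⟨V, hV, W₁, hW₁, hzW₁, e₁, hstd⟩ :=
    hπ.exists_isStandardSmoothOfRelativeDimension (i ⟨y, hyU⟩)
  obtain ⟨h, hle, hzh⟩ := hW₁.exists_basicOpen_le ⟨i ⟨y, hyU⟩, hzU'⟩ hzW₁
  have hWP : IsAffineOpen (P.basicOpen h) := hW₁.basicOpen h
  have hWPW₁ : P.basicOpen h ≤ W₁ := P.basicOpen_le h
  have hWPV : P.basicOpen h ≤ π ⁻¹ᵁ V := hWPW₁.trans e₁
  -- the closed immersion over the smaller chart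
  have sq : IsPullback i (𝟙 _) (𝟙 P) i := IsPullback.id_vert i
  haveI := hci
  have hle' : P.basicOpen h ≤ (𝟙 P) ⁻¹ᵁ U' := hle
  haveI hci' : IsClosedImmersion (i ∣_ P.basicOpen h) :=
    isClosedImmersion_morphismRestrict_of_isPullback sq U' (P.basicOpen h) hle'
  have hkerW := ker_app_eq sq hU' hWP hle'
  have hT : IsAffineOpen (i ⁻¹ᵁ P.basicOpen h) := isAffineOpen_preimage_of_restrict i hWP
  have hsurj : Function.Surjective (i.app (P.basicOpen h)).hom :=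
    app_surjective_of_restrict i hWP
  -- the chart of `Y`
  have hTX : IsAffineOpen (U.ι ''ᵁ (i ⁻¹ᵁ P.basicOpen h)) := hT.image_of_isOpenImmersion U.ι
  have hyW : y ∈ U.ι ''ᵁ (i ⁻¹ᵁ P.basicOpen h) := ⟨⟨y, hyU⟩, hzh, rfl⟩
  have hTV : i ⁻¹ᵁ P.basicOpen h ≤ (U.ι ≫ f) ⁻¹ᵁ V := by
    rw [← hcomm]
    intro t ht
    exact hWPV ht
  have hWV : U.ι ''ᵁ (i ⁻¹ᵁ P.basicOpen h) ≤ f ⁻¹ᵁ V := by
    rintro _ ⟨t, ht, rfl⟩
    exact hTV ht
  letI algRP : Algebra Γ(X, V) Γ(P, P.basicOpen h) :=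
    (π.appLE V (P.basicOpen h) hWPV).hom.toAlgebra
  letI algRS : Algebra Γ(X, V) Γ(Y, U.ι ''ᵁ (i ⁻¹ᵁ P.basicOpen h)) :=
    (f.appLE V _ hWV).hom.toAlgebra
  have hbij : Function.Bijective (U.ι.appIso (i ⁻¹ᵁ P.basicOpen h)).inv.hom :=
    ConcreteCategory.bijective_of_isIso (U.ι.appIso (i ⁻¹ᵁ P.basicOpen h)).inv
  have hcompat : π.appLE V (P.basicOpen h) hWPV ≫ i.app (P.basicOpen h) ≫
      (U.ι.appIso (i ⁻¹ᵁ P.basicOpen h)).inv =
      f.appLE V (U.ι ''ᵁ (i ⁻¹ᵁ P.basicOpen h)) hWV := by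
    rw [← Category.assoc, Iso.comp_inv_eq]
    have h1 : π.appLE V (P.basicOpen h) hWPV ≫ i.app (P.basicOpen h) =
        (i ≫ π).appLE V (i ⁻¹ᵁ P.basicOpen h) (by rw [hcomm]; exact hTV) := by
      rw [← Scheme.Hom.appLE_eq_app, Scheme.Hom.appLE_comp_appLE]
    have key : ∀ (φ ψ : (U : Scheme.{u}) ⟶ X) (_ : φ = ψ)
        (h1 : i ⁻¹ᵁ P.basicOpen h ≤ φ ⁻¹ᵁ V) (h2 : i ⁻¹ᵁ P.basicOpen h ≤ ψ ⁻¹ᵁ V),
        φ.appLE V (i ⁻¹ᵁ P.basicOpen h) h1 = ψ.appLE V (i ⁻¹ᵁ P.basicOpen h) h2 := by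
      rintro φ _ rfl _ _
      rfl
    rw [h1, Scheme.Hom.appIso_hom', Scheme.Hom.appLE_comp_appLE]
    exact key _ _ hcomm _ _
  letI algPS : Algebra Γ(P, P.basicOpen h) Γ(Y, U.ι ''ᵁ (i ⁻¹ᵁ P.basicOpen h)) :=
    (((U.ι.appIso (i ⁻¹ᵁ P.basicOpen h)).inv.hom).comp (i.app (P.basicOpen h)).hom).toAlgebra
  haveI : IsScalarTower Γ(X, V) Γ(P, P.basicOpen h) Γ(Y, U.ι ''ᵁ (i ⁻¹ᵁ P.basicOpen h)) :=
    IsScalarTower.of_algebraMap_eq (fun a => (congrArg (fun φ => φ.hom a) hcompat).symm)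
  have hsurjPS : Function.Surjective
      (algebraMap Γ(P, P.basicOpen h) Γ(Y, U.ι ''ᵁ (i ⁻¹ᵁ P.basicOpen h))) :=
    hbij.surjective.comp hsurj
  -- formal smoothness of the ambient chart
  haveI : Smooth π := SmoothOfRelativeDimension.smooth (m + rs.length) π
  haveI hsmP : Algebra.Smooth Γ(X, V) Γ(P, P.basicOpen h) := π.smooth_appLE hV hWP hWPV
  haveI : Algebra.FormallySmooth Γ(X, V) Γ(P, P.basicOpen h) := inferInstance
  -- the basis of differentials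
  letI algRW : Algebra Γ(X, V) Γ(P, W₁) := (π.appLE V W₁ e₁).hom.toAlgebra
  haveI hstd' : Algebra.IsStandardSmoothOfRelativeDimension (m + rs.length) Γ(X, V) Γ(P, W₁) :=
    hstd
  haveI : Algebra.IsStandardSmooth Γ(X, V) Γ(P, W₁) := hstd'.isStandardSmooth
  haveI : Nonempty W₁ := ⟨⟨_, hzW₁⟩⟩
  haveI : Nontrivial Γ(P, W₁) := inferInstance
  have hrank : Module.finrank Γ(P, W₁) Ω[Γ(P, W₁)⁄Γ(X, V)] = m + rs.length :=
    Module.finrank_eq_of_rank_eq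
      (Algebra.IsStandardSmoothOfRelativeDimension.rank_kaehlerDifferential _)
  let b₁ : Module.Basis (Fin (m + rs.length)) Γ(P, W₁) Ω[Γ(P, W₁)⁄Γ(X, V)] :=
    Module.finBasisOfFinrankEq _ _ hrank
  haveI : IsLocalization.Away h Γ(P, P.basicOpen h) := hW₁.isLocalization_basicOpen h
  haveI : IsScalarTower Γ(X, V) Γ(P, W₁) Γ(P, P.basicOpen h) := by
    refine IsScalarTower.of_algebraMap_eq (fun a => ?_)
    have h4 := π.appLE_map e₁ (homOfLE (P.basicOpen_le h)).op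
    exact (congrArg (fun φ => φ.hom a) h4).symm
  haveI : Algebra.FormallyEtale Γ(P, W₁) Γ(P, P.basicOpen h) :=
    Algebra.FormallyEtale.of_isLocalization (Submonoid.powers h)
  let b : Module.Basis (Fin (m + rs.length)) Γ(P, P.basicOpen h)
      Ω[Γ(P, P.basicOpen h)⁄Γ(X, V)] :=
    (b₁.baseChange Γ(P, P.basicOpen h)).map
      (tensorKaehlerEquivOfFormallyEtale Γ(X, V) Γ(P, W₁) Γ(P, P.basicOpen h))
  -- the equations
  obtain ⟨res, hresdef⟩ : ∃ res : Γ(P, U') →+* Γ(P, P.basicOpen h),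
      res = (Scheme.Hom.appLE (𝟙 P) U' (P.basicOpen h) hle').hom := ⟨_, rfl⟩
  obtain ⟨F, hF⟩ : ∃ F : Fin rs.length → Γ(P, P.basicOpen h), F = fun j => res (rs.get j) :=
    ⟨_, rfl⟩
  have hf : Ideal.span (Set.range F) =
      RingHom.ker (algebraMap Γ(P, P.basicOpen h) Γ(Y, U.ι ''ᵁ (i ⁻¹ᵁ P.basicOpen h))) := by
    have hk1 : RingHom.ker (algebraMap Γ(P, P.basicOpen h)
        Γ(Y, U.ι ''ᵁ (i ⁻¹ᵁ P.basicOpen h))) = RingHom.ker (i.app (P.basicOpen h)).hom := by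
      ext a
      rw [RingHom.mem_ker, RingHom.mem_ker]
      show (U.ι.appIso (i ⁻¹ᵁ P.basicOpen h)).inv.hom ((i.app (P.basicOpen h)).hom a) = 0 ↔ _
      rw [map_eq_zero_iff _ hbij.1]
    rw [hk1, hkerW, hker, ← hresdef, Ideal.map_span, hF]
    congr 1
    ext t
    constructor
    · rintro ⟨j, rfl⟩
      exact ⟨rs.get j, List.get_mem rs j, rfl⟩
    · rintro ⟨a, ha, rfl⟩
      obtain ⟨j, rfl⟩ := List.mem_iff_get.mp ha
      exact ⟨j, rfl⟩
  -- Koszul regularity in the local ring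
  have hflat_res : res.Flat := by
    rw [hresdef]
    exact Scheme.Hom.flat_appLE (𝟙 P) hU' hWP hle'
  obtain ⟨q, hq⟩ : ∃ q : Ideal Γ(Y, U.ι ''ᵁ (i ⁻¹ᵁ P.basicOpen h)),
      q = (hTX.primeIdealOf ⟨y, hyW⟩).asIdeal := ⟨_, rfl⟩
  haveI hqp : q.IsPrime := hq ▸ (hTX.primeIdealOf ⟨y, hyW⟩).isPrime
  have hψ : ((algebraMap Γ(P, P.basicOpen h) (Localization.AtPrime (q.comap
      (algebraMap Γ(P, P.basicOpen h) Γ(Y, U.ι ''ᵁ (i ⁻¹ᵁ P.basicOpen h)))))).comp res).Flat :=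
    RingHom.Flat.comp hflat_res (RingHom.flat_algebraMap_iff.mpr
      (IsLocalization.flat _ (q.comap
        (algebraMap Γ(P, P.basicOpen h) Γ(Y, U.ι ''ᵁ (i ⁻¹ᵁ P.basicOpen h)))).primeCompl))
  have hreg' := isKoszulRegularSeq_map_of_flat _ hψ rs hkos'
  have hlist : List.ofFn (fun j => algebraMap Γ(P, P.basicOpen h) (Localization.AtPrime (q.comap
      (algebraMap Γ(P, P.basicOpen h) Γ(Y, U.ι ''ᵁ (i ⁻¹ᵁ P.basicOpen h))))) (F j)) =
      rs.map ((algebraMap Γ(P, P.basicOpen h) (Localization.AtPrime (q.comap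
      (algebraMap Γ(P, P.basicOpen h) Γ(Y, U.ι ''ᵁ (i ⁻¹ᵁ P.basicOpen h)))))).comp res) := by
    rw [hF]
    have h5 : ∀ (g : Γ(P, U') → Localization.AtPrime (q.comap
        (algebraMap Γ(P, P.basicOpen h) Γ(Y, U.ι ''ᵁ (i ⁻¹ᵁ P.basicOpen h))))),
        List.ofFn (fun j : Fin rs.length => g (rs.get j)) = rs.map g := by
      intro g
      have h6 : rs.map g = List.ofFn (g ∘ rs.get) := by
        rw [← List.map_ofFn, List.ofFn_get]
      rw [h6]
      rfl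
    exact h5 ⇑((algebraMap Γ(P, P.basicOpen h) (Localization.AtPrime (q.comap
      (algebraMap Γ(P, P.basicOpen h) Γ(Y, U.ι ''ᵁ (i ⁻¹ᵁ P.basicOpen h)))))).comp res)
  have hiff := Groth.Agent.Lib.LeadLciJac.isSmoothAt_iff_finrank_le b F hsurjPS hf q m rfl
    (hlist ▸ hreg')
  rw [Scheme.Hom.mem_smoothLocus, formallySmooth_stalkMap_iff V hV _ hTX hWV hyW,
    notMem_support_iff_finrank f m y hV hTX hyW hWV]
  subst hq
  exact hiff

theorem main_S16256 [LocallyOfFinitePresentation f] [QuasiSeparated f] (m : ℕ) (y : Y)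
    (hlci : ∃ (U : Y.Opens) (P : Scheme.{u}) (i : (U : Scheme.{u}) ⟶ P) (π : P ⟶ X) (c : ℕ),
      y ∈ U ∧ RegImm.IsRegularImmersionOfCodim RegImm.Kind.koszul c i ∧
        SmoothOfRelativeDimension (m + c) π ∧ i ≫ π = U.ι ≫ f) :
    (∃ V : Y.Opens, y ∈ V ∧ Smooth (V.ι ≫ f)) ↔
      y ∉ (Fitt.sheafIdeal (Omega.sheaf f) m).support := by
  obtain ⟨U, P, i, π, c, hyU, hreg, hπ, hcomm⟩ := hlci
  rw [← chart_S16256 f m c y U P i π hyU hreg hπ hcomm]
  constructor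
  · rintro ⟨V, hyV, hV⟩
    exact (smooth_iff_le_smoothLocus f V).mp hV hyV
  · intro h
    exact ⟨f.smoothLocus, h, (smooth_iff_le_smoothLocus f _).mpr le_rfl⟩

end Groth.Agent.Lib.LeadLciFitt
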