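import Mathlib
import Groth.Agent.Lib.Helper26ModRank
import Groth.Agent.Lib.Helper23FinTypeLocal

/-! Rank of a finite locally free submodule of a finite locally free module on an integral scheme. -/

set_option maxHeartbeats 400000
set_option autoImplicit false
universe u

open CategoryTheory AlgebraicGeometry Limits TopologicalSpace
open Groth.Agent.Lib.Helper20.Thickening Groth.Agent.Lib.Helper23.FinType
  Groth.Agent.Lib.Helper20.LocFree Groth.Agent.Lib.Helper26.ModRank

namespace Groth.Agent.Lib.Lead.LffRank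

variable {X : Scheme.{u}}

theorem isQuasicoherent_of_isFinLocFreeOfRank (M : X.Modules) (n : ℕ)
    (h : FlatMod.IsFinLocFreeOfRank n M) : M.IsQuasicoherent := by
  choose U hxU hU using h
  refine isQuasicoherent_of_open_cover M U ?_ (fun x => ?_)
  · rw [IsOpenCover, eq_top_iff]
    intro x _
    exact Opens.mem_iSup.2 ⟨x, hxU x⟩
  · obtain ⟨e⟩ := hU x
    exact (SheafOfModules.isQuasicoherent ((U x : X.Opens) : Scheme.{u}).ringCatSheaf).prop_of_iso
      e.symm inferInstance

theorem rank_le_of_mono [IsIntegral X] {F E : X.Modules} (i : F ⟶ E) [Mono i] (r n : ℕ)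
    (hF : FlatMod.IsFinLocFreeOfRank r F) (hE : FlatMod.IsFinLocFreeOfRank n E) : r ≤ n := by
  have := isQuasicoherent_of_isFinLocFreeOfRank F r hF
  have := isQuasicoherent_of_isFinLocFreeOfRank E n hE
  obtain ⟨x⟩ : Nonempty X := inferInstance
  obtain ⟨U₁, hx₁, ⟨e₁⟩⟩ := hF x
  obtain ⟨U₂, hx₂, ⟨e₂⟩⟩ := hE x
  obtain ⟨W, hW, hxW, hWU⟩ := (Opens.isBasis_iff_nbhd.1 X.isBasis_affineOpens)
    (show x ∈ U₁ ⊓ U₂ from ⟨hx₁, hx₂⟩)
  have hW' : IsAffineOpen W := hW
  obtain ⟨bF⟩ := nonempty_basis_of_restrict_iso F e₁ hW' (hWU.trans inf_le_left)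
  obtain ⟨bE⟩ := nonempty_basis_of_restrict_iso E e₂ hW' (hWU.trans inf_le_right)
  have hinj : Function.Injective ((ΓUF hW').map i).hom := injective_ΓU_map i hW'
  have : Nonempty W := ⟨⟨x, hxW⟩⟩
  have : Module.Finite Γ(X, W) ((ΓUF hW').obj E) := Module.Finite.of_basis bE
  have h := LinearMap.finrank_le_finrank_of_injective (f := ((ΓUF hW').map i).hom) hinj
  rw [Module.finrank_eq_card_basis bF, Module.finrank_eq_card_basis bE] at h
  simpa using h

end Groth.Agent.Lib.Lead.LffRank
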