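import Mathlib
import Groth.Agent.Lib.Helper29Gorenstein
import Groth.Agent.Lib.Helper28DepthLoc

/-!
# Linkage, part A (lead): maximal Cohen–Macaulay modules over a Gorenstein local ring

* `ext_subsingleton_of_le_depth`: `Ext^i(M, B) = 0` for `i > dim B - depth M` (Ischebeck).
-/

set_option autoImplicit false
set_option maxHeartbeats 400000
set_option linter.style.haveILetI false
set_option linter.unusedSectionVars false
set_option linter.unusedVariables false

universe u

namespace Groth.Agent.Lib.LeadLk

open CategoryTheory CategoryTheory.Abelian IsLocalRing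
open scoped Pointwise

section general

variable {B : Type u} [CommRing B]

/-- `Ext` out of a zero module vanishes. -/
theorem ext_subsingleton_of_subsingleton (M : Type u) [AddCommGroup M] [Module B M]
    [Subsingleton M] (Y : ModuleCat.{u} B) (i : ℕ) :
    Subsingleton (Ext.{u} (ModuleCat.of B M) Y i) := by
  have h0 : (𝟙 (ModuleCat.of B M)) = 0 := by
    ext x
    exact Subsingleton.elim _ _
  have key : ∀ z : Ext.{u} (ModuleCat.of B M) Y i, z = 0 := fun z => by
    rw [← Ext.mk₀_id_comp z, h0, Ext.mk₀_zero, Ext.zero_comp]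
  exact ⟨fun a b => by rw [key a, key b]⟩

variable [IsLocalRing B] [IsNoetherianRing B]

/-- Nakayama step: if `x ∈ m` is `M`-regular and `Ext^{i+1}(M/xM, Y) = 0` then `Ext^i(M, Y) = 0`. -/
theorem ext_subsingleton_of_quotSMulTop (M : Type u) [AddCommGroup M] [Module B M]
    [Module.Finite B M] (Y : ModuleCat.{u} B) [Module.Finite B Y] (x : B)
    (hx : x ∈ maximalIdeal B) (hreg : IsSMulRegular M x) (i : ℕ)
    (h : Subsingleton (Ext.{u} (ModuleCat.of B (QuotSMulTop x M)) Y (i + 1))) :
    Subsingleton (Ext.{u} (ModuleCat.of B M) Y i) := by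
  have hS := hreg.smulShortComplex_shortExact (M := ModuleCat.of B M)
  have hfin : Module.Finite B (Ext.{u} (ModuleCat.of B M) Y i) :=
    ModuleCat.finite_ext B (ModuleCat.of B M) Y i
  have htop : (⊤ : Submodule B (Ext.{u} (ModuleCat.of B M) Y i)) ≤
      maximalIdeal B • (⊤ : Submodule B (Ext.{u} (ModuleCat.of B M) Y i)) := by
    intro z _
    obtain ⟨z', hz'⟩ := Ext.contravariant_sequence_exact₁ hS Y z (add_comm 1 i)
      (Subsingleton.elim (α := Ext.{u} (ModuleCat.of B (QuotSMulTop x M)) Y (i + 1)) _ _)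
    have key : ∀ z'' : Ext.{u} (ModuleCat.of B M) Y i,
        (Ext.mk₀ (x • 𝟙 (ModuleCat.of B M))).comp z'' (zero_add i) = x • z'' := fun z'' => by
      rw [Ext.mk₀_smul, Ext.smul_comp, Ext.mk₀_id_comp]
    have h1 : z = x • (z' : Ext.{u} (ModuleCat.of B M) Y i) := hz'.symm.trans (key z')
    rw [h1]
    exact Submodule.smul_mem_smul hx Submodule.mem_top
  have hbot := Submodule.eq_bot_of_le_smul_of_le_jacobson_bot (maximalIdeal B) ⊤
    hfin.fg_top htop (IsLocalRing.maximalIdeal_le_jacobson _)
  refine ⟨fun a b => ?_⟩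
  have ha : a ∈ (⊤ : Submodule B (Ext.{u} (ModuleCat.of B M) Y i)) := Submodule.mem_top
  have hb : b ∈ (⊤ : Submodule B (Ext.{u} (ModuleCat.of B M) Y i)) := Submodule.mem_top
  rw [hbot, Submodule.mem_bot] at ha hb
  rw [ha, hb]

end general

section gorenstein

variable (B : Type u) [CommRing B] [hB : LocCoh.IsGorensteinLocalRing B]

/-- **Ischebeck** for the Gorenstein ring itself: `Ext^i(M, B) = 0` for `i > dim B - depth M`. -/
theorem ext_subsingleton_of_le_depth (d : ℕ) (hd : ringKrullDim B = d) (t : ℕ) :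
    ∀ (M : Type u) [AddCommGroup M] [Module B M] [Module.Finite B M],
      (t : ℕ∞) ≤ LocCoh.depth B M → ∀ i, d - t < i →
        Subsingleton (Ext.{u} (ModuleCat.of B M) (ModuleCat.of B B) i) := by
  have hinj := (Groth.Agent.Lib.Helper29Gorenstein.depth_eq_and_hasInjectiveDimensionLT B d hd).2
  induction t with
  | zero =>
    intro M _ _ _ _ i hi
    exact HasInjectiveDimensionLT.subsingleton (ModuleCat.of B B) (d + 1) i (by omega) _
  | succ t ih =>
    intro M _ _ _ hM i hi
    rcases subsingleton_or_nontrivial M with hsub | hnt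
    · exact ext_subsingleton_of_subsingleton M _ i
    · have hIM : maximalIdeal B • (⊤ : Submodule B M) ≠ ⊤ :=
        Groth.Agent.Lib.Helper28.maximalIdeal_smul_top_ne_top
      have h1 : (1 : ℕ∞) ≤ LocCoh.idealDepth (maximalIdeal B) M := by
        refine le_trans ?_ hM
        exact_mod_cast Nat.succ_le_succ (Nat.zero_le t)
      obtain ⟨x, hx, hreg⟩ := (Groth.Agent.Lib.Helper28.one_le_idealDepth_iff hIM).mp h1
      have hq := Groth.Agent.Lib.Helper28.idealDepth_quotSMulTop_add_one (maximalIdeal B) M hIM x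
        hx hreg
      have ht : (t : ℕ∞) ≤ LocCoh.depth B (QuotSMulTop x M) := by
        have h2 : ((t : ℕ∞) + 1) ≤ LocCoh.idealDepth (maximalIdeal B) (QuotSMulTop x M) + 1 := by
          rw [hq]
          exact_mod_cast hM
        exact (ENat.add_le_add_iff_right ENat.one_ne_top).mp h2
      have h3 := ih (QuotSMulTop x M) ht (i + 1) (by omega)
      exact ext_subsingleton_of_quotSMulTop M (ModuleCat.of B B) x hx hreg i h3

end gorenstein

end Groth.Agent.Lib.LeadLk
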