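import Mathlib
import Groth.Agent.Lib.LeadLka
import Groth.Agent.Lib.Helper29ExtSes

/-!
# Linkage, part B (lead): the dual of a maximal Cohen–Macaulay module and the local linkage lemma
-/

set_option autoImplicit false
set_option maxHeartbeats 400000
set_option linter.style.haveILetI false
set_option linter.unusedSectionVars false
set_option linter.unusedVariables false

universe u

namespace Groth.Agent.Lib.LeadLk

open CategoryTheory CategoryTheory.Abelian IsLocalRing
open Groth.Agent.Lib.Helper29ExtSes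
open scoped Pointwise

section ext

variable {A : Type u} [CommRing A]
variable {K M Q Y : Type u} [AddCommGroup K] [Module A K] [AddCommGroup M] [Module A M]
  [AddCommGroup Q] [Module A Q] [AddCommGroup Y] [Module A Y]
variable (f : K →ₗ[A] M) (g : M →ₗ[A] Q)
  (hf : Function.Injective f) (hg : Function.Surjective g) (hex : Function.Exact f g)

include hf hg hex in
/-- If `Ext^1(Q, Y) = 0`, maps `K → Y` extend to `M`. -/
theorem exists_extension_of_ext_one
    (h : Subsingleton (Ext.{u} (ModuleCat.of A Q) (ModuleCat.of A Y) 1)) (φ : K →ₗ[A] Y) :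
    ∃ ψ : M →ₗ[A] Y, ψ ∘ₗ f = φ := by
  have hS := ses_shortExact f g hf hg hex
  obtain ⟨x₂, hx₂⟩ := Ext.contravariant_sequence_exact₁ hS (ModuleCat.of A Y)
    (Ext.mk₀ (ModuleCat.ofHom φ)) (n₁ := 1) rfl
    (Subsingleton.elim (α := Ext.{u} (ModuleCat.of A Q) (ModuleCat.of A Y) 1) _ _)
  obtain ⟨ψ, rfl⟩ := (Ext.mk₀_bijective _ _).2 x₂
  rw [Ext.mk₀_comp_mk₀] at hx₂
  have h1 := (Ext.mk₀_bijective _ _).1 hx₂
  refine ⟨ψ.hom, ?_⟩
  have h2 := congrArg ModuleCat.Hom.hom h1
  exact h2

include hf hg hex in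
/-- dimension shifting to the kernel -/
theorem ext_ker_subsingleton [Module.Projective A M] (i : ℕ) (hi : 1 ≤ i)
    (h : Subsingleton (Ext.{u} (ModuleCat.of A Q) (ModuleCat.of A Y) (i + 1))) :
    Subsingleton (Ext.{u} (ModuleCat.of A K) (ModuleCat.of A Y) i) := by
  have hS := ses_shortExact f g hf hg hex
  have : Projective (ModuleCat.of A M) := (IsProjective.iff_projective.{u, u} M).mp inferInstance
  obtain ⟨j, rfl⟩ : ∃ j, i = j + 1 := ⟨i - 1, by omega⟩
  have h2 : Subsingleton (Ext.{u} (ModuleCat.of A M) (ModuleCat.of A Y) (j + 1)) :=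
    ⟨fun a b => by rw [Ext.eq_zero_of_projective a, Ext.eq_zero_of_projective b]⟩
  exact Groth.Agent.Lib.Helper29Gorenstein.ext_X₁_subsingleton (ModuleCat.of A Y) hS (j + 1) h2 h

end ext

section dual

variable {B : Type u} [CommRing B] [IsNoetherianRing B]

/-- left exactness of the dual, with right exactness from `Ext^1 = 0` -/
theorem dual_ses {M : Type u} [AddCommGroup M] [Module B M] {n : ℕ}
    (g : (Fin n → B) →ₗ[B] M) (hg : Function.Surjective g)
    (h : Subsingleton (Ext.{u} (ModuleCat.of B M) (ModuleCat.of B B) 1)) :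
    Function.Injective (LinearMap.lcomp B B g) ∧
    Function.Surjective (LinearMap.lcomp B B (LinearMap.ker g).subtype) ∧
    Function.Exact (LinearMap.lcomp B B g) (LinearMap.lcomp B B (LinearMap.ker g).subtype) := by
  refine ⟨?_, ?_, ?_⟩
  · intro φ ψ hφψ
    ext m
    obtain ⟨v, rfl⟩ := hg m
    exact LinearMap.congr_fun hφψ v
  · intro φ
    obtain ⟨ψ, hψ⟩ := exists_extension_of_ext_one (LinearMap.ker g).subtype g
      (Submodule.injective_subtype _) hg (LinearMap.exact_subtype_ker_map g) h φ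
    exact ⟨ψ, hψ⟩
  · intro ψ
    constructor
    · intro hψ
      have hle : LinearMap.ker g ≤ LinearMap.ker ψ := by
        intro y hy
        exact LinearMap.congr_fun hψ ⟨y, hy⟩
      refine ⟨((LinearMap.ker g).liftQ ψ hle) ∘ₗ
        (g.quotKerEquivOfSurjective hg).symm.toLinearMap, ?_⟩
      refine LinearMap.ext fun w => ?_
      simp only [LinearMap.lcomp_apply, LinearMap.comp_apply, LinearEquiv.coe_coe]
      have : (g.quotKerEquivOfSurjective hg).symm (g w) = Submodule.Quotient.mk w := by
        rw [LinearEquiv.symm_apply_eq]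
        rfl
      rw [this, Submodule.liftQ_apply]
    · rintro ⟨φ, rfl⟩
      ext y
      change φ (g (y : Fin n → B)) = 0
      rw [LinearMap.mem_ker.mp y.2, map_zero]

end dual

section mcm

variable (B : Type u) [CommRing B] [hB : LocCoh.IsGorensteinLocalRing B]

/-- the dual of a module with vanishing higher `Ext(-, B)` has maximal depth -/
theorem le_depth_dual (d : ℕ) (hd : ringKrullDim B = d) (j : ℕ) :
    ∀ (M : Type u) [AddCommGroup M] [Module B M] [Module.Finite B M],
      (∀ i, 1 ≤ i → Subsingleton (Ext.{u} (ModuleCat.of B M) (ModuleCat.of B B) i)) →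
      (min d j : ℕ∞) ≤ LocCoh.depth B (M →ₗ[B] B) := by
  have hdepth := (Groth.Agent.Lib.Helper29Gorenstein.depth_eq_and_hasInjectiveDimensionLT B d hd).1
  induction j with
  | zero =>
    intro M _ _ _ _
    simp
  | succ j ih =>
    intro M _ _ _ hM
    obtain ⟨n, g, hg⟩ := Module.Finite.exists_fin' B M
    obtain ⟨h1, h2, h3⟩ := dual_ses g hg (hM 1 le_rfl)
    have hK : ∀ i, 1 ≤ i →
        Subsingleton (Ext.{u} (ModuleCat.of B (LinearMap.ker g)) (ModuleCat.of B B) i) :=
      fun i hi => ext_ker_subsingleton (LinearMap.ker g).subtype g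
        (Submodule.injective_subtype _) hg (LinearMap.exact_subtype_ker_map g) i hi
        (hM (i + 1) (by omega))
    have hKd := ih (LinearMap.ker g) hK
    have hlem := Groth.Agent.Lib.Helper28.min_idealDepth_le_left (maximalIdeal B)
      (LinearMap.lcomp B B g) (LinearMap.lcomp B B (LinearMap.ker g).subtype) h1 h2 h3
    refine le_trans (le_min ?_ ?_) hlem
    · rw [Groth.Agent.Lib.Helper28.idealDepth_dual_pi_fin]
      refine le_trans ?_ (Groth.Agent.Lib.Helper28.idealDepth_le_idealDepth_pi_fin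
        (maximalIdeal B) B n)
      have : LocCoh.idealDepth (maximalIdeal B) B = d := hdepth
      rw [this]
      exact min_le_left _ _
    · refine le_trans ?_ (add_le_add_left hKd 1)
      rcases le_total d j with hdj | hdj
      · have h4 : (d : ℕ∞) ≤ (j : ℕ∞) := by exact_mod_cast hdj
        have h5 : (d : ℕ∞) ≤ ((j + 1 : ℕ) : ℕ∞) := by exact_mod_cast hdj.trans (Nat.le_succ j)
        rw [min_eq_left h4, min_eq_left h5]
        exact le_self_add
      · have h4 : (j : ℕ∞) ≤ (d : ℕ∞) := by exact_mod_cast hdj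
        rw [min_eq_right h4]
        refine (min_le_right _ _).trans ?_
        push_cast
        exact le_rfl

end mcm

section link

variable (B : Type u) [CommRing B] [hB : LocCoh.IsGorensteinLocalRing B]

/-- `Hom(a, B) ≅ B / ann a` when `Ext^1(B/a, B) = 0` -/
theorem nonempty_quotient_annihilator_equiv_dual (a b : Ideal B)
    (hb : ∀ r, r ∈ b ↔ ∀ x ∈ a, r * x = 0)
    (h : Subsingleton (Ext.{u} (ModuleCat.of B (B ⧸ a)) (ModuleCat.of B B) 1)) :
    Nonempty ((B ⧸ b) ≃ₗ[B] (a →ₗ[B] B)) := by
  let ρ : B →ₗ[B] (a →ₗ[B] B) := LinearMap.toSpanSingleton B (a →ₗ[B] B) a.subtype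
  have hρ : ∀ (r : B) (x : a), ρ r x = r * (x : B) := fun r x => rfl
  have hsurj : Function.Surjective ρ := by
    intro φ
    obtain ⟨ψ, hψ⟩ := exists_extension_of_ext_one a.subtype a.mkQ
      (Submodule.injective_subtype _) (Submodule.mkQ_surjective _)
      (LinearMap.exact_subtype_mkQ a) h φ
    refine ⟨ψ 1, ?_⟩
    ext x
    rw [hρ, ← hψ, LinearMap.comp_apply, Submodule.subtype_apply]
    have : (x : B) = (x : B) • (1 : B) := by rw [smul_eq_mul, mul_one]
    conv_rhs => rw [this, map_smul, smul_eq_mul, mul_comm]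
  have hker : LinearMap.ker ρ = b := by
    ext r
    rw [LinearMap.mem_ker, hb]
    constructor
    · intro hr x hx
      have := LinearMap.congr_fun hr ⟨x, hx⟩
      rwa [hρ] at this
    · intro hr
      ext x
      rw [hρ]
      exact hr x x.2
  exact ⟨(Submodule.quotEquivOfEq _ _ hker.symm).trans (ρ.quotKerEquivOfSurjective hsurj)⟩

/-- **The local linkage lemma.** -/
theorem le_depth_quotient_annihilator (d : ℕ) (hd : ringKrullDim B = d) (a b : Ideal B)
    (hb : ∀ r, r ∈ b ↔ ∀ x ∈ a, r * x = 0)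
    (ha : (d : ℕ∞) ≤ LocCoh.depth B (B ⧸ a)) : (d : ℕ∞) ≤ LocCoh.depth B (B ⧸ b) := by
  have hExtQ : ∀ i, 1 ≤ i →
      Subsingleton (Ext.{u} (ModuleCat.of B (B ⧸ a)) (ModuleCat.of B B) i) :=
    fun i hi => ext_subsingleton_of_le_depth B d hd d (B ⧸ a) ha i (by omega)
  have hExta : ∀ i, 1 ≤ i →
      Subsingleton (Ext.{u} (ModuleCat.of B a) (ModuleCat.of B B) i) :=
    fun i hi => ext_ker_subsingleton a.subtype a.mkQ
      (Submodule.injective_subtype _) (Submodule.mkQ_surjective _)
      (LinearMap.exact_subtype_mkQ a) i hi (hExtQ (i + 1) (by omega))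
  have hdual := le_depth_dual B d hd d a hExta
  rw [min_self] at hdual
  obtain ⟨e⟩ := nonempty_quotient_annihilator_equiv_dual B a b hb (hExtQ 1 le_rfl)
  have he : LocCoh.depth B (B ⧸ b) = LocCoh.depth B (a →ₗ[B] B) :=
    Groth.Agent.Lib.Helper28.idealDepth_congr e _
  rw [he]
  exact hdual

end link

end Groth.Agent.Lib.LeadLk
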