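import Mathlib
import Groth.Agent.Lib.Helper28DepthMore
import Groth.Agent.Lib.Helper29AdjDepthSurj

/-!
# Linkage, part C (lead): localization transfers

* `mem_map_iff_forall_mul_eq_zero`: annihilators of ideals commute with localization at a prime.
* `depth_quotient_map_eq`: `depth_B (B / ΛB) = depth_B ((A/Λ)_P)` for `B = A_P`.
* `depth_quotient_eq_depth_localization_quotient`: comparison of `B / L B` with the local ring of
  `R / L` at the image of a maximal ideal, where `B = (R/c)_m`.
-/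

set_option autoImplicit false
set_option maxHeartbeats 400000
set_option linter.style.haveILetI false
set_option linter.unusedSectionVars false
set_option linter.unusedVariables false

universe u

namespace Groth.Agent.Lib.LeadLk

open IsLocalRing
open scoped Pointwise

section ann

variable {A : Type u} [CommRing A] [IsNoetherianRing A] (P : Ideal A) [P.IsPrime]

theorem exists_common_mul_eq_zero (y : A) (G : Finset A)
    (h : ∀ x ∈ G, ∃ t ∈ P.primeCompl, t * y * x = 0) :
    ∃ t ∈ P.primeCompl, ∀ x ∈ G, t * y * x = 0 := by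
  classical
  induction G using Finset.induction_on with
  | empty => exact ⟨1, P.primeCompl.one_mem, by simp⟩
  | insert a G ha ih =>
    obtain ⟨t1, ht1, h1⟩ := ih (fun x hx => h x (Finset.mem_insert_of_mem hx))
    obtain ⟨t2, ht2, h2⟩ := h a (Finset.mem_insert_self a G)
    refine ⟨t1 * t2, P.primeCompl.mul_mem ht1 ht2, ?_⟩
    intro x hx
    rcases Finset.mem_insert.mp hx with rfl | hx
    · have : t1 * t2 * y * x = t1 * (t2 * y * x) := by ring
      rw [this, h2, mul_zero]
    · have : t1 * t2 * y * x = t2 * (t1 * y * x) := by ring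
      rw [this, h1 x hx, mul_zero]

/-- annihilators of ideals commute with localization at a prime -/
theorem mem_map_iff_forall_mul_eq_zero (Λ Γ : Ideal A)
    (h : ∀ y, y ∈ Γ ↔ ∀ x ∈ Λ, y * x = 0) (r : Localization.AtPrime P) :
    r ∈ Γ.map (algebraMap A (Localization.AtPrime P)) ↔
      ∀ x ∈ Λ.map (algebraMap A (Localization.AtPrime P)), r * x = 0 := by
  obtain ⟨y, s, rfl⟩ := IsLocalization.exists_mk'_eq P.primeCompl r
  have hs : IsUnit (algebraMap A (Localization.AtPrime P) s) :=
    IsLocalization.map_units _ s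
  constructor
  · intro hr x hx
    obtain ⟨t, ht, hty⟩ := (IsLocalization.mk'_mem_map_algebraMap_iff P.primeCompl _ _ _ _).mp hr
    refine Submodule.span_induction ?_ ?_ ?_ ?_ hx
    · rintro _ ⟨x₀, hx₀, rfl⟩
      have ht' : IsUnit (algebraMap A (Localization.AtPrime P) t) :=
        IsLocalization.map_units _ ⟨t, ht⟩
      apply (hs.mul ht').mul_left_cancel
      rw [mul_zero]
      have h1 : algebraMap A (Localization.AtPrime P) s * algebraMap A (Localization.AtPrime P) t *
          (IsLocalization.mk' (Localization.AtPrime P) y s *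
            algebraMap A (Localization.AtPrime P) x₀) =
          algebraMap A (Localization.AtPrime P) (t * y * x₀) := by
        have h2 := IsLocalization.mk'_spec' (Localization.AtPrime P) y s
        rw [map_mul, map_mul, ← h2]
        ring
      rw [h1, (h (t * y)).mp hty x₀ hx₀, map_zero]
    · rw [mul_zero]
    · intro a b _ _ ha hb
      rw [mul_add, ha, hb, add_zero]
    · intro a b _ hb
      rw [smul_eq_mul, mul_left_comm, hb, mul_zero]
  · intro hr
    obtain ⟨G, hG⟩ := (isNoetherianRing_iff_ideal_fg A).mp inferInstance Λ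
    have hloc : ∀ x ∈ G, ∃ t ∈ P.primeCompl, t * y * x = 0 := by
      intro x hx
      have hxΛ : x ∈ Λ := hG ▸ Ideal.subset_span hx
      have h1 := hr _ (Ideal.mem_map_of_mem _ hxΛ)
      have h2 : algebraMap A (Localization.AtPrime P) (y * x) = 0 := by
        have h3 := IsLocalization.mk'_spec' (Localization.AtPrime P) y s
        rw [map_mul, ← h3, mul_assoc, h1, mul_zero]
      obtain ⟨t, ht⟩ := (IsLocalization.map_eq_zero_iff P.primeCompl _ _).mp h2
      exact ⟨t, t.2, by rw [mul_assoc]; exact ht⟩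
    obtain ⟨t, ht, htG⟩ := exists_common_mul_eq_zero P y G hloc
    rw [IsLocalization.mk'_mem_map_algebraMap_iff P.primeCompl]
    refine ⟨t, ht, (h (t * y)).mpr ?_⟩
    intro x hx
    rw [← hG] at hx
    refine Submodule.span_induction ?_ ?_ ?_ ?_ hx
    · intro x hx
      exact htG x hx
    · rw [mul_zero]
    · intro a b _ _ ha hb
      rw [mul_add, ha, hb, add_zero]
    · intro a b _ hb
      rw [smul_eq_mul, mul_left_comm, hb, mul_zero]

end ann

section quot

variable {A : Type u} [CommRing A] (P : Ideal A) [P.IsPrime] (Λ : Ideal A)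

/-- `B / ΛB` is the localization of `A / Λ`, for `B = A_P` -/
theorem depth_quotient_map_eq :
    LocCoh.depth (Localization.AtPrime P)
        (Localization.AtPrime P ⧸ Λ.map (algebraMap A (Localization.AtPrime P))) =
      LocCoh.depth (Localization.AtPrime P) (LocalizedModule P.primeCompl (A ⧸ Λ)) := by
  have hΛ : Submodule.localized' (Localization.AtPrime P) P.primeCompl
      (Algebra.linearMap A (Localization.AtPrime P)) Λ =
      Λ.map (algebraMap A (Localization.AtPrime P)) :=
    Ideal.localized'_eq_map (Localization.AtPrime P) P.primeCompl Λ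
  let e₀ := IsLocalizedModule.linearEquiv P.primeCompl
    (Submodule.toLocalizedQuotient' (Localization.AtPrime P) P.primeCompl
      (Algebra.linearMap A (Localization.AtPrime P)) Λ)
    (LocalizedModule.mkLinearMap P.primeCompl (A ⧸ Λ))
  let e₁ := e₀.extendScalarsOfIsLocalization P.primeCompl (Localization.AtPrime P)
  exact Groth.Agent.Lib.Helper28.idealDepth_congr
    ((Submodule.quotEquivOfEq _ _ hΛ.symm).trans e₁) _

end quot

section transfer

variable {R : Type u} [CommRing R] [IsNoetherianRing R] (𝔪 : Ideal R) [h𝔪 : 𝔪.IsMaximal]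
  (𝔠 L : Ideal R) (h𝔠L : 𝔠 ≤ L) (hL𝔪 : L ≤ 𝔪)

include h𝔠L in
/-- `(R/𝔠)/(L/𝔠) ≅ R/L` as `R`-modules -/
theorem nonempty_doubleQuot_equiv :
    Nonempty (((R ⧸ 𝔠) ⧸ L.map (Ideal.Quotient.mk 𝔠)) ≃ₗ[R] (R ⧸ L)) := by
  let φ : R →ₗ[R] ((R ⧸ 𝔠) ⧸ L.map (Ideal.Quotient.mk 𝔠)) :=
    ((Ideal.Quotient.mkₐ R (L.map (Ideal.Quotient.mk 𝔠))).toLinearMap).comp
      (Ideal.Quotient.mkₐ R 𝔠).toLinearMap
  have hφ : ∀ x, φ x = Ideal.Quotient.mk (L.map (Ideal.Quotient.mk 𝔠)) (Ideal.Quotient.mk 𝔠 x) :=
    fun x => rfl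
  have hsurj : Function.Surjective φ := by
    intro y
    obtain ⟨y, rfl⟩ := Ideal.Quotient.mk_surjective y
    obtain ⟨y, rfl⟩ := Ideal.Quotient.mk_surjective y
    exact ⟨y, rfl⟩
  have hker : LinearMap.ker φ = L := by
    ext x
    rw [LinearMap.mem_ker, hφ, Ideal.Quotient.eq_zero_iff_mem, Ideal.mem_quotient_iff_mem h𝔠L]
  exact ⟨((Submodule.quotEquivOfEq _ _ hker.symm).trans
    (φ.quotKerEquivOfSurjective hsurj)).symm⟩

include h𝔠L hL𝔪 in
/-- comparison of `B / L B`, `B = (R/𝔠)_𝔪`, with the local ring of `R / L` at `𝔪` -/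
theorem depth_quotient_eq_depth_localization_quotient
    [hp : (𝔪.map (Ideal.Quotient.mk 𝔠)).IsPrime] [hq : (𝔪.map (Ideal.Quotient.mk L)).IsPrime] :
    LocCoh.depth (Localization.AtPrime (𝔪.map (Ideal.Quotient.mk 𝔠)))
      (Localization.AtPrime (𝔪.map (Ideal.Quotient.mk 𝔠)) ⧸
        (L.map (Ideal.Quotient.mk 𝔠)).map
          (algebraMap (R ⧸ 𝔠) (Localization.AtPrime (𝔪.map (Ideal.Quotient.mk 𝔠))))) =
    LocCoh.depth (Localization.AtPrime (𝔪.map (Ideal.Quotient.mk L)))
      (Localization.AtPrime (𝔪.map (Ideal.Quotient.mk L))) := by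
  rw [depth_quotient_map_eq]
  have hcomap : ∀ (N : Ideal R), N ≤ 𝔪 →
      𝔪 = (𝔪.map (Ideal.Quotient.mk N)).comap (algebraMap R (R ⧸ N)) := by
    intro N hN
    rw [Ideal.Quotient.algebraMap_eq, Ideal.comap_map_of_surjective _ Ideal.Quotient.mk_surjective,
      ← RingHom.ker_eq_comap_bot, Ideal.mk_ker]
    exact (sup_eq_left.mpr hN).symm
  have hπ : ∀ (N : Ideal R), Function.Surjective (algebraMap R (R ⧸ N)) :=
    fun N => Ideal.Quotient.mk_surjective
  have h2 := Groth.Agent.Lib.Helper29AdjDepthSurj.depth_localization_eq_of_surjective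
    (S := R) (R := R ⧸ 𝔠) (hπ 𝔠) ((R ⧸ 𝔠) ⧸ L.map (Ideal.Quotient.mk 𝔠)) 𝔪
    (𝔪.map (Ideal.Quotient.mk 𝔠)) (hcomap 𝔠 (h𝔠L.trans hL𝔪))
  rw [← h2]
  obtain ⟨e⟩ := nonempty_doubleQuot_equiv 𝔠 L h𝔠L
  rw [Groth.Agent.Lib.Helper28.depth_localization_congr e 𝔪]
  have h3 := Groth.Agent.Lib.Helper29AdjDepthSurj.depth_localization_eq_of_surjective
    (S := R) (R := R ⧸ L) (hπ L) (R ⧸ L) 𝔪
    (𝔪.map (Ideal.Quotient.mk L)) (hcomap L hL𝔪)
  rw [h3, Groth.Agent.Lib.Helper28.depth_localizedModule_self]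

end transfer

end Groth.Agent.Lib.LeadLk
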