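import Mathlib
import Groth.Agent.Lib.LeadLkb
import Groth.Agent.Lib.LeadLkc
import Groth.Agent.Lib.LeadGCMd
import Groth.Agent.Lib.Helper8DoubleLink
import Groth.Agent.Lib.Helper5GorEquidim
import Groth.Agent.Lib.Helper13HB

/-!
# Linkage, part D (lead): directly linked ideals, Cohen–Macaulayness passes across a link
-/

set_option autoImplicit false
set_option maxHeartbeats 800000
set_option linter.style.haveILetI false
set_option linter.unusedSectionVars false
set_option linter.unusedVariables false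

universe u

namespace Groth.Agent.Lib.LeadLk

open IsLocalRing MvPolynomial
open Groth.Agent.Lib.Helper28
open scoped Pointwise

attribute [local instance] MvPolynomial.gradedAlgebra

section bridge

variable (K : Type u) [Field K] (m : ℕ)

/-- homogeneity for the `ℤ`-indexed standard grading implies homogeneity for Mathlib's
`ℕ`-indexed one -/
theorem isHomogeneous_nat_of_stdGr (I : Ideal (MvPolynomial (Fin m) K))
    (hI : I.IsHomogeneous (GrSyz.stdGr K (Fin m))) :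
    I.IsHomogeneous (homogeneousSubmodule (Fin m) K) := by
  obtain ⟨S, hS⟩ := (Ideal.IsHomogeneous.iff_exists (𝒜 := GrSyz.stdGr K (Fin m)) I).mp hI
  rw [hS]
  refine Ideal.homogeneous_span _ _ ?_
  rintro _ ⟨⟨y, i, hy⟩, _, rfl⟩
  show SetLike.IsHomogeneousElem (homogeneousSubmodule (Fin m) K) y
  rcases lt_or_ge i 0 with hi | hi
  · have hy0 : y = 0 := by
      rw [Groth.Agent.Helper13HB.stdGr_neg i hi] at hy
      exact (Submodule.mem_bot K).mp hy
    subst hy0
    exact ⟨0, Submodule.zero_mem _⟩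
  · obtain ⟨e, rfl⟩ := Int.eq_ofNat_of_zero_le hi
    rw [Groth.Agent.Helper13HB.stdGr_natCast] at hy
    exact ⟨e, hy⟩

end bridge

section height

variable (K : Type u) [Field K] (m : ℕ)

/-- `ht (𝔪/𝔠) + ht 𝔠 ≤ m` in a polynomial ring in `m` variables -/
theorem height_map_add_height_le (𝔪 : Ideal (MvPolynomial (Fin m) K)) [h𝔪 : 𝔪.IsMaximal]
    (𝔠 : Ideal (MvPolynomial (Fin m) K)) (h𝔠𝔪 : 𝔠 ≤ 𝔪)
    [hp : (𝔪.map (Ideal.Quotient.mk 𝔠)).IsPrime] :
    (𝔪.map (Ideal.Quotient.mk 𝔠)).height + 𝔠.height ≤ (m : ℕ∞) := by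
  haveI hK : LocCoh.IsCohenMacaulayRing K := isCohenMacaulayRing_of_field K
  haveI hR : LocCoh.IsCohenMacaulayRing (MvPolynomial (Fin m) K) :=
    isCohenMacaulayRing_mvPolynomial_fin m
  have key := height_comap_eq_height_add_height_map 𝔠 (𝔪.map (Ideal.Quotient.mk 𝔠))
  have hcomap : (𝔪.map (Ideal.Quotient.mk 𝔠)).comap (Ideal.Quotient.mk 𝔠) = 𝔪 := by
    rw [Ideal.comap_map_of_surjective _ Ideal.Quotient.mk_surjective,
      ← RingHom.ker_eq_comap_bot, Ideal.mk_ker]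
    exact sup_eq_left.mpr h𝔠𝔪
  have h1 : ((𝔪.map (Ideal.Quotient.mk 𝔠)).comap (Ideal.Quotient.mk 𝔠)).height = (m : ℕ∞) :=
    height_eq_of_isMaximal_mvPolynomial_fin K m _ (by rw [hcomap]; exact h𝔪)
  have h2 : 𝔠.height ≤ (𝔠.map (algebraMap (MvPolynomial (Fin m) K)
      (Localization.AtPrime
        ((𝔪.map (Ideal.Quotient.mk 𝔠)).comap (Ideal.Quotient.mk 𝔠))))).height := by
    have h4 := IsLocalization.height_under
      ((𝔪.map (Ideal.Quotient.mk 𝔠)).comap (Ideal.Quotient.mk 𝔠)).primeCompl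
      (A := Localization.AtPrime ((𝔪.map (Ideal.Quotient.mk 𝔠)).comap (Ideal.Quotient.mk 𝔠)))
      (𝔠.map (algebraMap (MvPolynomial (Fin m) K) (Localization.AtPrime
        ((𝔪.map (Ideal.Quotient.mk 𝔠)).comap (Ideal.Quotient.mk 𝔠)))))
    rw [← h4]
    exact Ideal.height_mono Ideal.le_comap_map
  rw [← h1, key]
  exact add_le_add le_rfl h2

end height

section general

variable {R : Type u} [CommRing R] [IsNoetherianRing R] (𝔪 : Ideal R) [h𝔪 : 𝔪.IsMaximal]
  (𝔠 I J : Ideal R) (h𝔠I : 𝔠 ≤ I) (h𝔠J : 𝔠 ≤ J) (hI𝔪 : I ≤ 𝔪) (hJ𝔪 : J ≤ 𝔪)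

include h𝔠I h𝔠J hI𝔪 hJ𝔪 in
/-- **Linkage at a maximal ideal.** If `R/𝔠` is Gorenstein, `J = 𝔠 : I`, and the local ring of
`R/I` at `𝔪` has depth at least `dim (R/𝔠)_𝔪`, then the local ring of `R/J` at `𝔪` is
Cohen–Macaulay. -/
theorem isCohenMacaulayLocalRing_vertex_of_linked
    [hG : LocCoh.IsGorensteinRing (R ⧸ 𝔠)]
    [hp𝔠 : (𝔪.map (Ideal.Quotient.mk 𝔠)).IsPrime] [hpI : (𝔪.map (Ideal.Quotient.mk I)).IsPrime]
    [hpJ : (𝔪.map (Ideal.Quotient.mk J)).IsPrime]
    (hIJ : 𝔠.colon (I : Set R) = J)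
    (hdep : (𝔪.map (Ideal.Quotient.mk 𝔠)).height ≤
      LocCoh.depth (Localization.AtPrime (𝔪.map (Ideal.Quotient.mk I)))
        (Localization.AtPrime (𝔪.map (Ideal.Quotient.mk I)))) :
    LocCoh.IsCohenMacaulayLocalRing (Localization.AtPrime (𝔪.map (Ideal.Quotient.mk J))) := by
  haveI hGloc : LocCoh.IsGorensteinLocalRing
      (Localization.AtPrime (𝔪.map (Ideal.Quotient.mk 𝔠))) :=
    hG.isGorensteinLocalRing_localization _
  obtain ⟨d, hd⟩ := ENat.ne_top_iff_exists.mp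
    (Ideal.height_ne_top_of_isPrime (I := 𝔪.map (Ideal.Quotient.mk 𝔠)))
  have hdimB : ringKrullDim (Localization.AtPrime (𝔪.map (Ideal.Quotient.mk 𝔠))) = d := by
    rw [IsLocalization.AtPrime.ringKrullDim_eq_height (𝔪.map (Ideal.Quotient.mk 𝔠))
      (Localization.AtPrime (𝔪.map (Ideal.Quotient.mk 𝔠))), ← hd]
    rfl
  have hann : ∀ y : R ⧸ 𝔠,
      y ∈ J.map (Ideal.Quotient.mk 𝔠) ↔ ∀ x ∈ I.map (Ideal.Quotient.mk 𝔠), y * x = 0 := by
    intro y
    obtain ⟨y, rfl⟩ := Ideal.Quotient.mk_surjective y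
    rw [Ideal.mem_quotient_iff_mem h𝔠J, ← hIJ, Submodule.mem_colon]
    constructor
    · intro hy x hx
      obtain ⟨x₀, hx₀, rfl⟩ :=
        (Ideal.mem_map_iff_of_surjective _ Ideal.Quotient.mk_surjective).mp hx
      rw [← map_mul, Ideal.Quotient.eq_zero_iff_mem]
      exact hy x₀ hx₀
    · intro hy p hp
      have := hy _ (Ideal.mem_map_of_mem _ hp)
      rwa [← map_mul, Ideal.Quotient.eq_zero_iff_mem] at this
  have hb := mem_map_iff_forall_mul_eq_zero (𝔪.map (Ideal.Quotient.mk 𝔠))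
    (I.map (Ideal.Quotient.mk 𝔠)) (J.map (Ideal.Quotient.mk 𝔠)) hann
  have hTI := depth_quotient_eq_depth_localization_quotient 𝔪 𝔠 I h𝔠I hI𝔪
  have hTJ := depth_quotient_eq_depth_localization_quotient 𝔪 𝔠 J h𝔠J hJ𝔪
  rw [← hd, ← hTI] at hdep
  have hconcl := le_depth_quotient_annihilator
    (Localization.AtPrime (𝔪.map (Ideal.Quotient.mk 𝔠))) d hdimB _ _ hb hdep
  rw [hTJ] at hconcl
  have hN : IsNoetherianRing (Localization.AtPrime (𝔪.map (Ideal.Quotient.mk J))) :=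
    IsLocalization.isNoetherianRing (𝔪.map (Ideal.Quotient.mk J)).primeCompl _ inferInstance
  refine { supportDim_eq_depth := ?_ }
  have h3 := supportDim_localization_self (𝔪.map (Ideal.Quotient.mk J))
  have h4 : (𝔪.map (Ideal.Quotient.mk J)).height ≤ (d : ℕ∞) := by
    rw [hd]
    exact Groth.Agent.Lib.LeadGCM.height_map_mk_le_of_le 𝔪 h𝔠J hJ𝔪
  have h5 : ((LocCoh.depth (Localization.AtPrime (𝔪.map (Ideal.Quotient.mk J)))
      (Localization.AtPrime (𝔪.map (Ideal.Quotient.mk J))) : ℕ∞) : WithBot ℕ∞) ≤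
      Module.supportDim (Localization.AtPrime (𝔪.map (Ideal.Quotient.mk J)))
        (Localization.AtPrime (𝔪.map (Ideal.Quotient.mk J))) := depth_le_supportDim
  refine le_antisymm ?_ h5
  rw [h3]
  exact WithBot.coe_le_coe.mpr (h4.trans hconcl)

end general

section main

variable (K : Type u) [Field K] (n c : ℕ)

theorem isCohenMacaulayRing_quot_of_directlyLinked
    (𝔠 I J : Ideal (MvPolynomial (Fin (n + 1)) K))
    (h𝔠 : 𝔠.IsHomogeneous (GrSyz.stdGr K (Fin (n + 1))))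
    (hI : I.IsHomogeneous (GrSyz.stdGr K (Fin (n + 1))))
    (hJ : J.IsHomogeneous (GrSyz.stdGr K (Fin (n + 1))))
    [hG : LocCoh.IsGorensteinRing (MvPolynomial (Fin (n + 1)) K ⧸ 𝔠)] (h𝔠c : 𝔠.height = c)
    (hIJ : 𝔠.colon (I : Set (MvPolynomial (Fin (n + 1)) K)) = J)
    (hJI : 𝔠.colon (J : Set (MvPolynomial (Fin (n + 1)) K)) = I)
    (hCM : LocCoh.IsCohenMacaulayRing (MvPolynomial (Fin (n + 1)) K ⧸ I)) :
    LocCoh.IsCohenMacaulayRing (MvPolynomial (Fin (n + 1)) K ⧸ J) := by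
  classical
  have hle_colon : ∀ S : Set (MvPolynomial (Fin (n + 1)) K), 𝔠 ≤ 𝔠.colon S := by
    intro S x hx
    rw [Submodule.mem_colon]
    intro p _
    rw [smul_eq_mul]
    exact Ideal.mul_mem_right _ _ hx
  have h𝔠I : 𝔠 ≤ I := hJI ▸ hle_colon _
  have h𝔠J : 𝔠 ≤ J := hIJ ▸ hle_colon _
  by_cases hItop : I = ⊤
  · have hJ𝔠 : J = 𝔠 := by
      apply le_antisymm _ h𝔠J
      rw [← hIJ, hItop]
      intro x hx
      rw [Submodule.mem_colon] at hx
      have := hx 1 trivial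
      rwa [smul_eq_mul, mul_one] at this
    rw [hJ𝔠]
    exact Groth.Agent.Lib.Helper5.GorUnmixed.isCohenMacaulayRing_of_isGorensteinRing _
  by_cases hJtop : J = ⊤
  · haveI : Subsingleton (MvPolynomial (Fin (n + 1)) K ⧸ J) :=
      Ideal.Quotient.subsingleton_iff.mpr hJtop
    exact ⟨fun p hp => absurd (Subsingleton.elim _ _) hp.ne_top⟩
  -- the vertex
  have hmaxker : (RingHom.ker (constantCoeff : MvPolynomial (Fin (n + 1)) K →+* K)).IsMaximal :=
    RingHom.ker_isMaximal_of_surjective _ (fun a => ⟨C a, constantCoeff_C _ a⟩)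
  have hI𝔪 : I ≤ RingHom.ker (constantCoeff : MvPolynomial (Fin (n + 1)) K →+* K) :=
    Groth.Agent.Lib.Helper5.GorUnmixed.le_ker_constantCoeff_of_isHomogeneous K (n + 1) I hI hItop
  have hJ𝔪 : J ≤ RingHom.ker (constantCoeff : MvPolynomial (Fin (n + 1)) K →+* K) :=
    Groth.Agent.Lib.Helper5.GorUnmixed.le_ker_constantCoeff_of_isHomogeneous K (n + 1) J hJ hJtop
  have h𝔠𝔪 := h𝔠I.trans hI𝔪
  have hmax : ∀ N : Ideal (MvPolynomial (Fin (n + 1)) K),
      N ≤ RingHom.ker (constantCoeff : MvPolynomial (Fin (n + 1)) K →+* K) →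
      ((RingHom.ker (constantCoeff : MvPolynomial (Fin (n + 1)) K →+* K)).map
        (Ideal.Quotient.mk N)).IsMaximal := fun N hN =>
    Ideal.IsMaximal.map_of_surjective_of_ker_le Ideal.Quotient.mk_surjective
      (by rwa [Ideal.mk_ker])
  haveI hp𝔠 := (hmax 𝔠 h𝔠𝔪).isPrime
  haveI hpI := (hmax I hI𝔪).isPrime
  haveI hpJ := (hmax J hJ𝔪).isPrime
  -- `I` has height `c`
  have hIht : I.height = c := by
    have hJ𝔠 : ¬ J ≤ 𝔠 := by
      intro hle
      apply hItop
      rw [← hJI, eq_top_iff]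
      intro x _
      rw [Submodule.mem_colon]
      intro p hp
      rw [smul_eq_mul]
      exact Ideal.mul_mem_left _ _ (hle hp)
    have := (Groth.Agent.Lib.Helper5.GorUnmixed.colon_unmixed K (n + 1) 𝔠 J h𝔠 hJ𝔠).1
    rw [hJI, h𝔠c] at this
    exact this
  -- the depth hypothesis
  have hdep : ((RingHom.ker (constantCoeff : MvPolynomial (Fin (n + 1)) K →+* K)).map
      (Ideal.Quotient.mk 𝔠)).height ≤
      LocCoh.depth (Localization.AtPrime ((RingHom.ker
        (constantCoeff : MvPolynomial (Fin (n + 1)) K →+* K)).map (Ideal.Quotient.mk I)))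
        (Localization.AtPrime ((RingHom.ker
        (constantCoeff : MvPolynomial (Fin (n + 1)) K →+* K)).map (Ideal.Quotient.mk I))) := by
    have h1 := (Groth.Agent.Lib.Helper8.DoubleLink.depth_quot K n I hI c hIht).2
    rw [Groth.Agent.Helper13FreeRes.irrel_stdGr_eq_ker,
      idealDepth_restrictScalars_eq_idealDepth_map (B := MvPolynomial (Fin (n + 1)) K ⧸ I) _
        (MvPolynomial (Fin (n + 1)) K ⧸ I)] at h1
    have h2 := idealDepth_le_depth_localization ((RingHom.ker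
        (constantCoeff : MvPolynomial (Fin (n + 1)) K →+* K)).map (Ideal.Quotient.mk I))
      (MvPolynomial (Fin (n + 1)) K ⧸ I) (le_refl _)
    rw [depth_localizedModule_self] at h2
    refine le_trans ?_ (h1.trans h2)
    have h3 := height_map_add_height_le K (n + 1) _ 𝔠 h𝔠𝔪
    rw [h𝔠c] at h3
    obtain ⟨d, hd⟩ := ENat.ne_top_iff_exists.mp (Ideal.height_ne_top_of_isPrime
      (I := (RingHom.ker (constantCoeff : MvPolynomial (Fin (n + 1)) K →+* K)).map
        (Ideal.Quotient.mk 𝔠)))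
    rw [← hd] at h3 ⊢
    have h4 : d + c ≤ n + 1 := by exact_mod_cast h3
    have h5 : d ≤ n + 1 - c := by omega
    exact_mod_cast h5
  have hCMloc := isCohenMacaulayLocalRing_vertex_of_linked _ 𝔠 I J h𝔠I h𝔠J hI𝔪 hJ𝔪 hIJ hdep
  exact Groth.Agent.Lib.LeadGCM.isCohenMacaulayRing_mvPolynomial_quotient_of_vertex J
    (isHomogeneous_nat_of_stdGr K (n + 1) J hJ) hCMloc

end main

end Groth.Agent.Lib.LeadLk
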