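import Mathlib
import Groth.Agent.Lib.LeadLkb
import Groth.Agent.Lib.LeadGCMd
import Groth.Agent.Lib.LeadERb
import Groth.Agent.Lib.Helper5GorArt
import Groth.Agent.Lib.Helper5GorRing
import Groth.Agent.Lib.Helper28DepthBC
import Groth.Agent.Lib.Helper28DepthLoc
import Groth.Agent.S0343

/-!
# Linkage, part E (lead): the quotient of a Gorenstein local ring by the annihilator of an
element is Gorenstein, as soon as it has maximal depth

* `exists_isSMulRegular_three`: a common nonzerodivisor on three modules of positive depth;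
* `le_depth_quotient_map_of_regular`: depth of `(B/x)/(L·B/x)`;
* `isGorensteinLocalRing_quotient_annihilator`: `B` Gorenstein local of dimension `d`, `t ≠ 0`,
  `b = ann t`, `depth B/tB ≥ d`, `depth B/b ≥ d` ⟹ `B/b` is Gorenstein.
-/

set_option autoImplicit false
set_option maxHeartbeats 400000
set_option linter.style.haveILetI false
set_option linter.unusedSectionVars false
set_option linter.unusedVariables false

universe u

namespace Groth.Agent.Lib.LeadLk

open IsLocalRing
open Groth.Agent.Lib.Helper28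

section prod

variable {B : Type u} [CommRing B] [IsNoetherianRing B] (I : Ideal B)
  (M1 M2 : Type u) [AddCommGroup M1] [Module B M1] [Module.Finite B M1]
  [AddCommGroup M2] [Module B M2] [Module.Finite B M2]

theorem smul_top_prod_ne_top (hne : I • (⊤ : Submodule B M1) ≠ ⊤) :
    I • (⊤ : Submodule B (M1 × M2)) ≠ ⊤ := by
  intro h
  apply hne
  have h1 := congrArg (Submodule.map (LinearMap.fst B M1 M2)) h
  rwa [Submodule.map_smul'', Submodule.map_top,
    LinearMap.range_eq_top.mpr LinearMap.fst_surjective] at h1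

theorem one_le_idealDepth_prod (h1 : 1 ≤ LocCoh.idealDepth I M1)
    (h2 : 1 ≤ LocCoh.idealDepth I M2) : 1 ≤ LocCoh.idealDepth I (M1 × M2) :=
  le_trans (le_min h1 h2)
    (min_idealDepth_le_mid I (LinearMap.inl B M1 M2) (LinearMap.snd B M1 M2)
      LinearMap.inl_injective LinearMap.snd_surjective Groth.Agent.Lib.LeadGCM.exact_inl_snd')

theorem isSMulRegular_of_prod {x : B} (h : IsSMulRegular (M1 × M2) x) :
    IsSMulRegular M1 x ∧ IsSMulRegular M2 x := by
  constructor
  · intro a b hab
    have hab' : x • a = x • b := hab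
    have h1 : x • ((a, 0) : M1 × M2) = x • ((b, 0) : M1 × M2) := by
      rw [Prod.smul_mk, Prod.smul_mk, hab']
    exact congrArg Prod.fst (h h1)
  · intro a b hab
    have hab' : x • a = x • b := hab
    have h1 : x • ((0, a) : M1 × M2) = x • ((0, b) : M1 × M2) := by
      rw [Prod.smul_mk, Prod.smul_mk, hab']
    exact congrArg Prod.snd (h h1)

end prod

section three

variable (B : Type u) [CommRing B] [IsNoetherianRing B] [IsLocalRing B]
  (M1 M2 M3 : Type u) [AddCommGroup M1] [Module B M1] [Module.Finite B M1]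
  [AddCommGroup M2] [Module B M2] [Module.Finite B M2]
  [AddCommGroup M3] [Module B M3] [Module.Finite B M3]

theorem exists_isSMulRegular_three [Nontrivial M1]
    (h1 : 1 ≤ LocCoh.depth B M1) (h2 : 1 ≤ LocCoh.depth B M2) (h3 : 1 ≤ LocCoh.depth B M3) :
    ∃ x ∈ maximalIdeal B, IsSMulRegular M1 x ∧ IsSMulRegular M2 x ∧ IsSMulRegular M3 x := by
  have hne1 : maximalIdeal B • (⊤ : Submodule B M1) ≠ ⊤ := maximalIdeal_smul_top_ne_top
  have hne12 := smul_top_prod_ne_top (maximalIdeal B) M1 M2 hne1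
  have hne123 := smul_top_prod_ne_top (maximalIdeal B) (M1 × M2) M3 hne12
  have hd12 := one_le_idealDepth_prod (maximalIdeal B) M1 M2 h1 h2
  have hd123 := one_le_idealDepth_prod (maximalIdeal B) (M1 × M2) M3 hd12 h3
  obtain ⟨x, hx, hreg⟩ := (one_le_idealDepth_iff hne123).mp hd123
  obtain ⟨h12, h3'⟩ := isSMulRegular_of_prod (M1 × M2) M3 hreg
  obtain ⟨h1', h2'⟩ := isSMulRegular_of_prod M1 M2 h12
  exact ⟨x, hx, h1', h2', h3'⟩

end three

section step

variable (B : Type u) [CommRing B] [IsNoetherianRing B] [IsLocalRing B] (x : B)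
  (hx : x ∈ maximalIdeal B)

/-- `(B/x)/(L·B/x) ≃ (B/L)/x(B/L)` -/
theorem nonempty_quotQuot_equiv_quotSMulTop (L : Ideal B) :
    Nonempty (((B ⧸ Ideal.span {x}) ⧸ L.map (Ideal.Quotient.mk (Ideal.span {x}))) ≃ₗ[B]
      QuotSMulTop x (B ⧸ L)) := by
  let φ : B →ₗ[B] ((B ⧸ Ideal.span {x}) ⧸ L.map (Ideal.Quotient.mk (Ideal.span {x}))) :=
    ((Ideal.Quotient.mkₐ B (L.map (Ideal.Quotient.mk (Ideal.span {x})))).toLinearMap).comp
      (Ideal.Quotient.mkₐ B (Ideal.span {x})).toLinearMap
  have hφ : ∀ y, φ y = Ideal.Quotient.mk (L.map (Ideal.Quotient.mk (Ideal.span {x})))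
      (Ideal.Quotient.mk (Ideal.span {x}) y) := fun y => rfl
  have hsurj : Function.Surjective φ := by
    intro y
    obtain ⟨y, rfl⟩ := Ideal.Quotient.mk_surjective y
    obtain ⟨y, rfl⟩ := Ideal.Quotient.mk_surjective y
    exact ⟨y, rfl⟩
  have hker : LinearMap.ker φ = L ⊔ Ideal.span {x} := by
    ext y
    rw [LinearMap.mem_ker, hφ, Ideal.Quotient.eq_zero_iff_mem, Ideal.mem_quotient_iff_mem_sup]
  exact ⟨(((Submodule.quotEquivOfEq _ _ hker.symm).trans
    (φ.quotKerEquivOfSurjective hsurj)).symm).trans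
      (Groth.Agent.Lib.LeadGCM.quotSMulTopEquiv L x).symm⟩

include hx in
theorem le_depth_quotient_map_of_regular [hloc : IsLocalRing (B ⧸ Ideal.span {x})]
    (L : Ideal B) (hreg : IsSMulRegular (B ⧸ L) x) (d : ℕ)
    (h : ((d + 1 : ℕ) : ℕ∞) ≤ LocCoh.depth B (B ⧸ L)) :
    (d : ℕ∞) ≤ LocCoh.depth (B ⧸ Ideal.span {x})
      ((B ⧸ Ideal.span {x}) ⧸ L.map (Ideal.Quotient.mk (Ideal.span {x}))) := by
  haveI hlochom : IsLocalHom (algebraMap B (B ⧸ Ideal.span {x})) :=
    IsLocalHom.of_surjective _ Ideal.Quotient.mk_surjective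
  haveI hfin : Module.Finite B
      ((B ⧸ Ideal.span {x}) ⧸ L.map (Ideal.Quotient.mk (Ideal.span {x}))) :=
    Module.Finite.trans (B ⧸ Ideal.span {x}) _
  rw [← depth_eq_depth_of_isLocalHom_of_finite (A := B) (B := B ⧸ Ideal.span {x})
    (M := (B ⧸ Ideal.span {x}) ⧸ L.map (Ideal.Quotient.mk (Ideal.span {x})))]
  obtain ⟨e⟩ := nonempty_quotQuot_equiv_quotSMulTop B x L
  unfold LocCoh.depth at h ⊢
  rw [idealDepth_congr e]
  by_cases hL : L = ⊤
  · haveI : Subsingleton (B ⧸ L) := Ideal.Quotient.subsingleton_iff.mpr hL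
    haveI : Subsingleton (QuotSMulTop x (B ⧸ L)) :=
      (Submodule.mkQ_surjective _).subsingleton
    rw [idealDepth_eq_top_of_subsingleton]
    exact le_top
  · haveI : Nontrivial (B ⧸ L) := Ideal.Quotient.nontrivial_iff.mpr hL
    have hne : maximalIdeal B • (⊤ : Submodule B (B ⧸ L)) ≠ ⊤ := maximalIdeal_smul_top_ne_top
    have hadd := idealDepth_quotSMulTop_add_one (maximalIdeal B) (B ⧸ L) hne x hx hreg
    rw [← hadd] at h
    have h2 := enat_pred_le_of_le_add_one h
    simpa using h2

end step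

section main

open Groth.Agent.Lib.Helper5.GorArt Groth.Agent.Lib.Helper5.GorRing

/-- the case of dimension zero: `B/ann(t)` embeds in `B`, so its socle is simple -/
theorem isGorensteinLocalRing_quotient_annihilator_zero (B : Type u) [CommRing B]
    [hB : LocCoh.IsGorensteinLocalRing B] (hdim : ringKrullDim B = 0) (t : B) (b : Ideal B)
    (hb : ∀ r, r ∈ b ↔ r * t = 0) (ht : t ≠ 0) : LocCoh.IsGorensteinLocalRing (B ⧸ b) := by
  haveI : Ring.KrullDimLE 0 B := ringKrullDimZero_iff_ringKrullDim_eq_zero.mpr hdim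
  haveI : IsArtinianRing B := IsNoetherianRing.isArtinianRing_of_krullDimLE_zero
  have hbne : b ≠ ⊤ := by
    intro h
    apply ht
    have h1 : (1 : B) ∈ b := h ▸ Submodule.mem_top
    simpa using (hb 1).mp h1
  haveI : Nontrivial (B ⧸ b) := Ideal.Quotient.nontrivial_iff.mpr hbne
  haveI : IsLocalRing (B ⧸ b) :=
    IsLocalRing.of_surjective' (Ideal.Quotient.mk b) Ideal.Quotient.mk_surjective
  haveI : IsArtinianRing (B ⧸ b) :=
    (Ideal.Quotient.mk_surjective (I := b)).isArtinianRing
  refine gor_of_T1 (B ⧸ b) ?_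
  obtain ⟨s0, hs0, hsoc⟩ := T1_of_gor B
  obtain ⟨s, -, hs, hsmem⟩ := exists_mem_soc (⊤ : Ideal (B ⧸ b)) top_ne_bot
  have key : ∀ r₀ : B, Ideal.Quotient.mk b r₀ ∈ soc (B ⧸ b) → r₀ * t ∈ soc B := by
    intro r₀ h y hy
    have h1 : Ideal.Quotient.mk b y ∈ maximalIdeal (B ⧸ b) := by
      rw [← IsLocalRing.map_maximalIdeal_of_surjective (Ideal.Quotient.mk b)
        Ideal.Quotient.mk_surjective]
      exact Ideal.mem_map_of_mem _ hy
    have h2 := h _ h1
    rw [← map_mul, Ideal.Quotient.eq_zero_iff_mem, hb] at h2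
    rw [← mul_assoc]
    exact h2
  refine ⟨s, hs, le_antisymm ?_ ?_⟩
  · intro s' hs'
    obtain ⟨r, rfl⟩ := Ideal.Quotient.mk_surjective s
    obtain ⟨r', rfl⟩ := Ideal.Quotient.mk_surjective s'
    have h1 := key r hsmem
    rw [hsoc] at h1
    obtain ⟨u, hu⟩ := Ideal.mem_span_singleton'.mp h1
    have h2 := key r' hs'
    rw [hsoc] at h2
    obtain ⟨u', hu'⟩ := Ideal.mem_span_singleton'.mp h2
    have hrt : r * t ≠ 0 := by
      intro h
      apply hs
      rw [Ideal.Quotient.eq_zero_iff_mem, hb]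
      exact h
    have hu_unit : IsUnit u := by
      by_contra hnu
      have hum : u ∈ maximalIdeal B := (IsLocalRing.mem_maximalIdeal u).mpr hnu
      have hs0soc : s0 ∈ soc B := by
        rw [hsoc]
        exact Ideal.mem_span_singleton_self s0
      apply hrt
      rw [← hu]
      exact hs0soc u hum
    obtain ⟨v, hv⟩ := hu_unit.exists_left_inv
    have h3 : (r' - u' * v * r) * t = 0 := by
      rw [sub_mul, mul_assoc (u' * v), ← hu, ← hu']
      have : u' * v * (u * s0) = u' * (v * u) * s0 := by ring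
      rw [this, hv, mul_one, sub_self]
    have hmem : r' - u' * v * r ∈ b := (hb _).mpr h3
    rw [Ideal.mem_span_singleton']
    refine ⟨Ideal.Quotient.mk b (u' * v), ?_⟩
    rw [← map_mul, eq_comm, ← sub_eq_zero, ← map_sub, Ideal.Quotient.eq_zero_iff_mem]
    exact hmem
  · rw [Ideal.span_singleton_le_iff_mem]
    exact hsmem

/-- **`B/ann(t)` is Gorenstein.** -/
theorem isGorensteinLocalRing_quotient_annihilator (d : ℕ) :
    ∀ (B : Type u) [CommRing B] [hB : LocCoh.IsGorensteinLocalRing B], ringKrullDim B = d →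
    ∀ (t : B) (a b : Ideal B), a = Ideal.span {t} → (∀ r, r ∈ b ↔ r * t = 0) → t ≠ 0 →
      (d : ℕ∞) ≤ LocCoh.depth B (B ⧸ a) → (d : ℕ∞) ≤ LocCoh.depth B (B ⧸ b) →
      LocCoh.IsGorensteinLocalRing (B ⧸ b) := by
  induction d with
  | zero =>
    intro B _ hB hdim t a b ha hb ht _ _
    exact isGorensteinLocalRing_quotient_annihilator_zero B (by simpa using hdim) t b hb ht
  | succ d ih =>
    intro B _ hB hdim t a b ha hb ht hda hdb
    have hdepthB : LocCoh.depth B B = ((d + 1 : ℕ) : ℕ∞) :=
      (Groth.Agent.Lib.Helper29Gorenstein.depth_eq_and_hasInjectiveDimensionLT B (d + 1) hdim).1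
    have hbne : b ≠ ⊤ := by
      intro h
      apply ht
      have h1 : (1 : B) ∈ b := h ▸ Submodule.mem_top
      simpa using (hb 1).mp h1
    haveI : Nontrivial (B ⧸ b) := Ideal.Quotient.nontrivial_iff.mpr hbne
    have hone : (1 : ℕ∞) ≤ ((d + 1 : ℕ) : ℕ∞) := by exact_mod_cast Nat.succ_pos d
    have h1 : (1 : ℕ∞) ≤ LocCoh.depth B B := by rw [hdepthB]; exact hone
    have h2 : (1 : ℕ∞) ≤ LocCoh.depth B (B ⧸ a) := le_trans hone hda
    have h3 : (1 : ℕ∞) ≤ LocCoh.depth B (B ⧸ b) := le_trans hone hdb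
    obtain ⟨x, hx, hxB, hxa, hxb⟩ := exists_isSMulRegular_three B B (B ⧸ a) (B ⧸ b) h1 h2 h3
    have hxne : Ideal.span {x} ≠ ⊤ := by
      intro h
      rw [Ideal.span_singleton_eq_top] at h
      exact hx h
    haveI : Nontrivial (B ⧸ Ideal.span {x}) := Ideal.Quotient.nontrivial_iff.mpr hxne
    haveI hloc' : IsLocalRing (B ⧸ Ideal.span {x}) :=
      IsLocalRing.of_surjective' (Ideal.Quotient.mk (Ideal.span {x})) Ideal.Quotient.mk_surjective
    haveI hG' : LocCoh.IsGorensteinLocalRing (B ⧸ Ideal.span {x}) :=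
      (Groth.Agent.S0343.result B x hx hxB).mp hB
    have hdim' : ringKrullDim (B ⧸ Ideal.span {x}) = d := by
      have h4 := ringKrullDim_quotient_span_singleton_succ_eq_ringKrullDim hxB hx
      rw [hdim] at h4
      apply Groth.Agent.Lib.LeadER.withBot_add_one_cancel
      rw [h4]
      push_cast
      rfl
    have hxa' : ∀ s : B, x * s ∈ a → s ∈ a := by
      intro s hs
      have h0 : x • (Ideal.Quotient.mk a s) = 0 := by
        rw [Algebra.smul_def, Ideal.Quotient.algebraMap_eq, ← map_mul,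
          Ideal.Quotient.eq_zero_iff_mem]
        exact hs
      have h5 := (isSMulRegular_iff_right_eq_zero_of_smul.mp hxa) _ h0
      exact Ideal.Quotient.eq_zero_iff_mem.mp h5
    have ha' : a.map (Ideal.Quotient.mk (Ideal.span {x})) =
        Ideal.span {Ideal.Quotient.mk (Ideal.span {x}) t} := by
      rw [ha, Ideal.map_span, Set.image_singleton]
    have hb' : ∀ r', r' ∈ b.map (Ideal.Quotient.mk (Ideal.span {x})) ↔
        r' * Ideal.Quotient.mk (Ideal.span {x}) t = 0 := by
      intro r'
      obtain ⟨r, rfl⟩ := Ideal.Quotient.mk_surjective r'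
      constructor
      · intro h
        obtain ⟨r₀, hr₀, hr₀'⟩ :=
          (Ideal.mem_map_iff_of_surjective _ Ideal.Quotient.mk_surjective).mp h
        rw [← hr₀', ← map_mul, (hb r₀).mp hr₀, map_zero]
      · intro h
        rw [← map_mul, Ideal.Quotient.eq_zero_iff_mem, Ideal.mem_span_singleton'] at h
        obtain ⟨s, hs⟩ := h
        have hs_a : s ∈ a := by
          apply hxa'
          rw [mul_comm, hs, ha]
          exact Ideal.mul_mem_left _ _ (Ideal.mem_span_singleton_self t)
        rw [ha, Ideal.mem_span_singleton'] at hs_a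
        obtain ⟨s', hs'⟩ := hs_a
        have h6 : (r - s' * x) * t = 0 := by
          rw [sub_mul, ← hs, ← hs']
          ring
        have hmem := (hb _).mpr h6
        have h7 : Ideal.Quotient.mk (Ideal.span {x}) r =
            Ideal.Quotient.mk (Ideal.span {x}) (r - s' * x) := by
          rw [map_sub, map_mul,
            Ideal.Quotient.eq_zero_iff_mem.mpr (Ideal.mem_span_singleton_self x), mul_zero,
            sub_zero]
        rw [h7]
        exact Ideal.mem_map_of_mem _ hmem
    have ht' : Ideal.Quotient.mk (Ideal.span {x}) t ≠ 0 := by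
      intro h
      rw [Ideal.Quotient.eq_zero_iff_mem, Ideal.mem_span_singleton'] at h
      obtain ⟨t1, ht1⟩ := h
      have h8 : t1 ∈ a := by
        apply hxa'
        rw [mul_comm, ht1, ha]
        exact Ideal.mem_span_singleton_self t
      rw [ha, Ideal.mem_span_singleton'] at h8
      obtain ⟨u, hu⟩ := h8
      have hux : u * x ∈ maximalIdeal B := Ideal.mul_mem_left _ _ hx
      have hunit : IsUnit (1 - u * x) := by
        by_contra hnu
        have h9 : 1 - u * x ∈ maximalIdeal B := (IsLocalRing.mem_maximalIdeal _).mpr hnu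
        have h10 : (1 : B) ∈ maximalIdeal B := by
          have := Ideal.add_mem _ h9 hux
          rwa [sub_add_cancel] at this
        exact (Ideal.ne_top_iff_one _).mp (IsLocalRing.maximalIdeal.isMaximal B).ne_top h10
      have h11 : (1 - u * x) * t = 0 := by
        have : (1 - u * x) * t = t - (u * t) * x := by ring
        rw [this, hu, ht1, sub_self]
      exact ht (hunit.mul_right_eq_zero.mp h11)
    have hda' := le_depth_quotient_map_of_regular B x hx a hxa d hda
    have hdb' := le_depth_quotient_map_of_regular B x hx b hxb d hdb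
    haveI hG'' := ih (B ⧸ Ideal.span {x}) hdim' (Ideal.Quotient.mk (Ideal.span {x}) t)
      (a.map (Ideal.Quotient.mk (Ideal.span {x}))) (b.map (Ideal.Quotient.mk (Ideal.span {x})))
      ha' hb' ht' hda' hdb'
    haveI : IsLocalRing (B ⧸ b) :=
      IsLocalRing.of_surjective' (Ideal.Quotient.mk b) Ideal.Quotient.mk_surjective
    have hxS : Ideal.Quotient.mk b x ∈ maximalIdeal (B ⧸ b) := by
      rw [← IsLocalRing.map_maximalIdeal_of_surjective (Ideal.Quotient.mk b)
        Ideal.Quotient.mk_surjective]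
      exact Ideal.mem_map_of_mem _ hx
    have hregS : IsSMulRegular (B ⧸ b) (Ideal.Quotient.mk b x) := by
      rw [isSMulRegular_iff_right_eq_zero_of_smul]
      intro y hy
      apply (isSMulRegular_iff_right_eq_zero_of_smul.mp hxb)
      rw [Algebra.smul_def, Ideal.Quotient.algebraMap_eq]
      exact hy
    refine (Groth.Agent.S0343.result (B ⧸ b) (Ideal.Quotient.mk b x) hxS hregS).mpr ?_
    have hspan : (Ideal.span {x}).map (Ideal.Quotient.mk b) =
        Ideal.span {Ideal.Quotient.mk b x} := by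
      rw [Ideal.map_span, Set.image_singleton]
    exact gorLocal_of_ringEquiv
      ((DoubleQuot.quotQuotEquivComm (Ideal.span {x}) b).trans (Ideal.quotEquivOfEq hspan))

end main

end Groth.Agent.Lib.LeadLk
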