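import Mathlib
import Groth.Agent.Lib.Helper5GrLoc
import Groth.Agent.Lib.Helper5GorRing
import Groth.Agent.Lib.LeadERb
import Groth.Agent.Lib.LeadGCMc
import Groth.Agent.Lib.LeadGCMd

/-!
# Linkage, part F (lead): a graded ring which is Gorenstein at its homogeneous primes is
Gorenstein; a cone is Gorenstein iff it is so at its vertex

The comparison between `R_p` and `R_{p*}` goes through the coaction `R → R[ℤ]`
(`Helper5Coact`), as for depth in `Helper5GrLoc`.
-/

set_option autoImplicit false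
set_option maxHeartbeats 400000
set_option linter.style.haveILetI false
set_option linter.unusedSectionVars false
set_option linter.unusedVariables false

universe u v w

namespace Groth.Agent.Lib.LeadLk

open Groth.Agent.Lib.Helper5.Coact Groth.Agent.Lib.Helper5.GorRing Groth.Agent.Lib.Helper5.GrLoc
open Groth.Agent.Lib.LeadER Groth.Agent.Lib.LeadGCM
open LaurentPolynomial

section core

variable {R : Type u} [CommRing R] [IsNoetherianRing R] (𝒢 : ℤ → AddSubgroup R) [GradedRing 𝒢]

theorem gor_atPrime_of_eq (q q' : Ideal R) [q.IsPrime] [q'.IsPrime] (h : q = q')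
    (hG : LocCoh.IsGorensteinLocalRing (Localization.AtPrime q)) :
    LocCoh.IsGorensteinLocalRing (Localization.AtPrime q') := by
  subst h
  exact hG

/-- `R_p` is Gorenstein as soon as `R_{p*}` is -/
theorem gor_localization_of_core (p : Ideal R) [hp : p.IsPrime]
    [hcore : (Ideal.homogeneousCore 𝒢 p).toIdeal.IsPrime]
    (h : LocCoh.IsGorensteinLocalRing
      (Localization.AtPrime (Ideal.homogeneousCore 𝒢 p).toIdeal)) :
    LocCoh.IsGorensteinLocalRing (Localization.AtPrime p) := by
  haveI hN : IsNoetherianRing (AddMonoidAlgebra R ℤ) := isNoetherianRing_addMonoidAlgebra ℤ R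
  haveI hU : UniqueSums ℤ := uniqueSums ℤ
  haveI h𝔓 : (p.map (algebraMap R (AddMonoidAlgebra R ℤ))).IsPrime := map_isPrime p
  haveI h𝔓' : ((p.map (algebraMap R (AddMonoidAlgebra R ℤ))).comap
      ((tau 𝒢 : AddMonoidAlgebra R ℤ ≃+* AddMonoidAlgebra R ℤ) :
        AddMonoidAlgebra R ℤ →+* AddMonoidAlgebra R ℤ)).IsPrime := Ideal.comap_isPrime _ _
  -- the prime over `p*`
  have h1 : LocCoh.IsGorensteinLocalRing (Localization.AtPrime
      (((p.map (algebraMap R (AddMonoidAlgebra R ℤ))).comap
        ((tau 𝒢 : AddMonoidAlgebra R ℤ ≃+* AddMonoidAlgebra R ℤ) :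
          AddMonoidAlgebra R ℤ →+* AddMonoidAlgebra R ℤ)).comap
        (algebraMap R (AddMonoidAlgebra R ℤ)))) :=
    gor_atPrime_of_eq _ _ (comap_tau_comap 𝒢 p).symm h
  have h2 : LocCoh.IsGorensteinLocalRing (Localization.AtPrime
      ((p.map (algebraMap R (AddMonoidAlgebra R ℤ))).comap
        ((tau 𝒢 : AddMonoidAlgebra R ℤ ≃+* AddMonoidAlgebra R ℤ) :
          AddMonoidAlgebra R ℤ →+* AddMonoidAlgebra R ℤ))) :=
    (gor_localization_iff (A := R) _).mpr ⟨h1, gor_fibLocRing_laurent R _⟩
  haveI h𝔓'' : (Ideal.comap (tau 𝒢) (p.map (algebraMap R (AddMonoidAlgebra R ℤ)))).IsPrime := h𝔓'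
  haveI h2' : LocCoh.IsGorensteinLocalRing (Localization.AtPrime
      (Ideal.comap (tau 𝒢) (p.map (algebraMap R (AddMonoidAlgebra R ℤ))))) := h2
  have h3 : LocCoh.IsGorensteinLocalRing (Localization.AtPrime
      (p.map (algebraMap R (AddMonoidAlgebra R ℤ)))) :=
    gorLocal_of_ringEquiv (Localization.localRingEquiv
      (Ideal.comap (tau 𝒢) (p.map (algebraMap R (AddMonoidAlgebra R ℤ))))
      (p.map (algebraMap R (AddMonoidAlgebra R ℤ))) (tau 𝒢) rfl)
  have h4 := ((gor_localization_iff (A := R) (p.map (algebraMap R (AddMonoidAlgebra R ℤ)))).mp h3).1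
  exact gor_atPrime_of_eq _ _ (comap_map_eq p) h4

/-- a Noetherian `ℤ`-graded ring which is Gorenstein at its homogeneous primes is Gorenstein -/
theorem isGorensteinRing_of_homogeneous_primes
    (h : ∀ (q : Ideal R) [q.IsPrime], q.IsHomogeneous 𝒢 →
      LocCoh.IsGorensteinLocalRing (Localization.AtPrime q)) :
    LocCoh.IsGorensteinRing R := by
  classical
  refine ⟨fun p hp => ?_⟩
  haveI hcore : (Ideal.homogeneousCore 𝒢 p).toIdeal.IsPrime := Ideal.IsPrime.homogeneousCore hp
  exact gor_localization_of_core 𝒢 p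
    (h (Ideal.homogeneousCore 𝒢 p).toIdeal (Ideal.homogeneousCore 𝒢 p).isHomogeneous)

end core

section Vertex

variable {K : Type u} [Field K] {A : Type v} [CommRing A] [Algebra K A]
  (𝒜 : ℕ → Submodule K A) [GradedAlgebra 𝒜]
  (h0 : ∀ a ∈ 𝒜 0, ∃ c : K, algebraMap K A c = a) [IsNoetherianRing A]

include h0 in
/-- **a cone is Gorenstein iff it is so at its vertex** -/
theorem isGorensteinRing_quotient_of_vertex (I : Ideal A) (hI : I.IsHomogeneous 𝒜)
    [hm : ((irr 𝒜).map (Ideal.Quotient.mk I)).IsPrime]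
    (hG : LocCoh.IsGorensteinLocalRing
      (Localization.AtPrime ((irr 𝒜).map (Ideal.Quotient.mk I)))) :
    LocCoh.IsGorensteinRing (A ⧸ I) := by
  letI := qgrGradedAlgebra 𝒜 I hI
  refine isGorensteinRing_of_homogeneous_primes (intGr (qgr 𝒜 I)) fun q hq hqhom => ?_
  have hq' : q.IsHomogeneous (qgr 𝒜 I) := isHomogeneous_of_isHomogeneous_intGr (qgr 𝒜 I) hqhom
  have hle : q ≤ (irr 𝒜).map (Ideal.Quotient.mk I) := by
    rw [← irr_qgr 𝒜 I]
    exact le_irr_of_isHomogeneous (qgr 𝒜 I) (qgr_zero 𝒜 I h0) hq' hq.ne_top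
  exact gorLocal_localization_of_le q _ hle hG

end Vertex

section MvPoly

open MvPolynomial

attribute [local instance] MvPolynomial.gradedAlgebra

variable {K : Type u} [Field K] {σ : Type w}

/-- **a cone is Gorenstein iff it is so at its vertex**, for quotients of polynomial rings -/
theorem isGorensteinRing_mvPolynomial_quotient_of_vertex [Finite σ]
    (I : Ideal (MvPolynomial σ K)) (hI : I.IsHomogeneous (homogeneousSubmodule σ K))
    [hm : ((RingHom.ker (constantCoeff : MvPolynomial σ K →+* K)).map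
      (Ideal.Quotient.mk I)).IsPrime]
    (hG : LocCoh.IsGorensteinLocalRing (Localization.AtPrime
      ((RingHom.ker (constantCoeff : MvPolynomial σ K →+* K)).map (Ideal.Quotient.mk I)))) :
    LocCoh.IsGorensteinRing (MvPolynomial σ K ⧸ I) := by
  have key : ∀ (P : Ideal (MvPolynomial σ K)), P = irr (homogeneousSubmodule σ K) →
      ∀ [hm : (P.map (Ideal.Quotient.mk I)).IsPrime],
      LocCoh.IsGorensteinLocalRing (Localization.AtPrime (P.map (Ideal.Quotient.mk I))) →
      LocCoh.IsGorensteinRing (MvPolynomial σ K ⧸ I) := by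
    intro P hP
    subst hP
    intro hm hG
    exact isGorensteinRing_quotient_of_vertex (homogeneousSubmodule σ K)
      (h0_mvPolynomial K σ) I hI hG
  exact key _ (irr_mvPolynomial K σ).symm hG

end MvPoly

end Groth.Agent.Lib.LeadLk
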