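import Mathlib
import Groth.Prelude
import Groth.Agent.Lib.Helper5GorArt
set_option autoImplicit false
set_option linter.style.haveILetI false
universe u
open IsLocalRing

namespace Groth.Agent.Lib.T2H4.GorOmega

open Disc

section Field
variable {K : Type u} [Field K] {C : Type u} [CommRing C] [Algebra K C]

lemma omega_smul_algebraMap (a : K) (χ : C →ₗ[K] K) :
    (⟨a • χ⟩ : Omega K C) = algebraMap K C a • (⟨χ⟩ : Omega K C) := by
  apply Omega.ext
  apply LinearMap.ext
  intro x
  rw [Omega.smul_toLinearMap_apply, LinearMap.smul_apply, ← Algebra.smul_def, map_smul]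

/-- the dual of a `K`-algebra is a faithful module. -/
lemma omega_faithful (c : C) (h : ∀ χ : Omega K C, c • χ = 0) : c = 0 := by
  rw [← Module.forall_dual_apply_eq_zero_iff K c]
  intro φ
  have h1 := congrArg (fun ω : Omega K C => ω.toLinearMap 1) (h ⟨φ⟩)
  simp only [Omega.smul_toLinearMap_apply, mul_one, Omega.zero_toLinearMap,
    LinearMap.zero_apply] at h1
  exact h1

/-- the dual of a `K`-algebra is an injective module. -/
lemma omega_injective : Module.Injective C (Omega K C) := by
  apply Module.Baer.injective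
  intro I g
  let g₁ : (I.restrictScalars K) →ₗ[K] K :=
    { toFun := fun i => (g ⟨i.1, i.2⟩).toLinearMap 1
      map_add' := fun i j => by
        have : g ⟨(i + j).1, (i + j).2⟩ = g ⟨i.1, i.2⟩ + g ⟨j.1, j.2⟩ := by
          rw [← map_add]; rfl
        rw [this, Omega.add_toLinearMap, LinearMap.add_apply]
      map_smul' := fun a i => by
        have : g ⟨(a • i).1, (a • i).2⟩ = algebraMap K C a • g ⟨i.1, i.2⟩ := by
          rw [← map_smul]
          congr 1
          apply Subtype.ext
          show a • i.1 = algebraMap K C a • i.1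
          rw [Algebra.smul_def, smul_eq_mul]
        rw [this, Omega.smul_toLinearMap_apply, mul_one, RingHom.id_apply,
          Algebra.algebraMap_eq_smul_one, map_smul] }
  obtain ⟨G, hG⟩ := LinearMap.exists_extend g₁
  refine ⟨LinearMap.toSpanSingleton C (Omega K C) ⟨G⟩, ?_⟩
  intro x hx
  rw [LinearMap.toSpanSingleton_apply]
  apply Omega.ext
  apply LinearMap.ext
  intro y
  rw [Omega.smul_toLinearMap_apply]
  have h1 : (g ⟨x, hx⟩).toLinearMap y = (y • g ⟨x, hx⟩).toLinearMap 1 := by
    rw [Omega.smul_toLinearMap_apply, mul_one]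
  have hyx : y * x ∈ I := I.mul_mem_left y hx
  have h2 : y • g ⟨x, hx⟩ = g ⟨y * x, hyx⟩ := by
    rw [← map_smul]; rfl
  have h3 : (g ⟨y * x, hyx⟩).toLinearMap 1 = G (y * x) := by
    have := LinearMap.congr_fun hG (⟨y * x, hyx⟩ : I.restrictScalars K)
    exact this.symm
  rw [h1, h2, h3, mul_comm]

end Field

section Soc
variable {C : Type u} [CommRing C] [IsArtinianRing C]

/-- if the localization at a maximal ideal `q` has principal socle then the `q`-socle of `C` is
cyclic. -/
lemma exists_generator_socle (q : Ideal C) [hq : q.IsMaximal]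
    (hT : Groth.Agent.Lib.Helper5.GorArt.T1 (Localization.AtPrime q)) :
    ∃ s : C, (∀ c ∈ q, c * s = 0) ∧
      ∀ x : C, (∀ c ∈ q, c * x = 0) → ∃ c : C, x = c * s := by
  have hπ : Function.Surjective (algebraMap C (Localization.AtPrime q)) :=
    IsArtinianRing.localization_surjective q.primeCompl _
  have hinj : ∀ x : C, (∀ c ∈ q, c * x = 0) → algebraMap C (Localization.AtPrime q) x = 0 →
      x = 0 := by
    intro x hx h0
    rw [IsLocalization.map_eq_zero_iff q.primeCompl] at h0
    obtain ⟨t, ht⟩ := h0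
    obtain ⟨y, i, hi, hyi⟩ := hq.exists_inv t.2
    have : x = (y * t + i) * x := by rw [hyi, one_mul]
    rw [this, add_mul, mul_assoc, ht, mul_zero, hx i hi, add_zero]
  have hsoc : ∀ x : C, (∀ c ∈ q, c * x = 0) →
      algebraMap C (Localization.AtPrime q) x ∈
        Groth.Agent.Lib.Helper5.GorArt.soc (Localization.AtPrime q) := by
    intro x hx y hy
    obtain ⟨c, rfl⟩ := hπ y
    have hc : c ∈ q := (IsLocalization.AtPrime.to_map_mem_maximal_iff _ q c).mp hy
    rw [← map_mul, hx c hc, map_zero]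
  by_cases hex : ∃ s : C, (∀ c ∈ q, c * s = 0) ∧ s ≠ 0
  · obtain ⟨s, hs, hs0⟩ := hex
    refine ⟨s, hs, ?_⟩
    obtain ⟨σ, hσ0, hσ⟩ := hT
    have hσsoc : σ ∈ Groth.Agent.Lib.Helper5.GorArt.soc (Localization.AtPrime q) := by
      rw [hσ]; exact Ideal.subset_span rfl
    have h1 := hsoc s hs
    rw [hσ, Ideal.mem_span_singleton'] at h1
    obtain ⟨u, hu⟩ := h1
    have hunit : IsUnit u := by
      by_contra hnu
      have hum : u ∈ maximalIdeal (Localization.AtPrime q) := (mem_maximalIdeal u).mpr hnu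
      have h2 := hσsoc u hum
      rw [h2] at hu
      exact hs0 (hinj s hs hu.symm)
    obtain ⟨u', rfl⟩ := hunit
    intro x hx
    have h3 := hsoc x hx
    rw [hσ, Ideal.mem_span_singleton'] at h3
    obtain ⟨v, hv⟩ := h3
    obtain ⟨c, hc⟩ := hπ (v * ↑u'⁻¹)
    refine ⟨c, ?_⟩
    have hxc : ∀ d ∈ q, d * (x - c * s) = 0 := by
      intro d hd
      rw [mul_sub, hx d hd, mul_left_comm, hs d hd, mul_zero, sub_zero]
    have h4 : algebraMap C (Localization.AtPrime q) (x - c * s) = 0 := by
      rw [map_sub, map_mul, hc, ← hv, ← hu, mul_assoc, ← mul_assoc (↑u'⁻¹ : Localization.AtPrime q),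
        Units.inv_mul, one_mul, sub_self]
    exact sub_eq_zero.mp (hinj _ hxc h4)
  · push Not at hex
    refine ⟨0, fun c _ => mul_zero c, ?_⟩
    intro x hx
    exact ⟨0, by rw [zero_mul]; exact hex x hx⟩

end Soc

section Gen
variable {K : Type u} [Field K] {C : Type u} [CommRing C] [Algebra K C] [Module.Finite K C]

/-- if the `q`-socle of `C` is cyclic, the dual of `C` is generated by one element modulo `q`. -/
lemma exists_generator_omega (q : Ideal C) [hq : q.IsMaximal]
    (hs : ∃ s : C, (∀ c ∈ q, c * s = 0) ∧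
      ∀ x : C, (∀ c ∈ q, c * x = 0) → ∃ c : C, x = c * s) :
    ∃ φ : Omega K C, Submodule.span C {φ} ⊔ q • (⊤ : Submodule C (Omega K C)) = ⊤ := by
  obtain ⟨s, hsq, hgen⟩ := hs
  -- a functional not vanishing on `s` (if `s ≠ 0`)
  obtain ⟨φ, hφ⟩ : ∃ φ : C →ₗ[K] K, s ≠ 0 → φ s ≠ 0 := by
    by_cases h0 : s = 0
    · exact ⟨0, fun h => absurd h0 h⟩
    · obtain ⟨φ, hφ⟩ := Module.Projective.exists_dual_ne_zero K h0
      exact ⟨φ, fun _ => hφ⟩
  refine ⟨⟨φ⟩, ?_⟩
  set T : Submodule C (Omega K C) :=
    Submodule.span C {(⟨φ⟩ : Omega K C)} ⊔ q • (⊤ : Submodule C (Omega K C)) with hT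
  let W : Submodule K (Module.Dual K C) :=
    { carrier := {χ | (⟨χ⟩ : Omega K C) ∈ T}
      add_mem' := fun {a b} ha hb => by
        have : (⟨a + b⟩ : Omega K C) = ⟨a⟩ + ⟨b⟩ := rfl
        rw [Set.mem_ofPred_eq, this]
        exact T.add_mem ha hb
      zero_mem' := by
        have : (⟨0⟩ : Omega K C) = 0 := rfl
        rw [Set.mem_ofPred_eq, this]
        exact T.zero_mem
      smul_mem' := fun a χ hχ => by
        rw [Set.mem_ofPred_eq, omega_smul_algebraMap]
        exact T.smul_mem _ hχ }
  have hW : W.dualCoannihilator = ⊥ := by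
    rw [eq_bot_iff]
    intro x hx
    rw [Submodule.mem_dualCoannihilator] at hx
    rw [Submodule.mem_bot]
    have h1 : ∀ c : C, φ (c * x) = 0 := by
      intro c
      have hmem : (φ ∘ₗ LinearMap.mulLeft K c) ∈ W := by
        show (⟨φ ∘ₗ LinearMap.mulLeft K c⟩ : Omega K C) ∈ T
        have : (⟨φ ∘ₗ LinearMap.mulLeft K c⟩ : Omega K C) = c • ⟨φ⟩ := rfl
        rw [this]
        exact Submodule.mem_sup_left (Submodule.smul_mem _ _ (Submodule.subset_span rfl))
      exact hx _ hmem
    have h2 : ∀ c ∈ q, c * x = 0 := by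
      intro c hc
      rw [← Module.forall_dual_apply_eq_zero_iff K (c * x)]
      intro ψ
      have hmem : (ψ ∘ₗ LinearMap.mulLeft K c) ∈ W := by
        show (⟨ψ ∘ₗ LinearMap.mulLeft K c⟩ : Omega K C) ∈ T
        have : (⟨ψ ∘ₗ LinearMap.mulLeft K c⟩ : Omega K C) = c • ⟨ψ⟩ := rfl
        rw [this]
        exact Submodule.mem_sup_right (Submodule.smul_mem_smul hc Submodule.mem_top)
      exact hx _ hmem
    obtain ⟨c, rfl⟩ := hgen x h2
    by_cases hcq : c ∈ q
    · exact hsq c hcq
    · obtain ⟨c', i, hi, hci⟩ := hq.exists_inv hcq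
      have hs0 : s = c' * (c * s) := by
        have h5 : s = (c' * c + i) * s := by rw [hci, one_mul]
        rw [add_mul, hsq i hi, add_zero, mul_assoc] at h5
        exact h5
      by_cases hs00 : s = 0
      · rw [hs00, mul_zero]
      · exfalso
        apply hφ hs00
        rw [hs0]
        exact h1 c'
  have hWtop : W = ⊤ := by
    have := Subspace.dualCoannihilator_dualAnnihilator_eq (W := W)
    rw [hW, Submodule.dualAnnihilator_bot] at this
    exact this.symm
  rw [eq_top_iff]
  intro ω _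
  have : ω.toLinearMap ∈ W := by rw [hWtop]; exact Submodule.mem_top
  exact this

end Gen
end Groth.Agent.Lib.T2H4.GorOmega
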