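import Mathlib
import Groth.Prelude
set_option autoImplicit false
set_option linter.style.haveILetI false
universe u
open IsLocalRing TensorProduct

namespace Groth.Agent.Lib.T2H4.GorOmega

open Disc

section BC
variable {A B : Type u} [CommRing A] [CommRing B] [Algebra A B]
  (p : Ideal A) [p.IsPrime]

/-- base change of a functional to the fibre over `p`. -/
noncomputable def bcK (ψ : Omega A B) : Omega p.ResidueField (p.Fiber B) :=
  ⟨(AlgebraTensorModule.rid A p.ResidueField p.ResidueField).toLinearMap ∘ₗ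
    (ψ.toLinearMap.baseChange p.ResidueField)⟩

lemma bcK_tmul (ψ : Omega A B) (x : p.ResidueField) (b : B) :
    (bcK p ψ).toLinearMap (x ⊗ₜ[A] b) = (ψ.toLinearMap b) • x := by
  unfold bcK
  simp only [LinearMap.coe_comp, LinearEquiv.coe_coe, Function.comp_apply,
    LinearMap.baseChange_tmul, AlgebraTensorModule.rid_tmul]

lemma bcK_add (ψ₁ ψ₂ : Omega A B) : bcK p (ψ₁ + ψ₂) = bcK p ψ₁ + bcK p ψ₂ := by
  apply Omega.ext
  apply AlgebraTensorModule.ext
  intro x b
  rw [Omega.add_toLinearMap, LinearMap.add_apply, bcK_tmul, bcK_tmul, bcK_tmul,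
    Omega.add_toLinearMap, LinearMap.add_apply, add_smul]

lemma bcK_zero : bcK p (0 : Omega A B) = 0 := by
  apply Omega.ext
  apply AlgebraTensorModule.ext
  intro x b
  rw [bcK_tmul, Omega.zero_toLinearMap, LinearMap.zero_apply, zero_smul, Omega.zero_toLinearMap,
    LinearMap.zero_apply]

lemma bcK_smul (b : B) (ψ : Omega A B) :
    bcK p (b • ψ) = ((1 : p.ResidueField) ⊗ₜ[A] b : p.Fiber B) • bcK p ψ := by
  apply Omega.ext
  apply AlgebraTensorModule.ext
  intro x y
  rw [bcK_tmul, Omega.smul_toLinearMap_apply, Omega.smul_toLinearMap_apply,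
    Algebra.TensorProduct.tmul_mul_tmul, one_mul, bcK_tmul]

lemma bcK_sub (ψ₁ ψ₂ : Omega A B) : bcK p (ψ₁ - ψ₂) = bcK p ψ₁ - bcK p ψ₂ := by
  have h := bcK_add p (ψ₁ - ψ₂) ψ₂
  rw [sub_add_cancel] at h
  rw [h, add_sub_cancel_right]

variable [Module.Finite A B] [Module.Free A B]

/-- a functional whose base change to the fibre over `p` vanishes lies in `p ω`. -/
lemma mem_smul_top_of_bcK_eq_zero (ψ : Omega A B) (h : bcK p ψ = 0) :
    ψ ∈ (p.map (algebraMap A B)) • (⊤ : Submodule B (Omega A B)) := by
  classical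
  let b := Module.Free.chooseBasis A B
  haveI : Fintype (Module.Free.ChooseBasisIndex A B) := Module.Free.ChooseBasisIndex.fintype A B
  have hmem : ∀ i, ψ.toLinearMap (b i) ∈ p := by
    intro i
    have h1 := congrArg (fun ω : Omega p.ResidueField (p.Fiber B) =>
      ω.toLinearMap ((1 : p.ResidueField) ⊗ₜ[A] b i)) h
    simp only [bcK_tmul, Omega.zero_toLinearMap, LinearMap.zero_apply] at h1
    rw [← Algebra.algebraMap_eq_smul_one] at h1
    exact Ideal.algebraMap_residueField_eq_zero.mp h1
  have hsum : ψ = ∑ i, algebraMap A B (ψ.toLinearMap (b i)) • (⟨b.coord i⟩ : Omega A B) := by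
    apply Omega.ext
    apply LinearMap.ext
    intro y
    have hs : ∀ (s : Finset (Module.Free.ChooseBasisIndex A B)),
        (∑ i ∈ s, algebraMap A B (ψ.toLinearMap (b i)) • (⟨b.coord i⟩ : Omega A B)).toLinearMap y =
          ∑ i ∈ s, ψ.toLinearMap (b i) * b.coord i y := by
      intro s
      induction s using Finset.induction_on with
      | empty => simp
      | insert a s ha ih =>
        rw [Finset.sum_insert ha, Finset.sum_insert ha, Omega.add_toLinearMap, LinearMap.add_apply,
          ih, Omega.smul_toLinearMap_apply, ← Algebra.smul_def, map_smul, smul_eq_mul]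
    rw [hs]
    conv_lhs => rw [← b.sum_repr y, map_sum]
    apply Finset.sum_congr rfl
    intro i _
    rw [map_smul, smul_eq_mul, mul_comm]
    rfl
  rw [hsum]
  apply Submodule.sum_mem
  intro i _
  exact Submodule.smul_mem_smul (Ideal.mem_map_of_mem _ (hmem i)) Submodule.mem_top

/-- every functional on the fibre is, up to a denominator, the base change of a functional. -/
lemma exists_smul_eq_bcK (χ : Omega p.ResidueField (p.Fiber B)) :
    ∃ r : A, r ∉ p ∧ ∃ ψ : Omega A B,
      (algebraMap A p.ResidueField r ⊗ₜ[A] (1 : B) : p.Fiber B) • χ = bcK p ψ := by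
  classical
  let b := Module.Free.chooseBasis A B
  haveI : Fintype (Module.Free.ChooseBasisIndex A B) := Module.Free.ChooseBasisIndex.fintype A B
  have hden : ∀ x : p.ResidueField, ∃ r : A, r ∉ p ∧ ∃ a : A,
      algebraMap A p.ResidueField r * x = algebraMap A p.ResidueField a := by
    intro x
    obtain ⟨y, rfl⟩ := IsLocalRing.residue_surjective x
    obtain ⟨a, r, rfl⟩ := IsLocalization.exists_mk'_eq p.primeCompl y
    refine ⟨r.1, r.2, a, ?_⟩
    rw [IsScalarTower.algebraMap_apply A (Localization.AtPrime p) p.ResidueField,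
      IsScalarTower.algebraMap_apply A (Localization.AtPrime p) p.ResidueField,
      IsLocalRing.ResidueField.algebraMap_eq, ← map_mul, mul_comm, IsLocalization.mk'_spec]
  choose r hr a ha using fun i => hden (χ.toLinearMap ((1 : p.ResidueField) ⊗ₜ[A] b i))
  refine ⟨∏ i, r i, ?_, ⟨∑ i, (a i * ∏ j ∈ Finset.univ.erase i, r j) • b.coord i⟩, ?_⟩
  · intro hmem
    obtain ⟨i, -, hi⟩ := Ideal.IsPrime.prod_mem_iff.mp hmem
    exact hr i hi
  · apply Omega.ext
    apply (b.baseChange p.ResidueField).ext
    intro i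
    rw [Module.Basis.baseChange_apply, bcK_tmul, Omega.smul_toLinearMap_apply,
      Algebra.TensorProduct.tmul_mul_tmul, mul_one, one_mul]
    have h1 : (algebraMap A p.ResidueField (∏ i, r i) ⊗ₜ[A] b i : p.Fiber B) =
        algebraMap A p.ResidueField (∏ i, r i) • ((1 : p.ResidueField) ⊗ₜ[A] b i) := by
      rw [TensorProduct.smul_tmul', smul_eq_mul, mul_one]
    rw [h1, map_smul, smul_eq_mul, ← Finset.mul_prod_erase Finset.univ r (Finset.mem_univ i),
      map_mul, mul_comm (algebraMap A p.ResidueField (r i)), mul_assoc, ha i, ← map_mul,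
      ← Algebra.algebraMap_eq_smul_one]
    congr 1
    simp only [LinearMap.sum_apply, LinearMap.smul_apply, Module.Basis.coord_apply,
      Module.Basis.repr_self, smul_eq_mul]
    rw [Finset.sum_eq_single i]
    · rw [Finsupp.single_eq_same, mul_one, mul_comm]
    · intro j _ hji
      rw [Finsupp.single_eq_of_ne hji, mul_zero]
    · intro h; exact absurd (Finset.mem_univ i) h

end BC
end Groth.Agent.Lib.T2H4.GorOmega
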