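import Mathlib
import Groth.Prelude
import Groth.Agent.Lib.T2H4GorOmega1
set_option autoImplicit false
set_option linter.style.haveILetI false
universe u
open IsLocalRing TensorProduct

namespace Groth.Agent.Lib.T2H4.GorOmega

open Disc

section Desc
variable {A B : Type u} [CommRing A] [CommRing B] [Algebra A B]
  (p : Ideal A) [p.IsPrime]

lemma bcK_algebraMap_smul (r : A) (ψ : Omega A B) :
    bcK p (algebraMap A B r • ψ) = algebraMap A (p.Fiber B) r • bcK p ψ := by
  rw [bcK_smul, Algebra.TensorProduct.algebraMap_apply]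
  congr 1
  rw [Algebra.algebraMap_eq_smul_one, Algebra.algebraMap_eq_smul_one, TensorProduct.smul_tmul]

lemma isUnit_algebraMap_fiber (r : A) (hr : r ∉ p) : IsUnit (algebraMap A (p.Fiber B) r) := by
  rw [IsScalarTower.algebraMap_apply A p.ResidueField (p.Fiber B)]
  apply IsUnit.map
  rw [isUnit_iff_ne_zero]
  intro h0
  exact hr (Ideal.algebraMap_residueField_eq_zero.mp h0)

variable [Module.Finite A B] [Module.Free A B]

lemma exists_smul_eq_bcK' (χ : Omega p.ResidueField (p.Fiber B)) :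
    ∃ r : A, r ∉ p ∧ ∃ ψ : Omega A B, algebraMap A (p.Fiber B) r • χ = bcK p ψ := by
  obtain ⟨r, hr, ψ, h⟩ := exists_smul_eq_bcK p χ
  refine ⟨r, hr, ψ, ?_⟩
  rw [Algebra.TensorProduct.algebraMap_apply]
  exact h

/-- descent of a local generator from the fibre. -/
lemma exists_local_generator (n : Ideal B) [n.IsPrime] (hnp : n.comap (algebraMap A B) = p)
    (q : Ideal (p.Fiber B))
    (hqn : q.comap (Algebra.TensorProduct.includeRight : B →ₐ[A] p.Fiber B).toRingHom = n)
    (φC : Omega p.ResidueField (p.Fiber B))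
    (hφC : Submodule.span (p.Fiber B) {φC} ⊔
      q • (⊤ : Submodule (p.Fiber B) (Omega p.ResidueField (p.Fiber B))) = ⊤) :
    ∃ φ : Omega A B, ∀ ψ : Omega A B, ∃ t : B, t ∉ n ∧
      t • ψ ∈ Submodule.span B {φ} ⊔ n • (⊤ : Submodule B (Omega A B)) := by
  obtain ⟨r₀, hr₀, φ, hφ⟩ := exists_smul_eq_bcK' p φC
  refine ⟨φ, ?_⟩
  set N : Submodule B (Omega A B) :=
    Submodule.span B {φ} ⊔ n • (⊤ : Submodule B (Omega A B)) with hN
  let 𝒮 : Submodule (p.Fiber B) (Omega p.ResidueField (p.Fiber B)) :=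
    { carrier := {χ | ∃ r : A, r ∉ p ∧ ∃ ψ' ∈ N, algebraMap A (p.Fiber B) r • χ = bcK p ψ'}
      add_mem' := by
        rintro χ₁ χ₂ ⟨r₁, hr₁, ψ₁, hψ₁, h₁⟩ ⟨r₂, hr₂, ψ₂, hψ₂, h₂⟩
        refine ⟨r₁ * r₂, ?_, algebraMap A B r₂ • ψ₁ + algebraMap A B r₁ • ψ₂,
          N.add_mem (N.smul_mem _ hψ₁) (N.smul_mem _ hψ₂), ?_⟩
        · intro h
          rcases Ideal.IsPrime.mem_or_mem inferInstance h with h | h
          · exact hr₁ h
          · exact hr₂ h
        · rw [bcK_add, bcK_algebraMap_smul, bcK_algebraMap_smul, ← h₁, ← h₂, smul_add, map_mul,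
            smul_smul, smul_smul, mul_comm]
      zero_mem' := by
        refine ⟨1, ?_, 0, N.zero_mem, ?_⟩
        · intro h
          exact (inferInstance : p.IsPrime).ne_top ((Ideal.eq_top_iff_one p).mpr h)
        · rw [smul_zero, bcK_zero]
      smul_mem' := by
        rintro c χ ⟨r, hr, ψ', hψ', h⟩
        obtain ⟨rc, hrc, s, hs⟩ := Ideal.Fiber.exists_smul_eq_one_tmul p c
        refine ⟨rc * r, ?_, s • ψ', N.smul_mem _ hψ', ?_⟩
        · intro h
          rcases Ideal.IsPrime.mem_or_mem inferInstance h with h | h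
          · exact hrc h
          · exact hr h
        · rw [bcK_smul, ← hs, ← h, map_mul, smul_smul, smul_smul, Algebra.smul_def]
          congr 1
          ring }
  have hφmem : bcK p φ ∈ 𝒮 := by
    refine ⟨1, ?_, φ, Submodule.mem_sup_left (Submodule.subset_span rfl), ?_⟩
    · intro h
      exact (inferInstance : p.IsPrime).ne_top ((Ideal.eq_top_iff_one p).mpr h)
    · rw [map_one, one_smul]
  have hφC𝒮 : φC ∈ 𝒮 := by
    obtain ⟨u, hu⟩ := isUnit_algebraMap_fiber (B := B) p r₀ hr₀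
    have : φC = (↑u⁻¹ : p.Fiber B) • bcK p φ := by
      rw [← hφ, ← hu, smul_smul, Units.inv_mul, one_smul]
    rw [this]
    exact 𝒮.smul_mem _ hφmem
  have hq𝒮 : q • (⊤ : Submodule (p.Fiber B) (Omega p.ResidueField (p.Fiber B))) ≤ 𝒮 := by
    rw [Submodule.smul_le]
    intro c hc χ _
    obtain ⟨rc, hrc, s, hs⟩ := Ideal.Fiber.exists_smul_eq_one_tmul p c
    obtain ⟨r, hr, ψ', h⟩ := exists_smul_eq_bcK' p χ
    have hsn : s ∈ n := by
      rw [← hqn, Ideal.mem_comap]
      show (1 : p.ResidueField) ⊗ₜ[A] s ∈ q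
      rw [← hs, Algebra.smul_def]
      exact q.mul_mem_left _ hc
    refine ⟨rc * r, ?_, s • ψ',
      Submodule.mem_sup_right (Submodule.smul_mem_smul hsn Submodule.mem_top), ?_⟩
    · intro h
      rcases Ideal.IsPrime.mem_or_mem inferInstance h with h | h
      · exact hrc h
      · exact hr h
    · rw [bcK_smul, ← hs, ← h, map_mul, smul_smul, smul_smul, Algebra.smul_def]
      congr 1
      ring
  have htop : (⊤ : Submodule (p.Fiber B) (Omega p.ResidueField (p.Fiber B))) ≤ 𝒮 := by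
    rw [← hφC]
    exact sup_le ((Submodule.span_singleton_le_iff_mem _ _).mpr hφC𝒮) hq𝒮
  intro ψ
  obtain ⟨r, hr, ψ', hψ', h⟩ := htop (Submodule.mem_top : bcK p ψ ∈ ⊤)
  refine ⟨algebraMap A B r, ?_, ?_⟩
  · intro hmem
    apply hr
    rw [← hnp]
    exact hmem
  · have h0 : bcK p (algebraMap A B r • ψ - ψ') = 0 := by
      rw [bcK_sub, bcK_algebraMap_smul, h, sub_self]
    have h1 := mem_smul_top_of_bcK_eq_zero p _ h0
    have hpn : p.map (algebraMap A B) ≤ n := by
      rw [Ideal.map_le_iff_le_comap, hnp]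
    have h2 : algebraMap A B r • ψ - ψ' ∈ N :=
      Submodule.mem_sup_right (Submodule.smul_mono_left hpn h1)
    have := N.add_mem h2 hψ'
    rwa [sub_add_cancel] at this

end Desc
end Groth.Agent.Lib.T2H4.GorOmega
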