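import Mathlib
set_option autoImplicit false
set_option linter.style.haveILetI false
universe u
open IsLocalRing TensorProduct

namespace Groth.Agent.Lib.T2H4.GorOmega

section Nak
variable {B : Type u} [CommRing B] (M : Type u) [AddCommGroup M] [Module B M] [Module.Finite B M]
  (n : Ideal B) [n.IsPrime]

/-- a finite faithful module which is generated by one element modulo `n`, locally at `n`, is free
of rank one at `n`. -/
theorem nonempty_equiv_of_local_generator
    (hfaith : ∀ b : B, (∀ x : M, b • x = 0) → b = 0)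
    (hgen : ∃ φ : M, ∀ ψ : M, ∃ t : B, t ∉ n ∧
      t • ψ ∈ Submodule.span B {φ} ⊔ n • (⊤ : Submodule B M)) :
    Nonempty (Localization.AtPrime n ⊗[B] M ≃ₗ[Localization.AtPrime n] Localization.AtPrime n) := by
  classical
  obtain ⟨φ, hφ⟩ := hgen
  set f : M →ₗ[B] Localization.AtPrime n ⊗[B] M := TensorProduct.mk B (Localization.AtPrime n) M 1
    with hf
  haveI : IsLocalizedModule n.primeCompl f :=
    IsLocalization.tensorProduct_isLocalizedModule n.primeCompl (Localization.AtPrime n)
  set N₁ : Submodule (Localization.AtPrime n) (Localization.AtPrime n ⊗[B] M) :=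
    Submodule.span (Localization.AtPrime n) {f φ} ⊔
      maximalIdeal (Localization.AtPrime n) •
        (⊤ : Submodule (Localization.AtPrime n) (Localization.AtPrime n ⊗[B] M)) with hN₁
  -- Step 1
  have h1 : Submodule.span B {φ} ⊔ n • (⊤ : Submodule B M) ≤
      (N₁.restrictScalars B).comap f := by
    apply sup_le
    · rw [Submodule.span_singleton_le_iff_mem]
      exact Submodule.mem_sup_left (Submodule.subset_span rfl)
    · rw [Submodule.smul_le]
      intro a ha x _
      show f (a • x) ∈ N₁
      rw [map_smul, ← algebraMap_smul (Localization.AtPrime n) a (f x)]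
      refine Submodule.mem_sup_right (Submodule.smul_mem_smul ?_ Submodule.mem_top)
      exact (IsLocalization.AtPrime.to_map_mem_maximal_iff _ n a).mpr ha
  have h2 : ∀ ψ : M, f ψ ∈ N₁ := by
    intro ψ
    obtain ⟨t, ht, hmem⟩ := hφ ψ
    have h3 : f (t • ψ) ∈ N₁ := h1 hmem
    rw [map_smul, ← algebraMap_smul (Localization.AtPrime n) t (f ψ)] at h3
    have hu : IsUnit (algebraMap B (Localization.AtPrime n) t) :=
      IsLocalization.map_units _ (⟨t, ht⟩ : n.primeCompl)
    obtain ⟨u, hu⟩ := hu
    have : f ψ = (↑u⁻¹ : Localization.AtPrime n) • (algebraMap B (Localization.AtPrime n) t • f ψ) := by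
      rw [← hu, smul_smul, Units.inv_mul, one_smul]
    rw [this]
    exact N₁.smul_mem _ h3
  -- Step 2
  have htop : (⊤ : Submodule (Localization.AtPrime n) (Localization.AtPrime n ⊗[B] M)) ≤ N₁ := by
    intro y _
    clear * - h2 hf
    induction y using TensorProduct.induction_on with
    | zero => exact N₁.zero_mem
    | tmul ℓ x =>
      have : ℓ ⊗ₜ[B] x = ℓ • f x := by
        rw [hf, TensorProduct.mk_apply, TensorProduct.smul_tmul', smul_eq_mul, mul_one]
      rw [this]
      exact N₁.smul_mem _ (h2 x)
    | add y z hy hz => exact N₁.add_mem hy hz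
  -- Step 3: Nakayama
  have hspan : (⊤ : Submodule (Localization.AtPrime n) (Localization.AtPrime n ⊗[B] M)) ≤
      Submodule.span (Localization.AtPrime n) {f φ} :=
    Submodule.le_of_le_smul_of_le_jacobson_bot Module.Finite.fg_top
      (IsLocalRing.maximalIdeal_le_jacobson ⊥) htop
  -- Step 5: faithfulness
  have hfaithW : ∀ ℓ : Localization.AtPrime n,
      (∀ y : Localization.AtPrime n ⊗[B] M, ℓ • y = 0) → ℓ = 0 := by
    intro ℓ hℓ
    obtain ⟨b, s, rfl⟩ := IsLocalization.exists_mk'_eq n.primeCompl ℓ
    have hb : ∀ x : M, ∃ t : n.primeCompl, t • b • x = 0 := by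
      intro x
      rw [← IsLocalizedModule.eq_zero_iff n.primeCompl f, map_smul,
        ← algebraMap_smul (Localization.AtPrime n) b (f x),
        ← IsLocalization.mk'_spec (Localization.AtPrime n) b s, mul_smul, smul_comm, hℓ, smul_zero]
    obtain ⟨G, hG⟩ := (Module.Finite.fg_top : (⊤ : Submodule B M).FG)
    choose t ht using hb
    have hkill : ∀ x ∈ G, ((∏ y ∈ G, (t y : B)) * b) • x = 0 := by
      intro x hx
      rw [← Finset.prod_erase_mul G _ hx, mul_assoc, mul_smul]
      have := ht x
      rw [Submonoid.smul_def, ← mul_smul] at this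
      rw [this, smul_zero]
    have hall : ∀ x : M, ((∏ y ∈ G, (t y : B)) * b) • x = 0 := by
      intro x
      have hx : x ∈ Submodule.span B (G : Set M) := by rw [hG]; exact Submodule.mem_top
      refine Submodule.span_induction ?_ ?_ ?_ ?_ hx
      · intro y hy
        exact hkill y hy
      · exact smul_zero _
      · intro y z _ _ hy hz
        rw [smul_add, hy, hz, add_zero]
      · intro c y _ hy
        rw [smul_comm, hy, smul_zero]
    have h0 := hfaith _ hall
    have hprod : (∏ y ∈ G, (t y : B)) ∈ n.primeCompl := by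
      apply Submonoid.prod_mem
      intro y _
      exact (t y).2
    have : algebraMap B (Localization.AtPrime n) b = 0 := by
      rw [IsLocalization.map_eq_zero_iff n.primeCompl]
      exact ⟨⟨_, hprod⟩, h0⟩
    rw [IsLocalization.mk'_eq_zero_iff]
    exact ⟨⟨_, hprod⟩, h0⟩
  -- Step 4
  refine ⟨(LinearEquiv.ofBijective
    (LinearMap.toSpanSingleton (Localization.AtPrime n) (Localization.AtPrime n ⊗[B] M) (f φ))
    ⟨?_, ?_⟩).symm⟩
  · rw [← LinearMap.ker_eq_bot, eq_bot_iff]
    intro ℓ hℓ
    rw [LinearMap.mem_ker, LinearMap.toSpanSingleton_apply] at hℓ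
    rw [Submodule.mem_bot]
    apply hfaithW
    intro y
    obtain ⟨c, rfl⟩ := Submodule.mem_span_singleton.mp (hspan (Submodule.mem_top : y ∈ ⊤))
    rw [smul_comm, hℓ, smul_zero]
  · intro y
    obtain ⟨c, rfl⟩ := Submodule.mem_span_singleton.mp (hspan (Submodule.mem_top : y ∈ ⊤))
    exact ⟨c, by rw [LinearMap.toSpanSingleton_apply]⟩

end Nak
end Groth.Agent.Lib.T2H4.GorOmega
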