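import Mathlib
import Groth.Prelude
import Groth.Agent.Lib.T2H4GorOmega0
import Groth.Agent.Lib.T2H4GorOmega2
import Groth.Agent.Lib.T2H4GorOmega3
import Groth.Agent.Lib.T2H4InvCrit
set_option autoImplicit false
set_option linter.style.haveILetI false
universe u
open IsLocalRing TensorProduct CategoryTheory

namespace Groth.Agent.Lib.T2H4.GorOmega

open Disc

section SelfInj
variable {C : Type u} [CommRing C] [IsNoetherianRing C]

/-- a Noetherian self-injective ring is Gorenstein. -/
lemma gorRing_of_injective_self (h : Module.Injective C C) : LocCoh.IsGorensteinRing C := by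
  refine { isGorensteinLocalRing_localization := ?_ }
  intro Q _
  haveI : Module.Injective (Localization.AtPrime Q) (Localization.AtPrime Q) :=
    Module.injective_of_isLocalizedModule Q.primeCompl
      (Algebra.linearMap C (Localization.AtPrime Q))
  have hobj : CategoryTheory.Injective (ModuleCat.of (Localization.AtPrime Q)
      (Localization.AtPrime Q)) :=
    Module.injective_object_of_injective_module (Localization.AtPrime Q) (Localization.AtPrime Q)
  exact @LocCoh.IsGorensteinLocalRing.mk (Localization.AtPrime Q) _ inferInstance inferInstance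
    ⟨1, injective_iff_hasInjectiveDimensionLT_one.mp hobj⟩

end SelfInj

section Free
variable {A B : Type u} [CommRing A] [CommRing B] [Algebra A B] [Module.Finite A B]
  [Module.Free A B]

lemma omega_eq_sum (ψ : Omega A B) :
    letI := Module.Free.ChooseBasisIndex.fintype A B
    ψ = ∑ i, algebraMap A B (ψ.toLinearMap (Module.Free.chooseBasis A B i)) •
      (⟨(Module.Free.chooseBasis A B).coord i⟩ : Omega A B) := by
  classical
  apply Omega.ext
  apply LinearMap.ext
  intro y
  have hs : ∀ (s : Finset (Module.Free.ChooseBasisIndex A B)),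
      (∑ i ∈ s, algebraMap A B (ψ.toLinearMap (Module.Free.chooseBasis A B i)) •
        (⟨(Module.Free.chooseBasis A B).coord i⟩ : Omega A B)).toLinearMap y =
        ∑ i ∈ s, ψ.toLinearMap (Module.Free.chooseBasis A B i) *
          (Module.Free.chooseBasis A B).coord i y := by
    intro s
    induction s using Finset.induction_on with
    | empty => simp
    | insert a s ha ih =>
      rw [Finset.sum_insert ha, Finset.sum_insert ha, Omega.add_toLinearMap, LinearMap.add_apply,
        ih, Omega.smul_toLinearMap_apply, ← Algebra.smul_def, map_smul, smul_eq_mul]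
  rw [hs]
  conv_lhs => rw [← (Module.Free.chooseBasis A B).sum_repr y, map_sum]
  apply Finset.sum_congr rfl
  intro i _
  rw [map_smul, smul_eq_mul, mul_comm]
  rfl

instance omega_finite : Module.Finite B (Omega A B) := by
  classical
  letI := Module.Free.ChooseBasisIndex.fintype A B
  refine ⟨⟨Finset.univ.image (fun i => (⟨(Module.Free.chooseBasis A B).coord i⟩ : Omega A B)),
    ?_⟩⟩
  rw [eq_top_iff]
  intro ψ _
  rw [omega_eq_sum ψ]
  apply Submodule.sum_mem
  intro i _
  apply Submodule.smul_mem
  apply Submodule.subset_span
  rw [Finset.coe_image]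
  exact ⟨i, Finset.mem_coe.mpr (Finset.mem_univ i), rfl⟩

lemma omega_faithful_of_free (b : B) (h : ∀ ψ : Omega A B, b • ψ = 0) : b = 0 := by
  rw [← (Module.Free.chooseBasis A B).forall_coord_eq_zero_iff]
  intro i
  have h1 := congrArg (fun ω : Omega A B => ω.toLinearMap 1)
    (h ⟨(Module.Free.chooseBasis A B).coord i⟩)
  simp only [Omega.smul_toLinearMap_apply, mul_one, Omega.zero_toLinearMap,
    LinearMap.zero_apply] at h1
  exact h1

end Free

section Main
variable {A B : Type u} [CommRing A] [CommRing B] [Algebra A B] [IsNoetherianRing A]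
  [Module.Finite A B] [Module.Free A B]

/-- Gorenstein fibres imply that the relative dualizing module is invertible. -/
theorem invertible_of_gorenstein_fibers
    (h : ∀ (p : Ideal A) [p.IsPrime], LocCoh.IsGorensteinRing (p.Fiber B)) :
    Module.Invertible B (Omega A B) := by
  haveI : IsNoetherianRing B := IsNoetherianRing.of_finite A B
  haveI : Module.FinitePresentation B (Omega A B) := Module.finitePresentation_of_finite B _
  apply Groth.Agent.Lib.T2H4.InvCrit.invertible_of_local
  intro n hn
  haveI hp : (n.comap (algebraMap A B)).IsPrime := Ideal.comap_isPrime _ _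
  let P : PrimeSpectrum A := ⟨n.comap (algebraMap A B), hp⟩
  let N : (PrimeSpectrum.comap (algebraMap A B)) ⁻¹' {P} := ⟨⟨n, inferInstance⟩, rfl⟩
  let Q := PrimeSpectrum.preimageEquivFiber A B P N
  have hQN : (PrimeSpectrum.preimageEquivFiber A B P).symm Q = N := Equiv.symm_apply_apply _ _
  have hqn : Q.asIdeal.comap
      (Algebra.TensorProduct.includeRight : B →ₐ[A] (n.comap (algebraMap A B)).Fiber B).toRingHom
      = n := by
    have := congrArg (fun x => x.1.asIdeal) hQN
    exact this
  haveI : IsArtinianRing ((n.comap (algebraMap A B)).Fiber B) :=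
    IsArtinianRing.of_finite (n.comap (algebraMap A B)).ResidueField _
  haveI : Q.asIdeal.IsMaximal := IsArtinianRing.isMaximal_of_isPrime Q.asIdeal
  haveI : IsArtinianRing (Localization.AtPrime Q.asIdeal) :=
    IsArtinianRing.localization_artinian Q.asIdeal.primeCompl _
  haveI := (h (n.comap (algebraMap A B))).isGorensteinLocalRing_localization Q.asIdeal
  have hT1 := Groth.Agent.Lib.Helper5.GorArt.T1_of_gor (Localization.AtPrime Q.asIdeal)
  have hsoc := exists_generator_socle Q.asIdeal hT1
  obtain ⟨φC, hφC⟩ := exists_generator_omega
    (K := (n.comap (algebraMap A B)).ResidueField) Q.asIdeal hsoc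
  have hgen := exists_local_generator (n.comap (algebraMap A B)) n rfl Q.asIdeal hqn φC hφC
  exact nonempty_equiv_of_local_generator (Omega A B) n omega_faithful_of_free hgen

end Main
end Groth.Agent.Lib.T2H4.GorOmega
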