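import Mathlib
import Groth.Prelude
import Groth.Agent.Lib.T2H4GorOmega4
set_option autoImplicit false
set_option linter.style.haveILetI false
universe u
open IsLocalRing TensorProduct CategoryTheory

namespace Groth.Agent.Lib.T2H4.GorOmega

open Disc

section Conv
variable {A B : Type u} [CommRing A] [CommRing B] [Algebra A B] [IsNoetherianRing A]
  [Module.Finite A B] [Module.Free A B]

attribute [local instance] Algebra.TensorProduct.rightAlgebra in
/-- if the relative dualizing module is invertible then the fibres are Gorenstein. -/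
theorem gorenstein_fiber_of_invertible [Module.Invertible B (Omega A B)] (p : Ideal A)
    [p.IsPrime] : LocCoh.IsGorensteinRing (p.Fiber B) := by
  haveI : IsArtinianRing (p.Fiber B) := IsArtinianRing.of_finite p.ResidueField _
  haveI : IsNoetherianRing (p.Fiber B) := inferInstance
  letI : Module B (Omega p.ResidueField (p.Fiber B)) :=
    Module.compHom _ (algebraMap B (p.Fiber B))
  haveI : IsScalarTower B (p.Fiber B) (Omega p.ResidueField (p.Fiber B)) :=
    IsScalarTower.of_algebraMap_smul fun _ _ => rfl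
  let bcKₗ : Omega A B →ₗ[B] Omega p.ResidueField (p.Fiber B) :=
    { toFun := bcK p
      map_add' := bcK_add p
      map_smul' := fun b ψ => by rw [bcK_smul]; rfl }
  let Φ : (p.Fiber B) ⊗[B] (Omega A B) →ₗ[p.Fiber B] Omega p.ResidueField (p.Fiber B) :=
    LinearMap.liftBaseChange (p.Fiber B) bcKₗ
  have hΦ : Function.Surjective Φ := by
    intro χ
    obtain ⟨r, hr, ψ, h⟩ := exists_smul_eq_bcK' p χ
    obtain ⟨u, hu⟩ := isUnit_algebraMap_fiber (B := B) p r hr
    refine ⟨(↑u⁻¹ : p.Fiber B) ⊗ₜ[B] ψ, ?_⟩
    rw [LinearMap.liftBaseChange_tmul]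
    show (↑u⁻¹ : p.Fiber B) • bcK p ψ = χ
    rw [← h, ← hu, smul_smul, Units.inv_mul, one_smul]
  haveI : Module.Invertible (p.Fiber B) ((p.Fiber B) ⊗[B] (Omega A B)) := inferInstance
  haveI : Module.Free (p.Fiber B) ((p.Fiber B) ⊗[B] (Omega A B)) := inferInstance
  obtain ⟨e⟩ := (Module.Invertible.free_iff_linearEquiv (R := p.Fiber B)
    (M := (p.Fiber B) ⊗[B] (Omega A B))).mp inferInstance
  let g : p.Fiber B →ₗ[p.Fiber B] Omega p.ResidueField (p.Fiber B) := Φ ∘ₗ e.symm.toLinearMap
  have hg : Function.Surjective g := hΦ.comp e.symm.surjective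
  have hginj : Function.Injective g := by
    rw [← LinearMap.ker_eq_bot, eq_bot_iff]
    intro c hc
    rw [LinearMap.mem_ker] at hc
    rw [Submodule.mem_bot]
    apply omega_faithful (K := p.ResidueField) c
    intro χ
    obtain ⟨c', rfl⟩ := hg χ
    rw [← map_smul, smul_eq_mul, mul_comm, ← smul_eq_mul, map_smul, hc, smul_zero]
  let E : p.Fiber B ≃ₗ[p.Fiber B] Omega p.ResidueField (p.Fiber B) :=
    LinearEquiv.ofBijective g ⟨hginj, hg⟩
  have hinj : Module.Injective (p.Fiber B) (p.Fiber B) :=
    (Module.Baer.of_equiv E.symm (Module.Baer.of_injective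
      (omega_injective (K := p.ResidueField) (C := p.Fiber B)))).injective
  exact gorRing_of_injective_self hinj

end Conv
end Groth.Agent.Lib.T2H4.GorOmega
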