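import Mathlib
import Groth.Agent.Lib.T2H7KRegI
import Groth.Agent.Lib.T2H9RegImmBC

/-!
# Flat base change and local preimages of Koszul-regular ideals (helper7)

* `kreg_map_of_bijective`, `kreg_away_model_iff`.
* `torsAt_map_of_flat`, `genAt_map`, `isKoszulRegularIdeal_map_of_flat`: flat base change.
* `isKoszulRegularIdeal_comap_of_ker`: preimage under a surjection whose kernel is a
  Koszul-regular ideal.
-/

set_option autoImplicit false

namespace Groth.Agent.Lib.T2H7.KRegK
open Groth.Agent.Lib.T2H7.KRegA Groth.Agent.Lib.T2H7.KRegB Groth.Agent.Lib.T2H7.KRegD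
open Groth.Agent.Lib.T2H7.KRegE Groth.Agent.Lib.T2H7.KRegH Groth.Agent.Lib.T2H7.KRegI
open scoped TensorProduct

universe u

section AwayModel
variable {C : Type u} [CommRing C]

/-- Koszul-regularity transfers along ring isomorphisms -/
theorem kreg_map_of_bijective {T T' : Type u} [CommRing T] [CommRing T'] (e : T →+* T')
    (he : Function.Bijective e) (l : List T) (h : LCI.IsKoszulRegularSeq T l) :
    LCI.IsKoszulRegularSeq T' (l.map e) :=
  Groth.Agent.Lib.T2H9.RegImmBC.isKoszulRegularSeq_map_of_flat e (RingHom.Flat.of_bijective he) l h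

/-- `isKoszulRegularSeq_away_iff` for an arbitrary model of the localization -/
theorem kreg_away_model_iff (g : C) (T : Type u) [CommRing T] [Algebra C T]
    [IsLocalization.Away g T] (l : List C) :
    LCI.IsKoszulRegularSeq T (l.map (algebraMap C T)) ↔ TorsAt g l := by
  rw [← isKoszulRegularSeq_away_iff]
  let e : Localization.Away g ≃ₐ[C] T := IsLocalization.algEquiv (Submonoid.powers g) _ _
  have h1 : (l.map (algebraMap C (Localization.Away g))).map (e : Localization.Away g →+* T) =
      l.map (algebraMap C T) := by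
    rw [List.map_map]
    apply List.map_congr_left
    intro a _
    exact e.commutes a
  have h2 : (l.map (algebraMap C T)).map (e.symm : T →+* Localization.Away g) =
      l.map (algebraMap C (Localization.Away g)) := by
    rw [List.map_map]
    apply List.map_congr_left
    intro a _
    exact e.symm.commutes a
  constructor
  · intro h
    rw [← h2]
    exact kreg_map_of_bijective _ e.symm.bijective _ h
  · intro h
    rw [← h1]
    exact kreg_map_of_bijective _ e.bijective _ h

end AwayModel

section FlatBC
variable {A B : Type u} [CommRing A] [CommRing B] [Algebra A B]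

attribute [local instance] Algebra.TensorProduct.rightAlgebra

/-- torsion of Koszul homology is preserved by flat base change -/
theorem torsAt_map_of_flat [Module.Flat A B] (g : A) (l : List A) (h : TorsAt g l) :
    TorsAt (algebraMap A B g) (l.map (algebraMap A B)) := by
  let Ag := Localization.Away g
  let T := Ag ⊗[A] B
  have hloc : IsLocalization.Away (algebraMap A B g) T := inferInstance
  have hflat : Module.Flat Ag T := inferInstance
  rw [← kreg_away_model_iff (algebraMap A B g) T]
  have h2 : (l.map (algebraMap A B)).map (algebraMap B T) =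
      (l.map (algebraMap A Ag)).map (algebraMap Ag T) := by
    rw [List.map_map, List.map_map]
    apply List.map_congr_left
    intro a _
    simp only [Function.comp_apply]
    rw [← IsScalarTower.algebraMap_apply A B T, ← IsScalarTower.algebraMap_apply A Ag T]
  rw [h2]
  exact Groth.Agent.Lib.T2H9.RegImmBC.isKoszulRegularSeq_map_of_flat (algebraMap Ag T)
    (RingHom.flat_algebraMap_iff.mpr hflat) _ ((isKoszulRegularSeq_away_iff g l).mpr h)

/-- generation is preserved by base change -/
theorem genAt_map (g : A) (I : Ideal A) (l : List A) (h : GenAt g I l) :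
    GenAt (algebraMap A B g) (I.map (algebraMap A B)) (l.map (algebraMap A B)) := by
  constructor
  · intro x hx
    unfold Ideal.map at hx
    induction hx using Submodule.span_induction with
    | mem y hy =>
      obtain ⟨a, ha, rfl⟩ := hy
      obtain ⟨k, hk⟩ := h.1 a ha
      refine ⟨k, ?_⟩
      rw [← map_pow, ← map_mul, ← Ideal.map_ofList]
      exact Ideal.mem_map_of_mem _ hk
    | zero => exact ⟨0, by simp⟩
    | add y z _ _ hy hz =>
      obtain ⟨k₁, h₁⟩ := hy
      obtain ⟨k₂, h₂⟩ := hz
      refine ⟨max k₁ k₂, ?_⟩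
      rw [mul_add]
      exact Ideal.add_mem _ (pow_mul_mem_of_le (le_max_left _ _) h₁)
        (pow_mul_mem_of_le (le_max_right _ _) h₂)
    | smul c y _ hy =>
      obtain ⟨k, hk⟩ := hy
      refine ⟨k, ?_⟩
      rw [smul_eq_mul, mul_left_comm]
      exact Ideal.mul_mem_left _ _ hk
  · intro y hy
    obtain ⟨x, hx, rfl⟩ := List.mem_map.mp hy
    obtain ⟨k, hk⟩ := h.2 x hx
    refine ⟨k, ?_⟩
    rw [← map_pow, ← map_mul]
    exact Ideal.mem_map_of_mem _ hk

/-- Koszul-regular ideals are preserved by flat base change -/
theorem isKoszulRegularIdeal_map_of_flat [Module.Flat A B] (I : Ideal A)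
    (h : LCI.IsKoszulRegularIdeal I) : LCI.IsKoszulRegularIdeal (I.map (algebraMap A B)) := by
  rw [isKoszulRegularIdeal_iff] at h ⊢
  intro 𝔮 h𝔮 hle
  have h𝔭 : (𝔮.comap (algebraMap A B)).IsPrime := Ideal.comap_isPrime _ _
  obtain ⟨g, hg, l, hgen, htors⟩ := h (𝔮.comap (algebraMap A B)) h𝔭
    (Ideal.map_le_iff_le_comap.mp hle)
  exact ⟨algebraMap A B g, hg, l.map (algebraMap A B), genAt_map g I l hgen,
    torsAt_map_of_flat g l htors⟩

end FlatBC

section ComapLocal
variable {D C : Type u} [CommRing D] [CommRing C]

/-- the preimage of a Koszul-regular ideal under a surjection whose kernel is a Koszul-regular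
ideal is Koszul-regular -/
theorem isKoszulRegularIdeal_comap_of_ker (π : D →+* C) (hπ : Function.Surjective π)
    (hker : LCI.IsKoszulRegularIdeal (RingHom.ker π)) (J : Ideal C)
    (hJ : LCI.IsKoszulRegularIdeal J) : LCI.IsKoszulRegularIdeal (J.comap π) := by
  rw [isKoszulRegularIdeal_iff]
  intro 𝔓 h𝔓 hle
  have hkerle : RingHom.ker π ≤ 𝔓 := le_trans (fun x hx => by
    rw [Ideal.mem_comap, (RingHom.mem_ker).mp hx]; exact J.zero_mem) hle
  obtain ⟨g, hg, ws, hgen, htors⟩ := (isKoszulRegularIdeal_iff _).mp hker 𝔓 h𝔓 hkerle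
  apply kRegAt_of_away g (J.comap π) 𝔓 hg
  let D' := Localization.Away g
  let C' := Localization.Away (π g)
  let π' : D' →+* C' := IsLocalization.Away.map D' C' π g
  have hπ'alg : ∀ d : D, π' (algebraMap D D' d) = algebraMap C C' (π d) := fun d =>
    IsLocalization.map_eq _ d
  have hπ' : Function.Surjective π' := by
    rw [IsLocalization.Away.map_surjective_iff]
    intro a
    obtain ⟨b, rfl⟩ := hπ a
    exact ⟨b, 0, by simp⟩
  have hug : ∀ k : ℕ, IsUnit (algebraMap D D' (g ^ k)) := fun k => by
    rw [map_pow]
    exact (IsLocalization.Away.algebraMap_isUnit g).pow k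
  -- a general description of preimages under `π'`
  have hcomap : ∀ K : Ideal C, (K.map (algebraMap C C')).comap π' =
      (K.comap π).map (algebraMap D D') := by
    intro K
    apply le_antisymm
    · intro x hx
      obtain ⟨⟨d, s⟩, rfl⟩ := IsLocalization.mk'_surjective (Submonoid.powers g) x
      obtain ⟨n, hn⟩ := s.2
      have h1 : π' (algebraMap D D' d) ∈ K.map (algebraMap C C') := by
        have : algebraMap D D' d = IsLocalization.mk' D' d s * algebraMap D D' s :=
          (IsLocalization.mk'_spec D' d s).symm
        rw [this, map_mul]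
        exact Ideal.mul_mem_right _ _ hx
      rw [hπ'alg, IsLocalization.algebraMap_mem_map_algebraMap_iff (Submonoid.powers (π g))] at h1
      obtain ⟨m, ⟨k, rfl⟩, hm⟩ := h1
      have h2 : g ^ k * d ∈ K.comap π := by
        rw [Ideal.mem_comap, map_mul, map_pow]; exact hm
      have h3 : algebraMap D D' (g ^ k) * algebraMap D D' d ∈ (K.comap π).map (algebraMap D D') := by
        rw [← map_mul]; exact Ideal.mem_map_of_mem _ h2
      rw [Ideal.unit_mul_mem_iff_mem _ (hug k)] at h3
      have h4 : IsLocalization.mk' D' d s * algebraMap D D' s ∈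
          (K.comap π).map (algebraMap D D') := by
        rw [IsLocalization.mk'_spec]; exact h3
      have hus : IsUnit (algebraMap D D' s) := by
        rw [← hn]; exact hug n
      exact (Ideal.mul_unit_mem_iff_mem _ hus).mp h4
    · rw [Ideal.map_le_iff_le_comap]
      intro d hd
      rw [Ideal.mem_comap, Ideal.mem_comap, hπ'alg]
      exact Ideal.mem_map_of_mem _ hd
  have hker' : RingHom.ker π' = Ideal.ofList (ws.map (algebraMap D D')) := by
    have h0 : RingHom.ker π' = ((⊥ : Ideal C).map (algebraMap C C')).comap π' := by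
      rw [Ideal.map_bot]; rfl
    rw [h0, hcomap ⊥, ← Ideal.map_ofList, ← map_eq_of_genAt hgen]
    rfl
  have hws' : LCI.IsKoszulRegularSeq D' (ws.map (algebraMap D D')) :=
    (isKoszulRegularSeq_away_iff g ws).mpr htors
  have hJ' : LCI.IsKoszulRegularIdeal (J.map (algebraMap C C')) :=
    isKoszulRegularIdeal_map_of_flat J hJ
  have h5 := isKoszulRegularIdeal_comap π' hπ' _ hker' hws' _ hJ'
  rw [hcomap J] at h5
  have hprime : (𝔓.map (algebraMap D D')).IsPrime :=
    IsLocalization.isPrime_of_isPrime_disjoint (Submonoid.powers g) _ _ h𝔓 (by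
      rw [Set.disjoint_left]
      rintro x ⟨n, rfl⟩ hx
      exact hg (h𝔓.mem_of_pow_mem n hx))
  exact (isKoszulRegularIdeal_iff _).mp h5 _ hprime (Ideal.map_mono hle)

end ComapLocal

end Groth.Agent.Lib.T2H7.KRegK
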