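import Mathlib
import Groth.Agent.Lib.T2H7KRegD
import Groth.Agent.S15821

/-!
# The standard presentation of a principal localization of a polynomial ring (helper7)

For `G : R[x₁..xₙ]`, the map `pres R G : R[t, x₁..xₙ] → R[x][1/G]`, `t ↦ 1/G`, is surjective with
kernel generated by the nonzerodivisor `rel R G = t G - 1` (`ker_pres`, `isSMulRegular_rel`), and
an ideal of `R[x][1/G]` whose preimage is Koszul-regular is Koszul-regular
(`isKoszulRegularIdeal_of_comap_pres`).
-/

set_option autoImplicit false

namespace Groth.Agent.Lib.T2H7.KRegF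
open MvPolynomial

universe u

section Poly
variable {P : Type u} [CommRing P]

/-- `X * C G - 1` is a nonzerodivisor of `P[X]` -/
theorem isSMulRegular_X_mul_C_sub_one (G : P) :
    IsSMulRegular (Polynomial P) (Polynomial.X * Polynomial.C G - 1) := by
  have key : ∀ q : Polynomial P, (Polynomial.X * Polynomial.C G - 1) * q = 0 → q = 0 := by
    intro q hq
    have h1 : Polynomial.X * (Polynomial.C G * q) = q := by
      have : (Polynomial.X * Polynomial.C G - 1) * q = Polynomial.X * (Polynomial.C G * q) - q := by
        ring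
      rw [this, sub_eq_zero] at hq
      exact hq
    ext m
    rw [Polynomial.coeff_zero]
    induction m with
    | zero =>
      rw [← h1, Polynomial.coeff_X_mul_zero]
    | succ m ih =>
      rw [← h1, Polynomial.coeff_X_mul, Polynomial.coeff_C_mul, ih, mul_zero]
  intro q₁ q₂ h
  have h' : (Polynomial.X * Polynomial.C G - 1) * (q₁ - q₂) = 0 := by
    rw [mul_sub, sub_eq_zero]
    exact h
  exact sub_eq_zero.mp (key _ h')

end Poly

section Pres
variable (R : Type u) [CommRing R] {n : ℕ} (G : MvPolynomial (Fin n) R)

/-- the inclusion `R[x₁..xₙ] → R[t, x₁..xₙ]` -/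
noncomputable def inc : MvPolynomial (Fin n) R →ₐ[R] MvPolynomial (Fin (n + 1)) R :=
  rename Fin.succ

/-- the presentation `R[t, x] → R[x][1/G]`, `t ↦ 1/G` -/
noncomputable def pres : MvPolynomial (Fin (n + 1)) R →ₐ[R] Localization.Away G :=
  aeval (Fin.cons (IsLocalization.Away.invSelf G)
    (fun i => algebraMap (MvPolynomial (Fin n) R) (Localization.Away G) (X i)))

/-- the relation `t G - 1` -/
noncomputable def rel : MvPolynomial (Fin (n + 1)) R := X 0 * inc R G - 1

lemma pres_inc (p : MvPolynomial (Fin n) R) :
    pres R G (inc R p) = algebraMap (MvPolynomial (Fin n) R) (Localization.Away G) p := by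
  unfold pres inc
  rw [aeval_rename]
  have h1 : (Fin.cons (IsLocalization.Away.invSelf G)
      (fun i => algebraMap (MvPolynomial (Fin n) R) (Localization.Away G) (X i)) :
        Fin (n + 1) → Localization.Away G) ∘ Fin.succ =
      fun i => algebraMap (MvPolynomial (Fin n) R) (Localization.Away G) (X i) := by
    funext i
    simp
  rw [h1]
  have h2 := MvPolynomial.aeval_unique
    (IsScalarTower.toAlgHom R (MvPolynomial (Fin n) R) (Localization.Away G))
  exact (DFunLike.congr_fun h2 p).symm

lemma pres_X_zero : pres R G (X 0) = IsLocalization.Away.invSelf G := by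
  unfold pres
  rw [aeval_X]
  simp

lemma pres_rel : pres R G (rel R G) = 0 := by
  unfold rel
  rw [map_sub, map_mul, pres_X_zero, pres_inc, map_one, mul_comm,
    IsLocalization.Away.mul_invSelf, sub_self]

lemma pres_surjective : Function.Surjective (pres R G) := by
  intro y
  obtain ⟨p, ⟨_, k, rfl⟩, rfl⟩ := IsLocalization.exists_mk'_eq (Submonoid.powers G) y
  refine ⟨inc R p * X 0 ^ k, ?_⟩
  rw [map_mul, map_pow, pres_inc, pres_X_zero, IsLocalization.eq_mk'_iff_mul_eq]
  show _ * algebraMap _ _ (G ^ k) = _
  rw [map_pow, mul_assoc, ← mul_pow, mul_comm (IsLocalization.Away.invSelf G),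
    IsLocalization.Away.mul_invSelf, one_pow, mul_one]

theorem ker_pres : RingHom.ker (pres R G).toRingHom = Ideal.span {rel R G} := by
  apply le_antisymm
  · -- via the universal property of the localization
    let Q := MvPolynomial (Fin (n + 1)) R ⧸ Ideal.span {rel R G}
    let mkQ : MvPolynomial (Fin (n + 1)) R →+* Q := Ideal.Quotient.mk _
    have hrel : mkQ (X 0) * mkQ (inc R G) = 1 := by
      rw [← map_mul, ← sub_eq_zero, ← map_one mkQ, ← map_sub]
      exact Ideal.Quotient.eq_zero_iff_mem.mpr (Ideal.subset_span rfl)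
    have hunit : IsUnit ((mkQ.comp (inc R).toRingHom) G) :=
      IsUnit.of_mul_eq_one (mkQ (X 0)) (by rw [mul_comm]; exact hrel)
    let lam : Localization.Away G →+* Q := IsLocalization.Away.lift G hunit
    have hlam : ∀ p, lam (algebraMap _ _ p) = mkQ (inc R p) := fun p =>
      IsLocalization.Away.lift_eq G hunit p
    have hcomp : lam.comp (pres R G).toRingHom = mkQ := by
      apply MvPolynomial.ringHom_ext
      · intro r
        show lam (pres R G (C r)) = mkQ (C r)
        have h1 : (C r : MvPolynomial (Fin (n + 1)) R) = inc R (C r) := by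
          unfold inc; rw [rename_C]
        rw [h1, pres_inc, hlam]
      · intro i
        show lam (pres R G (X i)) = mkQ (X i)
        refine Fin.cases ?_ (fun i' => ?_) i
        · rw [pres_X_zero]
          have h2 : lam (IsLocalization.Away.invSelf G) * mkQ (inc R G) = 1 := by
            rw [← hlam, ← map_mul, mul_comm, IsLocalization.Away.mul_invSelf, map_one]
          have hu : IsUnit (mkQ (inc R G)) := hunit
          exact hu.mul_left_injective (h2.trans hrel.symm)
        · have h1 : (X i'.succ : MvPolynomial (Fin (n + 1)) R) = inc R (X i') := by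
            unfold inc; rw [rename_X]
          rw [h1, pres_inc, hlam]
    intro x hx
    have h1 : mkQ x = 0 := by
      rw [← hcomp]
      show lam (pres R G x) = 0
      have : pres R G x = 0 := hx
      rw [this, map_zero]
    exact Ideal.Quotient.eq_zero_iff_mem.mp h1
  · rw [Ideal.span_singleton_le_iff_mem]
    exact pres_rel R G

theorem isSMulRegular_rel : IsSMulRegular (MvPolynomial (Fin (n + 1)) R) (rel R G) := by
  let e := finSuccEquiv R n
  have hinc : ∀ p : MvPolynomial (Fin n) R, e (inc R p) = Polynomial.C p := by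
    intro p
    have h : (e : MvPolynomial (Fin (n + 1)) R →ₐ[R] _).comp (inc R) = Polynomial.CAlgHom := by
      apply MvPolynomial.algHom_ext
      intro i
      show finSuccEquiv R n (rename Fin.succ (X i)) = Polynomial.C (X i)
      rw [rename_X, finSuccEquiv_X_succ]
    exact DFunLike.congr_fun h p
  have he : e (rel R G) = Polynomial.X * Polynomial.C G - 1 := by
    unfold rel
    rw [map_sub, map_mul, map_one, hinc]
    show finSuccEquiv R n (X 0) * _ - 1 = _
    rw [finSuccEquiv_X_zero]
  intro q₁ q₂ h
  have h1 : e (rel R G * q₁) = e (rel R G * q₂) := congrArg e h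
  rw [map_mul, map_mul, he] at h1
  exact e.injective (isSMulRegular_X_mul_C_sub_one G h1)

lemma pderiv_zero_rel : pderiv (0 : Fin (n + 1)) (rel R G) = inc R G := by
  classical
  unfold rel
  rw [map_sub, Derivation.leibniz, pderiv_X_self, pderiv_one, sub_zero, smul_eq_mul, smul_eq_mul,
    mul_one]
  have h0 : pderiv (0 : Fin (n + 1)) (inc R G) = 0 := by
    apply pderiv_eq_zero_of_notMem_vars
    intro hmem
    unfold inc at hmem
    have := MvPolynomial.vars_rename Fin.succ G hmem
    rw [Finset.mem_image] at this
    obtain ⟨i, _, hi⟩ := this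
    exact Fin.succ_ne_zero i hi
  rw [h0, mul_zero, zero_add]

/-- an ideal of `R[x][1/G]` is Koszul-regular as soon as its preimage in `R[t, x]` is -/
theorem isKoszulRegularIdeal_of_comap_pres (J : Ideal (Localization.Away G))
    (h : LCI.IsKoszulRegularIdeal (J.comap (pres R G).toRingHom)) : LCI.IsKoszulRegularIdeal J := by
  have hlist : List.ofFn (fun _ : Fin 1 => rel R G) = [rel R G] := by simp
  have hker : RingHom.ker (pres R G).toRingHom =
      Ideal.ofList (List.ofFn (fun _ : Fin 1 => rel R G)) := by
    rw [ker_pres, hlist, Ideal.ofList_singleton]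
  have hreg : LCI.IsKoszulRegularSeq (MvPolynomial (Fin (n + 1)) R)
      (List.ofFn (fun _ : Fin 1 => rel R G)) := by
    refine (Groth.Agent.S15821.result _ _ ?_).1
    rw [hlist, RingTheory.Sequence.isWeaklyRegular_singleton_iff]
    exact isSMulRegular_rel R G
  refine Groth.Agent.Lib.T2H7.KRegD.isKoszulRegularIdeal_of_comap (pres R G).toRingHom
    (pres_surjective R G) (fun _ : Fin 1 => rel R G) hker hreg
    (fun _ : Fin 1 => pderiv (R := R) (0 : Fin (n + 1))) J ?_ h
  intro 𝔔 h𝔔 hle
  have hdet : Matrix.det (Matrix.of fun (_ : Fin 1) (_ : Fin 1) =>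
      pderiv (R := R) (0 : Fin (n + 1)) (rel R G)) = inc R G := by
    rw [Matrix.det_fin_one, Matrix.of_apply, pderiv_zero_rel]
  rw [hdet]
  intro hmem
  have hrel𝔔 : rel R G ∈ 𝔔 := by
    apply hle
    rw [Ideal.mem_comap]
    show pres R G (rel R G) ∈ J
    rw [pres_rel]
    exact J.zero_mem
  have h1 : (1 : MvPolynomial (Fin (n + 1)) R) ∈ 𝔔 := by
    have e : (1 : MvPolynomial (Fin (n + 1)) R) = X 0 * inc R G - rel R G := by
      unfold rel; ring
    rw [e]
    exact 𝔔.sub_mem (𝔔.mul_mem_left _ hmem) hrel𝔔
  exact h𝔔.ne_top ((Ideal.eq_top_iff_one _).mpr h1)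

end Pres

end Groth.Agent.Lib.T2H7.KRegF
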