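import Mathlib
import Groth.Agent.Lib.T2H7KRegE
import Groth.Agent.Lib.T2H7KRegF
import Groth.Agent.S9269

/-!
# Local complete intersections: the kernel of a presentation near a principal open (helper7)

`kRegAt_ker_of_away`: if `S[1/g₀]` is a local complete intersection over `R`, then the kernel of
any presentation `R[x₁..xₙ] → S` is Koszul-regular near every prime not containing a lift of `g₀`.
-/

set_option autoImplicit false

namespace Groth.Agent.Lib.T2H7.KRegG
open MvPolynomial Groth.Agent.Lib.T2H7.KRegA Groth.Agent.Lib.T2H7.KRegB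
  Groth.Agent.Lib.T2H7.KRegE Groth.Agent.Lib.T2H7.KRegF

universe u

variable {R S : Type u} [CommRing R] [CommRing S] [Algebra R S] {n : ℕ}
  (α : MvPolynomial (Fin n) R →ₐ[R] S) (hα : Function.Surjective α)

include hα in
/-- the kernel of a presentation is Koszul-regular near every prime at which some principal
localization of the target is a local complete intersection -/
theorem kRegAt_ker_of_away (g₀ : S) (G : MvPolynomial (Fin n) R) (hG : α G = g₀)
    (hlci : LCI.IsLCI R (Localization.Away g₀)) (𝔭 : Ideal (MvPolynomial (Fin n) R))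
    [h𝔭 : 𝔭.IsPrime] (hI : RingHom.ker α.toRingHom ≤ 𝔭) (hG𝔭 : G ∉ 𝔭) :
    KRegAt (RingHom.ker α.toRingHom) 𝔭 := by
  let φ := algebraMap (MvPolynomial (Fin n) R) (Localization.Away G)
  have hT : Submonoid.map α.toRingHom (Submonoid.powers G) = Submonoid.powers g₀ := by
    rw [Submonoid.map_powers]
    exact congrArg Submonoid.powers hG
  let ψ : Localization.Away G →+* Localization.Away g₀ :=
    IsLocalization.map (Localization.Away g₀) α.toRingHom
      (hT.symm ▸ (Submonoid.powers G).le_comap_map)
  have hψφ : ∀ p, ψ (φ p) = algebraMap S (Localization.Away g₀) (α p) := fun p =>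
    IsLocalization.map_eq _ p
  have hkerψ : RingHom.ker ψ = (RingHom.ker α.toRingHom).map φ :=
    IsLocalization.ker_map (Localization.Away g₀) α.toRingHom hT
  have hψinv : ψ (IsLocalization.Away.invSelf G) = IsLocalization.Away.invSelf g₀ := by
    have h0 : algebraMap S (Localization.Away g₀) g₀ = ψ (φ G) := by
      rw [hψφ, hG]
    have h1 : ψ (IsLocalization.Away.invSelf G) * algebraMap S (Localization.Away g₀) g₀ = 1 := by
      rw [h0, ← map_mul, mul_comm, IsLocalization.Away.mul_invSelf, map_one]
    have h2 : IsLocalization.Away.invSelf g₀ * algebraMap S (Localization.Away g₀) g₀ = 1 := by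
      rw [mul_comm, IsLocalization.Away.mul_invSelf]
    have hu : IsUnit (algebraMap S (Localization.Away g₀) g₀) :=
      IsLocalization.Away.algebraMap_isUnit g₀
    exact hu.mul_left_injective (h1.trans h2.symm)
  let β : MvPolynomial (Fin (n + 1)) R →ₐ[R] Localization.Away g₀ :=
    aeval (Fin.cons (IsLocalization.Away.invSelf g₀)
      (fun i => algebraMap S (Localization.Away g₀) (α (X i))))
  have hβ : β.toRingHom = ψ.comp (pres R G).toRingHom := by
    apply MvPolynomial.ringHom_ext
    · intro r
      show β (C r) = ψ (pres R G (C r))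
      have h1 : (C r : MvPolynomial (Fin (n + 1)) R) = inc R (C r) := by
        unfold inc; rw [rename_C]
      rw [h1, pres_inc, hψφ]
      show β (inc R (C r)) = _
      rw [← h1]
      have h2 : (C r : MvPolynomial (Fin (n + 1)) R) = algebraMap R _ r := rfl
      have h3 : (C r : MvPolynomial (Fin n) R) = algebraMap R _ r := rfl
      rw [h2, h3, AlgHom.commutes, AlgHom.commutes, ← IsScalarTower.algebraMap_apply]
    · intro i
      show β (X i) = ψ (pres R G (X i))
      refine Fin.cases ?_ (fun i' => ?_) i
      · rw [pres_X_zero, hψinv]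
        show aeval _ (X 0) = _
        rw [aeval_X]
        simp
      · have h1 : (X i'.succ : MvPolynomial (Fin (n + 1)) R) = inc R (X i') := by
          unfold inc; rw [rename_X]
        rw [h1, pres_inc, hψφ]
        show aeval _ (inc R (X i')) = _
        rw [← h1, aeval_X]
        simp
  have hψsurj : Function.Surjective ψ := by
    intro y
    obtain ⟨s, ⟨_, k, rfl⟩, rfl⟩ := IsLocalization.exists_mk'_eq (Submonoid.powers g₀) y
    obtain ⟨p, rfl⟩ := hα s
    refine ⟨φ p * IsLocalization.Away.invSelf G ^ k, ?_⟩
    rw [map_mul, map_pow, hψφ, hψinv, IsLocalization.eq_mk'_iff_mul_eq]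
    show _ * algebraMap _ _ (g₀ ^ k) = _
    rw [map_pow, mul_assoc, ← mul_pow, mul_comm (IsLocalization.Away.invSelf g₀),
      IsLocalization.Away.mul_invSelf, one_pow, mul_one]
  have hβsurj : Function.Surjective β := by
    have : (β : _ → _) = ψ ∘ pres R G := by
      funext x
      exact DFunLike.congr_fun hβ x
    rw [this]
    exact hψsurj.comp (pres_surjective R G)
  obtain ⟨-, n', f', hf', hK⟩ := hlci
  have hKβ := Groth.Agent.S9269.result R (Localization.Away g₀) n' (n + 1) f' hf' β hβsurj hK
  rw [hβ, ← RingHom.comap_ker, hkerψ] at hKβ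
  have h2 := isKoszulRegularIdeal_of_comap_pres R G _ hKβ
  rw [isKoszulRegularIdeal_iff] at h2
  have hdisj : Disjoint (Submonoid.powers G : Set (MvPolynomial (Fin n) R)) (𝔭 : Set _) := by
    rw [Set.disjoint_left]
    rintro _ ⟨k, rfl⟩ hmem
    exact hG𝔭 (h𝔭.mem_of_pow_mem k hmem)
  have hprime : (𝔭.map φ).IsPrime :=
    IsLocalization.isPrime_of_isPrime_disjoint (Submonoid.powers G) _ 𝔭 h𝔭 hdisj
  exact kRegAt_of_away G _ 𝔭 hG𝔭 (h2 (𝔭.map φ) hprime (Ideal.map_mono hI))

end Groth.Agent.Lib.T2H7.KRegG
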