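import Mathlib
import Groth.Agent.Lib.T2H7KRegK
import Groth.Agent.S9253

/-!
# Composition of local complete intersection algebras (helper7)

* `isLCI_comp`: composition.
* `isLCI_of_algEquiv`: invariance under isomorphism.
* `isLCI_of_away_cover`: locality on the source, for arbitrary models of the localizations.
-/

set_option autoImplicit false

namespace Groth.Agent.Lib.T2H7.KRegL
open Groth.Agent.Lib.T2H7.KRegI Groth.Agent.Lib.T2H7.KRegK
open scoped TensorProduct

universe u

section Comp
variable {R S T : Type u} [CommRing R] [CommRing S] [CommRing T] [Algebra R S] [Algebra S T]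
  [Algebra R T] [IsScalarTower R S T]

/-- local complete intersection algebras compose -/
theorem isLCI_comp (hS : LCI.IsLCI R S) (hT : LCI.IsLCI S T) : LCI.IsLCI R T := by
  obtain ⟨ftS, n, φ, hφ, hI⟩ := hS
  obtain ⟨ftT, m, ψ, hψ, hJ⟩ := hT
  refine ⟨Algebra.FiniteType.trans ftS ftT, m + n, ?_⟩
  let P := MvPolynomial (Fin m) (MvPolynomial (Fin n) R)
  let Φ : P →ₐ[R] MvPolynomial (Fin m) S := MvPolynomial.mapAlgHom φ
  have hΦ : Function.Surjective Φ := MvPolynomial.map_surjective φ.toRingHom hφ
  let χ₀ : P →ₐ[R] T := (ψ.restrictScalars R).comp Φ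
  have hχ₀ : Function.Surjective χ₀ := hψ.comp hΦ
  let θ : MvPolynomial (Fin (m + n)) R ≃ₐ[R] P :=
    (MvPolynomial.renameEquiv R finSumFinEquiv.symm).trans
      (MvPolynomial.sumAlgEquiv R (Fin m) (Fin n))
  refine ⟨χ₀.comp θ.toAlgHom, hχ₀.comp θ.surjective, ?_⟩
  -- the kernel of `Φ`
  have hkerΦ : RingHom.ker Φ.toRingHom = (RingHom.ker φ.toRingHom).map
      (algebraMap (MvPolynomial (Fin n) R) P) := by
    have := MvPolynomial.ker_map (σ := Fin m) φ.toRingHom
    exact this
  have h1 : LCI.IsKoszulRegularIdeal (RingHom.ker Φ.toRingHom) := by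
    rw [hkerΦ]
    exact isKoszulRegularIdeal_map_of_flat _ hI
  have h2 : LCI.IsKoszulRegularIdeal ((RingHom.ker ψ.toRingHom).comap Φ.toRingHom) :=
    isKoszulRegularIdeal_comap_of_ker Φ.toRingHom hΦ h1 _ hJ
  have h3 : RingHom.ker (χ₀.comp θ.toAlgHom).toRingHom =
      ((RingHom.ker ψ.toRingHom).comap Φ.toRingHom).comap (θ : MvPolynomial (Fin (m + n)) R →+* P) := by
    ext x
    simp only [RingHom.mem_ker, Ideal.mem_comap]
    rfl
  rw [h3]
  exact isKoszulRegularIdeal_comap_of_bijective _ θ.bijective _ h2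

end Comp

section Iso
variable {R S S' : Type u} [CommRing R] [CommRing S] [CommRing S'] [Algebra R S] [Algebra R S']

/-- local complete intersection algebras are invariant under isomorphism -/
theorem isLCI_of_algEquiv (e : S ≃ₐ[R] S') (h : LCI.IsLCI R S) : LCI.IsLCI R S' := by
  obtain ⟨ft, n, φ, hφ, hI⟩ := h
  refine ⟨Algebra.FiniteType.equiv ft e, n, e.toAlgHom.comp φ, e.surjective.comp hφ, ?_⟩
  have : RingHom.ker (e.toAlgHom.comp φ).toRingHom = RingHom.ker φ.toRingHom := by
    ext x
    simp only [RingHom.mem_ker]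
    show e (φ x) = 0 ↔ φ x = 0
    exact e.map_eq_zero_iff
  rw [this]
  exact hI

end Iso

section Cover
variable {R S : Type u} [CommRing R] [CommRing S] [Algebra R S]

/-- an algebra is a local complete intersection as soon as it is so on a finite cover by basic
opens (arbitrary models of the localizations) -/
theorem isLCI_of_away_cover (m : ℕ) (g : Fin m → S) (hg : Ideal.span (Set.range g) = ⊤)
    (T : Fin m → Type u) [∀ j, CommRing (T j)] [∀ j, Algebra S (T j)] [∀ j, Algebra R (T j)]
    [∀ j, IsScalarTower R S (T j)] [∀ j, IsLocalization.Away (g j) (T j)]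
    (h : ∀ j, LCI.IsLCI R (T j)) : LCI.IsLCI R S := by
  refine Groth.Agent.S9253.result R S m g hg (fun j => ?_)
  let e : Localization.Away (g j) ≃ₐ[S] T j :=
    IsLocalization.algEquiv (Submonoid.powers (g j)) _ _
  exact isLCI_of_algEquiv (e.restrictScalars R).symm (h j)

end Cover

end Groth.Agent.Lib.T2H7.KRegL
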