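import Mathlib
import Groth.Prelude.Def_RegImm
import Groth.Agent.Lib.T2H7SyntC
import Groth.Agent.Lib.T2H9SyntCI2

/-!
# Relative global complete intersections are syntomic (helper7)

`flat_relGCIRing`: flatness over the base, `isGlobalCI_fiber`: the fibres are global complete
intersections, `isSyntomic_relGCIRing`: the syntomic property.
-/

set_option autoImplicit false

universe u
open TensorProduct MvPolynomial

namespace Groth.Agent.Lib.T2H7.SyntE

open Groth.Agent.Lib.T2H7.SyntA Groth.Agent.Lib.T2H7.SyntB Groth.Agent.Lib.T2H7.SyntC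

variable {R : Type u} [CommRing R] {n c : ℕ} (F : Fin c → MvPolynomial (Fin n) R)

lemma flat_congr {A B : Type u} [CommRing A] [CommRing B] [Algebra A B] (S : Submonoid B)
    {N1 N2 : Submodule B B} (h : N1 = N2) (hf : Module.Flat A (LocalizedModule S (B ⧸ N1))) :
    Module.Flat A (LocalizedModule S (B ⧸ N2)) := by
  subst h
  exact hf

variable (h : Synt.IsRelGCI R n c F)

include h in
/-- a relative global complete intersection is flat over the base -/
theorem flat_relGCIRing : Module.Flat R (Synt.RelGCIRing R n c F) := by
  apply Module.flat_of_isLocalized_maximal (MvPolynomial (Fin n) R) (Synt.RelGCIRing R n c F)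
    (fun m _ => LocalizedModule m.primeCompl (Synt.RelGCIRing R n c F))
    (fun m _ => LocalizedModule.mkLinearMap m.primeCompl (Synt.RelGCIRing R n c F))
  intro m hm
  by_cases hIm : Ideal.span (Set.range F) ≤ m
  · have h2 := (isRegular_and_flat F h m hIm).2 (List.ofFn F).length le_rfl
    rw [List.take_length] at h2
    have hJ : (Ideal.ofList (List.ofFn F) • ⊤ : Submodule (MvPolynomial (Fin n) R)
        (MvPolynomial (Fin n) R)) = Ideal.span (Set.range F) := by
      rw [smul_eq_mul, Ideal.mul_top, ofList_ofFn]
    exact flat_congr m.primeCompl hJ h2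
  · have hs : Subsingleton (LocalizedModule m.primeCompl (Synt.RelGCIRing R n c F)) := by
      rw [LocalizedModule.subsingleton_iff]
      intro x
      obtain ⟨a, haI, ham⟩ := SetLike.not_le_iff_exists.mp hIm
      refine ⟨a, ham, ?_⟩
      obtain ⟨y, rfl⟩ := Ideal.Quotient.mk_surjective x
      rw [← Ideal.Quotient.mk_eq_mk, ← Submodule.Quotient.mk_smul, Ideal.Quotient.mk_eq_mk,
        Ideal.Quotient.eq_zero_iff_mem, smul_eq_mul]
      exact Ideal.mul_mem_right _ _ haI
    infer_instance

include h in
/-- the fibres of a relative global complete intersection are global complete intersections -/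
theorem isGlobalCI_fiber (p : PrimeSpectrum R) :
    Synt.IsGlobalCI p.asIdeal.ResidueField (p.asIdeal.Fiber (Synt.RelGCIRing R n c F)) := by
  by_cases hs : Subsingleton (p.asIdeal.Fiber (Synt.RelGCIRing R n c F))
  · exact Or.inl hs
  · rw [not_subsingleton_iff_nontrivial] at hs
    obtain ⟨hcn, hdim⟩ := h p hs
    refine Or.inr ⟨n, c, hcn, φ p.asIdeal n (Ideal.span (Set.range F)),
      fun i => ι p.asIdeal n (F i), φ_surjective p.asIdeal n _, ?_, hdim⟩
    rw [ker_φ, Ideal.map_span, ← Set.range_comp]
    rfl

include h in
/-- a relative global complete intersection is syntomic -/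
theorem isSyntomic_relGCIRing : Synt.IsSyntomic R (Synt.RelGCIRing R n c F) := by
  refine ⟨flat_relGCIRing F h, ?_, fun p => ?_⟩
  · exact Algebra.FinitePresentation.quotient (Submodule.fg_span (Set.finite_range F))
  · exact Groth.Agent.Lib.T2H9.SyntCI.isLCIOver_of_isGlobalCI (isGlobalCI_fiber F h p)

end Groth.Agent.Lib.T2H7.SyntE
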