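import Mathlib
import Groth.Agent.Lib.T2H7SyntE
import Groth.Agent.Lib.T2H7SyntD
import Groth.Agent.Lib.Helper6SmLCI
import Groth.Agent.Lib.T2H7KRegL
import Groth.Agent.Lib.T2H9KoszulH1

/-!
# Standard smooth algebras are local complete intersections (helper7)

* `isKoszulRegularSeq_of_isRelGCI`: the equations of a relative global complete intersection
  form a Koszul-regular sequence in the polynomial ring.
* `isRelGCI_of_jacobian`: a presentation with invertible Jacobian minor is a relative global
  complete intersection.
* `isLCI_of_isStandardSmooth`.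
* `isLCI_of_isLocalization`: change of the base ring to a localization.
-/

set_option autoImplicit false

namespace Groth.Agent.Lib.T2H7.KRegM
open MvPolynomial
open Groth.Agent.Lib.T2H7.SyntB Groth.Agent.Lib.T2H7.SyntC
open Groth.Agent.Lib.T2H7.KRegK Groth.Agent.Lib.T2H7.KRegL

universe u

section RelGCI
variable {R : Type u} [CommRing R] {n c : ℕ} (F : Fin c → MvPolynomial (Fin n) R)

/-- the equations of a relative global complete intersection form a Koszul-regular sequence -/
theorem isKoszulRegularSeq_of_isRelGCI (h : Synt.IsRelGCI R n c F) :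
    LCI.IsKoszulRegularSeq (MvPolynomial (Fin n) R) (List.ofFn F) := by
  apply Groth.Agent.Lib.T2H7.SyntD.isKoszulRegularSeq_of_localization
  intro m hm hle
  have h1 := (regular_and_flat_localization F h m (by rwa [← ofList_ofFn])).1
  exact Groth.Agent.Lib.T2H9.KoszulH1.isKoszulRegularSeq_of_isWeaklyRegular _ h1.toIsWeaklyRegular

/-- a presentation whose Jacobian minor is invertible on the quotient is a relative global
complete intersection -/
theorem isRelGCI_of_jacobian (g : Fin c → Fin n)
    (hdet : IsUnit (Ideal.Quotient.mk (Ideal.span (Set.range F))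
      (Matrix.of fun i j => pderiv (g i) (F j)).det)) :
    Synt.IsRelGCI R n c F := by
  intro p hnt
  set I := Ideal.span (Set.range F) with hI
  let φ' := φ p.asIdeal n I
  have hsurj : Function.Surjective φ'.toRingHom := φ_surjective p.asIdeal n I
  have hker : RingHom.ker φ'.toRingHom = I.map (ι p.asIdeal n) := ker_φ p.asIdeal n I
  let e : (MvPolynomial (Fin n) p.asIdeal.ResidueField ⧸ RingHom.ker φ'.toRingHom) ≃+*
      p.asIdeal.Fiber (Synt.RelGCIRing R n c F) :=
    RingHom.quotientKerEquivOfSurjective hsurj
  set J := RingHom.ker φ'.toRingHom with hJdef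
  have hJ : J = Ideal.span (Set.range (fun j => ι p.asIdeal n (F j))) := by
    rw [hker, hI, Ideal.map_span, ← Set.range_comp]
    rfl
  have hdet' : IsUnit (Ideal.Quotient.mk J
      (Matrix.of fun i j => pderiv (g i) (ι p.asIdeal n (F j))).det) := by
    let θ : MvPolynomial (Fin n) R ⧸ I →+* MvPolynomial (Fin n) p.asIdeal.ResidueField ⧸ J :=
      Ideal.quotientMap J (ι p.asIdeal n) (by rw [hker]; exact Ideal.le_comap_map)
    have h1 := hdet.map θ
    convert h1 using 1
    rw [Ideal.quotientMap_mk]
    congr 1
    rw [RingHom.map_det]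
    congr 1
    ext i j
    simp only [RingHom.mapMatrix_apply, Matrix.map_apply, Matrix.of_apply]
    unfold ι
    rw [pderiv_map]
  have hnt' : Nontrivial (MvPolynomial (Fin n) p.asIdeal.ResidueField ⧸ J) :=
    e.toEquiv.nontrivial
  have key := Groth.Agent.Lib.Helper6.SmLCI.height_eq_of_isMaximal
    (fun j => ι p.asIdeal n (F j)) g J hJ hdet'
  obtain ⟨m, hm⟩ := Ideal.exists_maximal (MvPolynomial (Fin n) p.asIdeal.ResidueField ⧸ J)
  refine ⟨(key m hm).1, ?_⟩
  rw [← ringKrullDim_eq_of_ringEquiv e]
  exact Groth.Agent.Lib.Helper28.ringKrullDim_eq_of_forall_isMaximal_height_eq (n - c)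
    (fun m hm => (key m hm).2)

end RelGCI

section Seq
variable {A : Type u} [CommRing A]

/-- an ideal generated by a Koszul-regular sequence is a Koszul-regular ideal -/
theorem isKoszulRegularIdeal_ofList (l : List A) (h : LCI.IsKoszulRegularSeq A l) :
    LCI.IsKoszulRegularIdeal (Ideal.ofList l) := by
  intro 𝔭 _
  refine ⟨1, fun h1 => 𝔭.isPrime.ne_top (Ideal.eq_top_of_isUnit_mem _ h1 isUnit_one),
    l.map (algebraMap A (Localization.Away (1 : A))), ?_, ?_⟩
  · exact Groth.Agent.Lib.T2H9.RegImmBC.isKoszulRegularSeq_map_of_flat _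
      (RingHom.flat_algebraMap_iff.mpr (IsLocalization.flat _ (Submonoid.powers (1 : A)))) l h
  · rw [Ideal.map_ofList]

end Seq

section Smooth
variable {A B : Type u} [CommRing A] [CommRing B] [Algebra A B]

/-- an algebra with a submersive presentation is a local complete intersection -/
theorem isLCI_of_submersivePresentation {n c : ℕ}
    (Pres : Algebra.SubmersivePresentation A B (Fin n) (Fin c)) : LCI.IsLCI A B := by
  classical
  let φ : MvPolynomial (Fin n) A →ₐ[A] B := MvPolynomial.aeval Pres.val
  have hφalg : (algebraMap Pres.Ring B) = φ.toRingHom := by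
    rw [Pres.algebraMap_eq]; rfl
  have hφ : Function.Surjective φ := by
    have := Pres.algebraMap_surjective
    rw [hφalg] at this
    exact this
  have hker : RingHom.ker φ.toRingHom = Ideal.span (Set.range Pres.relation) := by
    rw [Pres.span_range_relation_eq_ker, ← hφalg]
    rfl
  let e : (MvPolynomial (Fin n) A ⧸ RingHom.ker φ.toRingHom) ≃+* B :=
    RingHom.quotientKerEquivOfSurjective (f := φ.toRingHom) hφ
  have hdet : IsUnit (Ideal.Quotient.mk (RingHom.ker φ.toRingHom)
      (Matrix.of fun i j => pderiv (Pres.map i) (Pres.relation j)).det) := by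
    have h1 := Pres.jacobian_isUnit
    rw [Pres.jacobian_eq_jacobiMatrix_det, hφalg] at h1
    have h2 : Pres.jacobiMatrix = Matrix.of fun i j => pderiv (Pres.map i) (Pres.relation j) := by
      ext i j
      rw [Pres.jacobiMatrix_apply]
      rfl
    rw [h2] at h1
    have h3 := h1.map e.symm
    convert h3 using 1
    rw [RingEquiv.eq_symm_apply]
    rfl
  rw [hker] at hdet
  have hrel := isRelGCI_of_jacobian Pres.relation Pres.map hdet
  have hseq := isKoszulRegularSeq_of_isRelGCI Pres.relation hrel
  refine ⟨Algebra.FiniteType.of_surjective φ hφ, n, φ, hφ, ?_⟩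
  · rw [hker, ← ofList_ofFn]
    exact isKoszulRegularIdeal_ofList _ hseq

/-- a standard smooth algebra is a local complete intersection -/
theorem isLCI_of_isStandardSmooth [hstd : Algebra.IsStandardSmooth A B] : LCI.IsLCI A B := by
  classical
  obtain ⟨ι, σ, hσ, hι, ⟨Pres⟩⟩ := hstd.out
  let _ := Fintype.ofFinite ι
  let _ := Fintype.ofFinite σ
  exact isLCI_of_submersivePresentation
    (Pres.reindex (Fintype.equivFin ι).symm (Fintype.equivFin σ).symm)

end Smooth


section Loc
variable {R R' T : Type u} [CommRing R] [CommRing R'] [CommRing T] [Algebra R R'] [Algebra R' T]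
  [Algebra R T] [IsScalarTower R R' T]

attribute [local instance] MvPolynomial.algebraMvPolynomial

/-- a local complete intersection algebra over `R` which is an algebra over a localization `R'`
of `R` is a local complete intersection over `R'` -/
theorem isLCI_of_isLocalization (M : Submonoid R) [IsLocalization M R'] (h : LCI.IsLCI R T) :
    LCI.IsLCI R' T := by
  obtain ⟨ft, n, φ, hφ, hI⟩ := h
  let ι : MvPolynomial (Fin n) R →+* MvPolynomial (Fin n) R' :=
    algebraMap (MvPolynomial (Fin n) R) (MvPolynomial (Fin n) R')
  have hι : ∀ p, ι p = MvPolynomial.map (algebraMap R R') p := fun p => rfl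
  let φ' : MvPolynomial (Fin n) R' →ₐ[R'] T := MvPolynomial.aeval (fun i => φ (X i))
  have hcomp : ∀ p, φ' (ι p) = φ p := by
    intro p
    rw [hι]
    show MvPolynomial.aeval (fun i => φ (X i)) (MvPolynomial.map (algebraMap R R') p) = φ p
    rw [MvPolynomial.aeval_map_algebraMap]
    have := MvPolynomial.aeval_unique φ
    exact (congrArg (fun ψ : MvPolynomial (Fin n) R →ₐ[R] T => ψ p) this).symm
  have hφ' : Function.Surjective φ' := by
    intro t
    obtain ⟨p, rfl⟩ := hφ t
    exact ⟨ι p, hcomp p⟩
  have hloc : IsLocalization (M.map (C (σ := Fin n))) (MvPolynomial (Fin n) R') :=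
    MvPolynomial.isLocalization M R'
  have hker : RingHom.ker φ'.toRingHom = (RingHom.ker φ.toRingHom).map ι := by
    apply le_antisymm
    · intro x hx
      obtain ⟨⟨y, s⟩, hys⟩ := IsLocalization.surj (M.map (C (σ := Fin n))) x
      have hu : IsUnit (ι s) := IsLocalization.map_units _ s
      have hy : y ∈ RingHom.ker φ.toRingHom := by
        rw [RingHom.mem_ker]
        show φ y = 0
        rw [← hcomp y]
        have : ι y = x * ι s := hys.symm
        rw [this, map_mul]
        have hx' : φ' x = 0 := hx
        rw [hx', zero_mul]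
      have h1 : x * ι s ∈ (RingHom.ker φ.toRingHom).map ι := by
        have : x * ι s = ι y := hys
        rw [this]
        exact Ideal.mem_map_of_mem _ hy
      exact (Ideal.mul_unit_mem_iff_mem _ hu).mp h1
    · rw [Ideal.map_le_iff_le_comap]
      intro y hy
      rw [Ideal.mem_comap, RingHom.mem_ker]
      show φ' (ι y) = 0
      rw [hcomp]
      exact hy
  have hflat : Module.Flat (MvPolynomial (Fin n) R) (MvPolynomial (Fin n) R') :=
    IsLocalization.flat _ (M.map (C (σ := Fin n)))
  refine ⟨Algebra.FiniteType.of_restrictScalars_finiteType R R' T, n, φ', hφ', ?_⟩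
  rw [hker]
  exact isKoszulRegularIdeal_map_of_flat _ hI

end Loc

end Groth.Agent.Lib.T2H7.KRegM
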