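import Mathlib
import Groth.Prelude
import Groth.Agent.Lib.T2H4GorOmega5
import Groth.Agent.Lib.T2H7KRegM
import Groth.Agent.Lib.Helper5KoszulGor
import Groth.Agent.Lib.Helper13KzLiftF
set_option autoImplicit false
set_option linter.style.haveILetI false
universe u
open IsLocalRing TensorProduct CategoryTheory

namespace Groth.Agent.Lib.T2H4.GorOmega

open Disc

section FieldFiber
variable (k : Type u) [Field k] (p : Ideal k) [p.IsPrime]

lemma bijective_algebraMap_residueField_of_field :
    Function.Bijective (algebraMap k p.ResidueField) := by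
  refine ⟨(algebraMap k p.ResidueField).injective, ?_⟩
  intro x
  obtain ⟨y, rfl⟩ := IsLocalRing.residue_surjective x
  obtain ⟨a, r, rfl⟩ := IsLocalization.exists_mk'_eq p.primeCompl y
  have hr0 : (r : k) ≠ 0 := by
    intro h0
    apply r.2
    rw [h0]
    exact p.zero_mem
  refine ⟨a / r, ?_⟩
  rw [IsScalarTower.algebraMap_apply k (Localization.AtPrime p) p.ResidueField,
    IsLocalRing.ResidueField.algebraMap_eq]
  congr 1
  rw [eq_comm, IsLocalization.mk'_eq_iff_eq_mul, ← map_mul, div_mul_cancel₀ _ hr0]

/-- the fibre of a `k`-algebra over the unique prime of a field `k` is the algebra itself. -/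
noncomputable def fiberEquivOfField (B : Type u) [CommRing B] [Algebra k B] :
    p.Fiber B ≃ₐ[k] B :=
  (Algebra.TensorProduct.congr
    (AlgEquiv.ofBijective (Algebra.ofId k p.ResidueField)
      (bijective_algebraMap_residueField_of_field k p)).symm AlgEquiv.refl).trans
    (Algebra.TensorProduct.lid k B)

end FieldFiber

section GCI
variable (k : Type u) [Field k] (n : ℕ) (f : Fin n → MvPolynomial (Fin n) k)

/-- zero-dimensional global complete intersections over a field have free dualizing module. -/
theorem nonempty_omega_equiv_of_gci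
    (h0 : ringKrullDim (MvPolynomial (Fin n) k ⧸ Ideal.span (Set.range f)) = 0) :
    Nonempty (Omega k (MvPolynomial (Fin n) k ⧸ Ideal.span (Set.range f)) ≃ₗ[MvPolynomial (Fin n) k ⧸
      Ideal.span (Set.range f)] (MvPolynomial (Fin n) k ⧸ Ideal.span (Set.range f))) := by
  have hGCI : Synt.IsRelGCI k n n f := by
    intro p _
    refine ⟨le_rfl, ?_⟩
    rw [ringKrullDim_eq_of_ringEquiv (fiberEquivOfField k p.asIdeal
      (Synt.RelGCIRing k n n f)).toRingEquiv, Nat.sub_self]
    exact h0
  have hK := Groth.Agent.Lib.T2H7.KRegM.isKoszulRegularIdeal_ofList _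
    (Groth.Agent.Lib.T2H7.KRegM.isKoszulRegularSeq_of_isRelGCI f hGCI)
  rw [Groth.Agent.Helper13KzLift.ofList_ofFn] at hK
  haveI : LocCoh.IsGorensteinRing k := Groth.Agent.Lib.Helper5.GorRing.gorRing_of_field k
  haveI : LocCoh.IsGorensteinRing (MvPolynomial (Fin n) k) :=
    Groth.Agent.Lib.Helper5.KoszulGor.gorRing_mvPolynomial k n
  haveI hG : LocCoh.IsGorensteinRing (MvPolynomial (Fin n) k ⧸ Ideal.span (Set.range f)) :=
    Groth.Agent.Lib.Helper5.KoszulGor.gorRing_quotient_of_koszulRegularIdeal _ hK
  haveI : Ring.KrullDimLE 0 (MvPolynomial (Fin n) k ⧸ Ideal.span (Set.range f)) := by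
    rw [Ring.krullDimLE_iff]
    exact h0.le
  haveI : Module.Finite k (MvPolynomial (Fin n) k ⧸ Ideal.span (Set.range f)) :=
    (Module.finite_iff_krullDimLE_zero k _).mpr inferInstance
  haveI : IsArtinianRing (MvPolynomial (Fin n) k ⧸ Ideal.span (Set.range f)) :=
    IsArtinianRing.of_finite k _
  haveI : Module.Invertible (MvPolynomial (Fin n) k ⧸ Ideal.span (Set.range f))
      (Omega k (MvPolynomial (Fin n) k ⧸ Ideal.span (Set.range f))) := by
    apply invertible_of_gorenstein_fibers
    intro p _
    exact Groth.Agent.Lib.Helper5.GorRing.gorRing_of_ringEquiv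
      (fiberEquivOfField k p (MvPolynomial (Fin n) k ⧸ Ideal.span (Set.range f))).toRingEquiv.symm
  exact (Module.Invertible.free_iff_linearEquiv
    (R := MvPolynomial (Fin n) k ⧸ Ideal.span (Set.range f))).mp inferInstance

end GCI
end Groth.Agent.Lib.T2H4.GorOmega
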