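import Groth.Agent.Lib.T2H8QFLocF
import Groth.Agent.Lib.T2H4GorOmega6
import Groth.Agent.Lib.T2H9SyntCI2

set_option autoImplicit false
set_option linter.unusedSectionVars false
set_option linter.unusedVariables false
set_option linter.style.haveILetI false

namespace Groth.Agent.Lib.T2H8.QFLoc

universe u
open TensorProduct AlgebraicGeometry CategoryTheory

section GorGCI

variable (k : Type u) [Field k] (S : Type u) [CommRing S] [Algebra k S]

/-- a (nonzero) global complete intersection over a field is a Gorenstein ring. -/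
theorem gorRing_of_isGlobalCI [Nontrivial S] (h : Synt.IsGlobalCI k S) :
    LocCoh.IsGorensteinRing S := by
  rcases h with hs | ⟨n, c, hcn, φ, r, hφ, hker, hdim⟩
  · exact absurd hs (not_subsingleton S)
  · let e : (MvPolynomial (Fin n) k ⧸ RingHom.ker φ.toRingHom) ≃ₐ[k] S :=
      Ideal.quotientKerAlgEquivOfSurjective hφ
    let e' : Synt.RelGCIRing k n c r ≃ₐ[k] S :=
      (Ideal.quotientEquivAlgOfEq k hker.symm).trans e
    have hGCI : Synt.IsRelGCI k n c r := by
      intro p _
      refine ⟨hcn, ?_⟩
      rw [ringKrullDim_eq_of_ringEquiv (T2H4.GorOmega.fiberEquivOfField k p.asIdeal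
        (Synt.RelGCIRing k n c r)).toRingEquiv, ringKrullDim_eq_of_ringEquiv e'.toRingEquiv]
      exact hdim
    have hK := Groth.Agent.Lib.T2H7.KRegM.isKoszulRegularIdeal_ofList _
      (Groth.Agent.Lib.T2H7.KRegM.isKoszulRegularSeq_of_isRelGCI r hGCI)
    rw [Groth.Agent.Helper13KzLift.ofList_ofFn] at hK
    haveI : LocCoh.IsGorensteinRing k := Groth.Agent.Lib.Helper5.GorRing.gorRing_of_field k
    haveI : LocCoh.IsGorensteinRing (MvPolynomial (Fin n) k) :=
      Groth.Agent.Lib.Helper5.KoszulGor.gorRing_mvPolynomial k n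
    haveI hG : LocCoh.IsGorensteinRing (MvPolynomial (Fin n) k ⧸ Ideal.span (Set.range r)) :=
      Groth.Agent.Lib.Helper5.KoszulGor.gorRing_quotient_of_koszulRegularIdeal _ hK
    exact Groth.Agent.Lib.Helper5.GorRing.gorRing_of_ringEquiv e'.toRingEquiv

end GorGCI

section GorLCI

variable (k : Type u) [Field k] (S : Type u) [CommRing S] [Algebra k S]

/-- a local complete intersection over a field is a Gorenstein ring. -/
theorem gorRing_of_isLCIOver (h : Synt.IsLCIOver k S) : LocCoh.IsGorensteinRing S := by
  obtain ⟨hft, hloc⟩ := h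
  haveI : IsNoetherianRing S := Algebra.FiniteType.isNoetherianRing k S
  refine { isGorensteinLocalRing_localization := ?_ }
  intro q hq
  obtain ⟨g, hg, hGCI⟩ := hloc ⟨q, hq⟩
  have hg' : g ∉ q := hg
  haveI hP := Groth.Agent.Lib.T2H9.SyntCI.away_map_isPrime g q hg'
  haveI : Nontrivial (Localization.Away g) := by
    rw [← not_subsingleton_iff_nontrivial,
      IsLocalization.subsingleton_iff (M := Submonoid.powers g)]
    rintro ⟨m, hm⟩
    have hm' : g ^ m = 0 := hm
    exact hg' (Ideal.IsPrime.mem_of_pow_mem hq m (hm' ▸ q.zero_mem))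
  haveI := gorRing_of_isGlobalCI k (Localization.Away g) hGCI
  obtain ⟨e⟩ := Groth.Agent.Lib.T2H9.SyntCI.nonempty_algEquiv_away_atPrime (k := k) g q hg'
  haveI := LocCoh.IsGorensteinRing.isGorensteinLocalRing_localization
    (q.map (algebraMap S (Localization.Away g)))
  exact Groth.Agent.Lib.Helper5.GorRing.gorLocal_of_ringEquiv e.symm.toRingEquiv

end GorLCI

section LocalOmega

variable (k : Type u) [Field k] (C : Type u) [CommRing C] [Algebra k C] [Module.Finite k C]

/-- for a finite algebra `C` over a field, `Hom_k(C, k)` is free of rank one at every prime at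
which `C` is Gorenstein. -/
theorem nonempty_localization_omega_linearEquiv (q : Ideal C) [hq : q.IsPrime]
    [hG : LocCoh.IsGorensteinLocalRing (Localization.AtPrime q)] :
    Nonempty (Localization.AtPrime q ⊗[C] Disc.Omega k C ≃ₗ[Localization.AtPrime q]
      Localization.AtPrime q) := by
  haveI : IsArtinianRing C := IsArtinianRing.of_finite k C
  haveI : q.IsMaximal := IsArtinianRing.isMaximal_of_isPrime q
  haveI : IsArtinianRing (Localization.AtPrime q) :=
    IsArtinianRing.localization_artinian q.primeCompl _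
  have hT1 := Groth.Agent.Lib.Helper5.GorArt.T1_of_gor (Localization.AtPrime q)
  have hsoc := T2H4.GorOmega.exists_generator_socle q hT1
  obtain ⟨φ, hφ⟩ := T2H4.GorOmega.exists_generator_omega (K := k) q hsoc
  haveI : IsNoetherianRing C := IsNoetherianRing.of_finite k C
  haveI : Module.Finite C (Disc.Omega k C) := AssOpenImm.finite_omega_of_noetherian k C
  refine T2H4.GorOmega.nonempty_equiv_of_local_generator (Disc.Omega k C) q
    T2H4.GorOmega.omega_faithful ⟨φ, fun ψ => ⟨1, ?_, ?_⟩⟩
  · intro h1
    exact hq.ne_top ((Ideal.eq_top_iff_one _).mpr h1)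
  · rw [hφ]
    exact Submodule.mem_top

end LocalOmega

section FieldCase

variable (k : Type u) [Field k] (C' S : Type u) [CommRing C'] [CommRing S] [Algebra k C']
  [Algebra C' S] [Algebra k S] [IsScalarTower k C' S]

/-- over a field, a quasi-finite Gorenstein algebra has invertible dualizing module. -/
theorem invertible_omega_of_gorenstein (hf : QFDual.IsQFFactor k C' S)
    [hG : LocCoh.IsGorensteinRing S] : Module.Invertible S (QFDual.omega k C' S) := by
  haveI := hf.finite
  haveI : IsNoetherianRing C' := IsNoetherianRing.of_finite k C'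
  haveI : Module.Finite C' (Disc.Omega k C') := AssOpenImm.finite_omega_of_noetherian k C'
  haveI : Module.Finite S (S ⊗[C'] Disc.Omega k C') := Module.Finite.base_change C' S _
  haveI : IsNoetherianRing S := inferInstance
  haveI : Module.FinitePresentation S (S ⊗[C'] Disc.Omega k C') :=
    Module.finitePresentation_of_finite S _
  apply T2H4.InvCrit.invertible_of_local
  intro q hq
  haveI : q.IsPrime := hq.isPrime
  have hbij := bijective_localRingHom_of_isOpenImmersion hf.isOpenImmersion q
  let f : Localization.AtPrime (q.comap (algebraMap C' S)) →+* Localization.AtPrime q :=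
    Localization.localRingHom (q.comap (algebraMap C' S)) q (algebraMap C' S) rfl
  let e : Localization.AtPrime (q.comap (algebraMap C' S)) ≃+* Localization.AtPrime q :=
    RingEquiv.ofBijective f hbij
  haveI := hG.isGorensteinLocalRing_localization q
  haveI : LocCoh.IsGorensteinLocalRing (Localization.AtPrime (q.comap (algebraMap C' S))) :=
    Groth.Agent.Lib.Helper5.GorRing.gorLocal_of_ringEquiv e.symm
  obtain ⟨e₀⟩ := nonempty_localization_omega_linearEquiv k C' (q.comap (algebraMap C' S))
  letI : Algebra (Localization.AtPrime (q.comap (algebraMap C' S))) (Localization.AtPrime q) :=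
    f.toAlgebra
  haveI : IsScalarTower C' (Localization.AtPrime (q.comap (algebraMap C' S)))
      (Localization.AtPrime q) :=
    IsScalarTower.of_algebraMap_eq' (by
      ext c
      show algebraMap C' (Localization.AtPrime q) c = f (algebraMap C' _ c)
      rw [Localization.localRingHom_to_map, IsScalarTower.algebraMap_apply C' S])
  let c₁ := AlgebraTensorModule.cancelBaseChange C' S (Localization.AtPrime q)
    (Localization.AtPrime q) (Disc.Omega k C')
  let c₂ := AlgebraTensorModule.cancelBaseChange C'
    (Localization.AtPrime (q.comap (algebraMap C' S))) (Localization.AtPrime q)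
    (Localization.AtPrime q) (Disc.Omega k C')
  let c₃ := AlgebraTensorModule.congr
    (LinearEquiv.refl (Localization.AtPrime q) (Localization.AtPrime q)) e₀
  let c₄ := AlgebraTensorModule.rid (Localization.AtPrime (q.comap (algebraMap C' S)))
    (Localization.AtPrime q) (Localization.AtPrime q)
  exact ⟨c₁ ≪≫ₗ c₂.symm ≪≫ₗ c₃ ≪≫ₗ c₄⟩

end FieldCase

section Main

/-- quasi-finite factorisations are stable under base change. -/
theorem isQFFactor_of_isPushout (A B' B : Type u) [CommRing A] [CommRing B'] [CommRing B]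
    [Algebra A B'] [Algebra B' B] [Algebra A B] [IsScalarTower A B' B]
    (hf : QFDual.IsQFFactor A B' B)
    (A₁ : Type u) [CommRing A₁] [Algebra A A₁]
    (B'₁ B₁ : Type u) [CommRing B'₁] [CommRing B₁] [Algebra B' B'₁]
    [Algebra A₁ B'₁] [Algebra A B'₁] [IsScalarTower A A₁ B'₁]
    [IsScalarTower A B' B'₁] [Algebra B B₁] [Algebra A₁ B₁] [Algebra A B₁]
    [IsScalarTower A A₁ B₁] [IsScalarTower A B B₁] [Algebra B'₁ B₁] [Algebra B' B₁]
    [IsScalarTower B' B'₁ B₁] [IsScalarTower B' B B₁] [IsScalarTower A₁ B'₁ B₁]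
    (h : Algebra.IsPushout A A₁ B' B'₁) (hB : Algebra.IsPushout A A₁ B B₁) :
    QFDual.IsQFFactor A₁ B'₁ B₁ := by
  haveI := hf.finite
  haveI : IsScalarTower A B'₁ B₁ := IsScalarTower.of_algebraMap_eq' (by
    rw [IsScalarTower.algebraMap_eq A A₁ B₁, IsScalarTower.algebraMap_eq A₁ B'₁ B₁,
      RingHom.comp_assoc, ← IsScalarTower.algebraMap_eq A A₁ B'₁])
  haveI hsymm : Algebra.IsPushout A B' A₁ B'₁ := h.symm
  have hP : Algebra.IsPushout B' B B'₁ B₁ :=
    (Algebra.IsPushout.comp_iff A B' A₁ (S' := B'₁) (T := B) (T' := B₁)).mp hB.symm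
  refine ⟨?_, ?_⟩
  · exact Module.Finite.equiv (Algebra.IsPushout.equiv A A₁ B' B'₁).toLinearEquiv
  · have hpo := CommRingCat.isPushout_of_isPushout B' B B'₁ B₁
    have hpb := isPullback_SpecMap_of_isPushout _ _ _ _ hpo
    exact MorphismProperty.of_isPullback (P := @IsOpenImmersion) hpb hf.isOpenImmersion

end Main

section Final

theorem main_S8964 (A B' B : Type u) [CommRing A] [CommRing B'] [CommRing B] [IsNoetherianRing A]
    [Algebra A B'] [Algebra B' B] [Algebra A B] [IsScalarTower A B' B]
    (hf : QFDual.IsQFFactor A B' B) (hs : Synt.IsSyntomic A B) :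
    Module.Invertible B (QFDual.omega A B' B) := by
  obtain ⟨hflat, hfp, hfib⟩ := hs
  haveI := hflat
  haveI := hfp
  haveI : Algebra.FiniteType A B := inferInstance
  haveI : IsNoetherianRing B := Algebra.FiniteType.isNoetherianRing A B
  rw [main_S8963 A B' B hf]
  intro p hp B'₁ B₁
  intros
  rename_i h hB
  have hq := isQFFactor_of_isPushout A B' B hf p.ResidueField B'₁ B₁ h hB
  haveI : LocCoh.IsGorensteinRing (p.Fiber B) := gorRing_of_isLCIOver _ _ (hfib ⟨p, hp⟩)
  haveI : LocCoh.IsGorensteinRing B₁ :=
    Groth.Agent.Lib.Helper5.GorRing.gorRing_of_ringEquiv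
      (Algebra.IsPushout.equiv A p.ResidueField B B₁).toRingEquiv
  exact invertible_omega_of_gorenstein p.ResidueField B'₁ B₁ hq

end Final

end Groth.Agent.Lib.T2H8.QFLoc
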