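import Mathlib
import Groth.Agent.Lib.LeadLkd
import Groth.Agent.Lib.LeadLke
import Groth.Agent.Lib.LeadLkf
import Groth.Agent.Lib.T2H8QFLocG
import Groth.Agent.Lib.Helper5KoszulGor

/-!
# Linkage, part G (lead): the link of an almost complete intersection is Gorenstein
-/

set_option autoImplicit false
set_option maxHeartbeats 800000
set_option linter.style.haveILetI false
set_option linter.unusedSectionVars false
set_option linter.unusedVariables false

universe u

namespace Groth.Agent.Lib.LeadLk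

open IsLocalRing MvPolynomial
open Groth.Agent.Lib.Helper28
open scoped Pointwise

section colon

variable {ι A σ : Type*} [DecidableEq ι] [AddCancelCommMonoid ι] [CommRing A]
  [SetLike σ A] [AddSubgroupClass σ A] (𝒜 : ι → σ) [GradedRing 𝒜]

/-- the colon of two homogeneous ideals is homogeneous -/
theorem colon_isHomogeneous (𝔠 I : Ideal A) (h𝔠 : 𝔠.IsHomogeneous 𝒜) (hI : I.IsHomogeneous 𝒜) :
    (𝔠.colon (I : Set A)).IsHomogeneous 𝒜 := by
  classical
  intro i x hx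
  rw [Submodule.mem_colon] at hx ⊢
  intro y hy
  rw [← DirectSum.sum_support_decompose 𝒜 y, Finset.smul_sum]
  refine Ideal.sum_mem _ fun j _ => ?_
  have hyj : (DirectSum.decompose 𝒜 y j : A) ∈ I := hI j hy
  have h1 : x * (DirectSum.decompose 𝒜 y j : A) ∈ 𝔠 := by
    have := hx _ hyj
    rwa [smul_eq_mul] at this
  have h2 := h𝔠 (i + j) h1
  rw [DirectSum.coe_decompose_mul_add_of_right_mem 𝒜 (SetLike.coe_mem _)] at h2
  rw [smul_eq_mul]
  exact h2

end colon

section ci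

variable (K : Type u) [Field K] (m c : ℕ)

theorem withBot_eq_sub_of_add_eq {x : WithBot ℕ∞} (h : ((c : ℕ∞) : WithBot ℕ∞) + x = (m : ℕ)) :
    c ≤ m ∧ x = ((m - c : ℕ) : WithBot ℕ∞) := by
  induction x using WithBot.recBotCoe with
  | bot =>
    rw [WithBot.add_bot] at h
    exact absurd h (by simp)
  | coe y =>
    have h' : (c : ℕ∞) + y = (m : ℕ∞) := by exact_mod_cast h
    have hy : y ≠ ⊤ := by
      intro hy
      rw [hy, add_top] at h'
      exact ENat.top_ne_natCast m h'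
    obtain ⟨e, rfl⟩ := ENat.ne_top_iff_exists.mp hy
    have h'' : c + e = m := by exact_mod_cast h'
    refine ⟨by omega, ?_⟩
    have : e = m - c := by omega
    rw [this]
    rfl

/-- a homogeneous-or-not ideal of height `c` generated by `c` polynomials has a Gorenstein quotient -/
theorem isGorensteinRing_quotient_of_span_range (g : Fin c → MvPolynomial (Fin m) K)
    (𝔠 : Ideal (MvPolynomial (Fin m) K)) (h𝔠g : Ideal.span (Set.range g) = 𝔠)
    (h𝔠c : 𝔠.height = c) (hne : 𝔠 ≠ ⊤) :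
    LocCoh.IsGorensteinRing (MvPolynomial (Fin m) K ⧸ 𝔠) := by
  haveI : Nontrivial (MvPolynomial (Fin m) K ⧸ 𝔠) := Ideal.Quotient.nontrivial_iff.mpr hne
  haveI hK : LocCoh.IsCohenMacaulayRing K := isCohenMacaulayRing_of_field K
  haveI hR : LocCoh.IsCohenMacaulayRing (MvPolynomial (Fin m) K) :=
    isCohenMacaulayRing_mvPolynomial_fin m
  have hsum := height_add_ringKrullDim_quotient_eq_of_forall_isMaximal_height_eq' m
    (height_eq_of_isMaximal_mvPolynomial_fin K m) 𝔠 hne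
  rw [h𝔠c] at hsum
  obtain ⟨hcm, hdim⟩ := withBot_eq_sub_of_add_eq m c hsum
  refine Groth.Agent.Lib.T2H8.QFLoc.gorRing_of_isGlobalCI K _ (Or.inr ?_)
  refine ⟨m, c, hcm, Ideal.Quotient.mkₐ K 𝔠, g, Ideal.Quotient.mkₐ_surjective K 𝔠, ?_, hdim⟩
  rw [h𝔠g]
  exact Ideal.Quotient.mkₐ_ker K 𝔠

end ci

section vertexdepth

variable (K : Type u) [Field K] (n c : ℕ)

/-- the depth of the vertex of a Cohen–Macaulay cone of codimension `c` -/
theorem height_map_le_depth_vertex (𝔠 I : Ideal (MvPolynomial (Fin (n + 1)) K))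
    (hI : I.IsHomogeneous (GrSyz.stdGr K (Fin (n + 1)))) (h𝔠c : 𝔠.height = c)
    (hIht : I.height = c) [hCM : LocCoh.IsCohenMacaulayRing (MvPolynomial (Fin (n + 1)) K ⧸ I)]
    (h𝔠𝔪 : 𝔠 ≤ RingHom.ker (constantCoeff : MvPolynomial (Fin (n + 1)) K →+* K))
    [hmaxker : (RingHom.ker (constantCoeff : MvPolynomial (Fin (n + 1)) K →+* K)).IsMaximal]
    [hp𝔠 : ((RingHom.ker (constantCoeff : MvPolynomial (Fin (n + 1)) K →+* K)).map
      (Ideal.Quotient.mk 𝔠)).IsPrime]
    [hpI : ((RingHom.ker (constantCoeff : MvPolynomial (Fin (n + 1)) K →+* K)).map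
      (Ideal.Quotient.mk I)).IsPrime] :
    ((RingHom.ker (constantCoeff : MvPolynomial (Fin (n + 1)) K →+* K)).map
      (Ideal.Quotient.mk 𝔠)).height ≤
      LocCoh.depth (Localization.AtPrime ((RingHom.ker
        (constantCoeff : MvPolynomial (Fin (n + 1)) K →+* K)).map (Ideal.Quotient.mk I)))
        (Localization.AtPrime ((RingHom.ker
        (constantCoeff : MvPolynomial (Fin (n + 1)) K →+* K)).map (Ideal.Quotient.mk I))) := by
  have h1 := (Groth.Agent.Lib.Helper8.DoubleLink.depth_quot K n I hI c hIht).2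
  rw [Groth.Agent.Helper13FreeRes.irrel_stdGr_eq_ker,
    idealDepth_restrictScalars_eq_idealDepth_map (B := MvPolynomial (Fin (n + 1)) K ⧸ I) _
      (MvPolynomial (Fin (n + 1)) K ⧸ I)] at h1
  have h2 := idealDepth_le_depth_localization ((RingHom.ker
      (constantCoeff : MvPolynomial (Fin (n + 1)) K →+* K)).map (Ideal.Quotient.mk I))
    (MvPolynomial (Fin (n + 1)) K ⧸ I) (le_refl _)
  rw [depth_localizedModule_self] at h2
  refine le_trans ?_ (h1.trans h2)
  have h3 := height_map_add_height_le K (n + 1) _ 𝔠 h𝔠𝔪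
  rw [h𝔠c] at h3
  obtain ⟨d, hd⟩ := ENat.ne_top_iff_exists.mp (Ideal.height_ne_top_of_isPrime
    (I := (RingHom.ker (constantCoeff : MvPolynomial (Fin (n + 1)) K →+* K)).map
      (Ideal.Quotient.mk 𝔠)))
  rw [← hd] at h3 ⊢
  have h4 : d + c ≤ n + 1 := by exact_mod_cast h3
  have h5 : d ≤ n + 1 - c := by omega
  exact_mod_cast h5

end vertexdepth

section transfer

variable {R : Type u} [CommRing R] (𝔪 𝔠 J : Ideal R) (h𝔠J : 𝔠 ≤ J) (hJ𝔪 : J ≤ 𝔪)

include h𝔠J hJ𝔪 in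
/-- the vertex of `(R/𝔠)/(J/𝔠)` is the vertex of `R/J` -/
theorem gor_vertex_of_doubleQuot
    [hq : ((𝔪.map (Ideal.Quotient.mk 𝔠)).map
      (Ideal.Quotient.mk (J.map (Ideal.Quotient.mk 𝔠)))).IsPrime]
    [hpJ : (𝔪.map (Ideal.Quotient.mk J)).IsPrime]
    (hG : LocCoh.IsGorensteinLocalRing (Localization.AtPrime
      ((𝔪.map (Ideal.Quotient.mk 𝔠)).map (Ideal.Quotient.mk (J.map (Ideal.Quotient.mk 𝔠)))))) :
    LocCoh.IsGorensteinLocalRing (Localization.AtPrime (𝔪.map (Ideal.Quotient.mk J))) := by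
  haveI := hG
  have h𝔠𝔪 : 𝔠 ≤ 𝔪 := h𝔠J.trans hJ𝔪
  have hJ𝔪' : J.map (Ideal.Quotient.mk 𝔠) ≤ 𝔪.map (Ideal.Quotient.mk 𝔠) := Ideal.map_mono hJ𝔪
  have hcomap : (𝔪.map (Ideal.Quotient.mk 𝔠)).map
      (Ideal.Quotient.mk (J.map (Ideal.Quotient.mk 𝔠))) =
      (𝔪.map (Ideal.Quotient.mk J)).comap (DoubleQuot.quotQuotEquivQuotOfLE h𝔠J) := by
    ext x
    obtain ⟨x, rfl⟩ := Ideal.Quotient.mk_surjective x
    obtain ⟨r, rfl⟩ := Ideal.Quotient.mk_surjective x
    rw [Ideal.mem_quotient_iff_mem hJ𝔪', Ideal.mem_quotient_iff_mem h𝔠𝔪, Ideal.mem_comap]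
    have h1 : DoubleQuot.quotQuotEquivQuotOfLE h𝔠J
        (Ideal.Quotient.mk (J.map (Ideal.Quotient.mk 𝔠)) (Ideal.Quotient.mk 𝔠 r)) =
        Ideal.Quotient.mk J r := rfl
    rw [h1, Ideal.mem_quotient_iff_mem hJ𝔪]
  have e : Localization.AtPrime ((𝔪.map (Ideal.Quotient.mk 𝔠)).map
      (Ideal.Quotient.mk (J.map (Ideal.Quotient.mk 𝔠)))) ≃+*
      Localization.AtPrime (𝔪.map (Ideal.Quotient.mk J)) :=
    Localization.localRingEquiv _ (𝔪.map (Ideal.Quotient.mk J))
      (DoubleQuot.quotQuotEquivQuotOfLE h𝔠J) hcomap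
  exact Groth.Agent.Lib.Helper5.GorRing.gorLocal_of_ringEquiv
    (R := Localization.AtPrime ((𝔪.map (Ideal.Quotient.mk 𝔠)).map
      (Ideal.Quotient.mk (J.map (Ideal.Quotient.mk 𝔠)))))
    (S := Localization.AtPrime (𝔪.map (Ideal.Quotient.mk J))) e

end transfer

section main

variable (K : Type u) [Field K] (n c : ℕ)

/-- **The link of an almost complete intersection is Gorenstein.** -/
theorem height_colon_and_isGorensteinRing_of_almostCI
    (g : Fin c → MvPolynomial (Fin (n + 1)) K) (f : MvPolynomial (Fin (n + 1)) K)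
    (𝔠 I : Ideal (MvPolynomial (Fin (n + 1)) K)) (h𝔠g : Ideal.span (Set.range g) = 𝔠)
    (h𝔠 : 𝔠.IsHomogeneous (GrSyz.stdGr K (Fin (n + 1))))
    (hI : I.IsHomogeneous (GrSyz.stdGr K (Fin (n + 1))))
    (h𝔠c : 𝔠.height = c) (hIc : I.height = c)
    [hCM : LocCoh.IsCohenMacaulayRing (MvPolynomial (Fin (n + 1)) K ⧸ I)]
    (hlt : 𝔠 < I) (hIf : I = 𝔠 ⊔ Ideal.span {f}) :
    (𝔠.colon (I : Set (MvPolynomial (Fin (n + 1)) K))).height = c ∧
      LocCoh.IsGorensteinRing
        (MvPolynomial (Fin (n + 1)) K ⧸ 𝔠.colon (I : Set (MvPolynomial (Fin (n + 1)) K))) := by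
  classical
  have h𝔠ne : 𝔠 ≠ ⊤ := ne_top_of_lt hlt
  haveI hG := isGorensteinRing_quotient_of_span_range K (n + 1) c g 𝔠 h𝔠g h𝔠c h𝔠ne
  have hI𝔠 : ¬ I ≤ 𝔠 := not_le_of_gt hlt
  have hunm := (Groth.Agent.Lib.Helper5.GorUnmixed.colon_unmixed K (n + 1) 𝔠 I h𝔠 hI𝔠).1
  rw [h𝔠c] at hunm
  refine ⟨hunm, ?_⟩
  have h𝔠I : 𝔠 ≤ I := hlt.le
  have h𝔠J : 𝔠 ≤ 𝔠.colon (I : Set (MvPolynomial (Fin (n + 1)) K)) := by
    intro x hx
    rw [Submodule.mem_colon]
    intro p _
    rw [smul_eq_mul]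
    exact Ideal.mul_mem_right _ _ hx
  have hJtop : 𝔠.colon (I : Set (MvPolynomial (Fin (n + 1)) K)) ≠ ⊤ := by
    intro h
    rw [h, Ideal.height_top] at hunm
    exact ENat.top_ne_natCast c hunm
  have hItop : I ≠ ⊤ := by
    intro h
    rw [h, Ideal.height_top] at hIc
    exact ENat.top_ne_natCast c hIc
  have hJhom : (𝔠.colon (I : Set (MvPolynomial (Fin (n + 1)) K))).IsHomogeneous
      (GrSyz.stdGr K (Fin (n + 1))) :=
    colon_isHomogeneous (GrSyz.stdGr K (Fin (n + 1))) 𝔠 I h𝔠 hI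
  -- the vertex
  haveI hmaxker : (RingHom.ker (constantCoeff : MvPolynomial (Fin (n + 1)) K →+* K)).IsMaximal :=
    RingHom.ker_isMaximal_of_surjective _ (fun a => ⟨C a, constantCoeff_C _ a⟩)
  have hI𝔪 : I ≤ RingHom.ker (constantCoeff : MvPolynomial (Fin (n + 1)) K →+* K) :=
    Groth.Agent.Lib.Helper5.GorUnmixed.le_ker_constantCoeff_of_isHomogeneous K (n + 1) I hI hItop
  have hJ𝔪 : 𝔠.colon (I : Set (MvPolynomial (Fin (n + 1)) K)) ≤
      RingHom.ker (constantCoeff : MvPolynomial (Fin (n + 1)) K →+* K) :=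
    Groth.Agent.Lib.Helper5.GorUnmixed.le_ker_constantCoeff_of_isHomogeneous K (n + 1) _ hJhom hJtop
  have h𝔠𝔪 := h𝔠I.trans hI𝔪
  have hmax : ∀ N : Ideal (MvPolynomial (Fin (n + 1)) K),
      N ≤ RingHom.ker (constantCoeff : MvPolynomial (Fin (n + 1)) K →+* K) →
      ((RingHom.ker (constantCoeff : MvPolynomial (Fin (n + 1)) K →+* K)).map
        (Ideal.Quotient.mk N)).IsMaximal := fun N hN =>
    Ideal.IsMaximal.map_of_surjective_of_ker_le Ideal.Quotient.mk_surjective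
      (by rwa [Ideal.mk_ker])
  haveI hp𝔠 := (hmax 𝔠 h𝔠𝔪).isPrime
  haveI hpI := (hmax I hI𝔪).isPrime
  haveI hpJ := (hmax _ hJ𝔪).isPrime
  have hdep := height_map_le_depth_vertex K n c 𝔠 I hI h𝔠c hIc h𝔠𝔪
  -- the local ring `B`
  haveI hGloc : LocCoh.IsGorensteinLocalRing
      (Localization.AtPrime ((RingHom.ker
        (constantCoeff : MvPolynomial (Fin (n + 1)) K →+* K)).map (Ideal.Quotient.mk 𝔠))) :=
    hG.isGorensteinLocalRing_localization _
  obtain ⟨d, hd⟩ := ENat.ne_top_iff_exists.mp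
    (Ideal.height_ne_top_of_isPrime (I := (RingHom.ker
      (constantCoeff : MvPolynomial (Fin (n + 1)) K →+* K)).map (Ideal.Quotient.mk 𝔠)))
  have hdimB : ringKrullDim (Localization.AtPrime ((RingHom.ker
      (constantCoeff : MvPolynomial (Fin (n + 1)) K →+* K)).map (Ideal.Quotient.mk 𝔠))) = d := by
    rw [IsLocalization.AtPrime.ringKrullDim_eq_height ((RingHom.ker
      (constantCoeff : MvPolynomial (Fin (n + 1)) K →+* K)).map (Ideal.Quotient.mk 𝔠))
      (Localization.AtPrime ((RingHom.ker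
      (constantCoeff : MvPolynomial (Fin (n + 1)) K →+* K)).map (Ideal.Quotient.mk 𝔠))), ← hd]
    rfl
  have hann : ∀ y : MvPolynomial (Fin (n + 1)) K ⧸ 𝔠,
      y ∈ (𝔠.colon (I : Set (MvPolynomial (Fin (n + 1)) K))).map (Ideal.Quotient.mk 𝔠) ↔
        ∀ x ∈ I.map (Ideal.Quotient.mk 𝔠), y * x = 0 := by
    intro y
    obtain ⟨y, rfl⟩ := Ideal.Quotient.mk_surjective y
    rw [Ideal.mem_quotient_iff_mem h𝔠J, Submodule.mem_colon]
    constructor
    · intro hy x hx
      obtain ⟨x₀, hx₀, rfl⟩ :=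
        (Ideal.mem_map_iff_of_surjective _ Ideal.Quotient.mk_surjective).mp hx
      rw [← map_mul, Ideal.Quotient.eq_zero_iff_mem]
      exact hy x₀ hx₀
    · intro hy p hp
      have := hy _ (Ideal.mem_map_of_mem _ hp)
      rwa [← map_mul, Ideal.Quotient.eq_zero_iff_mem] at this
  have hb := mem_map_iff_forall_mul_eq_zero ((RingHom.ker
      (constantCoeff : MvPolynomial (Fin (n + 1)) K →+* K)).map (Ideal.Quotient.mk 𝔠))
    (I.map (Ideal.Quotient.mk 𝔠))
    ((𝔠.colon (I : Set (MvPolynomial (Fin (n + 1)) K))).map (Ideal.Quotient.mk 𝔠)) hann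
  have hTI := depth_quotient_eq_depth_localization_quotient _ 𝔠 I h𝔠I hI𝔪
  rw [← hd, ← hTI] at hdep
  have hdepb := le_depth_quotient_annihilator
    (Localization.AtPrime ((RingHom.ker
      (constantCoeff : MvPolynomial (Fin (n + 1)) K →+* K)).map (Ideal.Quotient.mk 𝔠)))
    d hdimB _ _ hb hdep
  -- the ideal `I B` is principal
  have ha : (I.map (Ideal.Quotient.mk 𝔠)).map (algebraMap (MvPolynomial (Fin (n + 1)) K ⧸ 𝔠)
      (Localization.AtPrime ((RingHom.ker
        (constantCoeff : MvPolynomial (Fin (n + 1)) K →+* K)).map (Ideal.Quotient.mk 𝔠)))) =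
      Ideal.span {algebraMap (MvPolynomial (Fin (n + 1)) K ⧸ 𝔠)
        (Localization.AtPrime ((RingHom.ker
          (constantCoeff : MvPolynomial (Fin (n + 1)) K →+* K)).map (Ideal.Quotient.mk 𝔠)))
        (Ideal.Quotient.mk 𝔠 f)} := by
    rw [hIf, Ideal.map_sup, Ideal.map_quotient_self, bot_sup_eq, Ideal.map_span,
      Set.image_singleton, Ideal.map_span, Set.image_singleton]
  have hb' : ∀ r, r ∈ ((𝔠.colon (I : Set (MvPolynomial (Fin (n + 1)) K))).map
      (Ideal.Quotient.mk 𝔠)).map (algebraMap (MvPolynomial (Fin (n + 1)) K ⧸ 𝔠)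
      (Localization.AtPrime ((RingHom.ker
        (constantCoeff : MvPolynomial (Fin (n + 1)) K →+* K)).map (Ideal.Quotient.mk 𝔠)))) ↔
      r * algebraMap (MvPolynomial (Fin (n + 1)) K ⧸ 𝔠)
        (Localization.AtPrime ((RingHom.ker
          (constantCoeff : MvPolynomial (Fin (n + 1)) K →+* K)).map (Ideal.Quotient.mk 𝔠)))
        (Ideal.Quotient.mk 𝔠 f) = 0 := by
    intro r
    rw [hb r, ha]
    constructor
    · intro h
      exact h _ (Ideal.mem_span_singleton_self _)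
    · intro h x hx
      obtain ⟨s, rfl⟩ := Ideal.mem_span_singleton'.mp hx
      rw [mul_left_comm, h, mul_zero]
  have hbB_le : ((𝔠.colon (I : Set (MvPolynomial (Fin (n + 1)) K))).map
      (Ideal.Quotient.mk 𝔠)).map (algebraMap (MvPolynomial (Fin (n + 1)) K ⧸ 𝔠)
      (Localization.AtPrime ((RingHom.ker
        (constantCoeff : MvPolynomial (Fin (n + 1)) K →+* K)).map (Ideal.Quotient.mk 𝔠)))) ≤
      maximalIdeal (Localization.AtPrime ((RingHom.ker
        (constantCoeff : MvPolynomial (Fin (n + 1)) K →+* K)).map (Ideal.Quotient.mk 𝔠))) := by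
    rw [← Localization.AtPrime.map_eq_maximalIdeal]
    exact Ideal.map_mono (Ideal.map_mono hJ𝔪)
  have ht : algebraMap (MvPolynomial (Fin (n + 1)) K ⧸ 𝔠)
      (Localization.AtPrime ((RingHom.ker
        (constantCoeff : MvPolynomial (Fin (n + 1)) K →+* K)).map (Ideal.Quotient.mk 𝔠)))
      (Ideal.Quotient.mk 𝔠 f) ≠ 0 := by
    intro h0
    have h1 := (hb' 1).mpr (by rw [h0, mul_zero])
    exact (Ideal.ne_top_iff_one _).mp (IsLocalRing.maximalIdeal.isMaximal _).ne_top (hbB_le h1)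
  have hGq := isGorensteinLocalRing_quotient_annihilator d
    (Localization.AtPrime ((RingHom.ker
      (constantCoeff : MvPolynomial (Fin (n + 1)) K →+* K)).map (Ideal.Quotient.mk 𝔠)))
    hdimB _ _ _ ha hb' ht hdep hdepb
  -- back to `R/J`
  haveI hq : (((RingHom.ker (constantCoeff : MvPolynomial (Fin (n + 1)) K →+* K)).map
      (Ideal.Quotient.mk 𝔠)).map (Ideal.Quotient.mk
        ((𝔠.colon (I : Set (MvPolynomial (Fin (n + 1)) K))).map
          (Ideal.Quotient.mk 𝔠)))).IsPrime :=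
    Ideal.map_isPrime_of_surjective Ideal.Quotient.mk_surjective
      (by rw [Ideal.mk_ker]; exact Ideal.map_mono hJ𝔪)
  have hG1 := Groth.Agent.Lib.Helper5.KoszulGor.gorLocal_atPrime_quotient
    ((𝔠.colon (I : Set (MvPolynomial (Fin (n + 1)) K))).map (Ideal.Quotient.mk 𝔠))
    ((RingHom.ker (constantCoeff : MvPolynomial (Fin (n + 1)) K →+* K)).map
      (Ideal.Quotient.mk 𝔠)) (Ideal.map_mono hJ𝔪) _ rfl hGq
  have hG2 := gor_vertex_of_doubleQuot _ 𝔠 _ h𝔠J hJ𝔪 hG1
  exact isGorensteinRing_mvPolynomial_quotient_of_vertex _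
    (isHomogeneous_nat_of_stdGr K (n + 1) _ hJhom) hG2

end main

end Groth.Agent.Lib.LeadLk
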