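import Mathlib
import Groth.Agent.Lib.LeadLkc
import Groth.Agent.Lib.LeadLke
import Groth.Agent.Lib.LeadGCMb
import Groth.Agent.Lib.Helper28DepthAss
import Groth.Agent.Lib.Helper28Unmixed

/-!
# Linkage, part H (lead): geometric links — `B/(a₁ + a₂)` is Gorenstein when `a₁ ∩ a₂ = 0`

`B` is a Gorenstein local ring, `a₁ ∩ a₂ = 0`, `B/a₁` and `B/a₂` have maximal depth, and no
minimal prime contains `a₁ + a₂`.  Then `B/(a₁ + a₂)` is Gorenstein.
-/

set_option autoImplicit false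
set_option maxHeartbeats 400000
set_option linter.style.haveILetI false
set_option linter.unusedSectionVars false
set_option linter.unusedVariables false

universe u

namespace Groth.Agent.Lib.LeadLk

open IsLocalRing CategoryTheory CategoryTheory.Abelian
open Groth.Agent.Lib.Helper28

section avoid

variable (B : Type u) [CommRing B] [IsNoetherianRing B] (𝔮 : Ideal B)
  (M1 M2 M3 : Type u) [AddCommGroup M1] [Module B M1] [Module.Finite B M1]
  [AddCommGroup M2] [Module B M2] [Module.Finite B M2]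
  [AddCommGroup M3] [Module B M3] [Module.Finite B M3]

/-- prime avoidance: an ideal contained in no associated prime of three modules contains a
common nonzerodivisor -/
theorem exists_mem_isSMulRegular_three
    (h : ∀ P : Ideal B, (P ∈ associatedPrimes B M1 ∨ P ∈ associatedPrimes B M2 ∨
      P ∈ associatedPrimes B M3) → ¬ 𝔮 ≤ P) :
    ∃ x ∈ 𝔮, IsSMulRegular M1 x ∧ IsSMulRegular M2 x ∧ IsSMulRegular M3 x := by
  classical
  by_contra hno
  push Not at hno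
  set s : Finset (Ideal B) := (associatedPrimes.finite B M1).toFinset ∪
    ((associatedPrimes.finite B M2).toFinset ∪ (associatedPrimes.finite B M3).toFinset) with hs
  have hsmem : ∀ P, P ∈ s ↔ (P ∈ associatedPrimes B M1 ∨ P ∈ associatedPrimes B M2 ∨
      P ∈ associatedPrimes B M3) := by
    intro P
    rw [hs, Finset.mem_union, Finset.mem_union, Set.Finite.mem_toFinset, Set.Finite.mem_toFinset,
      Set.Finite.mem_toFinset]
  have hsub : (𝔮 : Set B) ⊆ ⋃ P ∈ (↑s : Set (Ideal B)), (P : Set B) := by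
    intro x hx
    have hx' := hno x hx
    have key : ∀ (M : Type u) [AddCommGroup M] [Module B M], ¬ IsSMulRegular M x →
        ∃ P ∈ associatedPrimes B M, x ∈ P := by
      intro M _ _ hnr
      have h1 : x ∈ ({ r : B | IsSMulRegular M r }ᶜ : Set B) := hnr
      rw [← biUnion_associatedPrimes_eq_compl_regular B M] at h1
      simp only [Set.mem_iUnion, SetLike.mem_coe, exists_prop] at h1
      exact h1
    by_cases h1 : IsSMulRegular M1 x
    · by_cases h2 : IsSMulRegular M2 x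
      · obtain ⟨P, hP, hxP⟩ := key M3 (hx' h1 h2)
        simp only [Set.mem_iUnion, SetLike.mem_coe, exists_prop]
        exact ⟨P, (hsmem P).mpr (Or.inr (Or.inr hP)), hxP⟩
      · obtain ⟨P, hP, hxP⟩ := key M2 h2
        simp only [Set.mem_iUnion, SetLike.mem_coe, exists_prop]
        exact ⟨P, (hsmem P).mpr (Or.inr (Or.inl hP)), hxP⟩
    · obtain ⟨P, hP, hxP⟩ := key M1 h1
      simp only [Set.mem_iUnion, SetLike.mem_coe, exists_prop]
      exact ⟨P, (hsmem P).mpr (Or.inl hP), hxP⟩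
  have hprime : ∀ P ∈ s, P ≠ (⊥ : Ideal B) → P ≠ (⊥ : Ideal B) → (id P : Ideal B).IsPrime := by
    intro P hP _ _
    rcases (hsmem P).mp hP with h1 | h1 | h1
    · exact h1.isPrime
    · exact h1.isPrime
    · exact h1.isPrime
  obtain ⟨P, hPs, hle⟩ := (Ideal.subset_union_prime (f := id) (⊥ : Ideal B) (⊥ : Ideal B)
    hprime).mp hsub
  exact h P ((hsmem P).mp hPs) hle

end avoid

section div

variable {B : Type u} [CommRing B]

/-- division by a nonzerodivisor, as a linear map -/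
theorem exists_linearMap_of_forall_exists_mul (x : B) (hx : IsSMulRegular B x) (a : Ideal B) (b : B)
    (h : ∀ u ∈ a, ∃ w, b * u = x * w) :
    ∃ ψ : a →ₗ[B] B, ∀ u : a, x * ψ u = b * (u : B) := by
  have hinj : Function.Injective (LinearMap.mulLeft B x) := fun p q hpq => hx hpq
  let e := LinearEquiv.ofInjective (LinearMap.mulLeft B x) hinj
  let g : a →ₗ[B] LinearMap.range (LinearMap.mulLeft B x) :=
    LinearMap.codRestrict (LinearMap.range (LinearMap.mulLeft B x))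
      ((LinearMap.mulLeft B b).comp a.subtype) (fun u => by
        obtain ⟨w, hw⟩ := h u u.2
        exact ⟨w, hw.symm⟩)
  refine ⟨e.symm.toLinearMap.comp g, fun u => ?_⟩
  have h1 : ((e (e.symm (g u)) : LinearMap.range (LinearMap.mulLeft B x)) : B) = (g u : B) := by
    rw [LinearEquiv.apply_symm_apply]
  exact h1

/-- a linear map `a → B` is a multiplication as soon as `Ext¹(B/a, B) = 0` -/
theorem exists_mul_of_linearMap (a : Ideal B)
    (h : Subsingleton (Ext.{u} (ModuleCat.of B (B ⧸ a)) (ModuleCat.of B B) 1))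
    (φ : a →ₗ[B] B) : ∃ r : B, ∀ u : a, φ u = r * (u : B) := by
  obtain ⟨ψ, hψ⟩ := exists_extension_of_ext_one a.subtype a.mkQ
    (Submodule.injective_subtype _) (Submodule.mkQ_surjective _)
    (LinearMap.exact_subtype_mkQ a) h φ
  refine ⟨ψ 1, fun u => ?_⟩
  have h1 : φ u = ψ (u : B) := by
    rw [← hψ]
    rfl
  rw [h1]
  have h2 : ψ ((u : B) • (1 : B)) = (u : B) • ψ 1 := map_smul ψ _ _
  rw [smul_eq_mul, mul_one, smul_eq_mul] at h2
  rw [h2, mul_comm]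

end div

section elementary

variable {B : Type u} [CommRing B] (a₁ a₂ : Ideal B) (x x₁ x₂ : B)
  (hx : x = x₁ + x₂) (hx₁ : x₁ ∈ a₁) (hx₂ : x₂ ∈ a₂) (hinf : a₁ ⊓ a₂ = ⊥)
  (hr1 : ∀ s, x * s ∈ a₁ → s ∈ a₁) (hr2 : ∀ s, x * s ∈ a₂ → s ∈ a₂)

include hinf in
theorem mul_eq_zero_of_mem_of_mem {u v : B} (hu : u ∈ a₁) (hv : v ∈ a₂) : u * v = 0 := by
  have h1 : u * v ∈ a₁ ⊓ a₂ := ⟨Ideal.mul_mem_right _ _ hu, Ideal.mul_mem_left _ _ hv⟩
  rw [hinf] at h1
  exact (Submodule.mem_bot B).mp h1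

include hx hx₁ hx₂ hr2 in
theorem mem_right_of_forall_mul_eq_zero {y : B} (h : ∀ u ∈ a₁, y * u = 0) : y ∈ a₂ := by
  apply hr2
  have h1 : x * y = x₂ * y := by
    rw [hx, add_mul, mul_comm x₁ y, h x₁ hx₁, zero_add]
  rw [h1]
  exact Ideal.mul_mem_right _ _ hx₂

include hx hx₁ hx₂ hinf hr1 hr2 in
/-- `z ∈ a₁ + a₂` iff `z x₁ ∈ (x)` -/
theorem mem_sup_iff_exists_mul (z : B) : z ∈ a₁ ⊔ a₂ ↔ ∃ w, z * x₁ = x * w := by
  constructor
  · intro hz
    obtain ⟨u, hu, v, hv, rfl⟩ := Submodule.mem_sup.mp hz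
    refine ⟨u, ?_⟩
    have h1 : v * x₁ = 0 := by
      rw [mul_comm]
      exact mul_eq_zero_of_mem_of_mem a₁ a₂ hinf hx₁ hv
    have h2 : x₂ * u = 0 := by
      rw [mul_comm]
      exact mul_eq_zero_of_mem_of_mem a₁ a₂ hinf hu hx₂
    rw [add_mul, h1, add_zero, hx, add_mul, h2, add_zero, mul_comm]
  · rintro ⟨w, hw⟩
    have hw1 : w ∈ a₁ := by
      apply hr1
      rw [← hw]
      exact Ideal.mul_mem_left _ _ hx₁
    have hw2 : z - w ∈ a₂ := by
      apply hr2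
      have h1 : x * (z - w) = z * x₂ := by
        rw [mul_sub, ← hw, hx]
        ring
      rw [h1]
      exact Ideal.mul_mem_left _ _ hx₂
    have h3 : z = w + (z - w) := by ring
    rw [h3]
    exact Submodule.add_mem_sup hw1 hw2

include hx hx₁ hx₂ hinf hr2 in
/-- half of the cyclicity of the annihilator -/
theorem exists_eq_mul_of_forall_exists (hxB : IsSMulRegular B x)
    (hM : ∀ φ : a₁ →ₗ[B] B, ∃ r : B, ∀ u : a₁, φ u = r * (u : B))
    (y b b' : B) (hb : b ∈ a₁) (hb' : b' ∈ a₂) (hy : y = b + b')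
    (h : ∀ u ∈ a₁, ∃ w, y * u = x * w) : ∃ r, b = x₁ * r := by
  have h1 : ∀ u ∈ a₁, ∃ w, b * u = x * w := by
    intro u hu
    obtain ⟨w, hw⟩ := h u hu
    refine ⟨w, ?_⟩
    have h2 : b' * u = 0 := by
      rw [mul_comm]
      exact mul_eq_zero_of_mem_of_mem a₁ a₂ hinf hu hb'
    rw [← hw, hy, add_mul, h2, add_zero]
  obtain ⟨ψ, hψ⟩ := exists_linearMap_of_forall_exists_mul x hxB a₁ b h1
  obtain ⟨r, hr⟩ := hM ψ
  refine ⟨r, ?_⟩
  have h3 : ∀ u ∈ a₁, (b - x * r) * u = 0 := by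
    intro u hu
    have h4 := hψ ⟨u, hu⟩
    rw [hr ⟨u, hu⟩] at h4
    rw [sub_mul, ← h4]
    ring
  have h5 : b - x * r ∈ a₂ := mem_right_of_forall_mul_eq_zero a₁ a₂ x x₁ x₂ hx hx₁ hx₂ hr2 h3
  have h6 : b - x₁ * r ∈ a₂ := by
    have h7 : b - x₁ * r = (b - x * r) + x₂ * r := by
      rw [hx]
      ring
    rw [h7]
    exact Ideal.add_mem _ h5 (Ideal.mul_mem_right _ _ hx₂)
  have h8 : b - x₁ * r ∈ a₁ := Ideal.sub_mem _ hb (Ideal.mul_mem_right _ _ hx₁)
  have h9 : b - x₁ * r ∈ a₁ ⊓ a₂ := ⟨h8, h6⟩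
  rw [hinf] at h9
  exact sub_eq_zero.mp ((Submodule.mem_bot B).mp h9)

include hx hx₁ hx₂ hinf hr1 hr2 in
/-- the annihilator of `a₁ + a₂` modulo `x` is generated by `x₁` -/
theorem exists_eq_add_of_forall_exists (hxB : IsSMulRegular B x)
    (hM1 : ∀ φ : a₁ →ₗ[B] B, ∃ r : B, ∀ u : a₁, φ u = r * (u : B))
    (hM2 : ∀ φ : a₂ →ₗ[B] B, ∃ r : B, ∀ u : a₂, φ u = r * (u : B))
    (y : B) (h : ∀ u ∈ a₁ ⊔ a₂, ∃ w, y * u = x * w) : ∃ r s, y = x₁ * r + x * s := by
  obtain ⟨b₀, hb₀⟩ := h x₁ (Ideal.mem_sup_left hx₁)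
  have hb1 : b₀ ∈ a₁ := by
    apply hr1
    rw [← hb₀]
    exact Ideal.mul_mem_left _ _ hx₁
  have hb2 : y - b₀ ∈ a₂ := by
    apply hr2
    have h1 : x * (y - b₀) = y * x₂ := by
      rw [mul_sub, ← hb₀, hx]
      ring
    rw [h1]
    exact Ideal.mul_mem_left _ _ hx₂
  have hy : y = b₀ + (y - b₀) := by ring
  obtain ⟨r, hr⟩ := exists_eq_mul_of_forall_exists a₁ a₂ x x₁ x₂ hx hx₁ hx₂ hinf hr2 hxB hM1
    y b₀ (y - b₀) hb1 hb2 hy (fun u hu => h u (Ideal.mem_sup_left hu))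
  have hx' : x = x₂ + x₁ := by rw [hx, add_comm]
  have hinf' : a₂ ⊓ a₁ = ⊥ := by rw [inf_comm, hinf]
  have hy' : y = (y - b₀) + b₀ := by ring
  obtain ⟨r', hr'⟩ := exists_eq_mul_of_forall_exists a₂ a₁ x x₂ x₁ hx' hx₂ hx₁ hinf' hr1 hxB hM2
    y (y - b₀) b₀ hb2 hb1 hy' (fun u hu => h u (Ideal.mem_sup_right hu))
  refine ⟨r - r', r', ?_⟩
  have h2 : y = b₀ + (y - b₀) := hy
  rw [h2, hr']
  conv_lhs => rw [hr]
  rw [hx]
  ring

end elementary

section arith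

theorem enat_eq_zero_of_withBot {h : ℕ∞} {δ : WithBot ℕ∞} {D : ℕ}
    (h1 : ((D : ℕ∞) : WithBot ℕ∞) ≤ δ) (h2 : ((h : ℕ∞) : WithBot ℕ∞) + δ ≤ ((D : ℕ∞) : WithBot ℕ∞)) :
    h = 0 := by
  induction δ using WithBot.recBotCoe with
  | bot =>
    exact absurd h1 (by simp)
  | coe e =>
    have h1' : (D : ℕ∞) ≤ e := by exact_mod_cast h1
    have h2' : h + e ≤ (D : ℕ∞) := by exact_mod_cast h2
    have he : e ≠ ⊤ := by
      intro he
      rw [he, add_top] at h2'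
      exact ENat.natCast_ne_top D (top_le_iff.mp h2')
    have hh : h ≠ ⊤ := by
      intro hh
      rw [hh, top_add] at h2'
      exact ENat.natCast_ne_top D (top_le_iff.mp h2')
    obtain ⟨e, rfl⟩ := ENat.ne_top_iff_exists.mp he
    obtain ⟨h, rfl⟩ := ENat.ne_top_iff_exists.mp hh
    have a1 : D ≤ e := by exact_mod_cast h1'
    have a2 : h + e ≤ D := by exact_mod_cast h2'
    have : h = 0 := by omega
    rw [this]
    rfl

end arith

section localthm

open Groth.Agent.Lib.LeadGCM Groth.Agent.Lib.Helper5.GorRing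

variable (B : Type u) [CommRing B] [hB : LocCoh.IsGorensteinLocalRing B]

/-- **Geometric links.** `B/(a₁ + a₂)` is Gorenstein of dimension one less. -/
theorem isGorensteinLocalRing_quotient_sup (D : ℕ) (hdim : ringKrullDim B = D) (a₁ a₂ : Ideal B)
    (hinf : a₁ ⊓ a₂ = ⊥)
    (hd1 : (D : ℕ∞) ≤ LocCoh.depth B (B ⧸ a₁)) (hd2 : (D : ℕ∞) ≤ LocCoh.depth B (B ⧸ a₂))
    (hne : a₁ ⊔ a₂ ≠ ⊤)
    (hmin : ∀ P : Ideal B, P.IsPrime → a₁ ⊔ a₂ ≤ P → P.height ≠ 0) :
    LocCoh.IsGorensteinLocalRing (B ⧸ (a₁ ⊔ a₂)) ∧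
      (D : ℕ∞) ≤ LocCoh.depth B (B ⧸ (a₁ ⊔ a₂)) + 1 := by
  classical
  have hdepthB : LocCoh.depth B B = (D : ℕ∞) :=
    (Groth.Agent.Lib.Helper29Gorenstein.depth_eq_and_hasInjectiveDimensionLT B D hdim).1
  -- associated primes of modules of maximal depth are minimal
  have hass : ∀ (M : Type u) [AddCommGroup M] [Module B M] [Module.Finite B M],
      (D : ℕ∞) ≤ LocCoh.depth B M → ∀ P ∈ associatedPrimes B M, ¬ (a₁ ⊔ a₂ ≤ P) := by
    intro M _ _ _ hM P hP hle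
    have hPp : P.IsPrime := hP.isPrime
    have h1 := natCast_le_ringKrullDim_quotient_of_le_depth D M hM P hP
    have h2 := height_add_ringKrullDim_quotient_le P hPp.ne_top
    rw [hdim] at h2
    exact hmin P hPp hle (enat_eq_zero_of_withBot h1 h2)
  obtain ⟨x, hx𝔮, hxB, hx1, hx2⟩ := exists_mem_isSMulRegular_three B (a₁ ⊔ a₂) B (B ⧸ a₁)
    (B ⧸ a₂) (by
      rintro P (hP | hP | hP)
      · exact hass B (le_of_eq hdepthB.symm) P hP
      · exact hass (B ⧸ a₁) hd1 P hP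
      · exact hass (B ⧸ a₂) hd2 P hP)
  obtain ⟨x₁, hx₁, x₂, hx₂, hxsum⟩ := Submodule.mem_sup.mp hx𝔮
  have hxm : x ∈ maximalIdeal B := IsLocalRing.le_maximalIdeal hne hx𝔮
  have hD1 : 1 ≤ D := by
    have h1 : (1 : ℕ∞) ≤ LocCoh.depth B B :=
      (one_le_idealDepth_iff maximalIdeal_smul_top_ne_top).mpr ⟨x, hxm, hxB⟩
    rw [hdepthB] at h1
    exact_mod_cast h1
  obtain ⟨d, rfl⟩ : ∃ d, D = d + 1 := ⟨D - 1, by omega⟩
  have hreg : ∀ (L : Ideal B), IsSMulRegular (B ⧸ L) x → ∀ s : B, x * s ∈ L → s ∈ L := by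
    intro L hL s hs
    have h0 : x • (Ideal.Quotient.mk L s) = 0 := by
      rw [Algebra.smul_def, Ideal.Quotient.algebraMap_eq, ← map_mul,
        Ideal.Quotient.eq_zero_iff_mem]
      exact hs
    have h5 := (isSMulRegular_iff_right_eq_zero_of_smul.mp hL) _ h0
    exact Ideal.Quotient.eq_zero_iff_mem.mp h5
  have hr1 := hreg a₁ hx1
  have hr2 := hreg a₂ hx2
  -- the quotient by `x`
  have hxne : Ideal.span {x} ≠ ⊤ := by
    intro h
    rw [Ideal.span_singleton_eq_top] at h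
    exact hxm h
  haveI : Nontrivial (B ⧸ Ideal.span {x}) := Ideal.Quotient.nontrivial_iff.mpr hxne
  haveI hloc' : IsLocalRing (B ⧸ Ideal.span {x}) :=
    IsLocalRing.of_surjective' (Ideal.Quotient.mk (Ideal.span {x})) Ideal.Quotient.mk_surjective
  haveI hG' : LocCoh.IsGorensteinLocalRing (B ⧸ Ideal.span {x}) :=
    (Groth.Agent.S0343.result B x hxm hxB).mp hB
  have hdim' : ringKrullDim (B ⧸ Ideal.span {x}) = d := by
    have h4 := ringKrullDim_quotient_span_singleton_succ_eq_ringKrullDim hxB hxm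
    rw [hdim] at h4
    apply Groth.Agent.Lib.LeadER.withBot_add_one_cancel
    rw [h4]
    push_cast
    rfl
  -- duality: maps `aᵢ → B` are multiplications
  have hM1 := exists_mul_of_linearMap a₁
    (ext_subsingleton_of_le_depth B (d + 1) hdim (d + 1) (B ⧸ a₁) hd1 1 (by omega))
  have hM2 := exists_mul_of_linearMap a₂
    (ext_subsingleton_of_le_depth B (d + 1) hdim (d + 1) (B ⧸ a₂) hd2 1 (by omega))
  have hA := mem_sup_iff_exists_mul a₁ a₂ x x₁ x₂ hxsum.symm hx₁ hx₂ hinf hr1 hr2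
  have hB1 := exists_eq_add_of_forall_exists a₁ a₂ x x₁ x₂ hxsum.symm hx₁ hx₂ hinf hr1 hr2 hxB
    hM1 hM2
  have hle : Ideal.span {x} ≤ a₁ ⊔ a₂ := (Ideal.span_singleton_le_iff_mem _).mpr hx𝔮
  -- `𝔮' = ann t`
  have hA' : ∀ r', r' ∈ (a₁ ⊔ a₂).map (Ideal.Quotient.mk (Ideal.span {x})) ↔
      r' * Ideal.Quotient.mk (Ideal.span {x}) x₁ = 0 := by
    intro r'
    obtain ⟨z, rfl⟩ := Ideal.Quotient.mk_surjective r'
    rw [Ideal.mem_quotient_iff_mem hle, hA z, ← map_mul, Ideal.Quotient.eq_zero_iff_mem,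
      Ideal.mem_span_singleton']
    constructor
    · rintro ⟨w, hw⟩
      exact ⟨w, by rw [hw, mul_comm]⟩
    · rintro ⟨w, hw⟩
      exact ⟨w, by rw [← hw, mul_comm]⟩
  have hq'ne : (a₁ ⊔ a₂).map (Ideal.Quotient.mk (Ideal.span {x})) ≠ ⊤ := by
    intro h
    have h1 : (1 : B ⧸ Ideal.span {x}) ∈ (a₁ ⊔ a₂).map (Ideal.Quotient.mk (Ideal.span {x})) := by
      rw [h]
      trivial
    rw [← map_one (Ideal.Quotient.mk (Ideal.span {x})), Ideal.mem_quotient_iff_mem hle] at h1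
    exact hne ((Ideal.eq_top_iff_one _).mpr h1)
  have ht : Ideal.Quotient.mk (Ideal.span {x}) x₁ ≠ 0 := by
    intro h0
    apply hq'ne
    rw [Ideal.eq_top_iff_one, hA' 1, h0, mul_zero]
  -- depth of `B/𝔮`
  have hdQ : (d : ℕ∞) ≤ LocCoh.depth B (B ⧸ (a₁ ⊔ a₂)) := by
    unfold LocCoh.depth at hd1 hd2 hdepthB ⊢
    have hprod : ((d + 1 : ℕ) : ℕ∞) ≤
        LocCoh.idealDepth (maximalIdeal B) ((B ⧸ a₁) × (B ⧸ a₂)) :=
      le_trans (le_min hd1 hd2)
        (min_idealDepth_le_mid (maximalIdeal B) (LinearMap.inl B (B ⧸ a₁) (B ⧸ a₂))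
          (LinearMap.snd B (B ⧸ a₁) (B ⧸ a₂)) LinearMap.inl_injective LinearMap.snd_surjective
          exact_inl_snd')
    have hbot : LocCoh.idealDepth (maximalIdeal B) (B ⧸ (a₁ ⊓ a₂)) = ((d + 1 : ℕ) : ℕ∞) := by
      rw [idealDepth_congr (Submodule.quotEquivOfEqBot (a₁ ⊓ a₂) hinf), hdepthB]
    have h := min_idealDepth_le_right (maximalIdeal B) (mvF a₁ a₂) (mvG a₁ a₂)
      (mvF_injective a₁ a₂) (mvG_surjective a₁ a₂) (mv_exact a₁ a₂)
    refine le_trans (le_min (le_trans ?_ hprod) ?_) h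
    · exact_mod_cast Nat.le_succ d
    · rw [hbot]
      have h3 : (((d + 1 : ℕ) : ℕ∞) - 1) = (d : ℕ∞) := by
        norm_cast
      rw [h3]
  refine ⟨?_, ?_⟩
  swap
  · push_cast
    exact add_le_add_left hdQ 1
  -- depth over `B/x`
  have hdb' : (d : ℕ∞) ≤ LocCoh.depth (B ⧸ Ideal.span {x})
      ((B ⧸ Ideal.span {x}) ⧸ (a₁ ⊔ a₂).map (Ideal.Quotient.mk (Ideal.span {x}))) := by
    haveI hlochom : IsLocalHom (algebraMap B (B ⧸ Ideal.span {x})) :=
      IsLocalHom.of_surjective _ Ideal.Quotient.mk_surjective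
    haveI hfin : Module.Finite B
        ((B ⧸ Ideal.span {x}) ⧸ (a₁ ⊔ a₂).map (Ideal.Quotient.mk (Ideal.span {x}))) :=
      Module.Finite.trans (B ⧸ Ideal.span {x}) _
    rw [← depth_eq_depth_of_isLocalHom_of_finite (A := B) (B := B ⧸ Ideal.span {x})
      (M := (B ⧸ Ideal.span {x}) ⧸ (a₁ ⊔ a₂).map (Ideal.Quotient.mk (Ideal.span {x})))]
    obtain ⟨e⟩ := nonempty_doubleQuot_equiv (Ideal.span {x}) (a₁ ⊔ a₂) hle
    unfold LocCoh.depth at hdQ ⊢
    rw [idealDepth_congr e]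
    exact hdQ
  -- `(t) = ann 𝔮'`
  have hb : ∀ r, r ∈ Ideal.span {Ideal.Quotient.mk (Ideal.span {x}) x₁} ↔
      ∀ u ∈ (a₁ ⊔ a₂).map (Ideal.Quotient.mk (Ideal.span {x})), r * u = 0 := by
    intro r
    constructor
    · intro hr u hu
      obtain ⟨s, rfl⟩ := Ideal.mem_span_singleton'.mp hr
      rw [mul_assoc, mul_comm _ u, (hA' u).mp hu, mul_zero]
    · intro h
      obtain ⟨y, rfl⟩ := Ideal.Quotient.mk_surjective r
      have h1 : ∀ u ∈ a₁ ⊔ a₂, ∃ w, y * u = x * w := by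
        intro u hu
        have h2 := h _ (Ideal.mem_map_of_mem _ hu)
        rw [← map_mul, Ideal.Quotient.eq_zero_iff_mem, Ideal.mem_span_singleton'] at h2
        obtain ⟨w, hw⟩ := h2
        exact ⟨w, by rw [← hw, mul_comm]⟩
      obtain ⟨r₀, s, hrs⟩ := hB1 y h1
      rw [Ideal.mem_span_singleton']
      refine ⟨Ideal.Quotient.mk (Ideal.span {x}) r₀, ?_⟩
      rw [hrs, map_add, map_mul, map_mul,
        Ideal.Quotient.eq_zero_iff_mem.mpr (Ideal.mem_span_singleton_self x), zero_mul, add_zero,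
        mul_comm]
  have hda' := le_depth_quotient_annihilator (B ⧸ Ideal.span {x}) d hdim'
    ((a₁ ⊔ a₂).map (Ideal.Quotient.mk (Ideal.span {x})))
    (Ideal.span {Ideal.Quotient.mk (Ideal.span {x}) x₁}) hb hdb'
  haveI hGq := isGorensteinLocalRing_quotient_annihilator d (B ⧸ Ideal.span {x}) hdim'
    (Ideal.Quotient.mk (Ideal.span {x}) x₁) (Ideal.span {Ideal.Quotient.mk (Ideal.span {x}) x₁})
    ((a₁ ⊔ a₂).map (Ideal.Quotient.mk (Ideal.span {x}))) rfl hA' ht hda' hdb'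
  exact gorLocal_of_ringEquiv
    (R := (B ⧸ Ideal.span {x}) ⧸ (a₁ ⊔ a₂).map (Ideal.Quotient.mk (Ideal.span {x})))
    (S := B ⧸ (a₁ ⊔ a₂)) (DoubleQuot.quotQuotEquivQuotOfLE hle)

end localthm

end Groth.Agent.Lib.LeadLk
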