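import Mathlib
import Groth.Agent.Lib.LeadLkg
import Groth.Agent.Lib.LeadLkh
import Groth.Agent.Lib.Helper5CMEquidim

/-!
# Linkage, part I (lead): the sum of two geometrically linked ideals is Gorenstein
-/

set_option autoImplicit false
set_option maxHeartbeats 800000
set_option linter.style.haveILetI false
set_option linter.unusedSectionVars false
set_option linter.unusedVariables false

universe u

namespace Groth.Agent.Lib.LeadLk

open IsLocalRing MvPolynomial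
open Groth.Agent.Lib.Helper28
open scoped Pointwise

section heights

variable (K : Type u) [Field K] (m c : ℕ)

/-- the height of an intersection of two ideals of height `c` -/
theorem height_inf_eq {R : Type u} [CommRing R] (I₁ I₂ : Ideal R) (c : ℕ∞)
    (h₁ : I₁.height = c) (h₂ : I₂.height = c) : (I₁ ⊓ I₂).height = c := by
  apply le_antisymm
  · rw [← h₁]
    exact Ideal.height_mono inf_le_left
  · rw [Ideal.height_eq_inf_minimalPrimes]
    refine le_iInf₂ fun P hP => ?_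
    haveI := hP.1.1
    rcases (Ideal.IsPrime.inf_le hP.1.1).mp hP.1.2 with h | h
    · rw [← h₁]
      exact Ideal.height_mono h
    · rw [← h₂]
      exact Ideal.height_mono h

/-- primes containing two unmixed ideals of height `c` without common component have height
at least `c + 1` -/
theorem succ_le_height_of_sup_le (I₁ I₂ : Ideal (MvPolynomial (Fin m) K))
    (hI₁ : I₁.IsHomogeneous (GrSyz.stdGr K (Fin m)))
    (hI₂ : I₂.IsHomogeneous (GrSyz.stdGr K (Fin m)))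
    [LocCoh.IsCohenMacaulayRing (MvPolynomial (Fin m) K ⧸ I₁)]
    [LocCoh.IsCohenMacaulayRing (MvPolynomial (Fin m) K ⧸ I₂)]
    (h₁ : I₁.height = c) (h₂ : I₂.height = c)
    (hdisj : Disjoint I₁.minimalPrimes I₂.minimalPrimes)
    (P : Ideal (MvPolynomial (Fin m) K)) [hP : P.IsPrime] (hle : I₁ ⊔ I₂ ≤ P) :
    ((c + 1 : ℕ) : ℕ∞) ≤ P.height := by
  obtain ⟨P₁, hP₁, hP₁P⟩ := Ideal.exists_minimalPrimes_le (le_sup_left.trans hle)
  obtain ⟨P₂, hP₂, hP₂P⟩ := Ideal.exists_minimalPrimes_le (le_sup_right.trans hle)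
  haveI hP₁p : P₁.IsPrime := hP₁.1.1
  haveI hP₂p : P₂.IsPrime := hP₂.1.1
  have hh₁ : P₁.height = c := by
    rw [Groth.Agent.Lib.Helper5.CMEquidim.height_eq_height_of_mem_minimalPrimes_cm K m I₁ hI₁ hP₁,
      h₁]
  have hh₂ : P₂.height = c := by
    rw [Groth.Agent.Lib.Helper5.CMEquidim.height_eq_height_of_mem_minimalPrimes_cm K m I₂ hI₂ hP₂,
      h₂]
  rcases lt_or_eq_of_le hP₁P with hlt | heq
  · have h3 := Ideal.height_strict_mono_of_isPrime hlt
    rw [hh₁] at h3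
    push_cast
    exact Order.add_one_le_of_lt h3
  · exfalso
    rw [← heq] at hP₂P
    rcases lt_or_eq_of_le hP₂P with hlt | heq'
    · have h3 := Ideal.height_strict_mono_of_isPrime hlt
      rw [hh₁, hh₂] at h3
      exact lt_irrefl _ h3
    · rw [heq'] at hP₂
      exact Set.disjoint_left.mp hdisj hP₁ hP₂

end heights

section main

variable (K : Type u) [Field K] (n c : ℕ)

/-- **The sum of two geometrically linked ideals is Gorenstein of codimension one more.** -/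
theorem height_sup_and_isGorensteinRing_of_geometricallyLinked
    (I₁ I₂ : Ideal (MvPolynomial (Fin (n + 1)) K))
    (hI₁ : I₁.IsHomogeneous (GrSyz.stdGr K (Fin (n + 1))))
    (hI₂ : I₂.IsHomogeneous (GrSyz.stdGr K (Fin (n + 1))))
    [hCM₁ : LocCoh.IsCohenMacaulayRing (MvPolynomial (Fin (n + 1)) K ⧸ I₁)]
    [hCM₂ : LocCoh.IsCohenMacaulayRing (MvPolynomial (Fin (n + 1)) K ⧸ I₂)]
    (h₁ : I₁.height = c) (h₂ : I₂.height = c)
    (hdisj : Disjoint I₁.minimalPrimes I₂.minimalPrimes)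
    [hG : LocCoh.IsGorensteinRing (MvPolynomial (Fin (n + 1)) K ⧸ (I₁ ⊓ I₂))] :
    (I₁ ⊔ I₂).height = c + 1 ∧
      LocCoh.IsGorensteinRing (MvPolynomial (Fin (n + 1)) K ⧸ (I₁ ⊔ I₂)) := by
  classical
  have h𝔠hom : (I₁ ⊓ I₂).IsHomogeneous (GrSyz.stdGr K (Fin (n + 1))) := hI₁.inf hI₂
  have h𝔮hom : (I₁ ⊔ I₂).IsHomogeneous (GrSyz.stdGr K (Fin (n + 1))) := hI₁.sup hI₂
  have hI₁top : I₁ ≠ ⊤ := by
    intro h
    rw [h, Ideal.height_top] at h₁
    exact ENat.top_ne_natCast c h₁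
  have hI₂top : I₂ ≠ ⊤ := by
    intro h
    rw [h, Ideal.height_top] at h₂
    exact ENat.top_ne_natCast c h₂
  have h𝔠c : (I₁ ⊓ I₂).height = c := height_inf_eq I₁ I₂ c h₁ h₂
  haveI hCM𝔠 : LocCoh.IsCohenMacaulayRing (MvPolynomial (Fin (n + 1)) K ⧸ (I₁ ⊓ I₂)) :=
    Groth.Agent.Lib.Helper5.GorUnmixed.isCohenMacaulayRing_of_isGorensteinRing _
  -- the vertex
  haveI hmaxker : (RingHom.ker (constantCoeff : MvPolynomial (Fin (n + 1)) K →+* K)).IsMaximal :=
    RingHom.ker_isMaximal_of_surjective _ (fun a => ⟨C a, constantCoeff_C _ a⟩)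
  have hI₁𝔪 : I₁ ≤ RingHom.ker (constantCoeff : MvPolynomial (Fin (n + 1)) K →+* K) :=
    Groth.Agent.Lib.Helper5.GorUnmixed.le_ker_constantCoeff_of_isHomogeneous K (n + 1) I₁ hI₁ hI₁top
  have hI₂𝔪 : I₂ ≤ RingHom.ker (constantCoeff : MvPolynomial (Fin (n + 1)) K →+* K) :=
    Groth.Agent.Lib.Helper5.GorUnmixed.le_ker_constantCoeff_of_isHomogeneous K (n + 1) I₂ hI₂ hI₂top
  have h𝔮𝔪 : I₁ ⊔ I₂ ≤ RingHom.ker (constantCoeff : MvPolynomial (Fin (n + 1)) K →+* K) :=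
    sup_le hI₁𝔪 hI₂𝔪
  have h𝔠I₁ : I₁ ⊓ I₂ ≤ I₁ := inf_le_left
  have h𝔠I₂ : I₁ ⊓ I₂ ≤ I₂ := inf_le_right
  have h𝔠𝔮 : I₁ ⊓ I₂ ≤ I₁ ⊔ I₂ := inf_le_left.trans le_sup_left
  have h𝔠𝔪 : I₁ ⊓ I₂ ≤ RingHom.ker (constantCoeff : MvPolynomial (Fin (n + 1)) K →+* K) :=
    h𝔠I₁.trans hI₁𝔪
  have hmax : ∀ N : Ideal (MvPolynomial (Fin (n + 1)) K),
      N ≤ RingHom.ker (constantCoeff : MvPolynomial (Fin (n + 1)) K →+* K) →
      ((RingHom.ker (constantCoeff : MvPolynomial (Fin (n + 1)) K →+* K)).map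
        (Ideal.Quotient.mk N)).IsMaximal := fun N hN =>
    Ideal.IsMaximal.map_of_surjective_of_ker_le Ideal.Quotient.mk_surjective
      (by rwa [Ideal.mk_ker])
  haveI hp𝔠 := (hmax _ h𝔠𝔪).isPrime
  haveI hpI₁ := (hmax I₁ hI₁𝔪).isPrime
  haveI hpI₂ := (hmax I₂ hI₂𝔪).isPrime
  haveI hp𝔮 := (hmax _ h𝔮𝔪).isPrime
  have hdep₁ := height_map_le_depth_vertex K n c (I₁ ⊓ I₂) I₁ hI₁ h𝔠c h₁ h𝔠𝔪
  have hdep₂ := height_map_le_depth_vertex K n c (I₁ ⊓ I₂) I₂ hI₂ h𝔠c h₂ h𝔠𝔪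
  -- the local ring `B`
  haveI hGloc : LocCoh.IsGorensteinLocalRing
      (Localization.AtPrime ((RingHom.ker
        (constantCoeff : MvPolynomial (Fin (n + 1)) K →+* K)).map
          (Ideal.Quotient.mk (I₁ ⊓ I₂)))) :=
    hG.isGorensteinLocalRing_localization _
  obtain ⟨D, hD⟩ := ENat.ne_top_iff_exists.mp
    (Ideal.height_ne_top_of_isPrime (I := (RingHom.ker
      (constantCoeff : MvPolynomial (Fin (n + 1)) K →+* K)).map (Ideal.Quotient.mk (I₁ ⊓ I₂))))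
  have hdimB : ringKrullDim (Localization.AtPrime ((RingHom.ker
      (constantCoeff : MvPolynomial (Fin (n + 1)) K →+* K)).map
        (Ideal.Quotient.mk (I₁ ⊓ I₂)))) = D := by
    rw [IsLocalization.AtPrime.ringKrullDim_eq_height ((RingHom.ker
      (constantCoeff : MvPolynomial (Fin (n + 1)) K →+* K)).map (Ideal.Quotient.mk (I₁ ⊓ I₂)))
      (Localization.AtPrime ((RingHom.ker
      (constantCoeff : MvPolynomial (Fin (n + 1)) K →+* K)).map
        (Ideal.Quotient.mk (I₁ ⊓ I₂)))), ← hD]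
    rfl
  have hDc : D + c = n + 1 := by
    have h3 := Groth.Agent.Lib.Helper5.CMEquidim.height_eq_height_map_add_height_of_le K (n + 1)
      (I₁ ⊓ I₂) h𝔠hom (RingHom.ker (constantCoeff : MvPolynomial (Fin (n + 1)) K →+* K)) h𝔠𝔪
    haveI hKcm : LocCoh.IsCohenMacaulayRing K := isCohenMacaulayRing_of_field K
    rw [height_eq_of_isMaximal_mvPolynomial_fin K (n + 1) _ hmaxker, ← hD, h𝔠c] at h3
    exact_mod_cast h3.symm
  have hTI₁ := depth_quotient_eq_depth_localization_quotient _ (I₁ ⊓ I₂) I₁ h𝔠I₁ hI₁𝔪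
  have hTI₂ := depth_quotient_eq_depth_localization_quotient _ (I₁ ⊓ I₂) I₂ h𝔠I₂ hI₂𝔪
  have hTI𝔮 := depth_quotient_eq_depth_localization_quotient _ (I₁ ⊓ I₂) (I₁ ⊔ I₂) h𝔠𝔮 h𝔮𝔪
  rw [← hD, ← hTI₁] at hdep₁
  rw [← hD, ← hTI₂] at hdep₂
  -- `a₁ ∩ a₂ = 0`
  have hinf0 : I₁.map (Ideal.Quotient.mk (I₁ ⊓ I₂)) ⊓ I₂.map (Ideal.Quotient.mk (I₁ ⊓ I₂)) = ⊥ := by
    rw [eq_bot_iff]
    intro y hy
    obtain ⟨r, rfl⟩ := Ideal.Quotient.mk_surjective y
    have hy1 := (Ideal.mem_quotient_iff_mem h𝔠I₁).mp hy.1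
    have hy2 := (Ideal.mem_quotient_iff_mem h𝔠I₂).mp hy.2
    rw [Ideal.mem_bot, Ideal.Quotient.eq_zero_iff_mem]
    exact ⟨hy1, hy2⟩
  have hinf : (I₁.map (Ideal.Quotient.mk (I₁ ⊓ I₂))).map
      (algebraMap (MvPolynomial (Fin (n + 1)) K ⧸ (I₁ ⊓ I₂)) (Localization.AtPrime ((RingHom.ker
        (constantCoeff : MvPolynomial (Fin (n + 1)) K →+* K)).map
          (Ideal.Quotient.mk (I₁ ⊓ I₂))))) ⊓
      (I₂.map (Ideal.Quotient.mk (I₁ ⊓ I₂))).map
      (algebraMap (MvPolynomial (Fin (n + 1)) K ⧸ (I₁ ⊓ I₂)) (Localization.AtPrime ((RingHom.ker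
        (constantCoeff : MvPolynomial (Fin (n + 1)) K →+* K)).map
          (Ideal.Quotient.mk (I₁ ⊓ I₂))))) = ⊥ := by
    rw [← IsLocalization.map_inf ((RingHom.ker
        (constantCoeff : MvPolynomial (Fin (n + 1)) K →+* K)).map
          (Ideal.Quotient.mk (I₁ ⊓ I₂))).primeCompl, hinf0, Ideal.map_bot]
  have hsup : (I₁.map (Ideal.Quotient.mk (I₁ ⊓ I₂))).map
      (algebraMap (MvPolynomial (Fin (n + 1)) K ⧸ (I₁ ⊓ I₂)) (Localization.AtPrime ((RingHom.ker
        (constantCoeff : MvPolynomial (Fin (n + 1)) K →+* K)).map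
          (Ideal.Quotient.mk (I₁ ⊓ I₂))))) ⊔
      (I₂.map (Ideal.Quotient.mk (I₁ ⊓ I₂))).map
      (algebraMap (MvPolynomial (Fin (n + 1)) K ⧸ (I₁ ⊓ I₂)) (Localization.AtPrime ((RingHom.ker
        (constantCoeff : MvPolynomial (Fin (n + 1)) K →+* K)).map
          (Ideal.Quotient.mk (I₁ ⊓ I₂))))) =
      ((I₁ ⊔ I₂).map (Ideal.Quotient.mk (I₁ ⊓ I₂))).map
      (algebraMap (MvPolynomial (Fin (n + 1)) K ⧸ (I₁ ⊓ I₂)) (Localization.AtPrime ((RingHom.ker
        (constantCoeff : MvPolynomial (Fin (n + 1)) K →+* K)).map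
          (Ideal.Quotient.mk (I₁ ⊓ I₂))))) := by
    rw [Ideal.map_sup, Ideal.map_sup]
  have hqB_le : ((I₁ ⊔ I₂).map (Ideal.Quotient.mk (I₁ ⊓ I₂))).map
      (algebraMap (MvPolynomial (Fin (n + 1)) K ⧸ (I₁ ⊓ I₂)) (Localization.AtPrime ((RingHom.ker
        (constantCoeff : MvPolynomial (Fin (n + 1)) K →+* K)).map
          (Ideal.Quotient.mk (I₁ ⊓ I₂))))) ≤
      maximalIdeal (Localization.AtPrime ((RingHom.ker
        (constantCoeff : MvPolynomial (Fin (n + 1)) K →+* K)).map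
          (Ideal.Quotient.mk (I₁ ⊓ I₂)))) := by
    rw [← Localization.AtPrime.map_eq_maximalIdeal]
    exact Ideal.map_mono (Ideal.map_mono h𝔮𝔪)
  have hne : (I₁.map (Ideal.Quotient.mk (I₁ ⊓ I₂))).map
      (algebraMap (MvPolynomial (Fin (n + 1)) K ⧸ (I₁ ⊓ I₂)) (Localization.AtPrime ((RingHom.ker
        (constantCoeff : MvPolynomial (Fin (n + 1)) K →+* K)).map
          (Ideal.Quotient.mk (I₁ ⊓ I₂))))) ⊔
      (I₂.map (Ideal.Quotient.mk (I₁ ⊓ I₂))).map
      (algebraMap (MvPolynomial (Fin (n + 1)) K ⧸ (I₁ ⊓ I₂)) (Localization.AtPrime ((RingHom.ker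
        (constantCoeff : MvPolynomial (Fin (n + 1)) K →+* K)).map
          (Ideal.Quotient.mk (I₁ ⊓ I₂))))) ≠ ⊤ := by
    rw [hsup]
    intro h
    rw [h] at hqB_le
    exact (IsLocalRing.maximalIdeal.isMaximal _).ne_top (top_le_iff.mp hqB_le)
  -- no minimal prime of `B` contains `a₁ + a₂`
  obtain ⟨hGq, hdepQ⟩ := isGorensteinLocalRing_quotient_sup
    (Localization.AtPrime ((RingHom.ker
      (constantCoeff : MvPolynomial (Fin (n + 1)) K →+* K)).map (Ideal.Quotient.mk (I₁ ⊓ I₂))))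
    D hdimB _ _ hinf hdep₁ hdep₂ hne (by
      intro P hP hle
      rw [hsup] at hle
      haveI := hP
      have hPu := IsLocalization.height_under ((RingHom.ker
          (constantCoeff : MvPolynomial (Fin (n + 1)) K →+* K)).map
            (Ideal.Quotient.mk (I₁ ⊓ I₂))).primeCompl P
      rw [← hPu]
      haveI hP'p : (P.under (MvPolynomial (Fin (n + 1)) K ⧸ (I₁ ⊓ I₂))).IsPrime :=
        Ideal.comap_isPrime _ _
      haveI hP₀p : ((P.under (MvPolynomial (Fin (n + 1)) K ⧸ (I₁ ⊓ I₂))).comap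
          (Ideal.Quotient.mk (I₁ ⊓ I₂))).IsPrime := Ideal.comap_isPrime _ _
      have h𝔠P₀ : I₁ ⊓ I₂ ≤ (P.under (MvPolynomial (Fin (n + 1)) K ⧸ (I₁ ⊓ I₂))).comap
          (Ideal.Quotient.mk (I₁ ⊓ I₂)) := by
        intro r hr
        rw [Ideal.mem_comap, Ideal.Quotient.eq_zero_iff_mem.mpr hr]
        exact Ideal.zero_mem _
      have h𝔮P₀ : I₁ ⊔ I₂ ≤ (P.under (MvPolynomial (Fin (n + 1)) K ⧸ (I₁ ⊓ I₂))).comap
          (Ideal.Quotient.mk (I₁ ⊓ I₂)) := by
        intro r hr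
        rw [Ideal.mem_comap, Ideal.under, Ideal.mem_comap]
        exact hle (Ideal.mem_map_of_mem _ (Ideal.mem_map_of_mem _ hr))
      have hLB := succ_le_height_of_sup_le K (n + 1) c I₁ I₂ hI₁ hI₂ h₁ h₂ hdisj _ h𝔮P₀
      have h4 := Groth.Agent.Lib.Helper5.CMEquidim.height_eq_height_map_add_height_of_le K (n + 1)
        (I₁ ⊓ I₂) h𝔠hom _ h𝔠P₀
      rw [Ideal.map_comap_of_surjective _ Ideal.Quotient.mk_surjective, h𝔠c] at h4
      rw [h4] at hLB
      intro h0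
      rw [h0, zero_add] at hLB
      have : c + 1 ≤ c := by exact_mod_cast hLB
      omega)
  rw [hsup] at hGq hdepQ
  -- the height of `I₁ + I₂`
  have hht : (I₁ ⊔ I₂).height = c + 1 := by
    apply le_antisymm
    · have h5 := height_map_add_height_le K (n + 1) _ (I₁ ⊔ I₂) h𝔮𝔪
      rw [hTI𝔮] at hdepQ
      have hN : IsNoetherianRing (Localization.AtPrime ((RingHom.ker
          (constantCoeff : MvPolynomial (Fin (n + 1)) K →+* K)).map
            (Ideal.Quotient.mk (I₁ ⊔ I₂)))) :=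
        IsLocalization.isNoetherianRing ((RingHom.ker
          (constantCoeff : MvPolynomial (Fin (n + 1)) K →+* K)).map
            (Ideal.Quotient.mk (I₁ ⊔ I₂))).primeCompl _ inferInstance
      have h6 : ((LocCoh.depth (Localization.AtPrime ((RingHom.ker
          (constantCoeff : MvPolynomial (Fin (n + 1)) K →+* K)).map
            (Ideal.Quotient.mk (I₁ ⊔ I₂))))
          (Localization.AtPrime ((RingHom.ker
          (constantCoeff : MvPolynomial (Fin (n + 1)) K →+* K)).map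
            (Ideal.Quotient.mk (I₁ ⊔ I₂)))) : ℕ∞) : WithBot ℕ∞) ≤
          Module.supportDim _ _ := depth_le_supportDim
      rw [supportDim_localization_self] at h6
      have h7 : LocCoh.depth (Localization.AtPrime ((RingHom.ker
          (constantCoeff : MvPolynomial (Fin (n + 1)) K →+* K)).map
            (Ideal.Quotient.mk (I₁ ⊔ I₂))))
          (Localization.AtPrime ((RingHom.ker
          (constantCoeff : MvPolynomial (Fin (n + 1)) K →+* K)).map
            (Ideal.Quotient.mk (I₁ ⊔ I₂)))) ≤ ((RingHom.ker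
          (constantCoeff : MvPolynomial (Fin (n + 1)) K →+* K)).map
            (Ideal.Quotient.mk (I₁ ⊔ I₂))).height := WithBot.coe_le_coe.mp h6
      obtain ⟨e, he⟩ := ENat.ne_top_iff_exists.mp (Ideal.height_ne_top_of_isPrime
        (I := (RingHom.ker (constantCoeff : MvPolynomial (Fin (n + 1)) K →+* K)).map
          (Ideal.Quotient.mk (I₁ ⊔ I₂))))
      rw [← he] at h5 h7
      have h8 : (D : ℕ∞) ≤ (e : ℕ∞) + 1 := hdepQ.trans (add_le_add_left h7 1)
      have h8' : D ≤ e + 1 := by exact_mod_cast h8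
      have h9 : (I₁ ⊔ I₂).height ≠ ⊤ := by
        intro htop
        rw [htop, add_top] at h5
        exact ENat.natCast_ne_top _ (top_le_iff.mp h5)
      obtain ⟨hq, hhq⟩ := ENat.ne_top_iff_exists.mp h9
      rw [← hhq] at h5 ⊢
      have h5' : e + hq ≤ n + 1 := by exact_mod_cast h5
      have : hq ≤ c + 1 := by omega
      exact_mod_cast this
    · rw [Ideal.height_eq_inf_minimalPrimes]
      refine le_iInf₂ fun P hP => ?_
      haveI := hP.1.1
      have := succ_le_height_of_sup_le K (n + 1) c I₁ I₂ hI₁ hI₂ h₁ h₂ hdisj P hP.1.2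
      exact_mod_cast this
  refine ⟨hht, ?_⟩
  -- back to `R/(I₁ + I₂)`
  haveI hq : (((RingHom.ker (constantCoeff : MvPolynomial (Fin (n + 1)) K →+* K)).map
      (Ideal.Quotient.mk (I₁ ⊓ I₂))).map (Ideal.Quotient.mk
        ((I₁ ⊔ I₂).map (Ideal.Quotient.mk (I₁ ⊓ I₂))))).IsPrime :=
    Ideal.map_isPrime_of_surjective Ideal.Quotient.mk_surjective
      (by rw [Ideal.mk_ker]; exact Ideal.map_mono h𝔮𝔪)
  have hG1 := Groth.Agent.Lib.Helper5.KoszulGor.gorLocal_atPrime_quotient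
    ((I₁ ⊔ I₂).map (Ideal.Quotient.mk (I₁ ⊓ I₂)))
    ((RingHom.ker (constantCoeff : MvPolynomial (Fin (n + 1)) K →+* K)).map
      (Ideal.Quotient.mk (I₁ ⊓ I₂))) (Ideal.map_mono h𝔮𝔪) _ rfl hGq
  have hG2 := gor_vertex_of_doubleQuot _ (I₁ ⊓ I₂) _ h𝔠𝔮 h𝔮𝔪 hG1
  exact isGorensteinRing_mvPolynomial_quotient_of_vertex _
    (isHomogeneous_nat_of_stdGr K (n + 1) _ h𝔮hom) hG2

end main

end Groth.Agent.Lib.LeadLk
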