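import Mathlib
import Groth.Agent.Lib.Helper5GorArt
import Groth.Agent.Lib.Helper5GorRing
import Groth.Agent.Lib.Helper28LocLoc
import Groth.Agent.Lib.Helper4HilbMultB
import Groth.Agent.Lib.LeadLkc

/-!
# Linkage, part J (lead): lengths in Artinian Gorenstein local rings and linkage

* `length_eq_add_of_annihilator`: in an Artinian Gorenstein local ring `B`, for an ideal `a`
  with annihilator `b`, `ℓ(B) = ℓ(B/a) + ℓ(B/b)`.
* `locLength_eq_add_of_linked`: if `R/𝔠` is Gorenstein, `𝔠 ≤ I` and `p` is a minimal prime of `𝔠`,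
  then `ℓ((R/𝔠)_p) = ℓ((R/I)_p) + ℓ((R/(𝔠:I))_p)`.
-/

set_option autoImplicit false
set_option maxHeartbeats 400000
set_option linter.style.haveILetI false
set_option linter.unusedSectionVars false
set_option linter.unusedVariables false
set_option linter.overlappingInstances false

universe u

namespace Groth.Agent.Lib.LeadLk

open IsLocalRing
open Groth.Agent.Lib.Helper5.GorArt
open Groth.Agent.Lib.Helper4.HilbFun

section lemmaA

variable {B : Type u} [CommRing B] [IsLocalRing B] [IsArtinianRing B]

theorem length_annihilator_le (h : T1 B) (a b : Ideal B)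
    (hab : ∀ y, y ∈ b ↔ ∀ x ∈ a, y * x = 0) :
    Module.length B b ≤ Module.length B (B ⧸ a) := by
  have hker : ∀ y : b, a ≤ LinearMap.ker (LinearMap.toSpanSingleton B B y.1) := by
    intro y x hx
    rw [LinearMap.mem_ker, LinearMap.toSpanSingleton_apply, smul_eq_mul, mul_comm]
    exact (hab y.1).mp y.2 x hx
  let φ : b →ₗ[B] ((B ⧸ a) →ₗ[B] B) :=
    { toFun := fun y => Submodule.liftQ a (LinearMap.toSpanSingleton B B y.1) (hker y)
      map_add' := by
        intro y z
        refine LinearMap.ext fun q => ?_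
        obtain ⟨x, rfl⟩ := Submodule.Quotient.mk_surjective a q
        rw [LinearMap.add_apply, Submodule.liftQ_apply, Submodule.liftQ_apply,
          Submodule.liftQ_apply, LinearMap.toSpanSingleton_apply, LinearMap.toSpanSingleton_apply,
          LinearMap.toSpanSingleton_apply]
        exact smul_add x y.1 z.1
      map_smul' := by
        intro r y
        refine LinearMap.ext fun q => ?_
        obtain ⟨x, rfl⟩ := Submodule.Quotient.mk_surjective a q
        rw [LinearMap.smul_apply, RingHom.id_apply, Submodule.liftQ_apply, Submodule.liftQ_apply,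
          LinearMap.toSpanSingleton_apply, LinearMap.toSpanSingleton_apply]
        exact smul_comm x r y.1 }
  have hφ : ∀ y : b, φ y (Submodule.Quotient.mk 1) = y.1 := by
    intro y
    change Submodule.liftQ a (LinearMap.toSpanSingleton B B y.1) (hker y)
      (Submodule.Quotient.mk 1) = y.1
    rw [Submodule.liftQ_apply, LinearMap.toSpanSingleton_apply, one_smul]
  have hinj : Function.Injective φ := by
    intro y z hyz
    apply Subtype.ext
    rw [← hφ y, ← hφ z, hyz]
  exact (Module.length_le_of_injective φ hinj).trans (length_hom_le' h _)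

theorem length_quotient_annihilator_le (h : T1 B) (a b : Ideal B)
    (hab : ∀ y, y ∈ b ↔ ∀ x ∈ a, y * x = 0) :
    Module.length B (B ⧸ b) ≤ Module.length B a := by
  let ψ : B →ₗ[B] (a →ₗ[B] B) := (LinearMap.lcomp B B a.subtype).comp (LinearMap.mul B B)
  have hψ : ∀ (y : B) (x : a), ψ y x = y * x.1 := fun y x => rfl
  have hker : LinearMap.ker ψ = b := by
    ext y
    rw [LinearMap.mem_ker, hab]
    constructor
    · intro hy x hx
      have := LinearMap.congr_fun hy ⟨x, hx⟩
      rwa [hψ] at this
    · intro hy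
      ext x
      rw [hψ]
      exact hy x.1 x.2
  have e1 : (B ⧸ LinearMap.ker ψ) ≃ₗ[B] (B ⧸ b) := Submodule.quotEquivOfEq _ _ hker
  have e2 : Module.length B (B ⧸ LinearMap.ker ψ) = Module.length B (LinearMap.range ψ) :=
    LinearEquiv.length_eq (M := B ⧸ LinearMap.ker ψ) (N := LinearMap.range ψ) ψ.quotKerEquivRange
  rw [← e1.length_eq, e2]
  exact (Module.length_le_of_injective (LinearMap.range ψ).subtype
    (Submodule.subtype_injective _)).trans (length_hom_le' h _)

/-- In an Artinian Gorenstein local ring, `ℓ(B) = ℓ(B/a) + ℓ(B/ann a)`. -/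
theorem length_eq_add_of_annihilator [LocCoh.IsGorensteinLocalRing B] (a b : Ideal B)
    (hab : ∀ y, y ∈ b ↔ ∀ x ∈ a, y * x = 0) :
    Module.length B B = Module.length B (B ⧸ a) + Module.length B (B ⧸ b) := by
  have h := T1_of_gor B
  have h1 := Module.length_eq_add_of_exact a.subtype a.mkQ (Submodule.subtype_injective a)
    (Submodule.mkQ_surjective a) (LinearMap.exact_subtype_mkQ a)
  have h2 := Module.length_eq_add_of_exact b.subtype b.mkQ (Submodule.subtype_injective b)
    (Submodule.mkQ_surjective b) (LinearMap.exact_subtype_mkQ b)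
  have h3 := length_annihilator_le h a b hab
  have h4 := length_quotient_annihilator_le h a b hab
  have hfin : Module.length B B ≠ ⊤ := Module.length_ne_top
  have ha : Module.length B a ≠ ⊤ := fun ht => hfin (by rw [h1, ht, top_add])
  have hqa : Module.length B (B ⧸ a) ≠ ⊤ := fun ht => hfin (by rw [h1, ht, add_top])
  have hb : Module.length B b ≠ ⊤ := fun ht => hfin (by rw [h2, ht, top_add])
  have hqb : Module.length B (B ⧸ b) ≠ ⊤ := fun ht => hfin (by rw [h2, ht, add_top])
  generalize Module.length B B = l at *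
  generalize Module.length B a = la at *
  generalize Module.length B (B ⧸ a) = lqa at *
  generalize Module.length B b = lb at *
  generalize Module.length B (B ⧸ b) = lqb at *
  lift l to ℕ using hfin
  lift la to ℕ using ha
  lift lqa to ℕ using hqa
  lift lb to ℕ using hb
  lift lqb to ℕ using hqb
  norm_cast at *
  omega

end lemmaA

section plumbing

variable {R : Type u} [CommRing R] [IsNoetherianRing R] (p : Ideal R) [p.IsPrime] (𝔠 : Ideal R)

theorem exists_common_mul_mem (y : R) (G : Finset R)
    (h : ∀ x ∈ G, ∃ t ∈ p.primeCompl, t * y * x ∈ 𝔠) :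
    ∃ t ∈ p.primeCompl, ∀ x ∈ G, t * y * x ∈ 𝔠 := by
  classical
  induction G using Finset.induction_on with
  | empty => exact ⟨1, p.primeCompl.one_mem, by simp⟩
  | insert a G ha ih =>
    obtain ⟨t1, ht1, h1⟩ := ih (fun x hx => h x (Finset.mem_insert_of_mem hx))
    obtain ⟨t2, ht2, h2⟩ := h a (Finset.mem_insert_self a G)
    refine ⟨t1 * t2, p.primeCompl.mul_mem ht1 ht2, ?_⟩
    intro x hx
    rcases Finset.mem_insert.mp hx with rfl | hx
    · have : t1 * t2 * y * x = t1 * (t2 * y * x) := by ring
      rw [this]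
      exact 𝔠.mul_mem_left _ h2
    · have : t1 * t2 * y * x = t2 * (t1 * y * x) := by ring
      rw [this]
      exact 𝔠.mul_mem_left _ (h1 x hx)

/-- colon ideals commute with localization at a prime -/
theorem mem_map_colon_iff (I : Ideal R) (r : Localization.AtPrime p) :
    r ∈ (𝔠.colon (I : Set R)).map (algebraMap R (Localization.AtPrime p)) ↔
      ∀ x ∈ I.map (algebraMap R (Localization.AtPrime p)),
        r * x ∈ 𝔠.map (algebraMap R (Localization.AtPrime p)) := by
  obtain ⟨y, s, rfl⟩ := IsLocalization.exists_mk'_eq p.primeCompl r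
  constructor
  · intro hr x hx
    obtain ⟨t, ht, hty⟩ := (IsLocalization.mk'_mem_map_algebraMap_iff p.primeCompl _ _ _ _).mp hr
    refine Submodule.span_induction ?_ ?_ ?_ ?_ hx
    · rintro _ ⟨x₀, hx₀, rfl⟩
      rw [mul_comm, IsLocalization.mul_mk'_eq_mk'_of_mul,
        IsLocalization.mk'_mem_map_algebraMap_iff p.primeCompl]
      refine ⟨t, ht, ?_⟩
      have h1 := Submodule.mem_colon.mp hty x₀ hx₀
      rw [smul_eq_mul] at h1
      have : t * (x₀ * y) = t * y * x₀ := by ring
      rw [this]
      exact h1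
    · rw [mul_zero]
      exact Ideal.zero_mem _
    · intro a b _ _ ha hb
      rw [mul_add]
      exact Ideal.add_mem _ ha hb
    · intro a b _ hb
      rw [smul_eq_mul, mul_left_comm]
      exact Ideal.mul_mem_left _ _ hb
  · intro hr
    obtain ⟨G, hG⟩ := (isNoetherianRing_iff_ideal_fg R).mp inferInstance I
    have hloc : ∀ x ∈ G, ∃ t ∈ p.primeCompl, t * y * x ∈ 𝔠 := by
      intro x hx
      have hxI : x ∈ I := hG ▸ Ideal.subset_span hx
      have h1 := hr _ (Ideal.mem_map_of_mem _ hxI)
      rw [mul_comm, IsLocalization.mul_mk'_eq_mk'_of_mul,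
        IsLocalization.mk'_mem_map_algebraMap_iff p.primeCompl] at h1
      obtain ⟨t, ht, h2⟩ := h1
      refine ⟨t, ht, ?_⟩
      have : t * y * x = t * (x * y) := by ring
      rw [this]
      exact h2
    obtain ⟨t, ht, htG⟩ := exists_common_mul_mem p 𝔠 y G hloc
    rw [IsLocalization.mk'_mem_map_algebraMap_iff p.primeCompl]
    refine ⟨t, ht, ?_⟩
    rw [Submodule.mem_colon]
    intro x hx
    have hx' : x ∈ Ideal.span (G : Set R) := by
      rw [hG]
      exact hx
    rw [smul_eq_mul]
    refine Submodule.span_induction ?_ ?_ ?_ ?_ hx'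
    · intro x hx
      exact htG x hx
    · rw [mul_zero]
      exact Ideal.zero_mem _
    · intro a b _ _ ha hb
      rw [mul_add]
      exact Ideal.add_mem _ ha hb
    · intro a b _ hb
      rw [smul_eq_mul, mul_left_comm]
      exact Ideal.mul_mem_left _ _ hb

/-- the image of `𝔠 : I` in `R_p / 𝔠 R_p` is the annihilator of the image of `I` -/
theorem mem_map_map_colon_iff (I : Ideal R)
    (y : Localization.AtPrime p ⧸ 𝔠.map (algebraMap R (Localization.AtPrime p))) :
    y ∈ ((𝔠.colon (I : Set R)).map (algebraMap R (Localization.AtPrime p))).map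
        (Ideal.Quotient.mk (𝔠.map (algebraMap R (Localization.AtPrime p)))) ↔
      ∀ x ∈ (I.map (algebraMap R (Localization.AtPrime p))).map
        (Ideal.Quotient.mk (𝔠.map (algebraMap R (Localization.AtPrime p)))), y * x = 0 := by
  obtain ⟨s, rfl⟩ := Ideal.Quotient.mk_surjective y
  constructor
  · intro hy x hx
    obtain ⟨s', hs', hss'⟩ :=
      (Ideal.mem_map_iff_of_surjective _ Ideal.Quotient.mk_surjective).mp hy
    obtain ⟨x', hx', rfl⟩ :=
      (Ideal.mem_map_iff_of_surjective _ Ideal.Quotient.mk_surjective).mp hx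
    rw [← hss', ← map_mul, Ideal.Quotient.eq_zero_iff_mem]
    exact (mem_map_colon_iff p 𝔠 I s').mp hs' x' hx'
  · intro hy
    apply Ideal.mem_map_of_mem
    rw [mem_map_colon_iff]
    intro x' hx'
    have h1 := hy _ (Ideal.mem_map_of_mem _ hx')
    rwa [← map_mul, Ideal.Quotient.eq_zero_iff_mem] at h1

/-- `R_p / ΛR_p` is the localization of `R / Λ` -/
theorem nonempty_quotient_map_equiv_localizedModule (Λ : Ideal R) :
    Nonempty ((Localization.AtPrime p ⧸ Λ.map (algebraMap R (Localization.AtPrime p)))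
      ≃ₗ[Localization.AtPrime p] LocalizedModule p.primeCompl (R ⧸ Λ)) := by
  have hΛ : Submodule.localized' (Localization.AtPrime p) p.primeCompl
      (Algebra.linearMap R (Localization.AtPrime p)) Λ =
      Λ.map (algebraMap R (Localization.AtPrime p)) :=
    Ideal.localized'_eq_map (Localization.AtPrime p) p.primeCompl Λ
  let e₀ := IsLocalizedModule.linearEquiv p.primeCompl
    (Submodule.toLocalizedQuotient' (Localization.AtPrime p) p.primeCompl
      (Algebra.linearMap R (Localization.AtPrime p)) Λ)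
    (LocalizedModule.mkLinearMap p.primeCompl (R ⧸ Λ))
  let e₁ := e₀.extendScalarsOfIsLocalization p.primeCompl (Localization.AtPrime p)
  exact ⟨(Submodule.quotEquivOfEq _ _ hΛ.symm).trans e₁⟩

/-- the local length of `R / X` at `p` as a length over `R_p / 𝔠 R_p` -/
theorem locLength_eq_length_quotient (X : Ideal R) (h𝔠X : 𝔠 ≤ X) :
    locLength X p =
      Module.length (Localization.AtPrime p ⧸ 𝔠.map (algebraMap R (Localization.AtPrime p)))
        ((Localization.AtPrime p ⧸ 𝔠.map (algebraMap R (Localization.AtPrime p))) ⧸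
          (X.map (algebraMap R (Localization.AtPrime p))).map
            (Ideal.Quotient.mk (𝔠.map (algebraMap R (Localization.AtPrime p))))) := by
  obtain ⟨e1⟩ := nonempty_quotient_map_equiv_localizedModule p X
  obtain ⟨e2⟩ := nonempty_doubleQuot_equiv (𝔠.map (algebraMap R (Localization.AtPrime p)))
    (X.map (algebraMap R (Localization.AtPrime p))) (Ideal.map_mono h𝔠X)
  rw [locLength, ← e1.length_eq, ← e2.length_eq]
  exact Module.length_eq_of_surjective Ideal.Quotient.mk_surjective

end plumbing

section main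

variable {R : Type u} [CommRing R] [IsNoetherianRing R] (p : Ideal R) [p.IsPrime] (𝔠 : Ideal R)

open Groth.Agent.Lib.Helper5.GorRing Groth.Agent.Lib.Helper28

theorem gorLocal_localization_quotient_of_le [hG : LocCoh.IsGorensteinRing (R ⧸ 𝔠)] (h𝔠p : 𝔠 ≤ p) :
    LocCoh.IsGorensteinLocalRing
      (Localization.AtPrime p ⧸ 𝔠.map (algebraMap R (Localization.AtPrime p))) := by
  haveI hprime : (p.map (Ideal.Quotient.mk 𝔠)).IsPrime :=
    Ideal.map_isPrime_of_surjective Ideal.Quotient.mk_surjective (by rwa [Ideal.mk_ker])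
  have inst : IsLocalization (Algebra.algebraMapSubmonoid (R ⧸ 𝔠) p.primeCompl)
      (Localization.AtPrime p ⧸ 𝔠.map (algebraMap R (Localization.AtPrime p))) := inferInstance
  rw [algebraMapSubmonoid_quotient_primeCompl 𝔠 p h𝔠p] at inst
  haveI inst' : IsLocalization.AtPrime
      (Localization.AtPrime p ⧸ 𝔠.map (algebraMap R (Localization.AtPrime p)))
      (p.map (Ideal.Quotient.mk 𝔠)) := inst
  haveI := hG.isGorensteinLocalRing_localization (p.map (Ideal.Quotient.mk 𝔠))
  exact gorLocal_of_ringEquiv
    (IsLocalization.algEquiv (p.map (Ideal.Quotient.mk 𝔠)).primeCompl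
      (Localization.AtPrime (p.map (Ideal.Quotient.mk 𝔠)))
      (Localization.AtPrime p ⧸ 𝔠.map (algebraMap R (Localization.AtPrime p)))).toRingEquiv

theorem isArtinianRing_localization_quotient_of_mem_minimalPrimes (hp : p ∈ 𝔠.minimalPrimes) :
    IsArtinianRing (Localization.AtPrime p ⧸ 𝔠.map (algebraMap R (Localization.AtPrime p))) := by
  have h𝔠p : 𝔠 ≤ p := hp.1.2
  have hdim := ringKrullDim_localization_quotient_eq_height 𝔠 p h𝔠p
  haveI hprime : (p.map (Ideal.Quotient.mk 𝔠)).IsPrime :=
    Ideal.map_isPrime_of_surjective Ideal.Quotient.mk_surjective (by rwa [Ideal.mk_ker])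
  have hmin : p.map (Ideal.Quotient.mk 𝔠) ∈ minimalPrimes (R ⧸ 𝔠) := by
    rw [Ideal.minimalPrimes_eq_comap] at hp
    obtain ⟨P, hP, rfl⟩ := hp
    rwa [Ideal.map_comap_of_surjective _ Ideal.Quotient.mk_surjective]
  have hht : (p.map (Ideal.Quotient.mk 𝔠)).height = 0 := by
    rw [Ideal.height_eq_zero_iff]
    exact hmin
  rw [hht] at hdim
  rw [isArtinianRing_iff_isNoetherianRing_krullDimLE_zero]
  refine ⟨inferInstance, ?_⟩
  rw [Ring.krullDimLE_iff, hdim]
  rfl

/-- **Linkage and local lengths**: `ℓ((R/𝔠)_p) = ℓ((R/I)_p) + ℓ((R/(𝔠:I))_p)` at a minimal prime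
`p` of `𝔠`, when `R/𝔠` is Gorenstein. -/
theorem locLength_eq_add_of_linked [hG : LocCoh.IsGorensteinRing (R ⧸ 𝔠)] (I : Ideal R)
    (h𝔠I : 𝔠 ≤ I) (hp : p ∈ 𝔠.minimalPrimes) :
    locLength 𝔠 p = locLength I p + locLength (𝔠.colon (I : Set R)) p := by
  have h𝔠p : 𝔠 ≤ p := hp.1.2
  haveI := gorLocal_localization_quotient_of_le p 𝔠 h𝔠p
  haveI := isArtinianRing_localization_quotient_of_mem_minimalPrimes p 𝔠 hp
  rw [locLength_eq_length_quotient p 𝔠 𝔠 le_rfl, locLength_eq_length_quotient p 𝔠 I h𝔠I,
    locLength_eq_length_quotient p 𝔠 _ Ideal.le_colon,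
    ← length_eq_add_of_annihilator _ _ (mem_map_map_colon_iff p 𝔠 I)]
  exact (Submodule.quotEquivOfEqBot _ (Ideal.map_quotient_self _)).length_eq

end main

end Groth.Agent.Lib.LeadLk
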