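import Mathlib
import Groth.Agent.Lib.LeadLkg
import Groth.Agent.Lib.LeadLkj
import Groth.Agent.Lib.Helper4HilbFunA
import Groth.Agent.Lib.Helper4HilbFunB
import Groth.Agent.Lib.Helper4HilbFunC
import Groth.Agent.Lib.Helper4HilbMultA
import Groth.Agent.Lib.Helper4HilbMultB
import Groth.Agent.Lib.Helper4HilbMultC
import Groth.Agent.Lib.Helper13HB

/-!
# Linkage, part K (lead): multiplicities of linked ideals

* `natDegree_le_of_hilbertPoly`: a Hilbert polynomial of `R/J` with `dim R/J ≤ t + 1` has degree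
  `≤ t`.
* `mult_eq_add_of_linked`: `e(R/𝔠) = e(R/I) + e(R/(𝔠 : I))` for `R/𝔠` Gorenstein of dimension
  `t + 1`.
* `coeff_eq_sub_of_linked`: the corresponding statement for the leading coefficients of Hilbert
  polynomials.
-/

set_option autoImplicit false
set_option maxHeartbeats 800000
set_option linter.style.haveILetI false
set_option linter.unusedSectionVars false
set_option linter.unusedVariables false

universe u

namespace Groth.Agent.Lib.LeadLk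

open IsLocalRing MvPolynomial
open Groth.Agent.Lib.Helper28
open Groth.Agent.Lib.Helper4.HilbFun

attribute [local instance] MvPolynomial.gradedAlgebra

section mult

variable (K : Type u) [Field K] (n : ℕ)

theorem natDegree_le_of_hilbertPoly (J : Ideal (MvPolynomial (Fin (n + 1)) K))
    (hJ : J.IsHomogeneous (CohB1.polyGrading n K)) (t : ℕ)
    (hdim : ringKrullDim (MvPolynomial (Fin (n + 1)) K ⧸ J) ≤ ((t + 1 : ℕ) : WithBot ℕ∞))
    (P : Polynomial ℚ) (m₀ : ℕ)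
    (hP : ∀ m, m₀ ≤ m → Polynomial.eval (m : ℚ) P = (hilb J m : ℚ)) : P.natDegree ≤ t := by
  obtain ⟨C, hC⟩ := exists_hilb_le K n t J hJ hdim
  apply natDegree_le_of_abs_eval_le P t (C : ℚ) m₀
  intro m hm
  rw [hP m hm, abs_of_nonneg (by positivity)]
  exact_mod_cast hC m

/-- additivity of multiplicities under linkage -/
theorem mult_eq_add_of_linked (𝔠 I : Ideal (MvPolynomial (Fin (n + 1)) K))
    (h𝔠 : 𝔠.IsHomogeneous (CohB1.polyGrading n K)) (hI : I.IsHomogeneous (CohB1.polyGrading n K))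
    [LocCoh.IsGorensteinRing (MvPolynomial (Fin (n + 1)) K ⧸ 𝔠)] (h𝔠I : 𝔠 ≤ I) (t : ℕ)
    (hdim : ringKrullDim (MvPolynomial (Fin (n + 1)) K ⧸ 𝔠) = ((t + 1 : ℕ) : WithBot ℕ∞)) :
    mult t 𝔠 = mult t I + mult t (𝔠.colon (I : Set (MvPolynomial (Fin (n + 1)) K))) := by
  classical
  have hJ : (𝔠.colon (I : Set (MvPolynomial (Fin (n + 1)) K))).IsHomogeneous
      (CohB1.polyGrading n K) := colon_isHomogeneous _ 𝔠 I h𝔠 hI
  have hfin : (𝔠.minimalPrimes).Finite := Ideal.finite_minimalPrimes_of_isNoetherianRing _ 𝔠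
  let F := hfin.toFinset
  let e := F.equivFin
  let p : Fin F.card → Ideal (MvPolynomial (Fin (n + 1)) K) := fun i => (e.symm i).1
  have hpmem : ∀ i, p i ∈ 𝔠.minimalPrimes := fun i => hfin.mem_toFinset.mp (e.symm i).2
  haveI hpp : ∀ i, (p i).IsPrime := fun i => (hpmem i).1.1
  have hinj : Function.Injective p := fun i j h => e.symm.injective (Subtype.ext h)
  have hcov : ∀ X : Ideal (MvPolynomial (Fin (n + 1)) K), 𝔠 ≤ X →
      ∀ q : Ideal (MvPolynomial (Fin (n + 1)) K), q.IsPrime → X ≤ q →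
        ringKrullDim (MvPolynomial (Fin (n + 1)) K ⧸ q) = ((t + 1 : ℕ) : WithBot ℕ∞) →
          ∃ i, q = p i := by
    intro X h𝔠X q hq hXq hdq
    obtain ⟨q₀, hq₀min, hq₀le⟩ := Ideal.exists_minimalPrimes_le (h𝔠X.trans hXq)
    haveI := hq₀min.1.1
    have hdq₀ : ringKrullDim (MvPolynomial (Fin (n + 1)) K ⧸ q₀) =
        ((t + 1 : ℕ) : WithBot ℕ∞) := by
      apply le_antisymm
      · exact (ringKrullDim_quotient_anti hq₀min.1.2).trans hdim.le
      · rw [← hdq]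
        exact ringKrullDim_quotient_anti hq₀le
    have heq := eq_of_le_of_dim_eq q₀ q hq₀le (t + 1) hdq₀ hdq
    rw [← heq]
    refine ⟨e ⟨q₀, hfin.mem_toFinset.mpr hq₀min⟩, ?_⟩
    simp [p]
  have hdimI : ringKrullDim (MvPolynomial (Fin (n + 1)) K ⧸ I) ≤ ((t + 1 : ℕ) : WithBot ℕ∞) :=
    (ringKrullDim_quotient_anti h𝔠I).trans hdim.le
  have hdimJ : ringKrullDim (MvPolynomial (Fin (n + 1)) K ⧸
      𝔠.colon (I : Set (MvPolynomial (Fin (n + 1)) K))) ≤ ((t + 1 : ℕ) : WithBot ℕ∞) :=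
    (ringKrullDim_quotient_anti Ideal.le_colon).trans hdim.le
  obtain ⟨fin𝔠, eq𝔠⟩ := mult_eq_sum K n 𝔠 h𝔠 t hdim.le p hinj (hcov 𝔠 le_rfl)
  obtain ⟨finI, eqI⟩ := mult_eq_sum K n I hI t hdimI p hinj (hcov I h𝔠I)
  obtain ⟨finJ, eqJ⟩ := mult_eq_sum K n _ hJ t hdimJ p hinj (hcov _ Ideal.le_colon)
  rw [eq𝔠, eqI, eqJ, ← Finset.sum_add_distrib]
  apply Finset.sum_congr rfl
  intro i _
  split_ifs with hi
  · rw [locLength_eq_add_of_linked (p i) 𝔠 I h𝔠I (hpmem i), ENat.toNat_add (finI i hi) (finJ i hi)]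
    push_cast
    ring
  · simp

/-- the top coefficients of the Hilbert polynomials of linked ideals -/
theorem coeff_eq_sub_of_linked (𝔠 I : Ideal (MvPolynomial (Fin (n + 1)) K))
    (h𝔠 : 𝔠.IsHomogeneous (CohB1.polyGrading n K)) (hI : I.IsHomogeneous (CohB1.polyGrading n K))
    [LocCoh.IsGorensteinRing (MvPolynomial (Fin (n + 1)) K ⧸ 𝔠)] (h𝔠I : 𝔠 ≤ I) (t : ℕ)
    (hdim : ringKrullDim (MvPolynomial (Fin (n + 1)) K ⧸ 𝔠) = ((t + 1 : ℕ) : WithBot ℕ∞))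
    (p𝔠 pI pJ : Polynomial ℚ) (m₀ : ℕ)
    (hp𝔠 : ∀ m, m₀ ≤ m → Polynomial.eval (m : ℚ) p𝔠 = (hilb 𝔠 m : ℚ))
    (hpI : ∀ m, m₀ ≤ m → Polynomial.eval (m : ℚ) pI = (hilb I m : ℚ))
    (hpJ : ∀ m, m₀ ≤ m → Polynomial.eval (m : ℚ) pJ =
      (hilb (𝔠.colon (I : Set (MvPolynomial (Fin (n + 1)) K))) m : ℚ)) :
    pJ.coeff t = p𝔠.coeff t - pI.coeff t := by
  have hJ : (𝔠.colon (I : Set (MvPolynomial (Fin (n + 1)) K))).IsHomogeneous
      (CohB1.polyGrading n K) := colon_isHomogeneous _ 𝔠 I h𝔠 hI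
  have hdimI : ringKrullDim (MvPolynomial (Fin (n + 1)) K ⧸ I) ≤ ((t + 1 : ℕ) : WithBot ℕ∞) :=
    (ringKrullDim_quotient_anti h𝔠I).trans hdim.le
  have hdimJ : ringKrullDim (MvPolynomial (Fin (n + 1)) K ⧸
      𝔠.colon (I : Set (MvPolynomial (Fin (n + 1)) K))) ≤ ((t + 1 : ℕ) : WithBot ℕ∞) :=
    (ringKrullDim_quotient_anti Ideal.le_colon).trans hdim.le
  have h1 := mult_eq_of_hilbertPoly 𝔠 p𝔠 t
    (natDegree_le_of_hilbertPoly K n 𝔠 h𝔠 t hdim.le p𝔠 m₀ hp𝔠) m₀ hp𝔠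
  have h2 := mult_eq_of_hilbertPoly I pI t
    (natDegree_le_of_hilbertPoly K n I hI t hdimI pI m₀ hpI) m₀ hpI
  have h3 := mult_eq_of_hilbertPoly _ pJ t
    (natDegree_le_of_hilbertPoly K n _ hJ t hdimJ pJ m₀ hpJ) m₀ hpJ
  have h4 := mult_eq_add_of_linked K n 𝔠 I h𝔠 hI h𝔠I t hdim
  rw [h4] at h1
  push_cast at h1
  rw [h2, h3] at h1
  have ht : (t.factorial : ℚ) ≠ 0 := by exact_mod_cast t.factorial_ne_zero
  have h5 : (t.factorial : ℚ) * pJ.coeff t = (t.factorial : ℚ) * (p𝔠.coeff t - pI.coeff t) := by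
    rw [mul_sub, ← h1]
    ring
  exact mul_left_cancel₀ ht h5

end mult

end Groth.Agent.Lib.LeadLk
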