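import Mathlib
import Groth.Prelude.Def_CohTop

/-!
# Lead: two sheaves receiving locally bijective maps from one presheaf are isomorphic

Elementary form (sections locally in the image; killed sections locally zero), for abelian sheaves on a
topological space.  Requested by helper5 (uniqueness of sheafification for the comparison maps of
`LeadRpushCmp.exists_comparison`).
-/

set_option maxHeartbeats 400000
set_option autoImplicit false

universe u

open CategoryTheory TopologicalSpace Opposite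

namespace Groth.Agent.Lib.Lead.LocBij

variable {Y : TopCat.{u}}

lemma isLocallySurjective_of_elem {P Q : (Opens Y)ᵒᵖ ⥤ AddCommGrpCat.{u}} (c : P ⟶ Q)
    (hs : ∀ (V : Opens Y) (t : Q.obj (op V)) (y : Y), y ∈ V →
      ∃ (V' : Opens Y) (h : V' ≤ V), y ∈ V' ∧
        ∃ α : P.obj (op V'), (c.app (op V')).hom α = (Q.map (homOfLE h).op).hom t) :
    Presheaf.IsLocallySurjective (Opens.grothendieckTopology Y) c where
  imageSieve_mem {V} t := by
    intro y hy
    obtain ⟨V', h, hy', α, hα⟩ := hs V t y hy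
    exact ⟨V', homOfLE h, ⟨α, hα⟩, hy'⟩

lemma isLocallyInjective_of_elem {P Q : (Opens Y)ᵒᵖ ⥤ AddCommGrpCat.{u}} (c : P ⟶ Q)
    (hi : ∀ (V : Opens Y) (α : P.obj (op V)), (c.app (op V)).hom α = 0 → ∀ y : Y, y ∈ V →
      ∃ (V' : Opens Y) (h : V' ≤ V), y ∈ V' ∧ (P.map (homOfLE h).op).hom α = 0) :
    Presheaf.IsLocallyInjective (Opens.grothendieckTopology Y) c where
  equalizerSieve_mem {X} x y h := by
    intro z hz
    have h0 : (c.app (op X.unop)).hom (x - y) = 0 := by
      rw [map_sub, sub_eq_zero]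
      exact h
    obtain ⟨V', hle, hz', hα⟩ := hi X.unop (x - y) h0 z hz
    refine ⟨V', homOfLE hle, ?_, hz'⟩
    rw [map_sub, sub_eq_zero] at hα
    exact hα

/-- Two abelian sheaves on a space receiving locally surjective and locally injective maps (elementary form)
from the same presheaf are isomorphic. -/
theorem nonempty_iso_of_locBij (T1 T2 : CohTop.Ab Y) (P : (Opens Y)ᵒᵖ ⥤ AddCommGrpCat.{u})
    (c1 : P ⟶ T1.obj) (c2 : P ⟶ T2.obj)
    (h1s : ∀ (V : Opens Y) (t : T1.obj.obj (op V)) (y : Y), y ∈ V →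
      ∃ (V' : Opens Y) (h : V' ≤ V), y ∈ V' ∧
        ∃ α : P.obj (op V'), (c1.app (op V')).hom α = (T1.obj.map (homOfLE h).op).hom t)
    (h1i : ∀ (V : Opens Y) (α : P.obj (op V)), (c1.app (op V)).hom α = 0 → ∀ y : Y, y ∈ V →
      ∃ (V' : Opens Y) (h : V' ≤ V), y ∈ V' ∧ (P.map (homOfLE h).op).hom α = 0)
    (h2s : ∀ (V : Opens Y) (t : T2.obj.obj (op V)) (y : Y), y ∈ V →
      ∃ (V' : Opens Y) (h : V' ≤ V), y ∈ V' ∧
        ∃ α : P.obj (op V'), (c2.app (op V')).hom α = (T2.obj.map (homOfLE h).op).hom t)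
    (h2i : ∀ (V : Opens Y) (α : P.obj (op V)), (c2.app (op V)).hom α = 0 → ∀ y : Y, y ∈ V →
      ∃ (V' : Opens Y) (h : V' ≤ V), y ∈ V' ∧ (P.map (homOfLE h).op).hom α = 0) :
    Nonempty (T1 ≅ T2) := by
  haveI := isLocallySurjective_of_elem c1 h1s
  haveI := isLocallyInjective_of_elem c1 h1i
  haveI := isLocallySurjective_of_elem c2 h2s
  haveI := isLocallyInjective_of_elem c2 h2i
  have w1 : (Opens.grothendieckTopology Y).W c1 :=
    (Opens.grothendieckTopology Y).W_of_isLocallyBijective c1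
  have w2 : (Opens.grothendieckTopology Y).W c2 :=
    (Opens.grothendieckTopology Y).W_of_isLocallyBijective c2
  haveI i1 : IsIso ((presheafToSheaf (Opens.grothendieckTopology Y) AddCommGrpCat.{u}).map c1) :=
    ((Opens.grothendieckTopology Y).W_iff c1).1 w1
  haveI i2 : IsIso ((presheafToSheaf (Opens.grothendieckTopology Y) AddCommGrpCat.{u}).map c2) :=
    ((Opens.grothendieckTopology Y).W_iff c2).1 w2
  let a1 : (presheafToSheaf (Opens.grothendieckTopology Y) AddCommGrpCat.{u}).obj T1.obj ≅ T1 :=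
    asIso ((sheafificationAdjunction (Opens.grothendieckTopology Y) AddCommGrpCat.{u}).counit.app T1)
  let a2 : (presheafToSheaf (Opens.grothendieckTopology Y) AddCommGrpCat.{u}).obj T2.obj ≅ T2 :=
    asIso ((sheafificationAdjunction (Opens.grothendieckTopology Y) AddCommGrpCat.{u}).counit.app T2)
  let b1 : (presheafToSheaf (Opens.grothendieckTopology Y) AddCommGrpCat.{u}).obj P ≅
      (presheafToSheaf (Opens.grothendieckTopology Y) AddCommGrpCat.{u}).obj T1.obj :=
    asIso ((presheafToSheaf (Opens.grothendieckTopology Y) AddCommGrpCat.{u}).map c1)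
  let b2 : (presheafToSheaf (Opens.grothendieckTopology Y) AddCommGrpCat.{u}).obj P ≅
      (presheafToSheaf (Opens.grothendieckTopology Y) AddCommGrpCat.{u}).obj T2.obj :=
    asIso ((presheafToSheaf (Opens.grothendieckTopology Y) AddCommGrpCat.{u}).map c2)
  exact ⟨a1.symm ≪≫ b1.symm ≪≫ b2 ≪≫ a2⟩

end Groth.Agent.Lib.Lead.LocBij
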