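import Mathlib

set_option maxHeartbeats 400000
set_option autoImplicit false

/-!
# Colimits of schemes can be checked fpqc-locally on the vertex of the cocone
-/

namespace Groth.Agent.Lib.LeadLocColim

open CategoryTheory CategoryTheory.Limits

universe v u w₁ w₂ w₃

section general

variable {C : Type u} [Category.{v} C] [HasPullbacks C] {J : Type w₁} [Category.{w₂} J]
variable (D : J ⥤ C) (c : Cocone D)

/-- the cocone with vertex `s.pt` on the base-changed diagram -/
noncomputable def cB {Y : C} (g : Y ⟶ c.pt) (s : Cocone D) :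
    Cocone ((D.toOver c.pt (fun j => c.ι.app j) (fun g => c.w g) ⋙ Over.pullback g) ⋙
      Over.forget Y) where
  pt := s.pt
  ι :=
    { app := fun j => pullback.fst (c.ι.app j) g ≫ s.ι.app j
      naturality := fun j j' φ => by
        have h1 : ((D.toOver c.pt (fun j => c.ι.app j) (fun g => c.w g) ⋙ Over.pullback g) ⋙
            Over.forget Y).map φ ≫ pullback.fst (c.ι.app j') g =
            pullback.fst (c.ι.app j) g ≫ D.map φ :=
          pullback.lift_fst _ _ _
        exact
          calc ((D.toOver c.pt (fun j => c.ι.app j) (fun g => c.w g) ⋙ Over.pullback g) ⋙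
                Over.forget Y).map φ ≫ pullback.fst (c.ι.app j') g ≫ s.ι.app j'
              = (((D.toOver c.pt (fun j => c.ι.app j) (fun g => c.w g) ⋙ Over.pullback g) ⋙
                Over.forget Y).map φ ≫ pullback.fst (c.ι.app j') g) ≫ s.ι.app j' :=
                (Category.assoc _ _ _).symm
            _ = (pullback.fst (c.ι.app j) g ≫ D.map φ) ≫ s.ι.app j' :=
                congrArg (fun z => z ≫ s.ι.app j') h1
            _ = pullback.fst (c.ι.app j) g ≫ s.ι.app j := by rw [Category.assoc, s.w]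
            _ = (pullback.fst (c.ι.app j) g ≫ s.ι.app j) ≫ 𝟙 _ := (Category.comp_id _).symm }

variable {D c}

lemma key {I : Type w₃} {X : I → C} (f : ∀ a, X a ⟶ c.pt) {Y : C} (g : Y ⟶ c.pt) (s : Cocone D)
    (a : I) (q : Y ⟶ X a) (hq : q ≫ f a = g) (mA : X a ⟶ s.pt)
    (hmA : ∀ j, pullback.snd (c.ι.app j) (f a) ≫ mA =
      pullback.fst (c.ι.app j) (f a) ≫ s.ι.app j) (j : J) :
    pullback.snd (c.ι.app j) g ≫ q ≫ mA = pullback.fst (c.ι.app j) g ≫ s.ι.app j := by
  subst hq
  have hc : pullback.fst (c.ι.app j) (q ≫ f a) ≫ c.ι.app j =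
      (pullback.snd (c.ι.app j) (q ≫ f a) ≫ q) ≫ f a := by
    rw [pullback.condition, Category.assoc]
  calc pullback.snd (c.ι.app j) (q ≫ f a) ≫ q ≫ mA
      = (pullback.lift _ _ hc ≫ pullback.snd (c.ι.app j) (f a)) ≫ mA := by
        rw [pullback.lift_snd, Category.assoc]
    _ = pullback.lift _ _ hc ≫ pullback.fst (c.ι.app j) (f a) ≫ s.ι.app j := by
        rw [Category.assoc, hmA]
    _ = pullback.fst (c.ι.app j) (q ≫ f a) ≫ s.ι.app j := by
        rw [← Category.assoc, pullback.lift_fst]

variable (D c)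

theorem isColimit_of_local {I : Type w₃} (X : I → C) (f : ∀ a, X a ⟶ c.pt)
    (hsep : ∀ (T : C) (j : J) (u v : D.obj j ⟶ T),
      (∀ a, pullback.fst (c.ι.app j) (f a) ≫ u = pullback.fst (c.ι.app j) (f a) ≫ v) → u = v)
    (hglue : ∀ (T : C) (m : ∀ a, X a ⟶ T),
      (∀ a b, pullback.fst (f a) (f b) ≫ m a = pullback.snd (f a) (f b) ≫ m b) →
        ∃ t : c.pt ⟶ T, ∀ a, f a ≫ t = m a)
    (hsepW : ∀ (T : C) (u v : c.pt ⟶ T), (∀ a, f a ≫ u = f a ≫ v) → u = v)
    (h1 : ∀ a, Nonempty (IsColimit ((Over.forgetCocone (X a)).whisker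
      (D.toOver c.pt (fun j => c.ι.app j) (fun g => c.w g) ⋙ Over.pullback (f a)))))
    (h2 : ∀ a b, Nonempty (IsColimit ((Over.forgetCocone (pullback (f a) (f b))).whisker
      (D.toOver c.pt (fun j => c.ι.app j) (fun g => c.w g) ⋙
        Over.pullback (pullback.fst (f a) (f b) ≫ f a))))) :
    Nonempty (IsColimit c) := by
  classical
  let m : ∀ (s : Cocone D) (a : I), X a ⟶ s.pt :=
    fun s a => (h1 a).some.desc (cB D c (f a) s)
  have hm : ∀ (s : Cocone D) (a : I) (j : J),
      pullback.snd (c.ι.app j) (f a) ≫ m s a = pullback.fst (c.ι.app j) (f a) ≫ s.ι.app j :=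
    fun s a j => (h1 a).some.fac (cB D c (f a) s) j
  have hcompat : ∀ (s : Cocone D) (a b : I),
      pullback.fst (f a) (f b) ≫ m s a = pullback.snd (f a) (f b) ≫ m s b := by
    intro s a b
    refine (h2 a b).some.hom_ext (fun j => ?_)
    exact (key f (pullback.fst (f a) (f b) ≫ f a) s a (pullback.fst (f a) (f b)) rfl
      (m s a) (hm s a) j).trans
      (key f (pullback.fst (f a) (f b) ≫ f a) s b (pullback.snd (f a) (f b))
        pullback.condition.symm (m s b) (hm s b) j).symm
  have hex : ∀ s : Cocone D, ∃ t : c.pt ⟶ s.pt, ∀ a, f a ≫ t = m s a :=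
    fun s => hglue s.pt (m s) (hcompat s)
  refine ⟨{ desc := fun s => (hex s).choose, fac := fun s j => ?_, uniq := fun s t ht => ?_ }⟩
  · have hc := (hex s).choose_spec
    refine hsep s.pt j _ _ (fun a => ?_)
    calc pullback.fst (c.ι.app j) (f a) ≫ c.ι.app j ≫ (hex s).choose
        = (pullback.snd (c.ι.app j) (f a) ≫ f a) ≫ (hex s).choose := by
          rw [← Category.assoc, pullback.condition]
      _ = pullback.snd (c.ι.app j) (f a) ≫ m s a := by rw [Category.assoc, hc a]
      _ = pullback.fst (c.ι.app j) (f a) ≫ s.ι.app j := hm s a j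
  · have hc := (hex s).choose_spec
    refine hsepW s.pt _ _ (fun a => ?_)
    rw [hc a]
    refine (h1 a).some.hom_ext (fun j => ?_)
    have h3 : pullback.snd (c.ι.app j) (f a) ≫ f a ≫ t =
        pullback.fst (c.ι.app j) (f a) ≫ s.ι.app j := by
      rw [← Category.assoc, ← pullback.condition (f := c.ι.app j) (g := f a), Category.assoc, ht j]
    exact h3.trans (hm s a j).symm

end general

section scheme

open AlgebraicGeometry

theorem main {J : Type u} [SmallCategory J] (D : J ⥤ Scheme.{u}) (c : Cocone D)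
    (F : PreZeroHypercover.{w₁} c.pt) (hF : F.presieve₀ ∈ Scheme.fpqcPrecoverage c.pt)
    (h1 : ∀ a : F.I₀, Nonempty (IsColimit ((Over.forgetCocone (F.X a)).whisker
      (D.toOver c.pt (fun j => c.ι.app j) (fun g => c.w g) ⋙ Over.pullback (F.f a)))))
    (h2 : ∀ a b : F.I₀, Nonempty (IsColimit ((Over.forgetCocone (pullback (F.f a) (F.f b))).whisker
      (D.toOver c.pt (fun j => c.ι.app j) (fun g => c.w g) ⋙
        Over.pullback (pullback.fst (F.f a) (F.f b) ≫ F.f a))))) :
    Nonempty (IsColimit c) := by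
  have hcov : Sieve.generate F.presieve₀ ∈ Scheme.fpqcTopology c.pt :=
    Precoverage.generate_mem_toGrothendieck hF
  have hsheaf : ∀ T : Scheme.{u}, Presieve.IsSheaf Scheme.fpqcTopology (yoneda.obj T) :=
    fun T => GrothendieckTopology.Subcanonical.isSheaf_of_isRepresentable _
  refine isColimit_of_local D c F.X F.f ?_ ?_ ?_ h1 h2
  · intro T j u v huv
    have hS : (Sieve.generate F.presieve₀).pullback (c.ι.app j) ∈
        Scheme.fpqcTopology (D.obj j) :=
      Scheme.fpqcTopology.pullback_stable _ hcov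
    have hsepS : Presieve.IsSeparatedFor (yoneda.obj T)
        ((Sieve.generate F.presieve₀).pullback (c.ι.app j)).arrows :=
      (hsheaf T _ hS).isSeparatedFor
    refine hsepS.ext ?_
    intro Y g hg
    obtain ⟨Z, h, k, hk, hfac⟩ := hg
    obtain ⟨a⟩ := hk
    have hg' : g = pullback.lift g h hfac.symm ≫ pullback.fst (c.ι.app j) (F.f a) :=
      (pullback.lift_fst _ _ _).symm
    show g ≫ u = g ≫ v
    rw [hg', Category.assoc, Category.assoc, huv a]
  · intro T m hm
    have hsh : Presieve.IsSheafFor (yoneda.obj T) (Presieve.ofArrows F.X F.f) :=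
      (hsheaf T).isSheafFor _ hcov
    rw [Presieve.isSheafFor_arrows_iff_pullbacks] at hsh
    obtain ⟨t, ht, -⟩ := hsh m (fun a b => hm a b)
    exact ⟨t, ht⟩
  · intro T u v huv
    have hsh : Presieve.IsSheafFor (yoneda.obj T) (Presieve.ofArrows F.X F.f) :=
      (hsheaf T).isSheafFor _ hcov
    refine hsh.isSeparatedFor.ext ?_
    rintro Y g ⟨a⟩
    exact huv a

end scheme

end Groth.Agent.Lib.LeadLocColim
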