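import Mathlib
import Groth.Prelude.Def_Exal
import Groth.Agent.Lib.Helper7ExalBaer
import Groth.Agent.Lib.LeadLxA

/-!
# Extensions of a deformation across a semismall extension: ring level, part B

The sum `Y ⊞ Z` of a lift `Y` and an extension `Z` of `B₀` by `B₀ ⊗ J`.
-/

set_option autoImplicit false
set_option maxHeartbeats 400000
set_option linter.style.haveILetI false
set_option linter.unusedSectionVars false
set_option linter.unusedVariables false

universe u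

open TensorProduct

namespace Groth.Agent.Lib.LeadLx

open Groth.Agent.Lib.Helper7.ExalLib

variable {k C' B₀ B : Type u} [Field k] [CommRing C'] [Algebra k C'] [CommRing B₀] [Algebra k B₀]
  [CommRing B]

variable {r' : C' →ₐ[k] k} {J : Ideal C'} {γB : C' →+* B} {πB : B →+* B₀}

/-- the fibre product of `E` and `Z.E` over `B₀`. -/
def sumS (hD : IsBase r' J γB πB) (Y : Lift γB J) (Z : Exal.Ext k B₀ (B₀ ⊗[k] ↥J)) :
    Subring (Y.E × Z.E) :=
  RingHom.eqLocus ((pi πB Y).comp (RingHom.fst Y.E Z.E))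
    ((Z.proj : Z.E →+* B₀).comp (RingHom.snd Y.E Z.E))

section

variable (hD : IsBase r' J γB πB) (Y : Lift γB J) (Z : Exal.Ext k B₀ (B₀ ⊗[k] ↥J))

theorem mem_sumS (x : Y.E × Z.E) : x ∈ sumS hD Y Z ↔ pi πB Y x.1 = Z.proj x.2 := Iff.rfl

/-- the antidiagonal copy of `B₀ ⊗ J`. -/
def sumI : Ideal (sumS hD Y Z) where
  carrier := {x | ∃ m, (x : Y.E × Z.E) = (iota hD Y m, -(Z.incl m))}
  add_mem' := by
    rintro x y ⟨m, hm⟩ ⟨m', hm'⟩
    refine ⟨m + m', ?_⟩
    rw [Subring.coe_add, hm, hm', map_add, map_add, neg_add]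
    rfl
  zero_mem' := ⟨0, by rw [map_zero, map_zero, neg_zero]; rfl⟩
  smul_mem' := by
    rintro c x ⟨m, hm⟩
    have hc : pi πB Y (c : Y.E × Z.E).1 = Z.proj (c : Y.E × Z.E).2 := c.2
    refine ⟨pi πB Y (c : Y.E × Z.E).1 • m, ?_⟩
    rw [smul_eq_mul, Subring.coe_mul, hm]
    apply Prod.ext
    · change (c : Y.E × Z.E).1 * iota hD Y m = _
      rw [mul_iota]
    · change (c : Y.E × Z.E).2 * -(Z.incl m) = -(Z.incl _)
      rw [mul_neg, Z.isExtension.mul_incl, hc]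

theorem mem_sumI (x : sumS hD Y Z) :
    x ∈ sumI hD Y Z ↔ ∃ m, (x : Y.E × Z.E) = (iota hD Y m, -(Z.incl m)) := Iff.rfl

/-- the middle ring of the sum. -/
abbrev sumE : Type u := sumS hD Y Z ⧸ sumI hD Y Z

/-- the quotient map. -/
def sumMk : sumS hD Y Z →+* sumE hD Y Z := Ideal.Quotient.mk (sumI hD Y Z)

theorem sumMk_surjective : Function.Surjective (sumMk hD Y Z) := Ideal.Quotient.mk_surjective

theorem sumMk_eq_zero_iff (x : sumS hD Y Z) :
    sumMk hD Y Z x = 0 ↔ ∃ m, (x : Y.E × Z.E) = (iota hD Y m, -(Z.incl m)) :=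
  Ideal.Quotient.eq_zero_iff_mem

theorem sumMk_eq_iff (x y : sumS hD Y Z) :
    sumMk hD Y Z x = sumMk hD Y Z y ↔
      ∃ m, ((x - y : sumS hD Y Z) : Y.E × Z.E) = (iota hD Y m, -(Z.incl m)) :=
  Ideal.Quotient.eq

/-- the structure map into the fibre product. -/
def sumγS : C' →+* sumS hD Y Z :=
  RingHom.codRestrict (RingHom.prod Y.γ ((algebraMap k Z.E).comp (r' : C' →+* k))) (sumS hD Y Z)
    (fun c => by
      change pi πB Y (Y.γ c) = Z.proj (algebraMap k Z.E (r' c))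
      rw [pi_γ hD, AlgHom.commutes])

theorem sumγS_coe (c : C') :
    ((sumγS hD Y Z c : sumS hD Y Z) : Y.E × Z.E) = (Y.γ c, algebraMap k Z.E (r' c)) := rfl

/-- the structure map of the sum. -/
def sumγ : C' →+* sumE hD Y Z := (sumMk hD Y Z).comp (sumγS hD Y Z)

/-- the projection of the sum to `B`. -/
def sumq : sumE hD Y Z →+* B :=
  Ideal.Quotient.lift (sumI hD Y Z)
    ((Y.q.comp (RingHom.fst Y.E Z.E)).comp (sumS hD Y Z).subtype) (by
      rintro x ⟨m, hm⟩
      change Y.q (x : Y.E × Z.E).1 = 0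
      rw [hm]
      exact q_iota hD Y m)

theorem sumq_mk (x : sumS hD Y Z) : sumq hD Y Z (sumMk hD Y Z x) = Y.q (x : Y.E × Z.E).1 := rfl

/-- the element `(ι m, 0)`. -/
noncomputable def inl0 (m : B₀ ⊗[k] ↥J) : sumS hD Y Z :=
  ⟨(iota hD Y m, 0), by rw [mem_sumS]; change pi πB Y (iota hD Y m) = Z.proj 0; rw [pi_iota, map_zero]⟩

/-- the element `(0, incl m)`. -/
def inr0 (m : B₀ ⊗[k] ↥J) : sumS hD Y Z :=
  ⟨(0, Z.incl m), by rw [mem_sumS]; change pi πB Y 0 = Z.proj (Z.incl m); rw [proj_incl, map_zero]⟩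

theorem sumMk_inl0_eq (m : B₀ ⊗[k] ↥J) : sumMk hD Y Z (inl0 hD Y Z m) = sumMk hD Y Z (inr0 hD Y Z m) := by
  rw [sumMk_eq_iff]
  refine ⟨m, ?_⟩
  apply Prod.ext
  · change iota hD Y m - 0 = iota hD Y m
    rw [sub_zero]
  · change (0 : Z.E) - Z.incl m = -(Z.incl m)
    rw [zero_sub]

theorem inl0_add (m m' : B₀ ⊗[k] ↥J) : inl0 hD Y Z (m + m') = inl0 hD Y Z m + inl0 hD Y Z m' := by
  apply Subtype.ext
  apply Prod.ext
  · change iota hD Y (m + m') = iota hD Y m + iota hD Y m'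
    rw [map_add]
  · change (0 : Z.E) = 0 + 0
    rw [add_zero]

theorem inl0_zero : inl0 hD Y Z 0 = 0 := by
  apply Subtype.ext
  apply Prod.ext
  · change iota hD Y 0 = 0
    rw [map_zero]
  · rfl

/-- `(ι m, 0)` lies in `J` times the sum. -/
theorem sumMk_inl0_mem (m : B₀ ⊗[k] ↥J) : sumMk hD Y Z (inl0 hD Y Z m) ∈ J.map (sumγ hD Y Z) := by
  induction m using TensorProduct.induction_on with
  | zero => rw [inl0_zero, map_zero]; exact zero_mem _
  | tmul b j =>
    obtain ⟨y, rfl⟩ := pi_surj hD Y b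
    obtain ⟨z, hz⟩ := Z.isExtension.proj_surjective (pi πB Y y)
    have hmem : ((y, z) : Y.E × Z.E) ∈ sumS hD Y Z := by rw [mem_sumS]; exact hz.symm
    have h1 : inl0 hD Y Z (pi πB Y y ⊗ₜ[k] j) = sumγS hD Y Z (j : C') * ⟨(y, z), hmem⟩ := by
      apply Subtype.ext
      apply Prod.ext
      · change iota hD Y (pi πB Y y ⊗ₜ[k] j) = Y.γ (j : C') * y
        rw [iota_tmul]
      · change (0 : Z.E) = algebraMap k Z.E (r' (j : C')) * z
        rw [hD.J_le _ j.2, map_zero, zero_mul]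
    rw [h1, map_mul]
    exact Ideal.mul_mem_right _ _ (Ideal.mem_map_of_mem _ j.2)
  | add x x' hx hx' =>
    rw [inl0_add, map_add]
    exact add_mem hx hx'

theorem sumq_γ (c : C') : sumq hD Y Z (sumγ hD Y Z c) = γB c := by
  change Y.q (Y.γ c) = γB c
  exact Y.q_γ c

theorem sumq_surj : Function.Surjective (sumq hD Y Z) := by
  intro b
  obtain ⟨y, rfl⟩ := Y.q_surj b
  obtain ⟨z, hz⟩ := Z.isExtension.proj_surjective (pi πB Y y)
  exact ⟨sumMk hD Y Z ⟨(y, z), (mem_sumS hD Y Z _).mpr hz.symm⟩, rfl⟩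

theorem sum_ker_q (x : sumE hD Y Z) (hx : sumq hD Y Z x = 0) : x ∈ J.map (sumγ hD Y Z) := by
  obtain ⟨s, rfl⟩ := sumMk_surjective hD Y Z x
  have h1 : Y.q (s : Y.E × Z.E).1 = 0 := hx
  obtain ⟨m, hm⟩ := exists_iota_of_q_eq_zero hD Y _ h1
  have h2 : Z.proj (s : Y.E × Z.E).2 = 0 := by
    rw [← (mem_sumS hD Y Z _).mp s.2, pi_apply, h1, map_zero]
  obtain ⟨n, hn⟩ := (Z.isExtension.exact _).mp h2
  have h3 : sumMk hD Y Z s = sumMk hD Y Z (inl0 hD Y Z (m + n)) := by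
    rw [sumMk_eq_iff]
    refine ⟨-n, ?_⟩
    apply Prod.ext
    · change (s : Y.E × Z.E).1 - iota hD Y (m + n) = iota hD Y (-n)
      rw [← hm, map_add, map_neg]
      ring
    · change (s : Y.E × Z.E).2 - 0 = -(Z.incl (-n))
      rw [← hn, map_neg, neg_neg, sub_zero]
  rw [h3]
  exact sumMk_inl0_mem hD Y Z _

/-- a `k`-linear section of the projection of an extension. -/
theorem exists_linear_section : ∃ σ : B₀ →ₗ[k] Z.E, ∀ b, Z.proj (σ b) = b := by
  obtain ⟨g, hg⟩ := (Z.proj.toLinearMap).exists_rightInverse_of_surjective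
    (LinearMap.range_eq_top.mpr Z.isExtension.proj_surjective)
  exact ⟨g, fun b => LinearMap.congr_fun hg b⟩

/-- the sum is isomorphic to `E` as a `C'`-module, hence flat. -/
theorem sum_flat : (sumγ hD Y Z).Flat := by
  obtain ⟨σ, hσ⟩ := exists_linear_section Z
  have hmem : ∀ y : Y.E, ((y, σ (pi πB Y y)) : Y.E × Z.E) ∈ sumS hD Y Z := fun y => by
    rw [mem_sumS]; exact (hσ _).symm
  obtain ⟨φ₀, hφ₀⟩ : ∃ φ₀ : Y.E → sumE hD Y Z,
      ∀ y, φ₀ y = sumMk hD Y Z ⟨(y, σ (pi πB Y y)), hmem y⟩ := ⟨_, fun _ => rfl⟩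
  have hadd : ∀ y y', φ₀ (y + y') = φ₀ y + φ₀ y' := by
    intro y y'
    rw [hφ₀, hφ₀, hφ₀, ← map_add]
    congr 1
    apply Subtype.ext
    apply Prod.ext
    · rfl
    · change σ (pi πB Y (y + y')) = σ (pi πB Y y) + σ (pi πB Y y')
      rw [map_add, map_add]
  have hsmul : ∀ (c : C') (y : Y.E), φ₀ (Y.γ c * y) = sumγ hD Y Z c * φ₀ y := by
    intro c y
    rw [hφ₀, hφ₀]
    change _ = sumMk hD Y Z (sumγS hD Y Z c) * _
    rw [← map_mul]
    congr 1
    apply Subtype.ext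
    apply Prod.ext
    · rfl
    · change σ (pi πB Y (Y.γ c * y)) = algebraMap k Z.E (r' c) * σ (pi πB Y y)
      rw [map_mul, pi_γ hD, ← Algebra.smul_def, map_smul, Algebra.smul_def]
  have hinj : ∀ y, φ₀ y = 0 → y = 0 := by
    intro y hy
    rw [hφ₀, sumMk_eq_zero_iff] at hy
    obtain ⟨m, hm⟩ := hy
    have h1 : y = iota hD Y m := congrArg Prod.fst hm
    have h2 : σ (pi πB Y y) = -(Z.incl m) := congrArg Prod.snd hm
    rw [h1, pi_iota, map_zero] at h2
    have h3 : Z.incl m = 0 := by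
      rw [← neg_neg (Z.incl m), ← h2, neg_zero]
    have h4 : m = 0 := Z.isExtension.incl_injective (h3.trans (map_zero _).symm)
    rw [h1, h4, map_zero]
  have hsurj : ∀ x, ∃ y, φ₀ y = x := by
    intro x
    obtain ⟨s, rfl⟩ := sumMk_surjective hD Y Z x
    have h1 : Z.proj ((s : Y.E × Z.E).2 - σ (pi πB Y (s : Y.E × Z.E).1)) = 0 := by
      rw [map_sub, hσ, ← (mem_sumS hD Y Z _).mp s.2, sub_self]
    obtain ⟨n, hn⟩ := (Z.isExtension.exact _).mp h1
    refine ⟨(s : Y.E × Z.E).1 + iota hD Y n, ?_⟩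
    rw [hφ₀, sumMk_eq_iff]
    refine ⟨n, ?_⟩
    apply Prod.ext
    · change (s : Y.E × Z.E).1 + iota hD Y n - (s : Y.E × Z.E).1 = iota hD Y n
      ring
    · change σ (pi πB Y ((s : Y.E × Z.E).1 + iota hD Y n)) - (s : Y.E × Z.E).2 = -(Z.incl n)
      rw [map_add, pi_iota, add_zero, hn]
      ring
  letI algY : Algebra C' Y.E := Y.γ.toAlgebra
  letI algS : Algebra C' (sumE hD Y Z) := (sumγ hD Y Z).toAlgebra
  haveI hfl : Module.Flat C' Y.E := Y.flat
  let φ : Y.E →ₗ[C'] sumE hD Y Z :=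
    { toFun := φ₀
      map_add' := hadd
      map_smul' := fun c y => hsmul c y }
  have hbij : Function.Bijective φ := by
    constructor
    · intro y y' h
      have h0 : φ₀ (y - y') = 0 := by
        have h1 : φ₀ y = φ₀ y' := h
        have h2 := hadd (y - y') y'
        rw [sub_add_cancel, h1] at h2
        exact (add_eq_right.mp h2.symm)
      exact sub_eq_zero.mp (hinj _ h0)
    · exact hsurj
  change Module.Flat C' (sumE hD Y Z)
  exact Module.Flat.of_linearEquiv (LinearEquiv.ofBijective φ hbij).symm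

/-- **the sum** `Y ⊞ Z` of a lift and an extension of the closed fibre. -/
noncomputable def sumLift : Lift γB J where
  E := sumE hD Y Z
  γ := sumγ hD Y Z
  q := sumq hD Y Z
  q_γ := sumq_γ hD Y Z
  q_surj := sumq_surj hD Y Z
  ker_q := sum_ker_q hD Y Z
  flat := sum_flat hD Y Z

end

end Groth.Agent.Lib.LeadLx
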