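import Mathlib
import Groth.Prelude.Def_Exal
import Groth.Agent.Lib.Helper7ExalBaer
import Groth.Agent.Lib.LeadLxA

/-!
# Extensions of a deformation across a semismall extension: ring level, part C

The difference `Y₁ ⊟ Y₂` of two lifts, an extension of `B₀` by `B₀ ⊗ J`.
-/

set_option autoImplicit false
set_option maxHeartbeats 400000
set_option linter.style.haveILetI false
set_option linter.unusedSectionVars false
set_option linter.unusedVariables false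

universe u

open TensorProduct

namespace Groth.Agent.Lib.LeadLx

open Groth.Agent.Lib.Helper7.ExalLib

variable {k C' B₀ B : Type u} [Field k] [CommRing C'] [Algebra k C'] [CommRing B₀] [Algebra k B₀]
  [CommRing B]

variable {r' : C' →ₐ[k] k} {J : Ideal C'} {γB : C' →+* B} {πB : B →+* B₀}

/-- **reduction lemma** (flatness of `B` over `C'/J`): an element of `𝔪' W` mapping to zero in `B`
lies in any ideal containing `J W`, provided `𝔪'` kills the kernel of `W → B`. -/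
theorem mem_of_mem_map_of_q_eq_zero (hD : IsBase r' J γB πB) {W : Type u} [CommRing W]
    (γW : C' →+* W) (qW : W →+* B) (hq : Function.Surjective qW) (hqγ : ∀ c, qW (γW c) = γB c)
    (T : Ideal W) (hT : ∀ j ∈ J, ∀ w, γW j * w ∈ T)
    (hkill : ∀ c, r' c = 0 → ∀ t, qW t = 0 → γW c * t = 0)
    (w : W) (hw : w ∈ (RingHom.ker r').map γW) (hqw : qW w = 0) : w ∈ T := by
  have hw' : w ∈ Submodule.span W (γW '' (RingHom.ker r' : Set C')) := hw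
  obtain ⟨n, f, g, rfl⟩ := Submodule.mem_span_set'.mp hw'
  have hg : ∀ i, ∃ c : C', r' c = 0 ∧ γW c = (g i : W) := fun i => by
    obtain ⟨c, hc, hgc⟩ := (g i).2
    exact ⟨c, RingHom.mem_ker.mp hc, hgc⟩
  choose c hc hgc using hg
  have hsum : ∑ i, γB (c i) * qW (f i) = 0 := by
    rw [← hqw, map_sum]
    refine Finset.sum_congr rfl fun i _ => ?_
    rw [smul_eq_mul, map_mul, ← hgc i, hqγ, mul_comm]
  obtain ⟨κ, a, y, h1, h2⟩ := hD.flatB n c (fun i => qW (f i)) hsum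
  choose v hv using fun l => hq (y l)
  have ht : ∀ i, qW (f i - ∑ l, γW (a i l) * v l) = 0 := by
    intro i
    rw [map_sub, map_sum, h1 i, sub_eq_zero]
    refine Finset.sum_congr rfl fun l _ => ?_
    rw [map_mul, hqγ, hv]
  have hi : ∀ i, f i • (g i : W) = ∑ l, γW (c i * a i l) * v l := by
    intro i
    have h3 := hkill (c i) (hc i) _ (ht i)
    rw [mul_sub, sub_eq_zero] at h3
    rw [smul_eq_mul, ← hgc i, mul_comm, h3, Finset.mul_sum]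
    refine Finset.sum_congr rfl fun l _ => ?_
    rw [map_mul, mul_assoc]
  rw [Finset.sum_congr rfl fun i _ => hi i, Finset.sum_comm]
  refine Submodule.sum_mem _ fun l _ => ?_
  rw [← Finset.sum_mul, ← map_sum]
  exact hT _ (h2 l) _

/-- the fibre product of two lifts over `B`. -/
def diffP (Y₁ Y₂ : Lift γB J) : Subring (Y₁.E × Y₂.E) :=
  RingHom.eqLocus (Y₁.q.comp (RingHom.fst Y₁.E Y₂.E)) (Y₂.q.comp (RingHom.snd Y₁.E Y₂.E))

theorem mem_diffP (Y₁ Y₂ : Lift γB J) (x : Y₁.E × Y₂.E) :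
    x ∈ diffP Y₁ Y₂ ↔ Y₁.q x.1 = Y₂.q x.2 := Iff.rfl

theorem q_eq_of_mem (Y₁ Y₂ : Lift γB J) (x : diffP Y₁ Y₂) :
    Y₁.q (x : Y₁.E × Y₂.E).1 = Y₂.q (x : Y₁.E × Y₂.E).2 := x.2

theorem pi_eq_of_mem (Y₁ Y₂ : Lift γB J) (x : diffP Y₁ Y₂) :
    pi πB Y₁ (x : Y₁.E × Y₂.E).1 = pi πB Y₂ (x : Y₁.E × Y₂.E).2 := by
  rw [pi_apply, pi_apply, q_eq_of_mem]

/-- the structure map into the fibre product. -/
def diffγP (Y₁ Y₂ : Lift γB J) : C' →+* diffP Y₁ Y₂ :=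
  RingHom.codRestrict (RingHom.prod Y₁.γ Y₂.γ) (diffP Y₁ Y₂) (fun c => by
    change Y₁.q (Y₁.γ c) = Y₂.q (Y₂.γ c)
    rw [Y₁.q_γ, Y₂.q_γ])

theorem diffγP_coe (Y₁ Y₂ : Lift γB J) (c : C') :
    ((diffγP Y₁ Y₂ c : diffP Y₁ Y₂) : Y₁.E × Y₂.E) = (Y₁.γ c, Y₂.γ c) := rfl

/-- the projection of the fibre product to `B`. -/
def diffqP (Y₁ Y₂ : Lift γB J) : diffP Y₁ Y₂ →+* B :=
  (Y₁.q.comp (RingHom.fst Y₁.E Y₂.E)).comp (diffP Y₁ Y₂).subtype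

theorem diffqP_apply (Y₁ Y₂ : Lift γB J) (x : diffP Y₁ Y₂) :
    diffqP Y₁ Y₂ x = Y₁.q (x : Y₁.E × Y₂.E).1 := rfl

theorem diffqP_surj (Y₁ Y₂ : Lift γB J) : Function.Surjective (diffqP Y₁ Y₂) := by
  intro b
  obtain ⟨y₁, h₁⟩ := Y₁.q_surj b
  obtain ⟨y₂, h₂⟩ := Y₂.q_surj b
  exact ⟨⟨(y₁, y₂), (mem_diffP Y₁ Y₂ _).mpr (h₁.trans h₂.symm)⟩, h₁⟩

section

variable (hD : IsBase r' J γB πB) (Y₁ Y₂ : Lift γB J)

/-- the diagonal copy of `B₀ ⊗ J`. -/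
def diffΔ : Ideal (diffP Y₁ Y₂) where
  carrier := {x | ∃ m, (x : Y₁.E × Y₂.E) = (iota hD Y₁ m, iota hD Y₂ m)}
  add_mem' := by
    rintro x y ⟨m, hm⟩ ⟨m', hm'⟩
    refine ⟨m + m', ?_⟩
    rw [Subring.coe_add, hm, hm', map_add, map_add]
    rfl
  zero_mem' := ⟨0, by rw [map_zero, map_zero]; rfl⟩
  smul_mem' := by
    rintro c x ⟨m, hm⟩
    refine ⟨pi πB Y₁ (c : Y₁.E × Y₂.E).1 • m, ?_⟩
    rw [smul_eq_mul, Subring.coe_mul, hm]
    apply Prod.ext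
    · change (c : Y₁.E × Y₂.E).1 * iota hD Y₁ m = _
      rw [mul_iota]
    · change (c : Y₁.E × Y₂.E).2 * iota hD Y₂ m = _
      rw [mul_iota, pi_eq_of_mem]

theorem mem_diffΔ (x : diffP Y₁ Y₂) :
    x ∈ diffΔ hD Y₁ Y₂ ↔ ∃ m, (x : Y₁.E × Y₂.E) = (iota hD Y₁ m, iota hD Y₂ m) := Iff.rfl

/-- the ideal `Δ + 𝔪' P`. -/
def diffK : Ideal (diffP Y₁ Y₂) := diffΔ hD Y₁ Y₂ ⊔ (RingHom.ker r').map (diffγP Y₁ Y₂)

theorem diffΔ_le : diffΔ hD Y₁ Y₂ ≤ diffK hD Y₁ Y₂ := le_sup_left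

theorem map_le_diffK : (RingHom.ker r').map (diffγP Y₁ Y₂) ≤ diffK hD Y₁ Y₂ := le_sup_right

/-- elements of `𝔪' P` mapping to zero in `B` lie in the diagonal. -/
theorem mem_diffΔ_of_mem_map (w : diffP Y₁ Y₂) (hw : w ∈ (RingHom.ker r').map (diffγP Y₁ Y₂))
    (hqw : Y₁.q (w : Y₁.E × Y₂.E).1 = 0) : w ∈ diffΔ hD Y₁ Y₂ := by
  refine mem_of_mem_map_of_q_eq_zero hD (diffγP Y₁ Y₂) (diffqP Y₁ Y₂) (diffqP_surj Y₁ Y₂)
    (fun c => Y₁.q_γ c) (diffΔ hD Y₁ Y₂) ?_ ?_ w hw hqw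
  · intro j hj w
    refine ⟨pi πB Y₁ (w : Y₁.E × Y₂.E).1 ⊗ₜ[k] (⟨j, hj⟩ : ↥J), ?_⟩
    rw [Subring.coe_mul, diffγP_coe]
    apply Prod.ext
    · change Y₁.γ j * (w : Y₁.E × Y₂.E).1 = _
      rw [iota_tmul]
    · change Y₂.γ j * (w : Y₁.E × Y₂.E).2 = _
      rw [pi_eq_of_mem, iota_tmul]
  · intro c hc t ht
    have ht1 : Y₁.q (t : Y₁.E × Y₂.E).1 = 0 := ht
    have ht2 : Y₂.q (t : Y₁.E × Y₂.E).2 = 0 := by rw [← q_eq_of_mem]; exact ht1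
    apply Subtype.ext
    rw [Subring.coe_mul, diffγP_coe]
    apply Prod.ext
    · change Y₁.γ c * (t : Y₁.E × Y₂.E).1 = 0
      rw [mul_comm]
      exact mul_eq_zero_of_mem hD Y₁ _ (Y₁.ker_q _ ht1) _
        (Ideal.mem_map_of_mem _ (RingHom.mem_ker.mpr hc))
    · change Y₂.γ c * (t : Y₁.E × Y₂.E).2 = 0
      rw [mul_comm]
      exact mul_eq_zero_of_mem hD Y₂ _ (Y₂.ker_q _ ht2) _
        (Ideal.mem_map_of_mem _ (RingHom.mem_ker.mpr hc))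

/-- the middle ring of the difference. -/
abbrev diffE : Type u := diffP Y₁ Y₂ ⧸ diffK hD Y₁ Y₂

/-- the `k`-algebra structure of the middle ring of the difference. -/
@[reducible] noncomputable def diffAlg : Algebra k (diffE hD Y₁ Y₂) :=
  ((Ideal.Quotient.mk (diffK hD Y₁ Y₂)).comp ((diffγP Y₁ Y₂).comp (algebraMap k C'))).toAlgebra

/-- the ring map underlying the projection of the difference. -/
def diffProjR : diffE hD Y₁ Y₂ →+* B₀ :=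
  Ideal.Quotient.lift (diffK hD Y₁ Y₂)
    ((pi πB Y₁).comp ((RingHom.fst Y₁.E Y₂.E).comp (diffP Y₁ Y₂).subtype)) (by
      have hle : diffK hD Y₁ Y₂ ≤
          RingHom.ker ((pi πB Y₁).comp ((RingHom.fst Y₁.E Y₂.E).comp (diffP Y₁ Y₂).subtype)) := by
        refine sup_le ?_ ?_
        · rintro x ⟨m, hm⟩
          rw [RingHom.mem_ker]
          change pi πB Y₁ (x : Y₁.E × Y₂.E).1 = 0
          rw [hm]
          exact pi_iota hD Y₁ m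
        · rw [Ideal.map_le_iff_le_comap]
          intro a ha
          rw [Ideal.mem_comap, RingHom.mem_ker]
          change pi πB Y₁ (Y₁.γ a) = 0
          rw [pi_γ hD, RingHom.mem_ker.mp ha, map_zero]
      exact fun x hx => RingHom.mem_ker.mp (hle hx))

/-- the element `(ι m, 0)` of the fibre product. -/
noncomputable def inl1 (m : B₀ ⊗[k] ↥J) : diffP Y₁ Y₂ :=
  ⟨(iota hD Y₁ m, 0), by rw [mem_diffP]; change Y₁.q (iota hD Y₁ m) = Y₂.q 0; rw [q_iota, map_zero]⟩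

theorem inl1_add (m m' : B₀ ⊗[k] ↥J) : inl1 hD Y₁ Y₂ (m + m') = inl1 hD Y₁ Y₂ m + inl1 hD Y₁ Y₂ m' := by
  apply Subtype.ext
  apply Prod.ext
  · change iota hD Y₁ (m + m') = iota hD Y₁ m + iota hD Y₁ m'
    rw [map_add]
  · change (0 : Y₂.E) = 0 + 0
    rw [add_zero]

theorem inl1_zero : inl1 hD Y₁ Y₂ 0 = 0 := by
  apply Subtype.ext
  apply Prod.ext
  · change iota hD Y₁ 0 = 0
    rw [map_zero]
  · rfl

theorem diffProjR_mk (x : diffP Y₁ Y₂) :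
    diffProjR hD Y₁ Y₂ (Ideal.Quotient.mk (diffK hD Y₁ Y₂) x) = pi πB Y₁ (x : Y₁.E × Y₂.E).1 := rfl

theorem diffProjR_surj : Function.Surjective (diffProjR hD Y₁ Y₂) := by
  intro b₀
  obtain ⟨b, rfl⟩ := hD.πB_surj b₀
  obtain ⟨x, rfl⟩ := diffqP_surj Y₁ Y₂ b
  exact ⟨Ideal.Quotient.mk _ x, rfl⟩

theorem mk_inl1_eq_zero (m : B₀ ⊗[k] ↥J)
    (hm : Ideal.Quotient.mk (diffK hD Y₁ Y₂) (inl1 hD Y₁ Y₂ m) = 0) : m = 0 := by
  rw [Ideal.Quotient.eq_zero_iff_mem] at hm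
  obtain ⟨d, hd, t, ht, hdt⟩ := Submodule.mem_sup.mp hm
  obtain ⟨n, hn⟩ := hd
  have h1 : (d : Y₁.E × Y₂.E).1 + (t : Y₁.E × Y₂.E).1 = iota hD Y₁ m :=
    congrArg (fun x : diffP Y₁ Y₂ => (x : Y₁.E × Y₂.E).1) hdt
  have h2 : (d : Y₁.E × Y₂.E).2 + (t : Y₁.E × Y₂.E).2 = 0 :=
    congrArg (fun x : diffP Y₁ Y₂ => (x : Y₁.E × Y₂.E).2) hdt
  rw [hn] at h1 h2
  have hq : Y₁.q (t : Y₁.E × Y₂.E).1 = 0 := by
    have : (t : Y₁.E × Y₂.E).1 = iota hD Y₁ m - iota hD Y₁ n := by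
      rw [← h1]; ring
    rw [this, map_sub, q_iota, q_iota, sub_zero]
  obtain ⟨n', hn'⟩ := mem_diffΔ_of_mem_map hD Y₁ Y₂ t ht hq
  rw [hn'] at h1 h2
  have h3 : n + n' = 0 := by
    apply iota_injective hD Y₂
    change iota hD Y₂ (n + n') = iota hD Y₂ 0
    rw [map_add, map_zero]
    exact h2
  apply iota_injective hD Y₁
  change iota hD Y₁ m = iota hD Y₁ 0
  rw [map_zero, ← h1]
  change iota hD Y₁ n + iota hD Y₁ n' = 0
  rw [← map_add, h3, map_zero]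

theorem diff_exact (x : diffE hD Y₁ Y₂) :
    diffProjR hD Y₁ Y₂ x = 0 ↔
      ∃ m, Ideal.Quotient.mk (diffK hD Y₁ Y₂) (inl1 hD Y₁ Y₂ m) = x := by
  constructor
  · intro hx
    obtain ⟨s, rfl⟩ := Ideal.Quotient.mk_surjective x
    rw [diffProjR_mk] at hx
    have h1 : Y₁.q (s : Y₁.E × Y₂.E).1 ∈ (RingHom.ker r').map γB := hD.ker_πB _ hx
    have hγ : γB = (diffqP Y₁ Y₂).comp (diffγP Y₁ Y₂) := RingHom.ext fun c => (Y₁.q_γ c).symm
    have hmm : (RingHom.ker r').map γB =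
        ((RingHom.ker r').map (diffγP Y₁ Y₂)).map (diffqP Y₁ Y₂) := by
      rw [Ideal.map_map]
      exact congrArg (fun f => Ideal.map f (RingHom.ker r')) hγ
    rw [hmm, Ideal.mem_map_iff_of_surjective _ (diffqP_surj Y₁ Y₂)] at h1
    obtain ⟨x', hx', hqx'⟩ := h1
    have hq1 : Y₁.q ((s - x' : diffP Y₁ Y₂) : Y₁.E × Y₂.E).1 = 0 := by
      change Y₁.q ((s : Y₁.E × Y₂.E).1 - (x' : Y₁.E × Y₂.E).1) = 0
      rw [map_sub, sub_eq_zero]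
      exact hqx'.symm
    have hq2 : Y₂.q ((s - x' : diffP Y₁ Y₂) : Y₁.E × Y₂.E).2 = 0 := by
      rw [← q_eq_of_mem]; exact hq1
    obtain ⟨m₁, hm₁⟩ := exists_iota_of_q_eq_zero hD Y₁ _ hq1
    obtain ⟨m₂, hm₂⟩ := exists_iota_of_q_eq_zero hD Y₂ _ hq2
    refine ⟨m₁ - m₂, ?_⟩
    rw [eq_comm, Ideal.Quotient.eq]
    have hd : s - x' - inl1 hD Y₁ Y₂ (m₁ - m₂) ∈ diffΔ hD Y₁ Y₂ := by
      refine ⟨m₂, ?_⟩
      apply Prod.ext
      · change ((s - x' : diffP Y₁ Y₂) : Y₁.E × Y₂.E).1 - iota hD Y₁ (m₁ - m₂) = iota hD Y₁ m₂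
        rw [← hm₁, map_sub]
        ring
      · change ((s - x' : diffP Y₁ Y₂) : Y₁.E × Y₂.E).2 - 0 = iota hD Y₂ m₂
        rw [← hm₂, sub_zero]
    have : s - inl1 hD Y₁ Y₂ (m₁ - m₂) = x' + (s - x' - inl1 hD Y₁ Y₂ (m₁ - m₂)) := by ring
    rw [this]
    exact add_mem (map_le_diffK hD Y₁ Y₂ hx') (diffΔ_le hD Y₁ Y₂ hd)
  · rintro ⟨m, rfl⟩
    rw [diffProjR_mk]
    exact pi_iota hD Y₁ m

theorem diff_mul_incl (x : diffE hD Y₁ Y₂) (m : B₀ ⊗[k] ↥J) :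
    x * Ideal.Quotient.mk (diffK hD Y₁ Y₂) (inl1 hD Y₁ Y₂ m) =
      Ideal.Quotient.mk (diffK hD Y₁ Y₂) (inl1 hD Y₁ Y₂ (diffProjR hD Y₁ Y₂ x • m)) := by
  obtain ⟨s, rfl⟩ := Ideal.Quotient.mk_surjective x
  rw [← map_mul, diffProjR_mk]
  congr 1
  apply Subtype.ext
  apply Prod.ext
  · change (s : Y₁.E × Y₂.E).1 * iota hD Y₁ m = _
    rw [mul_iota]
    rfl
  · change (s : Y₁.E × Y₂.E).2 * 0 = 0
    rw [mul_zero]

/-- **the difference** of two lifts: an extension of `B₀` by `B₀ ⊗ J`. -/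
noncomputable def diff : Exal.Ext k B₀ (B₀ ⊗[k] ↥J) :=
  letI := diffAlg hD Y₁ Y₂
  { E := diffE hD Y₁ Y₂
    proj :=
      { toRingHom := diffProjR hD Y₁ Y₂
        commutes' := fun c => by
          change pi πB Y₁ (Y₁.γ (algebraMap k C' c)) = algebraMap k B₀ c
          rw [pi_γ hD, AlgHom.commutes]
          rfl }
    incl := (Ideal.Quotient.mk (diffK hD Y₁ Y₂)).toAddMonoidHom.comp
      (AddMonoidHom.mk' (inl1 hD Y₁ Y₂) (inl1_add hD Y₁ Y₂))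
    isExtension :=
      { proj_surjective := diffProjR_surj hD Y₁ Y₂
        incl_injective := by
          rw [injective_iff_map_eq_zero]
          intro m hm
          exact mk_inl1_eq_zero hD Y₁ Y₂ m hm
        exact := fun x => by
          rw [Set.mem_range]
          exact diff_exact hD Y₁ Y₂ x
        mul_incl := fun x m => diff_mul_incl hD Y₁ Y₂ x m } }

/-- the quotient map onto the middle ring of the difference. -/
noncomputable def diffMk : diffP Y₁ Y₂ →+* (diff hD Y₁ Y₂).E := Ideal.Quotient.mk (diffK hD Y₁ Y₂)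

theorem diffMk_surjective : Function.Surjective (diffMk hD Y₁ Y₂) := Ideal.Quotient.mk_surjective

theorem diffMk_eq_zero_iff (x : diffP Y₁ Y₂) : diffMk hD Y₁ Y₂ x = 0 ↔ x ∈ diffK hD Y₁ Y₂ :=
  Ideal.Quotient.eq_zero_iff_mem

theorem diffMk_eq_iff (x y : diffP Y₁ Y₂) :
    diffMk hD Y₁ Y₂ x = diffMk hD Y₁ Y₂ y ↔ x - y ∈ diffK hD Y₁ Y₂ := Ideal.Quotient.eq

theorem diff_proj_mk (x : diffP Y₁ Y₂) :
    (diff hD Y₁ Y₂).proj (diffMk hD Y₁ Y₂ x) = pi πB Y₁ (x : Y₁.E × Y₂.E).1 := rfl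

theorem diff_incl (m : B₀ ⊗[k] ↥J) :
    (diff hD Y₁ Y₂).incl m = diffMk hD Y₁ Y₂ (inl1 hD Y₁ Y₂ m) := rfl

theorem diff_algebraMap (c : k) :
    algebraMap k (diff hD Y₁ Y₂).E c = diffMk hD Y₁ Y₂ (diffγP Y₁ Y₂ (algebraMap k C' c)) := rfl

end

end Groth.Agent.Lib.LeadLx
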