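import Mathlib
import Groth.Prelude.Def_Exal
import Groth.Agent.Lib.Helper7ExalBaer
import Groth.Agent.Lib.LeadLxA
import Groth.Agent.Lib.LeadLxB
import Groth.Agent.Lib.LeadLxC

/-!
# Extensions of a deformation across a semismall extension: ring level, part D

Functoriality of sum and difference, `Y ≅ Y₀ ⊞ (Y ⊟ Y₀)`, `Z ≅ (Y₀ ⊞ Z) ⊟ Y₀`, and the bijection
between isomorphism classes of lifts and classes of extensions of `B₀` by `B₀ ⊗ J`.
-/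

set_option autoImplicit false
set_option maxHeartbeats 400000
set_option linter.style.haveILetI false
set_option linter.unusedSectionVars false
set_option linter.unusedVariables false

universe u

open TensorProduct

namespace Groth.Agent.Lib.LeadLx

open Groth.Agent.Lib.Helper7.ExalLib

variable {k C' B₀ B : Type u} [Field k] [CommRing C'] [Algebra k C'] [CommRing B₀] [Algebra k B₀]
  [CommRing B]

variable {r' : C' →ₐ[k] k} {J : Ideal C'} {γB : C' →+* B} {πB : B →+* B₀}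

section C1

variable (hD : IsBase r' J γB πB) {Y Y' : Lift γB J} (f : LiftHom Y Y') (Y₀ : Lift γB J)

/-- the map of fibre products induced by a morphism of lifts. -/
def diffMapP : diffP Y Y₀ →+* diffP Y' Y₀ :=
  RingHom.codRestrict ((RingHom.prodMap f.f (RingHom.id Y₀.E)).comp (diffP Y Y₀).subtype)
    (diffP Y' Y₀) (fun x => by
      change Y'.q (f.f (x : Y.E × Y₀.E).1) = Y₀.q (x : Y.E × Y₀.E).2
      rw [f.q_f]
      exact x.2)

theorem diffMapP_coe (x : diffP Y Y₀) :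
    ((diffMapP f Y₀ x : diffP Y' Y₀) : Y'.E × Y₀.E) =
      (f.f (x : Y.E × Y₀.E).1, (x : Y.E × Y₀.E).2) := rfl

theorem diffMapP_mem (x : diffP Y Y₀) (hx : x ∈ diffK hD Y Y₀) :
    diffMapP f Y₀ x ∈ diffK hD Y' Y₀ := by
  have hle : diffK hD Y Y₀ ≤ (diffK hD Y' Y₀).comap (diffMapP f Y₀) := by
    refine sup_le ?_ ?_
    · rintro x ⟨m, hm⟩
      rw [Ideal.mem_comap]
      refine diffΔ_le hD Y' Y₀ ⟨m, ?_⟩
      rw [diffMapP_coe, hm]
      apply Prod.ext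
      · exact f.f_iota hD m
      · rfl
    · rw [Ideal.map_le_iff_le_comap]
      intro a ha
      rw [Ideal.mem_comap, Ideal.mem_comap]
      have h1 : diffMapP f Y₀ (diffγP Y Y₀ a) = diffγP Y' Y₀ a := by
        apply Subtype.ext
        rw [diffMapP_coe]
        apply Prod.ext
        · exact f.f_γ a
        · rfl
      rw [h1]
      exact map_le_diffK hD Y' Y₀ (Ideal.mem_map_of_mem _ ha)
  exact hle hx

/-- the ring map of middle rings of differences induced by a morphism of lifts. -/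
noncomputable def diffMapR : (diff hD Y Y₀).E →+* (diff hD Y' Y₀).E :=
  Ideal.Quotient.lift (diffK hD Y Y₀) ((diffMk hD Y' Y₀).comp (diffMapP f Y₀))
    (fun x hx => (diffMk_eq_zero_iff hD Y' Y₀ _).mpr (diffMapP_mem hD f Y₀ x hx))

theorem diffMapR_mk (x : diffP Y Y₀) :
    diffMapR hD f Y₀ (diffMk hD Y Y₀ x) = diffMk hD Y' Y₀ (diffMapP f Y₀ x) := rfl

include f in
/-- **(C1)** a morphism of lifts induces an equivalence of differences. -/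
theorem diff_equiv_of_liftHom : Nonempty ((diff hD Y Y₀).Equiv (diff hD Y' Y₀)) := by
  let G : (diff hD Y Y₀).E →ₐ[k] (diff hD Y' Y₀).E :=
    { toRingHom := diffMapR hD f Y₀
      commutes' := fun c => by
        change diffMapR hD f Y₀ (algebraMap k (diff hD Y Y₀).E c) = _
        rw [diff_algebraMap, diffMapR_mk, diff_algebraMap]
        congr 1
        apply Subtype.ext
        rw [diffMapP_coe]
        apply Prod.ext
        · exact f.f_γ _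
        · rfl }
  have hG : ∀ x, G (diffMk hD Y Y₀ x) = diffMk hD Y' Y₀ (diffMapP f Y₀ x) := fun x => rfl
  refine ⟨equivOfHom G ?_ ?_⟩
  · intro x
    obtain ⟨s, rfl⟩ := diffMk_surjective hD Y Y₀ x
    rw [hG, diff_proj_mk, diff_proj_mk, diffMapP_coe]
    exact f.pi_f _
  · intro m
    rw [diff_incl, hG, diff_incl]
    congr 1
    apply Subtype.ext
    rw [diffMapP_coe]
    apply Prod.ext
    · exact f.f_iota hD m
    · rfl

end C1

section C2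

variable (hD : IsBase r' J γB πB) (Y₀ : Lift γB J) {Z Z' : Exal.Ext k B₀ (B₀ ⊗[k] ↥J)}
  (e : Z.Equiv Z')

/-- the map of fibre products induced by an equivalence of extensions. -/
def sumMapS : sumS hD Y₀ Z →+* sumS hD Y₀ Z' :=
  RingHom.codRestrict
    ((RingHom.prodMap (RingHom.id Y₀.E) (e.toAlgEquiv : Z.E →+* Z'.E)).comp (sumS hD Y₀ Z).subtype)
    (sumS hD Y₀ Z') (fun x => by
      change pi πB Y₀ (x : Y₀.E × Z.E).1 = Z'.proj (e.toAlgEquiv (x : Y₀.E × Z.E).2)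
      rw [e.proj_apply]
      exact x.2)

theorem sumMapS_coe (x : sumS hD Y₀ Z) :
    ((sumMapS hD Y₀ e x : sumS hD Y₀ Z') : Y₀.E × Z'.E) =
      ((x : Y₀.E × Z.E).1, e.toAlgEquiv (x : Y₀.E × Z.E).2) := rfl

/-- the ring map of sums induced by an equivalence of extensions. -/
noncomputable def sumMapR : sumE hD Y₀ Z →+* sumE hD Y₀ Z' :=
  Ideal.Quotient.lift (sumI hD Y₀ Z) ((sumMk hD Y₀ Z').comp (sumMapS hD Y₀ e)) (by
    rintro x ⟨m, hm⟩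
    change sumMk hD Y₀ Z' (sumMapS hD Y₀ e x) = 0
    rw [sumMk_eq_zero_iff]
    refine ⟨m, ?_⟩
    rw [sumMapS_coe, hm]
    apply Prod.ext
    · rfl
    · change e.toAlgEquiv (-(Z.incl m)) = -(Z'.incl m)
      rw [map_neg, e.apply_incl])

theorem sumMapR_mk (x : sumS hD Y₀ Z) :
    sumMapR hD Y₀ e (sumMk hD Y₀ Z x) = sumMk hD Y₀ Z' (sumMapS hD Y₀ e x) := rfl

/-- **(C2)** an equivalence of extensions induces a morphism of sums. -/
noncomputable def sumLiftHom : LiftHom (sumLift hD Y₀ Z) (sumLift hD Y₀ Z') where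
  f := sumMapR hD Y₀ e
  f_γ := fun c => by
    change sumMapR hD Y₀ e (sumMk hD Y₀ Z (sumγS hD Y₀ Z c)) = sumMk hD Y₀ Z' (sumγS hD Y₀ Z' c)
    rw [sumMapR_mk]
    congr 1
    apply Subtype.ext
    rw [sumMapS_coe, sumγS_coe, sumγS_coe]
    apply Prod.ext
    · rfl
    · exact e.toAlgEquiv.commutes _
  q_f := fun x => by
    obtain ⟨s, rfl⟩ := sumMk_surjective hD Y₀ Z x
    change sumq hD Y₀ Z' (sumMapR hD Y₀ e (sumMk hD Y₀ Z s)) = sumq hD Y₀ Z (sumMk hD Y₀ Z s)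
    rw [sumMapR_mk, sumq_mk, sumq_mk, sumMapS_coe]

end C2

section A

variable (hD : IsBase r' J γB πB) (Y Y₀ : Lift γB J)

/-- the first projection of the fibre product. -/
def diffFst : diffP Y Y₀ →+* Y.E := (RingHom.fst Y.E Y₀.E).comp (diffP Y Y₀).subtype

theorem diffFst_surj : Function.Surjective (diffFst Y Y₀) := by
  intro y
  obtain ⟨y₀, h₀⟩ := Y₀.q_surj (Y.q y)
  exact ⟨⟨(y, y₀), (mem_diffP Y Y₀ _).mpr h₀.symm⟩, rfl⟩

/-- the map from `E ×_B E₀` to `E₀ ×_{B₀} (Y ⊟ Y₀)`. -/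
noncomputable def thetaS : diffP Y Y₀ →+* sumS hD Y₀ (diff hD Y Y₀) :=
  RingHom.codRestrict
    (RingHom.prod ((RingHom.snd Y.E Y₀.E).comp (diffP Y Y₀).subtype) (diffMk hD Y Y₀))
    (sumS hD Y₀ (diff hD Y Y₀)) (fun x => by
      change pi πB Y₀ (x : Y.E × Y₀.E).2 = (diff hD Y Y₀).proj (diffMk hD Y Y₀ x)
      rw [diff_proj_mk, pi_eq_of_mem])

theorem thetaS_coe (x : diffP Y Y₀) :
    ((thetaS hD Y Y₀ x : sumS hD Y₀ (diff hD Y Y₀)) : Y₀.E × (diff hD Y Y₀).E) =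
      ((x : Y.E × Y₀.E).2, diffMk hD Y Y₀ x) := rfl

/-- the map from `E ×_B E₀` to the sum `Y₀ ⊞ (Y ⊟ Y₀)`. -/
noncomputable def thetaE : diffP Y Y₀ →+* sumE hD Y₀ (diff hD Y Y₀) :=
  (sumMk hD Y₀ (diff hD Y Y₀)).comp (thetaS hD Y Y₀)

theorem ker_diffFst_le : RingHom.ker (diffFst Y Y₀) ≤ RingHom.ker (thetaE hD Y Y₀) := by
  intro x hx
  rw [RingHom.mem_ker] at hx ⊢
  have hx1 : (x : Y.E × Y₀.E).1 = 0 := hx
  have hq : Y₀.q (x : Y.E × Y₀.E).2 = 0 := by rw [← q_eq_of_mem, hx1, map_zero]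
  obtain ⟨n, hn⟩ := exists_iota_of_q_eq_zero hD Y₀ _ hq
  change sumMk hD Y₀ (diff hD Y Y₀) (thetaS hD Y Y₀ x) = 0
  rw [sumMk_eq_zero_iff]
  refine ⟨n, ?_⟩
  rw [thetaS_coe]
  apply Prod.ext
  · exact hn.symm
  · change diffMk hD Y Y₀ x = -((diff hD Y Y₀).incl n)
    rw [diff_incl, ← map_neg, diffMk_eq_iff]
    refine diffΔ_le hD Y Y₀ ⟨n, ?_⟩
    apply Prod.ext
    · change (x : Y.E × Y₀.E).1 - -(iota hD Y n) = iota hD Y n
      rw [hx1]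
      ring
    · change (x : Y.E × Y₀.E).2 - -(0 : Y₀.E) = iota hD Y₀ n
      rw [hn]
      ring

/-- the ring map `E → Y₀ ⊞ (Y ⊟ Y₀)`. -/
noncomputable def psiA : Y.E →+* sumE hD Y₀ (diff hD Y Y₀) :=
  (diffFst Y Y₀).liftOfSurjective (diffFst_surj Y Y₀) ⟨thetaE hD Y Y₀, ker_diffFst_le hD Y Y₀⟩

theorem psiA_fst (x : diffP Y Y₀) :
    psiA hD Y Y₀ (x : Y.E × Y₀.E).1 = thetaE hD Y Y₀ x :=
  RingHom.liftOfSurjective_comp_apply (diffFst Y Y₀) (diffFst_surj Y Y₀)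
    ⟨thetaE hD Y Y₀, ker_diffFst_le hD Y Y₀⟩ x

/-- **(A)** `Y ≅ Y₀ ⊞ (Y ⊟ Y₀)`. -/
noncomputable def liftHomA : LiftHom Y (sumLift hD Y₀ (diff hD Y Y₀)) where
  f := psiA hD Y Y₀
  f_γ := fun c => by
    refine (psiA_fst hD Y Y₀ (diffγP Y Y₀ c)).trans ?_
    change sumMk hD Y₀ (diff hD Y Y₀) (thetaS hD Y Y₀ (diffγP Y Y₀ c)) =
      sumMk hD Y₀ (diff hD Y Y₀) (sumγS hD Y₀ (diff hD Y Y₀) c)
    congr 1
    apply Subtype.ext
    rw [thetaS_coe, sumγS_coe]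
    apply Prod.ext
    · rfl
    · change diffMk hD Y Y₀ (diffγP Y Y₀ c) = algebraMap k (diff hD Y Y₀).E (r' c)
      rw [diff_algebraMap, diffMk_eq_iff, ← map_sub]
      refine map_le_diffK hD Y Y₀ (Ideal.mem_map_of_mem _ ?_)
      rw [RingHom.mem_ker, map_sub, AlgHom.commutes]
      exact sub_self _
  q_f := fun y => by
    obtain ⟨x, rfl⟩ := diffFst_surj Y Y₀ y
    refine (congrArg (sumq hD Y₀ (diff hD Y Y₀)) (psiA_fst hD Y Y₀ x)).trans ?_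
    change Y₀.q (x : Y.E × Y₀.E).2 = Y.q (x : Y.E × Y₀.E).1
    exact (q_eq_of_mem Y Y₀ x).symm

end A

section B

variable (hD : IsBase r' J γB πB) (Y₀ : Lift γB J) (Z : Exal.Ext k B₀ (B₀ ⊗[k] ↥J))

theorem sumγS_mul (j : ↥J) (s : sumS hD Y₀ Z) :
    sumγS hD Y₀ Z (j : C') * s = inl0 hD Y₀ Z (pi πB Y₀ (s : Y₀.E × Z.E).1 ⊗ₜ[k] j) := by
  apply Subtype.ext
  apply Prod.ext
  · change Y₀.γ (j : C') * (s : Y₀.E × Z.E).1 = iota hD Y₀ _
    rw [iota_tmul]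
  · change algebraMap k Z.E (r' (j : C')) * (s : Y₀.E × Z.E).2 = 0
    rw [hD.J_le _ j.2, map_zero, zero_mul]

theorem pi_sumMk (s : sumS hD Y₀ Z) :
    pi πB (sumLift hD Y₀ Z) (sumMk hD Y₀ Z s) = pi πB Y₀ (s : Y₀.E × Z.E).1 := rfl

/-- the inclusion `ι` of the sum. -/
theorem iota_sumLift (m : B₀ ⊗[k] ↥J) :
    iota hD (sumLift hD Y₀ Z) m = sumMk hD Y₀ Z (inl0 hD Y₀ Z m) := by
  induction m using TensorProduct.induction_on with
  | zero =>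
    rw [map_zero, inl0_zero, map_zero]
    rfl
  | tmul b j =>
    obtain ⟨y, rfl⟩ := pi_surj hD Y₀ b
    obtain ⟨z, hz⟩ := Z.isExtension.proj_surjective (pi πB Y₀ y)
    have hmem : ((y, z) : Y₀.E × Z.E) ∈ sumS hD Y₀ Z := (mem_sumS hD Y₀ Z _).mpr hz.symm
    have h1 : iota hD (sumLift hD Y₀ Z) (pi πB Y₀ y ⊗ₜ[k] j) =
        sumMk hD Y₀ Z (sumγS hD Y₀ Z (j : C')) * sumMk hD Y₀ Z ⟨(y, z), hmem⟩ :=
      iota_tmul hD (sumLift hD Y₀ Z) (sumMk hD Y₀ Z ⟨(y, z), hmem⟩) j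
    rw [h1, ← map_mul, sumγS_mul]
  | add x x' hx hx' =>
    rw [map_add, hx, hx', inl0_add, map_add]
    rfl

/-- elements of the fibre product with vanishing second component lie in `𝔪'` times it. -/
theorem mem_map_sumγS (s : sumS hD Y₀ Z) (hs : (s : Y₀.E × Z.E).2 = 0) :
    s ∈ (RingHom.ker r').map (sumγS hD Y₀ Z) := by
  have hu : pi πB Y₀ (s : Y₀.E × Z.E).1 = 0 := by
    rw [(mem_sumS hD Y₀ Z _).mp s.2, hs, map_zero]
  have key : ∀ u ∈ (RingHom.ker r').map Y₀.γ,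
      ∃ h : ((u, (0 : Z.E)) : Y₀.E × Z.E) ∈ sumS hD Y₀ Z,
        (⟨(u, 0), h⟩ : sumS hD Y₀ Z) ∈ (RingHom.ker r').map (sumγS hD Y₀ Z) := by
    refine map_induction Y₀.γ (RingHom.ker r')
      (fun u => ∃ h : ((u, (0 : Z.E)) : Y₀.E × Z.E) ∈ sumS hD Y₀ Z,
        (⟨(u, 0), h⟩ : sumS hD Y₀ Z) ∈ (RingHom.ker r').map (sumγS hD Y₀ Z)) ?_ ?_ ?_ ?_
    · exact ⟨(sumS hD Y₀ Z).zero_mem, Ideal.zero_mem _⟩
    · rintro x y ⟨h, hm⟩ ⟨h', hm'⟩
      have hxy : ((x + y, (0 : Z.E)) : Y₀.E × Z.E) ∈ sumS hD Y₀ Z := by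
        have := (sumS hD Y₀ Z).add_mem h h'
        rwa [Prod.mk_add_mk, add_zero] at this
      refine ⟨hxy, ?_⟩
      have : (⟨(x + y, 0), hxy⟩ : sumS hD Y₀ Z) = ⟨(x, 0), h⟩ + ⟨(y, 0), h'⟩ := by
        apply Subtype.ext
        change ((x + y, (0 : Z.E)) : Y₀.E × Z.E) = (x, 0) + (y, 0)
        rw [Prod.mk_add_mk, add_zero]
      rw [this]
      exact add_mem hm hm'
    · rintro t x ⟨h, hm⟩
      obtain ⟨z, hz⟩ := Z.isExtension.proj_surjective (pi πB Y₀ t)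
      have ht : ((t, z) : Y₀.E × Z.E) ∈ sumS hD Y₀ Z := (mem_sumS hD Y₀ Z _).mpr hz.symm
      have htx : ((t * x, (0 : Z.E)) : Y₀.E × Z.E) ∈ sumS hD Y₀ Z := by
        have := (sumS hD Y₀ Z).mul_mem ht h
        rwa [Prod.mk_mul_mk, mul_zero] at this
      refine ⟨htx, ?_⟩
      have : (⟨(t * x, 0), htx⟩ : sumS hD Y₀ Z) = ⟨(t, z), ht⟩ * ⟨(x, 0), h⟩ := by
        apply Subtype.ext
        change ((t * x, (0 : Z.E)) : Y₀.E × Z.E) = (t, z) * (x, 0)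
        rw [Prod.mk_mul_mk, mul_zero]
      rw [this]
      exact Ideal.mul_mem_left _ _ hm
    · intro a ha
      have hmem : ((Y₀.γ a, (0 : Z.E)) : Y₀.E × Z.E) ∈ sumS hD Y₀ Z := by
        rw [mem_sumS]
        change pi πB Y₀ (Y₀.γ a) = Z.proj 0
        rw [pi_γ hD, RingHom.mem_ker.mp ha, map_zero, map_zero]
      refine ⟨hmem, ?_⟩
      have : (⟨(Y₀.γ a, 0), hmem⟩ : sumS hD Y₀ Z) = sumγS hD Y₀ Z a := by
        apply Subtype.ext
        rw [sumγS_coe, RingHom.mem_ker.mp ha, map_zero]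
      rw [this]
      exact Ideal.mem_map_of_mem _ ha
  obtain ⟨h, hm⟩ := key _ (mem_map_of_pi_eq_zero hD Y₀ _ hu)
  have : s = ⟨((s : Y₀.E × Z.E).1, 0), h⟩ := by
    apply Subtype.ext
    exact Prod.ext rfl hs
  rw [this]
  exact hm

/-- the map `E₀ ×_{B₀} Z → (Y₀ ⊞ Z) ×_B E₀`. -/
noncomputable def xiP : sumS hD Y₀ Z →+* diffP (sumLift hD Y₀ Z) Y₀ :=
  RingHom.codRestrict
    (RingHom.prod (sumMk hD Y₀ Z : sumS hD Y₀ Z →+* (sumLift hD Y₀ Z).E)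
      ((RingHom.fst Y₀.E Z.E).comp (sumS hD Y₀ Z).subtype))
    (diffP (sumLift hD Y₀ Z) Y₀) (fun s => rfl)

theorem xiP_coe (s : sumS hD Y₀ Z) :
    ((xiP hD Y₀ Z s : diffP (sumLift hD Y₀ Z) Y₀) : (sumLift hD Y₀ Z).E × Y₀.E) =
      (sumMk hD Y₀ Z s, (s : Y₀.E × Z.E).1) := rfl

theorem xiP_comp : (xiP hD Y₀ Z).comp (sumγS hD Y₀ Z) = diffγP (sumLift hD Y₀ Z) Y₀ :=
  RingHom.ext fun c => Subtype.ext rfl

/-- the second projection of the fibre product. -/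
def sumSnd : sumS hD Y₀ Z →+* Z.E := (RingHom.snd Y₀.E Z.E).comp (sumS hD Y₀ Z).subtype

theorem sumSnd_surj : Function.Surjective (sumSnd hD Y₀ Z) := by
  intro z
  obtain ⟨y, hy⟩ := pi_surj hD Y₀ (Z.proj z)
  exact ⟨⟨(y, z), (mem_sumS hD Y₀ Z _).mpr hy⟩, rfl⟩

theorem ker_sumSnd_le :
    RingHom.ker (sumSnd hD Y₀ Z) ≤
      RingHom.ker ((diffMk hD (sumLift hD Y₀ Z) Y₀).comp (xiP hD Y₀ Z)) := by
  intro s hs
  rw [RingHom.mem_ker] at hs ⊢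
  have h1 := mem_map_sumγS hD Y₀ Z s hs
  have h2 := Ideal.mem_map_of_mem (xiP hD Y₀ Z) h1
  rw [Ideal.map_map, xiP_comp] at h2
  change diffMk hD (sumLift hD Y₀ Z) Y₀ (xiP hD Y₀ Z s) = 0
  rw [diffMk_eq_zero_iff]
  exact map_le_diffK hD _ _ h2

/-- the ring map `Z → (Y₀ ⊞ Z) ⊟ Y₀`. -/
noncomputable def psiB : Z.E →+* (diff hD (sumLift hD Y₀ Z) Y₀).E :=
  (sumSnd hD Y₀ Z).liftOfSurjective (sumSnd_surj hD Y₀ Z)
    ⟨(diffMk hD (sumLift hD Y₀ Z) Y₀).comp (xiP hD Y₀ Z), ker_sumSnd_le hD Y₀ Z⟩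

theorem psiB_snd (s : sumS hD Y₀ Z) :
    psiB hD Y₀ Z (s : Y₀.E × Z.E).2 = diffMk hD (sumLift hD Y₀ Z) Y₀ (xiP hD Y₀ Z s) :=
  RingHom.liftOfSurjective_comp_apply (sumSnd hD Y₀ Z) (sumSnd_surj hD Y₀ Z)
    ⟨(diffMk hD (sumLift hD Y₀ Z) Y₀).comp (xiP hD Y₀ Z), ker_sumSnd_le hD Y₀ Z⟩ s

/-- **(B)** `Z ≅ (Y₀ ⊞ Z) ⊟ Y₀`. -/
theorem equivB : Nonempty (Z.Equiv (diff hD (sumLift hD Y₀ Z) Y₀)) := by
  let G : Z.E →ₐ[k] (diff hD (sumLift hD Y₀ Z) Y₀).E :=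
    { toRingHom := psiB hD Y₀ Z
      commutes' := fun c => by
        have h1 : algebraMap k Z.E c =
            ((sumγS hD Y₀ Z (algebraMap k C' c) : sumS hD Y₀ Z) : Y₀.E × Z.E).2 := by
          rw [sumγS_coe]
          change _ = algebraMap k Z.E (r' (algebraMap k C' c))
          rw [AlgHom.commutes]
          rfl
        change psiB hD Y₀ Z (algebraMap k Z.E c) = _
        rw [h1, psiB_snd, diff_algebraMap]
        congr 1 }
  have hG : ∀ z, G z = psiB hD Y₀ Z z := fun z => rfl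
  refine ⟨equivOfHom G ?_ ?_⟩
  · intro z
    obtain ⟨s, rfl⟩ := sumSnd_surj hD Y₀ Z z
    change (diff hD (sumLift hD Y₀ Z) Y₀).proj (G (s : Y₀.E × Z.E).2) = Z.proj (s : Y₀.E × Z.E).2
    rw [hG, psiB_snd, diff_proj_mk, xiP_coe]
    change pi πB (sumLift hD Y₀ Z) (sumMk hD Y₀ Z s) = _
    rw [pi_sumMk]
    exact s.2
  · intro m
    have h1 : Z.incl m = ((inr0 hD Y₀ Z m : sumS hD Y₀ Z) : Y₀.E × Z.E).2 := rfl
    rw [hG, h1, psiB_snd, diff_incl]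
    congr 1
    apply Subtype.ext
    rw [xiP_coe]
    apply Prod.ext
    · change sumMk hD Y₀ Z (inr0 hD Y₀ Z m) = iota hD (sumLift hD Y₀ Z) m
      rw [iota_sumLift, sumMk_inl0_eq]
    · rfl

end B

/-- **ring-level main theorem**: given one lift, isomorphism classes of lifts are in bijection with
classes of extensions of `B₀` by `B₀ ⊗ J`. -/
theorem nonempty_equiv_exalcom (hD : IsBase r' J γB πB) (Y₀ : Lift γB J) :
    Nonempty (Quot (liftSetoid hD).r ≃ Exal.Exalcom k B₀ (B₀ ⊗[k] ↥J)) := by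
  refine nonempty_quot_equiv (liftSetoid hD).r (Exal.Ext.setoid k B₀ (B₀ ⊗[k] ↥J))
    (fun Y Z => Nonempty ((diff hD Y Y₀).Equiv Z)) ?_ ?_ ?_
  · intro Y
    exact ⟨diff hD Y Y₀, ⟨Exal.Ext.Equiv.refl _⟩⟩
  · intro Z
    obtain ⟨e⟩ := equivB hD Y₀ Z
    exact ⟨sumLift hD Y₀ Z, ⟨e.symm⟩⟩
  · rintro Y Y' Z Z' ⟨e⟩ ⟨e'⟩
    constructor
    · rintro ⟨f⟩
      obtain ⟨g⟩ := diff_equiv_of_liftHom hD f Y₀
      exact ⟨(e.symm.trans g).trans e'⟩
    · rintro ⟨g⟩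
      exact ⟨((liftHomA hD Y' Y₀).symm hD).comp
        ((sumLiftHom hD Y₀ ((e.trans g).trans e'.symm)).comp (liftHomA hD Y Y₀))⟩

end Groth.Agent.Lib.LeadLx
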