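import Mathlib
import Groth.Prelude.Def_ArtFun4
import Groth.Prelude.Def_Exal
import Groth.Agent.Lib.LeadLxD
import Groth.Agent.Lib.LeadLxE

/-!
# Extensions of a deformation across a semismall extension: scheme level (for S12294)
-/

set_option autoImplicit false
set_option maxHeartbeats 400000
set_option linter.style.haveILetI false
set_option linter.unusedSectionVars false
set_option linter.unusedVariables false

universe u

open AlgebraicGeometry CategoryTheory Limits TensorProduct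

namespace Groth.Agent.Lib.LeadLx

open Groth.Agent.Lib.LeadTrivDefSch Groth.Agent.Lib.LeadDualDef ArtFun ArtFun.Art

variable {k : Type u} [Field k] {B₀ : Type u} [CommRing B₀] [Algebra k B₀]

/-- the total space of a deformation of an affine scheme over an Artinian base is affine. -/
theorem isAffine_total' {A : Art k k}
    (ξ : DefSch (Spec (CommRingCat.of B₀)) (Spec.map (CommRingCat.ofHom (algebraMap k B₀))) A) :
    IsAffine ξ.total :=
  isAffine_of_isPullback A.res (Spec.map (CommRingCat.ofHom (algebraMap k B₀))) ξ.f ξ.i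
    ξ.isPullback (isNilpotent_ker_aug A.res)

variable {C' C : Art k k} (p : C' ⟶ C)
  (𝒳 : DefSch (Spec (CommRingCat.of B₀)) (Spec.map (CommRingCat.ofHom (algebraMap k B₀))) C)

/-- the structure map `C → Γ(𝒳)`. -/
noncomputable def gamC : C →+* Γ(𝒳.total, ⊤) := (gamS 𝒳.f).hom

/-- the structure map `C' → C → Γ(𝒳)`. -/
noncomputable def gamB : C' →+* Γ(𝒳.total, ⊤) := (gamC 𝒳).comp p.toAlgHom.toRingHom

/-- the projection `Γ(𝒳) → B₀`. -/
noncomputable def piB : Γ(𝒳.total, ⊤) →+* B₀ :=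
  (Scheme.ΓSpecIso (CommRingCat.of B₀)).hom.hom.comp 𝒳.i.appTop.hom

theorem gamB_apply (c : C') : gamB p 𝒳 c = gamC 𝒳 (p c) := rfl

theorem piB_apply (b : Γ(𝒳.total, ⊤)) :
    piB 𝒳 b = (Scheme.ΓSpecIso (CommRingCat.of B₀)).hom.hom (𝒳.i.appTop.hom b) := rfl

theorem piB_gamC (a : C) : piB 𝒳 (gamC 𝒳 a) = algebraMap k B₀ (C.res a) := by
  have h1 := appTop_comm C.res (Spec.map (CommRingCat.ofHom (algebraMap k B₀))) 𝒳.f 𝒳.i
    𝒳.isPullback
  have h2 : 𝒳.i.appTop.hom (gamC 𝒳 a) =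
      (gamS (Spec.map (CommRingCat.ofHom (algebraMap k B₀)))).hom (C.res a) :=
    congrArg (fun m => m.hom a) h1
  rw [piB_apply, h2]
  exact congrArg (fun m => m.hom (C.res a)) (gamS_SpecMap (CommRingCat.ofHom (algebraMap k B₀)))

theorem ΓSpecIso_hom_injective (R : CommRingCat.{u}) :
    Function.Injective (Scheme.ΓSpecIso R).hom.hom :=
  (Scheme.ΓSpecIso R).commRingCatIsoToRingEquiv.injective

theorem ΓSpecIso_hom_surjective (R : CommRingCat.{u}) :
    Function.Surjective (Scheme.ΓSpecIso R).hom.hom :=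
  (Scheme.ΓSpecIso R).commRingCatIsoToRingEquiv.surjective

/-- **the base data attached to the deformation `𝒳` and the semismall extension `p`.** -/
theorem isBase (hp : IsSemismallExt p) :
    IsBase C'.res (RingHom.ker p.toAlgHom) (gamB p 𝒳) (piB 𝒳) := by
  haveI : IsAffine 𝒳.total := isAffine_total' 𝒳
  haveI : Flat 𝒳.f := 𝒳.flat
  have hci : IsClosedImmersion 𝒳.i :=
    isClosedImmersion_of_isPullback C.res (Spec.map (CommRingCat.ofHom (algebraMap k B₀))) 𝒳.f 𝒳.i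
      𝒳.isPullback
  have hkerle : RingHom.ker C.res ≤ (RingHom.ker C'.res).map p.toAlgHom.toRingHom := by
    intro a ha
    obtain ⟨c, rfl⟩ := hp.1 a
    refine Ideal.mem_map_of_mem _ ?_
    rw [RingHom.mem_ker, ← res_app p c]
    exact RingHom.mem_ker.mp ha
  refine ⟨?_, ?_, ?_, ?_, ?_, ?_, ?_⟩
  · intro a ha j hj
    have h1 : a * j ∈ IsLocalRing.maximalIdeal C' * RingHom.ker p.toAlgHom :=
      Ideal.mul_mem_mul ((mem_maximalIdeal_iff C' a).mpr ha) hj
    rw [hp.2] at h1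
    exact (Ideal.mem_bot).mp h1
  · intro j hj
    rw [← res_app p j]
    have : p j = 0 := RingHom.mem_ker.mp hj
    rw [this, map_zero]
  · intro b₀
    obtain ⟨z, hz⟩ := ΓSpecIso_hom_surjective (CommRingCat.of B₀) b₀
    obtain ⟨y, hy⟩ := (IsClosedImmersion.isAffine_surjective_of_isAffine 𝒳.i).2 z
    refine ⟨y, ?_⟩
    rw [piB_apply]
    have hy' : 𝒳.i.appTop.hom y = z := hy
    rw [hy']
    exact hz
  · intro c
    rw [gamB_apply, piB_gamC, res_app]
  · intro b hb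
    have hb' : 𝒳.i.appTop.hom b = 0 := by
      apply ΓSpecIso_hom_injective (CommRingCat.of B₀)
      rw [map_zero]
      exact hb
    have h1 := ker_appTop_le C.res (Spec.map (CommRingCat.ofHom (algebraMap k B₀))) 𝒳.f 𝒳.i
      𝒳.isPullback (RingHom.mem_ker.mpr hb')
    have h2 : b ∈ (RingHom.ker C.res).map (gamC 𝒳) := h1
    have h3 : (RingHom.ker C'.res).map (gamB p 𝒳) =
        ((RingHom.ker C'.res).map p.toAlgHom.toRingHom).map (gamC 𝒳) := by
      rw [Ideal.map_map]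
      rfl
    rw [h3]
    exact Ideal.map_mono hkerle h2
  · intro j hj
    have : p j = 0 := RingHom.mem_ker.mp hj
    rw [gamB_apply, this, map_zero]
  · intro n c b hsum
    have hfl : (gamC 𝒳).Flat := flat_gamS 𝒳.f
    obtain ⟨κ, a, y, h1, h2⟩ := eqCrit (gamC 𝒳) hfl (fun i => p (c i)) b hsum
    choose a' ha' using fun i l => hp.1 (a i l)
    refine ⟨κ, a', y, fun i => ?_, fun l => ?_⟩
    · rw [h1 i]
      refine Finset.sum_congr rfl fun l _ => ?_
      rw [gamB_apply, ha']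
    · rw [RingHom.mem_ker, map_sum, ← h2 l]
      refine Finset.sum_congr rfl fun i _ => ?_
      rw [map_mul]
      change p (c i) * p (a' i l) = _
      rw [ha']

/-- pairs (deformation over `C'`, identification of its base change with `𝒳`). -/
abbrev Pairs : Type (u + 1) :=
  Σ 𝒳' : DefSch (Spec (CommRingCat.of B₀)) (Spec.map (CommRingCat.ofHom (algebraMap k B₀))) C',
    (𝒳'.baseChange p).Iso 𝒳

/-- equivalence of extensions of `𝒳` over `C'`. -/
def RelR : Pairs p 𝒳 → Pairs p 𝒳 → Prop := fun a b =>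
  ∃ ψ : a.1.Iso b.1, ((ψ.baseChange p).trans b.2).iso = a.2.iso

section rho

variable {p 𝒳}
variable (a : Pairs p 𝒳)

/-- the closed immersion `𝒳 → 𝒳'`. -/
noncomputable def rho : 𝒳.total ⟶ a.1.total := a.2.iso.inv ≫ pullback.fst a.1.f (specMap p)

theorem inv_snd : a.2.iso.inv ≫ pullback.snd a.1.f (specMap p) = 𝒳.f := a.2.symm.hom_f

theorem rho_f : rho a ≫ a.1.f = 𝒳.f ≫ specMap p := by
  unfold rho
  rw [Category.assoc, pullback.condition, ← Category.assoc, inv_snd]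

theorem i_rho : 𝒳.i ≫ rho a = a.1.i := by
  unfold rho
  have h : 𝒳.i ≫ a.2.iso.inv = (a.1.baseChange p).i := a.2.symm.i_hom
  rw [← Category.assoc, h]
  exact DefSch.baseChange_i_fst a.1 p

theorem isPullback_rho : IsPullback (rho a) 𝒳.f a.1.f (specMap p) :=
  IsPullback.of_iso_pullback ⟨rho_f a⟩ a.2.iso.symm rfl (inv_snd a)

theorem hom_rho : a.2.iso.hom ≫ rho a = pullback.fst a.1.f (specMap p) := by
  unfold rho
  rw [← Category.assoc, Iso.hom_inv_id, Category.id_comp]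

end rho

/-- **the ring-level lift attached to an extension of `𝒳` over `C'`.** -/
noncomputable def liftOf (hp : IsSemismallExt p) (a : Pairs p 𝒳) :
    Lift (gamB p 𝒳) (RingHom.ker p.toAlgHom) :=
  haveI : IsAffine 𝒳.total := isAffine_total' 𝒳
  haveI : IsAffine a.1.total := isAffine_total' a.1
  haveI : Flat a.1.f := a.1.flat
  { E := Γ(a.1.total, ⊤)
    γ := (gamS a.1.f).hom
    q := (rho a).appTop.hom
    q_γ := fun c => by
      have h1 : gamS a.1.f ≫ (rho a).appTop =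
          CommRingCat.ofHom p.toAlgHom.toRingHom ≫ gamS 𝒳.f := by
        rw [← gamS_comp, rho_f, gamS_comp_SpecMap]
      exact congrArg (fun m => m.hom c) h1
    q_surj := surjective_appTop' (CommRingCat.ofHom p.toAlgHom.toRingHom) hp.1 𝒳.f a.1.f (rho a)
      (isPullback_rho a)
    ker_q := fun y hy => by
      have h1 := ker_appTop_le' (CommRingCat.ofHom p.toAlgHom.toRingHom) hp.1 𝒳.f a.1.f (rho a)
        (isPullback_rho a) (RingHom.mem_ker.mpr hy)
      exact h1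
    flat := flat_gamS a.1.f }

theorem liftOf_γ (hp : IsSemismallExt p) (a : Pairs p 𝒳) :
    (liftOf p 𝒳 hp a).γ = (gamS a.1.f).hom := rfl

theorem liftOf_q (hp : IsSemismallExt p) (a : Pairs p 𝒳) :
    (liftOf p 𝒳 hp a).q = (rho a).appTop.hom := rfl

section compare

variable {p 𝒳}
variable (hp : IsSemismallExt p) (a a' : Pairs p 𝒳)

/-- the relation `R` in terms of `rho`. -/
theorem rho_comp_of_rel (ψ : a.1.Iso a'.1) (h : ((ψ.baseChange p).trans a'.2).iso = a.2.iso) :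
    rho a ≫ ψ.iso.hom = rho a' := by
  have h1 : DefSch.pullMap ψ.iso.hom ψ.hom_f p ≫ a'.2.iso.hom = a.2.iso.hom :=
    congrArg Iso.hom h
  have h2 : DefSch.pullMap ψ.iso.hom ψ.hom_f p = a.2.iso.hom ≫ a'.2.iso.inv := by
    rw [← h1, Category.assoc, Iso.hom_inv_id, Category.comp_id]
  unfold rho
  rw [Category.assoc, ← DefSch.pullMap_fst ψ.iso.hom ψ.hom_f p, h2, Category.assoc,
    Iso.inv_hom_id_assoc]

/-- **(R ⇒)** equivalent extensions have isomorphic lifts. -/
noncomputable def liftHom_of_rel (ψ : a.1.Iso a'.1)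
    (h : ((ψ.baseChange p).trans a'.2).iso = a.2.iso) :
    LiftHom (liftOf p 𝒳 hp a') (liftOf p 𝒳 hp a) where
  f := ψ.iso.hom.appTop.hom
  f_γ := fun c => by
    have h1 : gamS a'.1.f ≫ ψ.iso.hom.appTop = gamS a.1.f := by
      rw [← gamS_comp, ψ.hom_f]
    exact congrArg (fun m => m.hom c) h1
  q_f := fun y => by
    have h1 : ψ.iso.hom.appTop ≫ (rho a).appTop = (rho a').appTop := by
      rw [← Scheme.Hom.comp_appTop, rho_comp_of_rel a a' ψ h]
    exact congrArg (fun m => m.hom y) h1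

end compare

section compare2

variable {p 𝒳}
variable (hp : IsSemismallExt p) (a a' : Pairs p 𝒳)

set_option maxHeartbeats 1600000 in
/-- **(R ⇐)** extensions with isomorphic lifts are equivalent. -/
theorem rel_of_liftHom (g : LiftHom (liftOf p 𝒳 hp a') (liftOf p 𝒳 hp a)) : RelR p 𝒳 a a' := by
  haveI : IsAffine 𝒳.total := isAffine_total' 𝒳
  haveI : IsAffine a.1.total := isAffine_total' a.1
  haveI : IsAffine a'.1.total := isAffine_total' a'.1
  have hD := isBase p 𝒳 hp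
  obtain ⟨e, he⟩ : ∃ e : Γ(a'.1.total, ⊤) ≃+* Γ(a.1.total, ⊤), ∀ z, e z = g.f z :=
    ⟨RingEquiv.ofBijective g.f (g.bijective hD), fun z => rfl⟩
  obtain ⟨α, hα⟩ : ∃ α : Γ(a'.1.total, ⊤) ⟶ Γ(a.1.total, ⊤),
      α = CommRingCat.ofHom e.toRingHom := ⟨_, rfl⟩
  obtain ⟨β, hβ⟩ : ∃ β : Γ(a.1.total, ⊤) ⟶ Γ(a'.1.total, ⊤),
      β = CommRingCat.ofHom e.symm.toRingHom := ⟨_, rfl⟩
  have hαβ : α ≫ β = 𝟙 _ := by
    rw [hα, hβ]; ext y; exact e.symm_apply_apply y
  have hβα : β ≫ α = 𝟙 _ := by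
    rw [hα, hβ]; ext y; exact e.apply_symm_apply y
  have hαz : ∀ z, α.hom z = g.f z := fun z => by rw [hα]; exact he z
  have hγ : gamS a'.1.f ≫ α = gamS a.1.f := by
    refine CommRingCat.hom_ext (RingHom.ext fun c => ?_)
    change α.hom ((gamS a'.1.f).hom c) = (gamS a.1.f).hom c
    rw [hαz]
    exact g.f_γ c
  have hq : α ≫ (rho a).appTop = (rho a').appTop := by
    refine CommRingCat.hom_ext (RingHom.ext fun y => ?_)
    change (rho a).appTop.hom (α.hom y) = (rho a').appTop.hom y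
    rw [hαz]
    exact g.q_f y
  obtain ⟨φ, hφ⟩ : ∃ φ : a.1.total ≅ a'.1.total,
      φ.hom = a.1.total.isoSpec.hom ≫ Spec.map α ≫ a'.1.total.isoSpec.inv := by
    refine ⟨⟨a.1.total.isoSpec.hom ≫ Spec.map α ≫ a'.1.total.isoSpec.inv,
      a'.1.total.isoSpec.hom ≫ Spec.map β ≫ a.1.total.isoSpec.inv, ?_, ?_⟩, rfl⟩
    · rw [Category.assoc, Category.assoc, Iso.inv_hom_id_assoc, ← Spec.map_comp_assoc, hβα,
        Spec.map_id, Category.id_comp, Iso.hom_inv_id]
    · rw [Category.assoc, Category.assoc, Iso.inv_hom_id_assoc, ← Spec.map_comp_assoc, hαβ,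
        Spec.map_id, Category.id_comp, Iso.hom_inv_id]
  have hφf : φ.hom ≫ a'.1.f = a.1.f := by
    calc φ.hom ≫ a'.1.f
        = (a.1.total.isoSpec.hom ≫ Spec.map α ≫ a'.1.total.isoSpec.inv) ≫
            a'.1.total.isoSpec.hom ≫ Spec.map (gamS a'.1.f) := by
          rw [hφ, ← eq_isoSpec_gamS a'.1.f]
      _ = a.1.total.isoSpec.hom ≫ Spec.map (gamS a'.1.f ≫ α) := by
          simp only [Category.assoc, Iso.inv_hom_id_assoc, Spec.map_comp]
      _ = a.1.f := by rw [hγ, ← eq_isoSpec_gamS a.1.f]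
  have hρφ : rho a ≫ φ.hom = rho a' := by
    calc rho a ≫ φ.hom
        = (rho a ≫ a.1.total.isoSpec.hom) ≫ Spec.map α ≫ a'.1.total.isoSpec.inv := by
          rw [hφ, Category.assoc]
      _ = (𝒳.total.isoSpec.hom ≫ Spec.map (rho a).appTop) ≫ Spec.map α ≫
            a'.1.total.isoSpec.inv := by rw [Scheme.isoSpec_hom_naturality]
      _ = 𝒳.total.isoSpec.hom ≫ Spec.map (α ≫ (rho a).appTop) ≫ a'.1.total.isoSpec.inv := by
          rw [Spec.map_comp, Category.assoc, Category.assoc]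
      _ = (𝒳.total.isoSpec.hom ≫ Spec.map (rho a').appTop) ≫ a'.1.total.isoSpec.inv := by
          rw [hq, Category.assoc]
      _ = (rho a' ≫ a'.1.total.isoSpec.hom) ≫ a'.1.total.isoSpec.inv := by
          rw [Scheme.isoSpec_hom_naturality]
      _ = rho a' := by rw [Category.assoc, Iso.hom_inv_id, Category.comp_id]
  have hiφ : a.1.i ≫ φ.hom = a'.1.i := by
    rw [← i_rho a, Category.assoc, hρφ, i_rho]
  refine ⟨⟨φ, hφf, hiφ⟩, ?_⟩
  apply Iso.ext
  change DefSch.pullMap φ.hom hφf p ≫ a'.2.iso.hom = a.2.iso.hom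
  have key : DefSch.pullMap φ.hom hφf p = a.2.iso.hom ≫ a'.2.iso.inv := by
    apply pullback.hom_ext
    · rw [DefSch.pullMap_fst, Category.assoc]
      change _ = a.2.iso.hom ≫ rho a'
      rw [← hρφ, ← Category.assoc, hom_rho]
    · rw [DefSch.pullMap_snd, Category.assoc, inv_snd]
      exact a.2.hom_f.symm
  rw [key, Category.assoc, Iso.inv_hom_id, Category.comp_id]

end compare2

section build

variable {p 𝒳}
variable (hp : IsSemismallExt p)

set_option maxHeartbeats 1600000 in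
/-- **every ring-level lift comes from an extension of `𝒳` over `C'`.** -/
theorem exists_pair_of_lift (Y : Lift (gamB p 𝒳) (RingHom.ker p.toAlgHom)) :
    ∃ a : Pairs p 𝒳, Nonempty (LiftHom (liftOf p 𝒳 hp a) Y) := by
  haveI : IsAffine 𝒳.total := isAffine_total' 𝒳
  obtain ⟨γc, hγc⟩ : ∃ γc : CommRingCat.of C' ⟶ CommRingCat.of Y.E, γc = CommRingCat.ofHom Y.γ :=
    ⟨_, rfl⟩
  obtain ⟨qc, hqc⟩ : ∃ qc : CommRingCat.of Y.E ⟶ Γ(𝒳.total, ⊤), qc = CommRingCat.ofHom Y.q :=
    ⟨_, rfl⟩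
  obtain ⟨pc, hpc⟩ : ∃ pc : CommRingCat.of C' ⟶ CommRingCat.of C,
      pc = CommRingCat.ofHom p.toAlgHom.toRingHom := ⟨_, rfl⟩
  have hγz : ∀ c, γc.hom c = Y.γ c := fun c => by rw [hγc]; rfl
  have hqz : ∀ y, qc.hom y = Y.q y := fun y => by rw [hqc]; rfl
  have hpz : ∀ c, pc.hom c = p c := fun c => by rw [hpc]; rfl
  have hcomm : γc ≫ qc = pc ≫ gamS 𝒳.f := by
    refine CommRingCat.hom_ext (RingHom.ext fun c => ?_)
    change qc.hom (γc.hom c) = (gamS 𝒳.f).hom (pc.hom c)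
    rw [hγz, hqz, hpz, Y.q_γ]
    rfl
  have hpush : IsPushout γc pc qc (gamS 𝒳.f) := by
    refine isPushout_of_surjective γc pc qc (gamS 𝒳.f) hcomm ?_ ?_ ?_
    · intro b
      obtain ⟨y, hy⟩ := Y.q_surj b
      exact ⟨y, (hqz y).trans hy⟩
    · intro c
      obtain ⟨c', hc'⟩ := hp.1 c
      exact ⟨c', (hpz c').trans hc'⟩
    · intro y hy
      have hy' : Y.q y = 0 := by rw [← hqz]; exact RingHom.mem_ker.mp hy
      have h1 := Y.ker_q y hy'
      have hle : (RingHom.ker p.toAlgHom).map Y.γ ≤ (RingHom.ker pc.hom).map γc.hom := by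
        rw [Ideal.map_le_iff_le_comap]
        intro j hj
        rw [Ideal.mem_comap, ← hγz]
        refine Ideal.mem_map_of_mem _ ?_
        rw [RingHom.mem_ker, hpz]
        exact RingHom.mem_ker.mp hj
      exact hle h1
  have hpb := isPullback_SpecMap_of_isPushout γc pc qc (gamS 𝒳.f) hpush
  have hleft : IsPullback 𝒳.total.isoSpec.hom 𝒳.f (Spec.map (gamS 𝒳.f)) (𝟙 _) :=
    IsPullback.of_horiz_isIso ⟨by rw [Category.comp_id]; exact (eq_isoSpec_gamS 𝒳.f).symm⟩
  obtain ⟨ρ, hρdef⟩ : ∃ ρ : 𝒳.total ⟶ Spec (CommRingCat.of Y.E),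
      ρ = 𝒳.total.isoSpec.hom ≫ Spec.map qc := ⟨_, rfl⟩
  have hρ : IsPullback ρ 𝒳.f (Spec.map γc) (specMap p) := by
    have h := hleft.paste_horiz hpb
    rw [Category.id_comp, ← hρdef, hpc] at h
    exact h
  have hflat : Flat (Spec.map γc) := by
    rw [Flat.SpecMap_iff, hγc]
    exact Y.flat
  -- the deformation over `C'`
  let 𝒳' : DefSch (Spec (CommRingCat.of B₀)) (Spec.map (CommRingCat.ofHom (algebraMap k B₀))) C' :=
    { total := Spec (CommRingCat.of Y.E)
      f := Spec.map γc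
      flat := hflat
      i := 𝒳.i ≫ ρ
      isPullback := by
        have h := 𝒳.isPullback.paste_horiz hρ
        rw [specRes_comp] at h
        exact h }
  have hρ' : IsPullback ρ 𝒳.f 𝒳'.f (specMap p) := hρ
  let θ : (𝒳'.baseChange p).Iso 𝒳 :=
    { iso := hρ'.isoPullback.symm
      hom_f := hρ'.isoPullback_inv_snd
      i_hom := by
        apply hρ'.hom_ext
        · rw [Category.assoc]
          change (𝒳'.baseChange p).i ≫ hρ'.isoPullback.inv ≫ ρ = 𝒳.i ≫ ρ
          rw [hρ'.isoPullback_inv_fst]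
          exact DefSch.baseChange_i_fst 𝒳' p
        · rw [Category.assoc]
          change (𝒳'.baseChange p).i ≫ hρ'.isoPullback.inv ≫ 𝒳.f = 𝒳.i ≫ 𝒳.f
          rw [hρ'.isoPullback_inv_snd, 𝒳.i_f]
          exact DefSch.baseChange_i_f 𝒳' p }
  refine ⟨⟨𝒳', θ⟩, ⟨?_⟩⟩
  have hrho : rho (⟨𝒳', θ⟩ : Pairs p 𝒳) = ρ := hρ'.isoPullback_hom_fst
  refine
    { f := (Scheme.ΓSpecIso (CommRingCat.of Y.E)).hom.hom
      f_γ := fun c => ?_
      q_f := fun y => ?_ }
  · have h1 := gamS_SpecMap γc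
    have h2 := congrArg (fun m => m.hom c) h1
    exact h2.trans (hγz c)
  · change Y.q ((Scheme.ΓSpecIso (CommRingCat.of Y.E)).hom.hom y) =
      (rho (⟨𝒳', θ⟩ : Pairs p 𝒳)).appTop.hom y
    rw [hrho, hρdef, Scheme.Hom.comp_appTop, Scheme.isoSpec_hom, Scheme.toSpecΓ_appTop]
    have h1 := Scheme.ΓSpecIso_naturality qc
    have h2 := congrArg (fun m => m.hom y) h1
    exact ((hqz _).symm.trans h2.symm)

end build

/-- **S12294 up to `Exalcom`.** -/
theorem main_S12294 (hp : IsSemismallExt p)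
    (hne : ∃ 𝒳' : DefSch (Spec (CommRingCat.of B₀))
      (Spec.map (CommRingCat.ofHom (algebraMap k B₀))) C', Nonempty ((𝒳'.baseChange p).Iso 𝒳)) :
    Nonempty (Quot (RelR p 𝒳) ≃ Exal.Exalcom k B₀ (B₀ ⊗[k] ↥(RingHom.ker p.toAlgHom))) := by
  obtain ⟨𝒳'₀, ⟨θ₀⟩⟩ := hne
  have hD := isBase p 𝒳 hp
  obtain ⟨e1⟩ : Nonempty (Quot (RelR p 𝒳) ≃ Quotient (liftSetoid hD)) := by
    refine nonempty_quot_equiv (RelR p 𝒳) (liftSetoid hD)
      (fun a Y => Nonempty (LiftHom (liftOf p 𝒳 hp a) Y)) ?_ ?_ ?_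
    · intro a
      exact ⟨liftOf p 𝒳 hp a, ⟨LiftHom.id _⟩⟩
    · intro Y
      exact exists_pair_of_lift hp Y
    · rintro a a' Y Y' ⟨f⟩ ⟨f'⟩
      constructor
      · rintro ⟨ψ, hψ⟩
        exact ⟨f'.comp (((liftHom_of_rel hp a a' ψ hψ).symm hD).comp (f.symm hD))⟩
      · rintro ⟨g⟩
        exact rel_of_liftHom hp a a' ((f.symm hD).comp ((g.symm hD).comp f'))
  obtain ⟨e2⟩ := nonempty_equiv_exalcom hD (liftOf p 𝒳 hp ⟨𝒳'₀, θ₀⟩)
  exact ⟨e1.trans e2⟩

end Groth.Agent.Lib.LeadLx
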