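import Groth.Agent.Lib.LeadCSAIndex
import Mathlib

/-! # Dimension divisibility for modules over a CSA with an endomorphism killed by a product of
irreducible polynomials of the same degree -/

set_option autoImplicit false
set_option maxHeartbeats 400000
set_option linter.style.haveILetI false
set_option linter.unusedSectionVars false
set_option linter.unusedVariables false

namespace Groth.Agent.Lib.LeadMinPow

open Polynomial TensorProduct

section SimpleDim

universe u
variable {F : Type*} [Field F] {B : Type u} [Ring B] [Algebra F B] [IsSimpleRing B]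
  [FiniteDimensional F B]

/-- every finite module over a simple algebra of dimension `n^2` has dimension divisible by `n` -/
theorem dvd_finrank_of_finrank_eq_sq {n : ℕ} (hn : Module.finrank F B = n ^ 2)
    {M : Type*} [AddCommGroup M] [Module B M] [Module F M] [IsScalarTower F B M]
    [Module.Finite F M] : n ∣ Module.finrank F M := by
  have : IsArtinianRing B := IsArtinianRing.of_finite F B
  obtain ⟨s, hs, D, _, _, _, ⟨e⟩⟩ := IsSimpleRing.exists_algEquiv_matrix_divisionRing_finite F B
  have h1 := LeadCSA.finrank_dvd_of_algEquiv_matrix (k := F) (NeZero.ne s) e (M := M)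
  have h2 : n ^ 2 = s ^ 2 * Module.finrank F D := by
    rw [← hn, e.toLinearEquiv.finrank_eq, Module.finrank_matrix]
    simp only [Fintype.card_fin]; ring
  have h3 : s ∣ n := by
    rw [← Nat.pow_dvd_pow_iff two_ne_zero, h2]; exact dvd_mul_right _ _
  obtain ⟨d, rfl⟩ := h3
  have hs0 : 0 < s := Nat.pos_of_ne_zero (NeZero.ne s)
  have h4 : Module.finrank F D = d ^ 2 := by
    have : s ^ 2 * Module.finrank F D = s ^ 2 * d ^ 2 := by rw [← h2]; ring
    exact Nat.eq_of_mul_eq_mul_left (by positivity) this
  refine dvd_trans ?_ h1
  rw [h4]; exact ⟨d, by ring⟩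

end SimpleDim

section Intertwine

variable {K : Type*} [Field K] {A : Type*} [Ring A] [Algebra K A]
  {V W : Type*} [AddCommGroup V] [Module A V] [Module K V] [IsScalarTower K A V]
  [AddCommGroup W] [Module A W] [Module K W] [IsScalarTower K A W]

theorem aeval_intertwine (φ : Module.End A V) (φ' : Module.End A W) (ι : W →ₗ[A] V)
    (h : ∀ w, ι (φ' w) = φ (ι w)) (p : K[X]) : ∀ w, ι (aeval φ' p w) = aeval φ p (ι w) := by
  induction p using Polynomial.induction_on with
  | C a =>
    intro w
    rw [aeval_C, aeval_C, Module.algebraMap_end_apply, Module.algebraMap_end_apply,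
      LinearMap.map_smul_of_tower]
  | add p q hp hq =>
    intro w
    rw [map_add, map_add, LinearMap.add_apply, LinearMap.add_apply, map_add, hp, hq]
  | monomial n a ih =>
    intro w
    have e1 : aeval φ' (C a * X ^ (n + 1)) = aeval φ' (C a * X ^ n) * φ' := by
      rw [pow_succ, ← mul_assoc, map_mul, aeval_X]
    have e2 : aeval φ (C a * X ^ (n + 1)) = aeval φ (C a * X ^ n) * φ := by
      rw [pow_succ, ← mul_assoc, map_mul, aeval_X]
    rw [e1, e2, Module.End.mul_apply, Module.End.mul_apply, ih, h]

end Intertwine

section Irr

variable {K : Type*} [Field K] {A : Type*} [Ring A] [Algebra K A] [Algebra.IsCentral K A]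
  [IsSimpleRing A] [FiniteDimensional K A]
  {V : Type*} [AddCommGroup V] [Module A V] [Module K V] [IsScalarTower K A V]
  [Module.Finite K V]

/-- if `g(φ) = 0` for an irreducible `g` and an `A`-linear endomorphism `φ` of a finite module
over a CSA `A` of degree `n`, then `deg g * n ∣ dim V`. -/
theorem mul_dvd_finrank_of_irreducible {n : ℕ} (hn : Module.finrank K A = n ^ 2) {g : K[X]}
    (hg : Irreducible g) (φ : Module.End A V) (h : aeval φ g = 0) :
    g.natDegree * n ∣ Module.finrank K V := by
  haveI : Fact (Irreducible g) := ⟨hg⟩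
  let F := AdjoinRoot g
  let f : F →ₐ[K] Module.End A V := Ideal.Quotient.liftₐ (Ideal.span {g}) (aeval φ) (fun a ha => by
    obtain ⟨b, rfl⟩ := Ideal.mem_span_singleton.mp ha
    rw [map_mul, h, zero_mul])
  letI mF : Module F V := Module.compHom V f.toRingHom
  have hsm : ∀ (c : F) (v : V), c • v = f c v := fun _ _ => rfl
  haveI : IsScalarTower K F V := ⟨fun k c v => by rw [hsm, hsm, map_smul, LinearMap.smul_apply]⟩
  haveI : SMulCommClass F A V := ⟨fun c a v => by rw [hsm, hsm, map_smul]⟩
  letI mB : Module (F ⊗[K] A) V := TensorProduct.Algebra.module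
  haveI : IsScalarTower F (F ⊗[K] A) V := ⟨fun c t v => by
    induction t using TensorProduct.induction_on with
    | zero => simp
    | tmul c' a =>
      rw [TensorProduct.smul_tmul', TensorProduct.Algebra.smul_def,
        TensorProduct.Algebra.smul_def, smul_eq_mul, mul_smul]
    | add t t' ht ht' => rw [smul_add, add_smul, add_smul, ht, ht', smul_add]⟩
  haveI : Module.Finite F V := Module.Finite.of_restrictScalars_finite K F V
  haveI : IsSimpleRing (F ⊗[K] A) := LeadCSA.isSimpleRing_baseChange F
  have hB : Module.finrank F (F ⊗[K] A) = n ^ 2 := by rw [Module.finrank_baseChange, hn]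
  have h1 : n ∣ Module.finrank F V := dvd_finrank_of_finrank_eq_sq (F := F) (B := F ⊗[K] A) hB
  have h2 : Module.finrank K F = g.natDegree := by
    rw [(AdjoinRoot.powerBasis hg.ne_zero).finrank, AdjoinRoot.powerBasis_dim]
  rw [← Module.finrank_mul_finrank K F V, h2]
  exact mul_dvd_mul_left _ h1

end Irr

section Prod

universe w
variable {K : Type*} [Field K] {A : Type*} [Ring A] [Algebra K A] [Algebra.IsCentral K A]
  [IsSimpleRing A] [FiniteDimensional K A]

/-- if `(∏ g_i)(φ) = 0` for irreducible `g_i` of degree `r` and an `A`-linear endomorphism `φ`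
of a finite module over a CSA `A` of degree `n`, then `r * n ∣ dim V`. -/
theorem mul_dvd_finrank_of_prod {n r : ℕ} (hn : Module.finrank K A = n ^ 2) (s : Multiset K[X]) :
    (∀ g ∈ s, Irreducible g ∧ g.natDegree = r) →
    ∀ (V : Type w) [AddCommGroup V] [Module A V] [Module K V] [IsScalarTower K A V]
      [Module.Finite K V] (φ : Module.End A V), aeval φ s.prod = 0 →
      r * n ∣ Module.finrank K V := by
  induction s using Multiset.induction_on with
  | empty =>
    intro _ V _ _ _ _ _ φ h
    rw [Multiset.prod_zero, map_one] at h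
    have : Subsingleton V := ⟨fun a b => by
      have h1 : (1 : Module.End A V) a = (1 : Module.End A V) b := by rw [h]; rfl
      exact h1⟩
    rw [Module.finrank_zero_of_subsingleton]; exact dvd_zero _
  | cons g s ih =>
    intro hs V _ _ _ _ _ φ h
    rw [Multiset.prod_cons] at h
    obtain ⟨hg, hgr⟩ := hs g (Multiset.mem_cons_self g s)
    have hs' : ∀ g' ∈ s, Irreducible g' ∧ g'.natDegree = r := fun g' hg' =>
      hs g' (Multiset.mem_cons_of_mem hg')
    let ψ : Module.End A V := aeval φ g
    have hcomm : ∀ v, ψ (φ v) = φ (ψ v) := fun v => by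
      have : ψ * φ = φ * ψ := by
        have e1 : aeval φ (g * X) = ψ * φ := by rw [map_mul, aeval_X]
        have e2 : aeval φ (X * g) = φ * ψ := by rw [map_mul, aeval_X]
        rw [← e1, ← e2, mul_comm]
      exact LinearMap.congr_fun this v
    -- kernel and range
    let W : Submodule A V := LinearMap.ker ψ
    let U : Submodule A V := LinearMap.range ψ
    have hW : ∀ v ∈ W, φ v ∈ W := fun v hv => by
      rw [LinearMap.mem_ker] at hv ⊢
      rw [hcomm, hv, map_zero]
    have hU : ∀ v ∈ U, φ v ∈ U := fun v hv => by
      obtain ⟨v', rfl⟩ := hv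
      exact ⟨φ v', hcomm v'⟩
    haveI : Module.Finite K W :=
      Module.Finite.of_injective (W.subtype.restrictScalars K) Subtype.val_injective
    haveI : Module.Finite K U :=
      Module.Finite.of_injective (U.subtype.restrictScalars K) Subtype.val_injective
    let φW : Module.End A W := φ.restrict hW
    let φU : Module.End A U := φ.restrict hU
    have hφW : aeval φW g = 0 := by
      ext w
      have := aeval_intertwine (K := K) φ φW W.subtype (fun w => rfl) g w
      rw [LinearMap.zero_apply, Submodule.coe_zero]
      exact this.trans w.2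
    have hφU : aeval φU s.prod = 0 := by
      ext ⟨_, v, rfl⟩
      have := aeval_intertwine (K := K) φ φU U.subtype (fun w => rfl) s.prod ⟨ψ v, v, rfl⟩
      rw [LinearMap.zero_apply, Submodule.coe_zero]
      refine this.trans ?_
      show aeval φ s.prod (aeval φ g v) = 0
      rw [← Module.End.mul_apply, ← map_mul, mul_comm, h, LinearMap.zero_apply]
    have h1 : r * n ∣ Module.finrank K W := by
      have := mul_dvd_finrank_of_irreducible hn hg φW hφW
      rwa [hgr] at this
    have h2 : r * n ∣ Module.finrank K U := ih hs' U φU hφU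
    have h3 : Module.finrank K V = Module.finrank K U + Module.finrank K W := by
      have := LinearMap.finrank_range_add_finrank_ker (ψ.restrictScalars K)
      rw [← this]
      rfl
    rw [h3]
    exact dvd_add h2 h1

end Prod

section Regular

variable {K : Type*} [Field K] {A : Type*} [Ring A] [Algebra K A] [Algebra.IsCentral K A]
  [IsSimpleRing A] [FiniteDimensional K A]

theorem aeval_toSpanSingleton (x : A) (p : K[X]) :
    ∀ y : A, aeval (LinearMap.toSpanSingleton A A x) p y = y * aeval x p := by
  induction p using Polynomial.induction_on with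
  | C a =>
    intro y
    rw [aeval_C, aeval_C, Module.algebraMap_end_apply, Algebra.algebraMap_eq_smul_one,
      mul_smul_comm, mul_one]
  | add p q hp hq =>
    intro y
    rw [map_add, map_add, LinearMap.add_apply, hp, hq, mul_add]
  | monomial n a ih =>
    intro y
    have e1 : aeval (LinearMap.toSpanSingleton A A x) (C a * X ^ (n + 1)) =
        aeval (LinearMap.toSpanSingleton A A x) (C a * X ^ n) * LinearMap.toSpanSingleton A A x := by
      rw [pow_succ, ← mul_assoc, map_mul, aeval_X]
    have e2 : aeval x (C a * X ^ (n + 1)) = x * aeval x (C a * X ^ n) := by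
      rw [pow_succ, ← mul_assoc, mul_comm, map_mul, aeval_X]
    rw [e1, e2, Module.End.mul_apply, ih, LinearMap.toSpanSingleton_apply, smul_eq_mul, mul_assoc]

/-- if `x` in a CSA of degree `n` is killed by a product of irreducible polynomials of degree
`r`, then `r ∣ n`. -/
theorem dvd_of_aeval_prod_eq_zero {n r : ℕ} (hn : Module.finrank K A = n ^ 2) (x : A)
    (s : Multiset K[X]) (hs : ∀ g ∈ s, Irreducible g ∧ g.natDegree = r)
    (hx : aeval x s.prod = 0) : r ∣ n := by
  have h0 : aeval (LinearMap.toSpanSingleton A A x) s.prod = 0 := by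
    ext
    rw [aeval_toSpanSingleton, hx, one_mul, LinearMap.zero_apply]
  have h1 := mul_dvd_finrank_of_prod hn s hs A (LinearMap.toSpanSingleton A A x) h0
  have hn0 : n ≠ 0 := by
    rintro rfl
    have : 0 < Module.finrank K A := Module.finrank_pos
    rw [hn] at this; simp at this
  rw [hn, pow_two] at h1
  exact (Nat.mul_dvd_mul_iff_right (Nat.pos_of_ne_zero hn0)).mp h1

end Regular

end Groth.Agent.Lib.LeadMinPow
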