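import Mathlib

/-! # Minimal polynomials of elements a power of which lies in a field containing all roots
of unity -/

set_option autoImplicit false
set_option maxHeartbeats 400000
set_option linter.style.haveILetI false
set_option linter.unusedSectionVars false
set_option linter.unusedVariables false

namespace Groth.Agent.Lib.LeadMinPow

open Polynomial IntermediateField

section Factor

variable {K : Type*} [Field K]

/-- a monic polynomial over a field is a product of monic irreducible polynomials -/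
theorem exists_factor_multiset : ∀ (d : ℕ) (f : K[X]), f.Monic → f.natDegree = d →
    ∃ t : Multiset K[X], t.prod = f ∧ ∀ g ∈ t, g.Monic ∧ Irreducible g := by
  intro d
  induction d using Nat.strong_induction_on with
  | _ d ih =>
    intro f hf hd
    by_cases h1 : f = 1
    · exact ⟨0, by rw [h1, Multiset.prod_zero], fun g hg => absurd hg (Multiset.notMem_zero g)⟩
    have hu : ¬IsUnit f := fun hu => h1 (hf.eq_one_of_isUnit hu)
    obtain ⟨g, hgm, hgi, q, rfl⟩ := Polynomial.exists_monic_irreducible_factor f hu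
    have hq : q.Monic := hgm.of_mul_monic_left hf
    have hg0 : 0 < g.natDegree := hgi.natDegree_pos
    have hdeg : q.natDegree < d := by
      rw [← hd, hgm.natDegree_mul hq]; omega
    obtain ⟨t, ht, htg⟩ := ih _ hdeg q hq rfl
    refine ⟨g ::ₘ t, by rw [Multiset.prod_cons, ht], fun g' hg' => ?_⟩
    rcases Multiset.mem_cons.mp hg' with rfl | h
    · exact ⟨hgm, hgi⟩
    · exact htg g' h

end Factor

section RootsOfUnity

variable {K : Type*} [Field K] (hK : ∀ n : ℕ, 0 < n → (X ^ n - 1 : K[X]).Splits)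
  {L : Type*} [Field L] [Algebra K L]

include hK in
theorem mem_range_of_pow_eq_one {ζ : L} {m : ℕ} (hm : 0 < m) (h : ζ ^ m = 1) :
    ζ ∈ (algebraMap K L).range := by
  have h0 : (X ^ m - 1 : K[X]) ≠ 0 := by
    have := (monic_X_pow_sub_C (1 : K) hm.ne').ne_zero
    rwa [map_one] at this
  refine (hK m hm).mem_range_of_isRoot h0 (i := algebraMap K L) ?_
  rw [IsRoot.def, Polynomial.map_sub, Polynomial.map_pow, map_X, Polynomial.map_one, eval_sub,
    eval_pow, eval_X, eval_one, h, sub_self]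

include hK in
theorem exists_eq_mul_of_pow_eq {θ θ' : L} {m : ℕ} (hm : 0 < m) (hθ : θ ≠ 0)
    (h : θ' ^ m = θ ^ m) : ∃ ζ : K, θ' = algebraMap K L ζ * θ := by
  obtain ⟨ζ, hζ⟩ := mem_range_of_pow_eq_one hK hm (ζ := θ' / θ)
    (by rw [div_pow, h, div_self (pow_ne_zero _ hθ)])
  exact ⟨ζ, by rw [hζ, div_mul_cancel₀ _ hθ]⟩

include hK in
theorem pow_mem_range_iff {θ θ' : L} {m : ℕ} (hm : 0 < m) (hθ : θ ≠ 0)
    (h : θ' ^ m = θ ^ m) (j : ℕ) :
    θ' ^ j ∈ (algebraMap K L).range ↔ θ ^ j ∈ (algebraMap K L).range := by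
  obtain ⟨ζ, rfl⟩ := exists_eq_mul_of_pow_eq hK hm hθ h
  have hζ : ζ ≠ 0 := by
    rintro rfl
    rw [map_zero, zero_mul, zero_pow hm.ne'] at h
    exact pow_ne_zero _ hθ h.symm
  constructor
  · rintro ⟨a, ha⟩
    refine ⟨a * (ζ ^ j)⁻¹, ?_⟩
    rw [map_mul, ha, mul_pow, map_inv₀, map_pow, mul_comm, ← mul_assoc,
      inv_mul_cancel₀ (pow_ne_zero _ ((_root_.map_ne_zero _).mpr hζ)), one_mul]
  · rintro ⟨a, ha⟩
    exact ⟨ζ ^ j * a, by rw [map_mul, ha, mul_pow, map_pow]⟩

include hK in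
/-- the degree-th power of `θ` lies in `K` -/
theorem pow_natDegree_minpoly_mem_range {θ : L} {m : ℕ} (hm : 0 < m) (hθ : θ ≠ 0) {c : K}
    (h : θ ^ m = algebraMap K L c) :
    θ ^ (minpoly K θ).natDegree ∈ (algebraMap K L).range := by
  have hint : IsIntegral K θ := by
    refine ⟨X ^ m - C c, monic_X_pow_sub_C c hm.ne', ?_⟩
    rw [eval₂_sub, eval₂_pow, eval₂_X, eval₂_C, h, sub_self]
  have hc : c ≠ 0 := by
    rintro rfl
    rw [map_zero] at h
    exact pow_ne_zero _ hθ h
  set d := (minpoly K θ).natDegree with hd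
  haveI : FiniteDimensional K K⟮θ⟯ := adjoin.finiteDimensional hint
  have hfr : Module.finrank K K⟮θ⟯ = d := adjoin.finrank hint
  let γ : K⟮θ⟯ := AdjoinSimple.gen K θ
  have hγ : γ ^ m = algebraMap K K⟮θ⟯ c := by
    apply Subtype.val_injective
    show (γ ^ m : K⟮θ⟯).1 = _
    rw [SubmonoidClass.coe_pow]
    exact h
  set N : K := Algebra.norm K γ with hN
  have hNm : N ^ m = c ^ d := by
    rw [hN, ← map_pow, hγ, Algebra.norm_algebraMap, hfr]
  have hN0 : algebraMap K L N ≠ 0 := by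
    rw [_root_.map_ne_zero]
    intro h0
    rw [h0, zero_pow hm.ne'] at hNm
    exact pow_ne_zero _ hc hNm.symm
  have h2 : (θ ^ d) ^ m = (algebraMap K L N) ^ m := by
    rw [← map_pow, hNm, map_pow, ← h, ← pow_mul, ← pow_mul, mul_comm]
  obtain ⟨ζ, hζ⟩ := exists_eq_mul_of_pow_eq hK hm hN0 h2
  exact ⟨ζ * N, by rw [map_mul, hζ]⟩

include hK in
/-- if `r` is the least positive exponent with `θ ^ r ∈ K` then the minimal polynomial of `θ` is
`X ^ r - a`. -/
theorem minpoly_eq_X_pow_sub_C {θ : L} {m : ℕ} (hm : 0 < m) (hθ : θ ≠ 0) {c : K}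
    (h : θ ^ m = algebraMap K L c) {r : ℕ} (hr : 0 < r) {a : K} (ha : θ ^ r = algebraMap K L a)
    (hmin : ∀ j : ℕ, 0 < j → θ ^ j ∈ (algebraMap K L).range → r ≤ j) :
    minpoly K θ = X ^ r - C a := by
  have hint : IsIntegral K θ := by
    refine ⟨X ^ m - C c, monic_X_pow_sub_C c hm.ne', ?_⟩
    rw [eval₂_sub, eval₂_pow, eval₂_X, eval₂_C, h, sub_self]
  have h1 : r ≤ (minpoly K θ).natDegree :=
    hmin _ (minpoly.natDegree_pos hint) (pow_natDegree_minpoly_mem_range hK hm hθ h)
  have h2 : minpoly K θ ∣ X ^ r - C a := by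
    apply minpoly.dvd
    rw [map_sub, map_pow, aeval_X, aeval_C, ha, sub_self]
  have h3 : (X ^ r - C a : K[X]).natDegree = r := natDegree_X_pow_sub_C
  exact (Polynomial.eq_of_monic_of_dvd_of_natDegree_le (minpoly.monic hint)
    (monic_X_pow_sub_C a hr.ne') h2 (by rw [h3]; exact h1)).symm

end RootsOfUnity

end Groth.Agent.Lib.LeadMinPow
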