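import Groth.Agent.Lib.LeadMinPowA
import Groth.Agent.Lib.LeadMinPowB

/-! # Minimal polynomial of an element of a CSA with a power in the centre -/

set_option autoImplicit false
set_option maxHeartbeats 400000
set_option linter.style.haveILetI false
set_option linter.unusedSectionVars false
set_option linter.unusedVariables false

namespace Groth.Agent.Lib.LeadMinPow

open Polynomial

universe u v

theorem minpoly_eq_prod_X_pow_sub_C
    (K : Type u) [Field K] (hK : ∀ n : ℕ, 0 < n → (X ^ n - 1 : K[X]).Splits)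
    (A : Type v) [Ring A] [Algebra K A] [Algebra.IsCentral K A] [IsSimpleRing A]
    [FiniteDimensional K A]
    (n : ℕ) (hn : Module.finrank K A = n ^ 2)
    (x : A) (hx : IsUnit x) (hxm : ∃ m : ℕ, 0 < m ∧ x ^ m ∈ (algebraMap K A).range) :
    ∃ r : ℕ, 0 < r ∧ r ∣ n ∧ ∃ s : Multiset K,
      minpoly K x = (s.map fun a : K => X ^ r - C a).prod := by
  classical
  obtain ⟨m, hm, c, hc⟩ := hxm
  have hc0 : c ≠ 0 := by
    rintro rfl
    rw [map_zero] at hc
    have := hx.pow m
    rw [← hc] at this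
    exact not_isUnit_zero this
  let L := AlgebraicClosure K
  obtain ⟨θ0, hθ0⟩ := IsAlgClosed.exists_pow_nat_eq (algebraMap K L c) hm
  have hθ0ne : θ0 ≠ 0 := by
    rintro rfl
    rw [zero_pow hm.ne'] at hθ0
    exact (_root_.map_ne_zero (algebraMap K L)).mpr hc0 hθ0.symm
  have hex : ∃ j, 0 < j ∧ θ0 ^ j ∈ (algebraMap K L).range := ⟨m, hm, c, hθ0.symm⟩
  obtain ⟨hr, a0, ha0⟩ := Nat.find_spec hex
  have hmin : ∀ j, 0 < j → θ0 ^ j ∈ (algebraMap K L).range → Nat.find hex ≤ j :=
    fun j h1 h2 => Nat.find_min' hex ⟨h1, h2⟩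
  generalize Nat.find hex = r at hr ha0 hmin
  have hint : IsIntegral K x := Algebra.IsIntegral.isIntegral x
  have hμ : (minpoly K x).Monic := minpoly.monic hint
  have hμdvd : minpoly K x ∣ X ^ m - C c :=
    minpoly.dvd K x (by rw [map_sub, map_pow, aeval_X, aeval_C, hc, sub_self])
  obtain ⟨t, ht, htg⟩ := exists_factor_multiset _ (minpoly K x) hμ rfl
  have key : ∀ g ∈ t, ∃ a : K, g = X ^ r - C a := by
    intro g hg
    obtain ⟨hgm, hgi⟩ := htg g hg
    have hgdvd : g ∣ X ^ m - C c := (Multiset.dvd_prod hg).trans (ht ▸ hμdvd)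
    obtain ⟨θ, hθ⟩ := IsAlgClosed.exists_aeval_eq_zero L g (degree_pos_of_irreducible hgi).ne'
    have hθm : θ ^ m = algebraMap K L c := by
      obtain ⟨q, hq⟩ := hgdvd
      have := congrArg (aeval θ) hq
      rw [map_mul, hθ, zero_mul, map_sub, map_pow, aeval_X, aeval_C, sub_eq_zero] at this
      exact this
    have hθne : θ ≠ 0 := by
      rintro rfl
      rw [zero_pow hm.ne'] at hθm
      exact (_root_.map_ne_zero (algebraMap K L)).mpr hc0 hθm.symm
    have hiff := pow_mem_range_iff hK hm hθ0ne (θ' := θ) (hθm.trans hθ0.symm)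
    obtain ⟨a, ha⟩ := (hiff r).mpr ⟨a0, ha0⟩
    have := minpoly_eq_X_pow_sub_C hK hm hθne hθm hr ha.symm
      (fun j h1 h2 => hmin j h1 ((hiff j).mp h2))
    exact ⟨a, (minpoly.eq_of_irreducible_of_monic hgi hθ hgm).trans this⟩
  choose! af haf using key
  refine ⟨r, hr, ?_, t.map af, ?_⟩
  · apply dvd_of_aeval_prod_eq_zero hn x t
      (fun g hg => ⟨(htg g hg).2, by rw [haf g hg]; exact natDegree_X_pow_sub_C⟩)
    rw [ht]; exact minpoly.aeval K x
  · rw [Multiset.map_map, ← ht]
    congr 1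
    have h1 : Multiset.map ((fun a => X ^ r - C a) ∘ af) t = Multiset.map id t :=
      Multiset.map_congr rfl (fun g hg => (haf g hg).symm)
    rw [h1, Multiset.map_id]

end Groth.Agent.Lib.LeadMinPow
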