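import Mathlib

/-!
# The duality pairing of a finite projective module, in `ModuleCat A` (lead)

`dualObj N`, `dualMap g`, `evM N : N^* ⊗ N ⟶ 𝟙_`, `coevM N : 𝟙_ ⟶ N ⊗ N^*` (for `N` finite
projective), the two zigzag identities and dinaturality.
-/

set_option autoImplicit false
set_option maxHeartbeats 400000
universe u
open CategoryTheory MonoidalCategory TensorProduct

namespace Groth.Agent.Lib.Lead.ModPairing

variable {A : Type u} [CommRing A]

section lin

variable (N : Type u) [AddCommGroup N] [Module A N]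

lemma core1 (t : N ⊗[A] Module.Dual A N) (x : N) :
    (LinearMap.lTensor N (contractLeft A N))
        ((TensorProduct.assoc A N (Module.Dual A N) N) (t ⊗ₜ[A] x)) =
      (dualTensorHom A N N (TensorProduct.comm A N (Module.Dual A N) t)) x ⊗ₜ[A] (1 : A) := by
  induction t using TensorProduct.induction_on with
  | zero => simp
  | tmul n f =>
    simp only [TensorProduct.assoc_tmul, LinearMap.lTensor_tmul, contractLeft_apply,
      TensorProduct.comm_tmul, dualTensorHom_apply]
    rw [TensorProduct.smul_tmul, smul_eq_mul, mul_one]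
  | add t₁ t₂ h₁ h₂ =>
    simp only [TensorProduct.add_tmul, map_add, LinearMap.add_apply, h₁, h₂]

lemma core2 (t : N ⊗[A] Module.Dual A N) (f : Module.Dual A N) :
    (LinearMap.rTensor (Module.Dual A N) (contractLeft A N))
        ((TensorProduct.assoc A (Module.Dual A N) N (Module.Dual A N)).symm (f ⊗ₜ[A] t)) =
      (1 : A) ⊗ₜ[A] (f ∘ₗ dualTensorHom A N N (TensorProduct.comm A N (Module.Dual A N) t)) := by
  induction t using TensorProduct.induction_on with
  | zero => simp
  | tmul n g =>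
    simp only [TensorProduct.assoc_symm_tmul, LinearMap.rTensor_tmul, contractLeft_apply,
      TensorProduct.comm_tmul]
    have : f ∘ₗ dualTensorHom A N N (g ⊗ₜ[A] n) = f n • g := by
      ext x
      simp [mul_comm]
    rw [this, TensorProduct.tmul_smul, TensorProduct.smul_tmul', smul_eq_mul, mul_one]
  | add t₁ t₂ h₁ h₂ =>
    simp only [TensorProduct.tmul_add, map_add, LinearMap.comp_add, h₁, h₂]

variable [Module.Finite A N] [Module.Projective A N]

/-- the element of `N^* ⊗ N` corresponding to the identity -/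
noncomputable def cElt' : Module.Dual A N ⊗[A] N :=
  (LinearEquiv.ofBijective (dualTensorHom A N N) dualTensorHom_bijective).symm LinearMap.id

lemma dualTensorHom_cElt' : dualTensorHom A N N (cElt' (A := A) N) = LinearMap.id :=
  (LinearEquiv.ofBijective (dualTensorHom A N N) dualTensorHom_bijective).apply_symm_apply _

/-- the coevaluation element of `N ⊗ N^*` -/
noncomputable def cElt : N ⊗[A] Module.Dual A N := TensorProduct.comm A _ _ (cElt' (A := A) N)

lemma dualTensorHom_comm_cElt :
    dualTensorHom A N N (TensorProduct.comm A N (Module.Dual A N) (cElt (A := A) N)) =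
      LinearMap.id := by
  unfold cElt
  have hcc : ∀ t : Module.Dual A N ⊗[A] N, (TensorProduct.comm A N (Module.Dual A N))
      ((TensorProduct.comm A (Module.Dual A N) N) t) = t := by
    intro t
    induction t using TensorProduct.induction_on with
    | zero => simp
    | tmul f n => simp
    | add t₁ t₂ h₁ h₂ => simp only [map_add, h₁, h₂]
  rw [hcc]
  exact dualTensorHom_cElt' N

end lin

/-- the dual module as an object of `ModuleCat A` -/
noncomputable abbrev dualObj (N : ModuleCat.{u} A) : ModuleCat.{u} A :=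
  ModuleCat.of A (Module.Dual A N)

/-- the transpose of a morphism -/
noncomputable def dualMap {N₁ N₂ : ModuleCat.{u} A} (g : N₁ ⟶ N₂) : dualObj N₂ ⟶ dualObj N₁ :=
  ModuleCat.ofHom (LinearMap.dualMap g.hom)

@[simp] lemma dualMap_apply {N₁ N₂ : ModuleCat.{u} A} (g : N₁ ⟶ N₂) (f : Module.Dual A N₂)
    (x : N₁) : ((dualMap g).hom f : Module.Dual A N₁) x = f (g.hom x) := rfl

lemma dualMap_id (N : ModuleCat.{u} A) : dualMap (𝟙 N) = 𝟙 (dualObj N) := by
  ext f x; rfl

lemma dualMap_comp {N₁ N₂ N₃ : ModuleCat.{u} A} (g : N₁ ⟶ N₂) (h : N₂ ⟶ N₃) :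
    dualMap (g ≫ h) = dualMap h ≫ dualMap g := by
  ext f x; rfl

lemma dualMap_zero (N₁ N₂ : ModuleCat.{u} A) : dualMap (0 : N₁ ⟶ N₂) = 0 := by
  ext f x
  show f ((0 : N₁ ⟶ N₂).hom x) = 0
  simp

lemma dualMap_units_smul {N₁ N₂ : ModuleCat.{u} A} (a : ℤˣ) (g : N₁ ⟶ N₂) :
    dualMap (a • g) = a • dualMap g := by
  ext f x
  show f ((a • g).hom x) = ((a • dualMap g).hom f : Module.Dual A N₁) x
  rcases Int.units_eq_one_or a with rfl | rfl <;> simp <;> rfl

/-- evaluation `N^* ⊗ N ⟶ 𝟙_` -/
noncomputable def evM (N : ModuleCat.{u} A) : dualObj N ⊗ N ⟶ 𝟙_ (ModuleCat.{u} A) :=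
  ModuleCat.ofHom (contractLeft A N)

@[simp] lemma evM_tmul (N : ModuleCat.{u} A) (f : Module.Dual A N) (x : N) :
    (evM N).hom (f ⊗ₜ[A] x) = f x := rfl

/-- dinaturality of evaluation -/
lemma evM_dinat {N₁ N₂ : ModuleCat.{u} A} (g : N₁ ⟶ N₂) :
    dualMap g ▷ N₁ ≫ evM N₁ = dualObj N₂ ◁ g ≫ evM N₂ := by
  apply ModuleCat.MonoidalCategory.tensor_ext
  intro f x
  rfl

section coev

variable (N : ModuleCat.{u} A) [Module.Finite A N] [Module.Projective A N]

/-- coevaluation `𝟙_ ⟶ N ⊗ N^*` -/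
noncomputable def coevM : 𝟙_ (ModuleCat.{u} A) ⟶ N ⊗ dualObj N :=
  ModuleCat.ofHom (LinearMap.toSpanSingleton A (N ⊗[A] Module.Dual A N) (cElt (A := A) N))

lemma coevM_apply (a : A) : (coevM N).hom a = a • cElt (A := A) N := rfl

lemma zigzag1 :
    coevM N ▷ N ≫ (α_ N (dualObj N) N).hom ≫ N ◁ evM N = (λ_ N).hom ≫ (ρ_ N).inv := by
  apply ModuleCat.MonoidalCategory.tensor_ext
  intro a x
  have h := core1 (A := A) N (a • cElt (A := A) N) x
  rw [map_smul, map_smul, dualTensorHom_comm_cElt] at h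
  show (LinearMap.lTensor N (contractLeft A N))
      ((TensorProduct.assoc A N (Module.Dual A N) N) ((a • cElt (A := A) N) ⊗ₜ[A] x)) = _
  rw [h]
  show _ = (TensorProduct.rid A N).symm ((TensorProduct.lid A N) (a ⊗ₜ[A] x))
  simp [TensorProduct.smul_tmul']

lemma zigzag2 :
    dualObj N ◁ coevM N ≫ (α_ (dualObj N) N (dualObj N)).inv ≫ evM N ▷ dualObj N =
      (ρ_ (dualObj N)).hom ≫ (λ_ (dualObj N)).inv := by
  apply ModuleCat.MonoidalCategory.tensor_ext
  intro f a
  have h := core2 (A := A) N (a • cElt (A := A) N) f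
  rw [map_smul, map_smul, dualTensorHom_comm_cElt] at h
  show (LinearMap.rTensor (Module.Dual A N) (contractLeft A N))
      ((TensorProduct.assoc A (Module.Dual A N) N (Module.Dual A N)).symm
        (f ⊗ₜ[A] (a • cElt (A := A) N))) = _
  rw [h]
  show _ = (TensorProduct.lid A (Module.Dual A N)).symm
    ((TensorProduct.rid A (Module.Dual A N)) (f ⊗ₜ[A] a))
  simp [LinearMap.comp_smul, TensorProduct.tmul_smul]

end coev

/-- dinaturality of coevaluation -/
lemma coevM_dinat {N₁ N₂ : ModuleCat.{u} A} [Module.Finite A N₁] [Module.Projective A N₁]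
    [Module.Finite A N₂] [Module.Projective A N₂] (g : N₁ ⟶ N₂) :
    coevM N₁ ≫ g ▷ dualObj N₁ = coevM N₂ ≫ N₂ ◁ dualMap g := by
  ext
  show (LinearMap.rTensor (Module.Dual A N₁) g.hom) ((1 : A) • cElt (A := A) N₁) =
    (LinearMap.lTensor N₂ (LinearMap.dualMap g.hom)) ((1 : A) • cElt (A := A) N₂)
  rw [one_smul, one_smul]
  -- compare in Hom(N₁, N₂)
  have hinj : Function.Injective (fun t : N₂ ⊗[A] Module.Dual A N₁ =>
      dualTensorHom A N₁ N₂ (TensorProduct.comm A N₂ (Module.Dual A N₁) t)) :=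
    (dualTensorHom_bijective (R := A) (M := N₁) (N := N₂)).1.comp
      (TensorProduct.comm A N₂ (Module.Dual A N₁)).injective
  apply hinj
  show dualTensorHom A N₁ N₂ (TensorProduct.comm A N₂ (Module.Dual A N₁)
      ((LinearMap.rTensor (Module.Dual A N₁) g.hom) (cElt (A := A) N₁))) =
    dualTensorHom A N₁ N₂ (TensorProduct.comm A N₂ (Module.Dual A N₁)
      ((LinearMap.lTensor N₂ (LinearMap.dualMap g.hom)) (cElt (A := A) N₂)))
  have h1 : ∀ t : N₁ ⊗[A] Module.Dual A N₁,
      dualTensorHom A N₁ N₂ (TensorProduct.comm A N₂ (Module.Dual A N₁)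
        ((LinearMap.rTensor (Module.Dual A N₁) g.hom) t)) =
      g.hom ∘ₗ dualTensorHom A N₁ N₁ (TensorProduct.comm A N₁ (Module.Dual A N₁) t) := by
    intro t
    induction t using TensorProduct.induction_on with
    | zero => simp
    | tmul n f => ext x; simp
    | add t₁ t₂ h₁ h₂ => simp only [map_add, LinearMap.comp_add, h₁, h₂]
  have h2 : ∀ t : N₂ ⊗[A] Module.Dual A N₂,
      dualTensorHom A N₁ N₂ (TensorProduct.comm A N₂ (Module.Dual A N₁)
        ((LinearMap.lTensor N₂ (LinearMap.dualMap g.hom)) t)) =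
      dualTensorHom A N₂ N₂ (TensorProduct.comm A N₂ (Module.Dual A N₂) t) ∘ₗ g.hom := by
    intro t
    induction t using TensorProduct.induction_on with
    | zero => simp
    | tmul n f => ext x; simp
    | add t₁ t₂ h₁ h₂ => simp only [map_add, LinearMap.add_comp, h₁, h₂]
  rw [h1, h2, dualTensorHom_comm_cElt, dualTensorHom_comm_cElt]
  rfl

end Groth.Agent.Lib.Lead.ModPairing
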