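import Mathlib
import Groth.Agent.Lib.Helper1Tor
import Groth.Agent.Lib.Helper13GenFlat

/-!
# Abstract graded data and normal flatness (lead)

A `T`-module `F` with a complete family of orthogonal projections `c d` (`d : ℕ`), a submodule `K`;
`Fil k` = elements with vanishing components in degrees `< k`, `KK k = K ⊔ Fil k`,
`Z d = {h | c d h ∈ KK (d+1)}`, `WW = ⨅ Z d` (the "initial submodule").
We prove: `F ⧸ KK k` flat for all `k` iff `F ⧸ Z d` flat for all `d` iff `F ⧸ WW` flat.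
-/

set_option autoImplicit false
set_option maxHeartbeats 400000
set_option linter.style.haveILetI false
set_option linter.unusedSectionVars false
set_option linter.unusedVariables false

universe u v w

noncomputable section

namespace Groth.Agent.Lib.LeadNF

/-- A module with a complete family of orthogonal projections indexed by `ℕ`. -/
structure GrData (T : Type*) [CommRing T] (F : Type*) [AddCommGroup F] [Module T F] where
  c : ℕ → F →ₗ[T] F
  bd : F → ℕ
  c_c : ∀ d e h, c d (c e h) = if d = e then c e h else 0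
  c_bd : ∀ h d, bd h ≤ d → c d h = 0
  sum_c : ∀ h, ∑ d ∈ Finset.range (bd h), c d h = h

namespace GrData

variable {T : Type*} [CommRing T] {F : Type*} [AddCommGroup F] [Module T F]
  (G : GrData T F) (K : Submodule T F)

theorem c_c_self (d : ℕ) (h : F) : G.c d (G.c d h) = G.c d h := by
  rw [G.c_c, if_pos rfl]

theorem c_c_ne {d e : ℕ} (hde : d ≠ e) (h : F) : G.c d (G.c e h) = 0 := by
  rw [G.c_c, if_neg hde]

theorem sum_c_of_le (h : F) {N : ℕ} (hN : G.bd h ≤ N) :
    ∑ d ∈ Finset.range N, G.c d h = h := by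
  conv_rhs => rw [← G.sum_c h]
  symm
  apply Finset.sum_subset
  · intro d hd
    rw [Finset.mem_range] at hd ⊢
    exact lt_of_lt_of_le hd hN
  · intro d _ hd
    rw [Finset.mem_range, not_lt] at hd
    exact G.c_bd h d hd

/-- Elements with vanishing components in degrees `< k`. -/
def Fil (k : ℕ) : Submodule T F where
  carrier := {h | ∀ d < k, G.c d h = 0}
  add_mem' := by
    intro a b ha hb d hd
    rw [map_add, ha d hd, hb d hd, add_zero]
  zero_mem' := by
    intro d _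
    rw [map_zero]
  smul_mem' := by
    intro t a ha d hd
    rw [map_smul, ha d hd, smul_zero]

theorem mem_Fil {k : ℕ} {h : F} : h ∈ G.Fil k ↔ ∀ d < k, G.c d h = 0 := Iff.rfl

theorem Fil_zero : G.Fil 0 = ⊤ := by
  rw [eq_top_iff]
  intro h _ d hd
  exact absurd hd (Nat.not_lt_zero d)

theorem Fil_anti {k l : ℕ} (hkl : k ≤ l) : G.Fil l ≤ G.Fil k := by
  intro h hh d hd
  exact hh d (lt_of_lt_of_le hd hkl)

theorem c_mem_Fil (d : ℕ) (h : F) : G.c d h ∈ G.Fil d := by
  intro e he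
  exact G.c_c_ne (Nat.ne_of_lt he) h

theorem sub_c_mem_Fil {d : ℕ} {h : F} (hh : h ∈ G.Fil d) : h - G.c d h ∈ G.Fil (d + 1) := by
  intro e he
  rw [map_sub]
  rcases Nat.lt_succ_iff_lt_or_eq.mp he with h1 | h1
  · rw [hh e h1, G.c_c_ne (Nat.ne_of_lt h1), sub_zero]
  · subst h1
    rw [G.c_c_self, sub_self]

theorem sub_sum_c_mem_Fil (k : ℕ) (h : F) :
    h - ∑ d ∈ Finset.range k, G.c d h ∈ G.Fil k := by
  intro e he
  rw [map_sub, map_sum]
  rw [Finset.sum_eq_single e]
  · rw [G.c_c_self, sub_self]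
  · intro d _ hde
    exact G.c_c_ne (Ne.symm hde) h
  · intro hne
    exact absurd (Finset.mem_range.mpr he) hne

theorem eq_sum_c_of_mem_Fil {k : ℕ} {h : F} (hh : h ∈ G.Fil k) {N : ℕ} (hN : G.bd h ≤ N) :
    ∑ d ∈ Finset.Ico k N, G.c d h = h := by
  conv_rhs => rw [← G.sum_c_of_le h hN]
  apply Finset.sum_subset
  · intro d hd
    rw [Finset.mem_Ico] at hd
    exact Finset.mem_range.mpr hd.2
  · intro d hd hd'
    rw [Finset.mem_range] at hd
    rw [Finset.mem_Ico, not_and_or, not_le, not_lt] at hd'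
    rcases hd' with h1 | h1
    · exact hh d h1
    · exact absurd hd (not_lt.mpr h1)

/-- `KK k = K + Fil k`. -/
def KK (k : ℕ) : Submodule T F := K ⊔ G.Fil k

theorem KK_zero : G.KK K 0 = ⊤ := by
  rw [KK, Fil_zero, sup_top_eq]

theorem KK_anti {k l : ℕ} (hkl : k ≤ l) : G.KK K l ≤ G.KK K k :=
  sup_le_sup_left (G.Fil_anti hkl) K

theorem le_KK (k : ℕ) : K ≤ G.KK K k := le_sup_left

theorem Fil_le_KK (k : ℕ) : G.Fil k ≤ G.KK K k := le_sup_right

/-- `Z d = {h | c d h ∈ KK (d+1)}`. -/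
def Z (d : ℕ) : Submodule T F := (G.KK K (d + 1)).comap (G.c d)

theorem mem_Z {d : ℕ} {h : F} : h ∈ G.Z K d ↔ G.c d h ∈ G.KK K (d + 1) := Iff.rfl

/-- The initial submodule: all components `c d h` lie in `KK (d+1)`. -/
def WW : Submodule T F := ⨅ d, G.Z K d

theorem mem_WW {h : F} : h ∈ G.WW K ↔ ∀ d, G.c d h ∈ G.KK K (d + 1) := by
  rw [WW, Submodule.mem_iInf]
  rfl

theorem WW_le_Z (d : ℕ) : G.WW K ≤ G.Z K d := iInf_le _ d

theorem c_mem_WW_of_mem_Z {d : ℕ} {h : F} (hh : h ∈ G.Z K d) : G.c d h ∈ G.WW K := by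
  rw [mem_WW]
  intro e
  by_cases hed : e = d
  · subst hed
    rw [G.c_c_self]
    exact hh
  · rw [G.c_c_ne hed]
    exact Submodule.zero_mem _

theorem c_mem_WW {d : ℕ} {h : F} (hh : h ∈ G.WW K) : G.c d h ∈ G.WW K :=
  G.c_mem_WW_of_mem_Z K (G.WW_le_Z K d hh)

theorem sub_c_mem_Z (d : ℕ) (h : F) : h - G.c d h ∈ G.Z K d := by
  rw [mem_Z, map_sub, G.c_c_self, sub_self]
  exact Submodule.zero_mem _

theorem mem_WW_of_forall_c {h : F} (hh : ∀ d, G.c d h ∈ G.WW K) : h ∈ G.WW K := by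
  rw [← G.sum_c h]
  exact Submodule.sum_mem _ fun d _ => hh d


/-! ### The exact sequences `0 → F/Z d → F/KK (d+1) → F/KK d → 0` -/

/-- `F/Z d → F/KK (d+1)`, induced by `c d`. -/
def alpha (d : ℕ) : (F ⧸ G.Z K d) →ₗ[T] (F ⧸ G.KK K (d + 1)) :=
  (G.Z K d).liftQ ((G.KK K (d + 1)).mkQ ∘ₗ G.c d) (by
    intro h hh
    rw [LinearMap.mem_ker, LinearMap.comp_apply, Submodule.mkQ_apply,
      Submodule.Quotient.mk_eq_zero]
    exact hh)

@[simp]
theorem alpha_mk (d : ℕ) (h : F) :
    G.alpha K d (Submodule.Quotient.mk h) = Submodule.Quotient.mk (G.c d h) := rfl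

theorem alpha_injective (d : ℕ) : Function.Injective (G.alpha K d) := by
  rw [← LinearMap.ker_eq_bot, alpha, Submodule.ker_liftQ_eq_bot']
  ext h
  rw [LinearMap.mem_ker, LinearMap.comp_apply, Submodule.mkQ_apply,
    Submodule.Quotient.mk_eq_zero]
  rfl

/-- `F/KK (d+1) → F/KK d`. -/
def beta (d : ℕ) : (F ⧸ G.KK K (d + 1)) →ₗ[T] (F ⧸ G.KK K d) :=
  Submodule.factor (G.KK_anti K (Nat.le_succ d))

@[simp]
theorem beta_mk (d : ℕ) (h : F) :
    G.beta K d (Submodule.Quotient.mk h) = Submodule.Quotient.mk h := rfl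

theorem beta_surjective (d : ℕ) : Function.Surjective (G.beta K d) := by
  intro x
  obtain ⟨h, rfl⟩ := Submodule.Quotient.mk_surjective _ x
  exact ⟨Submodule.Quotient.mk h, rfl⟩

theorem exact_alpha_beta (d : ℕ) : Function.Exact (G.alpha K d) (G.beta K d) := by
  intro x
  constructor
  · intro hx
    obtain ⟨h, rfl⟩ := Submodule.Quotient.mk_surjective _ x
    rw [beta_mk, Submodule.Quotient.mk_eq_zero] at hx
    obtain ⟨a, ha, b, hb, rfl⟩ := Submodule.mem_sup.mp hx
    refine ⟨Submodule.Quotient.mk b, ?_⟩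
    rw [alpha_mk]
    rw [Submodule.Quotient.eq]
    have h1 : b - G.c d b ∈ G.KK K (d + 1) := G.Fil_le_KK K _ (G.sub_c_mem_Fil hb)
    have h2 : a ∈ G.KK K (d + 1) := G.le_KK K _ ha
    have : G.c d b - (a + b) = -(a + (b - G.c d b)) := by abel
    rw [this]
    exact Submodule.neg_mem _ (Submodule.add_mem _ h2 h1)
  · rintro ⟨y, rfl⟩
    obtain ⟨h, rfl⟩ := Submodule.Quotient.mk_surjective _ y
    rw [alpha_mk, beta_mk, Submodule.Quotient.mk_eq_zero]
    exact G.Fil_le_KK K _ (G.c_mem_Fil d h)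

theorem flat_quot_KK_iff :
    (∀ k, Module.Flat T (F ⧸ G.KK K k)) ↔ ∀ d, Module.Flat T (F ⧸ G.Z K d) := by
  constructor
  · intro h d
    haveI := h d
    haveI := h (d + 1)
    exact Groth.Agent.Lib.Helper1.Tor.flat_ker (G.alpha K d) (G.beta K d) (G.alpha_injective K d)
      (G.beta_surjective K d) (G.exact_alpha_beta K d)
  · intro h k
    induction k with
    | zero =>
      haveI : Subsingleton (F ⧸ G.KK K 0) := by
        exact Submodule.Quotient.subsingleton_iff.mpr (G.KK_zero K)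
      infer_instance
    | succ d ih =>
      haveI := ih
      haveI := h d
      exact Groth.Agent.Helper13GenFlat.flat_of_exact (G.alpha K d) (G.beta K d)
        (G.alpha_injective K d) (G.beta_surjective K d) (G.exact_alpha_beta K d)

/-! ### `F/WW ≅ ⨁ F/Z d` -/

/-- `F/Z d → F/WW`, induced by `c d`. -/
def incl (d : ℕ) : (F ⧸ G.Z K d) →ₗ[T] (F ⧸ G.WW K) :=
  (G.Z K d).liftQ ((G.WW K).mkQ ∘ₗ G.c d) (by
    intro h hh
    rw [LinearMap.mem_ker, LinearMap.comp_apply, Submodule.mkQ_apply,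
      Submodule.Quotient.mk_eq_zero]
    exact G.c_mem_WW_of_mem_Z K hh)

@[simp]
theorem incl_mk (d : ℕ) (h : F) :
    G.incl K d (Submodule.Quotient.mk h) = Submodule.Quotient.mk (G.c d h) := rfl

/-- `F/WW → F/Z d`. -/
def proj (d : ℕ) : (F ⧸ G.WW K) →ₗ[T] (F ⧸ G.Z K d) :=
  Submodule.factor (G.WW_le_Z K d)

@[simp]
theorem proj_mk (d : ℕ) (h : F) :
    G.proj K d (Submodule.Quotient.mk h) = Submodule.Quotient.mk h := rfl

theorem proj_incl_self (d : ℕ) (x : F ⧸ G.Z K d) : G.proj K d (G.incl K d x) = x := by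
  obtain ⟨h, rfl⟩ := Submodule.Quotient.mk_surjective _ x
  rw [incl_mk, proj_mk, Submodule.Quotient.eq]
  have := G.sub_c_mem_Z K d h
  rw [← Submodule.neg_mem_iff] at this
  simpa using this

theorem proj_incl_ne {d e : ℕ} (hde : e ≠ d) (x : F ⧸ G.Z K d) :
    G.proj K e (G.incl K d x) = 0 := by
  obtain ⟨h, rfl⟩ := Submodule.Quotient.mk_surjective _ x
  rw [incl_mk, proj_mk, Submodule.Quotient.mk_eq_zero, mem_Z, G.c_c_ne hde]
  exact Submodule.zero_mem _

open DirectSum in
/-- The comparison map `⨁ F/Z d → F/WW`. -/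
def sumMap : (⨁ d, F ⧸ G.Z K d) →ₗ[T] (F ⧸ G.WW K) :=
  DirectSum.toModule T ℕ (F ⧸ G.WW K) (fun d => G.incl K d)

open DirectSum in
theorem proj_sumMap (e : ℕ) (x : ⨁ d, F ⧸ G.Z K d) :
    G.proj K e (G.sumMap K x) = x e := by
  classical
  induction x using DirectSum.induction_on with
  | zero => simp
  | of d y =>
    rw [sumMap, ← DirectSum.lof_eq_of T, DirectSum.toModule_lof]
    by_cases hed : e = d
    · subst hed
      rw [proj_incl_self, DirectSum.lof_eq_of, DirectSum.of_eq_same]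
    · rw [proj_incl_ne G K hed, DirectSum.lof_eq_of, DirectSum.of_eq_of_ne _ _ _ hed]
  | add a b ha hb =>
    rw [map_add, map_add, ha, hb, DirectSum.add_apply]

open DirectSum in
theorem sumMap_bijective : Function.Bijective (G.sumMap K) := by
  classical
  constructor
  · rw [injective_iff_map_eq_zero]
    intro x hx
    ext e
    rw [← proj_sumMap, hx, map_zero, DirectSum.zero_apply]
  · intro x
    obtain ⟨h, rfl⟩ := Submodule.Quotient.mk_surjective _ x
    refine ⟨∑ d ∈ Finset.range (G.bd h), DirectSum.lof T ℕ (fun d => F ⧸ G.Z K d) d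
      (Submodule.Quotient.mk h), ?_⟩
    rw [map_sum]
    conv_rhs => rw [← G.sum_c h]
    rw [← Submodule.mkQ_apply, map_sum]
    refine Finset.sum_congr rfl fun d _ => ?_
    rw [sumMap, DirectSum.toModule_lof, incl_mk, Submodule.mkQ_apply]

theorem flat_quot_WW_iff :
    Module.Flat T (F ⧸ G.WW K) ↔ ∀ d, Module.Flat T (F ⧸ G.Z K d) := by
  constructor
  · intro h d
    exact Module.Flat.of_retract (G.incl K d) (G.proj K d)
      (LinearMap.ext fun x => G.proj_incl_self K d x)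
  · intro h
    haveI := h
    exact Module.Flat.of_linearEquiv (LinearEquiv.ofBijective (G.sumMap K) (G.sumMap_bijective K)).symm

theorem flat_quot_WW_iff_KK :
    Module.Flat T (F ⧸ G.WW K) ↔ ∀ k, Module.Flat T (F ⧸ G.KK K k) := by
  rw [flat_quot_WW_iff, flat_quot_KK_iff]

end GrData

end Groth.Agent.Lib.LeadNF
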