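import Mathlib
import Groth.Agent.Lib.LeadNFa

/-!
# Base change for abstract graded data (lead)
-/

set_option autoImplicit false
set_option maxHeartbeats 400000
set_option linter.style.haveILetI false
set_option linter.unusedSectionVars false
set_option linter.unusedVariables false

universe u v w

noncomputable section

namespace Groth.Agent.Lib.LeadNF

open TensorProduct

section Ext

variable {T : Type*} [CommRing T] {T' : Type*} [CommRing T'] [Algebra T T']
  {F : Type*} [AddCommGroup F] [Module T F]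
  {F' : Type*} [AddCommGroup F'] [Module T' F'] [Module T F'] [IsScalarTower T T' F']
  (φ : F →ₗ[T] F')

/-- The extension of a submodule along `φ`. -/
def ext (T' : Type*) [CommRing T'] [Algebra T T'] {F' : Type*} [AddCommGroup F'] [Module T' F'] [Module T F']
    [IsScalarTower T T' F'] (φ : F →ₗ[T] F') (U : Submodule T F) : Submodule T' F' :=
  Submodule.span T' (φ '' (U : Set F))

theorem map_mem_ext {U : Submodule T F} {u : F} (hu : u ∈ U) : φ u ∈ ext T' φ U :=
  Submodule.subset_span ⟨u, hu, rfl⟩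

theorem ext_mono {U V : Submodule T F} (h : U ≤ V) : ext T' φ U ≤ ext T' φ V :=
  Submodule.span_mono (Set.image_mono h)

theorem ext_le_iff {U : Submodule T F} {W : Submodule T' F'} :
    ext T' φ U ≤ W ↔ ∀ u ∈ U, φ u ∈ W := by
  rw [ext, Submodule.span_le]
  constructor
  · intro h u hu
    exact h ⟨u, hu, rfl⟩
  · rintro h _ ⟨u, hu, rfl⟩
    exact h u hu

theorem ext_sup (U V : Submodule T F) : ext T' φ (U ⊔ V) = ext T' φ U ⊔ ext T' φ V := by
  apply le_antisymm
  · rw [ext_le_iff]
    intro x hx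
    obtain ⟨u, hu, v, hv, rfl⟩ := Submodule.mem_sup.mp hx
    rw [map_add]
    exact Submodule.add_mem _ (Submodule.mem_sup_left (map_mem_ext φ hu))
      (Submodule.mem_sup_right (map_mem_ext φ hv))
  · exact sup_le (ext_mono φ le_sup_left) (ext_mono φ le_sup_right)

theorem ext_top (hφ : IsBaseChange T' φ) : ext T' φ ⊤ = ⊤ := by
  rw [eq_top_iff]
  intro x _
  refine hφ.inductionOn x (fun x => x ∈ ext T' φ ⊤) (Submodule.zero_mem _) ?_ ?_ ?_
  · intro m
    exact map_mem_ext φ Submodule.mem_top
  · intro s n hn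
    exact Submodule.smul_mem _ s hn
  · intro a b ha hb
    exact Submodule.add_mem _ ha hb

/-- Elements of `ext T' φ U` are `T'`-combinations of images. -/
theorem mem_ext_iff {U : Submodule T F} {x : F'} :
    x ∈ ext T' φ U ↔ ∃ (n : ℕ) (t : Fin n → T') (u : Fin n → F), (∀ i, u i ∈ U) ∧
      x = ∑ i, t i • φ (u i) := by
  constructor
  · intro hx
    induction hx using Submodule.span_induction with
    | mem y hy =>
      obtain ⟨u, hu, rfl⟩ := hy
      exact ⟨1, fun _ => 1, fun _ => u, fun _ => hu, by simp⟩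
    | zero => exact ⟨0, Fin.elim0, Fin.elim0, fun i => i.elim0, by simp⟩
    | add a b _ _ ha hb =>
      obtain ⟨n, t, u, hu, rfl⟩ := ha
      obtain ⟨m, s, v, hv, rfl⟩ := hb
      refine ⟨n + m, Fin.append t s, Fin.append u v, ?_, ?_⟩
      · intro i
        refine Fin.addCases (fun i => ?_) (fun i => ?_) i
        · rw [Fin.append_left]; exact hu i
        · rw [Fin.append_right]; exact hv i
      · rw [Fin.sum_univ_add]
        simp only [Fin.append_left, Fin.append_right]
    | smul r a _ ha =>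
      obtain ⟨n, t, u, hu, rfl⟩ := ha
      refine ⟨n, fun i => r * t i, u, hu, ?_⟩
      rw [Finset.smul_sum]
      refine Finset.sum_congr rfl fun i _ => ?_
      rw [mul_smul]
  · rintro ⟨n, t, u, hu, rfl⟩
    exact Submodule.sum_mem _ fun i _ => Submodule.smul_mem _ _ (map_mem_ext φ (hu i))

/-- The induced map on quotients. -/
def quotMap (U : Submodule T F) (U' : Submodule T' F') (h : ∀ u ∈ U, φ u ∈ U') :
    (F ⧸ U) →ₗ[T] (F' ⧸ U') :=
  U.liftQ ((U'.mkQ.restrictScalars T) ∘ₗ φ) (by
    intro u hu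
    rw [LinearMap.mem_ker, LinearMap.comp_apply, LinearMap.coe_restrictScalars,
      Submodule.mkQ_apply, Submodule.Quotient.mk_eq_zero]
    exact h u hu)

@[simp]
theorem quotMap_mk (U : Submodule T F) (U' : Submodule T' F') (h : ∀ u ∈ U, φ u ∈ U') (x : F) :
    quotMap φ U U' h (Submodule.Quotient.mk x) = Submodule.Quotient.mk (φ x) := rfl

theorem range_liftBaseChange (U : Submodule T F) :
    LinearMap.range ((φ ∘ₗ U.subtype).liftBaseChange T') = ext T' φ U := by
  apply le_antisymm
  · rintro _ ⟨z, rfl⟩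
    induction z with
    | zero => rw [map_zero]; exact Submodule.zero_mem _
    | tmul a u =>
      rw [LinearMap.liftBaseChange_tmul]
      exact Submodule.smul_mem _ _ (map_mem_ext φ u.2)
    | add a b ha hb => rw [map_add]; exact Submodule.add_mem _ ha hb
  · rw [ext_le_iff]
    intro u hu
    refine ⟨(1 : T') ⊗ₜ[T] (⟨u, hu⟩ : U), ?_⟩
    rw [LinearMap.liftBaseChange_tmul, one_smul]
    rfl

theorem isBaseChange_quotMap (hφ : IsBaseChange T' φ) (U : Submodule T F) (U' : Submodule T' F')
    (hU : U' = ext T' φ U) :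
    IsBaseChange T' (quotMap φ U U' (fun u hu => hU ▸ map_mem_ext φ hu)) := by
  subst hU
  refine IsBaseChange.of_right_exact T' (TensorProduct.mk T T' U 1) φ
    (quotMap φ U (ext T' φ U) (fun u hu => map_mem_ext φ hu))
    (f := U.subtype) (g := U.mkQ) (f' := (φ ∘ₗ U.subtype).liftBaseChange T')
    (g' := (ext T' φ U).mkQ) ?_ ?_ (TensorProduct.isBaseChange T U T') hφ
    (LinearMap.exact_subtype_mkQ U) (Submodule.mkQ_surjective U) ?_ (Submodule.mkQ_surjective _)
  · ext u
    simp
  · ext x
    rfl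
  · rw [LinearMap.exact_iff, Submodule.ker_mkQ, range_liftBaseChange]

/-- A base change of a flat module along an injective ring map is injective. -/
theorem injective_of_isBaseChange_of_flat {N : Type*} [AddCommGroup N] [Module T N]
    {N' : Type*} [AddCommGroup N'] [Module T' N'] [Module T N'] [IsScalarTower T T' N']
    (q : N →ₗ[T] N') (hq : IsBaseChange T' q) [Module.Flat T N]
    (hinj : Function.Injective (algebraMap T T')) : Function.Injective q := by
  have h1 : Function.Injective ((Algebra.linearMap T T').rTensor N) :=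
    Module.Flat.rTensor_preserves_injective_linearMap _ hinj
  have h2 : ∀ n : N, q n = hq.equiv (((Algebra.linearMap T T').rTensor N)
      ((TensorProduct.lid T N).symm n)) := by
    intro n
    rw [TensorProduct.lid_symm_apply, LinearMap.rTensor_tmul, Algebra.linearMap_apply, map_one,
      hq.equiv_tmul, one_smul]
  intro a b hab
  rw [h2, h2] at hab
  exact (TensorProduct.lid T N).symm.injective (h1 (hq.equiv.injective hab))

theorem mem_of_map_mem_ext (hφ : IsBaseChange T' φ) (U : Submodule T F) [Module.Flat T (F ⧸ U)]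
    (hinj : Function.Injective (algebraMap T T')) {x : F} (hx : φ x ∈ ext T' φ U) : x ∈ U := by
  have h := injective_of_isBaseChange_of_flat _ (isBaseChange_quotMap φ hφ U (ext T' φ U) rfl) hinj
  rw [← Submodule.Quotient.mk_eq_zero]
  apply h
  rw [quotMap_mk, map_zero, Submodule.Quotient.mk_eq_zero]
  exact hx

/-- Kernels commute with base change when the image stays injective after tensoring. -/
theorem ker_eq_ext_ker (hφ : IsBaseChange T' φ) {N : Type*} [AddCommGroup N] [Module T N]
    {N' : Type*} [AddCommGroup N'] [Module T' N'] [Module T N'] [IsScalarTower T T' N']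
    (q : N →ₗ[T] N') (hq : IsBaseChange T' q) (ψ : F →ₗ[T] N) (ψ' : F' →ₗ[T'] N')
    (hcomm : ∀ h, ψ' (φ h) = q (ψ h))
    (hinj : Function.Injective ((LinearMap.range ψ).subtype.lTensor T')) :
    LinearMap.ker ψ' = ext T' φ (LinearMap.ker ψ) := by
  apply le_antisymm
  · intro x' hx'
    rw [LinearMap.mem_ker] at hx'
    set y := hφ.equiv.symm x' with hy
    have hcompat : ∀ y : T' ⊗[T] F, hq.equiv ((ψ.lTensor T') y) = ψ' (hφ.equiv y) := by
      intro y
      induction y with
      | zero => simp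
      | tmul t h =>
        rw [LinearMap.lTensor_tmul, hq.equiv_tmul, hφ.equiv_tmul, map_smul, hcomm]
      | add a b ha hb => rw [map_add, map_add, ha, hb, map_add, map_add]
    have h0 : (ψ.lTensor T') y = 0 := by
      apply hq.equiv.injective
      rw [hcompat, hy, LinearEquiv.apply_symm_apply, hx', map_zero]
    have hfac : ψ = (LinearMap.range ψ).subtype ∘ₗ ψ.rangeRestrict := by
      ext h
      rfl
    have h1 : (ψ.rangeRestrict.lTensor T') y = 0 := by
      apply hinj
      rw [← LinearMap.comp_apply, ← LinearMap.lTensor_comp, ← hfac, h0, map_zero]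
    have hex : Function.Exact (LinearMap.ker ψ).subtype ψ.rangeRestrict := by
      intro h
      constructor
      · intro hh
        refine ⟨⟨h, ?_⟩, rfl⟩
        rw [LinearMap.mem_ker]
        exact congrArg Subtype.val hh
      · rintro ⟨k, rfl⟩
        apply Subtype.ext
        exact k.2
    have hex2 := lTensor_exact T' hex ψ.surjective_rangeRestrict
    obtain ⟨z, hz⟩ := (hex2 y).mp h1
    have hx : x' = hφ.equiv y := by rw [hy, LinearEquiv.apply_symm_apply]
    rw [hx, ← hz]
    clear hz hx h1 h0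
    induction z with
    | zero => simp
    | tmul t k =>
      rw [LinearMap.lTensor_tmul, hφ.equiv_tmul]
      exact Submodule.smul_mem _ _ (map_mem_ext φ k.2)
    | add a b ha hb => rw [map_add, map_add]; exact Submodule.add_mem _ ha hb
  · rw [ext_le_iff]
    intro u hu
    rw [LinearMap.mem_ker] at hu ⊢
    rw [hcomm, hu, map_zero]

end Ext

section GrBC

variable {T : Type*} [CommRing T] {T' : Type*} [CommRing T'] [Algebra T T']
  {F : Type*} [AddCommGroup F] [Module T F]
  {F' : Type*} [AddCommGroup F'] [Module T' F'] [Module T F'] [IsScalarTower T T' F']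
  (G : GrData T F) (G' : GrData T' F') (φ : F →ₗ[T] F')
  (hc : ∀ d h, φ (G.c d h) = G'.c d (φ h)) (hφ : IsBaseChange T' φ) (K : Submodule T F)

include hc in
theorem map_mem_Fil {k : ℕ} {h : F} (hh : h ∈ G.Fil k) : φ h ∈ G'.Fil k := by
  intro d hd
  rw [← hc, hh d hd, map_zero]

include hc hφ in
theorem ext_Fil (k : ℕ) : ext T' φ (G.Fil k) = G'.Fil k := by
  apply le_antisymm
  · rw [ext_le_iff]
    intro u hu
    exact map_mem_Fil G G' φ hc hu
  · intro x hx
    have hx1 : x ∈ ext T' φ ⊤ := by rw [ext_top φ hφ]; trivial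
    obtain ⟨n, t, u, -, rfl⟩ := (mem_ext_iff φ).mp hx1
    have h0 : ∑ d ∈ Finset.range k, G'.c d (∑ i, t i • φ (u i)) = 0 :=
      Finset.sum_eq_zero fun d hd => hx d (Finset.mem_range.mp hd)
    have h1 : ∑ i, t i • φ (u i) =
        ∑ i, t i • φ (u i - ∑ d ∈ Finset.range k, G.c d (u i)) := by
      conv_lhs => rw [← sub_zero (∑ i, t i • φ (u i)), ← h0]
      simp only [map_sum, map_smul, map_sub, smul_sub, Finset.sum_sub_distrib, Finset.smul_sum, hc]
      rw [Finset.sum_comm]
    rw [h1]
    exact Submodule.sum_mem _ fun i _ => Submodule.smul_mem _ _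
      (map_mem_ext φ (G.sub_sum_c_mem_Fil k (u i)))

include hc hφ in
theorem ext_KK (k : ℕ) : ext T' φ (G.KK K k) = G'.KK (ext T' φ K) k := by
  rw [GrData.KK, GrData.KK, ext_sup, ext_Fil G G' φ hc hφ]

include hc in
theorem map_mem_KK {k : ℕ} {h : F} (hh : h ∈ G.KK K k) : φ h ∈ G'.KK (ext T' φ K) k := by
  obtain ⟨a, ha, b, hb, rfl⟩ := Submodule.mem_sup.mp hh
  rw [map_add]
  exact Submodule.add_mem _ (Submodule.mem_sup_left (map_mem_ext φ ha))
    (Submodule.mem_sup_right (map_mem_Fil G G' φ hc hb))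

include hc in
theorem map_mem_Z {d : ℕ} {h : F} (hh : h ∈ G.Z K d) : φ h ∈ G'.Z (ext T' φ K) d := by
  rw [GrData.mem_Z, ← hc]
  exact map_mem_KK G G' φ hc K hh

include hc in
theorem map_mem_WW {h : F} (hh : h ∈ G.WW K) : φ h ∈ G'.WW (ext T' φ K) := by
  rw [GrData.mem_WW] at hh ⊢
  intro d
  rw [← hc]
  exact map_mem_KK G G' φ hc K (hh d)

include hc hφ in
/-- Base change of `Z d` given injectivity of the image after tensoring. -/
theorem ext_Z_aux (d : ℕ)
    (hinj : Function.Injective ((LinearMap.range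
      ((G.KK K (d + 1)).mkQ ∘ₗ G.c d)).subtype.lTensor T')) :
    G'.Z (ext T' φ K) d = ext T' φ (G.Z K d) := by
  have hU : G'.KK (ext T' φ K) (d + 1) = ext T' φ (G.KK K (d + 1)) :=
    (ext_KK G G' φ hc hφ K (d + 1)).symm
  have hq := isBaseChange_quotMap φ hφ (G.KK K (d + 1)) (G'.KK (ext T' φ K) (d + 1)) hU
  have key := ker_eq_ext_ker φ hφ _ hq ((G.KK K (d + 1)).mkQ ∘ₗ G.c d)
    ((G'.KK (ext T' φ K) (d + 1)).mkQ ∘ₗ G'.c d) (by
      intro h
      rw [LinearMap.comp_apply, LinearMap.comp_apply, Submodule.mkQ_apply, Submodule.mkQ_apply,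
        quotMap_mk, hc]) hinj
  have h1 : LinearMap.ker ((G'.KK (ext T' φ K) (d + 1)).mkQ ∘ₗ G'.c d) = G'.Z (ext T' φ K) d := by
    rw [LinearMap.ker_comp, Submodule.ker_mkQ]
    rfl
  have h2 : LinearMap.ker ((G.KK K (d + 1)).mkQ ∘ₗ G.c d) = G.Z K d := by
    rw [LinearMap.ker_comp, Submodule.ker_mkQ]
    rfl
  rw [← h1, key, h2]

include hc hφ in
theorem ext_Z_of_flat (d : ℕ) [Module.Flat T (F ⧸ G.KK K d)] :
    G'.Z (ext T' φ K) d = ext T' φ (G.Z K d) := by
  apply ext_Z_aux G G' φ hc hφ K d
  have hrange : LinearMap.range ((G.KK K (d + 1)).mkQ ∘ₗ G.c d) =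
      LinearMap.range (G.alpha K d) := by
    rw [GrData.alpha, Submodule.range_liftQ]
  refine LinearMap.lTensor_injective_of_exact_of_flat (G.beta K d) (G.beta_surjective K d) _
    (Submodule.subtype_injective _) ?_ T'
  intro x
  rw [G.exact_alpha_beta K d x]
  constructor
  · rintro ⟨y, rfl⟩
    have : G.alpha K d y ∈ LinearMap.range ((G.KK K (d + 1)).mkQ ∘ₗ G.c d) := by
      rw [hrange]; exact ⟨y, rfl⟩
    exact ⟨⟨_, this⟩, rfl⟩
  · rintro ⟨⟨y, hy⟩, rfl⟩
    rw [hrange] at hy
    exact hy

include hc hφ in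
theorem ext_Z_of_flatAlg (d : ℕ) [Module.Flat T T'] :
    G'.Z (ext T' φ K) d = ext T' φ (G.Z K d) := by
  apply ext_Z_aux G G' φ hc hφ K d
  exact Module.Flat.lTensor_preserves_injective_linearMap _ (Submodule.subtype_injective _)

include hc in
/-- If all `Z d` commute with the base change, so does `WW`. -/
theorem ext_WW (hZ : ∀ d, G'.Z (ext T' φ K) d = ext T' φ (G.Z K d)) :
    G'.WW (ext T' φ K) = ext T' φ (G.WW K) := by
  apply le_antisymm
  · intro x hx
    rw [← G'.sum_c x]
    refine Submodule.sum_mem _ fun d _ => ?_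
    have hxd : x ∈ G'.Z (ext T' φ K) d := G'.WW_le_Z _ d hx
    rw [hZ d] at hxd
    obtain ⟨n, t, u, hu, rfl⟩ := (mem_ext_iff φ).mp hxd
    rw [map_sum]
    refine Submodule.sum_mem _ fun i _ => ?_
    rw [map_smul, ← hc]
    exact Submodule.smul_mem _ _ (map_mem_ext φ (G.c_mem_WW_of_mem_Z K (hu i)))
  · rw [ext_le_iff]
    intro u hu
    exact map_mem_WW G G' φ hc K hu

end GrBC

end Groth.Agent.Lib.LeadNF
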