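import Mathlib
import Groth.Agent.Lib.LeadNFb

/-!
# Weighted gradings on free modules over polynomial rings (lead)
-/

set_option autoImplicit false
set_option maxHeartbeats 400000
set_option linter.style.haveILetI false
set_option linter.unusedSectionVars false
set_option linter.unusedVariables false

universe u v w

noncomputable section

namespace Groth.Agent.Lib.LeadNF

open MvPolynomial

section Poly

variable {σ : Type*} (wt : σ → ℕ) (T : Type*) [CommRing T]

theorem whc_whc (d e : ℕ) (p : MvPolynomial σ T) :
    weightedHomogeneousComponent wt d (weightedHomogeneousComponent wt e p) =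
      if d = e then weightedHomogeneousComponent wt e p else 0 := by
  classical
  exact weightedHomogeneousComponent_of_mem (weightedHomogeneousComponent_mem wt p e)

theorem sum_whc (p : MvPolynomial σ T) {N : ℕ} (hN : weightedTotalDegree wt p < N) :
    ∑ d ∈ Finset.range N, weightedHomogeneousComponent wt d p = p := by
  classical
  ext m
  rw [coeff_sum]
  simp only [coeff_weightedHomogeneousComponent]
  by_cases hm : m ∈ p.support
  · have h1 : Finsupp.weight wt m < N := lt_of_le_of_lt (le_weightedTotalDegree wt hm) hN
    rw [Finset.sum_eq_single (Finsupp.weight wt m)]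
    · rw [if_pos rfl]
    · intro d _ hd
      rw [if_neg (Ne.symm hd)]
    · intro h
      exact absurd (Finset.mem_range.mpr h1) h
  · rw [notMem_support_iff] at hm
    rw [hm]
    exact Finset.sum_eq_zero fun d _ => by split_ifs <;> rfl

/-- Polynomials all of whose monomials have weight at least `k`. -/
def filI (k : ℕ) : Ideal (MvPolynomial σ T) where
  carrier := {p | ∀ m ∈ p.support, k ≤ Finsupp.weight wt m}
  add_mem' := by
    classical
    intro a b ha hb m hm
    rcases Finset.mem_union.mp (support_add hm) with h | h
    · exact ha m h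
    · exact hb m h
  zero_mem' := by
    intro m hm
    simp at hm
  smul_mem' := by
    classical
    intro q a ha m hm
    rw [smul_eq_mul] at hm
    obtain ⟨m₁, hm₁, m₂, hm₂, rfl⟩ := Finset.mem_add.mp (support_mul q a hm)
    rw [map_add]
    exact le_trans (ha m₂ hm₂) (Nat.le_add_left _ _)

theorem mem_filI {k : ℕ} {p : MvPolynomial σ T} :
    p ∈ filI wt T k ↔ ∀ m ∈ p.support, k ≤ Finsupp.weight wt m := Iff.rfl

theorem mem_filI_iff_whc {k : ℕ} {p : MvPolynomial σ T} :
    p ∈ filI wt T k ↔ ∀ d < k, weightedHomogeneousComponent wt d p = 0 := by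
  classical
  constructor
  · intro hp d hd
    ext m
    rw [coeff_weightedHomogeneousComponent, coeff_zero]
    split_ifs with h
    · by_contra hne
      have := hp m (mem_support_iff.mpr hne)
      omega
    · rfl
  · intro hp m hm
    by_contra hlt
    rw [not_le] at hlt
    have := congrArg (coeff m) (hp _ hlt)
    rw [coeff_weightedHomogeneousComponent, if_pos rfl, coeff_zero] at this
    exact (mem_support_iff.mp hm) this

theorem whc_X_mul (v : σ) (d : ℕ) (q : MvPolynomial σ T) :
    weightedHomogeneousComponent wt d (X v * q) =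
      if wt v ≤ d then X v * weightedHomogeneousComponent wt (d - wt v) q else 0 := by
  classical
  ext m
  rw [coeff_weightedHomogeneousComponent]
  by_cases hv : v ∈ m.support
  · have hm : m = (m - Finsupp.single v 1) + Finsupp.single v 1 := by
      ext a
      by_cases ha : a = v
      · subst ha
        have : 1 ≤ m a := Nat.one_le_iff_ne_zero.mpr (Finsupp.mem_support_iff.mp hv)
        simp only [Finsupp.coe_add, Finsupp.coe_tsub, Pi.add_apply, Pi.sub_apply,
          Finsupp.single_eq_same]
        omega
      · simp [Ne.symm ha]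
    have hw : Finsupp.weight wt m = Finsupp.weight wt (m - Finsupp.single v 1) + wt v := by
      conv_lhs => rw [hm]
      rw [map_add, Finsupp.weight_single, one_smul]
    split_ifs with h1 h2 h2
    · rw [coeff_X_mul', if_pos hv, coeff_X_mul', if_pos hv, coeff_weightedHomogeneousComponent,
        if_pos (by omega)]
    · omega
    · rw [coeff_X_mul', if_pos hv, coeff_weightedHomogeneousComponent, if_neg (by omega)]
    · rw [coeff_zero]
  · have h0 : coeff m (X v * q) = 0 := by rw [coeff_X_mul', if_neg hv]
    rw [h0]
    split_ifs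
    · rw [coeff_X_mul', if_neg hv]
    · rw [coeff_zero]
    · rw [coeff_X_mul', if_neg hv]
    · rw [coeff_zero]

theorem whc_C_mul (t : T) (d : ℕ) (q : MvPolynomial σ T) :
    weightedHomogeneousComponent wt d (C t * q) = C t * weightedHomogeneousComponent wt d q :=
  weightedHomogeneousComponent_C_mul _ _ _

end Poly

section Free

variable {σ : Type*} {ι : Type*} [Fintype ι] (wt : σ → ℕ) (T : Type*) [CommRing T]

/-- Componentwise weighted homogeneous component. -/
def cmp (d : ℕ) : (ι → MvPolynomial σ T) →ₗ[T] (ι → MvPolynomial σ T) :=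
  (weightedHomogeneousComponent wt d).compLeft ι

@[simp]
theorem cmp_apply (d : ℕ) (h : ι → MvPolynomial σ T) (i : ι) :
    cmp wt T d h i = weightedHomogeneousComponent wt d (h i) := rfl

/-- A degree bound. -/
def pbd (h : ι → MvPolynomial σ T) : ℕ :=
  (Finset.univ.sup fun i => weightedTotalDegree wt (h i)) + 1

/-- The weighted grading on `ι → T[X]`. -/
def polyGr : GrData T (ι → MvPolynomial σ T) where
  c := cmp wt T
  bd := pbd wt T
  c_c := by
    intro d e h
    funext i
    rw [cmp_apply, cmp_apply, whc_whc]
    split_ifs <;> rfl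
  c_bd := by
    intro h d hd
    funext i
    rw [cmp_apply]
    apply weightedHomogeneousComponent_eq_zero
    have : weightedTotalDegree wt (h i) ≤ Finset.univ.sup fun i => weightedTotalDegree wt (h i) :=
      Finset.le_sup (f := fun i => weightedTotalDegree wt (h i)) (Finset.mem_univ i)
    unfold pbd at hd
    omega
  sum_c := by
    intro h
    funext i
    rw [Finset.sum_apply]
    simp only [cmp_apply]
    apply sum_whc
    have : weightedTotalDegree wt (h i) ≤ Finset.univ.sup fun i => weightedTotalDegree wt (h i) :=
      Finset.le_sup (f := fun i => weightedTotalDegree wt (h i)) (Finset.mem_univ i)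
    unfold pbd
    omega

@[simp]
theorem polyGr_c (d : ℕ) : (polyGr (ι := ι) wt T).c d = cmp wt T d := rfl

/-- The filtration as a `T[X]`-submodule. -/
def FilP (k : ℕ) : Submodule (MvPolynomial σ T) (ι → MvPolynomial σ T) where
  carrier := {h | ∀ i, h i ∈ filI wt T k}
  add_mem' := fun ha hb i => (filI wt T k).add_mem (ha i) (hb i)
  zero_mem' := fun i => (filI wt T k).zero_mem
  smul_mem' := fun q a ha i => (filI wt T k).mul_mem_left q (ha i)

theorem mem_FilP {k : ℕ} {h : ι → MvPolynomial σ T} :
    h ∈ FilP wt T k ↔ ∀ i, h i ∈ filI wt T k := Iff.rfl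

theorem FilP_restrictScalars (k : ℕ) :
    (FilP (ι := ι) wt T k).restrictScalars T = (polyGr wt T).Fil k := by
  ext h
  rw [Submodule.restrictScalars_mem, mem_FilP, GrData.mem_Fil]
  constructor
  · intro hh d hd
    funext i
    exact (mem_filI_iff_whc wt T).mp (hh i) d hd
  · intro hh i
    rw [mem_filI_iff_whc]
    intro d hd
    exact congrFun (hh d hd) i

theorem cmp_X_smul (v : σ) (d : ℕ) (h : ι → MvPolynomial σ T) :
    cmp wt T d ((X v : MvPolynomial σ T) • h) =
      if wt v ≤ d then (X v : MvPolynomial σ T) • cmp wt T (d - wt v) h else 0 := by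
  funext i
  rw [cmp_apply, Pi.smul_apply, smul_eq_mul, whc_X_mul]
  split_ifs <;> rfl

theorem cmp_C_smul (t : T) (d : ℕ) (h : ι → MvPolynomial σ T) :
    cmp wt T d ((C t : MvPolynomial σ T) • h) = (C t : MvPolynomial σ T) • cmp wt T d h := by
  funext i
  rw [cmp_apply, Pi.smul_apply, smul_eq_mul, whc_C_mul]
  rfl

theorem X_smul_mem_FilP (v : σ) {k : ℕ} {h : ι → MvPolynomial σ T} (hh : h ∈ FilP wt T k) :
    (X v : MvPolynomial σ T) • h ∈ FilP wt T (k + wt v) := by
  classical
  intro i m hm
  rw [Pi.smul_apply, smul_eq_mul] at hm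
  obtain ⟨m₁, hm₁, m₂, hm₂, rfl⟩ := Finset.mem_add.mp (support_mul _ _ hm)
  rw [map_add]
  have h1 := hh i m₂ hm₂
  have h2 : m₁ = Finsupp.single v 1 := by
    by_cases hT : Nontrivial T
    · rw [support_X] at hm₁
      exact Finset.mem_singleton.mp hm₁
    · rw [not_nontrivial_iff_subsingleton] at hT
      have : (X v : MvPolynomial σ T) = 0 := Subsingleton.elim _ _
      rw [this] at hm₁
      simp at hm₁
  rw [h2, Finsupp.weight_single, one_smul]
  omega

variable {κ : Type*} (v : κ → ι → MvPolynomial σ T)

/-- The submodule of relations spanned by the rows of `v`. -/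
def KV : Submodule (MvPolynomial σ T) (ι → MvPolynomial σ T) :=
  Submodule.span (MvPolynomial σ T) (Set.range v)

/-- `KKP k = KV + FilP k`. -/
def KKP (k : ℕ) : Submodule (MvPolynomial σ T) (ι → MvPolynomial σ T) := KV T v ⊔ FilP wt T k

theorem KKP_restrictScalars (k : ℕ) :
    (KKP wt T v k).restrictScalars T = (polyGr wt T).KK ((KV T v).restrictScalars T) k := by
  ext h
  rw [Submodule.restrictScalars_mem, KKP, GrData.KK, Submodule.mem_sup, Submodule.mem_sup]
  simp only [Submodule.restrictScalars_mem, ← FilP_restrictScalars]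

theorem X_smul_mem_KKP (u : σ) {k : ℕ} {h : ι → MvPolynomial σ T} (hh : h ∈ KKP wt T v k) :
    (X u : MvPolynomial σ T) • h ∈ KKP wt T v (k + wt u) := by
  obtain ⟨a, ha, b, hb, rfl⟩ := Submodule.mem_sup.mp hh
  rw [smul_add]
  exact Submodule.add_mem _ (Submodule.mem_sup_left (Submodule.smul_mem _ _ ha))
    (Submodule.mem_sup_right (X_smul_mem_FilP wt T u hb))

/-- The initial submodule as a `T[X]`-submodule. -/
def WWP : Submodule (MvPolynomial σ T) (ι → MvPolynomial σ T) where
  carrier := {h | ∀ d, cmp wt T d h ∈ KKP wt T v (d + 1)}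
  add_mem' := by
    intro a b ha hb d
    rw [map_add]
    exact Submodule.add_mem _ (ha d) (hb d)
  zero_mem' := by
    intro d
    rw [map_zero]
    exact Submodule.zero_mem _
  smul_mem' := by
    intro q
    induction q using MvPolynomial.induction_on with
    | C t =>
      intro h hh d
      rw [cmp_C_smul]
      exact Submodule.smul_mem _ _ (hh d)
    | add p q hp hq =>
      intro h hh d
      rw [add_smul, map_add]
      exact Submodule.add_mem _ (hp hh d) (hq hh d)
    | mul_X p u hp =>
      intro h hh
      rw [mul_smul]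
      apply hp
      intro d
      rw [cmp_X_smul]
      split_ifs with hle
      · have := X_smul_mem_KKP wt T v u (hh (d - wt u))
        have e : d - wt u + 1 + wt u = d + 1 := by omega
        rw [e] at this
        exact this
      · exact Submodule.zero_mem _

theorem mem_WWP {h : ι → MvPolynomial σ T} :
    h ∈ WWP wt T v ↔ ∀ d, cmp wt T d h ∈ KKP wt T v (d + 1) := Iff.rfl

theorem WWP_restrictScalars :
    (WWP wt T v).restrictScalars T = (polyGr wt T).WW ((KV T v).restrictScalars T) := by
  ext h
  rw [Submodule.restrictScalars_mem, mem_WWP, GrData.mem_WW]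
  simp only [← KKP_restrictScalars, Submodule.restrictScalars_mem, polyGr_c]

end Free

end Groth.Agent.Lib.LeadNF
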