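import Mathlib
import Groth.Agent.Lib.LeadNFc
import Groth.Agent.Lib.Helper3FlatDescE

/-!
# Base change of the weighted grading data along a ring map (lead)
-/

set_option autoImplicit false
set_option maxHeartbeats 400000
set_option linter.style.haveILetI false
set_option linter.unusedSectionVars false
set_option linter.unusedVariables false

universe u v w

noncomputable section

namespace Groth.Agent.Lib.LeadNF

open MvPolynomial

attribute [local instance] MvPolynomial.algebraMvPolynomial

section BC

variable {σ : Type*} {ι : Type*} [Fintype ι] (wt : σ → ℕ)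
  (T : Type*) [CommRing T] (T' : Type*) [CommRing T'] [Algebra T T']

/-- Coefficientwise base change `(ι → T[X]) → (ι → T'[X])`, as a `T`-linear map. -/
def FmT : (ι → MvPolynomial σ T) →ₗ[T] (ι → MvPolynomial σ T') :=
  ((IsScalarTower.toAlgHom T (MvPolynomial σ T) (MvPolynomial σ T')).toLinearMap).compLeft ι

@[simp]
theorem FmT_apply (h : ι → MvPolynomial σ T) (i : ι) :
    FmT T T' h i = MvPolynomial.map (algebraMap T T') (h i) := by
  change algebraMap (MvPolynomial σ T) (MvPolynomial σ T') (h i) = _
  rw [MvPolynomial.algebraMap_def]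

theorem isBaseChange_FmT : IsBaseChange T' (FmT (σ := σ) (ι := ι) T T') :=
  IsBaseChange.finitePow ι
    (Algebra.IsPushout.out (R := T) (S := T') (R' := MvPolynomial σ T) (S' := MvPolynomial σ T'))

theorem FmT_smul (p : MvPolynomial σ T) (h : ι → MvPolynomial σ T) :
    FmT T T' (p • h) = (MvPolynomial.map (algebraMap T T') p) • FmT T T' h := by
  funext i
  simp

theorem FmT_cmp (d : ℕ) (h : ι → MvPolynomial σ T) :
    FmT T T' (cmp wt T d h) = cmp wt T' d (FmT T T' h) := by
  classical
  funext i
  rw [FmT_apply, cmp_apply, cmp_apply, FmT_apply]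
  ext m
  rw [coeff_map, coeff_weightedHomogeneousComponent, coeff_weightedHomogeneousComponent, coeff_map]
  split_ifs
  · rfl
  · rw [map_zero]

/-- `T'`-spans of images of `T[X]`-submodules are `T'[X]`-submodules. -/
theorem ext_restrictScalars (U : Submodule (MvPolynomial σ T) (ι → MvPolynomial σ T)) :
    ext T' (FmT T T') (U.restrictScalars T) =
      (Submodule.span (MvPolynomial σ T') (FmT T T' '' (U : Set (ι → MvPolynomial σ T)))).restrictScalars
        T' := by
  apply le_antisymm
  · rw [ext_le_iff]
    intro u hu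
    exact Submodule.subset_span ⟨u, hu, rfl⟩
  · -- the `T'`-span is stable under multiplication by polynomials
    set S := ext T' (FmT (σ := σ) (ι := ι) T T') (U.restrictScalars T) with hS
    have hX : ∀ (a : σ) (x : ι → MvPolynomial σ T'), x ∈ S →
        (X a : MvPolynomial σ T') • x ∈ S := by
      intro a x hx
      obtain ⟨n, t, u, hu, rfl⟩ := (mem_ext_iff (FmT T T')).mp hx
      rw [Finset.smul_sum]
      refine Submodule.sum_mem _ fun i _ => ?_
      rw [smul_comm]
      refine Submodule.smul_mem _ _ ?_
      have : (X a : MvPolynomial σ T') • FmT T T' (u i) = FmT T T' ((X a : MvPolynomial σ T) • u i) := by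
        rw [FmT_smul, map_X]
      rw [this]
      exact map_mem_ext _ (U.smul_mem _ (hu i))
    have hP : ∀ (q : MvPolynomial σ T') (x : ι → MvPolynomial σ T'), x ∈ S → q • x ∈ S := by
      intro q
      induction q using MvPolynomial.induction_on with
      | C t =>
        intro x hx
        have : (C t : MvPolynomial σ T') • x = t • x := by
          funext i
          simp [MvPolynomial.smul_eq_C_mul]
        rw [this]
        exact S.smul_mem t hx
      | add p q hp hq =>
        intro x hx
        rw [add_smul]
        exact S.add_mem (hp x hx) (hq x hx)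
      | mul_X p a hp =>
        intro x hx
        rw [mul_smul]
        exact hp _ (hX a x hx)
    let SP : Submodule (MvPolynomial σ T') (ι → MvPolynomial σ T') :=
      { carrier := S
        add_mem' := S.add_mem
        zero_mem' := S.zero_mem
        smul_mem' := fun q x hx => hP q x hx }
    have hle : Submodule.span (MvPolynomial σ T') (FmT T T' '' (U : Set (ι → MvPolynomial σ T))) ≤ SP := by
      rw [Submodule.span_le]
      rintro _ ⟨u, hu, rfl⟩
      exact map_mem_ext _ hu
    intro x hx
    exact hle hx

variable {κ : Type*} (v : κ → ι → MvPolynomial σ T)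

/-- Base change of a family of rows. -/
def mapV : κ → ι → MvPolynomial σ T' := fun j => FmT T T' (v j)

theorem span_FmT_KV :
    Submodule.span (MvPolynomial σ T') (FmT T T' '' (KV T v : Set (ι → MvPolynomial σ T))) =
      KV T' (mapV T T' v) := by
  apply le_antisymm
  · rw [Submodule.span_le]
    rintro _ ⟨u, hu, rfl⟩
    change u ∈ KV T v at hu
    rw [KV] at hu
    induction hu using Submodule.span_induction with
    | mem y hy =>
      obtain ⟨j, rfl⟩ := hy
      exact Submodule.subset_span ⟨j, rfl⟩
    | zero => rw [map_zero]; exact Submodule.zero_mem _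
    | add a b _ _ ha hb => rw [map_add]; exact Submodule.add_mem _ ha hb
    | smul p a _ ha => rw [FmT_smul]; exact Submodule.smul_mem _ _ ha
  · rw [KV, Submodule.span_le]
    rintro _ ⟨j, rfl⟩
    exact Submodule.subset_span ⟨v j, Submodule.subset_span ⟨j, rfl⟩, rfl⟩

theorem ext_KV :
    ext T' (FmT T T') ((KV T v).restrictScalars T) = (KV T' (mapV T T' v)).restrictScalars T' := by
  rw [ext_restrictScalars, span_FmT_KV]


/-! ### Statements in the language of `T[X]`-submodules -/

theorem flat_restrictScalars_iff (U : Submodule (MvPolynomial σ T) (ι → MvPolynomial σ T)) :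
    Module.Flat T ((ι → MvPolynomial σ T) ⧸ U.restrictScalars T) ↔
      Module.Flat T ((ι → MvPolynomial σ T) ⧸ U) :=
  ⟨fun h => Module.Flat.of_linearEquiv (Submodule.Quotient.restrictScalarsEquiv T U).symm,
   fun h => Module.Flat.of_linearEquiv (Submodule.Quotient.restrictScalarsEquiv T U)⟩

theorem flat_KKP_iff_WWP :
    (∀ k, Module.Flat T ((ι → MvPolynomial σ T) ⧸ KKP wt T v k)) ↔
      Module.Flat T ((ι → MvPolynomial σ T) ⧸ WWP wt T v) := by
  rw [← flat_restrictScalars_iff, WWP_restrictScalars, GrData.flat_quot_WW_iff_KK]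
  refine forall_congr' fun k => ?_
  rw [← flat_restrictScalars_iff, KKP_restrictScalars]

/-- The extension of a `T[X]`-submodule to `T'[X]`. -/
def extP (U : Submodule (MvPolynomial σ T) (ι → MvPolynomial σ T)) :
    Submodule (MvPolynomial σ T') (ι → MvPolynomial σ T') :=
  Submodule.span (MvPolynomial σ T') (FmT T T' '' (U : Set (ι → MvPolynomial σ T)))

theorem extP_restrictScalars (U : Submodule (MvPolynomial σ T) (ι → MvPolynomial σ T)) :
    (extP T T' U).restrictScalars T' = ext T' (FmT T T') (U.restrictScalars T) :=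
  (ext_restrictScalars T T' U).symm

theorem FmT_mem_extP {U : Submodule (MvPolynomial σ T) (ι → MvPolynomial σ T)}
    {u : ι → MvPolynomial σ T} (hu : u ∈ U) : FmT T T' u ∈ extP T T' U :=
  Submodule.subset_span ⟨u, hu, rfl⟩

theorem extP_mono {U V : Submodule (MvPolynomial σ T) (ι → MvPolynomial σ T)} (h : U ≤ V) :
    extP T T' U ≤ extP T T' V :=
  Submodule.span_mono (Set.image_mono h)

theorem extP_KV : extP T T' (KV T v) = KV T' (mapV T T' v) := span_FmT_KV T T' v

theorem restrictScalars_injective' {U V : Submodule (MvPolynomial σ T') (ι → MvPolynomial σ T')}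
    (h : U.restrictScalars T' = V.restrictScalars T') : U = V := by
  ext x
  have := congrArg (fun W => x ∈ W) h
  simpa using this

theorem extP_KKP (k : ℕ) : extP T T' (KKP wt T v k) = KKP wt T' (mapV T T' v) k := by
  apply restrictScalars_injective' (T' := T')
  rw [extP_restrictScalars, KKP_restrictScalars, KKP_restrictScalars,
    ext_KK (polyGr wt T) (polyGr wt T') (FmT T T') (fun d h => FmT_cmp wt T T' d h)
      (isBaseChange_FmT T T'), ext_KV]

theorem FmT_mem_WWP {h : ι → MvPolynomial σ T} (hh : h ∈ WWP wt T v) :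
    FmT T T' h ∈ WWP wt T' (mapV T T' v) := by
  have h1 : h ∈ (WWP wt T v).restrictScalars T := hh
  rw [WWP_restrictScalars] at h1
  have h2 := map_mem_WW (polyGr wt T) (polyGr wt T') (FmT T T') (fun d h => FmT_cmp wt T T' d h)
    _ h1
  rw [ext_KV, ← WWP_restrictScalars] at h2
  exact h2

theorem extP_WWP_le : extP T T' (WWP wt T v) ≤ WWP wt T' (mapV T T' v) := by
  rw [extP, Submodule.span_le]
  rintro _ ⟨u, hu, rfl⟩
  exact FmT_mem_WWP wt T T' v hu

theorem WWP_eq_extP_of_forall_Z
    (hZ : ∀ d, (polyGr wt T').Z (ext T' (FmT T T') ((KV T v).restrictScalars T)) d =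
      ext T' (FmT T T') ((polyGr wt T).Z ((KV T v).restrictScalars T) d)) :
    WWP wt T' (mapV T T' v) = extP T T' (WWP wt T v) := by
  apply restrictScalars_injective' (T' := T')
  rw [extP_restrictScalars, WWP_restrictScalars, WWP_restrictScalars, ← ext_KV]
  exact ext_WW (polyGr wt T) (polyGr wt T') (FmT T T') (fun d h => FmT_cmp wt T T' d h) _ hZ

theorem WWP_eq_extP_of_flat (hfl : ∀ k, Module.Flat T ((ι → MvPolynomial σ T) ⧸ KKP wt T v k)) :
    WWP wt T' (mapV T T' v) = extP T T' (WWP wt T v) := by
  apply WWP_eq_extP_of_forall_Z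
  intro d
  haveI : Module.Flat T ((ι → MvPolynomial σ T) ⧸
      (polyGr wt T).KK ((KV T v).restrictScalars T) d) := by
    rw [← KKP_restrictScalars, flat_restrictScalars_iff]
    exact hfl d
  exact ext_Z_of_flat (polyGr wt T) (polyGr wt T') (FmT T T') (fun d h => FmT_cmp wt T T' d h)
    (isBaseChange_FmT T T') _ d

theorem WWP_eq_extP_of_flatAlg [Module.Flat T T'] :
    WWP wt T' (mapV T T' v) = extP T T' (WWP wt T v) := by
  apply WWP_eq_extP_of_forall_Z
  intro d
  exact ext_Z_of_flatAlg (polyGr wt T) (polyGr wt T') (FmT T T') (fun d h => FmT_cmp wt T T' d h)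
    (isBaseChange_FmT T T') _ d

/-- The injectivity trick. -/
theorem mem_of_FmT_mem_extP (U : Submodule (MvPolynomial σ T) (ι → MvPolynomial σ T))
    [Module.Flat T ((ι → MvPolynomial σ T) ⧸ U)] (hinj : Function.Injective (algebraMap T T'))
    {h : ι → MvPolynomial σ T} (hh : FmT T T' h ∈ extP T T' U) : h ∈ U := by
  haveI : Module.Flat T ((ι → MvPolynomial σ T) ⧸ U.restrictScalars T) :=
    (flat_restrictScalars_iff T U).mpr inferInstance
  have h1 : FmT T T' h ∈ (extP T T' U).restrictScalars T' := hh
  rw [extP_restrictScalars] at h1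
  exact mem_of_map_mem_ext (FmT T T') (isBaseChange_FmT T T') (U.restrictScalars T) hinj h1

/-- Flatness of the quotient ascends. -/
theorem flat_quot_extP (U : Submodule (MvPolynomial σ T) (ι → MvPolynomial σ T))
    [Module.Flat T ((ι → MvPolynomial σ T) ⧸ U)] :
    Module.Flat T' ((ι → MvPolynomial σ T') ⧸ extP T T' U) := by
  haveI : Module.Flat T ((ι → MvPolynomial σ T) ⧸ U.restrictScalars T) :=
    (flat_restrictScalars_iff T U).mpr inferInstance
  rw [← flat_restrictScalars_iff]
  have hb := isBaseChange_quotMap (FmT T T') (isBaseChange_FmT T T') (U.restrictScalars T)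
    ((extP T T' U).restrictScalars T') (extP_restrictScalars T T' U)
  exact Module.Flat.isBaseChange T T' _ _ hb

end BC

end Groth.Agent.Lib.LeadNF
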