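import Mathlib
import Groth.Agent.Lib.LeadNFd

/-!
# Towers, bridging with the `KT` models, low-degree generation (lead)
-/

set_option autoImplicit false
set_option maxHeartbeats 400000
set_option linter.style.haveILetI false
set_option linter.unusedSectionVars false
set_option linter.unusedVariables false

universe u v w

noncomputable section

namespace Groth.Agent.Lib.LeadNF

open MvPolynomial Groth.Agent.Lib.Helper3.FlatDesc

attribute [local instance] MvPolynomial.algebraMvPolynomial

section Tower

variable {σ : Type*} {ι : Type*} [Fintype ι] (wt : σ → ℕ)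
  (T : Type*) [CommRing T] (T' : Type*) [CommRing T'] (T'' : Type*) [CommRing T'']
  [Algebra T T'] [Algebra T' T''] [Algebra T T''] [IsScalarTower T T' T'']

theorem FmT_FmT (h : ι → MvPolynomial σ T) : FmT T' T'' (FmT T T' h) = FmT T T'' h := by
  funext i
  rw [FmT_apply, FmT_apply, FmT_apply, MvPolynomial.map_map, IsScalarTower.algebraMap_eq T T' T'']

variable {κ : Type*} (v : κ → ι → MvPolynomial σ T)

theorem mapV_mapV : mapV T' T'' (mapV T T' v) = mapV T T'' v := by
  funext j
  exact FmT_FmT T T' T'' (v j)

theorem extP_extP (U : Submodule (MvPolynomial σ T) (ι → MvPolynomial σ T)) :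
    extP T' T'' (extP T T' U) = extP T T'' U := by
  apply le_antisymm
  · rw [extP, Submodule.span_le]
    rintro _ ⟨x, hx, rfl⟩
    change x ∈ extP T T' U at hx
    rw [extP] at hx
    induction hx using Submodule.span_induction with
    | mem y hy =>
      obtain ⟨u, hu, rfl⟩ := hy
      rw [FmT_FmT]
      exact FmT_mem_extP T T'' hu
    | zero => rw [map_zero]; exact Submodule.zero_mem _
    | add a b _ _ ha hb => rw [map_add]; exact Submodule.add_mem _ ha hb
    | smul p a _ ha => rw [FmT_smul]; exact Submodule.smul_mem _ _ ha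
  · rw [extP, Submodule.span_le]
    rintro _ ⟨u, hu, rfl⟩
    rw [← FmT_FmT T T' T'']
    exact FmT_mem_extP T' T'' (FmT_mem_extP T T' hu)

end Tower

section Bridge

variable {Λ : Type*} [CommRing Λ] {σ ι κ : Type*} [Fintype ι] [Fintype κ]
  (w : κ → ι → MvPolynomial σ Λ) (T : Type*) [CommRing T] [Algebra Λ T]

theorem KT_eq_KV : KT w (MvPolynomial σ T) = KV T (mapV Λ T w) := by
  rw [KT, WT, Fintype.range_linearCombination, KV]
  rfl

end Bridge

section Low

variable {σ : Type*} {ι : Type*} [Fintype ι] (wt : σ → ℕ) (T : Type*) [CommRing T]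
  {κ : Type*} (v : κ → ι → MvPolynomial σ T)

/-- Elements of the initial submodule that are homogeneous of some degree `≤ c`. -/
def lowSet (c : ℕ) : Set (ι → MvPolynomial σ T) :=
  {h | h ∈ WWP wt T v ∧ ∃ d ≤ c, cmp wt T d h = h}

/-- The initial submodule is generated in degrees `≤ c`. -/
def GenLE (c : ℕ) : Prop :=
  WWP wt T v ≤ Submodule.span (MvPolynomial σ T) (lowSet wt T v c)

theorem lowSet_mono {c c' : ℕ} (h : c ≤ c') : lowSet wt T v c ⊆ lowSet wt T v c' := by
  rintro x ⟨hx, d, hd, hxd⟩
  exact ⟨hx, d, le_trans hd h, hxd⟩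

theorem GenLE.mono {c c' : ℕ} (h : c ≤ c') (hg : GenLE wt T v c) : GenLE wt T v c' :=
  le_trans hg (Submodule.span_mono (lowSet_mono wt T v h))

theorem span_lowSet_le (c : ℕ) :
    Submodule.span (MvPolynomial σ T) (lowSet wt T v c) ≤ WWP wt T v := by
  rw [Submodule.span_le]
  rintro x ⟨hx, -⟩
  exact hx

theorem cmp_mem_WWP {h : ι → MvPolynomial σ T} (hh : h ∈ WWP wt T v) (d : ℕ) :
    cmp wt T d h ∈ WWP wt T v := by
  have h1 : h ∈ (WWP wt T v).restrictScalars T := hh
  rw [WWP_restrictScalars] at h1
  have h2 := (polyGr wt T).c_mem_WW _ (d := d) h1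
  rw [← WWP_restrictScalars] at h2
  exact h2

theorem cmp_cmp_self (d : ℕ) (h : ι → MvPolynomial σ T) :
    cmp wt T d (cmp wt T d h) = cmp wt T d h :=
  (polyGr wt T).c_c_self d h

theorem cmp_cmp_ne {d e : ℕ} (hde : d ≠ e) (h : ι → MvPolynomial σ T) :
    cmp wt T d (cmp wt T e h) = 0 :=
  (polyGr wt T).c_c_ne hde h

theorem sum_cmp (h : ι → MvPolynomial σ T) :
    ∑ d ∈ Finset.range (pbd wt T h), cmp wt T d h = h :=
  (polyGr wt T).sum_c h

/-- A `T[X]`-span of homogeneous elements is stable under taking components. -/
theorem cmp_mem_span_of_homogeneous (S : Set (ι → MvPolynomial σ T))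
    (hS : ∀ x ∈ S, ∃ d, cmp wt T d x = x) {h : ι → MvPolynomial σ T}
    (hh : h ∈ Submodule.span (MvPolynomial σ T) S) (e : ℕ) :
    cmp wt T e h ∈ Submodule.span (MvPolynomial σ T) S := by
  -- the submodule of elements all of whose components lie in the span
  let N : Submodule (MvPolynomial σ T) (ι → MvPolynomial σ T) :=
    { carrier := {x | ∀ e, cmp wt T e x ∈ Submodule.span (MvPolynomial σ T) S}
      add_mem' := by
        intro a b ha hb e
        rw [map_add]
        exact Submodule.add_mem _ (ha e) (hb e)
      zero_mem' := by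
        intro e
        rw [map_zero]
        exact Submodule.zero_mem _
      smul_mem' := by
        intro q
        induction q using MvPolynomial.induction_on with
        | C t =>
          intro x hx e
          rw [cmp_C_smul]
          exact Submodule.smul_mem _ _ (hx e)
        | add p q hp hq =>
          intro x hx e
          rw [add_smul, map_add]
          exact Submodule.add_mem _ (hp hx e) (hq hx e)
        | mul_X p u hp =>
          intro x hx
          rw [mul_smul]
          apply hp
          intro e
          rw [cmp_X_smul]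
          split_ifs
          · exact Submodule.smul_mem _ _ (hx _)
          · exact Submodule.zero_mem _ }
  have hle : Submodule.span (MvPolynomial σ T) S ≤ N := by
    rw [Submodule.span_le]
    intro x hx e
    obtain ⟨d, hd⟩ := hS x hx
    by_cases hed : e = d
    · subst hed
      rw [hd]
      exact Submodule.subset_span hx
    · rw [← hd, cmp_cmp_ne wt T hed]
      exact Submodule.zero_mem _
  exact hle hh e

end Low

end Groth.Agent.Lib.LeadNF
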