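import Mathlib
import Groth.Agent.Lib.LeadNFe
import Groth.Agent.Lib.Helper2GenFree2

/-!
# The uniform fibre bound (lead)

For a Noetherian ring `Λ` and a presented graded situation over `Λ[X]`, there is a uniform `c` such
that for every field `K` over `Λ` the initial submodule over `K[X]` is generated in degrees `≤ c`.
-/

set_option autoImplicit false
set_option maxHeartbeats 400000
set_option linter.style.haveILetI false
set_option linter.unusedSectionVars false
set_option linter.unusedVariables false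

universe u v w

noncomputable section

namespace Groth.Agent.Lib.LeadNF

open MvPolynomial Groth.Agent.Lib.Helper2.GenFree

attribute [local instance] MvPolynomial.algebraMvPolynomial

section FB

variable {σ : Type} [Finite σ] {ι : Type} [Fintype ι] {κ : Type} (wt : σ → ℕ)

/-- If all `F/KK k` are flat over a Noetherian ring `T`, there is a uniform bound for all
`T`-algebras. -/
theorem exists_bound_of_flat (T : Type u) [CommRing T] [IsNoetherianRing T]
    (v : κ → ι → MvPolynomial σ T)
    (hfl : ∀ k, Module.Flat T ((ι → MvPolynomial σ T) ⧸ KKP wt T v k)) :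
    ∃ c, ∀ (K : Type u) [CommRing K] [Algebra T K], GenLE wt K (mapV T K v) c := by
  classical
  obtain ⟨S, hS⟩ : (WWP wt T v).FG := IsNoetherian.noetherian _
  refine ⟨S.sup (pbd wt T), fun K _ _ => ?_⟩
  rw [GenLE, WWP_eq_extP_of_flat wt T K v hfl, extP, Submodule.span_le]
  rintro _ ⟨u, hu, rfl⟩
  change u ∈ WWP wt T v at hu
  rw [← hS] at hu
  induction hu using Submodule.span_induction with
  | mem s hs =>
    have hsW : s ∈ WWP wt T v := hS ▸ Submodule.subset_span hs
    rw [← sum_cmp wt T s, map_sum]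
    refine Submodule.sum_mem _ fun d hd => Submodule.subset_span ⟨?_, d, ?_, ?_⟩
    · exact FmT_mem_WWP wt T K v (cmp_mem_WWP wt T v hsW d)
    · have h1 : d < pbd wt T s := Finset.mem_range.mp hd
      have h2 : pbd wt T s ≤ S.sup (pbd wt T) := Finset.le_sup hs
      omega
    · rw [← FmT_cmp, cmp_cmp_self]
  | zero => rw [map_zero]; exact Submodule.zero_mem _
  | add a b _ _ ha hb => rw [map_add]; exact Submodule.add_mem _ ha hb
  | smul p a _ ha => rw [FmT_smul]; exact Submodule.smul_mem _ _ ha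

/-- Generic freeness of `F/WW` gives flatness of all `F/KK k` after localization. -/
theorem flat_KKP_localizationAway (Λ' : Type u) [CommRing Λ'] (v : κ → ι → MvPolynomial σ Λ')
    (f : Λ') (hfree : FreeAway Λ' f ((ι → MvPolynomial σ Λ') ⧸ WWP wt Λ' v)) (k : ℕ) :
    Module.Flat (Localization.Away f) ((ι → MvPolynomial σ (Localization.Away f)) ⧸
      KKP wt (Localization.Away f) (mapV Λ' (Localization.Away f) v) k) := by
  set T := Localization.Away f with hT
  have hW : WWP wt T (mapV Λ' T v) = extP Λ' T (WWP wt Λ' v) := WWP_eq_extP_of_flatAlg wt Λ' T v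
  have hfree' : FreeAway Λ' f ((ι → MvPolynomial σ Λ') ⧸ (WWP wt Λ' v).restrictScalars Λ') :=
    hfree.of_linearEquiv (Submodule.Quotient.restrictScalarsEquiv Λ' (WWP wt Λ' v)).symm
  have hb := isBaseChange_quotMap (FmT (σ := σ) (ι := ι) Λ' T) (isBaseChange_FmT Λ' T)
    ((WWP wt Λ' v).restrictScalars Λ')
    ((extP Λ' T (WWP wt Λ' v)).restrictScalars T) (extP_restrictScalars Λ' T (WWP wt Λ' v))
  haveI : IsLocalizedModule (Submonoid.powers f) (quotMap (FmT (σ := σ) (ι := ι) Λ' T)
      ((WWP wt Λ' v).restrictScalars Λ') ((extP Λ' T (WWP wt Λ' v)).restrictScalars T)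
      (fun u hu => (extP_restrictScalars Λ' T (WWP wt Λ' v)) ▸ map_mem_ext _ hu)) :=
    (isLocalizedModule_iff_isBaseChange (Submonoid.powers f) T _).mpr hb
  have hfr : Module.Free T ((ι → MvPolynomial σ T) ⧸ (extP Λ' T (WWP wt Λ' v)).restrictScalars T) :=
    hfree'.free T (quotMap (FmT (σ := σ) (ι := ι) Λ' T)
      ((WWP wt Λ' v).restrictScalars Λ') ((extP Λ' T (WWP wt Λ' v)).restrictScalars T)
      (fun u hu => (extP_restrictScalars Λ' T (WWP wt Λ' v)) ▸ map_mem_ext _ hu))
  have hflat : Module.Flat T ((ι → MvPolynomial σ T) ⧸ WWP wt T (mapV Λ' T v)) := by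
    rw [hW, ← flat_restrictScalars_iff]
    infer_instance
  exact (flat_KKP_iff_WWP wt T (mapV Λ' T v)).mpr hflat k


/-- **The uniform fibre bound.** -/
theorem exists_fibre_bound (Λ : Type u) [CommRing Λ] [IsNoetherianRing Λ]
    (v : κ → ι → MvPolynomial σ Λ) :
    ∃ c, ∀ (K : Type u) [Field K] [Algebra Λ K], GenLE wt K (mapV Λ K v) c := by
  suffices h : ∀ I : Ideal Λ, ∃ c, ∀ (K : Type u) [Field K] [Algebra Λ K],
      I ≤ RingHom.ker (algebraMap Λ K) → GenLE wt K (mapV Λ K v) c by
    obtain ⟨c, hc⟩ := h ⊥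
    exact ⟨c, fun K _ _ => hc K bot_le⟩
  intro I
  refine IsNoetherian.induction (P := fun I : Ideal Λ => ∃ c, ∀ (K : Type u) [Field K]
    [Algebra Λ K], I ≤ RingHom.ker (algebraMap Λ K) → GenLE wt K (mapV Λ K v) c) ?_ I
  intro (I : Ideal Λ) ih
  by_cases htop : I = ⊤
  · refine ⟨0, fun K _ _ hK => ?_⟩
    exfalso
    have h1 : (1 : Λ) ∈ RingHom.ker (algebraMap Λ K) := hK (htop ▸ Submodule.mem_top)
    rw [RingHom.mem_ker, map_one] at h1
    exact one_ne_zero h1
  by_cases hprime : Ideal.IsPrime I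
  · haveI := hprime
    set Λ' := Λ ⧸ I with hΛ'
    set v' := mapV Λ Λ' v with hv'
    obtain ⟨f', hf', -, hfree, -, -⟩ := exists_freeAway Λ' (MvPolynomial σ Λ')
      ((ι → MvPolynomial σ Λ') ⧸ WWP wt Λ' v')
    obtain ⟨f, rfl⟩ := Ideal.Quotient.mk_surjective f'
    set T := Localization.Away (Ideal.Quotient.mk I f) with hT
    haveI : IsNoetherianRing T :=
      IsLocalization.isNoetherianRing (Submonoid.powers (Ideal.Quotient.mk I f)) T inferInstance
    have hflT := flat_KKP_localizationAway wt Λ' v' (Ideal.Quotient.mk I f) hfree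
    obtain ⟨c₂, hc₂⟩ := exists_bound_of_flat wt T (mapV Λ' T v') hflT
    have hfI : f ∉ I := fun h => hf' (Ideal.Quotient.eq_zero_iff_mem.mpr h)
    have hJ : I < I ⊔ Ideal.span {f} := by
      refine lt_of_le_of_ne le_sup_left fun h => hfI ?_
      rw [h]
      exact Ideal.mem_sup_right (Ideal.subset_span rfl)
    obtain ⟨c₁, hc₁⟩ := ih _ hJ
    refine ⟨max c₁ c₂, fun K _ _ hK => ?_⟩
    by_cases hfK : algebraMap Λ K f = 0
    · refine (hc₁ K (sup_le hK ?_)).mono wt K _ (le_max_left _ _)
      rw [Ideal.span_le]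
      rintro _ rfl
      exact hfK
    · letI : Algebra Λ' K := (Ideal.Quotient.lift I (algebraMap Λ K) (fun a ha => hK ha)).toAlgebra
      haveI : IsScalarTower Λ Λ' K := IsScalarTower.of_algebraMap_eq (fun x => rfl)
      have hu : IsUnit (algebraMap Λ' K (Ideal.Quotient.mk I f)) := by
        rw [isUnit_iff_ne_zero]
        exact hfK
      letI : Algebra T K := (IsLocalization.Away.lift (Ideal.Quotient.mk I f) hu).toAlgebra
      haveI : IsScalarTower Λ' T K := IsScalarTower.of_algebraMap_eq
        (fun x => (IsLocalization.Away.lift_eq (Ideal.Quotient.mk I f) hu x).symm)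
      have h3 := hc₂ K
      rw [mapV_mapV Λ' T K, hv', mapV_mapV Λ Λ' K] at h3
      exact h3.mono wt K _ (le_max_right _ _)
  · -- not prime: split
    rw [Ideal.isPrime_iff] at hprime
    push Not at hprime
    obtain ⟨x, y, hxy, hx, hy⟩ := hprime htop
    have hJ₁ : I < I ⊔ Ideal.span {x} := by
      refine lt_of_le_of_ne le_sup_left fun h => hx ?_
      rw [h]
      exact Ideal.mem_sup_right (Ideal.subset_span rfl)
    have hJ₂ : I < I ⊔ Ideal.span {y} := by
      refine lt_of_le_of_ne le_sup_left fun h => hy ?_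
      rw [h]
      exact Ideal.mem_sup_right (Ideal.subset_span rfl)
    obtain ⟨c₁, hc₁⟩ := ih _ hJ₁
    obtain ⟨c₂, hc₂⟩ := ih _ hJ₂
    refine ⟨max c₁ c₂, fun K _ _ hK => ?_⟩
    have h0 : algebraMap Λ K (x * y) = 0 := hK hxy
    rw [map_mul, mul_eq_zero] at h0
    rcases h0 with h0 | h0
    · refine (hc₁ K (sup_le hK ?_)).mono wt K _ (le_max_left _ _)
      rw [Ideal.span_le]
      rintro _ rfl
      exact h0
    · refine (hc₂ K (sup_le hK ?_)).mono wt K _ (le_max_right _ _)
      rw [Ideal.span_le]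
      rintro _ rfl
      exact h0

end FB

end Groth.Agent.Lib.LeadNF
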