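import Mathlib
import Groth.Agent.Lib.LeadNFf

/-!
# The Noetherian-level Nakayama argument (lead)
-/

set_option autoImplicit false
set_option maxHeartbeats 400000
set_option linter.style.haveILetI false
set_option linter.unusedSectionVars false
set_option linter.unusedVariables false

universe u v w

noncomputable section

namespace Groth.Agent.Lib.LeadNF

open MvPolynomial TensorProduct

attribute [local instance] MvPolynomial.algebraMvPolynomial

section TorV

variable {T : Type*} [CommRing T] {F : Type*} [AddCommGroup F] [Module T F]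

/-- `U ∩ I F = I U` when `F ⧸ U` is flat. -/
theorem mem_smul_of_flat_quot (U : Submodule T F) [Module.Flat T (F ⧸ U)] (I : Ideal T) {x : F}
    (hxU : x ∈ U) (hxI : x ∈ I • (⊤ : Submodule T F)) : x ∈ I • U := by
  have hinj : Function.Injective (U.subtype.lTensor (T ⧸ I)) :=
    LinearMap.lTensor_injective_of_exact_of_flat U.mkQ (Submodule.mkQ_surjective U) U.subtype
      U.subtype_injective (LinearMap.exact_subtype_mkQ U) (T ⧸ I)
  have h1 : (U.subtype.lTensor (T ⧸ I)) ((1 : T ⧸ I) ⊗ₜ[T] (⟨x, hxU⟩ : U)) = 0 := by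
    rw [LinearMap.lTensor_tmul]
    apply (quotTensorEquivQuotSMul F I).injective
    rw [quotTensorEquivQuotSMul_mk_one_tmul, map_zero, Submodule.Quotient.mk_eq_zero]
    exact hxI
  have h2 : ((1 : T ⧸ I) ⊗ₜ[T] (⟨x, hxU⟩ : U)) = 0 := hinj (by rw [h1, map_zero])
  have h3 : (⟨x, hxU⟩ : U) ∈ I • (⊤ : Submodule T U) := by
    have := congrArg (quotTensorEquivQuotSMul U I) h2
    rw [quotTensorEquivQuotSMul_mk_one_tmul, map_zero, Submodule.Quotient.mk_eq_zero] at this
    exact this
  have h4 : (I • (⊤ : Submodule T U)).map U.subtype = I • U := by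
    rw [Submodule.map_smul'', Submodule.map_top, Submodule.range_subtype]
  rw [← h4]
  exact ⟨⟨x, hxU⟩, h3, rfl⟩

end TorV

section Coeff

variable {σ : Type*} {ι : Type*} [Fintype ι] [DecidableEq ι] (A : Type*) [CommRing A]

/-- A vector of polynomials with all coefficients in `p` lies in `p • ⊤`. -/
theorem mem_smul_top_of_coeff_mem (p : Ideal A) (h : ι → MvPolynomial σ A)
    (hh : ∀ i m, coeff m (h i) ∈ p) : h ∈ p • (⊤ : Submodule A (ι → MvPolynomial σ A)) := by
  have h1 : h = ∑ i, ∑ m ∈ (h i).support, (coeff m (h i)) • (Pi.single i (monomial m (1 : A)) :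
      ι → MvPolynomial σ A) := by
    funext j
    rw [Finset.sum_apply]
    simp only [Finset.sum_apply, Pi.smul_apply, Pi.single_apply]
    rw [Finset.sum_eq_single j]
    · conv_lhs => rw [← support_sum_monomial_coeff (h j)]
      refine Finset.sum_congr rfl fun m _ => ?_
      rw [if_pos rfl, smul_monomial, smul_eq_mul, mul_one]
    · intro i _ hij
      refine Finset.sum_eq_zero fun m _ => ?_
      rw [if_neg (Ne.symm hij), smul_zero]
    · intro hj
      exact absurd (Finset.mem_univ j) hj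
  rw [h1]
  exact Submodule.sum_mem _ fun i _ => Submodule.sum_mem _ fun m _ =>
    Submodule.smul_mem_smul (hh i m) Submodule.mem_top

end Coeff

section DC

variable {σ : Type*} {ι : Type*} [Fintype ι] (A : Type*) [CommRing A]

/-- Clearing denominators over the residue field of a prime. -/
theorem exists_smul_sub_mem (p : Ideal A) [p.IsPrime]
    (U : Submodule (MvPolynomial σ A) (ι → MvPolynomial σ A)) (x : ι → MvPolynomial σ A)
    (hx : FmT A (FractionRing (A ⧸ p)) x ∈ extP A (FractionRing (A ⧸ p)) U) :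
    ∃ s : A, s ∉ p ∧ ∃ u ∈ U, ∀ i m, coeff m ((s • x - u) i) ∈ p := by
  classical
  set K := FractionRing (A ⧸ p) with hK
  have hx' : FmT A K x ∈ (extP A K U).restrictScalars K := hx
  rw [extP_restrictScalars] at hx'
  obtain ⟨n, t, u, hu, hsum⟩ := (mem_ext_iff (FmT A K)).mp hx'
  obtain ⟨b, hb⟩ := IsLocalization.exist_integer_multiples (nonZeroDivisors (A ⧸ p))
    (Finset.univ : Finset (Fin n)) t
  have hb' : ∀ j, ∃ a : A, algebraMap A K a = algebraMap A K (Quotient.out (b : A ⧸ p)) * t j := by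
    intro j
    obtain ⟨abar, habar⟩ := hb j (Finset.mem_univ j)
    obtain ⟨a, rfl⟩ := Ideal.Quotient.mk_surjective abar
    refine ⟨a, ?_⟩
    rw [IsScalarTower.algebraMap_apply A (A ⧸ p) K, IsScalarTower.algebraMap_apply A (A ⧸ p) K]
    change algebraMap (A ⧸ p) K (Ideal.Quotient.mk p a) = _
    rw [habar, Algebra.smul_def]
    congr 2
    exact (Quotient.out_eq _).symm
  choose a ha using hb'
  set s : A := Quotient.out (b : A ⧸ p) with hs
  have hsb : Ideal.Quotient.mk p s = (b : A ⧸ p) := Quotient.out_eq _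
  have hsp : s ∉ p := by
    intro h
    have : (b : A ⧸ p) = 0 := by rw [← hsb]; exact Ideal.Quotient.eq_zero_iff_mem.mpr h
    exact nonZeroDivisors.ne_zero b.2 this
  refine ⟨s, hsp, ∑ j, a j • u j, ?_, ?_⟩
  · exact Submodule.sum_mem _ fun j _ => U.smul_of_tower_mem _ (hu j)
  · have h0 : FmT A K (s • x - ∑ j, a j • u j) = 0 := by
      rw [map_sub, map_smul, map_sum, hsum, Finset.smul_sum, ← Finset.sum_sub_distrib]
      refine Finset.sum_eq_zero fun j _ => ?_
      rw [map_smul, ← algebraMap_smul K s, ← algebraMap_smul K (a j), smul_smul, ha, sub_self]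
    intro i m
    have h1 := congrArg (fun y => coeff m (y i)) h0
    simp only [FmT_apply, coeff_map, Pi.zero_apply, coeff_zero] at h1
    rw [IsScalarTower.algebraMap_apply A (A ⧸ p) K] at h1
    have h2 := (IsFractionRing.injective (A ⧸ p) K) (h1.trans (map_zero _).symm)
    exact Ideal.Quotient.eq_zero_iff_mem.mp h2

end DC

section NL

theorem GrData.flat_quot_Z_of_flat {T : Type*} [CommRing T] {F : Type*} [AddCommGroup F]
    [Module T F] (G : GrData T F) (K : Submodule T F) (d : ℕ)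
    [Module.Flat T (F ⧸ G.KK K d)] [Module.Flat T (F ⧸ G.KK K (d + 1))] :
    Module.Flat T (F ⧸ G.Z K d) :=
  Groth.Agent.Lib.Helper1.Tor.flat_ker (G.alpha K d) (G.beta K d) (G.alpha_injective K d)
    (G.beta_surjective K d) (G.exact_alpha_beta K d)

variable {σ : Type} [Finite σ] {ι : Type} [Fintype ι] [DecidableEq ι] {κ κ' : Type*} (wt : σ → ℕ)
  (A : Type u) [CommRing A] [IsNoetherianRing A]
  (v : κ → ι → MvPolynomial σ A) (g : κ' → ι → MvPolynomial σ A) (k : ℕ)

/-- The fibrewise step: modulo `p`, an element of `WW` lies in `KV g + Fil (k+1)`. -/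
theorem exists_smul_mem_aux
    (hgW : ∀ j, g j ∈ WWP wt A v)
    (hfl : ∀ d ≤ k + 1, Module.Flat A ((ι → MvPolynomial σ A) ⧸ KKP wt A v d))
    (p : Ideal A) [p.IsPrime]
    (hfib : WWP wt (FractionRing (A ⧸ p)) (mapV A (FractionRing (A ⧸ p)) v) ≤
        KV (FractionRing (A ⧸ p)) (mapV A (FractionRing (A ⧸ p)) g))
    {y : ι → MvPolynomial σ A} (hy : y ∈ WWP wt A v) :
    ∃ s : A, s ∉ p ∧ ∃ ω ∈ KV A g, ∃ z ∈ p • (WWP wt A v).restrictScalars A,
      ∃ φ ∈ FilP wt A (k + 1), s • y = ω + z + φ := by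
  classical
  set K := FractionRing (A ⧸ p) with hK
  have h1 : FmT A K y ∈ extP A K (KV A g) := by
    rw [extP_KV]
    exact hfib (FmT_mem_WWP wt A K v hy)
  obtain ⟨s, hsp, ω, hω, hcoef⟩ := exists_smul_sub_mem A p (KV A g) y h1
  have hKVW : KV A g ≤ WWP wt A v := by
    rw [KV, Submodule.span_le]
    rintro _ ⟨j, rfl⟩
    exact hgW j
  set z₀ := s • y - ω with hz₀
  have hz₀W : z₀ ∈ WWP wt A v :=
    Submodule.sub_mem _ ((WWP wt A v).smul_of_tower_mem s hy) (hKVW hω)
  set G := polyGr (ι := ι) wt A with hG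
  set Kr := (KV A v).restrictScalars A with hKr
  have hz₀W' : z₀ ∈ G.WW Kr := by
    rw [← WWP_restrictScalars]
    exact hz₀W
  -- components of `z₀` in degrees `≤ k`
  have hcomp : ∀ d < k + 1, cmp wt A d z₀ ∈ p • (WWP wt A v).restrictScalars A := by
    intro d hd
    haveI : Module.Flat A ((ι → MvPolynomial σ A) ⧸ G.KK Kr d) := by
      rw [← KKP_restrictScalars, flat_restrictScalars_iff]
      exact hfl d (by omega)
    haveI : Module.Flat A ((ι → MvPolynomial σ A) ⧸ G.KK Kr (d + 1)) := by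
      rw [← KKP_restrictScalars, flat_restrictScalars_iff]
      exact hfl (d + 1) (by omega)
    haveI := G.flat_quot_Z_of_flat Kr d
    have hZ : cmp wt A d z₀ ∈ G.Z Kr d := G.WW_le_Z Kr d (G.c_mem_WW Kr hz₀W')
    have hI : cmp wt A d z₀ ∈ p • (⊤ : Submodule A (ι → MvPolynomial σ A)) := by
      apply mem_smul_top_of_coeff_mem
      intro i m
      rw [cmp_apply, coeff_weightedHomogeneousComponent]
      split_ifs
      · exact hcoef i m
      · exact p.zero_mem
    have h2 := mem_smul_of_flat_quot (G.Z Kr d) p hZ hI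
    have h3 : cmp wt A d (cmp wt A d z₀) ∈ (p • G.Z Kr d).map (G.c d) :=
      ⟨_, h2, rfl⟩
    rw [cmp_cmp_self, Submodule.map_smul''] at h3
    refine (Submodule.smul_mono (le_refl p) ?_) h3
    rintro _ ⟨ζ, hζ, rfl⟩
    rw [WWP_restrictScalars]
    exact G.c_mem_WW_of_mem_Z Kr hζ
  refine ⟨s, hsp, ω, hω, ∑ d ∈ Finset.range (k + 1), cmp wt A d z₀, ?_,
    z₀ - ∑ d ∈ Finset.range (k + 1), cmp wt A d z₀, ?_, ?_⟩
  · exact Submodule.sum_mem _ fun d hd => hcomp d (Finset.mem_range.mp hd)
  · have := G.sub_sum_c_mem_Fil (k + 1) z₀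
    rw [← FilP_restrictScalars] at this
    exact this
  · rw [hz₀]
    abel

/-- **Noetherian-level Nakayama**: if fibrewise `WW` is generated by `g`, then
`WW ≤ KV g + Fil (k+1)`, given flatness up to degree `k+1`. -/
theorem WWP_le_KV_sup_FilP
    (hgW : ∀ j, g j ∈ WWP wt A v)
    (hfl : ∀ d ≤ k + 1, Module.Flat A ((ι → MvPolynomial σ A) ⧸ KKP wt A v d))
    (hfib : ∀ (p : Ideal A) [p.IsPrime],
      WWP wt (FractionRing (A ⧸ p)) (mapV A (FractionRing (A ⧸ p)) v) ≤
        KV (FractionRing (A ⧸ p)) (mapV A (FractionRing (A ⧸ p)) g)) :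
    WWP wt A v ≤ KV A g ⊔ FilP wt A (k + 1) := by
  classical
  set S := KV A g ⊔ FilP wt A (k + 1) with hS
  set N : Submodule (MvPolynomial σ A) ((ι → MvPolynomial σ A) ⧸ S) :=
    (WWP wt A v).map S.mkQ with hN
  have hNfg : N.FG := IsNoetherian.noetherian N
  suffices hN0 : N = ⊥ by
    intro y hy
    have h1 : S.mkQ y ∈ N := ⟨y, hy, rfl⟩
    rw [hN0, Submodule.mem_bot, Submodule.mkQ_apply, Submodule.Quotient.mk_eq_zero] at h1
    exact h1
  by_contra hne
  have hann : N.annihilator ≠ ⊤ := by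
    intro h
    exact hne (Submodule.annihilator_eq_top_iff.mp h)
  obtain ⟨𝔐, h𝔐, hle⟩ := Ideal.exists_le_maximal _ hann
  haveI := h𝔐.isPrime
  set p : Ideal A := 𝔐.comap (C : A →+* MvPolynomial σ A) with hp
  haveI : p.IsPrime := Ideal.comap_isPrime _ _
  have key : N ≤ 𝔐 • N := by
    rintro _ ⟨y, hy, rfl⟩
    obtain ⟨s, hsp, ω, hω, z, hz, φ, hφ, hsum⟩ :=
      exists_smul_mem_aux wt A v g k hgW hfl p (hfib p) hy
    -- `C s • n ∈ 𝔐 • N`
    have h1 : (C s : MvPolynomial σ A) • S.mkQ y ∈ 𝔐 • N := by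
      have e1 : (C s : MvPolynomial σ A) • S.mkQ y = S.mkQ (s • y) := by
        rw [LinearMap.map_smul_of_tower, ← algebraMap_smul (MvPolynomial σ A) s (S.mkQ y)]
        rfl
      rw [e1, hsum, map_add, map_add]
      have hω0 : S.mkQ ω = 0 := by
        rw [Submodule.mkQ_apply, Submodule.Quotient.mk_eq_zero]
        exact Submodule.mem_sup_left hω
      have hφ0 : S.mkQ φ = 0 := by
        rw [Submodule.mkQ_apply, Submodule.Quotient.mk_eq_zero]
        exact Submodule.mem_sup_right hφ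
      rw [hω0, hφ0, zero_add, add_zero]
      -- `z ∈ p • WW` maps into `𝔐 • N`
      have hY : p • (WWP wt A v).restrictScalars A ≤
          ((𝔐 • N).restrictScalars A).comap (S.mkQ.restrictScalars A) := by
        rw [Submodule.smul_le]
        intro a ha w hw
        rw [Submodule.mem_comap, LinearMap.coe_restrictScalars, Submodule.restrictScalars_mem,
          LinearMap.map_smul_of_tower, ← algebraMap_smul (MvPolynomial σ A) a (S.mkQ w)]
        exact Submodule.smul_mem_smul ha ⟨w, hw, rfl⟩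
      exact hY hz
    have hCs : (C s : MvPolynomial σ A) ∉ 𝔐 := hsp
    obtain ⟨a', i, hi, hai⟩ := h𝔐.exists_inv hCs
    have e2 : S.mkQ y = a' • ((C s : MvPolynomial σ A) • S.mkQ y) + i • S.mkQ y := by
      rw [smul_smul, ← add_smul, hai, one_smul]
    rw [e2]
    exact Submodule.add_mem _ (Submodule.smul_mem _ _ h1)
      (Submodule.smul_mem_smul hi ⟨y, hy, rfl⟩)
  obtain ⟨r, hr1, hr2⟩ :=
    Submodule.exists_sub_one_mem_and_smul_eq_zero_of_fg_of_le_smul 𝔐 N hNfg key
  have hrann : r ∈ N.annihilator := Submodule.mem_annihilator.mpr hr2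
  have h1 : (1 : MvPolynomial σ A) ∈ 𝔐 := by
    have := 𝔐.sub_mem (hle hrann) hr1
    simpa using this
  exact h𝔐.ne_top ((Ideal.eq_top_iff_one _).mpr h1)

end NL

end Groth.Agent.Lib.LeadNF
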