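import Mathlib
import Groth.Agent.Lib.LeadNFg

/-!
# Descent of normal flatness to a finitely generated subalgebra (lead): layer 1
-/

set_option autoImplicit false
set_option maxHeartbeats 400000
set_option linter.style.haveILetI false
set_option linter.unusedSectionVars false
set_option linter.unusedVariables false

universe u v w

noncomputable section

namespace Groth.Agent.Lib.LeadNF

open MvPolynomial Groth.Agent.Lib.Helper3.FlatDesc Groth.Agent.Lib.Helper3.FlatOpen

attribute [local instance] MvPolynomial.algebraMvPolynomial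

section MD

variable {σ : Type} [Finite σ] {ι : Type} [Fintype ι] [DecidableEq ι] {κ : Type*} (wt : σ → ℕ)
  (Λ : Type u) [CommRing Λ] [IsNoetherianRing Λ] (v : κ → ι → MvPolynomial σ Λ)

/-- `KK j` as a `KT`-model, uniformly in the base. -/
theorem exists_KT_eq_KKP (j : ℕ) :
    ∃ (m : ℕ) (w : Fin m → ι → MvPolynomial σ Λ), ∀ (T : Type u) [CommRing T] [Algebra Λ T],
      KT w (MvPolynomial σ T) = KKP wt T (mapV Λ T v) j := by
  obtain ⟨m, w, hw⟩ := Submodule.fg_iff_exists_fin_generating_family.mp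
    (IsNoetherian.noetherian (KKP wt Λ v j))
  refine ⟨m, w, fun T _ _ => ?_⟩
  rw [KT_eq_KV, ← extP_KV, KV, hw, extP_KKP]

/-- A vector with coefficients in a subalgebra descends. -/
theorem exists_FmT_eq {R : Type u} [CommRing R] [Algebra Λ R] (A : Subalgebra Λ R)
    (x : ι → MvPolynomial σ R) (hx : ∀ i, ((x i).coeffs : Set R) ⊆ A) :
    ∃ xA : ι → MvPolynomial σ A, FmT A R xA = x := by
  have h1 : ∀ i, ∃ f : MvPolynomial σ A, MvPolynomial.map (algebraMap A R) f = x i := by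
    intro i
    apply MvPolynomial.mem_range_map_iff_coeffs_subset.mpr
    intro c hc
    exact ⟨⟨c, hx i hc⟩, rfl⟩
  choose xA hxA using h1
  refine ⟨xA, ?_⟩
  funext i
  rw [FmT_apply, hxA]

variable (R : Type u) [CommRing R] [Algebra Λ R]

/-- Simultaneous descent of flatness of `F/KK j`, `j ≤ n`. -/
theorem exists_fg_subalgebra_flat_KKP (n : ℕ)
    (hR : ∀ j ≤ n, Module.Flat R ((ι → MvPolynomial σ R) ⧸ KKP wt R (mapV Λ R v) j))
    (extra : Finset R) :
    ∃ A : Subalgebra Λ R, A.FG ∧ (extra : Set R) ⊆ A ∧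
      ∀ j ≤ n, Module.Flat A ((ι → MvPolynomial σ A) ⧸ KKP wt A (mapV Λ A v) j) := by
  classical
  induction n generalizing extra with
  | zero =>
    refine ⟨Algebra.adjoin Λ (extra : Set R), Subalgebra.fg_adjoin_finset extra,
      Algebra.subset_adjoin, fun j hj => ?_⟩
    obtain rfl : j = 0 := Nat.le_zero.mp hj
    have htop : KKP wt (Algebra.adjoin Λ (extra : Set R))
        (mapV Λ (Algebra.adjoin Λ (extra : Set R)) v) 0 = ⊤ := by
      rw [eq_top_iff]
      intro h _
      apply Submodule.mem_sup_right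
      intro i m _
      exact Nat.zero_le _
    haveI : Subsingleton ((ι → MvPolynomial σ (Algebra.adjoin Λ (extra : Set R))) ⧸
        KKP wt (Algebra.adjoin Λ (extra : Set R))
          (mapV Λ (Algebra.adjoin Λ (extra : Set R)) v) 0) :=
      Submodule.Quotient.subsingleton_iff.mpr htop
    infer_instance
  | succ n ih =>
    obtain ⟨A₀, hA₀fg, hA₀ex, hA₀⟩ := ih (fun j hj => hR j (Nat.le_succ_of_le hj)) extra
    obtain ⟨S₀, hS₀⟩ := hA₀fg
    obtain ⟨m, w, hw⟩ := exists_KT_eq_KKP wt Λ v (n + 1)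
    have hflR : Module.Flat R ((ι → MvPolynomial σ R) ⧸ KT w (MvPolynomial σ R)) := by
      rw [hw R]
      exact hR (n + 1) le_rfl
    obtain ⟨A, hAfg, hAex, hAfl⟩ := exists_fg_subalgebra_flat_global w hflR (extra ∪ S₀)
    have hle : A₀ ≤ A := by
      rw [← hS₀]
      apply Algebra.adjoin_le
      intro x hx
      exact hAex (by simp [hx])
    refine ⟨A, hAfg, fun x hx => hAex (by simp [hx]), fun j hj => ?_⟩
    rcases Nat.lt_or_ge j (n + 1) with hlt | hge
    · obtain ⟨m', w', hw'⟩ := exists_KT_eq_KKP wt Λ v j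
      have h0 : Module.Flat A₀ ((ι → MvPolynomial σ A₀) ⧸ KT w' (MvPolynomial σ A₀)) := by
        rw [hw' A₀]
        exact hA₀ j (by omega)
      have h1 := flat_model_of_algHom w' (Subalgebra.inclusion hle) h0
      rw [hw' A] at h1
      exact h1
    · obtain rfl : j = n + 1 := le_antisymm hj hge
      rw [hw A] at hAfl
      exact hAfl

end MD

section L1

variable {σ : Type} [Finite σ] {ι : Type} [Fintype ι] [DecidableEq ι] {κ : Type*} (wt : σ → ℕ)
  (Λ : Type u) [CommRing Λ] [IsNoetherianRing Λ] (v : κ → ι → MvPolynomial σ Λ)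

/-- If `WW` over `K` is generated in degrees `≤ c` and the low-degree part over `Λ` is flat,
then `WW` over `K` is generated by the images of generators of the low-degree part over `Λ`. -/
theorem WWP_le_KV_of_genLE (c : ℕ) {r : ℕ} (g : Fin r → ι → MvPolynomial σ Λ)
    (hg : Submodule.span (MvPolynomial σ Λ) (lowSet wt Λ v c) ≤ KV Λ g)
    (hΛ : ∀ d ≤ c, Module.Flat Λ ((ι → MvPolynomial σ Λ) ⧸ KKP wt Λ v d))
    (K : Type u) [CommRing K] [Algebra Λ K] (hK : GenLE wt K (mapV Λ K v) c) :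
    WWP wt K (mapV Λ K v) ≤ KV K (mapV Λ K g) := by
  refine le_trans hK (Submodule.span_le.mpr ?_)
  rintro h' ⟨hW, d, hd, hhd⟩
  set G := polyGr (ι := ι) wt Λ with hG
  set G' := polyGr (ι := ι) wt K with hG'
  set Kr := (KV Λ v).restrictScalars Λ with hKr
  haveI : Module.Flat Λ ((ι → MvPolynomial σ Λ) ⧸ G.KK Kr d) := by
    rw [← KKP_restrictScalars, flat_restrictScalars_iff]
    exact hΛ d hd
  have hZ := ext_Z_of_flat G G' (FmT Λ K) (fun d h => FmT_cmp wt Λ K d h)
    (isBaseChange_FmT Λ K) Kr d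
  have h1 : h' ∈ G'.WW ((KV K (mapV Λ K v)).restrictScalars K) := by
    rw [← WWP_restrictScalars]
    exact hW
  rw [← ext_KV] at h1
  have h2 : h' ∈ G'.Z (ext K (FmT Λ K) Kr) d := G'.WW_le_Z _ d h1
  rw [hZ] at h2
  obtain ⟨n, t, z, hz, hsum⟩ := (mem_ext_iff (FmT Λ K)).mp h2
  have h3 : h' = ∑ i, t i • FmT Λ K (cmp wt Λ d (z i)) := by
    conv_lhs => rw [← hhd, hsum, map_sum]
    refine Finset.sum_congr rfl fun i _ => ?_
    rw [map_smul, FmT_cmp]
  change h' ∈ KV K (mapV Λ K g)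
  rw [h3, ← extP_KV]
  refine Submodule.sum_mem _ fun i _ => Submodule.smul_of_tower_mem _ _ (FmT_mem_extP Λ K (hg ?_))
  refine Submodule.subset_span ⟨?_, d, hd, cmp_cmp_self wt Λ d _⟩
  have h4 := G.c_mem_WW_of_mem_Z Kr (hz i)
  rw [← WWP_restrictScalars] at h4
  exact h4

variable (R : Type u) [CommRing R] [Algebra Λ R]

/-- **Finite presentation of the associated graded module** (top level). -/
theorem WWP_le_KV_top (c : ℕ) {r : ℕ} (g : Fin r → ι → MvPolynomial σ Λ)
    (hgl : ∀ j, g j ∈ lowSet wt Λ v c)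
    (hg : Submodule.span (MvPolynomial σ Λ) (lowSet wt Λ v c) ≤ KV Λ g)
    (hc : ∀ (K : Type u) [Field K] [Algebra Λ K], GenLE wt K (mapV Λ K v) c)
    (hΛ : ∀ d ≤ c, Module.Flat Λ ((ι → MvPolynomial σ Λ) ⧸ KKP wt Λ v d))
    (hR : ∀ k, Module.Flat R ((ι → MvPolynomial σ R) ⧸ KKP wt R (mapV Λ R v) k)) :
    WWP wt R (mapV Λ R v) ≤ KV R (mapV Λ R g) := by
  classical
  intro h hh
  rw [← sum_cmp wt R h]
  refine Submodule.sum_mem _ fun k _ => ?_
  set x := cmp wt R k h with hx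
  have hxW : x ∈ WWP wt R (mapV Λ R v) := cmp_mem_WWP wt R _ hh k
  have hxk : cmp wt R k x = x := cmp_cmp_self wt R k h
  -- descend to a finitely generated subalgebra
  obtain ⟨A, hAfg, hAex, hAfl⟩ := exists_fg_subalgebra_flat_KKP wt Λ v R (k + 1)
    (fun j _ => hR j) (Finset.univ.biUnion fun i => (x i).coeffs)
  haveI : Algebra.FiniteType Λ A := (Subalgebra.fg_iff_finiteType A).mp hAfg
  haveI : IsNoetherianRing A := Algebra.FiniteType.isNoetherianRing Λ A
  obtain ⟨xA, hxA⟩ := exists_FmT_eq Λ A x (fun i c hc => hAex (by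
    rw [Finset.coe_biUnion]
    exact Set.mem_iUnion₂.mpr ⟨i, Finset.mem_coe.mpr (Finset.mem_univ i), hc⟩))
  set y := cmp wt A k xA with hy
  have hyx : FmT A R y = x := by rw [hy, FmT_cmp, hxA, hxk]
  have hyk : cmp wt A k y = y := cmp_cmp_self wt A k xA
  have hmap : mapV A R (mapV Λ A v) = mapV Λ R v := mapV_mapV Λ A R v
  have hmapg : mapV A R (mapV Λ A g) = mapV Λ R g := mapV_mapV Λ A R g
  -- `y ∈ WW` over `A`
  have hyKK : y ∈ KKP wt A (mapV Λ A v) (k + 1) := by
    haveI := hAfl (k + 1) le_rfl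
    apply mem_of_FmT_mem_extP A R (KKP wt A (mapV Λ A v) (k + 1)) Subtype.val_injective
    rw [extP_KKP, hmap, hyx, ← hxk]
    exact (mem_WWP wt R _).mp hxW k
  have hyW : y ∈ WWP wt A (mapV Λ A v) := by
    rw [mem_WWP]
    intro e
    by_cases hek : e = k
    · subst hek
      rw [hyk]
      exact hyKK
    · rw [hy, cmp_cmp_ne wt A hek]
      exact Submodule.zero_mem _
  -- the Noetherian-level Nakayama argument
  have hNL := WWP_le_KV_sup_FilP wt A (mapV Λ A v) (mapV Λ A g) k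
    (fun j => FmT_mem_WWP wt Λ A v (hgl j).1) hAfl (by
      intro p _
      rw [mapV_mapV Λ A (FractionRing (A ⧸ p)) v, mapV_mapV Λ A (FractionRing (A ⧸ p)) g]
      exact WWP_le_KV_of_genLE wt Λ v c g hg hΛ (FractionRing (A ⧸ p))
        (hc (FractionRing (A ⧸ p))))
  obtain ⟨ω, hω, φ, hφ, hsum⟩ := Submodule.mem_sup.mp (hNL hyW)
  -- back to `R`
  have hφR : cmp wt R k (FmT A R φ) = 0 := by
    rw [← FmT_cmp]
    have : cmp wt A k φ = 0 := by
      have h1 : φ ∈ (FilP wt A (k + 1)).restrictScalars A := hφ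
      rw [FilP_restrictScalars] at h1
      exact h1 k (Nat.lt_succ_self k)
    rw [this, map_zero]
  have hωR : FmT A R ω ∈ KV R (mapV Λ R g) := by
    rw [← hmapg, ← extP_KV]
    exact FmT_mem_extP A R hω
  have hx2 : x = cmp wt R k (FmT A R ω) := by
    rw [← hxk, ← hyx, ← hsum, map_add, map_add, hφR, add_zero]
  rw [hx2]
  refine cmp_mem_span_of_homogeneous wt R (Set.range (mapV Λ R g)) ?_ hωR k
  rintro _ ⟨j, rfl⟩
  obtain ⟨-, d, -, hd⟩ := hgl j
  refine ⟨d, ?_⟩
  change cmp wt R d (FmT Λ R (g j)) = FmT Λ R (g j)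
  rw [← FmT_cmp, hd]

/-- **Layer 1**: descent of normal flatness, when the base `Λ` is already flat in low degrees. -/
theorem exists_fg_subalgebra_allFlat_of_base (c : ℕ)
    (hc : ∀ (K : Type u) [Field K] [Algebra Λ K], GenLE wt K (mapV Λ K v) c)
    (hΛ : ∀ d ≤ c, Module.Flat Λ ((ι → MvPolynomial σ Λ) ⧸ KKP wt Λ v d))
    (hR : ∀ k, Module.Flat R ((ι → MvPolynomial σ R) ⧸ KKP wt R (mapV Λ R v) k))
    (extra : Finset R) :
    ∃ A : Subalgebra Λ R, A.FG ∧ (extra : Set R) ⊆ A ∧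
      ∀ k, Module.Flat A ((ι → MvPolynomial σ A) ⧸ KKP wt A (mapV Λ A v) k) := by
  classical
  -- finitely many generators of the low-degree part over `Λ`
  obtain ⟨S, hSsub, hSspan⟩ := (Submodule.fg_span_iff_fg_span_finset_subset
    (lowSet wt Λ v c)).mp (IsNoetherian.noetherian
      (Submodule.span (MvPolynomial σ Λ) (lowSet wt Λ v c)))
  let g : Fin S.card → ι → MvPolynomial σ Λ := fun j => (S.equivFin.symm j : ι → MvPolynomial σ Λ)
  have hgS : Set.range g = (S : Set (ι → MvPolynomial σ Λ)) := by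
    ext x
    constructor
    · rintro ⟨j, rfl⟩
      exact (S.equivFin.symm j).2
    · intro hx
      exact ⟨S.equivFin ⟨x, hx⟩, by simp [g]⟩
  have hgl : ∀ j, g j ∈ lowSet wt Λ v c := fun j => hSsub (S.equivFin.symm j).2
  have hg : Submodule.span (MvPolynomial σ Λ) (lowSet wt Λ v c) ≤ KV Λ g := by
    rw [hSspan, KV, hgS]
  -- finite presentation at the top
  have hWR : WWP wt R (mapV Λ R v) = KV R (mapV Λ R g) := by
    apply le_antisymm (WWP_le_KV_top wt Λ v R c g hgl hg hc hΛ hR)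
    rw [KV, Submodule.span_le]
    rintro _ ⟨j, rfl⟩
    exact FmT_mem_WWP wt Λ R v (hgl j).1
  have hflR : Module.Flat R ((ι → MvPolynomial σ R) ⧸ KT g (MvPolynomial σ R)) := by
    rw [KT_eq_KV, ← hWR]
    exact (flat_KKP_iff_WWP wt R _).mp hR
  obtain ⟨A, hAfg, hAex, hAfl⟩ := exists_fg_subalgebra_flat_global g hflR extra
  refine ⟨A, hAfg, hAex, ?_⟩
  rw [KT_eq_KV] at hAfl
  haveI := hAfl
  have hWA : WWP wt A (mapV Λ A v) = KV A (mapV Λ A g) := by
    apply le_antisymm
    · intro h hh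
      apply mem_of_FmT_mem_extP A R (KV A (mapV Λ A g)) Subtype.val_injective
      rw [extP_KV, mapV_mapV Λ A R g, ← hWR, ← mapV_mapV Λ A R v]
      exact FmT_mem_WWP wt A R _ hh
    · rw [KV, Submodule.span_le]
      rintro _ ⟨j, rfl⟩
      exact FmT_mem_WWP wt Λ A v (hgl j).1
  rw [flat_KKP_iff_WWP, hWA]
  exact hAfl

end L1

end Groth.Agent.Lib.LeadNF
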