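import Mathlib
import Groth.Agent.Lib.LeadNFh

/-!
# Descent of normal flatness: general Noetherian base (lead)
-/

set_option autoImplicit false
set_option maxHeartbeats 400000
set_option linter.style.haveILetI false
set_option linter.unusedSectionVars false
set_option linter.unusedVariables false

universe u v w

noncomputable section

namespace Groth.Agent.Lib.LeadNF

open MvPolynomial Groth.Agent.Lib.Helper3.FlatDesc Groth.Agent.Lib.Helper3.FlatOpen

attribute [local instance] MvPolynomial.algebraMvPolynomial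

section L2

variable {σ : Type} [Finite σ] {ι : Type} [Fintype ι] [DecidableEq ι] {κ : Type} [Fintype κ]
  (wt : σ → ℕ)
  (Λ : Type u) [CommRing Λ] [IsNoetherianRing Λ] (v : κ → ι → MvPolynomial σ Λ)
  (R : Type u) [CommRing R] [Algebra Λ R]

/-- **Descent of normal flatness** to a finitely generated algebra over a Noetherian base. -/
theorem exists_fg_allFlat
    (hR : ∀ k, Module.Flat R ((ι → MvPolynomial σ R) ⧸ KKP wt R (mapV Λ R v) k))
    (extra : Finset R) :
    ∃ (A : Type u) (_ : CommRing A) (_ : Algebra Λ A) (_ : Algebra A R)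
      (_ : IsScalarTower Λ A R), Algebra.FiniteType Λ A ∧
      Function.Injective (algebraMap A R) ∧ (extra : Set R) ⊆ Set.range (algebraMap A R) ∧
      ∀ k, Module.Flat A ((ι → MvPolynomial σ A) ⧸ KKP wt A (mapV Λ A v) k) := by
  classical
  obtain ⟨c, hc⟩ := exists_fibre_bound wt Λ v
  obtain ⟨A₁, hA₁fg, hA₁ex, hA₁fl⟩ :=
    exists_fg_subalgebra_flat_KKP wt Λ v R c (fun j _ => hR j) extra
  haveI : Algebra.FiniteType Λ A₁ := (Subalgebra.fg_iff_finiteType A₁).mp hA₁fg
  haveI : IsNoetherianRing A₁ := Algebra.FiniteType.isNoetherianRing Λ A₁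
  have hc' : ∀ (K : Type u) [Field K] [Algebra A₁ K],
      GenLE wt K (mapV A₁ K (mapV Λ A₁ v)) c := by
    intro K _ _
    letI : Algebra Λ K := ((algebraMap A₁ K).comp (algebraMap Λ A₁)).toAlgebra
    haveI : IsScalarTower Λ A₁ K := IsScalarTower.of_algebraMap_eq (fun _ => rfl)
    rw [mapV_mapV Λ A₁ K v]
    exact hc K
  have hR' : ∀ k, Module.Flat R
      ((ι → MvPolynomial σ R) ⧸ KKP wt R (mapV A₁ R (mapV Λ A₁ v)) k) := by
    intro k
    rw [mapV_mapV Λ A₁ R v]
    exact hR k
  obtain ⟨A₂, hA₂fg, hA₂ex, hA₂fl⟩ :=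
    exists_fg_subalgebra_allFlat_of_base wt A₁ (mapV Λ A₁ v) R c hc' hA₁fl hR' extra
  haveI : Algebra.FiniteType A₁ A₂ := (Subalgebra.fg_iff_finiteType A₂).mp hA₂fg
  letI iΛ : Algebra Λ A₂ := ((algebraMap A₁ A₂).comp (algebraMap Λ A₁)).toAlgebra
  haveI t1 : IsScalarTower Λ A₁ A₂ := IsScalarTower.of_algebraMap_eq (fun _ => rfl)
  haveI t2 : IsScalarTower Λ A₂ R := IsScalarTower.of_algebraMap_eq (fun x => by
    change algebraMap Λ R x = algebraMap A₁ R (algebraMap Λ A₁ x)
    rw [← IsScalarTower.algebraMap_apply Λ A₁ R])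
  refine ⟨A₂, inferInstance, iΛ, inferInstance, t2, Algebra.FiniteType.trans (S := A₁)
    inferInstance inferInstance, Subtype.val_injective, ?_, ?_⟩
  · intro x hx
    exact ⟨⟨x, hA₂ex hx⟩, rfl⟩
  · intro k
    rw [← mapV_mapV Λ A₁ A₂ v]
    exact hA₂fl k

end L2

end Groth.Agent.Lib.LeadNF
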