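import Mathlib
import Groth.Agent.Lib.LeadNFi
import Groth.Agent.Lib.Helper15GrFlat

/-!
# Normal flatness: powers of the ideal of weight-one variables, the Noetherian step (lead)
-/

set_option autoImplicit false
set_option maxHeartbeats 400000
set_option linter.style.haveILetI false
set_option linter.unusedSectionVars false
set_option linter.unusedVariables false

universe u v w

noncomputable section

namespace Groth.Agent.Lib.LeadNF

open MvPolynomial TensorProduct Groth.Agent.Lib.Helper3.FlatDesc Groth.Agent.Lib.Helper3.FlatOpen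
  Groth.Agent.Lib.Helper3.FlatLoc

section Pow

variable {σ : Type*} (wt : σ → ℕ) (T : Type*) [CommRing T]

/-- The ideal generated by the variables of weight one. -/
def II : Ideal (MvPolynomial σ T) :=
  Ideal.span ((fun s => (X s : MvPolynomial σ T)) '' {s | wt s = 1})

theorem X_mem_II {s : σ} (hs : wt s = 1) : (X s : MvPolynomial σ T) ∈ II wt T :=
  Ideal.subset_span ⟨s, hs, rfl⟩

theorem filI_mul_le (a b : ℕ) : filI wt T a * filI wt T b ≤ filI wt T (a + b) := by
  classical
  rw [Ideal.mul_le]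
  intro p hp q hq m hm
  obtain ⟨m₁, hm₁, m₂, hm₂, rfl⟩ := Finset.mem_add.mp (support_mul p q hm)
  rw [map_add]
  exact Nat.add_le_add (hp m₁ hm₁) (hq m₂ hm₂)

theorem filI_zero : filI wt T 0 = ⊤ := by
  rw [eq_top_iff]
  intro p _ m _
  exact Nat.zero_le _

theorem II_le_filI : II wt T ≤ filI wt T 1 := by
  classical
  rw [II, Ideal.span_le]
  rintro _ ⟨s, hs, rfl⟩
  intro m hm
  have h1 : m ∈ ({Finsupp.single s 1} : Finset (σ →₀ ℕ)) := support_monomial_subset hm
  rw [Finset.mem_singleton] at h1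
  rw [h1, Finsupp.weight_single, one_smul]
  exact le_of_eq (show wt s = 1 from hs).symm

theorem II_pow_le_filI (k : ℕ) : II wt T ^ k ≤ filI wt T k := by
  induction k with
  | zero => rw [filI_zero]; exact le_top
  | succ k ih =>
    rw [pow_succ]
    exact le_trans (Ideal.mul_mono ih (II_le_filI wt T)) (filI_mul_le wt T k 1)

theorem monomial_mem_II_pow (hwt : ∀ s, wt s ≤ 1) (k : ℕ) :
    ∀ (m : σ →₀ ℕ) (c : T), k ≤ Finsupp.weight wt m → monomial m c ∈ II wt T ^ k := by
  classical
  induction k with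
  | zero =>
    intro m c _
    rw [pow_zero, Ideal.one_eq_top]
    exact Submodule.mem_top
  | succ k ih =>
    intro m c hm
    have hex : ∃ s ∈ m.support, wt s = 1 := by
      by_contra hcon
      push Not at hcon
      have h0 : Finsupp.weight wt m = 0 := by
        rw [Finsupp.weight_apply, Finsupp.sum]
        refine Finset.sum_eq_zero fun s hs => ?_
        have h1 := hcon s hs
        have h2 := hwt s
        have h3 : wt s = 0 := by omega
        rw [h3, smul_zero]
      omega
    obtain ⟨s, hs, hws⟩ := hex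
    have hm1 : m = (m - Finsupp.single s 1) + Finsupp.single s 1 := by
      ext a
      by_cases ha : a = s
      · subst ha
        have : 1 ≤ m a := Nat.one_le_iff_ne_zero.mpr (Finsupp.mem_support_iff.mp hs)
        simp only [Finsupp.coe_add, Finsupp.coe_tsub, Pi.add_apply, Pi.sub_apply,
          Finsupp.single_eq_same]
        omega
      · simp [ha]
    have hw : Finsupp.weight wt m = Finsupp.weight wt (m - Finsupp.single s 1) + wt s := by
      conv_lhs => rw [hm1]
      rw [map_add, Finsupp.weight_single, one_smul]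
    have h1 : monomial (m - Finsupp.single s 1) c ∈ II wt T ^ k := ih _ c (by omega)
    have h2 : monomial m c = monomial (m - Finsupp.single s 1) c * X s := by
      conv_lhs => rw [hm1]
      rw [monomial_add_single, pow_one]
    rw [h2, pow_succ]
    exact Ideal.mul_mem_mul h1 (X_mem_II wt T hws)

theorem filI_eq_II_pow (hwt : ∀ s, wt s ≤ 1) (k : ℕ) : filI wt T k = II wt T ^ k := by
  apply le_antisymm
  · intro p hp
    rw [← support_sum_monomial_coeff p]
    exact Ideal.sum_mem _ fun m hm => monomial_mem_II_pow wt T hwt k m _ (hp m hm)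
  · exact II_pow_le_filI wt T k

end Pow

section Free

variable {σ : Type*} {ι : Type*} [Fintype ι] [DecidableEq ι] (wt : σ → ℕ) (T : Type*) [CommRing T]

theorem II_pow_smul_top (hwt : ∀ s, wt s ≤ 1) (k : ℕ) :
    (II wt T ^ k • ⊤ : Submodule (MvPolynomial σ T) (ι → MvPolynomial σ T)) = FilP wt T k := by
  ext h
  rw [mem_smul_top_pi_iff, mem_FilP, filI_eq_II_pow wt T hwt]

variable {κ : Type*} (v : κ → ι → MvPolynomial σ T)

section Quot

variable {M : Type*} [AddCommGroup M] [Module (MvPolynomial σ T) M]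

/-- The surjection `F → M → M / I^k M`. -/
def quotG (e : ((ι → MvPolynomial σ T) ⧸ KV T v) ≃ₗ[MvPolynomial σ T] M) (k : ℕ) :
    (ι → MvPolynomial σ T) →ₗ[MvPolynomial σ T]
      (M ⧸ (II wt T ^ k • ⊤ : Submodule (MvPolynomial σ T) M)) :=
  (II wt T ^ k • ⊤ : Submodule (MvPolynomial σ T) M).mkQ ∘ₗ e.toLinearMap ∘ₗ (KV T v).mkQ

theorem quotG_surjective (e : ((ι → MvPolynomial σ T) ⧸ KV T v) ≃ₗ[MvPolynomial σ T] M) (k : ℕ) :
    Function.Surjective (quotG wt T v e k) := by
  intro y
  obtain ⟨m, rfl⟩ := Submodule.mkQ_surjective _ y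
  obtain ⟨n, rfl⟩ := e.surjective m
  obtain ⟨x, rfl⟩ := Submodule.mkQ_surjective _ n
  exact ⟨x, rfl⟩

theorem ker_quotG (hwt : ∀ s, wt s ≤ 1)
    (e : ((ι → MvPolynomial σ T) ⧸ KV T v) ≃ₗ[MvPolynomial σ T] M) (k : ℕ) :
    LinearMap.ker (quotG wt T v e k) = KKP wt T v k := by
  set π : (ι → MvPolynomial σ T) →ₗ[MvPolynomial σ T] M := e.toLinearMap ∘ₗ (KV T v).mkQ with hπ
  have hπs : LinearMap.range π = ⊤ := by
    rw [LinearMap.range_eq_top]
    intro m
    obtain ⟨n, rfl⟩ := e.surjective m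
    obtain ⟨x, rfl⟩ := Submodule.mkQ_surjective _ n
    exact ⟨x, rfl⟩
  have hπk : LinearMap.ker π = KV T v := by
    rw [hπ, LinearMap.ker_comp, LinearEquiv.ker, Submodule.comap_bot, Submodule.ker_mkQ]
  have h1 : (II wt T ^ k • ⊤ : Submodule (MvPolynomial σ T) M) =
      Submodule.map π (II wt T ^ k • ⊤) := by
    rw [Submodule.map_smul'', Submodule.map_top, hπs]
  have h2 : quotG wt T v e k = (II wt T ^ k • ⊤ : Submodule (MvPolynomial σ T) M).mkQ ∘ₗ π := rfl
  rw [h2, LinearMap.ker_comp, Submodule.ker_mkQ, h1, Submodule.comap_map_eq, hπk,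
    II_pow_smul_top wt T hwt, KKP, sup_comm]

/-- `F/(K + Fil^k) ≃ M/I^k M`. -/
def quotEquiv (hwt : ∀ s, wt s ≤ 1)
    (e : ((ι → MvPolynomial σ T) ⧸ KV T v) ≃ₗ[MvPolynomial σ T] M) (k : ℕ) :
    ((ι → MvPolynomial σ T) ⧸ KKP wt T v k) ≃ₗ[MvPolynomial σ T]
      (M ⧸ (II wt T ^ k • ⊤ : Submodule (MvPolynomial σ T) M)) :=
  (Submodule.quotEquivOfEq _ _ (ker_quotG wt T v hwt e k).symm) ≪≫ₗ
    (LinearMap.quotKerEquivOfSurjective (quotG wt T v e k) (quotG_surjective wt T v e k))

end Quot

end Free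

section NS

variable {A : Type u} [CommRing A] {B : Type u} [CommRing B] [Algebra A B]
  {N : Type u} [AddCommGroup N] [Module B N] [Module A N] [IsScalarTower A B N]

open Groth.Agent.Lib.Helper15 in
/-- Krull intersection applied to the kernel of `N ⊗ 𝔞 → N`. -/
theorem exists_smul_eq_self_of_flat_quot [IsNoetherianRing B] [Module.Finite B N] (I : Ideal B)
    (hfl : ∀ n : ℕ, Module.Flat A (N ⧸ (I ^ n • ⊤ : Submodule B N)))
    (𝔞 : Ideal A) (h𝔞 : 𝔞.FG) (x : N ⊗[A] 𝔞) (hx : LinearMap.lTensor N 𝔞.subtype x = 0) :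
    ∃ r ∈ I, r • x = x := by
  have : Module.Finite A 𝔞 := Module.Finite.iff_fg.2 h𝔞
  have hfin : Module.Finite B (N ⊗[A] 𝔞) := finite_tensor_left
  have hmem : ∀ n, x ∈ LinearMap.range (LinearMap.rTensor 𝔞 (grIncl (A := A) (N := N) I n)) := by
    intro n
    let U : Submodule B N := I ^ n • ⊤
    let π : N →ₗ[A] N ⧸ U := U.mkQ.restrictScalars A
    have hex : Function.Exact (LinearMap.rTensor 𝔞 (grIncl (A := A) (N := N) I n))
        (LinearMap.rTensor 𝔞 π) := by
      apply rTensor_exact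
      · exact LinearMap.exact_subtype_mkQ U
      · exact Submodule.mkQ_surjective U
    have hb : LinearMap.rTensor 𝔞 π x = 0 := by
      haveI := hfl n
      have hinj : Function.Injective (LinearMap.lTensor (N ⧸ U) 𝔞.subtype) :=
        Module.Flat.lTensor_preserves_injective_linearMap 𝔞.subtype Subtype.val_injective
      apply hinj
      rw [map_zero, ← LinearMap.comp_apply, LinearMap.lTensor_comp_rTensor,
        ← LinearMap.rTensor_comp_lTensor, LinearMap.comp_apply, hx, map_zero]
    exact (hex x).1 hb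
  have hx0 : x ∈ (⨅ i : ℕ, I ^ i • ⊤ : Submodule B (N ⊗[A] 𝔞)) := by
    rw [Submodule.mem_iInf]
    intro n
    obtain ⟨y, rfl⟩ := hmem n
    exact rTensor_grIncl_mem I n y
  obtain ⟨r, hr⟩ := (Ideal.mem_iInf_smul_pow_eq_bot_iff I x).mp hx0
  exact ⟨r.1, r.2, hr⟩

/-- **Noetherian step**: if all `N / Iⁿ N` are flat over `A`, then `N` is flat over `A` after
inverting `1 + I`. -/
theorem flat_localizedModule_of_flat_quot [IsNoetherianRing B] [Module.Finite B N] (I : Ideal B)
    (hfl : ∀ n : ℕ, Module.Flat A (N ⧸ (I ^ n • ⊤ : Submodule B N)))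
    (S : Submonoid B) (hS : ∀ r ∈ I, 1 - r ∈ S) : Module.Flat A (LocalizedModule S N) := by
  rw [flat_localizedModule_iff]
  intro 𝔞 h𝔞 z hz
  obtain ⟨r, hr, hrz⟩ := exists_smul_eq_self_of_flat_quot I hfl 𝔞 h𝔞 z hz
  exact ⟨1 - r, hS r hr, by rw [sub_smul, one_smul, hrz, sub_self]⟩

end NS

end Groth.Agent.Lib.LeadNF
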