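import Mathlib
import Groth.Agent.Lib.LeadNFj
import Groth.Agent.Lib.Helper13GenFlat

/-!
# Normal flatness: models of `(B, J, M)` over polynomial rings (lead)
-/

set_option autoImplicit false
set_option maxHeartbeats 400000
set_option linter.style.haveILetI false
set_option linter.unusedSectionVars false
set_option linter.unusedVariables false

universe u v w

noncomputable section

namespace Groth.Agent.Lib.LeadNF

open MvPolynomial TensorProduct Groth.Agent.Lib.Helper3.FlatDesc Groth.Agent.Lib.Helper3.FlatOpen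
  Groth.Agent.Lib.Helper3.FlatLoc

attribute [local instance] MvPolynomial.algebraMvPolynomial

section Gr

variable {A : Type*} [CommRing A] {B : Type*} [CommRing B] [Algebra A B] (J : Ideal B)
  {M : Type*} [AddCommGroup M] [Module B M] [Module A M] [IsScalarTower A B M]

/-- Flatness of the graded pieces gives flatness of the truncations. -/
theorem flat_quot_pow_of_gr
    (hgr : ∀ k : ℕ, Module.Flat A
      (↥(J ^ k • (⊤ : Submodule B M)) ⧸
        Submodule.comap (J ^ k • (⊤ : Submodule B M)).subtype (J ^ (k + 1) • ⊤))) :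
    ∀ k : ℕ, Module.Flat A (M ⧸ (J ^ k • ⊤ : Submodule B M)) := by
  intro k
  induction k with
  | zero =>
    have : Subsingleton (M ⧸ (J ^ 0 • ⊤ : Submodule B M)) := by
      rw [pow_zero, Ideal.one_eq_top, Submodule.top_smul]
      exact Submodule.Quotient.subsingleton_iff.mpr rfl
    infer_instance
  | succ k ih =>
    haveI := ih
    haveI := hgr k
    set U : Submodule B M := J ^ k • ⊤ with hU
    set V : Submodule B M := J ^ (k + 1) • ⊤ with hV
    have hVU : V ≤ U := by
      rw [hU, hV]
      exact Submodule.smul_mono_left (Ideal.pow_le_pow_right (Nat.le_succ k))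
    let α : (↥U ⧸ Submodule.comap U.subtype V) →ₗ[A] M ⧸ V :=
      (Submodule.mapQ (Submodule.comap U.subtype V) V U.subtype le_rfl).restrictScalars A
    let β : (M ⧸ V) →ₗ[A] M ⧸ U :=
      (Submodule.mapQ V U LinearMap.id (by rwa [Submodule.comap_id])).restrictScalars A
    refine Groth.Agent.Helper13GenFlat.flat_of_exact α β ?_ ?_ ?_
    · rw [injective_iff_map_eq_zero]
      intro x hx
      obtain ⟨x, rfl⟩ := Submodule.mkQ_surjective _ x
      change Submodule.Quotient.mk (x : M) = 0 at hx
      rw [Submodule.Quotient.mk_eq_zero] at hx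
      change Submodule.Quotient.mk x = 0
      rw [Submodule.Quotient.mk_eq_zero]
      exact hx
    · intro y
      obtain ⟨m, rfl⟩ := Submodule.mkQ_surjective _ y
      exact ⟨Submodule.Quotient.mk m, rfl⟩
    · intro y
      obtain ⟨m, rfl⟩ := Submodule.mkQ_surjective _ y
      constructor
      · intro h
        change Submodule.Quotient.mk m = 0 at h
        rw [Submodule.Quotient.mk_eq_zero] at h
        exact ⟨Submodule.Quotient.mk ⟨m, h⟩, rfl⟩
      · rintro ⟨x, hx⟩
        obtain ⟨x, rfl⟩ := Submodule.mkQ_surjective _ x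
        rw [← hx]
        change Submodule.Quotient.mk (x : M) = 0
        rw [Submodule.Quotient.mk_eq_zero]
        exact x.2

end Gr

section Part3

variable {P : Type*} [CommRing P] {B : Type*} [CommRing B] [Algebra P B]
  {M : Type*} [AddCommGroup M] [Module B M] [Module P M] [IsScalarTower P B M]

theorem coe_map_smul_top (hsurj : Function.Surjective (algebraMap P B)) (I : Ideal P) :
    ((Ideal.map (algebraMap P B) I • ⊤ : Submodule B M) : Set M) =
      ((I • ⊤ : Submodule P M) : Set M) := by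
  ext x
  simp only [SetLike.mem_coe]
  constructor
  · intro hx
    refine Submodule.smul_induction_on hx ?_ ?_
    · intro b hb m _
      obtain ⟨a, ha, rfl⟩ := (Ideal.mem_map_iff_of_surjective _ hsurj).mp hb
      rw [algebraMap_smul]
      exact Submodule.smul_mem_smul ha Submodule.mem_top
    · intro a b ha hb
      exact Submodule.add_mem _ ha hb
  · intro hx
    refine Submodule.smul_induction_on hx ?_ ?_
    · intro a ha m _
      rw [← algebraMap_smul B a m]
      exact Submodule.smul_mem_smul (Ideal.mem_map_of_mem _ ha) Submodule.mem_top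
    · intro a b ha hb
      exact Submodule.add_mem _ ha hb

theorem coe_map_pow_smul_top (hsurj : Function.Surjective (algebraMap P B)) (I : Ideal P)
    (k : ℕ) :
    (((Ideal.map (algebraMap P B) I) ^ k • ⊤ : Submodule B M) : Set M) =
      ((I ^ k • ⊤ : Submodule P M) : Set M) := by
  rw [← Ideal.map_pow, coe_map_smul_top hsurj]

end Part3

section Rows

/-- A finitely presented module over a polynomial ring is presented by rows with coefficients in
a finitely generated subring. -/
theorem exists_rows {R : Type u} [CommRing R] {σ : Type} (M : Type u)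
    [AddCommGroup M] [Module (MvPolynomial σ R) M]
    [Module.FinitePresentation (MvPolynomial σ R) M] :
    ∃ (k m : ℕ) (Λ : Subalgebra ℤ R) (_ : Λ.FG) (v : Fin m → Fin k → MvPolynomial σ Λ),
      Nonempty (((Fin k → MvPolynomial σ R) ⧸ KV R (mapV Λ R v)) ≃ₗ[MvPolynomial σ R] M) := by
  classical
  obtain ⟨k, m, π, g, hπ, hex⟩ :=
    Module.FinitePresentation.exists_fin' (MvPolynomial σ R) M
  let v : Fin m → Fin k → MvPolynomial σ R := fun j => g (Pi.single j 1)
  let cs : Finset R := Finset.univ.biUnion fun j => Finset.univ.biUnion fun i => (v j i).coeffs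
  let Λ : Subalgebra ℤ R := Algebra.adjoin ℤ (cs : Set R)
  have hw : ∀ j i, ∃ f : MvPolynomial σ Λ,
      MvPolynomial.map (algebraMap Λ R) f = v j i := by
    intro j i
    apply MvPolynomial.mem_range_map_iff_coeffs_subset.mpr
    intro c hc
    refine ⟨⟨c, Algebra.subset_adjoin ?_⟩, rfl⟩
    exact Finset.mem_biUnion.mpr ⟨j, Finset.mem_univ j,
      Finset.mem_biUnion.mpr ⟨i, Finset.mem_univ i, hc⟩⟩
  choose w hw using hw
  have hwT : wT w (MvPolynomial σ R) = v := by
    ext j i : 2
    exact hw j i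
  have hg : WT w (MvPolynomial σ R) = g := by
    apply LinearMap.ext
    intro a
    rw [WT_apply, hwT, LinearMap.pi_apply_eq_sum_univ g a]
    refine Finset.sum_congr rfl fun j _ => ?_
    have hsingle : (Pi.single j 1 : Fin m → MvPolynomial σ R) =
        fun j' => if j = j' then 1 else 0 := by
      funext j'
      simp [Pi.single_apply, eq_comm]
    change a j • g (Pi.single j 1) = _
    rw [hsingle]
  have hK : KV R (mapV Λ R w) = LinearMap.ker π := by
    rw [← KT_eq_KV, KT, hg]
    exact (LinearMap.exact_iff.mp hex).symm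
  exact ⟨k, m, Λ, Subalgebra.fg_adjoin_finset cs, w,
    ⟨(Submodule.quotEquivOfEq _ _ hK) ≪≫ₗ (LinearMap.quotKerEquivOfSurjective π hπ)⟩⟩

end Rows

section Model

variable {σ : Type} [Finite σ] (wt : σ → ℕ)
  {A : Type u} [CommRing A] {B : Type u} [CommRing B] [Algebra A B]
  [Algebra (MvPolynomial σ A) B] [IsScalarTower A (MvPolynomial σ A) B]
  (J : Ideal B)
  {M : Type u} [AddCommGroup M] [Module B M] [Module A M] [IsScalarTower A B M]
  [Module (MvPolynomial σ A) M] [IsScalarTower (MvPolynomial σ A) B M]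
  [IsScalarTower A (MvPolynomial σ A) M]
  {ι : Type} [Fintype ι] [DecidableEq ι] {κ : Type} [Fintype κ]

theorem restrictScalars_pow_smul_top_eq
    (hsurj : Function.Surjective (algebraMap (MvPolynomial σ A) B))
    (hJ : J = Ideal.map (algebraMap (MvPolynomial σ A) B) (II wt A)) (j : ℕ) :
    (II wt A ^ j • ⊤ : Submodule (MvPolynomial σ A) M).restrictScalars A =
      (J ^ j • ⊤ : Submodule B M).restrictScalars A := by
  apply SetLike.coe_injective
  rw [Submodule.coe_restrictScalars, Submodule.coe_restrictScalars, hJ,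
    coe_map_pow_smul_top hsurj]

/-- `F/(K + Fil^j) ≃ M/J^j M`, `A`-linearly. -/
def equivA (v : κ → ι → MvPolynomial σ A) (hwt : ∀ s, wt s ≤ 1)
    (hsurj : Function.Surjective (algebraMap (MvPolynomial σ A) B))
    (hJ : J = Ideal.map (algebraMap (MvPolynomial σ A) B) (II wt A))
    (e : ((ι → MvPolynomial σ A) ⧸ KV A v) ≃ₗ[MvPolynomial σ A] M) (j : ℕ) :
    ((ι → MvPolynomial σ A) ⧸ KKP wt A v j) ≃ₗ[A]
      (M ⧸ (J ^ j • ⊤ : Submodule B M).restrictScalars A) :=
  ((quotEquiv wt A v hwt e j).restrictScalars A) ≪≫ₗ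
    (Submodule.Quotient.restrictScalarsEquiv A
      (II wt A ^ j • ⊤ : Submodule (MvPolynomial σ A) M)).symm ≪≫ₗ
    (Submodule.quotEquivOfEq _ _ (restrictScalars_pow_smul_top_eq wt J hsurj hJ j))

theorem flat_KKP_iff_flat_quot (v : κ → ι → MvPolynomial σ A) (hwt : ∀ s, wt s ≤ 1)
    (hsurj : Function.Surjective (algebraMap (MvPolynomial σ A) B))
    (hJ : J = Ideal.map (algebraMap (MvPolynomial σ A) B) (II wt A))
    (e : ((ι → MvPolynomial σ A) ⧸ KV A v) ≃ₗ[MvPolynomial σ A] M) (j : ℕ) :
    Module.Flat A ((ι → MvPolynomial σ A) ⧸ KKP wt A v j) ↔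
      Module.Flat A (M ⧸ (J ^ j • ⊤ : Submodule B M)) := by
  constructor
  · intro h
    exact Module.Flat.of_linearEquiv ((Submodule.Quotient.restrictScalarsEquiv A
      (J ^ j • ⊤ : Submodule B M)).symm ≪≫ₗ (equivA wt J v hwt hsurj hJ e j).symm)
  · intro h
    exact Module.Flat.of_linearEquiv ((equivA wt J v hwt hsurj hJ e j) ≪≫ₗ
      (Submodule.Quotient.restrictScalarsEquiv A (J ^ j • ⊤ : Submodule B M)))

theorem range_baseChange_eq_ext (T : Type u) [CommRing T] [Algebra A T] (U : Submodule A M) :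
    LinearMap.range (U.subtype.baseChange T) = ext T (TensorProduct.mk A T M 1) U := by
  rw [← range_liftBaseChange]
  congr 1
  ext u
  simp

/-- The model computes all the truncations after any base change. -/
theorem nonempty_baseChange_equiv {Λ : Type u} [CommRing Λ] [Algebra Λ A]
    (v : κ → ι → MvPolynomial σ Λ) (hwt : ∀ s, wt s ≤ 1)
    (hsurj : Function.Surjective (algebraMap (MvPolynomial σ A) B))
    (hJ : J = Ideal.map (algebraMap (MvPolynomial σ A) B) (II wt A))
    (e : ((ι → MvPolynomial σ A) ⧸ KV A (mapV Λ A v)) ≃ₗ[MvPolynomial σ A] M)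
    (T : Type u) [CommRing T] [Algebra A T] [Algebra Λ T] [IsScalarTower Λ A T] (j : ℕ) :
    Nonempty (((T ⊗[A] M) ⧸ LinearMap.range
      (((J ^ j • (⊤ : Submodule B M)).restrictScalars A).subtype.baseChange T)) ≃ₗ[T]
      ((ι → MvPolynomial σ T) ⧸ KKP wt T (mapV Λ T v) j)) := by
  set U : Submodule A M := (J ^ j • (⊤ : Submodule B M)).restrictScalars A with hU
  have b1 := isBaseChange_quotMap (TensorProduct.mk A T M 1) (TensorProduct.isBaseChange A M T) U
    (LinearMap.range (U.subtype.baseChange T)) (range_baseChange_eq_ext T U)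
  have b2 := isBaseChange_quotMap (FmT A T) (isBaseChange_FmT (σ := σ) (ι := ι) A T)
    ((KKP wt A (mapV Λ A v) j).restrictScalars A)
    ((KKP wt T (mapV Λ T v) j).restrictScalars T)
    (by rw [← extP_restrictScalars, extP_KKP, mapV_mapV])
  let eA := equivA wt J (mapV Λ A v) hwt hsurj hJ e j
  let eA' : ((ι → MvPolynomial σ A) ⧸ (KKP wt A (mapV Λ A v) j).restrictScalars A) ≃ₗ[A]
      (M ⧸ U) := (Submodule.Quotient.restrictScalarsEquiv A (KKP wt A (mapV Λ A v) j)) ≪≫ₗ eA
  exact ⟨b1.equiv.symm ≪≫ₗ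
    (TensorProduct.AlgebraTensorModule.congr (LinearEquiv.refl T T) eA'.symm) ≪≫ₗ b2.equiv ≪≫ₗ
    (Submodule.Quotient.restrictScalarsEquiv T (KKP wt T (mapV Λ T v) j))⟩

/-- **Model with an ideal**, for colimit arguments. -/
theorem exists_model_gr (hwt : ∀ s, wt s ≤ 1)
    (hsurj : Function.Surjective (algebraMap (MvPolynomial σ A) B))
    (hJ : J = Ideal.map (algebraMap (MvPolynomial σ A) B) (II wt A))
    [Module.FinitePresentation (MvPolynomial σ A) M] :
    ∃ (k m : ℕ) (Λ : Subalgebra ℤ A) (_ : Λ.FG) (v : Fin m → Fin k → MvPolynomial σ Λ),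
      ∀ (T : Type u) [CommRing T] [Algebra A T] (j : ℕ), Nonempty (((T ⊗[A] M) ⧸ LinearMap.range
        (((J ^ j • (⊤ : Submodule B M)).restrictScalars A).subtype.baseChange T)) ≃ₗ[T]
        ((Fin k → MvPolynomial σ T) ⧸ KKP wt T (mapV Λ T v) j)) := by
  obtain ⟨k, m, Λ, hΛ, v, ⟨e⟩⟩ := exists_rows (R := A) (σ := σ) M
  exact ⟨k, m, Λ, hΛ, v, fun T _ _ j => nonempty_baseChange_equiv wt J v hwt hsurj hJ e T j⟩

/-- **Flatness along `V(J)` from flatness of the truncations** (polynomial presentation form). -/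
theorem flat_localizedModule_of_flat_quot_pow (hwt : ∀ s, wt s ≤ 1)
    (hsurj : Function.Surjective (algebraMap (MvPolynomial σ A) B))
    (hJ : J = Ideal.map (algebraMap (MvPolynomial σ A) B) (II wt A))
    [Module.FinitePresentation (MvPolynomial σ A) M]
    (hfl : ∀ k : ℕ, Module.Flat A (M ⧸ (J ^ k • ⊤ : Submodule B M)))
    (q : Ideal B) [q.IsPrime] (hq : J ≤ q) :
    Module.Flat A (LocalizedModule q.primeCompl M) := by
  classical
  obtain ⟨k, m, Λ, hΛ, v, ⟨e⟩⟩ := exists_rows (R := A) (σ := σ) M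
  haveI : Algebra.FiniteType ℤ Λ := (Subalgebra.fg_iff_finiteType Λ).mp hΛ
  haveI : IsNoetherianRing Λ := Algebra.FiniteType.isNoetherianRing ℤ Λ
  have hflR : ∀ j, Module.Flat A ((Fin k → MvPolynomial σ A) ⧸ KKP wt A (mapV Λ A v) j) :=
    fun j => (flat_KKP_iff_flat_quot wt J (mapV Λ A v) hwt hsurj hJ e j).mpr (hfl j)
  obtain ⟨A', _, _, _, _, hft, hinj, -, hA'fl⟩ := exists_fg_allFlat wt Λ v A hflR ∅
  haveI : IsNoetherianRing A' := Algebra.FiniteType.isNoetherianRing Λ A'
  -- the Noetherian step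
  have hN'fl : ∀ n : ℕ, Module.Flat A' (((Fin k → MvPolynomial σ A') ⧸ KV A' (mapV Λ A' v)) ⧸
      (II wt A' ^ n • ⊤ : Submodule (MvPolynomial σ A')
        ((Fin k → MvPolynomial σ A') ⧸ KV A' (mapV Λ A' v)))) := by
    intro n
    haveI := hA'fl n
    exact Module.Flat.of_linearEquiv
      ((quotEquiv wt A' (mapV Λ A' v) hwt (LinearEquiv.refl _ _) n).restrictScalars A').symm
  set Q : Ideal (MvPolynomial σ A) := q.comap (algebraMap (MvPolynomial σ A) B) with hQ
  haveI : Q.IsPrime := Ideal.comap_isPrime _ _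
  have hIQ : II wt A ≤ Q := by
    rw [hQ, ← Ideal.map_le_iff_le_comap, ← hJ]
    exact hq
  set Q' : Ideal (MvPolynomial σ A') :=
    Q.comap (algebraMap (MvPolynomial σ A') (MvPolynomial σ A)) with hQ'
  haveI : Q'.IsPrime := Ideal.comap_isPrime _ _
  have hIQ' : II wt A' ≤ Q' := by
    rw [II, Ideal.span_le]
    rintro _ ⟨s, hs, rfl⟩
    change algebraMap (MvPolynomial σ A') (MvPolynomial σ A) (X s) ∈ Q
    rw [MvPolynomial.algebraMap_def, map_X]
    exact hIQ (X_mem_II wt A hs)
  have h7 : Module.Flat A' (LocalizedModule Q'.primeCompl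
      ((Fin k → MvPolynomial σ A') ⧸ KV A' (mapV Λ A' v))) := by
    apply flat_localizedModule_of_flat_quot (II wt A') hN'fl
    intro r hr hmem
    exact (Ideal.IsPrime.ne_top inferInstance) ((Ideal.eq_top_iff_one Q').mpr (by
      have := Q'.add_mem hmem (hIQ' hr)
      rwa [sub_add_cancel] at this))
  have h7' : Module.Flat A' (LocalizedModule Q'.primeCompl
      ((Fin k → MvPolynomial σ A') ⧸ KT v (MvPolynomial σ A'))) :=
    flat_localizedModule_of_linearEquiv (Submodule.quotEquivOfEq _ _ (KT_eq_KV v A').symm) _ h7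
  have h8 := flat_model_of_algebra v Q h7'
  have h8' : Module.Flat A (LocalizedModule Q.primeCompl
      ((Fin k → MvPolynomial σ A) ⧸ KV A (mapV Λ A v))) :=
    flat_localizedModule_of_linearEquiv (Submodule.quotEquivOfEq _ _ (KT_eq_KV v A)) _ h8
  have h9 : Module.Flat A (LocalizedModule Q.primeCompl M) :=
    flat_localizedModule_of_linearEquiv e _ h8'
  exact (flat_localizedModule_comap_iff (R := A) (P := MvPolynomial σ A) hsurj q).mp h9

end Model

end Groth.Agent.Lib.LeadNF
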