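import Mathlib
import Groth.Agent.Lib.LeadNFk

/-!
# Normal flatness: the EGA IV 11.3-type statements (lead)
-/

set_option autoImplicit false
set_option maxHeartbeats 400000
set_option linter.style.haveILetI false
set_option linter.unusedSectionVars false
set_option linter.unusedVariables false

universe u v w

noncomputable section

namespace Groth.Agent.Lib.LeadNF

open MvPolynomial TensorProduct Groth.Agent.Lib.Helper3.FlatDesc Groth.Agent.Lib.Helper3.FlatOpen
  Groth.Agent.Lib.Helper3.FlatLoc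

attribute [local instance] MvPolynomial.algebraMvPolynomial

/-- The weight on `Fin n ⊕ Fin r`: the second block has weight one. -/
def wtSum (n r : ℕ) : Fin n ⊕ Fin r → ℕ := Sum.elim (fun _ => 0) (fun _ => 1)

theorem wtSum_le_one (n r : ℕ) (s : Fin n ⊕ Fin r) : wtSum n r s ≤ 1 := by
  cases s <;> simp [wtSum]

section YTrick

variable (A : Type u) [CommRing A] (B : Type u) [CommRing B] [Algebra A B]
  [Algebra.FinitePresentation A B] (J : Ideal B)

/-- A presentation of `B` in which `J` is generated by the images of some of the variables. -/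
theorem exists_presentation_with_ideal (hJ : J.FG) :
    ∃ (n r : ℕ) (f : MvPolynomial (Fin n ⊕ Fin r) A →ₐ[A] B), Function.Surjective f ∧
      (RingHom.ker f.toRingHom).FG ∧
      J = Ideal.map f (II (wtSum n r) A) := by
  classical
  obtain ⟨n, f₀, hf₀, hker₀⟩ := Algebra.FinitePresentation.out (R := A) (A := B)
  obtain ⟨S, hS⟩ := hJ
  let r := S.card
  let b : Fin r → B := fun j => (S.equivFin.symm j : B)
  let f : MvPolynomial (Fin n ⊕ Fin r) A →ₐ[A] B := aeval (Sum.elim (fun i => f₀ (X i)) b)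
  have hf : Function.Surjective f := by
    intro y
    obtain ⟨p, rfl⟩ := hf₀ y
    refine ⟨rename Sum.inl p, ?_⟩
    change aeval (Sum.elim (fun i => f₀ (X i)) b) (rename Sum.inl p) = f₀ p
    rw [aeval_rename]
    have : (aeval ((Sum.elim (fun i => f₀ (X i)) b) ∘ Sum.inl) : MvPolynomial (Fin n) A →ₐ[A] B)
        = f₀ := by
      apply MvPolynomial.algHom_ext
      intro i
      simp
    rw [this]
  refine ⟨n, r, f, hf, Algebra.FinitePresentation.ker_fG_of_surjective f hf, ?_⟩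
  rw [← hS, II, Ideal.map_span]
  congr 1
  ext y
  constructor
  · intro hy
    refine ⟨X (Sum.inr (S.equivFin ⟨y, hy⟩)), ⟨Sum.inr (S.equivFin ⟨y, hy⟩), ?_, rfl⟩, ?_⟩
    · simp [wtSum]
    · change aeval (Sum.elim (fun i => f₀ (X i)) b) (X (Sum.inr (S.equivFin ⟨y, hy⟩))) = y
      rw [aeval_X]
      simp [b]
  · rintro ⟨_, ⟨s, hs, rfl⟩, rfl⟩
    rcases s with i | j
    · simp [wtSum] at hs
    · change aeval (Sum.elim (fun i => f₀ (X i)) b) (X (Sum.inr j)) ∈ _
      rw [aeval_X]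
      exact (S.equivFin.symm j).2

end YTrick

section Statements

/-- Set-up of the polynomial presentation: the model of `(B, J, M)` after any base change. -/
theorem exists_model_gr' (A₀ : Type u) [CommRing A₀] (B₀ : Type u) [CommRing B₀] [Algebra A₀ B₀]
    [Algebra.FinitePresentation A₀ B₀] (J₀ : Ideal B₀) (hJ₀ : J₀.FG)
    (M₀ : Type u) [AddCommGroup M₀] [Module B₀ M₀] [Module A₀ M₀] [IsScalarTower A₀ B₀ M₀]
    [Module.FinitePresentation B₀ M₀] :
    ∃ (n r k m : ℕ) (Λ : Subalgebra ℤ A₀) (_ : Λ.FG)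
      (v : Fin m → Fin k → MvPolynomial (Fin n ⊕ Fin r) Λ),
      ∀ (T : Type u) [CommRing T] [Algebra A₀ T] (j : ℕ), Nonempty (((T ⊗[A₀] M₀) ⧸
        LinearMap.range
          (((J₀ ^ j • (⊤ : Submodule B₀ M₀)).restrictScalars A₀).subtype.baseChange T)) ≃ₗ[T]
        ((Fin k → MvPolynomial (Fin n ⊕ Fin r) T) ⧸ KKP (wtSum n r) T (mapV Λ T v) j)) := by
  obtain ⟨n, r, f, hf, hker, hJf⟩ := exists_presentation_with_ideal A₀ B₀ J₀ hJ₀
  letI : Algebra (MvPolynomial (Fin n ⊕ Fin r) A₀) B₀ := f.toRingHom.toAlgebra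
  haveI : IsScalarTower A₀ (MvPolynomial (Fin n ⊕ Fin r) A₀) B₀ :=
    .of_algebraMap_eq' f.comp_algebraMap.symm
  letI : Module (MvPolynomial (Fin n ⊕ Fin r) A₀) M₀ := Module.compHom M₀ f.toRingHom
  haveI : IsScalarTower (MvPolynomial (Fin n ⊕ Fin r) A₀) B₀ M₀ :=
    ⟨fun p s m => by
      change (f p * s) • m = f p • (s • m)
      rw [mul_smul]⟩
  haveI : IsScalarTower A₀ (MvPolynomial (Fin n ⊕ Fin r) A₀) M₀ :=
    ⟨fun r p m => by
      change f (r • p) • m = r • (f p • m)
      rw [map_smul, smul_assoc]⟩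
  haveI : Module.FinitePresentation (MvPolynomial (Fin n ⊕ Fin r) A₀) B₀ :=
    Module.finitePresentation_of_surjective
      (Algebra.linearMap (MvPolynomial (Fin n ⊕ Fin r) A₀) B₀) hf hker
  haveI : Module.FinitePresentation (MvPolynomial (Fin n ⊕ Fin r) A₀) M₀ :=
    Module.FinitePresentation.trans (MvPolynomial (Fin n ⊕ Fin r) A₀) M₀ B₀
  obtain ⟨k, m, Λ, hΛ, v, hT⟩ := exists_model_gr (wtSum n r) J₀ (wtSum_le_one n r) hf hJf (M := M₀)
  exact ⟨n, r, k, m, Λ, hΛ, v, hT⟩

/-- **Flatness along `V(J)` from flatness of the associated graded module.** -/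
theorem flat_localization_of_gr_flat {A B : Type u} [CommRing A] [CommRing B] [Algebra A B]
    [Algebra.FinitePresentation A B] (J : Ideal B) (hJ : J.FG)
    (M : Type u) [AddCommGroup M] [Module B M] [Module A M] [IsScalarTower A B M]
    [Module.FinitePresentation B M]
    (hgr : ∀ k : ℕ, Module.Flat A
      (↥(J ^ k • (⊤ : Submodule B M)) ⧸
        Submodule.comap (J ^ k • (⊤ : Submodule B M)).subtype (J ^ (k + 1) • ⊤)))
    (q : Ideal B) [q.IsPrime] (hq : J ≤ q) :
    Module.Flat A (LocalizedModule q.primeCompl M) := by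
  obtain ⟨n, r, f, hf, hker, hJf⟩ := exists_presentation_with_ideal A B J hJ
  letI : Algebra (MvPolynomial (Fin n ⊕ Fin r) A) B := f.toRingHom.toAlgebra
  haveI : IsScalarTower A (MvPolynomial (Fin n ⊕ Fin r) A) B :=
    .of_algebraMap_eq' f.comp_algebraMap.symm
  letI : Module (MvPolynomial (Fin n ⊕ Fin r) A) M := Module.compHom M f.toRingHom
  haveI : IsScalarTower (MvPolynomial (Fin n ⊕ Fin r) A) B M :=
    ⟨fun p s m => by
      change (f p * s) • m = f p • (s • m)
      rw [mul_smul]⟩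
  haveI : IsScalarTower A (MvPolynomial (Fin n ⊕ Fin r) A) M :=
    ⟨fun r p m => by
      change f (r • p) • m = r • (f p • m)
      rw [map_smul, smul_assoc]⟩
  haveI : Module.FinitePresentation (MvPolynomial (Fin n ⊕ Fin r) A) B :=
    Module.finitePresentation_of_surjective
      (Algebra.linearMap (MvPolynomial (Fin n ⊕ Fin r) A) B) hf hker
  haveI : Module.FinitePresentation (MvPolynomial (Fin n ⊕ Fin r) A) M :=
    Module.FinitePresentation.trans (MvPolynomial (Fin n ⊕ Fin r) A) M B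
  exact flat_localizedModule_of_flat_quot_pow (wtSum n r) J (wtSum_le_one n r) hf hJf
    (flat_quot_pow_of_gr J hgr) q hq

/-- Ascent of flatness of the truncations along an algebra homomorphism. -/
theorem flat_KKP_of_algHom {σ : Type} {ι : Type} [Fintype ι] {κ : Type} (wt : σ → ℕ)
    {Λ : Type u} [CommRing Λ] (v : κ → ι → MvPolynomial σ Λ)
    {A R : Type u} [CommRing A] [CommRing R] [Algebra Λ A] [Algebra Λ R] (ψ : A →ₐ[Λ] R) (j : ℕ)
    (h : Module.Flat A ((ι → MvPolynomial σ A) ⧸ KKP wt A (mapV Λ A v) j)) :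
    Module.Flat R ((ι → MvPolynomial σ R) ⧸ KKP wt R (mapV Λ R v) j) := by
  letI := ψ.toRingHom.toAlgebra
  haveI : IsScalarTower Λ A R := IsScalarTower.of_algebraMap_eq' ψ.comp_algebraMap.symm
  have h1 := flat_quot_extP A R (KKP wt A (mapV Λ A v) j)
  rw [extP_KKP, mapV_mapV] at h1
  exact h1

/-- **Normal flatness in a directed colimit descends to a stage.** -/
theorem gr_flat_colimit_iff {A₀ : Type u} [CommRing A₀]
    {ι : Type u} [Preorder ι] (G : ι → Type u) [∀ i, CommRing (G i)] [∀ i, Algebra A₀ (G i)]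
    (g : ∀ i j, i ≤ j → G i →ₐ[A₀] G j)
    (A : Type u) [CommRing A] [Algebra A₀ A] [∀ i, Algebra (G i) A] [∀ i, IsScalarTower A₀ (G i) A]
    [IsDirected ι (· ≤ ·)] [Nonempty ι]
    (hcomp : ∀ i j k (hij : i ≤ j) (hjk : j ≤ k),
      ((g j k hjk).toRingHom).comp (g i j hij).toRingHom = (g i k (hij.trans hjk)).toRingHom)
    (hcompat : ∀ i j (h : i ≤ j),
      (algebraMap (G j) A).comp (g i j h).toRingHom = algebraMap (G i) A)
    (hsurj : ∀ a : A, ∃ i, ∃ x : G i, algebraMap (G i) A x = a)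
    (hinj : ∀ i (x : G i), algebraMap (G i) A x = 0 → ∃ j, ∃ h : i ≤ j, (g i j h).toRingHom x = 0)
    {B₀ : Type u} [CommRing B₀] [Algebra A₀ B₀] [Algebra.FinitePresentation A₀ B₀]
    (J₀ : Ideal B₀) (hJ₀ : J₀.FG)
    (M₀ : Type u) [AddCommGroup M₀] [Module B₀ M₀] [Module A₀ M₀] [IsScalarTower A₀ B₀ M₀]
    [Module.FinitePresentation B₀ M₀] :
    (∀ k : ℕ, Module.Flat A ((A ⊗[A₀] M₀) ⧸
        LinearMap.range (((J₀ ^ k • (⊤ : Submodule B₀ M₀)).restrictScalars A₀).subtype.baseChange A))) ↔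
      ∃ i : ι, ∀ k : ℕ, Module.Flat (G i) ((G i ⊗[A₀] M₀) ⧸
        LinearMap.range (((J₀ ^ k • (⊤ : Submodule B₀ M₀)).restrictScalars A₀).subtype.baseChange (G i))) := by
  classical
  obtain ⟨n, r, k, m, Λ, hΛ, v, hT⟩ := exists_model_gr' A₀ B₀ J₀ hJ₀ M₀
  haveI : Algebra.FiniteType ℤ Λ := (Subalgebra.fg_iff_finiteType Λ).mp hΛ
  haveI : IsNoetherianRing Λ := Algebra.FiniteType.isNoetherianRing ℤ Λ
  constructor
  · intro hflat
    have hflA : ∀ j, Module.Flat A ((Fin k → MvPolynomial (Fin n ⊕ Fin r) A) ⧸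
        KKP (wtSum n r) A (mapV Λ A v) j) := by
      intro j
      obtain ⟨eA⟩ := hT A j
      haveI := hflat j
      exact Module.Flat.of_linearEquiv eA.symm
    obtain ⟨A', _, _, _, _, hft, hinj', -, hA'fl⟩ := exists_fg_allFlat (wtSum n r) Λ v A hflA ∅
    haveI : Algebra.FinitePresentation Λ A' := Algebra.FinitePresentation.of_finiteType.mp hft
    obtain ⟨i, ψ, -⟩ := exists_algHom_stage G (fun i j h => (g i j h).restrictScalars Λ) A
      (fun i j k hij hjk x => RingHom.congr_fun (hcomp i j k hij hjk) x)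
      (fun i j h x => RingHom.congr_fun (hcompat i j h) x) hsurj hinj A'
      (IsScalarTower.toAlgHom Λ A' A)
    refine ⟨i, fun j => ?_⟩
    obtain ⟨eG⟩ := hT (G i) j
    haveI := flat_KKP_of_algHom (wtSum n r) v ψ j (hA'fl j)
    exact Module.Flat.of_linearEquiv eG
  · rintro ⟨i, hi⟩ j
    obtain ⟨eG⟩ := hT (G i) j
    obtain ⟨eA⟩ := hT A j
    haveI := hi j
    have h1 : Module.Flat (G i) ((Fin k → MvPolynomial (Fin n ⊕ Fin r) (G i)) ⧸
        KKP (wtSum n r) (G i) (mapV Λ (G i) v) j) := Module.Flat.of_linearEquiv eG.symm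
    haveI := flat_KKP_of_algHom (wtSum n r) v (IsScalarTower.toAlgHom Λ (G i) A) j h1
    exact Module.Flat.of_linearEquiv eA

end Statements

end Groth.Agent.Lib.LeadNF
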