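import Groth.Agent.Lib.LeadNFlatE
import Groth.Agent.Lib.Helper5AssFlat
import Groth.Agent.Lib.Helper5JacFlat

/-!
# Regularity from flatness at associated primes (lead)

* `eq_zero_of_forall_pow_dvd`: Krull intersection for one element in the Jacobson radical.
* `isSMulRegular_of_regAtAss`: `f ∈ rad(B)`, `X` finite; if for every `q ∈ Ass(X/fX)` the element `f` is
  "regular at `q`" on `X`, then `f` is `X`-regular.
* `exists_le_assoc_quotSMulTop`: chain lemma `Ass(P) → Ass(P/fP)` for `f` regular in the radical.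
* `exists_le_assoc_sup_ofList`: iterated chain lemma along a regular sequence.
-/

set_option autoImplicit false
set_option maxHeartbeats 400000
set_option linter.style.haveILetI false
set_option linter.unusedSectionVars false
set_option linter.unusedVariables false
set_option linter.overlappingInstances false

universe u v

open TensorProduct RingTheory.Sequence
open scoped Pointwise

namespace Groth.Agent.Lib.LeadNFlat

section krull
variable {B : Type u} [CommRing B] [IsNoetherianRing B] (X : Type v) [AddCommGroup X] [Module B X]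
  [Module.Finite B X] (f : B) (hf : f ∈ (⊥ : Ideal B).jacobson)

include hf in
/-- Krull: an element divisible by all powers of `f ∈ rad` is zero. -/
theorem eq_zero_of_forall_pow_dvd (x : X) (h : ∀ m : ℕ, ∃ y : X, x = f ^ m • y) : x = 0 := by
  have h1 : (⨅ i : ℕ, (Ideal.span {f}) ^ i • (⊤ : Submodule B X)) = ⊥ :=
    Ideal.iInf_pow_smul_eq_bot_of_le_jacobson (Ideal.span {f}) (by
      rw [Ideal.span_le]
      intro a ha
      rw [Set.mem_singleton_iff.mp ha]
      exact hf)
  have h2 : x ∈ (⨅ i : ℕ, (Ideal.span {f}) ^ i • (⊤ : Submodule B X)) := by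
    rw [Submodule.mem_iInf]
    intro m
    obtain ⟨y, rfl⟩ := h m
    exact Submodule.smul_mem_smul (Ideal.pow_mem_pow (Ideal.mem_span_singleton_self f) m) trivial
  rw [h1] at h2
  exact (Submodule.mem_bot B).mp h2

theorem mk_quotSMulTop_eq_zero_iff (y : X) :
    (Submodule.Quotient.mk y : QuotSMulTop f X) = 0 ↔ ∃ z : X, y = f • z := by
  rw [Submodule.Quotient.mk_eq_zero, Submodule.mem_smul_pointwise_iff_exists]
  constructor
  · rintro ⟨z, _, rfl⟩
    exact ⟨z, rfl⟩
  · rintro ⟨z, rfl⟩
    exact ⟨z, trivial, rfl⟩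

/-- regularity at a prime for powers -/
theorem exists_smul_eq_zero_of_pow (q : Ideal B) [q.IsPrime]
    (h : ∀ y : X, f • y = 0 → ∃ s : B, s ∉ q ∧ s • y = 0) :
    ∀ (m : ℕ) (y : X), f ^ m • y = 0 → ∃ s : B, s ∉ q ∧ s • y = 0 := by
  intro m
  induction m with
  | zero =>
    intro y hy
    rw [pow_zero, one_smul] at hy
    refine ⟨1, ?_, by rw [hy, smul_zero]⟩
    exact fun h1 => Ideal.IsPrime.ne_top' ((Ideal.eq_top_iff_one q).mpr h1)
  | succ m ih =>
    intro y hy
    rw [pow_succ', mul_smul] at hy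
    obtain ⟨s, hs, hsy⟩ := h _ hy
    rw [smul_comm] at hsy
    obtain ⟨s', hs', hsy'⟩ := ih _ hsy
    refine ⟨s' * s, ?_, by rw [mul_smul]; exact hsy'⟩
    intro hmem
    rcases Ideal.IsPrime.mem_or_mem ‹q.IsPrime› hmem with h1 | h1
    · exact hs' h1
    · exact hs h1

theorem exists_eq_smul_of_pow_smul_eq_zero
    (h : ∀ q ∈ associatedPrimes B (QuotSMulTop f X), ∀ y : X, f • y = 0 →
      ∃ s : B, s ∉ q ∧ s • y = 0) (m : ℕ) (y : X) (hy : f ^ m • y = 0) : ∃ z : X, y = f • z := by
  by_contra hcon
  have hne : (Submodule.Quotient.mk y : QuotSMulTop f X) ≠ 0 := by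
    rw [Ne, mk_quotSMulTop_eq_zero_iff]
    exact hcon
  obtain ⟨q, hq, hle⟩ := exists_le_isAssociatedPrime_of_isNoetherianRing (R := B) _ hne
  haveI : q.IsPrime := hq.isPrime
  obtain ⟨s, hs, hsy⟩ := exists_smul_eq_zero_of_pow X f q (h q hq) m y hy
  apply hs
  apply hle
  rw [Submodule.mem_colon_singleton, ← Submodule.Quotient.mk_smul, hsy, Submodule.Quotient.mk_zero]
  exact Submodule.zero_mem _

include hf in
/-- One-element step: `f` is `X`-regular if it is regular at all associated primes of `X/fX`. -/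
theorem isSMulRegular_of_regAtAss
    (h : ∀ q ∈ associatedPrimes B (QuotSMulTop f X), ∀ y : X, f • y = 0 →
      ∃ s : B, s ∉ q ∧ s • y = 0) : IsSMulRegular X f := by
  have key : ∀ (m j : ℕ) (x : X), f ^ j • x = 0 → ∃ y : X, x = f ^ m • y := by
    intro m
    induction m with
    | zero =>
      intro j x _
      exact ⟨x, by rw [pow_zero, one_smul]⟩
    | succ m ih =>
      intro j x hx
      obtain ⟨z, rfl⟩ := exists_eq_smul_of_pow_smul_eq_zero X f h j x hx
      have hz : f ^ (j + 1) • z = 0 := by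
        rw [pow_succ, mul_smul]
        exact hx
      obtain ⟨y, rfl⟩ := ih (j + 1) z hz
      exact ⟨y, by rw [pow_succ', mul_smul]⟩
  rw [isSMulRegular_iff_right_eq_zero_of_smul]
  intro x hx
  apply eq_zero_of_forall_pow_dvd X f hf x
  intro m
  exact key m 1 x (by rw [pow_one]; exact hx)

include hf in
/-- Chain lemma: for `f` regular on `P` and in the radical, every associated prime of `P` is contained
in an associated prime of `P/fP`. -/
theorem exists_le_assoc_quotSMulTop (hreg : IsSMulRegular X f) (q : Ideal B)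
    (hq : q ∈ associatedPrimes B X) :
    ∃ q' ∈ associatedPrimes B (QuotSMulTop f X), q ≤ q' := by
  classical
  rw [AssociatedPrimes.mem_iff, isAssociatedPrime_iff] at hq
  obtain ⟨hprime, x, hx⟩ := hq
  have hx0 : x ≠ 0 := by
    rintro rfl
    apply hprime.ne_top
    rw [hx, eq_top_iff]
    intro a _
    rw [Submodule.mem_colon_singleton, smul_zero]
    exact Submodule.zero_mem _
  have hex : ∃ m : ℕ, ¬ ∃ y : X, x = f ^ m • y := by
    by_contra hcon
    push Not at hcon
    exact hx0 (eq_zero_of_forall_pow_dvd X f hf x hcon)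
  have hm0 : Nat.find hex ≠ 0 := by
    intro h0
    have := Nat.find_spec hex
    rw [h0] at this
    exact this ⟨x, by rw [pow_zero, one_smul]⟩
  obtain ⟨m', hm'⟩ := Nat.exists_eq_succ_of_ne_zero hm0
  have h1 : ∃ y : X, x = f ^ m' • y := by
    have := Nat.find_min hex (m := m') (by omega)
    push Not at this
    exact this
  obtain ⟨y, hy⟩ := h1
  have hyne : (Submodule.Quotient.mk y : QuotSMulTop f X) ≠ 0 := by
    rw [Ne, mk_quotSMulTop_eq_zero_iff]
    rintro ⟨z, rfl⟩
    have := Nat.find_spec hex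
    rw [hm'] at this
    exact this ⟨z, by rw [hy, pow_succ, mul_smul]⟩
  obtain ⟨q', hq', hle⟩ := exists_le_isAssociatedPrime_of_isNoetherianRing (R := B) _ hyne
  refine ⟨q', hq', fun a ha => hle ?_⟩
  rw [hx, Submodule.mem_colon_singleton, Submodule.mem_bot] at ha
  rw [Submodule.mem_colon_singleton, Submodule.mem_bot, ← Submodule.Quotient.mk_smul]
  have h2 : f ^ m' • (a • y) = 0 := by
    rw [smul_comm, ← hy]
    exact ha
  have h3 : a • y = 0 := (hreg.pow m').right_eq_zero_of_smul h2
  rw [h3, Submodule.Quotient.mk_zero]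

end krull

section chain
variable {B : Type u} [CommRing B] [IsNoetherianRing B]

/-- Iterated chain lemma along a regular sequence. -/
theorem exists_le_assoc_sup_ofList (fs : List B) : ∀ (I : Ideal B),
    IsWeaklyRegular (B ⧸ I) fs → (∀ f ∈ fs, f ∈ (⊥ : Ideal B).jacobson) →
      ∀ q ∈ associatedPrimes B (B ⧸ I),
        ∃ p ∈ associatedPrimes B (B ⧸ (I ⊔ Ideal.ofList fs)), q ≤ p := by
  induction fs with
  | nil =>
    intro I _ _ q hq
    refine ⟨q, ?_, le_rfl⟩
    rw [Ideal.ofList_nil, sup_bot_eq]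
    exact hq
  | cons f fs ih =>
    intro I hreg hrad q hq
    obtain ⟨hf, hfs⟩ := isWeaklyRegular_Qf_of_cons I f fs hreg
    obtain ⟨q', hq', hle⟩ := exists_le_assoc_quotSMulTop (B ⧸ I) f
      (hrad f (List.mem_cons_self)) hf q hq
    rw [LinearEquiv.AssociatedPrimes.eq (quotSMulTopEquiv I f)] at hq'
    obtain ⟨p, hp, hle'⟩ := ih (Qf I f) hfs (fun g hg => hrad g (List.mem_cons_of_mem _ hg)) q' hq'
    rw [Qf_sup_ofList] at hp
    exact ⟨p, hp, hle.trans hle'⟩

end chain

end Groth.Agent.Lib.LeadNFlat
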