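import Groth.Agent.Lib.LeadNFlatF

/-!
# Flatness from flatness modulo a regular sequence and at the associated primes (lead)

`flat_of_flat_quotient_of_localizations`: `B` Noetherian, `fs` a `B`-regular sequence in the Jacobson
radical, `N` finite; if `N/(fs)N` is flat over `B/(fs)` and `N_p` is flat over `B_p` for all
`p ∈ Ass_B(B/(fs))`, then `N` is flat over `B`.
-/

set_option autoImplicit false
set_option maxHeartbeats 400000
set_option linter.style.haveILetI false
set_option linter.unusedSectionVars false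
set_option linter.unusedVariables false
set_option linter.overlappingInstances false

universe u v

open TensorProduct RingTheory.Sequence
open scoped Pointwise

namespace Groth.Agent.Lib.LeadNFlat

section quot
variable {B : Type u} [CommRing B] (I : Ideal B) (f : B) (N : Type v) [AddCommGroup N] [Module B N]

theorem smul_top_quot_eq_map :
    (f • (⊤ : Submodule B (N ⧸ (I • ⊤ : Submodule B N)))) =
      Submodule.map (I • ⊤ : Submodule B N).mkQ (f • (⊤ : Submodule B N)) := by
  rw [Submodule.map_pointwise_smul, Submodule.map_top, Submodule.range_mkQ]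

theorem smul_top_sup_smul_top :
    (I • ⊤ : Submodule B N) ⊔ f • (⊤ : Submodule B N) = (Qf I f • ⊤ : Submodule B N) := by
  rw [Submodule.sup_smul, Submodule.ideal_span_singleton_smul]

/-- `(N/IN)/f(N/IN) ≅ N/(I+(f))N`. -/
noncomputable def quotSMulTopQuotEquiv :
    QuotSMulTop f (N ⧸ (I • ⊤ : Submodule B N)) ≃ₗ[B] N ⧸ (Qf I f • ⊤ : Submodule B N) :=
  (Submodule.quotEquivOfEq _ _ (smul_top_quot_eq_map I f N)).trans
    ((Submodule.quotientQuotientEquivQuotientSup (I • ⊤ : Submodule B N)
      (f • (⊤ : Submodule B N))).trans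
      (Submodule.quotEquivOfEq _ _ (smul_top_sup_smul_top I f N)))

end quot

section loc
variable {B : Type u} [CommRing B] {N : Type v} [AddCommGroup N] [Module B N]

theorem exists_smul_mem_of_map_mem {S : Submonoid B} {N' : Type*} [AddCommGroup N'] [Module B N']
    (g : N →ₗ[B] N') [IsLocalizedModule S g] (J : Ideal B) (y : N)
    (hy : g y ∈ (J • ⊤ : Submodule B N')) : ∃ s ∈ S, s • y ∈ (J • ⊤ : Submodule B N) := by
  have key : ∀ n' ∈ (J • ⊤ : Submodule B N'),
      ∃ s ∈ S, ∃ z ∈ (J • ⊤ : Submodule B N), s • n' = g z := by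
    intro n' hn'
    refine Submodule.smul_induction_on hn' ?_ ?_
    · intro a ha n _
      obtain ⟨⟨m, t⟩, hmt⟩ := IsLocalizedModule.surj S g n
      refine ⟨t, t.2, a • m, Submodule.smul_mem_smul ha trivial, ?_⟩
      rw [map_smul, ← hmt, smul_comm]
      rfl
    · rintro n1 n2 ⟨s1, hs1, z1, hz1, e1⟩ ⟨s2, hs2, z2, hz2, e2⟩
      refine ⟨s1 * s2, S.mul_mem hs1 hs2, s2 • z1 + s1 • z2,
        add_mem (Submodule.smul_mem _ _ hz1) (Submodule.smul_mem _ _ hz2), ?_⟩
      rw [smul_add, map_add, map_smul, map_smul, ← e1, ← e2, mul_smul, mul_comm, mul_smul,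
        smul_comm s2 s1 n1, smul_comm s2 s1 n2]
  obtain ⟨s, hs, z, hz, e⟩ := key _ hy
  have h0 : g (s • y) = g z := by rw [map_smul]; exact e
  obtain ⟨t, ht⟩ := (IsLocalizedModule.eq_iff_exists S g).mp h0
  refine ⟨(t : B) * s, S.mul_mem t.2 hs, ?_⟩
  rw [mul_smul]
  have ht' : (t : B) • s • y = (t : B) • z := ht
  rw [ht']
  exact Submodule.smul_mem _ _ hz

/-- `f` is regular at `p` on `N/IN`. -/
def RegAtP (p : Ideal B) (N : Type v) [AddCommGroup N] [Module B N] (I : Ideal B) (f : B) : Prop :=
  ∀ y : N, f • y ∈ (I • ⊤ : Submodule B N) → ∃ s : B, s ∉ p ∧ s • y ∈ (I • ⊤ : Submodule B N)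

theorem RegAtP.mono {p q : Ideal B} (hqp : q ≤ p) {I : Ideal B} {f : B} (h : RegAtP p N I f) :
    RegAtP q N I f := by
  intro y hy
  obtain ⟨s, hs, hsy⟩ := h y hy
  exact ⟨s, fun hq => hs (hqp hq), hsy⟩

/-- the sequence `fs` is weakly regular at `p` on `N/IN` -/
def LocHyp (p : Ideal B) (N : Type v) [AddCommGroup N] [Module B N] (I : Ideal B) (fs : List B) :
    Prop :=
  ∀ (i : ℕ) (h : i < fs.length), RegAtP p N (I ⊔ Ideal.ofList (fs.take i)) fs[i]

theorem LocHyp.head {p : Ideal B} {I : Ideal B} {f : B} {fs : List B}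
    (h : LocHyp p N I (f :: fs)) : RegAtP p N I f := by
  have h0 := h 0 (by simp)
  simp only [List.take_zero, Ideal.ofList_nil, sup_bot_eq, List.getElem_cons_zero] at h0
  exact h0

theorem LocHyp.tail {p : Ideal B} {I : Ideal B} {f : B} {fs : List B}
    (h : LocHyp p N I (f :: fs)) : LocHyp p N (Qf I f) fs := by
  intro i hi
  have h0 := h (i + 1) (by simp; omega)
  simp only [List.take_succ_cons, List.getElem_cons_succ] at h0
  rw [← Qf_sup_ofList] at h0
  exact h0

theorem map_mem_smul_top {N' : Type*} [AddCommGroup N'] [Module B N'] (g : N →ₗ[B] N')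
    (J : Ideal B) {y : N} (hy : y ∈ (J • ⊤ : Submodule B N)) : g y ∈ (J • ⊤ : Submodule B N') := by
  have h1 : (J • ⊤ : Submodule B N).map g ≤ J • ⊤ := by
    rw [Submodule.map_smul'']
    exact Submodule.smul_mono le_rfl le_top
  exact h1 ⟨y, hy, rfl⟩

/-- from weak regularity on the localized module -/
theorem locHyp_of_isWeaklyRegular (p : Ideal B) [p.IsPrime] (fs : List B)
    (h : IsWeaklyRegular (LocalizedModule p.primeCompl N) fs) : LocHyp p N ⊥ fs := by
  intro i hi y hy
  rw [bot_sup_eq] at hy ⊢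
  have hreg := h.regular_mod_prev i hi
  have h1 := map_mem_smul_top (LocalizedModule.mkLinearMap p.primeCompl N) _ hy
  rw [map_smul] at h1
  have h2 : fs[i] • (Submodule.Quotient.mk (LocalizedModule.mkLinearMap p.primeCompl N y) :
      LocalizedModule p.primeCompl N ⧸
        (Ideal.ofList (fs.take i) • ⊤ : Submodule B (LocalizedModule p.primeCompl N))) = 0 := by
    rw [← Submodule.Quotient.mk_smul, Submodule.Quotient.mk_eq_zero]
    exact h1
  have h3 := hreg.right_eq_zero_of_smul h2
  rw [Submodule.Quotient.mk_eq_zero] at h3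
  obtain ⟨s, hs, hsy⟩ := exists_smul_mem_of_map_mem (S := p.primeCompl)
    (LocalizedModule.mkLinearMap p.primeCompl N) _ y h3
  exact ⟨s, hs, hsy⟩

/-- from flatness of the localized module -/
theorem locHyp_of_flat (p : Ideal B) [p.IsPrime] (fs : List B) (hreg : IsWeaklyRegular B fs)
    (h : Module.Flat (Localization.AtPrime p) (LocalizedModule p.primeCompl N)) :
    LocHyp p N ⊥ fs := by
  apply locHyp_of_isWeaklyRegular
  have h0 : IsWeaklyRegular (Localization.AtPrime p)
      (fs.map (algebraMap B (Localization.AtPrime p))) :=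
    hreg.of_isLocalization (Localization.AtPrime p) p.primeCompl
  have h1 : IsWeaklyRegular (LocalizedModule p.primeCompl N ⊗[Localization.AtPrime p]
      Localization.AtPrime p) (fs.map (algebraMap B (Localization.AtPrime p))) :=
    h0.isWeaklyRegular_lTensor
  have h2 : IsWeaklyRegular (LocalizedModule p.primeCompl N)
      (fs.map (algebraMap B (Localization.AtPrime p))) :=
    (LinearEquiv.isWeaklyRegular_congr (TensorProduct.rid _ _) _).mp h1
  exact (isWeaklyRegular_map_algebraMap_iff (Localization.AtPrime p) _ fs).mp h2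

end loc

end Groth.Agent.Lib.LeadNFlat
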