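import Groth.Agent.Lib.LeadNFlatG

/-!
# Flatness from flatness modulo a regular sequence and at the associated primes: main induction (lead)
-/

set_option autoImplicit false
set_option maxHeartbeats 400000
set_option linter.style.haveILetI false
set_option linter.unusedSectionVars false
set_option linter.unusedVariables false
set_option linter.overlappingInstances false

universe u v

open TensorProduct RingTheory.Sequence
open scoped Pointwise

namespace Groth.Agent.Lib.LeadNFlat

section main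
variable {B : Type u} [CommRing B] [IsNoetherianRing B] (N : Type u) [AddCommGroup N] [Module B N]
  [Module.Finite B N]

theorem assoc_quot_subset_of_flatMod (J : Ideal B) (h : FlatMod J N) :
    associatedPrimes B (N ⧸ (J • ⊤ : Submodule B N)) ⊆ associatedPrimes B (B ⧸ J) := by
  haveI : Module.Flat (B ⧸ J) (N ⧸ (J • ⊤ : Submodule B N)) := (flatMod_iff J).mp h
  haveI : Module.Finite (B ⧸ J) (N ⧸ (J • ⊤ : Submodule B N)) :=
    Module.Finite.of_restrictScalars_finite B _ _
  exact Groth.Agent.Lib.Helper5.associatedPrimes_subset_of_flat_of_finite J _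

/-- one step: regularity of `f` on `N/IN` -/
theorem isSMulRegular_quot_of_regAtP (I : Ideal B) (f : B) (hf : f ∈ (⊥ : Ideal B).jacobson)
    (h1 : FlatMod (Qf I f) N)
    (h : ∀ q ∈ associatedPrimes B (B ⧸ Qf I f), RegAtP q N I f) :
    IsSMulRegular (N ⧸ (I • ⊤ : Submodule B N)) f := by
  apply isSMulRegular_of_regAtAss _ f hf
  intro q hq y hy
  rw [LinearEquiv.AssociatedPrimes.eq (quotSMulTopQuotEquiv I f N)] at hq
  have hq' := assoc_quot_subset_of_flatMod N (Qf I f) h1 hq
  obtain ⟨y0, rfl⟩ := Submodule.Quotient.mk_surjective _ y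
  rw [← Submodule.Quotient.mk_smul, Submodule.Quotient.mk_eq_zero] at hy
  obtain ⟨s, hs, hsy⟩ := h q hq' y0 hy
  refine ⟨s, hs, ?_⟩
  rw [← Submodule.Quotient.mk_smul, Submodule.Quotient.mk_eq_zero]
  exact hsy

/-- local criterion, one element -/
theorem flatMod_of_isSMulRegular (I : Ideal B) (f : B) (hf : f ∈ (⊥ : Ideal B).jacobson)
    (hfB : IsSMulRegular (B ⧸ I) f) (h1 : FlatMod (Qf I f) N)
    (h2 : IsSMulRegular (N ⧸ (I • ⊤ : Submodule B N)) f) : FlatMod I N := by
  rw [flatMod_iff]
  have hQ : Qf I f = I ⊔ Ideal.ofList [f] := by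
    rw [Ideal.ofList_singleton]
  refine (Groth.Agent.Lib.Helper5.flat_quotient_iff_of_isWeaklyRegular I [f] ?_ ?_ N (Qf I f)
    hQ).mpr ⟨?_, ?_⟩
  · intro x hx
    rw [List.mem_singleton] at hx
    rw [hx]
    exact hf
  · rw [isWeaklyRegular_cons_iff]
    exact ⟨hfB, IsWeaklyRegular.nil _ _⟩
  · rw [← flatMod_iff, flatMod_quotient_iff (Qf I f) (le_Qf I f)]
    exact h1
  · rw [isWeaklyRegular_cons_iff]
    exact ⟨h2, IsWeaklyRegular.nil _ _⟩

/-- Main induction. -/
theorem flatMod_of_locHyp (fs : List B) : ∀ (I : Ideal B), IsWeaklyRegular (B ⧸ I) fs →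
    (∀ f ∈ fs, f ∈ (⊥ : Ideal B).jacobson) → FlatMod (I ⊔ Ideal.ofList fs) N →
      (∀ p ∈ associatedPrimes B (B ⧸ (I ⊔ Ideal.ofList fs)), LocHyp p N I fs) → FlatMod I N := by
  induction fs with
  | nil =>
    intro I _ _ h _
    rw [Ideal.ofList_nil, sup_bot_eq] at h
    exact h
  | cons f fs ih =>
    intro I hreg hrad hflat hloc
    obtain ⟨hf, hfs⟩ := isWeaklyRegular_Qf_of_cons I f fs hreg
    have hrad' : ∀ g ∈ fs, g ∈ (⊥ : Ideal B).jacobson := fun g hg =>
      hrad g (List.mem_cons_of_mem _ hg)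
    have hfrad : f ∈ (⊥ : Ideal B).jacobson := hrad f List.mem_cons_self
    rw [← Qf_sup_ofList] at hflat hloc
    have h1 : FlatMod (Qf I f) N := ih (Qf I f) hfs hrad' hflat (fun p hp => (hloc p hp).tail)
    have h2 : IsSMulRegular (N ⧸ (I • ⊤ : Submodule B N)) f := by
      apply isSMulRegular_quot_of_regAtP N I f hfrad h1
      intro q hq
      obtain ⟨p, hp, hle⟩ := exists_le_assoc_sup_ofList fs (Qf I f) hfs hrad' q hq
      exact (hloc p hp).head.mono hle
    exact flatMod_of_isSMulRegular N I f hfrad hf h1 h2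

/-- (∗∗): flatness from flatness modulo a regular sequence in the radical and flatness at the
associated primes of `B/(fs)`. -/
theorem flat_of_flat_quotient_of_localizations (fs : List B)
    (hrad : ∀ f ∈ fs, f ∈ (⊥ : Ideal B).jacobson) (hreg : IsWeaklyRegular B fs)
    (H1 : FlatMod (Ideal.ofList fs) N)
    (H2 : ∀ (p : Ideal B) [p.IsPrime], p ∈ associatedPrimes B (B ⧸ Ideal.ofList fs) →
      Module.Flat (Localization.AtPrime p) (LocalizedModule p.primeCompl N)) :
    Module.Flat B N := by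
  have hreg' : IsWeaklyRegular (B ⧸ (⊥ : Ideal B)) fs :=
    ((Submodule.quotEquivOfEqBot (⊥ : Ideal B) rfl).isWeaklyRegular_congr fs).mpr hreg
  have h := flatMod_of_locHyp N fs ⊥ hreg' hrad (by rw [bot_sup_eq]; exact H1) (by
    intro p hp
    rw [bot_sup_eq] at hp
    haveI : p.IsPrime := (AssociatedPrimes.mem_iff.mp hp).isPrime
    exact locHyp_of_flat p fs hreg (H2 p hp))
  -- FlatMod ⊥ N → Flat B N
  have h0 : ∀ J : Ideal B, J = ⊥ → FlatMod J N := by
    rintro _ rfl
    exact h
  exact (Groth.Agent.Lib.Helper5.flat_iff_flat_quotient_ofList_and_isWeaklyRegular ([] : List B)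
    (by simp) (IsWeaklyRegular.nil B B) N).mpr ⟨h0 _ Ideal.ofList_nil, IsWeaklyRegular.nil B N⟩

end main

end Groth.Agent.Lib.LeadNFlat
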