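import Groth.Agent.Lib.LeadNFlatH

/-!
# Hironaka's criterion: normal flatness along `R` versus along `R + (f₁,…,fₙ)` (lead)
-/

set_option autoImplicit false
set_option maxHeartbeats 400000
set_option linter.style.haveILetI false
set_option linter.unusedSectionVars false
set_option linter.unusedVariables false
set_option linter.overlappingInstances false

universe u v

open TensorProduct RingTheory.Sequence
open scoped Pointwise

namespace Groth.Agent.Lib.LeadNFlat

section ringchange
variable {A : Type u} [CommRing A] (R J : Ideal A) (N : Type v) [AddCommGroup N] [Module A N]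
  [Module (A ⧸ R) N] [IsScalarTower A (A ⧸ R) N]

theorem smul_eq_zero_of_mem {r : A} (hr : r ∈ R) (y : N) : r • y = 0 := by
  rw [← algebraMap_smul (A ⧸ R) r y]
  have : algebraMap A (A ⧸ R) r = 0 := Ideal.Quotient.eq_zero_iff_mem.mpr hr
  rw [this, zero_smul]

theorem restrictScalars_map_smul_top :
    ((J.map (Ideal.Quotient.mk R)) • ⊤ : Submodule (A ⧸ R) N).restrictScalars A =
      ((R ⊔ J) • ⊤ : Submodule A N) := by
  apply le_antisymm
  · intro y hy
    rw [Submodule.restrictScalars_mem] at hy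
    refine Submodule.smul_induction_on hy ?_ ?_
    · intro s' hs' y _
      obtain ⟨a, ha, rfl⟩ := (Ideal.mem_map_iff_of_surjective _
        Ideal.Quotient.mk_surjective).mp hs'
      have : (Ideal.Quotient.mk R a) • y = a • y := algebraMap_smul (A ⧸ R) a y
      rw [this]
      exact Submodule.smul_mem_smul (Ideal.mem_sup_right ha) Submodule.mem_top
    · intro y₁ y₂ h₁ h₂
      exact add_mem h₁ h₂
  · rw [Submodule.smul_le]
    intro a ha y _
    rw [Submodule.restrictScalars_mem]
    obtain ⟨r, hr, s, hs, rfl⟩ := Submodule.mem_sup.mp ha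
    rw [add_smul, smul_eq_zero_of_mem R N hr y, zero_add]
    have : s • y = (Ideal.Quotient.mk R s) • y := (algebraMap_smul (A ⧸ R) s y).symm
    rw [this]
    exact Submodule.smul_mem_smul (Ideal.mem_map_of_mem _ hs) Submodule.mem_top

/-- `N/(R+J)N` flat over `A/(R+J)` implies `N/J'N` flat over `(A/R)/J'`, `J' = J(A/R)`. -/
theorem flatMod_quotient_ring (h : FlatMod (R ⊔ J) N) :
    FlatMod (J.map (Ideal.Quotient.mk R)) N := by
  rw [flatMod_iff] at h ⊢
  obtain ⟨e, he⟩ := Groth.Agent.Lib.Helper5.exists_ringEquiv_quotQuot R J (R ⊔ J)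
    (J.map (Ideal.Quotient.mk R)) rfl rfl
  let φ : (N ⧸ ((R ⊔ J) • ⊤ : Submodule A N)) ≃+
      (N ⧸ ((J.map (Ideal.Quotient.mk R)) • ⊤ : Submodule (A ⧸ R) N)) :=
    ((Submodule.quotEquivOfEq _ _ (restrictScalars_map_smul_top R J N).symm).toAddEquiv).trans
      (Submodule.Quotient.restrictScalarsEquiv A _).toAddEquiv
  have hφmk : ∀ y : N, φ (Submodule.Quotient.mk y) = Submodule.Quotient.mk y := fun y => rfl
  refine Groth.Agent.Lib.Helper5.flat_of_ringEquiv_of_addEquiv e.symm φ ?_ h
  intro s m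
  obtain ⟨a, rfl⟩ := Ideal.Quotient.mk_surjective s
  obtain ⟨y, rfl⟩ := Submodule.Quotient.mk_surjective _ m
  have h1 : e.symm (Ideal.Quotient.mk (R ⊔ J) a) =
      Ideal.Quotient.mk _ (Ideal.Quotient.mk R a) := by
    rw [RingEquiv.symm_apply_eq, he]
  rw [h1, hφmk]
  have h2 : (Ideal.Quotient.mk (R ⊔ J) a) • (Submodule.Quotient.mk y :
      N ⧸ ((R ⊔ J) • ⊤ : Submodule A N)) = Submodule.Quotient.mk (a • y) :=
    Module.Quotient.mk_smul_mk _ _ a y
  rw [h2, hφmk]
  have h3 : (Ideal.Quotient.mk (J.map (Ideal.Quotient.mk R)) (Ideal.Quotient.mk R a)) •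
      (Submodule.Quotient.mk y : N ⧸ ((J.map (Ideal.Quotient.mk R)) • ⊤ : Submodule (A ⧸ R) N)) =
      Submodule.Quotient.mk ((Ideal.Quotient.mk R a) • y) :=
    Module.Quotient.mk_smul_mk _ _ _ y
  rw [h3]
  have : (Ideal.Quotient.mk R a) • y = a • y := algebraMap_smul (A ⧸ R) a y
  rw [this]

theorem mk_mem_jacobson_bot {a : A} (ha : a ∈ (⊥ : Ideal A).jacobson) :
    Ideal.Quotient.mk R a ∈ (⊥ : Ideal (A ⧸ R)).jacobson := by
  rw [Ideal.mem_jacobson_bot]
  intro y
  obtain ⟨y, rfl⟩ := Ideal.Quotient.mk_surjective y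
  have h1 := (Ideal.mem_jacobson_bot.mp ha) y
  have h2 := h1.map (Ideal.Quotient.mk R)
  simpa using h2

end ringchange

end Groth.Agent.Lib.LeadNFlat
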