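import Groth.Agent.Lib.LeadNFlatI

/-!
# Hironaka's criterion a) ⇔ d): assembly (lead)
-/

set_option autoImplicit false
set_option maxHeartbeats 400000
set_option linter.style.haveILetI false
set_option linter.unusedSectionVars false
set_option linter.unusedVariables false
set_option linter.overlappingInstances false

universe u v

open TensorProduct RingTheory.Sequence
open scoped Pointwise

namespace Groth.Agent.Lib.LeadNFlat

section hironaka
variable {A : Type u} [CommRing A] (R : Ideal A) {n : ℕ} (f : Fin n → A)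

theorem sup_span_range_eq :
    R ⊔ Ideal.span (Set.range f) = R ⊔ Ideal.ofList (List.ofFn f) := by
  rw [Groth.Agent.Lib.Helper5.ofList_ofFn]

theorem map_sup_span_range :
    Ideal.map (Ideal.Quotient.mk R) (R ⊔ Ideal.span (Set.range f)) =
      Ideal.ofList ((List.ofFn f).map (Ideal.Quotient.mk R)) := by
  rw [Ideal.map_sup, Ideal.map_quotient_self, bot_sup_eq, ← Groth.Agent.Lib.Helper5.ofList_ofFn,
    Ideal.map_ofList]

variable [IsNoetherianRing A] (hrad : ∀ i, f i ∈ (⊥ : Ideal A).jacobson)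
  (hreg : IsWeaklyRegular (A ⧸ R) (List.ofFn f))
  (M : Type u) [AddCommGroup M] [Module A M] [Module.Finite A M]

include hreg in
theorem hironaka_forward (h : EGA4.IsNormallyFlat R M) :
    EGA4.IsNormallyFlat (R ⊔ Ideal.span (Set.range f)) M ∧
      ∀ (p : Ideal (A ⧸ R)) [p.IsPrime], ∀ k : ℕ,
        Module.Flat (Localization.AtPrime p) (LocalizedModule p.primeCompl (Gr M R k)) := by
  refine ⟨?_, fun p _ k => ?_⟩
  · rw [sup_span_range_eq]
    exact isNormallyFlat_sup_ofList M R _ hreg h
  · haveI : Module.Flat (A ⧸ R) (Gr M R k) := h k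
    infer_instance

include hrad hreg in
theorem hironaka_backward (h1 : EGA4.IsNormallyFlat (R ⊔ Ideal.span (Set.range f)) M)
    (h2 : ∀ (p : Ideal (A ⧸ R)) [p.IsPrime],
      p ∈ associatedPrimes (A ⧸ R) ((A ⧸ R) ⧸ Ideal.map (Ideal.Quotient.mk R)
        (R ⊔ Ideal.span (Set.range f))) → ∀ k : ℕ,
        Module.Flat (Localization.AtPrime p) (LocalizedModule p.primeCompl (Gr M R k))) :
    EGA4.IsNormallyFlat R M := by
  rw [sup_span_range_eq] at h1
  rw [isNormallyFlat_iff] at h1 ⊢
  have hrad' : ∀ x ∈ (List.ofFn f).map (Ideal.Quotient.mk R),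
      x ∈ (⊥ : Ideal (A ⧸ R)).jacobson := by
    intro x hx
    obtain ⟨a, ha, rfl⟩ := List.mem_map.mp hx
    obtain ⟨i, rfl⟩ := (List.mem_ofFn' f a).mp ha
    exact mk_mem_jacobson_bot R (hrad i)
  have hreg' : IsWeaklyRegular (A ⧸ R) ((List.ofFn f).map (Ideal.Quotient.mk R)) :=
    (isWeaklyRegular_map_algebraMap_iff (A ⧸ R) (A ⧸ R) (List.ofFn f)).mpr hreg
  intro k
  induction k using Nat.strong_induction_on with
  | _ k ih =>
    have h3 : FlatMod (R ⊔ Ideal.ofList (List.ofFn f)) (Gr M R k) :=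
      flatMod_sup_ofList_of_lt M _ R hreg k ih (h1 k)
    have h4 : FlatMod ((Ideal.ofList (List.ofFn f)).map (Ideal.Quotient.mk R)) (Gr M R k) :=
      flatMod_quotient_ring R _ _ h3
    rw [Ideal.map_ofList] at h4
    haveI : Module.Finite (A ⧸ R) (Gr M R k) := Module.Finite.of_restrictScalars_finite A _ _
    have h5 : Module.Flat (A ⧸ R) (Gr M R k) :=
      flat_of_flat_quotient_of_localizations (Gr M R k) ((List.ofFn f).map (Ideal.Quotient.mk R))
        hrad' hreg' h4 (fun p _ hp => h2 p (by rw [map_sup_span_range]; exact hp) k)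
    exact (flat_Gr_iff M R k).mp h5

end hironaka

end Groth.Agent.Lib.LeadNFlat
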