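import Mathlib
import Groth.Agent.Lib.LeadNFl

/-!
# Normal flatness: the initial module is finitely generated when all truncations are flat (lead)
-/

set_option autoImplicit false
set_option maxHeartbeats 400000
set_option linter.style.haveILetI false
set_option linter.unusedSectionVars false
set_option linter.unusedVariables false

universe u v w

noncomputable section

namespace Groth.Agent.Lib.LeadNF

open MvPolynomial Groth.Agent.Lib.Helper3.FlatDesc Groth.Agent.Lib.Helper3.FlatOpen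

attribute [local instance] MvPolynomial.algebraMvPolynomial

section FG

variable {σ : Type} [Finite σ] {ι : Type} [Fintype ι] [DecidableEq ι] {κ : Type} [Fintype κ]
  (wt : σ → ℕ)
  (Λ : Type u) [CommRing Λ] [IsNoetherianRing Λ] (v : κ → ι → MvPolynomial σ Λ)
  (R : Type u) [CommRing R] [Algebra Λ R]

/-- Layer 1: the initial module at the top is generated by finitely many homogeneous elements
defined over the base. -/
theorem exists_WWP_eq_KV_of_base (c : ℕ)
    (hc : ∀ (K : Type u) [Field K] [Algebra Λ K], GenLE wt K (mapV Λ K v) c)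
    (hΛ : ∀ d ≤ c, Module.Flat Λ ((ι → MvPolynomial σ Λ) ⧸ KKP wt Λ v d))
    (hR : ∀ k, Module.Flat R ((ι → MvPolynomial σ R) ⧸ KKP wt R (mapV Λ R v) k)) :
    ∃ (r : ℕ) (g : Fin r → ι → MvPolynomial σ Λ), (∀ j, g j ∈ lowSet wt Λ v c) ∧
      WWP wt R (mapV Λ R v) = KV R (mapV Λ R g) := by
  classical
  obtain ⟨S, hSsub, hSspan⟩ := (Submodule.fg_span_iff_fg_span_finset_subset
    (lowSet wt Λ v c)).mp (IsNoetherian.noetherian
      (Submodule.span (MvPolynomial σ Λ) (lowSet wt Λ v c)))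
  let g : Fin S.card → ι → MvPolynomial σ Λ := fun j => (S.equivFin.symm j : ι → MvPolynomial σ Λ)
  have hgS : Set.range g = (S : Set (ι → MvPolynomial σ Λ)) := by
    ext x
    constructor
    · rintro ⟨j, rfl⟩
      exact (S.equivFin.symm j).2
    · intro hx
      exact ⟨S.equivFin ⟨x, hx⟩, by simp [g]⟩
  have hgl : ∀ j, g j ∈ lowSet wt Λ v c := fun j => hSsub (S.equivFin.symm j).2
  have hg : Submodule.span (MvPolynomial σ Λ) (lowSet wt Λ v c) ≤ KV Λ g := by
    rw [hSspan, KV, hgS]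
  refine ⟨S.card, g, hgl, ?_⟩
  apply le_antisymm (WWP_le_KV_top wt Λ v R c g hgl hg hc hΛ hR)
  rw [KV, Submodule.span_le]
  rintro _ ⟨j, rfl⟩
  exact FmT_mem_WWP wt Λ R v (hgl j).1

/-- **Finite generation of the initial module** when all truncations are flat. -/
theorem exists_WWP_eq_KV
    (hR : ∀ k, Module.Flat R ((ι → MvPolynomial σ R) ⧸ KKP wt R (mapV Λ R v) k)) :
    ∃ (r : ℕ) (g : Fin r → ι → MvPolynomial σ R), (∀ j, ∃ d, cmp wt R d (g j) = g j) ∧
      WWP wt R (mapV Λ R v) = KV R g := by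
  classical
  obtain ⟨c, hc⟩ := exists_fibre_bound wt Λ v
  obtain ⟨A₁, hA₁fg, -, hA₁fl⟩ :=
    exists_fg_subalgebra_flat_KKP wt Λ v R c (fun j _ => hR j) ∅
  haveI : Algebra.FiniteType Λ A₁ := (Subalgebra.fg_iff_finiteType A₁).mp hA₁fg
  haveI : IsNoetherianRing A₁ := Algebra.FiniteType.isNoetherianRing Λ A₁
  have hc' : ∀ (K : Type u) [Field K] [Algebra A₁ K],
      GenLE wt K (mapV A₁ K (mapV Λ A₁ v)) c := by
    intro K _ _
    letI : Algebra Λ K := ((algebraMap A₁ K).comp (algebraMap Λ A₁)).toAlgebra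
    haveI : IsScalarTower Λ A₁ K := IsScalarTower.of_algebraMap_eq (fun _ => rfl)
    rw [mapV_mapV Λ A₁ K v]
    exact hc K
  have hR' : ∀ k, Module.Flat R
      ((ι → MvPolynomial σ R) ⧸ KKP wt R (mapV A₁ R (mapV Λ A₁ v)) k) := by
    intro k
    rw [mapV_mapV Λ A₁ R v]
    exact hR k
  obtain ⟨r, g, hgl, hW⟩ :=
    exists_WWP_eq_KV_of_base wt A₁ (mapV Λ A₁ v) R c hc' hA₁fl hR'
  refine ⟨r, mapV A₁ R g, fun j => ?_, ?_⟩
  · obtain ⟨-, d, -, hd⟩ := hgl j
    refine ⟨d, ?_⟩
    change cmp wt R d (FmT A₁ R (g j)) = FmT A₁ R (g j)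
    rw [← FmT_cmp, hd]
  · rw [← hW, mapV_mapV Λ A₁ R v]

end FG

end Groth.Agent.Lib.LeadNF
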