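import Mathlib
import Groth.Agent.Lib.LeadNFm

/-!
# Normal flatness: the weight-zero retraction and the action of `B/J` on the graded module (lead)
-/

set_option autoImplicit false
set_option maxHeartbeats 400000
set_option linter.style.haveILetI false
set_option linter.unusedSectionVars false
set_option linter.unusedVariables false

universe u v w

noncomputable section

namespace Groth.Agent.Lib.LeadNF

open MvPolynomial

section Eps

variable {σ : Type*} (wt : σ → ℕ) (R : Type*) [CommRing R]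

/-- Set the variables of positive weight to zero. -/
def eps : MvPolynomial σ R →ₐ[R] MvPolynomial σ R :=
  aeval (fun s => if wt s = 0 then (X s : MvPolynomial σ R) else 0)

theorem eps_X_zero {s : σ} (hs : wt s = 0) : eps wt R (X s) = X s := by
  rw [eps, aeval_X, if_pos hs]

theorem eps_X_pos {s : σ} (hs : wt s ≠ 0) : eps wt R (X s) = 0 := by
  rw [eps, aeval_X, if_neg hs]

theorem eps_C (a : R) : eps wt R (C a) = C a := by
  rw [eps, aeval_C]
  rfl

theorem sub_eps_mem_II (hwt : ∀ s, wt s ≤ 1) (p : MvPolynomial σ R) :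
    p - eps wt R p ∈ II wt R := by
  induction p using MvPolynomial.induction_on with
  | C a => rw [eps_C, sub_self]; exact Submodule.zero_mem _
  | add p q hp hq =>
    rw [map_add, add_sub_add_comm]
    exact Submodule.add_mem _ hp hq
  | mul_X p s hp =>
    rw [map_mul]
    by_cases hs : wt s = 0
    · rw [eps_X_zero wt R hs, ← sub_mul]
      exact Ideal.mul_mem_right _ _ hp
    · rw [eps_X_pos wt R hs, mul_zero, sub_zero]
      have h1 : wt s = 1 := by
        have := hwt s
        omega
      exact Ideal.mul_mem_left _ _ (X_mem_II wt R h1)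

end Eps

section EpsFree

variable {σ : Type*} {ι : Type*} [Fintype ι] (wt : σ → ℕ) (R : Type*) [CommRing R]

theorem cmp_eps_smul (p : MvPolynomial σ R) :
    ∀ (d : ℕ) (x : ι → MvPolynomial σ R),
      cmp wt R d (eps wt R p • x) = eps wt R p • cmp wt R d x := by
  induction p using MvPolynomial.induction_on with
  | C a =>
    intro d x
    rw [eps_C, cmp_C_smul]
  | add p q hp hq =>
    intro d x
    rw [map_add, add_smul, map_add, hp, hq, add_smul]
  | mul_X p s hp =>
    intro d x
    rw [map_mul]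
    by_cases hs : wt s = 0
    · rw [eps_X_zero wt R hs, mul_smul, hp, cmp_X_smul, hs, if_pos (Nat.zero_le d), Nat.sub_zero,
        mul_smul]
    · rw [eps_X_pos wt R hs, mul_zero, zero_smul, zero_smul, map_zero]

theorem smul_mem_FilP_succ {t : MvPolynomial σ R} (ht : t ∈ II wt R) {d : ℕ}
    {y : ι → MvPolynomial σ R} (hy : y ∈ FilP wt R d) : t • y ∈ FilP wt R (d + 1) := by
  intro i
  have h1 : t ∈ filI wt R 1 := II_le_filI wt R ht
  have h2 := filI_mul_le wt R 1 d (Ideal.mul_mem_mul h1 (hy i))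
  rw [Nat.add_comm] at h2
  exact h2

variable {κ : Type*} (v : κ → ι → MvPolynomial σ R)

/-- If `𝔞` kills `F/K`, then `eps p` kills `F/in(K)` for every `p ∈ 𝔞 + II`. -/
theorem eps_smul_mem_WWP (hwt : ∀ s, wt s ≤ 1) (𝔞 : Ideal (MvPolynomial σ R))
    (h𝔞 : ∀ p ∈ 𝔞, ∀ x : ι → MvPolynomial σ R, p • x ∈ KV R v)
    {p : MvPolynomial σ R} (hp : p ∈ 𝔞 ⊔ II wt R) (x : ι → MvPolynomial σ R) :
    eps wt R p • x ∈ WWP wt R v := by
  have h1 : eps wt R p ∈ 𝔞 ⊔ II wt R := by
    have h2 : eps wt R p = p - (p - eps wt R p) := by ring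
    rw [h2]
    exact Submodule.sub_mem _ hp (Submodule.mem_sup_right (sub_eps_mem_II wt R hwt p))
  obtain ⟨a, ha, t, ht, hat⟩ := Submodule.mem_sup.mp h1
  rw [mem_WWP]
  intro d
  rw [cmp_eps_smul, ← hat, add_smul]
  refine Submodule.add_mem _ (Submodule.mem_sup_left (h𝔞 a ha _)) (Submodule.mem_sup_right ?_)
  refine smul_mem_FilP_succ wt R ht ?_
  rw [← Submodule.restrictScalars_mem R, FilP_restrictScalars]
  exact (polyGr wt R).c_mem_Fil d x

/-- The ideal generated by `eps (𝔞 + II)` kills `F/in(K)`. -/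
theorem smul_mem_WWP_of_mem_map (hwt : ∀ s, wt s ≤ 1) (𝔞 : Ideal (MvPolynomial σ R))
    (h𝔞 : ∀ p ∈ 𝔞, ∀ x : ι → MvPolynomial σ R, p • x ∈ KV R v)
    {q : MvPolynomial σ R} (hq : q ∈ Ideal.map (eps wt R).toRingHom (𝔞 ⊔ II wt R))
    (x : ι → MvPolynomial σ R) : q • x ∈ WWP wt R v := by
  rw [Ideal.map] at hq
  induction hq using Submodule.span_induction generalizing x with
  | mem y hy =>
    obtain ⟨p, hp, rfl⟩ := hy
    exact eps_smul_mem_WWP wt R v hwt 𝔞 h𝔞 hp x
  | zero => rw [zero_smul]; exact Submodule.zero_mem _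
  | add a b _ _ ha hb => rw [add_smul]; exact Submodule.add_mem _ (ha x) (hb x)
  | smul c a _ ha =>
    rw [smul_eq_mul, mul_smul]
    exact Submodule.smul_mem _ _ (ha x)

end EpsFree

end Groth.Agent.Lib.LeadNF
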