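import Mathlib
import Groth.Agent.Lib.LeadNFn

/-!
# Normal flatness: graded decompositions and flatness of localizations (lead)
-/

set_option autoImplicit false
set_option maxHeartbeats 400000
set_option linter.style.haveILetI false
set_option linter.unusedSectionVars false
set_option linter.unusedVariables false

universe u v w

noncomputable section

namespace Groth.Agent.Lib.LeadNF

open MvPolynomial TensorProduct Groth.Agent.Lib.Helper3.FlatLoc

namespace GrData

variable {T : Type*} [CommRing T] {X : Type*} [AddCommGroup X] [Module T X] (G : GrData T X)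

/-- The graded piece `X / ker c_d` embeds in `X`. -/
def pieceIncl (d : ℕ) : (X ⧸ LinearMap.ker (G.c d)) →ₗ[T] X :=
  (LinearMap.ker (G.c d)).liftQ (G.c d) le_rfl

theorem pieceIncl_mk (d : ℕ) (x : X) :
    G.pieceIncl d (Submodule.Quotient.mk x) = G.c d x := rfl

theorem pieceIncl_comp_mkQ (d : ℕ) :
    (G.pieceIncl d).comp (LinearMap.ker (G.c d)).mkQ = G.c d := by
  ext x
  rfl

theorem mkQ_comp_pieceIncl (d : ℕ) :
    (LinearMap.ker (G.c d)).mkQ.comp (G.pieceIncl d) = LinearMap.id := by
  ext x
  change Submodule.Quotient.mk (G.c d x) = Submodule.Quotient.mk x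
  rw [Submodule.Quotient.eq, LinearMap.mem_ker, map_sub, G.c_c_self, sub_self]

theorem exists_sum_rTensor {I : Type*} [AddCommGroup I] [Module T I] (z : X ⊗[T] I) :
    ∃ N, ∀ N', N ≤ N' → ∑ d ∈ Finset.range N', (G.c d).rTensor I z = z := by
  induction z with
  | zero => exact ⟨0, fun N' _ => by simp⟩
  | tmul x i =>
    refine ⟨G.bd x, fun N' hN' => ?_⟩
    simp only [LinearMap.rTensor_tmul]
    rw [← TensorProduct.sum_tmul, G.sum_c_of_le x hN']
  | add a b ha hb =>
    obtain ⟨Na, hNa⟩ := ha
    obtain ⟨Nb, hNb⟩ := hb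
    refine ⟨max Na Nb, fun N' hN' => ?_⟩
    simp only [map_add]
    rw [Finset.sum_add_distrib, hNa N' (le_trans (le_max_left _ _) hN'),
      hNb N' (le_trans (le_max_right _ _) hN')]

/-- **Flatness of a localization of a graded module is flatness of the localized pieces.** -/
theorem flat_localizedModule_iff_pieces (S : Submonoid T) :
    Module.Flat T (LocalizedModule S X) ↔
      ∀ d, Module.Flat T (LocalizedModule S (X ⧸ LinearMap.ker (G.c d))) := by
  constructor
  · intro h d
    refine Module.Flat.of_retract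
      ((LocalizedModule.map S (G.pieceIncl d)).restrictScalars T)
      ((LocalizedModule.map S (LinearMap.ker (G.c d)).mkQ).restrictScalars T) ?_
    ext y
    change LocalizedModule.map S (LinearMap.ker (G.c d)).mkQ
      (LocalizedModule.map S (G.pieceIncl d) y) = y
    induction y using LocalizedModule.induction_on with
    | h m s =>
      rw [LocalizedModule.map_mk, LocalizedModule.map_mk, ← LinearMap.comp_apply,
        G.mkQ_comp_pieceIncl d, LinearMap.id_apply]
  · intro h
    rw [flat_localizedModule_iff]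
    intro I hI z hz
    obtain ⟨N, hN⟩ := G.exists_sum_rTensor z
    have key : ∀ d, ∃ s ∈ S, s • (G.c d).rTensor I z = 0 := by
      intro d
      have hd := (flat_localizedModule_iff (R := T) (S := T)
        (M := X ⧸ LinearMap.ker (G.c d)) S).mp (h d) I hI
        ((LinearMap.ker (G.c d)).mkQ.rTensor I z) (by
          rw [← LinearMap.comp_apply, LinearMap.lTensor_comp_rTensor,
            ← LinearMap.rTensor_comp_lTensor, LinearMap.comp_apply, hz, map_zero])
      obtain ⟨s, hs, hsz⟩ := hd
      refine ⟨s, hs, ?_⟩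
      rw [← G.pieceIncl_comp_mkQ d, LinearMap.rTensor_comp, LinearMap.comp_apply, ← map_smul, hsz,
        map_zero]
    choose s hs hsz using key
    refine ⟨∏ d ∈ Finset.range N, s d, Submonoid.prod_mem S fun d _ => hs d, ?_⟩
    rw [← hN N le_rfl, Finset.smul_sum]
    refine Finset.sum_eq_zero fun d hd => ?_
    rw [← Finset.mul_prod_erase (Finset.range N) s hd, mul_comm, mul_smul, hsz, smul_zero]

end GrData

section GM

variable {σ : Type*} {ι : Type*} [Fintype ι] (wt : σ → ℕ) (R : Type*) [CommRing R]
  {κ : Type*} (v : κ → ι → MvPolynomial σ R)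

/-- The graded module `F / in(K)`. -/
abbrev GM : Type _ := (ι → MvPolynomial σ R) ⧸ WWP wt R v

/-- The components on `F / in(K)`, as `R`-linear maps. -/
def cGR (d : ℕ) : GM wt R v →ₗ[R] GM wt R v :=
  ((WWP wt R v).restrictScalars R).liftQ (((WWP wt R v).mkQ.restrictScalars R) ∘ₗ cmp wt R d)
    (by
      intro x hx
      rw [LinearMap.mem_ker, LinearMap.comp_apply, LinearMap.coe_restrictScalars,
        Submodule.mkQ_apply, Submodule.Quotient.mk_eq_zero]
      exact cmp_mem_WWP wt R v hx d) ∘ₗ
    (Submodule.Quotient.restrictScalarsEquiv R (WWP wt R v)).symm.toLinearMap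

theorem cGR_mk (d : ℕ) (y : ι → MvPolynomial σ R) :
    cGR wt R v d (Submodule.Quotient.mk y) = Submodule.Quotient.mk (cmp wt R d y) := rfl

variable (C₀ : Type*) [CommRing C₀] (ψ : MvPolynomial σ R →+* C₀)
  [Module C₀ (GM wt R v)]

/-- The components on `F / in(K)`, as `C₀`-linear maps. -/
def cG (hψ : Function.Surjective ψ)
    (hact : ∀ (p : MvPolynomial σ R) (x : GM wt R v), ψ p • x = eps wt R p • x) (d : ℕ) :
    GM wt R v →ₗ[C₀] GM wt R v where
  toFun := cGR wt R v d
  map_add' := map_add _
  map_smul' := by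
    intro c x
    obtain ⟨p, rfl⟩ := hψ c
    obtain ⟨y, rfl⟩ := Submodule.Quotient.mk_surjective _ x
    rw [RingHom.id_apply, hact, hact, ← Submodule.Quotient.mk_smul, cGR_mk, cGR_mk, cmp_eps_smul,
      Submodule.Quotient.mk_smul]

theorem cG_mk (hψ : Function.Surjective ψ)
    (hact : ∀ (p : MvPolynomial σ R) (x : GM wt R v), ψ p • x = eps wt R p • x) (d : ℕ)
    (y : ι → MvPolynomial σ R) :
    cG wt R v C₀ ψ hψ hact d (Submodule.Quotient.mk y) =
      Submodule.Quotient.mk (cmp wt R d y) := rfl

/-- The graded structure on `F / in(K)` over `C₀`. -/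
def grG (hψ : Function.Surjective ψ)
    (hact : ∀ (p : MvPolynomial σ R) (x : GM wt R v), ψ p • x = eps wt R p • x) :
    GrData C₀ (GM wt R v) where
  c := cG wt R v C₀ ψ hψ hact
  bd := fun x => (polyGr wt R).bd
    (Function.surjInv (Submodule.Quotient.mk_surjective (WWP wt R v)) x)
  c_c := by
    intro d e x
    obtain ⟨y, rfl⟩ := Submodule.Quotient.mk_surjective _ x
    rw [cG_mk, cG_mk]
    change Submodule.Quotient.mk ((polyGr wt R).c d ((polyGr wt R).c e y)) = _
    rw [(polyGr wt R).c_c]
    split_ifs
    · rfl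
    · rfl
  c_bd := by
    intro x d hd
    have hx := Function.surjInv_eq (Submodule.Quotient.mk_surjective (WWP wt R v)) x
    rw [← hx, cG_mk]
    change Submodule.Quotient.mk ((polyGr wt R).c d _) = 0
    rw [(polyGr wt R).c_bd _ d hd, Submodule.Quotient.mk_zero]
  sum_c := by
    intro x
    have hx := Function.surjInv_eq (Submodule.Quotient.mk_surjective (WWP wt R v)) x
    generalize Function.surjInv (Submodule.Quotient.mk_surjective (WWP wt R v)) x = y at hx ⊢
    subst hx
    simp only [cG_mk]
    conv_rhs => rw [← (polyGr wt R).sum_c y]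
    exact (map_sum (WWP wt R v).mkQ _ _).symm

end GM

end Groth.Agent.Lib.LeadNF
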