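import Mathlib
import Groth.Agent.Lib.LeadNFo

/-!
# Normal flatness: the graded pieces of the model are the pieces `J^d M / J^(d+1) M` (lead)
-/

set_option autoImplicit false
set_option maxHeartbeats 400000
set_option linter.style.haveILetI false
set_option linter.unusedSectionVars false
set_option linter.unusedVariables false

universe u v w

noncomputable section

namespace Groth.Agent.Lib.LeadNF

open MvPolynomial TensorProduct Groth.Agent.Lib.Helper3.FlatLoc

section Pieces

variable {σ : Type} [Finite σ] (wt : σ → ℕ)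
  {A : Type u} [CommRing A] {B : Type u} [CommRing B] [Algebra A B]
  [Algebra (MvPolynomial σ A) B] [IsScalarTower A (MvPolynomial σ A) B]
  (J : Ideal B)
  {M : Type u} [AddCommGroup M] [Module B M] [Module A M] [IsScalarTower A B M]
  [Module (MvPolynomial σ A) M] [IsScalarTower (MvPolynomial σ A) B M]
  [IsScalarTower A (MvPolynomial σ A) M]
  {ι : Type} [Fintype ι] [DecidableEq ι] {κ : Type} [Fintype κ]
  (v : κ → ι → MvPolynomial σ A)

/-- The graded piece `J^d M / J^(d+1) M`. -/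
abbrev Ngr (M : Type u) [AddCommGroup M] [Module B M] (d : ℕ) : Type u :=
  ↥(J ^ d • (⊤ : Submodule B M)) ⧸
    Submodule.comap (J ^ d • (⊤ : Submodule B M)).subtype (J ^ (d + 1) • ⊤)

/-- The presentation map `F → M`. -/
def piM (e : ((ι → MvPolynomial σ A) ⧸ KV A v) ≃ₗ[MvPolynomial σ A] M) :
    (ι → MvPolynomial σ A) →ₗ[MvPolynomial σ A] M :=
  e.toLinearMap ∘ₗ (KV A v).mkQ

theorem piM_surjective (e : ((ι → MvPolynomial σ A) ⧸ KV A v) ≃ₗ[MvPolynomial σ A] M) :
    Function.Surjective (piM v e) := by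
  intro m
  obtain ⟨n, rfl⟩ := e.surjective m
  obtain ⟨x, rfl⟩ := Submodule.mkQ_surjective _ n
  exact ⟨x, rfl⟩

theorem piM_eq_zero_iff (e : ((ι → MvPolynomial σ A) ⧸ KV A v) ≃ₗ[MvPolynomial σ A] M)
    (x : ι → MvPolynomial σ A) : piM v e x = 0 ↔ x ∈ KV A v := by
  change e (Submodule.Quotient.mk x) = 0 ↔ _
  rw [LinearEquiv.map_eq_zero_iff, Submodule.Quotient.mk_eq_zero]

variable (hwt : ∀ s, wt s ≤ 1)
  (hsurj : Function.Surjective (algebraMap (MvPolynomial σ A) B))
  (hJ : J = Ideal.map (algebraMap (MvPolynomial σ A) B) (II wt A))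
  (e : ((ι → MvPolynomial σ A) ⧸ KV A v) ≃ₗ[MvPolynomial σ A] M)

include hwt hsurj hJ in
theorem piM_mem_pow_iff (k : ℕ) (x : ι → MvPolynomial σ A) :
    piM v e x ∈ (J ^ k • ⊤ : Submodule B M) ↔ x ∈ KKP wt A v k := by
  rw [← ker_quotG wt A v hwt e k, LinearMap.mem_ker]
  change _ ↔ Submodule.Quotient.mk (piM v e x) = 0
  rw [Submodule.Quotient.mk_eq_zero, ← SetLike.mem_coe, ← SetLike.mem_coe (p := II wt A ^ k • ⊤),
    hJ, coe_map_pow_smul_top hsurj]

include hwt hsurj hJ in
theorem piM_cmp_mem (d : ℕ) (x : ι → MvPolynomial σ A) :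
    piM v e (cmp wt A d x) ∈ (J ^ d • ⊤ : Submodule B M) := by
  rw [piM_mem_pow_iff wt J v hwt hsurj hJ e]
  refine Submodule.mem_sup_right ?_
  rw [← Submodule.restrictScalars_mem A, FilP_restrictScalars]
  exact (polyGr wt A).c_mem_Fil d x

/-- The map `F → J^d M / J^(d+1) M`, `x ↦ class of π (x_d)`. -/
def PhiR (d : ℕ) : (ι → MvPolynomial σ A) →ₗ[A] Ngr J M d where
  toFun x := Submodule.Quotient.mk ⟨piM v e (cmp wt A d x), piM_cmp_mem wt J v hwt hsurj hJ e d x⟩
  map_add' x y := by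
    rw [← Submodule.Quotient.mk_add]
    congr 1
    apply Subtype.ext
    simp only [map_add, Submodule.coe_add]
  map_smul' a x := by
    rw [RingHom.id_apply, ← Submodule.Quotient.mk_smul]
    congr 1
    apply Subtype.ext
    rw [Submodule.coe_smul_of_tower]
    change piM v e (cmp wt A d (a • x)) = a • piM v e (cmp wt A d x)
    rw [map_smul, LinearMap.map_smul_of_tower]

theorem PhiR_apply (d : ℕ) (x : ι → MvPolynomial σ A) :
    PhiR wt J v hwt hsurj hJ e d x =
      Submodule.Quotient.mk ⟨piM v e (cmp wt A d x), piM_cmp_mem wt J v hwt hsurj hJ e d x⟩ :=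
  rfl

theorem PhiR_eq_zero_iff (d : ℕ) (x : ι → MvPolynomial σ A) :
    PhiR wt J v hwt hsurj hJ e d x = 0 ↔ cmp wt A d x ∈ KKP wt A v (d + 1) := by
  rw [PhiR_apply, Submodule.Quotient.mk_eq_zero, Submodule.mem_comap]
  exact piM_mem_pow_iff wt J v hwt hsurj hJ e (d + 1) _

theorem PhiR_surjective (d : ℕ) : Function.Surjective (PhiR wt J v hwt hsurj hJ e d) := by
  intro n
  obtain ⟨⟨m, hm⟩, rfl⟩ := Submodule.Quotient.mk_surjective _ n
  obtain ⟨x, rfl⟩ := piM_surjective v e m
  rw [piM_mem_pow_iff wt J v hwt hsurj hJ e] at hm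
  obtain ⟨a, ha, b, hb, rfl⟩ := Submodule.mem_sup.mp hm
  refine ⟨b, ?_⟩
  rw [PhiR_apply, Submodule.Quotient.eq, Submodule.mem_comap]
  change piM v e (cmp wt A d b) - piM v e (a + b) ∈ _
  have h1 : piM v e (cmp wt A d b) - piM v e (a + b) = piM v e (cmp wt A d b - b) := by
    rw [map_add, (piM_eq_zero_iff v e a).mpr ha, zero_add, map_sub]
  rw [h1, piM_mem_pow_iff wt J v hwt hsurj hJ e]
  refine Submodule.mem_sup_right ?_
  rw [← Submodule.restrictScalars_mem A, FilP_restrictScalars]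
  have hb' : b ∈ (polyGr wt A).Fil d := by
    rw [← FilP_restrictScalars]
    exact hb
  have := (polyGr wt A).sub_c_mem_Fil hb'
  rw [← Submodule.neg_mem_iff, neg_sub] at this
  exact this

theorem cmp_mem_WWP_iff (d : ℕ) (y : ι → MvPolynomial σ A) :
    cmp wt A d y ∈ WWP wt A v ↔ cmp wt A d y ∈ KKP wt A v (d + 1) := by
  constructor
  · intro h
    have := (mem_WWP wt A v).mp h d
    rwa [cmp_cmp_self] at this
  · intro h
    rw [mem_WWP]
    intro e'
    by_cases he : e' = d
    · subst he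
      rw [cmp_cmp_self]
      exact h
    · rw [cmp_cmp_ne wt A he]
      exact Submodule.zero_mem _

/-- The map `F / in(K) → J^d M / J^(d+1) M`, `A`-linear version. -/
def TdR (d : ℕ) : GM wt A v →ₗ[A] Ngr J M d :=
  ((WWP wt A v).restrictScalars A).liftQ (PhiR wt J v hwt hsurj hJ e d)
    (by
      intro x hx
      rw [LinearMap.mem_ker, PhiR_eq_zero_iff]
      exact (mem_WWP wt A v).mp hx d) ∘ₗ
    (Submodule.Quotient.restrictScalarsEquiv A (WWP wt A v)).symm.toLinearMap

theorem TdR_mk (d : ℕ) (y : ι → MvPolynomial σ A) :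
    TdR wt J v hwt hsurj hJ e d (Submodule.Quotient.mk y) = PhiR wt J v hwt hsurj hJ e d y := rfl

variable [Module (B ⧸ J) (GM wt A v)]
  (hact : ∀ (p : MvPolynomial σ A) (x : GM wt A v),
    ((Ideal.Quotient.mk J).comp (algebraMap (MvPolynomial σ A) B)) p • x = eps wt A p • x)
  [∀ d, Module (B ⧸ J) (Ngr J M d)]
  (hN : ∀ (d : ℕ) (b : B) (n : Ngr J M d), (Ideal.Quotient.mk J b) • n = b • n)

include hsurj in
theorem psi_surjective :
    Function.Surjective ((Ideal.Quotient.mk J).comp (algebraMap (MvPolynomial σ A) B)) :=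
  Ideal.Quotient.mk_surjective.comp hsurj

include hact hN in
/-- The map `F / in(K) → J^d M / J^(d+1) M`, `B/J`-linear. -/
def Td (d : ℕ) : GM wt A v →ₗ[B ⧸ J] Ngr J M d where
  toFun := TdR wt J v hwt hsurj hJ e d
  map_add' := map_add _
  map_smul' := by
    intro c x
    obtain ⟨p, rfl⟩ := psi_surjective J hsurj c
    obtain ⟨y, rfl⟩ := Submodule.Quotient.mk_surjective _ x
    rw [RingHom.id_apply, hact, ← Submodule.Quotient.mk_smul, TdR_mk, TdR_mk, RingHom.comp_apply,
      hN, PhiR_apply, PhiR_apply, ← Submodule.Quotient.mk_smul, Submodule.Quotient.eq,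
      Submodule.mem_comap]
    change piM v e (cmp wt A d (eps wt A p • y)) -
      algebraMap (MvPolynomial σ A) B p • piM v e (cmp wt A d y) ∈ _
    rw [cmp_eps_smul, algebraMap_smul, ← (piM v e).map_smul p, ← map_sub, ← sub_smul,
      piM_mem_pow_iff wt J v hwt hsurj hJ e]
    refine Submodule.mem_sup_right ?_
    have h1 : eps wt A p - p ∈ II wt A := by
      rw [← Submodule.neg_mem_iff, neg_sub]
      exact sub_eps_mem_II wt A hwt p
    refine smul_mem_FilP_succ wt A h1 ?_
    rw [← Submodule.restrictScalars_mem A, FilP_restrictScalars]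
    exact (polyGr wt A).c_mem_Fil d y

theorem Td_mk (d : ℕ) (y : ι → MvPolynomial σ A) :
    Td wt J v hwt hsurj hJ e hact hN d (Submodule.Quotient.mk y) =
      PhiR wt J v hwt hsurj hJ e d y := rfl

theorem Td_surjective (d : ℕ) : Function.Surjective (Td wt J v hwt hsurj hJ e hact hN d) := by
  intro n
  obtain ⟨x, rfl⟩ := PhiR_surjective wt J v hwt hsurj hJ e d n
  exact ⟨Submodule.Quotient.mk x, rfl⟩

theorem ker_Td (d : ℕ) :
    LinearMap.ker (Td wt J v hwt hsurj hJ e hact hN d) =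
      LinearMap.ker ((grG wt A v (B ⧸ J) _ (psi_surjective J hsurj) hact).c d) := by
  apply Submodule.ext
  intro x
  obtain ⟨y, rfl⟩ := Submodule.Quotient.mk_surjective _ x
  rw [LinearMap.mem_ker, LinearMap.mem_ker, Td_mk, PhiR_eq_zero_iff]
  change _ ↔ Submodule.Quotient.mk (cmp wt A d y) = 0
  rw [Submodule.Quotient.mk_eq_zero, cmp_mem_WWP_iff]

/-- The graded pieces of `F / in(K)` are the `J^d M / J^(d+1) M`. -/
def pieceEquiv (d : ℕ) :
    (GM wt A v ⧸ LinearMap.ker ((grG wt A v (B ⧸ J) _ (psi_surjective J hsurj) hact).c d))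
      ≃ₗ[B ⧸ J] Ngr J M d :=
  (Submodule.quotEquivOfEq _ _ (ker_Td wt J v hwt hsurj hJ e hact hN d).symm) ≪≫ₗ
    (Td wt J v hwt hsurj hJ e hact hN d).quotKerEquivOfSurjective
      (Td_surjective wt J v hwt hsurj hJ e hact hN d)

end Pieces

end Groth.Agent.Lib.LeadNF
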