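import Mathlib
import Groth.Agent.Lib.LeadNFp
import Groth.Agent.Lib.Helper3FlatLocC

/-!
# Normal flatness: comparison of localizations over `B` and over `B/J` (lead)
-/

set_option autoImplicit false
set_option maxHeartbeats 400000
set_option linter.style.haveILetI false
set_option linter.unusedSectionVars false
set_option linter.unusedVariables false

universe u v w

noncomputable section

namespace Groth.Agent.Lib.LeadNF

open TensorProduct

section LemmaT

variable {B : Type*} [CommRing B] (J : Ideal B)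

theorem exists_one_tmul {Z : Type*} [AddCommGroup Z] [Module B Z] (t : (B ⧸ J) ⊗[B] Z) :
    ∃ z : Z, t = (1 : B ⧸ J) ⊗ₜ[B] z := by
  induction t with
  | zero => exact ⟨0, (TensorProduct.tmul_zero _ _).symm⟩
  | tmul c z =>
    obtain ⟨b, rfl⟩ := Ideal.Quotient.mk_surjective c
    refine ⟨b • z, ?_⟩
    rw [← TensorProduct.smul_tmul, ← Algebra.algebraMap_eq_smul_one]
    rfl
  | add a b ha hb =>
    obtain ⟨za, rfl⟩ := ha
    obtain ⟨zb, rfl⟩ := hb
    exact ⟨za + zb, (TensorProduct.tmul_add _ _ _).symm⟩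

/-- `B/J ⊗_B Z ≃ Z'` for a `B`-linear bijection `Z ≃ Z'` onto a `B/J`-module. -/
def tensorQuotEquiv {Z Z' : Type*} [AddCommGroup Z] [Module B Z] [AddCommGroup Z'] [Module B Z']
    [Module (B ⧸ J) Z'] [IsScalarTower B (B ⧸ J) Z'] (g : Z ≃ₗ[B] Z') :
    (B ⧸ J) ⊗[B] Z ≃ₗ[B ⧸ J] Z' :=
  LinearEquiv.ofBijective (LinearMap.liftBaseChange (B ⧸ J) g.toLinearMap) (by
    constructor
    · rw [injective_iff_map_eq_zero]
      intro t ht
      obtain ⟨z, rfl⟩ := exists_one_tmul J t
      rw [LinearMap.liftBaseChange_tmul, one_smul] at ht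
      have hz : z = 0 := g.injective (by rw [map_zero]; exact ht)
      rw [hz, TensorProduct.tmul_zero]
    · intro z'
      refine ⟨(1 : B ⧸ J) ⊗ₜ[B] g.symm z', ?_⟩
      rw [LinearMap.liftBaseChange_tmul, one_smul]
      exact g.apply_symm_apply z')

variable {X : Type*} [AddCommGroup X] [Module B X] [Module (B ⧸ J) X] [IsScalarTower B (B ⧸ J) X]

theorem algebraMapSubmonoid_primeCompl_comap (q' : Ideal (B ⧸ J)) [q'.IsPrime] :
    Algebra.algebraMapSubmonoid (B ⧸ J) (q'.comap (Ideal.Quotient.mk J)).primeCompl =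
      q'.primeCompl := by
  ext x
  constructor
  · rintro ⟨b, hb, rfl⟩
    exact hb
  · intro hx
    obtain ⟨b, rfl⟩ := Ideal.Quotient.mk_surjective x
    exact ⟨b, hx, rfl⟩

/-- The localization of a `B/J`-module at a prime of `B/J` is its localization at the
corresponding prime of `B`. -/
def localizedModuleComapEquiv (q' : Ideal (B ⧸ J)) [q'.IsPrime] :
    LocalizedModule (q'.comap (Ideal.Quotient.mk J)).primeCompl X ≃ₗ[B]
      LocalizedModule q'.primeCompl X :=
  haveI : IsLocalizedModule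
      (Algebra.algebraMapSubmonoid (B ⧸ J) (q'.comap (Ideal.Quotient.mk J)).primeCompl)
      (LocalizedModule.mkLinearMap q'.primeCompl X) := by
    rw [algebraMapSubmonoid_primeCompl_comap]
    infer_instance
  haveI : IsLocalizedModule (q'.comap (Ideal.Quotient.mk J)).primeCompl
      ((LocalizedModule.mkLinearMap q'.primeCompl X).restrictScalars B) :=
    IsLocalizedModule.restrictScalars _ _
  IsLocalizedModule.linearEquiv (q'.comap (Ideal.Quotient.mk J)).primeCompl
    (LocalizedModule.mkLinearMap (q'.comap (Ideal.Quotient.mk J)).primeCompl X)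
    ((LocalizedModule.mkLinearMap q'.primeCompl X).restrictScalars B)

/-- **Lemma T**: flatness over `B/J` of `(B/J) ⊗_B X_q` is flatness of `X_{q/J}`. -/
theorem flat_tensor_localizedModule_iff (q' : Ideal (B ⧸ J)) [q'.IsPrime] :
    Module.Flat (B ⧸ J)
        ((B ⧸ J) ⊗[B] LocalizedModule (q'.comap (Ideal.Quotient.mk J)).primeCompl X) ↔
      Module.Flat (B ⧸ J) (LocalizedModule q'.primeCompl X) := by
  have e := tensorQuotEquiv J (localizedModuleComapEquiv J (X := X) q')
  exact ⟨fun h => Module.Flat.of_linearEquiv e.symm, fun h => Module.Flat.of_linearEquiv e⟩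

end LemmaT

section LemmaO

open Groth.Agent.Lib.Helper3.FlatOpen

variable {R P C₀ G : Type u} [CommRing R] [CommRing P] [CommRing C₀] [Algebra R P] [Algebra R C₀]
  [Algebra.FinitePresentation R P] [Algebra.FiniteType R C₀]
  (ψ : P →ₐ[R] C₀) (hψ : Function.Surjective ψ) (ε : P →ₐ[R] P) (𝔫 : Ideal P) (h𝔫 : 𝔫.FG)
  (hε : ∀ p, ψ p = 0 → ε p ∈ 𝔫)
  [AddCommGroup G] [Module P G] [Module.FinitePresentation P G]
  (hkill : ∀ p ∈ 𝔫, ∀ x : G, p • x = 0)

include hψ h𝔫 hε hkill in
/-- **Lemma O**: a finitely presented `P`-module killed by `𝔫`, with the action of `C₀ = ψ(P)`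
twisted by `ε`, has an open flat locus over `C₀`. -/
theorem exists_module_isOpen_flatLocus :
    ∃ (_ : Module C₀ G), (∀ (p : P) (x : G), ψ p • x = ε p • x) ∧
      IsOpen {q : PrimeSpectrum C₀ |
        Module.Flat C₀ (LocalizedModule q.asIdeal.primeCompl G)} := by
  have htors : Module.IsTorsionBySet P G (𝔫 : Set P) := by
    intro x a
    exact hkill a.1 a.2 x
  letI modC : Module (P ⧸ 𝔫) G := htors.module
  haveI towC : IsScalarTower P (P ⧸ 𝔫) G := htors.isScalarTower
  have hmk : ∀ (p : P) (x : G), (Ideal.Quotient.mk 𝔫 p) • x = p • x := fun p x => rfl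
  let ρ : C₀ →+* P ⧸ 𝔫 := RingHom.liftOfSurjective ψ.toRingHom hψ
    ⟨(Ideal.Quotient.mk 𝔫).comp ε.toRingHom, by
      intro p hp
      rw [RingHom.mem_ker] at hp ⊢
      rw [RingHom.comp_apply, Ideal.Quotient.eq_zero_iff_mem]
      exact hε p hp⟩
  have hρ : ∀ p : P, ρ (ψ p) = Ideal.Quotient.mk 𝔫 (ε p) := fun p =>
    RingHom.liftOfSurjective_comp_apply ψ.toRingHom hψ _ p
  letI algC : Algebra C₀ (P ⧸ 𝔫) := ρ.toAlgebra
  letI modC₀ : Module C₀ G := Module.compHom G ρ
  have hact : ∀ (p : P) (x : G), ψ p • x = ε p • x := by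
    intro p x
    change ρ (ψ p) • x = _
    rw [hρ, hmk]
  refine ⟨modC₀, hact, ?_⟩
  haveI : IsScalarTower R C₀ (P ⧸ 𝔫) := by
    refine IsScalarTower.of_algebraMap_eq fun r => ?_
    change _ = ρ (algebraMap R C₀ r)
    rw [← ψ.commutes r, hρ, ε.commutes]
    rfl
  haveI : Algebra.FinitePresentation R (P ⧸ 𝔫) := Algebra.FinitePresentation.quotient h𝔫
  haveI : Algebra.FinitePresentation C₀ (P ⧸ 𝔫) :=
    Algebra.FinitePresentation.of_restrict_scalars_finitePresentation R C₀ (P ⧸ 𝔫)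
  haveI : IsScalarTower C₀ (P ⧸ 𝔫) G := by
    refine ⟨fun c₀ c x => ?_⟩
    change (ρ c₀ * c) • x = ρ c₀ • (c • x)
    rw [mul_smul]
  haveI : Module.FinitePresentation (P ⧸ 𝔫) G :=
    Module.FinitePresentation.of_equiv (tensorQuotEquiv 𝔫 (LinearEquiv.refl P G))
  exact isOpen_flatLocus_over_base (A := C₀) (B := C₀) (C := P ⧸ 𝔫) G

end LemmaO

end Groth.Agent.Lib.LeadNF
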