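import Mathlib
import Groth.Agent.Lib.LeadNFq

/-!
# Normal flatness: openness of the normally flat locus (lead)
-/

set_option autoImplicit false
set_option maxHeartbeats 400000
set_option linter.style.haveILetI false
set_option linter.unusedSectionVars false
set_option linter.unusedVariables false

universe u v w

noncomputable section

namespace Groth.Agent.Lib.LeadNF

open MvPolynomial TensorProduct Groth.Agent.Lib.Helper3.FlatDesc Groth.Agent.Lib.Helper3.FlatOpen
  Groth.Agent.Lib.Helper3.FlatLoc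

attribute [local instance] MvPolynomial.algebraMvPolynomial

section Core

variable {σ : Type} [Finite σ] (wt : σ → ℕ)
  {A : Type u} [CommRing A] {B : Type u} [CommRing B] [Algebra A B]
  [Algebra (MvPolynomial σ A) B] [IsScalarTower A (MvPolynomial σ A) B]
  (J : Ideal B)
  {M : Type u} [AddCommGroup M] [Module B M] [Module A M] [IsScalarTower A B M]
  [Module (MvPolynomial σ A) M] [IsScalarTower (MvPolynomial σ A) B M]
  [IsScalarTower A (MvPolynomial σ A) M]
  {ι : Type} [Fintype ι] [DecidableEq ι] {κ : Type} [Fintype κ]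
  (v : κ → ι → MvPolynomial σ A)
  (hwt : ∀ s, wt s ≤ 1)
  (hsurj : Function.Surjective (algebraMap (MvPolynomial σ A) B))
  (hJ : J = Ideal.map (algebraMap (MvPolynomial σ A) B) (II wt A))
  (e : ((ι → MvPolynomial σ A) ⧸ KV A v) ≃ₗ[MvPolynomial σ A] M)

theorem II_fg : (II wt A).FG := by
  rw [II]
  exact Submodule.fg_span (Set.Finite.image _ (Set.toFinite _))

theorem isTorsionBySet_Ngr (d : ℕ) : Module.IsTorsionBySet B (Ngr J M d) (J : Set B) := by
  intro n a
  obtain ⟨⟨m, hm⟩, rfl⟩ := Submodule.Quotient.mk_surjective _ n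
  rw [← Submodule.Quotient.mk_smul, Submodule.Quotient.mk_eq_zero, Submodule.mem_comap]
  change (a : B) • m ∈ _
  rw [pow_succ', mul_smul]
  exact Submodule.smul_mem_smul a.2 hm

include hwt hsurj hJ e in
/-- Openness of the normally flat locus, given finite generation of the initial module. -/
theorem isOpen_normallyFlat_locus_of_fg
    (hker : (RingHom.ker (algebraMap (MvPolynomial σ A) B)).FG) (hW : (WWP wt A v).FG) :
    IsOpen {q : PrimeSpectrum B | J ≤ q.asIdeal → ∀ k : ℕ,
      Module.Flat (B ⧸ J) ((B ⧸ J) ⊗[B] LocalizedModule q.asIdeal.primeCompl (Ngr J M k))} := by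
  classical
  let ψ : MvPolynomial σ A →ₐ[A] B ⧸ J :=
    (Ideal.Quotient.mkₐ A J).comp (IsScalarTower.toAlgHom A (MvPolynomial σ A) B)
  have hψ : Function.Surjective ψ := fun c => psi_surjective J hsurj c
  have hψ0 : ∀ p, ψ p = 0 → algebraMap (MvPolynomial σ A) B p ∈ J := fun p hp =>
    Ideal.Quotient.eq_zero_iff_mem.mp hp
  set 𝔞 : Ideal (MvPolynomial σ A) := RingHom.ker (algebraMap (MvPolynomial σ A) B) with h𝔞def
  set 𝔫 : Ideal (MvPolynomial σ A) := Ideal.map (eps wt A).toRingHom (𝔞 ⊔ II wt A) with h𝔫def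
  have h𝔫 : 𝔫.FG := Ideal.FG.map (Submodule.FG.sup hker (II_fg wt)) _
  have h𝔞 : ∀ p ∈ 𝔞, ∀ x : ι → MvPolynomial σ A, p • x ∈ KV A v := by
    intro p hp x
    rw [← piM_eq_zero_iff v e, map_smul, ← algebraMap_smul B p, (RingHom.mem_ker).mp hp,
      zero_smul]
  have hε : ∀ p, ψ p = 0 → eps wt A p ∈ 𝔫 := by
    intro p hp
    refine Ideal.mem_map_of_mem _ ?_
    have h1 := hψ0 p hp
    rw [hJ] at h1
    have h2 : p ∈ Ideal.comap (algebraMap (MvPolynomial σ A) B)
        (Ideal.map (algebraMap (MvPolynomial σ A) B) (II wt A)) := h1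
    rw [Ideal.comap_map_of_surjective _ hsurj, sup_comm] at h2
    exact h2
  have hkill : ∀ p ∈ 𝔫, ∀ x : GM wt A v, p • x = 0 := by
    intro p hp x
    obtain ⟨y, rfl⟩ := Submodule.Quotient.mk_surjective _ x
    rw [← Submodule.Quotient.mk_smul, Submodule.Quotient.mk_eq_zero]
    exact smul_mem_WWP_of_mem_map wt A v hwt 𝔞 h𝔞 hp y
  haveI : Module.FinitePresentation (MvPolynomial σ A) (GM wt A v) :=
    Module.finitePresentation_of_surjective (WWP wt A v).mkQ (Submodule.mkQ_surjective _)
      (by rw [Submodule.ker_mkQ]; exact hW)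
  haveI : Algebra.FiniteType A B :=
    Algebra.FiniteType.of_surjective (IsScalarTower.toAlgHom A (MvPolynomial σ A) B) hsurj
  haveI : Algebra.FiniteType A (B ⧸ J) :=
    Algebra.FiniteType.of_surjective (Ideal.Quotient.mkₐ A J) (Ideal.Quotient.mkₐ_surjective A J)
  obtain ⟨modG, hact, hopen⟩ := exists_module_isOpen_flatLocus ψ hψ (eps wt A) 𝔫 h𝔫 hε
    (G := GM wt A v) hkill
  letI := modG
  letI modN : ∀ d, Module (B ⧸ J) (Ngr J M d) := fun d => (isTorsionBySet_Ngr J (M := M) d).module
  haveI towN : ∀ d, IsScalarTower B (B ⧸ J) (Ngr J M d) := fun d =>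
    (isTorsionBySet_Ngr J (M := M) d).isScalarTower
  have hN : ∀ (d : ℕ) (b : B) (n : Ngr J M d), (Ideal.Quotient.mk J b) • n = b • n :=
    fun d b n => rfl
  have hact' : ∀ (p : MvPolynomial σ A) (x : GM wt A v),
      ((Ideal.Quotient.mk J).comp (algebraMap (MvPolynomial σ A) B)) p • x = eps wt A p • x := hact
  have hcmp : ∀ q' : PrimeSpectrum (B ⧸ J),
      Module.Flat (B ⧸ J) (LocalizedModule q'.asIdeal.primeCompl (GM wt A v)) ↔
      ∀ d, Module.Flat (B ⧸ J) ((B ⧸ J) ⊗[B] LocalizedModule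
        (PrimeSpectrum.comap (Ideal.Quotient.mk J) q').asIdeal.primeCompl (Ngr J M d)) := by
    intro q'
    rw [(grG wt A v (B ⧸ J) _ (psi_surjective J hsurj) hact').flat_localizedModule_iff_pieces
      q'.asIdeal.primeCompl]
    refine forall_congr' fun d => ?_
    refine Iff.trans ?_ (flat_tensor_localizedModule_iff J (X := Ngr J M d) q'.asIdeal).symm
    exact ⟨flat_localizedModule_of_linearEquiv (pieceEquiv wt J v hwt hsurj hJ e hact' hN d) _,
      flat_localizedModule_of_linearEquiv (pieceEquiv wt J v hwt hsurj hJ e hact' hN d).symm _⟩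
  have hcl := (PrimeSpectrum.isClosedEmbedding_comap_of_surjective (B ⧸ J) (Ideal.Quotient.mk J)
    Ideal.Quotient.mk_surjective).isClosedMap _ hopen.isClosed_compl
  rw [← isClosed_compl_iff]
  convert hcl using 1
  ext q
  simp only [Set.mem_compl_iff, Set.mem_ofPred_eq, Set.mem_image]
  constructor
  · intro h
    push Not at h
    obtain ⟨hq, hk⟩ := h
    have hq' : q ∈ Set.range (PrimeSpectrum.comap (Ideal.Quotient.mk J)) := by
      rw [_root_.range_comap_of_surjective _ _ Ideal.Quotient.mk_surjective,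
        Ideal.mk_ker, PrimeSpectrum.mem_zeroLocus]
      exact hq
    obtain ⟨q', rfl⟩ := hq'
    refine ⟨q', fun hfl => ?_, rfl⟩
    obtain ⟨k, hk⟩ := hk
    exact hk ((hcmp q').mp hfl k)
  · rintro ⟨q', hq', rfl⟩ h
    refine hq' ((hcmp q').mpr (h ?_))
    intro b hb
    change Ideal.Quotient.mk J b ∈ q'.asIdeal
    rw [Ideal.Quotient.eq_zero_iff_mem.mpr hb]
    exact Submodule.zero_mem _

include hwt hsurj hJ in
/-- Openness of the normally flat locus, polynomial presentation form. -/
theorem isOpen_normallyFlat_locus_of_presentation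
    (hker : (RingHom.ker (algebraMap (MvPolynomial σ A) B)).FG)
    [Module.FinitePresentation (MvPolynomial σ A) M]
    (hgrM : ∀ k : ℕ, Module.Flat A (Ngr J M k)) :
    IsOpen {q : PrimeSpectrum B | J ≤ q.asIdeal → ∀ k : ℕ,
      Module.Flat (B ⧸ J) ((B ⧸ J) ⊗[B] LocalizedModule q.asIdeal.primeCompl (Ngr J M k))} := by
  classical
  obtain ⟨k, m, Λ, hΛ, v, ⟨e⟩⟩ := exists_rows (R := A) (σ := σ) M
  haveI : Algebra.FiniteType ℤ Λ := (Subalgebra.fg_iff_finiteType Λ).mp hΛ
  haveI : IsNoetherianRing Λ := Algebra.FiniteType.isNoetherianRing ℤ Λ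
  have hflR : ∀ j, Module.Flat A ((Fin k → MvPolynomial σ A) ⧸ KKP wt A (mapV Λ A v) j) :=
    fun j => (flat_KKP_iff_flat_quot wt J (mapV Λ A v) hwt hsurj hJ e j).mpr
      (flat_quot_pow_of_gr J hgrM j)
  obtain ⟨r, g, -, hW⟩ := exists_WWP_eq_KV wt Λ v A hflR
  refine isOpen_normallyFlat_locus_of_fg wt J (mapV Λ A v) hwt hsurj hJ e hker ?_
  rw [hW, KV]
  exact Submodule.fg_span (Set.finite_range g)

end Core

section Final

/-- **Openness of the normally flat locus** (EGA IV 6.10.x, non-Noetherian finitely presented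
form), when the associated graded module is flat over the base. -/
theorem isOpen_normallyFlat_locus {A B : Type u} [CommRing A] [CommRing B] [Algebra A B]
    [Algebra.FinitePresentation A B] (J : Ideal B) (hJ : J.FG)
    (M : Type u) [AddCommGroup M] [Module B M] [Module A M] [IsScalarTower A B M]
    [Module.FinitePresentation B M]
    (hgrM : ∀ k : ℕ, Module.Flat A
      (↥(J ^ k • (⊤ : Submodule B M)) ⧸
        Submodule.comap (J ^ k • (⊤ : Submodule B M)).subtype (J ^ (k + 1) • ⊤))) :
    IsOpen {q : PrimeSpectrum B | J ≤ q.asIdeal → ∀ k : ℕ,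
      Module.Flat (B ⧸ J) ((B ⧸ J) ⊗[B] LocalizedModule q.asIdeal.primeCompl
        (↥(J ^ k • (⊤ : Submodule B M)) ⧸
          Submodule.comap (J ^ k • (⊤ : Submodule B M)).subtype (J ^ (k + 1) • ⊤)))} := by
  obtain ⟨n, r, f, hf, hker, hJf⟩ := exists_presentation_with_ideal A B J hJ
  letI : Algebra (MvPolynomial (Fin n ⊕ Fin r) A) B := f.toRingHom.toAlgebra
  haveI : IsScalarTower A (MvPolynomial (Fin n ⊕ Fin r) A) B :=
    .of_algebraMap_eq' f.comp_algebraMap.symm
  letI : Module (MvPolynomial (Fin n ⊕ Fin r) A) M := Module.compHom M f.toRingHom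
  haveI : IsScalarTower (MvPolynomial (Fin n ⊕ Fin r) A) B M :=
    ⟨fun p s m => by
      change (f p * s) • m = f p • (s • m)
      rw [mul_smul]⟩
  haveI : IsScalarTower A (MvPolynomial (Fin n ⊕ Fin r) A) M :=
    ⟨fun r p m => by
      change f (r • p) • m = r • (f p • m)
      rw [map_smul, smul_assoc]⟩
  haveI : Module.FinitePresentation (MvPolynomial (Fin n ⊕ Fin r) A) B :=
    Module.finitePresentation_of_surjective
      (Algebra.linearMap (MvPolynomial (Fin n ⊕ Fin r) A) B) hf hker
  haveI : Module.FinitePresentation (MvPolynomial (Fin n ⊕ Fin r) A) M :=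
    Module.FinitePresentation.trans (MvPolynomial (Fin n ⊕ Fin r) A) M B
  exact isOpen_normallyFlat_locus_of_presentation (wtSum n r) J (wtSum_le_one n r) hf hJf hker hgrM

end Final

end Groth.Agent.Lib.LeadNF
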