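import Groth.Agent.Lib.LeadFH1
import Mathlib.RingTheory.Valuation.LocalSubring
import Mathlib.RingTheory.Valuation.Extension

set_option autoImplicit false
set_option maxHeartbeats 400000
set_option linter.style.haveILetI false
set_option linter.unusedSectionVars false
set_option linter.unusedVariables false

/-! Integral closure of (the image of) `O_P` in a finite extension, subring form, weak base. -/

namespace Groth.Agent.Lib.LeadNST

open FunFld WithZero Groth.Agent.Lib.LeadFG

section A

variable {k K E : Type*} [Field k] [Field K] [Field E] [Algebra k K] [Algebra K E]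
  [Algebra k E] [IsScalarTower k K E]

/-- image of the valuation ring of `P` in `E`. -/
abbrev OE (E : Type*) [Field E] [Algebra K E] (P : Place k K) : Subring E :=
  P.O.toSubring.map (algebraMap K E)

lemma mem_OE {P : Place k K} {x : K} (hx : P.1 x ≤ 1) : algebraMap K E x ∈ OE E P :=
  ⟨x, hx, rfl⟩

lemma OE_le {Q : Place k E} {P : Place k K} (h : IsOver Q P) : OE E P ≤ Q.O.toSubring := by
  rintro _ ⟨x, hx, rfl⟩
  obtain ⟨e, he⟩ := h
  have hx' : P.1 x ≤ 1 := hx
  show Q.1 (algebraMap K E x) ≤ 1
  rw [he x]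
  exact pow_le_one' hx' e

/-- an element integral over a subring of a valuation ring lies in the valuation ring. -/
lemma val_le_one_of_isIntegral_subring {B : Subring E} (Q : Place k E) (hB : B ≤ Q.O.toSubring)
    {y : E} (hy : IsIntegral B y) : Q.1 y ≤ 1 := by
  let ι : B →+* Q.O := (B.subtype).codRestrict Q.O.toSubring (fun x => hB x.2)
  have h1 : IsIntegral Q.O y := by
    obtain ⟨p, hp, hpy⟩ := hy
    refine ⟨p.map ι, hp.map _, ?_⟩
    rw [Polynomial.eval₂_map]
    exact hpy
  obtain ⟨z, hz⟩ := (IsIntegrallyClosed.isIntegral_iff (R := Q.O) (K := E)).mp h1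
  rw [← hz]
  exact z.2

lemma isIntegral_mono {B B' : Subring E} (h : B ≤ B') {y : E} (hy : IsIntegral B y) :
    IsIntegral B' y := by
  obtain ⟨p, hp, hpy⟩ := hy
  refine ⟨p.map (Subring.inclusion h), hp.map _, ?_⟩
  rw [Polynomial.eval₂_map]
  exact hpy

theorem val_le_one_of_isIntegral_OE {Q : Place k E} {P : Place k K} (h : IsOver Q P) {y : E}
    (hy : IsIntegral (OE E P) y) : Q.1 y ≤ 1 :=
  val_le_one_of_isIntegral_subring Q (OE_le h) hy

theorem isIntegral_of_forall_over [FiniteDimensional K E] (hK : IsFF k K) (P : Place k K) {y : E}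
    (hy : ∀ Q : Place k E, IsOver Q P → Q.1 y ≤ 1) : IsIntegral (OE E P) y := by
  by_contra hni
  have hyR : y ∉ (integralClosure (OE E P) E).toSubring := hni
  obtain ⟨V, hRV, hyV⟩ := Subring.exists_le_valuationSubring_of_isIntegrallyClosedIn hyR
  have hOV : ∀ x : K, P.1 x ≤ 1 → algebraMap K E x ∈ V := by
    intro x hx
    apply hRV
    exact (integralClosure (OE E P) E).algebraMap_mem ⟨algebraMap K E x, mem_OE hx⟩
  have hy0 : y ≠ 0 := by rintro rfl; exact hyV V.zero_mem
  have hyinv : V.valuation y⁻¹ < 1 := by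
    have h1 : ¬ V.valuation y ≤ 1 := fun h => hyV ((V.valuation_le_one_iff y).mp h)
    rw [not_le] at h1
    rw [map_inv₀]
    exact inv_lt_one_of_one_lt₀ h1
  have hk : TrivOn k V.valuation := by
    intro c hc
    have h1 : algebraMap k E c ∈ V := by
      rw [IsScalarTower.algebraMap_apply k K E]; exact hOV _ (P.2.1 c)
    have h2 : algebraMap k E c⁻¹ ∈ V := by
      rw [IsScalarTower.algebraMap_apply k K E]; exact hOV _ (P.2.1 _)
    have h1' := (V.valuation_le_one_iff _).mpr h1
    have h2' := (V.valuation_le_one_iff _).mpr h2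
    rw [map_inv₀, map_inv₀] at h2'
    have hne : V.valuation (algebraMap k E c) ≠ 0 :=
      (Valuation.ne_zero_iff _).mpr (by rwa [Ne, map_eq_zero])
    exact le_antisymm h1' ((inv_le_one₀ (zero_lt_iff.mpr hne)).mp h2')
  obtain ⟨Q', hQ'⟩ := exists_place_of_valuation (LeadFH.isFF_of_finite hK) hk
    (inv_ne_zero hy0) hyinv
  have hQV : ∀ z : E, Q'.1 z ≤ 1 ↔ z ∈ V := by
    intro z
    have := hQ' z 1
    rw [map_one, map_one] at this
    rw [this, V.valuation_le_one_iff]
  obtain ⟨P', e, he0, he⟩ := LeadFH.exists_below hK Q'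
  have hPP' : P = P' := by
    apply place_eq_of_le
    intro x hx
    have h1 : Q'.1 (algebraMap K E x) ≤ 1 := (hQV _).mpr (hOV x hx)
    rw [he] at h1
    exact (pow_le_one_iff he0.ne').mp h1
  subst hPP'
  exact hyV ((hQV y).mp (hy Q' ⟨e, he⟩))

end A

end Groth.Agent.Lib.LeadNST
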