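import Mathlib

set_option autoImplicit false
set_option maxHeartbeats 400000
set_option linter.style.haveILetI false
set_option linter.unusedSectionVars false
set_option linter.unusedVariables false

/-! Constant field extensions `K₂ = k₂ ⊗ K₁`: the `K₁`-basis of `K₂` coming from a basis of
`k₂/k₁`, and the coordinate description of `S[k₂]`. -/

namespace Groth.Agent.Lib.LeadNST

open TensorProduct

section B

variable {k₁ k₂ K₁ K₂ : Type*} [Field k₁] [Field k₂] [Field K₁] [Field K₂]
  [Algebra k₁ k₂] [Algebra k₁ K₁] [Algebra K₁ K₂] [Algebra k₂ K₂] [Algebra k₁ K₂]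
  [IsScalarTower k₁ k₂ K₂] [IsScalarTower k₁ K₁ K₂]

variable (k₁ k₂ K₁ K₂) in
/-- the `K₁`-linear comparison map `K₁ ⊗ k₂ → K₂`. -/
noncomputable def psi : K₁ ⊗[k₁] k₂ →ₐ[K₁] K₂ :=
  Algebra.TensorProduct.productLeftAlgHom (Algebra.ofId K₁ K₂) (IsScalarTower.toAlgHom k₁ k₂ K₂)

lemma psi_tmul (a : K₁) (c : k₂) :
    psi k₁ k₂ K₁ K₂ (a ⊗ₜ c) = algebraMap K₁ K₂ a * algebraMap k₂ K₂ c := rfl

lemma psi_bijective
    (h : Function.Bijective (Algebra.TensorProduct.productMap
      (IsScalarTower.toAlgHom k₁ k₂ K₂) (IsScalarTower.toAlgHom k₁ K₁ K₂))) :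
    Function.Bijective (psi k₁ k₂ K₁ K₂) := by
  have : ⇑(psi k₁ k₂ K₁ K₂) = ⇑(Algebra.TensorProduct.productMap
      (IsScalarTower.toAlgHom k₁ k₂ K₂) (IsScalarTower.toAlgHom k₁ K₁ K₂)) ∘
      ⇑(Algebra.TensorProduct.comm k₁ K₁ k₂) := by
    funext w
    induction w using TensorProduct.induction_on with
    | zero => simp
    | tmul a c =>
      rw [Function.comp_apply, psi_tmul, Algebra.TensorProduct.comm_tmul,
        Algebra.TensorProduct.productMap_apply_tmul, mul_comm]
      rfl
    | add x y hx hy =>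
      rw [map_add, hx, hy, Function.comp_apply, Function.comp_apply, Function.comp_apply,
        map_add, map_add]
  rw [this]
  exact h.comp (AlgEquiv.bijective _)

/-- the `K₁`-basis of `K₂` induced by a `k₁`-basis of `k₂`. -/
noncomputable def basisK
    (h : Function.Bijective (Algebra.TensorProduct.productMap
      (IsScalarTower.toAlgHom k₁ k₂ K₂) (IsScalarTower.toAlgHom k₁ K₁ K₂)))
    {ι : Type*} (b : Module.Basis ι k₁ k₂) : Module.Basis ι K₁ K₂ :=
  (Algebra.TensorProduct.basis K₁ b).map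
    (LinearEquiv.ofBijective (psi k₁ k₂ K₁ K₂).toLinearMap (psi_bijective h))

variable (h : Function.Bijective (Algebra.TensorProduct.productMap
      (IsScalarTower.toAlgHom k₁ k₂ K₂) (IsScalarTower.toAlgHom k₁ K₁ K₂)))
  {ι : Type*} (b : Module.Basis ι k₁ k₂)

lemma basisK_apply (i : ι) : basisK h b i = algebraMap k₂ K₂ (b i) := by
  rw [basisK, Module.Basis.map_apply, Algebra.TensorProduct.basis_apply]
  show psi k₁ k₂ K₁ K₂ (1 ⊗ₜ b i) = _
  rw [psi_tmul, map_one, one_mul]

lemma basisK_repr_algebraMap (c : k₂) (i : ι) :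
    (basisK h b).repr (algebraMap k₂ K₂ c) i = algebraMap k₁ K₁ (b.repr c i) := by
  have h1 : algebraMap k₂ K₂ c =
      (LinearEquiv.ofBijective (psi k₁ k₂ K₁ K₂).toLinearMap (psi_bijective h)) (1 ⊗ₜ c) := by
    show _ = psi k₁ k₂ K₁ K₂ (1 ⊗ₜ c)
    rw [psi_tmul, map_one, one_mul]
  rw [basisK, Module.Basis.map_repr, LinearEquiv.trans_apply, h1, LinearEquiv.symm_apply_apply,
    Algebra.TensorProduct.basis_repr_tmul, one_smul, Finsupp.mapRange_apply]


variable [Fintype ι]

/-- coordinate description of `S[k₂]` for a subring `S ⊇ k₁` of `K₁`. -/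
theorem mem_adjoin_iff (S : Subring K₁) (hS : ∀ c : k₁, algebraMap k₁ K₁ c ∈ S) (z : K₂) :
    z ∈ Algebra.adjoin (S.map (algebraMap K₁ K₂)) (Set.range (algebraMap k₂ K₂)) ↔
      ∀ i, (basisK h b).repr z i ∈ S := by
  classical
  constructor
  · intro hz
    induction hz using Algebra.adjoin_induction with
    | mem x hx =>
      obtain ⟨c, rfl⟩ := hx
      intro i
      rw [basisK_repr_algebraMap]
      exact hS _
    | algebraMap r =>
      obtain ⟨_, ⟨s, hs, rfl⟩⟩ := r
      intro i
      have h1 : (algebraMap (S.map (algebraMap K₁ K₂)) K₂ ⟨algebraMap K₁ K₂ s, ⟨s, hs, rfl⟩⟩) =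
          s • (algebraMap k₂ K₂ 1) := by
        rw [map_one, Algebra.smul_def, mul_one]
        rfl
      rw [h1, map_smul, Finsupp.smul_apply, basisK_repr_algebraMap, smul_eq_mul]
      exact S.mul_mem hs (hS _)
    | add x y _ _ hx hy =>
      intro i
      rw [map_add, Finsupp.add_apply]
      exact S.add_mem (hx i) (hy i)
    | mul x y _ _ hx hy =>
      intro l
      have hxs := (basisK h b).sum_repr x
      have hys := (basisK h b).sum_repr y
      have hprod : x * y = ∑ i, ∑ j, ((basisK h b).repr x i * (basisK h b).repr y j) •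
          (algebraMap k₂ K₂ (b i * b j)) := by
        conv_lhs => rw [← hxs, ← hys]
        rw [Finset.sum_mul_sum]
        refine Finset.sum_congr rfl fun i _ => Finset.sum_congr rfl fun j _ => ?_
        rw [basisK_apply, basisK_apply, map_mul, Algebra.smul_def, Algebra.smul_def,
          Algebra.smul_def, map_mul]
        ring
      rw [hprod, map_sum, Finsupp.coe_finsetSum, Finset.sum_apply]
      refine S.sum_mem fun i _ => ?_
      rw [map_sum, Finsupp.coe_finsetSum, Finset.sum_apply]
      refine S.sum_mem fun j _ => ?_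
      rw [map_smul, Finsupp.smul_apply, basisK_repr_algebraMap, smul_eq_mul]
      exact S.mul_mem (S.mul_mem (hx i) (hy j)) (hS _)
  · intro hz
    rw [← (basisK h b).sum_repr z]
    refine Subalgebra.sum_mem _ fun i _ => ?_
    rw [basisK_apply, Algebra.smul_def]
    refine Subalgebra.mul_mem _ ?_ (Algebra.subset_adjoin ⟨b i, rfl⟩)
    exact Subalgebra.algebraMap_mem _
      (⟨algebraMap K₁ K₂ ((basisK h b).repr z i), ⟨_, hz i, rfl⟩⟩ : S.map (algebraMap K₁ K₂))

end B

end Groth.Agent.Lib.LeadNST
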