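import Groth.Agent.Lib.LeadNST1
import Groth.Agent.Lib.LeadNST2

set_option autoImplicit false
set_option maxHeartbeats 400000
set_option linter.style.haveILetI false
set_option linter.unusedSectionVars false
set_option linter.unusedVariables false

/-! Nonsingularity of a place under a tower of constant field extensions: auxiliary lemmas. -/

namespace Groth.Agent.Lib.LeadNST

open FunFld WithZero Groth.Agent.Lib.LeadFG

section C

variable {k K E : Type*} [Field k] [Field K] [Field E] [Algebra k K] [Algebra K E]
  [Algebra k E] [IsScalarTower k K E]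

/-- elements integral over `k` are integral over the image of `O_P`. -/
lemma isIntegral_OE_of_isIntegral (P : Place k K) {z : E} (hz : IsIntegral k z) :
    IsIntegral (OE E P) z := by
  obtain ⟨p, hp, hpz⟩ := hz
  let ι : k →+* OE E P := (algebraMap k E).codRestrict (OE E P) (fun c => by
    rw [IsScalarTower.algebraMap_apply k K E]
    exact mem_OE (P.2.1 c))
  refine ⟨p.map ι, hp.map _, ?_⟩
  rw [Polynomial.eval₂_map]
  exact hpz

end C

section D

variable {k K K' K'' : Type*} [Field k] [Field K] [Field K'] [Field K'']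
  [Algebra k K] [Algebra K K'] [Algebra k K'] [IsScalarTower k K K']
  [Algebra K' K''] [Algebra k K''] [Algebra K K''] [IsScalarTower K K' K'']
  [IsScalarTower k K K'']

variable (k K K' K'') in
include K in
lemma isScalarTower_mid : IsScalarTower k K' K'' := by
  apply IsScalarTower.of_algebraMap_eq
  intro c
  rw [IsScalarTower.algebraMap_apply k K K'', IsScalarTower.algebraMap_apply K K' K'',
    ← IsScalarTower.algebraMap_apply k K K']

/-- integrality over the image of `O_P` passes to the bigger field. -/
lemma isIntegral_OE_map (P : Place k K) {y : K'} (hy : IsIntegral (OE K' P) y) :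
    IsIntegral (OE K'' P) (algebraMap K' K'' y) := by
  obtain ⟨p, hp, hpy⟩ := hy
  let g : OE K' P →+* OE K'' P :=
    ((algebraMap K' K'').comp (OE K' P).subtype).codRestrict (OE K'' P) (fun x => by
      obtain ⟨_, ⟨a, ha, rfl⟩⟩ := x
      show algebraMap K' K'' (algebraMap K K' a) ∈ OE K'' P
      rw [← IsScalarTower.algebraMap_apply K K' K'']
      exact ⟨a, ha, rfl⟩)
  refine ⟨p.map g, hp.map _, ?_⟩
  rw [Polynomial.eval₂_map]
  have h1 : (algebraMap (OE K'' P) K'').comp g = (algebraMap K' K'').comp (algebraMap (OE K' P) K') :=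
    rfl
  rw [h1, ← Polynomial.hom_eval₂, hpy, map_zero]

lemma OE_le_OE {Q : Place k K'} {P : Place k K} (hQ : IsOver Q P) :
    haveI := isScalarTower_mid k K K' K''
    OE K'' P ≤ OE K'' Q := by
  rintro _ ⟨x, hx, rfl⟩
  rw [IsScalarTower.algebraMap_apply K K' K'']
  obtain ⟨e, he⟩ := hQ
  refine ⟨algebraMap K K' x, ?_, rfl⟩
  have hx' : P.1 x ≤ 1 := hx
  show Q.1 (algebraMap K K' x) ≤ 1
  rw [he x]
  exact pow_le_one' hx' e

end D

end Groth.Agent.Lib.LeadNST
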