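import Groth.Agent.Lib.LeadNST3

set_option autoImplicit false
set_option maxHeartbeats 800000
set_option linter.style.haveILetI false
set_option linter.unusedSectionVars false
set_option linter.unusedVariables false

/-! Nonsingularity of a place under a tower of constant field extensions. -/

universe u v

namespace Groth.Agent.Lib.LeadNST

open FunFld WithZero Groth.Agent.Lib.LeadFG

lemma integralClosure_eq_adjoin_iff {E : Type*} [Field E] (B : Subring E) (X : Set E)
    (hX : ∀ x ∈ X, IsIntegral B x) :
    integralClosure B E = Algebra.adjoin B X ↔ ∀ z : E, IsIntegral B z → z ∈ Algebra.adjoin B X := by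
  constructor
  · intro h z hz
    rw [← h]; exact hz
  · intro h
    apply le_antisymm
    · intro z hz; exact h z hz
    · exact Algebra.adjoin_le hX

/-- some `n` with `v ≤ exp n`. -/
lemma exists_nat_exp_ge (γ : WithZero (Multiplicative ℤ)) : ∃ n : ℕ, γ ≤ exp (n : ℤ) := by
  induction γ using WithZero.expRecOn with
  | zero => exact ⟨0, zero_le⟩
  | exp a => exact ⟨a.toNat, exp_le_exp.mpr (Int.self_le_toNat a)⟩

section E

variable (k k' k'' : Type u) (K K' K'' : Type v) [Field k] [Field k'] [Field k''] [Field K]
    [Field K'] [Field K'']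
    [Algebra k k'] [Algebra k' k''] [Algebra k k''] [IsScalarTower k k' k'']
    [FiniteDimensional k k'] [FiniteDimensional k' k'']
    [Algebra k K] [Algebra K K'] [Algebra k' K'] [Algebra k K'] [IsScalarTower k k' K']
    [IsScalarTower k K K']
    [Algebra K' K''] [Algebra k'' K''] [Algebra k' K''] [Algebra k K''] [Algebra K K'']
    [IsScalarTower k' k'' K''] [IsScalarTower k' K' K''] [IsScalarTower K K' K'']
    [IsScalarTower k K K'']

theorem nonsingular_tower
    (h1 : Function.Bijective (Algebra.TensorProduct.productMap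
      (IsScalarTower.toAlgHom k k' K') (IsScalarTower.toAlgHom k K K')))
    (h2 : Function.Bijective (Algebra.TensorProduct.productMap
      (IsScalarTower.toAlgHom k' k'' K'') (IsScalarTower.toAlgHom k' K' K'')))
    (hK : FunFld.IsFunctionField k K) (P : FunFld.Place k K) :
    (integralClosure (OE K'' P) K'' =
        Algebra.adjoin (OE K'' P) (Set.range (algebraMap k'' K''))) ↔
      (integralClosure (OE K' P) K' =
          Algebra.adjoin (OE K' P) (Set.range (algebraMap k' K')) ∧
        ∀ Q : FunFld.Place k K', FunFld.IsOver Q P →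
          integralClosure (OE K'' Q) K'' =
            Algebra.adjoin (OE K'' Q) (Set.range (algebraMap k'' K''))) := by
  classical
  haveI hmid : IsScalarTower k K' K'' := isScalarTower_mid k K K' K''
  have hKff : IsFF k K := IsFF.of_isFunctionField hK
  set Bk := basisK h1 (Module.finBasis k k') with hBk
  set C := basisK h2 (Module.finBasis k' k'') with hC
  haveI : FiniteDimensional K K' := Module.Finite.of_basis Bk
  haveI : FiniteDimensional K' K'' := Module.Finite.of_basis C
  haveI : FiniteDimensional K K'' := Module.Finite.trans K' K''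
  have hK'ff : IsFF k K' := LeadFH.isFF_of_finite hKff
  -- integrality of constants
  have hintk' : ∀ c : k', IsIntegral k (algebraMap k' K' c) := fun c =>
    (Algebra.IsIntegral.isIntegral (R := k) c).map (IsScalarTower.toAlgHom k k' K')
  have hintk''k' : ∀ c : k'', IsIntegral k' (algebraMap k'' K'' c) := fun c =>
    (Algebra.IsIntegral.isIntegral (R := k') c).map (IsScalarTower.toAlgHom k' k'' K'')
  haveI : IsScalarTower k k' K'' := by
    apply IsScalarTower.of_algebraMap_eq
    intro c
    rw [IsScalarTower.algebraMap_apply k K' K'', IsScalarTower.algebraMap_apply k k' K',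
      ← IsScalarTower.algebraMap_apply k' K' K'']
  have hintk'' : ∀ c : k'', IsIntegral k (algebraMap k'' K'' c) := fun c =>
    isIntegral_trans (R := k) (A := k') _ (hintk''k' c)
  -- the subring `O_P[k']`
  set S' : Subring K' :=
    (Algebra.adjoin (OE K' P) (Set.range (algebraMap k' K'))).toSubring with hS'
  have hS'k : ∀ c : k', algebraMap k' K' c ∈ S' := fun c => Algebra.subset_adjoin ⟨c, rfl⟩
  have hS'O : ∀ x : K, P.1 x ≤ 1 → algebraMap K K' x ∈ S' := fun x hx =>
    Subalgebra.algebraMap_mem _ (⟨algebraMap K K' x, mem_OE hx⟩ : OE K' P)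
  have hS'int : ∀ s ∈ S', IsIntegral (OE K' P) s := by
    intro s hs
    have hle : Algebra.adjoin (OE K' P) (Set.range (algebraMap k' K')) ≤
        integralClosure (OE K' P) K' := by
      refine Algebra.adjoin_le ?_
      rintro _ ⟨c, rfl⟩
      exact isIntegral_OE_of_isIntegral P (hintk' c)
    exact hle hs
  -- comparison of the two descriptions of `O_P[k'']`
  have hinner : ∀ s : K', s ∈ Algebra.adjoin (OE K' P) (Set.range (algebraMap k' K')) →
      algebraMap K' K'' s ∈ Algebra.adjoin (OE K'' P) (Set.range (algebraMap k'' K'')) := by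
    intro s hs
    induction hs using Algebra.adjoin_induction with
    | mem x hx =>
      obtain ⟨c, rfl⟩ := hx
      refine Algebra.subset_adjoin ⟨algebraMap k' k'' c, ?_⟩
      rw [← IsScalarTower.algebraMap_apply k' k'' K'', ← IsScalarTower.algebraMap_apply k' K' K'']
    | algebraMap r' =>
      obtain ⟨_, ⟨x, hx, rfl⟩⟩ := r'
      have : algebraMap K' K'' (algebraMap K K' x) ∈ OE K'' P := by
        rw [← IsScalarTower.algebraMap_apply K K' K'']
        exact mem_OE hx
      exact Subalgebra.algebraMap_mem _ (⟨_, this⟩ : OE K'' P)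
    | add x y _ _ hx hy => rw [map_add]; exact Subalgebra.add_mem _ hx hy
    | mul x y _ _ hx hy => rw [map_mul]; exact Subalgebra.mul_mem _ hx hy
  have hcmp : ∀ z : K'', z ∈ Algebra.adjoin (OE K'' P) (Set.range (algebraMap k'' K'')) ↔
      z ∈ Algebra.adjoin (S'.map (algebraMap K' K'')) (Set.range (algebraMap k'' K'')) := by
    intro z
    constructor
    · intro hz
      induction hz using Algebra.adjoin_induction with
      | mem x hx => exact Algebra.subset_adjoin hx
      | algebraMap r =>
        obtain ⟨_, ⟨x, hx, rfl⟩⟩ := r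
        have : algebraMap K K'' x ∈ S'.map (algebraMap K' K'') := by
          rw [IsScalarTower.algebraMap_apply K K' K'']
          exact ⟨algebraMap K K' x, hS'O x hx, rfl⟩
        exact Subalgebra.algebraMap_mem _ (⟨algebraMap K K'' x, this⟩ : S'.map (algebraMap K' K''))
      | add x y _ _ hx hy => exact Subalgebra.add_mem _ hx hy
      | mul x y _ _ hx hy => exact Subalgebra.mul_mem _ hx hy
    · intro hz
      induction hz using Algebra.adjoin_induction with
      | mem x hx => exact Algebra.subset_adjoin hx
      | algebraMap r =>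
        obtain ⟨_, ⟨s, hs, rfl⟩⟩ := r
        exact hinner s hs
      | add x y _ _ hx hy => exact Subalgebra.add_mem _ hx hy
      | mul x y _ _ hx hy => exact Subalgebra.mul_mem _ hx hy
  have hcoordP : ∀ z : K'', z ∈ Algebra.adjoin (OE K'' P) (Set.range (algebraMap k'' K'')) ↔
      ∀ α, C.repr z α ∈ S' := by
    intro z
    rw [hcmp z]
    exact mem_adjoin_iff h2 (Module.finBasis k' k'') S' hS'k z
  have hk'Q : ∀ (Q : Place k K') (c : k'), algebraMap k' K' c ∈ Q.O.toSubring := by
    intro Q c
    exact val_le_one_of_isIntegral (place_trivOn Q) (hintk' c)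
  have hcoordQ : ∀ (Q : Place k K') (z : K''),
      z ∈ Algebra.adjoin (OE K'' Q) (Set.range (algebraMap k'' K'')) ↔
      ∀ α, Q.1 (C.repr z α) ≤ 1 := by
    intro Q z
    exact mem_adjoin_iff h2 (Module.finBasis k' k'') Q.O.toSubring (hk'Q Q) z
  -- reformulate the three equalities
  have hXP'' : ∀ x ∈ Set.range (algebraMap k'' K''), IsIntegral (OE K'' P) x := by
    rintro _ ⟨c, rfl⟩
    exact isIntegral_OE_of_isIntegral P (hintk'' c)
  have hXP' : ∀ x ∈ Set.range (algebraMap k' K'), IsIntegral (OE K' P) x := by
    rintro _ ⟨c, rfl⟩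
    exact isIntegral_OE_of_isIntegral P (hintk' c)
  have hXQ : ∀ Q : Place k K', ∀ x ∈ Set.range (algebraMap k'' K''), IsIntegral (OE K'' Q) x := by
    rintro Q _ ⟨c, rfl⟩
    exact isIntegral_OE_of_isIntegral Q (hintk'' c)
  rw [integralClosure_eq_adjoin_iff _ _ hXP'', integralClosure_eq_adjoin_iff _ _ hXP']
  have hQiff : (∀ Q : FunFld.Place k K', FunFld.IsOver Q P →
      integralClosure (OE K'' Q) K'' =
        Algebra.adjoin (OE K'' Q) (Set.range (algebraMap k'' K''))) ↔
      ∀ Q : FunFld.Place k K', FunFld.IsOver Q P → ∀ z : K'', IsIntegral (OE K'' Q) z →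
        z ∈ Algebra.adjoin (OE K'' Q) (Set.range (algebraMap k'' K'')) := by
    refine forall_congr' fun Q => forall_congr' fun _ => ?_
    exact integralClosure_eq_adjoin_iff _ _ (hXQ Q)
  rw [hQiff]
  constructor
  · -- (⇒)
    intro H
    refine ⟨?_, ?_⟩
    · intro y hy
      have hz := H _ (isIntegral_OE_map (K'' := K'') P hy)
      rw [hcoordP] at hz
      -- a nonzero coordinate of `1`
      obtain ⟨α, hα⟩ : ∃ α, (Module.finBasis k' k'').repr 1 α ≠ 0 := by
        by_contra hno
        push Not at hno
        have : (Module.finBasis k' k'').repr 1 = 0 := Finsupp.ext hno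
        exact one_ne_zero ((Module.finBasis k' k'').repr.map_eq_zero_iff.mp this)
      have h3 := hz α
      have h4 : algebraMap K' K'' y = y • (algebraMap k'' K'' 1) := by
        rw [map_one, Algebra.smul_def, mul_one]
      rw [h4, map_smul, Finsupp.smul_apply, hC, basisK_repr_algebraMap, smul_eq_mul] at h3
      have h5 : y = (y * algebraMap k' K' ((Module.finBasis k' k'').repr 1 α)) *
          algebraMap k' K' ((Module.finBasis k' k'').repr 1 α)⁻¹ := by
        rw [mul_assoc, ← map_mul, mul_inv_cancel₀ hα, map_one, mul_one]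
      show y ∈ S'
      rw [h5]
      exact S'.mul_mem h3 (hS'k _)
    · intro Q hQ z hz
      rw [hcoordQ]
      -- bound on the poles of `z`
      set T'' : Finset (Place k K'') := (LeadFH.finite_over (K' := K'') hKff P).toFinset with hT''
      have hbound : ∃ N : ℕ, ∀ Q'' ∈ T'', Q''.1 z ≤ exp (N : ℤ) := by
        choose n hn using fun Q'' : Place k K'' => exists_nat_exp_ge (Q''.1 z)
        refine ⟨T''.sup n, fun Q'' hQ'' => (hn Q'').trans ?_⟩
        rw [exp_le_exp]
        exact_mod_cast Finset.le_sup hQ''
      obtain ⟨N, hN⟩ := hbound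
      set T' : Finset (Place k K') := (LeadFH.finite_over (K' := K') hKff P).toFinset with hT'
      obtain ⟨u, hu⟩ := weak_approx T' (fun Q' => if Q' = Q then (1 : K') else 0)
        (fun Q' => if Q' = Q then (-1 : ℤ) else -(N : ℤ))
      have hQT' : Q ∈ T' := (Set.Finite.mem_toFinset _).mpr hQ
      have huQ : Q.1 u = 1 := by
        have h := hu Q hQT'
        rw [if_pos rfl, if_pos rfl] at h
        have hlt : Q.1 (u - 1) < Q.1 1 := by
          rw [h, map_one, ← exp_zero, exp_lt_exp]; norm_num
        rw [Valuation.map_eq_of_sub_lt Q.1 hlt, map_one]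
      have huQ' : ∀ Q' ∈ T', Q' ≠ Q → Q'.1 u = exp (-(N : ℤ)) := by
        intro Q' hQ' hne
        have h := hu Q' hQ'
        rwa [if_neg hne, if_neg hne, sub_zero] at h
      -- `u z` is integral over `O_P`
      have huz : IsIntegral (OE K'' P) (algebraMap K' K'' u * z) := by
        apply isIntegral_of_forall_over hKff P
        intro Q'' hQ''
        obtain ⟨Q', e', he'pos, he'⟩ := LeadFH.exists_below hK'ff Q''
        have hQ'P : IsOver Q' P := by
          obtain ⟨P₁, e₁, he₁pos, he₁⟩ := LeadFH.exists_below hKff Q'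
          have h12 := LeadFH.isOverWith_trans he' he₁
          obtain ⟨e, he⟩ := hQ''
          have : P₁ = P := by
            apply place_eq_of_le
            intro x hx
            have h3 : Q''.1 (algebraMap K K'' x) ≤ 1 := by
              rw [h12 x]; exact pow_le_one' hx _
            rw [he x] at h3
            exact (pow_le_one_iff (LeadFF.isOverWith_pos he).ne').mp h3
          rw [← this]; exact ⟨e₁, he₁⟩
        rw [map_mul, he' u]
        by_cases hQQ : Q' = Q
        · subst hQQ
          rw [huQ, one_pow, one_mul]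
          exact val_le_one_of_isIntegral_OE ⟨e', he'⟩ hz
        · have hQ'T : Q' ∈ T' := (Set.Finite.mem_toFinset _).mpr hQ'P
          rw [huQ' Q' hQ'T hQQ]
          have hQ''T : Q'' ∈ T'' := (Set.Finite.mem_toFinset _).mpr hQ''
          have h1 : (exp (-(N : ℤ)) : WithZero (Multiplicative ℤ)) ^ e' ≤ exp (-(N : ℤ)) := by
            apply pow_le_of_le_one zero_le (by rw [← exp_zero, exp_le_exp]; omega) he'pos.ne'
          calc (exp (-(N : ℤ)) : WithZero (Multiplicative ℤ)) ^ e' * Q''.1 z
              ≤ exp (-(N : ℤ)) * exp (N : ℤ) := mul_le_mul' h1 (hN Q'' hQ''T)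
            _ = 1 := by rw [← exp_add]; simp
      have hcoord := (hcoordP _).mp (H _ huz)
      intro α
      have h3 := hcoord α
      have h4 : algebraMap K' K'' u * z = u • z := by rw [Algebra.smul_def]
      rw [h4, map_smul, Finsupp.smul_apply, smul_eq_mul] at h3
      have h5 := val_le_one_of_isIntegral_OE hQ (hS'int _ h3)
      rwa [map_mul, huQ, one_mul] at h5
  · -- (⇐)
    rintro ⟨H1, H2⟩ z hz
    rw [hcoordP]
    intro α
    apply H1
    apply isIntegral_of_forall_over hKff P
    intro Q hQ
    have hzQ : IsIntegral (OE K'' Q) z := isIntegral_mono (OE_le_OE hQ) hz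
    exact (hcoordQ Q z).mp (H2 Q hQ z hzQ) α

end E

end Groth.Agent.Lib.LeadNST
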