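import Groth.Agent.Lib.LeadSingD

set_option autoImplicit false
set_option maxHeartbeats 400000
set_option linter.style.haveILetI false
set_option linter.unusedSectionVars false
set_option linter.unusedVariables false

/-! Families independent modulo `k[X]` under constant field extension. -/

namespace Groth.Agent.Lib.LeadNS

open Polynomial FunFld WithZero Groth.Agent.Lib.LeadNST Groth.Agent.Lib.LeadSing
  Groth.Agent.Lib.LeadFG

section Indep

variable {k₁ K₁ : Type*} [Field k₁] [Field K₁] [Algebra k₁ K₁]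

/-- `a` is `k₁`-linearly independent modulo the subalgebra `M`. -/
def IndepMod (M : Subalgebra k₁ K₁) {r : ℕ} (a : Fin r → K₁) : Prop :=
  ∀ c : Fin r → k₁, (∑ l, c l • a l) ∈ M → c = 0

end Indep

section Tower

variable {k₁ k₂ K₁ K₂ : Type*} [Field k₁] [Field k₂] [Field K₁] [Field K₂]
  [Algebra k₁ k₂] [Algebra k₁ K₁] [Algebra K₁ K₂] [Algebra k₂ K₂] [Algebra k₁ K₂]
  [IsScalarTower k₁ k₂ K₂] [IsScalarTower k₁ K₁ K₂]

/-- images of `k₁[X]` lie in `k₂[X']`. -/
lemma map_mem_adjoin_image (X : Set K₁) {s : K₁} (hs : s ∈ Algebra.adjoin k₁ X) :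
    algebraMap K₁ K₂ s ∈ Algebra.adjoin k₂ (algebraMap K₁ K₂ '' X) := by
  induction hs using Algebra.adjoin_induction with
  | mem x hx => exact Algebra.subset_adjoin ⟨x, hx, rfl⟩
  | algebraMap c =>
    rw [← IsScalarTower.algebraMap_apply, IsScalarTower.algebraMap_apply k₁ k₂ K₂]
    exact Subalgebra.algebraMap_mem _ _
  | add x y _ _ hx hy => rw [map_add]; exact Subalgebra.add_mem _ hx hy
  | mul x y _ _ hx hy => rw [map_mul]; exact Subalgebra.mul_mem _ hx hy

/-- `k₁[X]·k₂ = k₂[X']`. -/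
lemma adjoin_map_eq (X : Set K₁) (w : K₂) :
    w ∈ Algebra.adjoin ((Algebra.adjoin k₁ X).toSubring.map (algebraMap K₁ K₂))
        (Set.range (algebraMap k₂ K₂)) ↔
      w ∈ Algebra.adjoin k₂ (algebraMap K₁ K₂ '' X) := by
  constructor
  · intro hw
    induction hw using Algebra.adjoin_induction with
    | mem x hx =>
      obtain ⟨c, rfl⟩ := hx
      exact Subalgebra.algebraMap_mem _ c
    | algebraMap r =>
      obtain ⟨_, ⟨s, hs, rfl⟩⟩ := r
      exact map_mem_adjoin_image X hs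
    | add x y _ _ hx hy => exact Subalgebra.add_mem _ hx hy
    | mul x y _ _ hx hy => exact Subalgebra.mul_mem _ hx hy
  · intro hw
    induction hw using Algebra.adjoin_induction with
    | mem x hx =>
      obtain ⟨s, hs, rfl⟩ := hx
      exact Subalgebra.algebraMap_mem _
        (⟨algebraMap K₁ K₂ s, ⟨s, Algebra.subset_adjoin hs, rfl⟩⟩ :
          (Algebra.adjoin k₁ X).toSubring.map (algebraMap K₁ K₂))
    | algebraMap c => exact Algebra.subset_adjoin ⟨c, rfl⟩
    | add x y _ _ hx hy => exact Subalgebra.add_mem _ hx hy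
    | mul x y _ _ hx hy => exact Subalgebra.mul_mem _ hx hy

variable (h : Function.Bijective (Algebra.TensorProduct.productMap
      (IsScalarTower.toAlgHom k₁ k₂ K₂) (IsScalarTower.toAlgHom k₁ K₁ K₂)))
  {ι : Type*} [Fintype ι] (b : Module.Basis ι k₁ k₂)

include h in
/-- coordinate description of `k₂[X']`. -/
theorem mem_adjoin_image_iff (X : Set K₁) (w : K₂) :
    w ∈ Algebra.adjoin k₂ (algebraMap K₁ K₂ '' X) ↔
      ∀ i, (basisK h b).repr w i ∈ Algebra.adjoin k₁ X := by
  rw [← adjoin_map_eq (k₁ := k₁) X w]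
  exact mem_adjoin_iff h b (Algebra.adjoin k₁ X).toSubring
    (fun c => Subalgebra.algebraMap_mem _ c) w

include h in
/-- coordinates of `c • a'` for `c : k₂`, `a : K₁`. -/
lemma repr_smul_map (c : k₂) (a : K₁) (i : ι) :
    (basisK h b).repr (c • algebraMap K₁ K₂ a) i = (b.repr c i) • a := by
  have h1 : c • algebraMap K₁ K₂ a = a • algebraMap k₂ K₂ c := by
    rw [Algebra.smul_def, Algebra.smul_def, mul_comm]
  rw [h1, map_smul, Finsupp.smul_apply, basisK_repr_algebraMap, smul_eq_mul, Algebra.smul_def,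
    mul_comm]

include h in
lemma repr_sum_smul_map {r : ℕ} (c : Fin r → k₂) (a : Fin r → K₁) (i : ι) :
    (basisK h b).repr (∑ l, c l • algebraMap K₁ K₂ (a l)) i = ∑ l, (b.repr (c l) i) • a l := by
  rw [map_sum, Finsupp.coe_finsetSum, Finset.sum_apply]
  exact Finset.sum_congr rfl fun l _ => repr_smul_map h b (c l) (a l) i

include h b in
/-- independence modulo `k₁[X]` is preserved by constant extension. -/
theorem indepMod_map (X : Set K₁) {r : ℕ} {a : Fin r → K₁}
    (ha : IndepMod (Algebra.adjoin k₁ X) a) :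
    IndepMod (Algebra.adjoin k₂ (algebraMap K₁ K₂ '' X)) (fun l => algebraMap K₁ K₂ (a l)) := by
  intro c hc
  rw [mem_adjoin_image_iff h b] at hc
  funext l
  have h0 : b.repr (c l) = 0 := by
    ext i
    have h1 := hc i
    rw [repr_sum_smul_map h b] at h1
    exact congrFun (ha (fun l => b.repr (c l) i) h1) l
  exact (LinearEquiv.map_eq_zero_iff b.repr).mp h0

include h b in
/-- an integral element with a non-integral coordinate enlarges an independent family. -/
theorem indepMod_snoc (X : Set K₁) (A₁ : Subalgebra k₁ K₁) (hXA : Algebra.adjoin k₁ X ≤ A₁)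
    {r : ℕ} {a : Fin r → K₁} (haA : ∀ l, a l ∈ A₁) (ha : IndepMod (Algebra.adjoin k₁ X) a)
    {z : K₂} {i₀ : ι} (hz : (basisK h b).repr z i₀ ∉ A₁) :
    IndepMod (Algebra.adjoin k₂ (algebraMap K₁ K₂ '' X))
      (Fin.snoc (fun l => algebraMap K₁ K₂ (a l)) z : Fin (r + 1) → K₂) := by
  intro c hc
  rw [Fin.sum_univ_castSucc] at hc
  simp only [Fin.snoc_castSucc, Fin.snoc_last] at hc
  -- the ring `A₁·k₂`
  set W := Algebra.adjoin (A₁.toSubring.map (algebraMap K₁ K₂)) (Set.range (algebraMap k₂ K₂))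
    with hW
  have hWiff : ∀ w : K₂, w ∈ W ↔ ∀ i, (basisK h b).repr w i ∈ A₁ := fun w =>
    mem_adjoin_iff h b A₁.toSubring (fun c => Subalgebra.algebraMap_mem _ c) w
  have hk₂W : ∀ (c : k₂) (w : K₂), w ∈ W → c • w ∈ W := by
    intro c w hw
    rw [Algebra.smul_def]
    exact Subalgebra.mul_mem _ (Algebra.subset_adjoin ⟨c, rfl⟩) hw
  have haW : ∀ l, algebraMap K₁ K₂ (a l) ∈ W := fun l =>
    Subalgebra.algebraMap_mem _
      (⟨algebraMap K₁ K₂ (a l), ⟨a l, haA l, rfl⟩⟩ : A₁.toSubring.map (algebraMap K₁ K₂))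
  have hMW : ∀ w ∈ Algebra.adjoin k₂ (algebraMap K₁ K₂ '' X), w ∈ W := by
    intro w hw
    rw [hWiff]
    intro i
    exact hXA ((mem_adjoin_image_iff h b X w).mp hw i)
  by_cases hc0 : c (Fin.last r) = 0
  · rw [hc0, zero_smul, add_zero] at hc
    have h1 := indepMod_map h b X ha (fun l => c (Fin.castSucc l)) hc
    funext l
    induction l using Fin.lastCases with
    | last => exact hc0
    | cast l => exact congrFun h1 l
  · exfalso
    apply hz
    have hzW : z ∈ W := by
      have h2 : c (Fin.last r) • z ∈ W := by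
        have h3 : c (Fin.last r) • z =
            (∑ l : Fin r, c (Fin.castSucc l) • algebraMap K₁ K₂ (a l) + c (Fin.last r) • z) -
              ∑ l : Fin r, c (Fin.castSucc l) • algebraMap K₁ K₂ (a l) := by ring
        rw [h3]
        exact Subalgebra.sub_mem _ (hMW _ hc)
          (Subalgebra.sum_mem _ fun l _ => hk₂W _ _ (haW l))
      have h4 : z = (c (Fin.last r))⁻¹ • (c (Fin.last r) • z) := by
        rw [smul_smul, inv_mul_cancel₀ hc0, one_smul]
      rw [h4]
      exact hk₂W _ _ h2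
    exact (hWiff z).mp hzW i₀

include h b in
/-- if integrality over `k₂[t]` is detected on coordinates, the places integral at `t` are
nonsingular. -/
theorem nonsingular_of_coords [FiniteDimensional k₁ k₂] (hK : IsFF k₁ K₁) {t : K₁}
    (ht : Transcendental k₁ t)
    (hA : ∀ z : K₂, IsIntegral (Algebra.adjoin k₂ ({algebraMap K₁ K₂ t} : Set K₂)) z →
      ∀ i, IsIntegral (Algebra.adjoin k₁ ({t} : Set K₁)) ((basisK h b).repr z i))
    (Q : Place k₁ K₁) (hQt : Q.1 t ≤ 1) :
    integralClosure (OE K₂ Q) K₂ =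
      Algebra.adjoin (OE K₂ Q) (Set.range (algebraMap k₂ K₂)) := by
  classical
  rw [integralClosure_eq_adjoin_iff]
  swap
  · rintro _ ⟨c, rfl⟩
    exact isIntegral_OE_of_isIntegral Q
      ((Algebra.IsIntegral.isIntegral (R := k₁) c).map (IsScalarTower.toAlgHom k₁ k₂ K₂))
  intro z hz
  let A₀ : Subalgebra k₁ K₁ := Algebra.adjoin k₁ ({t} : Set K₁)
  let R₀ : Subring K₂ := (integralClosure A₀ K₂).toSubring
  let MK : Submonoid K₁ :=
    { carrier := {e | Q.1 e = 1 ∧ IsIntegral A₀ e}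
      mul_mem' := fun {a b} ha hb => ⟨by rw [map_mul, ha.1, hb.1, one_mul], ha.2.mul hb.2⟩
      one_mem' := ⟨map_one _, isIntegral_one⟩ }
  let M : Submonoid K₂ := MK.map (algebraMap K₁ K₂)
  have hM : ∀ s ∈ M, s ∈ R₀ := by
    rintro _ ⟨e, he, rfl⟩
    exact he.2.algebraMap
  have hO : ∀ c ∈ OE K₂ Q, ∃ s ∈ M, s * c ∈ R₀ := by
    rintro _ ⟨α, hα, rfl⟩
    obtain ⟨e, he1, he2, he3⟩ := exists_unit_mul_integral hK ht Q hQt hα
    refine ⟨algebraMap K₁ K₂ e, ⟨e, ⟨he1, he2⟩, rfl⟩, ?_⟩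
    have : algebraMap K₁ K₂ e * algebraMap K₁ K₂ α = algebraMap K₁ K₂ (e * α) :=
      (map_mul _ _ _).symm
    show algebraMap K₁ K₂ e * algebraMap K₁ K₂ α ∈ R₀
    rw [this]
    exact he3.algebraMap
  obtain ⟨s, ⟨e, he, rfl⟩, hs⟩ := exists_mul_isIntegral R₀ (OE K₂ Q) M hM hO hz
  have hz' : IsIntegral A₀ (algebraMap K₁ K₂ e * z) := isIntegral_of_isIntegral_closure' hs
  have hz'' := isIntegral_of_isIntegral_adjoin (k' := k₂) hz'
  have hcoord := hA _ hz''
  have hmem : algebraMap K₁ K₂ e * z ∈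
      Algebra.adjoin (OE K₂ Q) (Set.range (algebraMap k₂ K₂)) := by
    rw [mem_adjoin_iff h b Q.O.toSubring (fun c => Q.2.1 c)]
    intro i
    exact val_le_one_of_isIntegral_adjoin Q hQt (hcoord i)
  have he0 : e ≠ 0 := by
    intro h0
    have := he.1
    rw [h0, map_zero] at this
    exact zero_ne_one this
  have hinv : Q.1 e⁻¹ ≤ 1 := by rw [map_inv₀, he.1, inv_one]
  have hzeq : z = algebraMap K₁ K₂ e⁻¹ * (algebraMap K₁ K₂ e * z) := by
    rw [← mul_assoc, ← map_mul, inv_mul_cancel₀ he0, map_one, one_mul]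
  rw [hzeq]
  exact Subalgebra.mul_mem _
    (Subalgebra.algebraMap_mem _ (⟨_, mem_OE hinv⟩ : OE K₂ Q)) hmem

end Tower

end Groth.Agent.Lib.LeadNS
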