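import Groth.Agent.Lib.LeadNSa

set_option autoImplicit false
set_option maxHeartbeats 400000
set_option linter.style.haveILetI false
set_option linter.unusedSectionVars false
set_option linter.unusedVariables false

/-! Uniform bound for families in the integral closure of `k'[t]` independent modulo
`k'[t, y]`. -/

namespace Groth.Agent.Lib.LeadNS

open Polynomial IntermediateField FunFld Groth.Agent.Lib.LeadNST Groth.Agent.Lib.LeadSing
open scoped IntermediateField.algebraAdjoinAdjoin

attribute [-instance]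
  IntermediateField.instAlgebraSubtypeMemSubalgebraAdjoinSingletonSetAdjoinCoeRingHomAlgebraMap

section Discr

variable {k K : Type*} [Field k] [Field K] [Algebra k K]

/-- the discriminant of an integral power basis is a polynomial in `t`. -/
lemma exists_monic_discr {t : K} (ht : Transcendental k t) (pb : PowerBasis k⟮t⟯ K)
    [Algebra.IsSeparable k⟮t⟯ K]
    (hint : IsIntegral (Algebra.adjoin k ({t} : Set K)) pb.gen) :
    ∃ d₀ : k[X], d₀.Monic ∧ ∃ u : k, u ≠ 0 ∧
      algebraMap k⟮t⟯ K (Algebra.discr k⟮t⟯ pb.basis) = algebraMap k K u * aeval t d₀ := by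
  classical
  haveI : IsIntegrallyClosed (Algebra.adjoin k ({t} : Set K)) :=
    isIntegrallyClosed_adjoin_of_transcendental ht
  haveI : Module.Finite k⟮t⟯ K := pb.finite
  have hDint : IsIntegral (Algebra.adjoin k ({t} : Set K)) (Algebra.discr k⟮t⟯ pb.basis) := by
    apply Algebra.discr_isIntegral
    intro i
    rw [pb.basis_eq_pow]
    exact hint.pow _
  obtain ⟨y, hy⟩ := IsIntegrallyClosed.isIntegral_iff.mp hDint
  have hy1 : (y : K) ∈ (aeval (R := k) t).range := by
    rw [← Algebra.adjoin_singleton_eq_range_aeval]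
    exact y.2
  obtain ⟨p, hp⟩ := hy1
  have hD0 : Algebra.discr k⟮t⟯ pb.basis ≠ 0 := Algebra.discr_not_zero_of_basis _ pb.basis
  have hDK : algebraMap k⟮t⟯ K (Algebra.discr k⟮t⟯ pb.basis) = aeval t p := by
    rw [← hy]
    exact hp.symm
  have hp0 : p ≠ 0 := by
    rintro rfl
    rw [map_zero] at hDK
    exact hD0 ((map_eq_zero _).mp hDK)
  have hlc : p.leadingCoeff ≠ 0 := leadingCoeff_ne_zero.mpr hp0
  refine ⟨p * C p.leadingCoeff⁻¹, monic_mul_leadingCoeff_inv hp0, p.leadingCoeff, hlc, ?_⟩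
  rw [hDK, map_mul, aeval_C, mul_comm (aeval t p), ← mul_assoc, ← map_mul,
    mul_inv_cancel₀ hlc, map_one, one_mul]

end Discr

section Bound

variable {k k' K K' : Type*} [Field k] [Field k'] [Field K] [Field K']
  [Algebra k k'] [Algebra k K] [Algebra K K'] [Algebra k' K'] [Algebra k K']
  [IsScalarTower k k' K'] [IsScalarTower k K K']

/-- elements of `k'[t', y']` are `k'[t']`-combinations of `1, y', …, y'^(N-1)`. -/
lemma mem_span_pow {t y : K} {f₀ : (Algebra.adjoin k ({t} : Set K))[X]} (hf₀ : f₀.Monic)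
    (hf₀y : eval₂ (algebraMap (Algebra.adjoin k ({t} : Set K)) K) y f₀ = 0) {w : K'}
    (hw : w ∈ Algebra.adjoin k' (algebraMap K K' '' ({t, y} : Set K))) :
    ∃ ρ : Fin f₀.natDegree → K',
      (∀ i, ρ i ∈ Algebra.adjoin k' ({algebraMap K K' t} : Set K')) ∧
      w = ∑ i, ρ i * (algebraMap K K' y) ^ (i : ℕ) := by
  classical
  set t' := algebraMap K K' t with ht'
  set y' := algebraMap K K' y with hy'
  have himg : algebraMap K K' '' ({t, y} : Set K) = {t'} ∪ {y'} := by
    rw [Set.image_pair, Set.singleton_union]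
  rw [himg, Algebra.adjoin_union_eq_adjoin_adjoin] at hw
  have hw' : w ∈ Algebra.adjoin (Algebra.adjoin k' ({t'} : Set K')) ({y'} : Set K') := hw
  have hw'' : w ∈ (aeval (R := Algebra.adjoin k' ({t'} : Set K')) y').range := by
    rw [← Algebra.adjoin_singleton_eq_range_aeval]
    exact hw'
  obtain ⟨g, hg⟩ := hw''
  have hg' : w = aeval y' g := hg.symm
  set f' : (Algebra.adjoin k' ({t'} : Set K'))[X] := f₀.map (iotaR (k' := k') (K' := K') t)
    with hf'
  have hf'm : f'.Monic := hf₀.map _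
  have hroot : aeval y' f' = 0 := by
    rw [aeval_def, hf', eval₂_map]
    have hcomp : (algebraMap (Algebra.adjoin k' ({t'} : Set K')) K').comp
        (iotaR (k' := k') (K' := K') t) =
        (algebraMap K K').comp (algebraMap (Algebra.adjoin k ({t} : Set K)) K) := by
      ext; rfl
    rw [hcomp, ← hom_eval₂, hf₀y, map_zero]
  have hdeg : f'.natDegree = f₀.natDegree := hf₀.natDegree_map _
  have hmod : aeval y' g = aeval y' (g %ₘ f') :=
    (aeval_modByMonic_eq_self_of_root hroot).symm
  have hlt : (g %ₘ f').natDegree < f₀.natDegree ∨ g %ₘ f' = 0 := by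
    by_cases h0 : g %ₘ f' = 0
    · exact Or.inr h0
    · left
      rw [← hdeg]
      exact natDegree_lt_natDegree h0 (degree_modByMonic_lt g hf'm)
  rcases hlt with hlt | h0
  · refine ⟨fun i => (((g %ₘ f').coeff i : Algebra.adjoin k' ({t'} : Set K')) : K'),
      fun i => ((g %ₘ f').coeff i).2, ?_⟩
    rw [hg', hmod, aeval_eq_sum_range' hlt, Finset.sum_range]
    apply Finset.sum_congr rfl
    intro i _
    rw [Algebra.smul_def]
    rfl
  · refine ⟨fun _ => 0, fun _ => Subalgebra.zero_mem _, ?_⟩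
    rw [hg', hmod, h0, map_zero]
    simp

/-- division with remainder in `k'[t']` by the image of a monic polynomial in `t`. -/
lemma exists_div {t : K} {d₀ : k[X]} (hd₀ : d₀.Monic) {ρ : K'}
    (hρ : ρ ∈ Algebra.adjoin k' ({algebraMap K K' t} : Set K')) :
    ∃ q ∈ Algebra.adjoin k' ({algebraMap K K' t} : Set K'), ∃ c : Fin d₀.natDegree → k',
      ρ = algebraMap K K' (aeval t d₀) * q + ∑ j, c j • (algebraMap K K' t) ^ (j : ℕ) := by
  classical
  set t' := algebraMap K K' t with ht'
  have hρ' : ρ ∈ (aeval (R := k') t').range := by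
    rw [← Algebra.adjoin_singleton_eq_range_aeval]
    exact hρ
  obtain ⟨p, hp⟩ := hρ'
  have hp' : ρ = aeval t' p := hp.symm
  set d' : k'[X] := d₀.map (algebraMap k k') with hd'
  have hd'm : d'.Monic := hd₀.map _
  have hdeg : d'.natDegree = d₀.natDegree := hd₀.natDegree_map _
  have hD : aeval t' d' = algebraMap K K' (aeval t d₀) := by
    rw [hd', aeval_map_algebraMap, ht', aeval_algebraMap_apply]
  have hsplit : aeval t' p = aeval t' d' * aeval t' (p /ₘ d') + aeval t' (p %ₘ d') := by
    conv_lhs => rw [← modByMonic_add_div p d']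
    rw [map_add, map_mul, add_comm]
  refine ⟨aeval t' (p /ₘ d'), ?_, ?_⟩
  · rw [Algebra.adjoin_singleton_eq_range_aeval]
    exact ⟨_, rfl⟩
  by_cases h0 : p %ₘ d' = 0
  · refine ⟨fun _ => 0, ?_⟩
    rw [hp', hsplit, h0, map_zero, hD]
    simp
  · have hlt : (p %ₘ d').natDegree < d₀.natDegree := by
      rw [← hdeg]
      exact natDegree_lt_natDegree h0 (degree_modByMonic_lt p hd'm)
    refine ⟨fun j => (p %ₘ d').coeff j, ?_⟩
    rw [hp', hsplit, hD, aeval_eq_sum_range' hlt, Finset.sum_range]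

variable (h1 : Function.Bijective (Algebra.TensorProduct.productMap
      (IsScalarTower.toAlgHom k k' K') (IsScalarTower.toAlgHom k K K')))
  {ι : Type*} [Fintype ι] (b : Module.Basis ι k k')

include h1 b in
/-- the uniform bound. -/
theorem card_le_of_indepMod {t : K} (ht : Transcendental k t) (pb : PowerBasis k⟮t⟯ K)
    [Algebra.IsSeparable k⟮t⟯ K]
    (hint : IsIntegral (Algebra.adjoin k ({t} : Set K)) pb.gen)
    {d₀ : k[X]} (hd₀ : d₀.Monic) {u : k} (hu : u ≠ 0)
    (hdu : algebraMap k⟮t⟯ K (Algebra.discr k⟮t⟯ pb.basis) = algebraMap k K u * aeval t d₀)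
    {f₀ : (Algebra.adjoin k ({t} : Set K))[X]} (hf₀ : f₀.Monic)
    (hf₀y : eval₂ (algebraMap (Algebra.adjoin k ({t} : Set K)) K) pb.gen f₀ = 0)
    {r : ℕ} (a : Fin r → K')
    (haA : ∀ l, IsIntegral (Algebra.adjoin k' ({algebraMap K K' t} : Set K')) (a l))
    (ha : IndepMod (Algebra.adjoin k' (algebraMap K K' '' ({t, pb.gen} : Set K))) a) :
    r ≤ f₀.natDegree * d₀.natDegree := by
  classical
  haveI : FiniteDimensional k k' := Module.Finite.of_basis b
  set y := pb.gen with hy
  set t' := algebraMap K K' t with ht'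
  set y' := algebraMap K K' y with hy'
  set M' := Algebra.adjoin k' (algebraMap K K' '' ({t, y} : Set K)) with hM'
  set D₁ := algebraMap K K' (aeval t d₀) with hD₁
  have hd₀t : aeval t d₀ ≠ 0 := fun h0 => hd₀.ne_zero (transcendental_iff.mp ht d₀ h0)
  have hD₁0 : D₁ ≠ 0 := by
    rw [hD₁, Ne, map_eq_zero]
    exact hd₀t
  have ht'M : t' ∈ M' := Algebra.subset_adjoin ⟨t, by simp, rfl⟩
  have hy'M : y' ∈ M' := Algebra.subset_adjoin ⟨y, by simp, rfl⟩
  -- step 1
  have step1 : ∀ l, D₁ * a l ∈ M' := by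
    intro l
    have hmem := discr_mul_mem h1 b (transcendental_map ht) pb hint (haA l)
      (Algebra.adjoin k ({t, y} : Set K)).toSubring
      (fun c => Subalgebra.algebraMap_mem _ c)
      (Algebra.subset_adjoin (Set.mem_insert _ _))
      (Algebra.subset_adjoin (Set.mem_insert_of_mem _ rfl))
    rw [adjoin_map_eq] at hmem
    have heq : D₁ * a l = algebraMap k' K' (algebraMap k k' u⁻¹) *
        (algebraMap K K' (algebraMap k⟮t⟯ K (Algebra.discr k⟮t⟯ pb.basis)) * a l) := by
      have hu' : algebraMap K K' (algebraMap k K u⁻¹) * algebraMap K K' (algebraMap k K u) = 1 := by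
        rw [← map_mul, ← map_mul, inv_mul_cancel₀ hu, map_one, map_one]
      have hconst : algebraMap k' K' (algebraMap k k' u⁻¹) =
          algebraMap K K' (algebraMap k K u⁻¹) := by
        rw [← IsScalarTower.algebraMap_apply k k' K', ← IsScalarTower.algebraMap_apply k K K']
      rw [hconst, hdu, map_mul, ← mul_assoc, ← mul_assoc, hu', one_mul]
    rw [heq]
    exact Subalgebra.mul_mem _ (Subalgebra.algebraMap_mem _ _) hmem
  -- step 2
  have hex1 : ∀ l, ∃ ρ : Fin f₀.natDegree → K',
      (∀ i, ρ i ∈ Algebra.adjoin k' ({t'} : Set K')) ∧ D₁ * a l = ∑ i, ρ i * y' ^ (i : ℕ) :=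
    fun l => mem_span_pow hf₀ hf₀y (step1 l)
  choose ρ hρ1 hρ2 using hex1
  have hex2 : ∀ l i, ∃ q ∈ Algebra.adjoin k' ({t'} : Set K'), ∃ c : Fin d₀.natDegree → k',
      ρ l i = D₁ * q + ∑ j, c j • t' ^ (j : ℕ) := fun l i => exists_div hd₀ (hρ1 l i)
  choose q hq1 c hq2 using hex2
  have hRM : ∀ x ∈ Algebra.adjoin k' ({t'} : Set K'), x ∈ M' := by
    intro x hx
    exact Algebra.adjoin_mono (by
      rintro _ rfl
      exact ⟨t, by simp, rfl⟩) hx
  let w : Fin r → K' := fun l => ∑ i, q l i * y' ^ (i : ℕ)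
  have hwM : ∀ l, w l ∈ M' := fun l =>
    Subalgebra.sum_mem _ fun i _ => Subalgebra.mul_mem _ (hRM _ (hq1 l i))
      (Subalgebra.pow_mem _ hy'M _)
  let E : Fin r → K' := fun l => ∑ i, ∑ j, c l i j • (t' ^ (j : ℕ) * y' ^ (i : ℕ))
  have hdec : ∀ l, D₁ * a l = D₁ * w l + E l := by
    intro l
    rw [hρ2 l, Finset.mul_sum, ← Finset.sum_add_distrib]
    apply Finset.sum_congr rfl
    intro i _
    rw [hq2 l i, add_mul, Finset.sum_mul, mul_assoc]
    congr 1
    apply Finset.sum_congr rfl
    intro j _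
    rw [smul_mul_assoc]
  -- step 3
  by_contra hlt
  rw [not_le] at hlt
  let v : Fin r → (Fin f₀.natDegree × Fin d₀.natDegree → k') := fun l p => c l p.1 p.2
  have hnli : ¬ LinearIndependent k' v := by
    intro hli
    have h2 := hli.fintype_card_le_finrank
    rw [Module.finrank_fintype_fun_eq_card, Fintype.card_prod, Fintype.card_fin, Fintype.card_fin,
      Fintype.card_fin] at h2
    omega
  obtain ⟨g, hg0, l₀, hl₀⟩ := Fintype.not_linearIndependent_iff.mp hnli
  have hrel : ∀ i j, ∑ l, g l * c l i j = 0 := by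
    intro i j
    have h3 := congrFun hg0 (i, j)
    rw [Finset.sum_apply] at h3
    simpa [v] using h3
  have hE0 : ∑ l, g l • E l = 0 := by
    simp only [E, Finset.smul_sum, smul_smul]
    rw [Finset.sum_comm]
    apply Finset.sum_eq_zero
    intro i _
    rw [Finset.sum_comm]
    apply Finset.sum_eq_zero
    intro j _
    rw [← Finset.sum_smul, hrel i j, zero_smul]
  have hsum : D₁ * ∑ l, g l • a l = D₁ * ∑ l, g l • w l := by
    rw [Finset.mul_sum, Finset.mul_sum]
    have h4 : ∀ l, D₁ * g l • a l = D₁ * g l • w l + g l • E l := by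
      intro l
      rw [mul_smul_comm, hdec l, smul_add, mul_smul_comm]
    rw [Finset.sum_congr rfl (fun l _ => h4 l), Finset.sum_add_distrib, hE0, add_zero]
  have hmem : ∑ l, g l • a l ∈ M' := by
    rw [mul_left_cancel₀ hD₁0 hsum]
    exact Subalgebra.sum_mem _ fun l _ => Subalgebra.smul_mem _ (hwM l) _
  exact hl₀ (congrFun (ha g hmem) l₀)

end Bound

end Groth.Agent.Lib.LeadNS
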