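import Groth.Agent.Lib.LeadNSb
import Groth.Agent.Lib.LeadCE1

set_option autoImplicit false
set_option maxHeartbeats 400000
set_option linter.style.haveILetI false
set_option linter.unusedSectionVars false
set_option linter.unusedVariables false

namespace Groth.Agent.Lib.LeadNS

open TensorProduct

universe u v

section Gen

variable {k₁ k₂ K₁ K₂ : Type*} [Field k₁] [Field k₂] [Field K₁] [Field K₂]
  [Algebra k₁ k₂] [Algebra k₁ K₁] [Algebra K₁ K₂] [Algebra k₂ K₂] [Algebra k₁ K₂]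
  [IsScalarTower k₁ k₂ K₂] [IsScalarTower k₁ K₁ K₂]

/-- if `k₂ ⊗ K₁` is a field and `K₂` is generated by `k₂` over `K₁`, the product map is
bijective. -/
theorem bijective_productMap_of_isField (hT : IsField (k₂ ⊗[k₁] K₁))
    (hgen : ∀ z : K₂, z ∈ Algebra.adjoin K₁ (Set.range (algebraMap k₂ K₂))) :
    Function.Bijective (Algebra.TensorProduct.productMap
      (IsScalarTower.toAlgHom k₁ k₂ K₂) (IsScalarTower.toAlgHom k₁ K₁ K₂)) := by
  letI : Field (k₂ ⊗[k₁] K₁) := hT.toField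
  refine ⟨(Algebra.TensorProduct.productMap
      (IsScalarTower.toAlgHom k₁ k₂ K₂) (IsScalarTower.toAlgHom k₁ K₁ K₂) :
      k₂ ⊗[k₁] K₁ →+* K₂).injective, ?_⟩
  intro z
  have hz := hgen z
  induction hz using Algebra.adjoin_induction with
  | mem x hx =>
    obtain ⟨c, rfl⟩ := hx
    exact ⟨c ⊗ₜ 1, by simp⟩
  | algebraMap r => exact ⟨1 ⊗ₜ r, by simp⟩
  | add x y _ _ hx hy =>
    obtain ⟨a, rfl⟩ := hx
    obtain ⟨b, rfl⟩ := hy
    exact ⟨a + b, map_add _ _ _⟩
  | mul x y _ _ hx hy =>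
    obtain ⟨a, rfl⟩ := hx
    obtain ⟨b, rfl⟩ := hy
    exact ⟨a * b, map_mul _ _ _⟩

end Gen

section Model

variable (k₁ k₂ : Type u) (K₁ : Type v) [Field k₁] [Field k₂] [Field K₁]
  [Algebra k₁ k₂] [Algebra k₁ K₁] [FiniteDimensional k₁ k₂]

instance small_tensor : Small.{v} (k₂ ⊗[k₁] K₁) := by
  let e1 : k₂ ⊗[k₁] K₁ ≃ₗ[k₁] K₁ ⊗[k₁] k₂ := TensorProduct.comm k₁ k₂ K₁
  let bb := Algebra.TensorProduct.basis K₁ (Module.finBasis k₁ k₂)
  exact Small.mk' (e1.toEquiv.trans bb.repr.toEquiv)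

theorem exists_model (hT : IsField (k₂ ⊗[k₁] K₁)) :
    ∃ (K₂ : Type v) (_ : Field K₂) (_ : Algebra K₁ K₂) (_ : Algebra k₂ K₂) (_ : Algebra k₁ K₂)
      (_ : IsScalarTower k₁ k₂ K₂) (_ : IsScalarTower k₁ K₁ K₂),
      Function.Bijective (Algebra.TensorProduct.productMap
        (IsScalarTower.toAlgHom k₁ k₂ K₂) (IsScalarTower.toAlgHom k₁ K₁ K₂)) := by
  letI : Field (k₂ ⊗[k₁] K₁) := hT.toField
  letI : Algebra K₁ (k₂ ⊗[k₁] K₁) := Algebra.TensorProduct.rightAlgebra
  haveI ht1 : IsScalarTower k₁ k₂ (Shrink.{v} (k₂ ⊗[k₁] K₁)) := by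
    apply IsScalarTower.of_algebraMap_eq
    intro c
    apply (Shrink.algEquiv k₁ (k₂ ⊗[k₁] K₁)).injective
    rw [AlgEquiv.commutes]
    have : (Shrink.algEquiv k₁ (k₂ ⊗[k₁] K₁)) ((algebraMap k₂ (Shrink.{v} (k₂ ⊗[k₁] K₁)))
        ((algebraMap k₁ k₂) c)) = (Shrink.algEquiv k₂ (k₂ ⊗[k₁] K₁))
          ((algebraMap k₂ (Shrink.{v} (k₂ ⊗[k₁] K₁))) ((algebraMap k₁ k₂) c)) := rfl
    rw [this, AlgEquiv.commutes, ← IsScalarTower.algebraMap_apply]
  haveI ht2 : IsScalarTower k₁ K₁ (Shrink.{v} (k₂ ⊗[k₁] K₁)) := by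
    apply IsScalarTower.of_algebraMap_eq
    intro c
    apply (Shrink.algEquiv k₁ (k₂ ⊗[k₁] K₁)).injective
    rw [AlgEquiv.commutes]
    have : (Shrink.algEquiv k₁ (k₂ ⊗[k₁] K₁)) ((algebraMap K₁ (Shrink.{v} (k₂ ⊗[k₁] K₁)))
        ((algebraMap k₁ K₁) c)) = (Shrink.algEquiv K₁ (k₂ ⊗[k₁] K₁))
          ((algebraMap K₁ (Shrink.{v} (k₂ ⊗[k₁] K₁))) ((algebraMap k₁ K₁) c)) := rfl
    rw [this, AlgEquiv.commutes]
    show algebraMap k₁ (k₂ ⊗[k₁] K₁) c = (1 : k₂) ⊗ₜ[k₁] (algebraMap k₁ K₁ c)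
    rw [Algebra.TensorProduct.algebraMap_apply, Algebra.algebraMap_eq_smul_one c (A := K₁),
      TensorProduct.tmul_smul, Algebra.algebraMap_eq_smul_one c (A := k₂),
      TensorProduct.smul_tmul']
  refine ⟨Shrink.{v} (k₂ ⊗[k₁] K₁), inferInstance, inferInstance, inferInstance, inferInstance,
    ht1, ht2, ?_⟩
  have hfun : ∀ w : k₂ ⊗[k₁] K₁, (Algebra.TensorProduct.productMap
      (IsScalarTower.toAlgHom k₁ k₂ (Shrink.{v} (k₂ ⊗[k₁] K₁)))
      (IsScalarTower.toAlgHom k₁ K₁ (Shrink.{v} (k₂ ⊗[k₁] K₁)))) w =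
      (Shrink.algEquiv k₁ (k₂ ⊗[k₁] K₁)).symm w := by
    intro w
    induction w using TensorProduct.induction_on with
    | zero => rw [map_zero, map_zero]
    | tmul c x =>
      apply (Shrink.algEquiv k₁ (k₂ ⊗[k₁] K₁)).injective
      rw [AlgEquiv.apply_symm_apply, Algebra.TensorProduct.productMap_apply_tmul, map_mul]
      have h1 : (Shrink.algEquiv k₁ (k₂ ⊗[k₁] K₁))
          ((IsScalarTower.toAlgHom k₁ k₂ (Shrink.{v} (k₂ ⊗[k₁] K₁))) c) =
          (Shrink.algEquiv k₂ (k₂ ⊗[k₁] K₁))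
            (algebraMap k₂ (Shrink.{v} (k₂ ⊗[k₁] K₁)) c) := rfl
      have h2 : (Shrink.algEquiv k₁ (k₂ ⊗[k₁] K₁))
          ((IsScalarTower.toAlgHom k₁ K₁ (Shrink.{v} (k₂ ⊗[k₁] K₁))) x) =
          (Shrink.algEquiv K₁ (k₂ ⊗[k₁] K₁))
            (algebraMap K₁ (Shrink.{v} (k₂ ⊗[k₁] K₁)) x) := rfl
      rw [h1, h2, AlgEquiv.commutes, AlgEquiv.commutes]
      show (c ⊗ₜ[k₁] (1 : K₁)) * ((1 : k₂) ⊗ₜ[k₁] x) = c ⊗ₜ[k₁] x
      rw [Algebra.TensorProduct.tmul_mul_tmul, mul_one, one_mul]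
    | add x y hx hy => rw [map_add, hx, hy, map_add]
  have : ⇑(Algebra.TensorProduct.productMap
      (IsScalarTower.toAlgHom k₁ k₂ (Shrink.{v} (k₂ ⊗[k₁] K₁)))
      (IsScalarTower.toAlgHom k₁ K₁ (Shrink.{v} (k₂ ⊗[k₁] K₁)))) =
      ⇑(Shrink.algEquiv k₁ (k₂ ⊗[k₁] K₁)).symm := funext hfun
  rw [this]
  exact (Shrink.algEquiv k₁ (k₂ ⊗[k₁] K₁)).symm.bijective

end Model

section Iso

variable {k k' K K₀ K₁ : Type*} [Field k] [Field k'] [Field K] [Field K₀] [Field K₁]
  [Algebra k k'] [Algebra k K]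
  [Algebra K K₀] [Algebra k' K₀] [Algebra k K₀] [IsScalarTower k k' K₀] [IsScalarTower k K K₀]
  [Algebra K K₁] [Algebra k' K₁] [Algebra k K₁] [IsScalarTower k k' K₁] [IsScalarTower k K K₁]

/-- two models of `k' ⊗ K` are isomorphic over `k'` and `K`. -/
theorem exists_model_iso
    (h0 : Function.Bijective (Algebra.TensorProduct.productMap
      (IsScalarTower.toAlgHom k k' K₀) (IsScalarTower.toAlgHom k K K₀)))
    (h1 : Function.Bijective (Algebra.TensorProduct.productMap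
      (IsScalarTower.toAlgHom k k' K₁) (IsScalarTower.toAlgHom k K K₁))) :
    ∃ σ : K₀ ≃ₐ[k'] K₁, ∀ x : K, σ (algebraMap K K₀ x) = algebraMap K K₁ x := by
  let e0 : k' ⊗[k] K ≃ₐ[k] K₀ := AlgEquiv.ofBijective _ h0
  let e1 : k' ⊗[k] K ≃ₐ[k] K₁ := AlgEquiv.ofBijective _ h1
  let σ₀ : K₀ ≃ₐ[k] K₁ := e0.symm.trans e1
  have he0c : ∀ c : k', e0 (c ⊗ₜ 1) = algebraMap k' K₀ c := by
    intro c
    show Algebra.TensorProduct.productMap _ _ (c ⊗ₜ[k] (1 : K)) = _
    simp
  have he1c : ∀ c : k', e1 (c ⊗ₜ 1) = algebraMap k' K₁ c := by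
    intro c
    show Algebra.TensorProduct.productMap _ _ (c ⊗ₜ[k] (1 : K)) = _
    simp
  have he0x : ∀ x : K, e0 (1 ⊗ₜ x) = algebraMap K K₀ x := by
    intro x
    show Algebra.TensorProduct.productMap _ _ ((1 : k') ⊗ₜ[k] x) = _
    simp
  have he1x : ∀ x : K, e1 (1 ⊗ₜ x) = algebraMap K K₁ x := by
    intro x
    show Algebra.TensorProduct.productMap _ _ ((1 : k') ⊗ₜ[k] x) = _
    simp
  have hσc : ∀ c : k', σ₀ (algebraMap k' K₀ c) = algebraMap k' K₁ c := by
    intro c
    show e1 (e0.symm (algebraMap k' K₀ c)) = _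
    rw [← he0c, AlgEquiv.symm_apply_apply, he1c]
  have hσx : ∀ x : K, σ₀ (algebraMap K K₀ x) = algebraMap K K₁ x := by
    intro x
    show e1 (e0.symm (algebraMap K K₀ x)) = _
    rw [← he0x, AlgEquiv.symm_apply_apply, he1x]
  exact ⟨AlgEquiv.ofRingEquiv (f := σ₀.toRingEquiv) hσc, hσx⟩

/-- transport of an integral independent family along an isomorphism of models. -/
theorem transport_family
    (h0 : Function.Bijective (Algebra.TensorProduct.productMap
      (IsScalarTower.toAlgHom k k' K₀) (IsScalarTower.toAlgHom k K K₀)))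
    (h1 : Function.Bijective (Algebra.TensorProduct.productMap
      (IsScalarTower.toAlgHom k k' K₁) (IsScalarTower.toAlgHom k K K₁)))
    (t : K) (X : Set K) {r : ℕ} (a : Fin r → K₀)
    (haA : ∀ l, IsIntegral (Algebra.adjoin k' ({algebraMap K K₀ t} : Set K₀)) (a l))
    (ha : IndepMod (Algebra.adjoin k' (algebraMap K K₀ '' X)) a) :
    ∃ a₁ : Fin r → K₁,
      (∀ l, IsIntegral (Algebra.adjoin k' ({algebraMap K K₁ t} : Set K₁)) (a₁ l)) ∧
      IndepMod (Algebra.adjoin k' (algebraMap K K₁ '' X)) a₁ := by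
  obtain ⟨σ, hσ⟩ := exists_model_iso h0 h1
  refine ⟨fun l => σ (a l), ?_, ?_⟩
  · intro l
    have hmap : ∀ s ∈ Algebra.adjoin k' ({algebraMap K K₀ t} : Set K₀),
        σ s ∈ Algebra.adjoin k' ({algebraMap K K₁ t} : Set K₁) := by
      intro s hs
      have h2 : σ s ∈ (Algebra.adjoin k' ({algebraMap K K₀ t} : Set K₀)).map σ.toAlgHom :=
        ⟨s, hs, rfl⟩
      rw [AlgHom.map_adjoin, Set.image_singleton] at h2
      have h3 : σ.toAlgHom (algebraMap K K₀ t) = algebraMap K K₁ t := hσ t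
      rw [h3] at h2
      exact h2
    let φ : Algebra.adjoin k' ({algebraMap K K₀ t} : Set K₀) →+*
        Algebra.adjoin k' ({algebraMap K K₁ t} : Set K₁) :=
      ((σ : K₀ →+* K₁).comp (Algebra.adjoin k' ({algebraMap K K₀ t} : Set K₀)).val.toRingHom).codRestrict
        (Algebra.adjoin k' ({algebraMap K K₁ t} : Set K₁)) (fun s => hmap s.1 s.2)
    exact IsIntegral.map_of_comp_eq φ (σ : K₀ →+* K₁) (by ext; rfl) (haA l)
  · intro c hc
    apply ha c
    have h2 : σ.symm (∑ l, c l • σ (a l)) ∈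
        (Algebra.adjoin k' (algebraMap K K₁ '' X)).map σ.symm.toAlgHom := ⟨_, hc, rfl⟩
    rw [AlgHom.map_adjoin, Set.image_image] at h2
    have h3 : (fun x => σ.symm.toAlgHom (algebraMap K K₁ x)) = fun x => algebraMap K K₀ x := by
      funext x
      show σ.symm (algebraMap K K₁ x) = _
      rw [← hσ x, AlgEquiv.symm_apply_apply]
    rw [h3] at h2
    have h4 : σ.symm (∑ l, c l • σ (a l)) = ∑ l, c l • a l := by
      rw [map_sum]
      apply Finset.sum_congr rfl
      intro l _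
      rw [map_smul, AlgEquiv.symm_apply_apply]
    rw [h4] at h2
    exact h2

end Iso

lemma isScalarTower_bot_top (k k' k'' K K' K'' : Type*) [Field k] [Field k'] [Field k''] [Field K]
    [Field K'] [Field K'']
    [Algebra k k'] [Algebra k' k''] [Algebra k k''] [IsScalarTower k k' k'']
    [Algebra k K] [Algebra K K'] [Algebra k' K'] [Algebra k K'] [IsScalarTower k k' K']
    [IsScalarTower k K K']
    [Algebra K' K''] [Algebra k'' K''] [Algebra k' K''] [Algebra k K''] [Algebra K K'']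
    [IsScalarTower k' k'' K''] [IsScalarTower k' K' K''] [IsScalarTower K K' K'']
    [IsScalarTower k K K''] : IsScalarTower k k'' K'' := by
  apply IsScalarTower.of_algebraMap_eq
  intro c
  rw [IsScalarTower.algebraMap_apply k K K'', IsScalarTower.algebraMap_apply K K' K'',
    ← IsScalarTower.algebraMap_apply k K K', IsScalarTower.algebraMap_apply k k' K',
    ← IsScalarTower.algebraMap_apply k' K' K'', IsScalarTower.algebraMap_apply k' k'' K'',
    ← IsScalarTower.algebraMap_apply k k' k'']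

section Trans

variable {k k' k'' K K' K'' : Type*} [Field k] [Field k'] [Field k''] [Field K]
    [Field K'] [Field K'']
    [Algebra k k'] [Algebra k' k''] [Algebra k k''] [IsScalarTower k k' k'']
    [Algebra k K] [Algebra K K'] [Algebra k' K'] [Algebra k K'] [IsScalarTower k k' K']
    [IsScalarTower k K K']
    [Algebra K' K''] [Algebra k'' K''] [Algebra k' K''] [Algebra k K''] [Algebra K K'']
    [IsScalarTower k' k'' K''] [IsScalarTower k' K' K''] [IsScalarTower K K' K'']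
    [IsScalarTower k K K'']

/-- `K''` is generated over `K` by `k''`. -/
lemma mem_adjoin_range_trans
    (h1 : Function.Surjective (Algebra.TensorProduct.productMap
      (IsScalarTower.toAlgHom k k' K') (IsScalarTower.toAlgHom k K K')))
    (h2 : Function.Surjective (Algebra.TensorProduct.productMap
      (IsScalarTower.toAlgHom k' k'' K'') (IsScalarTower.toAlgHom k' K' K''))) (z : K'') :
    z ∈ Algebra.adjoin K (Set.range (algebraMap k'' K'')) := by
  have hK' : ∀ x : K', algebraMap K' K'' x ∈ Algebra.adjoin K (Set.range (algebraMap k'' K'')) := by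
    intro x
    have hx := Groth.Agent.Lib.LeadCE.mem_adjoin_range h1 x
    induction hx using Algebra.adjoin_induction with
    | mem y hy =>
      obtain ⟨c, rfl⟩ := hy
      rw [← IsScalarTower.algebraMap_apply k' K' K'', IsScalarTower.algebraMap_apply k' k'' K'']
      exact Algebra.subset_adjoin ⟨_, rfl⟩
    | algebraMap r =>
      rw [← IsScalarTower.algebraMap_apply K K' K'']
      exact Subalgebra.algebraMap_mem _ r
    | add x y _ _ hx hy => rw [map_add]; exact Subalgebra.add_mem _ hx hy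
    | mul x y _ _ hx hy => rw [map_mul]; exact Subalgebra.mul_mem _ hx hy
  obtain ⟨w, rfl⟩ := h2 z
  induction w using TensorProduct.induction_on with
  | zero => rw [map_zero]; exact Subalgebra.zero_mem _
  | tmul a b =>
    rw [Algebra.TensorProduct.productMap_apply_tmul]
    exact Subalgebra.mul_mem _ (Algebra.subset_adjoin ⟨a, rfl⟩) (hK' b)
  | add x y hx hy => rw [map_add]; exact Subalgebra.add_mem _ hx hy

/-- transitivity of models. -/
theorem model_trans
    (h1 : Function.Surjective (Algebra.TensorProduct.productMap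
      (IsScalarTower.toAlgHom k k' K') (IsScalarTower.toAlgHom k K K')))
    (h2 : Function.Surjective (Algebra.TensorProduct.productMap
      (IsScalarTower.toAlgHom k' k'' K'') (IsScalarTower.toAlgHom k' K' K'')))
    (hT : IsField (k'' ⊗[k] K)) :
    haveI : IsScalarTower k k'' K'' := isScalarTower_bot_top k k' k'' K K' K''
    Function.Bijective (Algebra.TensorProduct.productMap
      (IsScalarTower.toAlgHom k k'' K'') (IsScalarTower.toAlgHom k K K'')) := by
  haveI : IsScalarTower k k'' K'' := isScalarTower_bot_top k k' k'' K K' K''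
  exact bijective_productMap_of_isField hT (mem_adjoin_range_trans h1 h2)

end Trans

end Groth.Agent.Lib.LeadNS
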