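import Groth.Agent.Lib.LeadNSc

set_option autoImplicit false
set_option maxHeartbeats 400000
set_option linter.style.haveILetI false
set_option linter.unusedSectionVars false
set_option linter.unusedVariables false

/-! Charts, families, and their behaviour under towers of constant extensions. -/

namespace Groth.Agent.Lib.LeadNS

open Polynomial IntermediateField FunFld Groth.Agent.Lib.LeadNST Groth.Agent.Lib.LeadSing
open scoped IntermediateField.algebraAdjoinAdjoin

attribute [-instance]
  IntermediateField.instAlgebraSubtypeMemSubalgebraAdjoinSingletonSetAdjoinCoeRingHomAlgebraMap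

/-- an affine chart: a separating variable with an integral power basis. -/
structure Chart (k K : Type*) [Field k] [Field K] [Algebra k K] where
  t : K
  ht : Transcendental k t
  pb : PowerBasis k⟮t⟯ K
  sep : Algebra.IsSeparable k⟮t⟯ K
  hint : IsIntegral (Algebra.adjoin k ({t} : Set K)) pb.gen

namespace Chart

variable {k K : Type*} [Field k] [Field K] [Algebra k K] (c : Chart k K)

/-- integral families of size `r`, independent modulo `k'[t, y]`. -/
def Fam (k' K' : Type*) [Field k'] [Field K'] [Algebra K K'] [Algebra k' K'] (r : ℕ) : Prop :=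
  ∃ a : Fin r → K',
    (∀ l, IsIntegral (Algebra.adjoin k' ({algebraMap K K' c.t} : Set K')) (a l)) ∧
    IndepMod (Algebra.adjoin k' (algebraMap K K' '' ({c.t, c.pb.gen} : Set K))) a

/-- coordinates of integral elements are integral. -/
def Coords {k' k'' K' K'' : Type*} [Field k'] [Field k''] [Field K'] [Field K'']
    [Algebra K K'] [Algebra k' K'] [Algebra k' k''] [Algebra K' K''] [Algebra k'' K'']
    [Algebra k' K''] [IsScalarTower k' k'' K''] [IsScalarTower k' K' K'']
    [FiniteDimensional k' k'']
    (h2 : Function.Bijective (Algebra.TensorProduct.productMap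
      (IsScalarTower.toAlgHom k' k'' K'') (IsScalarTower.toAlgHom k' K' K''))) : Prop :=
  ∀ z : K'', IsIntegral (Algebra.adjoin k''
      ({algebraMap K' K'' (algebraMap K K' c.t)} : Set K'')) z →
    ∀ i, IsIntegral (Algebra.adjoin k' ({algebraMap K K' c.t} : Set K'))
      ((basisK h2 (Module.finBasis k' k'')).repr z i)

lemma fam_zero (k' K' : Type*) [Field k'] [Field K'] [Algebra K K'] [Algebra k' K'] :
    c.Fam k' K' 0 :=
  ⟨fun l => l.elim0, fun l => l.elim0, fun _ _ => funext fun l => l.elim0⟩

/-- the uniform bound. -/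
theorem exists_bound : ∃ B : ℕ, ∀ (k' K' : Type*) [Field k'] [Field K'] [Algebra k k']
    [Algebra K K'] [Algebra k' K'] [Algebra k K'] [IsScalarTower k k' K'] [IsScalarTower k K K']
    [FiniteDimensional k k'],
    Function.Bijective (Algebra.TensorProduct.productMap
      (IsScalarTower.toAlgHom k k' K') (IsScalarTower.toAlgHom k K K')) →
    ∀ r, c.Fam k' K' r → r ≤ B := by
  haveI := c.sep
  obtain ⟨d₀, hd₀, u, hu, hdu⟩ := exists_monic_discr c.ht c.pb c.hint
  obtain ⟨f₀, hf₀, hf₀y⟩ := c.hint
  refine ⟨f₀.natDegree * d₀.natDegree, ?_⟩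
  intro k' K' _ _ _ _ _ _ _ _ _ h1 r ⟨a, haA, ha⟩
  exact card_le_of_indepMod h1 (Module.finBasis k k') c.ht c.pb c.hint hd₀ hu hdu hf₀ hf₀y a haA ha

theorem fam_transport {k' K₀ K₁ : Type*} [Field k'] [Field K₀] [Field K₁] [Algebra k k']
    [Algebra K K₀] [Algebra k' K₀] [Algebra k K₀] [IsScalarTower k k' K₀] [IsScalarTower k K K₀]
    [Algebra K K₁] [Algebra k' K₁] [Algebra k K₁] [IsScalarTower k k' K₁] [IsScalarTower k K K₁]
    (h0 : Function.Bijective (Algebra.TensorProduct.productMap
      (IsScalarTower.toAlgHom k k' K₀) (IsScalarTower.toAlgHom k K K₀)))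
    (h1 : Function.Bijective (Algebra.TensorProduct.productMap
      (IsScalarTower.toAlgHom k k' K₁) (IsScalarTower.toAlgHom k K K₁)))
    {r : ℕ} (hf : c.Fam k' K₀ r) : c.Fam k' K₁ r := by
  obtain ⟨a, haA, ha⟩ := hf
  exact transport_family h0 h1 c.t {c.t, c.pb.gen} a haA ha

theorem fam_tower {k' k'' K' K'' : Type*} [Field k'] [Field k''] [Field K'] [Field K'']
    [Algebra k k'] [Algebra k' k''] [Algebra k k''] [IsScalarTower k k' k'']
    [Algebra K K'] [Algebra k' K'] [Algebra k K'] [IsScalarTower k k' K'] [IsScalarTower k K K']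
    [Algebra K' K''] [Algebra k'' K''] [Algebra k' K''] [Algebra k K''] [Algebra K K'']
    [IsScalarTower k' k'' K''] [IsScalarTower k' K' K''] [IsScalarTower K K' K'']
    [IsScalarTower k K K''] [FiniteDimensional k' k'']
    (h2 : Function.Bijective (Algebra.TensorProduct.productMap
      (IsScalarTower.toAlgHom k' k'' K'') (IsScalarTower.toAlgHom k' K' K'')))
    {r : ℕ} (hf : c.Fam k' K' r) :
    c.Fam k'' K'' r ∧ (c.Fam k'' K'' (r + 1) ∨ c.Coords h2) := by
  classical
  obtain ⟨a, haA, ha⟩ := hf
  set t' := algebraMap K K' c.t with ht'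
  set y' := algebraMap K K' c.pb.gen with hy'
  have e : ∀ x : K, algebraMap K' K'' (algebraMap K K' x) = algebraMap K K'' x :=
    fun x => (IsScalarTower.algebraMap_apply K K' K'' x).symm
  have himg : algebraMap K' K'' '' (algebraMap K K' '' ({c.t, c.pb.gen} : Set K)) =
      algebraMap K K'' '' ({c.t, c.pb.gen} : Set K) := by
    rw [Set.image_image]
    exact Set.image_congr fun x _ => e x
  have hmapint : ∀ x : K', IsIntegral (Algebra.adjoin k' ({t'} : Set K')) x →
      IsIntegral (Algebra.adjoin k'' ({algebraMap K K'' c.t} : Set K'')) (algebraMap K' K'' x) := by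
    intro x hx
    have h3 := isIntegral_map_of_isIntegral (k' := k'') (K' := K'') hx
    rw [ht', e] at h3
    exact h3
  have hb := Module.finBasis k' k''
  constructor
  · refine ⟨fun l => algebraMap K' K'' (a l), fun l => hmapint _ (haA l), ?_⟩
    have h4 := indepMod_map h2 (Module.finBasis k' k'')
      (algebraMap K K' '' ({c.t, c.pb.gen} : Set K)) ha
    rw [himg] at h4
    exact h4
  by_cases hC : c.Coords h2
  · exact Or.inr hC
  left
  unfold Coords at hC
  push Not at hC
  obtain ⟨z, hz, i₀, hi₀⟩ := hC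
  let A₁ : Subalgebra k' K' :=
    (integralClosure (Algebra.adjoin k' ({t'} : Set K')) K').restrictScalars k'
  have hA₁ : ∀ x : K', x ∈ A₁ ↔ IsIntegral (Algebra.adjoin k' ({t'} : Set K')) x := fun x => Iff.rfl
  have hXA : Algebra.adjoin k' (algebraMap K K' '' ({c.t, c.pb.gen} : Set K)) ≤ A₁ := by
    apply Algebra.adjoin_le
    rintro _ ⟨x, hx, rfl⟩
    rw [SetLike.mem_coe, hA₁]
    rcases hx with rfl | hx
    · have : algebraMap K K' c.t = algebraMap (Algebra.adjoin k' ({t'} : Set K')) K'
          ⟨t', Algebra.self_mem_adjoin_singleton k' t'⟩ := rfl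
      rw [this]
      exact isIntegral_algebraMap
    · rw [Set.mem_singleton_iff] at hx
      subst hx
      exact isIntegral_map_of_isIntegral (k' := k') (K' := K') c.hint
  have h5 := indepMod_snoc h2 (Module.finBasis k' k'')
    (algebraMap K K' '' ({c.t, c.pb.gen} : Set K)) A₁ hXA
    (fun l => (hA₁ _).mpr (haA l)) ha (z := z) (i₀ := i₀) (fun hmem => hi₀ ((hA₁ _).mp hmem))
  rw [himg] at h5
  refine ⟨Fin.snoc (fun l => algebraMap K' K'' (a l)) z, ?_, h5⟩
  intro l
  induction l using Fin.lastCases with
  | last =>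
    rw [Fin.snoc_last]
    rw [e] at hz
    exact hz
  | cast l =>
    rw [Fin.snoc_castSucc]
    exact hmapint _ (haA l)

end Chart

end Groth.Agent.Lib.LeadNS
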