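import Groth.Agent.Lib.LeadNSd
import Groth.Agent.Lib.Helper7FunFldConst

set_option autoImplicit false
set_option maxHeartbeats 800000
set_option linter.style.haveILetI false
set_option linter.unusedSectionVars false
set_option linter.unusedVariables false

/-! A finite purely inseparable constant extension after which all places are nonsingular
with respect to finite purely inseparable extensions. -/

namespace Groth.Agent.Lib.LeadNS

open Polynomial IntermediateField FunFld WithZero Groth.Agent.Lib.LeadNST Groth.Agent.Lib.LeadSing
  Groth.Agent.Lib.LeadFG TensorProduct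

universe u v

variable {k : Type u} {K : Type v} [Field k] [Field K] [Algebra k K]

/-- `n` is the total size of a pair of families over some finite purely inseparable model. -/
def Realizable (c c' : Chart k K) (n : ℕ) : Prop :=
  ∃ (k' : Type u) (_ : Field k') (_ : Algebra k k') (K' : Type v) (_ : Field K')
    (_ : Algebra K K') (_ : Algebra k' K') (_ : Algebra k K') (_ : IsScalarTower k k' K')
    (_ : IsScalarTower k K K'),
    FiniteDimensional k k' ∧ IsPurelyInseparable k k' ∧
    Function.Bijective (Algebra.TensorProduct.productMap
      (IsScalarTower.toAlgHom k k' K') (IsScalarTower.toAlgHom k K K')) ∧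
    ∃ r r' : ℕ, r + r' = n ∧ c.Fam k' K' r ∧ c'.Fam k' K' r'

lemma bijective_self : Function.Bijective (Algebra.TensorProduct.productMap
    (IsScalarTower.toAlgHom k k K) (IsScalarTower.toAlgHom k K K)) := by
  have hid : ⇑(Algebra.TensorProduct.productMap
      (IsScalarTower.toAlgHom k k K) (IsScalarTower.toAlgHom k K K)) =
      ⇑(Algebra.TensorProduct.lid k K) := by
    funext w
    induction w using TensorProduct.induction_on with
    | zero => simp
    | tmul a c =>
      rw [Algebra.TensorProduct.productMap_apply_tmul, Algebra.TensorProduct.lid_tmul,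
        Algebra.smul_def]
      rfl
    | add x y hx hy => rw [map_add, hx, hy, map_add]
  rw [hid]
  exact (Algebra.TensorProduct.lid k K).bijective

lemma realizable_zero (c c' : Chart k K) : Realizable c c' 0 :=
  ⟨k, inferInstance, inferInstance, K, inferInstance, inferInstance, inferInstance, inferInstance,
    inferInstance, inferInstance, inferInstance, inferInstance, bijective_self, 0, 0, rfl,
    c.fam_zero k K, c'.fam_zero k K⟩

open Groth.Agent.Lib.Helper7.FunFldConst in
theorem exists_pi_good (hK : IsFunctionField k K) (hg : IsGeometric k K) (c c' : Chart k K)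
    (hcc' : c.t * c'.t = 1) :
    ∃ (k' : Type u) (_ : Field k') (_ : Algebra k k'), FiniteDimensional k k' ∧
      IsPurelyInseparable k k' ∧
      ∀ (K' : Type v) [Field K'] [Algebra K K'] [Algebra k' K'] [Algebra k K']
        [IsScalarTower k k' K'] [IsScalarTower k K K'],
        Function.Bijective (Algebra.TensorProduct.productMap
          (IsScalarTower.toAlgHom k k' K') (IsScalarTower.toAlgHom k K K')) →
        ∀ (k'' : Type u) [Field k''] [Algebra k' k''] [FiniteDimensional k' k'']
          [IsPurelyInseparable k' k'']
          (K'' : Type v) [Field K''] [Algebra K' K''] [Algebra k'' K''] [Algebra k' K'']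
          [IsScalarTower k' k'' K''] [IsScalarTower k' K' K''],
          Function.Bijective (Algebra.TensorProduct.productMap
            (IsScalarTower.toAlgHom k' k'' K'') (IsScalarTower.toAlgHom k' K' K'')) →
          ∀ Q : Place k' K',
            integralClosure (OE K'' Q) K'' =
              Algebra.adjoin (OE K'' Q) (Set.range (algebraMap k'' K'')) := by
  classical
  obtain ⟨B, hB⟩ := c.exists_bound
  obtain ⟨B', hB'⟩ := c'.exists_bound
  have hbound : ∀ n, Realizable c c' n → n ≤ B + B' := by
    rintro n ⟨k', _, _, K', _, _, _, _, _, _, hfin, -, h1, r, r', hrr', hf, hf'⟩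
    haveI := hfin
    have e1 := hB k' K' h1 r hf
    have e2 := hB' k' K' h1 r' hf'
    omega
  obtain ⟨n₀, hn₀, hmax⟩ : ∃ n, Realizable c c' n ∧ ∀ m, Realizable c c' m → m ≤ n :=
    ⟨Nat.findGreatest (Realizable c c') (B + B'),
      Nat.findGreatest_spec (P := Realizable c c') (Nat.zero_le _) (realizable_zero c c'),
      fun m hm => Nat.le_findGreatest (hbound m hm) hm⟩
  obtain ⟨k', fk', ak', K₀, fK₀, a1, a2, a3, t1, t2, hfin, hpi, h0, r, r', hrr', hf, hf'⟩ := hn₀
  refine ⟨k', fk', ak', hfin, hpi, ?_⟩
  intro K' _ _ _ _ _ _ h1 k'' _ _ _ _ K'' _ _ _ _ _ _ h2 Q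
  have hf1 := c.fam_transport h0 h1 hf
  have hf1' := c'.fam_transport h0 h1 hf'
  letI : Algebra k k'' := ((algebraMap k' k'').comp (algebraMap k k')).toAlgebra
  haveI : IsScalarTower k k' k'' := IsScalarTower.of_algebraMap_eq fun _ => rfl
  letI : Algebra K K'' := ((algebraMap K' K'').comp (algebraMap K K')).toAlgebra
  haveI : IsScalarTower K K' K'' := IsScalarTower.of_algebraMap_eq fun _ => rfl
  letI : Algebra k K'' := ((algebraMap K K'').comp (algebraMap k K)).toAlgebra
  haveI : IsScalarTower k K K'' := IsScalarTower.of_algebraMap_eq fun _ => rfl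
  haveI : IsScalarTower k k'' K'' := isScalarTower_bot_top k k' k'' K K' K''
  haveI : FiniteDimensional k k'' := Module.Finite.trans k' k''
  haveI : IsPurelyInseparable k k'' := IsPurelyInseparable.trans k k' k''
  have hT : IsField (k'' ⊗[k] K) := hg k'' inferInstance
  have h12 := model_trans h1.2 h2.2 hT
  obtain ⟨hfam, hor⟩ := c.fam_tower h2 hf1
  obtain ⟨hfam', hor'⟩ := c'.fam_tower h2 hf1'
  have hC : c.Coords h2 := by
    rcases hor with h | h
    · exfalso
      have := hmax (r + 1 + r') ⟨k'', inferInstance, inferInstance, K'', inferInstance,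
        inferInstance, inferInstance, inferInstance, inferInstance, inferInstance,
        inferInstance, inferInstance, h12, r + 1, r', rfl, h, hfam'⟩
      omega
    · exact h
  have hC' : c'.Coords h2 := by
    rcases hor' with h | h
    · exfalso
      have := hmax (r + (r' + 1)) ⟨k'', inferInstance, inferInstance, K'', inferInstance,
        inferInstance, inferInstance, inferInstance, inferInstance, inferInstance,
        inferInstance, inferInstance, h12, r, r' + 1, rfl, hfam, h⟩
      omega
    · exact h
  haveI := hfin
  have hK'ff : IsFF k' K' := (isFunctionField_constExt h1 hK hg).1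
  by_cases hQ : Q.1 (algebraMap K K' c.t) ≤ 1
  · exact nonsingular_of_coords h2 (Module.finBasis k' k'') hK'ff (transcendental_map c.ht) hC Q hQ
  · have hQ' : Q.1 (algebraMap K K' c'.t) ≤ 1 := by
      rw [not_le] at hQ
      have hprod : Q.1 (algebraMap K K' c.t) * Q.1 (algebraMap K K' c'.t) = 1 := by
        rw [← map_mul, ← map_mul, hcc', map_one, map_one]
      by_contra hgt
      rw [not_le] at hgt
      have : (1 : WithZero (Multiplicative ℤ)) * 1 <
          Q.1 (algebraMap K K' c.t) * Q.1 (algebraMap K K' c'.t) :=
        mul_lt_mul'' hQ hgt zero_le_one zero_le_one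
      rw [hprod, one_mul] at this
      exact lt_irrefl _ this
    exact nonsingular_of_coords h2 (Module.finBasis k' k'') hK'ff (transcendental_map c'.ht) hC' Q hQ'

end Groth.Agent.Lib.LeadNS
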