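import Groth.Agent.Lib.LeadSingD
import Groth.Agent.Lib.Helper7FunFldP

set_option autoImplicit false
set_option maxHeartbeats 400000
set_option linter.style.haveILetI false
set_option linter.unusedSectionVars false
set_option linter.unusedVariables false

/-! Finiteness of the set of singular places of a geometric function field. -/

universe u v

namespace Groth.Agent.Lib.LeadSing

open FunFld WithZero Polynomial IntermediateField Groth.Agent.Lib.LeadFG Groth.Agent.Lib.LeadNST
open scoped TensorProduct IntermediateField.algebraAdjoinAdjoin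

section E

/-- an integral primitive element. -/
lemma exists_integral_powerBasis {k K : Type*} [Field k] [Field K] [Algebra k K] (t : K)
    [FiniteDimensional k⟮t⟯ K] [Algebra.IsSeparable k⟮t⟯ K] :
    ∃ pb : PowerBasis k⟮t⟯ K, IsIntegral (Algebra.adjoin k ({t} : Set K)) pb.gen := by
  let pb₀ := Field.powerBasisOfFiniteOfSeparable k⟮t⟯ K
  have halgF : IsAlgebraic k⟮t⟯ pb₀.gen := Algebra.IsAlgebraic.isAlgebraic _
  have halg : IsAlgebraic (Algebra.adjoin k ({t} : Set K)) pb₀.gen :=
    (IsFractionRing.isAlgebraic_iff (Algebra.adjoin k ({t} : Set K)) k⟮t⟯ K).mpr halgF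
  obtain ⟨u, hu0, hu⟩ := halg.exists_integral_multiple
  set y : K := u • pb₀.gen with hy
  have huK : (u : K) ≠ 0 := fun h => hu0 (Subtype.ext h)
  have hyint : IsIntegral k⟮t⟯ y := Algebra.IsIntegral.isIntegral _
  have huF : (u : K) ∈ k⟮t⟯ := algebra_adjoin_le_adjoin k _ u.2
  have htop : k⟮t⟯⟮y⟯ = ⊤ := by
    have h0 : k⟮t⟯⟮pb₀.gen⟯ = ⊤ := adjoin_eq_top_of_algebra _ _ pb₀.adjoin_gen_eq_top
    rw [eq_top_iff, ← h0, adjoin_simple_le_iff]
    have h2 : pb₀.gen = (u : K)⁻¹ * y := by
      rw [hy, Subalgebra.smul_def, smul_eq_mul, ← mul_assoc, inv_mul_cancel₀ huK, one_mul]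
    rw [h2]
    refine mul_mem (inv_mem ?_) (mem_adjoin_simple_self _ y)
    exact IntermediateField.algebraMap_mem _ (⟨(u : K), huF⟩ : k⟮t⟯)
  let pb : PowerBasis k⟮t⟯ K := (adjoin.powerBasis hyint).map
    ((IntermediateField.equivOfEq htop).trans IntermediateField.topEquiv)
  refine ⟨pb, ?_⟩
  have hgen : pb.gen = y := by
    simp [pb]
  rw [hgen]
  exact hu

theorem finite_singular (k : Type u) (K : Type v) [Field k] [Field K] [Algebra k K]
    (hK : FunFld.IsFunctionField k K) (hg : FunFld.IsGeometric k K) :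
    {P : FunFld.Place k K | ∃ (k' : Type u) (_ : Field k') (_ : Algebra k k'),
      FiniteDimensional k k' ∧
      integralClosure (P.O.toSubring.map
        (Algebra.TensorProduct.includeRight : K →ₐ[k] k' ⊗[k] K).toRingHom) (k' ⊗[k] K) ≠
        Algebra.adjoin (P.O.toSubring.map
          (Algebra.TensorProduct.includeRight : K →ₐ[k] k' ⊗[k] K).toRingHom)
          (Set.range (Algebra.TensorProduct.includeLeftRingHom : k' →+* k' ⊗[k] K))}.Finite := by
  classical
  obtain ⟨t, hsep, -, hDt⟩ := Groth.Agent.Lib.Helper7.FunFldP.exists_sep_var k K hK hg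
  have hKff : IsFF k K := hK.1
  have ht : Transcendental k t := by
    intro halg
    obtain ⟨c, rfl⟩ := hK.2 t halg
    exact hDt (Derivation.map_algebraMap _ c)
  haveI : FiniteDimensional k⟮t⟯ K := finite_over_adjoin hKff ht
  haveI := hsep
  obtain ⟨pb, hint⟩ := exists_integral_powerBasis (k := k) t
  set D : K := algebraMap k⟮t⟯ K (Algebra.discr k⟮t⟯ pb.basis) with hD
  have hD0 : D ≠ 0 := by
    rw [hD, Ne, map_eq_zero]
    exact Algebra.discr_not_zero_of_basis _ pb.basis
  have ht0 : t ≠ 0 := fun h => ht (h ▸ isAlgebraic_zero)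
  apply ((support_ord_finite hKff t).union (support_ord_finite hKff D)).subset
  rintro P ⟨k', _, _, hfin, hne⟩
  by_contra hP
  rw [Set.mem_union, not_or, Function.mem_support, Function.mem_support, not_not, not_not] at hP
  have hPt : P.1 t = 1 := by rw [val_eq_exp_neg_ord P ht0, hP.1, neg_zero, exp_zero]
  have hPD : P.1 D = 1 := by rw [val_eq_exp_neg_ord P hD0, hP.2, neg_zero, exp_zero]
  apply hne
  letI : Field (k' ⊗[k] K) := (hg k' hfin).toField
  letI : Algebra K (k' ⊗[k] K) := Algebra.TensorProduct.rightAlgebra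
  have h1 : Function.Bijective (Algebra.TensorProduct.productMap
      (IsScalarTower.toAlgHom k k' (k' ⊗[k] K)) (IsScalarTower.toAlgHom k K (k' ⊗[k] K))) := by
    have hid : ⇑(Algebra.TensorProduct.productMap
      (IsScalarTower.toAlgHom k k' (k' ⊗[k] K)) (IsScalarTower.toAlgHom k K (k' ⊗[k] K))) = id := by
      funext w
      induction w using TensorProduct.induction_on with
      | zero => simp
      | tmul a c =>
        rw [Algebra.TensorProduct.productMap_apply_tmul]
        show (a ⊗ₜ[k] (1 : K)) * ((1 : k') ⊗ₜ[k] c) = a ⊗ₜ[k] c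
        rw [Algebra.TensorProduct.tmul_mul_tmul, mul_one, one_mul]
      | add x y hx hy => rw [map_add, hx, hy]; rfl
    rw [hid]
    exact Function.bijective_id
  exact nonsingular_of_good (k' := k') (K' := k' ⊗[k] K) h1 hKff ht pb hint P hPt.le hPD

end E

end Groth.Agent.Lib.LeadSing
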