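import Groth.Agent.Lib.LeadNSe
import Groth.Agent.Lib.LeadSingE

set_option autoImplicit false
set_option maxHeartbeats 800000
set_option linter.style.haveILetI false
set_option linter.unusedSectionVars false
set_option linter.unusedVariables false

/-! The two charts of a geometric function field. -/

namespace Groth.Agent.Lib.LeadNS

open Polynomial IntermediateField FunFld WithZero Groth.Agent.Lib.LeadNST Groth.Agent.Lib.LeadSing
  Groth.Agent.Lib.LeadFG TensorProduct

universe u v

variable {k : Type u} {K : Type v} [Field k] [Field K] [Algebra k K]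

theorem exists_charts (hK : IsFunctionField k K) (hg : IsGeometric k K) :
    ∃ c c' : Chart k K, c.t * c'.t = 1 := by
  classical
  obtain ⟨t, hsep, -, hDt⟩ := Groth.Agent.Lib.Helper7.FunFldP.exists_sep_var k K hK hg
  have hKff : IsFF k K := hK.1
  have ht : Transcendental k t := by
    intro halg
    obtain ⟨c, rfl⟩ := hK.2 t halg
    exact hDt (Derivation.map_algebraMap _ c)
  have ht0 : t ≠ 0 := fun h => ht (h ▸ isAlgebraic_zero)
  have hs : Transcendental k t⁻¹ := by
    intro halg
    apply ht
    have := halg.inv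
    rwa [inv_inv] at this
  have heq : k⟮t⁻¹⟯ = k⟮t⟯ := by
    apply le_antisymm
    · rw [adjoin_simple_le_iff]
      exact inv_mem (mem_adjoin_simple_self k t)
    · rw [adjoin_simple_le_iff]
      have := inv_mem (mem_adjoin_simple_self k t⁻¹)
      rwa [inv_inv] at this
  have hsep' : Algebra.IsSeparable k⟮t⁻¹⟯ K := by
    have : ∀ E : IntermediateField k K, E = k⟮t⟯ → Algebra.IsSeparable E K := by
      rintro _ rfl
      exact hsep
    exact this _ heq
  haveI : FiniteDimensional k⟮t⟯ K := finite_over_adjoin hKff ht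
  haveI : FiniteDimensional k⟮t⁻¹⟯ K := finite_over_adjoin hKff hs
  haveI := hsep
  haveI := hsep'
  obtain ⟨pb, hint⟩ := exists_integral_powerBasis (k := k) t
  obtain ⟨pb', hint'⟩ := exists_integral_powerBasis (k := k) t⁻¹
  exact ⟨⟨t, ht, pb, hsep, hint⟩, ⟨t⁻¹, hs, pb', hsep', hint'⟩, mul_inv_cancel₀ ht0⟩

end Groth.Agent.Lib.LeadNS
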