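import Groth.Agent.Lib.LeadNSc

set_option autoImplicit false
set_option maxHeartbeats 800000
set_option linter.style.haveILetI false
set_option linter.unusedSectionVars false
set_option linter.unusedVariables false

/-! Separability over the perfect closure in a finite normal extension; separable constant
extensions are nonsingular (subring form); existence of finite normal extensions. -/

namespace Groth.Agent.Lib.LeadNS

open Polynomial IntermediateField FunFld Groth.Agent.Lib.LeadNST

section M5

variable (F N : Type*) [Field F] [Field N] [Algebra F N] [FiniteDimensional F N] [Normal F N]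

/-- elements fixed by all automorphisms of a normal extension are purely inseparable. -/
lemma mem_perfectClosure_of_fixed {x : N} (hx : ∀ σ : N ≃ₐ[F] N, σ x = x) :
    x ∈ perfectClosure F N := by
  classical
  rw [mem_perfectClosure_iff_natSepDegree_eq_one]
  have hint : IsIntegral F x := Algebra.IsIntegral.isIntegral x
  rw [natSepDegree_eq_of_splits (E := N) _ (Normal.splits inferInstance x)]
  have hroots : ((minpoly F x).aroots N).toFinset = {x} := by
    ext y
    rw [Multiset.mem_toFinset, mem_aroots, Finset.mem_singleton]
    constructor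
    · rintro ⟨-, hy⟩
      have hconj : IsConjRoot F x y := isConjRoot_of_aeval_eq_zero hint hy
      obtain ⟨σ, hσ⟩ := isConjRoot_iff_exists_algEquiv.mp hconj
      have h1 := hx σ⁻¹
      rw [← hσ] at h1
      have h2 : σ⁻¹ (σ y) = y := σ.symm_apply_apply y
      rw [h2] at h1
      rw [h1, hσ]
    · rintro rfl
      exact ⟨minpoly.ne_zero hint, minpoly.aeval F y⟩
  rw [hroots, Finset.card_singleton]

/-- a finite normal extension is separable over its perfect closure. -/
theorem isSeparable_over_perfectClosure : Algebra.IsSeparable (perfectClosure F N) N := by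
  classical
  haveI : Finite (N ≃ₐ[F] N) := inferInstance
  haveI hgal : IsGalois (FixedPoints.subfield (N ≃ₐ[F] N) N) N :=
    IsGalois.of_fixed_field N (N ≃ₐ[F] N)
  have hle : ∀ x : N, x ∈ FixedPoints.subfield (N ≃ₐ[F] N) N → x ∈ perfectClosure F N := by
    intro x hx
    apply mem_perfectClosure_of_fixed
    intro σ
    exact hx σ
  let j : FixedPoints.subfield (N ≃ₐ[F] N) N →+* perfectClosure F N :=
    { toFun := fun x => ⟨x.1, hle x.1 x.2⟩
      map_one' := rfl
      map_mul' := fun _ _ => rfl
      map_zero' := rfl
      map_add' := fun _ _ => rfl }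
  letI : Algebra (FixedPoints.subfield (N ≃ₐ[F] N) N) (perfectClosure F N) := j.toAlgebra
  haveI : IsScalarTower (FixedPoints.subfield (N ≃ₐ[F] N) N) (perfectClosure F N) N :=
    IsScalarTower.of_algebraMap_eq fun _ => rfl
  exact Algebra.isSeparable_tower_top_of_isSeparable (FixedPoints.subfield (N ≃ₐ[F] N) N)
    (perfectClosure F N) N

end M5

section M4

variable {k k' K K' : Type*} [Field k] [Field k'] [Field K] [Field K']
  [Algebra k k'] [Algebra k K] [Algebra K K'] [Algebra k' K'] [Algebra k K']
  [IsScalarTower k k' K'] [IsScalarTower k K K'] [FiniteDimensional k k']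
  [Algebra.IsSeparable k k']

/-- separable constant extensions are nonsingular (subring form). -/
theorem nonsingular_of_separable
    (h : Function.Surjective (Algebra.TensorProduct.productMap
      (IsScalarTower.toAlgHom k k' K') (IsScalarTower.toAlgHom k K K')))
    (hK : IsFunctionField k K) (P : Place k K) :
    integralClosure (OE K' P) K' =
      Algebra.adjoin (OE K' P) (Set.range (algebraMap k' K')) := by
  classical
  letI : Algebra P.O K' := ((algebraMap K K').comp (algebraMap P.O K)).toAlgebra
  haveI : IsScalarTower P.O K K' := IsScalarTower.of_algebraMap_eq fun _ => rfl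
  have h0 := Groth.Agent.Lib.LeadCE.integralClosure_eq h hK P
  rw [integralClosure_eq_adjoin_iff]
  swap
  · rintro _ ⟨c, rfl⟩
    exact isIntegral_OE_of_isIntegral P
      ((Algebra.IsIntegral.isIntegral (R := k) c).map (IsScalarTower.toAlgHom k k' K'))
  intro z hz
  -- integrality over `P.O`
  let φ : P.O →+* OE K' P :=
    ((algebraMap K K').comp (algebraMap P.O K)).codRestrict (OE K' P)
      (fun x => ⟨(x : K), x.2, rfl⟩)
  have hφ : Function.Surjective φ := by
    rintro ⟨_, ⟨x, hx, rfl⟩⟩
    exact ⟨⟨x, hx⟩, rfl⟩
  obtain ⟨p, hp, hpz⟩ := hz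
  obtain ⟨q, hq, -, hqm⟩ := Polynomial.lifts_and_degree_eq_and_monic
    ((Polynomial.mem_lifts p).mpr (Polynomial.map_surjective φ hφ p)) hp
  have hzint : IsIntegral P.O z := by
    refine ⟨q, hqm, ?_⟩
    have hcomp : (algebraMap (OE K' P) K').comp φ = algebraMap P.O K' := by
      ext; rfl
    rw [← hcomp, ← Polynomial.eval₂_map, hq]
    exact hpz
  have hmem : z ∈ (integralClosure P.O K').toSubring := hzint
  rw [h0] at hmem
  have hmem' : z ∈ Algebra.adjoin P.O (Set.range (algebraMap k' K')) := hmem
  have key : ∀ w : K', w ∈ Algebra.adjoin P.O (Set.range (algebraMap k' K')) →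
      w ∈ Algebra.adjoin (OE K' P) (Set.range (algebraMap k' K')) := by
    intro w hw
    induction hw using Algebra.adjoin_induction with
    | mem x hx => exact Algebra.subset_adjoin hx
    | algebraMap r =>
      exact Subalgebra.algebraMap_mem _ (⟨algebraMap K K' (r : K), mem_OE r.2⟩ : OE K' P)
    | add x y _ _ hx hy => exact Subalgebra.add_mem _ hx hy
    | mul x y _ _ hx hy => exact Subalgebra.mul_mem _ hx hy
  exact key z hmem'

end M4

section Normal

universe u

/-- a finite extension embeds in a finite normal extension (in the same universe). -/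
theorem exists_normal_ext (F E : Type u) [Field F] [Field E] [Algebra F E]
    [FiniteDimensional F E] :
    ∃ (N : Type u) (_ : Field N) (_ : Algebra F N) (_ : Algebra E N) (_ : IsScalarTower F E N),
      FiniteDimensional F N ∧ Normal F N := by
  haveI : Algebra.IsAlgebraic F (AlgebraicClosure E) :=
    Algebra.IsAlgebraic.trans F E (AlgebraicClosure E)
  haveI : IsAlgClosure F (AlgebraicClosure E) := ⟨inferInstance, inferInstance⟩
  haveI : Normal F (AlgebraicClosure E) := IsAlgClosure.normal F (AlgebraicClosure E)
  exact ⟨normalClosure F E (AlgebraicClosure E), inferInstance, inferInstance, inferInstance,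
    inferInstance, inferInstance, inferInstance⟩

end Normal

end Groth.Agent.Lib.LeadNS
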