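import Groth.Agent.Lib.LeadNSf
import Groth.Agent.Lib.LeadNSg

set_option autoImplicit false
set_option maxHeartbeats 800000
set_option linter.style.haveILetI false
set_option linter.unusedSectionVars false
set_option linter.unusedVariables false

/-! Nonsingularity with respect to purely inseparable extensions implies nonsingularity with
respect to all finite extensions. -/

namespace Groth.Agent.Lib.LeadNS

open Polynomial IntermediateField FunFld WithZero Groth.Agent.Lib.LeadNST Groth.Agent.Lib.LeadSing
  Groth.Agent.Lib.LeadFG TensorProduct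

universe u v

section Chain

variable (k' Ni N k'' : Type u) (K' Ki KN K'' : Type v)
  [Field k'] [Field Ni] [Field N] [Field k''] [Field K'] [Field Ki] [Field KN] [Field K'']
  [Algebra k' Ni] [Algebra Ni N] [Algebra k' N] [IsScalarTower k' Ni N]
  [Algebra k' k''] [Algebra k'' N] [IsScalarTower k' k'' N]
  [FiniteDimensional k' Ni] [FiniteDimensional Ni N] [FiniteDimensional k' k'']
  [FiniteDimensional k'' N] [Algebra.IsSeparable Ni N]
  [Algebra k' K']
  [Algebra K' Ki] [Algebra Ni Ki] [Algebra k' Ki] [IsScalarTower k' Ni Ki] [IsScalarTower k' K' Ki]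
  [Algebra Ki KN] [Algebra N KN] [Algebra Ni KN] [Algebra k' KN] [Algebra K' KN]
  [IsScalarTower Ni N KN] [IsScalarTower Ni Ki KN] [IsScalarTower K' Ki KN]
  [IsScalarTower k' K' KN]
  [Algebra K' K''] [Algebra k'' K''] [Algebra k' K''] [IsScalarTower k' k'' K'']
  [IsScalarTower k' K' K'']
  [Algebra K'' KN] [Algebra k'' KN] [IsScalarTower k'' N KN] [IsScalarTower k'' K'' KN]
  [IsScalarTower K' K'' KN]

theorem nonsingular_of_chain
    (hi : Function.Bijective (Algebra.TensorProduct.productMap
      (IsScalarTower.toAlgHom k' Ni Ki) (IsScalarTower.toAlgHom k' K' Ki)))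
    (hN : Function.Bijective (Algebra.TensorProduct.productMap
      (IsScalarTower.toAlgHom Ni N KN) (IsScalarTower.toAlgHom Ni Ki KN)))
    (h2 : Function.Bijective (Algebra.TensorProduct.productMap
      (IsScalarTower.toAlgHom k' k'' K'') (IsScalarTower.toAlgHom k' K' K'')))
    (h2' : Function.Bijective (Algebra.TensorProduct.productMap
      (IsScalarTower.toAlgHom k'' N KN) (IsScalarTower.toAlgHom k'' K'' KN)))
    (hK' : IsFunctionField k' K') (hKi : IsFunctionField Ni Ki) (Q : Place k' K')
    (hQi : integralClosure (OE Ki Q) Ki =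
      Algebra.adjoin (OE Ki Q) (Set.range (algebraMap Ni Ki))) :
    integralClosure (OE K'' Q) K'' =
      Algebra.adjoin (OE K'' Q) (Set.range (algebraMap k'' K'')) := by
  have T1 := nonsingular_tower k' Ni N K' Ki KN hi hN hK' Q
  have T2 := nonsingular_tower k' k'' N K' K'' KN h2 h2' hK' Q
  have hN' : integralClosure (OE KN Q) KN =
      Algebra.adjoin (OE KN Q) (Set.range (algebraMap N KN)) := by
    refine T1.mpr ⟨hQi, fun Qi _ => ?_⟩
    let Qi' : Place Ni Ki := ⟨Qi.1, fun c => LeadFG.val_le_one_of_isIntegral (LeadFG.place_trivOn Qi)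
      ((Algebra.IsIntegral.isIntegral (R := k') c).map (IsScalarTower.toAlgHom k' Ni Ki)), Qi.2.2⟩
    exact nonsingular_of_separable (k := Ni) (k' := N) (K := Ki) (K' := KN) hN.2 hKi Qi'
  exact (T2.mp hN').1

end Chain

section Reduce

open Groth.Agent.Lib.Helper7.FunFldConst

variable (k' : Type u) (K' : Type v) [Field k'] [Field K'] [Algebra k' K']

theorem nonsingular_of_pi (hK' : IsFunctionField k' K') (hg' : IsGeometric k' K')
    (H : ∀ (k'' : Type u) [Field k''] [Algebra k' k''] [FiniteDimensional k' k'']
      [IsPurelyInseparable k' k'']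
      (K'' : Type v) [Field K''] [Algebra K' K''] [Algebra k'' K''] [Algebra k' K'']
      [IsScalarTower k' k'' K''] [IsScalarTower k' K' K''],
      Function.Bijective (Algebra.TensorProduct.productMap
        (IsScalarTower.toAlgHom k' k'' K'') (IsScalarTower.toAlgHom k' K' K'')) →
      ∀ Q : Place k' K',
        integralClosure (OE K'' Q) K'' =
          Algebra.adjoin (OE K'' Q) (Set.range (algebraMap k'' K'')))
    (k'' : Type u) [Field k''] [Algebra k' k''] [FiniteDimensional k' k'']
    (K'' : Type v) [Field K''] [Algebra K' K''] [Algebra k'' K''] [Algebra k' K'']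
    [IsScalarTower k' k'' K''] [IsScalarTower k' K' K'']
    (h2 : Function.Bijective (Algebra.TensorProduct.productMap
      (IsScalarTower.toAlgHom k' k'' K'') (IsScalarTower.toAlgHom k' K' K'')))
    (Q : Place k' K') :
    integralClosure (OE K'' Q) K'' =
      Algebra.adjoin (OE K'' Q) (Set.range (algebraMap k'' K'')) := by
  classical
  -- the normal extension
  obtain ⟨N, _, _, _, _, hNfin, hNnorm⟩ := exists_normal_ext k' k''
  haveI := hNfin
  haveI := hNnorm
  -- its purely inseparable part
  let Ni : IntermediateField k' N := perfectClosure k' N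
  haveI : Algebra.IsSeparable Ni N := isSeparable_over_perfectClosure k' N
  haveI : FiniteDimensional k'' N := Module.Finite.of_restrictScalars_finite k' k'' N
  -- the model over `Ni`
  obtain ⟨Ki, _, _, _, _, _, _, hi⟩ := exists_model k' Ni K' (hg' Ni inferInstance)
  have hKi : IsFunctionField Ni Ki := isFunctionField_constExt hi hK' hg'
  have hgi : IsGeometric Ni Ki := isGeometric_constExt hi hg'
  -- the model over `N`
  obtain ⟨KN, _, _, _, _, _, _, hN⟩ := exists_model Ni N Ki (hgi N inferInstance)
  letI : Algebra k' KN := ((algebraMap Ki KN).comp (algebraMap k' Ki)).toAlgebra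
  letI : Algebra K' KN := ((algebraMap Ki KN).comp (algebraMap K' Ki)).toAlgebra
  haveI : IsScalarTower K' Ki KN := IsScalarTower.of_algebraMap_eq fun _ => rfl
  haveI : IsScalarTower k' Ki KN := IsScalarTower.of_algebraMap_eq fun _ => rfl
  haveI : IsScalarTower k' K' KN := by
    apply IsScalarTower.of_algebraMap_eq
    intro c
    rw [IsScalarTower.algebraMap_apply k' Ki KN, IsScalarTower.algebraMap_apply k' K' Ki,
      ← IsScalarTower.algebraMap_apply K' Ki KN]
  haveI : IsScalarTower k' N KN := isScalarTower_bot_top k' Ni N K' Ki KN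
  -- `KN` as a model over `K''`
  letI : Algebra k'' KN := ((algebraMap N KN).comp (algebraMap k'' N)).toAlgebra
  haveI : IsScalarTower k'' N KN := IsScalarTower.of_algebraMap_eq fun _ => rfl
  haveI : IsScalarTower k' k'' KN := by
    apply IsScalarTower.of_algebraMap_eq
    intro c
    rw [IsScalarTower.algebraMap_apply k'' N KN, ← IsScalarTower.algebraMap_apply k' k'' N,
      ← IsScalarTower.algebraMap_apply k' N KN]
  let e₂ : k'' ⊗[k'] K' ≃ₐ[k'] K'' := AlgEquiv.ofBijective _ h2
  let ψ : k'' ⊗[k'] K' →ₐ[k'] KN := Algebra.TensorProduct.productMap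
    (IsScalarTower.toAlgHom k' k'' KN) (IsScalarTower.toAlgHom k' K' KN)
  let φ : K'' →ₐ[k'] KN := ψ.comp e₂.symm.toAlgHom
  letI : Algebra K'' KN := φ.toRingHom.toAlgebra
  have he₂c : ∀ c : k'', e₂ (c ⊗ₜ 1) = algebraMap k'' K'' c := by
    intro c
    show Algebra.TensorProduct.productMap _ _ (c ⊗ₜ[k'] (1 : K')) = _
    simp
  have he₂x : ∀ x : K', e₂ (1 ⊗ₜ x) = algebraMap K' K'' x := by
    intro x
    show Algebra.TensorProduct.productMap _ _ ((1 : k'') ⊗ₜ[k'] x) = _
    simp
  have hφc : ∀ c : k'', algebraMap K'' KN (algebraMap k'' K'' c) = algebraMap k'' KN c := by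
    intro c
    show ψ (e₂.symm (algebraMap k'' K'' c)) = _
    rw [← he₂c, AlgEquiv.symm_apply_apply]
    simp [ψ]
  have hφx : ∀ x : K', algebraMap K'' KN (algebraMap K' K'' x) = algebraMap K' KN x := by
    intro x
    show ψ (e₂.symm (algebraMap K' K'' x)) = _
    rw [← he₂x, AlgEquiv.symm_apply_apply]
    simp [ψ]
  haveI : IsScalarTower k'' K'' KN := IsScalarTower.of_algebraMap_eq fun c => (hφc c).symm
  haveI : IsScalarTower K' K'' KN := IsScalarTower.of_algebraMap_eq fun x => (hφx x).symm
  -- bijectivity of `N ⊗ K'' → KN`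
  have hK'' : IsGeometric k'' K'' := isGeometric_constExt h2 hg'
  have hgen : ∀ z : KN, z ∈ Algebra.adjoin K'' (Set.range (algebraMap N KN)) := by
    intro z
    have hz := mem_adjoin_range_trans (k := k') (k' := Ni) (k'' := N) (K := K') (K' := Ki)
      (K'' := KN) hi.2 hN.2 z
    induction hz using Algebra.adjoin_induction with
    | mem x hx => exact Algebra.subset_adjoin hx
    | algebraMap r =>
      rw [← hφx r]
      exact Subalgebra.algebraMap_mem _ _
    | add x y _ _ hx hy => exact Subalgebra.add_mem _ hx hy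
    | mul x y _ _ hx hy => exact Subalgebra.mul_mem _ hx hy
  have h2' := bijective_productMap_of_isField (hK'' N inferInstance) hgen
  exact nonsingular_of_chain k' Ni N k'' K' Ki KN K'' hi hN h2 h2' hK' hKi Q
    (H Ni Ki hi Q)

end Reduce

end Groth.Agent.Lib.LeadNS
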