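import Mathlib

universe v u
open CategoryTheory CategoryTheory.Pretriangulated CategoryTheory.Triangulated

namespace Groth.Agent.Lib.LeadNine

theorem nine {D : Type u} [Category.{v} D] [Preadditive D] [Limits.HasZeroObject D] [HasShift D ℤ]
    [∀ n : ℤ, (shiftFunctor D n).Additive] [Pretriangulated D] [IsTriangulated D]
    {X Y X' Y' : D} (f : X ⟶ Y) (f' : X' ⟶ Y') (u : X ⟶ X') (v : Y ⟶ Y') (comm : f ≫ v = u ≫ f') :
    ∃ (Z Z' X'' Y'' Z'' : D) (g : Y ⟶ Z) (h : Z ⟶ (shiftFunctor D (1 : ℤ)).obj X)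
      (g' : Y' ⟶ Z') (h' : Z' ⟶ (shiftFunctor D (1 : ℤ)).obj X')
      (f'' : X'' ⟶ Y'') (g'' : Y'' ⟶ Z'') (h'' : Z'' ⟶ (shiftFunctor D (1 : ℤ)).obj X'')
      (u' : X' ⟶ X'') (u'' : X'' ⟶ (shiftFunctor D (1 : ℤ)).obj X)
      (v' : Y' ⟶ Y'') (v'' : Y'' ⟶ (shiftFunctor D (1 : ℤ)).obj Y)
      (w : Z ⟶ Z') (w' : Z' ⟶ Z'') (w'' : Z'' ⟶ (shiftFunctor D (1 : ℤ)).obj Z),
      Triangle.mk f g h ∈ distinguishedTriangles ∧ Triangle.mk f' g' h' ∈ distinguishedTriangles ∧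
      Triangle.mk f'' g'' h'' ∈ distinguishedTriangles ∧
      Triangle.mk u u' u'' ∈ distinguishedTriangles ∧ Triangle.mk v v' v'' ∈ distinguishedTriangles ∧
      Triangle.mk w w' w'' ∈ distinguishedTriangles ∧
      g ≫ w = v ≫ g' ∧ h ≫ (shiftFunctor D (1 : ℤ)).map u = w ≫ h' ∧
      f' ≫ v' = u' ≫ f'' ∧ g' ≫ w' = v' ≫ g'' ∧ h' ≫ (shiftFunctor D (1 : ℤ)).map u' = w' ≫ h'' ∧
      f'' ≫ v'' = u'' ≫ (shiftFunctor D (1 : ℤ)).map f ∧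
      g'' ≫ w'' = v'' ≫ (shiftFunctor D (1 : ℤ)).map g ∧
      h'' ≫ (shiftFunctor D (1 : ℤ)).map u'' = -(w'' ≫ (shiftFunctor D (1 : ℤ)).map h) := by
  obtain ⟨Z, g, h, hT⟩ := distinguished_cocone_triangle f
  obtain ⟨Z', g', h', hT'⟩ := distinguished_cocone_triangle f'
  obtain ⟨X'', u', u'', hU⟩ := distinguished_cocone_triangle u
  obtain ⟨Y'', v', v'', hV⟩ := distinguished_cocone_triangle v
  obtain ⟨V, p, q, hK⟩ := distinguished_cocone_triangle (f ≫ v)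
  have hK' : Triangle.mk (u ≫ f') p q ∈ distTriang D := by rw [← comm]; exact hK
  obtain ⟨s, t, c11, c12, c13, c14, m1⟩ : ∃ (s : Z ⟶ V) (t : V ⟶ Y''), g ≫ s = v ≫ p ∧
      s ≫ q = h ∧ p ≫ t = v' ∧ q ≫ (shiftFunctor D (1 : ℤ)).map f = t ≫ v'' ∧
      Triangle.mk s t (v'' ≫ (shiftFunctor D (1 : ℤ)).map g) ∈ distTriang D := by
    have o1 := someOctahedron rfl hT hV hK
    exact ⟨o1.m₁, o1.m₃, o1.comm₁, o1.comm₂, o1.comm₃, o1.comm₄, o1.mem⟩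
  obtain ⟨s', t', c21, c22, c23, c24, m2⟩ : ∃ (s' : X'' ⟶ V) (t' : V ⟶ Z'), u' ≫ s' = f' ≫ p ∧
      s' ≫ q = u'' ∧ p ≫ t' = g' ∧ q ≫ (shiftFunctor D (1 : ℤ)).map u = t' ≫ h' ∧
      Triangle.mk s' t' (h' ≫ (shiftFunctor D (1 : ℤ)).map u') ∈ distTriang D := by
    have o2 := someOctahedron rfl hU hT' hK'
    exact ⟨o2.m₁, o2.m₃, o2.comm₁, o2.comm₂, o2.comm₃, o2.comm₄, o2.mem⟩
  obtain ⟨Z'', g'', h'', hT''⟩ := distinguished_cocone_triangle (s' ≫ t)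
  have hrot : Triangle.mk t (v'' ≫ (shiftFunctor D (1 : ℤ)).map g)
      (-(shiftFunctor D (1 : ℤ)).map s) ∈ distTriang D := rot_of_distTriang _ m1
  obtain ⟨w', w'', c31, c32, c33, c34, m3⟩ : ∃ (w' : Z' ⟶ Z'')
      (w'' : Z'' ⟶ (shiftFunctor D (1 : ℤ)).obj Z), t' ≫ w' = t ≫ g'' ∧
      w' ≫ h'' = h' ≫ (shiftFunctor D (1 : ℤ)).map u' ∧
      g'' ≫ w'' = v'' ≫ (shiftFunctor D (1 : ℤ)).map g ∧
      h'' ≫ (shiftFunctor D (1 : ℤ)).map s' = w'' ≫ (-(shiftFunctor D (1 : ℤ)).map s) ∧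
      Triangle.mk w' w'' ((-(shiftFunctor D (1 : ℤ)).map s) ≫ (shiftFunctor D (1 : ℤ)).map t') ∈
        distTriang D := by
    have o3 := someOctahedron rfl m2 hrot hT''
    exact ⟨o3.m₁, o3.m₃, o3.comm₁, o3.comm₂, o3.comm₃, o3.comm₄, o3.mem⟩
  have e : (-(shiftFunctor D (1 : ℤ)).map s) ≫ (shiftFunctor D (1 : ℤ)).map t' =
      -(shiftFunctor D (1 : ℤ)).map (s ≫ t') := by
    rw [Preadditive.neg_comp, Functor.map_comp]
  rw [e] at m3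
  have hW : Triangle.mk (s ≫ t') w' w'' ∈ distTriang D :=
    (rotate_distinguished_triangle _).mpr m3
  refine ⟨Z, Z', X'', Y'', Z'', g, h, g', h', s' ≫ t, g'', h'', u', u'', v', v'',
    s ≫ t', w', w'', hT, hT', hT'', hU, hV, hW, ?_, ?_, ?_, ?_, ?_, ?_, ?_, ?_⟩
  · rw [← Category.assoc, c11, Category.assoc, c23]
  · rw [Category.assoc, ← c24, ← Category.assoc, c12]
  · rw [← Category.assoc, c21, Category.assoc, c13]
  · rw [← c23, Category.assoc, c31, ← Category.assoc, c13]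
  · exact c32.symm
  · rw [Category.assoc, ← c14, ← Category.assoc, c22]
  · exact c33
  · rw [← c22, ← c12, Functor.map_comp, Functor.map_comp, ← Category.assoc, c34,
      Preadditive.comp_neg, Preadditive.neg_comp, Category.assoc]

end Groth.Agent.Lib.LeadNine
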