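import Mathlib

/-!
# The rings `R[x,y]/(xy - t)`: universal property, base change, twists, flatness (for S12256)
-/

set_option autoImplicit false
set_option maxHeartbeats 400000
set_option linter.style.haveILetI false
set_option linter.unusedSectionVars false
set_option linter.unusedVariables false

universe u v

open MvPolynomial CategoryTheory Limits

namespace Groth.Agent.Lib.LeadNode

section ringE

variable {R : Type u} [CommRing R]

/-- the ring `R[x,y]/(xy - t)`. -/
abbrev E (R : Type u) [CommRing R] (t : R) : Type u :=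
  MvPolynomial (Fin 2) R ⧸ Ideal.span {(X 0 * X 1 - C t : MvPolynomial (Fin 2) R)}

/-- the structure map `R → R[x,y]/(xy - t)`. -/
noncomputable def γE (t : R) : R →+* E R t := (Ideal.Quotient.mk _).comp C

/-- the classes of `x` and `y`. -/
noncomputable def xE (t : R) (i : Fin 2) : E R t := Ideal.Quotient.mk _ (X i)

theorem rel_E (t : R) : xE t 0 * xE t 1 = γE t t := by
  unfold xE γE
  rw [RingHom.comp_apply, ← map_mul, ← sub_eq_zero, ← map_sub]
  exact Ideal.Quotient.eq_zero_iff_mem.mpr (Ideal.subset_span (Set.mem_singleton _))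

variable {S : Type v} [CommRing S]

/-- the universal property of `R[x,y]/(xy - t)`. -/
noncomputable def liftE (t : R) (α : R →+* S) (a b : S) (h : a * b = α t) : E R t →+* S :=
  Ideal.Quotient.lift _ (eval₂Hom α ![a, b]) (by
    have hle : Ideal.span {(X 0 * X 1 - C t : MvPolynomial (Fin 2) R)} ≤
        RingHom.ker (eval₂Hom α ![a, b]) := by
      rw [Ideal.span_le, Set.singleton_subset_iff, SetLike.mem_coe, RingHom.mem_ker]
      simp [h]
    exact fun p hp => RingHom.mem_ker.mp (hle hp))

@[simp] theorem liftE_γ (t : R) (α : R →+* S) (a b : S) (h : a * b = α t) (r : R) :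
    liftE t α a b h (γE t r) = α r := by
  simp [liftE, γE]

@[simp] theorem liftE_x0 (t : R) (α : R →+* S) (a b : S) (h : a * b = α t) :
    liftE t α a b h (xE t 0) = a := by
  simp [liftE, xE]

@[simp] theorem liftE_x1 (t : R) (α : R →+* S) (a b : S) (h : a * b = α t) :
    liftE t α a b h (xE t 1) = b := by
  simp [liftE, xE]

theorem hom_ext_E {t : R} {f g : E R t →+* S} (hγ : ∀ r, f (γE t r) = g (γE t r))
    (h0 : f (xE t 0) = g (xE t 0)) (h1 : f (xE t 1) = g (xE t 1)) : f = g := by
  apply Ideal.Quotient.ringHom_ext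
  apply MvPolynomial.ringHom_ext
  · intro r
    exact hγ r
  · intro i
    fin_cases i
    · exact h0
    · exact h1

variable {R' : Type u} [CommRing R']

/-- the base change map `R[x,y]/(xy - t) → R'[x,y]/(xy - t')` over `g : R → R'`, `g t = t'`. -/
noncomputable def mapE (g : R →+* R') (t : R) (t' : R') (h : g t = t') : E R t →+* E R' t' :=
  liftE t ((γE t').comp g) (xE t' 0) (xE t' 1) (by rw [rel_E, RingHom.comp_apply, h])

@[simp] theorem mapE_γ (g : R →+* R') (t : R) (t' : R') (h : g t = t') (r : R) :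
    mapE g t t' h (γE t r) = γE t' (g r) := by
  unfold mapE
  rw [liftE_γ]
  rfl

@[simp] theorem mapE_x0 (g : R →+* R') (t : R) (t' : R') (h : g t = t') :
    mapE g t t' h (xE t 0) = xE t' 0 := by
  unfold mapE
  rw [liftE_x0]

@[simp] theorem mapE_x1 (g : R →+* R') (t : R) (t' : R') (h : g t = t') :
    mapE g t t' h (xE t 1) = xE t' 1 := by
  unfold mapE
  rw [liftE_x1]

/-- **base change of `R[x,y]/(xy - t)` is `R'[x,y]/(xy - g t)`.** -/
theorem isPushout_E (g : R →+* R') (t : R) (t' : R') (h : g t = t') :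
    IsPushout (CommRingCat.ofHom (γE t)) (CommRingCat.ofHom g)
      (CommRingCat.ofHom (mapE g t t' h)) (CommRingCat.ofHom (γE t')) := by
  have hcomm : CommRingCat.ofHom (γE t) ≫ CommRingCat.ofHom (mapE g t t' h) =
      CommRingCat.ofHom g ≫ CommRingCat.ofHom (γE t') := by
    refine CommRingCat.hom_ext (RingHom.ext fun r => ?_)
    exact mapE_γ g t t' h r
  have hrel : ∀ s : PushoutCocone (CommRingCat.ofHom (γE t)) (CommRingCat.ofHom g),
      s.inl.hom (xE t 0) * s.inl.hom (xE t 1) = s.inr.hom t' := by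
    intro s
    rw [← map_mul, rel_E, ← h]
    exact congrArg (fun m => m.hom t) s.condition
  refine ⟨⟨hcomm⟩, ⟨PushoutCocone.IsColimit.mk _
    (fun s => CommRingCat.ofHom
      (liftE t' s.inr.hom (s.inl.hom (xE t 0)) (s.inl.hom (xE t 1)) (hrel s))) ?_ ?_ ?_⟩⟩
  · intro s
    refine CommRingCat.hom_ext (hom_ext_E (fun r => ?_) ?_ ?_)
    · change liftE t' s.inr.hom _ _ (hrel s) (mapE g t t' h (γE t r)) = s.inl.hom (γE t r)
      rw [mapE_γ, liftE_γ]
      exact (congrArg (fun m => m.hom r) s.condition).symm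
    · change liftE t' s.inr.hom _ _ (hrel s) (mapE g t t' h (xE t 0)) = s.inl.hom (xE t 0)
      rw [mapE_x0, liftE_x0]
    · change liftE t' s.inr.hom _ _ (hrel s) (mapE g t t' h (xE t 1)) = s.inl.hom (xE t 1)
      rw [mapE_x1, liftE_x1]
  · intro s
    refine CommRingCat.hom_ext (RingHom.ext fun r' => ?_)
    exact liftE_γ t' s.inr.hom _ _ (hrel s) r'
  · intro s m h1 h2
    refine CommRingCat.hom_ext (hom_ext_E (fun r' => ?_) ?_ ?_)
    · change m.hom (γE t' r') = liftE t' s.inr.hom _ _ (hrel s) (γE t' r')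
      rw [liftE_γ]
      exact congrArg (fun m' => m'.hom r') h2
    · change m.hom (xE t' 0) = liftE t' s.inr.hom _ _ (hrel s) (xE t' 0)
      rw [liftE_x0, ← mapE_x0 g t t' h]
      exact congrArg (fun m' => m'.hom (xE t 0)) h1
    · change m.hom (xE t' 1) = liftE t' s.inr.hom _ _ (hrel s) (xE t' 1)
      rw [liftE_x1, ← mapE_x1 g t t' h]
      exact congrArg (fun m' => m'.hom (xE t 1)) h1

/-- the twist `x ↦ u x` from `R[x,y]/(xy - ut)` to `R[x,y]/(xy - t)`. -/
noncomputable def twE (u t : R) : E R (u * t) →+* E R t :=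
  liftE (u * t) (γE t) (γE t u * xE t 0) (xE t 1) (by rw [mul_assoc, rel_E, ← map_mul])

/-- the inverse twist `x ↦ v x`, `uv = 1`. -/
noncomputable def twE' (u v : R) (huv : u * v = 1) (t : R) : E R t →+* E R (u * t) :=
  liftE t (γE (u * t)) (γE (u * t) v * xE (u * t) 0) (xE (u * t) 1) (by
    rw [mul_assoc, rel_E, ← map_mul, ← mul_assoc, mul_comm v u, huv, one_mul])

theorem twE_γ (u t r : R) : twE u t (γE (u * t) r) = γE t r := by
  unfold twE
  rw [liftE_γ]

theorem twE_comp (u v : R) (huv : u * v = 1) (t : R) :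
    (twE u t).comp (twE' u v huv t) = RingHom.id _ := by
  refine hom_ext_E (fun r => ?_) ?_ ?_
  · simp [twE, twE']
  · simp only [twE, twE', RingHom.comp_apply, liftE_x0, map_mul, liftE_γ, RingHom.id_apply]
    rw [← mul_assoc, ← map_mul, mul_comm v u, huv, map_one, one_mul]
  · simp [twE, twE']

theorem twE'_comp (u v : R) (huv : u * v = 1) (t : R) :
    (twE' u v huv t).comp (twE u t) = RingHom.id _ := by
  refine hom_ext_E (fun r => ?_) ?_ ?_
  · simp [twE, twE']
  · simp only [twE, twE', RingHom.comp_apply, liftE_x0, map_mul, liftE_γ, RingHom.id_apply]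
    rw [← mul_assoc, ← map_mul, huv, map_one, one_mul]
  · simp [twE, twE']

end ringE

section flat

variable (k : Type u) [Field k]

/-- `k[T] → k[x,y]`, `T ↦ xy`. -/
noncomputable def iota : Polynomial k →+* MvPolynomial (Fin 2) k :=
  Polynomial.eval₂RingHom C (X 0 * X 1)

/-- `k[x,y] → k[T]`, `x ↦ T`, `y ↦ 1`. -/
noncomputable def rho : MvPolynomial (Fin 2) k →+* Polynomial k :=
  eval₂Hom Polynomial.C ![Polynomial.X, 1]

theorem rho_iota (p : Polynomial k) : rho k (iota k p) = p := by
  have h : (rho k).comp (iota k) = RingHom.id _ :=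
    Polynomial.ringHom_ext (fun a => by simp [rho, iota]) (by simp [rho, iota])
  exact congrArg (fun f => f p) h

theorem flat_iota : (iota k).Flat := by
  letI : Algebra (Polynomial k) (MvPolynomial (Fin 2) k) := (iota k).toAlgebra
  haveI : Module.IsTorsionFree (Polynomial k) (MvPolynomial (Fin 2) k) :=
    Module.IsTorsionFree.of_smul_eq_zero (fun r m h => by
      rw [Algebra.smul_def, RingHom.algebraMap_toAlgebra, mul_eq_zero] at h
      rcases h with h | h
      · left
        rw [← rho_iota k r, h, map_zero]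
      · right
        exact h)
  change Module.Flat (Polynomial k) (MvPolynomial (Fin 2) k)
  infer_instance

/-- `k[T][x,y]/(xy - T) → k[x,y]`. -/
noncomputable def eE : E (Polynomial k) Polynomial.X →+* MvPolynomial (Fin 2) k :=
  liftE Polynomial.X (iota k) (X 0) (X 1) (by simp [iota])

/-- `k[x,y] → k[T][x,y]/(xy - T)`. -/
noncomputable def eE' : MvPolynomial (Fin 2) k →+* E (Polynomial k) Polynomial.X :=
  eval₂Hom ((γE Polynomial.X).comp Polynomial.C) ![xE Polynomial.X 0, xE Polynomial.X 1]

theorem eE'_iota : (eE' k).comp (iota k) = γE Polynomial.X := by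
  refine Polynomial.ringHom_ext (fun a => ?_) ?_
  · simp [eE', iota]
  · simp only [eE', iota, RingHom.comp_apply, Polynomial.coe_eval₂RingHom, Polynomial.eval₂_X,
      map_mul, eval₂Hom_X']
    exact rel_E _

theorem eE_eE' : (eE k).comp (eE' k) = RingHom.id _ := by
  refine MvPolynomial.ringHom_ext (fun a => ?_) (fun i => ?_)
  · simp [eE, eE', iota]
  · fin_cases i
    · simp [eE, eE']
    · simp [eE, eE']

theorem eE'_eE : (eE' k).comp (eE k) = RingHom.id _ := by
  refine hom_ext_E (fun r => ?_) ?_ ?_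
  · simp only [RingHom.comp_apply, eE, liftE_γ, RingHom.id_apply]
    exact congrArg (fun f => f r) (eE'_iota k)
  · simp [eE, eE']
  · simp [eE, eE']

theorem flat_γE_X : (γE (Polynomial.X : Polynomial k)).Flat := by
  rw [← eE'_iota]
  refine RingHom.Flat.comp (flat_iota k) (RingHom.Flat.of_bijective ?_)
  refine ⟨fun p q h => ?_, fun e => ⟨eE k e, congrArg (fun f => f e) (eE'_eE k)⟩⟩
  have h1 := congrArg (eE k) h
  have h2 : ∀ p, eE k (eE' k p) = p := fun p => congrArg (fun f => f p) (eE_eE' k)
  rwa [h2, h2] at h1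

end flat

end Groth.Agent.Lib.LeadNode
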