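import Mathlib
import Groth.Prelude.Def_ArtFun4
import Groth.Agent.Lib.LeadNodeA

/-!
# The deformations `xy = t` of the node as objects of `DefSch` (for S12256)
-/

set_option autoImplicit false
set_option maxHeartbeats 400000
set_option linter.style.haveILetI false
set_option linter.unusedSectionVars false
set_option linter.unusedVariables false

universe u

open MvPolynomial CategoryTheory Limits AlgebraicGeometry ArtFun ArtFun.Art

namespace Groth.Agent.Lib.LeadNode

variable {k : Type u} [Field k]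

/-- `R[x,y]/(xy - t)` is flat over `R` for every `k`-algebra `R`. -/
theorem flat_γE {A : Type u} [CommRing A] [Algebra k A] (t : A) : (γE t).Flat := by
  obtain ⟨τ, hτ⟩ : ∃ τ : Polynomial k →+* A, τ Polynomial.X = t :=
    ⟨Polynomial.eval₂RingHom (algebraMap k A) t, by simp⟩
  have hpush := isPushout_E τ Polynomial.X t hτ
  have hpb := isPullback_SpecMap_of_isPushout _ _ _ _ hpush
  have h1 : Flat (Spec.map (CommRingCat.ofHom (γE (Polynomial.X : Polynomial k)))) := by
    rw [Flat.SpecMap_iff]
    exact flat_γE_X k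
  have h2 : Flat (Spec.map (CommRingCat.ofHom (γE t))) := MorphismProperty.of_isPullback hpb h1
  rw [Flat.SpecMap_iff] at h2
  exact h2

/-- the coordinate ring of the node. -/
abbrev B0 (k : Type u) [Field k] : Type u :=
  MvPolynomial (Fin 2) k ⧸ Ideal.span {(X 0 * X 1 : MvPolynomial (Fin 2) k)}

theorem relI_zero (k : Type u) [Field k] :
    Ideal.span {(X 0 * X 1 - C (0 : k) : MvPolynomial (Fin 2) k)} =
      Ideal.span {(X 0 * X 1 : MvPolynomial (Fin 2) k)} := by
  rw [map_zero, sub_zero]

/-- `k[x,y]/(xy - 0) ≃ k[x,y]/(xy)`. -/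
noncomputable def eB (k : Type u) [Field k] : E k (0 : k) ≃+* B0 k :=
  Ideal.quotEquivOfEq (relI_zero k)

theorem eB_γ (c : k) : eB k (γE 0 c) = algebraMap k (B0 k) c := rfl

theorem eB_x (i : Fin 2) : eB k (xE 0 i) = Ideal.Quotient.mk _ (X i) := rfl

section mk

variable (A : Art k k) (t : A) (ht : A.res t = 0)

/-- the projection `A[x,y]/(xy - t) → k[x,y]/(xy)` for `t` in the maximal ideal. -/
noncomputable def piE : E A t →+* B0 k :=
  (eB k).toRingHom.comp (mapE A.res.toRingHom t 0 ht)

theorem piE_γ (a : A) : piE A t ht (γE t a) = algebraMap k (B0 k) (A.res a) := by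
  unfold piE
  rw [RingHom.comp_apply, mapE_γ]
  exact eB_γ _

theorem piE_x (i : Fin 2) : piE A t ht (xE t i) = Ideal.Quotient.mk _ (X i) := by
  unfold piE
  rw [RingHom.comp_apply]
  fin_cases i
  · exact (congrArg (eB k) (mapE_x0 _ t 0 ht)).trans (eB_x 0)
  · exact (congrArg (eB k) (mapE_x1 _ t 0 ht)).trans (eB_x 1)

theorem isPushout_piE :
    IsPushout (CommRingCat.ofHom (γE t)) (CommRingCat.ofHom A.res.toRingHom)
      (CommRingCat.ofHom (piE A t ht)) (CommRingCat.ofHom (algebraMap k (B0 k))) := by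
  have h := isPushout_E A.res.toRingHom t 0 ht
  refine h.of_iso (Iso.refl _) (Iso.refl _) (Iso.refl _) (eB k).toCommRingCatIso ?_ ?_ ?_ ?_
  · exact (Category.comp_id _).trans (Category.id_comp _).symm
  · exact (Category.comp_id _).trans (Category.id_comp _).symm
  · exact (Category.id_comp _).symm
  · exact (Category.id_comp _).symm

/-- **the deformation `xy = t` of the node over `A`.** -/
noncomputable def mkE :
    DefSch (Spec (CommRingCat.of (B0 k))) (Spec.map (CommRingCat.ofHom (algebraMap k (B0 k)))) A where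
  total := Spec (CommRingCat.of (E A t))
  f := Spec.map (CommRingCat.ofHom (γE t))
  flat := by
    rw [Flat.SpecMap_iff]
    exact flat_γE (k := k) t
  i := Spec.map (CommRingCat.ofHom (piE A t ht))
  isPullback := isPullback_SpecMap_of_isPushout _ _ _ _ (isPushout_piE A t ht)

end mk

/-- base change of `xy = t` along `g` is `xy = g t`. -/
theorem baseChange_mkE {A A' : Art k k} (g : A ⟶ A') (t : A) (ht : A.res t = 0) (t' : A')
    (ht' : A'.res t' = 0) (h : g t = t') :
    Nonempty (((mkE A t ht).baseChange g).Iso (mkE A' t' ht')) := by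
  have hpush := isPushout_E g.toAlgHom.toRingHom t t' h
  have hπ : (piE A' t' ht').comp (mapE g.toAlgHom.toRingHom t t' h) = piE A t ht := by
    refine hom_ext_E (fun a => ?_) ?_ ?_
    · rw [RingHom.comp_apply, mapE_γ, piE_γ, piE_γ]
      exact congrArg _ (res_app g a)
    · rw [RingHom.comp_apply, mapE_x0, piE_x, piE_x]
    · rw [RingHom.comp_apply, mapE_x1, piE_x, piE_x]
  obtain ⟨ρ, hρ⟩ : ∃ ρ : (mkE A' t' ht').total ⟶ (mkE A t ht).total,
      ρ = Spec.map (CommRingCat.ofHom (mapE g.toAlgHom.toRingHom t t' h)) := ⟨_, rfl⟩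
  have hpb : IsPullback ρ (mkE A' t' ht').f (mkE A t ht).f (specMap g) := by
    rw [hρ]
    exact isPullback_SpecMap_of_isPushout _ _ _ _ hpush
  have hiρ : (mkE A' t' ht').i ≫ ρ = (mkE A t ht).i := by
    rw [hρ]
    change Spec.map (CommRingCat.ofHom (piE A' t' ht')) ≫
        Spec.map (CommRingCat.ofHom (mapE g.toAlgHom.toRingHom t t' h)) =
      Spec.map (CommRingCat.ofHom (piE A t ht))
    rw [← Spec.map_comp, ← CommRingCat.ofHom_comp, hπ]
  refine ⟨{ iso := hpb.isoPullback.symm, hom_f := hpb.isoPullback_inv_snd, i_hom := ?_ }⟩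
  apply hpb.hom_ext
  · rw [Category.assoc]
    change ((mkE A t ht).baseChange g).i ≫ hpb.isoPullback.inv ≫ ρ = (mkE A' t' ht').i ≫ ρ
    rw [hpb.isoPullback_inv_fst, hiρ]
    exact DefSch.baseChange_i_fst _ g
  · rw [Category.assoc]
    change ((mkE A t ht).baseChange g).i ≫ hpb.isoPullback.inv ≫ (mkE A' t' ht').f =
      (mkE A' t' ht').i ≫ (mkE A' t' ht').f
    rw [hpb.isoPullback_inv_snd, (mkE A' t' ht').i_f]
    exact DefSch.baseChange_i_f _ g

/-- the isomorphism of spectra given by mutually inverse ring maps. -/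
noncomputable def specIso {R S : Type u} [CommRing R] [CommRing S] (f : S →+* R) (g : R →+* S)
    (hfg : f.comp g = RingHom.id _) (hgf : g.comp f = RingHom.id _) :
    Spec (CommRingCat.of R) ≅ Spec (CommRingCat.of S) where
  hom := Spec.map (CommRingCat.ofHom f)
  inv := Spec.map (CommRingCat.ofHom g)
  hom_inv_id := by
    rw [← Spec.map_comp, ← CommRingCat.ofHom_comp, hfg, CommRingCat.ofHom_id, Spec.map_id]
  inv_hom_id := by
    rw [← Spec.map_comp, ← CommRingCat.ofHom_comp, hgf, CommRingCat.ofHom_id, Spec.map_id]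

/-- an isomorphism of deformations from mutually inverse compatible ring maps. -/
noncomputable def isoOfRingHoms {A : Art k k} (t t' : A) (ht : A.res t = 0) (ht' : A.res t' = 0)
    (f : E A t' →+* E A t) (g : E A t →+* E A t')
    (hfg : f.comp g = RingHom.id _) (hgf : g.comp f = RingHom.id _)
    (hγ : f.comp (γE t') = γE t) (hπ : (piE A t ht).comp f = piE A t' ht') :
    (mkE A t ht).Iso (mkE A t' ht') where
  iso := specIso f g hfg hgf
  hom_f := by
    change Spec.map (CommRingCat.ofHom f) ≫ Spec.map (CommRingCat.ofHom (γE t')) =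
      Spec.map (CommRingCat.ofHom (γE t))
    rw [← Spec.map_comp, ← CommRingCat.ofHom_comp, hγ]
  i_hom := by
    change Spec.map (CommRingCat.ofHom (piE A t ht)) ≫ Spec.map (CommRingCat.ofHom f) =
      Spec.map (CommRingCat.ofHom (piE A t' ht'))
    rw [← Spec.map_comp, ← CommRingCat.ofHom_comp, hπ]

/-- the twist `x ↦ u x` is an isomorphism of deformations `xy = t` and `xy = u t` when
`u ≡ 1` modulo the maximal ideal. -/
theorem iso_twist {A : Art k k} (u v : A) (huv : u * v = 1) (hu : A.res u = 1) (t : A)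
    (ht : A.res t = 0) (hut : A.res (u * t) = 0) :
    Nonempty ((mkE A t ht).Iso (mkE A (u * t) hut)) := by
  refine ⟨isoOfRingHoms t (u * t) ht hut (twE u t) (twE' u v huv t) (twE_comp u v huv t)
    (twE'_comp u v huv t) (RingHom.ext fun r => twE_γ u t r) ?_⟩
  refine hom_ext_E (fun r => ?_) ?_ ?_
  · rw [RingHom.comp_apply, twE_γ, piE_γ, piE_γ]
  · rw [RingHom.comp_apply, piE_x]
    unfold twE
    rw [liftE_x0, map_mul, piE_γ, piE_x, hu, map_one, one_mul]
  · rw [RingHom.comp_apply, piE_x]
    unfold twE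
    rw [liftE_x1, piE_x]

/-- an isomorphism of deformations gives a compatible ring map. -/
theorem ringHom_of_iso {A : Art k k} (t t' : A) (ht : A.res t = 0) (ht' : A.res t' = 0)
    (e : (mkE A t ht).Iso (mkE A t' ht')) :
    ∃ f : E A t' →+* E A t, f.comp (γE t') = γE t ∧ (piE A t ht).comp f = piE A t' ht' := by
  obtain ⟨φ, hφ⟩ : ∃ φ : Spec (CommRingCat.of (E A t)) ⟶ Spec (CommRingCat.of (E A t')),
      φ = e.iso.hom := ⟨_, rfl⟩
  obtain ⟨α, hα⟩ : ∃ α : CommRingCat.of (E A t') ⟶ CommRingCat.of (E A t), Spec.map α = φ :=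
    ⟨Spec.preimage φ, Spec.map_preimage φ⟩
  have h1 : Spec.map (CommRingCat.ofHom (γE t') ≫ α) = Spec.map (CommRingCat.ofHom (γE t)) := by
    rw [Spec.map_comp, hα, hφ]
    exact e.hom_f
  have h2 : Spec.map (α ≫ CommRingCat.ofHom (piE A t ht)) =
      Spec.map (CommRingCat.ofHom (piE A t' ht')) := by
    rw [Spec.map_comp, hα, hφ]
    exact e.i_hom
  refine ⟨α.hom, ?_, ?_⟩
  · exact congrArg CommRingCat.Hom.hom (Spec.map_injective h1)
  · exact congrArg CommRingCat.Hom.hom (Spec.map_injective h2)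

end Groth.Agent.Lib.LeadNode
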