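import Mathlib
import Groth.Prelude.Def_ArtFun

/-!
# The Artinian ring `k[s,v]/(s³, sv, v²)` (for S12256)
-/

set_option autoImplicit false
set_option maxHeartbeats 400000
set_option linter.style.haveILetI false
set_option linter.unusedSectionVars false
set_option linter.unusedVariables false

universe u

open ArtFun ArtFun.Art

namespace Groth.Agent.Lib.LeadNode

/-- the ring `k[s,v]/(s³, sv, v²)` with basis `1, s, s², v`. -/
@[ext] structure A4 (k : Type u) where
  a : k
  b : k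
  c : k
  d : k

namespace A4

variable {k : Type u} [Field k]

instance : Zero (A4 k) := ⟨⟨0, 0, 0, 0⟩⟩
instance : One (A4 k) := ⟨⟨1, 0, 0, 0⟩⟩
instance : Add (A4 k) := ⟨fun p q => ⟨p.a + q.a, p.b + q.b, p.c + q.c, p.d + q.d⟩⟩
instance : Neg (A4 k) := ⟨fun p => ⟨-p.a, -p.b, -p.c, -p.d⟩⟩
instance : Sub (A4 k) := ⟨fun p q => ⟨p.a - q.a, p.b - q.b, p.c - q.c, p.d - q.d⟩⟩
instance : Mul (A4 k) :=
  ⟨fun p q => ⟨p.a * q.a, p.a * q.b + p.b * q.a, p.a * q.c + p.b * q.b + p.c * q.a,
    p.a * q.d + p.d * q.a⟩⟩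

@[simp] theorem zero_a : (0 : A4 k).a = 0 := rfl
@[simp] theorem zero_b : (0 : A4 k).b = 0 := rfl
@[simp] theorem zero_c : (0 : A4 k).c = 0 := rfl
@[simp] theorem zero_d : (0 : A4 k).d = 0 := rfl
@[simp] theorem one_a : (1 : A4 k).a = 1 := rfl
@[simp] theorem one_b : (1 : A4 k).b = 0 := rfl
@[simp] theorem one_c : (1 : A4 k).c = 0 := rfl
@[simp] theorem one_d : (1 : A4 k).d = 0 := rfl
@[simp] theorem add_a (p q : A4 k) : (p + q).a = p.a + q.a := rfl
@[simp] theorem add_b (p q : A4 k) : (p + q).b = p.b + q.b := rfl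
@[simp] theorem add_c (p q : A4 k) : (p + q).c = p.c + q.c := rfl
@[simp] theorem add_d (p q : A4 k) : (p + q).d = p.d + q.d := rfl
@[simp] theorem neg_a (p : A4 k) : (-p).a = -p.a := rfl
@[simp] theorem neg_b (p : A4 k) : (-p).b = -p.b := rfl
@[simp] theorem neg_c (p : A4 k) : (-p).c = -p.c := rfl
@[simp] theorem neg_d (p : A4 k) : (-p).d = -p.d := rfl
@[simp] theorem sub_a (p q : A4 k) : (p - q).a = p.a - q.a := rfl
@[simp] theorem sub_b (p q : A4 k) : (p - q).b = p.b - q.b := rfl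
@[simp] theorem sub_c (p q : A4 k) : (p - q).c = p.c - q.c := rfl
@[simp] theorem sub_d (p q : A4 k) : (p - q).d = p.d - q.d := rfl
@[simp] theorem mul_a (p q : A4 k) : (p * q).a = p.a * q.a := rfl
@[simp] theorem mul_b (p q : A4 k) : (p * q).b = p.a * q.b + p.b * q.a := rfl
@[simp] theorem mul_c (p q : A4 k) : (p * q).c = p.a * q.c + p.b * q.b + p.c * q.a := rfl
@[simp] theorem mul_d (p q : A4 k) : (p * q).d = p.a * q.d + p.d * q.a := rfl

theorem add_assoc' (p q r : A4 k) : p + q + r = p + (q + r) := by ext <;> simp [add_assoc]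
theorem zero_add' (p : A4 k) : 0 + p = p := by ext <;> simp
theorem add_zero' (p : A4 k) : p + 0 = p := by ext <;> simp
theorem neg_add_cancel' (p : A4 k) : -p + p = 0 := by ext <;> simp
theorem add_comm' (p q : A4 k) : p + q = q + p := by ext <;> simp [add_comm]
theorem sub_eq_add_neg' (p q : A4 k) : p - q = p + -q := by ext <;> simp [sub_eq_add_neg]
theorem left_distrib' (p q r : A4 k) : p * (q + r) = p * q + p * r := by ext <;> simp <;> ring
theorem right_distrib' (p q r : A4 k) : (p + q) * r = p * r + q * r := by ext <;> simp <;> ring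
theorem zero_mul' (p : A4 k) : 0 * p = 0 := by ext <;> simp
theorem mul_zero' (p : A4 k) : p * 0 = 0 := by ext <;> simp
theorem mul_assoc' (p q r : A4 k) : p * q * r = p * (q * r) := by ext <;> simp <;> ring
theorem one_mul' (p : A4 k) : 1 * p = p := by ext <;> simp
theorem mul_one' (p : A4 k) : p * 1 = p := by ext <;> simp
theorem mul_comm' (p q : A4 k) : p * q = q * p := by ext <;> simp <;> ring

instance : CommRing (A4 k) where
  add := (· + ·)
  add_assoc := add_assoc'
  zero := 0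
  zero_add := zero_add'
  add_zero := add_zero'
  nsmul := nsmulRec
  neg := Neg.neg
  sub := (· - ·)
  sub_eq_add_neg := sub_eq_add_neg'
  zsmul := zsmulRec
  neg_add_cancel := neg_add_cancel'
  add_comm := add_comm'
  mul := (· * ·)
  left_distrib := left_distrib'
  right_distrib := right_distrib'
  zero_mul := zero_mul'
  mul_zero := mul_zero'
  mul_assoc := mul_assoc'
  one := 1
  one_mul := one_mul'
  mul_one := mul_one'
  mul_comm := mul_comm'

/-- the structure map `k → A4`. -/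
def ofK (k : Type u) [Field k] : k →+* A4 k where
  toFun c := ⟨c, 0, 0, 0⟩
  map_one' := rfl
  map_mul' x y := by ext <;> simp
  map_zero' := rfl
  map_add' x y := by ext <;> simp

instance : Algebra k (A4 k) := (ofK k).toAlgebra

@[simp] theorem algebraMap_a (x : k) : (algebraMap k (A4 k) x).a = x := rfl
@[simp] theorem algebraMap_b (x : k) : (algebraMap k (A4 k) x).b = 0 := rfl
@[simp] theorem algebraMap_c (x : k) : (algebraMap k (A4 k) x).c = 0 := rfl
@[simp] theorem algebraMap_d (x : k) : (algebraMap k (A4 k) x).d = 0 := rfl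

@[simp] theorem smul_a (x : k) (p : A4 k) : (x • p).a = x * p.a := by
  rw [Algebra.smul_def]; simp
@[simp] theorem smul_b (x : k) (p : A4 k) : (x • p).b = x * p.b := by
  rw [Algebra.smul_def]; simp
@[simp] theorem smul_c (x : k) (p : A4 k) : (x • p).c = x * p.c := by
  rw [Algebra.smul_def]; simp
@[simp] theorem smul_d (x : k) (p : A4 k) : (x • p).d = x * p.d := by
  rw [Algebra.smul_def]; simp

/-- the augmentation. -/
def res4 (k : Type u) [Field k] : A4 k →ₐ[k] k where
  toFun p := p.a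
  map_one' := rfl
  map_mul' _ _ := rfl
  map_zero' := rfl
  map_add' _ _ := rfl
  commutes' _ := rfl

@[simp] theorem res4_apply (p : A4 k) : res4 k p = p.a := rfl

theorem pow_three_eq_zero (p : A4 k) (hp : p.a = 0) : p ^ 3 = 0 := by
  rw [pow_succ, pow_succ, pow_one]
  ext <;> simp [hp]

instance : Nontrivial (A4 k) := ⟨⟨0, 1, fun h => by
  have := congrArg A4.a h
  simp at this⟩⟩

instance : IsLocalRing (A4 k) := by
  refine IsLocalRing.of_isUnit_or_isUnit_one_sub_self fun p => ?_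
  by_cases hp : p.a = 0
  · right
    exact IsNilpotent.isUnit_one_sub ⟨3, pow_three_eq_zero p hp⟩
  · left
    have h1 : IsUnit (algebraMap k (A4 k) p.a) := (IsUnit.mk0 _ hp).map (algebraMap k (A4 k))
    have h2 : IsNilpotent (p - algebraMap k (A4 k) p.a) :=
      ⟨3, pow_three_eq_zero _ (by simp)⟩
    have h3 := h2.isUnit_add_left_of_commute h1 (Commute.all _ _)
    rwa [add_sub_cancel] at h3

/-- the linear surjection `k⁴ → A4`. -/
def lin4 (k : Type u) [Field k] : (Fin 4 → k) →ₗ[k] A4 k where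
  toFun w := ⟨w 0, w 1, w 2, w 3⟩
  map_add' x y := by ext <;> simp
  map_smul' x y := by ext <;> simp

instance : Module.Finite k (A4 k) :=
  Module.Finite.of_surjective (lin4 k) (fun p => ⟨![p.a, p.b, p.c, p.d], by ext <;> simp [lin4]⟩)

instance : IsArtinianRing (A4 k) := IsArtinianRing.of_finite k _

end A4

variable (k : Type u) [Field k]

/-- `k[s,v]/(s³, sv, v²)` as an object of `Art k k`. -/
@[reducible] def A4obj : Art k k :=
  { carrier := A4 k
    res := A4.res4 k
    res_surjective := fun x => ⟨algebraMap k (A4 k) x, rfl⟩ }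

/-- `v ↦ 0`. -/
def pr1Alg : A4 k →ₐ[k] A4 k where
  toFun := fun p => (⟨p.a, p.b, p.c, 0⟩ : A4 k)
  map_one' := rfl
  map_mul' := fun p q => by ext <;> simp
  map_zero' := rfl
  map_add' := fun p q => by ext <;> simp
  commutes' := fun _ => rfl

/-- `v ↦ s²`. -/
def pr2Alg : A4 k →ₐ[k] A4 k where
  toFun := fun p => (⟨p.a, p.b, p.c + p.d, 0⟩ : A4 k)
  map_one' := by ext <;> simp
  map_mul' := fun p q => by ext <;> simp <;> ring
  map_zero' := by ext <;> simp
  map_add' := fun p q => by ext <;> simp <;> ring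
  commutes' := fun _ => by ext <;> simp

/-- `v ↦ 0`. -/
def pr1 : A4obj k ⟶ A4obj k := Art.homMk (pr1Alg k) (AlgHom.ext fun _ => rfl)

/-- `v ↦ s²`. -/
def pr2 : A4obj k ⟶ A4obj k := Art.homMk (pr2Alg k) (AlgHom.ext fun _ => rfl)

variable {k}

theorem pr1_apply (p : A4 k) : (pr1 k) p = (⟨p.a, p.b, p.c, 0⟩ : A4 k) := rfl

theorem pr2_apply (p : A4 k) : (pr2 k) p = (⟨p.a, p.b, p.c + p.d, 0⟩ : A4 k) := rfl

theorem pr_jointly_injective (p q : A4obj k) (h1 : (pr1 k) p = (pr1 k) q)
    (h2 : (pr2 k) p = (pr2 k) q) : p = q := by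
  have e1 : (⟨p.a, p.b, p.c, 0⟩ : A4 k) = ⟨q.a, q.b, q.c, 0⟩ := h1
  have e2 : (⟨p.a, p.b, p.c + p.d, 0⟩ : A4 k) = ⟨q.a, q.b, q.c + q.d, 0⟩ := h2
  have ha := congrArg A4.a e1
  have hb := congrArg A4.b e1
  have hc := congrArg A4.c e1
  have hd := congrArg A4.c e2
  simp only at ha hb hc hd
  refine A4.ext ha hb hc ?_
  rw [hc] at hd
  exact add_left_cancel hd

variable (k)

/-- `s`. -/
def sA : A4 k := ⟨0, 1, 0, 0⟩
/-- `s + v`. -/
def tA : A4 k := ⟨0, 1, 0, 1⟩
/-- `1 + s`. -/
def uA : A4 k := ⟨1, 1, 0, 0⟩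
/-- `1 - s + s²`. -/
def vA : A4 k := ⟨1, -1, 1, 0⟩

theorem uA_mul_vA : uA k * vA k = 1 := by ext <;> simp [uA, vA]

theorem pr1_sA : (pr1 k) (sA k) = sA k := rfl
theorem pr1_tA : (pr1 k) (tA k) = sA k := rfl
theorem pr2_sA : (pr2 k) (sA k) = sA k := by
  rw [pr2_apply]; apply A4.ext <;> simp [sA]
theorem pr2_tA : (pr2 k) (tA k) = uA k * sA k := by
  rw [pr2_apply]; apply A4.ext <;> simp [sA, tA, uA]

/-- `s ↦ ε`, `v ↦ -ε`. -/
def chi : A4 k →+* DualNumber k where
  toFun p := (p.a, p.b - p.d)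
  map_one' := TrivSqZeroExt.ext rfl (by simp)
  map_mul' p q := TrivSqZeroExt.ext rfl (by
    change (p * q).b - (p * q).d = p.a • (q.b - q.d) + MulOpposite.op q.a • (p.b - p.d)
    rw [op_smul_eq_smul, smul_eq_mul, smul_eq_mul, A4.mul_b, A4.mul_d]
    ring)
  map_zero' := TrivSqZeroExt.ext rfl (by simp)
  map_add' p q := TrivSqZeroExt.ext rfl (by
    change (p + q).b - (p + q).d = (p.b - p.d) + (q.b - q.d)
    rw [A4.add_b, A4.add_d]
    ring)

theorem chi_fst (p : A4 k) : (chi k p).fst = p.a := rfl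
theorem chi_snd (p : A4 k) : (chi k p).snd = p.b - p.d := rfl

end Groth.Agent.Lib.LeadNode
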