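import Mathlib
import Groth.Prelude.Def_ArtFun4
import Groth.Agent.Lib.LeadNodeB
import Groth.Agent.Lib.LeadNodeC

/-!
# The deformation functor of the node is not prorepresentable (S12256)
-/

set_option autoImplicit false
set_option maxHeartbeats 400000
set_option linter.style.haveILetI false
set_option linter.unusedSectionVars false
set_option linter.unusedVariables false

universe u v

open MvPolynomial CategoryTheory Limits AlgebraicGeometry ArtFun ArtFun.Art

namespace Groth.Agent.Lib.LeadNode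

section formal

variable {k : Type u} [Field k]

/-- a prorepresentable functor is "separated" with respect to jointly injective pairs of maps. -/
theorem eq_of_prorep {F : Art k k ⥤ Type v} (P : ArtFun.ProRep F) {A'' A' : Art k k}
    (p₁ p₂ : A'' ⟶ A') (hinj : ∀ a b : A'', p₁ a = p₁ b → p₂ a = p₂ b → a = b)
    (η η' : F.obj A'') (h₁ : F.map p₁ η = F.map p₁ η') (h₂ : F.map p₂ η = F.map p₂ η') :
    η = η' := by
  obtain ⟨φ, rfl⟩ := (P.universal A'').2 η
  obtain ⟨φ', rfl⟩ := (P.universal A'').2 η'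
  have e₁ : HomSet.map p₁ φ = HomSet.map p₁ φ' :=
    (P.universal A').1 (by rw [P.family.natural, P.family.natural]; exact h₁)
  have e₂ : HomSet.map p₂ φ = HomSet.map p₂ φ' :=
    (P.universal A').1 (by rw [P.family.natural, P.family.natural]; exact h₂)
  have : φ = φ' := by
    apply Subtype.ext
    apply AlgHom.ext
    intro r
    apply hinj
    · exact congrArg (fun ψ : HomSet _ _ A' => ψ.1 r) e₁
    · exact congrArg (fun ψ : HomSet _ _ A' => ψ.1 r) e₂
  rw [this]

end formal

section nohom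

variable (k : Type u) [Field k]

/-- the origin of the node. -/
noncomputable def origin : B0 k →+* k :=
  Ideal.Quotient.lift _ (eval₂Hom (RingHom.id k) ![0, 0]) (by
    have hle : Ideal.span {(X 0 * X 1 : MvPolynomial (Fin 2) k)} ≤
        RingHom.ker (eval₂Hom (RingHom.id k) ![0, 0]) := by
      rw [Ideal.span_le, Set.singleton_subset_iff, SetLike.mem_coe, RingHom.mem_ker]
      simp
    exact fun p hp => RingHom.mem_ker.mp (hle hp))

theorem origin_algebraMap (c : k) : origin k (algebraMap k (B0 k) c) = c := by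
  change origin k (Ideal.Quotient.mk _ (C c)) = c
  simp [origin]

theorem origin_x (i : Fin 2) : origin k (Ideal.Quotient.mk _ (X i)) = 0 := by
  unfold origin
  rw [Ideal.Quotient.lift_mk, eval₂Hom_X']
  fin_cases i <;> rfl

theorem chi_tA : chi k (tA k) = 0 := by
  apply TrivSqZeroExt.ext
  · rfl
  · change (tA k).b - (tA k).d = 0
    simp [tA]

/-- the map `A4[x,y]/(xy - s - v) → k[ε]`, `s ↦ ε`, `v ↦ -ε`, `x, y ↦ 0`. -/
noncomputable def chiE : E (A4 k) (tA k) →+* DualNumber k :=
  liftE (tA k) (chi k) 0 0 (by rw [chi_tA, mul_zero])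

theorem no_hom (hs : (A4obj k).res (sA k) = 0) (ht : (A4obj k).res (tA k) = 0)
    (f : E (A4obj k) (sA k) →+* E (A4obj k) (tA k))
    (hγ : f.comp (γE (sA k)) = γE (tA k))
    (hπ : (piE (A4obj k) (tA k) ht).comp f = piE (A4obj k) (sA k) hs) : False := by
  have key : ∀ e : E (A4obj k) (tA k),
      (chiE k e).fst = origin k (piE (A4obj k) (tA k) ht e) := by
    have h : ((TrivSqZeroExt.fstHom k k k).toRingHom).comp (chiE k) =
        (origin k).comp (piE (A4obj k) (tA k) ht) := by
      refine hom_ext_E (fun a => ?_) ?_ ?_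
      · rw [RingHom.comp_apply, RingHom.comp_apply, piE_γ, origin_algebraMap]
        unfold chiE
        rw [liftE_γ]
        rfl
      · rw [RingHom.comp_apply, RingHom.comp_apply, piE_x, origin_x]
        unfold chiE
        rw [liftE_x0]
        rfl
      · rw [RingHom.comp_apply, RingHom.comp_apply, piE_x, origin_x]
        unfold chiE
        rw [liftE_x1]
        rfl
    intro e
    exact congrArg (fun φ => φ e) h
  have hf : ∀ e, piE (A4obj k) (tA k) ht (f e) = piE (A4obj k) (sA k) hs e := fun e =>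
    congrArg (fun φ => φ e) hπ
  have h0 : (chiE k (f (xE (sA k) 0))).fst = 0 := by
    rw [key, hf, piE_x, origin_x]
  have h1 : (chiE k (f (xE (sA k) 1))).fst = 0 := by
    rw [key, hf, piE_x, origin_x]
  have hprod : chiE k (f (xE (sA k) 0)) * chiE k (f (xE (sA k) 1)) = 0 := by
    apply TrivSqZeroExt.ext
    · rw [TrivSqZeroExt.fst_mul, h0, zero_mul, TrivSqZeroExt.fst_zero]
    · rw [TrivSqZeroExt.snd_mul, h0, h1, zero_smul, MulOpposite.op_zero, zero_smul, add_zero,
        TrivSqZeroExt.snd_zero]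
  have h2 : chiE k (f (xE (sA k) 0)) * chiE k (f (xE (sA k) 1)) = chi k (sA k) := by
    rw [← map_mul, ← map_mul, rel_E]
    have h3 : f (γE (sA k) (sA k)) = γE (tA k) (sA k) := congrArg (fun φ => φ (sA k)) hγ
    rw [h3]
    unfold chiE
    rw [liftE_γ]
  rw [hprod] at h2
  have h4 := congrArg TrivSqZeroExt.snd h2
  rw [chi_snd, TrivSqZeroExt.snd_zero] at h4
  simp [sA] at h4

end nohom

section main

variable (k : Type u) [Field k]

theorem res_sA : (A4obj k).res (sA k) = 0 := rfl

theorem res_tA : (A4obj k).res (tA k) = 0 := rfl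

theorem res_uA : (A4obj k).res (uA k) = 1 := rfl

theorem res_uA_sA : (A4obj k).res (uA k * sA k) = 0 := by
  change (uA k * sA k).a = 0
  simp [uA, sA]

/-- the deformation `xy = s`. -/
noncomputable abbrev xi0 := mkE (A4obj k) (sA k) (res_sA k)

/-- the deformation `xy = s + v`. -/
noncomputable abbrev xi1 := mkE (A4obj k) (tA k) (res_tA k)

theorem map_pr1_eq :
    (defFunctor (Λ := k) (Spec (CommRingCat.of (B0 k)))
      (Spec.map (CommRingCat.ofHom (algebraMap k (B0 k))))).map (pr1 k) (xi0 k).cl =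
    (defFunctor (Λ := k) (Spec (CommRingCat.of (B0 k)))
      (Spec.map (CommRingCat.ofHom (algebraMap k (B0 k))))).map (pr1 k) (xi1 k).cl := by
  obtain ⟨e11⟩ := baseChange_mkE (pr1 k) (sA k) (res_sA k) (sA k) (res_sA k) (pr1_sA k)
  obtain ⟨e12⟩ := baseChange_mkE (pr1 k) (tA k) (res_tA k) (sA k) (res_sA k) (pr1_tA k)
  rw [defFunctor_map_cl, defFunctor_map_cl]
  exact Quotient.sound ⟨e11.trans e12.symm⟩

theorem map_pr2_eq :
    (defFunctor (Λ := k) (Spec (CommRingCat.of (B0 k)))
      (Spec.map (CommRingCat.ofHom (algebraMap k (B0 k))))).map (pr2 k) (xi0 k).cl =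
    (defFunctor (Λ := k) (Spec (CommRingCat.of (B0 k)))
      (Spec.map (CommRingCat.ofHom (algebraMap k (B0 k))))).map (pr2 k) (xi1 k).cl := by
  obtain ⟨e21⟩ := baseChange_mkE (pr2 k) (sA k) (res_sA k) (sA k) (res_sA k) (pr2_sA k)
  obtain ⟨e22⟩ := baseChange_mkE (pr2 k) (tA k) (res_tA k) (uA k * sA k) (res_uA_sA k) (pr2_tA k)
  obtain ⟨etw⟩ := iso_twist (A := A4obj k) (uA k) (vA k) (uA_mul_vA k) (res_uA k) (sA k)
    (res_sA k) (res_uA_sA k)
  rw [defFunctor_map_cl, defFunctor_map_cl]
  exact Quotient.sound ⟨e21.trans (etw.trans e22.symm)⟩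

theorem xi0_ne_xi1 : (xi0 k).cl ≠ (xi1 k).cl := by
  intro heq
  have h : Nonempty ((xi0 k).Iso (xi1 k)) := Quotient.exact heq
  obtain ⟨e⟩ := h
  obtain ⟨f, hfγ, hfπ⟩ := ringHom_of_iso (A := A4obj k) (tA k) (sA k) (res_tA k) (res_sA k) e.symm
  exact no_hom k (res_sA k) (res_tA k) f hfγ hfπ

/-- **S12256: the deformation functor of the node is not prorepresentable.** -/
theorem main_S12256 :
    ¬ ArtFun.IsProrepresentable (ArtFun.defFunctor (Λ := k) (Spec (CommRingCat.of (B0 k)))
      (Spec.map (CommRingCat.ofHom (algebraMap k (B0 k))))) := by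
  rintro ⟨P⟩
  exact xi0_ne_xi1 k (eq_of_prorep P (pr1 k) (pr2 k) pr_jointly_injective (xi0 k).cl (xi1 k).cl
    (map_pr1_eq k) (map_pr2_eq k))

end main

end Groth.Agent.Lib.LeadNode
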