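import Mathlib
import Groth.Prelude.Def_Omega3
import Groth.Agent.Lib.Helper18UT10

/-!
# The first order infinitesimal neighbourhood is a universal first order thickening (helper3)
-/

set_option autoImplicit false
set_option linter.style.haveILetI false
universe u
open CategoryTheory AlgebraicGeometry Limits TopologicalSpace

namespace Groth.Agent.Lib.T2H3.FONbhd

variable {Y : Scheme.{u}} (I : Y.IdealSheafData)

/-- the kernel of `V(I) ⟶ V(I²)` has square zero and the map is a thickening. -/
theorem isFirstOrderThickening_inclusion (h : I ^ 2 ≤ I) :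
    MoreMor.IsFirstOrderThickening (Scheme.IdealSheafData.inclusion h) := by
  have hfac : Scheme.IdealSheafData.inclusion h ≫ (I ^ 2).subschemeι = I.subschemeι :=
    Scheme.IdealSheafData.inclusion_subschemeι h
  haveI hci : IsClosedImmersion (Scheme.IdealSheafData.inclusion h) := by
    haveI : IsClosedImmersion (Scheme.IdealSheafData.inclusion h ≫ (I ^ 2).subschemeι) := by
      rw [hfac]; infer_instance
    exact IsClosedImmersion.of_comp (Scheme.IdealSheafData.inclusion h) (I ^ 2).subschemeι
  refine ⟨⟨hci, ⟨?_⟩⟩, ?_⟩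
  · intro x
    have hx : (I ^ 2).subschemeι x ∈ Set.range I.subschemeι := by
      rw [Scheme.IdealSheafData.range_subschemeι, ← Scheme.IdealSheafData.support_pow I 2 (by norm_num),
        ← Scheme.IdealSheafData.range_subschemeι]
      exact ⟨x, rfl⟩
    obtain ⟨y, hy⟩ := hx
    refine ⟨y, ?_⟩
    apply (I ^ 2).subschemeι.isEmbedding.injective
    rw [← hy, ← hfac]
    rfl
  · rw [eq_bot_iff]
    refine Scheme.IdealSheafData.le_of_iSup_eq_top
      (fun V : Y.affineOpens => (⟨(I ^ 2).subschemeι ⁻¹ᵁ V.1, V.2.preimage _⟩ :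
        (I ^ 2).subscheme.affineOpens)) ?_ ?_
    · rw [eq_top_iff]
      intro z _
      obtain ⟨V, hV, hzV, -⟩ := Opens.isBasis_iff_nbhd.mp Y.isBasis_affineOpens
        (Opens.mem_top ((I ^ 2).subschemeι z))
      exact Opens.mem_iSup.mpr ⟨⟨V, hV⟩, hzV⟩
    · intro V
      change (Scheme.IdealSheafData.inclusion h).ker.ideal _ * (Scheme.IdealSheafData.inclusion h).ker.ideal _ ≤ ⊥
      rw [Scheme.Hom.ker_apply, Ideal.mul_le]
      intro x hx y hy
      rw [Ideal.mem_bot]
      obtain ⟨x', rfl⟩ := (I ^ 2).subschemeι_app_surjective V x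
      obtain ⟨y', rfl⟩ := (I ^ 2).subschemeι_app_surjective V y
      have key : ∀ z : Γ(Y, V.1), ((I ^ 2).subschemeι.app V.1).hom z ∈
          RingHom.ker ((Scheme.IdealSheafData.inclusion h).app ((I ^ 2).subschemeι ⁻¹ᵁ V.1)).hom →
          z ∈ I.ideal V := by
        intro z hz
        have h1 : z ∈ (Scheme.IdealSheafData.inclusion h ≫ (I ^ 2).subschemeι).ker.ideal V := by
          rw [Scheme.Hom.ker_apply, RingHom.mem_ker, Scheme.Hom.comp_app]
          exact hz
        rw [hfac, Scheme.IdealSheafData.ker_subschemeι] at h1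
        exact h1
      have hx' := key x' hx
      have hy' := key y' hy
      have h2 : x' * y' ∈ (I ^ 2).ideal V := by
        rw [Scheme.IdealSheafData.ideal_pow, Pi.pow_apply, pow_two]
        exact Ideal.mul_mem_mul hx' hy'
      rw [← Scheme.IdealSheafData.ker_subschemeι_app, RingHom.mem_ker] at h2
      rw [← map_mul]
      exact h2

/-- the first order neighbourhood `V(I²)` is the universal first order thickening of `V(I)`. -/
theorem isUnivThickening_subscheme (h : I ^ 2 ≤ I) :
    OmegaSh.IsUnivThickening I.subschemeι (Scheme.IdealSheafData.inclusion h)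
      (I ^ 2).subschemeι := by
  have hfac : Scheme.IdealSheafData.inclusion h ≫ (I ^ 2).subschemeι = I.subschemeι :=
    Scheme.IdealSheafData.inclusion_subschemeι h
  refine ⟨isFirstOrderThickening_inclusion I h, hfac, ?_⟩
  intro T T' j b a hj hw
  obtain ⟨⟨hci, hsurj⟩, hsq⟩ := hj
  haveI := hci
  -- sections of `I` pull back into the kernel of `j`
  have hker : ∀ (V : Y.affineOpens) (x : Γ(Y, V.1)), x ∈ I.ideal V →
      (j.app (b ⁻¹ᵁ V.1)).hom ((b.app V.1).hom x) = 0 := by
    intro V x hx
    have h2 : (I.subschemeι.app V.1).hom x = 0 := by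
      rw [← RingHom.mem_ker, Scheme.IdealSheafData.ker_subschemeι_app]
      exact hx
    have h3 : ((a ≫ I.subschemeι).app V.1).hom x = 0 := by
      rw [Scheme.Hom.comp_app]
      show (a.app (I.subschemeι ⁻¹ᵁ V.1)).hom ((I.subschemeι.app V.1).hom x) = 0
      rw [h2, map_zero]
    have h1 : ((j ≫ b).app V.1).hom x = 0 := by
      rw [Scheme.Hom.congr_app hw V.1, CommRingCat.hom_comp, RingHom.comp_apply, h3, map_zero]
    rw [Scheme.Hom.comp_app] at h1
    exact h1
  have hprod : ∀ (V : Y.affineOpens) (x y : Γ(Y, V.1)), x ∈ I.ideal V → y ∈ I.ideal V →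
      (b.app V.1).hom (x * y) = 0 := by
    intro V x y hx hy
    refine T'.IsSheaf.section_ext (U := Opposite.op (b ⁻¹ᵁ V.1)) ?_
    intro t ht
    obtain ⟨W, hW, htW, hWV⟩ := Opens.isBasis_iff_nbhd.mp T'.isBasis_affineOpens ht
    refine ⟨W, hWV, htW, ?_⟩
    rw [map_zero, map_mul, map_mul]
    have hmem : ∀ z : Γ(Y, V.1), z ∈ I.ideal V →
        (T'.presheaf.map (homOfLE hWV).op).hom ((b.app V.1).hom z) ∈ j.ker.ideal ⟨W, hW⟩ := by
      intro z hz
      rw [Scheme.Hom.ker_apply, RingHom.mem_ker]
      have := congr($(j.naturality (homOfLE hWV).op) ((b.app V.1).hom z))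
      simp only [CommRingCat.comp_apply] at this
      erw [this]
      erw [hker V z hz]
      rw [map_zero]
    have h3 := Ideal.mul_mem_mul (hmem x hx) (hmem y hy)
    have h4 : j.ker.ideal ⟨W, hW⟩ * j.ker.ideal ⟨W, hW⟩ = ⊥ := by
      have := congrArg (fun K : T'.IdealSheafData => K.ideal ⟨W, hW⟩) hsq
      exact this
    rw [h4, Ideal.mem_bot] at h3
    exact h3
  have hle : (I ^ 2).subschemeι.ker ≤ b.ker := by
    rw [Scheme.IdealSheafData.ker_subschemeι]
    refine Scheme.IdealSheafData.le_ofIdeals_iff.mpr ?_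
    intro V
    change (I ^ 2).ideal V ≤ RingHom.ker (b.app V.1).hom
    rw [Scheme.IdealSheafData.ideal_pow, Pi.pow_apply, pow_two, Ideal.mul_le]
    intro x hx y hy
    exact hprod V x y hx hy
  refine ⟨IsClosedImmersion.lift (I ^ 2).subschemeι b hle, ⟨?_, IsClosedImmersion.lift_fac _ _ _⟩, ?_⟩
  · rw [← cancel_mono (I ^ 2).subschemeι, Category.assoc, IsClosedImmersion.lift_fac, hw,
      Category.assoc, hfac]
  · rintro a'' ⟨-, h2⟩
    rw [← cancel_mono (I ^ 2).subschemeι, IsClosedImmersion.lift_fac, h2]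

/-- the version over an ambient scheme in which `Y` is open. -/
theorem isUnivThickening_subscheme_open {X : Scheme.{u}} (U : X.Opens)
    (I : (U : Scheme.{u}).IdealSheafData) (h : I ^ 2 ≤ I) :
    OmegaSh.IsUnivThickening (I.subschemeι ≫ U.ι) (Scheme.IdealSheafData.inclusion h)
      ((I ^ 2).subschemeι ≫ U.ι) :=
  Groth.Agent.Helper18UT.isUnivThickening_comp_openImmersion _ _ _
    (isUnivThickening_subscheme I h) U.ι

end Groth.Agent.Lib.T2H3.FONbhd
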