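import Mathlib

/-!
# Gluing local sections of a square-zero augmented algebra (helper3)

`A → C → A₀` with `A → A₀` surjective, both kernels of square zero, and the "conormal module"
`ker (C → A₀) / K` finitely presented over `A₀` (elementary form).  If sections `C → A_g` exist on a
cover by basic opens, a global section `C → A` exists.
-/

set_option autoImplicit false
universe u

namespace Groth.Agent.Lib.T2H3.GlueSection

open scoped BigOperators

/-- an element killed by powers of a spanning set is zero -/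
theorem eq_zero_of_forall_pow_mul {A : Type*} [CommRing A] (G : Set A) (hG : Ideal.span G = ⊤)
    (k : A) (h : ∀ g ∈ G, ∃ e : ℕ, g ^ e * k = 0) : k = 0 := by
  have := Submodule.mem_of_span_eq_top_of_smul_pow_mem (⊥ : Submodule A A) G hG k
    (fun g => by
      obtain ⟨e, he⟩ := h g.1 g.2
      exact ⟨e, by rw [smul_eq_mul, he]; exact Submodule.zero_mem _⟩)
  simpa using this

theorem exists_uniform {m : ℕ} (P : Fin m → ℕ → Prop)
    (hmono : ∀ i e e', e ≤ e' → P i e → P i e') (h : ∀ i, ∃ e, P i e) : ∃ e, ∀ i, P i e := by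
  choose f hf using h
  exact ⟨Finset.univ.sup f, fun i => hmono i _ _ (Finset.le_sup (Finset.mem_univ i)) (hf i)⟩

section
variable {A A₀ C : Type u} [CommRing A] [CommRing A₀] [CommRing C]
  (π : A →+* A₀) (φ : A →+* C) (ε : C →+* A₀)

/-- local solvability of the linear system. -/
theorem local_step {m p : ℕ} (n : Fin m → C) (M : Fin p → Fin m → A) (κ : Fin p → A)
    (hκ : ∀ l, ∑ i, φ (M l i) * n i = φ (κ l)) (hn : ∀ i, ε (n i) = 0)
    (g : A) (Ag : Type u) [CommRing Ag] [Algebra A Ag] [IsLocalization.Away g Ag]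
    (s : C →+* Ag) (hs1 : ∀ a, s (φ a) = algebraMap A Ag a)
    (hs2 : ∀ c, ε c = 0 → s c ∈ Ideal.map (algebraMap A Ag) (RingHom.ker π)) :
    ∃ (N : ℕ) (x : Fin m → A), (∀ i, π (x i) = 0) ∧ ∀ l, g ^ N * κ l = ∑ i, M l i * x i := by
  have h1 : ∃ e, ∀ i, ∃ y : A, π y = 0 ∧
      s (n i) * algebraMap A Ag (g ^ e) = algebraMap A Ag y := by
    apply exists_uniform
      (fun i e => ∃ y : A, π y = 0 ∧ s (n i) * algebraMap A Ag (g ^ e) = algebraMap A Ag y)
    · rintro i e e' hee' ⟨y, hy, h⟩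
      refine ⟨g ^ (e' - e) * y, by rw [map_mul, hy, mul_zero], ?_⟩
      rw [map_mul, ← h]
      have : g ^ e' = g ^ (e' - e) * g ^ e := by rw [← pow_add, Nat.sub_add_cancel hee']
      rw [this, map_mul]
      ring
    · intro i
      obtain ⟨⟨⟨y, hy⟩, ⟨_, e, rfl⟩⟩, h⟩ :=
        (IsLocalization.mem_map_algebraMap_iff (Submonoid.powers g) Ag).mp (hs2 (n i) (hn i))
      exact ⟨e, y, hy, h⟩
  obtain ⟨e, he⟩ := h1
  choose y hy hys using he
  have h2 : ∀ l, algebraMap A Ag (∑ i, M l i * y i) = algebraMap A Ag (g ^ e * κ l) := by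
    intro l
    have e1 : s (∑ i, φ (M l i) * n i) = algebraMap A Ag (κ l) := by rw [hκ l, hs1]
    rw [map_sum] at e1
    rw [map_mul (algebraMap A Ag), ← e1, Finset.mul_sum, map_sum]
    refine Finset.sum_congr rfl fun i _ => ?_
    rw [map_mul, map_mul, hs1, ← hys i]
    ring
  have h3 : ∃ e', ∀ l, g ^ e' * (∑ i, M l i * y i) = g ^ e' * (g ^ e * κ l) := by
    apply exists_uniform
      (fun (l : Fin p) e' => g ^ e' * (∑ i, M l i * y i) = g ^ e' * (g ^ e * κ l))
    · intro l e₁ e₂ h12 h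
      have : g ^ e₂ = g ^ (e₂ - e₁) * g ^ e₁ := by rw [← pow_add, Nat.sub_add_cancel h12]
      rw [this, mul_assoc, h, mul_assoc]
    · intro l
      obtain ⟨⟨_, e', rfl⟩, h⟩ :=
        (IsLocalization.eq_iff_exists (Submonoid.powers g) Ag).mp (h2 l)
      exact ⟨e', h⟩
  obtain ⟨e', he'⟩ := h3
  refine ⟨e' + e, fun i => g ^ e' * y i, fun i => by rw [map_mul, hy, mul_zero], fun l => ?_⟩
  rw [pow_add, mul_assoc, ← he' l, Finset.mul_sum]
  refine Finset.sum_congr rfl fun i _ => ?_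
  ring

/-- **Gluing local sections.** -/
theorem exists_section_of_local
    (hεφ : ∀ a, ε (φ a) = π a) (hπ : Function.Surjective π)
    (hK : ∀ x y, π x = 0 → π y = 0 → x * y = 0)
    (hN : ∀ x y, ε x = 0 → ε y = 0 → x * y = 0)
    {m p : ℕ} (n : Fin m → C) (M : Fin p → Fin m → A)
    (hn : ∀ i, ε (n i) = 0)
    (hgen : ∀ x, ε x = 0 → ∃ (b : Fin m → A) (k : A), π k = 0 ∧ x = φ k + ∑ i, φ (b i) * n i)
    (hrel0 : ∀ l, ∃ k, π k = 0 ∧ ∑ i, φ (M l i) * n i = φ k)
    (hrel : ∀ (b : Fin m → A) (k : A), π k = 0 → ∑ i, φ (b i) * n i = φ k →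
      ∃ d : Fin p → A, ∀ i, π (b i) = π (∑ l, d l * M l i))
    (G : Set A) (hG : Ideal.span G = ⊤)
    (hloc : ∀ g ∈ G, ∃ (Ag : Type u) (_ : CommRing Ag) (_ : Algebra A Ag)
      (_ : IsLocalization.Away g Ag) (s : C →+* Ag), (∀ a, s (φ a) = algebraMap A Ag a) ∧
        ∀ c, ε c = 0 → s c ∈ Ideal.map (algebraMap A Ag) (RingHom.ker π)) :
    ∃ s : C →+* A, (∀ a, s (φ a) = a) ∧ ∀ c, π (s c) = ε c := by
  classical
  -- `φ` is injective on `K`
  have hinj : ∀ k, π k = 0 → φ k = 0 → k = 0 := by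
    intro k _ hk
    refine eq_zero_of_forall_pow_mul G hG k fun g hg => ?_
    obtain ⟨Ag, _, _, _, s, hs1, -⟩ := hloc g hg
    have : algebraMap A Ag k = algebraMap A Ag 0 := by rw [← hs1, hk, map_zero, map_zero]
    obtain ⟨⟨_, e, rfl⟩, h⟩ := (IsLocalization.eq_iff_exists (Submonoid.powers g) Ag).mp this
    exact ⟨e, by rw [h, mul_zero]⟩
  choose κ hκ0 hκ using hrel0
  -- the global linear system is solvable
  let L : Submodule A (Fin p → A) :=
    (Submodule.pi Set.univ (fun _ : Fin m => (RingHom.ker π : Submodule A A))).map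
      (Matrix.mulVecLin (Matrix.of M))
  have hL : ∀ v : Fin p → A, v ∈ L ↔ ∃ x : Fin m → A, (∀ i, π (x i) = 0) ∧
      ∀ l, v l = ∑ i, M l i * x i := by
    intro v
    constructor
    · rintro ⟨x, hx, rfl⟩
      refine ⟨x, fun i => hx i (Set.mem_univ i), fun l => ?_⟩
      simp [Matrix.mulVec, dotProduct]
    · rintro ⟨x, hx, hv⟩
      refine ⟨x, fun i _ => hx i, ?_⟩
      ext l
      rw [hv l]
      simp [Matrix.mulVec, dotProduct]
  have hκL : κ ∈ L := by
    refine Submodule.mem_of_span_eq_top_of_smul_pow_mem L G hG κ ?_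
    rintro ⟨g, hg⟩
    obtain ⟨Ag, _, _, _, s, hs1, hs2⟩ := hloc g hg
    obtain ⟨N, x, hx, hNx⟩ := local_step π φ ε n M κ hκ hn g Ag s hs1 hs2
    refine ⟨N, (hL _).mpr ⟨x, hx, fun l => ?_⟩⟩
    rw [Pi.smul_apply, smul_eq_mul]
    exact hNx l
  obtain ⟨x, hx, hκx⟩ := (hL κ).mp hκL
  -- the two additive maps
  let Ξ : A × (Fin m → A) →+ C :=
    { toFun := fun z => φ z.1 + ∑ i, φ (z.2 i) * n i
      map_zero' := by simp
      map_add' := by
        intro z z'
        simp only [Prod.fst_add, Prod.snd_add, Pi.add_apply, map_add, add_mul, Finset.sum_add_distrib]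
        ring }
  let Sg : A × (Fin m → A) →+ A :=
    { toFun := fun z => z.1 + ∑ i, z.2 i * x i
      map_zero' := by simp
      map_add' := by
        intro z z'
        simp only [Prod.fst_add, Prod.snd_add, Pi.add_apply, add_mul, Finset.sum_add_distrib]
        ring }
  have hΞ : ∀ z, Ξ z = φ z.1 + ∑ i, φ (z.2 i) * n i := fun _ => rfl
  have hSg : ∀ z, Sg z = z.1 + ∑ i, z.2 i * x i := fun _ => rfl
  -- kernel claim
  have hker : ∀ z, Ξ z = 0 → Sg z = 0 := by
    rintro ⟨a, b⟩ hz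
    rw [hΞ] at hz
    rw [hSg]
    simp only at hz ⊢
    have ha : π a = 0 := by
      have := congrArg ε hz
      rw [map_add, map_sum, map_zero, hεφ] at this
      rw [← this]
      symm
      rw [add_eq_left]
      refine Finset.sum_eq_zero fun i _ => ?_
      rw [map_mul, hn, mul_zero]
    have hb : ∑ i, φ (b i) * n i = φ (-a) := by
      rw [map_neg]
      exact eq_neg_of_add_eq_zero_right hz
    obtain ⟨d, hd⟩ := hrel b (-a) (by rw [map_neg, ha, neg_zero]) hb
    have hδ : ∀ i, π (b i - ∑ l, d l * M l i) = 0 := fun i => by rw [map_sub, hd i, sub_self]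
    have e1 : ∑ i, b i * x i = ∑ l, d l * κ l := by
      have : ∀ i, b i * x i = (∑ l, d l * M l i) * x i := by
        intro i
        have := hK _ _ (hδ i) (hx i)
        rw [sub_mul, sub_eq_zero] at this
        exact this
      rw [Finset.sum_congr rfl fun i _ => this i]
      simp_rw [Finset.sum_mul, hκx, Finset.mul_sum]
      rw [Finset.sum_comm]
      refine Finset.sum_congr rfl fun l _ => Finset.sum_congr rfl fun i _ => ?_
      ring
    have e2 : φ (-a) = φ (∑ l, d l * κ l) := by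
      rw [← hb]
      have : ∀ i, φ (b i) * n i = φ (∑ l, d l * M l i) * n i := by
        intro i
        have := hN (φ (b i - ∑ l, d l * M l i)) (n i) (by rw [hεφ, hδ i]) (hn i)
        rw [map_sub, sub_mul, sub_eq_zero] at this
        exact this
      rw [Finset.sum_congr rfl fun i _ => this i]
      simp_rw [map_sum, map_mul, Finset.sum_mul, ← hκ, Finset.mul_sum]
      rw [Finset.sum_comm]
      refine Finset.sum_congr rfl fun l _ => Finset.sum_congr rfl fun i _ => ?_
      ring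
    have e3 : a + ∑ l, d l * κ l = 0 := by
      apply hinj
      · rw [map_add, ha, zero_add, map_sum]
        refine Finset.sum_eq_zero fun l _ => ?_
        rw [map_mul, hκ0, mul_zero]
      · rw [map_add, ← e2, map_neg, add_neg_cancel]
    rw [e1, e3]
  have hwd : ∀ z z', Ξ z = Ξ z' → Sg z = Sg z' := by
    intro z z' h
    have := hker (z - z') (by rw [map_sub, h, sub_self])
    rw [map_sub, sub_eq_zero] at this
    exact this
  -- surjectivity of `Ξ`
  have hsurj : ∀ c, ∃ z, Ξ z = c := by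
    intro c
    obtain ⟨a, ha⟩ := hπ (ε c)
    obtain ⟨b, k, hk, hbk⟩ := hgen (c - φ a) (by rw [map_sub, hεφ, ha, sub_self])
    refine ⟨(a + k, b), ?_⟩
    rw [hΞ]
    simp only [map_add]
    rw [add_assoc, ← hbk]
    ring
  choose rep hrep using hsurj
  have hs : ∀ z, Sg (rep (Ξ z)) = Sg z := fun z => hwd _ _ (hrep (Ξ z))
  have hpiSg : ∀ z, π (Sg z) = ε (Ξ z) := by
    intro z
    rw [hΞ, hSg, map_add, map_add, hεφ, map_sum, map_sum]
    congr 1
    rw [Finset.sum_eq_zero fun i _ => ?_, Finset.sum_eq_zero fun i _ => ?_]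
    · rw [map_mul, hn, mul_zero]
    · rw [map_mul, hx, mul_zero]
  have hmulΞ : ∀ z z' : A × (Fin m → A),
      Ξ z * Ξ z' = Ξ (z.1 * z'.1, fun i => z.1 * z'.2 i + z'.1 * z.2 i) := by
    intro z z'
    rw [hΞ, hΞ, hΞ]
    simp only [map_mul, map_add]
    have h0 : (∑ i, φ (z.2 i) * n i) * (∑ i, φ (z'.2 i) * n i) = 0 := by
      refine hN _ _ ?_ ?_
      · rw [map_sum]; exact Finset.sum_eq_zero fun i _ => by rw [map_mul, hn, mul_zero]
      · rw [map_sum]; exact Finset.sum_eq_zero fun i _ => by rw [map_mul, hn, mul_zero]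
    have : (φ z.1 + ∑ i, φ (z.2 i) * n i) * (φ z'.1 + ∑ i, φ (z'.2 i) * n i) =
        φ z.1 * φ z'.1 + (φ z.1 * ∑ i, φ (z'.2 i) * n i + φ z'.1 * ∑ i, φ (z.2 i) * n i) +
          (∑ i, φ (z.2 i) * n i) * (∑ i, φ (z'.2 i) * n i) := by ring
    rw [this, h0, add_zero, Finset.mul_sum, Finset.mul_sum, ← Finset.sum_add_distrib]
    congr 1
    refine Finset.sum_congr rfl fun i _ => ?_
    ring
  have hmulSg : ∀ z z' : A × (Fin m → A),
      Sg z * Sg z' = Sg (z.1 * z'.1, fun i => z.1 * z'.2 i + z'.1 * z.2 i) := by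
    intro z z'
    rw [hSg, hSg, hSg]
    have h0 : (∑ i, z.2 i * x i) * (∑ i, z'.2 i * x i) = 0 := by
      refine hK _ _ ?_ ?_
      · rw [map_sum]; exact Finset.sum_eq_zero fun i _ => by rw [map_mul, hx, mul_zero]
      · rw [map_sum]; exact Finset.sum_eq_zero fun i _ => by rw [map_mul, hx, mul_zero]
    have : (z.1 + ∑ i, z.2 i * x i) * (z'.1 + ∑ i, z'.2 i * x i) =
        z.1 * z'.1 + (z.1 * ∑ i, z'.2 i * x i + z'.1 * ∑ i, z.2 i * x i) +
          (∑ i, z.2 i * x i) * (∑ i, z'.2 i * x i) := by ring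
    rw [this, h0, add_zero, Finset.mul_sum, Finset.mul_sum, ← Finset.sum_add_distrib]
    congr 1
    refine Finset.sum_congr rfl fun i _ => ?_
    ring
  have hφΞ : ∀ a, φ a = Ξ (a, 0) := by
    intro a
    rw [hΞ]
    simp
  let s : C →+* A :=
    { toFun := fun c => Sg (rep c)
      map_one' := by
        have h1 : (1 : C) = Ξ (1, 0) := by rw [← hφΞ, map_one]
        have : Sg (rep 1) = Sg (1, 0) := hwd _ _ (by rw [hrep, h1])
        rw [this, hSg]
        simp
      map_mul' := by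
        intro c c'
        have : Sg (rep (c * c')) = Sg ((rep c).1 * (rep c').1,
            fun i => (rep c).1 * (rep c').2 i + (rep c').1 * (rep c).2 i) :=
          hwd _ _ (by rw [hrep, ← hmulΞ, hrep, hrep])
        rw [this, ← hmulSg]
      map_zero' := by
        have : Sg (rep 0) = Sg 0 := hwd _ _ (by rw [hrep, map_zero])
        rw [this, map_zero]
      map_add' := by
        intro c c'
        have : Sg (rep (c + c')) = Sg (rep c + rep c') :=
          hwd _ _ (by rw [hrep, map_add, hrep, hrep])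
        rw [this, map_add] }
  have hsdef : ∀ c, s c = Sg (rep c) := fun _ => rfl
  refine ⟨s, fun a => ?_, fun c => ?_⟩
  · rw [hsdef, hφΞ, hs, hSg]
    simp
  · rw [hsdef, hpiSg, hrep]

include ε in
/-- the extension of `K = ker π` to `C` consists of the elements `φ k`. -/
theorem exists_eq_map_of_mem_map
    (hεφ : ∀ a, ε (φ a) = π a) (hπ : Function.Surjective π)
    (hN : ∀ x y, ε x = 0 → ε y = 0 → x * y = 0)
    (y : C) (hy : y ∈ Ideal.map φ (RingHom.ker π)) : ∃ k, π k = 0 ∧ y = φ k := by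
  unfold Ideal.map at hy
  induction hy using Submodule.span_induction with
  | mem y hy =>
    obtain ⟨k, hk, rfl⟩ := hy
    exact ⟨k, hk, rfl⟩
  | zero => exact ⟨0, map_zero _, (map_zero _).symm⟩
  | add y z _ _ hy hz =>
    obtain ⟨k, hk, rfl⟩ := hy
    obtain ⟨k', hk', rfl⟩ := hz
    exact ⟨k + k', by rw [map_add, hk, hk', add_zero], (map_add _ _ _).symm⟩
  | smul c y _ hy =>
    obtain ⟨k, hk, rfl⟩ := hy
    obtain ⟨a, ha⟩ := hπ (ε c)
    have h0 : (c - φ a) * φ k = 0 :=
      hN _ _ (by rw [map_sub, hεφ, ha, sub_self]) (by rw [hεφ, hk])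
    refine ⟨a * k, by rw [map_mul, hk, mul_zero], ?_⟩
    rw [smul_eq_mul, map_mul]
    rw [sub_mul, sub_eq_zero] at h0
    exact h0

/-- the elementary finite presentation data from a finitely presented quotient `C₀ = C / K C`. -/
theorem exists_fp_data
    (hεφ : ∀ a, ε (φ a) = π a) (hπ : Function.Surjective π)
    (hN : ∀ x y, ε x = 0 → ε y = 0 → x * y = 0)
    {C₀ : Type u} [CommRing C₀] [Algebra A₀ C₀] [Module.FinitePresentation A₀ C₀]
    (θ : C →+* C₀) (hθ : Function.Surjective θ)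
    (hθφ : ∀ a, θ (φ a) = algebraMap A₀ C₀ (π a))
    (hkerθ : ∀ c, θ c = 0 → c ∈ Ideal.map φ (RingHom.ker π))
    (ε₀ : C₀ →+* A₀) (hε₀θ : ∀ c, ε₀ (θ c) = ε c) :
    ∃ (m p : ℕ) (n : Fin m → C) (M : Fin p → Fin m → A),
      (∀ i, ε (n i) = 0) ∧
      (∀ x, ε x = 0 → ∃ (b : Fin m → A) (k : A), π k = 0 ∧ x = φ k + ∑ i, φ (b i) * n i) ∧
      (∀ l, ∃ k, π k = 0 ∧ ∑ i, φ (M l i) * n i = φ k) ∧
      (∀ (b : Fin m → A) (k : A), π k = 0 → ∑ i, φ (b i) * n i = φ k →
        ∃ d : Fin p → A, ∀ i, π (b i) = π (∑ l, d l * M l i)) := by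
  classical
  have hε₀alg : ∀ a₀, ε₀ (algebraMap A₀ C₀ a₀) = a₀ := by
    intro a₀
    obtain ⟨a, rfl⟩ := hπ a₀
    rw [← hθφ, hε₀θ, hεφ]
  -- `ε₀` as a linear map
  let ε₀l : C₀ →ₗ[A₀] A₀ :=
    { toFun := ε₀
      map_add' := map_add ε₀
      map_smul' := fun a₀ c => by
        rw [Algebra.smul_def, map_mul, hε₀alg, RingHom.id_apply, smul_eq_mul] }
  let Q₀ : Submodule A₀ C₀ := LinearMap.ker ε₀l
  have hQ₀ : ∀ c : C₀, c ∈ Q₀ ↔ ε₀ c = 0 := fun c => LinearMap.mem_ker
  -- the projection onto `Q₀`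
  let pr : C₀ →ₗ[A₀] Q₀ :=
    { toFun := fun c => ⟨c - algebraMap A₀ C₀ (ε₀ c), by
        rw [hQ₀, map_sub, hε₀alg, sub_self]⟩
      map_add' := fun c c' => by
        apply Subtype.ext
        simp only [map_add, Submodule.coe_add]
        ring
      map_smul' := fun a₀ c => by
        apply Subtype.ext
        simp only [RingHom.id_apply, Submodule.coe_smul]
        rw [Algebra.smul_def, map_mul, hε₀alg, map_mul, Algebra.smul_def]
        ring }
  have hpr : ∀ c, ((pr c : Q₀) : C₀) = c - algebraMap A₀ C₀ (ε₀ c) := fun _ => rfl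
  have hprsurj : Function.Surjective pr := by
    rintro ⟨q, hq⟩
    refine ⟨q, Subtype.ext ?_⟩
    rw [hpr, (hQ₀ q).mp hq, map_zero, sub_zero]
  have hprker : (LinearMap.ker pr).FG := by
    have : LinearMap.ker pr = Submodule.span A₀ {(1 : C₀)} := by
      ext c
      rw [LinearMap.mem_ker, Submodule.mem_span_singleton]
      constructor
      · intro h
        have h1 := congrArg (fun q : Q₀ => (q : C₀)) h
        simp only [hpr, Submodule.coe_zero, sub_eq_zero] at h1
        exact ⟨ε₀ c, by rw [Algebra.smul_def, mul_one]; exact h1.symm⟩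
      · rintro ⟨a₀, rfl⟩
        apply Subtype.ext
        rw [hpr, Algebra.smul_def, mul_one, hε₀alg, sub_self]
        rfl
    rw [this]
    exact Submodule.fg_span_singleton _
  have : Module.FinitePresentation A₀ Q₀ := Module.finitePresentation_of_surjective pr hprsurj hprker
  obtain ⟨m, p, f, g, hf, hfg⟩ := Module.FinitePresentation.exists_fin' A₀ Q₀
  -- generators and their lifts
  let q : Fin m → C₀ := fun i => ((f (Pi.single i 1) : Q₀) : C₀)
  have hq : ∀ i, ε₀ (q i) = 0 := fun i => (hQ₀ _).mp (f (Pi.single i 1)).2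
  have hfv : ∀ v : Fin m → A₀, ((f v : Q₀) : C₀) = ∑ i, algebraMap A₀ C₀ (v i) * q i := by
    intro v
    have h1 := LinearMap.pi_apply_eq_sum_univ f v
    have h2 : ((f v : Q₀) : C₀) = ((∑ i, v i • f (fun j => if i = j then 1 else 0) : Q₀) : C₀) :=
      congrArg (fun q : Q₀ => (q : C₀)) h1
    rw [h2, Submodule.coe_sum]
    refine Finset.sum_congr rfl fun i _ => ?_
    rw [Submodule.coe_smul, Algebra.smul_def]
    congr 3
    ext j
    simp [Pi.single_apply, eq_comm]
  choose n hn using fun i => hθ (q i)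
  have hεn : ∀ i, ε (n i) = 0 := fun i => by rw [← hε₀θ, hn, hq]
  -- relation rows and their lifts
  choose M hM using fun (l : Fin p) (i : Fin m) => hπ (g (Pi.single l 1) i)
  have hθsum : ∀ b : Fin m → A, θ (∑ i, φ (b i) * n i) =
      ((f (fun i => π (b i)) : Q₀) : C₀) := by
    intro b
    rw [hfv, map_sum]
    refine Finset.sum_congr rfl fun i _ => ?_
    rw [map_mul, hθφ, hn]
  refine ⟨m, p, n, M, hεn, ?_, ?_, ?_⟩
  · intro x hx
    have hxQ : θ x ∈ Q₀ := by rw [hQ₀, hε₀θ, hx]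
    obtain ⟨v, hv⟩ := hf ⟨θ x, hxQ⟩
    choose b hb using fun i => hπ (v i)
    have h1 : θ (x - ∑ i, φ (b i) * n i) = 0 := by
      rw [map_sub, hθsum]
      have : (fun i => π (b i)) = v := funext hb
      rw [this, hv, sub_self]
    obtain ⟨k, hk, hxk⟩ := exists_eq_map_of_mem_map π φ ε hεφ hπ hN _ (hkerθ _ h1)
    exact ⟨b, k, hk, by rw [← hxk]; ring⟩
  · intro l
    have h1 : θ (∑ i, φ (M l i) * n i) = 0 := by
      rw [hθsum]
      have : (fun i => π (M l i)) = g (Pi.single l 1) := funext fun i => hM l i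
      rw [this]
      have := hfg.apply_apply_eq_zero (Pi.single l 1)
      rw [this]
      rfl
    obtain ⟨k, hk, hxk⟩ := exists_eq_map_of_mem_map π φ ε hεφ hπ hN _ (hkerθ _ h1)
    exact ⟨k, hk, hxk⟩
  · intro b k hk hbk
    have h1 : f (fun i => π (b i)) = 0 := by
      apply Subtype.ext
      rw [← hθsum, hbk, hθφ, hk, map_zero]
      rfl
    obtain ⟨dbar, hdbar⟩ := (hfg (fun i => π (b i))).mp h1
    choose d hd using fun l => hπ (dbar l)
    refine ⟨d, fun i => ?_⟩
    have h2 := congrFun hdbar i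
    rw [LinearMap.pi_apply_eq_sum_univ g dbar] at h2
    simp only [Finset.sum_apply, Pi.smul_apply, smul_eq_mul] at h2
    rw [← h2, map_sum]
    refine Finset.sum_congr rfl fun l _ => ?_
    rw [map_mul, hd, hM]
    have : (fun j => if l = j then (1 : A₀) else 0) = Pi.single l 1 := by
      ext j
      simp [Pi.single_apply, eq_comm]
    rw [this]

/-- **Gluing local sections**, with the finiteness hypothesis in module form. -/
theorem exists_section
    (hεφ : ∀ a, ε (φ a) = π a) (hπ : Function.Surjective π)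
    (hK : ∀ x y, π x = 0 → π y = 0 → x * y = 0)
    (hN : ∀ x y, ε x = 0 → ε y = 0 → x * y = 0)
    {C₀ : Type u} [CommRing C₀] [Algebra A₀ C₀] [Module.FinitePresentation A₀ C₀]
    (θ : C →+* C₀) (hθ : Function.Surjective θ)
    (hθφ : ∀ a, θ (φ a) = algebraMap A₀ C₀ (π a))
    (hkerθ : ∀ c, θ c = 0 → c ∈ Ideal.map φ (RingHom.ker π))
    (ε₀ : C₀ →+* A₀) (hε₀θ : ∀ c, ε₀ (θ c) = ε c)
    (G : Set A) (hG : Ideal.span G = ⊤)
    (hloc : ∀ g ∈ G, ∃ (Ag : Type u) (_ : CommRing Ag) (_ : Algebra A Ag)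
      (_ : IsLocalization.Away g Ag) (s : C →+* Ag), (∀ a, s (φ a) = algebraMap A Ag a) ∧
        ∀ c, ε c = 0 → s c ∈ Ideal.map (algebraMap A Ag) (RingHom.ker π)) :
    ∃ s : C →+* A, (∀ a, s (φ a) = a) ∧ ∀ c, π (s c) = ε c := by
  obtain ⟨m, p, n, M, hn, hgen, hrel0, hrel⟩ :=
    exists_fp_data π φ ε hεφ hπ hN θ hθ hθφ hkerθ ε₀ hε₀θ
  exact exists_section_of_local π φ ε hεφ hπ hK hN n M hn hgen hrel0 hrel G hG hloc

end

end Groth.Agent.Lib.T2H3.GlueSection
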