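import Mathlib
import Groth.Prelude.Def_Omega3
import Groth.Agent.Lib.T2H3FONbhd
import Groth.Agent.Lib.Helper22ThickAffine
import Groth.Agent.Lib.Helper22FTLimit
import Groth.Agent.Lib.Helper6LfpComp
import Groth.Agent.Lib.T2H3GlueSection

/-!
# Affine universal first order thickenings of immersions of affine schemes (helper3)
-/

set_option autoImplicit false
set_option linter.style.haveILetI false
universe u
open CategoryTheory AlgebraicGeometry Limits TopologicalSpace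

namespace Groth.Agent.Lib.T2H3.FOGraph

open Groth.Agent.Helper18UT Groth.Agent.Lib.T2H3.FONbhd

/-- a closed immersion locally of finite presentation has a finite type kernel. -/
theorem ft_ker_of_lfp {X Y : Scheme.{u}} (f : X ⟶ Y) [IsClosedImmersion f]
    [LocallyOfFinitePresentation f] : Groth.Agent.Lib.Helper22.FTIdeal.FT f.ker := by
  intro V
  rw [Scheme.Hom.ker_apply]
  have hfp : (f.app V.1).hom.FinitePresentation := by
    rw [Scheme.Hom.app_eq_appLE]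
    exact HasRingHomProperty.appLE (P := @LocallyOfFinitePresentation) f inferInstance V
      ⟨f ⁻¹ᵁ V.1, V.2.preimage f⟩ le_rfl
  have hsurj : Function.Surjective (f.app V.1).hom := f.app_surjective V.1 V.2
  algebraize [(f.app V.1).hom]
  exact Algebra.FinitePresentation.ker_fG_of_surjective (Algebra.ofId Γ(Y, V.1) Γ(X, f ⁻¹ᵁ V.1)) hsurj

/-- **Construction.** An immersion of an affine scheme has an affine universal first order
thickening (the first order neighbourhood); it is locally of finite presentation over the ambient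
scheme when the immersion is. -/
theorem exists_affine_univThickening {T₀ P : Scheme.{u}} [IsAffine T₀] (σ : T₀ ⟶ P)
    [IsImmersion σ] :
    ∃ (Z : Scheme.{u}) (κ : T₀ ⟶ Z) (ζ : Z ⟶ P), IsAffine Z ∧ OmegaSh.IsUnivThickening σ κ ζ ∧
      (LocallyOfFinitePresentation σ → LocallyOfFinitePresentation ζ) := by
  let W : P.Opens := σ.coborderRange
  let σ' : T₀ ⟶ W := σ.liftCoborder
  have hσ' : σ' ≫ W.ι = σ := σ.liftCoborder_ι
  let I : (W : Scheme.{u}).IdealSheafData := σ'.ker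
  have h : I ^ 2 ≤ I := by
    intro V
    change (I ^ 2).ideal V ≤ I.ideal V
    rw [Scheme.IdealSheafData.ideal_pow, Pi.pow_apply]
    exact Ideal.pow_le_self two_ne_zero
  let e : T₀ ≅ I.subscheme := asIso σ'.toImage
  have he : e.hom ≫ I.subschemeι = σ' := σ'.toImage_imageι
  have hu₁ := isUnivThickening_subscheme_open W I h
  have hu₂ := isUnivThickening_iso_comp _ _ _ hu₁ e
  have e1 : e.hom ≫ I.subschemeι ≫ W.ι = σ := by rw [← Category.assoc, he, hσ']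
  rw [e1] at hu₂
  refine ⟨(I ^ 2).subscheme, e.hom ≫ Scheme.IdealSheafData.inclusion h,
    (I ^ 2).subschemeι ≫ W.ι, ?_, hu₂, ?_⟩
  · haveI : IsClosedImmersion (e.hom ≫ Scheme.IdealSheafData.inclusion h) := hu₂.1.1.1
    exact Groth.Agent.Lib.Helper22.ThickAffine.isAffine_of_thickening
      (e.hom ≫ Scheme.IdealSheafData.inclusion h) hu₂.1.1.2.surj
  · intro hlfp
    haveI : LocallyOfFinitePresentation (σ' ≫ W.ι) := by rw [hσ']; exact hlfp
    haveI : LocallyOfFinitePresentation σ' :=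
      Groth.Agent.Lib.Helper6.locallyOfFinitePresentation_of_comp (g := W.ι) inferInstance
        inferInstance
    have hft : Groth.Agent.Lib.Helper22.FTIdeal.FT I := ft_ker_of_lfp σ'
    have hft2 : Groth.Agent.Lib.Helper22.FTIdeal.FT (I ^ 2) := by
      intro V
      rw [Scheme.IdealSheafData.ideal_pow, Pi.pow_apply]
      exact (hft V).pow
    haveI := Groth.Agent.Lib.Helper22.FTLimit.locallyOfFinitePresentation_subschemeι (I ^ 2) hft2
    infer_instance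

/-- **Base change** of a universal first order thickening along an arbitrary morphism of the
ambient scheme. -/
theorem isUnivThickening_baseChange {X X₁ Z Z' Z₁ Z₁' : Scheme.{u}} {h : Z ⟶ X} {i : Z ⟶ Z'}
    {h' : Z' ⟶ X} (hu : OmegaSh.IsUnivThickening h i h') (g : X₁ ⟶ X)
    {gZ : Z₁ ⟶ Z} {h₁ : Z₁ ⟶ X₁} (sq : IsPullback gZ h₁ h g)
    {gZ' : Z₁' ⟶ Z'} {h₁' : Z₁' ⟶ X₁} (sq' : IsPullback gZ' h₁' h' g)
    (i₁ : Z₁ ⟶ Z₁') (hi1 : i₁ ≫ gZ' = gZ ≫ i) (hi2 : i₁ ≫ h₁' = h₁) :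
    OmegaSh.IsUnivThickening h₁ i₁ h₁' := by
  obtain ⟨hi, hih, huniv⟩ := hu
  have sqL : IsPullback i₁ gZ gZ' i := by
    refine IsPullback.of_right ?_ hi1 sq'.flip
    rw [hi2, hih]
    exact sq.flip
  refine ⟨Groth.Agent.Lib.Helper20.IdealComap.isFirstOrderThickening_of_isPullback sqL.flip hi,
    hi2, ?_⟩
  intro T T' j b a hj hw
  obtain ⟨a'', ⟨ha1, ha2⟩, huniq⟩ := huniv T T' j (b ≫ g) (a ≫ gZ) hj (by
    rw [← Category.assoc, hw, Category.assoc, Category.assoc, sq.w])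
  refine ⟨sq'.lift a'' b ha2, ⟨?_, sq'.lift_snd _ _ _⟩, ?_⟩
  · apply sq'.hom_ext
    · rw [Category.assoc, sq'.lift_fst, ha1, Category.assoc, Category.assoc, hi1]
    · rw [Category.assoc, sq'.lift_snd, hw, Category.assoc, hi2]
  · rintro a₂ ⟨h1, h2⟩
    apply sq'.hom_ext
    · rw [sq'.lift_fst]
      apply huniq
      refine ⟨?_, ?_⟩
      · rw [← Category.assoc, h1, Category.assoc, hi1, Category.assoc]
      · rw [Category.assoc, sq'.w, ← Category.assoc, h2]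
    · rw [sq'.lift_snd, h2]

/-- **Finiteness.** For a section-like immersion `σ : T₀ ⟶ P` over a closed immersion `i : T₀ ⟶ T`
with `P` locally of finite presentation over `T`, the restriction to `T₀` of the universal first
order thickening of `σ` is locally of finite presentation over `T₀`. -/
theorem exists_fp_restriction {T T₀ P : Scheme.{u}} [IsAffine T] [IsAffine T₀] (i : T₀ ⟶ T)
    [IsClosedImmersion i] (p : P ⟶ T) [LocallyOfFinitePresentation p] (σ : T₀ ⟶ P)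
    (hσ : σ ≫ p = i) {Z : Scheme.{u}} [IsAffine Z] (κ : T₀ ⟶ Z) (ζ : Z ⟶ P)
    (hu : OmegaSh.IsUnivThickening σ κ ζ) :
    ∃ (Z₀ : Scheme.{u}) (_ : IsAffine Z₀) (u : Z₀ ⟶ Z) (v : Z₀ ⟶ T₀) (κ₀ : T₀ ⟶ Z₀),
      u ≫ ζ ≫ p = v ≫ i ∧ κ₀ ≫ u = κ ∧ κ₀ ≫ v = 𝟙 T₀ ∧
      Function.Surjective u.appTop.hom ∧
      RingHom.ker u.appTop.hom = (RingHom.ker i.appTop.hom).map (ζ ≫ p).appTop.hom ∧
      v.appTop.hom.FinitePresentation ∧ MoreMor.IsFirstOrderThickening κ₀ := by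
  have hκζ : κ ≫ ζ = σ := hu.2.1
  -- the base change of `P`
  let pr₁ : pullback p i ⟶ P := pullback.fst p i
  let pr₂ : pullback p i ⟶ T₀ := pullback.snd p i
  have sqP : IsPullback pr₁ pr₂ p i := IsPullback.of_hasPullback p i
  let τ : T₀ ⟶ pullback p i := pullback.lift σ (𝟙 T₀) (by rw [hσ, Category.id_comp])
  have hτ1 : τ ≫ pr₁ = σ := pullback.lift_fst _ _ _
  have hτ2 : τ ≫ pr₂ = 𝟙 T₀ := pullback.lift_snd _ _ _
  have sqτ : IsPullback τ (𝟙 T₀) pr₁ σ := by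
    refine IsPullback.of_right ?_ (by rw [hτ1, Category.id_comp]) sqP.flip
    rw [hτ2, hσ]
    exact (IsKernelPair.id_of_mono i)
  -- the base change of `Z`
  let u : pullback (ζ ≫ p) i ⟶ Z := pullback.fst (ζ ≫ p) i
  let v : pullback (ζ ≫ p) i ⟶ T₀ := pullback.snd (ζ ≫ p) i
  have sqZ : IsPullback u v (ζ ≫ p) i := IsPullback.of_hasPullback (ζ ≫ p) i
  let w : pullback (ζ ≫ p) i ⟶ pullback p i :=
    pullback.lift (u ≫ ζ) v (by rw [Category.assoc]; exact sqZ.w)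
  have hw1 : w ≫ pr₁ = u ≫ ζ := pullback.lift_fst _ _ _
  have hw2 : w ≫ pr₂ = v := pullback.lift_snd _ _ _
  have sqw : IsPullback u w ζ pr₁ := by
    refine (IsPullback.of_right ?_ hw1 sqP.flip).flip
    rw [hw2]
    exact sqZ.flip
  let κ₀ : T₀ ⟶ pullback (ζ ≫ p) i :=
    pullback.lift κ (𝟙 T₀) (by rw [← Category.assoc, hκζ, hσ, Category.id_comp])
  have hκ₀1 : κ₀ ≫ u = κ := pullback.lift_fst _ _ _
  have hκ₀2 : κ₀ ≫ v = 𝟙 T₀ := pullback.lift_snd _ _ _
  have hκ₀w : κ₀ ≫ w = τ := by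
    apply sqP.hom_ext
    · rw [Category.assoc, hw1, ← Category.assoc, hκ₀1, hκζ, hτ1]
    · rw [Category.assoc, hw2, hκ₀2, hτ2]
  have hu₀ : OmegaSh.IsUnivThickening τ κ₀ w :=
    isUnivThickening_baseChange hu pr₁ sqτ.flip sqw κ₀ (by rw [hκ₀1, Category.id_comp]) hκ₀w
  -- the first order neighbourhood of `τ`
  haveI : IsImmersion (τ ≫ pr₂) := by rw [hτ2]; infer_instance
  haveI : IsImmersion τ := IsImmersion.of_comp τ pr₂
  haveI : LocallyOfFinitePresentation τ := by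
    refine Groth.Agent.Lib.Helper6.locallyOfFinitePresentation_of_comp (g := pr₂) inferInstance ?_
    rw [hτ2]
    infer_instance
  obtain ⟨Z₀', κ₀', ζ₀', _, hu₀', hlfp⟩ := exists_affine_univThickening τ
  have hζ₀' : LocallyOfFinitePresentation ζ₀' := hlfp inferInstance
  let c := comparison hu₀ hu₀' (𝟙 T₀) (Category.id_comp _)
  haveI : IsIso c := isIso_comparison hu₀ hu₀' (𝟙 T₀) (Category.id_comp _)
  have hc : c ≫ ζ₀' = w := comparison_comp hu₀ hu₀' (𝟙 T₀) (Category.id_comp _)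
  have hvlfp : LocallyOfFinitePresentation v := by
    rw [← hw2, ← hc, Category.assoc]
    infer_instance
  refine ⟨pullback (ζ ≫ p) i, inferInstance, u, v, κ₀, by rw [← Category.assoc]; exact sqZ.w,
    hκ₀1, hκ₀2, ?_, ?_, ?_, hu₀.1⟩
  · exact (IsClosedImmersion.isAffine_surjective_of_isAffine u).2
  · have h1 : u.ker = i.ker.comap (ζ ≫ p) :=
      Scheme.IdealSheafData.ker_fst_of_isClosedImmersion i (ζ ≫ p)
    have h2 := congrArg (fun J : Z.IdealSheafData => J.ideal ⟨⊤, isAffineOpen_top Z⟩) h1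
    simp only at h2
    rw [Groth.Agent.Lib.Helper20.IdealComap.ideal_comap_top_of_isAffine, Scheme.Hom.ker_apply,
      Scheme.Hom.ker_apply] at h2
    exact h2
  · exact (HasRingHomProperty.iff_of_isAffine (P := @LocallyOfFinitePresentation)).mp hvlfp

/-- the kernel of a first order thickening of an affine scheme has square zero on global sections. -/
theorem mul_eq_zero_of_isFirstOrderThickening {T₀ T : Scheme.{u}} [IsAffine T] (j : T₀ ⟶ T)
    (hj : MoreMor.IsFirstOrderThickening j) (x y : Γ(T, ⊤)) (hx : j.appTop.hom x = 0)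
    (hy : j.appTop.hom y = 0) : x * y = 0 := by
  obtain ⟨⟨hci, -⟩, hsq⟩ := hj
  haveI := hci
  have h1 := congrArg (fun J : T.IdealSheafData => J.ideal ⟨⊤, isAffineOpen_top T⟩) hsq
  simp only [Scheme.IdealSheafData.ideal_mul, Pi.mul_apply, Scheme.Hom.ker_apply] at h1
  have h2 : x * y ∈ RingHom.ker (j.app ⊤).hom * RingHom.ker (j.app ⊤).hom :=
    Ideal.mul_mem_mul hx hy
  rw [h1] at h2
  exact h2

/-- morphisms to an affine scheme with prescribed map on global sections. -/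
theorem exists_hom_appTop {T Z : Scheme.{u}} [IsAffine Z] (s : Γ(Z, ⊤) ⟶ Γ(T, ⊤)) :
    ∃ a' : T ⟶ Z, a'.appTop = s := by
  refine ⟨toSpec T s ≫ Z.isoSpec.inv, ?_⟩
  rw [Scheme.Hom.comp_appTop, toSpec_appTop, ← Category.assoc]
  have h1 : Z.isoSpec.inv.appTop ≫ (Scheme.ΓSpecIso Γ(Z, ⊤)).hom = 𝟙 _ := by
    have h2 : Z.isoSpec.hom.appTop = (Scheme.ΓSpecIso Γ(Z, ⊤)).hom := Scheme.toSpecΓ_appTop Z
    rw [← h2, ← Scheme.Hom.comp_appTop, Iso.hom_inv_id]
    rfl
  rw [h1, Category.id_comp]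

set_option maxHeartbeats 1600000 in
/-- **Gluing local lifts along a first order thickening of an affine scheme.** -/
theorem exists_lift_of_local_lifts {T T₀ P : Scheme.{u}} [IsAffine T₀] (i : T₀ ⟶ T)
    (hi : MoreMor.IsFirstOrderThickening i) (p : P ⟶ T) [LocallyOfFinitePresentation p]
    (σ : T₀ ⟶ P) (hσ : σ ≫ p = i)
    (hloc : ∀ t : T, ∃ (D : T.Opens) (l : (D : Scheme.{u}) ⟶ P), t ∈ D ∧ l ≫ p = D.ι ∧
      (i ∣_ D) ≫ l = (i ⁻¹ᵁ D).ι ≫ σ) :
    ∃ l : T ⟶ P, l ≫ p = 𝟙 T ∧ i ≫ l = σ := by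
  haveI hci : IsClosedImmersion i := hi.1.1
  haveI : IsAffine T :=
    Groth.Agent.Lib.Helper22.ThickAffine.isAffine_of_thickening i hi.1.2.surj
  haveI : IsImmersion (σ ≫ p) := by rw [hσ]; infer_instance
  haveI : IsImmersion σ := IsImmersion.of_comp σ p
  obtain ⟨Z, κ, ζ, hZ, hu, -⟩ := exists_affine_univThickening σ
  haveI := hZ
  have hκζ : κ ≫ ζ = σ := hu.2.1
  obtain ⟨Z₀, hZ₀, u, v, κ₀, huv, hκ₀u, hκ₀v, husurj, huker, hvfp, hκ₀⟩ :=
    exists_fp_restriction i p σ hσ κ ζ hu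
  haveI := hZ₀
  -- rings
  let π : Γ(T, ⊤) →+* Γ(T₀, ⊤) := i.appTop.hom
  let φ : Γ(T, ⊤) →+* Γ(Z, ⊤) := (ζ ≫ p).appTop.hom
  let ε : Γ(Z, ⊤) →+* Γ(T₀, ⊤) := κ.appTop.hom
  let θ : Γ(Z, ⊤) →+* Γ(Z₀, ⊤) := u.appTop.hom
  let ε₀ : Γ(Z₀, ⊤) →+* Γ(T₀, ⊤) := κ₀.appTop.hom
  letI algv : Algebra Γ(T₀, ⊤) Γ(Z₀, ⊤) := v.appTop.hom.toAlgebra
  have hεφ : ∀ a, ε (φ a) = π a := by
    intro a
    have : (ζ ≫ p).appTop ≫ κ.appTop = i.appTop := by
      rw [← Scheme.Hom.comp_appTop, ← Category.assoc, hκζ, hσ]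
    exact congr($this a)
  have hπ : Function.Surjective π := (IsClosedImmersion.isAffine_surjective_of_isAffine i).2
  have hK : ∀ x y, π x = 0 → π y = 0 → x * y = 0 := mul_eq_zero_of_isFirstOrderThickening i hi
  have hN : ∀ x y, ε x = 0 → ε y = 0 → x * y = 0 := mul_eq_zero_of_isFirstOrderThickening κ hu.1
  have hN₀ : ∀ x y, ε₀ x = 0 → ε₀ y = 0 → x * y = 0 := mul_eq_zero_of_isFirstOrderThickening κ₀ hκ₀
  have hε₀alg : ∀ a₀, ε₀ (algebraMap Γ(T₀, ⊤) Γ(Z₀, ⊤) a₀) = a₀ := by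
    intro a₀
    have : v.appTop ≫ κ₀.appTop = 𝟙 _ := by
      rw [← Scheme.Hom.comp_appTop, hκ₀v]
      rfl
    exact congr($this a₀)
  haveI hfpalg : Algebra.FinitePresentation Γ(T₀, ⊤) Γ(Z₀, ⊤) := hvfp
  haveI hint : Algebra.IsIntegral Γ(T₀, ⊤) Γ(Z₀, ⊤) := ⟨fun c => by
    have h1 : c = algebraMap Γ(T₀, ⊤) Γ(Z₀, ⊤) (ε₀ c) + (c - algebraMap Γ(T₀, ⊤) Γ(Z₀, ⊤) (ε₀ c)) := by
      ring
    rw [h1]
    have h2 : ε₀ (c - algebraMap Γ(T₀, ⊤) Γ(Z₀, ⊤) (ε₀ c)) = 0 := by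
      rw [map_sub, hε₀alg, sub_self]
    refine isIntegral_algebraMap.add (IsIntegral.of_pow (n := 2) two_pos ?_)
    rw [pow_two, hN₀ _ _ h2 h2]
    exact isIntegral_zero⟩
  haveI : Module.Finite Γ(T₀, ⊤) Γ(Z₀, ⊤) := Algebra.IsIntegral.finite
  haveI : Module.FinitePresentation Γ(T₀, ⊤) Γ(Z₀, ⊤) :=
    Module.FinitePresentation.of_finite_of_finitePresentation _ _
  have hθφ : ∀ a, θ (φ a) = algebraMap Γ(T₀, ⊤) Γ(Z₀, ⊤) (π a) := by
    intro a
    have : (ζ ≫ p).appTop ≫ u.appTop = i.appTop ≫ v.appTop := by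
      rw [← Scheme.Hom.comp_appTop, ← Scheme.Hom.comp_appTop, huv]
    exact congr($this a)
  have hkerθ : ∀ c, θ c = 0 → c ∈ Ideal.map φ (RingHom.ker π) := by
    intro c hc
    rw [← huker]
    exact hc
  have hε₀θ : ∀ c, ε₀ (θ c) = ε c := by
    intro c
    have : u.appTop ≫ κ₀.appTop = κ.appTop := by rw [← Scheme.Hom.comp_appTop, hκ₀u]
    exact congr($this c)
  -- the local sections
  let G : Set Γ(T, ⊤) := {g | ∃ l : (T.basicOpen g : Scheme.{u}) ⟶ P,
    l ≫ p = (T.basicOpen g).ι ∧ (i ∣_ T.basicOpen g) ≫ l = (i ⁻¹ᵁ T.basicOpen g).ι ≫ σ}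
  have hG : Ideal.span G = ⊤ := by
    rw [← (isAffineOpen_top T).self_le_iSup_basicOpen_iff]
    intro t _
    obtain ⟨D, l, htD, hl1, hl2⟩ := hloc t
    obtain ⟨g, hgD, htg⟩ := (isAffineOpen_top T).exists_basicOpen_le (V := D) ⟨t, htD⟩ trivial
    refine Opens.mem_iSup.mpr ⟨⟨g, ?_⟩, htg⟩
    refine ⟨T.homOfLE hgD ≫ l, ?_, ?_⟩
    · rw [Category.assoc, hl1, Scheme.homOfLE_ι]
    · have hle : i ⁻¹ᵁ T.basicOpen g ≤ i ⁻¹ᵁ D := fun x hx => hgD hx
      have e1 : (i ∣_ T.basicOpen g) ≫ T.homOfLE hgD = T₀.homOfLE hle ≫ (i ∣_ D) := by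
        rw [← Scheme.Hom.resLE_eq_morphismRestrict, ← Scheme.Hom.resLE_eq_morphismRestrict,
          Scheme.Hom.resLE_map, Scheme.Hom.map_resLE]
      rw [← Category.assoc, e1, Category.assoc, hl2, ← Category.assoc, Scheme.homOfLE_ι]
  have hlocalg : ∀ g ∈ G, ∃ (Ag : Type u) (_ : CommRing Ag) (_ : Algebra Γ(T, ⊤) Ag)
      (_ : IsLocalization.Away g Ag) (s : Γ(Z, ⊤) →+* Ag),
      (∀ a, s (φ a) = algebraMap Γ(T, ⊤) Ag a) ∧
        ∀ c, ε c = 0 → s c ∈ Ideal.map (algebraMap Γ(T, ⊤) Ag) (RingHom.ker π) := by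
    rintro g ⟨l, hl1, hl2⟩
    have hD : IsAffineOpen (T.basicOpen g) := (isAffineOpen_top T).basicOpen g
    have hj : MoreMor.IsFirstOrderThickening (i ∣_ T.basicOpen g) :=
      Groth.Agent.Lib.Helper20.IdealComap.isFirstOrderThickening_of_isPullback
        (isPullback_morphismRestrict i (T.basicOpen g)).flip hi
    obtain ⟨a', ⟨ha'1, ha'2⟩, -⟩ := hu.2.2 _ _ (i ∣_ T.basicOpen g) l (i ⁻¹ᵁ T.basicOpen g).ι hj hl2
    refine ⟨Γ(T, T.basicOpen g), inferInstance, inferInstance,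
      (isAffineOpen_top T).isLocalization_basicOpen g,
      (a'.appTop ≫ (T.basicOpen g).topIso.hom).hom, ?_, ?_⟩
    · intro a
      have e1 : (ζ ≫ p).appTop ≫ a'.appTop ≫ (T.basicOpen g).topIso.hom =
          T.presheaf.map (homOfLE (T.basicOpen_le g)).op := by
        rw [← Category.assoc, ← Scheme.Hom.comp_appTop, ← Category.assoc, ha'2, hl1,
          Scheme.Opens.ι_appTop, Scheme.Opens.topIso_hom]
        exact (T.presheaf.map_comp _ _).symm
      exact congr($e1 a)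
    · intro c hc
      have e2 : a'.appTop ≫ (i ∣_ T.basicOpen g).appTop =
          κ.appTop ≫ (i ⁻¹ᵁ T.basicOpen g).ι.appTop := by
        rw [← Scheme.Hom.comp_appTop, ← Scheme.Hom.comp_appTop, ha'1]
      have e3 : (i ∣_ T.basicOpen g).appTop.hom (a'.appTop.hom c) = 0 := by
        have := congr($e2 c)
        refine this.trans ?_
        change (i ⁻¹ᵁ T.basicOpen g).ι.appTop.hom (ε c) = 0
        rw [hc, map_zero]
      have e4 := Groth.Agent.Helper18UT.resLE_appTop_topIso i (T.basicOpen g)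
        (i ⁻¹ᵁ T.basicOpen g) le_rfl
      rw [Scheme.Hom.resLE_eq_morphismRestrict, ← Scheme.Hom.app_eq_appLE] at e4
      have e5 : (i.app (T.basicOpen g)).hom ((T.basicOpen g).topIso.hom.hom (a'.appTop.hom c)) = 0 := by
        have := congr($e4 (a'.appTop.hom c))
        refine this.symm.trans ?_
        change (i ⁻¹ᵁ T.basicOpen g).topIso.hom.hom ((i ∣_ T.basicOpen g).appTop.hom (a'.appTop.hom c)) = 0
        rw [e3, map_zero]
      have e6 : (RingHom.ker π).map (algebraMap Γ(T, ⊤) Γ(T, T.basicOpen g)) =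
          RingHom.ker (i.app (T.basicOpen g)).hom := by
        have h1 := i.ker.map_ideal_basicOpen ⟨⊤, isAffineOpen_top T⟩ g
        rw [Scheme.Hom.ker_apply, Scheme.Hom.ker_apply] at h1
        exact h1
      rw [e6]
      exact e5
  obtain ⟨s, hs1, hs2⟩ := Groth.Agent.Lib.T2H3.GlueSection.exists_section π φ ε hεφ hπ hK hN θ
    husurj hθφ hkerθ ε₀ hε₀θ G hG hlocalg
  obtain ⟨a', ha'⟩ := exists_hom_appTop (T := T) (Z := Z) (CommRingCat.ofHom s)
  refine ⟨a' ≫ ζ, ?_, ?_⟩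
  · apply ext_of_isAffine
    rw [Category.assoc, Scheme.Hom.comp_appTop, ha']
    ext a
    exact hs1 a
  · have h1 : i ≫ a' = κ := by
      apply ext_of_isAffine
      rw [Scheme.Hom.comp_appTop, ha']
      ext c
      exact hs2 c
    rw [← Category.assoc, h1, hκζ]

end Groth.Agent.Lib.T2H3.FOGraph
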