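import Mathlib
import Groth.Prelude.Def_Omega4
import Groth.Prelude.Def_FlatMod2
import Groth.Agent.Lib.LeadNonsing
import Groth.Agent.Lib.LeadConorm
import Groth.Agent.Lib.Helper20StalkExact
import Groth.Agent.S1488

/-!
# Nonsingular closed subvarieties of a nonsingular variety (lead)

Hartshorne II.8.17: for `Y ⊆ X` closed irreducible in a nonsingular variety over a perfect field,
`Y` is nonsingular iff `Ω_Y` is locally free and the conormal sequence is left exact; then the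
conormal sheaf is locally free of rank the codimension.
-/

set_option autoImplicit false
set_option maxHeartbeats 400000
set_option linter.style.haveILetI false
set_option linter.unusedSectionVars false
set_option linter.unusedVariables false

universe u

open CategoryTheory CategoryTheory.Limits AlgebraicGeometry TopologicalSpace Opposite
open KaehlerDifferential TensorProduct

namespace Groth.Agent.Lib.LeadNonsing

open Groth.Agent.Helper18OmLS Groth.Agent.Lib.Helper2.LocFree Groth.Agent.Lib.Helper20.PullbackAff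
  Groth.Agent.Lib.Helper20.Thickening Groth.Agent.Lib.Helper20.LocFree
  Groth.Agent.Helper13PullbackUnit

/-- a finite type formally smooth algebra over a field has regular local rings. -/
theorem isRegularLocalRing_of_formallySmooth {A₀ R : Type u} [CommRing A₀] (hA₀ : IsField A₀)
    [CommRing R] [Algebra A₀ R] [Algebra.FiniteType A₀ R] [Algebra.FormallySmooth A₀ R]
    (q : Ideal R) [q.IsPrime] : IsRegularLocalRing (Localization.AtPrime q) := by
  letI : Field A₀ := hA₀.toField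
  haveI : Algebra.FinitePresentation A₀ R :=
    Algebra.FinitePresentation.of_finiteType.mp inferInstance
  haveI : Algebra.FormallySmooth R (Localization.AtPrime q) :=
    Algebra.FormallySmooth.of_isLocalization q.primeCompl
  haveI : Algebra.IsSmoothAt A₀ q := Algebra.FormallySmooth.comp A₀ R (Localization.AtPrime q)
  exact Groth.Agent.Lib.Helper6.SmReg.isRegularLocalRing_of_isSmoothAt (R := A₀) q

/-- the local ring of a scheme at a point of an affine open is regular if the localisation of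
the coordinate ring is. -/
theorem isRegularLocalRing_stalk_of_localization {X : Scheme.{u}} {W : X.Opens}
    (hW : IsAffineOpen W) (x : X) (hxW : x ∈ W)
    (h : IsRegularLocalRing (Localization.AtPrime (hW.primeIdealOf ⟨x, hxW⟩).asIdeal)) :
    IsRegularLocalRing (X.presheaf.stalk x) := by
  letI := TopCat.Presheaf.algebra_section_stalk X.presheaf ⟨x, hxW⟩
  haveI := hW.isLocalization_stalk ⟨x, hxW⟩
  exact IsRegularLocalRing.of_ringEquiv (IsLocalization.algEquiv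
    (hW.primeIdealOf ⟨x, hxW⟩).asIdeal.primeCompl
    (Localization.AtPrime (hW.primeIdealOf ⟨x, hxW⟩).asIdeal) (X.presheaf.stalk x)).toRingEquiv

section chart

variable {X' X Y : Scheme.{u}} (j : X' ⟶ X) [IsImmersion j] [QuasiCompact j] (f : X ⟶ Y)
    (Ω' : X.Modules) (d : OmegaSh.Der f Ω') (hd : OmegaSh.IsUniversal d)
    (φ : Omega.conormal j ⟶ (Scheme.Modules.pullback j).obj Ω') (hφ : OmegaSh.IsConormalDiff j d φ)

include hd hφ in
/-- **Converse chart computation**: if the conormal map is injective on the chart, the ambient chart is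
formally smooth and the differentials of the subscheme chart are projective, then the subscheme
chart is formally smooth. -/
theorem chart_converse {V : Y.Opens} (hV : IsAffineOpen V) {U : X.Opens} (hU : IsAffineOpen U)
    (hUV : U ≤ f ⁻¹ᵁ V) (hUj : U ≤ j.coborderRange)
    (hTV : j ⁻¹ᵁ U ≤ (j ≫ f) ⁻¹ᵁ V)
    (hinj : Function.Injective (φ.app (j ⁻¹ᵁ U)))
    (hfs : (f.appLE V U hUV).hom.FormallySmooth)
    (hproj : letI := ((j ≫ f).appLE V (j ⁻¹ᵁ U) hTV).hom.toAlgebra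
      Module.Projective Γ(X', j ⁻¹ᵁ U) Ω[Γ(X', j ⁻¹ᵁ U)⁄Γ(Y, V)]) :
    ((j ≫ f).appLE V (j ⁻¹ᵁ U) hTV).hom.FormallySmooth := by
  haveI := isQuasicoherent_of_isUniversal f d hd
  have hT : IsAffineOpen (j ⁻¹ᵁ U) :=
    Groth.Agent.Lib.Helper20.ConormalStalk.isAffineOpen_preimage j hU hUj
  have hTU : j ⁻¹ᵁ U ≤ j ⁻¹ᵁ U := le_refl _
  letI algAB : Algebra Γ(Y, V) Γ(X, U) := (f.appLE V U hUV).hom.toAlgebra
  letI algBR : Algebra Γ(X, U) Γ(X', j ⁻¹ᵁ U) := (j.appLE U (j ⁻¹ᵁ U) hTU).hom.toAlgebra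
  letI algAR : Algebra Γ(Y, V) Γ(X', j ⁻¹ᵁ U) := ((j ≫ f).appLE V (j ⁻¹ᵁ U) hTV).hom.toAlgebra
  haveI : IsScalarTower Γ(Y, V) Γ(X, U) Γ(X', j ⁻¹ᵁ U) := by
    refine IsScalarTower.of_algebraMap_eq fun r => ?_
    have h1 : f.appLE V U hUV ≫ j.appLE U (j ⁻¹ᵁ U) hTU = (j ≫ f).appLE V (j ⁻¹ᵁ U) hTV :=
      Scheme.Hom.appLE_comp_appLE _ _ _ _ _ _ _
    exact congr($h1.symm r)
  haveI : Algebra.FormallySmooth Γ(Y, V) Γ(X, U) := hfs
  haveI : Module.Projective Γ(X', j ⁻¹ᵁ U) Ω[Γ(X', j ⁻¹ᵁ U)⁄Γ(Y, V)] := hproj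
  have hBR : Function.Surjective (algebraMap Γ(X, U) Γ(X', j ⁻¹ᵁ U)) := by
    intro b
    obtain ⟨a, ha⟩ := Groth.Agent.Lib.Helper20.ConormalStalk.app_surjective j hU hUj b
    refine ⟨a, ?_⟩
    rw [← ha]
    change (j.appLE U (j ⁻¹ᵁ U) hTU) a = _
    rw [← Scheme.Hom.app_eq_appLE]
  have hkerI : ∀ b : Γ(X, U), b ∈ RingHom.ker (algebraMap Γ(X, U) Γ(X', j ⁻¹ᵁ U)) ↔
      j.app U b = 0 := by
    intro b
    rw [RingHom.mem_ker]
    change (j.appLE U (j ⁻¹ᵁ U) hTU) b = 0 ↔ _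
    rw [← Scheme.Hom.app_eq_appLE]
  show Algebra.FormallySmooth Γ(Y, V) Γ(X', j ⁻¹ᵁ U)
  refine ⟨inferInstance,
    (Algebra.FormallySmooth.kerCotangentToTensor_injective_iff hBR).mp ?_⟩
  rw [injective_iff_map_eq_zero]
  intro x hx
  obtain ⟨⟨a, ha⟩, rfl⟩ := Ideal.toCotangent_surjective _ x
  rw [KaehlerDifferential.kerCotangentToTensor_toCotangent] at hx
  obtain ⟨s, hs⟩ := exists_idealSect_eq j U a ((hkerI a).mp ha)
  obtain ⟨e', he'⟩ := exists_pullback_equiv j Ω' hTU hU hT rfl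
  have h00 : (sectionsEquiv f d hd hU hV hUV rfl).symm (D Γ(Y, V) Γ(X, U) a) = d.app U a := by
    rw [LinearEquiv.symm_apply_eq, sectionsEquiv_d]
  have h1 : (1 : Γ(X', j ⁻¹ᵁ U)) ⊗ₜ[Γ(X, U)] (d.app U a) = 0 := by
    have h0 := congrArg (LinearMap.lTensor Γ(X', j ⁻¹ᵁ U)
      (sectionsEquiv f d hd hU hV hUV rfl).symm.toLinearMap) hx
    rw [LinearMap.lTensor_tmul, map_zero, LinearEquiv.coe_coe, h00] at h0
    exact h0
  have h2 : φ.app (j ⁻¹ᵁ U) (unitSec j (ClSub.idealMod j.ker) hTU s) = 0 := by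
    rw [phi_unitSec j d φ hφ hTU s, hs]
    have h := he' 1 (d.app U a)
    rw [one_smul] at h
    rw [← h, h1, map_zero]
  have h3 : unitSec j (ClSub.idealMod j.ker) hTU s = 0 := hinj (h2.trans (map_zero _).symm)
  obtain ⟨e, he⟩ := exists_pullback_equiv j (ClSub.idealMod j.ker) hTU hU hT rfl
  have h4 : (1 : Γ(X', j ⁻¹ᵁ U)) ⊗ₜ[Γ(X, U)] s = 0 := by
    apply e.injective
    rw [he, one_smul, h3, map_zero]
  have h5 := mem_smul_top_of_one_tmul_eq_zero' hBR s h4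
  have h6 : ∀ t ∈ (RingHom.ker (algebraMap Γ(X, U) Γ(X', j ⁻¹ᵁ U)) • ⊤ :
      Submodule Γ(X, U) Γ(ClSub.idealMod j.ker, U)),
      OmegaSh.idealSect j.ker U t ∈ RingHom.ker (algebraMap Γ(X, U) Γ(X', j ⁻¹ᵁ U)) ^ 2 := by
    intro t ht
    refine Submodule.smul_induction_on ht (fun b hb t' _ => ?_) (fun t₁ t₂ h₁ h₂ => ?_)
    · rw [idealSect_smul, pow_two]
      exact Ideal.mul_mem_mul hb ((hkerI _).mpr (app_idealSect_eq_zero j U t'))
    · rw [map_add]
      exact Ideal.add_mem _ h₁ h₂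
  have h7 := h6 s h5
  rw [hs] at h7
  exact (Ideal.toCotangent_eq_zero _ ⟨a, ha⟩).mpr h7

end chart

section main

variable (k : Type u) [Field k] (X : Scheme.{u}) [X.Over (Spec (CommRingCat.of k))]
  [LocallyOfFiniteType (X ↘ Spec (CommRingCat.of k))]
  (Y : Scheme.{u}) (i : Y ⟶ X) [IsClosedImmersion i]
  (ΩX : X.Modules) (dX : OmegaSh.Der (X ↘ (Spec (CommRingCat.of k))) ΩX)
  (hX : OmegaSh.IsUniversal dX)
  (ΩY : Y.Modules) (dY : OmegaSh.Der (i ≫ (X ↘ (Spec (CommRingCat.of k)))) ΩY)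
  (hY : OmegaSh.IsUniversal dY)
  (φ : Omega.conormal i ⟶ (Scheme.Modules.pullback i).obj ΩX)
  (hφ : OmegaSh.IsConormalDiff i dX φ)

include hX hY hφ in
/-- (⇐) of II.8.17 at a point. -/
theorem regular_stalk_of_mono [Smooth (X ↘ Spec (CommRingCat.of k))]
    (hlf : FlatMod.IsFinLocFree ΩY) [Mono φ] (y : Y) :
    IsRegularLocalRing (Y.presheaf.stalk y) := by
  obtain ⟨U', n', hyU', ⟨e⟩⟩ := hlf y
  obtain ⟨O'set, hO'open, hO'eq⟩ := i.isEmbedding.isInducing.isOpen_iff.mp U'.isOpen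
  let O' : X.Opens := ⟨O'set, hO'open⟩
  have hO' : ∀ z : Y, i z ∈ O' ↔ z ∈ U' := by
    intro z
    have : z ∈ (i ⁻¹' O'set) ↔ z ∈ (U' : Set Y) := by rw [hO'eq]
    exact this
  obtain ⟨U, hU, hyU, hUO'⟩ := exists_isAffineOpen_mem_and_subset (x := i y) (U := O')
    ((hO' y).mpr hyU')
  have hUj : U ≤ i.coborderRange := by
    intro z _
    show z ∈ coborder (Set.range i)
    rw [IsClosed.coborder_eq i.isClosedEmbedding.isClosed_range]
    trivial
  have hT : IsAffineOpen (i ⁻¹ᵁ U) :=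
    Groth.Agent.Lib.Helper20.ConormalStalk.isAffineOpen_preimage i hU hUj
  have hTU' : i ⁻¹ᵁ U ≤ U' := fun z hz => (hO' z).mp (hUO' hz)
  have hV : IsAffineOpen (⊤ : (Spec (CommRingCat.of k)).Opens) := isAffineOpen_top _
  have hUV : U ≤ (X ↘ Spec (CommRingCat.of k)) ⁻¹ᵁ ⊤ := le_top
  have hTV : i ⁻¹ᵁ U ≤ (i ≫ (X ↘ Spec (CommRingCat.of k))) ⁻¹ᵁ ⊤ := le_top
  have hfs : ((X ↘ Spec (CommRingCat.of k)).appLE ⊤ U hUV).hom.FormallySmooth :=
    (HasRingHomProperty.appLE (P := @Smooth) (X ↘ Spec (CommRingCat.of k)) inferInstance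
      ⟨⊤, hV⟩ ⟨U, hU⟩ hUV).formallySmooth
  haveI := isQuasicoherent_of_isUniversal (i ≫ (X ↘ Spec (CommRingCat.of k))) dY hY
  obtain ⟨b⟩ := Groth.Agent.Lib.Helper26.ModRank.nonempty_basis_of_restrict_iso ΩY e hT hTU'
  letI algAR : Algebra Γ(Spec (CommRingCat.of k), ⊤) Γ(Y, i ⁻¹ᵁ U) :=
    ((i ≫ (X ↘ Spec (CommRingCat.of k))).appLE ⊤ (i ⁻¹ᵁ U) hTV).hom.toAlgebra
  let eq : (ΓUF hT).obj ΩY ≃ₗ[Γ(Y, i ⁻¹ᵁ U)] Ω[Γ(Y, i ⁻¹ᵁ U)⁄Γ(Spec (CommRingCat.of k), ⊤)] :=
    (ΓUFIso (i ≫ (X ↘ Spec (CommRingCat.of k))) dY hY hT hV hTV rfl).toLinearEquiv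
  have hproj : Module.Projective Γ(Y, i ⁻¹ᵁ U)
      Ω[Γ(Y, i ⁻¹ᵁ U)⁄Γ(Spec (CommRingCat.of k), ⊤)] := Module.Projective.of_basis (b.map eq)
  have hinj := Groth.Agent.Lib.Helper20.StalkExact.injective_app_of_mono φ (i ⁻¹ᵁ U)
  have hfsR := chart_converse i (X ↘ Spec (CommRingCat.of k)) ΩX dX hX φ hφ hV hU hUV hUj hTV
    hinj hfs hproj
  haveI : Algebra.FormallySmooth Γ(Spec (CommRingCat.of k), ⊤) Γ(Y, i ⁻¹ᵁ U) := hfsR
  haveI : Algebra.FiniteType Γ(Spec (CommRingCat.of k), ⊤) Γ(Y, i ⁻¹ᵁ U) :=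
    (i ≫ (X ↘ Spec (CommRingCat.of k))).finiteType_appLE hV hT hTV
  have hfld : IsField Γ(Spec (CommRingCat.of k), ⊤) :=
    (Scheme.ΓSpecIso (CommRingCat.of k)).commRingCatIsoToRingEquiv.toMulEquiv.isField
      (Field.toIsField k)
  exact isRegularLocalRing_stalk_of_localization hT y hyU
    (isRegularLocalRing_of_formallySmooth hfld _)

include hX hY hφ in
theorem main_S12423 [PerfectField k] [IrreducibleSpace X] [IrreducibleSpace Y] (n q : ℕ)
    (hreg : ∀ x : ↥X, IsRegularLocalRing ↑(X.presheaf.stalk x))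
    (hn : topologicalKrullDim ↥X = (n : WithBot ℕ∞))
    (hq : topologicalKrullDim ↥Y = (q : WithBot ℕ∞)) :
    ((∀ y : ↥Y, IsRegularLocalRing ↑(Y.presheaf.stalk y)) ↔
      (FlatMod.IsFinLocFree ΩY ∧ Mono φ)) ∧
      ((∀ y : ↥Y, IsRegularLocalRing ↑(Y.presheaf.stalk y)) →
        FlatMod.IsFinLocFreeOfRank (n - q) (Omega.conormal i)) := by
  haveI hsmX : Smooth (X ↘ Spec (CommRingCat.of k)) := smooth_of_regular k X hreg
  letI ovY : Y.Over (Spec (CommRingCat.of k)) := ⟨i ≫ (X ↘ Spec (CommRingCat.of k))⟩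
  haveI : LocallyOfFiniteType (Y ↘ Spec (CommRingCat.of k)) :=
    (inferInstance : LocallyOfFiniteType (i ≫ (X ↘ Spec (CommRingCat.of k))))
  have key1 : (∀ y : ↥Y, IsRegularLocalRing ↑(Y.presheaf.stalk y)) →
      Smooth (i ≫ (X ↘ Spec (CommRingCat.of k))) := fun h => smooth_of_regular k Y h
  haveI : Subsingleton ↥(Spec (CommRingCat.of k)) :=
    (inferInstance : Subsingleton (PrimeSpectrum k))
  refine ⟨⟨fun h => ?_, fun h => ?_⟩, fun h => ?_⟩
  · haveI := key1 h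
    refine ⟨fun y => ?_, ?_⟩
    · obtain ⟨U, m, hyU, hiso, -⟩ := Groth.Agent.Lib.LeadOmSm.main_S5019
        (i ≫ (X ↘ Spec (CommRingCat.of k))) ΩY dY hY y
      exact ⟨U, m, hyU, hiso⟩
    · exact Groth.Agent.Lib.LeadOmSm.main_S5020 i (X ↘ Spec (CommRingCat.of k)) ΩX dX hX φ hφ
        ((Groth.Agent.S1488.result (i ≫ (X ↘ Spec (CommRingCat.of k)))).mp inferInstance).2
  · haveI := h.2
    exact fun y => regular_stalk_of_mono k X Y i ΩX dX hX ΩY dY hY φ hφ h.1 y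
  · haveI := key1 h
    intro y
    obtain ⟨U, m, hyU, hiso, hdim⟩ := Groth.Agent.Lib.LeadConorm.main_S5021
      (X ↘ Spec (CommRingCat.of k)) i y
    have h1 : FlatMor.fibreDimAt (X ↘ Spec (CommRingCat.of k)) (i y) = (n : WithBot ℕ∞) := by
      rw [fibreDimAt_eq_localDim_of_subsingleton, localDim_eq_of_irreducible k X (i y), hn]
    have h2 : FlatMor.fibreDimAt (i ≫ (X ↘ Spec (CommRingCat.of k))) y = (q : WithBot ℕ∞) := by
      rw [fibreDimAt_eq_localDim_of_subsingleton]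
      exact (localDim_eq_of_irreducible k Y y).trans hq
    rw [h1, h2] at hdim
    have h3 : n = q + m := by exact_mod_cast hdim
    have h4 : m = n - q := by omega
    subst h4
    exact ⟨U, hyU, hiso⟩

end main

end Groth.Agent.Lib.LeadNonsing
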