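import Mathlib

/-!
# Coefficientwise functionals on polynomial rings over augmented `k`-algebras (for S12264/S12268)

For a `k`-algebra `C` and a `k`-linear functional `l : C → k`, `cf l` applies `l` to every
coefficient of a polynomial.  It is linear over `k[x]`.  For an ideal `J` killed by the
augmentation ideal, multiplication on `J·C[x]` factors through the reduction `C[x] → k[x]`.
-/

set_option autoImplicit false
set_option maxHeartbeats 400000
set_option linter.style.haveILetI false
set_option linter.unusedSectionVars false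
set_option linter.unusedVariables false

universe u

namespace Groth.Agent.Lib.LeadObs

open MvPolynomial

/-! ### `mapRange` along ring homomorphisms -/

section mr

variable {σ : Type u} {R R' R'' : Type u} [CommRing R] [CommRing R'] [CommRing R'']

/-- apply a ring homomorphism to every entry. -/
noncomputable def mr (φ : R →+* R') (Q : σ →₀ R) : σ →₀ R' := Finsupp.mapRange φ (map_zero φ) Q

theorem mr_apply (φ : R →+* R') (Q : σ →₀ R) (s : σ) : mr φ Q s = φ (Q s) :=
  Finsupp.mapRange_apply

theorem mr_zero (φ : R →+* R') : mr φ (0 : σ →₀ R) = 0 := by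
  ext s
  simp [mr_apply]

theorem mr_add (φ : R →+* R') (Q Q' : σ →₀ R) : mr φ (Q + Q') = mr φ Q + mr φ Q' := by
  ext s
  rw [mr_apply, Finsupp.add_apply, Finsupp.add_apply, map_add, mr_apply, mr_apply]

theorem mr_sub (φ : R →+* R') (Q Q' : σ →₀ R) : mr φ (Q - Q') = mr φ Q - mr φ Q' := by
  ext s
  rw [mr_apply, Finsupp.sub_apply, Finsupp.sub_apply, map_sub, mr_apply, mr_apply]

theorem mr_smul (φ : R →+* R') (a : R) (Q : σ →₀ R) : mr φ (a • Q) = φ a • mr φ Q := by
  ext s
  rw [mr_apply, Finsupp.smul_apply, Finsupp.smul_apply, smul_eq_mul, smul_eq_mul, map_mul,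
    mr_apply]

theorem mr_mr (φ : R →+* R') (ψ : R' →+* R'') (Q : σ →₀ R) :
    mr ψ (mr φ Q) = mr (ψ.comp φ) Q := by
  ext s
  rw [mr_apply, mr_apply, mr_apply, RingHom.comp_apply]

theorem mr_single (φ : R →+* R') (s : σ) (a : R) :
    mr φ (Finsupp.single s a) = Finsupp.single s (φ a) := by
  unfold mr
  exact Finsupp.mapRange_single

theorem mr_surjective (φ : R →+* R') (hφ : Function.Surjective φ) :
    Function.Surjective (mr (σ := σ) φ) :=
  Finsupp.mapRange_surjective φ (map_zero φ) hφ

theorem mr_eq_zero_iff (φ : R →+* R') (Q : σ →₀ R) : mr φ Q = 0 ↔ ∀ s, φ (Q s) = 0 := by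
  constructor
  · intro h s
    rw [← mr_apply, h, Finsupp.coe_zero, Pi.zero_apply]
  · intro h
    ext s
    rw [mr_apply, h, Finsupp.coe_zero, Pi.zero_apply]

theorem mr_congr {φ ψ : R →+* R'} (h : ∀ a, φ a = ψ a) (Q : σ →₀ R) : mr φ Q = mr ψ Q := by
  ext s
  rw [mr_apply, mr_apply, h]

theorem mr_id (Q : σ →₀ R) : mr (RingHom.id R) Q = Q := by
  ext s
  rw [mr_apply, RingHom.id_apply]

/-- ring homomorphisms commute with linear combinations. -/
theorem lc_mr (φ : R →+* R') (F : σ → R) (Q : σ →₀ R) :
    φ (Finsupp.linearCombination R F Q) =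
      Finsupp.linearCombination R' (fun s => φ (F s)) (mr φ Q) := by
  induction Q using Finsupp.induction_linear with
  | zero => rw [map_zero, map_zero, mr_zero, map_zero]
  | add x y hx hy => rw [map_add, map_add, hx, hy, mr_add, map_add]
  | single s a =>
    rw [mr_single, Finsupp.linearCombination_single, Finsupp.linearCombination_single,
      smul_eq_mul, smul_eq_mul, map_mul]

theorem lc_congr {F F' : σ → R} (h : ∀ s, F s = F' s) (Q : σ →₀ R) :
    Finsupp.linearCombination R F Q = Finsupp.linearCombination R F' Q := by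
  rw [funext h]

/-- a linear combination of elements of an ideal is in the ideal. -/
theorem lc_mem_left (I : Ideal R) (F : σ → R) (Q : σ →₀ R) (hQ : ∀ s, Q s ∈ I) :
    Finsupp.linearCombination R F Q ∈ I := by
  rw [Finsupp.linearCombination_apply]
  unfold Finsupp.sum
  refine Ideal.sum_mem _ (fun s _ => ?_)
  change Q s * F s ∈ I
  exact Ideal.mul_mem_right _ _ (hQ s)

theorem lc_mem_right (I : Ideal R) (F : σ → R) (Q : σ →₀ R) (hF : ∀ s, F s ∈ I) :
    Finsupp.linearCombination R F Q ∈ I := by
  rw [Finsupp.linearCombination_apply]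
  unfold Finsupp.sum
  refine Ideal.sum_mem _ (fun s _ => ?_)
  change Q s * F s ∈ I
  exact Ideal.mul_mem_left _ _ (hF s)

theorem lc_sub_fun (F F' : σ → R) (Q : σ →₀ R) :
    Finsupp.linearCombination R (fun s => F s - F' s) Q =
      Finsupp.linearCombination R F Q - Finsupp.linearCombination R F' Q := by
  induction Q using Finsupp.induction_linear with
  | zero => rw [map_zero, map_zero, map_zero, sub_zero]
  | add x y hx hy => rw [map_add, map_add, map_add, hx, hy]; abel
  | single s a =>
    rw [Finsupp.linearCombination_single, Finsupp.linearCombination_single,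
      Finsupp.linearCombination_single, smul_sub]

end mr

/-! ### coefficientwise functionals -/

section cf

variable {k : Type u} [Field k] {ι : Type u} {A : Type u} [CommRing A] [Algebra k A]

/-- apply a `k`-linear functional to every coefficient. -/
noncomputable def cfFun (l : A →ₗ[k] k) (z : MvPolynomial ι A) : MvPolynomial ι k :=
  ∑ m ∈ z.support, monomial m (l (coeff m z))

theorem coeff_cfFun (l : A →ₗ[k] k) (z : MvPolynomial ι A) (m : ι →₀ ℕ) :
    coeff m (cfFun l z) = l (coeff m z) := by
  classical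
  unfold cfFun
  rw [coeff_sum]
  simp only [coeff_monomial]
  rw [Finset.sum_ite_eq']
  split_ifs with h
  · rfl
  · rw [MvPolynomial.notMem_support_iff.mp h, map_zero]

/-- coefficientwise functional, as a `k`-linear map. -/
noncomputable def cf (l : A →ₗ[k] k) : MvPolynomial ι A →ₗ[k] MvPolynomial ι k where
  toFun := cfFun l
  map_add' x y := by
    ext m
    rw [coeff_cfFun, coeff_add, coeff_add, map_add, coeff_cfFun, coeff_cfFun]
  map_smul' c x := by
    ext m
    rw [coeff_cfFun, coeff_smul, RingHom.id_apply, coeff_smul, map_smul, coeff_cfFun]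

theorem coeff_cf (l : A →ₗ[k] k) (z : MvPolynomial ι A) (m : ι →₀ ℕ) :
    coeff m (cf l z) = l (coeff m z) := coeff_cfFun l z m

theorem cf_add_fun (l l' : A →ₗ[k] k) (z : MvPolynomial ι A) :
    cf (l + l') z = cf l z + cf l' z := by
  ext m
  rw [coeff_cf, coeff_add, coeff_cf, coeff_cf, LinearMap.add_apply]

theorem cf_smul_fun (c : k) (l : A →ₗ[k] k) (z : MvPolynomial ι A) :
    cf (c • l) z = c • cf l z := by
  ext m
  rw [coeff_cf, coeff_smul, coeff_cf, LinearMap.smul_apply]

theorem cf_C (l : A →ₗ[k] k) (c : A) : cf l (C c : MvPolynomial ι A) = C (l c) := by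
  classical
  ext m
  rw [coeff_cf, coeff_C, coeff_C]
  split_ifs
  · rfl
  · exact map_zero l

/-- `cf l` is linear over the polynomial ring of `k`. -/
theorem cf_up_mul (l : A →ₗ[k] k) (g : MvPolynomial ι k) (z : MvPolynomial ι A) :
    cf l (map (algebraMap k A) g * z) = g * cf l z := by
  classical
  ext m
  rw [coeff_cf, coeff_mul, coeff_mul, map_sum]
  refine Finset.sum_congr rfl (fun x _ => ?_)
  rw [coeff_map, coeff_cf, ← Algebra.smul_def, map_smul, smul_eq_mul]

theorem cf_map {A'' : Type u} [CommRing A''] [Algebra k A''] (φ : A →ₐ[k] A'')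
    (l : A'' →ₗ[k] k) (z : MvPolynomial ι A) :
    cf l (map (φ : A →+* A'') z) = cf (l ∘ₗ φ.toLinearMap) z := by
  ext m
  rw [coeff_cf, coeff_map, coeff_cf]
  rfl

variable {r : A →+* k} {J : Ideal A}

theorem mul_eq_of_mem (hr : ∀ c, r (algebraMap k A c) = c)
    (hJ : ∀ a t, r a = 0 → t ∈ J → a * t = 0) (a t : A) (ht : t ∈ J) :
    a * t = algebraMap k A (r a) * t := by
  have h : r (a - algebraMap k A (r a)) = 0 := by rw [map_sub, hr, sub_self]
  have h2 := hJ _ t h ht
  rw [sub_mul, sub_eq_zero] at h2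
  exact h2

theorem mul_eq_up_red_mul (hr : ∀ c, r (algebraMap k A c) = c)
    (hJ : ∀ a t, r a = 0 → t ∈ J → a * t = 0) (w z : MvPolynomial ι A)
    (hz : z ∈ Ideal.map (C : A →+* MvPolynomial ι A) J) :
    w * z = map (algebraMap k A) (map r w) * z := by
  classical
  ext m
  rw [coeff_mul, coeff_mul]
  refine Finset.sum_congr rfl (fun x _ => ?_)
  rw [coeff_map, coeff_map]
  exact mul_eq_of_mem hr hJ _ _ (mem_map_C_iff.mp hz x.2)

theorem cf_mul_of_mem (hr : ∀ c, r (algebraMap k A c) = c)
    (hJ : ∀ a t, r a = 0 → t ∈ J → a * t = 0) (l : A →ₗ[k] k) (w z : MvPolynomial ι A)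
    (hz : z ∈ Ideal.map (C : A →+* MvPolynomial ι A) J) :
    cf l (w * z) = map r w * cf l z := by
  rw [mul_eq_up_red_mul hr hJ w z hz, cf_up_mul]

theorem C_mul_eq_zero_of_mem (hJ : ∀ a t, r a = 0 → t ∈ J → a * t = 0) (a : A) (ha : r a = 0)
    (z : MvPolynomial ι A) (hz : z ∈ Ideal.map (C : A →+* MvPolynomial ι A) J) :
    C a * z = 0 := by
  ext m
  rw [coeff_C_mul, coeff_zero]
  exact hJ a _ ha (mem_map_C_iff.mp hz m)

theorem cf_C_mul (hr : ∀ c, r (algebraMap k A c) = c)
    (hJ : ∀ a t, r a = 0 → t ∈ J → a * t = 0) (l : A →ₗ[k] k) (t : A) (ht : t ∈ J)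
    (z : MvPolynomial ι A) : cf l (C t * z) = l t • map r z := by
  have hCt : (C t : MvPolynomial ι A) ∈ Ideal.map (C : A →+* MvPolynomial ι A) J :=
    Ideal.mem_map_of_mem _ ht
  rw [mul_comm, cf_mul_of_mem hr hJ l z (C t) hCt, cf_C, mul_comm, ← smul_eq_C_mul]

theorem cf_congr (l l' : A →ₗ[k] k) (h : ∀ c ∈ J, l c = l' c) (z : MvPolynomial ι A)
    (hz : z ∈ Ideal.map (C : A →+* MvPolynomial ι A) J) : cf l z = cf l' z := by
  ext m
  rw [coeff_cf, coeff_cf]
  exact h _ (mem_map_C_iff.mp hz m)

end cf

/-! ### basis data of an ideal which is a finite dimensional vector space -/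

section bdata

variable (k : Type u) [Field k] {ι : Type u} {A : Type u} [CommRing A] [Algebra k A]

/-- a finite basis of the ideal `J` over `k` with coordinate functionals extended to `C`. -/
structure BData (J : Ideal A) (n : ℕ) where
  t : Fin n → A
  lam : Fin n → A →ₗ[k] k
  mem : ∀ j, t j ∈ J
  dec : ∀ c ∈ J, c = ∑ j, lam j c • t j
  dual : ∀ i j, lam i (t j) = if i = j then 1 else 0

variable {k}

theorem exists_bdata [Module.Finite k A] (J : Ideal A) : ∃ n, Nonempty (BData k J n) := by
  classical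
  obtain ⟨J', hJ'⟩ : ∃ J' : Submodule k A, J' = J.restrictScalars k := ⟨_, rfl⟩
  have hmem : ∀ c, c ∈ J' ↔ c ∈ J := fun c => by rw [hJ']; exact Submodule.restrictScalars_mem _ _ _
  obtain ⟨b, hb⟩ : ∃ b : Module.Basis (Fin (Module.finrank k J')) k J', b = Module.finBasis k J' :=
    ⟨_, rfl⟩
  choose lam hlam using fun j => LinearMap.exists_extend (b.coord j)
  have hlam' : ∀ j (c : J'), lam j (c : A) = b.repr c j := fun j c => by
    have := LinearMap.congr_fun (hlam j) c
    rw [LinearMap.comp_apply, Submodule.subtype_apply] at this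
    rw [this]
    rfl
  refine ⟨Module.finrank k J', ⟨{
    t := fun j => (b j : A)
    lam := lam
    mem := fun j => (hmem _).mp (b j).2
    dec := fun c hc => ?_
    dual := fun i j => ?_ }⟩⟩
  · have h1 := b.sum_repr ⟨c, (hmem c).mpr hc⟩
    have h2 := congrArg (Submodule.subtype J') h1
    rw [map_sum] at h2
    simp only [map_smul, Submodule.subtype_apply] at h2
    refine h2.symm.trans (Finset.sum_congr rfl (fun j _ => ?_))
    rw [hlam' j ⟨c, (hmem c).mpr hc⟩]
  · rw [hlam' i (b j), b.repr_self, Finsupp.single_apply]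
    by_cases h : i = j
    · rw [if_pos h, if_pos h.symm]
    · rw [if_neg h, if_neg (fun h' => h h'.symm)]

variable {J : Ideal A} {n : ℕ}

theorem BData.decomp (bd : BData k J n) (z : MvPolynomial ι A)
    (hz : z ∈ Ideal.map (C : A →+* MvPolynomial ι A) J) :
    z = ∑ j, C (bd.t j) * map (algebraMap k A) (cf (bd.lam j) z) := by
  ext m
  rw [coeff_sum]
  simp only [coeff_C_mul, coeff_map, coeff_cf]
  refine (bd.dec _ (mem_map_C_iff.mp hz m)).trans (Finset.sum_congr rfl fun j _ => ?_)
  rw [Algebra.smul_def, mul_comm]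

theorem BData.apply_eq (bd : BData k J n) (l : A →ₗ[k] k) (c : A) (hc : c ∈ J) :
    l c = ∑ j, l (bd.t j) * bd.lam j c := by
  conv_lhs => rw [bd.dec c hc]
  rw [map_sum]
  refine Finset.sum_congr rfl fun j _ => ?_
  rw [map_smul, smul_eq_mul, mul_comm]

/-- linear independence of the basis elements. -/
theorem BData.eq_zero_of_sum (bd : BData k J n) (x : Fin n → k)
    (h : ∑ j, x j • bd.t j = 0) : ∀ j, x j = 0 := by
  classical
  intro i
  have h1 := congrArg (bd.lam i) h
  rw [map_sum, map_zero] at h1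
  simp only [map_smul, bd.dual, smul_eq_mul, mul_ite, mul_one, mul_zero] at h1
  rw [Finset.sum_ite_eq] at h1
  simpa using h1

end bdata

end Groth.Agent.Lib.LeadObs
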