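import Mathlib
import Groth.Agent.Lib.LeadHullB
import Groth.Agent.Lib.LeadObsA

/-!
# Charts of ring-level deformations (for S12264/S12268)

A chart of a deformation `D` of `B₀ = k[x]/(f)` over an augmented `k`-algebra `A` with nilpotent
augmentation ideal is a surjection `τ : A[x] → D.E` lifting the presentation, with lifts `F s` of
the relations in its kernel.  By flatness, `ker τ = (F)`, relations among the `f s` lift to
relations among the `F s`, and relations among the `F s` which vanish modulo the augmentation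
ideal `m` lie in `m · Rel`.
-/

set_option autoImplicit false
set_option maxHeartbeats 400000
set_option linter.style.haveILetI false
set_option linter.unusedSectionVars false
set_option linter.unusedVariables false

universe u

namespace Groth.Agent.Lib.LeadObs

open MvPolynomial Groth.Agent.Lib.LeadHull Groth.Agent.Lib.LeadTrivDef

/-! ### generalities -/

section general

theorem mem_smul_of_proj {R M : Type*} [CommRing R] [AddCommGroup M] [Module R M]
    (pr : M →ₗ[R] M) (K : Submodule R M) (hK : ∀ y, pr y ∈ K) (hid : ∀ y ∈ K, pr y = y)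
    (𝔞 : Ideal R) {y : M} (hy : y ∈ K) (hy' : y ∈ 𝔞 • (⊤ : Submodule R M)) : y ∈ 𝔞 • K := by
  rw [← hid y hy]
  have h1 : pr y ∈ Submodule.map pr (𝔞 • (⊤ : Submodule R M)) := Submodule.mem_map_of_mem hy'
  rw [Submodule.map_smul''] at h1
  refine Submodule.smul_mono le_rfl ?_ h1
  rintro _ ⟨x, _, rfl⟩
  exact hK x

theorem mem_span_range_iff_lc {σ R : Type*} [CommRing R] (F : σ → R) (z : R) :
    z ∈ Ideal.span (Set.range F) ↔ ∃ Q : σ →₀ R, Finsupp.linearCombination R F Q = z := by
  change z ∈ Submodule.span R (Set.range F) ↔ _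
  rw [← Finsupp.range_linearCombination]
  exact LinearMap.mem_range

variable {ι σ A : Type u} [CommRing A]

theorem mem_smul_top_of_mem_map_C (𝔞 : Ideal A) (z : MvPolynomial ι A)
    (hz : z ∈ Ideal.map (C : A →+* MvPolynomial ι A) 𝔞) :
    z ∈ 𝔞 • (⊤ : Submodule A (MvPolynomial ι A)) := by
  rw [Ideal.smul_top_eq_map, MvPolynomial.algebraMap_eq]
  exact hz

theorem finsupp_mem_smul_top (𝔞 : Ideal A) (N : σ →₀ MvPolynomial ι A)
    (hN : ∀ s, N s ∈ Ideal.map (C : A →+* MvPolynomial ι A) 𝔞) :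
    N ∈ 𝔞 • (⊤ : Submodule A (σ →₀ MvPolynomial ι A)) := by
  have hsum := Finsupp.sum_single N
  rw [← hsum]
  unfold Finsupp.sum
  refine Submodule.sum_mem _ (fun s _ => ?_)
  have h1 := mem_smul_top_of_mem_map_C 𝔞 (N s) (hN s)
  have h2 : (Finsupp.lsingle s : MvPolynomial ι A →ₗ[A] σ →₀ MvPolynomial ι A) (N s) ∈
      Submodule.map (Finsupp.lsingle s : MvPolynomial ι A →ₗ[A] σ →₀ MvPolynomial ι A)
        (𝔞 • (⊤ : Submodule A (MvPolynomial ι A))) := Submodule.mem_map_of_mem h1
  rw [Submodule.map_smul''] at h2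
  exact Submodule.smul_mono le_rfl le_top h2

theorem map_map_of_comp {R S T : Type u} [CommRing R] [CommRing S] [CommRing T] (φ : R →+* S)
    (ψ : S →+* T) (χ : R →+* T) (h : ∀ a, ψ (φ a) = χ a) (z : MvPolynomial ι R) :
    map ψ (map φ z) = map χ z := by
  rw [map_map]
  have : ψ.comp φ = χ := RingHom.ext h
  rw [this]

theorem map_up_id {k : Type u} [Field k] [Algebra k A] {r : A →+* k}
    (hr : ∀ c, r (algebraMap k A c) = c) (g : MvPolynomial ι k) :
    map r (map (algebraMap k A) g) = g := by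
  rw [map_map]
  have : r.comp (algebraMap k A) = RingHom.id k := RingHom.ext hr
  rw [this, map_id]

theorem finsupp_smul_eq_C_smul (a : A) (N : σ →₀ MvPolynomial ι A) :
    a • N = (C a : MvPolynomial ι A) • N := by
  ext s : 1
  rw [Finsupp.smul_apply, Finsupp.smul_apply, smul_eq_C_mul, smul_eq_mul]

end general

variable {k B₀ : Type u} [Field k] [CommRing B₀] [Algebra k B₀] {ι σ : Type u}
  [Algebra (MvPolynomial ι k) B₀] [IsScalarTower k (MvPolynomial ι k) B₀]

variable (B₀) in
/-- the presentation hypotheses: `k[x] → B₀` is surjective with kernel generated by `f`. -/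
structure Pres (f : σ → MvPolynomial ι k) : Prop where
  surj : Function.Surjective (algebraMap (MvPolynomial ι k) B₀)
  ker : ∀ z, algebraMap (MvPolynomial ι k) B₀ z = 0 → z ∈ Ideal.span (Set.range f)
  hf : ∀ s, algebraMap (MvPolynomial ι k) B₀ (f s) = 0

theorem algebraMap_C (c : k) :
    algebraMap (MvPolynomial ι k) B₀ (C c) = algebraMap k B₀ c := by
  rw [← MvPolynomial.algebraMap_eq]
  exact (IsScalarTower.algebraMap_apply k (MvPolynomial ι k) B₀ c).symm

variable {A : Type u} [CommRing A] [Algebra k A] {r : A →+* k}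

variable (ι) in
/-- a lift of the presentation map `k[x] → B₀` to a deformation. -/
structure ChartMap (D : DefRing r (algebraMap k B₀)) where
  τ : MvPolynomial ι A →+* D.E
  τ_C : ∀ c, τ (C c) = D.γ c
  π_τ : ∀ z, D.π (τ z) = algebraMap (MvPolynomial ι k) B₀ (map r z)

/-- a chart: a lift of the presentation together with lifts of the relations. -/
structure Chart (f : σ → MvPolynomial ι k) (D : DefRing r (algebraMap k B₀)) extends
    ChartMap ι D where
  F : σ → MvPolynomial ι A
  τ_F : ∀ s, τ (F s) = 0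
  red_F : ∀ s, map r (F s) = f s

theorem exists_chartMap (D : DefRing r (algebraMap k B₀)) : Nonempty (ChartMap ι D) := by
  choose e he using fun i : ι => D.π_surj (algebraMap (MvPolynomial ι k) B₀ (X i))
  refine ⟨{ τ := eval₂Hom D.γ e, τ_C := fun c => eval₂Hom_C _ _ c, π_τ := fun z => ?_ }⟩
  have h : D.π.comp (eval₂Hom D.γ e) = (algebraMap (MvPolynomial ι k) B₀).comp (map r) := by
    apply MvPolynomial.ringHom_ext
    · intro c
      rw [RingHom.comp_apply, eval₂Hom_C, D.π_γ, RingHom.comp_apply, map_C, algebraMap_C]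
    · intro i
      rw [RingHom.comp_apply, eval₂Hom_X', he, RingHom.comp_apply, map_X]
  exact RingHom.congr_fun h z

section chartMap

variable (hr : ∀ c, r (algebraMap k A c) = c) (hnil : IsNilpotent (RingHom.ker r))
  (hs : Function.Surjective (algebraMap (MvPolynomial ι k) B₀))
  {D : DefRing r (algebraMap k B₀)} (cm : ChartMap ι D)

include hr hnil hs in
/-- **a chart map is surjective.** -/
theorem ChartMap.surjective : Function.Surjective cm.τ := by
  letI : Algebra A D.E := D.γ.toAlgebra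
  obtain ⟨τl, hτl⟩ : ∃ τl : MvPolynomial ι A →ₗ[A] D.E, ∀ z, τl z = cm.τ z := by
    refine ⟨{ toFun := cm.τ, map_add' := map_add _, map_smul' := fun a z => ?_ }, fun z => rfl⟩
    rw [smul_eq_C_mul, map_mul, cm.τ_C, RingHom.id_apply, Algebra.smul_def]
    rfl
  have h := surjective_of_nilpotent (RingHom.ker r) hnil τl ?_
  · intro e
    obtain ⟨z, hz⟩ := h e
    exact ⟨z, (hτl z).symm.trans hz⟩
  · intro e
    obtain ⟨g, hg⟩ := hs (D.π e)
    refine ⟨map (algebraMap k A) g, ?_⟩
    rw [Ideal.smul_top_eq_map]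
    change e - τl (map (algebraMap k A) g) ∈ (RingHom.ker r).map D.γ
    apply D.ker_π
    rw [map_sub, hτl, cm.π_τ, map_up_id hr, hg, sub_self]

include hr hnil hs in
/-- an `A`-linear projection of `A[x]` onto the kernel of a chart map. -/
theorem ChartMap.exists_proj : ∃ pr : MvPolynomial ι A →ₗ[A] MvPolynomial ι A,
    (∀ z, cm.τ (pr z) = 0) ∧ (∀ z, cm.τ z = 0 → pr z = z) := by
  letI : Algebra A D.E := D.γ.toAlgebra
  obtain ⟨τl, hτl⟩ : ∃ τl : MvPolynomial ι A →ₗ[A] D.E, ∀ z, τl z = cm.τ z := by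
    refine ⟨{ toFun := cm.τ, map_add' := map_add _, map_smul' := fun a z => ?_ }, fun z => rfl⟩
    rw [smul_eq_C_mul, map_mul, cm.τ_C, RingHom.id_apply, Algebra.smul_def]
    rfl
  have hτs : Function.Surjective τl := fun e => by
    obtain ⟨z, hz⟩ := cm.surjective hr hnil hs e
    exact ⟨z, (hτl z).trans hz⟩
  -- `D.E` is free over `A`
  obtain ⟨S, b, hsp, hli⟩ := exists_basis (algebraMap k B₀)
  choose e he using fun s => D.π_surj (b s)
  have hrs : Function.Surjective r := fun c => ⟨algebraMap k A c, hr c⟩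
  have hb := D.comb_bijective b e hrs hnil hsp hli he
  have hlin : ∀ c, Finsupp.linearCombination A e c = D.comb e c := fun c => by
    rw [Finsupp.linearCombination_apply]
    unfold DefRing.comb
    refine Finsupp.sum_congr (fun s _ => ?_)
    rw [Algebra.smul_def]
    rfl
  have hbij : Function.Bijective (Finsupp.linearCombination A e) := by
    refine ⟨fun x y hxy => hb.1 ((hlin x).symm.trans (hxy.trans (hlin y))), fun y => ?_⟩
    obtain ⟨x, hx⟩ := hb.2 y
    exact ⟨x, (hlin x).trans hx⟩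
  haveI : Module.Free A D.E :=
    Module.Free.of_basis (Module.Basis.ofRepr (LinearEquiv.ofBijective _ hbij).symm)
  obtain ⟨s₁, hs₁⟩ := Module.projective_lifting_property τl LinearMap.id hτs
  have hs₁' : ∀ y, τl (s₁ y) = y := fun y => LinearMap.congr_fun hs₁ y
  refine ⟨LinearMap.id - s₁ ∘ₗ τl, fun z => ?_, fun z hz => ?_⟩
  · rw [← hτl, LinearMap.sub_apply, LinearMap.id_apply, LinearMap.comp_apply, map_sub, hs₁',
      sub_self]
  · rw [LinearMap.sub_apply, LinearMap.id_apply, LinearMap.comp_apply, hτl, hz, map_zero,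
      sub_zero]

include hr hnil hs in
/-- **flatness**: elements of the kernel of a chart map with coefficients in `m` lie in
`m · ker`. -/
theorem ChartMap.ker_inter {z : MvPolynomial ι A} (hz : cm.τ z = 0)
    (hz' : z ∈ Ideal.map (C : A →+* MvPolynomial ι A) (RingHom.ker r)) :
    z ∈ (RingHom.ker r) • ((RingHom.ker cm.τ).restrictScalars A :
      Submodule A (MvPolynomial ι A)) := by
  obtain ⟨pr, h1, h2⟩ := cm.exists_proj hr hnil hs
  exact mem_smul_of_proj pr _ (fun y => RingHom.mem_ker.mpr (h1 y))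
    (fun y hy => h2 y (RingHom.mem_ker.mp hy)) _ (RingHom.mem_ker.mpr hz)
    (mem_smul_top_of_mem_map_C _ z hz')

end chartMap

section chart

variable {f : σ → MvPolynomial ι k} (Pf : Pres B₀ f)
  (hr : ∀ c, r (algebraMap k A c) = c) (hnil : IsNilpotent (RingHom.ker r))
  {D : DefRing r (algebraMap k B₀)} (ch : Chart f D)

theorem Chart.τ_lc (N : σ →₀ MvPolynomial ι A) :
    ch.τ (Finsupp.linearCombination (MvPolynomial ι A) ch.F N) = 0 :=
  RingHom.mem_ker.mp (lc_mem_right (RingHom.ker ch.τ) ch.F N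
    (fun s => RingHom.mem_ker.mpr (ch.τ_F s)))

theorem Chart.red_lc (N : σ →₀ MvPolynomial ι A) :
    map r (Finsupp.linearCombination (MvPolynomial ι A) ch.F N) =
      Finsupp.linearCombination (MvPolynomial ι k) f (mr (map r) N) := by
  rw [lc_mr]
  exact lc_congr ch.red_F _

include Pf hr hnil in
/-- **the kernel of a chart is generated by the lifted relations.** -/
theorem Chart.ker_le_span (z : MvPolynomial ι A) (hz : ch.τ z = 0) :
    z ∈ Ideal.span (Set.range ch.F) := by
  obtain ⟨K, hK⟩ : ∃ K : Submodule A (MvPolynomial ι A),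
      K = (RingHom.ker ch.τ).restrictScalars A := ⟨_, rfl⟩
  obtain ⟨G, hG⟩ : ∃ G : Submodule A (MvPolynomial ι A),
      G = (Ideal.span (Set.range ch.F)).restrictScalars A := ⟨_, rfl⟩
  have hstep : K ≤ G ⊔ (RingHom.ker r) • K := by
    intro y hy
    have hy0 : ch.τ y = 0 := by rw [hK] at hy; exact RingHom.mem_ker.mp hy
    have h1 : algebraMap (MvPolynomial ι k) B₀ (map r y) = 0 := by rw [← ch.π_τ, hy0, map_zero]
    obtain ⟨q, hq⟩ := (mem_span_range_iff_lc f _).mp (Pf.ker _ h1)
    obtain ⟨Q, hQ⟩ : ∃ Q : σ →₀ MvPolynomial ι A, Q = mr (map (algebraMap k A)) q := ⟨_, rfl⟩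
    have hredQ : mr (map r) Q = q := by
      rw [hQ, mr_mr]
      ext s : 1
      rw [mr_apply, RingHom.comp_apply, map_up_id hr]
    have h2 : ch.τ (y - Finsupp.linearCombination _ ch.F Q) = 0 := by
      rw [map_sub, hy0, ch.τ_lc, sub_zero]
    have h3 : y - Finsupp.linearCombination _ ch.F Q ∈
        Ideal.map (C : A →+* MvPolynomial ι A) (RingHom.ker r) := by
      rw [← MvPolynomial.ker_map, RingHom.mem_ker, map_sub, ch.red_lc, hredQ, hq, sub_self]
    have h4 := ch.toChartMap.ker_inter hr hnil Pf.surj h2 h3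
    have h5 : y = Finsupp.linearCombination _ ch.F Q +
        (y - Finsupp.linearCombination _ ch.F Q) := by ring
    rw [h5]
    refine Submodule.add_mem_sup ?_ ?_
    · rw [hG]
      exact (mem_span_range_iff_lc ch.F _).mpr ⟨Q, rfl⟩
    · rw [hK]
      exact h4
  have hmG : (RingHom.ker r) • G ≤ G := by
    rw [Submodule.smul_le]
    intro a _ g hg
    rw [hG] at hg ⊢
    rw [smul_eq_C_mul]
    exact Ideal.mul_mem_left _ _ hg
  have hind : ∀ n : ℕ, K ≤ G ⊔ (RingHom.ker r) ^ n • K := by
    intro n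
    induction n with
    | zero => rw [pow_zero, Ideal.one_eq_top, Submodule.top_smul]; exact le_sup_right
    | succ n ih =>
      calc K ≤ G ⊔ (RingHom.ker r) • K := hstep
        _ ≤ G ⊔ (RingHom.ker r) • (G ⊔ (RingHom.ker r) ^ n • K) :=
            sup_le_sup_left (Submodule.smul_mono le_rfl ih) _
        _ = G ⊔ ((RingHom.ker r) • G ⊔ (RingHom.ker r) • ((RingHom.ker r) ^ n • K)) := by
            rw [Submodule.smul_sup]
        _ ≤ G ⊔ (RingHom.ker r) ^ (n + 1) • K := by
            rw [← Submodule.smul_assoc, smul_eq_mul, ← pow_succ']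
            exact sup_le le_sup_left (sup_le (hmG.trans le_sup_left) le_sup_right)
  obtain ⟨n, hn⟩ := hnil
  have h := hind n
  rw [hn, Ideal.zero_eq_bot, Submodule.bot_smul, sup_bot_eq] at h
  have hzK : z ∈ K := by rw [hK]; exact RingHom.mem_ker.mpr hz
  have := h hzK
  rw [hG] at this
  exact this

include Pf hr hnil in
/-- elements of `m · ker τ` are combinations of the `F s` with coefficients in `m`. -/
theorem Chart.exists_lc_of_mem_smul (y : MvPolynomial ι A)
    (hy : y ∈ (RingHom.ker r) • ((RingHom.ker ch.τ).restrictScalars A :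
      Submodule A (MvPolynomial ι A))) :
    ∃ N : σ →₀ MvPolynomial ι A, (∀ s, map r (N s) = 0) ∧
      Finsupp.linearCombination _ ch.F N = y := by
  refine Submodule.smul_induction_on hy (fun a ha z hz => ?_) (fun x y hx hy => ?_)
  · obtain ⟨N₀, hN₀⟩ := (mem_span_range_iff_lc ch.F z).mp
      (ch.ker_le_span Pf hr hnil z (RingHom.mem_ker.mp hz))
    refine ⟨(C a : MvPolynomial ι A) • N₀, fun s => ?_, ?_⟩
    · rw [Finsupp.smul_apply, smul_eq_mul, map_mul, map_C, RingHom.mem_ker.mp ha, map_zero,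
        zero_mul]
    · rw [map_smul, hN₀, smul_eq_mul, smul_eq_C_mul]
  · obtain ⟨N₁, h1, h1'⟩ := hx
    obtain ⟨N₂, h2, h2'⟩ := hy
    refine ⟨N₁ + N₂, fun s => ?_, ?_⟩
    · rw [Finsupp.add_apply, map_add, h1, h2, add_zero]
    · rw [map_add, h1', h2']

include Pf hr hnil in
/-- **relations among the `f s` lift to relations among the `F s`.** -/
theorem Chart.exists_rel_lift (q : σ →₀ MvPolynomial ι k)
    (hq : Finsupp.linearCombination _ f q = 0) :
    ∃ Q : σ →₀ MvPolynomial ι A, mr (map r) Q = q ∧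
      Finsupp.linearCombination _ ch.F Q = 0 := by
  obtain ⟨Q₀, hQ₀⟩ : ∃ Q₀ : σ →₀ MvPolynomial ι A, Q₀ = mr (map (algebraMap k A)) q := ⟨_, rfl⟩
  have hred : mr (map r) Q₀ = q := by
    rw [hQ₀, mr_mr]
    ext s : 1
    rw [mr_apply, RingHom.comp_apply, map_up_id hr]
  have h1 : ch.τ (Finsupp.linearCombination _ ch.F Q₀) = 0 := ch.τ_lc Q₀
  have h2 : Finsupp.linearCombination _ ch.F Q₀ ∈
      Ideal.map (C : A →+* MvPolynomial ι A) (RingHom.ker r) := by
    rw [← MvPolynomial.ker_map, RingHom.mem_ker, ch.red_lc, hred, hq]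
  obtain ⟨N, hN, hN'⟩ := ch.exists_lc_of_mem_smul Pf hr hnil _
    (ch.toChartMap.ker_inter hr hnil Pf.surj h1 h2)
  refine ⟨Q₀ - N, ?_, ?_⟩
  · rw [mr_sub, hred, (mr_eq_zero_iff _ _).mpr hN, sub_zero]
  · rw [map_sub, hN', sub_self]

include Pf hr hnil in
/-- an `A`-linear projection of the free module onto the relations among the `F s`. -/
theorem Chart.exists_proj₂ : ∃ pr : (σ →₀ MvPolynomial ι A) →ₗ[A] (σ →₀ MvPolynomial ι A),
    (∀ N, Finsupp.linearCombination _ ch.F (pr N) = 0) ∧
    (∀ N, Finsupp.linearCombination _ ch.F N = 0 → pr N = N) := by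
  obtain ⟨pr₁, h1, h2⟩ := ch.toChartMap.exists_proj hr hnil Pf.surj
  obtain ⟨K, hK⟩ : ∃ K : Submodule A (MvPolynomial ι A),
      K = (RingHom.ker ch.τ).restrictScalars A := ⟨_, rfl⟩
  have hmemK : ∀ z, z ∈ K ↔ ch.τ z = 0 := fun z => by rw [hK]; exact RingHom.mem_ker
  haveI : Module.Projective A ↥K :=
    Module.Projective.of_split K.subtype (pr₁.codRestrict K (fun z => (hmemK _).mpr (h1 z)))
      (LinearMap.ext fun ⟨z, hz⟩ => Subtype.ext (h2 z ((hmemK z).mp hz)))
  obtain ⟨jA, hjA⟩ : ∃ jA : (σ →₀ MvPolynomial ι A) →ₗ[A] ↥K,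
      ∀ N, (jA N : MvPolynomial ι A) = Finsupp.linearCombination _ ch.F N :=
    ⟨LinearMap.codRestrict K
      ((Finsupp.linearCombination (MvPolynomial ι A) ch.F).restrictScalars A)
      (fun N => (hmemK _).mpr (ch.τ_lc N)), fun N => rfl⟩
  have hjs : Function.Surjective jA := by
    rintro ⟨z, hz⟩
    obtain ⟨Q, hQ⟩ := (mem_span_range_iff_lc ch.F z).mp
      (ch.ker_le_span Pf hr hnil z ((hmemK z).mp hz))
    exact ⟨Q, Subtype.ext ((hjA Q).trans hQ)⟩
  obtain ⟨s₂, hs₂⟩ := Module.projective_lifting_property jA LinearMap.id hjs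
  have hs₂' : ∀ y, jA (s₂ y) = y := fun y => LinearMap.congr_fun hs₂ y
  refine ⟨LinearMap.id - s₂ ∘ₗ jA, fun N => ?_, fun N hN => ?_⟩
  · rw [LinearMap.sub_apply, LinearMap.id_apply, LinearMap.comp_apply, map_sub, ← hjA (s₂ (jA N)),
      hs₂', hjA, sub_self]
  · have h0 : jA N = 0 := Subtype.ext ((hjA N).trans hN)
    rw [LinearMap.sub_apply, LinearMap.id_apply, LinearMap.comp_apply, h0, map_zero, sub_zero]

include Pf hr hnil in
/-- **induction principle**: relations among the `F s` which vanish modulo `m` are sums of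
`m`-multiples of relations. -/
theorem Chart.rel_induction (Pr : (σ →₀ MvPolynomial ι A) → Prop)
    (h_smul : ∀ a, r a = 0 → ∀ N, Finsupp.linearCombination _ ch.F N = 0 →
      Pr ((C a : MvPolynomial ι A) • N))
    (h_add : ∀ x y, Pr x → Pr y → Pr (x + y))
    (N : σ →₀ MvPolynomial ι A) (hN : Finsupp.linearCombination _ ch.F N = 0)
    (hN' : ∀ s, map r (N s) = 0) : Pr N := by
  obtain ⟨pr, h1, h2⟩ := ch.exists_proj₂ Pf hr hnil
  obtain ⟨Rel, hRel⟩ : ∃ Rel : Submodule A (σ →₀ MvPolynomial ι A),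
      Rel = (LinearMap.ker (Finsupp.linearCombination (MvPolynomial ι A) ch.F)).restrictScalars A :=
    ⟨_, rfl⟩
  have hmem : ∀ N, N ∈ Rel ↔ Finsupp.linearCombination _ ch.F N = 0 := fun N => by
    rw [hRel]; exact LinearMap.mem_ker
  have hNtop : N ∈ (RingHom.ker r) • (⊤ : Submodule A (σ →₀ MvPolynomial ι A)) := by
    refine finsupp_mem_smul_top _ N (fun s => ?_)
    rw [← MvPolynomial.ker_map]
    exact RingHom.mem_ker.mpr (hN' s)
  have hNrel := mem_smul_of_proj pr Rel (fun y => (hmem _).mpr (h1 y))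
    (fun y hy => h2 y ((hmem y).mp hy)) _ ((hmem N).mpr hN) hNtop
  refine Submodule.smul_induction_on hNrel (fun a ha n hn => ?_) h_add
  rw [finsupp_smul_eq_C_smul]
  exact h_smul a (RingHom.mem_ker.mp ha) n ((hmem n).mp hn)

include Pf hr hnil in
/-- a chart exists. -/
theorem exists_chart (D : DefRing r (algebraMap k B₀)) : Nonempty (Chart f D) := by
  obtain ⟨cm⟩ := exists_chartMap (ι := ι) D
  have hsurj := cm.surjective hr hnil Pf.surj
  have hF : ∀ s, ∃ z : MvPolynomial ι A, cm.τ z = 0 ∧ map r z = f s := by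
    intro s
    have h1 : D.π (cm.τ (map (algebraMap k A) (f s))) = 0 := by
      rw [cm.π_τ, map_up_id hr, Pf.hf]
    have h2 := D.ker_π _ h1
    have h3 : D.γ = cm.τ.comp (C : A →+* MvPolynomial ι A) := RingHom.ext fun c => (cm.τ_C c).symm
    rw [h3, ← Ideal.map_map, Ideal.mem_map_iff_of_surjective _ hsurj] at h2
    obtain ⟨y, hy, hy'⟩ := h2
    refine ⟨map (algebraMap k A) (f s) - y, ?_, ?_⟩
    · rw [map_sub, hy', sub_self]
    · rw [← MvPolynomial.ker_map] at hy
      rw [map_sub, map_up_id hr, RingHom.mem_ker.mp hy, sub_zero]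
  choose F hF1 hF2 using hF
  exact ⟨{ toChartMap := cm, F := F, τ_F := hF1, red_F := hF2 }⟩

end chart

end Groth.Agent.Lib.LeadObs
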