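import Mathlib
import Groth.Agent.Lib.LeadObsB
import Groth.Agent.Lib.Helper19KosApi

/-!
# The obstruction cocycle of a chart along a semismall extension (for S12264/S12268)

For a chart `(τ, F)` of a deformation `D` over `A`, a semismall extension `p : A' → A` with
kernel `J`, lifts `F'` of the `F s` to `A'[x]` and a `k`-linear functional `l` on `A'`, every
relation `q` among the `f s` lifts to a family `Q'` over `A'` which is a relation modulo `J`;
the image in `B₀` of the `l`-component of `∑ Q'_s F'_s ∈ J·A'[x]` only depends on `q`.  This is an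
`S₀`-linear map on the relation module killing the Koszul relations, hence a class in `T²`.
-/

set_option autoImplicit false
set_option maxHeartbeats 400000
set_option linter.style.haveILetI false
set_option linter.unusedSectionVars false
set_option linter.unusedVariables false

universe u

namespace Groth.Agent.Lib.LeadObs

open MvPolynomial Groth.Agent.Lib.LeadHull Groth.Agent.Lib.Helper19

variable {k B₀ : Type u} [Field k] [CommRing B₀] [Algebra k B₀] {ι σ : Type u}
  [Algebra (MvPolynomial ι k) B₀] [IsScalarTower k (MvPolynomial ι k) B₀]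
  {f : σ → MvPolynomial ι k}

variable {A' A : Type u} [CommRing A'] [CommRing A] [Algebra k A'] [Algebra k A]
  {r' : A' →+* k} {r : A →+* k} {p : A' →+* A}

/-- a semismall extension of augmented `k`-algebras with nilpotent augmentation ideals. -/
structure SExt (r' : A' →+* k) (r : A →+* k) (p : A' →+* A) : Prop where
  hr' : ∀ c, r' (algebraMap k A' c) = c
  hr : ∀ c, r (algebraMap k A c) = c
  hp : ∀ c, p (algebraMap k A' c) = algebraMap k A c
  hrp : ∀ a, r (p a) = r' a
  hps : Function.Surjective p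
  hJ : ∀ a t, r' a = 0 → t ∈ RingHom.ker p → a * t = 0
  hnil : IsNilpotent (RingHom.ker r)
  hnil' : IsNilpotent (RingHom.ker r')

namespace SExt

variable (X : SExt r' r p)

include X in
theorem red_p (z : MvPolynomial ι A') : map r (map p z) = map r' z :=
  map_map_of_comp p r r' X.hrp z

include X in
theorem p_up (g : MvPolynomial ι k) :
    map p (map (algebraMap k A') g) = map (algebraMap k A) g :=
  map_map_of_comp (algebraMap k A') p (algebraMap k A) X.hp g

include X in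
theorem pm_surj : Function.Surjective (map (σ := ι) p) := map_surjective p X.hps

include X in
theorem mr_red_up (a : σ →₀ MvPolynomial ι k) :
    mr (map r') (mr (map (algebraMap k A')) a) = a := by
  rw [mr_mr]
  ext s : 1
  rw [mr_apply, RingHom.comp_apply, map_up_id X.hr']

include X in
theorem mr_red_p (Q' : σ →₀ MvPolynomial ι A') :
    mr (map r) (mr (map p) Q') = mr (map r') Q' := by
  rw [mr_mr]
  exact mr_congr (fun z => X.red_p z) _

end SExt

variable {D : DefRing r (algebraMap k B₀)}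

/-- lifts of the relations of a chart along `p`. -/
structure RelLift (ch : Chart f D) (p : A' →+* A) where
  F' : σ → MvPolynomial ι A'
  hF' : ∀ s, map p (F' s) = ch.F s

theorem exists_relLift (ch : Chart f D) (hps : Function.Surjective p) :
    Nonempty (RelLift ch p) := by
  choose F' hF' using fun s => map_surjective (σ := ι) p hps (ch.F s)
  exact ⟨⟨F', hF'⟩⟩

/-- `Q'` is a relation among the `F s` modulo the kernel of `p`. -/
def InRel (ch : Chart f D) (p : A' →+* A) (Q' : σ →₀ MvPolynomial ι A') : Prop :=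
  Finsupp.linearCombination (MvPolynomial ι A) ch.F (mr (map p) Q') = 0

namespace InRel

variable {ch : Chart f D} {Q' Q'' : σ →₀ MvPolynomial ι A'}

theorem add (h : InRel ch p Q') (h' : InRel ch p Q'') : InRel ch p (Q' + Q'') := by
  unfold InRel at *
  rw [mr_add, map_add, h, h', add_zero]

theorem sub (h : InRel ch p Q') (h' : InRel ch p Q'') : InRel ch p (Q' - Q'') := by
  unfold InRel at *
  rw [mr_sub, map_sub, h, h', sub_zero]

theorem smul (h : InRel ch p Q') (g : MvPolynomial ι A') : InRel ch p (g • Q') := by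
  unfold InRel at *
  rw [mr_smul, map_smul, h, smul_zero]

end InRel

section cocycle

variable (X : SExt r' r p) (Pf : Pres B₀ f) (ch : Chart f D) (L : RelLift ch p)

theorem RelLift.map_p_lc (Q' : σ →₀ MvPolynomial ι A') :
    map p (Finsupp.linearCombination _ L.F' Q') =
      Finsupp.linearCombination _ ch.F (mr (map p) Q') := by
  rw [lc_mr]
  exact lc_congr L.hF' _

theorem RelLift.mem {Q' : σ →₀ MvPolynomial ι A'} (hQ : InRel ch p Q') :
    Finsupp.linearCombination _ L.F' Q' ∈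
      Ideal.map (C : A' →+* MvPolynomial ι A') (RingHom.ker p) := by
  rw [← MvPolynomial.ker_map, RingHom.mem_ker, L.map_p_lc]
  exact hQ

include X in
theorem RelLift.red_F' (s : σ) : map r' (L.F' s) = f s := by
  rw [← X.red_p, L.hF', ch.red_F]

include X in
theorem RelLift.red_lc (Q' : σ →₀ MvPolynomial ι A') :
    map r' (Finsupp.linearCombination _ L.F' Q') =
      Finsupp.linearCombination _ f (mr (map r') Q') := by
  rw [lc_mr]
  exact lc_congr (L.red_F' X ch) _

include X Pf in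
theorem ev_cf_lc_of_mem (E : σ →₀ MvPolynomial ι A')
    (hE : ∀ s, E s ∈ Ideal.map (C : A' →+* MvPolynomial ι A') (RingHom.ker p))
    (l : A' →ₗ[k] k) :
    algebraMap (MvPolynomial ι k) B₀ (cf l (Finsupp.linearCombination _ L.F' E)) = 0 := by
  rw [Finsupp.linearCombination_apply, Finsupp.sum, map_sum, map_sum]
  refine Finset.sum_eq_zero (fun s _ => ?_)
  change algebraMap (MvPolynomial ι k) B₀ (cf l (E s * L.F' s)) = 0
  rw [mul_comm, cf_mul_of_mem X.hr' X.hJ l (L.F' s) (E s) (hE s), L.red_F' X ch, map_mul, Pf.hf,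
    zero_mul]

include X Pf in
/-- **well-definedness**: a relation modulo `J` which vanishes modulo the augmentation ideal has
obstruction zero. -/
theorem ev_cf_eq_zero_of_red_eq_zero (Q' : σ →₀ MvPolynomial ι A') (hQ : InRel ch p Q')
    (hQ0 : mr (map r') Q' = 0) (l : A' →ₗ[k] k) :
    algebraMap (MvPolynomial ι k) B₀ (cf l (Finsupp.linearCombination _ L.F' Q')) = 0 := by
  have hN' : ∀ s, map r (mr (map p) Q' s) = 0 := fun s => by
    rw [mr_apply, X.red_p]
    exact (mr_eq_zero_iff _ _).mp hQ0 s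
  refine ch.rel_induction Pf X.hr X.hnil
    (fun N => ∀ Q' : σ →₀ MvPolynomial ι A', mr (map p) Q' = N → ∀ l : A' →ₗ[k] k,
      algebraMap (MvPolynomial ι k) B₀ (cf l (Finsupp.linearCombination _ L.F' Q')) = 0)
    ?_ ?_ (mr (map p) Q') hQ hN' Q' rfl l
  · intro a ha N₁ hN₁ Q₁ hQ₁ l₁
    obtain ⟨a', ha'⟩ := X.hps a
    obtain ⟨N₁', hN₁'⟩ := mr_surjective (σ := σ) (map p) X.pm_surj N₁
    obtain ⟨E, hE⟩ : ∃ E : σ →₀ MvPolynomial ι A',
        E = Q₁ - (C a' : MvPolynomial ι A') • N₁' := ⟨_, rfl⟩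
    have hE0 : mr (map p) E = 0 := by
      rw [hE, mr_sub, mr_smul, hQ₁, hN₁', map_C, ha', sub_self]
    have hEs : ∀ s, E s ∈ Ideal.map (C : A' →+* MvPolynomial ι A') (RingHom.ker p) := fun s => by
      rw [← MvPolynomial.ker_map, RingHom.mem_ker]
      exact (mr_eq_zero_iff _ _).mp hE0 s
    have hQ₁eq : Q₁ = (C a' : MvPolynomial ι A') • N₁' + E := by rw [hE]; abel
    have hrel : InRel ch p N₁' := by
      unfold InRel
      rw [hN₁']
      exact hN₁
    have hra' : r' a' = 0 := by rw [← X.hrp, ha', ha]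
    have h0 : (C a' : MvPolynomial ι A') * Finsupp.linearCombination _ L.F' N₁' = 0 :=
      C_mul_eq_zero_of_mem X.hJ a' hra' _ (L.mem ch hrel)
    rw [hQ₁eq, map_add, map_smul, smul_eq_mul, h0, zero_add]
    exact ev_cf_lc_of_mem X Pf ch L E hEs l₁
  · intro x y hx hy Q₁ hQ₁ l₁
    obtain ⟨Qx, hQx⟩ := mr_surjective (σ := σ) (map p) X.pm_surj x
    have hQy : mr (map p) (Q₁ - Qx) = y := by rw [mr_sub, hQ₁, hQx]; abel
    have h1 := hx Qx hQx l₁
    have h2 := hy (Q₁ - Qx) hQy l₁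
    have h3 : Q₁ = Qx + (Q₁ - Qx) := by abel
    rw [h3, map_add, map_add, map_add, h1, h2, add_zero]

include X Pf in
theorem exists_inRel_lift (q : σ →₀ MvPolynomial ι k)
    (hq : Finsupp.linearCombination _ f q = 0) :
    ∃ Q' : σ →₀ MvPolynomial ι A', InRel ch p Q' ∧ mr (map r') Q' = q := by
  obtain ⟨Q, hQ1, hQ2⟩ := ch.exists_rel_lift Pf X.hr X.hnil q hq
  obtain ⟨Q', hQ'⟩ := mr_surjective (σ := σ) (map p) X.pm_surj Q
  refine ⟨Q', ?_, ?_⟩
  · unfold InRel
    rw [hQ']
    exact hQ2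
  · rw [← hQ1, ← hQ', X.mr_red_p]

theorem lc_eq_zero_of_mem_Q (q : Kos.Q (MvPolynomial ι k) f) :
    Finsupp.linearCombination _ f (q : σ →₀ MvPolynomial ι k) = 0 :=
  LinearMap.mem_ker.mp q.2

/-- the obstruction cocycle, as a function. -/
noncomputable def gfun (l : A' →ₗ[k] k) (q : Kos.Q (MvPolynomial ι k) f) : B₀ :=
  algebraMap (MvPolynomial ι k) B₀ (cf l (Finsupp.linearCombination _ L.F'
    (Classical.choose (exists_inRel_lift X Pf ch q.1 (lc_eq_zero_of_mem_Q q)))))

theorem gfun_spec (l : A' →ₗ[k] k) {Q' : σ →₀ MvPolynomial ι A'} (hQ : InRel ch p Q')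
    (q : Kos.Q (MvPolynomial ι k) f) (hq : mr (map r') Q' = (q : σ →₀ MvPolynomial ι k)) :
    gfun X Pf ch L l q =
      algebraMap (MvPolynomial ι k) B₀ (cf l (Finsupp.linearCombination _ L.F' Q')) := by
  obtain ⟨h1, h2⟩ := Classical.choose_spec
    (exists_inRel_lift X Pf ch q.1 (lc_eq_zero_of_mem_Q q))
  have h3 := ev_cf_eq_zero_of_red_eq_zero X Pf ch L _ (h1.sub hQ)
    (by rw [mr_sub, h2, hq, sub_self]) l
  rw [map_sub, map_sub, map_sub, sub_eq_zero] at h3
  exact h3

theorem gfun_add (l : A' →ₗ[k] k) (q q' : Kos.Q (MvPolynomial ι k) f) :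
    gfun X Pf ch L l (q + q') = gfun X Pf ch L l q + gfun X Pf ch L l q' := by
  obtain ⟨Q, hQ, hQr⟩ := exists_inRel_lift X Pf ch q.1 (lc_eq_zero_of_mem_Q q)
  obtain ⟨Q2, hQ2, hQ2r⟩ := exists_inRel_lift X Pf ch q'.1 (lc_eq_zero_of_mem_Q q')
  rw [gfun_spec X Pf ch L l hQ q hQr, gfun_spec X Pf ch L l hQ2 q' hQ2r,
    gfun_spec X Pf ch L l (hQ.add hQ2) (q + q') (by rw [mr_add, hQr, hQ2r]; rfl), map_add,
    map_add, map_add]

theorem gfun_smul (l : A' →ₗ[k] k) (g : MvPolynomial ι k) (q : Kos.Q (MvPolynomial ι k) f) :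
    gfun X Pf ch L l (g • q) = g • gfun X Pf ch L l q := by
  obtain ⟨Q, hQ, hQr⟩ := exists_inRel_lift X Pf ch q.1 (lc_eq_zero_of_mem_Q q)
  rw [gfun_spec X Pf ch L l hQ q hQr,
    gfun_spec X Pf ch L l (hQ.smul (map (algebraMap k A') g)) (g • q)
      (by rw [mr_smul, hQr, map_up_id X.hr']; rfl),
    map_smul, smul_eq_mul, cf_up_mul, map_mul, Algebra.smul_def]

/-- the obstruction cocycle, as a linear map on the relation module. -/
noncomputable def gl (l : A' →ₗ[k] k) : Kos.Q (MvPolynomial ι k) f →ₗ[MvPolynomial ι k] B₀ where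
  toFun := gfun X Pf ch L l
  map_add' := gfun_add X Pf ch L l
  map_smul' := gfun_smul X Pf ch L l

theorem gl_spec (l : A' →ₗ[k] k) {Q' : σ →₀ MvPolynomial ι A'} (hQ : InRel ch p Q')
    (q : Kos.Q (MvPolynomial ι k) f) (hq : mr (map r') Q' = (q : σ →₀ MvPolynomial ι k)) :
    gl X Pf ch L l q =
      algebraMap (MvPolynomial ι k) B₀ (cf l (Finsupp.linearCombination _ L.F' Q')) :=
  gfun_spec X Pf ch L l hQ q hq

theorem gl_kos (l : A' →ₗ[k] k) (a b : σ →₀ MvPolynomial ι k)
    (q : Kos.Q (MvPolynomial ι k) f)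
    (hq : (q : σ →₀ MvPolynomial ι k) = Finsupp.linearCombination _ f a • b -
      Finsupp.linearCombination _ f b • a) : gl X Pf ch L l q = 0 := by
  obtain ⟨a', ha'⟩ : ∃ a' : σ →₀ MvPolynomial ι A', a' = mr (map (algebraMap k A')) a :=
    ⟨_, rfl⟩
  obtain ⟨b', hb'⟩ : ∃ b' : σ →₀ MvPolynomial ι A', b' = mr (map (algebraMap k A')) b :=
    ⟨_, rfl⟩
  obtain ⟨Q', hQ'⟩ : ∃ Q' : σ →₀ MvPolynomial ι A',
      Q' = Finsupp.linearCombination _ L.F' a' • b' - Finsupp.linearCombination _ L.F' b' • a' :=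
    ⟨_, rfl⟩
  have hrel : InRel ch p Q' := by
    unfold InRel
    rw [hQ', mr_sub, mr_smul, mr_smul, L.map_p_lc, L.map_p_lc, map_sub, map_smul, map_smul,
      smul_eq_mul, smul_eq_mul, mul_comm, sub_self]
  have hred : mr (map r') Q' = (q : σ →₀ MvPolynomial ι k) := by
    rw [hq, hQ', mr_sub, mr_smul, mr_smul, L.red_lc X ch, L.red_lc X ch, ha', hb', X.mr_red_up,
      X.mr_red_up]
  have h0 : Finsupp.linearCombination _ L.F' Q' = 0 := by
    rw [hQ', map_sub, map_smul, map_smul, smul_eq_mul, smul_eq_mul, mul_comm, sub_self]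
  rw [gl_spec X Pf ch L l hrel q hred, h0, map_zero, map_zero]

theorem gl_F0 (l : A' →ₗ[k] k) (q : Kos.Q (MvPolynomial ι k) f)
    (hq : (q : σ →₀ MvPolynomial ι k) ∈ Kos.F0 (MvPolynomial ι k) f) :
    gl X Pf ch L l q = 0 := by
  have key : ∀ x, ∀ hx : x ∈ Submodule.span (MvPolynomial ι k)
      {y | ∃ a b : σ →₀ MvPolynomial ι k,
        y = Kos.jm (MvPolynomial ι k) f a • b - Kos.jm (MvPolynomial ι k) f b • a},
      ∀ hxQ : x ∈ Kos.Q (MvPolynomial ι k) f, gl X Pf ch L l ⟨x, hxQ⟩ = 0 := by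
    intro x hx
    refine Submodule.span_induction
      (p := fun x _ => ∀ hxQ : x ∈ Kos.Q (MvPolynomial ι k) f, gl X Pf ch L l ⟨x, hxQ⟩ = 0)
      ?_ ?_ ?_ ?_ hx
    · rintro _ ⟨a, b, rfl⟩ hxQ
      exact gl_kos X Pf ch L l a b ⟨_, hxQ⟩ rfl
    · intro hxQ
      exact map_zero (gl X Pf ch L l)
    · intro x y hx hy ihx ihy hxy
      have hxQ : x ∈ Kos.Q (MvPolynomial ι k) f := Kos.F0_le_Q _ _ hx
      have hyQ : y ∈ Kos.Q (MvPolynomial ι k) f := Kos.F0_le_Q _ _ hy
      have h : (⟨x + y, hxy⟩ : Kos.Q (MvPolynomial ι k) f) = ⟨x, hxQ⟩ + ⟨y, hyQ⟩ := rfl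
      rw [h, map_add, ihx hxQ, ihy hyQ, add_zero]
    · intro a x hx ihx hax
      have hxQ : x ∈ Kos.Q (MvPolynomial ι k) f := Kos.F0_le_Q _ _ hx
      have h : (⟨a • x, hax⟩ : Kos.Q (MvPolynomial ι k) f) = a • ⟨x, hxQ⟩ := rfl
      rw [h, map_smul, ihx hxQ, smul_zero]
  exact key q.1 hq q.2

theorem gl_add_fun (l l' : A' →ₗ[k] k) (q : Kos.Q (MvPolynomial ι k) f) :
    gl X Pf ch L (l + l') q = gl X Pf ch L l q + gl X Pf ch L l' q := by
  obtain ⟨Q, hQ, hQr⟩ := exists_inRel_lift X Pf ch q.1 (lc_eq_zero_of_mem_Q q)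
  rw [gl_spec X Pf ch L _ hQ q hQr, gl_spec X Pf ch L _ hQ q hQr, gl_spec X Pf ch L _ hQ q hQr,
    cf_add_fun, map_add]

theorem algebraMap_smul_k (c : k) (z : MvPolynomial ι k) :
    algebraMap (MvPolynomial ι k) B₀ (c • z) = c • algebraMap (MvPolynomial ι k) B₀ z := by
  rw [smul_eq_C_mul, map_mul, algebraMap_C, ← Algebra.smul_def]

theorem gl_smul_fun (c : k) (l : A' →ₗ[k] k) (q : Kos.Q (MvPolynomial ι k) f) :
    gl X Pf ch L (c • l) q = c • gl X Pf ch L l q := by
  obtain ⟨Q, hQ, hQr⟩ := exists_inRel_lift X Pf ch q.1 (lc_eq_zero_of_mem_Q q)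
  rw [gl_spec X Pf ch L _ hQ q hQr, gl_spec X Pf ch L _ hQ q hQr, cf_smul_fun,
    algebraMap_smul_k]

theorem gl_congr (l l' : A' →ₗ[k] k) (h : ∀ c, p c = 0 → l c = l' c)
    (q : Kos.Q (MvPolynomial ι k) f) : gl X Pf ch L l q = gl X Pf ch L l' q := by
  obtain ⟨Q, hQ, hQr⟩ := exists_inRel_lift X Pf ch q.1 (lc_eq_zero_of_mem_Q q)
  rw [gl_spec X Pf ch L _ hQ q hQr, gl_spec X Pf ch L _ hQ q hQr,
    cf_congr l l' (fun c hc => h c (RingHom.mem_ker.mp hc)) _ (L.mem ch hQ)]

/-- the obstruction cocycle as a map on `L₂`. -/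
noncomputable def obC (l : A' →ₗ[k] k) : Kos.L2 (MvPolynomial ι k) B₀ f →ₗ[B₀] B₀ :=
  Kos.lift2 (gl X Pf ch L l) (gl_F0 X Pf ch L l)

theorem at2_obC (l : A' →ₗ[k] k) (q : Kos.Q (MvPolynomial ι k) f) :
    Kos.at2 (obC X Pf ch L l) q = gl X Pf ch L l q :=
  Kos.at2_lift2 _ _ q

/-- **the obstruction class**, linear in the functional. -/
noncomputable def obV : (A' →ₗ[k] k) →ₗ[k] Kos.T2 (MvPolynomial ι k) B₀ f Pf.hf B₀ where
  toFun l := Submodule.Quotient.mk (obC X Pf ch L l)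
  map_add' l l' := by
    rw [← Submodule.Quotient.mk_add]
    congr 1
    apply Kos.L2_ext
    intro q
    rw [at2_obC, Kos.at2_apply, LinearMap.add_apply, ← Kos.at2_apply, ← Kos.at2_apply, at2_obC,
      at2_obC, gl_add_fun]
  map_smul' c l := by
    rw [RingHom.id_apply, ← Submodule.Quotient.mk_smul]
    congr 1
    apply Kos.L2_ext
    intro q
    rw [at2_obC, Kos.at2_apply, LinearMap.smul_apply, ← Kos.at2_apply, at2_obC, gl_smul_fun]

theorem obV_apply (l : A' →ₗ[k] k) :
    obV X Pf ch L l = Submodule.Quotient.mk (obC X Pf ch L l) := rfl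

theorem obV_congr (l l' : A' →ₗ[k] k) (h : ∀ c, p c = 0 → l c = l' c) :
    obV X Pf ch L l = obV X Pf ch L l' := by
  rw [obV_apply, obV_apply]
  congr 1
  apply Kos.L2_ext
  intro q
  rw [at2_obC, at2_obC, gl_congr X Pf ch L l l' h]

/-- a criterion for the vanishing of the class. -/
theorem obV_eq_zero_iff (l : A' →ₗ[k] k) :
    obV X Pf ch L l = 0 ↔ ∃ G : (σ →₀ MvPolynomial ι k) →ₗ[MvPolynomial ι k] B₀,
      ∀ q : Kos.Q (MvPolynomial ι k) f, G (q : σ →₀ MvPolynomial ι k) = gl X Pf ch L l q := by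
  rw [obV_apply, Submodule.Quotient.mk_eq_zero, Kos.mem_range_lcomp_d2_iff]
  constructor
  · rintro ⟨G, hG⟩
    exact ⟨G, fun q => by rw [hG, at2_obC]⟩
  · rintro ⟨G, hG⟩
    exact ⟨G, fun q => by rw [hG, at2_obC]⟩

include X in
theorem ev_cf_lc_H (H : σ → MvPolynomial ι A')
    (hH : ∀ s, H s ∈ Ideal.map (C : A' →+* MvPolynomial ι A') (RingHom.ker p))
    (l : A' →ₗ[k] k) (Q' : σ →₀ MvPolynomial ι A') :
    algebraMap (MvPolynomial ι k) B₀ (cf l (Finsupp.linearCombination _ H Q')) =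
      Finsupp.linearCombination (MvPolynomial ι k)
        (fun s => algebraMap (MvPolynomial ι k) B₀ (cf l (H s))) (mr (map r') Q') := by
  induction Q' using Finsupp.induction_linear with
  | zero => rw [map_zero, map_zero, map_zero, mr_zero, map_zero]
  | add x y hx hy => rw [map_add, map_add, map_add, hx, hy, mr_add, map_add]
  | single s a =>
    rw [Finsupp.linearCombination_single, mr_single, Finsupp.linearCombination_single,
      smul_eq_mul, cf_mul_of_mem X.hr' X.hJ l a (H s) (hH s), map_mul, Algebra.smul_def]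

/-- **independence of the lifts of the relations.** -/
theorem obV_indep (L' : RelLift ch p) (l : A' →ₗ[k] k) :
    obV X Pf ch L' l = obV X Pf ch L l := by
  rw [obV_apply, obV_apply, Submodule.Quotient.eq, Kos.mem_range_lcomp_d2_iff]
  have hH : ∀ s, L'.F' s - L.F' s ∈
      Ideal.map (C : A' →+* MvPolynomial ι A') (RingHom.ker p) := fun s => by
    rw [← MvPolynomial.ker_map, RingHom.mem_ker, map_sub, L'.hF', L.hF', sub_self]
  refine ⟨Finsupp.linearCombination (MvPolynomial ι k)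
    (fun s => algebraMap (MvPolynomial ι k) B₀ (cf l (L'.F' s - L.F' s))), fun q => ?_⟩
  obtain ⟨Q, hQ, hQr⟩ := exists_inRel_lift X Pf ch q.1 (lc_eq_zero_of_mem_Q q)
  rw [Kos.at2_apply, LinearMap.sub_apply, ← Kos.at2_apply, ← Kos.at2_apply, at2_obC, at2_obC,
    gl_spec X Pf ch L' l hQ q hQr, gl_spec X Pf ch L l hQ q hQr, ← hQr,
    ← ev_cf_lc_H X _ hH l Q, lc_sub_fun, map_sub, map_sub]

end cocycle

end Groth.Agent.Lib.LeadObs
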