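import Mathlib
import Groth.Agent.Lib.LeadObsC

/-!
# Vanishing of the obstruction class gives a lift (for S12264/S12268)

If the obstruction classes of a chart along a semismall extension `A' → A` vanish, the lifts of
the relations can be corrected so that every relation lifts; then `A'[x]/(F')` is flat over `A'`
and lifts the deformation.
-/

set_option autoImplicit false
set_option maxHeartbeats 400000
set_option linter.style.haveILetI false
set_option linter.unusedSectionVars false
set_option linter.unusedVariables false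

universe u

namespace Groth.Agent.Lib.LeadObs

open MvPolynomial Groth.Agent.Lib.LeadHull Groth.Agent.Lib.Helper19
  Groth.Agent.Lib.LeadTrivDef

/-! ### flatness from a basis -/

section basis

variable {k B₀ : Type u} [Field k] [CommRing B₀]

theorem flat_of_bijective {A E T : Type u} [CommRing A] [CommRing E] (γ : A →+* E) (n : T → E)
    (hbij : Function.Bijective (fun c : T →₀ A => c.sum fun t a => γ a * n t)) : γ.Flat := by
  letI : Algebra A E := γ.toAlgebra
  have hlin : ∀ c, Finsupp.linearCombination A n c = c.sum fun t a => γ a * n t := fun c => by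
    rw [Finsupp.linearCombination_apply]
    refine Finsupp.sum_congr (fun s _ => ?_)
    rw [Algebra.smul_def]
    rfl
  have hbij' : Function.Bijective (Finsupp.linearCombination A n) := by
    refine ⟨fun x y hxy => hbij.1 ((hlin x).symm.trans (hxy.trans (hlin y))), fun y => ?_⟩
    obtain ⟨x, hx⟩ := hbij.2 y
    exact ⟨x, (hlin x).trans hx⟩
  haveI : Module.Free A E :=
    Module.Free.of_basis (Module.Basis.ofRepr (LinearEquiv.ofBijective _ hbij').symm)
  change Module.Flat A E
  infer_instance

theorem surjective_coords {A E T : Type u} [CommRing A] [CommRing E] {r : A →+* k}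
    (hnil : IsNilpotent (RingHom.ker r)) (γ : A →+* E) (n : T → E)
    (h : ∀ y : E, ∃ c : T →₀ A, y - (c.sum fun t a => γ a * n t) ∈ (RingHom.ker r).map γ) :
    Function.Surjective (fun c : T →₀ A => c.sum fun t a => γ a * n t) := by
  letI : Algebra A E := γ.toAlgebra
  have hlin : ∀ c, Finsupp.linearCombination A n c = c.sum fun t a => γ a * n t := fun c => by
    rw [Finsupp.linearCombination_apply]
    refine Finsupp.sum_congr (fun s _ => ?_)
    rw [Algebra.smul_def]
    rfl
  have hs := surjective_of_nilpotent (RingHom.ker r) hnil (Finsupp.linearCombination A n) ?_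
  · intro y
    obtain ⟨c, hc⟩ := hs y
    exact ⟨c, (hlin c).symm.trans hc⟩
  · intro y
    obtain ⟨c, hc⟩ := h y
    refine ⟨c, ?_⟩
    rw [Ideal.smul_top_eq_map, hlin]
    exact hc

end basis

variable {k B₀ : Type u} [Field k] [CommRing B₀] [Algebra k B₀] {ι σ : Type u}
  [Algebra (MvPolynomial ι k) B₀] [IsScalarTower k (MvPolynomial ι k) B₀]
  {f : σ → MvPolynomial ι k}

variable {A' A : Type u} [CommRing A'] [CommRing A] [Algebra k A'] [Algebra k A]
  {r' : A' →+* k} {r : A →+* k} {p : A' →+* A} {D : DefRing r (algebraMap k B₀)}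

/-! ### the candidate lift `A'[x]/(F')` -/

section candidate

variable (X : SExt r' r p) (Pf : Pres B₀ f) (ch : Chart f D) (L : RelLift ch p)

/-- the candidate lift. -/
abbrev LE : Type u := MvPolynomial ι A' ⧸ Ideal.span (Set.range L.F')

/-- the structure map of the candidate lift. -/
noncomputable def LEγ : A' →+* LE ch L :=
  (Ideal.Quotient.mk (Ideal.span (Set.range L.F'))).comp (C : A' →+* MvPolynomial ι A')

include X Pf in
theorem LE_aux1 : ∀ z ∈ Ideal.span (Set.range L.F'),
    ((algebraMap (MvPolynomial ι k) B₀).comp (map r')) z = 0 := by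
  intro z hz
  have hle : Ideal.span (Set.range L.F') ≤
      RingHom.ker ((algebraMap (MvPolynomial ι k) B₀).comp (map r')) := by
    rw [Ideal.span_le]
    rintro _ ⟨s, rfl⟩
    change ((algebraMap (MvPolynomial ι k) B₀).comp (map r')) (L.F' s) = 0
    rw [RingHom.comp_apply, L.red_F' X ch, Pf.hf]
  exact RingHom.mem_ker.mp (hle hz)

theorem LE_aux2 : ∀ z ∈ Ideal.span (Set.range L.F'), (ch.τ.comp (map p)) z = 0 := by
  intro z hz
  have hle : Ideal.span (Set.range L.F') ≤ RingHom.ker (ch.τ.comp (map p)) := by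
    rw [Ideal.span_le]
    rintro _ ⟨s, rfl⟩
    change (ch.τ.comp (map p)) (L.F' s) = 0
    rw [RingHom.comp_apply, L.hF', ch.τ_F]
  exact RingHom.mem_ker.mp (hle hz)

/-- the projection of the candidate lift to `B₀`. -/
noncomputable def LEπ : LE ch L →+* B₀ :=
  Ideal.Quotient.lift _ ((algebraMap (MvPolynomial ι k) B₀).comp (map r')) (LE_aux1 X Pf ch L)

/-- the map from the candidate lift to the deformation. -/
noncomputable def LEG : LE ch L →+* D.E :=
  Ideal.Quotient.lift _ (ch.τ.comp (map p)) (LE_aux2 ch L)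

theorem LEπ_mk (z : MvPolynomial ι A') :
    LEπ X Pf ch L (Ideal.Quotient.mk _ z) = algebraMap (MvPolynomial ι k) B₀ (map r' z) := by
  unfold LEπ
  rw [Ideal.Quotient.lift_mk]
  rfl

theorem LEG_mk (z : MvPolynomial ι A') :
    LEG ch L (Ideal.Quotient.mk _ z) = ch.τ (map p z) := by
  unfold LEG
  rw [Ideal.Quotient.lift_mk]
  rfl

theorem LEπ_γ (a : A') : LEπ X Pf ch L (LEγ ch L a) = algebraMap k B₀ (r' a) := by
  unfold LEγ
  rw [RingHom.comp_apply, LEπ_mk, map_C, algebraMap_C]

theorem LEG_γ (a : A') : LEG ch L (LEγ ch L a) = D.γ (p a) := by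
  unfold LEγ
  rw [RingHom.comp_apply, LEG_mk, map_C, ch.τ_C]

theorem π_LEG (y : LE ch L) : D.π (LEG ch L y) = LEπ X Pf ch L y := by
  obtain ⟨z, rfl⟩ := Ideal.Quotient.mk_surjective y
  rw [LEG_mk, LEπ_mk, ch.π_τ, X.red_p]

theorem LEπ_surj : Function.Surjective (LEπ X Pf ch L) := by
  intro b
  obtain ⟨g, hg⟩ := Pf.surj b
  refine ⟨Ideal.Quotient.mk _ (map (algebraMap k A') g), ?_⟩
  rw [LEπ_mk, map_up_id X.hr', hg]

theorem LE_mk_lc (Q' : σ →₀ MvPolynomial ι A') :
    Ideal.Quotient.mk (Ideal.span (Set.range L.F')) (Finsupp.linearCombination _ L.F' Q') = 0 := by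
  rw [Ideal.Quotient.eq_zero_iff_mem]
  exact (mem_span_range_iff_lc L.F' _).mpr ⟨Q', rfl⟩

/-- the kernel of the projection is generated by the augmentation ideal. -/
theorem LE_ker_π (y : LE ch L) (hy : LEπ X Pf ch L y = 0) :
    y ∈ (RingHom.ker r').map (LEγ ch L) := by
  obtain ⟨z, rfl⟩ := Ideal.Quotient.mk_surjective y
  rw [LEπ_mk] at hy
  obtain ⟨q, hq⟩ := (mem_span_range_iff_lc f _).mp (Pf.ker _ hy)
  obtain ⟨z₁, hz₁⟩ : ∃ z₁ : MvPolynomial ι A', z₁ = z -
      Finsupp.linearCombination _ L.F' (mr (map (algebraMap k A')) q) := ⟨_, rfl⟩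
  have h1 : z₁ ∈ Ideal.map (C : A' →+* MvPolynomial ι A') (RingHom.ker r') := by
    rw [← MvPolynomial.ker_map, RingHom.mem_ker, hz₁, map_sub, L.red_lc X ch, X.mr_red_up, hq,
      sub_self]
  have h2 : Ideal.Quotient.mk (Ideal.span (Set.range L.F')) z =
      Ideal.Quotient.mk (Ideal.span (Set.range L.F')) z₁ := by
    rw [hz₁, map_sub, LE_mk_lc, sub_zero]
  rw [h2]
  unfold LEγ
  rw [← Ideal.map_map]
  exact Ideal.mem_map_of_mem _ h1

end candidate

/-! ### flatness of the candidate lift -/

section flat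

variable (X : SExt r' r p) (Pf : Pres B₀ f) (ch : Chart f D) (L : RelLift ch p)
  {n : ℕ} (bd : BData k (RingHom.ker p) n)
  (hstar : ∀ Q' : σ →₀ MvPolynomial ι A', InRel ch p Q' → ∀ j,
    algebraMap (MvPolynomial ι k) B₀ (cf (bd.lam j) (Finsupp.linearCombination _ L.F' Q')) = 0)

include hstar in
/-- the flatness criterion for the candidate lift. -/
theorem LE_crit (y : Fin n → LE ch L) (hy : ∑ j, LEγ ch L (bd.t j) * y j = 0) (j₀ : Fin n) :
    LEπ X Pf ch L (y j₀) = 0 := by
  classical
  choose z hz using fun j => Ideal.Quotient.mk_surjective (y j)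
  obtain ⟨w, hw⟩ : ∃ w : MvPolynomial ι A', w = ∑ j, C (bd.t j) * z j := ⟨_, rfl⟩
  have hw0 : Ideal.Quotient.mk (Ideal.span (Set.range L.F')) w = 0 := by
    rw [hw, map_sum, ← hy]
    refine Finset.sum_congr rfl (fun j _ => ?_)
    rw [map_mul, hz]
    rfl
  obtain ⟨H', hH'⟩ := (mem_span_range_iff_lc L.F' w).mp (Ideal.Quotient.eq_zero_iff_mem.mp hw0)
  have hrel : InRel ch p H' := by
    unfold InRel
    rw [← L.map_p_lc, hH', hw, map_sum]
    refine Finset.sum_eq_zero (fun j _ => ?_)
    rw [map_mul, map_C, RingHom.mem_ker.mp (bd.mem j), map_zero, zero_mul]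
  have h1 := hstar H' hrel j₀
  rw [hH', hw, map_sum] at h1
  have h2 : ∑ j, cf (bd.lam j₀) (C (bd.t j) * z j) = map r' (z j₀) := by
    have : ∀ j, cf (bd.lam j₀) (C (bd.t j) * z j) =
        (if j₀ = j then (1 : k) else 0) • map r' (z j) := fun j => by
      rw [cf_C_mul X.hr' X.hJ _ _ (bd.mem j), bd.dual]
    simp only [this, ite_smul, one_smul, zero_smul]
    rw [Finset.sum_ite_eq]
    simp
  rw [h2] at h1
  rw [← hz j₀, LEπ_mk]
  exact h1

include X Pf hstar in
/-- **the candidate lift is a deformation lifting `D`.** -/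
theorem exists_defRing_of_star :
    ∃ D' : DefRing r' (algebraMap k B₀), Nonempty (DefRing.Hom p D' D) := by
  classical
  obtain ⟨T, b, hsp, hli⟩ := exists_basis (algebraMap k B₀)
  choose nn hnn using fun t => LEπ_surj X Pf ch L (b t)
  have hrs : Function.Surjective r := fun c => ⟨algebraMap k A c, X.hr c⟩
  have heD : ∀ t, D.π (LEG ch L (nn t)) = b t := fun t => by rw [π_LEG X Pf, hnn]
  have hbD := D.comb_bijective b (fun t => LEG ch L (nn t)) hrs X.hnil hsp hli heD
  -- formulas
  have hπsum : ∀ c : T →₀ A', LEπ X Pf ch L (c.sum fun t a => LEγ ch L a * nn t) =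
      (c.mapRange r' (map_zero r')).sum (fun t x => algebraMap k B₀ x * b t) := by
    intro c
    rw [map_finsuppSum, Finsupp.sum_mapRange_index (fun s => by rw [map_zero, zero_mul])]
    refine Finsupp.sum_congr (fun t _ => ?_)
    rw [map_mul, LEπ_γ, hnn]
  have hGsum : ∀ c : T →₀ A', LEG ch L (c.sum fun t a => LEγ ch L a * nn t) =
      D.comb (fun t => LEG ch L (nn t)) (c.mapRange p (map_zero p)) := by
    intro c
    unfold DefRing.comb
    rw [map_finsuppSum, Finsupp.sum_mapRange_index (fun s => by rw [map_zero, zero_mul])]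
    refine Finsupp.sum_congr (fun t _ => ?_)
    rw [map_mul, LEG_γ]
  -- surjectivity of coordinates
  have hsurj : Function.Surjective (fun c : T →₀ A' => c.sum fun t a => LEγ ch L a * nn t) := by
    refine surjective_coords X.hnil' (LEγ ch L) nn (fun y => ?_)
    obtain ⟨c₀, hc₀⟩ := hsp (LEπ X Pf ch L y)
    refine ⟨c₀.mapRange (algebraMap k A') (map_zero _), LE_ker_π X Pf ch L _ ?_⟩
    rw [map_sub, hπsum, ← hc₀, sub_eq_zero]
    congr 1
    ext t
    rw [Finsupp.mapRange_apply, Finsupp.mapRange_apply, X.hr']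
  -- injectivity of coordinates
  have hinj : Function.Injective (fun c : T →₀ A' => c.sum fun t a => LEγ ch L a * nn t) := by
    have hzero : ∀ c : T →₀ A', (c.sum fun t a => LEγ ch L a * nn t) = 0 → c = 0 := by
      intro c hc
      have h1 : c.mapRange p (map_zero p) = 0 := by
        apply hbD.1
        rw [← hGsum, hc, map_zero, DefRing.comb_zero]
      have hp0 : ∀ t, c t ∈ RingHom.ker p := fun t => by
        have := DFunLike.congr_fun h1 t
        rw [Finsupp.mapRange_apply] at this
        exact RingHom.mem_ker.mpr this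
      have hdec : ∀ t, c t = ∑ j, bd.lam j (c t) • bd.t j := fun t => bd.dec _ (hp0 t)
      obtain ⟨y, hy⟩ : ∃ y : Fin n → LE ch L, y = fun j =>
          ∑ t ∈ c.support, LEγ ch L (algebraMap k A' (bd.lam j (c t))) * nn t := ⟨_, rfl⟩
      have hsum : ∑ j, LEγ ch L (bd.t j) * y j = 0 := by
        rw [← hc, hy]
        unfold Finsupp.sum
        simp only [Finset.mul_sum]
        rw [Finset.sum_comm]
        refine Finset.sum_congr rfl (fun t _ => ?_)
        conv_rhs => rw [hdec t]
        rw [map_sum, Finset.sum_mul]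
        refine Finset.sum_congr rfl (fun j _ => ?_)
        rw [Algebra.smul_def, map_mul]
        ring
      have hπy : ∀ j, LEπ X Pf ch L (y j) = 0 := LE_crit X Pf ch L bd hstar y hsum
      have hlam : ∀ j, c.mapRange (bd.lam j) (map_zero _) = 0 := by
        intro j
        apply hli
        rw [Finsupp.sum_mapRange_index (fun s => by rw [map_zero, zero_mul])]
        have := hπy j
        rw [hy, map_sum] at this
        rw [← this]
        unfold Finsupp.sum
        refine Finset.sum_congr rfl (fun t _ => ?_)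
        rw [map_mul, LEπ_γ, X.hr', hnn]
      ext t
      rw [Finsupp.coe_zero, Pi.zero_apply, hdec t]
      refine Finset.sum_eq_zero (fun j _ => ?_)
      have := DFunLike.congr_fun (hlam j) t
      rw [Finsupp.mapRange_apply, Finsupp.coe_zero, Pi.zero_apply] at this
      rw [this, zero_smul]
    intro c c' hcc
    have hsub : ((c - c').sum fun t a => LEγ ch L a * nn t) = 0 := by
      have h := Finsupp.sum_sub_index (f := c) (g := c')
        (h := fun t a => LEγ ch L a * nn t) (fun t a a' => by rw [map_sub, sub_mul])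
      rw [h]
      exact sub_eq_zero.mpr hcc
    exact sub_eq_zero.mp (hzero _ hsub)
  have hflat : (LEγ ch L).Flat := flat_of_bijective (LEγ ch L) nn ⟨hinj, hsurj⟩
  exact ⟨{ E := LE ch L
           γ := LEγ ch L
           π := LEπ X Pf ch L
           π_γ := LEπ_γ X Pf ch L
           π_surj := LEπ_surj X Pf ch L
           ker_π := LE_ker_π X Pf ch L
           flat := hflat },
    ⟨{ G := LEG ch L, G_γ := LEG_γ ch L, π_G := π_LEG X Pf ch L }⟩⟩

end flat

/-! ### correcting the lifts when the classes vanish -/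

section correct

variable (X : SExt r' r p) (Pf : Pres B₀ f) (ch : Chart f D) (L : RelLift ch p)
  {n : ℕ} (bd : BData k (RingHom.ker p) n)

theorem linearMap_eq_lc {M : Type u} [AddCommGroup M] [Module (MvPolynomial ι k) M]
    (G : (σ →₀ MvPolynomial ι k) →ₗ[MvPolynomial ι k] M) (x : σ →₀ MvPolynomial ι k) :
    G x = Finsupp.linearCombination (MvPolynomial ι k) (fun s => G (Finsupp.single s 1)) x := by
  induction x using Finsupp.induction_linear with
  | zero => rw [map_zero, map_zero]
  | add x y hx hy => rw [map_add, map_add, hx, hy]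
  | single s a =>
    rw [Finsupp.linearCombination_single, ← map_smul, Finsupp.smul_single, smul_eq_mul, mul_one]

/-- **if the obstruction classes vanish, the deformation lifts.** -/
theorem exists_lift_of_obV_eq_zero (h0 : ∀ j, obV X Pf ch L (bd.lam j) = 0) :
    ∃ D' : DefRing r' (algebraMap k B₀), Nonempty (DefRing.Hom p D' D) := by
  classical
  choose G hG using fun j => (obV_eq_zero_iff X Pf ch L (bd.lam j)).mp (h0 j)
  choose h hh using fun (j : Fin n) (s : σ) => Pf.surj (G j (Finsupp.single s 1))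
  obtain ⟨Hh, hHh⟩ : ∃ Hh : σ → MvPolynomial ι A', Hh = fun s =>
      ∑ j, C (bd.t j) * map (algebraMap k A') (h j s) := ⟨_, rfl⟩
  have hHmem : ∀ s, Hh s ∈ Ideal.map (C : A' →+* MvPolynomial ι A') (RingHom.ker p) := by
    intro s
    rw [hHh]
    refine Ideal.sum_mem _ (fun j _ => Ideal.mul_mem_right _ _ (Ideal.mem_map_of_mem _ (bd.mem j)))
  obtain ⟨L'', hL''⟩ : ∃ L'' : RelLift ch p, ∀ s, L''.F' s = L.F' s - Hh s := by
    refine ⟨⟨fun s => L.F' s - Hh s, fun s => ?_⟩, fun s => rfl⟩
    have := hHmem s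
    rw [← MvPolynomial.ker_map, RingHom.mem_ker] at this
    rw [map_sub, this, sub_zero, L.hF']
  have hcfH : ∀ j₀ s, cf (bd.lam j₀) (Hh s) = h j₀ s := by
    intro j₀ s
    rw [hHh, map_sum]
    have : ∀ j, cf (bd.lam j₀) (C (bd.t j) * map (algebraMap k A') (h j s)) =
        (if j₀ = j then (1 : k) else 0) • h j s := fun j => by
      rw [cf_C_mul X.hr' X.hJ _ _ (bd.mem j), bd.dual, map_up_id X.hr']
    simp only [this, ite_smul, one_smul, zero_smul]
    rw [Finset.sum_ite_eq]
    simp
  refine exists_defRing_of_star X Pf ch L'' bd (fun Q' hQ j₀ => ?_)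
  have hq0 : Finsupp.linearCombination _ f (mr (map r') Q') = 0 := by
    rw [← L.red_lc X ch, ← X.red_p, L.map_p_lc, hQ, map_zero]
  obtain ⟨q, hq⟩ : ∃ q : Kos.Q (MvPolynomial ι k) f, (q : σ →₀ MvPolynomial ι k) =
      mr (map r') Q' := ⟨⟨_, LinearMap.mem_ker.mpr hq0⟩, rfl⟩
  have h1 : Finsupp.linearCombination _ L''.F' Q' =
      Finsupp.linearCombination _ L.F' Q' - Finsupp.linearCombination _ Hh Q' := by
    rw [← lc_sub_fun L.F' Hh Q']
    exact lc_congr hL'' _
  have hfun : (fun s => algebraMap (MvPolynomial ι k) B₀ (cf (bd.lam j₀) (Hh s))) =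
      fun s => G j₀ (Finsupp.single s 1) := funext fun s => by rw [hcfH, hh]
  rw [h1, map_sub, map_sub, ← gl_spec X Pf ch L (bd.lam j₀) hQ q hq.symm, ← hG j₀ q,
    ev_cf_lc_H X Hh hHmem, hfun, ← hq, ← linearMap_eq_lc (G j₀) q, sub_self]

end correct

end Groth.Agent.Lib.LeadObs
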