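import Mathlib
import Groth.Agent.Lib.LeadObsC
import Groth.Agent.Lib.LeadLxA

/-!
# A lift of the deformation forces the obstruction class to vanish (for S12264/S12268)
-/

set_option autoImplicit false
set_option maxHeartbeats 400000
set_option linter.style.haveILetI false
set_option linter.unusedSectionVars false
set_option linter.unusedVariables false

universe u

namespace Groth.Agent.Lib.LeadObs

open MvPolynomial Groth.Agent.Lib.LeadHull Groth.Agent.Lib.Helper19

variable {k B₀ : Type u} [Field k] [CommRing B₀] [Algebra k B₀] {ι σ : Type u}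
  [Algebra (MvPolynomial ι k) B₀] [IsScalarTower k (MvPolynomial ι k) B₀]
  {f : σ → MvPolynomial ι k}

variable {A' A : Type u} [CommRing A'] [CommRing A] [Algebra k A'] [Algebra k A]
  {r' : A' →+* k} {r : A →+* k} {p : A' →+* A} {D : DefRing r (algebraMap k B₀)}

section crit

variable (X : SExt r' r p) {n : ℕ} (bd : BData k (RingHom.ker p) n)

include X in
/-- the flatness criterion for a flat deformation over `A'`. -/
theorem crit_of_flat (D₁ : DefRing r' (algebraMap k B₀)) (y : Fin n → D₁.E)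
    (hy : ∑ j, D₁.γ (bd.t j) * y j = 0) (j₀ : Fin n) : D₁.π (y j₀) = 0 := by
  obtain ⟨κ, a, yy, h1, h2⟩ := Groth.Agent.Lib.LeadLx.eqCrit D₁.γ D₁.flat bd.t y hy
  have h3 : ∀ l i, r' (a i l) = 0 := by
    intro l
    apply bd.eq_zero_of_sum
    rw [← h2 l]
    refine Finset.sum_congr rfl (fun i _ => ?_)
    rw [Algebra.smul_def, mul_comm (bd.t i)]
    exact (mul_eq_of_mem X.hr' X.hJ (a i l) (bd.t i) (bd.mem i)).symm
  rw [h1 j₀, map_sum]
  refine Finset.sum_eq_zero (fun l _ => ?_)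
  rw [map_mul, D₁.π_γ, h3, map_zero, zero_mul]

end crit

section main

variable (X : SExt r' r p) (Pf : Pres B₀ f) (ch : Chart f D) (L : RelLift ch p)
  {n : ℕ} (bd : BData k (RingHom.ker p) n)

include X Pf bd in
/-- **if the deformation lifts, the obstruction class vanishes.** -/
theorem obV_eq_zero_of_lift (D₁ : DefRing r' (algebraMap k B₀)) (h : DefRing.Hom p D₁ D)
    (l : A' →ₗ[k] k) : obV X Pf ch L l = 0 := by
  classical
  -- bases
  obtain ⟨T, b, hsp, hli⟩ := exists_basis (algebraMap k B₀)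
  choose nn hnn using fun t => D₁.π_surj (b t)
  have hrs' : Function.Surjective r' := fun c => ⟨algebraMap k A' c, X.hr' c⟩
  have hrs : Function.Surjective r := fun c => ⟨algebraMap k A c, X.hr c⟩
  have hb₁ := D₁.comb_bijective b nn hrs' X.hnil' hsp hli hnn
  have heD : ∀ t, D.π (h.G (nn t)) = b t := fun t => by rw [h.π_G, hnn]
  have hbD := D.comb_bijective b (fun t => h.G (nn t)) hrs X.hnil hsp hli heD
  -- `h.G` is surjective with kernel generated by `J`
  have hGsurj : Function.Surjective h.G := by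
    intro y
    obtain ⟨c, hc⟩ := hbD.2 y
    obtain ⟨c', hc'⟩ := Finsupp.mapRange_surjective p (map_zero p) X.hps c
    refine ⟨D₁.comb nn c', ?_⟩
    rw [h.G_comb, hc', hc]
  have hGker : ∀ y : D₁.E, h.G y = 0 → y ∈ (RingHom.ker p).map D₁.γ := by
    intro y hy
    obtain ⟨c', hc'⟩ := hb₁.2 y
    have h1 : c'.mapRange p (map_zero p) = 0 := by
      apply hbD.1
      rw [← h.G_comb, hc', hy, DefRing.comb_zero]
    rw [← hc']
    unfold DefRing.comb Finsupp.sum
    refine Ideal.sum_mem _ (fun t _ => Ideal.mul_mem_right _ _ (Ideal.mem_map_of_mem _ ?_))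
    have := DFunLike.congr_fun h1 t
    rw [Finsupp.mapRange_apply] at this
    exact RingHom.mem_ker.mpr this
  -- a chart map of the lift
  choose x' hx' using fun i : ι => hGsurj (ch.τ (MvPolynomial.X i))
  obtain ⟨τ₁, hτ₁⟩ : ∃ τ₁ : MvPolynomial ι A' →+* D₁.E, τ₁ = eval₂Hom D₁.γ x' := ⟨_, rfl⟩
  have hτ₁C : ∀ c, τ₁ (C c) = D₁.γ c := fun c => by rw [hτ₁]; exact eval₂Hom_C _ _ c
  have hGτ : h.G.comp τ₁ = ch.τ.comp (map p) := by
    apply MvPolynomial.ringHom_ext
    · intro c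
      rw [RingHom.comp_apply, hτ₁C, h.G_γ, RingHom.comp_apply, map_C, ch.τ_C]
    · intro i
      rw [RingHom.comp_apply, hτ₁, eval₂Hom_X', hx', RingHom.comp_apply, map_X]
  have hGτ' : ∀ z, h.G (τ₁ z) = ch.τ (map p z) := fun z => RingHom.congr_fun hGτ z
  obtain ⟨cm₁, hcm₁⟩ : ∃ cm₁ : ChartMap ι D₁, cm₁.τ = τ₁ :=
    ⟨{ τ := τ₁, τ_C := hτ₁C, π_τ := fun z => by
        rw [← h.π_G, hGτ', ch.π_τ, X.red_p] }, rfl⟩
  have hτ₁surj : Function.Surjective τ₁ := by
    rw [← hcm₁]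
    exact cm₁.surjective X.hr' X.hnil' Pf.surj
  -- lifts of the relations in the kernel of `τ₁`
  have hγ₁ : D₁.γ = τ₁.comp (C : A' →+* MvPolynomial ι A') :=
    RingHom.ext fun c => (hτ₁C c).symm
  have hF₁ : ∀ s, ∃ z : MvPolynomial ι A', τ₁ z = 0 ∧ map p z = ch.F s := by
    intro s
    have h1 : h.G (τ₁ (L.F' s)) = 0 := by rw [hGτ', L.hF', ch.τ_F]
    have h2 := hGker _ h1
    rw [hγ₁, ← Ideal.map_map, Ideal.mem_map_iff_of_surjective _ hτ₁surj] at h2
    obtain ⟨y, hy, hy'⟩ := h2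
    refine ⟨L.F' s - y, ?_, ?_⟩
    · rw [map_sub, hy', sub_self]
    · rw [← MvPolynomial.ker_map] at hy
      rw [map_sub, RingHom.mem_ker.mp hy, sub_zero, L.hF']
  choose F₁ hF₁τ hF₁p using hF₁
  obtain ⟨L₁, hL₁⟩ : ∃ L₁ : RelLift ch p, L₁.F' = F₁ := ⟨⟨F₁, hF₁p⟩, rfl⟩
  -- the obstruction cocycle of `L₁` vanishes
  have hzero : ∀ Q' : σ →₀ MvPolynomial ι A', InRel ch p Q' →
      algebraMap (MvPolynomial ι k) B₀ (cf l (Finsupp.linearCombination _ L₁.F' Q')) = 0 := by
    intro Q' hQ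
    obtain ⟨z, hz⟩ : ∃ z : MvPolynomial ι A', z = Finsupp.linearCombination _ L₁.F' Q' :=
      ⟨_, rfl⟩
    have hzmem : z ∈ Ideal.map (C : A' →+* MvPolynomial ι A') (RingHom.ker p) := by
      rw [hz]
      exact L₁.mem ch hQ
    have hzτ : τ₁ z = 0 := by
      rw [hz]
      refine RingHom.mem_ker.mp (lc_mem_right (RingHom.ker τ₁) _ Q' (fun s => ?_))
      rw [hL₁]
      exact RingHom.mem_ker.mpr (hF₁τ s)
    obtain ⟨g, hg⟩ : ∃ g : Fin n → MvPolynomial ι k, g = fun j => cf (bd.lam j) z := ⟨_, rfl⟩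
    have hdec : z = ∑ j, C (bd.t j) * map (algebraMap k A') (g j) := by
      rw [hg]
      exact bd.decomp z hzmem
    have hsum : ∑ j, D₁.γ (bd.t j) * τ₁ (map (algebraMap k A') (g j)) = 0 := by
      rw [← hzτ]
      conv_rhs => rw [hdec]
      rw [map_sum]
      refine Finset.sum_congr rfl (fun j _ => ?_)
      rw [map_mul, hτ₁C]
    have hg0 : ∀ j, algebraMap (MvPolynomial ι k) B₀ (g j) = 0 := by
      intro j
      have := crit_of_flat X bd D₁ _ hsum j
      rw [← hcm₁, cm₁.π_τ, map_up_id X.hr'] at this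
      exact this
    rw [← hz, hdec, map_sum, map_sum]
    refine Finset.sum_eq_zero (fun j _ => ?_)
    rw [cf_C_mul X.hr' X.hJ l _ (bd.mem j), map_up_id X.hr', algebraMap_smul_k, hg0, smul_zero]
  have hobV₁ : obV X Pf ch L₁ l = 0 := by
    rw [obV_eq_zero_iff]
    refine ⟨0, fun q => ?_⟩
    obtain ⟨Q, hQ, hQr⟩ := exists_inRel_lift X Pf ch q.1 (lc_eq_zero_of_mem_Q q)
    rw [gl_spec X Pf ch L₁ l hQ q hQr, hzero Q hQ, LinearMap.zero_apply]
  rw [← obV_indep X Pf ch L L₁ l]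
  exact hobV₁

end main

end Groth.Agent.Lib.LeadObs
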