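import Mathlib
import Groth.Agent.Lib.LeadObsD
import Groth.Agent.Lib.LeadObsE

/-!
# The obstruction element in `T² ⊗ J` (for S12264/S12268)

From the obstruction classes `obV l` (linear in the functional `l`, only depending on `l|_J`) and
a basis of `J` with coordinate functionals we build the element `∑ obV(λ_j) ⊗ t_j` of `T² ⊗ J`;
it is independent of the choices, vanishes exactly when the deformation lifts, and is compatible
with quotients of the extension.
-/

set_option autoImplicit false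
set_option maxHeartbeats 400000
set_option linter.style.haveILetI false
set_option linter.unusedSectionVars false
set_option linter.unusedVariables false

universe u

namespace Groth.Agent.Lib.LeadObs

open MvPolynomial Groth.Agent.Lib.LeadHull Groth.Agent.Lib.Helper19 TensorProduct

/-! ### linear algebra -/

section linalg

variable {k : Type u} [Field k] {V : Type u} [AddCommGroup V] [Module k V]
  {A' A'' : Type u} [CommRing A'] [Algebra k A'] [CommRing A''] [Algebra k A'']

/-- the element `∑ v(λ_j) ⊗ t_j`. -/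
noncomputable def obsElt (v : (A' →ₗ[k] k) →ₗ[k] V) {J : Ideal A'} {n : ℕ} (bd : BData k J n) :
    V ⊗[k] ↥J :=
  ∑ j, v (bd.lam j) ⊗ₜ[k] (⟨bd.t j, bd.mem j⟩ : ↥J)

theorem obsElt_eq_zero_iff (v : (A' →ₗ[k] k) →ₗ[k] V) {J : Ideal A'} {n : ℕ}
    (bd : BData k J n) : obsElt v bd = 0 ↔ ∀ j, v (bd.lam j) = 0 := by
  classical
  constructor
  · intro h j₀
    have h1 := congrArg ((TensorProduct.rid k V).toLinearMap ∘ₗ
      LinearMap.lTensor V ((bd.lam j₀).comp (J.subtype.restrictScalars k))) h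
    rw [map_zero] at h1
    unfold obsElt at h1
    rw [map_sum] at h1
    simp only [LinearMap.comp_apply, LinearMap.lTensor_tmul, LinearEquiv.coe_coe,
      TensorProduct.rid_tmul, LinearMap.restrictScalars_apply, Submodule.subtype_apply,
      bd.dual, ite_smul, one_smul, zero_smul] at h1
    rw [Finset.sum_ite_eq] at h1
    simpa using h1
  · intro h
    unfold obsElt
    refine Finset.sum_eq_zero (fun j _ => ?_)
    rw [h j, TensorProduct.zero_tmul]

theorem eq_zero_of_forall_lam (v : (A' →ₗ[k] k) →ₗ[k] V) {J : Ideal A'} {n : ℕ}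
    (bd : BData k J n) (hv : ∀ l l' : A' →ₗ[k] k, (∀ c ∈ J, l c = l' c) → v l = v l')
    (h : ∀ j, v (bd.lam j) = 0) (l : A' →ₗ[k] k) : v l = 0 := by
  have h1 : v l = v (∑ j, l (bd.t j) • bd.lam j) := by
    apply hv
    intro c hc
    rw [bd.apply_eq l c hc, LinearMap.sum_apply]
    refine Finset.sum_congr rfl (fun j _ => ?_)
    rw [LinearMap.smul_apply, smul_eq_mul]
  rw [h1, map_sum]
  refine Finset.sum_eq_zero (fun j _ => ?_)
  rw [map_smul, h j, smul_zero]

/-- **change of basis data / functoriality of the element.** -/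
theorem obsElt_map {J : Ideal A'} {J'' : Ideal A''} (φ : A' →ₐ[k] A'') (κ : ↥J →ₗ[k] ↥J'')
    (hκ : ∀ x : ↥J, ((κ x : ↥J'') : A'') = φ (x : A')) {n m : ℕ} (bd : BData k J n)
    (bd'' : BData k J'' m) (v : (A' →ₗ[k] k) →ₗ[k] V)
    (hv : ∀ l l' : A' →ₗ[k] k, (∀ c ∈ J, l c = l' c) → v l = v l')
    (v'' : (A'' →ₗ[k] k) →ₗ[k] V) (hv'' : ∀ l'', v'' l'' = v (l'' ∘ₗ φ.toLinearMap)) :
    LinearMap.lTensor V κ (obsElt v bd) = obsElt v'' bd'' := by
  have hκ' : ∀ j, κ ⟨bd.t j, bd.mem j⟩ =
      ∑ i, bd''.lam i (φ (bd.t j)) • (⟨bd''.t i, bd''.mem i⟩ : ↥J'') := by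
    intro j
    apply Subtype.ext
    have hmem : φ (bd.t j) ∈ J'' := by
      rw [← hκ ⟨bd.t j, bd.mem j⟩]
      exact (κ ⟨bd.t j, bd.mem j⟩).2
    rw [hκ, Submodule.coe_sum]
    exact bd''.dec _ hmem
  unfold obsElt
  rw [map_sum]
  simp only [LinearMap.lTensor_tmul, hκ', TensorProduct.tmul_sum, TensorProduct.tmul_smul,
    TensorProduct.smul_tmul']
  rw [Finset.sum_comm]
  refine Finset.sum_congr rfl (fun i _ => ?_)
  rw [← TensorProduct.sum_tmul]
  congr 1
  rw [hv'', ← Finset.sum_congr rfl (fun j _ => (map_smul v (bd''.lam i (φ (bd.t j))) (bd.lam j))),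
    ← map_sum]
  apply hv
  intro c hc
  rw [LinearMap.sum_apply, bd.apply_eq (bd''.lam i ∘ₗ φ.toLinearMap) c hc]
  refine Finset.sum_congr rfl (fun j _ => ?_)
  rw [LinearMap.smul_apply, smul_eq_mul]
  rfl

end linalg

variable {k B₀ : Type u} [Field k] [CommRing B₀] [Algebra k B₀] {ι σ : Type u}
  [Algebra (MvPolynomial ι k) B₀] [IsScalarTower k (MvPolynomial ι k) B₀]
  {f : σ → MvPolynomial ι k}

variable {A' A : Type u} [CommRing A'] [CommRing A] [Algebra k A'] [Algebra k A]
  {r' : A' →+* k} {r : A →+* k} {p : A' →+* A} {D : DefRing r (algebraMap k B₀)}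

section main

variable (X : SExt r' r p) (Pf : Pres B₀ f) (ch : Chart f D) (L : RelLift ch p)

theorem obV_congr' {J : Ideal A'} (hJ : J = RingHom.ker p) (l l' : A' →ₗ[k] k)
    (h : ∀ c ∈ J, l c = l' c) : obV X Pf ch L l = obV X Pf ch L l' :=
  obV_congr X Pf ch L l l' (fun c hc => h c (by rw [hJ]; exact RingHom.mem_ker.mpr hc))

/-- **the obstruction element vanishes exactly when the deformation lifts.** -/
theorem obsElt_eq_zero_iff_lift {J : Ideal A'} (hJ : J = RingHom.ker p) {n : ℕ}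
    (bd : BData k J n) :
    obsElt (obV X Pf ch L) bd = 0 ↔
      ∃ D' : DefRing r' (algebraMap k B₀), Nonempty (DefRing.Hom p D' D) := by
  subst hJ
  rw [obsElt_eq_zero_iff]
  constructor
  · intro h
    exact exists_lift_of_obV_eq_zero X Pf ch L bd h
  · rintro ⟨D', ⟨h⟩⟩ j
    exact obV_eq_zero_of_lift X Pf ch L bd D' h _

/-- **independence of the choices.** -/
theorem obsElt_indep {J : Ideal A'} (hJ : J = RingHom.ker p) {n m : ℕ} (bd : BData k J n)
    (bd₂ : BData k J m) (L₂ : RelLift ch p) :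
    obsElt (obV X Pf ch L) bd = obsElt (obV X Pf ch L₂) bd₂ := by
  have h := obsElt_map (AlgHom.id k A') (LinearMap.id : ↥J →ₗ[k] ↥J) (fun x => rfl) bd bd₂
    (obV X Pf ch L) (obV_congr' X Pf ch L hJ) (obV X Pf ch L₂)
    (fun l'' => by
      rw [obV_indep X Pf ch L L₂]
      rfl)
  rw [LinearMap.lTensor_id, LinearMap.id_apply] at h
  exact h

end main

/-! ### quotients of the extension -/

section quot

variable {A'' : Type u} [CommRing A''] [Algebra k A''] {r'' : A'' →+* k} {q : A'' →+* A}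
  (X : SExt r' r p) (X'' : SExt r'' r q) (Pf : Pres B₀ f) (ch : Chart f D)
  (φ : A' →ₐ[k] A'') (hq : ∀ a, q (φ a) = p a) (hr'' : ∀ a, r'' (φ a) = r' a)

/-- push forward lifts of the relations. -/
noncomputable def RelLift.push (L : RelLift ch p) (hq : ∀ a, q (φ a) = p a) : RelLift ch q where
  F' := fun s => map (φ : A' →+* A'') (L.F' s)
  hF' := fun s => by
    rw [map_map_of_comp (φ : A' →+* A'') q p hq, L.hF']

include hr'' in
theorem obV_push (L : RelLift ch p) (l'' : A'' →ₗ[k] k) :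
    obV X'' Pf ch (L.push ch φ hq) l'' = obV X Pf ch L (l'' ∘ₗ φ.toLinearMap) := by
  rw [obV_apply, obV_apply]
  congr 1
  apply Kos.L2_ext
  intro q₀
  rw [at2_obC, at2_obC]
  obtain ⟨Q', hQ, hQr⟩ := exists_inRel_lift X Pf ch q₀.1 (lc_eq_zero_of_mem_Q q₀)
  have hrel'' : InRel ch q (mr (map (φ : A' →+* A'')) Q') := by
    unfold InRel
    rw [mr_mr]
    have : mr ((map q).comp (map (φ : A' →+* A''))) Q' = mr (map p) Q' :=
      mr_congr (fun z => map_map_of_comp (φ : A' →+* A'') q p hq z) _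
    rw [this]
    exact hQ
  have hred'' : mr (map r'') (mr (map (φ : A' →+* A'')) Q') = (q₀ : σ →₀ MvPolynomial ι k) := by
    rw [mr_mr]
    have : mr ((map r'').comp (map (φ : A' →+* A''))) Q' = mr (map r') Q' :=
      mr_congr (fun z => map_map_of_comp (φ : A' →+* A'') r'' r' hr'' z) _
    rw [this]
    exact hQr
  rw [gl_spec X'' Pf ch (L.push ch φ hq) l'' hrel'' q₀ hred'', gl_spec X Pf ch L _ hQ q₀ hQr]
  have hlc : Finsupp.linearCombination _ (L.push ch φ hq).F' (mr (map (φ : A' →+* A'')) Q') =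
      map (φ : A' →+* A'') (Finsupp.linearCombination _ L.F' Q') := by
    rw [lc_mr]
    rfl
  rw [hlc, cf_map]

include hq hr'' in
/-- **compatibility of the obstruction element with quotients.** -/
theorem obsElt_quot (L : RelLift ch p) (L'' : RelLift ch q) {J : Ideal A'} (hJ : J = RingHom.ker p)
    {J'' : Ideal A''} (hJ'' : J'' = RingHom.ker q) (κ : ↥J →ₗ[k] ↥J'')
    (hκ : ∀ x : ↥J, ((κ x : ↥J'') : A'') = φ (x : A')) {n m : ℕ} (bd : BData k J n)
    (bd'' : BData k J'' m) :
    LinearMap.lTensor _ κ (obsElt (obV X Pf ch L) bd) = obsElt (obV X'' Pf ch L'') bd'' := by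
  rw [obsElt_indep X'' Pf ch L'' hJ'' bd'' bd'' (L.push ch φ hq)]
  exact obsElt_map φ κ hκ bd bd'' (obV X Pf ch L) (obV_congr' X Pf ch L hJ)
    (obV X'' Pf ch (L.push ch φ hq)) (fun l'' => obV_push X X'' Pf ch φ hq hr'' L l'')

end quot

end Groth.Agent.Lib.LeadObs
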