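import Mathlib
import Groth.Prelude.Def_ArtFun3
import Groth.Prelude.Def_ArtFun4
import Groth.Agent.Lib.LeadObsF
import Groth.Agent.Lib.LeadHullD
import Groth.Agent.Lib.Helper19ArtBasic

/-!
# The obstruction theory of `Def_{Spec B₀}` with values in `T²` (for S12264/S12268)
-/

set_option autoImplicit false
set_option maxHeartbeats 400000
set_option linter.style.haveILetI false
set_option linter.unusedSectionVars false
set_option linter.unusedVariables false

universe u

namespace Groth.Agent.Lib.LeadObs

open AlgebraicGeometry CategoryTheory Limits ArtFun ArtFun.Art TensorProduct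
open Groth.Agent.Lib.LeadHull Groth.Agent.Lib.Helper19 Groth.Agent.Lib.LeadLx

/-! ### transfer along an isomorphism of closed fibres -/

section transfer

variable {k B B' : Type u} [Field k] [CommRing B] [CommRing B'] {κ : k →+* B} {κ' : k →+* B'}
  {A A' : Type u} [CommRing A] [CommRing A'] {r : A →+* k} {r' : A' →+* k}

/-- transfer a ring-level deformation along an isomorphism of closed fibres. -/
def transferDef (θ : B ≃+* B') (hθ : ∀ c, θ (κ c) = κ' c) (D : DefRing r κ) : DefRing r κ' where
  E := D.E
  γ := D.γ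
  π := (θ : B →+* B').comp D.π
  π_γ := fun a => by
    rw [RingHom.comp_apply, D.π_γ]
    exact hθ _
  π_surj := θ.surjective.comp D.π_surj
  ker_π := fun e he => D.ker_π e (θ.injective (he.trans (map_zero θ).symm))
  flat := D.flat

/-- transfer a morphism. -/
def transferHom (θ : B ≃+* B') (hθ : ∀ c, θ (κ c) = κ' c) {g : A →+* A'} {D : DefRing r κ}
    {D' : DefRing r' κ} (h : DefRing.Hom g D D') :
    DefRing.Hom g (transferDef θ hθ D) (transferDef θ hθ D') where
  G := h.G
  G_γ := h.G_γ
  π_G := fun e => congrArg θ (h.π_G e)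

/-- a morphism into a transferred deformation, seen from the back-transferred source. -/
def untransferHom (θ : B ≃+* B') (hθ : ∀ c, θ (κ c) = κ' c) (hθ' : ∀ c, θ.symm (κ' c) = κ c)
    {g : A →+* A'} {D₁ : DefRing r κ'} {D : DefRing r' κ}
    (h : DefRing.Hom g D₁ (transferDef θ hθ D)) :
    DefRing.Hom g (transferDef θ.symm hθ' D₁) D where
  G := h.G
  G_γ := h.G_γ
  π_G := fun e => by
    have h1 : θ (D.π (h.G e)) = D₁.π e := h.π_G e
    change D.π (h.G e) = θ.symm (D₁.π e)
    rw [← h1]
    exact (θ.symm_apply_apply _).symm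

end transfer

/-! ### the affine scheme `Spec B₀` -/

section spec

variable {k B₀ : Type u} [Field k] [CommRing B₀] [Algebra k B₀]

/-- the structure morphism of `Spec B₀`. -/
noncomputable abbrev xs (k B₀ : Type u) [Field k] [CommRing B₀] [Algebra k B₀] :
    Spec (CommRingCat.of B₀) ⟶ Spec (CommRingCat.of k) :=
  Spec.map (CommRingCat.ofHom (algebraMap k B₀))

/-- global sections of `Spec B₀`. -/
noncomputable def thetaS (B₀ : Type u) [CommRing B₀] : Γ(Spec (CommRingCat.of B₀), ⊤) ≃+* B₀ :=
  (Scheme.ΓSpecIso (CommRingCat.of B₀)).commRingCatIsoToRingEquiv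

theorem thetaS_kap (c : k) :
    thetaS B₀ (kap (k := k) (xs k B₀) c) = algebraMap k B₀ c := by
  have h := gamS_SpecMap (CommRingCat.ofHom (algebraMap k B₀))
  exact congrArg (fun m => m.hom c) h

theorem thetaS_symm_kap (c : k) :
    (thetaS B₀).symm (algebraMap k B₀ c) = kap (k := k) (xs k B₀) c := by
  rw [← thetaS_kap (B₀ := B₀) c, RingEquiv.symm_apply_apply]

end spec

/-! ### semismall extensions in `Art k k` -/

section art

variable {k : Type u} [Field k] {C' C : Art k k} (p : C' ⟶ C)

theorem sext_of_semismall (hp : IsSemismallExt p) :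
    SExt (resR C') (resR C) p.toAlgHom.toRingHom where
  hr' := fun c => C'.res.commutes c
  hr := fun c => C.res.commutes c
  hp := fun c => p.toAlgHom.commutes c
  hrp := fun a => Art.res_app p a
  hps := hp.1
  hJ := fun a t ha ht => by
    have ha' : a ∈ IsLocalRing.maximalIdeal C' := (Art.mem_maximalIdeal_iff C' a).mpr ha
    have ht' : t ∈ RingHom.ker p.toAlgHom := ht
    have h := Ideal.mul_mem_mul ha' ht'
    rw [hp.2] at h
    exact h
  hnil := isNilpotent_ker_resR C
  hnil' := isNilpotent_ker_resR C'

theorem ker_eq : RingHom.ker p.toAlgHom = RingHom.ker p.toAlgHom.toRingHom := rfl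

theorem exists_bdata_art : ∃ n, Nonempty (BData k (RingHom.ker p.toAlgHom) n) := by
  haveI : Module.Finite k C' := finite_art C'
  exact exists_bdata _

end art

/-! ### the obstruction theory -/

section obs

variable {k B₀ : Type u} [Field k] [CommRing B₀] [Algebra k B₀] {ι σ : Type u}
  [Algebra (MvPolynomial ι k) B₀] [IsScalarTower k (MvPolynomial ι k) B₀]
  {f : σ → MvPolynomial ι k} (Pf : Pres B₀ f)

/-- the deformation functor of `Spec B₀`. -/
noncomputable abbrev defF (k B₀ : Type u) [Field k] [CommRing B₀] [Algebra k B₀] :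
    Art k k ⥤ Type (u + 1) :=
  defFunctor (Λ := k) (Spec (CommRingCat.of B₀)) (xs k B₀)

variable {C' C : Art k k}

/-- the chosen representative of a class. -/
noncomputable def xiU (u : (defF k B₀).obj C) : DefSch (Spec (CommRingCat.of B₀)) (xs k B₀) C :=
  Quotient.out u

theorem xiU_cl (u : (defF k B₀).obj C) : (xiU u).cl = u := Quotient.out_eq u

/-- the chosen ring-level deformation of a class. -/
noncomputable def DU (u : (defF k B₀).obj C) : DefRing (resR C) (algebraMap k B₀) :=
  transferDef (thetaS B₀) (thetaS_kap (k := k) (B₀ := B₀)) (toDefRing (xiU u))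

/-- the chosen chart of a class. -/
noncomputable def chU (u : (defF k B₀).obj C) : Chart f (DU u) :=
  Classical.choice (exists_chart Pf (fun c => C.res.commutes c) (isNilpotent_ker_resR C) (DU u))

/-- the chosen lifts of the relations. -/
noncomputable def liftU (p : C' ⟶ C) (hp : IsSemismallExt p) (u : (defF k B₀).obj C) :
    RelLift (chU Pf u) p.toAlgHom.toRingHom :=
  Classical.choice (exists_relLift (chU Pf u) hp.1)

/-- the chosen dimension of the kernel. -/
noncomputable def nU (p : C' ⟶ C) : ℕ := Classical.choose (exists_bdata_art p)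

/-- the chosen basis data of the kernel. -/
noncomputable def bdU (p : C' ⟶ C) : BData k (RingHom.ker p.toAlgHom) (nU p) :=
  Classical.choice (Classical.choose_spec (exists_bdata_art p))

/-- lifting a class is lifting its ring-level deformation. -/
theorem exists_lift_iff (p : C' ⟶ C) (u : (defF k B₀).obj C) :
    (∃ u' : (defF k B₀).obj C', (defF k B₀).map p u' = u) ↔
      ∃ D' : DefRing (resR C') (algebraMap k B₀),
        Nonempty (DefRing.Hom p.toAlgHom.toRingHom D' (DU u)) := by
  constructor
  · rintro ⟨u', hu'⟩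
    obtain ⟨ξ', rfl⟩ := Quotient.exists_rep u'
    have h1 : (ξ'.baseChange p).cl = (xiU u).cl := by
      rw [xiU_cl]
      exact hu'
    obtain ⟨e⟩ : Nonempty ((ξ'.baseChange p).Iso (xiU u)) := Quotient.exact h1
    have hcomp : DefRing.Hom p.toAlgHom.toRingHom (toDefRing ξ') (toDefRing (xiU u)) :=
      (bcHom p ξ').compId (homOfIso e)
    unfold DU
    exact ⟨transferDef (thetaS B₀) (thetaS_kap (k := k) (B₀ := B₀)) (toDefRing ξ'),
      ⟨transferHom (thetaS B₀) (thetaS_kap (k := k) (B₀ := B₀)) hcomp⟩⟩
  · rintro ⟨D', ⟨h⟩⟩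
    have h' := untransferHom (thetaS B₀) (thetaS_kap (k := k) (B₀ := B₀))
      (thetaS_symm_kap (k := k) (B₀ := B₀)) (D := toDefRing (xiU u))
      (show DefRing.Hom p.toAlgHom.toRingHom D'
        (transferDef (thetaS B₀) (thetaS_kap (k := k) (B₀ := B₀)) (toDefRing (xiU u))) from h)
    obtain ⟨e1⟩ := nonempty_iso_baseChange_of_hom p _ (toDefRing (xiU u)) h'
    obtain ⟨e2⟩ := nonempty_iso_ofDefRing_toDefRing (xiU u)
    refine ⟨(ofDefRing (transferDef (thetaS B₀).symm
      (thetaS_symm_kap (k := k) (B₀ := B₀)) D')).cl, ?_⟩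
    rw [← xiU_cl u]
    exact Quotient.sound ⟨e1.trans e2.symm⟩

/-- **the obstruction theory of `Def_{Spec B₀}` with values in `T²`.** -/
noncomputable def obsTheory :
    ObsTheory (defF k B₀) (Kos.T2 (MvPolynomial ι k) B₀ f Pf.hf B₀) where
  obs := fun {C' C} p hp u =>
    obsElt (obV (sext_of_semismall p hp) Pf (chU Pf u) (liftU Pf p hp u)) (bdU p)
  obs_eq_zero_iff := fun {C' C} p hp u => by
    rw [exists_lift_iff p u]
    exact obsElt_eq_zero_iff_lift (sext_of_semismall p hp) Pf (chU Pf u) (liftU Pf p hp u)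
      (ker_eq p) (bdU p)
  obs_quot := fun {C' C} p hp K hK hKJ hq u => by
    exact (obsElt_quot (sext_of_semismall p hp) (sext_of_semismall (quotFactor hK p hKJ) hq) Pf
      (chU Pf u) (quotMk C' K hK).toAlgHom (fun a => rfl)
      (fun a => Art.res_app (quotMk C' K hK) a) (liftU Pf p hp u)
      (liftU Pf (quotFactor hK p hKJ) hq u) (ker_eq p) (ker_eq (quotFactor hK p hKJ))
      ((kerToQuot hK p hKJ).restrictScalars k) (fun x => rfl) (bdU p)
      (bdU (quotFactor hK p hKJ))).symm

end obs

end Groth.Agent.Lib.LeadObs
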