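import Mathlib
import Groth.Prelude.Def_CotT
import Groth.Agent.Lib.LeadObsG

/-!
# The obstruction theory of `Def_{Spec B₀}` with values in `CotT.T2 P B₀` (for S12264/S12268)
-/

set_option autoImplicit false
set_option maxHeartbeats 400000
set_option linter.style.haveILetI false
set_option linter.unusedSectionVars false
set_option linter.unusedVariables false

universe u

namespace Groth.Agent.Lib.LeadObs

open AlgebraicGeometry CategoryTheory Limits ArtFun ArtFun.Art TensorProduct
open Groth.Agent.Lib.LeadHull Groth.Agent.Lib.Helper19

variable {k B₀ : Type u} [Field k] [CommRing B₀] [Algebra k B₀] {ι σ : Type u}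
  (P : Algebra.Presentation k B₀ ι σ)

/-- the algebra structure of `B₀` over the polynomial ring of the presentation. -/
@[reducible] noncomputable def algP : Algebra (MvPolynomial ι k) B₀ :=
  inferInstanceAs (Algebra P.toExtension.Ring B₀)

theorem towerP : @IsScalarTower k (MvPolynomial ι k) B₀ _ (algP P).toSMul _ :=
  inferInstanceAs (IsScalarTower k P.toExtension.Ring B₀)

/-- the presentation hypotheses for a Mathlib presentation. -/
theorem presOf : @Pres k B₀ _ _ ι σ (algP P) (CotT.rel P) := by
  letI := algP P
  refine ⟨P.algebraMap_surjective, fun z hz => ?_, CotT.algebraMap_rel P⟩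
  have h : z ∈ P.ker := hz
  rw [← P.span_range_relation_eq_ker] at h
  exact h

/-- **the obstruction theory with values in `T²` of the presentation.** -/
noncomputable def obsTheoryP :
    ObsTheory (defFunctor (Λ := k) (Spec (CommRingCat.of B₀))
      (Spec.map (CommRingCat.ofHom (algebraMap k B₀)))) (CotT.T2 P B₀) :=
  @obsTheory k B₀ _ _ _ ι σ (algP P) (towerP P) (CotT.rel P) (presOf P)

theorem subsingleton_tensor {V J : Type u} [AddCommGroup V] [Module k V] [AddCommGroup J]
    [Module k J] [Subsingleton V] : Subsingleton (V ⊗[k] J) := by
  refine ⟨fun x y => ?_⟩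
  have h0 : ∀ z : V ⊗[k] J, z = 0 := by
    intro z
    induction z using TensorProduct.induction_on with
    | zero => rfl
    | tmul v j => rw [Subsingleton.elim v 0, TensorProduct.zero_tmul]
    | add a b ha hb => rw [ha, hb, add_zero]
  rw [h0 x, h0 y]

/-- if the obstruction space vanishes, lifting along semismall extensions is always possible. -/
theorem surjective_map_of_subsingleton {F : Art k k ⥤ Type (u + 1)} {V : Type u} [AddCommGroup V]
    [Module k V] (T : ObsTheory F V) [Subsingleton V] {C' C : Art k k} (p : C' ⟶ C)
    (hp : IsSemismallExt p) : Function.Surjective (F.map p) := by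
  intro u
  haveI := subsingleton_tensor (k := k) (V := V) (J := ↥(RingHom.ker p.toAlgHom))
  exact (T.obs_eq_zero_iff p hp u).mp (Subsingleton.elim _ _)

end Groth.Agent.Lib.LeadObs
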