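import Mathlib
import Groth.Agent.Lib.LeadHullF
import Groth.Agent.Lib.LeadObsD

/-!
# Every class in `Hom(I/I², B₀)` is the class of a first-order deformation (for S12268)

For an extension `Q : R → B₀` and `h : I/I² → B₀` the ring `R[ε] / {(f, g) : f ∈ I, h(f) + ḡ = 0}` is a
deformation of `B₀` over the dual numbers whose class is `h`.
-/

set_option autoImplicit false
set_option maxHeartbeats 400000
set_option linter.style.haveILetI false
set_option linter.unusedSectionVars false
set_option linter.unusedVariables false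

universe u

namespace Groth.Agent.Lib.LeadObs

open TrivSqZeroExt Groth.Agent.Lib.LeadHull

/-- the ring map `S[ε] → E`, `p + ε p' ↦ σ p + t σ p'`. -/
def psiHom {S E : Type*} [CommRing S] [CommRing E] (σ : S →+* E) (t : E) (ht : t * t = 0) :
    TrivSqZeroExt S S →+* E where
  toFun x := σ x.fst + t * σ x.snd
  map_one' := by
    rw [fst_one, snd_one, map_one, map_zero, mul_zero, add_zero]
  map_mul' x y := by
    rw [fst_mul, snd_mul, smul_eq_mul, MulOpposite.smul_eq_mul_unop, MulOpposite.unop_op,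
      map_mul, map_add, map_mul, map_mul]
    linear_combination (-(σ x.snd * σ y.snd)) * ht
  map_zero' := by
    rw [fst_zero, snd_zero, map_zero, mul_zero, add_zero]
  map_add' x y := by
    rw [fst_add, snd_add, map_add, map_add]
    ring

theorem psiHom_apply {S E : Type*} [CommRing S] [CommRing E] (σ : S →+* E) (t : E)
    (ht : t * t = 0) (x : TrivSqZeroExt S S) : psiHom σ t ht x = σ x.fst + t * σ x.snd := rfl

theorem inr_one_mul_inl {S : Type*} [CommRing S] (s : S) :
    (inr 1 * inl s : TrivSqZeroExt S S) = inr s := by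
  refine TrivSqZeroExt.ext ?_ ?_
  · simp
  · simp

variable {k B₀ : Type u} [Field k] [CommRing B₀] [Algebra k B₀]
  (Q : Algebra.Extension.{u} k B₀) (h : Q.Cotangent →ₗ[B₀] B₀)

/-- `h` as a map on the kernel. -/
noncomputable def hk : Q.ker →ₗ[Q.Ring] B₀ :=
  (h.restrictScalars Q.Ring).comp Algebra.Extension.Cotangent.mk

theorem hk_apply (f : Q.ker) : hk Q h f = h (Algebra.Extension.Cotangent.mk f) := rfl

theorem algebraMap_ker (f : Q.ker) : algebraMap Q.Ring B₀ (f : Q.Ring) = 0 :=
  RingHom.mem_ker.mp f.2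

/-- the ideal of `R[ε]` defining the first-order deformation with class `h`. -/
def KI : Ideal (TrivSqZeroExt Q.Ring Q.Ring) where
  carrier := {x | ∃ f : Q.ker, (f : Q.Ring) = x.fst ∧
    hk Q h f + algebraMap Q.Ring B₀ x.snd = 0}
  zero_mem' := ⟨0, rfl, by rw [map_zero, snd_zero, map_zero, add_zero]⟩
  add_mem' := by
    rintro x y ⟨f, hf, hx⟩ ⟨g, hg, hy⟩
    refine ⟨f + g, by rw [Submodule.coe_add, hf, hg, fst_add], ?_⟩
    rw [map_add, snd_add, map_add]
    linear_combination hx + hy
  smul_mem' := by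
    rintro c x ⟨f, hf, hx⟩
    refine ⟨c.fst • f, by rw [Submodule.coe_smul, hf, smul_eq_mul, smul_eq_mul, fst_mul], ?_⟩
    have hf0 : algebraMap Q.Ring B₀ x.fst = 0 := by rw [← hf]; exact algebraMap_ker Q f
    rw [map_smul, smul_eq_mul, snd_mul, smul_eq_mul, MulOpposite.smul_eq_mul_unop,
      MulOpposite.unop_op, map_add, map_mul, map_mul, hf0, Algebra.smul_def]
    linear_combination (algebraMap Q.Ring B₀ c.fst) * hx

theorem mem_KI (x : TrivSqZeroExt Q.Ring Q.Ring) : x ∈ KI Q h ↔
    ∃ f : Q.ker, (f : Q.Ring) = x.fst ∧ hk Q h f + algebraMap Q.Ring B₀ x.snd = 0 := Iff.rfl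

/-- the total ring of the first-order deformation with class `h`. -/
def EH : Type u := TrivSqZeroExt Q.Ring Q.Ring ⧸ KI Q h

noncomputable instance : CommRing (EH Q h) :=
  inferInstanceAs (CommRing (TrivSqZeroExt Q.Ring Q.Ring ⧸ KI Q h))

/-- the quotient map. -/
def mkH : TrivSqZeroExt Q.Ring Q.Ring →+* EH Q h := Ideal.Quotient.mk (KI Q h)

theorem mkH_surjective : Function.Surjective (mkH Q h) := Ideal.Quotient.mk_surjective

theorem mkH_eq_zero_iff (x : TrivSqZeroExt Q.Ring Q.Ring) : mkH Q h x = 0 ↔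
    ∃ f : Q.ker, (f : Q.Ring) = x.fst ∧ hk Q h f + algebraMap Q.Ring B₀ x.snd = 0 :=
  Ideal.Quotient.eq_zero_iff_mem

theorem mkH_eq_iff (x y : TrivSqZeroExt Q.Ring Q.Ring) : mkH Q h x = mkH Q h y ↔
    ∃ f : Q.ker, (f : Q.Ring) = x.fst - y.fst ∧
      hk Q h f + (algebraMap Q.Ring B₀ x.snd - algebraMap Q.Ring B₀ y.snd) = 0 := by
  rw [← sub_eq_zero, ← map_sub, mkH_eq_zero_iff, fst_sub, snd_sub, map_sub]

theorem mkH_eps_mul_mkH_eps : mkH Q h (inr 1) * mkH Q h (inr 1) = 0 := by
  rw [← map_mul, inr_mul_inr, map_zero]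

/-- the structure map `k[ε] → E_h`. -/
noncomputable def γH : DualNumber k →+* EH Q h :=
  psiHom ((mkH Q h).comp ((inlHom Q.Ring Q.Ring).comp (algebraMap k Q.Ring))) (mkH Q h (inr 1))
    (mkH_eps_mul_mkH_eps Q h)

theorem γH_inl (c : k) : γH Q h (inl c) = mkH Q h (inl (algebraMap k Q.Ring c)) := by
  unfold γH
  rw [psiHom_apply, fst_inl, snd_inl, map_zero, mul_zero, add_zero]
  rfl

theorem γH_eps : γH Q h (inr 1) = mkH Q h (inr 1) := by
  unfold γH
  rw [psiHom_apply, fst_inr, snd_inr, map_zero, zero_add, map_one, mul_one]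

theorem γH_mul_inl (a : DualNumber k) (p : Q.Ring) : γH Q h a * mkH Q h (inl p) =
    mkH Q h (inl (algebraMap k Q.Ring a.fst * p) + inr (algebraMap k Q.Ring a.snd * p)) := by
  unfold γH
  rw [psiHom_apply, RingHom.comp_apply, RingHom.comp_apply, RingHom.comp_apply,
    RingHom.comp_apply, ← map_mul, ← map_add, ← map_mul]
  congr 1
  refine TrivSqZeroExt.ext ?_ ?_
  · simp
  · simp

/-- the projection `E_h → B₀`. -/
noncomputable def πH : EH Q h →+* B₀ :=
  Ideal.Quotient.lift (KI Q h)
    ((algebraMap Q.Ring B₀).comp (fstHom Q.Ring Q.Ring Q.Ring).toRingHom) (fun x hx => by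
      obtain ⟨f, hf, _⟩ := hx
      change algebraMap Q.Ring B₀ x.fst = 0
      rw [← hf]
      exact algebraMap_ker Q f)

theorem πH_mk (x : TrivSqZeroExt Q.Ring Q.Ring) :
    πH Q h (mkH Q h x) = algebraMap Q.Ring B₀ x.fst := rfl

theorem πH_γH (a : DualNumber k) : πH Q h (γH Q h a) = algebraMap k B₀ a.fst := by
  unfold γH
  rw [psiHom_apply, map_add, map_mul, πH_mk, fst_inr, map_zero, zero_mul, add_zero,
    RingHom.comp_apply, RingHom.comp_apply, πH_mk]
  change algebraMap Q.Ring B₀ (algebraMap k Q.Ring a.fst) = _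
  rw [← IsScalarTower.algebraMap_apply]

theorem πH_surjective : Function.Surjective (πH Q h) := by
  intro b
  obtain ⟨s, hs⟩ := Q.algebraMap_surjective b
  exact ⟨mkH Q h (inl s), by rw [πH_mk, fst_inl, hs]⟩

/-- elements of the kernel of `π` are multiples of `ε`. -/
theorem exists_eq_eps_mul_of_πH {e : EH Q h} (he : πH Q h e = 0) :
    ∃ s : Q.Ring, e = mkH Q h (inr 1) * mkH Q h (inl s) := by
  obtain ⟨x, rfl⟩ := mkH_surjective Q h e
  rw [πH_mk] at he
  obtain ⟨s, hs⟩ := Q.algebraMap_surjective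
    (hk Q h ⟨x.fst, RingHom.mem_ker.mpr he⟩ + algebraMap Q.Ring B₀ x.snd)
  refine ⟨s, ?_⟩
  rw [← map_mul, inr_one_mul_inl, mkH_eq_iff]
  refine ⟨⟨x.fst, RingHom.mem_ker.mpr he⟩, by rw [fst_inr, sub_zero], ?_⟩
  rw [snd_inr, hs]
  ring

section flat

theorem exists_basis_lc (k B₀ : Type u) [Field k] [CommRing B₀] [Algebra k B₀] :
    ∃ (T : Type u) (b : T → B₀), Function.Bijective (Finsupp.linearCombination k b) := by
  refine ⟨Module.Basis.ofVectorSpaceIndex k B₀, Module.Basis.ofVectorSpace k B₀, ?_⟩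
  rw [← Module.Basis.coe_repr_symm]
  exact (Module.Basis.ofVectorSpace k B₀).repr.symm.bijective

set_option maxHeartbeats 1600000 in
theorem flat_γH : (γH Q h).Flat := by
  classical
  obtain ⟨T, b, hb⟩ := exists_basis_lc k B₀
  choose s hs using fun t => Q.algebraMap_surjective (b t)
  obtain ⟨PP, hPP⟩ : ∃ PP : (T →₀ k) →ₗ[k] Q.Ring, PP = Finsupp.linearCombination k s := ⟨_, rfl⟩
  have halg : ∀ d, algebraMap Q.Ring B₀ (PP d) = Finsupp.linearCombination k b d := by
    intro d
    have h1 := Finsupp.apply_linearCombination k (IsScalarTower.toAlgHom k Q.Ring B₀).toLinearMap s d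
    rw [hPP]
    refine h1.trans ?_
    congr 2
    funext t
    exact hs t
  obtain ⟨fstF, hfstF⟩ : ∃ fstF : (T →₀ DualNumber k) → (T →₀ k),
      ∀ c, fstF c = c.mapRange TrivSqZeroExt.fst fst_zero := ⟨_, fun _ => rfl⟩
  obtain ⟨sndF, hsndF⟩ : ∃ sndF : (T →₀ DualNumber k) → (T →₀ k),
      ∀ c, sndF c = c.mapRange TrivSqZeroExt.snd snd_zero := ⟨_, fun _ => rfl⟩
  have hfst_add : ∀ c c', fstF (c + c') = fstF c + fstF c' := fun c c' => by
    rw [hfstF, hfstF, hfstF]
    exact Finsupp.mapRange_add (fun x y => fst_add x y) c c'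
  have hsnd_add : ∀ c c', sndF (c + c') = sndF c + sndF c' := fun c c' => by
    rw [hsndF, hsndF, hsndF]
    exact Finsupp.mapRange_add (fun x y => snd_add x y) c c'
  have hsum_add : ∀ c c' : T →₀ DualNumber k,
      ((c + c').sum fun t a => γH Q h a * mkH Q h (inl (s t))) =
        (c.sum fun t a => γH Q h a * mkH Q h (inl (s t))) +
          (c'.sum fun t a => γH Q h a * mkH Q h (inl (s t))) := fun c c' =>
    Finsupp.sum_add_index' (fun t => by rw [map_zero, zero_mul])
      (fun t a a' => by rw [map_add, add_mul])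
  -- the normal form of a combination
  have hform : ∀ c : T →₀ DualNumber k, (c.sum fun t a => γH Q h a * mkH Q h (inl (s t))) =
      mkH Q h (inl (PP (fstF c)) + inr (PP (sndF c))) := by
    intro c
    induction c using Finsupp.induction_linear with
    | zero =>
      rw [Finsupp.sum_zero_index, hfstF, hsndF, Finsupp.mapRange_zero, Finsupp.mapRange_zero,
        map_zero, inl_zero, inr_zero, add_zero, map_zero]
    | add c c' hc hc' =>
      rw [hsum_add, hc, hc', hfst_add, hsnd_add, ← map_add (mkH Q h)]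
      congr 1
      rw [map_add, map_add, inl_add, inr_add]
      abel
    | single t a =>
      rw [Finsupp.sum_single_index (by rw [map_zero, zero_mul]), hfstF, hsndF,
        Finsupp.mapRange_single, Finsupp.mapRange_single, hPP,
        Finsupp.linearCombination_single, Finsupp.linearCombination_single, γH_mul_inl,
        Algebra.smul_def, Algebra.smul_def]
  refine flat_of_bijective (γH Q h) (fun t => mkH Q h (inl (s t))) ⟨?_, ?_⟩
  · -- injectivity
    have hzero : ∀ c : T →₀ DualNumber k,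
        (c.sum fun t a => γH Q h a * mkH Q h (inl (s t))) = 0 → c = 0 := by
      intro c hc
      rw [hform, mkH_eq_zero_iff] at hc
      obtain ⟨f, hf, hf2⟩ := hc
      rw [fst_add, fst_inl, fst_inr, add_zero] at hf
      rw [snd_add, snd_inl, snd_inr, zero_add] at hf2
      have h1 : fstF c = 0 := by
        apply hb.1
        rw [map_zero, ← halg, ← hf]
        exact algebraMap_ker Q f
      have h2 : f = 0 := by
        apply Subtype.ext
        rw [hf, h1, map_zero]
        rfl
      have h3 : sndF c = 0 := by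
        apply hb.1
        rw [map_zero, ← halg]
        rw [h2, map_zero, zero_add] at hf2
        exact hf2
      ext t
      · have := DFunLike.congr_fun h1 t
        rw [hfstF, Finsupp.mapRange_apply] at this
        exact this
      · have := DFunLike.congr_fun h3 t
        rw [hsndF, Finsupp.mapRange_apply] at this
        exact this
    intro c c' hcc
    have hsub : ((c - c').sum fun t a => γH Q h a * mkH Q h (inl (s t))) = 0 := by
      have h' := Finsupp.sum_sub_index (f := c) (g := c')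
        (h := fun t a => γH Q h a * mkH Q h (inl (s t))) (fun t a a' => by rw [map_sub, sub_mul])
      rw [h']
      exact sub_eq_zero.mpr hcc
    exact sub_eq_zero.mp (hzero _ hsub)
  · -- surjectivity
    intro e
    obtain ⟨x, rfl⟩ := mkH_surjective Q h e
    obtain ⟨d₁, hd₁⟩ := hb.2 (algebraMap Q.Ring B₀ x.fst)
    have hmem : x.fst - PP d₁ ∈ Q.ker := by
      rw [Algebra.Extension.ker, RingHom.mem_ker, map_sub, halg, hd₁, sub_self]
    obtain ⟨d₂, hd₂⟩ := hb.2 (hk Q h ⟨_, hmem⟩ + algebraMap Q.Ring B₀ x.snd)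
    obtain ⟨c, hc⟩ : ∃ c : T →₀ DualNumber k,
        c = d₁.mapRange inl (inl_zero _) + d₂.mapRange inr (inr_zero _) := ⟨_, rfl⟩
    have hc1 : fstF c = d₁ := by
      ext t
      rw [hfstF, Finsupp.mapRange_apply, hc, Finsupp.add_apply, Finsupp.mapRange_apply,
        Finsupp.mapRange_apply, fst_add, fst_inl, fst_inr, add_zero]
    have hc2 : sndF c = d₂ := by
      ext t
      rw [hsndF, Finsupp.mapRange_apply, hc, Finsupp.add_apply, Finsupp.mapRange_apply,
        Finsupp.mapRange_apply, snd_add, snd_inl, snd_inr, zero_add]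
    refine ⟨c, ?_⟩
    change (c.sum fun t a => γH Q h a * mkH Q h (inl (s t))) = _
    rw [hform, hc1, hc2]
    symm
    rw [mkH_eq_iff]
    refine ⟨⟨_, hmem⟩, by rw [fst_add, fst_inl, fst_inr, add_zero], ?_⟩
    rw [snd_add, snd_inl, snd_inr, zero_add, halg, hd₂]
    ring

end flat

variable {r : DualNumber k →+* k} (hr : ∀ a, r a = a.fst)

/-- the first-order deformation with class `h`. -/
noncomputable def DH : DefRing r (algebraMap k B₀) where
  E := EH Q h
  γ := γH Q h
  π := πH Q h
  π_γ := fun a => by rw [πH_γH, hr]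
  π_surj := πH_surjective Q h
  ker_π := fun e he => by
    obtain ⟨s, rfl⟩ := exists_eq_eps_mul_of_πH Q h he
    rw [← γH_eps]
    refine Ideal.mul_mem_right _ _ (Ideal.mem_map_of_mem _ ?_)
    rw [RingHom.mem_ker, hr, fst_inr]
  flat := flat_γH Q h

theorem epsD_DH : epsD (DH Q h hr) = mkH Q h (inr 1) := γH_eps Q h

/-- **the deformation `E_h` has class `h`.** -/
theorem hasClass_DH : HasClass Q (DH Q h hr) (Submodule.Quotient.mk h) := by
  refine ⟨(mkH Q h).comp (inlHom Q.Ring Q.Ring), h, ⟨fun c => ?_, fun p => ?_⟩, fun f => ?_, rfl⟩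
  · exact (γH_inl Q h c).symm
  · change πH Q h (mkH Q h (inl p)) = _
    rw [πH_mk, fst_inl]
  · obtain ⟨s, hs⟩ := Q.algebraMap_surjective (hk Q h f)
    refine ⟨mkH Q h (inl s), ?_, ?_⟩
    · have key : mkH Q h (inl (f : Q.Ring)) = mkH Q h (inr 1) * mkH Q h (inl s) := by
        rw [← map_mul, inr_one_mul_inl, mkH_eq_iff]
        refine ⟨f, by rw [fst_inl, fst_inr, sub_zero], ?_⟩
        rw [snd_inl, snd_inr, map_zero, hs]
        ring
      rw [epsD_DH]
      exact key
    · change πH Q h (mkH Q h (inl s)) = _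
      rw [πH_mk, fst_inl, hs, hk_apply]

include hr in
theorem exists_defRing_hasClass (v : VT Q) :
    ∃ D : DefRing r (algebraMap k B₀), HasClass Q D v := by
  obtain ⟨h, rfl⟩ := Submodule.Quotient.mk_surjective _ v
  exact ⟨DH Q h hr, hasClass_DH Q h hr⟩

/-- lifts of a presentation exist (index type in any universe). -/
theorem exists_isLift_gen' {A : Type u} [CommRing A] {rA : A →+* k}
    (D : DefRing rA (algebraMap k B₀)) {ι : Type u} (G : Algebra.Generators k B₀ ι) {j : k →+* A}
    (hj : ∀ c, rA (j c) = c) : ∃ σ, IsLift D G.toExtension j σ := by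
  choose t ht using fun i : ι => D.π_surj (G.val i)
  obtain ⟨σ, hσ⟩ : ∃ σ : G.toExtension.Ring →+* D.E,
      σ = MvPolynomial.eval₂Hom (D.γ.comp j) t := ⟨_, rfl⟩
  have h : D.π.comp (MvPolynomial.eval₂Hom (D.γ.comp j) t) =
      (MvPolynomial.aeval (R := k) G.val).toRingHom := by
    apply MvPolynomial.ringHom_ext
    · intro c
      rw [RingHom.comp_apply, MvPolynomial.eval₂Hom_C, RingHom.comp_apply, D.π_γ, hj]
      exact (MvPolynomial.aeval_C _ c).symm
    · intro i
      rw [RingHom.comp_apply, MvPolynomial.eval₂Hom_X', ht]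
      exact (MvPolynomial.aeval_X _ i).symm
  refine ⟨σ, fun c => ?_, fun p => ?_⟩
  · rw [hσ]
    exact MvPolynomial.eval₂Hom_C _ _ c
  · rw [hσ]
    exact (RingHom.congr_fun h p).trans (G.algebraMap_apply p).symm

end Groth.Agent.Lib.LeadObs
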