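import Mathlib
import Groth.Prelude.Def_ArtFun2
import Groth.Agent.Lib.Helper19CutDown

/-!
# Derivations into the residue field and the cotangent space (for S12268)

For a local `k`-algebra `R` with residue field `k`, `Der_k(R, k)` is the `k`-dual of `m/m²`;
for a miniversal family the tangent map `Der_k(R, k) → t_F` is bijective.
-/

set_option autoImplicit false
set_option maxHeartbeats 400000
set_option linter.style.haveILetI false
set_option linter.unusedSectionVars false
set_option linter.unusedVariables false

universe u v

namespace Groth.Agent.Lib.LeadObs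

open IsLocalRing

/-- changing the field of scalars along a bijection does not change the dimension. -/
theorem finrank_eq_of_bijective_algebraMap {K L V : Type*} [Field K] [Field L] [Algebra K L]
    [AddCommGroup V] [Module K V] [Module L V] [IsScalarTower K L V]
    (h : Function.Bijective (algebraMap K L)) : Module.finrank K V = Module.finrank L V := by
  have h1 : Module.finrank K L = 1 := by
    rw [← (LinearEquiv.ofBijective (Algebra.linearMap K L) h).finrank_eq]
    exact Module.finrank_self K
  rw [← Module.finrank_mul_finrank K L V, h1, one_mul]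

section der

variable {k R : Type u} [Field k] [CommRing R] [IsLocalRing R] [Algebra k R] [Algebra R k]
  [IsScalarTower k R k]

theorem algebraMap_algebraMap (c : k) : algebraMap R k (algebraMap k R c) = c := by
  rw [← IsScalarTower.algebraMap_apply]
  rfl

theorem mem_maximalIdeal_iff_algebraMap (x : R) :
    x ∈ maximalIdeal R ↔ algebraMap R k x = 0 := by
  have hsurj : Function.Surjective (algebraMap R k) := fun c => ⟨_, algebraMap_algebraMap c⟩
  have hmax : (RingHom.ker (algebraMap R k)).IsMaximal :=
    RingHom.ker_isMaximal_of_surjective _ hsurj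
  rw [← IsLocalRing.eq_maximalIdeal hmax, RingHom.mem_ker]

theorem sub_mem_maximalIdeal (r : R) :
    r - algebraMap k R (algebraMap R k r) ∈ maximalIdeal R := by
  rw [mem_maximalIdeal_iff_algebraMap (k := k), map_sub, algebraMap_algebraMap, sub_self]

theorem bijective_algebraMap_residueField :
    Function.Bijective (algebraMap k (ResidueField R)) := by
  refine ⟨(algebraMap k (ResidueField R)).injective, fun y => ?_⟩
  obtain ⟨r, rfl⟩ := IsLocalRing.residue_surjective y
  refine ⟨algebraMap R k r, ?_⟩
  rw [IsScalarTower.algebraMap_apply k R (ResidueField R)]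
  symm
  rw [← sub_eq_zero]
  change residue R r - residue R (algebraMap k R (algebraMap R k r)) = 0
  rw [← map_sub, IsLocalRing.residue_eq_zero_iff]
  exact sub_mem_maximalIdeal r

instance isScalarTower_cotangentSpace : IsScalarTower k (ResidueField R) (CotangentSpace R) :=
  IsScalarTower.of_algebraMap_smul (fun c v => by
    rw [IsScalarTower.algebraMap_apply k R (ResidueField R), algebraMap_smul, algebraMap_smul])

/-- the restriction of a derivation to the maximal ideal, on the cotangent space. -/
noncomputable def derDual (D : Derivation k R k) : Module.Dual k (CotangentSpace R) :=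
  Ideal.Cotangent.lift (I := maximalIdeal R)
    ((D : R →ₗ[k] k).comp ((maximalIdeal R).subtype.restrictScalars k)) (fun x y => by
      change D ((x : R) * (y : R)) = 0
      rw [Derivation.leibniz, Algebra.smul_def, Algebra.smul_def,
        (mem_maximalIdeal_iff_algebraMap (k := k) _).mp x.2,
        (mem_maximalIdeal_iff_algebraMap (k := k) _).mp y.2, zero_mul, zero_mul, add_zero])

theorem derDual_toCotangent (D : Derivation k R k) (x : maximalIdeal R) :
    derDual D ((maximalIdeal R).toCotangent x) = D x := rfl

theorem derDual_add (D D' : Derivation k R k) : derDual (D + D') = derDual D + derDual D' := by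
  refine LinearMap.ext (fun v => ?_)
  obtain ⟨x, rfl⟩ := (maximalIdeal R).toCotangent_surjective v
  rw [LinearMap.add_apply, derDual_toCotangent, derDual_toCotangent, derDual_toCotangent]
  rfl

theorem derDual_smul (c : k) (D : Derivation k R k) : derDual (c • D) = c • derDual D := by
  refine LinearMap.ext (fun v => ?_)
  obtain ⟨x, rfl⟩ := (maximalIdeal R).toCotangent_surjective v
  rw [LinearMap.smul_apply, derDual_toCotangent, derDual_toCotangent]
  rfl

/-- `D ↦ D|_m` as a linear map. -/
noncomputable def derDualₗ : Derivation k R k →ₗ[k] Module.Dual k (CotangentSpace R) where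
  toFun := derDual
  map_add' := derDual_add
  map_smul' := derDual_smul

theorem derDualₗ_injective : Function.Injective (derDualₗ (k := k) (R := R)) := by
  rw [← LinearMap.ker_eq_bot, LinearMap.ker_eq_bot']
  intro D hD
  refine Derivation.ext (fun r => ?_)
  have h1 : D r = D (r - algebraMap k R (algebraMap R k r)) := by
    rw [map_sub, Derivation.map_algebraMap, sub_zero]
  have h2 : derDual D ((maximalIdeal R).toCotangent ⟨_, sub_mem_maximalIdeal (k := k) r⟩) = 0 := by
    have : derDual D = 0 := hD
    rw [this, LinearMap.zero_apply]
  rw [derDual_toCotangent] at h2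
  rw [h1]
  exact h2

theorem derDualₗ_surjective : Function.Surjective (derDualₗ (k := k) (R := R)) := by
  intro l
  obtain ⟨proj, hproj⟩ : ∃ proj : R → maximalIdeal R,
      ∀ r, ((proj r : maximalIdeal R) : R) = r - algebraMap k R (algebraMap R k r) :=
    ⟨fun r => ⟨_, sub_mem_maximalIdeal (k := k) r⟩, fun r => rfl⟩
  have hadd : ∀ a b, proj (a + b) = proj a + proj b := fun a b => by
    apply Subtype.ext
    rw [Submodule.coe_add, hproj, hproj, hproj, map_add, map_add]
    ring
  have hsmul : ∀ (c : k) a, proj (c • a) = c • proj a := fun c a => by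
    apply Subtype.ext
    rw [Submodule.coe_smul_of_tower, hproj, hproj, Algebra.smul_def, map_mul, algebraMap_algebraMap,
      Algebra.smul_def, map_mul]
    ring
  have hmul : ∀ a b, (maximalIdeal R).toCotangent (proj (a * b)) =
      a • (maximalIdeal R).toCotangent (proj b) + b • (maximalIdeal R).toCotangent (proj a) := by
    intro a b
    rw [← map_smul, ← map_smul, ← map_add, Ideal.toCotangent_eq]
    have h1 : ((proj (a * b) : maximalIdeal R) : R) - ((a • proj b + b • proj a : maximalIdeal R) : R)
        = -((proj a : R) * (proj b : R)) := by
      rw [Submodule.coe_add, Submodule.coe_smul, Submodule.coe_smul, hproj, hproj, hproj,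
        smul_eq_mul, smul_eq_mul, map_mul, map_mul]
      ring
    rw [h1, pow_two]
    exact (Ideal.neg_mem_iff _).mpr (Ideal.mul_mem_mul (proj a).2 (proj b).2)
  obtain ⟨dl, hdl⟩ : ∃ dl : R →ₗ[k] k, ∀ r, dl r = l ((maximalIdeal R).toCotangent (proj r)) :=
    ⟨{ toFun := fun r => l ((maximalIdeal R).toCotangent (proj r))
       map_add' := fun a b => by rw [hadd, map_add, map_add]
       map_smul' := fun c a => by
         rw [hsmul, LinearMap.map_smul_of_tower, map_smul, RingHom.id_apply] }, fun r => rfl⟩
  have hleib : ∀ a b, dl (a * b) = a • dl b + b • dl a := by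
    intro a b
    rw [hdl, hdl, hdl, hmul, map_add]
    have h2 : ∀ (a : R) (v : CotangentSpace R), l (a • v) = a • l v := fun a v => by
      have h3 : a • v = (algebraMap R k a) • v := by
        rw [← algebraMap_smul R (algebraMap R k a) v, ← sub_eq_zero, ← sub_smul]
        obtain ⟨x, rfl⟩ := (maximalIdeal R).toCotangent_surjective v
        rw [← map_smul, Ideal.toCotangent_eq_zero, pow_two]
        exact Ideal.mul_mem_mul (sub_mem_maximalIdeal (k := k) a) x.2
      rw [h3, map_smul, Algebra.smul_def a, smul_eq_mul]
    rw [h2, h2]
  refine ⟨Derivation.mk' dl hleib, ?_⟩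
  refine LinearMap.ext (fun v => ?_)
  obtain ⟨x, rfl⟩ := (maximalIdeal R).toCotangent_surjective v
  change dl (x : R) = _
  rw [hdl]
  congr 2
  apply Subtype.ext
  rw [hproj, (mem_maximalIdeal_iff_algebraMap (k := k) _).mp x.2, map_zero, sub_zero]

/-- **`dim_k Der_k(R, k)` is the embedding dimension.** -/
theorem finrank_derivation_eq [IsNoetherianRing R] :
    Module.finrank k (Derivation k R k) =
      Module.finrank (ResidueField R) (CotangentSpace R) := by
  rw [(LinearEquiv.ofBijective derDualₗ
    ⟨derDualₗ_injective (k := k) (R := R), derDualₗ_surjective⟩).finrank_eq,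
    Subspace.dual_finrank_eq]
  exact finrank_eq_of_bijective_algebraMap bijective_algebraMap_residueField

end der

section tangent

open CategoryTheory ArtFun ArtFun.Art Groth.Agent.Lib.Helper19

variable {k : Type u} [Field k] {F : Art k k ⥤ Type v} [T : TangentStr F]

/-- **for a family bijective on `k[ε]`, `dim t_F` is the embedding dimension of the base.** -/
theorem finrank_tangentSpace_eq (R : CRing k k) (ξ : Family R.carrier R.res F)
    (hbij : Function.Bijective (ξ.app (dual k k))) :
    Module.finrank k (TangentSpace F) =
      Module.finrank (ResidueField R.carrier) (CotangentSpace R.carrier) := by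
  letI : Algebra R.carrier k := (R.res : R.carrier →+* k).toAlgebra
  haveI : IsScalarTower k R.carrier k :=
    IsScalarTower.of_algebraMap_eq (fun r => (R.res.commutes r).symm)
  have hres : ∀ r, algebraMap R.carrier k r = R.res r := fun _ => rfl
  have hinj : Function.Injective (derHomSet R.res hres) := by
    intro D D' h
    refine Derivation.ext (fun r => ?_)
    exact congrArg (fun φ => dsnd (φ.1 r)) h
  have hb : Function.Bijective (tangentLinear R.res hres ξ) := by
    have h1 : ⇑(tangentLinear R.res hres ξ) = (ξ.app (dual k k)) ∘ (derHomSet R.res hres) := rfl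
    rw [h1]
    exact hbij.comp ⟨hinj, derHomSet_surjective R.res hres⟩
  rw [← (LinearEquiv.ofBijective _ hb).finrank_eq]
  exact finrank_derivation_eq

end tangent

end Groth.Agent.Lib.LeadObs
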