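import Mathlib
import Groth.Prelude.Def_ArtFun3
import Groth.Prelude.Def_ArtFun4
import Groth.Agent.Lib.LeadObsI
import Groth.Agent.Lib.LeadObsG
import Groth.Agent.Lib.LeadHullH

/-!
# The tangent space of `Def_{Spec B₀}` is `Hom(I/I², B₀) / Der` (for S12268)
-/

set_option autoImplicit false
set_option maxHeartbeats 400000
set_option linter.style.haveILetI false
set_option linter.unusedSectionVars false
set_option linter.unusedVariables false

universe u

open AlgebraicGeometry CategoryTheory Limits ArtFun ArtFun.Art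

namespace Groth.Agent.Lib.LeadObs

open Groth.Agent.Lib.LeadLx Groth.Agent.Lib.LeadHull DefRing

/-- a relation between two vector spaces that is the graph of a linear bijection. -/
theorem linearEquiv_of_classes {k V T : Type*} [Field k] [AddCommGroup V] [Module k V]
    [AddCommGroup T] [Module k T] (C : T → V → Prop)
    (hex : ∀ t, ∃ v, C t v) (huniq : ∀ t v v', C t v → C t v' → v = v')
    (hinj : ∀ t t' v, C t v → C t' v → t = t')
    (hsmul : ∀ (c : k) t v, C t v → C (c • t) (c • v))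
    (hadd : ∀ a b va vb vc, C a va → C b vb → C (a + b) vc → vc = va + vb)
    (hsurj : ∀ v, ∃ t, C t v) :
    Nonempty (T ≃ₗ[k] V) := by
  choose φ hφ using hex
  have h1 : ∀ a b, φ (a + b) = φ a + φ b := fun a b => hadd a b _ _ _ (hφ a) (hφ b) (hφ (a + b))
  have h2 : ∀ (c : k) t, φ (c • t) = c • φ t := fun c t =>
    huniq _ _ _ (hφ (c • t)) (hsmul c t _ (hφ t))
  have h3 : Function.Injective φ := fun t t' h => hinj t t' (φ t) (hφ t) (h ▸ hφ t')
  have h4 : Function.Surjective φ := fun v => by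
    obtain ⟨t, ht⟩ := hsurj v
    exact ⟨t, huniq t _ _ (hφ t) ht⟩
  exact ⟨LinearEquiv.ofBijective
    ({ toFun := φ, map_add' := h1, map_smul' := h2 } : T →ₗ[k] V) ⟨h3, h4⟩⟩

section transfer

variable {k B B' : Type u} [Field k] [CommRing B] [CommRing B'] {κ : k →+* B} {κ' : k →+* B'}
  {A A' : Type u} [CommRing A] [CommRing A'] {r : A →+* k} {r' : A' →+* k}

/-- a morphism between transferred deformations is a morphism of the original ones. -/
def untransferHom₂ (θ : B ≃+* B') (hθ : ∀ c, θ (κ c) = κ' c) {g : A →+* A'} {D : DefRing r κ}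
    {D' : DefRing r' κ} (h : DefRing.Hom g (transferDef θ hθ D) (transferDef θ hθ D')) :
    DefRing.Hom g D D' where
  G := h.G
  G_γ := h.G_γ
  π_G := fun e => θ.injective (h.π_G e)

/-- transferring back and forth. -/
def retransferHom (θ : B ≃+* B') (hθ : ∀ c, θ (κ c) = κ' c) (hθ' : ∀ c, θ.symm (κ' c) = κ c)
    (D : DefRing r κ') :
    DefRing.Hom (RingHom.id A) D (transferDef θ hθ (transferDef θ.symm hθ' D)) where
  G := RingHom.id _
  G_γ := fun a => rfl
  π_G := fun e => θ.apply_symm_apply (D.π e)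

end transfer

section spec

variable {Λ k : Type u} [CommRing Λ] [Field k] [Algebra Λ k]
variable {X : Scheme.{u}} [IsAffine X] {x : X ⟶ Spec (CommRingCat.of k)} {A : Art Λ k}

/-- the canonical morphism from a ring-level deformation to the ring-level deformation of its
spectrum. -/
noncomputable def specHom (D₀ : DefRing (resR A) (kap x)) :
    DefRing.Hom (RingHom.id A) D₀ (toDefRing (ofDefRing D₀)) where
  G := (Scheme.ΓSpecIso (CommRingCat.of D₀.E)).inv.hom
  G_γ := fun a => by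
    have e1 : CommRingCat.ofHom D₀.γ ≫ (Scheme.ΓSpecIso (CommRingCat.of D₀.E)).inv =
        gamS (Spec.map (CommRingCat.ofHom D₀.γ)) := by
      unfold gamS
      exact Scheme.ΓSpecIso_inv_naturality _
    exact congrArg (fun m => m.hom a) e1
  π_G := fun e => by
    have e2 : (Scheme.ΓSpecIso (CommRingCat.of D₀.E)).inv ≫
        (X.isoSpec.hom ≫ Spec.map (CommRingCat.ofHom D₀.π)).appTop =
          CommRingCat.ofHom D₀.π := by
      rw [Scheme.Hom.comp_appTop, ← Category.assoc, ← Scheme.ΓSpecIso_inv_naturality,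
        Category.assoc]
      have h3 : X.isoSpec.hom.appTop = (Scheme.ΓSpecIso Γ(X, ⊤)).hom := Scheme.toSpecΓ_appTop X
      rw [h3, Iso.inv_hom_id, Category.comp_id]
    exact congrArg (fun m => m.hom e) e2

end spec

section main

open TrivSqZeroExt

variable {k B₀ : Type u} [Field k] [CommRing B₀] [Algebra k B₀]

/-- the ring-level deformation over `algebraMap k B₀` of a deformation of `Spec B₀`. -/
noncomputable def trD {A : Art k k} (ξ : DefSch (Spec (CommRingCat.of B₀)) (xs k B₀) A) :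
    DefRing (resR A) (algebraMap k B₀) :=
  transferDef (thetaS B₀) (thetaS_kap (k := k) (B₀ := B₀)) (toDefRing ξ)

/-- transfer of morphisms. -/
noncomputable def trHom {A A' : Art k k} {g : A →+* A'}
    {ξ : DefSch (Spec (CommRingCat.of B₀)) (xs k B₀) A}
    {ξ' : DefSch (Spec (CommRingCat.of B₀)) (xs k B₀) A'}
    (h : DefRing.Hom g (toDefRing ξ) (toDefRing ξ')) : DefRing.Hom g (trD ξ) (trD ξ') :=
  transferHom (thetaS B₀) (thetaS_kap (k := k) (B₀ := B₀)) h

set_option maxHeartbeats 1600000 in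
/-- **the tangent space of `Def_{Spec B₀}` is `T¹`.** -/
theorem nonempty_tangent_equiv {ι : Type u} (G : Algebra.Generators k B₀ ι)
    [T : TangentStr (defF k B₀)] :
    Nonempty (TangentSpace (defF k B₀) ≃ₗ[k] VT G.toExtension) := by
  obtain ⟨Q, hQ⟩ : ∃ Q : Algebra.Extension.{u} k B₀, Q = G.toExtension := ⟨_, rfl⟩
  rw [← hQ]
  have hlift1 : ∀ D : DefRing (resR (dual k k)) (algebraMap k B₀),
      ∃ σ, IsLift D Q (inlHom k k) σ := by
    intro D
    rw [hQ]
    exact exists_isLift_gen' D G (fun c => rfl)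
  have hlift2 : ∀ N : DefRing (resR (dual2 k k)) (algebraMap k B₀),
      ∃ σ, IsLift N Q (inlHom k (k × k)) σ := by
    intro N
    rw [hQ]
    exact exists_isLift_gen' N G (fun c => rfl)
  have hr1 : ∀ a : DualNumber k, resR (dual k k) a = a.fst := fun a => rfl
  have hr2 : ∀ a : TrivSqZeroExt k (k × k), resR (dual2 k k) a = a.fst := fun a => rfl
  have htrans : ∀ (ξ ξ' : DefSch (Spec (CommRingCat.of B₀)) (xs k B₀) (dual k k)) (v : VT Q),
      ξ.cl = ξ'.cl → HasClass Q (trD ξ) v → HasClass Q (trD ξ') v := by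
    intro ξ ξ' v hcl H
    obtain ⟨e⟩ : Nonempty (ξ.Iso ξ') := Quotient.exact hcl
    have h1 := HasClass.scale (c := 1) hr1 (g := RingHom.id _) (fun a => rfl)
      (by rw [RingHom.id_apply, inl_one, one_mul]) (trHom (homOfIso e)) H
    rwa [one_smul] at h1
  refine linearEquiv_of_classes (T := TangentSpace (defF k B₀)) (V := VT Q)
    (fun t v => ∃ ξ : DefSch (Spec (CommRingCat.of B₀)) (xs k B₀) (dual k k),
      ξ.cl = t ∧ HasClass Q (trD ξ) v) ?_ ?_ ?_ ?_ ?_ ?_
  · intro t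
    obtain ⟨ξ, rfl⟩ := Quotient.exists_rep t
    obtain ⟨v, hv⟩ := exists_hasClass hr1 (hlift1 (trD ξ))
    exact ⟨v, ξ, rfl, hv⟩
  · rintro t v v' ⟨ξ, h1, H⟩ ⟨ξ', h1', H'⟩
    exact HasClass.unique hr1 H (htrans ξ' ξ v' (h1'.trans h1.symm) H')
  · rintro t t' v ⟨ξ, rfl, H⟩ ⟨ξ', rfl, H'⟩
    obtain ⟨h⟩ := exists_hom_of_hasClass hr1 H H'
    obtain ⟨e3⟩ := nonempty_iso_ofDefRing_of_hom (A := dual k k) (D₁ := toDefRing ξ)
      (D₂ := toDefRing ξ') (untransferHom₂ _ _ h)
    obtain ⟨e1⟩ := nonempty_iso_ofDefRing_toDefRing ξ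
    obtain ⟨e2⟩ := nonempty_iso_ofDefRing_toDefRing ξ'
    exact Quotient.sound ⟨e1.trans (e3.symm.trans e2.symm)⟩
  · rintro c t v ⟨ξ, rfl, H⟩
    refine ⟨ξ.baseChange (scale c), ?_, HasClass.scale hr1 (scale_inl k c) (scale_eps k c)
      (trHom (bcHom (scale c) ξ)) H⟩
    exact (T.smul_eq c ξ.cl).symm
  · rintro a b va vb vc ⟨ξa, rfl, Ha⟩ ⟨ξb, rfl, Hb⟩ ⟨ξc, hc, Hc⟩
    haveI : Subsingleton ((defF k B₀).obj (base k k)) :=
      (h0_defFunctor (Λ := k) (x := xs k B₀)).2
    obtain ⟨z, hz⟩ := (heps_defFunctor (Λ := k) (x := xs k B₀) pr₁ pr₂ isFibreProd_dual2).2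
      ⟨(ξa.cl, ξb.cl), Subsingleton.elim _ _⟩
    obtain ⟨ζ, rfl⟩ := Quotient.exists_rep z
    have h1 : (ζ.baseChange pr₁).cl = ξa.cl := congrArg (fun t => t.1.1) hz
    have h2 : (ζ.baseChange pr₂).cl = ξb.cl := congrArg (fun t => t.1.2) hz
    have h3 : ξc.cl = (ζ.baseChange plus).cl := by
      rw [hc, ← h1, ← h2]
      exact T.add_eq ζ.cl
    exact HasClass.plus hr2 (trD ζ) hr1 hr1 hr1 (pr₁_inl k) (pr₁_e1 k) (pr₁_e2 k)
      (pr₂_inl k) (pr₂_e1 k) (pr₂_e2 k) (plus_inl k) (plus_e1 k) (plus_e2 k)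
      (trHom (bcHom pr₁ ζ)) (trHom (bcHom pr₂ ζ)) (trHom (bcHom plus ζ)) (hlift2 (trD ζ))
      (htrans ξa _ va h1.symm Ha) (htrans ξb _ vb h2.symm Hb) (htrans ξc _ vc h3 Hc)
  · intro v
    obtain ⟨D, hD⟩ := exists_defRing_hasClass Q (r := resR (dual k k)) hr1 v
    obtain ⟨D₀, hD₀⟩ : ∃ D₀ : DefRing (resR (dual k k)) (kap (xs k B₀)),
        D₀ = transferDef (thetaS B₀).symm (thetaS_symm_kap (k := k) (B₀ := B₀)) D := ⟨_, rfl⟩
    have hom1 : DefRing.Hom (RingHom.id _) D (trD (ofDefRing D₀)) := by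
      have h1 := retransferHom (thetaS B₀) (thetaS_kap (k := k) (B₀ := B₀))
        (thetaS_symm_kap (k := k) (B₀ := B₀)) D
      rw [← hD₀] at h1
      exact h1.compId (transferHom (thetaS B₀) (thetaS_kap (k := k) (B₀ := B₀)) (specHom D₀))
    have h2 := HasClass.scale (c := 1) hr1 (g := RingHom.id _) (fun a => rfl)
      (by rw [RingHom.id_apply, inl_one, one_mul]) hom1 hD
    rw [one_smul] at h2
    exact ⟨(ofDefRing D₀).cl, ofDefRing D₀, rfl, h2⟩

end main

end Groth.Agent.Lib.LeadObs
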