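import Mathlib
import Groth.Prelude.Def_CotT
import Groth.Agent.Lib.LeadObsH
import Groth.Agent.Lib.LeadObsJ
import Groth.Agent.Lib.LeadObsK
import Groth.Agent.Lib.LeadTangent
import Groth.Agent.Lib.Helper19CotTIndep
import Groth.Agent.Lib.Helper19FormallySmooth
import Groth.Agent.S12327
import Groth.Agent.S12722
import Groth.Agent.S9443

/-!
# Dimension of the hull of `Def_{Spec B₀}` (for S12268)
-/

set_option autoImplicit false
set_option maxHeartbeats 400000
set_option linter.style.haveILetI false
set_option linter.unusedSectionVars false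
set_option linter.unusedVariables false

universe u

open AlgebraicGeometry CategoryTheory Limits ArtFun ArtFun.Art IsLocalRing

namespace Groth.Agent.Lib.LeadObs

open Groth.Agent.Lib.LeadHull Groth.Agent.Lib.Helper19

variable {k B₀ : Type u} [Field k] [CommRing B₀] [Algebra k B₀] {ι σ : Type u}
  (P : Algebra.Presentation k B₀ ι σ)

/-- **the embedding dimension of a hull of `Def_{Spec B₀}` is `dim T¹`.** -/
theorem finrank_cotangentSpace_hull (H : Hull (defF k B₀)) :
    Module.finrank (ResidueField H.ring.carrier) (CotangentSpace H.ring.carrier) =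
      Module.finrank k (CotT.T1 P B₀) := by
  obtain ⟨T⟩ := Groth.Agent.Lib.LeadTangent.nonempty_tangentStr (defF k B₀)
    (h0_defFunctor (Λ := k) (x := xs k B₀)) (heps_defFunctor (Λ := k) (x := xs k B₀))
  obtain ⟨e⟩ := nonempty_tangent_equiv (k := k) (B₀ := B₀) P.toGenerators
  rw [← finrank_tangentSpace_eq H.ring H.family H.miniversal.2, e.finrank_eq]
  exact ((CotTIndep.T1equivC1 P B₀).restrictScalars k).finrank_eq.symm

theorem hull_bounds (H : Hull (defF k B₀)) :
    ringKrullDim H.ring.carrier ≤ ((Module.finrank k (CotT.T1 P B₀) : ℕ∞) : WithBot ℕ∞) ∧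
      (Module.Finite k (CotT.T2 P B₀) →
        ((Module.finrank k (CotT.T1 P B₀) : ℕ∞) : WithBot ℕ∞) ≤
          ringKrullDim H.ring.carrier + ((Module.finrank k (CotT.T2 P B₀) : ℕ∞) : WithBot ℕ∞)) ∧
      (ringKrullDim H.ring.carrier = ((Module.finrank k (CotT.T1 P B₀) : ℕ∞) : WithBot ℕ∞) ↔
        IsSmoothFunctor (defF k B₀)) := by
  have hA := finrank_cotangentSpace_hull P H
  have hcast : ∀ n : ℕ, ((n : ℕ∞) : WithBot ℕ∞) = (n : WithBot ℕ∞) := fun n => rfl
  rw [hcast, hcast, ← hA]
  have h1 : ringKrullDim H.ring.carrier ≤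
      (Module.finrank (ResidueField H.ring.carrier) (CotangentSpace H.ring.carrier) :
        WithBot ℕ∞) := by
    rw [← IsLocalRing.spanFinrank_maximalIdeal_eq_finrank_cotangentSpace]
    exact ringKrullDim_le_spanFinrank_maximalIdeal _
  refine ⟨h1, fun hT2 => ?_, ?_⟩
  · haveI := hT2
    exact (Groth.Agent.S12327.result (CotT.T2 P B₀) (obsTheoryP P) H).2.1
  · letI : Algebra H.ring.carrier k := (H.ring.res : H.ring.carrier →+* k).toAlgebra
    haveI : IsScalarTower k H.ring.carrier k :=
      IsScalarTower.of_algebraMap_eq (fun r => (H.ring.res.commutes r).symm)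
    have hbij : Function.Bijective (algebraMap k (ResidueField H.ring.carrier)) :=
      bijective_algebraMap_residueField
    haveI := H.ring.isAdicComplete
    have hsm : IsSmoothFunctor (defF k B₀) ↔
        ∃ n : ℕ, Nonempty (H.ring.carrier ≃ₐ[k] MvPowerSeries (Fin n) k) := by
      rw [isSmoothFunctor_iff_of_versal (h0_defFunctor (Λ := k) (x := xs k B₀)) H.ring H.family
        H.miniversal.1]
      haveI : IsAdicComplete (maximalIdeal k) k := isAdicComplete_field
      exact Groth.Agent.S12722.result (fun c => ⟨c, rfl⟩) H.ring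
    rw [hsm]
    constructor
    · intro hdim
      haveI : IsRegularLocalRing H.ring.carrier :=
        (IsRegularLocalRing.iff_finrank_cotangentSpace _).mpr hdim.symm
      exact Groth.Agent.S9443.result H.ring.carrier k hbij
    · rintro ⟨n, ⟨e⟩⟩
      haveI : IsRegularLocalRing H.ring.carrier :=
        IsRegularLocalRing.of_ringEquiv e.symm.toRingEquiv
      exact ((IsRegularLocalRing.iff_finrank_cotangentSpace _).mp inferInstance).symm

end Groth.Agent.Lib.LeadObs
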