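import Mathlib
import Groth.Prelude.Def_Omega4
import Groth.Agent.Lib.Helper18OmLS9
import Groth.Agent.Lib.Helper23QCohAbelian

set_option maxHeartbeats 400000
set_option autoImplicit false
set_option linter.style.haveILetI false
set_option linter.unusedSectionVars false
universe u
open CategoryTheory CategoryTheory.Limits AlgebraicGeometry TopologicalSpace Opposite
open KaehlerDifferential TensorProduct
open Groth.Agent.Helper13PullbackUnit Groth.Agent.Helper18OmLS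
open Groth.Agent.Lib.Helper23.ModLocal Groth.Agent.Lib.Helper23.QCohLocal

/-!
# Differentials of a fibre product: `p^*Ω_X ⊞ q^*Ω_Y ≅ Ω_Z`
-/

namespace Groth.Agent.Lib.LeadOmProd

section ToolT
variable {X Y S S' : Scheme.{u}} (f : X ⟶ Y) (p : Y ⟶ S) (q : X ⟶ S')
  {ΩY : Y.Modules} (dY : OmegaSh.Der p ΩY)
  {ΩX : X.Modules} (dX : OmegaSh.Der q ΩX)
  (c : (Scheme.Modules.pullback f).obj ΩY ⟶ ΩX) (hc : OmegaSh.IsDiffCompat f dY dX c)
  {U : X.Opens} {V : Y.Opens} (hUV : U ≤ f ⁻¹ᵁ V)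

variable (hY : OmegaSh.IsUniversal dY) (hX : OmegaSh.IsUniversal dX)
  (hU : IsAffineOpen U) (hV : IsAffineOpen V)
  {W : S.Opens} (hW : IsAffineOpen W) (hVW : V ≤ p ⁻¹ᵁ W)
  {W' : S'.Opens} (hW' : IsAffineOpen W') (hUW' : U ≤ q ⁻¹ᵁ W')
  [Algebra Γ(S, W) Γ(Y, V)] (halgA : algebraMap Γ(S, W) Γ(Y, V) = (p.appLE W V hVW).hom)
  [Algebra Γ(S', W') Γ(X, U)] (halgB : algebraMap Γ(S', W') Γ(X, U) = (q.appLE W' U hUW').hom)
  [Algebra Γ(Y, V) Γ(X, U)] (halgAB : algebraMap Γ(Y, V) Γ(X, U) = (f.appLE V U hUV).hom)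

include hc hY hX hU hV hW hW' halgA halgB halgAB in
/-- Variant of `exists_chart_model` exposing the target chart `sectionsEquiv`. -/
theorem exists_chart_model' :
    ∃ (e₁ : Γ(X, U) ⊗[Γ(Y, V)] Ω[Γ(Y, V)⁄Γ(S, W)] ≃ₗ[Γ(X, U)] Γ((Scheme.Modules.pullback f).obj ΩY, U))
      (κ : Γ(X, U) ⊗[Γ(Y, V)] Ω[Γ(Y, V)⁄Γ(S, W)] →ₗ[Γ(X, U)] Ω[Γ(X, U)⁄Γ(S', W')]),
      (∀ t, κ t = sectionsEquiv q dX hX hU hW' hUW' halgB (c.app U (e₁ t))) ∧
      ∀ (b : Γ(X, U)) (a : Γ(Y, V)),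
        κ (b ⊗ₜ D Γ(S, W) Γ(Y, V) a) = b • D Γ(S', W') Γ(X, U) (algebraMap Γ(Y, V) Γ(X, U) a) := by
  haveI := isQuasicoherent_of_isUniversal p dY hY
  obtain ⟨e, he⟩ := exists_baseChangeEquiv (A := Γ(Y, V)) (B := Γ(X, U)) (unitSec f ΩY hUV)
    (fun a m => by rw [unitSec_smul, halgAB])
    (fun N _ _ l hl => existsUnique_lift f ΩY hV hU hUV N l (fun r x => by
      rw [hl, halgAB]))
  let sY := sectionsEquiv p dY hY hV hW hVW halgA
  let e₂ := sectionsEquiv q dX hX hU hW' hUW' halgB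
  let e₁ : Γ(X, U) ⊗[Γ(Y, V)] Ω[Γ(Y, V)⁄Γ(S, W)] ≃ₗ[Γ(X, U)]
      Γ((Scheme.Modules.pullback f).obj ΩY, U) :=
    (TensorProduct.AlgebraTensorModule.congr (LinearEquiv.refl Γ(X, U) Γ(X, U)) sY).symm.trans e
  let cU : Γ((Scheme.Modules.pullback f).obj ΩY, U) →ₗ[Γ(X, U)] Γ(ΩX, U) :=
    { toFun := fun x => c.app U x
      map_add' := fun x y => map_add _ x y
      map_smul' := fun r x => Scheme.Modules.Hom.app_smul c r x }
  refine ⟨e₁, e₂.toLinearMap ∘ₗ cU ∘ₗ e₁.toLinearMap, fun t => rfl, fun b a => ?_⟩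
  change e₂ (c.app U (e ((TensorProduct.AlgebraTensorModule.congr
    (LinearEquiv.refl Γ(X, U) Γ(X, U)) sY).symm (b ⊗ₜ D Γ(S, W) Γ(Y, V) a)))) = _
  have h1 : (TensorProduct.AlgebraTensorModule.congr (LinearEquiv.refl Γ(X, U) Γ(X, U)) sY).symm
      (b ⊗ₜ D Γ(S, W) Γ(Y, V) a) = b ⊗ₜ (dY.app V a) := by
    rw [LinearEquiv.symm_apply_eq, TensorProduct.AlgebraTensorModule.congr_tmul]
    congr 1
    exact (sectionsEquiv_d p dY hY hV hW hVW halgA a).symm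
  rw [h1, he, Scheme.Modules.Hom.app_smul, c_unitSec f p q dY dX c hc hUV, map_smul]
  congr 1
  rw [halgAB]
  exact sectionsEquiv_d q dX hX hU hW' hUW' halgB _

end ToolT

section ring
variable {R B B' C : Type u} [CommRing R] [CommRing B] [CommRing B'] [CommRing C]
  [Algebra R B] [Algebra R B'] [Algebra R C] [Algebra B C] [Algebra B' C]
  [IsScalarTower R B C] [IsScalarTower R B' C]

/-- For `C = B ⊗_R B'`: `(C ⊗_B Ω_{B/R}) ⊕ (C ⊗_{B'} Ω_{B'/R}) ≅ Ω_{C/R}` (elementwise form). -/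
theorem sum_of_isPushout [Algebra.IsPushout R B B' C]
    (κ₁ : C ⊗[B] Ω[B⁄R] →ₗ[C] Ω[C⁄R])
    (hκ₁ : ∀ (c : C) (b : B), κ₁ (c ⊗ₜ D R B b) = c • D R C (algebraMap B C b))
    (κ₂ : C ⊗[B'] Ω[B'⁄R] →ₗ[C] Ω[C⁄R])
    (hκ₂ : ∀ (c : C) (b : B'), κ₂ (c ⊗ₜ D R B' b) = c • D R C (algebraMap B' C b)) :
    (∀ t₁ t₂, κ₁ t₁ + κ₂ t₂ = 0 → t₁ = 0 ∧ t₂ = 0) ∧ ∀ ω, ∃ t₁ t₂, κ₁ t₁ + κ₂ t₂ = ω := by
  haveI : Algebra.IsPushout R B' B C := Algebra.IsPushout.symm inferInstance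
  obtain ⟨π₁, hπ₁⟩ : ∃ π₁ : Ω[C⁄R] →ₗ[C] Ω[C⁄B], π₁ = KaehlerDifferential.map R B C C := ⟨_, rfl⟩
  obtain ⟨π₂, hπ₂⟩ : ∃ π₂ : Ω[C⁄R] →ₗ[C] Ω[C⁄B'], π₂ = KaehlerDifferential.map R B' C C := ⟨_, rfl⟩
  have hπ₁D : ∀ c : C, π₁ (D R C c) = D B C c := fun c => by
    rw [hπ₁]; exact KaehlerDifferential.map_D R B C C c
  have hπ₂D : ∀ c : C, π₂ (D R C c) = D B' C c := fun c => by
    rw [hπ₂]; exact KaehlerDifferential.map_D R B' C C c
  have F1 : π₁ ∘ₗ κ₂ = (tensorKaehlerEquiv R B B' C).toLinearMap := by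
    apply tensor_kaehler_ext
    intro b
    rw [LinearMap.comp_apply, hκ₂, one_smul, hπ₁D, LinearEquiv.coe_coe, tensorKaehlerEquiv_tmul_D,
      one_smul]
  have F2 : π₂ ∘ₗ κ₁ = (tensorKaehlerEquiv R B' B C).toLinearMap := by
    apply tensor_kaehler_ext
    intro b
    rw [LinearMap.comp_apply, hκ₁, one_smul, hπ₂D, LinearEquiv.coe_coe, tensorKaehlerEquiv_tmul_D,
      one_smul]
  have F3 : π₁ ∘ₗ κ₁ = 0 := by
    apply tensor_kaehler_ext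
    intro b
    rw [LinearMap.comp_apply, hκ₁, one_smul, hπ₁D, LinearMap.zero_apply, Derivation.map_algebraMap]
  have F4 : π₂ ∘ₗ κ₂ = 0 := by
    apply tensor_kaehler_ext
    intro b
    rw [LinearMap.comp_apply, hκ₂, one_smul, hπ₂D, LinearMap.zero_apply, Derivation.map_algebraMap]
  have F5 : κ₁ = KaehlerDifferential.mapBaseChange R B C := by
    apply tensor_kaehler_ext
    intro b
    rw [hκ₁, one_smul, KaehlerDifferential.mapBaseChange_tmul, one_smul, KaehlerDifferential.map_D]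
  have h1a : ∀ t₁, π₁ (κ₁ t₁) = 0 := fun t₁ => LinearMap.congr_fun F3 t₁
  have h1b : ∀ t₂, π₁ (κ₂ t₂) = tensorKaehlerEquiv R B B' C t₂ := fun t₂ => LinearMap.congr_fun F1 t₂
  have h2a : ∀ t₂, π₂ (κ₂ t₂) = 0 := fun t₂ => LinearMap.congr_fun F4 t₂
  have h2b : ∀ t₁, π₂ (κ₁ t₁) = tensorKaehlerEquiv R B' B C t₁ := fun t₁ => LinearMap.congr_fun F2 t₁
  refine ⟨fun t₁ t₂ h => ?_, fun ω => ?_⟩
  · have h1 := congrArg π₁ h
    rw [map_add, map_zero, h1a, h1b, zero_add] at h1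
    have h2 := congrArg π₂ h
    rw [map_add, map_zero, h2a, h2b, add_zero] at h2
    exact ⟨(LinearEquiv.map_eq_zero_iff _).mp h2, (LinearEquiv.map_eq_zero_iff _).mp h1⟩
  · obtain ⟨t₂, ht₂⟩ : ∃ t₂, tensorKaehlerEquiv R B B' C t₂ = π₁ ω :=
      ⟨_, LinearEquiv.apply_symm_apply _ _⟩
    have hker : π₁ (ω - κ₂ t₂) = 0 := by
      rw [map_sub, h1b, ht₂, sub_self]
    rw [hπ₁] at hker
    obtain ⟨t₁, ht₁⟩ := ((KaehlerDifferential.exact_mapBaseChange_map R B C) (ω - κ₂ t₂)).mp hker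
    refine ⟨t₁, t₂, ?_⟩
    rw [F5, ht₁, sub_add_cancel]

end ring

section biprod
variable {X : Scheme.{u}} {M N K : X.Modules}

theorem bijective_biprod_desc_app (c₁ : M ⟶ K) (c₂ : N ⟶ K) (T : X.Opens)
    (hinj : ∀ (m : Γ(M, T)) (n : Γ(N, T)), c₁.app T m + c₂.app T n = 0 → m = 0 ∧ n = 0)
    (hsurj : ∀ ω : Γ(K, T), ∃ (m : Γ(M, T)) (n : Γ(N, T)), c₁.app T m + c₂.app T n = ω) :
    Function.Bijective ((biprod.desc c₁ c₂).app T) := by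
  have htot : ∀ z : Γ(M ⊞ N, T),
      (biprod.inl : M ⟶ M ⊞ N).app T ((biprod.fst : M ⊞ N ⟶ M).app T z) +
      (biprod.inr : N ⟶ M ⊞ N).app T ((biprod.snd : M ⊞ N ⟶ N).app T z) = z := by
    intro z
    have h := congrArg (fun φ : M ⊞ N ⟶ M ⊞ N => (φ.app T) z) (biprod.total (X := M) (Y := N))
    simp only [Scheme.Modules.Hom.add_app, Scheme.Modules.Hom.comp_app,
      Scheme.Modules.Hom.id_app, AddCommGrpCat.hom_add_apply, CategoryTheory.comp_apply,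
      CategoryTheory.id_apply] at h
    exact h
  have e1 : ∀ x, (biprod.desc c₁ c₂).app T ((biprod.inl : M ⟶ M ⊞ N).app T x) = c₁.app T x := by
    intro x
    have h := congrArg (fun φ : M ⟶ K => (φ.app T) x) (biprod.inl_desc c₁ c₂)
    simp only [Scheme.Modules.Hom.comp_app, CategoryTheory.comp_apply] at h
    exact h
  have e2 : ∀ x, (biprod.desc c₁ c₂).app T ((biprod.inr : N ⟶ M ⊞ N).app T x) = c₂.app T x := by
    intro x
    have h := congrArg (fun φ : N ⟶ K => (φ.app T) x) (biprod.inr_desc c₁ c₂)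
    simp only [Scheme.Modules.Hom.comp_app, CategoryTheory.comp_apply] at h
    exact h
  have hdesc : ∀ z : Γ(M ⊞ N, T), (biprod.desc c₁ c₂).app T z =
      c₁.app T ((biprod.fst : M ⊞ N ⟶ M).app T z) +
        c₂.app T ((biprod.snd : M ⊞ N ⟶ N).app T z) := by
    intro z
    calc (biprod.desc c₁ c₂).app T z
        = (biprod.desc c₁ c₂).app T
            ((biprod.inl : M ⟶ M ⊞ N).app T ((biprod.fst : M ⊞ N ⟶ M).app T z) +
              (biprod.inr : N ⟶ M ⊞ N).app T ((biprod.snd : M ⊞ N ⟶ N).app T z)) := by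
          rw [htot z]
      _ = _ := by rw [map_add, e1, e2]
  constructor
  · rw [injective_iff_map_eq_zero]
    intro z hz
    rw [hdesc] at hz
    obtain ⟨h1, h2⟩ := hinj _ _ hz
    rw [← htot z, h1, h2, map_zero, map_zero, add_zero]
  · intro ω
    obtain ⟨m, n, h⟩ := hsurj ω
    refine ⟨(biprod.inl : M ⟶ M ⊞ N).app T m + (biprod.inr : N ⟶ M ⊞ N).app T n, ?_⟩
    rw [map_add, e1, e2, h]

end biprod

section main
open Groth.Agent.Lib.Helper20.PullbackAff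

theorem main_S5023 {X Y S Z : Scheme.{u}} (a : X ⟶ S) (b : Y ⟶ S)
    (p : Z ⟶ X) (q : Z ⟶ Y) (h : Z ⟶ S) (wp : p ≫ a = h) (wq : q ≫ b = h) (hZ : IsPullback p q a b)
    (ΩX : X.Modules) (dX : OmegaSh.Der a ΩX) (hX : OmegaSh.IsUniversal dX)
    (ΩY : Y.Modules) (dY : OmegaSh.Der b ΩY) (hY : OmegaSh.IsUniversal dY)
    (ΩZ : Z.Modules) (dZ : OmegaSh.Der h ΩZ) (hZu : OmegaSh.IsUniversal dZ)
    (c₁ : (Scheme.Modules.pullback p).obj ΩX ⟶ ΩZ) (hc₁ : OmegaSh.IsDiffCompat p dX dZ c₁)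
    (c₂ : (Scheme.Modules.pullback q).obj ΩY ⟶ ΩZ) (hc₂ : OmegaSh.IsDiffCompat q dY dZ c₂) :
    IsIso (biprod.desc c₁ c₂) := by
  haveI := isQuasicoherent_of_isUniversal a dX hX
  haveI := isQuasicoherent_of_isUniversal b dY hY
  haveI := isQuasicoherent_of_isUniversal h dZ hZu
  haveI : ((Scheme.Modules.pullback p).obj ΩX ⊞ (Scheme.Modules.pullback q).obj ΩY).IsQuasicoherent :=
    isQuasicoherent_biprod _ _
  let ι : Type u := {T : S.Opens × Y.Opens × X.Opens // IsAffineOpen T.1 ∧ IsAffineOpen T.2.1 ∧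
    IsAffineOpen T.2.2 ∧ T.2.1 ≤ b ⁻¹ᵁ T.1 ∧ T.2.2 ≤ a ⁻¹ᵁ T.1}
  let Uo : ι → Z.Opens := fun T => p ⁻¹ᵁ T.1.2.2 ⊓ q ⁻¹ᵁ T.1.2.1
  have hUa : ∀ T : ι, IsAffineOpen (Uo T) := by
    rintro ⟨⟨W, W', V⟩, hW, hW', hV, hW'W, hVW⟩
    have : IsAffine _ := hW
    have : IsAffine _ := hW'
    have : IsAffine _ := hV
    exact .of_isIso (Scheme.Hom.isPullback_resLE hZ hW'W hVW rfl).isoPullback.hom
  refine isIso_of_bijective_app_cover (biprod.desc c₁ c₂) Uo ?_ hUa ?_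
  · refine IsOpenCover.mk (eq_top_iff.mpr ?_)
    intro x _
    obtain ⟨W, hW, hxW, -⟩ := exists_isAffineOpen_mem_and_subset (x := a (p x)) (U := ⊤) trivial
    have hgx : b (q x) = a (p x) := by
      rw [← Scheme.Hom.comp_apply, ← Scheme.Hom.comp_apply, hZ.w]
    obtain ⟨W', hW', hxW', hW'W⟩ := exists_isAffineOpen_mem_and_subset (x := q x) (U := b ⁻¹ᵁ W)
      (by change b (q x) ∈ W; rw [hgx]; exact hxW)
    obtain ⟨V, hV, hxV, hVW⟩ := exists_isAffineOpen_mem_and_subset (x := p x) (U := a ⁻¹ᵁ W) hxW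
    exact Opens.mem_iSup.mpr ⟨⟨⟨W, W', V⟩, hW, hW', hV, hW'W, hVW⟩, ⟨hxV, hxW'⟩⟩
  · rintro ⟨⟨W, U', U⟩, hW, hU', hU, hU'W, hUW⟩
    have hT := hUa ⟨⟨W, U', U⟩, hW, hU', hU, hU'W, hUW⟩
    change Function.Bijective ((biprod.desc c₁ c₂).app (p ⁻¹ᵁ U ⊓ q ⁻¹ᵁ U'))
    change IsAffineOpen (p ⁻¹ᵁ U ⊓ q ⁻¹ᵁ U') at hT
    obtain ⟨T, hTdef⟩ : ∃ T : Z.Opens, T = p ⁻¹ᵁ U ⊓ q ⁻¹ᵁ U' := ⟨_, rfl⟩
    rw [← hTdef] at hT ⊢
    have hTU : T ≤ p ⁻¹ᵁ U := hTdef ▸ inf_le_left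
    have hTU' : T ≤ q ⁻¹ᵁ U' := hTdef ▸ inf_le_right
    have hTW : T ≤ h ⁻¹ᵁ W := by
      intro y hy
      have h1 : a (p y) ∈ W := hUW (hTU hy)
      have h2 : h y = a (p y) := by rw [← wp, Scheme.Hom.comp_apply]
      change h y ∈ W
      rw [h2]; exact h1
    letI algRB : Algebra Γ(S, W) Γ(X, U) := (a.appLE W U hUW).hom.toAlgebra
    letI algRB' : Algebra Γ(S, W) Γ(Y, U') := (b.appLE W U' hU'W).hom.toAlgebra
    letI algBC : Algebra Γ(X, U) Γ(Z, T) := (p.appLE U T hTU).hom.toAlgebra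
    letI algB'C : Algebra Γ(Y, U') Γ(Z, T) := (q.appLE U' T hTU').hom.toAlgebra
    letI algRC : Algebra Γ(S, W) Γ(Z, T) := (h.appLE W T hTW).hom.toAlgebra
    have hcomm₁ : h.appLE W T hTW = a.appLE W U hUW ≫ p.appLE U T hTU := by
      have h1 : a.appLE W U hUW ≫ p.appLE U T hTU = (p ≫ a).appLE W T
          (fun y hy => hUW (hTU hy)) := Scheme.Hom.appLE_comp_appLE _ _ _ _ _ _ _
      rw [h1]
      exact (OmegaSh.appLE_congr_hom wp (U := W) (V := T) (fun y hy => hUW (hTU hy)) hTW).symm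
    have hcomm₂ : h.appLE W T hTW = b.appLE W U' hU'W ≫ q.appLE U' T hTU' := by
      have h1 : b.appLE W U' hU'W ≫ q.appLE U' T hTU' = (q ≫ b).appLE W T
          (fun y hy => hU'W (hTU' hy)) := Scheme.Hom.appLE_comp_appLE _ _ _ _ _ _ _
      rw [h1]
      exact (OmegaSh.appLE_congr_hom wq (U := W) (V := T) (fun y hy => hU'W (hTU' hy)) hTW).symm
    haveI : IsScalarTower Γ(S, W) Γ(X, U) Γ(Z, T) :=
      IsScalarTower.of_algebraMap_eq fun r => congr($hcomm₁ r)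
    haveI : IsScalarTower Γ(S, W) Γ(Y, U') Γ(Z, T) :=
      IsScalarTower.of_algebraMap_eq fun r => congr($hcomm₂ r)
    haveI : Algebra.IsPushout Γ(S, W) Γ(X, U) Γ(Y, U') Γ(Z, T) := by
      have hiso := isIso_pushoutSection_of_isAffineOpen hZ hU'W hUW hTdef hW hU' hU
      have hpo := (isIso_pushoutSection_iff hZ hU'W hUW hTdef).mp hiso
      exact CommRingCat.isPushout_iff_isPushout.mp hpo
    obtain ⟨e₁, κ₁, hκ₁a, hκ₁b⟩ := exists_chart_model' p a h dX dZ c₁ hc₁ hTU hX hZu hT hU hW hUW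
      hW hTW rfl rfl rfl
    obtain ⟨e₂, κ₂, hκ₂a, hκ₂b⟩ := exists_chart_model' q b h dY dZ c₂ hc₂ hTU' hY hZu hT hU' hW hU'W
      hW hTW rfl rfl rfl
    obtain ⟨hinj, hsurj⟩ := sum_of_isPushout κ₁ hκ₁b κ₂ hκ₂b
    refine bijective_biprod_desc_app c₁ c₂ T ?_ ?_
    · intro m n hmn
      obtain ⟨t₁, rfl⟩ := e₁.surjective m
      obtain ⟨t₂, rfl⟩ := e₂.surjective n
      have h3 := congrArg (sectionsEquiv h dZ hZu hT hW hTW rfl) hmn
      rw [map_add, map_zero, ← hκ₁a, ← hκ₂a] at h3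
      obtain ⟨h1, h2⟩ := hinj t₁ t₂ h3
      rw [h1, h2, map_zero, map_zero]
      exact ⟨rfl, rfl⟩
    · intro ω
      obtain ⟨t₁, t₂, ht⟩ := hsurj (sectionsEquiv h dZ hZu hT hW hTW rfl ω)
      refine ⟨e₁ t₁, e₂ t₂, (sectionsEquiv h dZ hZu hT hW hTW rfl).injective ?_⟩
      rw [map_add, ← hκ₁a, ← hκ₂a, ht]

end main

end Groth.Agent.Lib.LeadOmProd
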