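import Mathlib

set_option maxHeartbeats 400000

/-!
# Corepresentability of `Q ↦ Hom_{k[[z]]}(R, Q[[z]])`

For a `k[[z]]`-algebra `R` we build the universal `k`-algebra `P` with a `k[[z]]`-algebra map
`u : R → P[[z]]`, by generators `a_{r,α}` (the would-be coefficients of `u r`) and the relations
forcing `u` to be a `k[[z]]`-algebra homomorphism.
-/

namespace Groth.Agent.LeadPSRep

open MvPowerSeries

universe u

section
variable (k : Type u) [Field k] (σ : Type) (R : Type u) [CommRing R]
  [Algebra (MvPowerSeries σ k) R]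

/-- The polynomial ring on the symbols `a_{r,α}`. -/
abbrev F : Type u := MvPolynomial (R × (σ →₀ ℕ)) k

/-- The generic series `∑ a_{r,α} z^α`. -/
noncomputable def U (r : R) : MvPowerSeries σ (F k σ R) :=
  fun α => MvPolynomial.X (r, α)

lemma coeff_U (r : R) (α : σ →₀ ℕ) :
    coeff α (U k σ R r) = (MvPolynomial.X (r, α) : F k σ R) := rfl

/-- The relations. -/
inductive Rel : F k σ R → Prop
  | add (r s : R) (α : σ →₀ ℕ) :
      Rel (coeff α (U k σ R (r + s) - (U k σ R r + U k σ R s)))
  | mul (r s : R) (α : σ →₀ ℕ) :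
      Rel (coeff α (U k σ R (r * s) - (U k σ R r * U k σ R s)))
  | alg (c : MvPowerSeries σ k) (α : σ →₀ ℕ) :
      Rel (coeff α (U k σ R (algebraMap (MvPowerSeries σ k) R c) -
        map (algebraMap k (F k σ R)) c))

/-- The ideal of relations. -/
noncomputable def I : Ideal (F k σ R) := Ideal.span {p | Rel k σ R p}

/-- The corepresenting algebra. -/
abbrev P : Type u := F k σ R ⧸ I k σ R

variable {k σ R}

lemma map_mk_eq {φ ψ : MvPowerSeries σ (F k σ R)}
    (h : ∀ α, coeff α (φ - ψ) ∈ I k σ R) :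
    map (Ideal.Quotient.mk (I k σ R)) φ = map (Ideal.Quotient.mk (I k σ R)) ψ := by
  refine MvPowerSeries.ext (fun α => ?_)
  rw [coeff_map, coeff_map]
  have h' := h α
  rw [map_sub] at h'
  exact Ideal.Quotient.eq.mpr h'

variable (k σ R)

/-- The universal map, as a function. -/
noncomputable def uFun (r : R) : MvPowerSeries σ (P k σ R) :=
  map (Ideal.Quotient.mk (I k σ R)) (U k σ R r)

lemma uFun_add (r s : R) : uFun k σ R (r + s) = uFun k σ R r + uFun k σ R s := by
  unfold uFun
  rw [← map_add]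
  exact map_mk_eq (fun α => Ideal.subset_span (Rel.add r s α))

lemma uFun_mul (r s : R) : uFun k σ R (r * s) = uFun k σ R r * uFun k σ R s := by
  unfold uFun
  rw [← map_mul]
  exact map_mk_eq (fun α => Ideal.subset_span (Rel.mul r s α))

lemma uFun_alg (c : MvPowerSeries σ k) :
    uFun k σ R (algebraMap (MvPowerSeries σ k) R c) =
      algebraMap (MvPowerSeries σ k) (MvPowerSeries σ (P k σ R)) c := by
  unfold uFun
  rw [map_mk_eq (fun α => Ideal.subset_span (Rel.alg c α))]
  refine MvPowerSeries.ext (fun α => ?_)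
  rfl

/-- The universal `k[[z]]`-algebra map `R → P[[z]]`. -/
noncomputable def u : R →ₐ[MvPowerSeries σ k] MvPowerSeries σ (P k σ R) where
  toFun := uFun k σ R
  map_one' := by
    have h := uFun_alg k σ R 1
    rw [map_one, map_one] at h
    exact h
  map_mul' := uFun_mul k σ R
  map_zero' := by
    have h := uFun_alg k σ R 0
    rw [map_zero, map_zero] at h
    exact h
  map_add' := uFun_add k σ R
  commutes' := uFun_alg k σ R

lemma coeff_u (r : R) (α : σ →₀ ℕ) :
    coeff α (u k σ R r) = Ideal.Quotient.mk (I k σ R) (MvPolynomial.X (r, α)) := rfl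

variable {k σ R}
variable {Q : Type u} [CommRing Q] [Algebra k Q]
  (f : R →ₐ[MvPowerSeries σ k] MvPowerSeries σ Q)

/-- The map on generators. -/
noncomputable def g₀ : F k σ R →ₐ[k] Q :=
  MvPolynomial.aeval (fun p : R × (σ →₀ ℕ) => coeff p.2 (f p.1))

lemma g₀_X (r : R) (α : σ →₀ ℕ) : g₀ f (MvPolynomial.X (r, α)) = coeff α (f r) := by
  unfold g₀
  rw [MvPolynomial.aeval_X]

lemma map_g₀_U (r : R) : map (g₀ f : F k σ R →+* Q) (U k σ R r) = f r := by
  refine MvPowerSeries.ext (fun α => ?_)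
  rw [coeff_map, coeff_U]
  exact g₀_X f r α

lemma map_g₀_map (c : MvPowerSeries σ k) :
    map (g₀ f : F k σ R →+* Q) (map (algebraMap k (F k σ R)) c) =
      f (algebraMap (MvPowerSeries σ k) R c) := by
  rw [f.commutes]
  refine MvPowerSeries.ext (fun α => ?_)
  change (g₀ f) (algebraMap k (F k σ R) (coeff α c)) = algebraMap k Q (coeff α c)
  exact (g₀ f).commutes _

lemma g₀_rel (p : F k σ R) (hp : Rel k σ R p) : g₀ f p = 0 := by
  have key : ∀ (α : σ →₀ ℕ) (φ : MvPowerSeries σ (F k σ R)),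
      g₀ f (coeff α φ) = coeff α (map (g₀ f : F k σ R →+* Q) φ) := fun α φ => rfl
  cases hp with
  | add r s α =>
    have h1 : map (g₀ f : F k σ R →+* Q)
        (U k σ R (r + s) - (U k σ R r + U k σ R s)) = 0 := by
      rw [map_sub, map_add, map_g₀_U, map_g₀_U, map_g₀_U, map_add, sub_self]
    rw [key, h1, map_zero]
  | mul r s α =>
    have h1 : map (g₀ f : F k σ R →+* Q)
        (U k σ R (r * s) - (U k σ R r * U k σ R s)) = 0 := by
      rw [map_sub, map_mul, map_g₀_U, map_g₀_U, map_g₀_U, map_mul, sub_self]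
    rw [key, h1, map_zero]
  | alg c α =>
    have h1 : map (g₀ f : F k σ R →+* Q)
        (U k σ R (algebraMap (MvPowerSeries σ k) R c) - map (algebraMap k (F k σ R)) c) = 0 := by
      rw [map_sub, map_g₀_U, map_g₀_map, sub_self]
    rw [key, h1, map_zero]

lemma I_le (a : F k σ R) (ha : a ∈ I k σ R) : g₀ f a = 0 := by
  have hle : I k σ R ≤ RingHom.ker (g₀ f : F k σ R →+* Q) :=
    Ideal.span_le.mpr (fun p hp => (RingHom.mem_ker).mpr (g₀_rel f p hp))
  exact (RingHom.mem_ker).mp (hle ha)

/-- The classifying map. -/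
noncomputable def g : P k σ R →ₐ[k] Q := Ideal.Quotient.liftₐ (I k σ R) (g₀ f) (I_le f)

lemma g_mk (p : F k σ R) : g f (Ideal.Quotient.mk (I k σ R) p) = g₀ f p := rfl

lemma comp_eq :
    (map (σ := σ) (g f : P k σ R →+* Q)).comp (u k σ R : R →+* MvPowerSeries σ (P k σ R)) =
      (f : R →+* MvPowerSeries σ Q) := by
  refine RingHom.ext (fun r => ?_)
  refine MvPowerSeries.ext (fun α => ?_)
  change g f (Ideal.Quotient.mk (I k σ R) (MvPolynomial.X (r, α))) = coeff α (f r)
  rw [g_mk, g₀_X]

lemma g_unique (g' : P k σ R →ₐ[k] Q)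
    (h : (map (σ := σ) (g' : P k σ R →+* Q)).comp
        (u k σ R : R →+* MvPowerSeries σ (P k σ R)) = (f : R →+* MvPowerSeries σ Q)) :
    g' = g f := by
  apply Ideal.Quotient.algHom_ext
  apply MvPolynomial.algHom_ext
  rintro ⟨r, α⟩
  have h1 : coeff α ((map (σ := σ) (g' : P k σ R →+* Q)).comp
        (u k σ R : R →+* MvPowerSeries σ (P k σ R)) r) = coeff α ((f : R →+* MvPowerSeries σ Q) r) :=
    congrArg (fun φ : R →+* MvPowerSeries σ Q => coeff α (φ r)) h
  change g' (Ideal.Quotient.mk (I k σ R) (MvPolynomial.X (r, α))) =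
    g f (Ideal.Quotient.mk (I k σ R) (MvPolynomial.X (r, α)))
  rw [g_mk, g₀_X]
  exact h1

end

section Countable

variable (k : Type u) [Field k] (σ : Type) (R : Type u) [CommRing R]
  [Algebra (MvPowerSeries σ k) R]

/-- The generating set attached to a generating set of `R`. -/
noncomputable def tset (s : Set R) : Set (P k σ R) :=
  (fun p : R × (σ →₀ ℕ) => Ideal.Quotient.mk (I k σ R) (MvPolynomial.X p)) '' (s ×ˢ Set.univ)

lemma tset_countable [Countable σ] (s : Set R) (hs : s.Countable) : (tset k σ R s).Countable :=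
  (hs.prod Set.countable_univ).image _

lemma coeff_u_mem (s : Set R) (r : R) (hr : r ∈ Algebra.adjoin (MvPowerSeries σ k) s)
    (α : σ →₀ ℕ) : coeff α (u k σ R r) ∈ Algebra.adjoin k (tset k σ R s) := by
  classical
  induction hr using Algebra.adjoin_induction generalizing α with
  | mem x hx =>
    exact Algebra.subset_adjoin ⟨(x, α), ⟨hx, Set.mem_univ _⟩, rfl⟩
  | algebraMap c =>
    rw [AlgHom.commutes]
    change algebraMap k (P k σ R) (coeff α c) ∈ _
    exact Subalgebra.algebraMap_mem _ _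
  | add x y hx hy ihx ihy =>
    rw [map_add, map_add]
    exact Subalgebra.add_mem _ (ihx α) (ihy α)
  | mul x y hx hy ihx ihy =>
    rw [map_mul, coeff_mul]
    exact Subalgebra.sum_mem _ (fun p _ => Subalgebra.mul_mem _ (ihx p.1) (ihy p.2))

lemma adjoin_tset_eq_top (s : Set R) (hs : Algebra.adjoin (MvPowerSeries σ k) s = ⊤) :
    Algebra.adjoin k (tset k σ R s) = ⊤ := by
  refine eq_top_iff.mpr (fun x _ => ?_)
  obtain ⟨p, rfl⟩ := Ideal.Quotient.mk_surjective x
  induction p using MvPolynomial.induction_on with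
  | C a => exact Subalgebra.algebraMap_mem _ a
  | add p q hp hq =>
    rw [map_add]
    exact Subalgebra.add_mem _ (hp Algebra.mem_top) (hq Algebra.mem_top)
  | mul_X p i hp =>
    obtain ⟨r, α⟩ := i
    rw [map_mul]
    refine Subalgebra.mul_mem _ (hp Algebra.mem_top) ?_
    have hr : r ∈ Algebra.adjoin (MvPowerSeries σ k) s := by rw [hs]; exact Algebra.mem_top
    exact coeff_u_mem k σ R s r hr α

end Countable

theorem main (k : Type u) [Field k] (σ : Type) [Countable σ] (R : Type u) [CommRing R]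
    [Algebra (MvPowerSeries σ k) R] :
    ∃ (P : Type u) (_ : CommRing P) (_ : Algebra k P)
      (u : R →ₐ[MvPowerSeries σ k] MvPowerSeries σ P),
      (∀ (Q : Type u) [CommRing Q] [Algebra k Q]
          (f : R →ₐ[MvPowerSeries σ k] MvPowerSeries σ Q),
          ∃! g : P →ₐ[k] Q,
            (MvPowerSeries.map (σ := σ) (g : P →+* Q)).comp (u : R →+* MvPowerSeries σ P) =
              (f : R →+* MvPowerSeries σ Q)) ∧
      ((∃ s : Set R, s.Countable ∧ Algebra.adjoin (MvPowerSeries σ k) s = ⊤) →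
        ∃ t : Set P, t.Countable ∧ Algebra.adjoin k t = ⊤) :=
  ⟨P k σ R, inferInstance, inferInstance, u k σ R,
    fun Q _ _ f => ⟨g f, comp_eq f, fun g' h => g_unique f g' h⟩,
    fun ⟨s, hs, hs'⟩ => ⟨tset k σ R s, tset_countable k σ R s hs, adjoin_tset_eq_top k σ R s hs'⟩⟩

end Groth.Agent.LeadPSRep
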