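import Mathlib
import Groth.Agent.S7015

/-! Exact pairings of cochain complexes of modules: boundedness and finite projectivity (S7016). -/

set_option autoImplicit false
universe u

namespace Groth.Agent.Lib.T2H4.DualCx

open CategoryTheory CategoryTheory.Limits MonoidalCategory HomologicalComplex

variable {R : Type u} [CommRing R]

/-- cochain complexes of `R`-modules -/
abbrev Cx (R : Type u) [CommRing R] := CochainComplex (ModuleCat.{u} R) ℤ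

@[reassoc]
theorem ι_whiskerRight {K K' : Cx R} (f : K ⟶ K') (L : Cx R) (p q n : ℤ) (h : p + q = n) :
    ιTensorObj K L p q n h ≫ (f ▷ L).f n = (f.f p ▷ L.X q) ≫ ιTensorObj K' L p q n h := by
  have := ι_mapBifunctorMap f (𝟙 L) (curriedTensor (ModuleCat.{u} R)) (ComplexShape.up ℤ) p q n h
  refine this.trans ?_
  simp

@[reassoc]
theorem ι_whiskerLeft (K : Cx R) {L L' : Cx R} (g : L ⟶ L') (p q n : ℤ) (h : p + q = n) :
    ιTensorObj K L p q n h ≫ (K ◁ g).f n = (K.X p ◁ g.f q) ≫ ιTensorObj K L' p q n h := by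
  have := ι_mapBifunctorMap (𝟙 K) g (curriedTensor (ModuleCat.{u} R)) (ComplexShape.up ℤ) p q n h
  refine this.trans ?_
  simp

@[reassoc]
theorem ι_ι_associator_hom (K₁ K₂ K₃ : Cx R) (i₁ i₂ i₃ i₁₂ i₂₃ j : ℤ) (h₁₂ : i₁ + i₂ = i₁₂)
    (h₂₃ : i₂ + i₃ = i₂₃) (h : i₁₂ + i₃ = j) (h' : i₁ + i₂₃ = j) :
    (ιTensorObj K₁ K₂ i₁ i₂ i₁₂ h₁₂ ▷ K₃.X i₃) ≫ ιTensorObj (K₁ ⊗ K₂) K₃ i₁₂ i₃ j h ≫
        (α_ K₁ K₂ K₃).hom.f j =
      (α_ (K₁.X i₁) (K₂.X i₂) (K₃.X i₃)).hom ≫ (K₁.X i₁ ◁ ιTensorObj K₂ K₃ i₂ i₃ i₂₃ h₂₃) ≫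
        ιTensorObj K₁ (K₂ ⊗ K₃) i₁ i₂₃ j h' := by
  have e1 := mapBifunctor₁₂.ι_eq (curriedTensor (ModuleCat.{u} R)) (curriedTensor (ModuleCat.{u} R))
    K₁ K₂ K₃ (ComplexShape.up ℤ) (ComplexShape.up ℤ) i₁ i₂ i₃ i₁₂ j h₁₂ h
  have e2 := mapBifunctor₂₃.ι_eq (curriedTensor (ModuleCat.{u} R)) (curriedTensor (ModuleCat.{u} R))
    K₁ K₂ K₃ (ComplexShape.up ℤ) (ComplexShape.up ℤ) (ComplexShape.up ℤ) i₁ i₂ i₃ i₂₃ j h₂₃ h'
  have e3 := ι_mapBifunctorAssociatorX_hom (curriedAssociatorNatIso (ModuleCat.{u} R)) K₁ K₂ K₃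
    (ComplexShape.up ℤ) (ComplexShape.up ℤ) (ComplexShape.up ℤ) i₁ i₂ i₃ j
    (by rw [← h, ← h₁₂]; rfl)
  rw [e1, e2] at e3
  simp only [Category.assoc] at e3
  exact e3

@[reassoc]
theorem ι_ι_associator_inv (K₁ K₂ K₃ : Cx R) (i₁ i₂ i₃ i₁₂ i₂₃ j : ℤ) (h₁₂ : i₁ + i₂ = i₁₂)
    (h₂₃ : i₂ + i₃ = i₂₃) (h : i₁₂ + i₃ = j) (h' : i₁ + i₂₃ = j) :
    (K₁.X i₁ ◁ ιTensorObj K₂ K₃ i₂ i₃ i₂₃ h₂₃) ≫ ιTensorObj K₁ (K₂ ⊗ K₃) i₁ i₂₃ j h' ≫
        (α_ K₁ K₂ K₃).inv.f j =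
      (α_ (K₁.X i₁) (K₂.X i₂) (K₃.X i₃)).inv ≫ (ιTensorObj K₁ K₂ i₁ i₂ i₁₂ h₁₂ ▷ K₃.X i₃) ≫
        ιTensorObj (K₁ ⊗ K₂) K₃ i₁₂ i₃ j h := by
  have h1 := ι_ι_associator_hom K₁ K₂ K₃ i₁ i₂ i₃ i₁₂ i₂₃ j h₁₂ h₂₃ h h'
  have h2 : (α_ K₁ K₂ K₃).hom.f j ≫ (α_ K₁ K₂ K₃).inv.f j = 𝟙 _ := by
    rw [← HomologicalComplex.comp_f, Iso.hom_inv_id, HomologicalComplex.id_f]
  have h1' := h1 =≫ (α_ K₁ K₂ K₃).inv.f j
  simp only [Category.assoc, h2, Category.comp_id] at h1'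
  rw [← cancel_epi (α_ (K₁.X i₁) (K₂.X i₂) (K₃.X i₃)).hom, Iso.hom_inv_id_assoc]
  exact h1'.symm


/-- the degree-zero part of the unit complex is the unit module -/
noncomputable abbrev u0 : (𝟙_ (Cx R)).X 0 ≅ 𝟙_ (ModuleCat.{u} R) :=
  singleObjXSelf (ComplexShape.up ℤ) 0 (𝟙_ (ModuleCat.{u} R))

theorem isZero_unit_X (j : ℤ) (hj : j ≠ 0) : IsZero ((𝟙_ (Cx R)).X j) :=
  isZero_single_obj_X (ComplexShape.up ℤ) 0 (𝟙_ (ModuleCat.{u} R)) j hj

theorem leftUnitor_inv_f (K : Cx R) (n : ℤ) :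
    (λ_ K).inv.f n = (λ_ (K.X n)).inv ≫ ((u0 (R := R)).inv ▷ K.X n) ≫
      ιTensorObj (𝟙_ (Cx R)) K 0 n n (zero_add n) :=
  leftUnitor'_inv K n

theorem rightUnitor_inv_f (K : Cx R) (n : ℤ) :
    (ρ_ K).inv.f n = (ρ_ (K.X n)).inv ≫ (K.X n ◁ (u0 (R := R)).inv) ≫
      ιTensorObj K (𝟙_ (Cx R)) n 0 n (add_zero n) :=
  rightUnitor'_inv K n

theorem ι_rightUnitor_hom_f (K : Cx R) (n : ℤ) :
    ιTensorObj K (𝟙_ (Cx R)) n 0 n (add_zero n) ≫ (ρ_ K).hom.f n =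
      (K.X n ◁ (u0 (R := R)).hom) ≫ (ρ_ (K.X n)).hom := by
  have h1 : (ρ_ K).inv.f n ≫ (ρ_ K).hom.f n = 𝟙 _ := by
    rw [← HomologicalComplex.comp_f, Iso.inv_hom_id, HomologicalComplex.id_f]
  rw [rightUnitor_inv_f, Category.assoc, Category.assoc] at h1
  rw [← cancel_epi (K.X n ◁ (u0 (R := R)).inv), ← cancel_epi (ρ_ (K.X n)).inv, h1]
  simp

theorem ι_leftUnitor_hom_f (K : Cx R) (n : ℤ) :
    ιTensorObj (𝟙_ (Cx R)) K 0 n n (zero_add n) ≫ (λ_ K).hom.f n =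
      ((u0 (R := R)).hom ▷ K.X n) ≫ (λ_ (K.X n)).hom := by
  have h1 : (λ_ K).inv.f n ≫ (λ_ K).hom.f n = 𝟙 _ := by
    rw [← HomologicalComplex.comp_f, Iso.inv_hom_id, HomologicalComplex.id_f]
  rw [leftUnitor_inv_f, Category.assoc, Category.assoc] at h1
  rw [← cancel_epi ((u0 (R := R)).inv ▷ K.X n), ← cancel_epi (λ_ (K.X n)).inv, h1]
  simp

theorem iSup_range_ι (K L : Cx R) (j : ℤ) :
    (⨆ (pq : {pq : ℤ × ℤ // pq.1 + pq.2 = j}),
      LinearMap.range (ιTensorObj K L pq.1.1 pq.1.2 j pq.2).hom) = ⊤ := by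
  set S := ⨆ (pq : {pq : ℤ × ℤ // pq.1 + pq.2 = j}),
      LinearMap.range (ιTensorObj K L pq.1.1 pq.1.2 j pq.2).hom with hS
  let π : (K ⊗ L).X j ⟶ ModuleCat.of R (((K ⊗ L).X j : ModuleCat.{u} R) ⧸ S) :=
    ModuleCat.ofHom S.mkQ
  have hπ : π = 0 := by
    apply HomologicalComplex.mapBifunctor.hom_ext
    intro i₁ i₂ h
    rw [comp_zero]
    ext x
    show S.mkQ ((ιTensorObj K L i₁ i₂ j h).hom x) = 0
    rw [Submodule.mkQ_apply, Submodule.Quotient.mk_eq_zero]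
    exact Submodule.mem_iSup_of_mem ⟨(i₁, i₂), h⟩ ⟨x, rfl⟩
  have h0 : S.mkQ = 0 := congrArg ModuleCat.Hom.hom hπ
  rw [← Submodule.ker_mkQ S, h0, LinearMap.ker_zero]

theorem finite_projective_bounded_of_factors {K : Cx R}
    (h : ∃ F : Finset ℤ, ∀ n : ℤ,
      Groth.Agent.S7015.FactorsFF (LinearMap.id : K.X n →ₗ[R] K.X n) ∧
        (n ∉ F → (LinearMap.id : K.X n →ₗ[R] K.X n) = 0)) :
    (∃ a b : ℤ, ∀ i : ℤ, i < a ∨ b < i → IsZero (K.X i)) ∧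
      ∀ i : ℤ, Module.Finite R (K.X i) ∧ Module.Projective R (K.X i) := by
  obtain ⟨F, hF⟩ := h
  refine ⟨?_, fun i => Groth.Agent.S7015.finite_projective_of_factorsFF_id (hF i).1⟩
  have hzero : ∀ i, i ∉ F → IsZero (K.X i) := fun i hi => by
    have h0 := (hF i).2 hi
    have : Subsingleton (K.X i) := ⟨fun x y => by
      have hx := LinearMap.congr_fun h0 x
      have hy := LinearMap.congr_fun h0 y
      simp only [LinearMap.id_apply, LinearMap.zero_apply] at hx hy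
      rw [hx, hy]⟩
    exact ModuleCat.isZero_of_subsingleton _
  obtain ⟨b, hb⟩ := F.exists_le
  obtain ⟨a', ha'⟩ := (F.image (fun i => -i)).exists_le
  refine ⟨-a', b, fun i hi => hzero i (fun hmem => ?_)⟩
  have h1 := hb i hmem
  have h2 := ha' (-i) (Finset.mem_image_of_mem _ hmem)
  omega

section pairing

variable (M N : Cx R) [ExactPairing M N]

/-- the contraction map `(M ⊗ N)⁰ ⊗ Mⁿ ⟶ Mⁿ` -/
noncomputable def Phi (n : ℤ) : (M ⊗ N).X 0 ⊗ M.X n ⟶ M.X n :=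
  ιTensorObj (M ⊗ N) M 0 n n (zero_add n) ≫ (α_ M N M).hom.f n ≫ (M ◁ ε_ M N).f n ≫
    (ρ_ M).hom.f n

theorem factA (n : ℤ) :
    (λ_ (M.X n)).inv ≫ (((u0 (R := R)).inv ≫ (η_ M N).f 0) ▷ M.X n) ≫ Phi M N n = 𝟙 (M.X n) := by
  have tri := congrArg (fun φ => HomologicalComplex.Hom.f φ n)
    (ExactPairing.evaluation_coevaluation M N)
  simp only [HomologicalComplex.comp_f] at tri
  have h1 : (λ_ M).inv.f n ≫ (η_ M N ▷ M).f n =
      (λ_ (M.X n)).inv ≫ (((u0 (R := R)).inv ≫ (η_ M N).f 0) ▷ M.X n) ≫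
        ιTensorObj (M ⊗ N) M 0 n n (zero_add n) := by
    rw [leftUnitor_inv_f, Category.assoc, Category.assoc, ι_whiskerRight, comp_whiskerRight,
      Category.assoc]
  have h2 : (λ_ M).inv.f n ≫ (λ_ M).hom.f n = 𝟙 _ := by
    rw [← HomologicalComplex.comp_f, Iso.inv_hom_id, HomologicalComplex.id_f]
  have h3 : (ρ_ M).inv.f n ≫ (ρ_ M).hom.f n = 𝟙 _ := by
    rw [← HomologicalComplex.comp_f, Iso.inv_hom_id, HomologicalComplex.id_f]
  unfold Phi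
  calc (λ_ (M.X n)).inv ≫ (((u0 (R := R)).inv ≫ (η_ M N).f 0) ▷ M.X n) ≫
        ιTensorObj (M ⊗ N) M 0 n n (zero_add n) ≫ (α_ M N M).hom.f n ≫ (M ◁ ε_ M N).f n ≫
          (ρ_ M).hom.f n
      = ((λ_ M).inv.f n ≫ (η_ M N ▷ M).f n) ≫ (α_ M N M).hom.f n ≫ (M ◁ ε_ M N).f n ≫
          (ρ_ M).hom.f n := by rw [h1]; simp only [Category.assoc]
    _ = (λ_ M).inv.f n ≫ ((η_ M N ▷ M).f n ≫ (α_ M N M).hom.f n ≫ (M ◁ ε_ M N).f n) ≫
          (ρ_ M).hom.f n := by simp only [Category.assoc]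
    _ = 𝟙 _ := by rw [tri, Category.assoc, h3, Category.comp_id, h2]

theorem factB0 (n p q : ℤ) (hpq : p + q = 0) (hqn : q + n ≠ 0) :
    (ιTensorObj M N p q 0 hpq ▷ M.X n) ≫ Phi M N n = 0 := by
  unfold Phi
  have h' : p + (q + n) = n := by omega
  rw [ι_ι_associator_hom_assoc M N M p q n 0 (q + n) n hpq rfl (zero_add n) h',
    ι_whiskerLeft_assoc]
  have hz : (ε_ M N).f (q + n) = 0 := (isZero_unit_X (R := R) (q + n) hqn).eq_of_tgt _ _
  rw [hz]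
  simp

theorem factB1 (n q : ℤ) (h : n + q = 0) (h' : q + n = 0) :
    (ιTensorObj M N n q 0 h ▷ M.X n) ≫ Phi M N n =
      (α_ (M.X n) (N.X q) (M.X n)).hom ≫
        (M.X n ◁ (ιTensorObj N M q n 0 h' ≫ (ε_ M N).f 0 ≫ (u0 (R := R)).hom)) ≫
          (ρ_ (M.X n)).hom := by
  unfold Phi
  rw [ι_ι_associator_hom_assoc M N M n q n 0 0 n h h' (zero_add n) (add_zero n),
    ι_whiskerLeft_assoc, ι_rightUnitor_hom_f]
  simp only [MonoidalCategory.whiskerLeft_comp, Category.assoc]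

/-- endomorphism of `Mⁿ` attached to `z ∈ (M ⊗ N)⁰` -/
noncomputable def phi (n : ℤ) (z : ((M ⊗ N).X 0 : ModuleCat.{u} R)) : M.X n →ₗ[R] M.X n :=
  (Phi M N n).hom ∘ₗ (TensorProduct.mk R ((M ⊗ N).X 0) (M.X n) z)

theorem phi_apply (n : ℤ) (z : ((M ⊗ N).X 0 : ModuleCat.{u} R)) (x : M.X n) :
    phi M N n z x = (Phi M N n).hom (z ⊗ₜ[R] x) := rfl

theorem phi_zero (n : ℤ) : phi M N n 0 = 0 := by
  ext x
  rw [phi_apply, TensorProduct.zero_tmul, map_zero]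
  rfl

theorem phi_add (n : ℤ) (z₁ z₂ : ((M ⊗ N).X 0 : ModuleCat.{u} R)) :
    phi M N n (z₁ + z₂) = phi M N n z₁ + phi M N n z₂ := by
  ext x
  rw [LinearMap.add_apply, phi_apply, phi_apply, phi_apply, TensorProduct.add_tmul, map_add]

/-- the coevaluation element -/
noncomputable def z0 : ((M ⊗ N).X 0 : ModuleCat.{u} R) :=
  ((u0 (R := R)).inv ≫ (η_ M N).f 0).hom (1 : R)

theorem phi_z0 (n : ℤ) : phi M N n (z0 M N) = LinearMap.id := by
  ext x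
  have h := congrArg (fun φ => ModuleCat.Hom.hom φ x) (factA M N n)
  simp only [ModuleCat.hom_comp, LinearMap.comp_apply, ModuleCat.hom_id, LinearMap.id_apply] at h
  rw [ModuleCat.MonoidalCategory.leftUnitor_inv_apply,
    ModuleCat.MonoidalCategory.whiskerRight_apply] at h
  exact h

/-- the predicate used in the induction -/
def Q (z : ((M ⊗ N).X 0 : ModuleCat.{u} R)) : Prop :=
  ∃ F : Finset ℤ, ∀ n : ℤ, Groth.Agent.S7015.FactorsFF (phi M N n z) ∧ (n ∉ F → phi M N n z = 0)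

theorem Q_zero : Q M N 0 :=
  ⟨∅, fun n => ⟨by rw [phi_zero]; exact Groth.Agent.S7015.FactorsFF.zero, fun _ => phi_zero M N n⟩⟩

theorem Q_add (z₁ z₂ : ((M ⊗ N).X 0 : ModuleCat.{u} R)) (h₁ : Q M N z₁) (h₂ : Q M N z₂) :
    Q M N (z₁ + z₂) := by
  obtain ⟨F₁, hF₁⟩ := h₁
  obtain ⟨F₂, hF₂⟩ := h₂
  refine ⟨F₁ ∪ F₂, fun n => ⟨?_, fun hn => ?_⟩⟩
  · rw [phi_add]
    exact (hF₁ n).1.add (hF₂ n).1
  · rw [Finset.mem_union, not_or] at hn
    rw [phi_add, (hF₁ n).2 hn.1, (hF₂ n).2 hn.2, add_zero]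

theorem Q_gen (p q : ℤ) (hpq : p + q = 0) (t : (M.X p ⊗ N.X q : ModuleCat.{u} R)) :
    Q M N ((ιTensorObj M N p q 0 hpq).hom t) := by
  induction t using TensorProduct.induction_on with
  | zero => rw [map_zero]; exact Q_zero M N
  | add t₁ t₂ h₁ h₂ => rw [map_add]; exact Q_add M N _ _ h₁ h₂
  | tmul m n' =>
    refine ⟨{p}, fun n => ?_⟩
    by_cases hqn : q + n = 0
    · obtain rfl : p = n := by omega
      have key : ∀ x : M.X p, phi M N p ((ιTensorObj M N p q 0 hpq).hom (m ⊗ₜ[R] n')) x =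
          ((ιTensorObj N M q p 0 hqn ≫ (ε_ M N).f 0 ≫ (u0 (R := R)).hom).hom (n' ⊗ₜ[R] x)) • m := by
        intro x
        have h := congrArg (fun φ => ModuleCat.Hom.hom φ ((m ⊗ₜ[R] n') ⊗ₜ[R] x))
          (factB1 M N p q hpq hqn)
        simp only [ModuleCat.hom_comp, LinearMap.comp_apply] at h
        rw [ModuleCat.MonoidalCategory.whiskerRight_apply,
          ModuleCat.MonoidalCategory.associator_hom_apply,
          ModuleCat.MonoidalCategory.whiskerLeft_apply,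
          ModuleCat.MonoidalCategory.rightUnitor_hom_apply] at h
        exact h
      refine ⟨⟨R, inferInstance, inferInstance, inferInstance, inferInstance,
        (ιTensorObj N M q p 0 hqn ≫ (ε_ M N).f 0 ≫ (u0 (R := R)).hom).hom ∘ₗ
          (TensorProduct.mk R (N.X q) (M.X p) n'),
        LinearMap.toSpanSingleton R (M.X p) m, ?_⟩, fun hn => absurd (Finset.mem_singleton_self p) hn⟩
      ext x
      rw [key x]
      rfl
    · have hz : phi M N n ((ιTensorObj M N p q 0 hpq).hom (m ⊗ₜ[R] n')) = 0 := by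
        ext x
        have h := congrArg (fun φ => ModuleCat.Hom.hom φ ((m ⊗ₜ[R] n') ⊗ₜ[R] x))
          (factB0 M N n p q hpq hqn)
        simp only [ModuleCat.hom_comp, LinearMap.comp_apply] at h
        rw [ModuleCat.MonoidalCategory.whiskerRight_apply] at h
        exact h
      exact ⟨by rw [hz]; exact Groth.Agent.S7015.FactorsFF.zero, fun _ => hz⟩

theorem Q_all (z : ((M ⊗ N).X 0 : ModuleCat.{u} R)) : Q M N z := by
  have hz : z ∈ (⨆ (pq : {pq : ℤ × ℤ // pq.1 + pq.2 = (0 : ℤ)}),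
      LinearMap.range (ιTensorObj M N pq.1.1 pq.1.2 0 pq.2).hom) := by
    rw [iSup_range_ι]; trivial
  refine Submodule.iSup_induction _ (motive := Q M N) hz ?_ (Q_zero M N) (Q_add M N)
  rintro ⟨⟨p, q⟩, hpq⟩ x ⟨t, rfl⟩
  exact Q_gen M N p q hpq t

end pairing

section pairing'

variable (M N : Cx R) [ExactPairing M N]

/-- the contraction map `Nⁿ ⊗ (M ⊗ N)⁰ ⟶ Nⁿ` -/
noncomputable def Psi (n : ℤ) : N.X n ⊗ (M ⊗ N).X 0 ⟶ N.X n :=
  ιTensorObj N (M ⊗ N) n 0 n (add_zero n) ≫ (α_ N M N).inv.f n ≫ (ε_ M N ▷ N).f n ≫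
    (λ_ N).hom.f n

theorem factA' (n : ℤ) :
    (ρ_ (N.X n)).inv ≫ (N.X n ◁ ((u0 (R := R)).inv ≫ (η_ M N).f 0)) ≫ Psi M N n = 𝟙 (N.X n) := by
  have tri := congrArg (fun φ => HomologicalComplex.Hom.f φ n)
    (ExactPairing.coevaluation_evaluation M N)
  simp only [HomologicalComplex.comp_f] at tri
  have h1 : (ρ_ N).inv.f n ≫ (N ◁ η_ M N).f n =
      (ρ_ (N.X n)).inv ≫ (N.X n ◁ ((u0 (R := R)).inv ≫ (η_ M N).f 0)) ≫
        ιTensorObj N (M ⊗ N) n 0 n (add_zero n) := by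
    rw [rightUnitor_inv_f, Category.assoc, Category.assoc, ι_whiskerLeft,
      MonoidalCategory.whiskerLeft_comp, Category.assoc]
  have h2 : (λ_ N).inv.f n ≫ (λ_ N).hom.f n = 𝟙 _ := by
    rw [← HomologicalComplex.comp_f, Iso.inv_hom_id, HomologicalComplex.id_f]
  have h3 : (ρ_ N).inv.f n ≫ (ρ_ N).hom.f n = 𝟙 _ := by
    rw [← HomologicalComplex.comp_f, Iso.inv_hom_id, HomologicalComplex.id_f]
  unfold Psi
  calc (ρ_ (N.X n)).inv ≫ (N.X n ◁ ((u0 (R := R)).inv ≫ (η_ M N).f 0)) ≫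
        ιTensorObj N (M ⊗ N) n 0 n (add_zero n) ≫ (α_ N M N).inv.f n ≫ (ε_ M N ▷ N).f n ≫
          (λ_ N).hom.f n
      = ((ρ_ N).inv.f n ≫ (N ◁ η_ M N).f n) ≫ (α_ N M N).inv.f n ≫ (ε_ M N ▷ N).f n ≫
          (λ_ N).hom.f n := by rw [h1]; simp only [Category.assoc]
    _ = (ρ_ N).inv.f n ≫ ((N ◁ η_ M N).f n ≫ (α_ N M N).inv.f n ≫ (ε_ M N ▷ N).f n) ≫
          (λ_ N).hom.f n := by simp only [Category.assoc]
    _ = 𝟙 _ := by rw [tri, Category.assoc, h2, Category.comp_id, h3]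

theorem factB0' (n p q : ℤ) (hpq : p + q = 0) (hnp : n + p ≠ 0) :
    (N.X n ◁ ιTensorObj M N p q 0 hpq) ≫ Psi M N n = 0 := by
  unfold Psi
  have h' : n + p + q = n := by omega
  rw [ι_ι_associator_inv_assoc N M N n p q (n + p) 0 n rfl hpq h' (add_zero n),
    ι_whiskerRight_assoc]
  have hz : (ε_ M N).f (n + p) = 0 := (isZero_unit_X (R := R) (n + p) hnp).eq_of_tgt _ _
  rw [hz]
  simp

theorem factB1' (n p : ℤ) (h : p + n = 0) (h' : n + p = 0) :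
    (N.X n ◁ ιTensorObj M N p n 0 h) ≫ Psi M N n =
      (α_ (N.X n) (M.X p) (N.X n)).inv ≫
        ((ιTensorObj N M n p 0 h' ≫ (ε_ M N).f 0 ≫ (u0 (R := R)).hom) ▷ N.X n) ≫
          (λ_ (N.X n)).hom := by
  unfold Psi
  rw [ι_ι_associator_inv_assoc N M N n p n 0 0 n h' h (zero_add n) (add_zero n),
    ι_whiskerRight_assoc, ι_leftUnitor_hom_f]
  simp only [MonoidalCategory.comp_whiskerRight, Category.assoc]

/-- endomorphism of `Nⁿ` attached to `z ∈ (M ⊗ N)⁰` -/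
noncomputable def psi (n : ℤ) (z : ((M ⊗ N).X 0 : ModuleCat.{u} R)) : N.X n →ₗ[R] N.X n :=
  (Psi M N n).hom ∘ₗ ((TensorProduct.mk R (N.X n) ((M ⊗ N).X 0)).flip z)

theorem psi_apply (n : ℤ) (z : ((M ⊗ N).X 0 : ModuleCat.{u} R)) (y : N.X n) :
    psi M N n z y = (Psi M N n).hom (y ⊗ₜ[R] z) := rfl

theorem psi_zero (n : ℤ) : psi M N n 0 = 0 := by
  ext y
  rw [psi_apply, TensorProduct.tmul_zero, map_zero]
  rfl

theorem psi_add (n : ℤ) (z₁ z₂ : ((M ⊗ N).X 0 : ModuleCat.{u} R)) :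
    psi M N n (z₁ + z₂) = psi M N n z₁ + psi M N n z₂ := by
  ext y
  rw [LinearMap.add_apply, psi_apply, psi_apply, psi_apply, TensorProduct.tmul_add, map_add]

theorem psi_z0 (n : ℤ) : psi M N n (z0 M N) = LinearMap.id := by
  ext y
  have h := congrArg (fun φ => ModuleCat.Hom.hom φ y) (factA' M N n)
  simp only [ModuleCat.hom_comp, LinearMap.comp_apply, ModuleCat.hom_id, LinearMap.id_apply] at h
  rw [ModuleCat.MonoidalCategory.rightUnitor_inv_apply,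
    ModuleCat.MonoidalCategory.whiskerLeft_apply] at h
  exact h

/-- the predicate used in the induction -/
def Q' (z : ((M ⊗ N).X 0 : ModuleCat.{u} R)) : Prop :=
  ∃ F : Finset ℤ, ∀ n : ℤ, Groth.Agent.S7015.FactorsFF (psi M N n z) ∧ (n ∉ F → psi M N n z = 0)

theorem Q'_zero : Q' M N 0 :=
  ⟨∅, fun n => ⟨by rw [psi_zero]; exact Groth.Agent.S7015.FactorsFF.zero, fun _ => psi_zero M N n⟩⟩

theorem Q'_add (z₁ z₂ : ((M ⊗ N).X 0 : ModuleCat.{u} R)) (h₁ : Q' M N z₁) (h₂ : Q' M N z₂) :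
    Q' M N (z₁ + z₂) := by
  obtain ⟨F₁, hF₁⟩ := h₁
  obtain ⟨F₂, hF₂⟩ := h₂
  refine ⟨F₁ ∪ F₂, fun n => ⟨?_, fun hn => ?_⟩⟩
  · rw [psi_add]
    exact (hF₁ n).1.add (hF₂ n).1
  · rw [Finset.mem_union, not_or] at hn
    rw [psi_add, (hF₁ n).2 hn.1, (hF₂ n).2 hn.2, add_zero]

theorem Q'_gen (p q : ℤ) (hpq : p + q = 0) (t : (M.X p ⊗ N.X q : ModuleCat.{u} R)) :
    Q' M N ((ιTensorObj M N p q 0 hpq).hom t) := by
  induction t using TensorProduct.induction_on with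
  | zero => rw [map_zero]; exact Q'_zero M N
  | add t₁ t₂ h₁ h₂ => rw [map_add]; exact Q'_add M N _ _ h₁ h₂
  | tmul m n' =>
    refine ⟨{q}, fun n => ?_⟩
    by_cases hnp : n + p = 0
    · obtain rfl : q = n := by omega
      have key : ∀ y : N.X q, psi M N q ((ιTensorObj M N p q 0 hpq).hom (m ⊗ₜ[R] n')) y =
          ((ιTensorObj N M q p 0 hnp ≫ (ε_ M N).f 0 ≫ (u0 (R := R)).hom).hom (y ⊗ₜ[R] m)) • n' := by
        intro y
        have h := congrArg (fun φ => ModuleCat.Hom.hom φ (y ⊗ₜ[R] (m ⊗ₜ[R] n')))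
          (factB1' M N q p hpq hnp)
        simp only [ModuleCat.hom_comp, LinearMap.comp_apply] at h
        rw [ModuleCat.MonoidalCategory.whiskerLeft_apply,
          ModuleCat.MonoidalCategory.associator_inv_apply,
          ModuleCat.MonoidalCategory.whiskerRight_apply,
          ModuleCat.MonoidalCategory.leftUnitor_hom_apply] at h
        exact h
      refine ⟨⟨R, inferInstance, inferInstance, inferInstance, inferInstance,
        (ιTensorObj N M q p 0 hnp ≫ (ε_ M N).f 0 ≫ (u0 (R := R)).hom).hom ∘ₗ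
          ((TensorProduct.mk R (N.X q) (M.X p)).flip m),
        LinearMap.toSpanSingleton R (N.X q) n', ?_⟩, fun hn => absurd (Finset.mem_singleton_self q) hn⟩
      ext y
      rw [key y]
      rfl
    · have hz : psi M N n ((ιTensorObj M N p q 0 hpq).hom (m ⊗ₜ[R] n')) = 0 := by
        ext y
        have h := congrArg (fun φ => ModuleCat.Hom.hom φ (y ⊗ₜ[R] (m ⊗ₜ[R] n')))
          (factB0' M N n p q hpq hnp)
        simp only [ModuleCat.hom_comp, LinearMap.comp_apply] at h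
        rw [ModuleCat.MonoidalCategory.whiskerLeft_apply] at h
        exact h
      exact ⟨by rw [hz]; exact Groth.Agent.S7015.FactorsFF.zero, fun _ => hz⟩

theorem Q'_all (z : ((M ⊗ N).X 0 : ModuleCat.{u} R)) : Q' M N z := by
  have hz : z ∈ (⨆ (pq : {pq : ℤ × ℤ // pq.1 + pq.2 = (0 : ℤ)}),
      LinearMap.range (ιTensorObj M N pq.1.1 pq.1.2 0 pq.2).hom) := by
    rw [iSup_range_ι]; trivial
  refine Submodule.iSup_induction _ (motive := Q' M N) hz ?_ (Q'_zero M N) (Q'_add M N)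
  rintro ⟨⟨p, q⟩, hpq⟩ x ⟨t, rfl⟩
  exact Q'_gen M N p q hpq t

end pairing'

theorem main_right (M N : Cx R) [ExactPairing M N] :
    (∃ a b : ℤ, ∀ i : ℤ, i < a ∨ b < i → IsZero (N.X i)) ∧
      ∀ i : ℤ, Module.Finite R (N.X i) ∧ Module.Projective R (N.X i) := by
  apply finite_projective_bounded_of_factors
  obtain ⟨F, hF⟩ := Q'_all M N (z0 M N)
  refine ⟨F, fun n => ?_⟩
  have := hF n
  rw [psi_z0] at this
  exact this

theorem main_left (M N : Cx R) [ExactPairing M N] :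
    (∃ a b : ℤ, ∀ i : ℤ, i < a ∨ b < i → IsZero (M.X i)) ∧
      ∀ i : ℤ, Module.Finite R (M.X i) ∧ Module.Projective R (M.X i) := by
  apply finite_projective_bounded_of_factors
  obtain ⟨F, hF⟩ := Q_all M N (z0 M N)
  refine ⟨F, fun n => ?_⟩
  have := hF n
  rw [phi_z0] at this
  exact this

end Groth.Agent.Lib.T2H4.DualCx
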