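import Mathlib
import Groth.Agent.Lib.T2H4DualCx
import Groth.Agent.Lib.Helper1KF9
import Groth.Agent.Lib.Helper1TensPerf
import Groth.Agent.Lib.LeadModPairing

/-!
# The dual of a complex of modules and the evaluation map (lead, perfect duals part 1)
-/

set_option autoImplicit false
set_option maxHeartbeats 400000
universe u
open CategoryTheory CategoryTheory.Limits MonoidalCategory HomologicalComplex

namespace Groth.Agent.Lib.Lead.PerfDual

open Groth.Agent.Lib.T2H4.DualCx Groth.Agent.Lib.Lead.ModPairing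
open Groth.Agent.Lib.Helper1.KF (ι_tensor_d)

variable {A : Type u} [CommRing A] (P : Cx A)

/-- the dual complex: `Dual(P^{-n})` in degree `n`, differential `(-1)^{n+1}` times the transpose -/
noncomputable def dualCx : Cx A :=
  CochainComplex.of (fun n => dualObj (P.X (-n)))
    (fun n => (n + 1).negOnePow • dualMap (P.d (-(n + 1)) (-n)))
    (fun n => by
      simp only [Linear.units_smul_comp, Linear.comp_units_smul]
      rw [← dualMap_comp, P.d_comp_d, dualMap_zero, smul_zero, smul_zero])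

lemma dualCx_d (n m : ℤ) (h : n + 1 = m) :
    (dualCx P).d n m = (n + 1).negOnePow • dualMap (P.d (-m) (-n)) := by
  subst h
  exact CochainComplex.of_d (fun n => dualObj (P.X (-n)))
    (fun n => (n + 1).negOnePow • dualMap (P.d (-(n + 1)) (-n))) n

/-- the evaluation pairing on the summand `Dual(P^{-p}) ⊗ P^q`, `p + q = 0` -/
noncomputable def evpq (p q : ℤ) (h : p + q = 0) :
    (dualCx P).X p ⊗ P.X q ⟶ 𝟙_ (ModuleCat.{u} A) :=
  ((dualCx P).X p ◁ (P.XIsoOfEq (show q = -p by omega)).hom) ≫ evM (P.X (-p))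

lemma evpq_self (p : ℤ) : evpq P p (-p) (by omega) = evM (P.X (-p)) := by
  unfold evpq
  rw [XIsoOfEq_rfl]
  exact (congrArg (· ≫ evM (P.X (-p))) (MonoidalCategory.whiskerLeft_id _ _)).trans
    (Category.id_comp _)

lemma evpq_d (p q : ℤ) (h : p + q + 1 = 0) :
    ((dualCx P).d p (p + 1) ▷ P.X q) ≫ evpq P (p + 1) q (by omega) +
      p.negOnePow • ((dualCx P).X p ◁ P.d q (q + 1)) ≫ evpq P p (q + 1) (by omega) = 0 := by
  obtain rfl : q = -(p + 1) := by omega
  rw [evpq_self]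
  have h2 : ((dualCx P).X p ◁ P.d (-(p + 1)) (-(p + 1) + 1)) ≫ evpq P p (-(p + 1) + 1) (by omega) =
      (dualObj (P.X (-p)) ◁ P.d (-(p + 1)) (-p)) ≫ evM (P.X (-p)) := by
    unfold evpq
    rw [← Category.assoc, ← MonoidalCategory.whiskerLeft_comp, d_comp_XIsoOfEq_hom]
    rfl
  rw [h2, dualCx_d P p (p + 1) rfl]
  have h3 : ((p + 1).negOnePow • dualMap (P.d (-(p + 1)) (-p))) ▷ P.X (-(p + 1)) ≫
      evM (P.X (-(p + 1))) =
      (p + 1).negOnePow • ((dualObj (P.X (-p)) ◁ P.d (-(p + 1)) (-p)) ≫ evM (P.X (-p))) := by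
    rw [← evM_dinat]
    ext : 1
    apply TensorProduct.ext'
    intro f x
    rcases Int.units_eq_one_or (p + 1).negOnePow with h | h <;> rw [h] <;> simp <;> rfl
  show ((p + 1).negOnePow • dualMap (P.d (-(p + 1)) (-p))) ▷ P.X (-(p + 1)) ≫
      evM (P.X (-(p + 1))) +
    p.negOnePow • ((dualObj (P.X (-p)) ◁ P.d (-(p + 1)) (-p)) ≫ evM (P.X (-p))) = 0
  rw [h3, Int.negOnePow_succ, Units.neg_smul, neg_add_cancel]

/-- degree zero part of the evaluation -/
noncomputable def evDeg0 : (dualCx P ⊗ P).X 0 ⟶ 𝟙_ (ModuleCat.{u} A) :=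
  mapBifunctorDesc (fun p q h => evpq P p q h)

lemma ι_evDeg0 (p q : ℤ) (h : p + q = 0) :
    ιTensorObj (dualCx P) P p q 0 h ≫ evDeg0 P = evpq P p q h :=
  ι_mapBifunctorDesc _ p q h

/-- the evaluation `P^∨ ⊗ P ⟶ 𝟙_` -/
noncomputable def ev : dualCx P ⊗ P ⟶ 𝟙_ (Cx A) :=
  mkHomToSingle (evDeg0 P) (by
    intro i hi
    have hi' : i + 1 = 0 := hi
    apply Groth.Agent.Lib.Helper1.TensPerf.tensor_hom_ext
    intro p q hpq
    rw [comp_zero, ← Category.assoc,
      ι_tensor_d (dualCx P) P p q i hpq (p + 1) (q + 1) 0 rfl rfl hi', Preadditive.add_comp,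
      Category.assoc, ι_evDeg0, Linear.units_smul_comp, Category.assoc, ι_evDeg0]
    exact evpq_d P p q (by omega))

lemma ι_ev_f_zero (p q : ℤ) (h : p + q = 0) :
    ιTensorObj (dualCx P) P p q 0 h ≫ (ev P).f 0 = evpq P p q h ≫ (u0 (R := A)).inv := by
  unfold ev
  rw [mkHomToSingle_f, ← Category.assoc, ι_evDeg0]

lemma ev_f_eq_zero (m : ℤ) (hm : m ≠ 0) : (ev P).f m = 0 :=
  (isZero_unit_X (R := A) m hm).eq_of_tgt _ _

end Groth.Agent.Lib.Lead.PerfDual
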