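import Mathlib
import Groth.Agent.Lib.LeadPerfDual1

/-!
# The coevaluation of a bounded complex of finite projective modules and the zigzag identities
(lead, perfect duals part 2)
-/

set_option autoImplicit false
set_option maxHeartbeats 400000
universe u
open CategoryTheory CategoryTheory.Limits MonoidalCategory HomologicalComplex

namespace Groth.Agent.Lib.Lead.PerfDual

open Groth.Agent.Lib.T2H4.DualCx Groth.Agent.Lib.Lead.ModPairing
open Groth.Agent.Lib.Helper1.KF (ι_tensor_d)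
open Groth.Agent.Lib.Helper1.TensPerf (tensor_hom_ext isZero_tensorObj_of_isZero_left
  isZero_tensorObj_of_isZero_right)

section general

variable {C : Type*} [Category C] [Preadditive C] [MonoidalCategory C] [MonoidalPreadditive C]

lemma whiskerLeft_units_smul (X : C) {Y Z : C} (ε : ℤˣ) (f : Y ⟶ Z) :
    X ◁ (ε • f) = ε • (X ◁ f) := by
  rcases Int.units_eq_one_or ε with rfl | rfl
  · rw [one_smul, one_smul]
  · rw [Units.neg_smul, one_smul, Units.neg_smul, one_smul]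
    exact (tensorLeft X).map_neg

end general

variable {A : Type u} [CommRing A]

lemma isZero_dualObj {M : ModuleCat.{u} A} (h : IsZero M) : IsZero (dualObj M) := by
  haveI := ModuleCat.subsingleton_of_isZero h
  have hs : Subsingleton (Module.Dual A M) :=
    ⟨fun f g => LinearMap.ext fun x => by rw [Subsingleton.elim x 0, map_zero, map_zero]⟩
  exact @ModuleCat.isZero_of_subsingleton A _ (dualObj M) hs

section dmap

variable (P : Cx A)

/-- transpose of the differential, typed on the dual complex -/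
noncomputable def dmap (q : ℤ) : (dualCx P).X q ⟶ (dualCx P).X (q + 1) :=
  dualMap (P.d (-(q + 1)) (-q))

lemma dualCx_d' (q : ℤ) : (dualCx P).d q (q + 1) = (q + 1).negOnePow • dmap P q :=
  dualCx_d P q (q + 1) rfl

end dmap

section

variable (P : Cx A) [∀ n, Module.Finite A (P.X n)] [∀ n, Module.Projective A (P.X n)]

/-- coevaluation into the summand `P^{-q} ⊗ (P^∨)^q` -/
noncomputable def coevq (q : ℤ) : 𝟙_ (ModuleCat.{u} A) ⟶ P.X (-q) ⊗ (dualCx P).X q :=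
  coevM (P.X (-q))

lemma zig1q (q : ℤ) :
    (coevq P q ▷ P.X (-q)) ≫ (α_ (P.X (-q)) ((dualCx P).X q) (P.X (-q))).hom ≫
      (P.X (-q) ◁ evpq P q (-q) (by omega)) = (λ_ (P.X (-q))).hom ≫ (ρ_ (P.X (-q))).inv := by
  rw [evpq_self]
  exact zigzag1 (P.X (-q))

lemma zig2q (q : ℤ) :
    ((dualCx P).X q ◁ coevq P q) ≫ (α_ ((dualCx P).X q) (P.X (-q)) ((dualCx P).X q)).inv ≫
      (evpq P q (-q) (by omega) ▷ (dualCx P).X q) =
    (ρ_ ((dualCx P).X q)).hom ≫ (λ_ ((dualCx P).X q)).inv := by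
  rw [evpq_self]
  exact zigzag2 (P.X (-q))

lemma coevq_dinat (q : ℤ) :
    coevq P q ≫ (P.X (-q) ◁ dmap P q) =
      coevq P (q + 1) ≫ (P.d (-(q + 1)) (-q) ▷ (dualCx P).X (q + 1)) :=
  (coevM_dinat (P.d (-(q + 1)) (-q))).symm

/-- the summand of the coevaluation -/
noncomputable def cq (q : ℤ) : 𝟙_ (ModuleCat.{u} A) ⟶ (P ⊗ dualCx P).X 0 :=
  coevq P q ≫ ιTensorObj P (dualCx P) (-q) q 0 (by omega)

/-- `coevq` followed by `d ⊗ 1` and the inclusion (flexible index) -/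
noncomputable def G (q p' : ℤ) (hp' : -q + 1 = p') :
    𝟙_ (ModuleCat.{u} A) ⟶ (P ⊗ dualCx P).X 1 :=
  coevq P q ≫ (P.d (-q) p' ▷ (dualCx P).X q) ≫ ιTensorObj P (dualCx P) p' q 1 (by omega)

lemma G_congr (q p' : ℤ) (hp' : -q + 1 = p') : G P q p' hp' = G P q (-q + 1) rfl := by
  subst hp'; rfl

/-- the telescoping term -/
noncomputable def g (q : ℤ) : 𝟙_ (ModuleCat.{u} A) ⟶ (P ⊗ dualCx P).X 1 := G P q (-q + 1) rfl

lemma cq_d (q : ℤ) : cq P q ≫ (P ⊗ dualCx P).d 0 1 = g P q - g P (q + 1) := by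
  have hsign : (-q).negOnePow * (q + 1).negOnePow = -1 := by
    rw [Int.negOnePow_neg, Int.negOnePow_succ, mul_neg, Int.units_mul_self]
  have h2 : coevq P q ≫ (P.X (-q) ◁ (dualCx P).d q (q + 1)) ≫
        ιTensorObj P (dualCx P) (-q) (q + 1) 1 (by omega) =
      (q + 1).negOnePow • G P (q + 1) (-q) (by omega) := by
    rw [dualCx_d', whiskerLeft_units_smul, Linear.units_smul_comp, Linear.comp_units_smul,
      ← Category.assoc, coevq_dinat, Category.assoc]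
    rfl
  unfold cq
  rw [Category.assoc,
    ι_tensor_d P (dualCx P) (-q) q 0 (by omega) (-q + 1) (q + 1) 1 rfl rfl (zero_add 1),
    Preadditive.comp_add, Linear.comp_units_smul, h2, smul_smul, hsign, Units.neg_smul, one_smul,
    G_congr P (q + 1) (-q) (by omega)]
  exact (sub_eq_add_neg _ _).symm

lemma g_eq_zero_of_src (q : ℤ) (h : IsZero (P.X (-q))) : g P q = 0 := by
  unfold g G
  rw [h.eq_of_src (P.d (-q) (-q + 1)) 0]
  simp

lemma g_eq_zero_of_tgt (q : ℤ) (h : IsZero (P.X (-q + 1))) : g P q = 0 := by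
  unfold g G
  rw [h.eq_of_tgt (P.d (-q) (-q + 1)) 0]
  simp

/-- the degree zero component of the coevaluation -/
noncomputable def phi (lo : ℤ) (N : ℕ) : 𝟙_ (ModuleCat.{u} A) ⟶ (P ⊗ dualCx P).X 0 :=
  ∑ k ∈ Finset.range N, cq P (lo + k)

lemma phi_d (lo : ℤ) (N : ℕ) :
    phi P lo N ≫ (P ⊗ dualCx P).d 0 1 = g P lo - g P (lo + N) := by
  unfold phi
  rw [Preadditive.sum_comp]
  calc ∑ k ∈ Finset.range N, cq P (lo + k) ≫ (P ⊗ dualCx P).d 0 1
      = ∑ k ∈ Finset.range N, (g P (lo + (k : ℕ)) - g P (lo + ((k + 1 : ℕ) : ℤ))) :=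
        Finset.sum_congr rfl (fun k _ => by
          rw [cq_d, show lo + (k : ℤ) + 1 = lo + ((k + 1 : ℕ) : ℤ) by omega])
    _ = g P (lo + ((0 : ℕ) : ℤ)) - g P (lo + (N : ℤ)) :=
        Finset.sum_range_sub' (fun k : ℕ => g P (lo + (k : ℤ))) N
    _ = g P lo - g P (lo + N) := by rw [Nat.cast_zero, add_zero]

/-- the coevaluation `𝟙_ ⟶ P ⊗ P^∨` -/
noncomputable def coevOf (lo : ℤ) (N : ℕ) (h1 : IsZero (P.X (-lo + 1)))
    (h2 : IsZero (P.X (-(lo + N)))) : 𝟙_ (Cx A) ⟶ P ⊗ dualCx P :=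
  mkHomFromSingle (phi P lo N) (by
    intro j hj
    obtain rfl : j = 1 := by
      have : (0 : ℤ) + 1 = j := hj
      omega
    rw [phi_d, g_eq_zero_of_tgt P lo h1, g_eq_zero_of_src P _ h2, sub_zero])

lemma coevOf_f_zero (lo : ℤ) (N : ℕ) (h1 : IsZero (P.X (-lo + 1)))
    (h2 : IsZero (P.X (-(lo + N)))) :
    (coevOf P lo N h1 h2).f 0 = (u0 (R := A)).hom ≫ phi P lo N :=
  mkHomFromSingle_f _ _

/-! ### first zigzag identity -/

/-- the `q`-th term of the first zigzag composite in degree `n` -/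
noncomputable def T (q n : ℤ) : 𝟙_ (ModuleCat.{u} A) ⊗ P.X n ⟶ (P ⊗ 𝟙_ (Cx A)).X n :=
  (cq P q ▷ P.X n) ≫ ιTensorObj (P ⊗ dualCx P) P 0 n n (zero_add n) ≫
    (α_ P (dualCx P) P).hom.f n ≫ (P ◁ ev P).f n

lemma T_eq_zero (q n : ℤ) (hqn : q + n ≠ 0) : T P q n = 0 := by
  unfold T cq
  rw [comp_whiskerRight, Category.assoc,
    ι_ι_associator_hom_assoc P (dualCx P) P (-q) q n 0 (q + n) n (by omega) rfl (zero_add n)
      (by omega),
    ι_whiskerLeft, ev_f_eq_zero P (q + n) hqn]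
  simp

lemma T_self (q : ℤ) : T P q (-q) = (λ_ (P.X (-q))).hom ≫ (ρ_ P).inv.f (-q) := by
  have h₀ : -q + q = 0 := by omega
  have h₁ : q + -q = 0 := by omega
  calc T P q (-q)
      = (coevq P q ▷ P.X (-q)) ≫ (ιTensorObj P (dualCx P) (-q) q 0 h₀ ▷ P.X (-q)) ≫
          ιTensorObj (P ⊗ dualCx P) P 0 (-q) (-q) (zero_add _) ≫
          (α_ P (dualCx P) P).hom.f (-q) ≫ (P ◁ ev P).f (-q) := by
        unfold T cq
        rw [comp_whiskerRight, Category.assoc]
    _ = (coevq P q ▷ P.X (-q)) ≫ (α_ (P.X (-q)) ((dualCx P).X q) (P.X (-q))).hom ≫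
          (P.X (-q) ◁ ιTensorObj (dualCx P) P q (-q) 0 h₁) ≫
          (P.X (-q) ◁ (ev P).f 0) ≫ ιTensorObj P (𝟙_ (Cx A)) (-q) 0 (-q) (add_zero _) := by
        rw [ι_ι_associator_hom_assoc P (dualCx P) P (-q) q (-q) 0 0 (-q) h₀ h₁ (zero_add _)
          (add_zero _), ι_whiskerLeft]
    _ = (coevq P q ▷ P.X (-q)) ≫ (α_ (P.X (-q)) ((dualCx P).X q) (P.X (-q))).hom ≫
          (P.X (-q) ◁ evpq P q (-q) h₁) ≫ (P.X (-q) ◁ (u0 (R := A)).inv) ≫
          ιTensorObj P (𝟙_ (Cx A)) (-q) 0 (-q) (add_zero _) := by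
        rw [← MonoidalCategory.whiskerLeft_comp_assoc, ι_ev_f_zero,
          MonoidalCategory.whiskerLeft_comp_assoc]
    _ = ((coevq P q ▷ P.X (-q)) ≫ (α_ (P.X (-q)) ((dualCx P).X q) (P.X (-q))).hom ≫
          (P.X (-q) ◁ evpq P q (-q) h₁)) ≫ (P.X (-q) ◁ (u0 (R := A)).inv) ≫
          ιTensorObj P (𝟙_ (Cx A)) (-q) 0 (-q) (add_zero _) := by
        simp only [Category.assoc]
    _ = ((λ_ (P.X (-q))).hom ≫ (ρ_ (P.X (-q))).inv) ≫ (P.X (-q) ◁ (u0 (R := A)).inv) ≫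
          ιTensorObj P (𝟙_ (Cx A)) (-q) 0 (-q) (add_zero _) := by
        rw [zig1q]
    _ = (λ_ (P.X (-q))).hom ≫ (ρ_ P).inv.f (-q) := by
        rw [rightUnitor_inv_f, Category.assoc]

lemma phi_T (lo : ℤ) (N : ℕ) (n : ℤ) :
    (phi P lo N ▷ P.X n) ≫ ιTensorObj (P ⊗ dualCx P) P 0 n n (zero_add n) ≫
      (α_ P (dualCx P) P).hom.f n ≫ (P ◁ ev P).f n =
    ∑ k ∈ Finset.range N, T P (lo + k) n := by
  unfold phi T
  rw [sum_whiskerRight, Preadditive.sum_comp]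

lemma sum_T_eq (lo : ℤ) (N : ℕ) (n : ℤ) (k₀ : ℕ) (hk₀ : k₀ ∈ Finset.range N)
    (hk : lo + (k₀ : ℤ) = -n) :
    ∑ k ∈ Finset.range N, T P (lo + k) n = (λ_ (P.X n)).hom ≫ (ρ_ P).inv.f n := by
  obtain rfl : n = -(lo + k₀) := by omega
  rw [Finset.sum_eq_single k₀ (fun k _ hkk => T_eq_zero P (lo + k) _ (by omega))
    (fun h => absurd hk₀ h)]
  exact T_self P (lo + k₀)

lemma zig1_summand (lo : ℤ) (N : ℕ) (h1 : IsZero (P.X (-lo + 1)))
    (h2 : IsZero (P.X (-(lo + N))))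
    (hcover : ∀ n : ℤ, ¬ IsZero (P.X n) → ∃ k ∈ Finset.range N, lo + (k : ℤ) = -n) (n : ℤ) :
    ιTensorObj (𝟙_ (Cx A)) P 0 n n (zero_add n) ≫ (coevOf P lo N h1 h2 ▷ P).f n ≫
        (α_ P (dualCx P) P).hom.f n ≫ (P ◁ ev P).f n =
      ιTensorObj (𝟙_ (Cx A)) P 0 n n (zero_add n) ≫ (λ_ P).hom.f n ≫ (ρ_ P).inv.f n := by
  by_cases hz : IsZero (P.X n)
  · exact (isZero_tensorObj_of_isZero_right hz).eq_of_src _ _
  · obtain ⟨k₀, hk₀, hk⟩ := hcover n hz
    calc ιTensorObj (𝟙_ (Cx A)) P 0 n n (zero_add n) ≫ (coevOf P lo N h1 h2 ▷ P).f n ≫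
          (α_ P (dualCx P) P).hom.f n ≫ (P ◁ ev P).f n
        = (((u0 (R := A)).hom ≫ phi P lo N) ▷ P.X n) ≫
            ιTensorObj (P ⊗ dualCx P) P 0 n n (zero_add n) ≫
            (α_ P (dualCx P) P).hom.f n ≫ (P ◁ ev P).f n := by
          rw [ι_whiskerRight_assoc, coevOf_f_zero]
      _ = ((u0 (R := A)).hom ▷ P.X n) ≫ ((phi P lo N ▷ P.X n) ≫
            ιTensorObj (P ⊗ dualCx P) P 0 n n (zero_add n) ≫
            (α_ P (dualCx P) P).hom.f n ≫ (P ◁ ev P).f n) := by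
          rw [comp_whiskerRight, Category.assoc]
      _ = ((u0 (R := A)).hom ▷ P.X n) ≫ ((λ_ (P.X n)).hom ≫ (ρ_ P).inv.f n) := by
          rw [phi_T, sum_T_eq P lo N n k₀ hk₀ hk]
      _ = (ιTensorObj (𝟙_ (Cx A)) P 0 n n (zero_add n) ≫ (λ_ P).hom.f n) ≫
            (ρ_ P).inv.f n := by
          rw [ι_leftUnitor_hom_f, Category.assoc]
      _ = _ := by rw [Category.assoc]

theorem zig1 (lo : ℤ) (N : ℕ) (h1 : IsZero (P.X (-lo + 1)))
    (h2 : IsZero (P.X (-(lo + N))))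
    (hcover : ∀ n : ℤ, ¬ IsZero (P.X n) → ∃ k ∈ Finset.range N, lo + (k : ℤ) = -n) :
    coevOf P lo N h1 h2 ▷ P ≫ (α_ P (dualCx P) P).hom ≫ P ◁ ev P =
      (λ_ P).hom ≫ (ρ_ P).inv := by
  refine HomologicalComplex.hom_ext _ _ (fun n => ?_)
  simp only [HomologicalComplex.comp_f]
  apply tensor_hom_ext
  intro i j hij
  by_cases hi : i = 0
  · subst hi
    obtain rfl : j = n := by omega
    exact zig1_summand P lo N h1 h2 hcover _
  · exact (isZero_tensorObj_of_isZero_left (isZero_unit_X (R := A) i hi)).eq_of_src _ _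

/-! ### second zigzag identity -/

/-- the `q`-th term of the second zigzag composite in degree `n` -/
noncomputable def T' (q n : ℤ) :
    (dualCx P).X n ⊗ 𝟙_ (ModuleCat.{u} A) ⟶ (𝟙_ (Cx A) ⊗ dualCx P).X n :=
  ((dualCx P).X n ◁ cq P q) ≫ ιTensorObj (dualCx P) (P ⊗ dualCx P) n 0 n (add_zero n) ≫
    (α_ (dualCx P) P (dualCx P)).inv.f n ≫ (ev P ▷ dualCx P).f n

lemma T'_eq_zero (q n : ℤ) (hqn : n + -q ≠ 0) : T' P q n = 0 := by
  unfold T' cq
  rw [MonoidalCategory.whiskerLeft_comp, Category.assoc,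
    ι_ι_associator_inv_assoc (dualCx P) P (dualCx P) n (-q) q (n + -q) 0 n rfl (by omega)
      (by omega) (add_zero n),
    ι_whiskerRight, ev_f_eq_zero P (n + -q) hqn]
  simp

lemma T'_self (q : ℤ) :
    T' P q q = (ρ_ ((dualCx P).X q)).hom ≫ (λ_ (dualCx P)).inv.f q := by
  have h₀ : -q + q = 0 := by omega
  have h₁ : q + -q = 0 := by omega
  calc T' P q q
      = ((dualCx P).X q ◁ coevq P q) ≫
          ((dualCx P).X q ◁ ιTensorObj P (dualCx P) (-q) q 0 h₀) ≫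
          ιTensorObj (dualCx P) (P ⊗ dualCx P) q 0 q (add_zero _) ≫
          (α_ (dualCx P) P (dualCx P)).inv.f q ≫ (ev P ▷ dualCx P).f q := by
        unfold T' cq
        rw [MonoidalCategory.whiskerLeft_comp, Category.assoc]
    _ = ((dualCx P).X q ◁ coevq P q) ≫
          (α_ ((dualCx P).X q) (P.X (-q)) ((dualCx P).X q)).inv ≫
          (ιTensorObj (dualCx P) P q (-q) 0 h₁ ▷ (dualCx P).X q) ≫
          ((ev P).f 0 ▷ (dualCx P).X q) ≫
          ιTensorObj (𝟙_ (Cx A)) (dualCx P) 0 q q (zero_add _) := by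
        rw [ι_ι_associator_inv_assoc (dualCx P) P (dualCx P) q (-q) q 0 0 q h₁ h₀ (zero_add _)
          (add_zero _), ι_whiskerRight]
    _ = ((dualCx P).X q ◁ coevq P q) ≫
          (α_ ((dualCx P).X q) (P.X (-q)) ((dualCx P).X q)).inv ≫
          (evpq P q (-q) h₁ ▷ (dualCx P).X q) ≫ ((u0 (R := A)).inv ▷ (dualCx P).X q) ≫
          ιTensorObj (𝟙_ (Cx A)) (dualCx P) 0 q q (zero_add _) := by
        rw [← MonoidalCategory.comp_whiskerRight_assoc, ι_ev_f_zero,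
          MonoidalCategory.comp_whiskerRight_assoc]
    _ = (((dualCx P).X q ◁ coevq P q) ≫
          (α_ ((dualCx P).X q) (P.X (-q)) ((dualCx P).X q)).inv ≫
          (evpq P q (-q) h₁ ▷ (dualCx P).X q)) ≫ ((u0 (R := A)).inv ▷ (dualCx P).X q) ≫
          ιTensorObj (𝟙_ (Cx A)) (dualCx P) 0 q q (zero_add _) := by
        simp only [Category.assoc]
    _ = ((ρ_ ((dualCx P).X q)).hom ≫ (λ_ ((dualCx P).X q)).inv) ≫
          ((u0 (R := A)).inv ▷ (dualCx P).X q) ≫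
          ιTensorObj (𝟙_ (Cx A)) (dualCx P) 0 q q (zero_add _) := by
        rw [zig2q]
    _ = (ρ_ ((dualCx P).X q)).hom ≫ (λ_ (dualCx P)).inv.f q := by
        rw [leftUnitor_inv_f, Category.assoc]

lemma phi_T' (lo : ℤ) (N : ℕ) (n : ℤ) :
    ((dualCx P).X n ◁ phi P lo N) ≫
      ιTensorObj (dualCx P) (P ⊗ dualCx P) n 0 n (add_zero n) ≫
      (α_ (dualCx P) P (dualCx P)).inv.f n ≫ (ev P ▷ dualCx P).f n =
    ∑ k ∈ Finset.range N, T' P (lo + k) n := by
  unfold phi T'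
  rw [whiskerLeft_sum, Preadditive.sum_comp]

lemma sum_T'_eq (lo : ℤ) (N : ℕ) (n : ℤ) (k₀ : ℕ) (hk₀ : k₀ ∈ Finset.range N)
    (hk : lo + (k₀ : ℤ) = n) :
    ∑ k ∈ Finset.range N, T' P (lo + k) n =
      (ρ_ ((dualCx P).X n)).hom ≫ (λ_ (dualCx P)).inv.f n := by
  obtain rfl : n = lo + k₀ := hk.symm
  rw [Finset.sum_eq_single k₀ (fun k _ hkk => T'_eq_zero P (lo + k) _ (by omega))
    (fun h => absurd hk₀ h)]
  exact T'_self P (lo + k₀)

lemma zig2_summand (lo : ℤ) (N : ℕ) (h1 : IsZero (P.X (-lo + 1)))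
    (h2 : IsZero (P.X (-(lo + N))))
    (hcover : ∀ n : ℤ, ¬ IsZero (P.X n) → ∃ k ∈ Finset.range N, lo + (k : ℤ) = -n) (n : ℤ) :
    ιTensorObj (dualCx P) (𝟙_ (Cx A)) n 0 n (add_zero n) ≫
        (dualCx P ◁ coevOf P lo N h1 h2).f n ≫
        (α_ (dualCx P) P (dualCx P)).inv.f n ≫ (ev P ▷ dualCx P).f n =
      ιTensorObj (dualCx P) (𝟙_ (Cx A)) n 0 n (add_zero n) ≫ (ρ_ (dualCx P)).hom.f n ≫
        (λ_ (dualCx P)).inv.f n := by
  by_cases hz : IsZero (P.X (-n))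
  · exact (isZero_tensorObj_of_isZero_left (isZero_dualObj hz)).eq_of_src _ _
  · obtain ⟨k₀, hk₀, hk⟩ := hcover (-n) hz
    have hk' : lo + (k₀ : ℤ) = n := by omega
    calc ιTensorObj (dualCx P) (𝟙_ (Cx A)) n 0 n (add_zero n) ≫
          (dualCx P ◁ coevOf P lo N h1 h2).f n ≫
          (α_ (dualCx P) P (dualCx P)).inv.f n ≫ (ev P ▷ dualCx P).f n
        = ((dualCx P).X n ◁ ((u0 (R := A)).hom ≫ phi P lo N)) ≫
            ιTensorObj (dualCx P) (P ⊗ dualCx P) n 0 n (add_zero n) ≫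
            (α_ (dualCx P) P (dualCx P)).inv.f n ≫ (ev P ▷ dualCx P).f n := by
          rw [ι_whiskerLeft_assoc, coevOf_f_zero]
      _ = ((dualCx P).X n ◁ (u0 (R := A)).hom) ≫ (((dualCx P).X n ◁ phi P lo N) ≫
            ιTensorObj (dualCx P) (P ⊗ dualCx P) n 0 n (add_zero n) ≫
            (α_ (dualCx P) P (dualCx P)).inv.f n ≫ (ev P ▷ dualCx P).f n) := by
          rw [MonoidalCategory.whiskerLeft_comp, Category.assoc]
      _ = ((dualCx P).X n ◁ (u0 (R := A)).hom) ≫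
            ((ρ_ ((dualCx P).X n)).hom ≫ (λ_ (dualCx P)).inv.f n) := by
          rw [phi_T', sum_T'_eq P lo N n k₀ hk₀ hk']
      _ = (ιTensorObj (dualCx P) (𝟙_ (Cx A)) n 0 n (add_zero n) ≫ (ρ_ (dualCx P)).hom.f n) ≫
            (λ_ (dualCx P)).inv.f n := by
          rw [ι_rightUnitor_hom_f, Category.assoc]
      _ = _ := by rw [Category.assoc]

theorem zig2 (lo : ℤ) (N : ℕ) (h1 : IsZero (P.X (-lo + 1)))
    (h2 : IsZero (P.X (-(lo + N))))
    (hcover : ∀ n : ℤ, ¬ IsZero (P.X n) → ∃ k ∈ Finset.range N, lo + (k : ℤ) = -n) :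
    dualCx P ◁ coevOf P lo N h1 h2 ≫ (α_ (dualCx P) P (dualCx P)).inv ≫ ev P ▷ dualCx P =
      (ρ_ (dualCx P)).hom ≫ (λ_ (dualCx P)).inv := by
  refine HomologicalComplex.hom_ext _ _ (fun n => ?_)
  simp only [HomologicalComplex.comp_f]
  apply tensor_hom_ext
  intro i j hij
  by_cases hj : j = 0
  · subst hj
    obtain rfl : i = n := by omega
    exact zig2_summand P lo N h1 h2 hcover _
  · exact (isZero_tensorObj_of_isZero_right (isZero_unit_X (R := A) j hj)).eq_of_src _ _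

/-- the exact pairing between `P` and its dual -/
noncomputable def exactPairingOf (lo : ℤ) (N : ℕ) (h1 : IsZero (P.X (-lo + 1)))
    (h2 : IsZero (P.X (-(lo + N))))
    (hcover : ∀ n : ℤ, ¬ IsZero (P.X n) → ∃ k ∈ Finset.range N, lo + (k : ℤ) = -n) :
    ExactPairing P (dualCx P) where
  coevaluation' := coevOf P lo N h1 h2
  evaluation' := ev P
  coevaluation_evaluation' := zig2 P lo N h1 h2 hcover
  evaluation_coevaluation' := zig1 P lo N h1 h2 hcover

end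

/-- a bounded complex of finite projective modules has a (right) dual, again bounded and termwise
finite projective -/
theorem exists_dual (P : Cx A) (a b : ℤ) (hb : DRing.VanishesOutside P a b)
    (hf : DRing.TermwiseFiniteProjective P) :
    DRing.VanishesOutside (dualCx P) (-b) (-a) ∧ DRing.TermwiseFiniteProjective (dualCx P) ∧
      Nonempty (ExactPairing P (dualCx P)) := by
  haveI : ∀ n, Module.Finite A (P.X n) := fun n => (hf n).1
  haveI : ∀ n, Module.Projective A (P.X n) := fun n => (hf n).2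
  refine ⟨?_, ?_, ?_⟩
  · intro i hi
    exact isZero_dualObj (hb (-i) (by omega))
  · intro i
    exact ⟨(inferInstance : Module.Finite A (Module.Dual A (P.X (-i)))),
      (inferInstance : Module.Projective A (Module.Dual A (P.X (-i))))⟩
  · have hN : ((b - a + 1).toNat : ℤ) = max (b - a + 1) 0 := Int.toNat_eq_max _
    refine ⟨exactPairingOf P (-b) (b - a + 1).toNat (hb _ (Or.inr (by omega)))
      (hb _ (Or.inl (by omega))) ?_⟩
    intro n hn
    have hn' : a ≤ n ∧ n ≤ b := by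
      by_contra hcon
      exact hn (hb n (by omega))
    have hk : ((b - n).toNat : ℤ) = b - n := Int.toNat_of_nonneg (by omega)
    refine ⟨(b - n).toNat, Finset.mem_range.mpr ?_, by omega⟩
    have : ((b - n).toNat : ℤ) < ((b - a + 1).toNat : ℤ) := by omega
    exact_mod_cast this

end Groth.Agent.Lib.Lead.PerfDual
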