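import Mathlib
import Groth.Agent.Lib.LeadDTMon3
import Groth.Agent.Lib.LeadPerfDual2

/-!
# Every ring has duals of bounded complexes of finite projective modules (lead, perfect duals part 3)
-/

set_option autoImplicit false
set_option maxHeartbeats 400000
universe u
open CategoryTheory CategoryTheory.Limits MonoidalCategory

namespace Groth.Agent.Lib.Lead.PerfDual

theorem hasDuals (A : Type u) [CommRing A] : Groth.Agent.Lib.Lead.DTMon.HasDuals A := by
  intro P a b hv hp
  obtain ⟨h1, h2, h3⟩ := exists_dual P a b hv hp
  exact ⟨dualCx P, h1, h2, h3⟩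

end Groth.Agent.Lib.Lead.PerfDual
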