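import Mathlib

/-!
Lead: the free commutative Picard category on a symmetric monoidal category `A`
(generators and relations), used for the Picardification (S15291).
-/

set_option autoImplicit false
universe v u

namespace Groth.Agent.Lib.LeadPicFree

open CategoryTheory MonoidalCategory

section

variable (A : Type u)

/-- objects of the free Picard category: formal tensor expressions with formal inverses -/
inductive Obj : Type u
  | of : A → Obj
  | unit : Obj
  | tensor : Obj → Obj → Obj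
  | inv : Obj → Obj

end

variable {A : Type u} [Category.{v} A] [MonoidalCategory A] [SymmetricCategory A]

/-- formal morphisms -/
inductive Hom : Obj A → Obj A → Type (max u v)
  | id (X : Obj A) : Hom X X
  | comp {X Y Z : Obj A} (f : Hom X Y) (g : Hom Y Z) : Hom X Z
  | symm {X Y : Obj A} (f : Hom X Y) : Hom Y X
  | tensor {W X Y Z : Obj A} (f : Hom W Y) (g : Hom X Z) : Hom (W.tensor X) (Y.tensor Z)
  | assoc (X Y Z : Obj A) : Hom ((X.tensor Y).tensor Z) (X.tensor (Y.tensor Z))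
  | lunit (X : Obj A) : Hom (Obj.unit.tensor X) X
  | runit (X : Obj A) : Hom (X.tensor Obj.unit) X
  | braid (X Y : Obj A) : Hom (X.tensor Y) (Y.tensor X)
  | ofHom {a b : A} (f : a ⟶ b) : Hom (Obj.of a) (Obj.of b)
  | mu (a b : A) : Hom ((Obj.of a).tensor (Obj.of b)) (Obj.of (a ⊗ b))
  | eps : Hom Obj.unit (Obj.of (𝟙_ A))
  | ev (X : Obj A) : Hom ((Obj.inv X).tensor X) Obj.unit

open Obj in
/-- the relations -/
inductive HomEquiv : ∀ {X Y : Obj A}, Hom X Y → Hom X Y → Prop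
  | refl {X Y : Obj A} (f : Hom X Y) : HomEquiv f f
  | symm {X Y : Obj A} (f g : Hom X Y) : HomEquiv f g → HomEquiv g f
  | trans {X Y : Obj A} {f g h : Hom X Y} : HomEquiv f g → HomEquiv g h → HomEquiv f h
  | comp_congr {X Y Z : Obj A} {f f' : Hom X Y} {g g' : Hom Y Z} :
      HomEquiv f f' → HomEquiv g g' → HomEquiv (f.comp g) (f'.comp g')
  | symm_congr {X Y : Obj A} {f f' : Hom X Y} : HomEquiv f f' → HomEquiv f.symm f'.symm
  | tensor_congr {W X Y Z : Obj A} {f f' : Hom W X} {g g' : Hom Y Z} :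
      HomEquiv f f' → HomEquiv g g' → HomEquiv (f.tensor g) (f'.tensor g')
  | comp_id {X Y : Obj A} (f : Hom X Y) : HomEquiv (f.comp (Hom.id _)) f
  | id_comp {X Y : Obj A} (f : Hom X Y) : HomEquiv ((Hom.id _).comp f) f
  | assoc {X Y U V : Obj A} (f : Hom X U) (g : Hom U V) (h : Hom V Y) :
      HomEquiv ((f.comp g).comp h) (f.comp (g.comp h))
  | comp_symm {X Y : Obj A} (f : Hom X Y) : HomEquiv (f.comp f.symm) (Hom.id _)
  | symm_comp {X Y : Obj A} (f : Hom X Y) : HomEquiv (f.symm.comp f) (Hom.id _)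
  | tensor_id {X Y : Obj A} : HomEquiv ((Hom.id X).tensor (Hom.id Y)) (Hom.id _)
  | tensor_comp {X₁ Y₁ Z₁ X₂ Y₂ Z₂ : Obj A} (f₁ : Hom X₁ Y₁) (f₂ : Hom X₂ Y₂)
      (g₁ : Hom Y₁ Z₁) (g₂ : Hom Y₂ Z₂) :
      HomEquiv ((f₁.tensor f₂).comp (g₁.tensor g₂)) ((f₁.comp g₁).tensor (f₂.comp g₂))
  | assoc_nat {X₁ X₂ X₃ Y₁ Y₂ Y₃ : Obj A} (f₁ : Hom X₁ Y₁) (f₂ : Hom X₂ Y₂) (f₃ : Hom X₃ Y₃) :
      HomEquiv (((f₁.tensor f₂).tensor f₃).comp (Hom.assoc Y₁ Y₂ Y₃))
        ((Hom.assoc X₁ X₂ X₃).comp (f₁.tensor (f₂.tensor f₃)))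
  | lunit_nat {X Y : Obj A} (f : Hom X Y) :
      HomEquiv (((Hom.id unit).tensor f).comp (Hom.lunit Y)) ((Hom.lunit X).comp f)
  | runit_nat {X Y : Obj A} (f : Hom X Y) :
      HomEquiv ((f.tensor (Hom.id unit)).comp (Hom.runit Y)) ((Hom.runit X).comp f)
  | pentagon {W X Y Z : Obj A} :
      HomEquiv
        (((Hom.assoc W X Y).tensor (Hom.id Z)).comp
          ((Hom.assoc W (X.tensor Y) Z).comp ((Hom.id W).tensor (Hom.assoc X Y Z))))
        ((Hom.assoc (W.tensor X) Y Z).comp (Hom.assoc W X (Y.tensor Z)))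
  | triangle {X Y : Obj A} :
      HomEquiv ((Hom.assoc X unit Y).comp ((Hom.id X).tensor (Hom.lunit Y)))
        ((Hom.runit X).tensor (Hom.id Y))
  | braid_nat {X Y X' Y' : Obj A} (f : Hom X Y) (g : Hom X' Y') :
      HomEquiv ((f.tensor g).comp (Hom.braid Y Y')) ((Hom.braid X X').comp (g.tensor f))
  | braid_symm (X Y : Obj A) : HomEquiv ((Hom.braid X Y).comp (Hom.braid Y X)) (Hom.id _)
  | hexagon (X Y Z : Obj A) :
      HomEquiv ((Hom.assoc X Y Z).comp ((Hom.braid X (Y.tensor Z)).comp (Hom.assoc Y Z X)))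
        (((Hom.braid X Y).tensor (Hom.id Z)).comp
          ((Hom.assoc Y X Z).comp ((Hom.id Y).tensor (Hom.braid X Z))))
  | hexagon' (X Y Z : Obj A) :
      HomEquiv ((Hom.assoc X Y Z).symm.comp ((Hom.braid (X.tensor Y) Z).comp (Hom.assoc Z X Y).symm))
        (((Hom.id X).tensor (Hom.braid Y Z)).comp
          ((Hom.assoc X Z Y).symm.comp ((Hom.braid X Z).tensor (Hom.id Y))))
  | ofHom_id (a : A) : HomEquiv (Hom.ofHom (𝟙 a)) (Hom.id _)
  | ofHom_comp {a b c : A} (f : a ⟶ b) (g : b ⟶ c) :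
      HomEquiv (Hom.ofHom (f ≫ g)) ((Hom.ofHom f).comp (Hom.ofHom g))
  | mu_nat {a b a' b' : A} (f : a ⟶ b) (g : a' ⟶ b') :
      HomEquiv (((Hom.ofHom f).tensor (Hom.ofHom g)).comp (Hom.mu b b'))
        ((Hom.mu a a').comp (Hom.ofHom (f ⊗ₘ g)))
  | mu_assoc (a b c : A) :
      HomEquiv (((Hom.mu a b).tensor (Hom.id (of c))).comp
          ((Hom.mu (a ⊗ b) c).comp (Hom.ofHom (α_ a b c).hom)))
        ((Hom.assoc (of a) (of b) (of c)).comp
          (((Hom.id (of a)).tensor (Hom.mu b c)).comp (Hom.mu a (b ⊗ c))))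
  | mu_lunit (a : A) :
      HomEquiv (Hom.lunit (of a))
        ((Hom.eps.tensor (Hom.id (of a))).comp ((Hom.mu (𝟙_ A) a).comp (Hom.ofHom (λ_ a).hom)))
  | mu_runit (a : A) :
      HomEquiv (Hom.runit (of a))
        (((Hom.id (of a)).tensor Hom.eps).comp ((Hom.mu a (𝟙_ A)).comp (Hom.ofHom (ρ_ a).hom)))
  | mu_braid (a b : A) :
      HomEquiv ((Hom.mu a b).comp (Hom.ofHom (β_ a b).hom))
        ((Hom.braid (of a) (of b)).comp (Hom.mu b a))

instance setoidHom (X Y : Obj A) : Setoid (Hom X Y) :=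
  ⟨HomEquiv, ⟨HomEquiv.refl, HomEquiv.symm _ _, HomEquiv.trans⟩⟩

open HomEquiv

instance categoryObj : Category.{max u v} (Obj A) where
  Hom X Y := Quotient (setoidHom X Y)
  id X := ⟦Hom.id X⟧
  comp := Quotient.map₂ Hom.comp (fun _ _ hf _ _ hg ↦ HomEquiv.comp_congr hf hg)
  id_comp := by
    rintro X Y ⟨f⟩
    exact Quotient.sound (HomEquiv.id_comp f)
  comp_id := by
    rintro X Y ⟨f⟩
    exact Quotient.sound (HomEquiv.comp_id f)
  assoc := by
    rintro W X Y Z ⟨f⟩ ⟨g⟩ ⟨h⟩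
    exact Quotient.sound (HomEquiv.assoc f g h)

/-- the class of a formal morphism -/
abbrev homMk {X Y : Obj A} (f : Hom X Y) : X ⟶ Y := ⟦f⟧

/-- the isomorphism attached to a formal morphism -/
def isoMk {X Y : Obj A} (f : Hom X Y) : X ≅ Y :=
  ⟨homMk f, homMk f.symm, Quotient.sound (comp_symm f), Quotient.sound (symm_comp f)⟩

instance : MonoidalCategoryStruct (Obj A) where
  tensorObj X Y := Obj.tensor X Y
  tensorHom := Quotient.map₂ Hom.tensor (fun _ _ hf _ _ hg ↦ HomEquiv.tensor_congr hf hg)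
  whiskerLeft X _ _ f :=
    Quotient.map₂ Hom.tensor (fun _ _ hf _ _ hg ↦ HomEquiv.tensor_congr hf hg) (homMk (Hom.id X)) f
  whiskerRight f Y :=
    Quotient.map₂ Hom.tensor (fun _ _ hf _ _ hg ↦ HomEquiv.tensor_congr hf hg) f (homMk (Hom.id Y))
  tensorUnit := Obj.unit
  associator X Y Z := isoMk (Hom.assoc X Y Z)
  leftUnitor X := isoMk (Hom.lunit X)
  rightUnitor X := isoMk (Hom.runit X)

instance monoidalObj : MonoidalCategory (Obj A) := MonoidalCategory.ofTensorHom
  (id_tensorHom_id := fun _ _ => Quotient.sound HomEquiv.tensor_id)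
  (id_tensorHom := fun _ _ _ _ => rfl)
  (tensorHom_id := fun _ _ => rfl)
  (tensorHom_comp_tensorHom := by
    rintro _ _ _ _ _ _ ⟨f₁⟩ ⟨f₂⟩ ⟨g₁⟩ ⟨g₂⟩
    exact Quotient.sound (HomEquiv.tensor_comp _ _ _ _))
  (associator_naturality := by
    rintro _ _ _ _ _ _ ⟨f₁⟩ ⟨f₂⟩ ⟨f₃⟩
    exact Quotient.sound (HomEquiv.assoc_nat _ _ _))
  (leftUnitor_naturality := by
    rintro _ _ ⟨f⟩
    exact Quotient.sound (HomEquiv.lunit_nat _))
  (rightUnitor_naturality := by
    rintro _ _ ⟨f⟩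
    exact Quotient.sound (HomEquiv.runit_nat _))
  (pentagon := fun _ _ _ _ => Quotient.sound HomEquiv.pentagon)
  (triangle := fun _ _ => Quotient.sound HomEquiv.triangle)

instance braidedObj : BraidedCategory (Obj A) where
  braiding X Y := ⟨homMk (Hom.braid X Y), homMk (Hom.braid Y X), Quotient.sound (braid_symm X Y),
    Quotient.sound (braid_symm Y X)⟩
  braiding_naturality_right := by
    rintro X Y Z ⟨f⟩
    exact Quotient.sound (HomEquiv.braid_nat (Hom.id X) f)
  braiding_naturality_left := by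
    rintro X Y ⟨f⟩ Z
    exact Quotient.sound (HomEquiv.braid_nat f (Hom.id Z))
  hexagon_forward X Y Z := Quotient.sound (HomEquiv.hexagon X Y Z)
  hexagon_reverse X Y Z := Quotient.sound (HomEquiv.hexagon' X Y Z)

instance symmetricObj : SymmetricCategory (Obj A) where
  symmetry X Y := Quotient.sound (braid_symm X Y)

instance isGroupoidObj : IsGroupoid (Obj A) where
  all_isIso f := by
    induction f using Quotient.inductionOn with
    | _ f => exact (isoMk f).isIso_hom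

variable (A) in
/-- the canonical functor -/
def incl : A ⥤ Obj A where
  obj := Obj.of
  map f := homMk (Hom.ofHom f)
  map_id a := Quotient.sound (ofHom_id a)
  map_comp f g := Quotient.sound (ofHom_comp f g)

instance inclLaxMonoidal : (incl A).LaxMonoidal := Functor.LaxMonoidal.ofTensorHom
  (ε := homMk Hom.eps)
  (μ := fun a b => homMk (Hom.mu a b))
  (μ_natural := fun f g => Quotient.sound (mu_nat f g))
  (associativity := fun a b c => Quotient.sound (mu_assoc a b c))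
  (left_unitality := fun a => Quotient.sound (mu_lunit a))
  (right_unitality := fun a => Quotient.sound (mu_runit a))

instance inclLaxBraided : (incl A).LaxBraided where
  braided a b := Quotient.sound (mu_braid a b)

end Groth.Agent.Lib.LeadPicFree
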