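import Mathlib
import Groth.Agent.Lib.LeadPicFree

/-!
Lead: extension of monoidal natural transformations from `A` to the free Picard category.
-/

set_option autoImplicit false
universe v v' u u'

namespace Groth.Agent.Lib.LeadPicFree

open CategoryTheory MonoidalCategory Functor.LaxMonoidal

variable {A : Type u} [Category.{v} A] [MonoidalCategory A] [SymmetricCategory A]
variable {P : Type u'} [Category.{v'} P] [MonoidalCategory P] [SymmetricCategory P] [IsGroupoid P]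

omit [MonoidalCategory P] [SymmetricCategory P] [IsGroupoid P] in
lemma evR_cancel {a b c d e₁ e₂ : P} (m : a ⟶ b) (p : b ⟶ c) (q : c ⟶ d) (p' : e₁ ⟶ d)
    (m' : e₂ ⟶ e₁) [IsIso p'] [IsIso m'] :
    (m ≫ p ≫ q ≫ inv p' ≫ inv m') ≫ m' ≫ p' = m ≫ p ≫ q := by simp

lemma homMk_symm {X Y : Obj A} (f : Hom X Y) : homMk f.symm = inv (homMk f) :=
  IsIso.eq_inv_of_hom_inv_id (isoMk f).hom_inv_id

variable (hP : ∀ X : P, (tensorRight X).IsEquivalence) (Ψ Ψ' : Obj A ⥤ P) [Ψ.LaxBraided]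
  [Ψ'.LaxBraided] (τ : incl A ⋙ Ψ ⟶ incl A ⋙ Ψ')

/-- the value forced on `inv X ⊗ X` -/
noncomputable def evR (X : Obj A) :
    Ψ.obj (Obj.inv X) ⊗ Ψ.obj X ⟶ Ψ'.obj (Obj.inv X) ⊗ Ψ'.obj X :=
  μ Ψ (Obj.inv X) X ≫ Ψ.map (homMk (Hom.ev X)) ≫ (inv (ε Ψ) ≫ ε Ψ') ≫
    inv (Ψ'.map (homMk (Hom.ev X))) ≫ inv (μ Ψ' (Obj.inv X) X)

/-- the components of the extension -/
noncomputable def extApp : ∀ X : Obj A, Ψ.obj X ⟶ Ψ'.obj X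
  | Obj.of a => τ.app a
  | Obj.unit => inv (ε Ψ) ≫ ε Ψ'
  | Obj.tensor X Y => inv (μ Ψ X Y) ≫ (extApp X ⊗ₘ extApp Y) ≫ μ Ψ' X Y
  | Obj.inv X =>
      haveI := hP (Ψ.obj X)
      (tensorRight (Ψ.obj X)).preimage (evR Ψ Ψ' X ≫ Ψ'.obj (Obj.inv X) ◁ inv (extApp X))

local notation "θ" => extApp hP Ψ Ψ' τ

@[reassoc]
lemma ext_unit : ε Ψ ≫ θ (𝟙_ (Obj A)) = ε Ψ' := by
  show ε Ψ ≫ (inv (ε Ψ) ≫ ε Ψ') = ε Ψ'
  rw [IsIso.hom_inv_id_assoc]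

@[reassoc]
lemma ext_tensor (X Y : Obj A) : μ Ψ X Y ≫ θ (X ⊗ Y) = (θ X ⊗ₘ θ Y) ≫ μ Ψ' X Y := by
  show μ Ψ X Y ≫ (inv (μ Ψ X Y) ≫ (θ X ⊗ₘ θ Y) ≫ μ Ψ' X Y) = _
  rw [IsIso.hom_inv_id_assoc]

lemma ext_inv_whisker (X : Obj A) :
    θ (Obj.inv X) ▷ Ψ.obj X = evR Ψ Ψ' X ≫ Ψ'.obj (Obj.inv X) ◁ inv (θ X) := by
  have := hP (Ψ.obj X)
  exact (tensorRight (Ψ.obj X)).map_preimage _

lemma ext_ev (X : Obj A) :
    (θ (Obj.inv X) ⊗ₘ θ X) ≫ μ Ψ' (Obj.inv X) X ≫ Ψ'.map (homMk (Hom.ev X)) =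
      μ Ψ (Obj.inv X) X ≫ Ψ.map (homMk (Hom.ev X)) ≫ θ Obj.unit := by
  rw [MonoidalCategory.tensorHom_def, ext_inv_whisker, Category.assoc, Category.assoc, whiskerLeft_inv_hom'_assoc]
  exact evR_cancel (μ Ψ (Obj.inv X) X) (Ψ.map (homMk (Hom.ev X))) (inv (ε Ψ) ≫ ε Ψ')
    (Ψ'.map (homMk (Hom.ev X))) (μ Ψ' (Obj.inv X) X)


/-! ### naturality -/

lemma nat_tensor {W X Y Z : Obj A} (f : W ⟶ Y) (g : X ⟶ Z)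
    (hf : Ψ.map f ≫ θ Y = θ W ≫ Ψ'.map f) (hg : Ψ.map g ≫ θ Z = θ X ≫ Ψ'.map g) :
    Ψ.map (f ⊗ₘ g) ≫ θ (Y ⊗ Z) = θ (W ⊗ X) ≫ Ψ'.map (f ⊗ₘ g) := by
  rw [← cancel_epi (μ Ψ W X), ← μ_natural_assoc, ext_tensor, tensorHom_comp_tensorHom_assoc, hf, hg,
    ext_tensor_assoc, ← μ_natural, tensorHom_comp_tensorHom_assoc]

lemma nat_assoc (X Y Z : Obj A) :
    Ψ.map (α_ X Y Z).hom ≫ θ (X ⊗ (Y ⊗ Z)) = θ ((X ⊗ Y) ⊗ Z) ≫ Ψ'.map (α_ X Y Z).hom := by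
  have hL : (μ Ψ X Y ▷ Ψ.obj Z) ≫ μ Ψ (X ⊗ Y) Z ≫ Ψ.map (α_ X Y Z).hom ≫ θ (X ⊗ (Y ⊗ Z)) =
      (α_ _ _ _).hom ≫ (θ X ⊗ₘ (θ Y ⊗ₘ θ Z)) ≫ (Ψ'.obj X ◁ μ Ψ' Y Z) ≫ μ Ψ' X (Y ⊗ Z) := by
    rw [associativity_assoc, ext_tensor, whiskerLeft_comp_tensorHom_assoc, ext_tensor,
      ← tensorHom_comp_whiskerLeft_assoc]
  have hR : (μ Ψ X Y ▷ Ψ.obj Z) ≫ μ Ψ (X ⊗ Y) Z ≫ θ ((X ⊗ Y) ⊗ Z) ≫ Ψ'.map (α_ X Y Z).hom =
      (α_ _ _ _).hom ≫ (θ X ⊗ₘ (θ Y ⊗ₘ θ Z)) ≫ (Ψ'.obj X ◁ μ Ψ' Y Z) ≫ μ Ψ' X (Y ⊗ Z) := by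
    rw [ext_tensor_assoc, whiskerRight_comp_tensorHom_assoc, ext_tensor,
      ← tensorHom_comp_whiskerRight_assoc, associativity, associator_naturality_assoc]
  rw [← cancel_epi (μ Ψ (X ⊗ Y) Z), ← cancel_epi (μ Ψ X Y ▷ Ψ.obj Z)]
  exact hL.trans hR.symm


lemma nat_lunit (X : Obj A) :
    Ψ.map (λ_ X).hom ≫ θ X = θ (𝟙_ (Obj A) ⊗ X) ≫ Ψ'.map (λ_ X).hom := by
  have hL : (ε Ψ ▷ Ψ.obj X) ≫ μ Ψ (𝟙_ (Obj A)) X ≫ Ψ.map (λ_ X).hom ≫ θ X =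
      (λ_ (Ψ.obj X)).hom ≫ θ X := by
    rw [← left_unitality_assoc]
  have hR : (ε Ψ ▷ Ψ.obj X) ≫ μ Ψ (𝟙_ (Obj A)) X ≫ θ (𝟙_ (Obj A) ⊗ X) ≫ Ψ'.map (λ_ X).hom =
      (λ_ (Ψ.obj X)).hom ≫ θ X := by
    rw [ext_tensor_assoc, whiskerRight_comp_tensorHom_assoc, ext_unit, tensorHom_def'_assoc,
      ← left_unitality, leftUnitor_naturality]
  rw [← cancel_epi (μ Ψ (𝟙_ (Obj A)) X), ← cancel_epi (ε Ψ ▷ Ψ.obj X)]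
  exact hL.trans hR.symm

lemma nat_runit (X : Obj A) :
    Ψ.map (ρ_ X).hom ≫ θ X = θ (X ⊗ 𝟙_ (Obj A)) ≫ Ψ'.map (ρ_ X).hom := by
  have hL : (Ψ.obj X ◁ ε Ψ) ≫ μ Ψ X (𝟙_ (Obj A)) ≫ Ψ.map (ρ_ X).hom ≫ θ X =
      (ρ_ (Ψ.obj X)).hom ≫ θ X := by
    rw [← right_unitality_assoc]
  have hR : (Ψ.obj X ◁ ε Ψ) ≫ μ Ψ X (𝟙_ (Obj A)) ≫ θ (X ⊗ 𝟙_ (Obj A)) ≫ Ψ'.map (ρ_ X).hom =
      (ρ_ (Ψ.obj X)).hom ≫ θ X := by
    rw [ext_tensor_assoc, whiskerLeft_comp_tensorHom_assoc, ext_unit,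
      MonoidalCategory.tensorHom_def_assoc, ← right_unitality, rightUnitor_naturality]
  rw [← cancel_epi (μ Ψ X (𝟙_ (Obj A))), ← cancel_epi (Ψ.obj X ◁ ε Ψ)]
  exact hL.trans hR.symm

lemma nat_braid (X Y : Obj A) :
    Ψ.map (β_ X Y).hom ≫ θ (Y ⊗ X) = θ (X ⊗ Y) ≫ Ψ'.map (β_ X Y).hom := by
  rw [← cancel_epi (μ Ψ X Y), Functor.LaxBraided.braided_assoc, ext_tensor, ext_tensor_assoc,
    Functor.LaxBraided.braided, BraidedCategory.braiding_naturality_assoc]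

lemma nat_ev (X : Obj A) :
    Ψ.map (homMk (Hom.ev X)) ≫ θ Obj.unit =
      θ (Obj.inv X ⊗ X) ≫ Ψ'.map (homMk (Hom.ev X)) := by
  rw [← cancel_epi (μ Ψ (Obj.inv X) X), ext_tensor_assoc]
  exact (ext_ev hP Ψ Ψ' τ X).symm

lemma nat_mu [NatTrans.IsMonoidal τ] (a b : A) :
    Ψ.map (homMk (Hom.mu a b)) ≫ θ (Obj.of (a ⊗ b)) =
      θ (Obj.of a ⊗ Obj.of b) ≫ Ψ'.map (homMk (Hom.mu a b)) := by
  have h : (μ Ψ (Obj.of a) (Obj.of b) ≫ Ψ.map (homMk (Hom.mu a b))) ≫ τ.app (a ⊗ b) =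
      (τ.app a ⊗ₘ τ.app b) ≫ (μ Ψ' (Obj.of a) (Obj.of b) ≫ Ψ'.map (homMk (Hom.mu a b))) :=
    NatTrans.IsMonoidal.tensor (τ := τ) a b
  rw [← cancel_epi (μ Ψ (Obj.of a) (Obj.of b)), ext_tensor_assoc]
  simp only [Category.assoc] at h
  exact h

lemma nat_eps [NatTrans.IsMonoidal τ] :
    Ψ.map (homMk (Hom.eps : Hom Obj.unit (Obj.of (𝟙_ A)))) ≫ θ (Obj.of (𝟙_ A)) =
      θ Obj.unit ≫ Ψ'.map (homMk Hom.eps) := by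
  have h : (ε Ψ ≫ Ψ.map (homMk (Hom.eps : Hom Obj.unit (Obj.of (𝟙_ A))))) ≫ τ.app (𝟙_ A) =
      ε Ψ' ≫ Ψ'.map (homMk Hom.eps) :=
    NatTrans.IsMonoidal.unit (τ := τ)
  rw [← cancel_epi (ε Ψ)]
  refine Eq.trans ?_ (h.trans (ext_unit_assoc hP Ψ Ψ' τ _).symm)
  simp only [Category.assoc]
  rfl

theorem ext_nat [NatTrans.IsMonoidal τ] {X Y : Obj A} (f : Hom X Y) :
    Ψ.map (homMk f) ≫ θ Y = θ X ≫ Ψ'.map (homMk f) := by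
  induction f with
  | id X =>
      show Ψ.map (𝟙 X) ≫ _ = _ ≫ Ψ'.map (𝟙 X)
      simp
  | comp f g ihf ihg =>
      show Ψ.map (homMk f ≫ homMk g) ≫ _ = _ ≫ Ψ'.map (homMk f ≫ homMk g)
      rw [Ψ.map_comp, Ψ'.map_comp, Category.assoc, ihg, ← Category.assoc, ihf, Category.assoc]
  | symm f ih =>
      rw [homMk_symm, Functor.map_inv, Functor.map_inv, IsIso.inv_comp_eq, ← Category.assoc,
        IsIso.eq_comp_inv]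
      exact ih.symm
  | tensor f g ihf ihg => exact nat_tensor hP Ψ Ψ' τ (homMk f) (homMk g) ihf ihg
  | assoc X Y Z => exact nat_assoc hP Ψ Ψ' τ X Y Z
  | lunit X => exact nat_lunit hP Ψ Ψ' τ X
  | runit X => exact nat_runit hP Ψ Ψ' τ X
  | braid X Y => exact nat_braid hP Ψ Ψ' τ X Y
  | ofHom f => exact τ.naturality f
  | mu a b => exact nat_mu hP Ψ Ψ' τ a b
  | eps => exact nat_eps hP Ψ Ψ' τ
  | ev X => exact nat_ev hP Ψ Ψ' τ X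

/-- the extension -/
noncomputable def extNat [NatTrans.IsMonoidal τ] : Ψ ⟶ Ψ' where
  app := extApp hP Ψ Ψ' τ
  naturality := by
    rintro X Y ⟨f⟩
    exact ext_nat hP Ψ Ψ' τ f

instance extNat_isMonoidal [NatTrans.IsMonoidal τ] : NatTrans.IsMonoidal (extNat hP Ψ Ψ' τ) where
  unit := ext_unit hP Ψ Ψ' τ
  tensor X Y := ext_tensor hP Ψ Ψ' τ X Y

lemma whiskerLeft_extNat [NatTrans.IsMonoidal τ] :
    Functor.whiskerLeft (incl A) (extNat hP Ψ Ψ' τ) = τ := by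
  ext a
  rfl

theorem ext_unique [NatTrans.IsMonoidal τ] (θ' : Ψ ⟶ Ψ') [NatTrans.IsMonoidal θ']
    (hw : Functor.whiskerLeft (incl A) θ' = τ) (X : Obj A) : θ'.app X = θ X := by
  have hu : θ'.app Obj.unit = θ Obj.unit := by
    show θ'.app (𝟙_ (Obj A)) = inv (ε Ψ) ≫ ε Ψ'
    rw [IsIso.eq_inv_comp]
    exact NatTrans.IsMonoidal.unit
  induction X with
  | of a => exact congrArg (fun t => t.app a) hw
  | unit => exact hu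
  | tensor X Y ihX ihY =>
      show θ'.app (X ⊗ Y) = inv (μ Ψ X Y) ≫ (θ X ⊗ₘ θ Y) ≫ μ Ψ' X Y
      rw [IsIso.eq_inv_comp, ← ihX, ← ihY]
      exact NatTrans.IsMonoidal.tensor X Y
  | inv X ih =>
      have := hP (Ψ.obj X)
      apply (tensorRight (Ψ.obj X)).map_injective
      show θ'.app (Obj.inv X) ▷ Ψ.obj X = θ (Obj.inv X) ▷ Ψ.obj X
      rw [← cancel_mono (Ψ'.obj (Obj.inv X) ◁ θ X), ← MonoidalCategory.tensorHom_def,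
        ← MonoidalCategory.tensorHom_def,
        ← cancel_mono (μ Ψ' (Obj.inv X) X ≫ Ψ'.map (homMk (Hom.ev X))), ext_ev, ← ih,
        ← NatTrans.IsMonoidal.tensor_assoc, ← θ'.naturality, hu]

end Groth.Agent.Lib.LeadPicFree
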