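import Mathlib
import Groth.Agent.Lib.LeadPicFree

/-!
Lead: tensoring with an invertible object is an equivalence; the free Picard category is Picard.
-/

set_option autoImplicit false
universe v u

namespace Groth.Agent.Lib.LeadPicFree

open CategoryTheory MonoidalCategory

section general

variable {C : Type u} [Category.{v} C] [MonoidalCategory C]

theorem tensorLeft_isEquivalence_of_iso (X Y : C) (e : Y ⊗ X ≅ 𝟙_ C) (e' : X ⊗ Y ≅ 𝟙_ C) :
    (tensorLeft X).IsEquivalence := by
  let η : tensorLeft X ⋙ tensorLeft Y ≅ 𝟭 C :=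
    (tensorLeftTensor Y X).symm ≪≫ (curriedTensor C).mapIso e ≪≫ leftUnitorNatIso C
  let ε : tensorLeft Y ⋙ tensorLeft X ≅ 𝟭 C :=
    (tensorLeftTensor X Y).symm ≪≫ (curriedTensor C).mapIso e' ≪≫ leftUnitorNatIso C
  exact (CategoryTheory.Equivalence.mk (tensorLeft X) (tensorLeft Y) η.symm ε).isEquivalence_functor

theorem tensorRight_isEquivalence_of_iso (X Y : C) (e : Y ⊗ X ≅ 𝟙_ C) (e' : X ⊗ Y ≅ 𝟙_ C) :
    (tensorRight X).IsEquivalence := by
  let η : tensorRight X ⋙ tensorRight Y ≅ 𝟭 C :=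
    (tensorRightTensor X Y).symm ≪≫ (curriedTensor C).flip.mapIso e' ≪≫ rightUnitorNatIso C
  let ε : tensorRight Y ⋙ tensorRight X ≅ 𝟭 C :=
    (tensorRightTensor Y X).symm ≪≫ (curriedTensor C).flip.mapIso e ≪≫ rightUnitorNatIso C
  exact (CategoryTheory.Equivalence.mk (tensorRight X) (tensorRight Y) η.symm ε).isEquivalence_functor

end general

variable {A : Type u} [Category.{v} A] [MonoidalCategory A] [SymmetricCategory A]

/-- the evaluation isomorphism -/
def evIso (X : Obj A) : Obj.inv X ⊗ X ≅ 𝟙_ (Obj A) := isoMk (Hom.ev X)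

theorem picard_obj (X : Obj A) :
    (tensorLeft X).IsEquivalence ∧ (tensorRight X).IsEquivalence :=
  ⟨tensorLeft_isEquivalence_of_iso X (Obj.inv X) (evIso X) ((β_ X (Obj.inv X)) ≪≫ evIso X),
    tensorRight_isEquivalence_of_iso X (Obj.inv X) (evIso X) ((β_ X (Obj.inv X)) ≪≫ evIso X)⟩

end Groth.Agent.Lib.LeadPicFree
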