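import Mathlib
import Groth.Agent.Lib.LeadPicFree

/-!
Lead: the functor from the free Picard category to a commutative Picard category `P` attached to
a symmetric lax monoidal functor `Φ : A ⥤ P`.
-/

set_option autoImplicit false
universe v v' u u'

namespace Groth.Agent.Lib.LeadPicFree

open CategoryTheory MonoidalCategory Functor.LaxMonoidal

variable {A : Type u} [Category.{v} A] [MonoidalCategory A] [SymmetricCategory A]
variable {P : Type u'} [Category.{v'} P] [MonoidalCategory P] [SymmetricCategory P] [IsGroupoid P]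

section choice

/-- a chosen inverse of an object -/
noncomputable def invObj (hP : ∀ X : P, (tensorRight X).IsEquivalence) (Y : P) : P :=
  haveI := hP Y
  (tensorRight Y).objPreimage (𝟙_ P)

/-- the chosen inverse is an inverse -/
noncomputable def invIso (hP : ∀ X : P, (tensorRight X).IsEquivalence) (Y : P) :
    invObj hP Y ⊗ Y ≅ 𝟙_ P :=
  haveI := hP Y
  (tensorRight Y).objObjPreimageIso (𝟙_ P)

end choice

section aux

omit [MonoidalCategory P] [SymmetricCategory P] in
lemma inv_congr' {X Y : P} {f g : X ⟶ Y} (h : f = g) : inv f = inv g := by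
  subst h; rfl

omit [SymmetricCategory P] [IsGroupoid P] in
lemma aux_assoc (X Y Z : P) :
    (𝟙 (X ⊗ Y) ⊗ₘ 𝟙 Z) ≫ 𝟙 ((X ⊗ Y) ⊗ Z) ≫ (α_ X Y Z).hom =
      (α_ X Y Z).hom ≫ (𝟙 X ⊗ₘ 𝟙 (Y ⊗ Z)) ≫ 𝟙 (X ⊗ (Y ⊗ Z)) := by simp

omit [SymmetricCategory P] [IsGroupoid P] in
lemma aux_lunit (X : P) : (λ_ X).hom = (𝟙 (𝟙_ P) ⊗ₘ 𝟙 X) ≫ 𝟙 (𝟙_ P ⊗ X) ≫ (λ_ X).hom := by simp

omit [SymmetricCategory P] [IsGroupoid P] in
lemma aux_runit (X : P) : (ρ_ X).hom = (𝟙 X ⊗ₘ 𝟙 (𝟙_ P)) ≫ 𝟙 (X ⊗ 𝟙_ P) ≫ (ρ_ X).hom := by simp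

omit [IsGroupoid P] in
lemma aux_braid (X Y : P) : 𝟙 (X ⊗ Y) ≫ (β_ X Y).hom = (β_ X Y).hom ≫ 𝟙 (Y ⊗ X) := by simp

omit [SymmetricCategory P] [IsGroupoid P] in
lemma aux_nat {X Y X' Y' : P} (f : X ⟶ Y) (g : X' ⟶ Y') :
    (f ⊗ₘ g) ≫ 𝟙 (Y ⊗ Y') = 𝟙 (X ⊗ X') ≫ (f ⊗ₘ g) := by simp

end aux

variable (hP : ∀ X : P, (tensorRight X).IsEquivalence) (Φ : A ⥤ P) [Φ.LaxBraided]

/-- the functor on objects -/
noncomputable def projObj : Obj A → P
  | Obj.of a => Φ.obj a
  | Obj.unit => 𝟙_ P
  | Obj.tensor X Y => projObj X ⊗ projObj Y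
  | Obj.inv X => invObj hP (projObj X)

/-- the functor on formal morphisms -/
noncomputable def projHom : ∀ {X Y : Obj A}, Hom X Y → (projObj hP Φ X ⟶ projObj hP Φ Y)
  | _, _, Hom.id _ => 𝟙 _
  | _, _, Hom.comp f g => projHom f ≫ projHom g
  | _, _, Hom.symm f => inv (projHom f)
  | _, _, Hom.tensor f g => projHom f ⊗ₘ projHom g
  | _, _, Hom.assoc _ _ _ => (α_ _ _ _).hom
  | _, _, Hom.lunit _ => (λ_ _).hom
  | _, _, Hom.runit _ => (ρ_ _).hom
  | _, _, Hom.braid _ _ => (β_ _ _).hom
  | _, _, Hom.ofHom f => Φ.map f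
  | _, _, Hom.mu a b => μ Φ a b
  | _, _, Hom.eps => ε Φ
  | _, _, Hom.ev X => (invIso hP (projObj hP Φ X)).hom

theorem projHom_respects {X Y : Obj A} {f g : Hom X Y} (h : HomEquiv f g) :
    projHom hP Φ f = projHom hP Φ g := by
  induction h with
  | refl => rfl
  | symm _ _ _ ih => exact ih.symm
  | trans _ _ ih1 ih2 => exact ih1.trans ih2
  | comp_congr _ _ ih1 ih2 => simp only [projHom, ih1, ih2]
  | symm_congr _ ih => simp only [projHom]; exact inv_congr' ih
  | tensor_congr _ _ ih1 ih2 => simp only [projHom, ih1, ih2]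
  | comp_id f => simp only [projHom, Category.comp_id]
  | id_comp f => simp only [projHom, Category.id_comp]
  | assoc f g h => simp only [projHom, Category.assoc]
  | comp_symm f => simp only [projHom, IsIso.hom_inv_id]
  | symm_comp f => simp only [projHom, IsIso.inv_hom_id]
  | tensor_id => simp only [projHom]; exact id_tensorHom_id _ _
  | tensor_comp f₁ f₂ g₁ g₂ => simp only [projHom]; exact tensorHom_comp_tensorHom _ _ _ _
  | assoc_nat f₁ f₂ f₃ => simp only [projHom]; exact associator_naturality _ _ _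
  | lunit_nat f => simp only [projHom]; rw [id_tensorHom]; exact leftUnitor_naturality _
  | runit_nat f => simp only [projHom]; rw [tensorHom_id]; exact rightUnitor_naturality _
  | pentagon =>
      simp only [projHom, tensorHom_id, id_tensorHom]; exact MonoidalCategory.pentagon _ _ _ _
  | triangle =>
      simp only [projHom, tensorHom_id, id_tensorHom]; exact MonoidalCategory.triangle _ _
  | braid_nat f g => simp only [projHom]; exact BraidedCategory.braiding_naturality _ _
  | braid_symm X Y => simp only [projHom]; exact SymmetricCategory.symmetry _ _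
  | hexagon X Y Z =>
      simp only [projHom, tensorHom_id, id_tensorHom]
      exact BraidedCategory.hexagon_forward _ _ _
  | hexagon' X Y Z =>
      simp only [projHom, tensorHom_id, id_tensorHom, IsIso.Iso.inv_hom]
      exact BraidedCategory.hexagon_reverse _ _ _
  | ofHom_id a => simp only [projHom]; exact Φ.map_id a
  | ofHom_comp f g => simp only [projHom]; exact Φ.map_comp f g
  | mu_nat f g => simp only [projHom]; exact μ_natural Φ f g
  | mu_assoc a b c =>
      simp only [projHom, tensorHom_id, id_tensorHom]; exact associativity Φ a b c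
  | mu_lunit a => simp only [projHom, tensorHom_id]; exact left_unitality Φ a
  | mu_runit a => simp only [projHom, id_tensorHom]; exact right_unitality Φ a
  | mu_braid a b => simp only [projHom]; exact Functor.LaxBraided.braided a b

/-- the functor from the free Picard category -/
noncomputable def proj : Obj A ⥤ P where
  obj := projObj hP Φ
  map {X Y} := Quotient.lift (projHom hP Φ) (fun _ _ h => projHom_respects hP Φ h)
  map_id X := rfl
  map_comp := by rintro _ _ _ ⟨f⟩ ⟨g⟩; rfl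

noncomputable instance projLaxMonoidal : (proj hP Φ).LaxMonoidal :=
  Functor.LaxMonoidal.ofTensorHom
  (ε := 𝟙 (𝟙_ P))
  (μ := fun X Y => 𝟙 (projObj hP Φ X ⊗ projObj hP Φ Y))
  (μ_natural := by
    rintro _ _ _ _ ⟨f⟩ ⟨g⟩
    exact aux_nat (projHom hP Φ f) (projHom hP Φ g))
  (associativity := fun X Y Z => aux_assoc (projObj hP Φ X) (projObj hP Φ Y) (projObj hP Φ Z))
  (left_unitality := fun X => aux_lunit (projObj hP Φ X))
  (right_unitality := fun X => aux_runit (projObj hP Φ X))

noncomputable instance projLaxBraided : (proj hP Φ).LaxBraided where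
  braided X Y := aux_braid (projObj hP Φ X) (projObj hP Φ Y)

/-- the comparison isomorphism (identity on objects) -/
noncomputable def projIso : incl A ⋙ proj hP Φ ≅ Φ :=
  NatIso.ofComponents (fun a => Iso.refl (Φ.obj a)) (by
    intro a b f
    exact (Category.comp_id (Φ.map f)).trans (Category.id_comp (Φ.map f)).symm)

instance projIso_isMonoidal : NatTrans.IsMonoidal (projIso hP Φ).hom where
  unit := by
    show (𝟙 (𝟙_ P) ≫ ε Φ) ≫ 𝟙 _ = ε Φ
    simp
  tensor a b := by
    show (𝟙 (Φ.obj a ⊗ Φ.obj b) ≫ μ Φ a b) ≫ 𝟙 _ = (𝟙 (Φ.obj a) ⊗ₘ 𝟙 (Φ.obj b)) ≫ μ Φ a b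
    simp

end Groth.Agent.Lib.LeadPicFree
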