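import Mathlib

/-!
Lead: monoidal natural transformations between lax monoidal functors of Picard categories form a
torsor under characters of the group of isomorphism classes (S15286).
-/

set_option autoImplicit false
universe v v' u u'

namespace Groth.Agent.Lib.LeadPicTorsor

open CategoryTheory MonoidalCategory Functor.LaxMonoidal

section act

variable {D : Type u'} [Category.{v'} D] [MonoidalCategory D]

/-- the action of an endomorphism of the unit on an object -/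
def act (φ : 𝟙_ D ⟶ 𝟙_ D) (Z : D) : Z ⟶ Z := (λ_ Z).inv ≫ (φ ▷ Z) ≫ (λ_ Z).hom

@[reassoc]
lemma act_naturality (φ : 𝟙_ D ⟶ 𝟙_ D) {Z Z' : D} (g : Z ⟶ Z') :
    act φ Z ≫ g = g ≫ act φ Z' := by
  simp only [act, Category.assoc]
  rw [← leftUnitor_naturality, ← whisker_exchange_assoc, ← leftUnitor_inv_naturality_assoc]

lemma act_comp (φ ψ : 𝟙_ D ⟶ 𝟙_ D) (Z : D) : act (φ ≫ ψ) Z = act φ Z ≫ act ψ Z := by
  simp [act]

lemma act_id (Z : D) : act (𝟙 (𝟙_ D)) Z = 𝟙 Z := by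
  simp [act]

lemma act_comm (φ ψ : 𝟙_ D ⟶ 𝟙_ D) (Z : D) : act (φ ≫ ψ) Z = act (ψ ≫ φ) Z := by
  rw [act_comp, act_comp, act_naturality]

lemma act_whiskerRight (φ : 𝟙_ D ⟶ 𝟙_ D) (Z W : D) : act φ Z ▷ W = act φ (Z ⊗ W) := by
  simp [act]

variable [BraidedCategory D]

lemma act_whiskerLeft (ψ : 𝟙_ D ⟶ 𝟙_ D) (Z W : D) : Z ◁ act ψ W = act ψ (Z ⊗ W) := by
  rw [← cancel_mono (β_ Z W).hom, BraidedCategory.braiding_naturality_right, act_naturality,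
    act_whiskerRight]

lemma act_tensor (φ ψ : 𝟙_ D ⟶ 𝟙_ D) (Z W : D) :
    act φ Z ⊗ₘ act ψ W = act (φ ≫ ψ) (Z ⊗ W) := by
  rw [MonoidalCategory.tensorHom_def, act_whiskerRight, act_whiskerLeft, act_comp]

end act

section bij

variable {D : Type u'} [Category.{v'} D] [MonoidalCategory D]

lemma act_injective (Z : D) [(tensorRight Z).Faithful] {φ ψ : 𝟙_ D ⟶ 𝟙_ D}
    (h : act φ Z = act ψ Z) : φ = ψ := by
  apply (tensorRight Z).map_injective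
  show φ ▷ Z = ψ ▷ Z
  simpa [act] using h

lemma act_surjective (Z : D) [(tensorRight Z).Full] (a : Z ⟶ Z) :
    ∃ φ : 𝟙_ D ⟶ 𝟙_ D, act φ Z = a := by
  refine ⟨(tensorRight Z).preimage ((λ_ Z).hom ≫ a ≫ (λ_ Z).inv), ?_⟩
  have h : (tensorRight Z).preimage ((λ_ Z).hom ≫ a ≫ (λ_ Z).inv) ▷ Z =
      (λ_ Z).hom ≫ a ≫ (λ_ Z).inv := (tensorRight Z).map_preimage _
  simp [act, h]

end bij

section main

variable {C : Type u} [Category.{v} C] [MonoidalCategory C] [IsGroupoid C]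
  {D : Type u'} [Category.{v'} D] [MonoidalCategory D] [BraidedCategory D] [IsGroupoid D]
  (hD : ∀ X : D, (tensorRight X).IsEquivalence)
  (F G : C ⥤ D) [F.LaxMonoidal] [G.LaxMonoidal] (θ₀ : F ⟶ G) [NatTrans.IsMonoidal θ₀]

/-- the twist of `θ₀` by a character -/
noncomputable def twist (χ : Skeleton C →* End (𝟙_ D)) : F ⟶ G where
  app X := θ₀.app X ≫ act (χ (toSkeleton X) : 𝟙_ D ⟶ 𝟙_ D) (G.obj X)
  naturality X Y f := by
    have e : toSkeleton X = toSkeleton Y := congr_toSkeleton_of_iso (asIso f)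
    rw [e, Category.assoc, act_naturality, θ₀.naturality_assoc]

lemma chi_one (χ : Skeleton C →* End (𝟙_ D)) :
    (χ (toSkeleton (𝟙_ C)) : 𝟙_ D ⟶ 𝟙_ D) = 𝟙 _ := by
  rw [← Skeleton.one_eq, map_one]
  rfl

lemma chi_tensor (χ : Skeleton C →* End (𝟙_ D)) (X Y : C) :
    (χ (toSkeleton (X ⊗ Y)) : 𝟙_ D ⟶ 𝟙_ D) =
      (χ (toSkeleton Y) : 𝟙_ D ⟶ 𝟙_ D) ≫ (χ (toSkeleton X) : 𝟙_ D ⟶ 𝟙_ D) := by
  rw [Skeleton.toSkeleton_tensorObj, map_mul]
  rfl

instance twist_isMonoidal (χ : Skeleton C →* End (𝟙_ D)) :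
    NatTrans.IsMonoidal (twist F G θ₀ χ) where
  unit := by
    show ε F ≫ θ₀.app (𝟙_ C) ≫ act (χ (toSkeleton (𝟙_ C)) : 𝟙_ D ⟶ 𝟙_ D) (G.obj (𝟙_ C)) = ε G
    rw [chi_one, act_id, Category.comp_id]
    exact NatTrans.IsMonoidal.unit
  tensor X Y := by
    show μ F X Y ≫ θ₀.app (X ⊗ Y) ≫ act (χ (toSkeleton (X ⊗ Y)) : 𝟙_ D ⟶ 𝟙_ D) (G.obj (X ⊗ Y)) =
      ((θ₀.app X ≫ act (χ (toSkeleton X) : 𝟙_ D ⟶ 𝟙_ D) (G.obj X)) ⊗ₘ
        (θ₀.app Y ≫ act (χ (toSkeleton Y) : 𝟙_ D ⟶ 𝟙_ D) (G.obj Y))) ≫ μ G X Y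
    rw [chi_tensor, act_comm, NatTrans.IsMonoidal.tensor_assoc, ← act_naturality,
      ← tensorHom_comp_tensorHom, act_tensor, Category.assoc]

include hD in
lemma end_comm (a b : 𝟙_ D ⟶ 𝟙_ D) : a ≫ b = b ≫ a := by
  have := hD (𝟙_ D)
  exact act_injective (𝟙_ D) (act_comm a b _)

/-- the value of the character attached to `θ` at `X` -/
noncomputable def phi (θ : F ⟶ G) (X : C) : 𝟙_ D ⟶ 𝟙_ D :=
  haveI := hD (G.obj X)
  (act_surjective (G.obj X) (inv (θ₀.app X) ≫ θ.app X)).choose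

lemma act_phi (θ : F ⟶ G) (X : C) :
    act (phi hD F G θ₀ θ X) (G.obj X) = inv (θ₀.app X) ≫ θ.app X :=
  haveI := hD (G.obj X)
  (act_surjective (G.obj X) (inv (θ₀.app X) ≫ θ.app X)).choose_spec

lemma phi_iso (θ : F ⟶ G) {X X' : C} (e : X ≅ X') :
    phi hD F G θ₀ θ X = phi hD F G θ₀ θ X' := by
  have := hD (G.obj X')
  apply act_injective (G.obj X')
  rw [act_phi, ← cancel_epi (G.map e.hom), ← act_naturality, act_phi]
  have h1 : inv (θ₀.app X) ≫ F.map e.hom = G.map e.hom ≫ inv (θ₀.app X') := by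
    rw [IsIso.inv_comp_eq, ← Category.assoc, IsIso.eq_comp_inv, θ₀.naturality]
  rw [Category.assoc, ← θ.naturality, ← Category.assoc, h1, Category.assoc]

lemma phi_one (θ : F ⟶ G) [NatTrans.IsMonoidal θ] : phi hD F G θ₀ θ (𝟙_ C) = 𝟙 _ := by
  have := hD (G.obj (𝟙_ C))
  apply act_injective (G.obj (𝟙_ C))
  rw [act_phi, act_id, IsIso.inv_comp_eq, Category.comp_id, ← cancel_epi (ε F)]
  exact (NatTrans.IsMonoidal.unit (τ := θ)).trans (NatTrans.IsMonoidal.unit (τ := θ₀)).symm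

lemma phi_tensor (θ : F ⟶ G) [NatTrans.IsMonoidal θ] (X Y : C) :
    phi hD F G θ₀ θ (X ⊗ Y) = phi hD F G θ₀ θ X ≫ phi hD F G θ₀ θ Y := by
  have := hD (G.obj (X ⊗ Y))
  apply act_injective (G.obj (X ⊗ Y))
  have h1 : μ G X Y ≫ inv (θ₀.app (X ⊗ Y)) =
      (inv (θ₀.app X) ⊗ₘ inv (θ₀.app Y)) ≫ μ F X Y := by
    rw [IsIso.comp_inv_eq, Category.assoc, NatTrans.IsMonoidal.tensor (τ := θ₀),
      tensorHom_comp_tensorHom_assoc, IsIso.inv_hom_id, IsIso.inv_hom_id, id_tensorHom_id,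
      Category.id_comp]
  rw [act_phi, ← cancel_epi (μ G X Y), ← act_naturality, ← act_tensor, act_phi, act_phi,
    ← tensorHom_comp_tensorHom, Category.assoc, ← NatTrans.IsMonoidal.tensor (τ := θ),
    ← Category.assoc, h1, Category.assoc]

/-- the character attached to a monoidal natural transformation -/
noncomputable def chi (θ : F ⟶ G) [NatTrans.IsMonoidal θ] : Skeleton C →* End (𝟙_ D) where
  toFun s := phi hD F G θ₀ θ ((fromSkeleton C).obj s)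
  map_one' := (phi_iso hD F G θ₀ θ (fromSkeletonToSkeletonIso (𝟙_ C))).trans (phi_one hD F G θ₀ θ)
  map_mul' s t := by
    have h := (phi_iso hD F G θ₀ θ (fromSkeletonToSkeletonIso
      ((fromSkeleton C).obj s ⊗ (fromSkeleton C).obj t))).trans (phi_tensor hD F G θ₀ θ _ _)
    exact h.trans (end_comm hD _ _)

lemma chi_apply (θ : F ⟶ G) [NatTrans.IsMonoidal θ] (X : C) :
    (chi hD F G θ₀ θ (toSkeleton X) : 𝟙_ D ⟶ 𝟙_ D) = phi hD F G θ₀ θ X :=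
  phi_iso hD F G θ₀ θ (fromSkeletonToSkeletonIso X)

include hD in
theorem main :
    (∀ θ : F ⟶ G, NatTrans.IsMonoidal θ →
      ∃! χ : Skeleton C →* End (𝟙_ D), ∀ X : C,
        θ.app X = θ₀.app X ≫ (λ_ (G.obj X)).inv ≫
          ((χ (toSkeleton X) : 𝟙_ D ⟶ 𝟙_ D) ▷ G.obj X) ≫ (λ_ (G.obj X)).hom) ∧
    (∀ χ : Skeleton C →* End (𝟙_ D), ∃ θ : F ⟶ G, NatTrans.IsMonoidal θ ∧ ∀ X : C,
        θ.app X = θ₀.app X ≫ (λ_ (G.obj X)).inv ≫
          ((χ (toSkeleton X) : 𝟙_ D ⟶ 𝟙_ D) ▷ G.obj X) ≫ (λ_ (G.obj X)).hom) := by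
  refine ⟨?_, ?_⟩
  · intro θ hθ
    refine ⟨chi hD F G θ₀ θ, ?_, ?_⟩
    · intro X
      show θ.app X = θ₀.app X ≫ act (chi hD F G θ₀ θ (toSkeleton X) : 𝟙_ D ⟶ 𝟙_ D) (G.obj X)
      rw [chi_apply, act_phi, IsIso.hom_inv_id_assoc]
    · intro χ' hχ'
      apply MonoidHom.ext
      intro s
      obtain ⟨X, rfl⟩ : ∃ X : C, toSkeleton X = s := ⟨_, toSkeleton_fromSkeleton_obj s⟩
      have := hD (G.obj X)
      apply act_injective (G.obj X)
      rw [chi_apply, act_phi, IsIso.eq_inv_comp]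
      exact (hχ' X).symm
  · intro χ
    exact ⟨twist F G θ₀ χ, twist_isMonoidal F G θ₀ χ, fun X => rfl⟩

end main

end Groth.Agent.Lib.LeadPicTorsor
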