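import Mathlib

/-!
# Determinants and commuting derivations: the Piola identity (lead)

For commuting derivations `∂_1, …, ∂_n` of a commutative ring and a matrix whose rows (other than row `i₀`)
are closed (`∂_l r_j = ∂_j r_l`), the cofactors of row `i₀` have zero divergence; hence replacing row `i₀` by a
gradient gives a determinant which is a divergence.
-/

set_option autoImplicit false
set_option maxHeartbeats 400000
set_option linter.style.haveILetI false
set_option linter.unusedSectionVars false
set_option linter.unusedVariables false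

universe u v

namespace Groth.Agent.Lib.LeadPiola

open Matrix

section leibniz
variable {k : Type u} {A : Type v} [CommRing k] [CommRing A] [Algebra k A]

theorem leibniz_prod {ι : Type*} [DecidableEq ι] (δ : Derivation k A A) (s : Finset ι) (a : ι → A) :
    δ (∏ i ∈ s, a i) = ∑ i ∈ s, (∏ l ∈ s.erase i, a l) * δ (a i) := by
  induction s using Finset.induction_on with
  | empty => simp
  | insert i₀ s hi₀ ih =>
    rw [Finset.prod_insert hi₀, Derivation.leibniz, ih, Finset.sum_insert hi₀,
      Finset.erase_insert hi₀, smul_eq_mul, smul_eq_mul, Finset.mul_sum, add_comm]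
    congr 1
    apply Finset.sum_congr rfl
    intro i hi
    have hne : i ≠ i₀ := fun h => hi₀ (h ▸ hi)
    rw [Finset.erase_insert_of_ne (Ne.symm hne), Finset.prod_insert, mul_assoc]
    intro h
    exact hi₀ (Finset.mem_of_mem_erase h)

variable {n : Type} [Fintype n] [DecidableEq n]

/-- the derivative of a determinant is the sum over the rows of the determinants with that row
differentiated. -/
theorem derivation_det (δ : Derivation k A A) (M : Matrix n n A) :
    δ M.det = ∑ i, (M.updateRow i (fun j => δ (M i j))).det := by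
  have hdet : ∀ N : Matrix n n A, N.det = ∑ σ : Equiv.Perm n, Equiv.Perm.sign σ • ∏ i, N i (σ i) := by
    intro N
    rw [← Matrix.det_transpose, Matrix.det_apply]
    simp only [Matrix.transpose_apply]
  rw [hdet M, map_sum]
  have h1 : ∀ σ : Equiv.Perm n, δ (Equiv.Perm.sign σ • ∏ i, M i (σ i)) =
      Equiv.Perm.sign σ • ∑ i, (∏ l ∈ Finset.univ.erase i, M l (σ l)) * δ (M i (σ i)) := by
    intro σ
    rw [Units.smul_def, Units.smul_def, map_zsmul, leibniz_prod]
  simp only [h1]
  have h2 : ∀ i : n, (M.updateRow i (fun j => δ (M i j))).det =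
      ∑ σ : Equiv.Perm n, Equiv.Perm.sign σ • ((∏ l ∈ Finset.univ.erase i, M l (σ l)) * δ (M i (σ i))) := by
    intro i
    rw [hdet]
    apply Finset.sum_congr rfl
    intro σ _
    congr 1
    rw [← Finset.prod_erase_mul Finset.univ _ (Finset.mem_univ i), Matrix.updateRow_self]
    congr 1
    apply Finset.prod_congr rfl
    intro l hl
    rw [Matrix.updateRow_ne (Finset.ne_of_mem_erase hl)]
  simp only [h2]
  rw [Finset.sum_comm]
  apply Finset.sum_congr rfl
  intro σ _
  rw [Finset.smul_sum]

end leibniz

section bilin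
variable {A : Type v} [CommRing A] {n : Type} [Fintype n] [DecidableEq n]

theorem det_updateRow_sum' (N : Matrix n n A) (i : n) (c : n → A) (w : n → n → A)
    (s : Finset n) :
    (N.updateRow i (∑ l ∈ s, c l • w l)).det = ∑ l ∈ s, c l * (N.updateRow i (w l)).det := by
  induction s using Finset.induction_on with
  | empty =>
    rw [Finset.sum_empty, Finset.sum_empty]
    apply Matrix.det_eq_zero_of_row_eq_zero i
    intro j
    rw [Matrix.updateRow_self]
    rfl
  | insert l₀ s hl₀ ih =>
    rw [Finset.sum_insert hl₀, Finset.sum_insert hl₀, Matrix.det_updateRow_add,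
      Matrix.det_updateRow_smul, ih]

/-- the determinant as a function of rows `i₀` and `i₁` -/
noncomputable def B2 (M : Matrix n n A) (i₀ i₁ : n) (u v : n → A) : A :=
  ((M.updateRow i₀ u).updateRow i₁ v).det

theorem B2_add_right (M : Matrix n n A) (i₀ i₁ : n) (u v v' : n → A) :
    B2 M i₀ i₁ u (v + v') = B2 M i₀ i₁ u v + B2 M i₀ i₁ u v' := by
  unfold B2
  rw [Matrix.det_updateRow_add]

theorem B2_add_left (M : Matrix n n A) (i₀ i₁ : n) (h : i₁ ≠ i₀) (u u' v : n → A) :
    B2 M i₀ i₁ (u + u') v = B2 M i₀ i₁ u v + B2 M i₀ i₁ u' v := by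
  unfold B2
  have hc : ∀ w : n → A, (M.updateRow i₀ w).updateRow i₁ v = (M.updateRow i₁ v).updateRow i₀ w := by
    intro w
    exact Function.update_comm h.symm w v M
  rw [hc, hc, hc, Matrix.det_updateRow_add]

theorem B2_self (M : Matrix n n A) (i₀ i₁ : n) (h : i₁ ≠ i₀) (u : n → A) :
    B2 M i₀ i₁ u u = 0 := by
  unfold B2
  apply Matrix.det_zero_of_row_eq h
  rw [Matrix.updateRow_self, Matrix.updateRow_ne h.symm, Matrix.updateRow_self]

theorem B2_swap (M : Matrix n n A) (i₀ i₁ : n) (h : i₁ ≠ i₀) (u v : n → A) :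
    B2 M i₀ i₁ u v + B2 M i₀ i₁ v u = 0 := by
  have h1 := B2_self M i₀ i₁ h (u + v)
  rw [B2_add_right, B2_add_left M i₀ i₁ h, B2_add_left M i₀ i₁ h, B2_self M i₀ i₁ h,
    B2_self M i₀ i₁ h, zero_add, add_zero] at h1
  rw [add_comm]
  exact h1

theorem sum_sym_alt_eq_zero (c β : n → n → A) (hc : ∀ j l, c j l = c l j)
    (hβ : ∀ j l, β j l + β l j = 0) (hβ0 : ∀ j, β j j = 0) :
    ∑ j, ∑ l, c j l * β j l = 0 := by
  rw [← Finset.sum_product']
  refine Finset.sum_involution (fun a _ => (a.2, a.1)) ?_ ?_ ?_ ?_
  · intro a _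
    dsimp only
    rw [hc a.2 a.1, ← mul_add, hβ, mul_zero]
  · intro a _ h heq
    apply h
    have h12 : a.2 = a.1 := congrArg Prod.fst heq
    rw [h12, hβ0, mul_zero]
  · intro a _
    exact Finset.mem_product.mpr ⟨Finset.mem_univ _, Finset.mem_univ _⟩
  · intro a _
    rfl

end bilin

section piola
variable {k : Type u} {A : Type v} [CommRing k] [CommRing A] [Algebra k A]
  {n : Type} [Fintype n] [DecidableEq n] (d : n → Derivation k A A)

/-- a vector is closed: `∂_l v_j = ∂_j v_l`. -/
def IsClosedVec (v : n → A) : Prop := ∀ j l, d l (v j) = d j (v l)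

/-- **Piola identity**: the cofactors of row `i₀` have zero divergence when the other rows are closed. -/
theorem sum_derivation_cofactor_eq_zero (M : Matrix n n A) (i₀ : n)
    (hM : ∀ i, i ≠ i₀ → IsClosedVec d (M i)) :
    ∑ j, d j ((M.updateRow i₀ (Pi.single j 1)).det) = 0 := by
  simp only [derivation_det]
  rw [Finset.sum_comm]
  apply Finset.sum_eq_zero
  intro i₁ _
  by_cases h : i₁ = i₀
  · subst h
    apply Finset.sum_eq_zero
    intro j _
    apply Matrix.det_eq_zero_of_row_eq_zero i₁
    intro l
    rw [Matrix.updateRow_self, Matrix.updateRow_self]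
    by_cases hl : l = j
    · subst hl
      rw [Pi.single_eq_same, Derivation.map_one_eq_zero]
    · rw [Pi.single_eq_of_ne hl, map_zero]
  · have hrow : ∀ j, (fun l => d j ((M.updateRow i₀ (Pi.single j 1)) i₁ l)) =
        ∑ l, d j (M i₁ l) • (Pi.single l (1 : A) : n → A) := by
      intro j
      rw [Matrix.updateRow_ne h]
      funext l'
      rw [Finset.sum_apply]
      simp only [Pi.smul_apply, Pi.single_apply, smul_eq_mul, mul_ite, mul_one, mul_zero]
      rw [Finset.sum_ite_eq Finset.univ l']
      simp
    have hterm : ∀ j, ((M.updateRow i₀ (Pi.single j 1)).updateRow i₁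
        (fun l => d j ((M.updateRow i₀ (Pi.single j 1)) i₁ l))).det =
        ∑ l, d j (M i₁ l) * B2 M i₀ i₁ (Pi.single j 1) (Pi.single l 1) := by
      intro j
      rw [hrow j, det_updateRow_sum']
      rfl
    simp only [hterm]
    apply sum_sym_alt_eq_zero
    · intro j l
      exact (hM i₁ h l j)
    · intro j l
      exact B2_swap M i₀ i₁ h _ _
    · intro j
      exact B2_self M i₀ i₁ h _

/-- replacing row `i₀` by a gradient gives a divergence. -/
theorem det_updateRow_gradient (M : Matrix n n A) (i₀ : n)
    (hM : ∀ i, i ≠ i₀ → IsClosedVec d (M i)) (f : A) :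
    (M.updateRow i₀ (fun j => d j f)).det =
      ∑ j, d j (f * (M.updateRow i₀ (Pi.single j 1)).det) := by
  have h1 := Matrix.det_eq_sum_mul_adjugate_row (M.updateRow i₀ (fun j => d j f)) i₀
  simp only [Matrix.adjugate_apply, Matrix.updateRow_idem, Matrix.updateRow_self] at h1
  rw [h1]
  simp only [Derivation.leibniz, smul_eq_mul]
  rw [Finset.sum_add_distrib, ← Finset.mul_sum, sum_derivation_cofactor_eq_zero d M i₀ hM,
    mul_zero, zero_add]
  apply Finset.sum_congr rfl
  intro j _
  rw [mul_comm]

end piola

section main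
variable {k : Type u} {A : Type v} [CommRing k] [CommRing A] [Algebra k A]
  {n : Type} [Fintype n] [DecidableEq n] (d : n → Derivation k A A)

theorem IsClosedVec.add {v w : n → A} (hv : IsClosedVec d v) (hw : IsClosedVec d w) :
    IsClosedVec d (v + w) := by
  intro j l
  simp only [Pi.add_apply, map_add, hv j l, hw j l]

theorem isClosedVec_grad (hcomm : ∀ i j a, d i (d j a) = d j (d i a)) (f : A) :
    IsClosedVec d (fun j => d j f) := fun j l => hcomm l j f

/-- the row `t_i^m e_i` -/
def lamRow (m : ℕ) (t : n → A) (i : n) : n → A := fun j => if i = j then t i ^ m else 0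

theorem isClosedVec_lamRow (m : ℕ) (t : n → A)
    (ht : ∀ i j, d j (t i) = if i = j then 1 else 0) (i : n) :
    IsClosedVec d (lamRow m t i) := by
  intro j l
  unfold lamRow
  by_cases hij : i = j
  · by_cases hil : i = l
    · rw [← hij, ← hil]
    · rw [if_pos hij, if_neg hil, map_zero, Derivation.leibniz_pow, ht, if_neg hil, smul_zero,
        smul_zero]
  · by_cases hil : i = l
    · rw [if_neg hij, if_pos hil, map_zero, Derivation.leibniz_pow, ht, if_neg hij, smul_zero,
        smul_zero]
    · rw [if_neg hij, if_neg hil, map_zero, map_zero]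

/-- hybrid matrix: rows in `S` are `t_i^m e_i`, the others are `t_i^m e_i + ∇ f_i`. -/
def hyb (m : ℕ) (t f : n → A) (S : Finset n) : Matrix n n A :=
  fun i => if i ∈ S then lamRow m t i else lamRow m t i + fun j => d j (f i)

theorem isClosedVec_hyb (hcomm : ∀ i j a, d i (d j a) = d j (d i a)) (m : ℕ) (t f : n → A)
    (ht : ∀ i j, d j (t i) = if i = j then 1 else 0) (S : Finset n) (i : n) :
    IsClosedVec d (hyb d m t f S i) := by
  unfold hyb
  by_cases hi : i ∈ S
  · rw [if_pos hi]
    exact isClosedVec_lamRow d m t ht i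
  · rw [if_neg hi]
    exact (isClosedVec_lamRow d m t ht i).add d (isClosedVec_grad d hcomm (f i))

theorem tau_det_hyb (hcomm : ∀ i j a, d i (d j a) = d j (d i a)) (m : ℕ) (t f : n → A)
    (ht : ∀ i j, d j (t i) = if i = j then 1 else 0)
    (τ : A →+ A) (hτ : ∀ j a, τ (d j a) = 0) (S : Finset n) :
    τ (hyb d m t f S).det = τ (hyb d m t f ∅).det := by
  induction S using Finset.induction_on with
  | empty => rfl
  | insert i₀ S hi₀ ih =>
    rw [← ih]
    have h1 : hyb d m t f (insert i₀ S) = (hyb d m t f S).updateRow i₀ (lamRow m t i₀) := by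
      funext i
      by_cases hi : i = i₀
      · subst hi
        rw [Matrix.updateRow_self]
        unfold hyb
        rw [if_pos (Finset.mem_insert_self _ _)]
      · rw [Matrix.updateRow_ne hi]
        unfold hyb
        by_cases hiS : i ∈ S
        · rw [if_pos hiS, if_pos (Finset.mem_insert_of_mem hiS)]
        · rw [if_neg hiS, if_neg (fun h => (Finset.mem_insert.mp h).elim hi hiS)]
    have h2 : hyb d m t f S = (hyb d m t f S).updateRow i₀
        (lamRow m t i₀ + fun j => d j (f i₀)) := by
      funext i
      by_cases hi : i = i₀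
      · subst hi
        rw [Matrix.updateRow_self]
        unfold hyb
        rw [if_neg hi₀]
      · rw [Matrix.updateRow_ne hi]
    have h3 : τ ((hyb d m t f S).updateRow i₀ (fun j => d j (f i₀))).det = 0 := by
      rw [det_updateRow_gradient d _ i₀
        (fun i _ => isClosedVec_hyb d hcomm m t f ht S i), map_sum]
      exact Finset.sum_eq_zero (fun j _ => hτ j _)
    conv_rhs => rw [h2, Matrix.det_updateRow_add, map_add, h3, add_zero]
    rw [h1]

/-- **main lemma**: for a functional `τ` killing all `∂_j`-images,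
`τ (det (t_i^m δ_ij + ∂_j f_i)) = τ (∏ t_i^m)`. -/
theorem tau_det_eq (hcomm : ∀ i j a, d i (d j a) = d j (d i a)) (m : ℕ) (t f : n → A)
    (ht : ∀ i j, d j (t i) = if i = j then 1 else 0)
    (τ : A →+ A) (hτ : ∀ j a, τ (d j a) = 0) :
    τ (Matrix.of fun i j => (if i = j then t i ^ m else 0) + d j (f i)).det =
      τ (∏ i, t i ^ m) := by
  have h1 : (Matrix.of fun i j => (if i = j then t i ^ m else 0) + d j (f i)) =
      hyb d m t f ∅ := by
    funext i j
    unfold hyb lamRow
    rw [if_neg (Finset.notMem_empty i)]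
    rfl
  have h2 : hyb d m t f Finset.univ = Matrix.diagonal (fun i => t i ^ m) := by
    funext i j
    unfold hyb lamRow
    rw [if_pos (Finset.mem_univ i)]
    by_cases hij : i = j
    · subst hij
      rw [if_pos rfl, Matrix.diagonal_apply_eq]
    · rw [if_neg hij, Matrix.diagonal_apply_ne _ hij]
  rw [h1, ← tau_det_hyb d hcomm m t f ht τ hτ Finset.univ, h2, Matrix.det_diagonal]

end main

end Groth.Agent.Lib.LeadPiola
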