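import Groth.Agent.Lib.LeadPiolaA

/-!
# Coordinate derivations in characteristic `p` and the Jacobian of a Frobenius lift (lead)

For a `k`-algebra `A` (char `p`) such that `dt_1, …, dt_n` is a basis of `Ω_{A/k}`, the coordinate derivations
`∂_j` commute, satisfy `∂_j^p = 0`, and the operator `τ = ∏ ∂_j^{p-1}` kills every `∂_j`-image while
`τ (∏ t_i^{p-1}) = ((p-1)!)^n`.  Together with the Piola identity of `LeadPiolaA` this gives
`det (δ_ij t_i^{p-1} + ∂_j f_i) ≠ 0` for every `f`, when `A` is a domain.
-/

set_option autoImplicit false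
set_option maxHeartbeats 400000
set_option linter.style.haveILetI false
set_option linter.unusedSectionVars false
set_option linter.unusedVariables false

universe u v

namespace Groth.Agent.Lib.LeadPiola

open TensorProduct

section ppow
variable {k : Type u} {A : Type v} [CommRing k] [CommRing A] [Algebra k A] (D : Derivation k A A)

/-- `D` as a `k`-linear endomorphism. -/
def dEnd : Module.End k A := (D : A →ₗ[k] A)

theorem dEnd_apply (a : A) : dEnd D a = D a := rfl

theorem dEnd_pow_apply (m : ℕ) (a : A) : (dEnd D ^ m) a = (⇑D)^[m] a := by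
  rw [Module.End.pow_apply]
  rfl

theorem iterate_map_zero (m : ℕ) : (⇑D)^[m] 0 = 0 := by
  rw [← dEnd_pow_apply, map_zero]

theorem iterate_map_add (m : ℕ) (a b : A) : (⇑D)^[m] (a + b) = (⇑D)^[m] a + (⇑D)^[m] b := by
  rw [← dEnd_pow_apply, ← dEnd_pow_apply, ← dEnd_pow_apply, map_add]

theorem iterate_map_nsmul (m c : ℕ) (a : A) : (⇑D)^[m] (c • a) = c • (⇑D)^[m] a := by
  rw [← dEnd_pow_apply, ← dEnd_pow_apply, map_nsmul]

theorem dEnd_comp_mul :
    (dEnd D) ∘ₗ (LinearMap.mul' k A) =
      (LinearMap.mul' k A) ∘ₗ ((dEnd D).rTensor A + (dEnd D).lTensor A) := by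
  apply TensorProduct.ext'
  intro a b
  simp only [LinearMap.comp_apply, LinearMap.mul'_apply, LinearMap.add_apply,
    LinearMap.rTensor_tmul, LinearMap.lTensor_tmul, map_add, dEnd_apply]
  rw [Derivation.leibniz, smul_eq_mul, smul_eq_mul]
  ring

theorem dEnd_pow_comp_mul (m : ℕ) :
    (dEnd D ^ m) ∘ₗ (LinearMap.mul' k A) =
      (LinearMap.mul' k A) ∘ₗ (((dEnd D).rTensor A + (dEnd D).lTensor A) ^ m) := by
  induction m with
  | zero =>
    rw [pow_zero, pow_zero, Module.End.one_eq_id, Module.End.one_eq_id, LinearMap.id_comp,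
      LinearMap.comp_id]
  | succ m ih =>
    rw [pow_succ, pow_succ, Module.End.mul_eq_comp, Module.End.mul_eq_comp, LinearMap.comp_assoc,
      dEnd_comp_mul, ← LinearMap.comp_assoc, ih, LinearMap.comp_assoc]

theorem add_pow_char_end (p : ℕ) [Fact p.Prime] [CharP k p] {M : Type*} [AddCommGroup M]
    [Module k M] (X Y : Module.End k M) (h : Commute X Y) : (X + Y) ^ p = X ^ p + Y ^ p := by
  rw [h.add_pow_prime_eq' (Fact.out : p.Prime)]
  have h0 : ((p : ℕ) : Module.End k M) = 0 := by
    rw [← map_natCast (algebraMap k (Module.End k M)), CharP.cast_eq_zero, map_zero]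
  rw [h0, zero_mul, add_zero]

theorem iterate_p_mul (p : ℕ) [Fact p.Prime] [CharP k p] (a b : A) :
    (⇑D)^[p] (a * b) = (⇑D)^[p] a * b + a * (⇑D)^[p] b := by
  have h := dEnd_pow_comp_mul D p
  have hc : Commute ((dEnd D).rTensor A) ((dEnd D).lTensor A) := by
    show _ * _ = _ * _
    rw [Module.End.mul_eq_comp, Module.End.mul_eq_comp, LinearMap.rTensor_comp_lTensor,
      LinearMap.lTensor_comp_rTensor]
  rw [add_pow_char_end p _ _ hc, LinearMap.rTensor_pow, LinearMap.lTensor_pow] at h
  have h2 := LinearMap.congr_fun h (a ⊗ₜ[k] b)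
  simp only [LinearMap.comp_apply, LinearMap.mul'_apply, LinearMap.add_apply,
    LinearMap.rTensor_tmul, LinearMap.lTensor_tmul, map_add, dEnd_pow_apply] at h2
  exact h2

/-- In characteristic `p`, the `p`-th iterate of a derivation is a derivation. -/
def powP (p : ℕ) [Fact p.Prime] [CharP k p] : Derivation k A A :=
  Derivation.mk' (dEnd D ^ p) (fun a b => by
    rw [dEnd_pow_apply, dEnd_pow_apply, dEnd_pow_apply, iterate_p_mul D p a b, smul_eq_mul,
      smul_eq_mul]
    ring)

theorem powP_apply (p : ℕ) [Fact p.Prime] [CharP k p] (a : A) : powP D p a = (⇑D)^[p] a :=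
  dEnd_pow_apply D p a

theorem iterate_mul_const (c : A) (hc : D c = 0) (m : ℕ) (x : A) :
    (⇑D)^[m] (x * c) = (⇑D)^[m] x * c := by
  induction m generalizing x with
  | zero => rfl
  | succ m ih =>
    rw [Function.iterate_succ_apply, Function.iterate_succ_apply, Derivation.leibniz, hc,
      smul_zero, zero_add, smul_eq_mul, mul_comm, ih]

theorem iterate_pow (t : A) (h1 : D t = 1) (m : ℕ) :
    (⇑D)^[m] (t ^ m) = (m.factorial : A) := by
  induction m with
  | zero => simp
  | succ m ih =>
    rw [Function.iterate_succ_apply, Derivation.leibniz_pow, h1, Nat.add_sub_cancel,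
      smul_eq_mul, mul_one, iterate_map_nsmul, ih, Nat.factorial_succ, Nat.cast_mul,
      nsmul_eq_mul]

theorem derivation_list_prod_eq_zero (l : List A) (h : ∀ x ∈ l, D x = 0) : D l.prod = 0 := by
  induction l with
  | nil => simp
  | cons x l ih =>
    rw [List.prod_cons, Derivation.leibniz, h x List.mem_cons_self,
      ih (fun y hy => h y (List.mem_cons_of_mem _ hy)), smul_zero, smul_zero, add_zero]

end ppow

section basis
variable {k : Type u} {A : Type v} [CommRing k] [CommRing A] [Algebra k A]
  {n : Type} [Fintype n] [DecidableEq n] (t : n → A)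
  (b : Module.Basis n A (KaehlerDifferential k A))
  (hb : ∀ i, b i = KaehlerDifferential.D k A (t i))

include hb in
theorem derivation_eq_zero (E : Derivation k A A) (h : ∀ i, E (t i) = 0) (a : A) : E a = 0 := by
  have h1 : E.liftKaehlerDifferential = 0 := by
    apply b.ext
    intro i
    rw [hb i, Derivation.liftKaehlerDifferential_comp_D, h i, LinearMap.zero_apply]
  rw [← Derivation.liftKaehlerDifferential_comp_D E a, h1, LinearMap.zero_apply]

/-- coordinate derivation `∂_j` -/
noncomputable def dd (j : n) : Derivation k A A := (b.coord j).compDer (KaehlerDifferential.D k A)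

theorem dd_apply (j : n) (a : A) : dd b j a = b.coord j (KaehlerDifferential.D k A a) := rfl

include hb in
theorem dd_t (i j : n) : dd b j (t i) = if i = j then 1 else 0 := by
  rw [dd_apply, ← hb i, Module.Basis.coord_apply, Module.Basis.repr_self, Finsupp.single_apply]

include hb in
theorem dd_comm (i j : n) (a : A) : dd b i (dd b j a) = dd b j (dd b i a) := by
  have h := derivation_eq_zero t b hb ⁅dd b i, dd b j⁆ (fun l => by
    rw [Derivation.commutator_apply, dd_t t b hb, dd_t t b hb]
    split_ifs <;> simp) a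
  rw [Derivation.commutator_apply, sub_eq_zero] at h
  exact h

include hb in
theorem dd_iterate_p (p : ℕ) [Fact p.Prime] [CharP k p] (j : n) (a : A) :
    (⇑(dd b j))^[p] a = 0 := by
  have h := derivation_eq_zero t b hb (powP (dd b j) p) (fun l => by
    rw [powP_apply]
    obtain ⟨q, hq⟩ : ∃ q, p = q + 2 :=
      ⟨p - 2, by have := (Fact.out : p.Prime).two_le; omega⟩
    rw [hq, Function.iterate_add_apply]
    have h2 : (⇑(dd b j))^[2] (t l) = 0 := by
      simp only [Function.iterate_succ, Function.iterate_zero, Function.comp_apply, id]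
      rw [dd_t t b hb]
      split_ifs <;> simp
    rw [h2, iterate_map_zero]) a
  rwa [powP_apply] at h

end basis

section tau
variable {k : Type u} {A : Type v} [CommRing k] [CommRing A] [Algebra k A]
  {n : Type} [Fintype n] [DecidableEq n] (d : n → Derivation k A A)

/-- `tauL m [j₁, …, j_r] a = ∂_{j_r}^m ⋯ ∂_{j₁}^m a` -/
def tauL (m : ℕ) : List n → A → A
  | [], a => a
  | j :: L, a => tauL m L ((⇑(d j))^[m] a)

theorem tauL_nil (m : ℕ) (a : A) : tauL d m [] a = a := rfl

theorem tauL_cons (m : ℕ) (j : n) (L : List n) (a : A) :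
    tauL d m (j :: L) a = tauL d m L ((⇑(d j))^[m] a) := rfl

theorem tauL_zero (m : ℕ) (L : List n) : tauL d m L 0 = 0 := by
  induction L with
  | nil => rfl
  | cons j L ih => rw [tauL_cons, iterate_map_zero, ih]

theorem tauL_add (m : ℕ) (L : List n) (a b : A) :
    tauL d m L (a + b) = tauL d m L a + tauL d m L b := by
  induction L generalizing a b with
  | nil => rfl
  | cons j L ih => rw [tauL_cons, tauL_cons, tauL_cons, iterate_map_add, ih]

/-- `tauL` as an additive map -/
def tauHom (m : ℕ) (L : List n) : A →+ A where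
  toFun := tauL d m L
  map_zero' := tauL_zero d m L
  map_add' := tauL_add d m L

theorem tauHom_apply (m : ℕ) (L : List n) (a : A) : tauHom d m L a = tauL d m L a := rfl

theorem iterate_comm (hcomm : ∀ i j a, d i (d j a) = d j (d i a)) (i j : n) (m : ℕ) (a : A) :
    (⇑(d i))^[m] (d j a) = d j ((⇑(d i))^[m] a) := by
  induction m generalizing a with
  | zero => rfl
  | succ m ih => rw [Function.iterate_succ_apply, Function.iterate_succ_apply, hcomm, ih]

theorem tauL_d (hcomm : ∀ i j a, d i (d j a) = d j (d i a)) (m : ℕ)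
    (hp0 : ∀ j a, (⇑(d j))^[m + 1] a = 0) (L : List n) (j : n) (hj : j ∈ L) (a : A) :
    tauL d m L (d j a) = 0 := by
  induction L generalizing a with
  | nil => simp at hj
  | cons j' L ih =>
    rw [tauL_cons]
    by_cases hjj : j = j'
    · subst hjj
      rw [← Function.iterate_succ_apply, hp0, tauL_zero]
    · have hjL : j ∈ L := by
        rcases List.mem_cons.mp hj with h | h
        · exact absurd h hjj
        · exact h
      rw [iterate_comm d hcomm]
      exact ih hjL _

theorem tauL_prod (m : ℕ) (t : n → A) (ht : ∀ i j, d j (t i) = if i = j then 1 else 0)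
    (L : List n) (hL : L.Nodup) :
    tauL d m L ((L.map (fun i => t i ^ m)).prod) = ((m.factorial : A)) ^ L.length := by
  induction L with
  | nil => simp [tauL_nil]
  | cons j L ih =>
    rw [List.map_cons, List.prod_cons, tauL_cons]
    have hjL : j ∉ L := (List.nodup_cons.mp hL).1
    have hc : d j ((L.map fun i => t i ^ m).prod) = 0 := by
      apply derivation_list_prod_eq_zero
      intro x hx
      obtain ⟨i, hi, rfl⟩ := List.mem_map.mp hx
      have hij : i ≠ j := fun h => hjL (h ▸ hi)
      rw [Derivation.leibniz_pow, ht, if_neg hij, smul_zero, smul_zero]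
    rw [iterate_mul_const (d j) _ hc, iterate_pow (d j) (t j) (by rw [ht, if_pos rfl]),
      ← nsmul_eq_mul, ← tauHom_apply, map_nsmul, tauHom_apply, ih (List.nodup_cons.mp hL).2,
      List.length_cons, pow_succ, nsmul_eq_mul, mul_comm]

end tau

section final

theorem det_ne_zero (p : ℕ) [Fact p.Prime] (k : Type u) [Field k] [CharP k p]
    (A : Type v) [CommRing A] [IsDomain A] [Algebra k A]
    {n : Type} [Fintype n] [DecidableEq n] (t : n → A)
    (b : Module.Basis n A (KaehlerDifferential k A))
    (hb : ∀ i, b i = KaehlerDifferential.D k A (t i)) (f : n → A) :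
    (Matrix.of fun i j : n =>
        (if i = j then t i ^ (p - 1) else 0) +
          b.coord j (KaehlerDifferential.D k A (f i))).det ≠ 0 := by
  intro h0
  have hp1 : p - 1 + 1 = p := Nat.sub_add_cancel (Fact.out : p.Prime).one_le
  have hp0 : ∀ j a, (⇑(dd b j))^[p - 1 + 1] a = 0 := by
    intro j a
    rw [hp1]
    exact dd_iterate_p t b hb p j a
  have h1 := tau_det_eq (dd b) (dd_comm t b hb) (p - 1) t f (dd_t t b hb)
    (tauHom (dd b) (p - 1) Finset.univ.toList)
    (fun j a => tauL_d (dd b) (dd_comm t b hb) (p - 1) hp0 _ j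
      (Finset.mem_toList.mpr (Finset.mem_univ j)) a)
  have h2 : (Matrix.of fun i j : n => (if i = j then t i ^ (p - 1) else 0) + dd b j (f i)) =
      (Matrix.of fun i j : n =>
        (if i = j then t i ^ (p - 1) else 0) +
          b.coord j (KaehlerDifferential.D k A (f i))) := rfl
  rw [h2, h0, map_zero, ← Finset.prod_map_toList, tauHom_apply,
    tauL_prod (dd b) (p - 1) t (dd_t t b hb) _ (Finset.nodup_toList _)] at h1
  haveI : CharP A p := charP_of_injective_algebraMap (algebraMap k A).injective p
  have h3 : ((p - 1).factorial : A) ≠ 0 := by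
    rw [Ne, CharP.cast_eq_zero_iff A p, (Fact.out : p.Prime).dvd_factorial]
    have := (Fact.out : p.Prime).one_le
    omega
  exact pow_ne_zero _ h3 h1.symm

end final

end Groth.Agent.Lib.LeadPiola
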