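import Mathlib

/-!
# Periodic resolutions and `Ext²` vanishing (lead)

Namespace `Groth.Agent.Lib.LeadPlan`.

* `hom_eq_zero_of_annihilators`: if `I` kills the source, `J` kills `N`, `𝔪^n ≤ I ⊔ J` and
  `y ∈ 𝔪` is `N`-regular, a linear map into `N` is zero.
* `ext_two_subsingleton_of_periodic`: if `F₁ →α F₀ →p M → 0` is exact with `F₀, F₁` projective and
  `ker α = range β`, `ker β = range α` for some `β : F₀ → F₁` (a 2-periodic resolution) and every
  map `F₀ → N` killing `ker p` vanishes, then `Ext²(M, N) = 0`.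
-/

set_option autoImplicit false
set_option maxHeartbeats 400000
set_option linter.style.haveILetI false
set_option linter.unusedSectionVars false
set_option linter.unusedVariables false
universe u
open CategoryTheory Abelian

namespace Groth.Agent.Lib.LeadPlan

section StepA

variable {R : Type u} [CommRing R] [IsLocalRing R]

theorem eq_zero_of_annihilators (I J : Ideal R) (n : ℕ)
    (hIJ : IsLocalRing.maximalIdeal R ^ n ≤ I ⊔ J)
    {N : Type u} [AddCommGroup N] [Module R N]
    (y : R) (hy : y ∈ IsLocalRing.maximalIdeal R) (hyN : IsSMulRegular N y)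
    (z : N) (hI : ∀ a ∈ I, a • z = 0) (hJ : ∀ b ∈ J, b • z = 0) : z = 0 := by
  have hyn : y ^ n ∈ I ⊔ J := hIJ (Ideal.pow_mem_pow hy n)
  obtain ⟨a, ha, b, hb, hab⟩ := Submodule.mem_sup.1 hyn
  have h0 : y ^ n • z = 0 := by
    rw [← hab, add_smul, hI a ha, hJ b hb, add_zero]
  have hreg : IsSMulRegular N (y ^ n) := hyN.pow n
  exact hreg (by show y ^ n • z = y ^ n • (0 : N); rw [h0, smul_zero])

theorem hom_eq_zero_of_ker_le (I J : Ideal R) (n : ℕ)
    (hIJ : IsLocalRing.maximalIdeal R ^ n ≤ I ⊔ J)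
    {F M N : Type u} [AddCommGroup F] [Module R F] [AddCommGroup M] [Module R M]
    [AddCommGroup N] [Module R N]
    (hI : I ≤ Module.annihilator R M) (hJ : J ≤ Module.annihilator R N)
    (y : R) (hy : y ∈ IsLocalRing.maximalIdeal R) (hyN : IsSMulRegular N y)
    (p : F →ₗ[R] M) (g : F →ₗ[R] N) (hg : LinearMap.ker p ≤ LinearMap.ker g) : g = 0 := by
  ext v
  rw [LinearMap.zero_apply]
  refine eq_zero_of_annihilators I J n hIJ y hy hyN (g v) ?_ ?_
  · intro a ha
    rw [← map_smul]
    have : a • v ∈ LinearMap.ker p := by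
      rw [LinearMap.mem_ker, map_smul]
      exact Module.mem_annihilator.1 (hI ha) _
    exact LinearMap.mem_ker.1 (hg this)
  · intro b hb
    exact Module.mem_annihilator.1 (hJ hb) _

end StepA

section StepC

variable {R : Type u} [CommRing R]
variable {F₀ F₁ M N : Type u} [AddCommGroup F₀] [Module R F₀] [AddCommGroup F₁] [Module R F₁]
  [AddCommGroup M] [Module R M] [AddCommGroup N] [Module R N]

theorem ext_zero_eq_zero_of_forall_hom_eq_zero {K : Type u} [AddCommGroup K] [Module R K]
    (h : ∀ g : K →ₗ[R] N, g = 0) (x : Ext.{u} (ModuleCat.of R K) (ModuleCat.of R N) 0) : x = 0 := by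
  apply Ext.addEquiv₀.injective
  rw [map_zero]
  apply ModuleCat.hom_ext
  exact h _

theorem ext_two_subsingleton_of_periodic
    (α : F₁ →ₗ[R] F₀) (β : F₀ →ₗ[R] F₁) (p : F₀ →ₗ[R] M)
    [Module.Projective R F₀] [Module.Projective R F₁]
    (hp : Function.Surjective p)
    (h1 : LinearMap.ker p = LinearMap.range α)
    (h2 : LinearMap.ker α = LinearMap.range β)
    (h3 : LinearMap.ker β = LinearMap.range α)
    (H : ∀ g : F₀ →ₗ[R] N, LinearMap.ker p ≤ LinearMap.ker g → g = 0) :
    Subsingleton (Ext.{u} (ModuleCat.of R M) (ModuleCat.of R N) 2) := by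
  -- first syzygy
  let K1 : Submodule R F₀ := LinearMap.ker p
  let K2 : Submodule R F₁ := LinearMap.ker α
  have hα : ∀ v, α v ∈ K1 := fun v => by
    show α v ∈ LinearMap.ker p
    rw [h1]; exact ⟨v, rfl⟩
  let α' : F₁ →ₗ[R] K1 := α.codRestrict K1 hα
  have hα' : Function.Surjective α' := by
    rintro ⟨k, hk⟩
    have hk' : k ∈ LinearMap.range α := by rw [← h1]; exact hk
    obtain ⟨v, rfl⟩ := hk'
    exact ⟨v, rfl⟩
  have hβ : ∀ w, β w ∈ K2 := fun w => by
    show β w ∈ LinearMap.ker α
    rw [h2]; exact ⟨w, rfl⟩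
  let β' : F₀ →ₗ[R] K2 := β.codRestrict K2 hβ
  have hβ' : Function.Surjective β' := by
    rintro ⟨k, hk⟩
    have hk' : k ∈ LinearMap.range β := by rw [← h2]; exact hk
    obtain ⟨w, rfl⟩ := hk'
    exact ⟨w, rfl⟩
  -- Hom(K2, N) = 0
  have hK2 : ∀ g : K2 →ₗ[R] N, g = 0 := by
    intro g
    have hgb : g ∘ₗ β' = 0 := by
      apply H
      intro w hw
      have hw' : w ∈ LinearMap.ker β := by rw [h3, ← h1]; exact hw
      rw [LinearMap.mem_ker, LinearMap.comp_apply]
      have : β' w = 0 := Subtype.ext (LinearMap.mem_ker.1 hw')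
      rw [this, map_zero]
    ext k
    obtain ⟨w, rfl⟩ := hβ' k
    exact LinearMap.congr_fun hgb w
  -- short exact sequences
  have hex1 : Function.Exact K1.subtype p := LinearMap.exact_subtype_ker_map p
  have hex2 : Function.Exact K2.subtype α' := by
    rw [LinearMap.exact_iff, Submodule.range_subtype]
    exact LinearMap.ker_codRestrict _ _ _
  have hS1 := ModuleCat.shortComplex_shortExact
    (ModuleCat.shortComplexOfCompEqZero K1.subtype p hex1.linearMap_comp_eq_zero) hex1
    K1.injective_subtype hp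
  have hS2 := ModuleCat.shortComplex_shortExact
    (ModuleCat.shortComplexOfCompEqZero K2.subtype α' hex2.linearMap_comp_eq_zero) hex2
    K2.injective_subtype hα'
  haveI : Projective (ModuleCat.of R F₀) := (IsProjective.iff_projective F₀).1 inferInstance
  haveI : Projective (ModuleCat.of R F₁) := (IsProjective.iff_projective F₁).1 inferInstance
  refine subsingleton_of_forall_eq 0 fun x => ?_
  have hx : (Ext.mk₀ (ModuleCat.shortComplexOfCompEqZero K1.subtype p
      hex1.linearMap_comp_eq_zero).g).comp x (zero_add 2) = 0 :=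
    Ext.eq_zero_of_projective (P := ModuleCat.of R F₀) _
  obtain ⟨x₁, rfl⟩ := Ext.contravariant_sequence_exact₃ hS1 _ x hx (n₀ := 1) rfl
  have hx₁ : (Ext.mk₀ (ModuleCat.shortComplexOfCompEqZero K2.subtype α'
      hex2.linearMap_comp_eq_zero).g).comp x₁ (zero_add 1) = 0 :=
    Ext.eq_zero_of_projective (P := ModuleCat.of R F₁) _
  obtain ⟨x₀, rfl⟩ := Ext.contravariant_sequence_exact₃ hS2 _ x₁ hx₁ (n₀ := 0) rfl
  have hx₀ : x₀ = 0 := ext_zero_eq_zero_of_forall_hom_eq_zero hK2 x₀
  rw [hx₀, Ext.comp_zero, Ext.comp_zero]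

end StepC

end Groth.Agent.Lib.LeadPlan
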