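import Mathlib

/-!
# Matrix factorizations and their reduction modulo `f` (lead)

Namespace `Groth.Agent.Lib.LeadPlan`.

* `exists_matrix_factorization`: if `A : S^a → S^b` is injective and `f S^b ⊆ range A` then there is
  `B` with `A B = f`, `B A = f`.
* `ker_map_eq_range_map`: for a domain `S`, `R = S/f`, `A B = f`, `B A = f`:
  `ker (A mod f) = range (B mod f)`.
* `exists_presentation_map`: the cokernel of `A mod f` is the cokernel of `A` when `f` kills it.
-/

set_option autoImplicit false
set_option maxHeartbeats 400000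
set_option linter.style.haveILetI false
set_option linter.unusedSectionVars false
set_option linter.unusedVariables false
universe u
open CategoryTheory

namespace Groth.Agent.Lib.LeadPlan

open Matrix

section MF

variable {S : Type u} [CommRing S]

theorem exists_matrix_factorization (f : S) {a b : ℕ}
    (A : Matrix (Fin b) (Fin a) S) (hinj : Function.Injective A.mulVecLin)
    (hsub : ∀ w : Fin b → S, ∃ c : Fin a → S, A *ᵥ c = f • w) :
    ∃ B : Matrix (Fin a) (Fin b) S, A * B = f • (1 : Matrix (Fin b) (Fin b) S) ∧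
      B * A = f • (1 : Matrix (Fin a) (Fin a) S) := by
  choose c hc using fun j : Fin b => hsub (Pi.single j 1)
  let B : Matrix (Fin a) (Fin b) S := Matrix.of fun i j => c j i
  have hAB : A * B = f • (1 : Matrix (Fin b) (Fin b) S) := by
    ext i j
    have h1 : (A * B) i j = (A *ᵥ c j) i := by
      simp only [Matrix.mul_apply, Matrix.mulVec, dotProduct, B, Matrix.of_apply]
    rw [h1, hc j]
    simp only [Pi.smul_apply, Matrix.smul_apply, Matrix.one_apply, Pi.single_apply]
  refine ⟨B, hAB, ?_⟩
  -- A (B A) = (A B) A = f A = A (f 1)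
  have h2 : A * (B * A) = A * (f • (1 : Matrix (Fin a) (Fin a) S)) := by
    rw [← Matrix.mul_assoc, hAB, Matrix.smul_mul, Matrix.one_mul, Matrix.mul_smul, Matrix.mul_one]
  ext i j
  have h3 : A *ᵥ ((B * A) *ᵥ Pi.single j 1) =
      A *ᵥ ((f • (1 : Matrix (Fin a) (Fin a) S)) *ᵥ Pi.single j 1) := by
    rw [Matrix.mulVec_mulVec, Matrix.mulVec_mulVec, h2]
  have h4 := hinj h3
  rw [Matrix.mulVec_single_one, Matrix.mulVec_single_one] at h4
  exact congrFun h4 i

end MF

section Red

variable {S R : Type u} [CommRing S] [IsDomain S] [CommRing R]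

theorem map_mul_map_eq_zero (π : S →+* R) (f : S) (hf : π f = 0) {a b : ℕ}
    (A : Matrix (Fin b) (Fin a) S) (B : Matrix (Fin a) (Fin b) S)
    (hAB : A * B = f • (1 : Matrix (Fin b) (Fin b) S)) :
    A.map π * B.map π = 0 := by
  rw [← Matrix.map_mul, hAB]
  ext i j
  simp only [Matrix.map_apply, Matrix.smul_apply, smul_eq_mul, map_mul, hf, zero_mul,
    Matrix.zero_apply]

theorem ker_map_eq_range_map (π : S →+* R) (hπ : Function.Surjective π) (f : S) (hf : f ≠ 0)
    (hker : RingHom.ker π = Ideal.span {f}) {a b : ℕ}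
    (A : Matrix (Fin b) (Fin a) S) (B : Matrix (Fin a) (Fin b) S)
    (hAB : A * B = f • (1 : Matrix (Fin b) (Fin b) S))
    (hBA : B * A = f • (1 : Matrix (Fin a) (Fin a) S)) :
    LinearMap.ker (A.map π).mulVecLin = LinearMap.range (B.map π).mulVecLin := by
  have hπf : π f = 0 := by
    have : f ∈ RingHom.ker π := by rw [hker]; exact Ideal.mem_span_singleton_self f
    exact this
  apply le_antisymm
  · intro vb hvb
    rw [LinearMap.mem_ker, Matrix.mulVecLin_apply] at hvb
    obtain ⟨v, rfl⟩ := hπ.comp_left vb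
    have h1 : ∀ i, (A *ᵥ v) i ∈ Ideal.span {f} := by
      intro i
      rw [← hker, RingHom.mem_ker, RingHom.map_mulVec]
      exact congrFun hvb i
    choose w hw using fun i => Ideal.mem_span_singleton'.1 (h1 i)
    have h2 : A *ᵥ v = f • w := by
      ext i
      rw [Pi.smul_apply, smul_eq_mul, mul_comm]
      exact (hw i).symm
    have h3 : f • v = f • (B *ᵥ w) := by
      have : B *ᵥ (A *ᵥ v) = B *ᵥ (f • w) := by rw [h2]
      rw [Matrix.mulVec_mulVec, hBA, Matrix.smul_mulVec, Matrix.one_mulVec,
        Matrix.mulVec_smul] at this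
      exact this
    have h4 : v = B *ᵥ w := smul_right_injective (Fin a → S) hf h3
    refine ⟨π ∘ w, ?_⟩
    rw [Matrix.mulVecLin_apply, h4]
    ext i
    exact (RingHom.map_mulVec π B w i).symm
  · rintro _ ⟨w, rfl⟩
    rw [LinearMap.mem_ker, Matrix.mulVecLin_apply, Matrix.mulVecLin_apply, Matrix.mulVec_mulVec,
      map_mul_map_eq_zero π f hπf A B hAB, Matrix.zero_mulVec]

end Red

section Pres

variable {S R : Type u} [CommRing S] [CommRing R] [Algebra S R]
variable {M : Type u} [AddCommGroup M] [Module S M] [Module R M] [IsScalarTower S R M]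

theorem exists_presentation_map (hπ : Function.Surjective (algebraMap S R)) {a b : ℕ}
    (A : Matrix (Fin b) (Fin a) S) (p : (Fin b → S) →ₗ[S] M) (hp : Function.Surjective p)
    (hkerp : LinearMap.ker p = LinearMap.range A.mulVecLin) :
    ∃ pb : (Fin b → R) →ₗ[R] M, Function.Surjective pb ∧
      LinearMap.ker pb = LinearMap.range (A.map (algebraMap S R)).mulVecLin := by
  let pb : (Fin b → R) →ₗ[R] M :=
    (Pi.basisFun R (Fin b)).constr R (fun j => p (Pi.single j 1))
  have key : ∀ v : Fin b → S, pb ((algebraMap S R) ∘ v) = p v := by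
    intro v
    have h1 : pb ((algebraMap S R) ∘ v) = ∑ j, (algebraMap S R (v j)) • p (Pi.single j 1) := by
      simp only [pb, Module.Basis.constr_apply_fintype, Pi.basisFun_equivFun,
        LinearEquiv.refl_apply, Function.comp_apply]
    have h2 : v = ∑ j, v j • (Pi.single j 1 : Fin b → S) := by
      have := (Pi.basisFun S (Fin b)).sum_equivFun v
      simp only [Pi.basisFun_equivFun, LinearEquiv.refl_apply, Pi.basisFun_apply] at this
      exact this.symm
    rw [h1]
    conv_rhs => rw [h2, map_sum]
    refine Finset.sum_congr rfl fun j _ => ?_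
    rw [map_smul, algebraMap_smul]
  refine ⟨pb, ?_, ?_⟩
  · intro m
    obtain ⟨v, rfl⟩ := hp m
    exact ⟨_, key v⟩
  · apply le_antisymm
    · intro vb hvb
      obtain ⟨v, rfl⟩ := hπ.comp_left vb
      rw [LinearMap.mem_ker, key] at hvb
      have hv : v ∈ LinearMap.range A.mulVecLin := by rw [← hkerp]; exact hvb
      obtain ⟨u, rfl⟩ := hv
      refine ⟨(algebraMap S R) ∘ u, ?_⟩
      rw [Matrix.mulVecLin_apply, Matrix.mulVecLin_apply]
      ext i
      exact (RingHom.map_mulVec (algebraMap S R) A u i).symm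
    · rintro _ ⟨ub, rfl⟩
      obtain ⟨u, rfl⟩ := hπ.comp_left ub
      have h1 : (A.map (algebraMap S R)).mulVecLin ((algebraMap S R) ∘ u) =
          (algebraMap S R) ∘ (A *ᵥ u) := by
        rw [Matrix.mulVecLin_apply]
        ext i
        exact (RingHom.map_mulVec (algebraMap S R) A u i).symm
      rw [LinearMap.mem_ker, h1, key]
      have : A *ᵥ u ∈ LinearMap.ker p := by rw [hkerp]; exact ⟨u, rfl⟩
      exact this

end Pres

end Groth.Agent.Lib.LeadPlan
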