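import Mathlib
import Groth.Agent.Lib.LeadPlanA
import Groth.Agent.Lib.LeadPlanB
import Groth.Agent.Lib.Helper5RLR3
import Groth.Agent.Lib.Helper28Depth
import Groth.Agent.S0563
import Groth.Agent.S0604

/-!
# Modules of positive depth over a two-dimensional regular local ring (lead)

Namespace `Groth.Agent.Lib.LeadPlan`.

* `pd_lt_two`: over a regular local ring `S` of dimension two a finite module with a regular
  element in the maximal ideal has projective dimension `≤ 1`.
* `exists_free_resolution`: a finite module of projective dimension `≤ 1` over a Noetherian local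
  ring has a resolution `0 → S^a → S^b → M → 0`.
* `exists_periodic_resolution`: for `R = S/f`, `S` regular local of dimension two, `M` a finite
  `R`-module with a regular element in the maximal ideal: matrices `A`, `B` over `R` and
  `p : R^b → M` with `R^a →A R^b →p M → 0` exact, `ker A = range B`, `ker B = range A`.
-/

set_option autoImplicit false
set_option maxHeartbeats 400000
set_option linter.style.haveILetI false
set_option linter.unusedSectionVars false
set_option linter.unusedVariables false
universe u
open CategoryTheory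

namespace Groth.Agent.Lib.LeadPlan

open IsLocalRing

theorem pd_lt_two (S : Type u) [CommRing S] [IsRegularLocalRing S] (hS : ringKrullDim S = 2)
    (M : Type u) [AddCommGroup M] [Module S M] [Module.Finite S M] [Nontrivial M]
    (x : S) (hx : x ∈ maximalIdeal S) (hxM : IsSMulRegular M x) :
    HasProjectiveDimensionLT (ModuleCat.of S M) 2 := by
  have hcm := Groth.Agent.Lib.Helper5.isCohenMacaulayLocalRing_of_isRegularLocalRing S
  have h1 := hcm.supportDim_eq_depth
  rw [Module.supportDim_self_eq_ringKrullDim, hS] at h1
  have hdS : LocCoh.depth S S = 2 := by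
    have : ((2 : ℕ∞) : WithBot ℕ∞) = ((LocCoh.depth S S : ℕ∞) : WithBot ℕ∞) := h1
    exact (WithBot.coe_injective this).symm
  have hdM : (1 : ℕ∞) ≤ LocCoh.depth S M := by
    have := Groth.Agent.Lib.Helper28.length_le_idealDepth (I := maximalIdeal S) (M := M)
      (rs := [x]) ((RingTheory.Sequence.isWeaklyRegular_singleton_iff M x).2 hxM)
      (by intro r hr; rw [List.mem_singleton] at hr; rw [hr]; exact hx)
    have h' : (1 : ℕ∞) ≤ LocCoh.idealDepth (maximalIdeal S) M := by simpa using this
    exact h'
  have hpd := Groth.Agent.S0563.result S 2 (by rw [hS]; rfl) M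
  have hlt : projectiveDimension (ModuleCat.of S M) < ((2 + 1 : ℕ) : WithBot ℕ∞) :=
    projectiveDimension_lt_iff.2 hpd
  have hnb : projectiveDimension (ModuleCat.of S M) ≠ ⊥ := by
    intro h
    rw [projectiveDimension_eq_bot_iff, ModuleCat.isZero_of_iff_subsingleton] at h
    exact not_subsingleton M h
  obtain ⟨e', he'⟩ := WithBot.ne_bot_iff_exists.mp hnb
  have he'top : e' ≠ ⊤ := by
    rintro rfl
    rw [← he'] at hlt
    exact absurd hlt (by simp)
  obtain ⟨e, he⟩ := ENat.ne_top_iff_exists.mp he'top
  have hpe : projectiveDimension (ModuleCat.of S M) = (e : ℕ) := by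
    rw [← he', ← he]
    rfl
  have hAB := Groth.Agent.S0604.result S M e hpe
  rw [hdS] at hAB
  have he1 : e ≤ 1 := by
    by_contra hcon
    have h2 : 2 ≤ e := by omega
    have h3 : ((2 : ℕ) : ℕ∞) + 1 ≤ (e : ℕ∞) + LocCoh.depth S M :=
      add_le_add (Nat.cast_le.2 h2) hdM
    rw [← hAB] at h3
    exact absurd h3 (by decide)
  rw [← projectiveDimension_lt_iff, hpe]
  exact_mod_cast Nat.lt_succ_of_le he1

theorem exists_free_resolution (S : Type u) [CommRing S] [IsLocalRing S] [IsNoetherianRing S]
    (M : Type u) [AddCommGroup M] [Module S M] [Module.Finite S M]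
    (hpd : HasProjectiveDimensionLT (ModuleCat.of S M) 2) :
    ∃ (a b : ℕ) (φ : (Fin a → S) →ₗ[S] (Fin b → S)) (p : (Fin b → S) →ₗ[S] M),
      Function.Injective φ ∧ Function.Surjective p ∧ LinearMap.ker p = LinearMap.range φ := by
  obtain ⟨b, p, hp⟩ := Module.Finite.exists_fin' S M
  let K : Submodule S (Fin b → S) := LinearMap.ker p
  have hex : Function.Exact K.subtype p := LinearMap.exact_subtype_ker_map p
  have hSE := ModuleCat.shortComplex_shortExact
    (ModuleCat.shortComplexOfCompEqZero K.subtype p hex.linearMap_comp_eq_zero) hex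
    K.injective_subtype hp
  haveI : Projective (ModuleCat.of S (Fin b → S)) :=
    (IsProjective.iff_projective (Fin b → S)).1 inferInstance
  have hK : HasProjectiveDimensionLT (ModuleCat.of S K) 1 :=
    (hSE.hasProjectiveDimensionLT_X₃_iff 0
      (inferInstanceAs (Projective (ModuleCat.of S (Fin b → S))))).1 hpd
  have hKp : Projective (ModuleCat.of S K) := projective_iff_hasProjectiveDimensionLT_one.2 hK
  haveI : Module.Projective S K := (IsProjective.iff_projective K).2 hKp
  haveI : Module.Finite S K := inferInstance
  haveI : Module.Free S K := Module.free_of_flat_of_isLocalRing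
  let e : K ≃ₗ[S] (Fin (Module.finrank S K) → S) := (Module.finBasis S K).equivFun
  refine ⟨Module.finrank S K, b, K.subtype ∘ₗ e.symm.toLinearMap, p, ?_, hp, ?_⟩
  · exact K.injective_subtype.comp e.symm.injective
  · rw [LinearMap.range_comp_of_range_eq_top _ (LinearEquiv.range e.symm), Submodule.range_subtype]

theorem exists_periodic_resolution (S : Type u) [CommRing S] [IsRegularLocalRing S]
    (hS : ringKrullDim S = 2) (f : S) (hf : f ≠ 0) (R : Type u) [CommRing R] [IsLocalRing R]
    [Algebra S R] (hπ : Function.Surjective (algebraMap S R))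
    (hker : RingHom.ker (algebraMap S R) = Ideal.span {f})
    (M : Type u) [AddCommGroup M] [Module S M] [Module R M] [IsScalarTower S R M]
    [Module.Finite R M] [Nontrivial M]
    (x : R) (hx : x ∈ maximalIdeal R) (hxM : IsSMulRegular M x) :
    ∃ (a b : ℕ) (A : Matrix (Fin b) (Fin a) R) (B : Matrix (Fin a) (Fin b) R)
      (p : (Fin b → R) →ₗ[R] M),
      Function.Surjective p ∧ LinearMap.ker p = LinearMap.range A.mulVecLin ∧
      LinearMap.ker A.mulVecLin = LinearMap.range B.mulVecLin ∧
      LinearMap.ker B.mulVecLin = LinearMap.range A.mulVecLin := by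
  haveI : IsDomain S := Groth.Agent.Lib.Helper5.isDomain_of_isRegularLocalRing S
  haveI : Module.Finite S R := Module.Finite.of_surjective (Algebra.linearMap S R) hπ
  haveI : Module.Finite S M := Module.Finite.trans R M
  have hπf : algebraMap S R f = 0 := by
    have : f ∈ RingHom.ker (algebraMap S R) := by rw [hker]; exact Ideal.mem_span_singleton_self f
    exact this
  obtain ⟨x', rfl⟩ := hπ x
  have hx' : x' ∈ maximalIdeal S := by
    rw [mem_maximalIdeal, mem_nonunits_iff]
    intro hu
    exact (mem_nonunits_iff.1 ((mem_maximalIdeal _).1 hx)) (hu.map (algebraMap S R))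
  have hx'M : IsSMulRegular M x' := by
    intro m₁ m₂ h
    apply hxM
    show algebraMap S R x' • m₁ = algebraMap S R x' • m₂
    rw [algebraMap_smul, algebraMap_smul]
    exact h
  have hpd := pd_lt_two S hS M x' hx' hx'M
  obtain ⟨a, b, φ, p, hφ, hp, hkp⟩ := exists_free_resolution S M hpd
  let A : Matrix (Fin b) (Fin a) S := LinearMap.toMatrix' φ
  have hA : A.mulVecLin = φ := Matrix.toLin'_toMatrix' φ
  have hAapp : ∀ c, A.mulVec c = φ c := fun c => by rw [← hA]; rfl
  have hinj : Function.Injective A.mulVecLin := by rw [hA]; exact hφ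
  have hsub : ∀ w : Fin b → S, ∃ c : Fin a → S, A.mulVec c = f • w := by
    intro w
    have hw : f • w ∈ LinearMap.ker p := by
      rw [LinearMap.mem_ker, map_smul, ← algebraMap_smul R f (p w), hπf, zero_smul]
    rw [hkp] at hw
    obtain ⟨c, hc⟩ := hw
    exact ⟨c, by rw [hAapp]; exact hc⟩
  obtain ⟨B, hAB, hBA⟩ := exists_matrix_factorization f A hinj hsub
  obtain ⟨pb, hpb, hkpb⟩ := exists_presentation_map hπ A p hp (by rw [hA]; exact hkp)
  exact ⟨a, b, A.map (algebraMap S R), B.map (algebraMap S R), pb, hpb, hkpb,
    ker_map_eq_range_map (algebraMap S R) hπ f hf hker A B hAB hBA,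
    ker_map_eq_range_map (algebraMap S R) hπ f hf hker B A hBA hAB⟩

theorem ext_two_subsingleton_planar (S : Type u) [CommRing S] [IsRegularLocalRing S]
    (hS : ringKrullDim S = 2) (f : S) (hf : f ≠ 0) (R : Type u) [CommRing R] [IsLocalRing R]
    (π : S →+* R) (hπ : Function.Surjective π) (hker : RingHom.ker π = Ideal.span {f})
    (I J : Ideal R) (n : ℕ) (hIJ : IsLocalRing.maximalIdeal R ^ n ≤ I ⊔ J) (M N : Type u)
    [AddCommGroup M] [Module R M] [Module.Finite R M] [AddCommGroup N] [Module R N]
    (hI : I ≤ Module.annihilator R M) (hJ : J ≤ Module.annihilator R N)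
    (x : R) (hx : x ∈ IsLocalRing.maximalIdeal R) (hxM : IsSMulRegular M x)
    (y : R) (hy : y ∈ IsLocalRing.maximalIdeal R) (hyN : IsSMulRegular N y) :
    Subsingleton (Abelian.Ext.{u} (ModuleCat.of R M) (ModuleCat.of R N) 2) := by
  classical
  by_cases hM : Subsingleton M
  · haveI : Module.Projective R M := Module.Projective.of_free
    haveI : Projective (ModuleCat.of R M) := (IsProjective.iff_projective M).1 inferInstance
    exact Abelian.Ext.subsingleton_of_projective _ _ 1
  · haveI : Nontrivial M := not_subsingleton_iff_nontrivial.1 hM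
    letI : Algebra S R := π.toAlgebra
    letI : Module S M := Module.compHom M π
    haveI : IsScalarTower S R M := ⟨fun s r m => by
      show (π s * r) • m = π s • r • m
      rw [mul_smul]⟩
    obtain ⟨a, b, A, B, p, hp, h1, h2, h3⟩ :=
      exists_periodic_resolution S hS f hf R hπ hker M x hx hxM
    exact ext_two_subsingleton_of_periodic A.mulVecLin B.mulVecLin p hp h1 h2 h3
      (fun g hg => hom_eq_zero_of_ker_le I J n hIJ hI hJ y hy hyN p g hg)

end Groth.Agent.Lib.LeadPlan
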