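import Mathlib
import Groth.Agent.Lib.LeadPlanC
import Groth.Agent.Lib.Helper15TorBridge

/-!
# `Tor₁(M, Hom(N, R)) = 0` on a planar curve singularity (lead)

Namespace `Groth.Agent.Lib.LeadPlan`.
-/

set_option autoImplicit false
set_option maxHeartbeats 400000
set_option linter.style.haveILetI false
set_option linter.unusedSectionVars false
set_option linter.unusedVariables false
universe u
open CategoryTheory

namespace Groth.Agent.Lib.LeadPlan

open IsLocalRing TensorProduct

section

variable {R : Type u} [CommRing R] [IsLocalRing R]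
variable {F₀ F₁ M N : Type u} [AddCommGroup F₀] [Module R F₀] [AddCommGroup F₁] [Module R F₁]
  [AddCommGroup M] [Module R M] [AddCommGroup N] [Module R N]

/-- In a 2-periodic resolution of `M` (killed by `I`, with a regular element `x ∈ 𝔪`), every map
from a module killed by `J` to `F₁` landing in `ker α` vanishes, if `𝔪^n ≤ I ⊔ J`. -/
theorem hom_to_ker_eq_zero (I J : Ideal R) (n : ℕ) (hIJ : maximalIdeal R ^ n ≤ I ⊔ J)
    (hI : I ≤ Module.annihilator R M) (hJ : J ≤ Module.annihilator R N)
    (x : R) (hx : x ∈ maximalIdeal R) (hxM : IsSMulRegular M x)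
    (α : F₁ →ₗ[R] F₀) (β : F₀ →ₗ[R] F₁) (p : F₀ →ₗ[R] M)
    (h2 : LinearMap.ker α = LinearMap.range β)
    (h3 : LinearMap.ker β = LinearMap.ker p)
    (g : N →ₗ[R] F₁) (hg : α ∘ₗ g = 0) : g = 0 := by
  ext v
  rw [LinearMap.zero_apply]
  have hz : g v ∈ LinearMap.range β := by
    rw [← h2, LinearMap.mem_ker]
    exact LinearMap.congr_fun hg v
  obtain ⟨w, hw⟩ := hz
  have hxn : x ^ n ∈ I ⊔ J := hIJ (Ideal.pow_mem_pow hx n)
  obtain ⟨c, hc, d, hd, hcd⟩ := Submodule.mem_sup.1 hxn
  have h1 : c • g v = 0 := by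
    rw [← hw, ← map_smul]
    have : c • w ∈ LinearMap.ker β := by
      rw [h3, LinearMap.mem_ker, map_smul]
      exact Module.mem_annihilator.1 (hI hc) _
    exact this
  have h1' : d • g v = 0 := by
    rw [← map_smul, Module.mem_annihilator.1 (hJ hd) v, map_zero]
  have h4 : x ^ n • g v = 0 := by rw [← hcd, add_smul, h1, h1', add_zero]
  have h5 : x ^ n • w ∈ LinearMap.ker p := by
    rw [← h3, LinearMap.mem_ker, map_smul, hw]
    exact h4
  have h6 : p w = 0 := by
    have hreg : IsSMulRegular M (x ^ n) := hxM.pow n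
    apply hreg
    show x ^ n • p w = x ^ n • (0 : M)
    rw [smul_zero, ← map_smul]
    exact h5
  have h7 : w ∈ LinearMap.ker β := by rw [h3]; exact h6
  rw [← hw]
  exact h7

theorem lTensor_dual_injective (I J : Ideal R) (n : ℕ) (hIJ : maximalIdeal R ^ n ≤ I ⊔ J)
    (hI : I ≤ Module.annihilator R M) (hJ : J ≤ Module.annihilator R N)
    (x : R) (hx : x ∈ maximalIdeal R) (hxM : IsSMulRegular M x)
    [Module.Finite R F₁] [Module.Projective R F₁]
    (α : F₁ →ₗ[R] F₀) (β : F₀ →ₗ[R] F₁) (p : F₀ →ₗ[R] M)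
    (h2 : LinearMap.ker α = LinearMap.range β)
    (h3 : LinearMap.ker β = LinearMap.ker p) :
    Function.Injective (α.lTensor (Module.Dual R N)) := by
  rw [injective_iff_map_eq_zero]
  intro t ht
  have hnat := dualTensorHom_comp_lTensor (R := R) (M := N) α
  have h1 : α ∘ₗ (dualTensorHom R N F₁ t) = 0 := by
    have := LinearMap.congr_fun hnat t
    rw [LinearMap.comp_apply, ht, map_zero] at this
    exact this.symm
  have h4 := hom_to_ker_eq_zero I J n hIJ hI hJ x hx hxM α β p h2 h3 _ h1
  have hinj := (dualTensorHom_bijective_of_finite_projective_right (R := R) (M := N)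
    (N := F₁)).1
  exact hinj (by rw [h4, map_zero])

end

theorem tor_one_dual_isZero_planar (S : Type u) [CommRing S] [IsRegularLocalRing S]
    (hS : ringKrullDim S = 2) (f : S) (hf : f ≠ 0) (R : Type u) [CommRing R] [IsLocalRing R]
    (π : S →+* R) (hπ : Function.Surjective π) (hker : RingHom.ker π = Ideal.span {f})
    (I J : Ideal R) (n : ℕ) (hIJ : IsLocalRing.maximalIdeal R ^ n ≤ I ⊔ J) (M N : Type u)
    [AddCommGroup M] [Module R M] [Module.Finite R M] [AddCommGroup N] [Module R N]
    (hI : I ≤ Module.annihilator R M) (hJ : J ≤ Module.annihilator R N)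
    (x : R) (hx : x ∈ IsLocalRing.maximalIdeal R) (hxM : IsSMulRegular M x) :
    Limits.IsZero (((Tor (ModuleCat.{u} R) 1).obj (ModuleCat.of R M)).obj
      (ModuleCat.of R (Module.Dual R N))) := by
  classical
  by_cases hM : Subsingleton M
  · haveI : Module.Flat R (ModuleCat.of R M) := inferInstanceAs (Module.Flat R M)
    exact Groth.Agent.Helper13Tor.isZero_tor_of_flat _ (ModuleCat.of R M) 1 (by omega)
  · haveI : Nontrivial M := not_subsingleton_iff_nontrivial.1 hM
    letI : Algebra S R := π.toAlgebra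
    letI : Module S M := Module.compHom M π
    haveI : IsScalarTower S R M := ⟨fun s r m => by
      show (π s * r) • m = π s • r • m
      rw [mul_smul]⟩
    obtain ⟨a, b, A, B, p, hp, h1, h2, h3⟩ :=
      exists_periodic_resolution S hS f hf R hπ hker M x hx hxM
    let K1 : Submodule R (Fin b → R) := LinearMap.ker p
    have hα : ∀ v, A.mulVecLin v ∈ K1 := fun v => by
      show A.mulVecLin v ∈ LinearMap.ker p
      rw [h1]; exact ⟨v, rfl⟩
    let α' : (Fin a → R) →ₗ[R] K1 := A.mulVecLin.codRestrict K1 hα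
    have hα' : Function.Surjective α' := by
      rintro ⟨k, hk⟩
      have hk' : k ∈ LinearMap.range A.mulVecLin := by rw [← h1]; exact hk
      obtain ⟨v, rfl⟩ := hk'
      exact ⟨v, rfl⟩
    have hcomp : K1.subtype ∘ₗ α' = A.mulVecLin := LinearMap.subtype_comp_codRestrict _ _ _
    have hinjA := lTensor_dual_injective (N := N) I J n hIJ hI hJ x hx hxM A.mulVecLin
      B.mulVecLin p h2 (by rw [h3, h1])
    have hinj : Function.Injective (K1.subtype.lTensor (Module.Dual R N)) := by
      have hs : Function.Surjective (α'.lTensor (Module.Dual R N)) :=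
        LinearMap.lTensor_surjective _ hα'
      intro u₁ u₂ hu
      obtain ⟨t₁, rfl⟩ := hs u₁
      obtain ⟨t₂, rfl⟩ := hs u₂
      have : A.mulVecLin.lTensor (Module.Dual R N) t₁ = A.mulVecLin.lTensor (Module.Dual R N) t₂ := by
        rw [← hcomp, LinearMap.lTensor_comp, LinearMap.comp_apply, LinearMap.comp_apply, hu]
      rw [hinjA this]
    exact Groth.Agent.Lib.Helper15.isZero_tor_of_presentation (Module.Dual R N)
      (K := K1) K1.subtype p K1.injective_subtype hp (LinearMap.exact_subtype_ker_map p) hinj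

end Groth.Agent.Lib.LeadPlan
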