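import Groth.Agent.Lib.LeadTrivDefSch
import Groth.Prelude.Def_PtDefo

/-!
# Sections of deformations of smooth schemes through a rational point (lead)

A deformation `𝒳 → Spec A` (A local Artinian with residue field `k`) of a smooth `k`-scheme `X` has a
section through every rational point of `X`: restrict to an affine open neighbourhood, where the
deformation is trivial (`LeadTrivDefSch.exists_iso_trivial`).
-/

set_option autoImplicit false
set_option maxHeartbeats 400000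
set_option linter.style.haveILetI false
set_option linter.unusedSectionVars false
set_option linter.unusedVariables false

universe u

open CategoryTheory CategoryTheory.Limits AlgebraicGeometry

namespace Groth.Agent.Lib.LeadPtSect

open ArtFun ArtFun.Art

theorem exists_section {k : Type u} [Field k] (X : Scheme.{u}) (x : X ⟶ specPt k) [Smooth x]
    (P : specPt k ⟶ X) (hP : P ≫ x = 𝟙 _) (A : Art k k) (ξ : ArtFun.DefSch X x A) :
    ∃ σ : spec A ⟶ ξ.total, σ ≫ ξ.f = 𝟙 _ ∧ P ≫ ξ.i = specRes A ≫ σ := by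
  have hnil : IsNilpotent (RingHom.ker A.res) := LeadTrivDefSch.isNilpotent_ker_aug A.res
  haveI hci : IsClosedImmersion ξ.i :=
    LeadTrivDefSch.isClosedImmersion_of_isPullback A.res x ξ.f ξ.i ξ.isPullback
  -- an affine open neighbourhood of the point
  obtain ⟨V, hV, hyV⟩ : ∃ V : ξ.total.Opens, IsAffineOpen V ∧
      ξ.i.base (P.base default) ∈ V := by
    obtain ⟨_, ⟨V, hV : IsAffineOpen V, rfl⟩, hyV, -⟩ :=
      ξ.total.isBasis_affineOpens.exists_subset_of_mem_open
        (Set.mem_univ (ξ.i.base (P.base default))) isOpen_univ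
    exact ⟨V, hV, hyV⟩
  have hU₀ : IsAffineOpen (ξ.i ⁻¹ᵁ V) := hV.preimage ξ.i
  haveI : IsAffine (ξ.i ⁻¹ᵁ V).toScheme := hU₀
  -- the restricted square
  have hsq : IsPullback (ξ.i ∣_ V) ((ξ.i ⁻¹ᵁ V).ι ≫ x) (V.ι ≫ ξ.f) (specRes A) :=
    (isPullback_morphismRestrict ξ.i V).paste_vert ξ.isPullback
  haveI : Flat ξ.f := ξ.flat
  haveI : Flat (V.ι ≫ ξ.f) := inferInstance
  haveI : Smooth ((ξ.i ⁻¹ᵁ V).ι ≫ x) := inferInstance
  obtain ⟨φ, hφ1, hφ2⟩ := LeadTrivDefSch.exists_iso_trivial k ((ξ.i ⁻¹ᵁ V).ι ≫ x) A A.res hnil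
    (V.ι ≫ ξ.f) (ξ.i ∣_ V) hsq
  -- `P` factors through `U₀`
  have hrange : Set.range P.base ⊆ Set.range (ξ.i ⁻¹ᵁ V).ι.base := by
    rintro _ ⟨z, rfl⟩
    rw [Scheme.Opens.range_ι]
    rw [Subsingleton.elim z default]
    exact hyV
  obtain ⟨P₀, hP₀⟩ : ∃ P₀ : specPt k ⟶ (ξ.i ⁻¹ᵁ V).toScheme, P₀ ≫ (ξ.i ⁻¹ᵁ V).ι = P :=
    ⟨IsOpenImmersion.lift (ξ.i ⁻¹ᵁ V).ι P hrange, IsOpenImmersion.lift_fac _ _ _⟩
  have hres : specRes A ≫ Spec.map (CommRingCat.ofHom (algebraMap k A)) = 𝟙 _ := by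
    rw [← Spec.map_comp, ← CommRingCat.ofHom_comp]
    have : (A.res.toRingHom).comp (algebraMap k A) = RingHom.id k := by
      ext c
      exact A.res.commutes c
    rw [this, CommRingCat.ofHom_id, Spec.map_id]
  have hw : (Spec.map (CommRingCat.ofHom (algebraMap k A)) ≫ P₀) ≫ ((ξ.i ⁻¹ᵁ V).ι ≫ x) =
      𝟙 (spec A) ≫ Spec.map (CommRingCat.ofHom (algebraMap k A)) := by
    rw [Category.assoc, ← Category.assoc P₀, hP₀, hP, Category.comp_id, Category.id_comp]
  refine ⟨pullback.lift (Spec.map (CommRingCat.ofHom (algebraMap k A)) ≫ P₀) (𝟙 (spec A)) hw ≫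
    φ.inv ≫ V.ι, ?_, ?_⟩
  · rw [Category.assoc, Category.assoc, ← hφ1, Iso.inv_hom_id_assoc, pullback.lift_snd]
  · have hcomm : (ξ.i ∣_ V) ≫ V.ι = (ξ.i ⁻¹ᵁ V).ι ≫ ξ.i := (isPullback_morphismRestrict ξ.i V).w
    have key : specRes A ≫ pullback.lift (Spec.map (CommRingCat.ofHom (algebraMap k A)) ≫ P₀)
        (𝟙 (spec A)) hw = P₀ ≫ (ξ.i ∣_ V) ≫ φ.hom := by
      apply pullback.hom_ext
      · rw [Category.assoc, pullback.lift_fst, ← Category.assoc, hres, Category.id_comp,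
          Category.assoc, Category.assoc, hφ2, Category.comp_id]
      · rw [Category.assoc, pullback.lift_snd, Category.comp_id, Category.assoc, Category.assoc,
          hφ1, ← Category.assoc (ξ.i ∣_ V), hcomm, Category.assoc, ξ.i_f, ← Category.assoc,
          ← Category.assoc, hP₀, hP, Category.id_comp]
    rw [← Category.assoc, key, Category.assoc, Category.assoc, Iso.hom_inv_id_assoc, hcomm,
      ← Category.assoc, hP₀]

end Groth.Agent.Lib.LeadPtSect
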