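import Mathlib

set_option maxHeartbeats 400000

/-!
# Relative comparison theorems for resolutions

Lifting of chain maps and homotopies from a complex whose terms have a lifting property against an
augmented complex (no projectivity / exactness assumed beyond the lifting hypotheses), and the dual
statements for cochain complexes.
-/

open CategoryTheory Limits

namespace Groth.Agent.Lib.LeadRelRes

universe v u

variable {C : Type u} [Category.{v} C] [Abelian C]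

section Chain

variable {Y Z : C}

/-- The terms of `P` lift against the augmented complex `Q → Z`. -/
structure LiftHyp (P Q : ChainComplex C ℕ) (ε : Q ⟶ (ChainComplex.single₀ C).obj Z) : Prop where
  he : ∀ (k : ℕ) (φ : P.X k ⟶ ((ChainComplex.single₀ C).obj Z).X 0),
    ∃ ψ : P.X k ⟶ Q.X 0, ψ ≫ ε.f 0 = φ
  h0 : ∀ (k : ℕ) (φ : P.X k ⟶ Q.X 0), φ ≫ ε.f 0 = 0 → ∃ ψ : P.X k ⟶ Q.X 1, ψ ≫ Q.d 1 0 = φ
  hs : ∀ (k n : ℕ) (φ : P.X k ⟶ Q.X (n + 1)), φ ≫ Q.d (n + 1) n = 0 →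
    ∃ ψ : P.X k ⟶ Q.X (n + 2), ψ ≫ Q.d (n + 2) (n + 1) = φ

theorem exists_lift (f : Y ⟶ Z) (P Q : ChainComplex C ℕ)
    (π : P ⟶ (ChainComplex.single₀ C).obj Y) (ε : Q ⟶ (ChainComplex.single₀ C).obj Z)
    (h : LiftHyp P Q ε) :
    ∃ φ : P ⟶ Q, φ ≫ ε = π ≫ (ChainComplex.single₀ C).map f := by
  obtain ⟨z, hz⟩ := h.he 0 (π.f 0 ≫ ((ChainComplex.single₀ C).map f).f 0)
  have hπ : P.d 1 0 ≫ π.f 0 = 0 := by
    rw [← π.comm 1 0, HomologicalComplex.single_obj_d, comp_zero]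
  have h1 : (P.d 1 0 ≫ z) ≫ ε.f 0 = 0 := by
    rw [Category.assoc, hz, ← Category.assoc, hπ, zero_comp]
  obtain ⟨o, ho⟩ := h.h0 1 _ h1
  refine ⟨ChainComplex.mkHom P Q z o ho (fun n p => ?_), ?_⟩
  · have hp : (P.d (n + 2) (n + 1) ≫ p.2.1) ≫ Q.d (n + 1) n = 0 := by
      rw [Category.assoc, p.2.2, ← Category.assoc, P.d_comp_d, zero_comp]
    exact ⟨(h.hs (n + 2) n _ hp).choose, (h.hs (n + 2) n _ hp).choose_spec⟩
  · apply HomologicalComplex.to_single_hom_ext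
    rw [HomologicalComplex.comp_f, HomologicalComplex.comp_f, ChainComplex.mkHom_f_0, hz]

theorem nonempty_homotopy_zero (P Q : ChainComplex C ℕ)
    (ε : Q ⟶ (ChainComplex.single₀ C).obj Z) (h : LiftHyp P Q ε)
    (g : P ⟶ Q) (comm : g ≫ ε = 0) : Nonempty (Homotopy g 0) := by
  have c0 : g.f 0 ≫ ε.f 0 = 0 := by
    have := congrArg (fun k => k.f 0) comm
    simpa using this
  obtain ⟨z, hz⟩ := h.h0 0 (g.f 0) c0
  have c1 : (g.f 1 - P.d 1 0 ≫ z) ≫ Q.d 1 0 = 0 := by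
    rw [Preadditive.sub_comp, Category.assoc, hz, g.comm 1 0, sub_self]
  obtain ⟨o, ho⟩ := h.hs 1 0 _ c1
  refine ⟨Homotopy.mkInductive g z hz.symm o ?_ (fun n p => ?_)⟩
  · rw [ho]; abel
  · obtain ⟨a, b, hab⟩ := p
    have cn : (g.f (n + 2) - P.d (n + 2) (n + 1) ≫ b) ≫ Q.d (n + 2) (n + 1) = 0 := by
      rw [Preadditive.sub_comp, g.comm (n + 2) (n + 1), hab, Preadditive.comp_add,
        HomologicalComplex.d_comp_d_assoc, zero_comp, zero_add, Category.assoc, sub_self]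
    exact ⟨(h.hs (n + 2) (n + 1) _ cn).choose, by
      rw [(h.hs (n + 2) (n + 1) _ cn).choose_spec]; abel⟩

theorem nonempty_homotopy (f : Y ⟶ Z) (P Q : ChainComplex C ℕ)
    (π : P ⟶ (ChainComplex.single₀ C).obj Y) (ε : Q ⟶ (ChainComplex.single₀ C).obj Z)
    (h : LiftHyp P Q ε) (α β : P ⟶ Q)
    (hα : α ≫ ε = π ≫ (ChainComplex.single₀ C).map f)
    (hβ : β ≫ ε = π ≫ (ChainComplex.single₀ C).map f) : Nonempty (Homotopy α β) := by
  obtain ⟨H⟩ := nonempty_homotopy_zero P Q ε h (α - β)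
    (by rw [Preadditive.sub_comp, hα, hβ, sub_self])
  exact ⟨Homotopy.equivSubZero.invFun H⟩

end Chain

section Cochain

variable {Y Z : C}

/-- Maps out of the coaugmented complex `Y → P` extend to the terms of `I`. -/
structure ExtHyp (P : CochainComplex C ℕ) (η : (CochainComplex.single₀ C).obj Y ⟶ P)
    (I : CochainComplex C ℕ) : Prop where
  he : ∀ (k : ℕ) (φ : ((CochainComplex.single₀ C).obj Y).X 0 ⟶ I.X k),
    ∃ ψ : P.X 0 ⟶ I.X k, η.f 0 ≫ ψ = φ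
  h0 : ∀ (k : ℕ) (φ : P.X 0 ⟶ I.X k), η.f 0 ≫ φ = 0 → ∃ ψ : P.X 1 ⟶ I.X k, P.d 0 1 ≫ ψ = φ
  hs : ∀ (k n : ℕ) (φ : P.X (n + 1) ⟶ I.X k), P.d n (n + 1) ≫ φ = 0 →
    ∃ ψ : P.X (n + 2) ⟶ I.X k, P.d (n + 1) (n + 2) ≫ ψ = φ

theorem exists_colift (f : Y ⟶ Z) (P I : CochainComplex C ℕ)
    (η : (CochainComplex.single₀ C).obj Y ⟶ P) (ε : (CochainComplex.single₀ C).obj Z ⟶ I)
    (h : ExtHyp P η I) :
    ∃ φ : P ⟶ I, η ≫ φ = (CochainComplex.single₀ C).map f ≫ ε := by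
  obtain ⟨z, hz⟩ := h.he 0 (((CochainComplex.single₀ C).map f).f 0 ≫ ε.f 0)
  have hε : ε.f 0 ≫ I.d 0 1 = 0 := by
    rw [ε.comm 0 1, HomologicalComplex.single_obj_d, zero_comp]
  have h1 : η.f 0 ≫ (z ≫ I.d 0 1) = 0 := by
    rw [← Category.assoc, hz, Category.assoc, hε, comp_zero]
  obtain ⟨o, ho⟩ := h.h0 1 _ h1
  refine ⟨CochainComplex.mkHom P I z o ho.symm (fun n p => ?_), ?_⟩
  · have hp : P.d n (n + 1) ≫ (p.2.1 ≫ I.d (n + 1) (n + 2)) = 0 := by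
      rw [← Category.assoc, ← p.2.2, Category.assoc, I.d_comp_d, comp_zero]
    exact ⟨(h.hs (n + 2) n _ hp).choose, (h.hs (n + 2) n _ hp).choose_spec.symm⟩
  · apply HomologicalComplex.from_single_hom_ext
    rw [HomologicalComplex.comp_f, HomologicalComplex.comp_f, CochainComplex.mkHom_f_0, hz]

theorem nonempty_cohomotopy_zero (P I : CochainComplex C ℕ)
    (η : (CochainComplex.single₀ C).obj Y ⟶ P) (h : ExtHyp P η I)
    (g : P ⟶ I) (comm : η ≫ g = 0) : Nonempty (Homotopy g 0) := by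
  have c0 : η.f 0 ≫ g.f 0 = 0 := by
    have := congrArg (fun k => k.f 0) comm
    simpa using this
  obtain ⟨z, hz⟩ := h.h0 0 (g.f 0) c0
  have c1 : P.d 0 1 ≫ (g.f 1 - z ≫ I.d 0 1) = 0 := by
    rw [Preadditive.comp_sub, ← Category.assoc, hz, ← g.comm 0 1, sub_self]
  obtain ⟨o, ho⟩ := h.hs 1 0 _ c1
  refine ⟨Homotopy.mkCoinductive g z hz.symm o ?_ (fun n p => ?_)⟩
  · rw [ho]; abel
  · obtain ⟨a, b, hab⟩ := p
    have cn : P.d (n + 1) (n + 2) ≫ (g.f (n + 2) - b ≫ I.d (n + 1) (n + 2)) = 0 := by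
      rw [Preadditive.comp_sub, ← g.comm (n + 1) (n + 2), hab, Preadditive.add_comp,
        Category.assoc, I.d_comp_d, comp_zero, zero_add, Category.assoc, sub_self]
    exact ⟨(h.hs (n + 2) (n + 1) _ cn).choose, by
      rw [(h.hs (n + 2) (n + 1) _ cn).choose_spec]; abel⟩

theorem nonempty_cohomotopy (f : Y ⟶ Z) (P I : CochainComplex C ℕ)
    (η : (CochainComplex.single₀ C).obj Y ⟶ P) (ε : (CochainComplex.single₀ C).obj Z ⟶ I)
    (h : ExtHyp P η I) (α β : P ⟶ I)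
    (hα : η ≫ α = (CochainComplex.single₀ C).map f ≫ ε)
    (hβ : η ≫ β = (CochainComplex.single₀ C).map f ≫ ε) : Nonempty (Homotopy α β) := by
  obtain ⟨H⟩ := nonempty_cohomotopy_zero P I η h (α - β)
    (by rw [Preadditive.comp_sub, hα, hβ, sub_self])
  exact ⟨Homotopy.equivSubZero.invFun H⟩

end Cochain

end Groth.Agent.Lib.LeadRelRes
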