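import Mathlib
import Groth.Prelude
import Groth.Agent.S8773
import Groth.Agent.Lib.LeadRelRes

set_option maxHeartbeats 400000
set_option autoImplicit false

/-!
# Pure projective / pure injective comparison theorems: bridge to `ModuleCat`
-/

open CategoryTheory Limits

namespace Groth.Agent.Lib.LeadPureRes

universe u

section Abstract

variable {A : Type*} [Category A] [Abelian A]

theorem chain_exact_succ {K L : ChainComplex A ℕ} (f : K ⟶ L) (hf : QuasiIso f) (n : ℕ)
    (hL : IsZero (L.X (n + 1))) :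
    (ShortComplex.mk _ _ (K.d_comp_d (n + 2) (n + 1) n)).Exact := by
  haveI := hf
  have hLe : L.ExactAt (n + 1) := ShortComplex.exact_of_isZero_X₂ _ hL
  have hK : K.ExactAt (n + 1) := (quasiIsoAt_iff_exactAt' f (n + 1) hLe).1 inferInstance
  exact (HomologicalComplex.exactAt_iff' _ (n + 2) (n + 1) n
    (by simp only [ChainComplex.prev]; rfl) (by simp)).1 hK

theorem chain_exact_zero {K L : ChainComplex A ℕ} (f : K ⟶ L) (hf : QuasiIso f)
    (hL : L.d 1 0 = 0) :
    (ShortComplex.mk (K.d 1 0) (f.f 0) (by rw [← f.comm 1 0, hL, comp_zero])).Exact ∧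
      Epi (f.f 0) := by
  haveI := hf
  have h : QuasiIsoAt f 0 := inferInstance
  rw [ChainComplex.quasiIsoAt₀_iff, ShortComplex.quasiIso_iff_of_zeros'] at h
  · exact h
  · exact K.shape _ _ (by simp)
  · exact hL
  · exact L.shape _ _ (by simp)

theorem cochain_exact_succ {K L : CochainComplex A ℕ} (f : K ⟶ L) (hf : QuasiIso f) (n : ℕ)
    (hK : IsZero (K.X (n + 1))) :
    (ShortComplex.mk _ _ (L.d_comp_d n (n + 1) (n + 2))).Exact := by
  haveI := hf
  have hKe : K.ExactAt (n + 1) := ShortComplex.exact_of_isZero_X₂ _ hK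
  have hL : L.ExactAt (n + 1) := (quasiIsoAt_iff_exactAt f (n + 1) hKe).1 inferInstance
  exact (HomologicalComplex.exactAt_iff' _ n (n + 1) (n + 2) (by simp)
    (by simp only [CochainComplex.next]; rfl)).1 hL

theorem cochain_exact_zero {K L : CochainComplex A ℕ} (f : K ⟶ L) (hf : QuasiIso f)
    (hK : K.d 0 1 = 0) :
    (ShortComplex.mk (f.f 0) (L.d 0 1) (by rw [f.comm 0 1, hK, zero_comp])).Exact ∧
      Mono (f.f 0) := by
  haveI := hf
  have h : QuasiIsoAt f 0 := inferInstance
  rw [CochainComplex.quasiIsoAt₀_iff, ShortComplex.quasiIso_iff_of_zeros] at h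
  · exact h
  · exact K.shape _ _ (by simp)
  · exact hK
  · exact L.shape _ _ (by simp)

end Abstract

section Modules

variable (R : Type u) [CommRing R]

/-- The pure projective lifting property. -/
def PureProj (P : Type u) [AddCommGroup P] [Module R P] : Prop :=
  ∀ ⦃L T : Type u⦄ [AddCommGroup L] [Module R L] [AddCommGroup T] [Module R T] (g : L →ₗ[R] T),
    Function.Surjective g → CAlgX.UniversallyInjective R (LinearMap.ker g).subtype →
    ∀ φ : P →ₗ[R] T, ∃ ψ : P →ₗ[R] L, g ∘ₗ ψ = φ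

/-- The pure injective extension property. -/
def PureInj (I : Type u) [AddCommGroup I] [Module R I] : Prop :=
  ∀ ⦃K L : Type u⦄ [AddCommGroup K] [Module R K] [AddCommGroup L] [Module R L] (g : K →ₗ[R] L),
    CAlgX.UniversallyInjective R g → ∀ φ : K →ₗ[R] I, ∃ ψ : L →ₗ[R] I, ψ ∘ₗ g = φ

/-- Universal exactness of a pair of composable maps. -/
def UExact {A B C : Type u} [AddCommGroup A] [Module R A] [AddCommGroup B] [Module R B]
    [AddCommGroup C] [Module R C] (a : A →ₗ[R] B) (b : B →ₗ[R] C) : Prop :=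
  ∀ (Q : Type u) [AddCommGroup Q] [Module R Q], Function.Exact (a.rTensor Q) (b.rTensor Q)

variable {A' A B C D P I : Type u} [AddCommGroup A'] [Module R A'] [AddCommGroup A] [Module R A]
  [AddCommGroup B] [Module R B] [AddCommGroup C] [Module R C] [AddCommGroup D] [Module R D]
  [AddCommGroup P] [Module R P] [AddCommGroup I] [Module R I]

theorem rid_comp_rTensor (a : A →ₗ[R] B) :
    a ∘ₗ (TensorProduct.rid R A).toLinearMap =
      (TensorProduct.rid R B).toLinearMap ∘ₗ a.rTensor R := by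
  apply TensorProduct.ext'
  intro x r
  simp

theorem exact_of_uexact (a : A →ₗ[R] B) (b : B →ₗ[R] C) (h : UExact R a b) :
    Function.Exact a b :=
  Function.Exact.of_ladder_linearEquiv_of_exact (e₁ := TensorProduct.rid R A)
    (e₂ := TensorProduct.rid R B) (e₃ := TensorProduct.rid R C)
    (rid_comp_rTensor R a) (rid_comp_rTensor R b) (h R)

theorem surjective_of_rTensor_self (a : A →ₗ[R] B) (h : Function.Surjective (a.rTensor R)) :
    Function.Surjective a := by
  intro y
  obtain ⟨t, ht⟩ := h ((TensorProduct.rid R B).symm y)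
  refine ⟨TensorProduct.rid R A t, ?_⟩
  have h1 := LinearMap.congr_fun (rid_comp_rTensor R a) t
  simp only [LinearMap.comp_apply, LinearEquiv.coe_coe] at h1
  rw [h1, ht, LinearEquiv.apply_symm_apply]

theorem exists_factor (g : B →ₗ[R] D) (hg : Function.Surjective g) (φ : B →ₗ[R] I)
    (h : LinearMap.ker g ≤ LinearMap.ker φ) : ∃ φ' : D →ₗ[R] I, φ' ∘ₗ g = φ := by
  let e := LinearMap.quotKerEquivOfSurjective g hg
  refine ⟨(LinearMap.ker g).liftQ φ h ∘ₗ e.symm.toLinearMap, ?_⟩
  apply LinearMap.ext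
  intro v
  have he : e.symm (g v) = Submodule.Quotient.mk v := by
    rw [LinearEquiv.symm_apply_eq]
    rfl
  simp only [LinearMap.comp_apply, LinearEquiv.coe_coe, he, Submodule.liftQ_apply]

theorem lift_epi (hP : PureProj R P) (a' : A' →ₗ[R] A) (a : A →ₗ[R] B) (b : B →ₗ[R] C)
    (hU : UExact R a' a) (hE : Function.Exact a b) (hb : Function.Surjective b)
    (φ : P →ₗ[R] C) : ∃ ψ : P →ₗ[R] B, b ∘ₗ ψ = φ := by
  have h := Groth.Agent.S8773.result R a' a hU
  have hk : LinearMap.range a = LinearMap.ker b := hE.linearMap_ker_eq.symm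
  rw [hk] at h
  exact hP b hb h φ

theorem lift_step (hP : PureProj R P) (a' : A' →ₗ[R] A) (a : A →ₗ[R] B) (b : B →ₗ[R] C)
    (c : C →ₗ[R] D) (hU : UExact R a' a) (hE : Function.Exact a b) (hE' : Function.Exact b c)
    (φ : P →ₗ[R] C) (hφ : c ∘ₗ φ = 0) : ∃ ψ : P →ₗ[R] B, b ∘ₗ ψ = φ := by
  have hmem : ∀ x, φ x ∈ LinearMap.range b := fun x =>
    LinearMap.mem_range.2 ((hE' (φ x)).1 (LinearMap.congr_fun hφ x))
  have hE2 : Function.Exact a b.rangeRestrict := by
    intro y
    rw [← hE y]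
    exact ⟨fun h => congrArg Subtype.val h, fun h => Subtype.ext h⟩
  obtain ⟨ψ, hψ⟩ := lift_epi R hP a' a b.rangeRestrict hU hE2 b.surjective_rangeRestrict
    (φ.codRestrict (LinearMap.range b) hmem)
  exact ⟨ψ, LinearMap.ext fun x => congrArg Subtype.val (LinearMap.congr_fun hψ x)⟩

theorem extend_step (hI : PureInj R I) (a : A →ₗ[R] B) (b : B →ₗ[R] C) (hU : UExact R a b)
    (φ : B →ₗ[R] I) (hφ : φ ∘ₗ a = 0) : ∃ ψ : C →ₗ[R] I, ψ ∘ₗ b = φ := by
  have hui := Groth.Agent.S8773.result R a b hU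
  have hE := exact_of_uexact R a b hU
  have hle : LinearMap.ker b.rangeRestrict ≤ LinearMap.ker φ := by
    intro x hx
    have hx' : b x = 0 := congrArg Subtype.val (LinearMap.mem_ker.1 hx)
    obtain ⟨y, rfl⟩ := (hE x).1 hx'
    exact LinearMap.mem_ker.2 (LinearMap.congr_fun hφ y)
  obtain ⟨φ', hφ'⟩ := exists_factor R b.rangeRestrict b.surjective_rangeRestrict φ hle
  obtain ⟨ψ, hψ⟩ := hI (LinearMap.range b).subtype hui φ'
  refine ⟨ψ, LinearMap.ext fun x => ?_⟩
  have h1 := LinearMap.congr_fun hψ (b.rangeRestrict x)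
  have h2 := LinearMap.congr_fun hφ' x
  exact h1.trans h2

end Modules

section Bridge

variable {R : Type u} [CommRing R]

theorem fexact_of_exact {X Y Z : ModuleCat.{u} R} (f : X ⟶ Y) (g : Y ⟶ Z) (w : f ≫ g = 0)
    (h : (ShortComplex.mk f g w).Exact) : Function.Exact f.hom g.hom :=
  LinearMap.exact_iff.2 ((ShortComplex.moduleCat_exact_iff_range_eq_ker _).1 h).symm

section Chain

variable (Q : ChainComplex (ModuleCat.{u} R) ℕ) {Z : ModuleCat.{u} R}
  (ε : Q ⟶ (ChainComplex.single₀ (ModuleCat.{u} R)).obj Z)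
  (hQ : ∀ T : ModuleCat.{u} R, QuasiIso (((MonoidalCategory.tensorRight T).mapHomologicalComplex
    (ComplexShape.down ℕ)).map ε))

include hQ

theorem uexact_chain_succ (n : ℕ) : UExact R (Q.d (n + 2) (n + 1)).hom (Q.d (n + 1) n).hom := by
  intro T _ _
  have hz : IsZero ((((MonoidalCategory.tensorRight (ModuleCat.of R T)).mapHomologicalComplex
      (ComplexShape.down ℕ)).obj ((ChainComplex.single₀ (ModuleCat.{u} R)).obj Z)).X (n + 1)) := by
    show IsZero ((MonoidalCategory.tensorRight (ModuleCat.of R T)).obj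
      (((ChainComplex.single₀ (ModuleCat.{u} R)).obj Z).X (n + 1)))
    exact Functor.map_isZero _
      (HomologicalComplex.isZero_single_obj_X _ _ _ _ (Nat.succ_ne_zero n))
  have h := chain_exact_succ _ (hQ (ModuleCat.of R T)) n hz
  exact fexact_of_exact _ _ _ h

theorem uexact_chain_zero : UExact R (Q.d 1 0).hom (ε.f 0).hom := by
  intro T _ _
  have hL : ((((MonoidalCategory.tensorRight (ModuleCat.of R T)).mapHomologicalComplex
      (ComplexShape.down ℕ)).obj ((ChainComplex.single₀ (ModuleCat.{u} R)).obj Z)).d 1 0) = 0 := by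
    simp
    exact MonoidalPreadditive.zero_whiskerRight
  have h := (chain_exact_zero _ (hQ (ModuleCat.of R T)) hL).1
  exact fexact_of_exact _ _ _ h

theorem surj_chain_zero : Function.Surjective (ε.f 0).hom := by
  have hL : ((((MonoidalCategory.tensorRight (ModuleCat.of R R)).mapHomologicalComplex
      (ComplexShape.down ℕ)).obj ((ChainComplex.single₀ (ModuleCat.{u} R)).obj Z)).d 1 0) = 0 := by
    simp
    exact MonoidalPreadditive.zero_whiskerRight
  have h := (chain_exact_zero _ (hQ (ModuleCat.of R R)) hL).2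
  have h2 : Function.Surjective ((ε.f 0).hom.rTensor R) := (ModuleCat.epi_iff_surjective _).1 h
  exact surjective_of_rTensor_self R _ h2

theorem liftHyp (P : ChainComplex (ModuleCat.{u} R) ℕ) (hP : ∀ n : ℕ, PureProj R (P.X n)) :
    LeadRelRes.LiftHyp P Q ε where
  he k φ := by
    obtain ⟨ψ, hψ⟩ := lift_epi R (hP k) (Q.d 2 1).hom (Q.d 1 0).hom (ε.f 0).hom
      (uexact_chain_succ Q ε hQ 0) (exact_of_uexact R _ _ (uexact_chain_zero Q ε hQ))
      (surj_chain_zero Q ε hQ) φ.hom
    exact ⟨ModuleCat.ofHom ψ, ModuleCat.hom_ext hψ⟩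
  h0 k φ hφ := by
    obtain ⟨ψ, hψ⟩ := lift_step R (hP k) (Q.d 3 2).hom (Q.d 2 1).hom (Q.d 1 0).hom (ε.f 0).hom
      (uexact_chain_succ Q ε hQ 1) (exact_of_uexact R _ _ (uexact_chain_succ Q ε hQ 0))
      (exact_of_uexact R _ _ (uexact_chain_zero Q ε hQ)) φ.hom (congrArg ModuleCat.Hom.hom hφ)
    exact ⟨ModuleCat.ofHom ψ, ModuleCat.hom_ext hψ⟩
  hs k n φ hφ := by
    obtain ⟨ψ, hψ⟩ := lift_step R (hP k) (Q.d (n + 4) (n + 3)).hom (Q.d (n + 3) (n + 2)).hom
      (Q.d (n + 2) (n + 1)).hom (Q.d (n + 1) n).hom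
      (uexact_chain_succ Q ε hQ (n + 2)) (exact_of_uexact R _ _ (uexact_chain_succ Q ε hQ (n + 1)))
      (exact_of_uexact R _ _ (uexact_chain_succ Q ε hQ n)) φ.hom (congrArg ModuleCat.Hom.hom hφ)
    exact ⟨ModuleCat.ofHom ψ, ModuleCat.hom_ext hψ⟩

end Chain

section Cochain

variable (P : CochainComplex (ModuleCat.{u} R) ℕ) {Y : ModuleCat.{u} R}
  (η : (CochainComplex.single₀ (ModuleCat.{u} R)).obj Y ⟶ P)
  (hP : ∀ T : ModuleCat.{u} R, QuasiIso (((MonoidalCategory.tensorRight T).mapHomologicalComplex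
    (ComplexShape.up ℕ)).map η))

include hP

theorem uexact_cochain_succ (n : ℕ) :
    UExact R (P.d n (n + 1)).hom (P.d (n + 1) (n + 2)).hom := by
  intro T _ _
  have hz : IsZero ((((MonoidalCategory.tensorRight (ModuleCat.of R T)).mapHomologicalComplex
      (ComplexShape.up ℕ)).obj ((CochainComplex.single₀ (ModuleCat.{u} R)).obj Y)).X (n + 1)) := by
    show IsZero ((MonoidalCategory.tensorRight (ModuleCat.of R T)).obj
      (((CochainComplex.single₀ (ModuleCat.{u} R)).obj Y).X (n + 1)))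
    exact Functor.map_isZero _
      (HomologicalComplex.isZero_single_obj_X _ _ _ _ (Nat.succ_ne_zero n))
  have h := cochain_exact_succ _ (hP (ModuleCat.of R T)) n hz
  exact fexact_of_exact _ _ _ h

theorem uexact_cochain_zero : UExact R (η.f 0).hom (P.d 0 1).hom := by
  intro T _ _
  have hK : ((((MonoidalCategory.tensorRight (ModuleCat.of R T)).mapHomologicalComplex
      (ComplexShape.up ℕ)).obj ((CochainComplex.single₀ (ModuleCat.{u} R)).obj Y)).d 0 1) = 0 := by
    simp
    exact MonoidalPreadditive.zero_whiskerRight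
  have h := (cochain_exact_zero _ (hP (ModuleCat.of R T)) hK).1
  exact fexact_of_exact _ _ _ h

theorem ui_cochain_zero : CAlgX.UniversallyInjective R (η.f 0).hom := by
  intro T _ _
  have hK : ((((MonoidalCategory.tensorRight (ModuleCat.of R T)).mapHomologicalComplex
      (ComplexShape.up ℕ)).obj ((CochainComplex.single₀ (ModuleCat.{u} R)).obj Y)).d 0 1) = 0 := by
    simp
    exact MonoidalPreadditive.zero_whiskerRight
  have h := (cochain_exact_zero _ (hP (ModuleCat.of R T)) hK).2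
  exact (ModuleCat.mono_iff_injective _).1 h

theorem extHyp (I : CochainComplex (ModuleCat.{u} R) ℕ) (hI : ∀ n : ℕ, PureInj R (I.X n)) :
    LeadRelRes.ExtHyp P η I where
  he k φ := by
    obtain ⟨ψ, hψ⟩ := hI k (η.f 0).hom (ui_cochain_zero P η hP) φ.hom
    exact ⟨ModuleCat.ofHom ψ, ModuleCat.hom_ext hψ⟩
  h0 k φ hφ := by
    obtain ⟨ψ, hψ⟩ := extend_step R (hI k) (η.f 0).hom (P.d 0 1).hom
      (uexact_cochain_zero P η hP) φ.hom (congrArg ModuleCat.Hom.hom hφ)
    exact ⟨ModuleCat.ofHom ψ, ModuleCat.hom_ext hψ⟩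
  hs k n φ hφ := by
    obtain ⟨ψ, hψ⟩ := extend_step R (hI k) (P.d n (n + 1)).hom (P.d (n + 1) (n + 2)).hom
      (uexact_cochain_succ P η hP n) φ.hom (congrArg ModuleCat.Hom.hom hφ)
    exact ⟨ModuleCat.ofHom ψ, ModuleCat.hom_ext hψ⟩

end Cochain

end Bridge

end Groth.Agent.Lib.LeadPureRes
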