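import Mathlib
import Groth.Prelude
import Groth.Agent.S8772
import Groth.Agent.Lib.Helper13Pure
import Groth.Agent.Lib.LeadPureRes

set_option maxHeartbeats 400000
set_option autoImplicit false

/-!
# Existence of pure projective and pure injective resolutions
-/

open CategoryTheory Limits

namespace Groth.Agent.Lib.LeadPureExist

open Groth.Agent.Lib.LeadPureRes

universe u

section Abstract

variable {A : Type*} [Category A] [Abelian A]

theorem chain_quasiIso_of_exact {K L : ChainComplex A ℕ} (f : K ⟶ L)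
    (hLz : ∀ n, IsZero (L.X (n + 1))) (hL : L.d 1 0 = 0)
    (h1 : ∀ n, (ShortComplex.mk _ _ (K.d_comp_d (n + 2) (n + 1) n)).Exact)
    (h0 : (ShortComplex.mk (K.d 1 0) (f.f 0) (by rw [← f.comm 1 0, hL, comp_zero])).Exact)
    (he : Epi (f.f 0)) : QuasiIso f := by
  refine ⟨fun n => ?_⟩
  cases n with
  | zero =>
    rw [ChainComplex.quasiIsoAt₀_iff, ShortComplex.quasiIso_iff_of_zeros']
    · exact ⟨h0, he⟩
    · exact K.shape _ _ (by simp)
    · exact hL
    · exact L.shape _ _ (by simp)
  | succ n =>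
    rw [quasiIsoAt_iff_exactAt' f (n + 1) (ShortComplex.exact_of_isZero_X₂ _ (hLz n))]
    exact (HomologicalComplex.exactAt_iff' _ (n + 2) (n + 1) n
      (by simp only [ChainComplex.prev]; rfl) (by simp)).2 (h1 n)

theorem cochain_quasiIso_of_exact {K L : CochainComplex A ℕ} (f : K ⟶ L)
    (hKz : ∀ n, IsZero (K.X (n + 1))) (hK : K.d 0 1 = 0)
    (h1 : ∀ n, (ShortComplex.mk _ _ (L.d_comp_d n (n + 1) (n + 2))).Exact)
    (h0 : (ShortComplex.mk (f.f 0) (L.d 0 1) (by rw [f.comm 0 1, hK, zero_comp])).Exact)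
    (hm : Mono (f.f 0)) : QuasiIso f := by
  refine ⟨fun n => ?_⟩
  cases n with
  | zero =>
    rw [CochainComplex.quasiIsoAt₀_iff, ShortComplex.quasiIso_iff_of_zeros]
    · exact ⟨h0, hm⟩
    · exact K.shape _ _ (by simp)
    · exact hK
    · exact L.shape _ _ (by simp)
  | succ n =>
    rw [quasiIsoAt_iff_exactAt f (n + 1) (ShortComplex.exact_of_isZero_X₂ _ (hKz n))]
    exact (HomologicalComplex.exactAt_iff' _ n (n + 1) (n + 2) (by simp)
      (by simp only [CochainComplex.next]; rfl)).2 (h1 n)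

end Abstract

section Modules

variable (R : Type u) [CommRing R]

variable {A B C D E : Type u} [AddCommGroup A] [Module R A]
  [AddCommGroup B] [Module R B] [AddCommGroup C] [Module R C] [AddCommGroup D] [Module R D]
  [AddCommGroup E] [Module R E]

theorem uexact_right (i : B →ₗ[R] C) (q : C →ₗ[R] D) (hiq : Function.Exact i q)
    (hq : Function.Surjective q) : UExact R i q :=
  fun T _ _ => rTensor_exact T hiq hq

theorem uexact_precomp (p : A →ₗ[R] B) (hp : Function.Surjective p) (i : B →ₗ[R] C)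
    (q : C →ₗ[R] D) (h : UExact R i q) : UExact R (i ∘ₗ p) q := by
  intro T _ _
  rw [LinearMap.rTensor_comp]
  exact (Function.Surjective.comp_exact_iff_exact (LinearMap.rTensor_surjective T hp)).2 (h T)

theorem uexact_postcomp (i : B →ₗ[R] C) (q : C →ₗ[R] D) (j : D →ₗ[R] E)
    (hj : CAlgX.UniversallyInjective R j) (h : UExact R i q) : UExact R i (j ∘ₗ q) := by
  intro T _ _
  rw [LinearMap.rTensor_comp]
  exact (Function.Injective.comp_exact_iff_exact (hj T)).2 (h T)

theorem uexact_splice (p : A →ₗ[R] B) (hp : Function.Surjective p) (i : B →ₗ[R] C)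
    (q : C →ₗ[R] D) (j : D →ₗ[R] E) (hiq : Function.Exact i q) (hq : Function.Surjective q)
    (hj : CAlgX.UniversallyInjective R j) : UExact R (i ∘ₗ p) (j ∘ₗ q) :=
  uexact_postcomp R _ q j hj (uexact_precomp R p hp i q (uexact_right R i q hiq hq))

/-- Character modules are pure injective. -/
theorem pureInj_char (B : Type u) [AddCommGroup B] [Module R B] :
    PureInj R (CharacterModule B) := by
  intro K L _ _ _ _ g hg φ
  have hsurj := (rTensor_injective_iff_lcomp_surjective (R := R)
    (B := B) (f := g)).1 (hg B)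
  obtain ⟨ψ, hψ⟩ := hsurj φ
  exact ⟨ψ, hψ⟩

end Modules

section Bridge

variable {R : Type u} [CommRing R]

theorem exact_of_fexact {X Y Z : ModuleCat.{u} R} (f : X ⟶ Y) (g : Y ⟶ Z) (w : f ≫ g = 0)
    (h : Function.Exact f.hom g.hom) : (ShortComplex.mk f g w).Exact :=
  (ShortComplex.moduleCat_exact_iff_range_eq_ker _).2 (LinearMap.exact_iff.1 h).symm

theorem quasiIso_of_uexact (Q : ChainComplex (ModuleCat.{u} R) ℕ) {Z : ModuleCat.{u} R}
    (ε : Q ⟶ (ChainComplex.single₀ (ModuleCat.{u} R)).obj Z)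
    (h1 : ∀ n, UExact R (Q.d (n + 2) (n + 1)).hom (Q.d (n + 1) n).hom)
    (h0 : UExact R (Q.d 1 0).hom (ε.f 0).hom)
    (hs : Function.Surjective (ε.f 0).hom) (T : ModuleCat.{u} R) :
    QuasiIso (((MonoidalCategory.tensorRight T).mapHomologicalComplex
      (ComplexShape.down ℕ)).map ε) := by
  have hL : ((((MonoidalCategory.tensorRight T).mapHomologicalComplex
      (ComplexShape.down ℕ)).obj ((ChainComplex.single₀ (ModuleCat.{u} R)).obj Z)).d 1 0) = 0 := by
    simp
    exact MonoidalPreadditive.zero_whiskerRight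
  refine chain_quasiIso_of_exact _ (fun n => ?_) hL (fun n => ?_) ?_ ?_
  · show IsZero ((MonoidalCategory.tensorRight T).obj
      (((ChainComplex.single₀ (ModuleCat.{u} R)).obj Z).X (n + 1)))
    exact Functor.map_isZero _
      (HomologicalComplex.isZero_single_obj_X _ _ _ _ (Nat.succ_ne_zero n))
  · exact exact_of_fexact _ _ _ (h1 n T)
  · exact exact_of_fexact _ _ _ (h0 T)
  · exact (ModuleCat.epi_iff_surjective _).2 (LinearMap.rTensor_surjective T hs)

theorem quasiIso_of_uexact' (P : CochainComplex (ModuleCat.{u} R) ℕ) {Y : ModuleCat.{u} R}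
    (η : (CochainComplex.single₀ (ModuleCat.{u} R)).obj Y ⟶ P)
    (h1 : ∀ n, UExact R (P.d n (n + 1)).hom (P.d (n + 1) (n + 2)).hom)
    (h0 : UExact R (η.f 0).hom (P.d 0 1).hom)
    (hi : CAlgX.UniversallyInjective R (η.f 0).hom) (T : ModuleCat.{u} R) :
    QuasiIso (((MonoidalCategory.tensorRight T).mapHomologicalComplex
      (ComplexShape.up ℕ)).map η) := by
  have hK : ((((MonoidalCategory.tensorRight T).mapHomologicalComplex
      (ComplexShape.up ℕ)).obj ((CochainComplex.single₀ (ModuleCat.{u} R)).obj Y)).d 0 1) = 0 := by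
    simp
    exact MonoidalPreadditive.zero_whiskerRight
  refine cochain_quasiIso_of_exact _ (fun n => ?_) hK (fun n => ?_) ?_ ?_
  · show IsZero ((MonoidalCategory.tensorRight T).obj
      (((CochainComplex.single₀ (ModuleCat.{u} R)).obj Y).X (n + 1)))
    exact Functor.map_isZero _
      (HomologicalComplex.isZero_single_obj_X _ _ _ _ (Nat.succ_ne_zero n))
  · exact exact_of_fexact _ _ _ (h1 n T)
  · exact exact_of_fexact _ _ _ (h0 T)
  · exact (ModuleCat.mono_iff_injective _).2 (hi T)

end Bridge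

section Projective

variable (R : Type u) [CommRing R]

open Groth.Agent.Helper13Pure

/-- The covering object: a direct sum of finitely presented modules. -/
noncomputable def Fo (M : ModuleCat.{u} R) : ModuleCat.{u} R :=
  ModuleCat.of R (Π₀ i : Idx R M, QQ R M i)

/-- The covering map. -/
noncomputable def cv (M : ModuleCat.{u} R) : Fo R M ⟶ M := ModuleCat.ofHom (cov R M)

/-- The kernel of the covering map. -/
noncomputable def Kr (M : ModuleCat.{u} R) : ModuleCat.{u} R :=
  ModuleCat.of R (LinearMap.ker (cv R M).hom)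

/-- The inclusion of the kernel. -/
noncomputable def ki (M : ModuleCat.{u} R) : Kr R M ⟶ Fo R M :=
  ModuleCat.ofHom (LinearMap.ker (cv R M).hom).subtype

theorem cv_surj (M : ModuleCat.{u} R) : Function.Surjective (cv R M).hom :=
  cov_surjective (R := R) (M := M)

theorem ki_ui (M : ModuleCat.{u} R) : CAlgX.UniversallyInjective R (ki R M).hom :=
  univInj_of_equational _ (Submodule.injective_subtype _) (cov_equational (R := R) (M := M))

theorem ki_cv_exact (M : ModuleCat.{u} R) : Function.Exact (ki R M).hom (cv R M).hom :=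
  LinearMap.exact_subtype_ker_map _

/-- Iterated syzygies. -/
noncomputable def Zs (M : ModuleCat.{u} R) : ℕ → ModuleCat.{u} R
  | 0 => M
  | n + 1 => Kr R (Zs M n)

/-- Terms of the pure projective resolution. -/
noncomputable def PX (M : ModuleCat.{u} R) (n : ℕ) : ModuleCat.{u} R := Fo R (Zs R M n)

/-- Differentials of the pure projective resolution. -/
noncomputable def Pd (M : ModuleCat.{u} R) (n : ℕ) : PX R M (n + 1) ⟶ PX R M n :=
  ModuleCat.ofHom ((ki R (Zs R M n)).hom ∘ₗ (cv R (Zs R M (n + 1))).hom)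

theorem Pd_sq (M : ModuleCat.{u} R) (n : ℕ) : Pd R M (n + 1) ≫ Pd R M n = 0 := by
  apply ModuleCat.hom_ext
  apply LinearMap.ext
  intro x
  show (ki R (Zs R M n)).hom ((cv R (Zs R M (n + 1))).hom
    ((ki R (Zs R M (n + 1))).hom ((cv R (Zs R M (n + 2))).hom x))) = 0
  rw [(ki_cv_exact R (Zs R M (n + 1))).apply_apply_eq_zero]
  exact map_zero _

/-- The pure projective resolution complex. -/
noncomputable def PC (M : ModuleCat.{u} R) : ChainComplex (ModuleCat.{u} R) ℕ :=
  ChainComplex.of (PX R M) (Pd R M) (Pd_sq R M)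

theorem PC_d (M : ModuleCat.{u} R) (n : ℕ) : (PC R M).d (n + 1) n = Pd R M n :=
  ChainComplex.of_d _ _ n

theorem PC_d10_cv (M : ModuleCat.{u} R) : (PC R M).d 1 0 ≫ cv R M = 0 := by
  rw [PC_d]
  apply ModuleCat.hom_ext
  apply LinearMap.ext
  intro x
  show (cv R M).hom ((ki R M).hom ((cv R (Zs R M 1)).hom x)) = 0
  rw [(ki_cv_exact R M).apply_apply_eq_zero]

/-- The augmentation. -/
noncomputable def Pπ (M : ModuleCat.{u} R) :
    PC R M ⟶ (ChainComplex.single₀ (ModuleCat.{u} R)).obj M :=
  (ChainComplex.toSingle₀Equiv _ _).symm ⟨cv R M, PC_d10_cv R M⟩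

theorem Pπ_f0 (M : ModuleCat.{u} R) : (Pπ R M).f 0 = cv R M :=
  ChainComplex.toSingle₀Equiv_symm_apply_f_zero _ _

theorem Pπ_quasiIso (M T : ModuleCat.{u} R) :
    QuasiIso (((MonoidalCategory.tensorRight T).mapHomologicalComplex
      (ComplexShape.down ℕ)).map (Pπ R M)) := by
  refine quasiIso_of_uexact (PC R M) (Pπ R M) (fun n => ?_) ?_ ?_ T
  · rw [PC_d R M (n + 1), PC_d R M n]
    exact uexact_splice R (cv R (Zs R M (n + 2))).hom (cv_surj R _) (ki R (Zs R M (n + 1))).hom
      (cv R (Zs R M (n + 1))).hom (ki R (Zs R M n)).hom (ki_cv_exact R _) (cv_surj R _)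
      (ki_ui R _)
  · rw [PC_d R M 0, Pπ_f0]
    exact uexact_precomp R (cv R (Zs R M 1)).hom (cv_surj R _) (ki R M).hom (cv R M).hom
      (uexact_right R _ _ (ki_cv_exact R M) (cv_surj R M))
  · rw [Pπ_f0]
    exact cv_surj R M

end Projective

section Injective

variable (R : Type u) [CommRing R]

/-- The double character module. -/
noncomputable def Eo (M : ModuleCat.{u} R) : ModuleCat.{u} R :=
  ModuleCat.of R (CharacterModule (CharacterModule M))

/-- The evaluation map. -/
noncomputable def ev (M : ModuleCat.{u} R) : M ⟶ Eo R M :=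
  ModuleCat.ofHom (PureExt.charEval R M)

/-- The cokernel of the evaluation map. -/
noncomputable def Co (M : ModuleCat.{u} R) : ModuleCat.{u} R :=
  ModuleCat.of R ((Eo R M) ⧸ LinearMap.range (ev R M).hom)

/-- The projection to the cokernel. -/
noncomputable def qo (M : ModuleCat.{u} R) : Eo R M ⟶ Co R M :=
  ModuleCat.ofHom (LinearMap.range (ev R M).hom).mkQ

theorem qo_surj (M : ModuleCat.{u} R) : Function.Surjective (qo R M).hom :=
  Submodule.mkQ_surjective _

theorem ev_ui (M : ModuleCat.{u} R) : CAlgX.UniversallyInjective R (ev R M).hom :=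
  Groth.Agent.S8772.result R M

theorem ev_qo_exact (M : ModuleCat.{u} R) : Function.Exact (ev R M).hom (qo R M).hom :=
  LinearMap.exact_map_mkQ_range _

/-- Iterated cosyzygies. -/
noncomputable def Zc (M : ModuleCat.{u} R) : ℕ → ModuleCat.{u} R
  | 0 => M
  | n + 1 => Co R (Zc M n)

/-- Terms of the pure injective resolution. -/
noncomputable def IX (M : ModuleCat.{u} R) (n : ℕ) : ModuleCat.{u} R := Eo R (Zc R M n)

/-- Differentials of the pure injective resolution. -/
noncomputable def Id (M : ModuleCat.{u} R) (n : ℕ) : IX R M n ⟶ IX R M (n + 1) :=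
  ModuleCat.ofHom ((ev R (Zc R M (n + 1))).hom ∘ₗ (qo R (Zc R M n)).hom)

theorem Id_sq (M : ModuleCat.{u} R) (n : ℕ) : Id R M n ≫ Id R M (n + 1) = 0 := by
  apply ModuleCat.hom_ext
  apply LinearMap.ext
  intro x
  show (ev R (Zc R M (n + 2))).hom ((qo R (Zc R M (n + 1))).hom
    ((ev R (Zc R M (n + 1))).hom ((qo R (Zc R M n)).hom x))) = 0
  rw [(ev_qo_exact R (Zc R M (n + 1))).apply_apply_eq_zero]
  exact map_zero _

/-- The pure injective resolution complex. -/
noncomputable def IC (M : ModuleCat.{u} R) : CochainComplex (ModuleCat.{u} R) ℕ :=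
  CochainComplex.of (IX R M) (Id R M) (Id_sq R M)

theorem IC_d (M : ModuleCat.{u} R) (n : ℕ) : (IC R M).d n (n + 1) = Id R M n :=
  CochainComplex.of_d _ _ n

theorem ev_IC_d01 (M : ModuleCat.{u} R) : ev R M ≫ (IC R M).d 0 1 = 0 := by
  rw [IC_d]
  apply ModuleCat.hom_ext
  apply LinearMap.ext
  intro x
  show (ev R (Zc R M 1)).hom ((qo R M).hom ((ev R M).hom x)) = 0
  rw [(ev_qo_exact R M).apply_apply_eq_zero]
  exact map_zero _

/-- The coaugmentation. -/
noncomputable def Iη (M : ModuleCat.{u} R) :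
    (CochainComplex.single₀ (ModuleCat.{u} R)).obj M ⟶ IC R M :=
  (CochainComplex.fromSingle₀Equiv _ _).symm ⟨ev R M, ev_IC_d01 R M⟩

theorem Iη_f0 (M : ModuleCat.{u} R) : (Iη R M).f 0 = ev R M :=
  CochainComplex.fromSingle₀Equiv_symm_apply_f_zero _ _

theorem Iη_quasiIso (M T : ModuleCat.{u} R) :
    QuasiIso (((MonoidalCategory.tensorRight T).mapHomologicalComplex
      (ComplexShape.up ℕ)).map (Iη R M)) := by
  refine quasiIso_of_uexact' (IC R M) (Iη R M) (fun n => ?_) ?_ ?_ T
  · rw [IC_d R M (n + 1), IC_d R M n]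
    exact uexact_splice R (qo R (Zc R M n)).hom (qo_surj R _) (ev R (Zc R M (n + 1))).hom
      (qo R (Zc R M (n + 1))).hom (ev R (Zc R M (n + 2))).hom (ev_qo_exact R _) (qo_surj R _)
      (ev_ui R _)
  · rw [IC_d R M 0, Iη_f0]
    exact uexact_postcomp R (ev R M).hom (qo R M).hom (ev R (Zc R M 1)).hom (ev_ui R _)
      (uexact_right R _ _ (ev_qo_exact R M) (qo_surj R M))
  · rw [Iη_f0]
    exact ev_ui R M

theorem IX_pureInj (M : ModuleCat.{u} R) (n : ℕ) : PureInj R ((IC R M).X n) :=
  pureInj_char R (CharacterModule (Zc R M n))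

end Injective

end Groth.Agent.Lib.LeadPureExist
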