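import Mathlib
import Groth.Agent.Lib.LeadCotSm
import Groth.Agent.Lib.LeadHypSing

/-!
# Cutting a smooth algebra down to an étale one (for S18416)

`C → B` smooth, `J ⊆ B` an ideal with `C → B/J` surjective, `q ⊇ J` a prime.  Then there are
`g₁, …, gₙ ∈ J` whose differentials form a basis of `κ(q) ⊗ Ω_{B/C}`; the quotient
`B/(g₁, …, gₙ)` is étale over `C` at `q`, hence on a principal open neighbourhood.
-/

set_option autoImplicit false
set_option maxHeartbeats 400000
set_option linter.style.haveILetI false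
set_option linter.unusedSectionVars false
set_option linter.unusedVariables false

universe u v

open TensorProduct KaehlerDifferential IsLocalRing

namespace Groth.Agent.Lib.LeadQuotEt

section span

variable {C : Type v} {B : Type u} [CommRing C] [CommRing B] [Algebra C B]

/-- if `C → B/J` is surjective, every differential of `B/C` is congruent modulo `J·Ω` to `D g`
with `g ∈ J`. -/
theorem exists_D_sub_mem (J : Ideal B)
    (hsurj : Function.Surjective ((Ideal.Quotient.mk J).comp (algebraMap C B))) (ω : Ω[B⁄C]) :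
    ∃ g ∈ J, ω - D C B g ∈ (J • ⊤ : Submodule B Ω[B⁄C]) := by
  have hlift : ∀ b : B, ∃ c : C, b - algebraMap C B c ∈ J := by
    intro b
    obtain ⟨c, hc⟩ := hsurj (Ideal.Quotient.mk J b)
    refine ⟨c, ?_⟩
    rw [← Ideal.Quotient.eq_zero_iff_mem, map_sub, sub_eq_zero]
    exact hc.symm
  have hω : ω ∈ Submodule.span B (Set.range (D C B)) := by
    rw [KaehlerDifferential.span_range_derivation]; trivial
  induction hω using Submodule.span_induction with
  | mem y hy =>
    obtain ⟨b, rfl⟩ := hy
    obtain ⟨c, hc⟩ := hlift b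
    refine ⟨b - algebraMap C B c, hc, ?_⟩
    rw [map_sub, Derivation.map_algebraMap, sub_zero, sub_self]
    exact zero_mem _
  | zero => exact ⟨0, zero_mem _, by rw [map_zero, sub_zero]; exact zero_mem _⟩
  | add x y _ _ hx hy =>
    obtain ⟨a, ha, ha'⟩ := hx
    obtain ⟨b, hb, hb'⟩ := hy
    refine ⟨a + b, add_mem ha hb, ?_⟩
    have : x + y - D C B (a + b) = (x - D C B a) + (y - D C B b) := by
      rw [map_add]; abel
    rw [this]
    exact add_mem ha' hb'
  | smul r x _ hx =>
    obtain ⟨a, ha, ha'⟩ := hx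
    obtain ⟨c, hc⟩ := hlift r
    refine ⟨c • a, ?_, ?_⟩
    · rw [Algebra.smul_def]
      exact J.mul_mem_left _ ha
    · have hc' : ∀ y : Ω[B⁄C], (algebraMap C B c) • y = c • y := fun y => algebraMap_smul B c y
      have : r • x - D C B (c • a) =
          (algebraMap C B c) • (x - D C B a) + (r - algebraMap C B c) • x := by
        rw [Derivation.map_smul, smul_sub, sub_smul]
        simp only [hc']
        abel
      rw [this]
      exact add_mem (Submodule.smul_mem _ _ ha') (Submodule.smul_mem_smul hc trivial)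

/-- in the fibre at a field `F` killing `J`, the `D g`, `g ∈ J`, span. -/
theorem span_tmul_D_eq_top (J : Ideal B)
    (hsurj : Function.Surjective ((Ideal.Quotient.mk J).comp (algebraMap C B)))
    (F : Type u) [Field F] [Algebra B F] (hJF : J ≤ RingHom.ker (algebraMap B F)) :
    Submodule.span F {v : F ⊗[B] Ω[B⁄C] | ∃ g ∈ J, v = (1 : F) ⊗ₜ[B] D C B g} = ⊤ := by
  rw [eq_top_iff, ← Groth.Agent.Lib.LeadHypSing.span_one_tmul_eq_top B F Ω[B⁄C],
    Submodule.span_le]
  rintro _ ⟨ω, rfl⟩
  obtain ⟨g, hg, hg'⟩ := exists_D_sub_mem J hsurj ω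
  have h1 : (1 : F) ⊗ₜ[B] (ω - D C B g) = 0 := by
    apply Groth.Agent.Lib.LeadCotSm.one_tmul_eq_zero_of_mem
    exact Submodule.smul_mono_left hJF hg'
  rw [TensorProduct.tmul_sub, sub_eq_zero] at h1
  show (1 : F) ⊗ₜ[B] ω ∈ _
  rw [h1]
  exact Submodule.subset_span ⟨g, hg, rfl⟩

/-- a basis of the fibre of `Ω_{B/C}` consisting of `D g`, `g ∈ J`. -/
theorem exists_basis_D (J : Ideal B)
    (hsurj : Function.Surjective ((Ideal.Quotient.mk J).comp (algebraMap C B)))
    (F : Type u) [Field F] [Algebra B F] (hJF : J ≤ RingHom.ker (algebraMap B F))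
    [Module.Finite B Ω[B⁄C]] :
    ∃ (n : ℕ) (g : Fin n → B), (∀ j, g j ∈ J) ∧
      LinearIndependent F (fun j => (1 : F) ⊗ₜ[B] D C B (g j)) ∧
      Submodule.span F (Set.range fun j => (1 : F) ⊗ₜ[B] D C B (g j)) = ⊤ := by
  have hspan := span_tmul_D_eq_top J hsurj F hJF
  obtain ⟨u, huT, huspan, huli⟩ := Submodule.exists_fun_fin_finrank_span_eq F
    {v : F ⊗[B] Ω[B⁄C] | ∃ g ∈ J, v = (1 : F) ⊗ₜ[B] D C B g}
  choose g hg hg' using huT
  have hu : u = fun j => (1 : F) ⊗ₜ[B] D C B (g j) := funext hg'
  refine ⟨_, g, hg, ?_, ?_⟩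
  · rw [← hu]; exact huli
  · rw [← hu, huspan, hspan]

end span

section local_etale

variable (A : Type v) {P : Type u} [CommRing A] [CommRing P] [IsLocalRing P] [Algebra A P]

/-- elements of `K ⊗ I` for `I = (g₁, …, gₙ)` are combinations of the `1 ⊗ gⱼ`. -/
theorem exists_sum_tmul {n : ℕ} (g : Fin n → P) (I : Ideal P) (hgI : ∀ j, g j ∈ I)
    (hI : I = Ideal.span (Set.range g)) (K : Type u) [Field K] [Algebra P K]
    (z : K ⊗[P] I) :
    ∃ k : Fin n → K, z = ∑ j, k j ⊗ₜ[P] (⟨g j, hgI j⟩ : I) := by
  induction z using TensorProduct.induction_on with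
  | zero => exact ⟨0, by simp⟩
  | add a b ha hb =>
    obtain ⟨k₁, rfl⟩ := ha
    obtain ⟨k₂, rfl⟩ := hb
    refine ⟨k₁ + k₂, ?_⟩
    rw [← Finset.sum_add_distrib]
    refine Finset.sum_congr rfl fun j _ => ?_
    rw [Pi.add_apply, TensorProduct.add_tmul]
  | tmul a b =>
    obtain ⟨b, hb⟩ := b
    have hb' : b ∈ Ideal.span (Set.range g) := hI ▸ hb
    obtain ⟨c, hc⟩ := (Submodule.mem_span_range_iff_exists_fun P).mp hb'
    refine ⟨fun j => c j • a, ?_⟩
    have hb2 : (⟨b, hb⟩ : I) = ∑ j, c j • (⟨g j, hgI j⟩ : I) := by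
      apply Subtype.ext
      have h3 : ((∑ j, c j • (⟨g j, hgI j⟩ : I) : I) : P) = ∑ j, c j • g j := by simp
      rw [h3]
      exact hc.symm
    rw [hb2, TensorProduct.tmul_sum]
    refine Finset.sum_congr rfl fun j _ => ?_
    rw [TensorProduct.smul_tmul]

/-- **Jacobian criterion, étale case.** `P` local, formally smooth and essentially of finite type
over `A`; `g₁, …, gₙ` in the maximal ideal with the `dgⱼ` a basis of the fibre of `Ω_{P/A}`.
Then `P/(g)` is formally étale over `A`. -/
theorem formallyEtale_quotient_of_basis [Algebra.FormallySmooth A P] [Algebra.EssFiniteType A P]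
    {n : ℕ} (g : Fin n → P) (hm : ∀ j, g j ∈ maximalIdeal P)
    (hli : LinearIndependent (ResidueField P)
      (fun j => (1 : ResidueField P) ⊗ₜ[P] D A P (g j)))
    (hspan : Submodule.span (ResidueField P)
      (Set.range fun j => (1 : ResidueField P) ⊗ₜ[P] D A P (g j)) = ⊤)
    (I : Ideal P) (hI : I = Ideal.span (Set.range g)) :
    Algebra.FormallyEtale A (P ⧸ I) := by
  have hgI : ∀ j, g j ∈ I := fun j => hI ▸ Ideal.subset_span ⟨j, rfl⟩
  have hIle : I ≤ maximalIdeal P := by
    rw [hI, Ideal.span_le]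
    rintro _ ⟨j, rfl⟩
    exact hm j
  have hne : I ≠ ⊤ := fun e => (IsLocalRing.maximalIdeal.isMaximal P).ne_top
    (top_le_iff.mp (e ▸ hIle))
  haveI : Nontrivial (P ⧸ I) := Ideal.Quotient.nontrivial_iff.mpr hne
  haveI : IsLocalRing (P ⧸ I) := .of_surjective' _ Ideal.Quotient.mk_surjective
  haveI : Module.Free P Ω[P⁄A] := Module.free_of_flat_of_isLocalRing
  let φ : P ⧸ I →+* ResidueField P :=
    Ideal.Quotient.lift I (residue P) (fun a ha => by
      rw [residue_eq_zero_iff]; exact hIle ha)
  letI : Algebra (P ⧸ I) (ResidueField P) := φ.toAlgebra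
  haveI : IsScalarTower P (P ⧸ I) (ResidueField P) :=
    IsScalarTower.of_algebraMap_eq (fun a => rfl)
  have h₁ : Function.Surjective (algebraMap P (P ⧸ I)) := Ideal.Quotient.mk_surjective
  have hker : RingHom.ker (algebraMap P (P ⧸ I)) = I := Ideal.mk_ker
  have h₂ : (RingHom.ker (algebraMap P (P ⧸ I))).FG := by
    rw [hker, hI]
    exact Submodule.fg_span (Set.finite_range g)
  have h₃ : maximalIdeal (P ⧸ I) ≤ RingHom.ker (algebraMap (P ⧸ I) (ResidueField P)) := by
    intro z hz
    obtain ⟨z, rfl⟩ := Ideal.Quotient.mk_surjective z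
    rw [RingHom.mem_ker]
    change residue P z = 0
    rw [residue_eq_zero_iff]
    by_contra hcon
    have hu : IsUnit z := by
      rw [mem_maximalIdeal, mem_nonunits_iff, not_not] at hcon
      exact hcon
    exact hz (hu.map _)
  -- formally smooth
  have hfs : Algebra.FormallySmooth A (P ⧸ I) := by
    rw [Algebra.FormallySmooth.iff_injective_cotangentComplexBaseChange P (ResidueField P)
      h₁ h₂ h₃]
    have hgK : ∀ j, g j ∈ RingHom.ker (algebraMap P (P ⧸ I)) := fun j => by
      rw [hker]; exact hgI j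
    rw [injective_iff_map_eq_zero]
    intro z hz
    obtain ⟨k, rfl⟩ := exists_sum_tmul g (RingHom.ker (algebraMap P (P ⧸ I))) hgK
      (by rw [hker]; exact hI) (ResidueField P) z
    rw [map_sum] at hz
    have hz' : ∑ j, k j • ((1 : ResidueField P) ⊗ₜ[P] D A P (g j)) = 0 := by
      rw [← hz]
      refine Finset.sum_congr rfl fun j _ => ?_
      rw [cotangentComplexBaseChange_tmul]
      rfl
    have hk := Fintype.linearIndependent_iff.mp hli k hz'
    refine Finset.sum_eq_zero fun j _ => ?_
    rw [hk j, TensorProduct.zero_tmul]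
  -- formally unramified
  haveI : Algebra.EssFiniteType A (P ⧸ I) :=
    Algebra.EssFiniteType.comp A P (P ⧸ I)
  haveI : Module.Finite (P ⧸ I) Ω[(P ⧸ I)⁄A] := inferInstance
  have hres : Function.Surjective (algebraMap P (ResidueField P)) := residue_surjective
  have hkerres : RingHom.ker (algebraMap P (ResidueField P)) = maximalIdeal P := ker_residue
  have hmap : Function.Surjective (KaehlerDifferential.map A A P (P ⧸ I)) :=
    KaehlerDifferential.map_surjective_of_surjective A A P (P ⧸ I) h₁
  have hle : (⊤ : Submodule (P ⧸ I) Ω[(P ⧸ I)⁄A]) ≤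
      maximalIdeal (P ⧸ I) • (⊤ : Submodule (P ⧸ I) Ω[(P ⧸ I)⁄A]) := by
    intro y _
    obtain ⟨ω, rfl⟩ := hmap y
    -- write `1 ⊗ ω` in terms of the `1 ⊗ D g j`
    have hω : (1 : ResidueField P) ⊗ₜ[P] ω ∈ Submodule.span (ResidueField P)
        (Set.range fun j => (1 : ResidueField P) ⊗ₜ[P] D A P (g j)) := by
      rw [hspan]; trivial
    obtain ⟨k, hk⟩ := (Submodule.mem_span_range_iff_exists_fun (ResidueField P)).mp hω
    choose c hc using fun j => hres (k j)
    have h0 : (1 : ResidueField P) ⊗ₜ[P] (ω - ∑ j, c j • D A P (g j)) = 0 := by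
      rw [TensorProduct.tmul_sub, ← hk, TensorProduct.tmul_sum, sub_eq_zero]
      refine Finset.sum_congr rfl fun j _ => ?_
      rw [TensorProduct.tmul_smul, ← algebraMap_smul (ResidueField P) (c j), hc]
    rw [Groth.Agent.Lib.LeadCotSm.one_tmul_eq_zero_iff (ResidueField P) hres, hkerres] at h0
    -- push forward
    have h1 : KaehlerDifferential.map A A P (P ⧸ I) ω =
        KaehlerDifferential.map A A P (P ⧸ I) (ω - ∑ j, c j • D A P (g j)) := by
      rw [map_sub, map_sum]
      have : ∑ j, KaehlerDifferential.map A A P (P ⧸ I) (c j • D A P (g j)) = 0 := by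
        refine Finset.sum_eq_zero fun j _ => ?_
        rw [map_smul, KaehlerDifferential.map_D]
        have : algebraMap P (P ⧸ I) (g j) = 0 := by
          rw [← RingHom.mem_ker, hker]; exact hgI j
        rw [this, map_zero, smul_zero]
      rw [this, sub_zero]
    rw [h1]
    refine Submodule.smul_induction_on h0 ?_ ?_
    · intro a ha m _
      rw [map_smul, ← algebraMap_smul (P ⧸ I) a]
      refine Submodule.smul_mem_smul ?_ trivial
      -- `algebraMap a ∈ maximalIdeal (P ⧸ I)`
      intro hu
      obtain ⟨b, hb⟩ := h₁ (hu.unit⁻¹ : (P ⧸ I)ˣ)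
      have h2 : algebraMap P (P ⧸ I) (a * b - 1) = 0 := by
        rw [map_sub, map_mul, hb, map_one, IsUnit.mul_val_inv, sub_self]
      have h3 : a * b - 1 ∈ maximalIdeal P := hIle (by rw [← hker]; exact h2)
      have h4 : a * b ∈ maximalIdeal P := Ideal.mul_mem_right _ _ ha
      have h5 : (1 : P) ∈ maximalIdeal P := by
        have := Ideal.sub_mem _ h4 h3
        rwa [sub_sub_cancel] at this
      exact (Ideal.ne_top_iff_one _).mp (IsLocalRing.maximalIdeal.isMaximal P).ne_top h5
    · intro x y hx hy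
      rw [map_add]
      exact add_mem hx hy
  have hbot : (⊤ : Submodule (P ⧸ I) Ω[(P ⧸ I)⁄A]) = ⊥ :=
    Submodule.eq_bot_of_le_smul_of_le_jacobson_bot (maximalIdeal (P ⧸ I)) ⊤
      Module.Finite.fg_top hle (IsLocalRing.maximalIdeal_le_jacobson _)
  haveI : Subsingleton Ω[(P ⧸ I)⁄A] := by
    rw [← Submodule.subsingleton_iff (P ⧸ I)]
    exact subsingleton_iff_bot_eq_top.mp hbot.symm
  haveI : Algebra.FormallyUnramified A (P ⧸ I) := ⟨inferInstance⟩
  exact Algebra.FormallyEtale.of_formallyUnramified_and_formallySmooth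
    -- (A := A) (B := P ⧸ I)

end local_etale

section global

variable {C : Type v} {B : Type u} [CommRing C] [CommRing B] [Algebra C B]

/-- the fibre of `Ω_{B_q/C}` at the closed point is the fibre of `Ω_{B/C}` at `q`. -/
noncomputable def fibreEquiv (q : Ideal B) [q.IsPrime] :
    q.ResidueField ⊗[Localization.AtPrime q] Ω[Localization.AtPrime q⁄C] ≃ₗ[q.ResidueField]
      q.ResidueField ⊗[B] Ω[B⁄C] :=
  haveI : Algebra.FormallyEtale B (Localization.AtPrime q) :=
    Algebra.FormallyEtale.of_isLocalization q.primeCompl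
  (TensorProduct.AlgebraTensorModule.congr (LinearEquiv.refl q.ResidueField q.ResidueField)
    (KaehlerDifferential.tensorKaehlerEquivOfFormallyEtale C B (Localization.AtPrime q)).symm) ≪≫ₗ
  TensorProduct.AlgebraTensorModule.cancelBaseChange B (Localization.AtPrime q) q.ResidueField
    q.ResidueField Ω[B⁄C]

theorem fibreEquiv_tmul_D (q : Ideal B) [q.IsPrime] (b : B) :
    fibreEquiv (C := C) q ((1 : q.ResidueField) ⊗ₜ[Localization.AtPrime q]
      D C (Localization.AtPrime q) (algebraMap B (Localization.AtPrime q) b)) =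
      (1 : q.ResidueField) ⊗ₜ[B] D C B b := by
  haveI : Algebra.FormallyEtale B (Localization.AtPrime q) :=
    Algebra.FormallyEtale.of_isLocalization q.primeCompl
  unfold fibreEquiv
  rw [LinearEquiv.trans_apply, TensorProduct.AlgebraTensorModule.congr_tmul,
    LinearEquiv.refl_apply,
    KaehlerDifferential.tensorKaehlerEquivOfFormallyEtale_symm_D_algebraMap,
    TensorProduct.AlgebraTensorModule.cancelBaseChange_tmul, one_smul]

theorem isScalarTower_quotient_map {A : Type v} {C₁ P : Type u} [CommRing A] [CommRing C₁]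
    [CommRing P] [Algebra A C₁] [Algebra C₁ P] [Algebra A P] [IsScalarTower A C₁ P]
    (I : Ideal C₁) :
    IsScalarTower A (C₁ ⧸ I) (P ⧸ I.map (algebraMap C₁ P)) := by
  refine IsScalarTower.of_algebraMap_eq (fun a => ?_)
  rw [IsScalarTower.algebraMap_apply A C₁ (C₁ ⧸ I),
    IsScalarTower.algebraMap_apply A P (P ⧸ I.map (algebraMap C₁ P)),
    IsScalarTower.algebraMap_apply A C₁ P]
  rfl

/-- **Main ring-theoretic statement.** -/
theorem exists_away_quotient_etale [Algebra.Smooth C B] (J : Ideal B)
    (hsurj : Function.Surjective ((Ideal.Quotient.mk J).comp (algebraMap C B)))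
    (q : Ideal B) [q.IsPrime] (hJq : J ≤ q) :
    ∃ f : B, f ∉ q ∧ ∃ J₁ : Ideal B, J₁ ≤ J ∧
      Algebra.Etale C (Localization.Away f ⧸ J₁.map (algebraMap B (Localization.Away f))) := by
  haveI : Algebra.FinitePresentation C B := Algebra.Smooth.finitePresentation
  haveI : Algebra.FormallySmooth C B := Algebra.Smooth.formallySmooth
  haveI : Module.Finite B Ω[B⁄C] := inferInstance
  have hJF : J ≤ RingHom.ker (algebraMap B q.ResidueField) := by
    rw [Ideal.ker_algebraMap_residueField]; exact hJq
  obtain ⟨n, g, hgJ, hli, hspan⟩ := exists_basis_D (C := C) J hsurj q.ResidueField hJF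
  -- the ideal
  obtain ⟨J₁, hJ₁⟩ : ∃ J₁ : Ideal B, J₁ = Ideal.span (Set.range g) := ⟨_, rfl⟩
  have hJ₁J : J₁ ≤ J := by
    rw [hJ₁, Ideal.span_le]
    rintro _ ⟨j, rfl⟩
    exact hgJ j
  have hJ₁q : J₁ ≤ q := hJ₁J.trans hJq
  have hJ₁fg : J₁.FG := by rw [hJ₁]; exact Submodule.fg_span (Set.finite_range g)
  -- local statement
  have hm : ∀ j, algebraMap B (Localization.AtPrime q) (g j) ∈
      maximalIdeal (Localization.AtPrime q) := fun j =>
    (IsLocalization.AtPrime.to_map_mem_maximal_iff (Localization.AtPrime q) q (g j)).mpr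
      (hJq (hgJ j))
  have hcomp : (fun j => fibreEquiv (C := C) q ((1 : q.ResidueField) ⊗ₜ[Localization.AtPrime q]
      D C (Localization.AtPrime q) (algebraMap B (Localization.AtPrime q) (g j)))) =
      fun j => (1 : q.ResidueField) ⊗ₜ[B] D C B (g j) :=
    funext fun j => fibreEquiv_tmul_D q (g j)
  have hli' : LinearIndependent q.ResidueField
      (fun j => (1 : q.ResidueField) ⊗ₜ[Localization.AtPrime q]
        D C (Localization.AtPrime q) (algebraMap B (Localization.AtPrime q) (g j))) := by
    refine LinearIndependent.of_comp (fibreEquiv (C := C) q).toLinearMap ?_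
    have : ((fibreEquiv (C := C) q).toLinearMap ∘ fun j =>
        (1 : q.ResidueField) ⊗ₜ[Localization.AtPrime q]
          D C (Localization.AtPrime q) (algebraMap B (Localization.AtPrime q) (g j))) =
        fun j => (1 : q.ResidueField) ⊗ₜ[B] D C B (g j) := hcomp
    rw [this]
    exact hli
  have hspan' : Submodule.span q.ResidueField
      (Set.range fun j => (1 : q.ResidueField) ⊗ₜ[Localization.AtPrime q]
        D C (Localization.AtPrime q) (algebraMap B (Localization.AtPrime q) (g j))) = ⊤ := by
    have h1 : (Submodule.span q.ResidueField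
        (Set.range fun j => (1 : q.ResidueField) ⊗ₜ[Localization.AtPrime q]
          D C (Localization.AtPrime q) (algebraMap B (Localization.AtPrime q) (g j)))).map
        (fibreEquiv (C := C) q).toLinearMap = ⊤ := by
      rw [Submodule.map_span, ← Set.range_comp]
      have : ((fibreEquiv (C := C) q).toLinearMap ∘ fun j =>
          (1 : q.ResidueField) ⊗ₜ[Localization.AtPrime q]
            D C (Localization.AtPrime q) (algebraMap B (Localization.AtPrime q) (g j))) =
          fun j => (1 : q.ResidueField) ⊗ₜ[B] D C B (g j) := hcomp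
      rw [this]
      exact hspan
    rw [eq_top_iff]
    intro z _
    have hz : (fibreEquiv (C := C) q) z ∈ (⊤ : Submodule q.ResidueField _) := trivial
    rw [← h1] at hz
    obtain ⟨z', hz', hzz'⟩ := hz
    have : z' = z := (fibreEquiv (C := C) q).injective hzz'
    rw [← this]
    exact hz'
  haveI : Algebra.FormallySmooth B (Localization.AtPrime q) :=
    Algebra.FormallySmooth.of_isLocalization q.primeCompl
  haveI : Algebra.FormallySmooth C (Localization.AtPrime q) :=
    Algebra.FormallySmooth.comp C B (Localization.AtPrime q)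
  haveI : Algebra.EssFiniteType B (Localization.AtPrime q) :=
    Algebra.EssFiniteType.of_isLocalization (Localization.AtPrime q) q.primeCompl
  haveI : Algebra.EssFiniteType C (Localization.AtPrime q) :=
    Algebra.EssFiniteType.comp C B (Localization.AtPrime q)
  have hmapI : J₁.map (algebraMap B (Localization.AtPrime q)) =
      Ideal.span (Set.range fun j => algebraMap B (Localization.AtPrime q) (g j)) := by
    rw [hJ₁, Ideal.map_span, ← Set.range_comp]
    rfl
  have het : Algebra.FormallyEtale C
      (Localization.AtPrime q ⧸ J₁.map (algebraMap B (Localization.AtPrime q))) :=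
    formallyEtale_quotient_of_basis C (fun j => algebraMap B (Localization.AtPrime q) (g j)) hm
      hli' hspan' _ hmapI
  -- the prime of the quotient
  haveI hq'prime : (q.map (Ideal.Quotient.mk J₁)).IsPrime :=
    Ideal.map_isPrime_of_surjective Ideal.Quotient.mk_surjective (by rwa [Ideal.mk_ker])
  have hcomap : (q.map (Ideal.Quotient.mk J₁)).comap (Ideal.Quotient.mk J₁) = q := by
    rw [Ideal.comap_map_of_surjective _ Ideal.Quotient.mk_surjective, ← RingHom.ker_eq_comap_bot,
      Ideal.mk_ker, sup_eq_left.mpr hJ₁q]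
  haveI : Algebra.FinitePresentation C (B ⧸ J₁) := Algebra.FinitePresentation.quotient hJ₁fg
  haveI hEtAt : Algebra.IsEtaleAt C (q.map (Ideal.Quotient.mk J₁)) := by
    have hlo : (q.map (Ideal.Quotient.mk J₁)).LiesOver q := ⟨hcomap.symm⟩
    have hsub : Algebra.algebraMapSubmonoid (B ⧸ J₁) q.primeCompl =
        (q.map (Ideal.Quotient.mk J₁)).primeCompl :=
      Ideal.algebraMapSubmonoid_primeCompl_of_liesOver_surjective _ q
        Ideal.Quotient.mk_surjective
    have hloc : IsLocalization (Algebra.algebraMapSubmonoid (B ⧸ J₁) q.primeCompl)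
        (Localization.AtPrime q ⧸ J₁.map (algebraMap B (Localization.AtPrime q))) :=
      inferInstance
    rw [hsub] at hloc
    haveI := isScalarTower_quotient_map (A := C)
      (P := Localization.AtPrime q) J₁
    let e : (Localization.AtPrime q ⧸ J₁.map (algebraMap B (Localization.AtPrime q))) ≃ₐ[B ⧸ J₁]
        Localization.AtPrime (q.map (Ideal.Quotient.mk J₁)) :=
      IsLocalization.algEquiv (q.map (Ideal.Quotient.mk J₁)).primeCompl _ _
    exact Algebra.FormallyEtale.of_equiv (e.restrictScalars C)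
  obtain ⟨f', hf', hetf⟩ := Algebra.exists_etale_of_isEtaleAt (R := C)
    (q.map (Ideal.Quotient.mk J₁))
  obtain ⟨f, rfl⟩ := Ideal.Quotient.mk_surjective f'
  refine ⟨f, fun hfq => hf' (Ideal.mem_map_of_mem _ hfq), J₁, hJ₁J, ?_⟩
  have hloc : IsLocalization (Algebra.algebraMapSubmonoid (B ⧸ J₁) (Submonoid.powers f))
      (Localization.Away f ⧸ J₁.map (algebraMap B (Localization.Away f))) := inferInstance
  have hsub : Algebra.algebraMapSubmonoid (B ⧸ J₁) (Submonoid.powers f) =
      Submonoid.powers (Ideal.Quotient.mk J₁ f) := by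
    simp [Algebra.algebraMapSubmonoid, Submonoid.map_powers]
  rw [hsub] at hloc
  haveI := isScalarTower_quotient_map (A := C)
    (P := Localization.Away f) J₁
  let e : Localization.Away (Ideal.Quotient.mk J₁ f) ≃ₐ[B ⧸ J₁]
      (Localization.Away f ⧸ J₁.map (algebraMap B (Localization.Away f))) :=
    IsLocalization.algEquiv (Submonoid.powers (Ideal.Quotient.mk J₁ f)) _ _
  exact Algebra.Etale.of_equiv (e.restrictScalars C)

end global

end Groth.Agent.Lib.LeadQuotEt
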