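import Mathlib
import Groth.Prelude.Def_Omega4
import Groth.Prelude.Def_FlatMod2
import Groth.Agent.Lib.LeadFlatSm
import Groth.Agent.Lib.LeadNonsing
import Groth.Agent.Lib.Helper5RLR3
import Groth.Agent.Lib.Helper5TfaeCMReg
import Groth.Agent.Lib.Helper5FiberStalk

/-!
# Smoothness over a regular base (lead)

* `isRegularLocalRing_of_regular_fiber`: `A → B` local, `A` regular, `B ⧸ m_A B` regular and
  `dim B = dim (B ⧸ m_A B) + dim A`: `B` is regular.
* `isRegularLocalRing_quotient_of_basis`: `R → T` of finite type, `Ω_{T/R}` free of rank the local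
  dimension of the fibre at `q`: `T_q ⧸ m_p T_q` is regular.
* `main_S11581`.
-/

set_option autoImplicit false
set_option maxHeartbeats 400000
set_option linter.style.haveILetI false
set_option linter.unusedSectionVars false
set_option linter.unusedVariables false

universe u

open TensorProduct IsLocalRing Algebra

namespace Groth.Agent.Lib.LeadRegBase

open Groth.Agent.Lib.LeadFlatSm

/-- EGA 0_IV 17.3.3 (one direction): regular base, regular fibre and the dimension formula give a
regular total space. -/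
theorem isRegularLocalRing_of_regular_fiber {A B : Type u} [CommRing A] [CommRing B]
    [IsRegularLocalRing A] [IsLocalRing B] [IsNoetherianRing B] (φ : A →+* B) [IsLocalHom φ]
    [hq : IsRegularLocalRing (B ⧸ (maximalIdeal A).map φ)]
    (hdim : ringKrullDim B = ringKrullDim (B ⧸ (maximalIdeal A).map φ) + ringKrullDim A) :
    IsRegularLocalRing B := by
  obtain ⟨rs, hlen, hrs, -⟩ := Groth.Agent.Lib.Helper5.exists_isRegular_ofList_eq_maximalIdeal A
  have hmem : ∀ i : Fin rs.length, φ (rs.get i) ∈ maximalIdeal B := by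
    intro i
    have h1 : rs.get i ∈ maximalIdeal A := by
      rw [← hrs]
      exact Ideal.subset_span (List.get_mem rs i)
    rw [mem_maximalIdeal, mem_nonunits_iff] at h1 ⊢
    exact fun h => h1 ((isUnit_map_iff φ _).mp h)
  let x : Fin rs.length → maximalIdeal B := fun i => ⟨φ (rs.get i), hmem i⟩
  have hJ : (maximalIdeal A).map φ = Ideal.span (Set.range fun i => (x i : B)) := by
    rw [← hrs, Ideal.map_span]
    congr 1
    ext b
    constructor
    · rintro ⟨a, ha, rfl⟩
      obtain ⟨i, rfl⟩ := List.mem_iff_get.mp ha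
      exact ⟨i, rfl⟩
    · rintro ⟨i, rfl⟩
      exact ⟨rs.get i, List.get_mem rs i, rfl⟩
  have hdim2 : ringKrullDim (B ⧸ (maximalIdeal A).map φ) + (rs.length : ℕ) = ringKrullDim B := by
    rw [hdim, hlen]
  exact (Groth.Agent.Lib.Helper5.isRegularLocalRing_of_quotient_span_range' x _ hJ hdim2).1

variable {R T : Type u} [CommRing R] [CommRing T] [Algebra R T]

attribute [local instance] Algebra.TensorProduct.rightAlgebra in
/-- if `Ω_{T/R}` is free of rank the local dimension of the fibre at `Q`, the local ring of the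
fibre at `Q` is regular. -/
theorem isRegularLocalRing_fiber_of_basis [Algebra.FiniteType R T] (p : Ideal R) [p.IsPrime]
    (Q : Ideal (p.Fiber T)) [Q.IsPrime] (n : ℕ) (b : Module.Basis (Fin n) T Ω[T⁄R])
    (hdim : FlatMor.localDim (PrimeSpectrum (p.Fiber T)) ⟨Q, inferInstance⟩ =
      (n : WithBot ℕ∞)) :
    IsRegularLocalRing (Localization.AtPrime Q) := by
  let e : p.Fiber T ⊗[T] Ω[T⁄R] ≃ₗ[p.Fiber T] Ω[p.Fiber T⁄p.ResidueField] :=
    KaehlerDifferential.tensorKaehlerEquiv R p.ResidueField T (p.Fiber T)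
  exact Groth.Agent.Lib.LeadNonsing.isRegularLocalRing_of_basis (Field.toIsField p.ResidueField) n
    ((b.baseChange (p.Fiber T)).map e) Q hdim

set_option backward.isDefEq.respectTransparency false in
/-- the local ring of the fibre at `Q` is `T_q ⧸ m_p T_q`. -/
theorem isRegularLocalRing_quotient_of_fiber (p : Ideal R) [p.IsPrime] (Q : Ideal (p.Fiber T))
    [Q.IsPrime] [IsRegularLocalRing (Localization.AtPrime Q)]
    (h : p = (Q.comap Algebra.TensorProduct.includeRight).comap (algebraMap R T)) :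
    IsRegularLocalRing (Localization.AtPrime (Q.comap Algebra.TensorProduct.includeRight) ⧸
      (maximalIdeal (Localization.AtPrime p)).map
        (Localization.localRingHom p (Q.comap Algebra.TensorProduct.includeRight)
          (algebraMap R T) h)) := by
  have hI : (p.map (algebraMap R T)).map (algebraMap T
      (Localization.AtPrime (Q.comap Algebra.TensorProduct.includeRight))) =
      (maximalIdeal (Localization.AtPrime p)).map
        (Localization.localRingHom p (Q.comap Algebra.TensorProduct.includeRight)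
          (algebraMap R T) h) := by
    rw [← Localization.AtPrime.map_eq_maximalIdeal, Ideal.map_map, Ideal.map_map]
    congr 1
    ext a
    simp only [RingHom.comp_apply]
    rw [Localization.localRingHom_to_map]
  exact IsRegularLocalRing.of_ringEquiv (R := Localization.AtPrime Q)
    ((Ideal.Fiber.algEquivAux₂ p Q).toRingEquiv.trans (Ideal.quotEquivOfEq hI))

open Groth.Agent.Lib.Helper4.FibDim in
/-- `R → T` of finite type, `Ω_{T/R}` free of rank the local dimension of the fibre at `q`:
`T_q ⧸ m_p T_q` is regular. -/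
theorem isRegularLocalRing_quotient_of_basis [Algebra.FiniteType R T] (p : Ideal R) [p.IsPrime]
    (q : Ideal T) [q.IsPrime] (hpq : p = q.comap (algebraMap R T)) (n : ℕ)
    (b : Module.Basis (Fin n) T Ω[T⁄R])
    (hfib : fibLD (PrimeSpectrum.comap (algebraMap R T)) ⟨q, inferInstance⟩ =
      (n : WithBot ℕ∞)) :
    IsRegularLocalRing (Localization.AtPrime q ⧸ (maximalIdeal (Localization.AtPrime p)).map
      (Localization.localRingHom p q (algebraMap R T) hpq)) := by
  obtain ⟨q', hq'⟩ : ∃ q' : PrimeSpectrum T, q' = ⟨q, inferInstance⟩ := ⟨_, rfl⟩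
  rw [← hq', fibLD_comap_eq] at hfib
  obtain ⟨p₀, hp⟩ : ∃ p₀ : PrimeSpectrum R, p₀ = PrimeSpectrum.comap (algebraMap R T) q' :=
    ⟨_, rfl⟩
  obtain ⟨Q, hQ⟩ : ∃ Q : PrimeSpectrum (p₀.asIdeal.Fiber T),
      Q = PrimeSpectrum.preimageHomeomorphFiber R T p₀ ⟨q', hp.symm⟩ := ⟨_, rfl⟩
  have hQq : PrimeSpectrum.comap Algebra.TensorProduct.includeRight.toRingHom Q = q' := by
    rw [hQ]
    exact comap_includeRight_preimageHomeomorphFiber p₀.asIdeal ⟨q', hp.symm⟩
  have hdim' : FlatMor.localDim (PrimeSpectrum (p₀.asIdeal.Fiber T)) Q = (n : WithBot ℕ∞) := by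
    subst hp
    rw [hQ]
    exact hfib
  have hI : Q.asIdeal.comap Algebra.TensorProduct.includeRight = q := by
    have h1 := congrArg PrimeSpectrum.asIdeal hQq
    rw [hq'] at h1
    exact h1
  have hp₀ : p₀.asIdeal = p := by
    rw [hp, hq', hpq]
    rfl
  haveI := isRegularLocalRing_fiber_of_basis p₀.asIdeal Q.asIdeal n b hdim'
  have key : ∀ (J : Ideal R) (I : Ideal T) (hJ : J = p) (hI : I = q) [J.IsPrime] [I.IsPrime]
      (h : J = I.comap (algebraMap R T)),
      IsRegularLocalRing (Localization.AtPrime I ⧸ (maximalIdeal (Localization.AtPrime J)).map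
        (Localization.localRingHom J I (algebraMap R T) h)) →
      IsRegularLocalRing (Localization.AtPrime q ⧸ (maximalIdeal (Localization.AtPrime p)).map
        (Localization.localRingHom p q (algebraMap R T) hpq)) := by
    rintro J I rfl rfl _ _ h g
    exact g
  exact key p₀.asIdeal _ hp₀ hI
    (hp₀.trans (hpq.trans (congrArg (Ideal.comap (algebraMap R T)) hI.symm)))
    (isRegularLocalRing_quotient_of_fiber p₀.asIdeal Q.asIdeal _)

open CategoryTheory in
/-- transport of regularity of `B ⧸ m_A B` along an isomorphism of arrows. -/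
theorem isRegularLocalRing_quotient_of_arrowIso {A B A' B' : Type u} [CommRing A] [CommRing B]
    [CommRing A'] [CommRing B'] [IsLocalRing A] [IsLocalRing A'] (φ : A →+* B) (φ' : A' →+* B')
    (e : Arrow.mk (CommRingCat.ofHom φ) ≅ Arrow.mk (CommRingCat.ofHom φ'))
    (h : IsRegularLocalRing (B' ⧸ (maximalIdeal A').map φ')) :
    IsRegularLocalRing (B ⧸ (maximalIdeal A).map φ) := by
  let α : A ≃+* A' := (Arrow.leftFunc.mapIso e).commRingCatIsoToRingEquiv
  let β : B ≃+* B' := (Arrow.rightFunc.mapIso e).commRingCatIsoToRingEquiv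
  have hcomm : ∀ a, φ' (α a) = β (φ a) := by
    intro a
    exact congrArg (fun ψ => ψ.hom a) (Arrow.w e.hom)
  have h1 : (maximalIdeal A).map α.toRingHom = maximalIdeal A' :=
    IsLocalRing.map_maximalIdeal_of_surjective α.toRingHom α.surjective
  have hIJ : (maximalIdeal A').map φ' = ((maximalIdeal A).map φ).map (β : B →+* B') := by
    rw [← h1, Ideal.map_map, Ideal.map_map]
    congr 1
    ext a
    exact hcomm a
  exact IsRegularLocalRing.of_ringEquiv (Ideal.quotientEquiv _ _ β hIJ).symm

section scheme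

open CategoryTheory CategoryTheory.Limits AlgebraicGeometry TopologicalSpace Opposite
open Groth.Agent.Helper18OmLS Groth.Agent.Lib.Helper2.LocFree Groth.Agent.Lib.Helper20.PullbackAff
  Groth.Agent.Lib.Helper20.Thickening Groth.Agent.Lib.Helper20.LocFree
open Groth.Agent.Lib.Helper4.FibDim

variable {X S : Scheme.{u}}

theorem isRegularLocalRing_stalk_quotient (f : X ⟶ S) [LocallyOfFinitePresentation f]
    (Ω' : X.Modules) (d : OmegaSh.Der f Ω') (hd : OmegaSh.IsUniversal d) (x : X) (U₀ : X.Opens)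
    (n : ℕ) (hxU₀ : x ∈ U₀) (e₀ : Ω'.restrict U₀.ι ≅ FlatMod.freeMod (↑U₀) n)
    (hfd : FlatMor.fibreDimAt f x = (n : WithBot ℕ∞)) :
    IsRegularLocalRing (X.presheaf.stalk x ⧸
      (maximalIdeal (S.presheaf.stalk (f x))).map (f.stalkMap x).hom) := by
  haveI := isQuasicoherent_of_isUniversal f d hd
  obtain ⟨U, hU, hfxU, -⟩ := exists_isAffineOpen_mem_and_subset (x := f x) (U := ⊤) trivial
  obtain ⟨V, hV, hxV, hVle⟩ := exists_isAffineOpen_mem_and_subset (x := x)
    (U := f ⁻¹ᵁ U ⊓ U₀) ⟨hfxU, hxU₀⟩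
  have hVU : V ≤ f ⁻¹ᵁ U := hVle.trans inf_le_left
  have hVU₀ : V ≤ U₀ := hVle.trans inf_le_right
  letI := (f.appLE U V hVU).hom.toAlgebra
  haveI : Algebra.FinitePresentation Γ(S, U) Γ(X, V) := f.finitePresentation_appLE hU hV hVU
  haveI : Algebra.FiniteType Γ(S, U) Γ(X, V) := inferInstance
  obtain ⟨b⟩ := Groth.Agent.Lib.Helper26.ModRank.nonempty_basis_of_restrict_iso Ω' e₀ hV hVU₀
  have hz : hV.fromSpec (hV.primeIdealOf ⟨x, hxV⟩) = x := hV.fromSpec_primeIdealOf ⟨x, hxV⟩
  have h1 : fibLD f x = fibLD (Spec.map (f.appLE U V hVU)) (hV.primeIdealOf ⟨x, hxV⟩) := by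
    have h := fibLD_fromSpec f hV hU hVU (hV.primeIdealOf ⟨x, hxV⟩)
    rwa [hz] at h
  have hfib : fibLD (PrimeSpectrum.comap (algebraMap Γ(S, U) Γ(X, V)))
      ⟨(hV.primeIdealOf ⟨x, hxV⟩).asIdeal, inferInstance⟩ = (n : WithBot ℕ∞) :=
    h1.symm.trans ((fibreDimAt_eq_fibLD f x).symm.trans hfd)
  have hR3 := isRegularLocalRing_quotient_of_basis
    (hU.primeIdealOf ⟨f x, hVU hxV⟩).asIdeal (hV.primeIdealOf ⟨x, hxV⟩).asIdeal
    (congr($(IsAffineOpen.comap_primeIdealOf_appLE U hU V hV hVU hxV).1).symm) n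
    (b.map (ΓUFIso f d hd hV hU hVU rfl).toLinearEquiv) hfib
  exact isRegularLocalRing_quotient_of_arrowIso (A := S.presheaf.stalk (f x))
    (B := X.presheaf.stalk x) (f.stalkMap x).hom _
    (IsAffineOpen.arrowStalkMapIso f U hU V hV hVU hxV) hR3

theorem main_S11581 (f : X ⟶ S) [IsLocallyNoetherian S] (x : X)
    (hreg : IsRegularLocalRing (S.presheaf.stalk (f x)))
    [LocallyOfFiniteType f] [LocallyOfFinitePresentation f]
    (Ω' : X.Modules) (d : OmegaSh.Der f Ω') (hd : OmegaSh.IsUniversal d)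
    (hdim : ringKrullDim (X.presheaf.stalk x) =
      ringKrullDim ((f.fiber (f x)).presheaf.stalk (f.asFiber x)) +
        ringKrullDim (S.presheaf.stalk (f x))) :
    x ∈ f.smoothLocus ↔
      ∃ (U : X.Opens) (n : ℕ), x ∈ U ∧ Nonempty (Ω'.restrict U.ι ≅ FlatMod.freeMod (↑U) n) ∧
        FlatMor.fibreDimAt f x = (n : WithBot ℕ∞) := by
  rw [main_S5022 f Ω' d hd x]
  constructor
  · exact fun h => h.2
  · rintro ⟨U₀, n, hxU₀, ⟨e₀⟩, hfd⟩
    refine ⟨?_, U₀, n, hxU₀, ⟨e₀⟩, hfd⟩
    haveI : IsLocallyNoetherian X := LocallyOfFiniteType.isLocallyNoetherian f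
    haveI := hreg
    haveI hq := isRegularLocalRing_stalk_quotient f Ω' d hd x U₀ n hxU₀ e₀ hfd
    obtain ⟨e⟩ := Groth.Agent.Lib.Helper5.FiberStalk.nonempty_stalk_asFiber_equiv f x
    have hdim' : ringKrullDim (X.presheaf.stalk x) =
        ringKrullDim (X.presheaf.stalk x ⧸
          (maximalIdeal (S.presheaf.stalk (f x))).map (f.stalkMap x).hom) +
          ringKrullDim (S.presheaf.stalk (f x)) := by
      rw [hdim, ringKrullDim_eq_of_ringEquiv e]
    haveI hX : IsRegularLocalRing (X.presheaf.stalk x) :=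
      isRegularLocalRing_of_regular_fiber (f.stalkMap x).hom hdim'
    have hCM := Groth.Agent.Lib.Helper5.isCohenMacaulayLocalRing_of_isRegularLocalRing
      (X.presheaf.stalk x)
    exact ((Groth.Agent.Lib.Helper5.TfaeCMReg.tfae f x hreg hCM).out 4 1).mp
      (by rw [hdim, add_comm])

end scheme

end Groth.Agent.Lib.LeadRegBase
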