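import Mathlib
import Groth.Prelude
import Groth.Agent.Lib.Helper28DepthFlat
import Groth.Agent.Lib.Helper5LocalFlat2
import Groth.Agent.Lib.Helper5FlatReg
import Groth.Agent.Lib.T2H9CILocus

/-!
# Transversally regular sequences and the closed fibre (helper9)

`A → C` a flat local homomorphism of Noetherian local rings.

* `isWeaklyRegular_and_flat_of_fibre`: a sequence which is weakly regular on `M / m_A M`
  (`M` a finite `C`-module, flat over `A`) is weakly regular on `M` with `A`-flat partial quotients.
* `isWeaklyRegular_fibre_of_flat`: conversely, an `M`-regular sequence with flat partial quotients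
  stays regular on `M / m_A M` (no finiteness needed).
-/

set_option autoImplicit false
set_option linter.unusedSectionVars false
set_option linter.style.haveILetI false
universe u

namespace Groth.Agent.Lib.T2H9.TransReg

open IsLocalRing RingTheory.Sequence Groth.Agent.Lib.Helper5 Groth.Agent.Lib.Helper28
open scoped Pointwise TensorProduct

section Fibre

variable {A : Type u} {C : Type u} [CommRing A] [CommRing C] [Algebra A C]

/-- if `g` is `M`-regular and `M / g M` is `A`-flat, then `g` is regular on `M / I M`. -/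
theorem isSMulRegular_quotient_of_flat (I : Ideal A) (M : Type u) [AddCommGroup M] [Module C M]
    [Module A M] [IsScalarTower A C M] (g : C) (hg : IsSMulRegular M g)
    (hflat : Module.Flat A (QuotSMulTop g M)) :
    IsSMulRegular (M ⧸ (I.map (algebraMap A C) • ⊤ : Submodule C M)) g := by
  have hinj : Function.Injective ((ymap A M g).lTensor (A ⧸ I)) :=
    LinearMap.lTensor_injective_of_exact_of_flat (quotSMulTopMkR (R := A) (N := M) g)
      (quotSMulTopMkR_surjective g) (ymap A M g) hg (exact_ymap_quotSMulTopMkR g) (A ⧸ I)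
  rw [lTensor_quotient_injective_iff] at hinj
  rw [isSMulRegular_iff_right_eq_zero_of_smul]
  intro x hx
  obtain ⟨n, rfl⟩ := Submodule.Quotient.mk_surjective _ x
  rw [← Submodule.Quotient.mk_smul, Submodule.Quotient.mk_eq_zero, mem_map_smul_top_iff] at hx
  rw [Submodule.Quotient.mk_eq_zero, mem_map_smul_top_iff]
  exact hinj n hx

/-- an `M`-regular sequence with `A`-flat partial quotients stays regular on `M / I M`. -/
theorem isWeaklyRegular_fibre_of_flat (I : Ideal A) (rs : List C) :
    ∀ (M : Type u) [AddCommGroup M] [Module C M] [Module A M] [IsScalarTower A C M],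
      IsWeaklyRegular M rs →
      (∀ j ≤ rs.length,
        Module.Flat A (M ⧸ (Ideal.ofList (rs.take j) • ⊤ : Submodule C M))) →
      IsWeaklyRegular (M ⧸ (I.map (algebraMap A C) • ⊤ : Submodule C M)) rs := by
  induction rs with
  | nil =>
    intro M _ _ _ _ _ _
    exact IsWeaklyRegular.nil _ _
  | cons g rs' ih =>
    intro M _ _ _ _ hreg hflat
    obtain ⟨hg, hrs'⟩ := (isWeaklyRegular_cons_iff M g rs').mp hreg
    have hflat' : ∀ j ≤ rs'.length, Module.Flat A (QuotSMulTop g M ⧸
        (Ideal.ofList (rs'.take j) • ⊤ : Submodule C (QuotSMulTop g M))) := by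
      intro j hj
      have h1 := hflat (j + 1) (by simpa using hj)
      rw [List.take_succ_cons] at h1
      exact flat_of_linearEquiv_tower
        (Submodule.quotOfListConsSMulTopEquivQuotSMulTopInner M g (rs'.take j)) h1
    have hM' : Module.Flat A (QuotSMulTop g M) := by
      have h0 := hflat' 0 (Nat.zero_le _)
      rw [List.take_zero] at h0
      exact flat_of_linearEquiv_tower (Submodule.quotEquivOfEqBot _
        (by rw [Ideal.ofList_nil, Submodule.bot_smul])) h0
    rw [isWeaklyRegular_cons_iff]
    refine ⟨isSMulRegular_quotient_of_flat I M g hg hM', ?_⟩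
    have ih' := ih (QuotSMulTop g M) hrs' hflat'
    exact ((quotSMulTopQuotEquiv g (I.map (algebraMap A C))).isWeaklyRegular_congr rs').mp ih'

end Fibre

section Local

variable {A : Type u} {C : Type u} [CommRing A] [CommRing C] [IsLocalRing A] [IsLocalRing C]
  [IsNoetherianRing A] [IsNoetherianRing C] [Algebra A C] [IsLocalHom (algebraMap A C)]

/-- a sequence which is weakly regular on `M / m_A M` is weakly regular on `M` with `A`-flat
partial quotients (`M` a finite `C`-module, flat over `A`). -/
theorem isWeaklyRegular_and_flat_of_fibre (rs : List C) :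
    ∀ (M : Type u) [AddCommGroup M] [Module C M] [Module A M] [IsScalarTower A C M]
      [Module.Finite C M] [Module.Flat A M],
      IsWeaklyRegular (M ⧸ ((maximalIdeal A).map (algebraMap A C) • ⊤ : Submodule C M)) rs →
      IsWeaklyRegular M rs ∧ ∀ j ≤ rs.length,
        Module.Flat A (M ⧸ (Ideal.ofList (rs.take j) • ⊤ : Submodule C M)) := by
  induction rs with
  | nil =>
    intro M _ _ _ _ _ hM _
    refine ⟨IsWeaklyRegular.nil _ _, ?_⟩
    intro j _
    rw [List.take_nil]
    exact flat_of_linearEquiv_tower (Submodule.quotEquivOfEqBot _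
        (by rw [Ideal.ofList_nil, Submodule.bot_smul])).symm hM
  | cons g rs' ih =>
    intro M _ _ _ _ _ hM hreg
    obtain ⟨hg, hrs'⟩ := (isWeaklyRegular_cons_iff _ g rs').mp hreg
    have hgM : IsSMulRegular M g := by
      have h1 := isSMulRegular_tensor_of_isSMulRegular_quotient (R := A) (S := C) (N := M) g hg A
      exact ((TensorProduct.AlgebraTensorModule.rid A C M).isSMulRegular_congr g).mp h1
    haveI hM' : Module.Flat A (QuotSMulTop g M) :=
      flat_quotSMulTop_of_isSMulRegular_quotient (R := A) (S := C) (N := M) g hg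
    have hrs'' : IsWeaklyRegular (QuotSMulTop g M ⧸
        ((maximalIdeal A).map (algebraMap A C) • ⊤ : Submodule C (QuotSMulTop g M))) rs' :=
      ((quotSMulTopQuotEquiv g ((maximalIdeal A).map (algebraMap A C))).isWeaklyRegular_congr
        rs').mpr hrs'
    obtain ⟨ih1, ih2⟩ := ih (QuotSMulTop g M) hrs''
    refine ⟨(isWeaklyRegular_cons_iff M g rs').mpr ⟨hgM, ih1⟩, ?_⟩
    intro j hj
    rcases j with _ | j
    · rw [List.take_zero]
      exact flat_of_linearEquiv_tower (Submodule.quotEquivOfEqBot _
        (by rw [Ideal.ofList_nil, Submodule.bot_smul])).symm hM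
    · rw [List.take_succ_cons]
      exact flat_of_linearEquiv_tower
        (Submodule.quotOfListConsSMulTopEquivQuotSMulTopInner M g (rs'.take j)).symm
        (ih2 j (by simpa using hj))

end Local

section Ring

variable {A : Type u} {C : Type u} [CommRing A] [CommRing C] [IsLocalRing A] [Algebra A C]

/-- `C / (I • ⊤) ≃ C / I`. -/
noncomputable def quotSMulTopEquiv (I : Ideal C) : (C ⧸ (I • ⊤ : Submodule C C)) ≃ₗ[C] (C ⧸ I) :=
  Submodule.quotEquivOfEq _ _ (by simp)

theorem isWeaklyRegular_fibRing_iff (rs : List C) :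
    IsWeaklyRegular (EGA4.FibRing A C) (rs.map (Ideal.Quotient.mk (EGA4.mB A C))) ↔
      IsWeaklyRegular (C ⧸ ((maximalIdeal A).map (algebraMap A C) • ⊤ : Submodule C C)) rs := by
  rw [((quotSMulTopEquiv ((maximalIdeal A).map (algebraMap A C))).isWeaklyRegular_congr rs)]
  exact isWeaklyRegular_map_algebraMap_iff (EGA4.FibRing A C) (EGA4.FibRing A C) rs

theorem isTransRegularSeq_iff (rs : List C) :
    RegImm.IsTransRegularSeq A C rs ↔ (IsWeaklyRegular C rs ∧ ∀ j ≤ rs.length,
        Module.Flat A (C ⧸ (Ideal.ofList (rs.take j) • ⊤ : Submodule C C))) := by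
  unfold RegImm.IsTransRegularSeq
  refine and_congr Iff.rfl (forall_congr' fun j => imp_congr Iff.rfl ?_)
  exact Module.Flat.equiv_iff ((quotSMulTopEquiv (Ideal.ofList (rs.take j))).restrictScalars A).symm

/-- a transversally regular sequence stays regular in the closed fibre -/
theorem isWeaklyRegular_fibRing_of_isTransRegularSeq (rs : List C)
    (h : RegImm.IsTransRegularSeq A C rs) :
    IsWeaklyRegular (EGA4.FibRing A C) (rs.map (Ideal.Quotient.mk (EGA4.mB A C))) := by
  rw [isWeaklyRegular_fibRing_iff]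
  rw [isTransRegularSeq_iff] at h
  exact isWeaklyRegular_fibre_of_flat (maximalIdeal A) rs C h.1 h.2

/-- a sequence which is regular in the closed fibre of a flat local homomorphism of Noetherian
local rings is transversally regular -/
theorem isTransRegularSeq_of_fibRing [IsLocalRing C] [IsNoetherianRing A] [IsNoetherianRing C]
    [IsLocalHom (algebraMap A C)] [Module.Flat A C] (rs : List C)
    (h : IsWeaklyRegular (EGA4.FibRing A C) (rs.map (Ideal.Quotient.mk (EGA4.mB A C)))) :
    RegImm.IsTransRegularSeq A C rs := by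
  rw [isWeaklyRegular_fibRing_iff] at h
  rw [isTransRegularSeq_iff]
  exact isWeaklyRegular_and_flat_of_fibre rs C h

end Ring

section Main

variable {A : Type u} {C : Type u} {B : Type u} [CommRing A] [CommRing C] [CommRing B]
  [IsLocalRing A] [Algebra A C] [Algebra C B] [Algebra A B] [IsScalarTower A C B]

theorem mB_map_eq : (EGA4.mB A C).map (algebraMap C B) = EGA4.mB A B := by
  unfold EGA4.mB
  rw [Ideal.map_map, ← IsScalarTower.algebraMap_eq]

/-- the map on closed fibres -/
noncomputable def fibMap : EGA4.FibRing A C →+* EGA4.FibRing A B :=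
  Ideal.quotientMap (EGA4.mB A B) (algebraMap C B) (by
    rw [← Ideal.map_le_iff_le_comap, mB_map_eq])

theorem fibMap_mk (c : C) :
    fibMap (A := A) (B := B) (Ideal.Quotient.mk (EGA4.mB A C) c) =
      Ideal.Quotient.mk (EGA4.mB A B) (algebraMap C B c) := by
  unfold fibMap
  rw [Ideal.quotientMap_mk]

theorem fibMap_surjective (hsurj : Function.Surjective (algebraMap C B)) :
    Function.Surjective (fibMap (A := A) (C := C) (B := B)) :=
  Ideal.quotientMap_surjective hsurj

theorem ker_fibMap (hsurj : Function.Surjective (algebraMap C B)) :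
    RingHom.ker (fibMap (A := A) (C := C) (B := B)) =
      (RingHom.ker (algebraMap C B)).map (Ideal.Quotient.mk (EGA4.mB A C)) := by
  apply le_antisymm
  · intro x hx
    obtain ⟨c, rfl⟩ := Ideal.Quotient.mk_surjective x
    rw [RingHom.mem_ker, fibMap_mk, Ideal.Quotient.eq_zero_iff_mem, ← mB_map_eq (C := C),
      Ideal.mem_map_iff_of_surjective _ hsurj] at hx
    obtain ⟨c', hc', hcc'⟩ := hx
    have h1 : c - c' ∈ RingHom.ker (algebraMap C B) := by
      rw [RingHom.mem_ker, map_sub, hcc', sub_self]
    have h2 : Ideal.Quotient.mk (EGA4.mB A C) c = Ideal.Quotient.mk (EGA4.mB A C) (c - c') := by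
      rw [map_sub, Ideal.Quotient.eq_zero_iff_mem.mpr hc', sub_zero]
    rw [h2]
    exact Ideal.mem_map_of_mem _ h1
  · rw [Ideal.map_le_iff_le_comap]
    intro c hc
    rw [Ideal.mem_comap, RingHom.mem_ker, fibMap_mk, RingHom.mem_ker.mp hc, map_zero]

/-- the closed fibre of a quotient -/
noncomputable def fibQuotEquiv (hsurj : Function.Surjective (algebraMap C B)) :
    (EGA4.FibRing A C ⧸ (RingHom.ker (algebraMap C B)).map (Ideal.Quotient.mk (EGA4.mB A C)))
      ≃+* EGA4.FibRing A B :=
  (Ideal.quotEquivOfEq (ker_fibMap hsurj).symm).trans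
    (RingHom.quotientKerEquivOfSurjective (fibMap_surjective hsurj))

theorem exists_list_lift {R S : Type*} [CommRing R] [CommRing S] (f : R →+* S) (J : Ideal R)
    (gs : List S) (h : ∀ g ∈ gs, ∃ r ∈ J, f r = g) :
    ∃ rs : List R, rs.map f = gs ∧ ∀ r ∈ rs, r ∈ J := by
  induction gs with
  | nil => exact ⟨[], rfl, by simp⟩
  | cons g gs ih =>
    obtain ⟨rs, hrs, hmem⟩ := ih (fun g' hg' => h g' (List.mem_cons_of_mem _ hg'))
    obtain ⟨r, hr, hrg⟩ := h g List.mem_cons_self
    refine ⟨r :: rs, by rw [List.map_cons, hrg, hrs], ?_⟩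
    intro r' hr'
    rcases List.mem_cons.mp hr' with rfl | h'
    · exact hr
    · exact hmem r' h'

theorem ofList_le_of_mem {R : Type*} [CommRing R] (J : Ideal R) (rs : List R)
    (h : ∀ r ∈ rs, r ∈ J) : Ideal.ofList rs ≤ J := by
  unfold Ideal.ofList
  rw [Ideal.span_le]
  intro r hr
  exact h r hr

/-- forward direction of S5068 -/
theorem forward [IsLocalRing C] [IsNoetherianRing C] [IsLocalHom (algebraMap A C)]
    (hreg : IsRegularLocalRing (EGA4.FibRing A C)) [IsLocalRing B] [IsLocalHom (algebraMap A B)]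
    (hsurj : Function.Surjective (algebraMap C B)) (rs : List C)
    (hrs : Ideal.ofList rs = RingHom.ker (algebraMap C B))
    (htr : RegImm.IsTransRegularSeq A C rs) :
    Module.Flat A B ∧ Pi1.IsCompleteIntersection (EGA4.FibRing A B) := by
  haveI := hreg
  constructor
  · have h1 := htr.2 rs.length le_rfl
    rw [List.take_length, hrs] at h1
    have hs : Function.Surjective (IsScalarTower.toAlgHom A C B) := hsurj
    exact (Module.Flat.equiv_iff (Ideal.quotientKerAlgEquivOfSurjective hs).toLinearEquiv).mp h1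
  · have hw := isWeaklyRegular_fibRing_of_isTransRegularSeq rs htr
    have hJle : RingHom.ker (algebraMap C B) ≤ maximalIdeal C :=
      IsLocalRing.le_maximalIdeal (RingHom.ker_ne_top _)
    haveI : IsLocalHom (Ideal.Quotient.mk (EGA4.mB A C)) :=
      IsLocalHom.of_surjective _ Ideal.Quotient.mk_surjective
    have hmem : ∀ g ∈ rs.map (Ideal.Quotient.mk (EGA4.mB A C)),
        g ∈ maximalIdeal (EGA4.FibRing A C) := by
      intro g hg
      obtain ⟨r, hr, rfl⟩ := List.mem_map.mp hg
      have hrJ : r ∈ maximalIdeal C := hJle (hrs ▸ Ideal.subset_span hr)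
      rw [IsLocalRing.mem_maximalIdeal, mem_nonunits_iff] at hrJ ⊢
      intro hu
      exact hrJ (isUnit_of_map_unit _ _ hu)
    have hregs : IsRegular (EGA4.FibRing A C) (rs.map (Ideal.Quotient.mk (EGA4.mB A C))) :=
      (IsLocalRing.isRegular_iff_isWeaklyRegular_of_subset_maximalIdeal hmem).mpr hw
    have heq : Ideal.ofList (rs.map (Ideal.Quotient.mk (EGA4.mB A C))) =
        (RingHom.ker (algebraMap C B)).map (Ideal.Quotient.mk (EGA4.mB A C)) := by
      rw [← Ideal.map_ofList, hrs]
    let e := (Ideal.quotEquivOfEq heq).trans (fibQuotEquiv (A := A) hsurj)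
    haveI : IsLocalRing (EGA4.FibRing A C ⧸
        Ideal.ofList (rs.map (Ideal.Quotient.mk (EGA4.mB A C)))) := e.symm.isLocalRing
    exact Groth.Agent.Lib.T2H9.CILocus.isCI_of_ringEquiv e
      (Groth.Agent.S2165.isCompleteIntersection_quotient_ofList _ hregs)

/-- flatness of `B = C / J` gives `J ∩ m_A C ⊆ m_A J`. -/
theorem inf_mB_le_of_flat [Module.Flat A B] (hsurj : Function.Surjective (algebraMap C B)) :
    RingHom.ker (algebraMap C B) ⊓ EGA4.mB A C ≤
      EGA4.mB A C • RingHom.ker (algebraMap C B) := by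
  set J : Ideal C := RingHom.ker (algebraMap C B) with hJ
  let f : C →ₗ[A] B := (IsScalarTower.toAlgHom A C B).toLinearMap
  have hf : Function.Surjective f := hsurj
  let g : (J.restrictScalars A) →ₗ[A] C := (J.restrictScalars A).subtype
  have hg : Function.Injective g := Submodule.injective_subtype _
  have hex : Function.Exact g f := by
    intro c
    change algebraMap C B c = 0 ↔ _
    constructor
    · intro hc
      exact ⟨⟨c, hc⟩, rfl⟩
    · rintro ⟨⟨c', hc'⟩, rfl⟩
      exact hc'
  have hinj := LinearMap.lTensor_injective_of_exact_of_flat f hf g hg hex (A ⧸ maximalIdeal A)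
  rw [lTensor_quotient_injective_iff] at hinj
  intro x hx
  obtain ⟨hxJ, hxm⟩ := hx
  have h1 : x ∈ (maximalIdeal A • ⊤ : Submodule A C) := by
    rw [← mem_map_smul_top_iff (S := C)]
    simpa using hxm
  have h2 := hinj ⟨x, hxJ⟩ h1
  have h3 : x ∈ (maximalIdeal A • ⊤ : Submodule A (J.restrictScalars A)).map g :=
    ⟨⟨x, hxJ⟩, h2, rfl⟩
  rw [Submodule.map_smul'', Submodule.map_top, Submodule.range_subtype,
    ← Ideal.smul_restrictScalars] at h3
  exact h3

/-- backward direction of S5068 -/
theorem backward [IsLocalRing C] [IsNoetherianRing A] [IsNoetherianRing C]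
    [IsLocalHom (algebraMap A C)] [Module.Flat A C]
    (hreg : IsRegularLocalRing (EGA4.FibRing A C)) [IsLocalRing B] [IsLocalHom (algebraMap A B)]
    (hsurj : Function.Surjective (algebraMap C B)) (hflat : Module.Flat A B)
    (hCI : Pi1.IsCompleteIntersection (EGA4.FibRing A B)) :
    ∃ rs : List C, Ideal.ofList rs = RingHom.ker (algebraMap C B) ∧
      RegImm.IsTransRegularSeq A C rs := by
  haveI := hreg
  haveI : IsNoetherianRing B := isNoetherianRing_of_surjective C B (algebraMap C B) hsurj
  set J : Ideal C := RingHom.ker (algebraMap C B) with hJ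
  let e := fibQuotEquiv (A := A) hsurj
  haveI : IsLocalRing (EGA4.FibRing A C ⧸ J.map (Ideal.Quotient.mk (EGA4.mB A C))) :=
    e.symm.isLocalRing
  have hCI' : Pi1.IsCompleteIntersection
      (EGA4.FibRing A C ⧸ J.map (Ideal.Quotient.mk (EGA4.mB A C))) :=
    Groth.Agent.Lib.T2H9.CILocus.isCI_of_ringEquiv e.symm hCI
  have hne : J.map (Ideal.Quotient.mk (EGA4.mB A C)) ≠ ⊤ :=
    Ideal.Quotient.nontrivial_iff.mp inferInstance
  obtain ⟨gs, hgs, hgreg⟩ :=
    Groth.Agent.Lib.T2H9.GeomDepthCI.exists_isRegular_of_isCompleteIntersection_quotient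
      (J.map (Ideal.Quotient.mk (EGA4.mB A C))) hne hCI'
  obtain ⟨rs, hrsmap, hrsJ⟩ := exists_list_lift (Ideal.Quotient.mk (EGA4.mB A C)) J gs (by
    intro g hg
    have hgJ : g ∈ J.map (Ideal.Quotient.mk (EGA4.mB A C)) := hgs ▸ Ideal.subset_span hg
    exact (Ideal.mem_map_iff_of_surjective _ Ideal.Quotient.mk_surjective).mp hgJ)
  have hle : Ideal.ofList rs ≤ J := ofList_le_of_mem J rs hrsJ
  have hmap : (Ideal.ofList rs).map (Ideal.Quotient.mk (EGA4.mB A C)) =
      J.map (Ideal.Quotient.mk (EGA4.mB A C)) := by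
    rw [Ideal.map_ofList, hrsmap, hgs]
  have hmJ : EGA4.mB A C ≤ Ideal.jacobson ⊥ := by
    rw [IsLocalRing.jacobson_eq_maximalIdeal ⊥ bot_ne_top]
    exact IsLocalRing.map_maximalIdeal_le (algebraMap A C)
  have hJle : J ≤ Ideal.ofList rs := by
    apply Submodule.le_of_le_smul_of_le_jacobson_bot (IsNoetherian.noetherian J) hmJ
    intro x hx
    have hx' : Ideal.Quotient.mk (EGA4.mB A C) x ∈
        (Ideal.ofList rs).map (Ideal.Quotient.mk (EGA4.mB A C)) := by
      rw [hmap]
      exact Ideal.mem_map_of_mem _ hx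
    obtain ⟨y, hy, hyx⟩ := (Ideal.mem_map_iff_of_surjective _ Ideal.Quotient.mk_surjective).mp hx'
    have hxy : x - y ∈ J ⊓ EGA4.mB A C := by
      refine ⟨J.sub_mem hx (hle hy), ?_⟩
      change x - y ∈ EGA4.mB A C
      rw [← Ideal.Quotient.eq_zero_iff_mem, map_sub, hyx, sub_self]
    have h4 := inf_mB_le_of_flat (A := A) hsurj hxy
    have : x = y + (x - y) := by ring
    rw [this]
    exact Submodule.add_mem_sup hy h4
  refine ⟨rs, le_antisymm hle hJle, ?_⟩
  apply isTransRegularSeq_of_fibRing
  rw [hrsmap]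
  exact hgreg.toIsWeaklyRegular

end Main

end Groth.Agent.Lib.T2H9.TransReg
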