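import Mathlib
import Groth.Prelude
import Groth.Agent.Lib.T2H9TransReg
import Groth.Agent.Lib.Helper5RegImmAlg
import Groth.Agent.Lib.Helper6FSReg
import Groth.Agent.Lib.T2H9CILocus
import Groth.Agent.Lib.Helper5FlatReg
import Groth.Agent.Lib.LeadEtChart2

/-!
# Smoothness of the ambient scheme along a smooth closed subscheme ⟺ regular immersion (lead)

SGA 1 II 4.10 / EGA IV 17.12.1: `Y ⊆ X` closed, `Y` smooth over `S` at `x`; then `X` is smooth over
`S` at `x` iff the ideal of `Y` in `O_{X,x}` is generated by a regular sequence.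

* `injective_baseChange_inclusion`, `formallySmooth_of_isRegularLocalRing_of_quotient`: field case
  via the Jacobian criterion.
* `formallySmooth_of_isRegular_ker`, `isRegularIdeal_ker_of_formallySmooth`: local form.
* `isSmoothAt_iff_isRegularIdeal`: ring form.
* `mem_smoothLocus_iff_isRegularIdeal`: scheme form (S3700).
-/

set_option autoImplicit false
set_option maxHeartbeats 400000
set_option linter.style.haveILetI false
set_option linter.unusedSectionVars false
set_option linter.unusedVariables false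

universe u

open IsLocalRing TensorProduct RingTheory.Sequence

namespace Groth.Agent.Lib.LeadRegSm

section FieldCase

/-- If `I` is generated by elements of `𝔪` whose classes in `𝔪/𝔪²` are linearly independent, then
`K ⊗ I → K ⊗ J` is injective for every `I ≤ J ≤ 𝔪`. -/
theorem injective_baseChange_inclusion {P : Type u} [CommRing P] [IsLocalRing P]
    (K : Type u) [Field K] [Algebra P K] [Algebra (ResidueField P) K]
    [IsScalarTower P (ResidueField P) K] {r : ℕ} (x : Fin r → maximalIdeal P)
    (hli : LinearIndependent (ResidueField P) (fun i => (maximalIdeal P).toCotangent (x i)))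
    (I J : Ideal P) (hI : I = Ideal.span (Set.range fun i => (x i : P))) (hIJ : I ≤ J)
    (hJ : J ≤ maximalIdeal P) :
    Function.Injective ((Submodule.inclusion hIJ).baseChange K) := by
  classical
  have hxI : ∀ i, (x i : P) ∈ I := fun i => hI ▸ Ideal.subset_span ⟨i, rfl⟩
  let xI : Fin r → I := fun i => ⟨x i, hxI i⟩
  have hs : ∀ ξ : K ⊗[P] I, ∃ a : Fin r → K, ξ = ∑ i, a i • ((1 : K) ⊗ₜ[P] xI i) := by
    intro ξ
    induction ξ using TensorProduct.induction_on with
    | zero => exact ⟨0, by simp⟩
    | tmul a j =>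
      have hj : (j : P) ∈ Ideal.span (Set.range fun i => (x i : P)) := hI ▸ j.2
      obtain ⟨c, hc⟩ := Ideal.mem_span_range_iff_exists_fun.mp hj
      have hj' : j = ∑ i, c i • xI i := by
        apply Subtype.ext
        rw [← hc, Submodule.coe_sum]
        rfl
      refine ⟨fun i => a * algebraMap P K (c i), ?_⟩
      rw [hj', TensorProduct.tmul_sum]
      refine Finset.sum_congr rfl fun i _ => ?_
      rw [TensorProduct.smul_tmul', smul_eq_mul, mul_one, TensorProduct.tmul_smul,
        TensorProduct.smul_tmul', Algebra.smul_def, mul_comm]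
    | add ξ η hξ hη =>
      obtain ⟨a, rfl⟩ := hξ
      obtain ⟨b, rfl⟩ := hη
      refine ⟨a + b, ?_⟩
      rw [← Finset.sum_add_distrib]
      refine Finset.sum_congr rfl fun i _ => ?_
      rw [Pi.add_apply, add_smul]
  let ℓ : J →ₗ[P] K ⊗[ResidueField P] CotangentSpace P :=
    { toFun := fun j => (1 : K) ⊗ₜ[ResidueField P] (maximalIdeal P).toCotangent ⟨j, hJ j.2⟩
      map_add' := fun j j' => by
        rw [← TensorProduct.tmul_add, ← map_add]
        rfl
      map_smul' := fun p j => by
        have h1 : (maximalIdeal P).toCotangent ⟨((p • j : J) : P), hJ (p • j).2⟩ =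
            (algebraMap P (ResidueField P) p) • (maximalIdeal P).toCotangent ⟨j, hJ j.2⟩ := by
          rw [algebraMap_smul, ← map_smul]
          rfl
        have h2 : (algebraMap P (ResidueField P) p) • (1 : K) = p • (1 : K) := by
          rw [Algebra.smul_def, Algebra.smul_def, ← IsScalarTower.algebraMap_apply]
        show (1 : K) ⊗ₜ[ResidueField P]
            (maximalIdeal P).toCotangent ⟨((p • j : J) : P), hJ (p • j).2⟩ =
          p • ((1 : K) ⊗ₜ[ResidueField P] (maximalIdeal P).toCotangent ⟨(j : P), hJ j.2⟩)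
        rw [h1, TensorProduct.tmul_smul, TensorProduct.smul_tmul', h2, ← TensorProduct.smul_tmul'] }
  let θ : K ⊗[P] J →ₗ[K] K ⊗[ResidueField P] CotangentSpace P := LinearMap.liftBaseChange K ℓ
  have hθ : ∀ a : Fin r → K,
      θ ((Submodule.inclusion hIJ).baseChange K (∑ i, a i • ((1 : K) ⊗ₜ[P] xI i))) =
      ∑ i, a i • ((1 : K) ⊗ₜ[ResidueField P] (maximalIdeal P).toCotangent (x i)) := by
    intro a
    rw [map_sum, map_sum]
    refine Finset.sum_congr rfl fun i _ => ?_
    rw [map_smul, map_smul, LinearMap.baseChange_tmul, LinearMap.liftBaseChange_tmul, one_smul]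
    rfl
  have hliK : LinearIndependent K
      (fun i => (1 : K) ⊗ₜ[ResidueField P] (maximalIdeal P).toCotangent (x i)) :=
    Module.Flat.linearIndependent_one_tmul hli
  rw [injective_iff_map_eq_zero]
  intro ξ hξ
  obtain ⟨a, rfl⟩ := hs ξ
  have h0 := hθ a
  rw [hξ, map_zero] at h0
  have ha : ∀ i, a i = 0 := Fintype.linearIndependent_iff.mp hliK a h0.symm
  simp [ha]

/-- Field case: a regular local ring `C`, essentially of finite type over a field `k`, having a
quotient which is formally smooth over `k`, is formally smooth over `k`. -/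
theorem formallySmooth_of_isRegularLocalRing_of_quotient (k P C Cb : Type u) [Field k] [CommRing P]
    [CommRing C] [CommRing Cb] [Algebra k P] [Algebra k C] [Algebra k Cb] [Algebra P C]
    [Algebra C Cb] [Algebra P Cb] [IsScalarTower k P C] [IsScalarTower k P Cb]
    [IsScalarTower P C Cb] [IsLocalRing P] [IsLocalRing Cb] [IsNoetherianRing P]
    [Algebra.FormallySmooth k P] [Module.Free P Ω[P⁄k]] [Module.Finite P Ω[P⁄k]]
    [Algebra.FormallySmooth k Cb] [IsRegularLocalRing C]
    (hPC : Function.Surjective (algebraMap P C)) (hCCb : Function.Surjective (algebraMap C Cb)) :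
    Algebra.FormallySmooth k C := by
  have hPCb : Function.Surjective (algebraMap P Cb) := by
    rw [IsScalarTower.algebraMap_eq P C Cb]
    exact hCCb.comp hPC
  haveI : IsRegularRing P := Groth.Agent.Lib.Helper6.FSReg.isRegularRing_of_formallySmooth k P
  haveI : IsRegularLocalRing P := IsRegularLocalRing.of_isRegularRing_of_isLocalRing P
  haveI : IsRegularLocalRing (P ⧸ RingHom.ker (algebraMap P C)) :=
    IsRegularLocalRing.of_ringEquiv (RingHom.quotientKerEquivOfSurjective hPC).symm
  obtain ⟨r, x, hli, hI⟩ :=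
    Groth.Agent.Lib.Helper5.exists_linearIndependent_span_range_eq (RingHom.ker (algebraMap P C))
  haveI : IsLocalHom (algebraMap P Cb) := IsLocalHom.of_surjective _ hPCb
  haveI : IsLocalHom (algebraMap C Cb) := IsLocalHom.of_surjective _ hCCb
  have hle : RingHom.ker (algebraMap P C) ≤ RingHom.ker (algebraMap P Cb) := by
    intro z hz
    rw [RingHom.mem_ker] at hz ⊢
    rw [IsScalarTower.algebraMap_apply P C Cb, hz, map_zero]
  have hJm : RingHom.ker (algebraMap P Cb) ≤ maximalIdeal P :=
    IsLocalRing.le_maximalIdeal (RingHom.ker_ne_top _)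
  have hinj := injective_baseChange_inclusion (ResidueField Cb) x hli _ _ hI hle hJm
  have h3 : maximalIdeal Cb ≤ RingHom.ker (algebraMap Cb (ResidueField Cb)) := by
    rw [ResidueField.algebraMap_eq, ker_residue]
  have h3' : maximalIdeal C ≤ RingHom.ker (algebraMap C (ResidueField Cb)) := by
    intro c hc
    rw [RingHom.mem_ker, IsScalarTower.algebraMap_apply C Cb (ResidueField Cb),
      ResidueField.algebraMap_eq, residue_eq_zero_iff]
    rw [IsLocalRing.mem_maximalIdeal, mem_nonunits_iff] at hc ⊢
    intro hu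
    exact hc (isUnit_of_map_unit _ _ hu)
  have hJ1 := (Algebra.FormallySmooth.iff_injective_cotangentComplexBaseChange (R := k) (S := Cb)
    P (ResidueField Cb) hPCb (IsNoetherian.noetherian _) h3).mp inferInstance
  rw [Algebra.FormallySmooth.iff_injective_cotangentComplexBaseChange (R := k) (S := C)
    P (ResidueField Cb) hPC (IsNoetherian.noetherian _) h3']
  have hcomp : ∀ z, KaehlerDifferential.cotangentComplexBaseChange k C P (ResidueField Cb) z =
      KaehlerDifferential.cotangentComplexBaseChange k Cb P (ResidueField Cb)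
        ((Submodule.inclusion hle).baseChange (ResidueField Cb) z) := by
    intro z
    induction z using TensorProduct.induction_on with
    | zero => simp
    | tmul a b =>
      rw [LinearMap.baseChange_tmul, KaehlerDifferential.cotangentComplexBaseChange_tmul,
        KaehlerDifferential.cotangentComplexBaseChange_tmul]
      rfl
    | add z w hz hw => rw [map_add, map_add, map_add, hz, hw]
  intro z w hzw
  rw [hcomp, hcomp] at hzw
  exact hinj (hJ1 hzw)

end FieldCase

section Local

open Groth.Agent.Lib.T2H9.TransReg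

variable (R : Type u) [CommRing R] [IsLocalRing R] [IsNoetherianRing R]

/-- the closed fibre ring `X / 𝔪_R X` is `κ(R) ⊗_R X`. -/
noncomputable def fibRingEquivTensor (X : Type u) [CommRing X] [Algebra R X] :
    EGA4.FibRing R X ≃+* (ResidueField R ⊗[R] X) :=
  (Algebra.TensorProduct.quotIdealMapEquivQuotTensor X (maximalIdeal R)).toRingEquiv

theorem isNoetherianRing_residueField_tensor (X : Type u) [CommRing X] [Algebra R X]
    [IsNoetherianRing X] : IsNoetherianRing (ResidueField R ⊗[R] X) :=
  isNoetherianRing_of_ringEquiv _ (fibRingEquivTensor R X)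

theorem isRegularLocalRing_fibRing_of_formallySmooth (X : Type u) [CommRing X] [Algebra R X]
    [IsLocalRing X] [IsLocalHom (algebraMap R X)] [IsNoetherianRing X]
    [Algebra.FormallySmooth R X] : IsRegularLocalRing (EGA4.FibRing R X) := by
  haveI := isNoetherianRing_residueField_tensor R X
  haveI : IsRegularRing (ResidueField R ⊗[R] X) :=
    Groth.Agent.Lib.Helper6.FSReg.isRegularRing_of_formallySmooth (ResidueField R) _
  haveI : IsRegularLocalRing (ResidueField R ⊗[R] X) :=
    IsRegularLocalRing.of_isRegularRing_of_isLocalRing _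
  exact IsRegularLocalRing.of_ringEquiv (fibRingEquivTensor R X).symm

theorem surjective_algebraMap_tensor_map {X Y : Type u} [CommRing X] [CommRing Y] [Algebra R X]
    [Algebra R Y] (φ : X →ₐ[R] Y) (hφ : Function.Surjective φ) :
    Function.Surjective (Algebra.TensorProduct.map (AlgHom.id (ResidueField R) (ResidueField R)) φ) := by
  intro c
  induction c using TensorProduct.induction_on with
  | zero => exact ⟨0, map_zero _⟩
  | tmul a t =>
    obtain ⟨p, rfl⟩ := hφ t
    exact ⟨a ⊗ₜ p, by simp⟩
  | add c d hc hd =>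
    obtain ⟨c', rfl⟩ := hc
    obtain ⟨d', rfl⟩ := hd
    exact ⟨c' + d', map_add _ _ _⟩

/-- common set-up for a local quotient -/
theorem local_setup (T Tb : Type u) [CommRing T] [CommRing Tb]
    [IsLocalRing T] [IsNoetherianRing T] [Algebra R T] [IsLocalHom (algebraMap R T)]
    [Algebra T Tb] [Algebra R Tb] [IsScalarTower R T Tb] [Nontrivial Tb]
    (hsurj : Function.Surjective (algebraMap T Tb)) :
    ∃ (_ : IsLocalRing Tb), IsLocalHom (algebraMap T Tb) ∧ IsLocalHom (algebraMap R Tb) ∧
      IsNoetherianRing Tb := by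
  haveI : IsLocalRing Tb := IsLocalRing.of_surjective' (algebraMap T Tb) hsurj
  haveI : IsLocalHom (algebraMap T Tb) := IsLocalHom.of_surjective _ hsurj
  refine ⟨inferInstance, inferInstance, ?_, isNoetherianRing_of_surjective T Tb (algebraMap T Tb) hsurj⟩
  rw [IsScalarTower.algebraMap_eq R T Tb]
  infer_instance

/-- (⟹, local form) if `T` and its quotient `Tb` are formally smooth over `R` (all local
Noetherian), then `ker (T → Tb)` is generated by a regular sequence. -/
theorem isRegularIdeal_ker_of_formallySmooth (T Tb : Type u) [CommRing T] [CommRing Tb]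
    [IsLocalRing T] [IsNoetherianRing T] [Algebra R T] [IsLocalHom (algebraMap R T)]
    [Algebra T Tb] [Algebra R Tb] [IsScalarTower R T Tb] [Nontrivial Tb]
    (hsurj : Function.Surjective (algebraMap T Tb)) [Algebra.FormallySmooth R T]
    [Algebra.FormallySmooth R Tb] :
    CInt.IsRegularIdeal (RingHom.ker (algebraMap T Tb)) := by
  obtain ⟨h1, h2, h3, h4⟩ := local_setup R T Tb hsurj
  haveI := h1; haveI := h2; haveI := h3; haveI := h4
  haveI : Module.Flat R T := Groth.Agent.Lib.Helper6.FSReg.flat_of_formallySmooth R T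
  have hflatTb : Module.Flat R Tb := Groth.Agent.Lib.Helper6.FSReg.flat_of_formallySmooth R Tb
  have hregT := isRegularLocalRing_fibRing_of_formallySmooth R T
  haveI := isRegularLocalRing_fibRing_of_formallySmooth R Tb
  have hCI := Groth.Agent.Lib.T2H9.CILocus.isCI_of_isRegularLocalRing (EGA4.FibRing R Tb)
  obtain ⟨rs, hrs, htr⟩ := backward (A := R) (C := T) (B := Tb) hregT hsurj hflatTb hCI
  refine ⟨rs, ?_, hrs⟩
  have hmem : ∀ r ∈ rs, r ∈ maximalIdeal T := fun r hr => by
    have h : r ∈ Ideal.ofList rs := Ideal.subset_span hr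
    rw [hrs] at h
    exact IsLocalRing.le_maximalIdeal (RingHom.ker_ne_top _) h
  exact (IsLocalRing.isRegular_iff_isWeaklyRegular_of_subset_maximalIdeal hmem).mpr htr.1

attribute [local instance] Algebra.TensorProduct.rightAlgebra in
set_option maxHeartbeats 1600000 in
/-- (⟸, local form) -/
theorem formallySmooth_of_isRegular_ker (T Tb P₀ : Type u) [CommRing T] [CommRing Tb] [CommRing P₀]
    [IsLocalRing T] [IsNoetherianRing T] [Algebra R T] [IsLocalHom (algebraMap R T)]
    [Algebra T Tb] [Algebra R Tb] [IsScalarTower R T Tb]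
    [Algebra R P₀] [Algebra P₀ T] [IsScalarTower R P₀ T] [Algebra.FinitePresentation R P₀]
    (M : Submonoid P₀) [IsLocalization M T]
    (hsurj : Function.Surjective (algebraMap T Tb)) [Algebra.FormallySmooth R Tb]
    (rs : List T) (hreg : IsRegular T rs)
    (hker : RingHom.ker (algebraMap T Tb) = Ideal.ofList rs) :
    Algebra.FormallySmooth R T := by
  classical
  have hkerne : RingHom.ker (algebraMap T Tb) ≠ ⊤ := by
    rw [hker]
    intro h
    exact hreg.top_ne_smul (by rw [h, Submodule.top_smul])
  haveI : Nontrivial Tb := ⟨⟨0, 1, fun h => hkerne ((Ideal.eq_top_iff_one _).mpr (by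
    rw [RingHom.mem_ker, map_one]; exact h.symm))⟩⟩
  obtain ⟨h1, h2, h3, h4⟩ := local_setup R T Tb hsurj
  haveI := h1; haveI := h2; haveI := h3; haveI := h4
  -- flatness
  have hflatTb : Module.Flat R Tb := Groth.Agent.Lib.Helper6.FSReg.flat_of_formallySmooth R Tb
  have hmem : ∀ f ∈ rs, f ∈ maximalIdeal T := fun f hf =>
    IsLocalRing.le_maximalIdeal hkerne (hker ▸ Ideal.subset_span hf)
  have hjac : ∀ f ∈ rs, f ∈ (⊥ : Ideal T).jacobson := fun f hf => by
    rw [IsLocalRing.jacobson_eq_maximalIdeal ⊥ bot_ne_top]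
    exact hmem f hf
  have hflatq : Module.Flat R (T ⧸ (Ideal.ofList rs • ⊤ : Submodule T T)) := by
    have hs : Function.Surjective (IsScalarTower.toAlgHom R T Tb) := hsurj
    have heq : (Ideal.ofList rs • ⊤ : Submodule T T) =
        RingHom.ker (IsScalarTower.toAlgHom R T Tb) := by
      rw [smul_eq_mul, Ideal.mul_top, ← hker]
      rfl
    exact Module.Flat.of_linearEquiv (((Submodule.quotEquivOfEq _ _ heq).restrictScalars R).trans
      (Ideal.quotientKerAlgEquivOfSurjective hs).toLinearEquiv)
  have hflatj := Groth.Agent.Lib.Helper5.flat_quot_take_of_isWeaklyRegular (A := R) rs T hjac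
    hreg.toIsWeaklyRegular hflatq
  have htr : RegImm.IsTransRegularSeq R T rs :=
    (isTransRegularSeq_iff rs).mpr ⟨hreg.toIsWeaklyRegular, hflatj⟩
  haveI hflatT : Module.Flat R T := by
    haveI := hflatj 0 (Nat.zero_le _)
    have hbot : (Ideal.ofList (rs.take 0) • ⊤ : Submodule T T) = ⊥ := by
      rw [List.take_zero, Ideal.ofList_nil, Submodule.bot_smul]
    exact Module.Flat.of_linearEquiv ((Submodule.quotEquivOfEqBot _ hbot).symm.restrictScalars R)
  -- the closed fibre of `T` is regular
  have hw := isWeaklyRegular_fibRing_of_isTransRegularSeq rs htr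
  haveI : IsLocalHom (Ideal.Quotient.mk (EGA4.mB R T)) :=
    IsLocalHom.of_surjective _ Ideal.Quotient.mk_surjective
  have hmemF : ∀ g ∈ rs.map (Ideal.Quotient.mk (EGA4.mB R T)),
      g ∈ maximalIdeal (EGA4.FibRing R T) := by
    intro g hg
    obtain ⟨r, hr, rfl⟩ := List.mem_map.mp hg
    have hrJ := hmem r hr
    rw [IsLocalRing.mem_maximalIdeal, mem_nonunits_iff] at hrJ ⊢
    intro hu
    exact hrJ (isUnit_of_map_unit _ _ hu)
  have hregs : IsRegular (EGA4.FibRing R T) (rs.map (Ideal.Quotient.mk (EGA4.mB R T))) :=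
    (IsLocalRing.isRegular_iff_isWeaklyRegular_of_subset_maximalIdeal hmemF).mpr hw
  have hkerF : RingHom.ker (fibMap (A := R) (C := T) (B := Tb)) =
      Ideal.ofList (rs.map (Ideal.Quotient.mk (EGA4.mB R T))) := by
    rw [ker_fibMap hsurj, ← Ideal.map_ofList, hker]
  haveI : IsRegularLocalRing (EGA4.FibRing R Tb) :=
    isRegularLocalRing_fibRing_of_formallySmooth R Tb
  haveI : IsRegularLocalRing (EGA4.FibRing R T) :=
    Groth.Agent.Lib.Helper5.RegImmAlg.isRegularLocalRing_of_surjective_of_ker_regular _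
      (fibMap_surjective hsurj) _ hregs hkerF
  haveI : IsRegularLocalRing (ResidueField R ⊗[R] T) :=
    IsRegularLocalRing.of_ringEquiv (fibRingEquivTensor R T)
  -- a regular local presentation
  obtain ⟨n, f₀, hf₀⟩ := Algebra.FiniteType.iff_quotient_mvPolynomial''.mp
    (inferInstance : Algebra.FiniteType R P₀)
  let g : MvPolynomial (Fin n) R →ₐ[R] T := (IsScalarTower.toAlgHom R P₀ T).comp f₀
  let 𝔫 : Ideal (MvPolynomial (Fin n) R) := (maximalIdeal T).comap g.toRingHom
  haveI : 𝔫.IsPrime := Ideal.comap_isPrime g.toRingHom (maximalIdeal T)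
  have hgu : ∀ y : 𝔫.primeCompl, IsUnit (g y) := fun y => by
    have : g y ∉ maximalIdeal T := y.2
    rwa [IsLocalRing.mem_maximalIdeal, mem_nonunits_iff, not_not] at this
  let P' := Localization.AtPrime 𝔫
  let ψ : P' →ₐ[R] T := IsLocalization.liftAlgHom (M := 𝔫.primeCompl) (f := g) hgu
  have hψ : Function.Surjective ψ := by
    intro t
    obtain ⟨a, s, rfl⟩ := IsLocalization.exists_mk'_eq M t
    obtain ⟨α, rfl⟩ := hf₀ a
    obtain ⟨σ, hσ⟩ := hf₀ s.1
    have hgσ : g σ = algebraMap P₀ T s.1 := by
      show algebraMap P₀ T (f₀ σ) = _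
      rw [hσ]
    have hσ' : σ ∈ 𝔫.primeCompl := by
      intro hmem'
      have h1 : g σ ∈ maximalIdeal T := hmem'
      rw [hgσ] at h1
      exact (IsLocalRing.mem_maximalIdeal _).mp h1 (IsLocalization.map_units T s)
    refine ⟨IsLocalization.mk' P' α ⟨σ, hσ'⟩, ?_⟩
    rw [IsLocalization.coe_liftAlgHom, IsLocalization.lift_mk'_spec]
    show algebraMap P₀ T (f₀ α) = g σ * _
    rw [hgσ, mul_comm, IsLocalization.mk'_spec]
  algebraize [ψ.toRingHom]
  have hPT : Function.Surjective (algebraMap P' T) := hψ
  haveI : Algebra.FormallyEtale (MvPolynomial (Fin n) R) P' := .of_isLocalization 𝔫.primeCompl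
  haveI : Algebra.FormallySmooth R P' := .comp _ (MvPolynomial (Fin n) R) _
  haveI : Module.Free P' Ω[P'⁄R] :=
    .of_equiv (KaehlerDifferential.tensorKaehlerEquivOfFormallyEtale R (MvPolynomial (Fin n) R) P')
  haveI : IsLocalHom (algebraMap R P') := by
    haveI : IsLocalHom ((algebraMap P' T).comp (algebraMap R P')) := by
      rw [← IsScalarTower.algebraMap_eq]
      infer_instance
    exact isLocalHom_of_comp (algebraMap R P') (algebraMap P' T)
  haveI : IsNoetherianRing P' := IsLocalization.isNoetherianRing 𝔫.primeCompl P' inferInstance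
  -- the fibre algebras
  let φ₁ : (ResidueField R ⊗[R] P') →ₐ[ResidueField R] (ResidueField R ⊗[R] T) :=
    Algebra.TensorProduct.map (AlgHom.id _ _) (IsScalarTower.toAlgHom R P' T)
  let φ₂ : (ResidueField R ⊗[R] T) →ₐ[ResidueField R] (ResidueField R ⊗[R] Tb) :=
    Algebra.TensorProduct.map (AlgHom.id _ _) (IsScalarTower.toAlgHom R T Tb)
  algebraize [φ₁.toRingHom, φ₂.toRingHom, φ₂.toRingHom.comp φ₁.toRingHom]
  haveI : IsScalarTower (ResidueField R) (ResidueField R ⊗[R] P') (ResidueField R ⊗[R] T) :=
    IsScalarTower.of_algebraMap_eq fun a => (φ₁.commutes a).symm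
  haveI : IsScalarTower (ResidueField R) (ResidueField R ⊗[R] P') (ResidueField R ⊗[R] Tb) := by
    refine IsScalarTower.of_algebraMap_eq (R := ResidueField R) (S := ResidueField R ⊗[R] P')
      (A := ResidueField R ⊗[R] Tb) fun a => ?_
    show algebraMap (ResidueField R) (ResidueField R ⊗[R] Tb) a =
      φ₂ (φ₁ (algebraMap (ResidueField R) (ResidueField R ⊗[R] P') a))
    rw [φ₁.commutes, φ₂.commutes]
  haveI : IsNoetherianRing (ResidueField R ⊗[R] P') := isNoetherianRing_residueField_tensor R P'
  haveI : Module.Free (ResidueField R ⊗[R] P') Ω[(ResidueField R ⊗[R] P')⁄(ResidueField R)] :=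
    .of_equiv (KaehlerDifferential.tensorKaehlerEquiv R (ResidueField R) P'
      (ResidueField R ⊗[R] P'))
  haveI : Module.Finite (ResidueField R ⊗[R] P') Ω[(ResidueField R ⊗[R] P')⁄(ResidueField R)] :=
    .equiv (KaehlerDifferential.tensorKaehlerEquiv R (ResidueField R) P'
      (ResidueField R ⊗[R] P'))
  have hPC : Function.Surjective
      (algebraMap (ResidueField R ⊗[R] P') (ResidueField R ⊗[R] T)) :=
    surjective_algebraMap_tensor_map R (IsScalarTower.toAlgHom R P' T) hPT
  have hCCb : Function.Surjective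
      (algebraMap (ResidueField R ⊗[R] T) (ResidueField R ⊗[R] Tb)) :=
    surjective_algebraMap_tensor_map R (IsScalarTower.toAlgHom R T Tb) hsurj
  haveI : Algebra.FormallySmooth (ResidueField R) (ResidueField R ⊗[R] T) :=
    formallySmooth_of_isRegularLocalRing_of_quotient (ResidueField R) (ResidueField R ⊗[R] P')
      (ResidueField R ⊗[R] T) (ResidueField R ⊗[R] Tb) hPC hCCb
  exact Algebra.FormallySmooth.of_formallySmooth_residueField_tensor (R := R) (S := T) (P := P₀) M

end Local

section Ring

theorem isRegularIdeal_map_ringEquiv {X Y : Type u} [CommRing X] [CommRing Y] (e : X ≃+* Y)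
    (I : Ideal X) (h : CInt.IsRegularIdeal I) : CInt.IsRegularIdeal (I.map (e : X →+* Y)) := by
  obtain ⟨rs, hreg, hI⟩ := h
  haveI := RingHomInvPair.of_ringEquiv e
  haveI := RingHomInvPair.symm (↑e : X →+* Y) ↑e.symm
  refine ⟨rs.map (e : X →+* Y), ?_, ?_⟩
  · exact (LinearEquiv.isRegular_congr' e.toSemilinearEquiv rs).mp hreg
  · rw [← hI, Ideal.map_ofList]

/-- `B_q` is essentially of finite presentation over `A_p` (scaffolding copied from Mathlib's
`Algebra.IsSmoothAt.of_formallySmooth_fiber`). -/
theorem exists_essFinitePresentation {R S : Type u} [CommRing R] [CommRing S] [Algebra R S]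
    [Algebra.FinitePresentation R S] (p : Ideal R) (q : Ideal S) [p.IsPrime] [q.IsPrime]
    [q.LiesOver p] :
    letI := Localization.AtPrime.algebraOfLiesOver p q
    ∃ (Sp : Type u) (_ : CommRing Sp) (_ : Algebra (Localization.AtPrime p) Sp)
      (_ : Algebra Sp (Localization.AtPrime q))
      (_ : IsScalarTower (Localization.AtPrime p) Sp (Localization.AtPrime q))
      (_ : Algebra.FinitePresentation (Localization.AtPrime p) Sp) (M : Submonoid Sp),
      IsLocalization M (Localization.AtPrime q) := by
  let Rp := Localization.AtPrime p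
  let Sp := Localization (Algebra.algebraMapSubmonoid S p.primeCompl)
  let Sq := Localization.AtPrime q
  let := Localization.AtPrime.algebraOfLiesOver p q
  let f : Sp →ₐ[S] Sq := IsLocalization.liftAlgHom (M := Algebra.algebraMapSubmonoid S p.primeCompl)
        (f := Algebra.ofId _ _) (by
      rintro ⟨_, x, hx, rfl⟩
      simpa using! IsLocalization.map_units (M := q.primeCompl) Sq ⟨algebraMap _ _ x,
        by simp_all [q.over_def p]⟩)
  algebraize [f.toRingHom]
  have : IsScalarTower R Sp Sq := .to₁₃₄ _ S _ _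
  have : IsScalarTower Rp Sp Sq := .of_algebraMap_eq' <| by
    apply IsLocalization.ringHom_ext p.primeCompl
    simp only [RingHom.comp_assoc, ← IsScalarTower.algebraMap_eq]
  have : IsLocalization (Algebra.algebraMapSubmonoid Sp q.primeCompl) Sq :=
    .isLocalization_of_submonoid_le _ _ (Algebra.algebraMapSubmonoid S p.primeCompl) _
    (by rintro _ ⟨x, hx, rfl⟩; simp_all [q.over_def p])
  have : Algebra.FinitePresentation Rp Sp := by
    have : Algebra.IsPushout R Rp S Sp :=
      .symm <| Algebra.isPushout_of_isLocalization p.primeCompl _ _ _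
    exact .equiv (Algebra.IsPushout.equiv R Rp S Sp)
  exact ⟨Sp, inferInstance, inferInstance, inferInstance, inferInstance, inferInstance,
    Algebra.algebraMapSubmonoid Sp q.primeCompl, inferInstance⟩

variable (A B C : Type u) [CommRing A] [CommRing B] [CommRing C] [Algebra A B] [Algebra A C]
  [Algebra B C] [IsScalarTower A B C]

set_option maxHeartbeats 1600000 in
/-- Ring form of SGA 1 II 4.10. -/
theorem isSmoothAt_iff_isRegularIdeal [IsNoetherianRing A] [Algebra.FinitePresentation A B]
    (hsurj : Function.Surjective (algebraMap B C)) (Q : Ideal C) [Q.IsPrime] (q : Ideal B)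
    [q.IsPrime] (hq : q = Q.comap (algebraMap B C)) [Algebra.IsSmoothAt A Q] :
    Algebra.IsSmoothAt A q ↔
      CInt.IsRegularIdeal
        ((RingHom.ker (algebraMap B C)).map (algebraMap B (Localization.AtPrime q))) := by
  classical
  haveI : Q.LiesOver q := ⟨hq⟩
  let p : Ideal A := q.under A
  haveI : q.LiesOver p := ⟨rfl⟩
  haveI : Q.LiesOver p := Ideal.LiesOver.trans Q q p
  letI := Localization.AtPrime.algebraOfLiesOver p q
  letI := Localization.AtPrime.algebraOfLiesOver q Q
  letI := Localization.AtPrime.algebraOfLiesOver p Q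
  haveI : IsNoetherianRing B := Algebra.FiniteType.isNoetherianRing A B
  haveI : IsNoetherianRing (Localization.AtPrime p) :=
    IsLocalization.isNoetherianRing p.primeCompl _ inferInstance
  haveI : IsNoetherianRing (Localization.AtPrime q) :=
    IsLocalization.isNoetherianRing q.primeCompl _ inferInstance
  haveI : IsLocalHom (algebraMap (Localization.AtPrime p) (Localization.AtPrime q)) :=
    Localization.isLocalHom_localRingHom p q (algebraMap A B) Ideal.LiesOver.over
  -- the map on local rings
  have hT : Submonoid.map (algebraMap B C) q.primeCompl = Q.primeCompl := by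
    ext c
    constructor
    · rintro ⟨b, hb, rfl⟩
      intro hc
      exact hb (by rw [hq]; exact hc)
    · intro hc
      obtain ⟨b, rfl⟩ := hsurj c
      exact ⟨b, fun hb => hc (by rw [hq] at hb; exact hb), rfl⟩
  have hkerT : RingHom.ker (algebraMap (Localization.AtPrime q) (Localization.AtPrime Q)) =
      (RingHom.ker (algebraMap B C)).map (algebraMap B (Localization.AtPrime q)) :=
    IsLocalization.ker_map (S := Localization.AtPrime q) (Localization.AtPrime Q)
      (algebraMap B C) hT
  have hsurjT : Function.Surjective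
      (algebraMap (Localization.AtPrime q) (Localization.AtPrime Q)) := by
    intro y
    obtain ⟨c, t, rfl⟩ := IsLocalization.exists_mk'_eq Q.primeCompl y
    obtain ⟨b, rfl⟩ := hsurj c
    obtain ⟨b', hb'⟩ := hsurj t.1
    have hb'q : b' ∈ q.primeCompl := by
      intro hmem
      rw [hq] at hmem
      exact t.2 (hb' ▸ hmem)
    refine ⟨IsLocalization.mk' _ b ⟨b', hb'q⟩, ?_⟩
    show Localization.localRingHom q Q (algebraMap B C) Ideal.LiesOver.over _ = _
    rw [Localization.localRingHom_mk']
    congr 1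
    exact Subtype.ext hb'
  haveI : Algebra.FormallyEtale A (Localization.AtPrime p) := .of_isLocalization p.primeCompl
  haveI hTb : Algebra.FormallySmooth (Localization.AtPrime p) (Localization.AtPrime Q) :=
    (Algebra.FormallySmooth.iff_restrictScalars (R := A) (A := Localization.AtPrime p)
      (B := Localization.AtPrime Q)).mp ‹Algebra.IsSmoothAt A Q›
  have hiff : Algebra.IsSmoothAt A q ↔
      Algebra.FormallySmooth (Localization.AtPrime p) (Localization.AtPrime q) :=
    Algebra.FormallySmooth.iff_restrictScalars (R := A) (A := Localization.AtPrime p)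
      (B := Localization.AtPrime q)
  rw [hiff, ← hkerT]
  constructor
  · intro h
    haveI := h
    exact isRegularIdeal_ker_of_formallySmooth (Localization.AtPrime p) (Localization.AtPrime q)
      (Localization.AtPrime Q) hsurjT
  · rintro ⟨rs, hreg, hrs⟩
    obtain ⟨Sp, i1, i2, i3, i4, i5, M, i6⟩ := exists_essFinitePresentation (R := A) (S := B) p q
    exact formallySmooth_of_isRegular_ker (Localization.AtPrime p) (Localization.AtPrime q)
      (Localization.AtPrime Q) Sp M hsurjT rs hreg hrs.symm

end Ring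

section Scheme

open AlgebraicGeometry CategoryTheory

theorem isRegularIdeal_map_of_isLocalization {B : Type u} [CommRing B] (M : Submonoid B)
    (L L' : Type u) [CommRing L] [CommRing L'] [Algebra B L] [Algebra B L'] [IsLocalization M L]
    [IsLocalization M L'] (J : Ideal B) (h : CInt.IsRegularIdeal (J.map (algebraMap B L))) :
    CInt.IsRegularIdeal (J.map (algebraMap B L')) := by
  let e : L ≃ₐ[B] L' := IsLocalization.algEquiv M L L'
  have h1 := isRegularIdeal_map_ringEquiv e.toRingEquiv _ h
  rw [Ideal.map_map] at h1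
  have h2 : (↑e.toRingEquiv : L →+* L').comp (algebraMap B L) = algebraMap B L' := by
    ext b
    exact e.commutes b
  rwa [h2] at h1

variable {X Y S : Scheme.{u}}

theorem primeIdealOf_eq_comap (i : Y ⟶ X) {U : X.Opens} (hU : IsAffineOpen U)
    (hW : IsAffineOpen (i ⁻¹ᵁ U)) (x : Y) (hx : i x ∈ U) :
    (hU.primeIdealOf ⟨i x, hx⟩).asIdeal =
      (hW.primeIdealOf ⟨x, hx⟩).asIdeal.comap (i.app U).hom := by
  have h := IsAffineOpen.comap_primeIdealOf_appLE (f := i) U hU (i ⁻¹ᵁ U) hW le_rfl hx
  rw [Scheme.Hom.appLE_eq_app] at h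
  exact congr($(h).1).symm

theorem map_primeCompl_eq {B C : Type u} [CommRing B] [CommRing C] (g : B →+* C)
    (hg : Function.Surjective g) (Q : Ideal C) [Q.IsPrime] (q : Ideal B) [q.IsPrime]
    (hq : q = Q.comap g) : Submonoid.map g q.primeCompl = Q.primeCompl := by
  ext c
  constructor
  · rintro ⟨b, hb, rfl⟩
    intro hc
    exact hb (by rw [hq]; exact hc)
  · intro hc
    obtain ⟨b, rfl⟩ := hg c
    exact ⟨b, fun hb => hc (by rw [hq] at hb; exact hb), rfl⟩

/-- kernel of the stalk map of a closed immersion. -/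
theorem ker_stalkMap_eq_map (i : Y ⟶ X) [IsClosedImmersion i] {U : X.Opens} (hU : IsAffineOpen U)
    (x : Y) (hx : i x ∈ U) :
    letI := X.presheaf.algebra_section_stalk ⟨i x, hx⟩
    RingHom.ker (i.stalkMap x).hom =
      (RingHom.ker (i.app U).hom).map (algebraMap Γ(X, U) (X.presheaf.stalk (i x))) := by
  letI := X.presheaf.algebra_section_stalk ⟨i x, hx⟩
  have hW : IsAffineOpen (i ⁻¹ᵁ U) := hU.preimage i
  have hxW : x ∈ i ⁻¹ᵁ U := hx
  letI := Y.presheaf.algebra_section_stalk ⟨x, hxW⟩
  haveI := hU.isLocalization_stalk ⟨i x, hx⟩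
  haveI := hW.isLocalization_stalk ⟨x, hxW⟩
  have hsurj : Function.Surjective (i.app U).hom := i.app_surjective U hU
  have hqQ := primeIdealOf_eq_comap i hU hW x hx
  have hT := map_primeCompl_eq (i.app U).hom hsurj _ _ hqQ
  have hmap : (i.stalkMap x).hom = IsLocalization.map (Y.presheaf.stalk x) (i.app U).hom
      (hT.symm ▸ Submonoid.le_comap_map _) := by
    apply IsLocalization.ringHom_ext (hU.primeIdealOf ⟨i x, hx⟩).asIdeal.primeCompl
    rw [IsLocalization.map_comp]
    ext b
    exact i.germ_stalkMap_apply U x hx b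
  rw [hmap]
  exact IsLocalization.ker_map (Y.presheaf.stalk x) (i.app U).hom hT

set_option maxHeartbeats 1600000 in
/-- **SGA 1 II 4.10** (scheme form). -/
theorem mem_smoothLocus_iff_isRegularIdeal [IsLocallyNoetherian S] (f : X ⟶ S)
    [LocallyOfFinitePresentation f] (i : Y ⟶ X) [IsClosedImmersion i]
    [LocallyOfFinitePresentation (i ≫ f)] (x : Y) (hY : x ∈ (i ≫ f).smoothLocus) :
    i x ∈ f.smoothLocus ↔ CInt.IsRegularIdeal (RingHom.ker (i.stalkMap x).hom) := by
  obtain ⟨_, ⟨V, hV, rfl⟩, hxV, -⟩ :=
    S.isBasis_affineOpens.exists_subset_of_mem_open (Set.mem_univ (f (i x))) isOpen_univ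
  obtain ⟨_, ⟨U, hU, rfl⟩, hxU, hUV⟩ :=
    X.isBasis_affineOpens.exists_subset_of_mem_open hxV (V.2.preimage f.continuous)
  have hUV' : U ≤ f ⁻¹ᵁ V := hUV
  have hW : IsAffineOpen (i ⁻¹ᵁ U) := hU.preimage i
  have hxW : x ∈ i ⁻¹ᵁ U := hxU
  have hWV : i ⁻¹ᵁ U ≤ (i ≫ f) ⁻¹ᵁ V := by
    rw [Scheme.Hom.comp_preimage]
    exact i.preimage_mono hUV'
  have hfp := f.finitePresentation_appLE hV hU hUV'
  algebraize [(f.appLE V U hUV').hom, (i.app U).hom, ((i ≫ f).appLE V (i ⁻¹ᵁ U) hWV).hom]
  haveI : IsScalarTower Γ(S, V) Γ(X, U) Γ(Y, i ⁻¹ᵁ U) := IsScalarTower.of_algebraMap_eq' (by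
    show ((i ≫ f).appLE V (i ⁻¹ᵁ U) hWV).hom = (i.app U).hom.comp (f.appLE V U hUV').hom
    rw [← Groth.Agent.Lib.LeadEtChart2.appLE_comp_app_eq f (i ≫ f) i rfl V U hUV' hWV]
    rfl)
  haveI : IsNoetherianRing Γ(S, V) := IsLocallyNoetherian.component_noetherian ⟨V, hV⟩
  have hsurj : Function.Surjective (algebraMap Γ(X, U) Γ(Y, i ⁻¹ᵁ U)) := i.app_surjective U hU
  have hq := primeIdealOf_eq_comap i hU hW x hxU
  haveI : Algebra.IsSmoothAt Γ(S, V) (hW.primeIdealOf ⟨x, hxW⟩).asIdeal :=
    (formallySmooth_stalkMap_iff V hV (i ⁻¹ᵁ U) hW hWV hxW).mp (Scheme.Hom.mem_smoothLocus.mp hY)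
  have key := isSmoothAt_iff_isRegularIdeal Γ(S, V) Γ(X, U) Γ(Y, i ⁻¹ᵁ U) hsurj
    (hW.primeIdealOf ⟨x, hxW⟩).asIdeal (hU.primeIdealOf ⟨i x, hxU⟩).asIdeal hq
  rw [Scheme.Hom.mem_smoothLocus, formallySmooth_stalkMap_iff V hV U hU hUV' hxU]
  letI := X.presheaf.algebra_section_stalk ⟨i x, hxU⟩
  haveI := hU.isLocalization_stalk ⟨i x, hxU⟩
  rw [ker_stalkMap_eq_map i hU x hxU]
  refine Iff.trans key ⟨fun h => ?_, fun h => ?_⟩
  · exact isRegularIdeal_map_of_isLocalization
      (hU.primeIdealOf ⟨i x, hxU⟩).asIdeal.primeCompl _ _ _ h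
  · exact isRegularIdeal_map_of_isLocalization
      (hU.primeIdealOf ⟨i x, hxU⟩).asIdeal.primeCompl _ _ _ h

end Scheme

end Groth.Agent.Lib.LeadRegSm
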