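import Mathlib
import Groth.Prelude.Def_Omega4
import Groth.Prelude.Def_FlatMod2
import Groth.Agent.Lib.LeadNonsing
import Groth.Agent.Lib.Helper6Tower
import Groth.Agent.Lib.Helper18OmLS24

/-!
# Smoothness of a morphism of smooth varieties via the rank of the relative differentials (lead)

Hartshorne III.10.4 (a) ⇔ (b): for `f : X → Y` a morphism of smooth irreducible schemes over a field
with `dim X = dim Y + n`, `f` is smooth of relative dimension `n` iff `Ω_{X/Y}` is locally free of
rank `n`.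
-/

set_option autoImplicit false
set_option maxHeartbeats 400000
set_option linter.style.haveILetI false
set_option linter.unusedSectionVars false
set_option linter.unusedVariables false

universe u

open CategoryTheory CategoryTheory.Limits AlgebraicGeometry TopologicalSpace Opposite
open KaehlerDifferential TensorProduct

namespace Groth.Agent.Lib.LeadRelSm

open Groth.Agent.Helper18OmLS Groth.Agent.Lib.Helper2.LocFree Groth.Agent.Lib.Helper20.PullbackAff
  Groth.Agent.Lib.Helper20.Thickening Groth.Agent.Lib.Helper20.LocFree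

section linalg

variable {T : Type u} [CommRing T] {M N P : Type u} [AddCommGroup M] [AddCommGroup N]
  [AddCommGroup P] [Module T M] [Module T N] [Module T P]

/-- an exact sequence `M → N → P → 0` of finite free modules with `rk N = rk M + rk P` is left
exact. -/
theorem injective_of_exact_of_finrank
    [Module.Free T M] [Module.Finite T M] [Module.Free T N] [Module.Finite T N]
    [Module.Free T P] [Module.Finite T P]
    (m : M →ₗ[T] N) (g : N →ₗ[T] P) (hex : Function.Exact m g) (hg : Function.Surjective g)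
    (h : Module.finrank T N = Module.finrank T M + Module.finrank T P) :
    Function.Injective m := by
  obtain ⟨l, hl⟩ := Module.projective_lifting_property g LinearMap.id hg
  obtain ⟨e1, -, -⟩ := (LinearMap.exact_subtype_ker_map g).splitSurjectiveEquiv
    Subtype.val_injective ⟨l, hl⟩
  haveI : Module.Finite T (LinearMap.ker g) :=
    Module.Finite.of_surjective ((LinearMap.fst T (LinearMap.ker g) P).comp e1.toLinearMap)
      (fun y => ⟨e1.symm (y, 0), by simp⟩)
  haveI : Module.Projective T (LinearMap.ker g) :=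
    Module.Projective.of_split (e1.symm.toLinearMap.comp (LinearMap.inl T (LinearMap.ker g) P))
      ((LinearMap.fst T (LinearMap.ker g) P).comp e1.toLinearMap) (by ext x; simp)
  let m' : M →ₗ[T] LinearMap.ker g :=
    m.codRestrict (LinearMap.ker g) (fun x => (hex (m x)).mpr ⟨x, rfl⟩)
  have hm' : Function.Surjective m' := by
    rintro ⟨y, hy⟩
    obtain ⟨x, hx⟩ := (hex y).mp hy
    exact ⟨x, Subtype.ext hx⟩
  obtain ⟨τ, hτ⟩ := Module.projective_lifting_property m' LinearMap.id hm'
  obtain ⟨e2, -, -⟩ := (LinearMap.exact_subtype_ker_map m').splitSurjectiveEquiv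
    Subtype.val_injective ⟨τ, hτ⟩
  haveI : Module.Finite T (LinearMap.ker m') :=
    Module.Finite.of_surjective
      ((LinearMap.fst T (LinearMap.ker m') (LinearMap.ker g)).comp e2.toLinearMap)
      (fun y => ⟨e2.symm (y, 0), by simp⟩)
  haveI : Module.Projective T (LinearMap.ker m') :=
    Module.Projective.of_split
      (e2.symm.toLinearMap.comp (LinearMap.inl T (LinearMap.ker m') (LinearMap.ker g)))
      ((LinearMap.fst T (LinearMap.ker m') (LinearMap.ker g)).comp e2.toLinearMap)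
      (by ext x; simp)
  have hsub : Subsingleton (LinearMap.ker m') := by
    rw [← Module.rankAtStalk_eq_zero_iff_subsingleton (R := T)]
    ext p
    have h1 := congrFun (Module.rankAtStalk_eq_of_equiv e1) p
    have h2 := congrFun (Module.rankAtStalk_prod (R := T) (LinearMap.ker g) P) p
    have h3 := congrFun (Module.rankAtStalk_eq_of_equiv e2) p
    have h4 := congrFun (Module.rankAtStalk_prod (R := T) (LinearMap.ker m') (LinearMap.ker g)) p
    have h5 := congrFun (Module.rankAtStalk_eq_finrank_of_free (R := T) (M := M)) p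
    have h6 := congrFun (Module.rankAtStalk_eq_finrank_of_free (R := T) (M := N)) p
    have h7 := congrFun (Module.rankAtStalk_eq_finrank_of_free (R := T) (M := P)) p
    simp only [Pi.add_apply, Pi.natCast_def, Nat.cast_id, Pi.zero_apply] at h1 h2 h3 h4 h5 h6 h7 ⊢
    omega
  have hinj' : Function.Injective m' := by
    rw [← LinearMap.ker_eq_bot]
    exact Submodule.eq_bot_of_subsingleton
  intro x y hxy
  exact hinj' (Subtype.ext hxy)

end linalg

section ring

/-- `A → S → T` with `T` formally smooth over `A` and `Ω_{S/A}`, `Ω_{T/A}`, `Ω_{T/S}` free of ranks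
`a`, `a + n`, `n`: then `T` is formally smooth over `S`. -/
theorem formallySmooth_of_finrank {A S T : Type u} [CommRing A] [CommRing S] [CommRing T]
    [Algebra A S] [Algebra S T] [Algebra A T] [IsScalarTower A S T] [Nontrivial T]
    [Algebra.FormallySmooth A T] (a n : ℕ)
    (bS : Module.Basis (Fin a) S Ω[S⁄A]) (bT : Module.Basis (Fin (a + n)) T Ω[T⁄A])
    (bTS : Module.Basis (Fin n) T Ω[T⁄S]) : Algebra.FormallySmooth S T := by
  haveI : Nontrivial S := RingHom.domain_nontrivial (algebraMap S T)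
  haveI : Module.Free S Ω[S⁄A] := Module.Free.of_basis bS
  haveI : Module.Finite S Ω[S⁄A] := Module.Finite.of_basis bS
  haveI : Module.Free T Ω[T⁄A] := Module.Free.of_basis bT
  haveI : Module.Finite T Ω[T⁄A] := Module.Finite.of_basis bT
  haveI : Module.Free T Ω[T⁄S] := Module.Free.of_basis bTS
  haveI : Module.Finite T Ω[T⁄S] := Module.Finite.of_basis bTS
  have hS : Module.finrank S Ω[S⁄A] = a := by
    rw [Module.finrank_eq_card_basis bS, Fintype.card_fin]
  have hT : Module.finrank T Ω[T⁄A] = a + n := by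
    rw [Module.finrank_eq_card_basis bT, Fintype.card_fin]
  have hTS : Module.finrank T Ω[T⁄S] = n := by
    rw [Module.finrank_eq_card_basis bTS, Fintype.card_fin]
  have hex := KaehlerDifferential.exact_mapBaseChange_map A S T
  have hsurj : Function.Surjective (KaehlerDifferential.map A S T T) :=
    KaehlerDifferential.map_surjective A S T
  have hinj : Function.Injective (mapBaseChange A S T) := by
    refine injective_of_exact_of_finrank _ _ hex hsurj ?_
    rw [Module.finrank_baseChange, hS, hT, hTS]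
  obtain ⟨l, hl⟩ := Module.projective_lifting_property (KaehlerDifferential.map A S T T)
    LinearMap.id hsurj
  exact (Groth.Agent.Lib.Helper6.Tower.formallySmooth_iff_exists_retraction A S T).mpr
    ((hex.split_tfae'.out 0 1 rfl rfl).mp ⟨hinj, l, hl⟩).2

end ring

section chart

theorem chart_formallySmooth {X Y Z : Scheme.{u}} (f : X ⟶ Y) (g : Y ⟶ Z) [Smooth (f ≫ g)]
    (ΩY : Y.Modules) (dY : OmegaSh.Der g ΩY) (hdY : OmegaSh.IsUniversal dY)
    (ΩX : X.Modules) (dX : OmegaSh.Der (f ≫ g) ΩX) (hdX : OmegaSh.IsUniversal dX)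
    (Ω : X.Modules) (d : OmegaSh.Der f Ω) (hd : OmegaSh.IsUniversal d)
    {W : Z.Opens} (hW : IsAffineOpen W) {V : Y.Opens} (hV : IsAffineOpen V)
    {U : X.Opens} (hU : IsAffineOpen U)
    (hVW : V ≤ g ⁻¹ᵁ W) (hUV : U ≤ f ⁻¹ᵁ V) (hne : Nonempty U) (a n : ℕ)
    {UY : Y.Opens} (eY : ΩY.restrict UY.ι ≅ FlatMod.freeMod (↑UY) a) (hVUY : V ≤ UY)
    {UX : X.Opens} (eX : ΩX.restrict UX.ι ≅ FlatMod.freeMod (↑UX) (a + n)) (hUUX : U ≤ UX)
    {UΩ : X.Opens} (eΩ : Ω.restrict UΩ.ι ≅ FlatMod.freeMod (↑UΩ) n) (hUUΩ : U ≤ UΩ) :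
    (f.appLE V U hUV).hom.FormallySmooth := by
  haveI := isQuasicoherent_of_isUniversal g dY hdY
  haveI := isQuasicoherent_of_isUniversal (f ≫ g) dX hdX
  haveI := isQuasicoherent_of_isUniversal f d hd
  have hUW : U ≤ (f ≫ g) ⁻¹ᵁ W := fun x hx => hVW (hUV hx)
  letI algAS : Algebra Γ(Z, W) Γ(Y, V) := (g.appLE W V hVW).hom.toAlgebra
  letI algST : Algebra Γ(Y, V) Γ(X, U) := (f.appLE V U hUV).hom.toAlgebra
  letI algAT : Algebra Γ(Z, W) Γ(X, U) := ((f ≫ g).appLE W U hUW).hom.toAlgebra
  haveI : IsScalarTower Γ(Z, W) Γ(Y, V) Γ(X, U) := by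
    refine IsScalarTower.of_algebraMap_eq fun r => ?_
    have h1 : g.appLE W V hVW ≫ f.appLE V U hUV = (f ≫ g).appLE W U hUW :=
      Scheme.Hom.appLE_comp_appLE _ _ _ _ _ _ _
    exact congr($h1.symm r)
  haveI : Algebra.FormallySmooth Γ(Z, W) Γ(X, U) :=
    ((f ≫ g).smooth_appLE hW hU hUW).formallySmooth
  obtain ⟨bY⟩ := Groth.Agent.Lib.Helper26.ModRank.nonempty_basis_of_restrict_iso ΩY eY hV hVUY
  obtain ⟨bX⟩ := Groth.Agent.Lib.Helper26.ModRank.nonempty_basis_of_restrict_iso ΩX eX hU hUUX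
  obtain ⟨bΩ⟩ := Groth.Agent.Lib.Helper26.ModRank.nonempty_basis_of_restrict_iso Ω eΩ hU hUUΩ
  haveI : Nontrivial Γ(X, U) := inferInstance
  exact formallySmooth_of_finrank a n
    (bY.map (ΓUFIso g dY hdY hV hW hVW rfl).toLinearEquiv)
    (bX.map (ΓUFIso (f ≫ g) dX hdX hU hW hUW rfl).toLinearEquiv)
    (bΩ.map (ΓUFIso f d hd hU hV hUV rfl).toLinearEquiv)

end chart

section main

/-- on a smooth irreducible scheme of dimension `m` over a field the differentials are locally
free of rank `m`. -/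
theorem exists_free_of_smooth (k : Type u) [Field k] {Z : Scheme.{u}}
    (q : Z ⟶ Spec (CommRingCat.of k)) [Smooth q] [IrreducibleSpace Z] (m : ℕ)
    (hm : topologicalKrullDim Z = (m : WithBot ℕ∞))
    (Ω' : Z.Modules) (d' : OmegaSh.Der q Ω') (hd' : OmegaSh.IsUniversal d') (z : Z) :
    ∃ U : Z.Opens, z ∈ U ∧ Nonempty (Ω'.restrict U.ι ≅ FlatMod.freeMod (↑U) m) ∧
      FlatMor.fibreDimAt q z = (m : WithBot ℕ∞) := by
  letI : Z.Over (Spec (CommRingCat.of k)) := ⟨q⟩
  haveI : LocallyOfFiniteType (Z ↘ Spec (CommRingCat.of k)) :=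
    (inferInstance : LocallyOfFiniteType q)
  haveI : Subsingleton ↥(Spec (CommRingCat.of k)) :=
    (inferInstance : Subsingleton (PrimeSpectrum k))
  obtain ⟨U, m', hzU, hiso, hdim⟩ := Groth.Agent.Lib.LeadOmSm.main_S5019 q Ω' d' hd' z
  have h0 : FlatMor.fibreDimAt q z = (m : WithBot ℕ∞) := by
    rw [Groth.Agent.Lib.LeadNonsing.fibreDimAt_eq_localDim_of_subsingleton]
    exact (Groth.Agent.Lib.LeadNonsing.localDim_eq_of_irreducible k Z z).trans hm
  have h1 : (m' : WithBot ℕ∞) = (m : WithBot ℕ∞) := hdim.symm.trans h0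
  have h2 : m' = m := by exact_mod_cast h1
  subst h2
  exact ⟨U, hzU, hiso, h0⟩

theorem main_S10937 (k : Type u) [Field k] {X Y : Scheme.{u}}
    (qY : Y ⟶ Spec (CommRingCat.of k)) (f : X ⟶ Y)
    [IrreducibleSpace X] [IrreducibleSpace Y] [IsSeparated qY] [IsSeparated (f ≫ qY)]
    [Smooth qY] [Smooth (f ≫ qY)]
    (n dY : ℕ) (hY : topologicalKrullDim ↥Y = dY)
    (hX : topologicalKrullDim ↥X = ((dY + n : ℕ) : WithBot ℕ∞)) :
    SmoothOfRelativeDimension n f ↔ FlatMod.IsFinLocFreeOfRank n (Omega.sheaf f) := by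
  haveI : IsSeparated f := IsSeparated.of_comp f qY
  haveI : LocallyOfFiniteType f := locallyOfFiniteType_of_comp f qY
  haveI : IsLocallyNoetherian Y := LocallyOfFiniteType.isLocallyNoetherian qY
  haveI : LocallyOfFinitePresentation f := inferInstance
  have hd := isUniversal_dOmega f
  constructor
  · intro hsm
    haveI := hsm
    haveI : Smooth f := SmoothOfRelativeDimension.smooth n f
    intro x
    obtain ⟨U, n', hxU, hiso, hdim⟩ :=
      Groth.Agent.Lib.LeadOmSm.main_S5019 f (Omega.sheaf f) (OmegaSh.dOmega f) hd x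
    have h1 := Groth.Agent.Lib.Helper3.SmDim.fibreDimAt_eq_of_smoothOfRelativeDimension n f x
    have h2 : (n' : WithBot ℕ∞) = (n : WithBot ℕ∞) := hdim.symm.trans h1
    have h3 : n' = n := by exact_mod_cast h2
    subst h3
    exact ⟨U, hxU, hiso⟩
  · intro hlf
    have hsmf : Smooth f := by
      rw [← Scheme.Hom.smoothLocus_eq_top_iff, eq_top_iff]
      rintro x -
      obtain ⟨UΩ, hxUΩ, ⟨eΩ⟩⟩ := hlf x
      obtain ⟨UY, hfxUY, ⟨eY⟩, -⟩ := exists_free_of_smooth k qY dY hY (Omega.sheaf qY)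
        (OmegaSh.dOmega qY) (isUniversal_dOmega qY) (f x)
      obtain ⟨UX, hxUX, ⟨eX⟩, -⟩ := exists_free_of_smooth k (f ≫ qY) (dY + n) hX
        (Omega.sheaf (f ≫ qY)) (OmegaSh.dOmega (f ≫ qY)) (isUniversal_dOmega (f ≫ qY)) x
      obtain ⟨V, hV, hfxV, hVUY⟩ := exists_isAffineOpen_mem_and_subset (x := f x) (U := UY) hfxUY
      have hxO : x ∈ (f ⁻¹ᵁ V ⊓ UX) ⊓ UΩ := ⟨⟨hfxV, hxUX⟩, hxUΩ⟩
      obtain ⟨U, hU, hxU, hUO⟩ := exists_isAffineOpen_mem_and_subset (x := x) hxO
      have hUV : U ≤ f ⁻¹ᵁ V := (hUO.trans inf_le_left).trans inf_le_left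
      have hUUX : U ≤ UX := (hUO.trans inf_le_left).trans inf_le_right
      have hUUΩ : U ≤ UΩ := hUO.trans inf_le_right
      have hW : IsAffineOpen (⊤ : (Spec (CommRingCat.of k)).Opens) := isAffineOpen_top _
      have hfs := chart_formallySmooth f qY (Omega.sheaf qY) (OmegaSh.dOmega qY)
        (isUniversal_dOmega qY) (Omega.sheaf (f ≫ qY)) (OmegaSh.dOmega (f ≫ qY))
        (isUniversal_dOmega (f ≫ qY)) (Omega.sheaf f) (OmegaSh.dOmega f) hd hW hV hU le_top hUV
        ⟨⟨x, hxU⟩⟩ dY n eY hVUY eX hUUX eΩ hUUΩ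
      rw [Scheme.Hom.mem_smoothLocus, formallySmooth_stalkMap_iff V hV U hU hUV hxU]
      letI := (f.appLE V U hUV).hom.toAlgebra
      haveI : Algebra.FormallySmooth Γ(Y, V) Γ(X, U) := hfs
      haveI : Algebra.FormallySmooth Γ(X, U)
          (Localization.AtPrime (hU.primeIdealOf ⟨x, hxU⟩).asIdeal) :=
        Algebra.FormallySmooth.of_isLocalization (hU.primeIdealOf ⟨x, hxU⟩).asIdeal.primeCompl
      show Algebra.FormallySmooth Γ(Y, V)
        (Localization.AtPrime (hU.primeIdealOf ⟨x, hxU⟩).asIdeal)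
      exact Algebra.FormallySmooth.comp Γ(Y, V) Γ(X, U) _
    haveI := hsmf
    refine ⟨fun x => ?_⟩
    obtain ⟨V, hV, U, hU, hxU, e, hss⟩ := Smooth.exists_isStandardSmooth f x
    obtain ⟨m, hm⟩ := Groth.Agent.Lib.Helper3.SmDim.exists_relDim_of_isStandardSmooth _ hss
    have h1 := Groth.Agent.Lib.Helper3.SmDim.fibreDimAt_eq_of_chart f m x hV hU hxU e hm
    have h2 := Groth.Agent.Lib.Helper3.SmDim.fibreDimAt_comp_of_smooth f qY x
    obtain ⟨-, -, -, h3⟩ := exists_free_of_smooth k qY dY hY (Omega.sheaf qY)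
        (OmegaSh.dOmega qY) (isUniversal_dOmega qY) (f x)
    obtain ⟨-, -, -, h4⟩ := exists_free_of_smooth k (f ≫ qY) (dY + n) hX
        (Omega.sheaf (f ≫ qY)) (OmegaSh.dOmega (f ≫ qY)) (isUniversal_dOmega (f ≫ qY)) x
    rw [h1, h3, h4] at h2
    have h5 : dY + n = m + dY := by exact_mod_cast h2
    have h6 : m = n := by omega
    subst h6
    exact ⟨V, hV, U, hU, hxU, e, hm⟩

end main

end Groth.Agent.Lib.LeadRelSm
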