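import Mathlib

/-!
# Generic smoothness gives uniform `t^N`-quasi-sections of square-zero extensions (lead)

`A` a Noetherian domain, `t ≠ 0`, `B` a flat `A`-algebra of finite type with `B[1/t]` formally
smooth over `A`.  Then there is `N` such that for every square-zero extension `p : E → C` of
`A`-algebras and every `ψ : B → C` there is an `A`-linear `σ : B → E` with `p ∘ σ = t^N ψ`,
`σ b * σ b' = t^N σ (b b')`, `σ 1 = t^N`.
-/

set_option autoImplicit false
set_option maxHeartbeats 400000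
set_option linter.style.haveILetI false
set_option linter.unusedSectionVars false
set_option linter.unusedVariables false

universe u

namespace Groth.Agent.Lib.LeadRigSmA

section universal

variable {A : Type u} [CommRing A] [IsDomain A] [IsNoetherianRing A] {B : Type u} [CommRing B]
  [Algebra A B] [Module.Flat A B] (t : A) (ht : t ≠ 0)
  {r : ℕ} (φ : MvPolynomial (Fin r) A →ₐ[A] B) (hφ : Function.Surjective φ)

/-- the universal square-zero extension attached to the presentation. -/
abbrev Eu (φ : MvPolynomial (Fin r) A →ₐ[A] B) : Type u :=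
  MvPolynomial (Fin r) A ⧸ RingHom.ker φ.toRingHom ^ 2

include ht in
theorem eq_zero_of_smul (b : B) (h : t • b = 0) : b = 0 := by
  have h1 : IsSMulRegular A t := (IsRegular.of_ne_zero ht).left.isSMulRegular
  have h2 : IsSMulRegular B (algebraMap A B t) := h1.of_flat
  apply h2
  change algebraMap A B t • b = algebraMap A B t • (0 : B)
  rw [smul_zero, smul_eq_mul, ← Algebra.smul_def]
  exact h

include ht in
theorem eq_zero_of_pow_smul (m : ℕ) (b : B) (h : t ^ m • b = 0) : b = 0 := by
  induction m with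
  | zero => rwa [pow_zero, one_smul] at h
  | succ m ih =>
    apply ih
    apply eq_zero_of_smul t ht
    rw [smul_smul, ← pow_succ']
    exact h

include ht in
theorem algebraMap_Bτ_injective (Bτ : Type u) [CommRing Bτ] [Algebra B Bτ] [Algebra A Bτ] [IsScalarTower A B Bτ]
    [IsLocalization.Away (algebraMap A B t) Bτ] :
    Function.Injective (algebraMap B Bτ) := by
  rw [injective_iff_map_eq_zero]
  intro b hb
  obtain ⟨⟨_, m, rfl⟩, hm⟩ :=
    (IsLocalization.map_eq_zero_iff (Submonoid.powers (algebraMap A B t)) Bτ b).1 hb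
  apply eq_zero_of_pow_smul t ht m b
  rw [Algebra.smul_def, map_pow]
  exact hm

/-- the kernel of the universal extension is square zero. -/
theorem ker_sq_zero (x y : Eu φ) (hx : φ.kerSquareLift x = 0) (hy : φ.kerSquareLift y = 0) :
    x * y = 0 := by
  have hk := AlgHom.ker_kerSquareLift φ
  have h1 : x ∈ (RingHom.ker φ.toRingHom).cotangentIdeal := hk.le hx
  have h2 : y ∈ (RingHom.ker φ.toRingHom).cotangentIdeal := hk.le hy
  have h3 := Ideal.mul_mem_mul h1 h2
  have h4 : (RingHom.ker φ.toRingHom).cotangentIdeal * (RingHom.ker φ.toRingHom).cotangentIdeal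
      = ⊥ := (pow_two _).symm.trans (Ideal.cotangentIdeal_square _)
  exact Ideal.mem_bot.1 (h4.le h3)

/-- the localized projection. -/
noncomputable def gLoc (Bτ : Type u) [CommRing Bτ] [Algebra B Bτ] [Algebra A Bτ] [IsScalarTower A B Bτ]
    [IsLocalization.Away (algebraMap A B t) Bτ] :
    Localization.Away (algebraMap A (Eu φ) t) →ₐ[A] Bτ :=
  IsLocalization.liftAlgHom (M := Submonoid.powers (algebraMap A (Eu φ) t))
    (f := (IsScalarTower.toAlgHom A B Bτ).comp φ.kerSquareLift) (by
      rintro ⟨_, m, rfl⟩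
      have h1 : ((IsScalarTower.toAlgHom A B Bτ).comp φ.kerSquareLift)
          (algebraMap A (Eu φ) t ^ m) = (algebraMap B Bτ (algebraMap A B t)) ^ m := by
        rw [map_pow, AlgHom.commutes, IsScalarTower.algebraMap_apply A B Bτ]
      rw [h1]
      exact (IsLocalization.Away.algebraMap_isUnit (algebraMap A B t)).pow m)

theorem gLoc_algebraMap (Bτ : Type u) [CommRing Bτ] [Algebra B Bτ] [Algebra A Bτ] [IsScalarTower A B Bτ]
    [IsLocalization.Away (algebraMap A B t) Bτ] (e : Eu φ) :
    gLoc t φ Bτ (algebraMap (Eu φ) (Localization.Away (algebraMap A (Eu φ) t)) e) =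
      algebraMap B Bτ (φ.kerSquareLift e) := by
  unfold gLoc
  rw [IsLocalization.liftAlgHom_apply, IsLocalization.lift_eq]
  rfl

include hφ in
theorem gLoc_surjective (Bτ : Type u) [CommRing Bτ] [Algebra B Bτ] [Algebra A Bτ] [IsScalarTower A B Bτ]
    [IsLocalization.Away (algebraMap A B t) Bτ] :
    Function.Surjective (gLoc t φ Bτ) := by
  intro z
  obtain ⟨bm, rfl⟩ := IsLocalization.mk'_surjective
    (Submonoid.powers (algebraMap A B t)) z
  obtain ⟨b, ⟨_, m, rfl⟩⟩ := bm
  dsimp only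
  obtain ⟨p, rfl⟩ := hφ b
  refine ⟨IsLocalization.mk' _ (Ideal.Quotient.mk _ p : Eu φ)
    (⟨algebraMap A (Eu φ) t ^ m, m, rfl⟩ : Submonoid.powers (algebraMap A (Eu φ) t)), ?_⟩
  unfold gLoc
  rw [IsLocalization.liftAlgHom_apply, IsLocalization.lift_mk'_spec]
  change algebraMap B Bτ (φ.kerSquareLift (Ideal.Quotient.mk _ p)) =
    algebraMap B Bτ (φ.kerSquareLift (algebraMap A (Eu φ) t ^ m)) * _
  rw [AlgHom.kerSquareLift_mk, map_pow, AlgHom.commutes]
  exact (IsLocalization.mk'_spec' Bτ (φ p)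
    (⟨algebraMap A B t ^ m, m, rfl⟩ : Submonoid.powers (algebraMap A B t))).symm

include ht in
theorem gLoc_sq_zero (Bτ : Type u) [CommRing Bτ] [Algebra B Bτ] [Algebra A Bτ] [IsScalarTower A B Bτ]
    [IsLocalization.Away (algebraMap A B t) Bτ]
    (x y : Localization.Away (algebraMap A (Eu φ) t))
    (hx : gLoc t φ Bτ x = 0) (hy : gLoc t φ Bτ y = 0) : x * y = 0 := by
  obtain ⟨⟨e, s⟩, rfl⟩ := IsLocalization.mk'_surjective
    (Submonoid.powers (algebraMap A (Eu φ) t)) x
  obtain ⟨⟨e', s'⟩, rfl⟩ := IsLocalization.mk'_surjective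
    (Submonoid.powers (algebraMap A (Eu φ) t)) y
  dsimp only at hx hy ⊢
  have key : ∀ (e : Eu φ) (s : Submonoid.powers (algebraMap A (Eu φ) t)),
      gLoc t φ Bτ (IsLocalization.mk' _ e s) = 0 → φ.kerSquareLift e = 0 := by
    intro e s h
    unfold gLoc at h
    rw [IsLocalization.liftAlgHom_apply, IsLocalization.lift_mk'_spec, mul_zero] at h
    exact algebraMap_Bτ_injective t ht Bτ (h.trans (map_zero _).symm)
  have h1 := key e s hx
  have h2 := key e' s' hy
  rw [← IsLocalization.mk'_mul, ker_sq_zero φ e e' h1 h2, IsLocalization.mk'_zero]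

include ht hφ in
theorem exists_universal (Bτ : Type u) [CommRing Bτ] [Algebra B Bτ] [Algebra A Bτ] [IsScalarTower A B Bτ]
    [IsLocalization.Away (algebraMap A B t) Bτ] [Algebra.FormallySmooth A Bτ] :
    ∃ (N : ℕ) (σ : MvPolynomial (Fin r) A →ₗ[A] Eu φ),
      (∀ f, φ f = 0 → σ f = 0) ∧ (∀ p, φ.kerSquareLift (σ p) = t ^ N • φ p) ∧
      (∀ p q, σ p * σ q = t ^ N • σ (p * q)) ∧ σ 1 = t ^ N • (1 : Eu φ) := by
  classical
  -- the localized section
  have hnil : IsNilpotent (RingHom.ker
      ((gLoc t φ Bτ : Localization.Away (algebraMap A (Eu φ) t) →ₐ[A] Bτ) :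
        Localization.Away (algebraMap A (Eu φ) t) →+* Bτ)) := by
    refine ⟨2, le_bot_iff.1 ?_⟩
    intro z hz
    have hpow : ∀ K : Ideal (Localization.Away (algebraMap A (Eu φ) t)), K ^ 2 = K * K :=
      fun K => pow_two K
    rw [hpow] at hz
    refine Submodule.mul_induction_on hz ?_ ?_
    · intro x hx y hy
      exact Ideal.mem_bot.2 (gLoc_sq_zero t ht φ Bτ x y hx hy)
    · intro x y hx hy
      exact add_mem hx hy
  let st : Bτ →ₐ[A] Localization.Away (algebraMap A (Eu φ) t) :=
    Algebra.FormallySmooth.liftOfSurjective (AlgHom.id A Bτ) (gLoc t φ Bτ)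
      (gLoc_surjective t φ hφ Bτ) hnil
  have hst : ∀ z, gLoc t φ Bτ (st z) = z := fun z =>
    Algebra.FormallySmooth.liftOfSurjective_apply (AlgHom.id A Bτ) (gLoc t φ Bτ)
      (gLoc_surjective t φ hφ Bτ) hnil z
  let L := Localization.Away (algebraMap A (Eu φ) t)
  let F₁ : MvPolynomial (Fin r) A →ₐ[A] L := st.comp ((IsScalarTower.toAlgHom A B Bτ).comp φ)
  let F₂ : MvPolynomial (Fin r) A →ₐ[A] L :=
    (IsScalarTower.toAlgHom A (Eu φ) L).comp (Ideal.Quotient.mkₐ A _)
  have hF₂ : ∀ p, F₂ p = algebraMap (Eu φ) L (Ideal.Quotient.mk _ p) := fun p => rfl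
  have hF : ∀ p, gLoc t φ Bτ (F₁ p - F₂ p) = 0 := by
    intro p
    rw [map_sub]
    change gLoc t φ Bτ (st (algebraMap B Bτ (φ p))) -
      gLoc t φ Bτ (algebraMap (Eu φ) L (Ideal.Quotient.mk _ p)) = 0
    rw [hst, gLoc_algebraMap t φ Bτ, AlgHom.kerSquareLift_mk, sub_self]
  -- clear denominators
  obtain ⟨⟨_, a, rfl⟩, ha⟩ := IsLocalization.exist_integer_multiples_of_finite
    (Submonoid.powers (algebraMap A (Eu φ) t)) (fun j : Fin r => F₁ (MvPolynomial.X j))
  choose y hy using ha
  have hEL : ∀ x : A, algebraMap (Eu φ) L (algebraMap A (Eu φ) x) = algebraMap A L x :=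
    fun x => (IsScalarTower.algebraMap_apply A (Eu φ) L x).symm
  have hy' : ∀ j, algebraMap (Eu φ) L (y j) = algebraMap A L (t ^ a) * F₁ (MvPolynomial.X j) := by
    intro j
    rw [hy j]
    change (algebraMap A (Eu φ) t ^ a) • F₁ (MvPolynomial.X j) = _
    rw [Algebra.smul_def (algebraMap A (Eu φ) t ^ a), ← map_pow, hEL]
  let D : Derivation A (MvPolynomial (Fin r) A) (Eu φ) :=
    MvPolynomial.mkDerivation A
      (fun j => y j - algebraMap A (Eu φ) (t ^ a) * (Ideal.Quotient.mk _ (MvPolynomial.X j) : Eu φ))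
  have hsmulE : ∀ (p : MvPolynomial (Fin r) A) (e : Eu φ),
      algebraMap (Eu φ) L (p • e) = F₂ p * algebraMap (Eu φ) L e := by
    intro p e
    rw [Algebra.smul_def, map_mul]
    rfl
  have hK : ∀ p, algebraMap (Eu φ) L (D p) = algebraMap A L (t ^ a) * (F₁ p - F₂ p) := by
    intro p
    induction p using MvPolynomial.induction_on with
    | C c =>
      have h1 : D (MvPolynomial.C c) = 0 := by
        rw [← MvPolynomial.algebraMap_eq]; exact D.map_algebraMap c
      have h2 : F₁ (MvPolynomial.C c) = F₂ (MvPolynomial.C c) := by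
        rw [← MvPolynomial.algebraMap_eq, AlgHom.commutes, AlgHom.commutes]
      rw [h1, h2, map_zero, sub_self, mul_zero]
    | add p q hp hq => rw [map_add, map_add, hp, hq, map_add, map_add]; ring
    | mul_X p j hp =>
      rw [Derivation.leibniz, map_add, hsmulE, hsmulE, hp]
      have h1 : D (MvPolynomial.X j) =
          y j - algebraMap A (Eu φ) (t ^ a) * (Ideal.Quotient.mk _ (MvPolynomial.X j) : Eu φ) :=
        MvPolynomial.mkDerivation_X _ _ _
      have h2 : algebraMap (Eu φ) L (D (MvPolynomial.X j)) =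
          algebraMap A L (t ^ a) * (F₁ (MvPolynomial.X j) - F₂ (MvPolynomial.X j)) := by
        rw [h1, map_sub, hy', map_mul, hEL, hF₂, mul_sub]
      rw [h2, map_mul, map_mul]
      have h3 : (F₁ p - F₂ p) * (F₁ (MvPolynomial.X j) - F₂ (MvPolynomial.X j)) = 0 :=
        gLoc_sq_zero t ht φ Bτ _ _ (hF p) (hF _)
      linear_combination (-(algebraMap A L (t ^ a))) * h3
  have hJ : ∀ p, φ.kerSquareLift (D p) = 0 := by
    intro p
    apply algebraMap_Bτ_injective t ht Bτ
    rw [← gLoc_algebraMap t φ Bτ, hK, map_mul, hF, mul_zero, map_zero]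
  -- vanishing on the kernel up to torsion
  have hV : ∀ f, φ f = 0 → ∃ c : ℕ,
      algebraMap A (Eu φ) (t ^ c) *
        (D f + algebraMap A (Eu φ) (t ^ a) * (Ideal.Quotient.mk _ f : Eu φ)) = 0 := by
    intro f hf
    have h1 : F₁ f = 0 := by
      change st (algebraMap B Bτ (φ f)) = 0
      rw [hf, map_zero, map_zero]
    have h2 : algebraMap (Eu φ) L
        (D f + algebraMap A (Eu φ) (t ^ a) * (Ideal.Quotient.mk _ f : Eu φ)) = 0 := by
      rw [map_add, hK, h1, zero_sub, map_mul, hEL, ← hF₂]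
      ring
    obtain ⟨⟨_, c, rfl⟩, hc⟩ :=
      (IsLocalization.map_eq_zero_iff (Submonoid.powers (algebraMap A (Eu φ) t)) L _).1 h2
    refine ⟨c, ?_⟩
    rw [map_pow]
    exact hc
  -- uniform exponent
  have hfg : (RingHom.ker φ.toRingHom).FG := IsNoetherian.noetherian _
  obtain ⟨S, hS⟩ := hfg
  have hSmem : ∀ s ∈ S, φ s = 0 := by
    intro s hs
    have : s ∈ RingHom.ker φ.toRingHom := by rw [← hS]; exact Ideal.subset_span hs
    exact this
  choose! cf hcf using hV
  let c : ℕ := S.sup cf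
  have hVc : ∀ f, φ f = 0 → algebraMap A (Eu φ) (t ^ c) *
      (D f + algebraMap A (Eu φ) (t ^ a) * (Ideal.Quotient.mk _ f : Eu φ)) = 0 := by
    intro f hf
    have hmem : f ∈ Ideal.span (S : Set (MvPolynomial (Fin r) A)) := by rw [hS]; exact hf
    refine Submodule.span_induction ?_ ?_ ?_ ?_ hmem
    · intro s hs
      have hle : cf s ≤ c := Finset.le_sup hs
      obtain ⟨d, hd⟩ := Nat.exists_eq_add_of_le hle
      rw [hd, pow_add, map_mul, mul_comm (algebraMap A (Eu φ) (t ^ cf s)), mul_assoc,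
        hcf s (hSmem s hs), mul_zero]
    · rw [map_zero, map_zero, mul_zero, add_zero, mul_zero]
    · intro x y _ _ hx hy
      have : algebraMap A (Eu φ) (t ^ c) * (D (x + y) + algebraMap A (Eu φ) (t ^ a) *
          (Ideal.Quotient.mk _ (x + y) : Eu φ)) =
          algebraMap A (Eu φ) (t ^ c) *
            (D x + algebraMap A (Eu φ) (t ^ a) * (Ideal.Quotient.mk _ x : Eu φ)) +
          algebraMap A (Eu φ) (t ^ c) *
            (D y + algebraMap A (Eu φ) (t ^ a) * (Ideal.Quotient.mk _ y : Eu φ)) := by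
        rw [map_add, map_add]; ring
      rw [this, hx, hy, add_zero]
    · intro p x hx hx'
      have hxk : φ x = 0 := by
        have : x ∈ RingHom.ker φ.toRingHom := by rw [← hS]; exact hx
        exact this
      rw [smul_eq_mul, Derivation.leibniz, map_mul]
      have h0 : x • D p = 0 := by
        rw [Algebra.smul_def]
        apply ker_sq_zero φ _ _ _ (hJ p)
        change φ.kerSquareLift (Ideal.Quotient.mk _ x) = 0
        rw [AlgHom.kerSquareLift_mk, hxk]
      rw [h0, add_zero, Algebra.smul_def p]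
      have e1 : algebraMap (MvPolynomial (Fin r) A) (Eu φ) p = Ideal.Quotient.mk _ p := rfl
      rw [e1]
      linear_combination (Ideal.Quotient.mk _ p : Eu φ) * hx'
  -- the quasi-section
  let σ : MvPolynomial (Fin r) A →ₗ[A] Eu φ :=
    t ^ c • (t ^ a • (Ideal.Quotient.mkₐ A (RingHom.ker φ.toRingHom ^ 2)).toLinearMap +
      D.toLinearMap)
  have hσ : ∀ p, σ p = algebraMap A (Eu φ) (t ^ c) *
      (algebraMap A (Eu φ) (t ^ a) * (Ideal.Quotient.mk _ p : Eu φ) + D p) := by
    intro p
    change t ^ c • (t ^ a • (Ideal.Quotient.mk _ p : Eu φ) + D p) = _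
    rw [Algebra.smul_def, Algebra.smul_def]
  have hN : algebraMap A (Eu φ) (t ^ (a + c)) =
      algebraMap A (Eu φ) (t ^ a) * algebraMap A (Eu φ) (t ^ c) := by
    rw [pow_add, map_mul]
  refine ⟨a + c, σ, ?_, ?_, ?_, ?_⟩
  · intro f hf
    rw [hσ, add_comm]
    exact hVc f hf
  · intro p
    rw [hσ, map_mul, map_add, map_mul, hJ, add_zero, AlgHom.kerSquareLift_mk, AlgHom.commutes,
      AlgHom.commutes, Algebra.smul_def, pow_add, map_mul]
    ring
  · intro p q
    rw [hσ, hσ, hσ, Derivation.leibniz, map_mul, Algebra.smul_def, hN, Algebra.smul_def,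
      Algebra.smul_def]
    have h0 : D p * D q = 0 := ker_sq_zero φ _ _ (hJ p) (hJ q)
    have e1 : algebraMap (MvPolynomial (Fin r) A) (Eu φ) p = Ideal.Quotient.mk _ p := rfl
    have e2 : algebraMap (MvPolynomial (Fin r) A) (Eu φ) q = Ideal.Quotient.mk _ q := rfl
    rw [e1, e2]
    linear_combination (algebraMap A (Eu φ) (t ^ c) * algebraMap A (Eu φ) (t ^ c)) * h0
  · rw [hσ, Derivation.map_one_eq_zero, add_zero, map_one, mul_one, Algebra.smul_def, mul_one, hN,
      mul_comm]

end universal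

section general

variable {A : Type u} [CommRing A] [IsDomain A] [IsNoetherianRing A] {B : Type u} [CommRing B]
  [Algebra A B] [Module.Flat A B] [Algebra.FiniteType A B]

/-- **uniform quasi-sections from generic smoothness.** -/
theorem exists_quasi_section (t : A) (ht : t ≠ 0) (Bτ : Type u) [CommRing Bτ] [Algebra B Bτ]
    [Algebra A Bτ] [IsScalarTower A B Bτ] [IsLocalization.Away (algebraMap A B t) Bτ]
    [Algebra.FormallySmooth A Bτ] :
    ∃ N : ℕ, ∀ (C E : Type u) [CommRing C] [Algebra A C] [CommRing E] [Algebra A E]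
      (ψ : B →ₐ[A] C) (p : E →ₐ[A] C) (hp : Function.Surjective p)
      (hsq : ∀ x y, p x = 0 → p y = 0 → x * y = 0),
      ∃ σ : B →ₗ[A] E, (∀ b, p (σ b) = t ^ N • ψ b) ∧
        (∀ b b', σ b * σ b' = t ^ N • σ (b * b')) ∧ σ 1 = t ^ N • (1 : E) := by
  obtain ⟨r, φ, hφ⟩ := Algebra.FiniteType.iff_quotient_mvPolynomial''.1
    (inferInstance : Algebra.FiniteType A B)
  obtain ⟨N, σu, h1, h2, h3, h4⟩ := exists_universal t ht φ hφ Bτ
  refine ⟨N, ?_⟩
  intro C E _ _ _ _ ψ p hp hsq
  -- a lift of the presentation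
  choose e he using fun j : Fin r => hp (ψ (φ (MvPolynomial.X j)))
  let gE : MvPolynomial (Fin r) A →ₐ[A] E := MvPolynomial.aeval e
  have hgE : ∀ x, p (gE x) = ψ (φ x) := by
    intro x
    have : p.comp gE = ψ.comp φ := by
      apply MvPolynomial.algHom_ext
      intro j
      change p (MvPolynomial.aeval e (MvPolynomial.X j)) = ψ (φ (MvPolynomial.X j))
      rw [MvPolynomial.aeval_X, he]
    exact DFunLike.congr_fun this x
  have hker : ∀ x ∈ RingHom.ker φ.toRingHom ^ 2, gE x = 0 := by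
    intro x hx
    have hpow : ∀ K : Ideal (MvPolynomial (Fin r) A), K ^ 2 = K * K := fun K => pow_two K
    rw [hpow] at hx
    refine Submodule.mul_induction_on hx ?_ ?_
    · intro a ha b hb
      rw [map_mul]
      apply hsq
      · have : φ a = 0 := ha
        rw [hgE, this, map_zero]
      · have : φ b = 0 := hb
        rw [hgE, this, map_zero]
    · intro a b ha hb
      rw [map_add, ha, hb, add_zero]
  let gbar : Eu φ →ₐ[A] E := Ideal.Quotient.liftₐ (RingHom.ker φ.toRingHom ^ 2) gE hker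
  have hgbar : ∀ x, gbar (Ideal.Quotient.mk _ x) = gE x := fun x => rfl
  have hpg : ∀ z : Eu φ, p (gbar z) = ψ (φ.kerSquareLift z) := by
    intro z
    obtain ⟨x, rfl⟩ := Ideal.Quotient.mk_surjective z
    rw [hgbar, hgE, AlgHom.kerSquareLift_mk]
  -- descend to `B`
  let σP : MvPolynomial (Fin r) A →ₗ[A] E := gbar.toLinearMap ∘ₗ σu
  have hσP : ∀ f, φ f = 0 → σP f = 0 := fun f hf => by
    change gbar (σu f) = 0
    rw [h1 f hf, map_zero]
  let φl : MvPolynomial (Fin r) A →ₗ[A] B := φ.toLinearMap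
  have hφl : Function.Surjective φl := hφ
  have hle : LinearMap.ker φl ≤ LinearMap.ker σP := fun f hf => hσP f hf
  let σ : B →ₗ[A] E :=
    (Submodule.liftQ (LinearMap.ker φl) σP hle) ∘ₗ
      (φl.quotKerEquivOfSurjective hφl).symm.toLinearMap
  have hσ : ∀ x, σ (φ x) = gbar (σu x) := by
    intro x
    change Submodule.liftQ _ σP hle ((φl.quotKerEquivOfSurjective hφl).symm (φl x)) = _
    rw [LinearMap.quotKerEquivOfSurjective_symm_apply, Submodule.liftQ_apply]
    rfl
  refine ⟨σ, ?_, ?_, ?_⟩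
  · intro b
    obtain ⟨x, rfl⟩ := hφ b
    rw [hσ, hpg, h2, map_smul]
  · intro b b'
    obtain ⟨x, rfl⟩ := hφ b
    obtain ⟨x', rfl⟩ := hφ b'
    rw [← map_mul φ, hσ, hσ, hσ, ← map_mul gbar, h3, map_smul]
  · have : (1 : B) = φ 1 := (map_one φ).symm
    rw [this, hσ, h4, map_smul, map_one]

end general

end Groth.Agent.Lib.LeadRigSmA
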