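import Mathlib
import Groth.Prelude.Def_CotT
import Groth.Agent.Lib.LeadTrivDef
import Groth.Agent.Lib.Helper19ExalT1D
import Groth.Agent.Lib.Helper7ExalBaer

/-!
# Auxiliary facts for "rigid singularities are not smoothable" (lead)

* `isTrivial_of_T1`: `T¹(B₀/k, B₀) = 0` (choice-free presentation) ⟹ every extension of `B₀` by `B₀`
  is trivial.
* `bijective_algebraMap_quot`: Nullstellensatz form.
* the quotient `A ⧸ (t^n)` for `(t)` maximal is local Artinian.
* `exists_algEquiv_of_section`: trivialization of a flat deformation from a section.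
-/

set_option autoImplicit false
set_option maxHeartbeats 400000
set_option linter.style.haveILetI false
set_option linter.unusedSectionVars false
set_option linter.unusedVariables false

universe u

open TensorProduct

namespace Groth.Agent.Lib.LeadRigSmB

section rigid

theorem isTrivial_of_T1 {k B₀ : Type u} [Field k] [CommRing B₀] [Algebra k B₀]
    (hrigid : Subsingleton (CotT.T1 (CotT.canon k B₀) B₀)) :
    ∀ E : Exal.Ext k B₀ B₀, E.IsTrivial := by
  intro E
  obtain ⟨e, -⟩ := Groth.Agent.Lib.Helper19.ExalT1.exists_equiv_T1 k B₀ (CotT.canon k B₀) B₀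
  haveI : Subsingleton (Exal.Exalcom k B₀ B₀) := e.subsingleton
  have h : E.cl = (Exal.Ext.trivial k B₀ B₀).cl := Subsingleton.elim _ _
  obtain ⟨eq⟩ := Quotient.exact h
  exact Groth.Agent.Lib.Helper7.ExalLib.isTrivial_of_equiv eq
    (Groth.Agent.Lib.Helper7.ExalLib.trivial_isTrivial k B₀ B₀)

end rigid

section nss

theorem bijective_algebraMap_quot (k A : Type u) [Field k] [IsAlgClosed k] [CommRing A]
    [Algebra k A] [Algebra.FiniteType k A] (m : Ideal A) [hm : m.IsMaximal] :
    Function.Bijective (algebraMap k (A ⧸ m)) := by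
  letI : Field (A ⧸ m) := Ideal.Quotient.field m
  haveI : Algebra.FiniteType k (A ⧸ m) :=
    Algebra.FiniteType.of_surjective (Ideal.Quotient.mkₐ k m) Ideal.Quotient.mk_surjective
  haveI : Module.Finite k (A ⧸ m) := finite_of_finite_type_of_isJacobsonRing k (A ⧸ m)
  haveI : Algebra.IsIntegral k (A ⧸ m) := inferInstance
  exact IsAlgClosed.algebraMap_bijective_of_isIntegral

end nss

section quot

variable {A : Type u} [CommRing A] (t : A) (ht : (Ideal.span {t}).IsMaximal) (n : ℕ)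

include ht in
theorem span_pow_ne_top (hn : 0 < n) : Ideal.span {t ^ n} ≠ ⊤ := by
  intro h
  have hle : Ideal.span {t ^ n} ≤ Ideal.span {t} := by
    rw [Ideal.span_singleton_le_iff_mem]
    exact Ideal.pow_mem_of_mem _ (Ideal.mem_span_singleton_self t) n hn
  exact ht.ne_top (top_le_iff.1 (h ▸ hle))

include ht in
theorem prime_eq_map (𝔭 : Ideal (A ⧸ Ideal.span {t ^ n})) [h𝔭 : 𝔭.IsPrime] :
    𝔭 = (Ideal.span {t}).map (Ideal.Quotient.mk (Ideal.span {t ^ n})) := by
  have hsurj : Function.Surjective (Ideal.Quotient.mk (Ideal.span {t ^ n})) :=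
    Ideal.Quotient.mk_surjective
  have hq : (𝔭.comap (Ideal.Quotient.mk (Ideal.span {t ^ n}))).IsPrime := Ideal.comap_isPrime _ _
  have h1 : t ^ n ∈ 𝔭.comap (Ideal.Quotient.mk (Ideal.span {t ^ n})) := by
    rw [Ideal.mem_comap]
    have : Ideal.Quotient.mk (Ideal.span {t ^ n}) (t ^ n) = 0 :=
      Ideal.Quotient.eq_zero_iff_mem.2 (Ideal.mem_span_singleton_self _)
    rw [this]
    exact zero_mem _
  have h2 : t ∈ 𝔭.comap (Ideal.Quotient.mk (Ideal.span {t ^ n})) := hq.mem_of_pow_mem n h1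
  have h3 : Ideal.span {t} ≤ 𝔭.comap (Ideal.Quotient.mk (Ideal.span {t ^ n})) := by
    rw [Ideal.span_singleton_le_iff_mem]; exact h2
  have h4 : Ideal.span {t} = 𝔭.comap (Ideal.Quotient.mk (Ideal.span {t ^ n})) :=
    ht.eq_of_le hq.ne_top h3
  rw [h4, Ideal.map_comap_of_surjective _ hsurj]

include ht in
theorem isMaximal_map (hn : 0 < n) :
    ((Ideal.span {t}).map (Ideal.Quotient.mk (Ideal.span {t ^ n}))).IsMaximal := by
  haveI : Nontrivial (A ⧸ Ideal.span {t ^ n}) :=
    Ideal.Quotient.nontrivial_iff.2 (span_pow_ne_top t ht n hn)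
  obtain ⟨M, hM⟩ := Ideal.exists_maximal (A ⧸ Ideal.span {t ^ n})
  haveI := hM.isPrime
  rw [← prime_eq_map t ht n M]
  exact hM

include ht in
theorem isLocalRing_quot (hn : 0 < n) : IsLocalRing (A ⧸ Ideal.span {t ^ n}) := by
  refine IsLocalRing.of_unique_max_ideal ⟨_, isMaximal_map t ht n hn, ?_⟩
  intro M hM
  haveI := hM.isPrime
  exact prime_eq_map t ht n M

include ht in
theorem isArtinianRing_quot [IsNoetherianRing A] (hn : 0 < n) :
    IsArtinianRing (A ⧸ Ideal.span {t ^ n}) := by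
  rw [isArtinianRing_iff_krullDimLE_zero]
  refine Ring.KrullDimLE.mk₀ fun I hI => ?_
  haveI := hI
  rw [prime_eq_map t ht n I]
  exact isMaximal_map t ht n hn

include ht in
theorem maximalIdeal_quot [IsLocalRing (A ⧸ Ideal.span {t ^ n})] :
    IsLocalRing.maximalIdeal (A ⧸ Ideal.span {t ^ n}) =
      Ideal.span {Ideal.Quotient.mk (Ideal.span {t ^ n}) t} := by
  rw [prime_eq_map t ht n (IsLocalRing.maximalIdeal _), Ideal.map_span, Set.image_singleton]

end quot

section triv

variable {k A B' B₀ : Type u} [Field k] [CommRing A] [Algebra k A] [CommRing B'] [Algebra A B']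
  [Algebra k B'] [IsScalarTower k A B'] [CommRing B₀] [Algebra k B₀]

open Groth.Agent.Lib.LeadTrivDef

/-- **Trivialization of a flat deformation from a section.** -/
theorem exists_algEquiv_of_section (e : A →ₐ[k] k) (hnil : IsNilpotent (RingHom.ker e))
    [Module.Flat A B'] (π : B' →ₐ[k] B₀)
    (hπA : ∀ (a : A) (b : B'), π (a • b) = e a • π b)
    (hker : ∀ b : B', π b = 0 → b ∈ (RingHom.ker e) • (⊤ : Submodule A B'))
    (s : B₀ →ₐ[k] B') (hs : ∀ b₀, π (s b₀) = b₀) :
    ∃ ψ : A ⊗[k] B₀ ≃ₐ[A] B', ∀ (a : A) (b₀ : B₀), ψ (a ⊗ₜ[k] b₀) = a • s b₀ := by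
  have hkerπ : ∀ b : B', b ∈ (RingHom.ker e) • (⊤ : Submodule A B') → π b = 0 := by
    intro b hb
    refine Submodule.smul_induction_on hb ?_ ?_
    · intro a ha b' _
      rw [hπA, RingHom.mem_ker.mp ha, zero_smul]
    · intro x y hx hy
      rw [map_add, hx, hy, add_zero]
  let ψ₀ : A ⊗[k] B₀ →ₐ[A] B' :=
    Algebra.TensorProduct.lift (Algebra.ofId A B') s (fun _ _ => Commute.all _ _)
  have hψ₀ : ∀ (a : A) (b₀ : B₀), ψ₀ (a ⊗ₜ[k] b₀) = a • s b₀ := by
    intro a b₀
    rw [Algebra.TensorProduct.lift_tmul, Algebra.ofId_apply, Algebra.smul_def]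
  have hπψ : ∀ z : A ⊗[k] B₀, π (ψ₀ z) = augTensor e z := by
    intro z
    induction z using TensorProduct.induction_on with
    | zero => rw [map_zero, map_zero, map_zero]
    | add x y hx hy => rw [map_add, map_add, map_add, hx, hy]
    | tmul a b₀ => rw [hψ₀, hπA, hs, augTensor_tmul]
  haveI : Module.Flat A (A ⊗[k] B₀) := inferInstance
  have hbij : Function.Bijective ψ₀.toLinearMap := by
    refine bijective_of_flat_of_nilpotent (RingHom.ker e) hnil ψ₀.toLinearMap ?_ ?_
    · intro b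
      refine ⟨(1 : A) ⊗ₜ[k] π b, hker _ ?_⟩
      rw [map_sub, AlgHom.toLinearMap_apply, hψ₀, one_smul, hs, sub_self]
    · intro z hz
      refine mem_smul_top_of_augmentation e z ?_
      rw [← hπψ]
      exact hkerπ _ hz
  have hbij' : Function.Bijective ψ₀ := hbij
  refine ⟨AlgEquiv.ofBijective ψ₀ hbij', fun a b₀ => ?_⟩
  have h1 : (AlgEquiv.ofBijective ψ₀ hbij') (a ⊗ₜ[k] b₀) = ψ₀ (a ⊗ₜ[k] b₀) := rfl
  rw [h1, hψ₀]

end triv

end Groth.Agent.Lib.LeadRigSmB
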