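import Mathlib

/-!
# From a `τ^N`-quasi-section over `Λ ⊗ E₀` to a genuine section (lead)

`E₀ → B₀` a square-zero extension of `k`-algebras, `Λ` a `k`-algebra, `τ ∈ Λ` with `τ^(2N) ≠ 0`.
A `k`-linear map `σ₀ : B₀ → Λ ⊗ E₀` lifting `b ↦ τ^N ⊗ b` with `σ₀ b * σ₀ b' = τ^N σ₀ (b b')` and
`σ₀ 1 = τ^N` yields a `k`-algebra section of `E₀ → B₀`.
-/

set_option autoImplicit false
set_option maxHeartbeats 400000
set_option linter.style.haveILetI false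
set_option linter.unusedSectionVars false
set_option linter.unusedVariables false

universe u

open TensorProduct

namespace Groth.Agent.Lib.LeadRigSmC

variable {k : Type u} [Field k] {Λ : Type u} [CommRing Λ] [Algebra k Λ]
  {E₀ B₀ : Type u} [CommRing E₀] [Algebra k E₀] [CommRing B₀] [Algebra k B₀]

/-- contraction of the first factor with a functional. -/
noncomputable def cE (c : Λ →ₗ[k] k) (E : Type u) [CommRing E] [Algebra k E] :
    Λ ⊗[k] E →ₗ[k] E :=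
  (TensorProduct.lid k E).toLinearMap ∘ₗ (LinearMap.rTensor E c)

theorem cE_tmul (c : Λ →ₗ[k] k) (l : Λ) (e : E₀) : cE c E₀ (l ⊗ₜ[k] e) = c l • e := by
  unfold cE
  rw [LinearMap.comp_apply, LinearMap.rTensor_tmul, LinearEquiv.coe_coe, TensorProduct.lid_tmul]

theorem cE_mul_left (c : Λ →ₗ[k] k) (e : E₀) (z : Λ ⊗[k] E₀) :
    cE c E₀ (((1 : Λ) ⊗ₜ[k] e) * z) = e * cE c E₀ z := by
  induction z using TensorProduct.induction_on with
  | zero => rw [mul_zero, map_zero, mul_zero]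
  | add x y hx hy => rw [mul_add, map_add, hx, hy, map_add, mul_add]
  | tmul l e' =>
    rw [Algebra.TensorProduct.tmul_mul_tmul, one_mul, cE_tmul, cE_tmul, mul_smul_comm]

theorem cE_natural (c : Λ →ₗ[k] k) (pr₀ : E₀ →ₐ[k] B₀) (z : Λ ⊗[k] E₀) :
    pr₀ (cE c E₀ z) = cE c B₀ (Algebra.TensorProduct.map (AlgHom.id k Λ) pr₀ z) := by
  induction z using TensorProduct.induction_on with
  | zero => rw [map_zero, map_zero, map_zero, map_zero]
  | add x y hx hy => rw [map_add, map_add, hx, hy, map_add, map_add]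
  | tmul l e =>
    rw [Algebra.TensorProduct.map_tmul, cE_tmul, cE_tmul, map_smul, AlgHom.id_apply]

/-- the base change of a square-zero extension is square-zero. -/
theorem sq_zero_tensor (pr₀ : E₀ →ₐ[k] B₀) (hpr : Function.Surjective pr₀)
    (hsq : ∀ x y, pr₀ x = 0 → pr₀ y = 0 → x * y = 0) (x y : Λ ⊗[k] E₀)
    (hx : Algebra.TensorProduct.map (AlgHom.id k Λ) pr₀ x = 0)
    (hy : Algebra.TensorProduct.map (AlgHom.id k Λ) pr₀ y = 0) : x * y = 0 := by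
  have hmap : ∀ z : Λ ⊗[k] E₀, Algebra.TensorProduct.map (AlgHom.id k Λ) pr₀ z =
      LinearMap.lTensor Λ pr₀.toLinearMap z := by
    intro z
    induction z using TensorProduct.induction_on with
    | zero => rw [map_zero, map_zero]
    | add x y hx hy => rw [map_add, map_add, hx, hy]
    | tmul l e => rw [Algebra.TensorProduct.map_tmul, LinearMap.lTensor_tmul]; rfl
  have hex : Function.Exact (LinearMap.ker pr₀.toLinearMap).subtype pr₀.toLinearMap :=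
    LinearMap.exact_subtype_ker_map _
  have hex' := lTensor_exact Λ hex hpr
  rw [hmap] at hx hy
  obtain ⟨x', rfl⟩ := (hex' x).1 hx
  obtain ⟨y', rfl⟩ := (hex' y).1 hy
  clear hx hy
  induction x' using TensorProduct.induction_on with
  | zero => rw [map_zero, zero_mul]
  | add a b ha hb => rw [map_add, add_mul, ha, hb, add_zero]
  | tmul l m =>
    induction y' using TensorProduct.induction_on with
    | zero => rw [map_zero, mul_zero]
    | add a b ha hb => rw [map_add, mul_add, ha, hb, add_zero]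
    | tmul l' m' =>
      rw [LinearMap.lTensor_tmul, LinearMap.lTensor_tmul, Algebra.TensorProduct.tmul_mul_tmul]
      have : (m : E₀) * (m' : E₀) = 0 := hsq _ _ m.2 m'.2
      rw [Submodule.subtype_apply, Submodule.subtype_apply, this, TensorProduct.tmul_zero]

theorem exists_section_of_quasi (pr₀ : E₀ →ₐ[k] B₀) (hpr : Function.Surjective pr₀)
    (hsq : ∀ x y, pr₀ x = 0 → pr₀ y = 0 → x * y = 0)
    (τ : Λ) (N : ℕ) (hτ : τ ^ (2 * N) ≠ 0)
    (σ₀ : B₀ → Λ ⊗[k] E₀)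
    (hadd : ∀ b b', σ₀ (b + b') = σ₀ b + σ₀ b')
    (hsmul : ∀ (a : k) b, σ₀ (a • b) = a • σ₀ b)
    (h1 : ∀ b, Algebra.TensorProduct.map (AlgHom.id k Λ) pr₀ (σ₀ b) = (τ ^ N) ⊗ₜ[k] b)
    (h2 : ∀ b b', σ₀ b * σ₀ b' = ((τ ^ N) ⊗ₜ[k] (1 : E₀)) * σ₀ (b * b'))
    (h3 : σ₀ 1 = (τ ^ N) ⊗ₜ[k] (1 : E₀)) :
    ∃ s : B₀ →ₐ[k] E₀, ∀ b, pr₀ (s b) = b := by
  classical
  -- the functional
  obtain ⟨f, hf, -⟩ := Submodule.exists_dual_map_eq_bot_of_notMem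
    (p := (⊥ : Submodule k Λ)) (x := τ ^ (2 * N)) (by simpa using hτ) inferInstance
  let c : Λ →ₗ[k] k := (f (τ ^ (2 * N)))⁻¹ • f
  have hc : c (τ ^ (2 * N)) = 1 := by
    change (f (τ ^ (2 * N)))⁻¹ • f (τ ^ (2 * N)) = 1
    rw [smul_eq_mul, inv_mul_cancel₀ hf]
  let T : Λ ⊗[k] E₀ := (τ ^ N) ⊗ₜ[k] (1 : E₀)
  have hTT : ∀ e : E₀, T * (T * ((1 : Λ) ⊗ₜ[k] e)) = (τ ^ (2 * N)) ⊗ₜ[k] e := by
    intro e
    change ((τ ^ N) ⊗ₜ[k] (1 : E₀)) * (((τ ^ N) ⊗ₜ[k] (1 : E₀)) * ((1 : Λ) ⊗ₜ[k] e)) = _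
    rw [Algebra.TensorProduct.tmul_mul_tmul, Algebra.TensorProduct.tmul_mul_tmul, mul_one,
      one_mul, one_mul, ← pow_add, two_mul]
  let P := Algebra.TensorProduct.map (AlgHom.id k Λ) pr₀
  have hPT : ∀ z, P (T * z) = ((τ ^ N) ⊗ₜ[k] (1 : B₀)) * P z := by
    intro z
    change P (((τ ^ N) ⊗ₜ[k] (1 : E₀)) * z) = _
    rw [map_mul]
    congr 1
    change Algebra.TensorProduct.map (AlgHom.id k Λ) pr₀ ((τ ^ N) ⊗ₜ[k] (1 : E₀)) = _
    rw [Algebra.TensorProduct.map_tmul, map_one, AlgHom.id_apply]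
  -- the candidate section
  let s₀ : B₀ → E₀ := fun b => cE c E₀ (T * σ₀ b)
  -- decomposition
  have hdec : ∀ b : B₀, ∀ e : E₀, pr₀ e = b →
      ∃ μ : Λ ⊗[k] E₀, P μ = 0 ∧ σ₀ b = T * ((1 : Λ) ⊗ₜ[k] e) + μ := by
    intro b e he
    refine ⟨σ₀ b - T * ((1 : Λ) ⊗ₜ[k] e), ?_, by ring⟩
    rw [map_sub, hPT]
    change P (σ₀ b) - _ * Algebra.TensorProduct.map (AlgHom.id k Λ) pr₀ ((1 : Λ) ⊗ₜ[k] e) = 0
    rw [Algebra.TensorProduct.map_tmul, AlgHom.id_apply, he, Algebra.TensorProduct.tmul_mul_tmul,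
      mul_one, one_mul]
    exact sub_eq_zero.2 (h1 b)
  have hs₀dec : ∀ b e μ, P μ = 0 → σ₀ b = T * ((1 : Λ) ⊗ₜ[k] e) + μ →
      s₀ b = e + cE c E₀ (T * μ) := by
    intro b e μ hμ hb
    change cE c E₀ (T * σ₀ b) = _
    rw [hb, mul_add, map_add, hTT, cE_tmul, hc, one_smul]
  have hker : ∀ μ, P μ = 0 → pr₀ (cE c E₀ (T * μ)) = 0 := by
    intro μ hμ
    rw [cE_natural]
    change cE c B₀ (P (T * μ)) = 0
    rw [hPT, hμ, mul_zero, map_zero]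
  have hsec : ∀ b, pr₀ (s₀ b) = b := by
    intro b
    obtain ⟨e, he⟩ := hpr b
    obtain ⟨μ, hμ, hb⟩ := hdec b e he
    rw [hs₀dec b e μ hμ hb, map_add, hker μ hμ, add_zero, he]
  have hmul : ∀ b b', s₀ (b * b') = s₀ b * s₀ b' := by
    intro b b'
    obtain ⟨e, he⟩ := hpr b
    obtain ⟨e', he'⟩ := hpr b'
    obtain ⟨μ, hμ, hb⟩ := hdec b e he
    obtain ⟨μ', hμ', hb'⟩ := hdec b' e' he'
    rw [hs₀dec b e μ hμ hb, hs₀dec b' e' μ' hμ' hb']
    have hmm : cE c E₀ (T * μ) * cE c E₀ (T * μ') = 0 := hsq _ _ (hker μ hμ) (hker μ' hμ')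
    have hμμ : μ * μ' = 0 := sq_zero_tensor pr₀ hpr hsq μ μ' hμ hμ'
    change cE c E₀ (T * σ₀ (b * b')) = _
    rw [← h2, hb, hb']
    have hexp : (T * ((1 : Λ) ⊗ₜ[k] e) + μ) * (T * ((1 : Λ) ⊗ₜ[k] e') + μ') =
        T * (T * ((1 : Λ) ⊗ₜ[k] (e * e'))) + ((1 : Λ) ⊗ₜ[k] e) * (T * μ') +
          ((1 : Λ) ⊗ₜ[k] e') * (T * μ) + μ * μ' := by
      have : ((1 : Λ) ⊗ₜ[k] (e * e') : Λ ⊗[k] E₀) = ((1 : Λ) ⊗ₜ[k] e) * ((1 : Λ) ⊗ₜ[k] e') := by
        rw [Algebra.TensorProduct.tmul_mul_tmul, one_mul]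
      rw [this]
      ring
    rw [hexp, hμμ, add_zero, map_add, map_add, hTT, cE_tmul, hc, one_smul, cE_mul_left,
      cE_mul_left]
    rw [add_mul, mul_add, mul_add, hmm, add_zero]
    ring
  have hone : s₀ 1 = 1 := by
    change cE c E₀ (T * σ₀ 1) = 1
    rw [h3]
    have : T * ((τ ^ N) ⊗ₜ[k] (1 : E₀)) = (τ ^ (2 * N)) ⊗ₜ[k] (1 : E₀) := by
      change ((τ ^ N) ⊗ₜ[k] (1 : E₀)) * ((τ ^ N) ⊗ₜ[k] (1 : E₀)) = _
      rw [Algebra.TensorProduct.tmul_mul_tmul, mul_one, ← pow_add, two_mul]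
    rw [this, cE_tmul, hc, one_smul]
  let sl : B₀ →ₗ[k] E₀ :=
    { toFun := s₀
      map_add' := fun b b' => by
        change cE c E₀ (T * σ₀ (b + b')) = cE c E₀ (T * σ₀ b) + cE c E₀ (T * σ₀ b')
        rw [hadd, mul_add, map_add]
      map_smul' := fun a b => by
        change cE c E₀ (T * σ₀ (a • b)) = a • cE c E₀ (T * σ₀ b)
        rw [hsmul, mul_smul_comm, map_smul] }
  exact ⟨AlgHom.ofLinearMap sl hone hmul, hsec⟩

end Groth.Agent.Lib.LeadRigSmC
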