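import Mathlib
import Groth.Prelude.Def_Exal
import Groth.Agent.Lib.LeadGlobArt

/-!
# Rigidity of affine schemes with `T¹ = 0` (for S12263), ring level

`B₀` a `k`-algebra such that every `k`-algebra extension of `B₀` by `B₀` is trivial.
If `A` is a local Artinian `k`-algebra, `B'` a flat `A`-algebra and `π : B' → B₀` a surjection of
`k`-algebras with kernel `𝔪_A B'`, then `π` has a `k`-algebra section (`exists_section_of_T1`).
-/

set_option autoImplicit false
set_option maxHeartbeats 400000
set_option linter.style.haveILetI false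
set_option linter.unusedSectionVars false
set_option linter.unusedVariables false

universe u

open TensorProduct

namespace Groth.Agent.Lib.LeadRigid

open Groth.Agent.Lib.LeadGlobArt

section step

variable {k A B' B₀ : Type u} [Field k] [CommRing A] [Algebra k A] [CommRing B'] [Algebra A B']
  [Algebra k B'] [IsScalarTower k A B'] [CommRing B₀] [Algebra k B₀]

/-- **one step**: lifting a section along the square-zero extension `B' → B'/tB'` (`𝔪 t = 0`). -/
theorem exists_section_step [Module.Flat A B'] (hT : ∀ E : Exal.Ext k B₀ B₀, E.IsTrivial)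
    (𝔪 : Ideal A) (π : B' →ₐ[k] B₀) (hπ : Function.Surjective π)
    (hkerπ : ∀ b, π b = 0 ↔ b ∈ 𝔪.map (algebraMap A B'))
    (t : A) (ht : ∀ a ∈ 𝔪, a * t = 0) (hcolon : ∀ c : A, c * t = 0 → c ∈ 𝔪)
    (πbar : (B' ⧸ (Ideal.span {t}).map (algebraMap A B')) →ₐ[k] B₀)
    (hπbar : ∀ b', πbar (Ideal.Quotient.mk _ b') = π b')
    (sbar : B₀ →ₐ[k] B' ⧸ (Ideal.span {t}).map (algebraMap A B'))
    (hsbar : ∀ b, πbar (sbar b) = b) :
    ∃ s : B₀ →ₐ[k] B', ∀ b, π (s b) = b := by
  obtain ⟨T, hTdef⟩ : ∃ T : B', T = algebraMap A B' t := ⟨_, rfl⟩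
  have hI : (Ideal.span {t}).map (algebraMap A B') = Ideal.span {T} := by
    rw [Ideal.map_span, Set.image_singleton, hTdef]
  -- `T` kills `𝔪B' = ker π`
  have hTker : ∀ x : B', π x = 0 → T * x = 0 := by
    intro x hx
    have hx' := (hkerπ x).mp hx
    have hle : 𝔪.map (algebraMap A B') ≤ (Ideal.span {T}).annihilator := by
      rw [Ideal.map_le_iff_le_comap]
      intro a ha
      rw [Ideal.mem_comap, Submodule.mem_annihilator_span_singleton, smul_eq_mul, hTdef,
        ← map_mul, ht a ha, map_zero]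
    have := hle hx'
    rw [Submodule.mem_annihilator_span_singleton, smul_eq_mul] at this
    rw [mul_comm]
    exact this
  have hTeq : ∀ x y : B', π x = π y → T * x = T * y := by
    intro x y hxy
    have := hTker (x - y) (by rw [map_sub, hxy, sub_self])
    rw [mul_sub, sub_eq_zero] at this
    exact this
  -- injectivity: `T * x = 0 → π x = 0`
  have hTinj : ∀ x : B', T * x = 0 → π x = 0 := by
    intro x hx
    have h1 : t • x ∈ (⊥ : Ideal A) • (⊤ : Submodule A B') := by
      have h0 : t • x = 0 := by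
        rw [Algebra.smul_def, ← hTdef]
        exact hx
      rw [h0]
      exact zero_mem _
    have h2 := mem_smul_top_of_smul_mem (⊥ : Ideal A) t x h1
    have hK : (Submodule.comap (LinearMap.mulRight A t) (⊥ : Ideal A) : Ideal A) ≤ 𝔪 := by
      intro c hc
      rw [Submodule.mem_comap, LinearMap.mulRight_apply] at hc
      exact hcolon c ((Submodule.mem_bot A).mp hc)
    have h3 : x ∈ 𝔪 • (⊤ : Submodule A B') := Submodule.smul_mono hK le_rfl h2
    rw [Ideal.smul_top_eq_map] at h3
    exact (hkerπ x).mpr h3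
  -- multiplication by `T` through `π`
  obtain ⟨μf, hμf⟩ : ∃ μf : B₀ → B', ∀ z, μf z = T * Function.surjInv hπ z := ⟨_, fun _ => rfl⟩
  have hμπ : ∀ x : B', μf (π x) = T * x := fun x => by
    rw [hμf]
    exact hTeq _ _ (Function.surjInv_eq hπ (π x))
  have hμ_add : ∀ a b, μf (a + b) = μf a + μf b := by
    intro a b
    obtain ⟨x, rfl⟩ := hπ a
    obtain ⟨y, rfl⟩ := hπ b
    rw [← map_add, hμπ, hμπ, hμπ, mul_add]
  -- the pulled back extension
  let φ₁ : B' × B₀ →ₐ[k] B' ⧸ (Ideal.span {t}).map (algebraMap A B') :=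
    (Ideal.Quotient.mkₐ k _).comp (AlgHom.fst k B' B₀)
  let φ₂ : B' × B₀ →ₐ[k] B' ⧸ (Ideal.span {t}).map (algebraMap A B') :=
    sbar.comp (AlgHom.snd k B' B₀)
  let E : Subalgebra k (B' × B₀) := AlgHom.equalizer φ₁ φ₂
  have hEmem : ∀ x : B' × B₀, x ∈ E ↔
      Ideal.Quotient.mk ((Ideal.span {t}).map (algebraMap A B')) x.1 = sbar x.2 := fun x => Iff.rfl
  have hEπ : ∀ x : B' × B₀, x ∈ E → π x.1 = x.2 := by
    intro x hx
    rw [← hπbar, (hEmem x).mp hx, hsbar]
  have hμmem : ∀ z : B₀, (μf z, (0 : B₀)) ∈ E := by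
    intro z
    rw [hEmem]
    change Ideal.Quotient.mk _ (μf z) = sbar 0
    rw [map_zero, Ideal.Quotient.eq_zero_iff_mem, hI, hμf]
    exact Ideal.mem_span_singleton'.mpr ⟨Function.surjInv hπ z, mul_comm _ _⟩
  let incl : B₀ →+ E := AddMonoidHom.mk' (fun z => ⟨(μf z, 0), hμmem z⟩) (by
    intro a b
    apply Subtype.ext
    change (μf (a + b), (0 : B₀)) = (μf a, 0) + (μf b, 0)
    rw [hμ_add, Prod.mk_add_mk, add_zero])
  let proj : E →ₐ[k] B₀ := (AlgHom.snd k B' B₀).comp E.val
  have hproj : ∀ x : E, proj x = x.1.2 := fun x => rfl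
  have hincl : ∀ z, (incl z).1 = (μf z, 0) := fun z => rfl
  have hext : Exal.IsExtension proj incl := by
    refine ⟨?_, ?_, ?_, ?_⟩
    · intro b₀
      obtain ⟨b', hb'⟩ := Ideal.Quotient.mk_surjective (sbar b₀)
      exact ⟨⟨(b', b₀), (hEmem _).mpr hb'⟩, rfl⟩
    · rw [injective_iff_map_eq_zero]
      intro z hz
      have h1 : μf z = 0 := congrArg (fun x : E => x.1.1) hz
      obtain ⟨x, rfl⟩ := hπ z
      rw [hμπ] at h1
      exact hTinj x h1
    · intro x
      constructor
      · intro hx
        have hx2 : x.1.2 = 0 := hx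
        have hx1 : Ideal.Quotient.mk ((Ideal.span {t}).map (algebraMap A B')) x.1.1 = 0 := by
          rw [(hEmem x.1).mp x.2, hx2, map_zero]
        rw [Ideal.Quotient.eq_zero_iff_mem, hI] at hx1
        obtain ⟨c, hc⟩ := Ideal.mem_span_singleton'.mp hx1
        refine ⟨π c, ?_⟩
        apply Subtype.ext
        rw [hincl, hμπ]
        apply Prod.ext
        · change T * c = x.1.1
          rw [← hc, mul_comm]
        · exact hx2.symm
      · rintro ⟨z, rfl⟩
        rfl
    · intro x z
      apply Subtype.ext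
      change x.1 * (incl z).1 = (incl (proj x • z)).1
      rw [hincl, hincl, hproj, smul_eq_mul]
      obtain ⟨y, rfl⟩ := hπ z
      apply Prod.ext
      · change x.1.1 * μf (π y) = μf (x.1.2 * π y)
        rw [← hEπ x.1 x.2, ← map_mul, hμπ, hμπ]
        ring
      · change x.1.2 * 0 = 0
        rw [mul_zero]
  obtain ⟨σ, hσ⟩ := hT { E := E, proj := proj, incl := incl, isExtension := hext }
  refine ⟨(AlgHom.fst k B' B₀).comp (E.val.comp σ), fun b => ?_⟩
  change π (σ b).1.1 = b
  rw [hEπ _ (σ b).2]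
  exact hσ b

end step

section induction

/-- a nonzero socle element of a local Artinian ring which is not a field. -/
theorem exists_socle {A : Type u} [CommRing A] [IsLocalRing A] [IsArtinianRing A]
    (h : IsLocalRing.maximalIdeal A ≠ ⊥) :
    ∃ t : A, t ≠ 0 ∧ t ∈ IsLocalRing.maximalIdeal A ∧
      ∀ a ∈ IsLocalRing.maximalIdeal A, a * t = 0 := by
  classical
  have hnil : ∃ n : ℕ, (IsLocalRing.maximalIdeal A) ^ n = ⊥ := by
    have h1 := IsArtinianRing.isNilpotent_jacobson_bot (R := A)
    rw [IsLocalRing.jacobson_eq_maximalIdeal ⊥ bot_ne_top] at h1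
    obtain ⟨n, hn⟩ := h1
    exact ⟨n, hn⟩
  obtain ⟨n, hn, hmin⟩ : ∃ n : ℕ, (IsLocalRing.maximalIdeal A) ^ n = ⊥ ∧
      ∀ m < n, (IsLocalRing.maximalIdeal A) ^ m ≠ ⊥ :=
    ⟨Nat.find hnil, Nat.find_spec hnil, fun m hm => Nat.find_min hnil hm⟩
  cases n with
  | zero =>
    exfalso
    rw [pow_zero, Ideal.one_eq_top] at hn
    exact top_ne_bot hn
  | succ m =>
    cases m with
    | zero =>
      exfalso
      rw [zero_add, pow_one] at hn
      exact h hn
    | succ m' =>
      have hne := hmin (m' + 1) (Nat.lt_succ_self _)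
      obtain ⟨t, htmem, htne⟩ := Submodule.exists_mem_ne_zero_of_ne_bot hne
      refine ⟨t, htne, Ideal.pow_le_self (Nat.succ_ne_zero m') htmem, fun a ha => ?_⟩
      have h1 : a * t ∈ (IsLocalRing.maximalIdeal A) ^ (m' + 1 + 1) := by
        rw [pow_succ']
        exact Ideal.mul_mem_mul ha htmem
      rw [hn] at h1
      exact (Ideal.mem_bot).mp h1

variable {k B₀ : Type u} [Field k] [CommRing B₀] [Algebra k B₀]

theorem exists_section_aux (hT : ∀ E : Exal.Ext k B₀ B₀, E.IsTrivial) (l : ℕ∞) :
    ∀ (A : Type u) [CommRing A] [Algebra k A] [IsLocalRing A] [IsArtinianRing A],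
      Module.length A A = l →
      ∀ (B' : Type u) [CommRing B'] [Algebra A B'] [Algebra k B'] [IsScalarTower k A B']
        [Module.Flat A B'] (π : B' →ₐ[k] B₀), Function.Surjective π →
        (∀ b, π b = 0 ↔ b ∈ (IsLocalRing.maximalIdeal A).map (algebraMap A B')) →
        ∃ s : B₀ →ₐ[k] B', ∀ b, π (s b) = b := by
  induction l using WellFoundedLT.induction with
  | ind l IH =>
  intro A _ _ _ _ hl B' _ _ _ _ _ π hπ hkerπ
  by_cases h𝔪 : IsLocalRing.maximalIdeal A = ⊥
  · have hinj : Function.Injective π := by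
      rw [injective_iff_map_eq_zero]
      intro b hb
      have := (hkerπ b).mp hb
      rw [h𝔪, Ideal.map_bot] at this
      exact (Ideal.mem_bot).mp this
    refine ⟨((AlgEquiv.ofBijective π ⟨hinj, hπ⟩).symm : B₀ →ₐ[k] B'), fun b => ?_⟩
    exact (AlgEquiv.ofBijective π ⟨hinj, hπ⟩).apply_symm_apply b
  · obtain ⟨t, htne, htm, ht⟩ := exists_socle h𝔪
    have hcolon : ∀ c : A, c * t = 0 → c ∈ IsLocalRing.maximalIdeal A := by
      intro c hc
      by_contra hcm
      have hunit : IsUnit c := by
        by_contra hnu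
        exact hcm ((IsLocalRing.mem_maximalIdeal _).mpr hnu)
      apply htne
      have h4 : t = ↑(hunit.unit⁻¹) * (c * t) := by
        rw [← mul_assoc, IsUnit.val_inv_mul, one_mul]
      rw [h4, hc, mul_zero]
    have hspanle : Ideal.span {t} ≤ IsLocalRing.maximalIdeal A :=
      (Ideal.span_singleton_le_iff_mem _).mpr htm
    have hIne : Ideal.span {t} ≠ (⊤ : Ideal A) := by
      intro h
      have h1 : (1 : A) ∈ Ideal.span {t} := by rw [h]; trivial
      exact (Ideal.ne_top_iff_one _).mp (IsLocalRing.maximalIdeal.isMaximal A).ne_top (hspanle h1)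
    haveI : Nontrivial (A ⧸ Ideal.span {t}) := Ideal.Quotient.nontrivial_iff.mpr hIne
    haveI : IsLocalRing (A ⧸ Ideal.span {t}) :=
      IsLocalRing.of_surjective' (Ideal.Quotient.mk (Ideal.span {t})) Ideal.Quotient.mk_surjective
    haveI : IsArtinianRing (A ⧸ Ideal.span {t}) := inferInstance
    have hlt : Module.length (A ⧸ Ideal.span {t}) (A ⧸ Ideal.span {t}) < l := by
      rw [← hl, ← Module.length_eq_of_surjective (S := A) (R := A ⧸ Ideal.span {t})
        (M := A ⧸ Ideal.span {t}) Ideal.Quotient.mk_surjective]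
      exact Submodule.length_quotient_lt (Ideal.span {t})
        (by rw [Ne, Ideal.span_singleton_eq_bot]; exact htne)
    haveI : IsScalarTower k (A ⧸ Ideal.span {t})
        (B' ⧸ (Ideal.span {t}).map (algebraMap A B')) :=
      IsScalarTower.of_algebraMap_eq (fun c => by
        change Ideal.Quotient.mk _ (algebraMap k B' c) =
          algebraMap (A ⧸ Ideal.span {t}) (B' ⧸ (Ideal.span {t}).map (algebraMap A B'))
            (Ideal.Quotient.mk _ (algebraMap k A c))
        rw [Ideal.Quotient.algebraMap_quotient_map_quotient, ← IsScalarTower.algebraMap_apply])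
    haveI : Module.Flat (A ⧸ Ideal.span {t}) (B' ⧸ (Ideal.span {t}).map (algebraMap A B')) :=
      Module.Flat.of_linearEquiv
        (Algebra.TensorProduct.quotIdealMapEquivQuotTensor B' (Ideal.span {t})).toLinearEquiv
    have hIle : ∀ x ∈ (Ideal.span {t}).map (algebraMap A B'), π x = 0 := by
      intro x hx
      exact (hkerπ x).mpr (Ideal.map_mono hspanle hx)
    let πbar : (B' ⧸ (Ideal.span {t}).map (algebraMap A B')) →ₐ[k] B₀ :=
      Ideal.Quotient.liftₐ _ π hIle
    have hπbar : ∀ b', πbar (Ideal.Quotient.mk _ b') = π b' := fun b' => rfl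
    have hπbarsurj : Function.Surjective πbar := by
      intro b
      obtain ⟨x, hx⟩ := hπ b
      exact ⟨Ideal.Quotient.mk _ x, hx⟩
    -- the maximal ideal of the quotient
    have hmaxbar : ∀ a : A, Ideal.Quotient.mk (Ideal.span {t}) a ∈
        IsLocalRing.maximalIdeal (A ⧸ Ideal.span {t}) ↔ a ∈ IsLocalRing.maximalIdeal A := by
      intro a
      constructor
      · intro ha
        by_contra ham
        have hunit : IsUnit a := by
          by_contra hnu
          exact ham ((IsLocalRing.mem_maximalIdeal _).mpr hnu)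
        exact (IsLocalRing.mem_maximalIdeal _).mp ha (hunit.map (Ideal.Quotient.mk (Ideal.span {t})))
      · intro ha
        rw [IsLocalRing.mem_maximalIdeal]
        intro hunit
        obtain ⟨bbar, hb⟩ := hunit.exists_right_inv
        obtain ⟨b, rfl⟩ := Ideal.Quotient.mk_surjective bbar
        rw [← map_mul, ← map_one (Ideal.Quotient.mk (Ideal.span {t})), Ideal.Quotient.eq] at hb
        have h1 : a * b ∈ IsLocalRing.maximalIdeal A := Ideal.mul_mem_right _ _ ha
        have h2 : (1 : A) ∈ IsLocalRing.maximalIdeal A := by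
          have h3 := Ideal.sub_mem _ h1 (hspanle hb)
          rwa [sub_sub_cancel] at h3
        exact (Ideal.ne_top_iff_one _).mp (IsLocalRing.maximalIdeal.isMaximal A).ne_top h2
    have hkerπbar : ∀ b, πbar b = 0 ↔ b ∈ (IsLocalRing.maximalIdeal (A ⧸ Ideal.span {t})).map
        (algebraMap (A ⧸ Ideal.span {t}) (B' ⧸ (Ideal.span {t}).map (algebraMap A B'))) := by
      intro b
      constructor
      · intro hb
        obtain ⟨x, rfl⟩ := Ideal.Quotient.mk_surjective b
        rw [hπbar] at hb
        have hx := (hkerπ x).mp hb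
        have h1 : (IsLocalRing.maximalIdeal A).map (algebraMap A B') ≤
            ((IsLocalRing.maximalIdeal (A ⧸ Ideal.span {t})).map
              (algebraMap (A ⧸ Ideal.span {t})
                (B' ⧸ (Ideal.span {t}).map (algebraMap A B')))).comap
              (Ideal.Quotient.mk ((Ideal.span {t}).map (algebraMap A B'))) := by
          rw [Ideal.map_le_iff_le_comap]
          intro a ha
          rw [Ideal.mem_comap, Ideal.mem_comap,
            ← Ideal.Quotient.algebraMap_quotient_map_quotient]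
          exact Ideal.mem_map_of_mem _ ((hmaxbar a).mpr ha)
        exact h1 hx
      · intro hb
        have h1 : (IsLocalRing.maximalIdeal (A ⧸ Ideal.span {t})).map
            (algebraMap (A ⧸ Ideal.span {t}) (B' ⧸ (Ideal.span {t}).map (algebraMap A B'))) ≤
            RingHom.ker πbar.toRingHom := by
          rw [Ideal.map_le_iff_le_comap]
          intro abar habar
          obtain ⟨a, rfl⟩ := Ideal.Quotient.mk_surjective abar
          rw [Ideal.mem_comap, RingHom.mem_ker, Ideal.Quotient.algebraMap_quotient_map_quotient]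
          change πbar (Ideal.Quotient.mk _ (algebraMap A B' a)) = 0
          rw [hπbar]
          exact (hkerπ _).mpr (Ideal.mem_map_of_mem _ ((hmaxbar a).mp habar))
        exact h1 hb
    obtain ⟨sbar, hsbar⟩ := IH _ hlt (A ⧸ Ideal.span {t}) rfl
      (B' ⧸ (Ideal.span {t}).map (algebraMap A B')) πbar hπbarsurj hkerπbar
    exact exists_section_step hT (IsLocalRing.maximalIdeal A) π hπ hkerπ t ht hcolon πbar hπbar
      sbar hsbar

/-- **a section from `T¹ = 0`.** -/
theorem exists_section_of_T1 (hT : ∀ E : Exal.Ext k B₀ B₀, E.IsTrivial)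
    (A : Type u) [CommRing A] [Algebra k A] [IsLocalRing A] [IsArtinianRing A]
    (B' : Type u) [CommRing B'] [Algebra A B'] [Algebra k B'] [IsScalarTower k A B']
    [Module.Flat A B'] (π : B' →ₐ[k] B₀) (hπ : Function.Surjective π)
    (hkerπ : ∀ b, π b = 0 ↔ b ∈ (IsLocalRing.maximalIdeal A).map (algebraMap A B')) :
    ∃ s : B₀ →ₐ[k] B', ∀ b, π (s b) = b :=
  exists_section_aux hT _ A rfl B' π hπ hkerπ

/-- transport of the triviality of extensions along an isomorphism. -/
theorem isTrivial_transport {Γ : Type u} [CommRing Γ] [Algebra k Γ] (ρ : Γ ≃ₐ[k] B₀)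
    (hT : ∀ E : Exal.Ext k B₀ B₀, E.IsTrivial) : ∀ E : Exal.Ext k Γ Γ, E.IsTrivial := by
  intro E
  have hext : Exal.IsExtension ((ρ : Γ →ₐ[k] B₀).comp E.proj)
      (E.incl.comp (ρ.symm : B₀ →+ Γ)) := by
    refine ⟨?_, ?_, ?_, ?_⟩
    · exact ρ.surjective.comp E.isExtension.proj_surjective
    · exact E.isExtension.incl_injective.comp ρ.symm.injective
    · intro x
      change ρ (E.proj x) = 0 ↔ x ∈ Set.range (fun z => E.incl (ρ.symm z))
      rw [map_eq_zero_iff ρ ρ.injective, E.isExtension.exact]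
      constructor
      · rintro ⟨z, rfl⟩
        refine ⟨ρ z, ?_⟩
        change E.incl (ρ.symm (ρ z)) = E.incl z
        rw [ρ.symm_apply_apply]
      · rintro ⟨z, rfl⟩
        exact ⟨ρ.symm z, rfl⟩
    · intro x z
      change x * E.incl (ρ.symm z) = E.incl (ρ.symm (ρ (E.proj x) • z))
      have h : ρ.symm (ρ (E.proj x) • z) = E.proj x • ρ.symm z := by
        rw [smul_eq_mul, smul_eq_mul, map_mul, ρ.symm_apply_apply]
      rw [h]
      exact E.isExtension.mul_incl x _
  obtain ⟨s', hs'⟩ := hT (Exal.Ext.mk E.E ((ρ : Γ →ₐ[k] B₀).comp E.proj)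
    (E.incl.comp (ρ.symm : B₀ →+ Γ)) hext)
  refine ⟨s'.comp (ρ : Γ →ₐ[k] B₀), fun g => ?_⟩
  have h1 : ρ (E.proj (s' (ρ g))) = ρ g := hs' (ρ g)
  exact ρ.injective h1

end induction

end Groth.Agent.Lib.LeadRigid
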