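import Mathlib
import Groth.Agent.Lib.LeadRigSmA
import Groth.Agent.Lib.LeadRigSmB
import Groth.Agent.Lib.LeadRigSmC
import Groth.Agent.Lib.LeadRigid

/-!
# Rigid singular affine schemes are not smoothable over a smooth affine curve (lead)
-/

set_option autoImplicit false
set_option maxHeartbeats 400000
set_option linter.style.haveILetI false
set_option linter.unusedSectionVars false
set_option linter.unusedVariables false

universe u

open TensorProduct

namespace Groth.Agent.Lib.LeadRigSmMain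

section setup

variable {k : Type u} [Field k] (A B : Type u) [CommRing A] [CommRing B] [Algebra k A]
  [Algebra A B] [Algebra k B] [IsScalarTower k A B] (t : A) (N : ℕ)

/-- the Artinian quotient of the base. -/
abbrev Lam : Type u := A ⧸ Ideal.span {t ^ (2 * N + 1)}

/-- the restriction of the family. -/
abbrev Rn : Type u := B ⧸ (Ideal.span {t ^ (2 * N + 1)}).map (algebraMap A B)

instance instTowerLamRn : IsScalarTower k (Lam A t N) (Rn A B t N) :=
  IsScalarTower.of_algebraMap_eq fun x => by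
    change Ideal.Quotient.mk _ (algebraMap k B x) =
      Ideal.Quotient.mk _ (algebraMap A B (algebraMap k A x))
    rw [← IsScalarTower.algebraMap_apply k A B]

theorem smul_tensor_eq (E₀ : Type u) [CommRing E₀] [Algebra k E₀] (a : A)
    (z : Lam A t N ⊗[k] E₀) :
    a • z = ((Ideal.Quotient.mk _ a : Lam A t N) ⊗ₜ[k] (1 : E₀)) * z := by
  induction z using TensorProduct.induction_on with
  | zero => rw [smul_zero, mul_zero]
  | add x y hx hy => rw [smul_add, hx, hy, mul_add]
  | tmul l x =>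
    rw [TensorProduct.smul_tmul', Algebra.TensorProduct.tmul_mul_tmul, one_mul, Algebra.smul_def]
    rfl

theorem smul_eq_zero_tensor (E₀ : Type u) [CommRing E₀] [Algebra k E₀]
    (z : Lam A t N ⊗[k] E₀) : t ^ (2 * N + 1) • z = 0 := by
  have : (Ideal.Quotient.mk (Ideal.span {t ^ (2 * N + 1)}) (t ^ (2 * N + 1)) : Lam A t N) = 0 :=
    Ideal.Quotient.eq_zero_iff_mem.2 (Ideal.mem_span_singleton_self _)
  rw [smul_tensor_eq, this, TensorProduct.zero_tmul, zero_mul]

theorem algebraMap_smul_tensor (E₀ : Type u) [CommRing E₀] [Algebra k E₀] (c : k)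
    (z : Lam A t N ⊗[k] E₀) : (algebraMap k A c) • z = c • z :=
  algebraMap_smul A c z

end setup

section core

variable {k : Type u} [Field k] [IsAlgClosed k] (B₀ : Type u) [CommRing B₀] [Algebra k B₀]
  [Algebra.FiniteType k B₀]
  (A B : Type u) [CommRing A] [CommRing B] [IsDomain A] [Algebra k A] [Algebra.FiniteType k A]
  [Algebra A B] [Module.Flat A B] [Algebra k B] [IsScalarTower k A B]

theorem formallySmooth_of_quasi (hrigid : ∀ E : Exal.Ext k B₀ B₀, E.IsTrivial)
    (t : A) (ht : (Ideal.span {t}).IsMaximal) (ht0 : t ≠ 0)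
    (e₀ : (B ⧸ Ideal.span {algebraMap A B t}) ≃ₐ[k] B₀) (N : ℕ)
    (hN : ∀ (C E : Type u) [CommRing C] [Algebra A C] [CommRing E] [Algebra A E]
      (ψ : B →ₐ[A] C) (p : E →ₐ[A] C) (hp : Function.Surjective p)
      (hsq : ∀ x y, p x = 0 → p y = 0 → x * y = 0),
      ∃ σ : B →ₗ[A] E, (∀ b, p (σ b) = t ^ N • ψ b) ∧
        (∀ b b', σ b * σ b' = t ^ N • σ (b * b')) ∧ σ 1 = t ^ N • (1 : E)) :
    Algebra.FormallySmooth k B₀ := by
  classical
  haveI : IsNoetherianRing A := Algebra.FiniteType.isNoetherianRing k A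
  have hnpos : 0 < 2 * N + 1 := Nat.succ_pos _
  haveI hΛloc : IsLocalRing (Lam A t N) :=
    Groth.Agent.Lib.LeadRigSmB.isLocalRing_quot t ht _ hnpos
  haveI hΛart : IsArtinianRing (Lam A t N) :=
    Groth.Agent.Lib.LeadRigSmB.isArtinianRing_quot t ht _ hnpos
  haveI hflat : Module.Flat (Lam A t N) (Rn A B t N) :=
    Module.Flat.of_linearEquiv
      (Algebra.TensorProduct.quotIdealMapEquivQuotTensor B (Ideal.span {t ^ (2 * N + 1)})).toLinearEquiv
  have hmax : IsLocalRing.maximalIdeal (Lam A t N) =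
      Ideal.span {(Ideal.Quotient.mk _ t : Lam A t N)} :=
    Groth.Agent.Lib.LeadRigSmB.maximalIdeal_quot t ht _
  -- the augmentation of `Λ`
  have hbij := Groth.Agent.Lib.LeadRigSmB.bijective_algebraMap_quot k A (Ideal.span {t})
  let ι : k ≃ₐ[k] (A ⧸ Ideal.span {t}) := AlgEquiv.ofBijective (Algebra.ofId k _) hbij
  have hle : Ideal.span {t ^ (2 * N + 1)} ≤ Ideal.span {t} := by
    rw [Ideal.span_singleton_le_iff_mem]
    exact Ideal.pow_mem_of_mem _ (Ideal.mem_span_singleton_self t) _ hnpos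
  let e : Lam A t N →ₐ[k] k := (ι.symm : _ →ₐ[k] k).comp (Ideal.Quotient.factorₐ k hle)
  have he_mk : ∀ a : A, algebraMap k (A ⧸ Ideal.span {t}) (e (Ideal.Quotient.mk _ a)) =
      Ideal.Quotient.mk _ a := by
    intro a
    change ι (ι.symm (Ideal.Quotient.mk _ a)) = _
    rw [AlgEquiv.apply_symm_apply]
  haveI : (RingHom.ker e).IsPrime := RingHom.ker_isPrime e
  have hker_e : RingHom.ker e = Ideal.span {(Ideal.Quotient.mk _ t : Lam A t N)} := by
    rw [Groth.Agent.Lib.LeadRigSmB.prime_eq_map t ht _ (RingHom.ker e), Ideal.map_span,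
      Set.image_singleton]
  have hnil : IsNilpotent (RingHom.ker e) := by
    refine ⟨2 * N + 1, ?_⟩
    rw [hker_e, Ideal.span_singleton_pow, ← map_pow, Ideal.zero_eq_bot,
      Ideal.span_singleton_eq_bot]
    exact Ideal.Quotient.eq_zero_iff_mem.2 (Ideal.mem_span_singleton_self _)
  -- the reduction map of the family
  have hleB : (Ideal.span {t ^ (2 * N + 1)}).map (algebraMap A B) ≤
      Ideal.span {algebraMap A B t} := by
    rw [Ideal.map_span, Set.image_singleton, Ideal.span_singleton_le_iff_mem, map_pow]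
    exact Ideal.pow_mem_of_mem _ (Ideal.mem_span_singleton_self _) _ hnpos
  let π : Rn A B t N →ₐ[k] B₀ := (e₀ : _ →ₐ[k] B₀).comp (Ideal.Quotient.factorₐ k hleB)
  have hπmk : ∀ b : B, π (Ideal.Quotient.mk _ b) = e₀ (Ideal.Quotient.mk _ b) := fun b => rfl
  have hπsurj : Function.Surjective π := by
    intro b₀
    obtain ⟨x, rfl⟩ := e₀.surjective b₀
    obtain ⟨b, rfl⟩ := Ideal.Quotient.mk_surjective x
    exact ⟨Ideal.Quotient.mk _ b, hπmk b⟩
  let τbar : Rn A B t N := Ideal.Quotient.mk _ (algebraMap A B t)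
  have hτbar : τbar = algebraMap (Lam A t N) (Rn A B t N) (Ideal.Quotient.mk _ t) := rfl
  have hπ0 : ∀ r : Rn A B t N, π r = 0 ↔ ∃ r', r = τbar * r' := by
    intro r
    obtain ⟨b, rfl⟩ := Ideal.Quotient.mk_surjective r
    rw [hπmk, map_eq_zero_iff e₀ e₀.injective, Ideal.Quotient.eq_zero_iff_mem,
      Ideal.mem_span_singleton']
    constructor
    · rintro ⟨b', rfl⟩
      exact ⟨Ideal.Quotient.mk _ b', (map_mul _ _ _).trans (mul_comm _ _)⟩
    · rintro ⟨r', hr'⟩
      obtain ⟨b', rfl⟩ := Ideal.Quotient.mk_surjective r'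
      have h1 : Ideal.Quotient.mk ((Ideal.span {t ^ (2 * N + 1)}).map (algebraMap A B))
          (b - algebraMap A B t * b') = 0 := by
        rw [map_sub, map_mul, hr', sub_self]
      have h2 := hleB (Ideal.Quotient.eq_zero_iff_mem.1 h1)
      obtain ⟨c, hc⟩ := Ideal.mem_span_singleton'.1 h2
      exact ⟨c + b', by rw [add_mul, hc]; ring⟩
  have hmapmax : (IsLocalRing.maximalIdeal (Lam A t N)).map
      (algebraMap (Lam A t N) (Rn A B t N)) = Ideal.span {τbar} := by
    rw [hmax]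
    refine (Ideal.map_span (algebraMap (Lam A t N) (Rn A B t N)) _).trans ?_
    rw [Set.image_singleton, ← hτbar]
  have hkerπ : ∀ r, π r = 0 ↔
      r ∈ (IsLocalRing.maximalIdeal (Lam A t N)).map (algebraMap (Lam A t N) (Rn A B t N)) := by
    intro r
    rw [hπ0, hmapmax, Ideal.mem_span_singleton']
    constructor
    · rintro ⟨r', rfl⟩; exact ⟨r', mul_comm _ _⟩
    · rintro ⟨r', rfl⟩; exact ⟨r', mul_comm _ _⟩
  have hker : ∀ r, π r = 0 → r ∈ (RingHom.ker e) • (⊤ : Submodule (Lam A t N) (Rn A B t N)) := by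
    intro r hr
    obtain ⟨r', rfl⟩ := (hπ0 r).1 hr
    rw [hker_e, hτbar, ← Algebra.smul_def]
    exact Submodule.smul_mem_smul (Ideal.mem_span_singleton_self _) trivial
  have hπA : ∀ (a : Lam A t N) (r : Rn A B t N), π (a • r) = e a • π r := by
    intro a r
    obtain ⟨a₀, rfl⟩ := Ideal.Quotient.mk_surjective a
    rw [Algebra.smul_def, map_mul, Algebra.smul_def]
    congr 1
    change π (Ideal.Quotient.mk _ (algebraMap A B a₀)) = _
    rw [hπmk]
    have h1 : Ideal.Quotient.mk (Ideal.span {t}) (a₀ - algebraMap k A (e (Ideal.Quotient.mk _ a₀)))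
        = 0 := by
      rw [map_sub, ← he_mk a₀, sub_eq_zero]
      rfl
    obtain ⟨a₁, ha₁⟩ := Ideal.mem_span_singleton'.1 (Ideal.Quotient.eq_zero_iff_mem.1 h1)
    have h2 : algebraMap A B a₀ = algebraMap k B (e (Ideal.Quotient.mk _ a₀)) +
        algebraMap A B a₁ * algebraMap A B t := by
      rw [← map_mul, ha₁, map_sub, ← IsScalarTower.algebraMap_apply k A B]
      ring
    have h3 : (Ideal.Quotient.mk (Ideal.span {algebraMap A B t}) (algebraMap A B a₀)) =
        algebraMap k _ (e (Ideal.Quotient.mk _ a₀)) := by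
      rw [h2, map_add]
      have : Ideal.Quotient.mk (Ideal.span {algebraMap A B t})
          (algebraMap A B a₁ * algebraMap A B t) = 0 :=
        Ideal.Quotient.eq_zero_iff_mem.2
          (Ideal.mem_span_singleton'.2 ⟨_, rfl⟩)
      rw [this, add_zero]
      rfl
    rw [h3, AlgEquiv.commutes]
  -- the section from rigidity and the trivialization
  obtain ⟨s, hs⟩ := Groth.Agent.Lib.LeadRigid.exists_section_of_T1 hrigid (Lam A t N) (Rn A B t N)
    π hπsurj hkerπ
  obtain ⟨Φ, hΦ⟩ := Groth.Agent.Lib.LeadRigSmB.exists_algEquiv_of_section e hnil π hπA hker s hs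
  -- the universal square-zero extension of `B₀`
  obtain ⟨r₀, f₀, hf₀⟩ := Algebra.FiniteType.iff_quotient_mvPolynomial''.1
    (inferInstance : Algebra.FiniteType k B₀)
  let E₀ := MvPolynomial (Fin r₀) k ⧸ RingHom.ker f₀.toRingHom ^ 2
  let pr₀ : E₀ →ₐ[k] B₀ := f₀.kerSquareLift
  have hpr₀ : Function.Surjective pr₀ := by
    intro b
    obtain ⟨x, rfl⟩ := hf₀ b
    exact ⟨Ideal.Quotient.mk _ x, AlgHom.kerSquareLift_mk f₀ x⟩
  have hsq₀ : ∀ x y : E₀, pr₀ x = 0 → pr₀ y = 0 → x * y = 0 :=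
    fun x y hx hy => Groth.Agent.Lib.LeadRigSmA.ker_sq_zero f₀ x y hx hy
  -- the data for the quasi-section
  let Pk := Algebra.TensorProduct.map (AlgHom.id k (Lam A t N)) pr₀
  let p : Lam A t N ⊗[k] E₀ →ₐ[A] Lam A t N ⊗[k] B₀ :=
    Algebra.TensorProduct.map (AlgHom.id A (Lam A t N)) pr₀
  have hpPk : ∀ z, p z = Pk z := by
    intro z
    induction z using TensorProduct.induction_on with
    | zero => rw [map_zero, map_zero]
    | add x y hx hy => rw [map_add, map_add, hx, hy]
    | tmul l x => rfl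
  have hp : Function.Surjective p := by
    intro z
    induction z using TensorProduct.induction_on with
    | zero => exact ⟨0, map_zero _⟩
    | add x y hx hy =>
      obtain ⟨x', rfl⟩ := hx
      obtain ⟨y', rfl⟩ := hy
      exact ⟨x' + y', map_add _ _ _⟩
    | tmul l b =>
      obtain ⟨x, rfl⟩ := hpr₀ b
      exact ⟨l ⊗ₜ[k] x, rfl⟩
  have hsq : ∀ x y, p x = 0 → p y = 0 → x * y = 0 := by
    intro x y hx hy
    rw [hpPk] at hx hy
    exact Groth.Agent.Lib.LeadRigSmC.sq_zero_tensor pr₀ hpr₀ hsq₀ x y hx hy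
  let ψ : B →ₐ[A] Lam A t N ⊗[k] B₀ :=
    { toRingHom := (Φ.symm : Rn A B t N →+* Lam A t N ⊗[k] B₀).comp
        (Ideal.Quotient.mk ((Ideal.span {t ^ (2 * N + 1)}).map (algebraMap A B)))
      commutes' := fun a => by
        change Φ.symm (Ideal.Quotient.mk _ (algebraMap A B a)) = _
        rw [AlgEquiv.symm_apply_eq, Algebra.TensorProduct.algebraMap_apply, hΦ, map_one,
          Algebra.smul_def, mul_one]
        rfl }
  have hψ : ∀ b, ψ b = Φ.symm (Ideal.Quotient.mk _ b) := fun b => rfl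
  obtain ⟨σ, hσ1, hσ2, hσ3⟩ := hN (Lam A t N ⊗[k] B₀) (Lam A t N ⊗[k] E₀) ψ p hp hsq
  -- `σ` only depends on the class in `Rn`
  have hwd : ∀ b b' : B, (Ideal.Quotient.mk ((Ideal.span {t ^ (2 * N + 1)}).map (algebraMap A B)) b
      = Ideal.Quotient.mk _ b') → σ b = σ b' := by
    intro b b' h
    have h1 : b - b' ∈ (Ideal.span {t ^ (2 * N + 1)}).map (algebraMap A B) :=
      Ideal.Quotient.eq.1 h
    rw [Ideal.map_span, Set.image_singleton] at h1
    obtain ⟨c, hc⟩ := Ideal.mem_span_singleton'.1 h1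
    have h2 : σ (b - b') = 0 := by
      have h3 : b - b' = t ^ (2 * N + 1) • c :=
        hc.symm.trans ((mul_comm _ _).trans (Algebra.smul_def _ _).symm)
      rw [h3, map_smul]
      exact smul_eq_zero_tensor A t N E₀ _
    rw [map_sub, sub_eq_zero] at h2
    exact h2
  have hmk : Function.Surjective
      (Ideal.Quotient.mk ((Ideal.span {t ^ (2 * N + 1)}).map (algebraMap A B))) :=
    Ideal.Quotient.mk_surjective
  let lift : Rn A B t N → B := Function.surjInv hmk
  have hlift : ∀ r, Ideal.Quotient.mk _ (lift r) = r := Function.surjInv_eq hmk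
  let σ₀ : B₀ → Lam A t N ⊗[k] E₀ := fun b₀ => σ (lift (s b₀))
  have hσ₀ : ∀ (b₀ : B₀) (b : B), Ideal.Quotient.mk _ b = s b₀ → σ₀ b₀ = σ b := by
    intro b₀ b hb
    exact hwd _ _ ((hlift _).trans hb.symm)
  have hΦsymm : ∀ b₀ : B₀, Φ.symm (s b₀) = (1 : Lam A t N) ⊗ₜ[k] b₀ := by
    intro b₀
    rw [AlgEquiv.symm_apply_eq, hΦ, one_smul]
  let τΛ : Lam A t N := Ideal.Quotient.mk _ t
  have hτpow : ∀ m : ℕ, (Ideal.Quotient.mk _ (t ^ m) : Lam A t N) = τΛ ^ m := fun m => map_pow _ _ _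
  have h1 : ∀ b₀, Pk (σ₀ b₀) = (τΛ ^ N) ⊗ₜ[k] b₀ := by
    intro b₀
    rw [← hpPk]
    change p (σ (lift (s b₀))) = _
    rw [hσ1, hψ, hlift, hΦsymm, TensorProduct.smul_tmul', Algebra.smul_def, mul_one, ← hτpow]
    rfl
  have h2 : ∀ b₀ b₀', σ₀ b₀ * σ₀ b₀' = ((τΛ ^ N) ⊗ₜ[k] (1 : E₀)) * σ₀ (b₀ * b₀') := by
    intro b₀ b₀'
    have hb : Ideal.Quotient.mk ((Ideal.span {t ^ (2 * N + 1)}).map (algebraMap A B))
        (lift (s b₀) * lift (s b₀')) = s (b₀ * b₀') := by
      rw [map_mul, hlift, hlift, map_mul]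
    rw [hσ₀ (b₀ * b₀') _ hb]
    change σ (lift (s b₀)) * σ (lift (s b₀')) = _
    rw [hσ2, smul_tensor_eq, hτpow]
  have h3 : σ₀ 1 = (τΛ ^ N) ⊗ₜ[k] (1 : E₀) := by
    have hb : Ideal.Quotient.mk ((Ideal.span {t ^ (2 * N + 1)}).map (algebraMap A B))
        (1 : B) = s 1 := by rw [map_one, map_one]
    rw [hσ₀ 1 1 hb, hσ3, smul_tensor_eq, hτpow, mul_one]
  have hadd : ∀ b₀ b₀', σ₀ (b₀ + b₀') = σ₀ b₀ + σ₀ b₀' := by
    intro b₀ b₀'
    have hb : Ideal.Quotient.mk ((Ideal.span {t ^ (2 * N + 1)}).map (algebraMap A B))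
        (lift (s b₀) + lift (s b₀')) = s (b₀ + b₀') := by
      rw [map_add, hlift, hlift, map_add]
    rw [hσ₀ _ _ hb, map_add]
  have hsmul : ∀ (c : k) b₀, σ₀ (c • b₀) = c • σ₀ b₀ := by
    intro c b₀
    have hb : Ideal.Quotient.mk ((Ideal.span {t ^ (2 * N + 1)}).map (algebraMap A B))
        ((algebraMap k A c) • lift (s b₀)) = s (c • b₀) := by
      rw [Algebra.smul_def, map_mul, hlift, map_smul, Algebra.smul_def c,
        ← IsScalarTower.algebraMap_apply k A B]
      rfl
    rw [hσ₀ _ _ hb, map_smul, algebraMap_smul_tensor]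
  -- `τ^(2N) ≠ 0`
  have hτ : τΛ ^ (2 * N) ≠ 0 := by
    rw [← hτpow]
    intro h
    have h1 := Ideal.Quotient.eq_zero_iff_mem.1 h
    obtain ⟨a, ha⟩ := Ideal.mem_span_singleton'.1 h1
    have h2 : t ^ (2 * N) * (a * t - 1) = 0 := by
      rw [pow_succ] at ha
      linear_combination ha
    rcases mul_eq_zero.1 h2 with h3 | h3
    · exact ht0 (eq_zero_of_pow_eq_zero h3)
    · have : (1 : A) ∈ Ideal.span {t} := by
        rw [Ideal.mem_span_singleton']
        exact ⟨a, by linear_combination h3⟩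
      exact ht.ne_top ((Ideal.eq_top_iff_one _).2 this)
  obtain ⟨s', hs'⟩ := Groth.Agent.Lib.LeadRigSmC.exists_section_of_quasi pr₀ hpr₀ hsq₀ τΛ N hτ
    σ₀ hadd hsmul h1 h2 h3
  exact Algebra.FormallySmooth.of_split f₀ s' (AlgHom.ext fun b => hs' b)

end core

section main

theorem main_S12306 {k : Type u} [Field k] [IsAlgClosed k] (B₀ : Type u) [CommRing B₀]
    [Algebra k B₀] [Algebra.FiniteType k B₀]
    (hsing : ¬ Algebra.Smooth k B₀) (hrigid : Subsingleton (CotT.T1 (CotT.canon k B₀) B₀))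
    (A B : Type u) [CommRing A] [CommRing B] [IsDomain A] [Algebra k A] [Algebra.FiniteType k A]
    [Algebra.Smooth k A] (hdim : ringKrullDim A = 1) (t : A) (ht : (Ideal.span {t}).IsMaximal)
    [Algebra A B] [Algebra.FiniteType A B] [Module.Flat A B] [Algebra k B] [IsScalarTower k A B]
    (e : (B ⧸ Ideal.span {algebraMap A B t}) ≃ₐ[k] B₀) :
    ∃ q : PrimeSpectrum B, algebraMap A B t ∉ q.asIdeal ∧ q ∉ Algebra.smoothLocus A B := by
  by_contra hcon
  push Not at hcon
  apply hsing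
  haveI : IsNoetherianRing A := Algebra.FiniteType.isNoetherianRing k A
  haveI : Algebra.FinitePresentation A B :=
    Algebra.FinitePresentation.of_finiteType.1 inferInstance
  have ht0 : t ≠ 0 := by
    rintro rfl
    have h1 : (⊥ : Ideal A).IsMaximal := by
      have h2 : Ideal.span {(0 : A)} = ⊥ := Ideal.span_singleton_eq_bot.2 rfl
      rw [← h2]; exact ht
    have hf : IsField A := Ring.isField_iff_maximal_bot.2 h1
    rw [ringKrullDim_eq_zero_of_isField hf] at hdim
    exact zero_ne_one hdim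
  have hsub : (PrimeSpectrum.basicOpen (algebraMap A B t) : Set (PrimeSpectrum B)) ⊆
      Algebra.smoothLocus A B := fun q hq => hcon q hq
  haveI : Algebra.FormallySmooth A (Localization.Away (algebraMap A B t)) :=
    Algebra.basicOpen_subset_smoothLocus_iff.1 hsub
  obtain ⟨N, hN⟩ := Groth.Agent.Lib.LeadRigSmA.exists_quasi_section (A := A) (B := B) t ht0
    (Localization.Away (algebraMap A B t))
  haveI : Algebra.FormallySmooth k B₀ :=
    formallySmooth_of_quasi B₀ A B (Groth.Agent.Lib.LeadRigSmB.isTrivial_of_T1 hrigid) t ht ht0 e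
      N hN
  haveI : Algebra.FinitePresentation k B₀ :=
    Algebra.FinitePresentation.of_finiteType.1 inferInstance
  exact ⟨inferInstance, inferInstance⟩

end main

end Groth.Agent.Lib.LeadRigSmMain
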