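import Mathlib
import Groth.Agent.Lib.LeadTrivDef
import Groth.Agent.Lib.LeadTrivDefSch

/-!
# Trivializing first order deformations with marked points (for S15991)

Ring level: `exists_algEquiv_of_section` (the trivialization attached to a section) and
`exists_section_pts_ring` (a section compatible with finitely many marked points, by formal
smoothness applied to the square-zero surjection `B' → B ×_{∏ k} ∏ A`).
Scheme level: `exists_iso_of_section`, `main_S15991`.
-/

set_option autoImplicit false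
set_option maxHeartbeats 400000
set_option linter.style.haveILetI false
set_option linter.unusedSectionVars false
set_option linter.unusedVariables false

universe u v

open TensorProduct

namespace Groth.Agent.Lib.LeadTrivDefPt

open Groth.Agent.Lib.LeadTrivDef

section ringlevel

variable {k A B' B : Type u} [Field k] [CommRing A] [Algebra k A] [CommRing B'] [Algebra A B']
  [Algebra k B'] [IsScalarTower k A B'] [CommRing B] [Algebra k B]

/-- the trivialization attached to a section. -/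
theorem exists_algEquiv_of_section (e : A →ₐ[k] k) (hnil : IsNilpotent (RingHom.ker e))
    [Module.Flat A B'] (π : B' →ₐ[k] B)
    (hπA : ∀ (a : A) (b : B'), π (a • b) = e a • π b)
    (hker : ∀ b : B', π b = 0 → b ∈ (RingHom.ker e) • (⊤ : Submodule A B'))
    (s : B →ₐ[k] B') (hs : ∀ b, π (s b) = b) :
    ∃ ψ : A ⊗[k] B ≃ₐ[A] B', ∀ (a : A) (b : B), ψ (a ⊗ₜ[k] b) = a • s b := by
  have hkerπ : ∀ b : B', b ∈ (RingHom.ker e) • (⊤ : Submodule A B') → π b = 0 := by
    intro b hb
    refine Submodule.smul_induction_on hb ?_ ?_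
    · intro a ha b' _
      rw [hπA, RingHom.mem_ker.mp ha, zero_smul]
    · intro x y hx hy
      rw [map_add, hx, hy, add_zero]
  let ψ₀ : A ⊗[k] B →ₐ[A] B' :=
    Algebra.TensorProduct.lift (Algebra.ofId A B') s (fun _ _ => Commute.all _ _)
  have hψ₀ : ∀ (a : A) (b : B), ψ₀ (a ⊗ₜ[k] b) = a • s b := by
    intro a b
    rw [Algebra.TensorProduct.lift_tmul, Algebra.ofId_apply, Algebra.smul_def]
  have hπψ : ∀ z : A ⊗[k] B, π (ψ₀ z) = augTensor e z := by
    intro z
    induction z using TensorProduct.induction_on with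
    | zero => rw [map_zero, map_zero, map_zero]
    | add x y hx hy => rw [map_add, map_add, map_add, hx, hy]
    | tmul a b => rw [hψ₀, hπA, hs, augTensor_tmul]
  haveI : Module.Flat A (A ⊗[k] B) := inferInstance
  have hbij : Function.Bijective ψ₀.toLinearMap := by
    refine bijective_of_flat_of_nilpotent (RingHom.ker e) hnil ψ₀.toLinearMap ?_ ?_
    · intro b
      refine ⟨(1 : A) ⊗ₜ[k] π b, hker _ ?_⟩
      rw [map_sub, AlgHom.toLinearMap_apply, hψ₀, one_smul, hs, sub_self]
    · intro z hz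
      refine mem_smul_top_of_augmentation e z ?_
      rw [← hπψ]
      exact hkerπ _ hz
  have hbij' : Function.Bijective ψ₀ := hbij
  refine ⟨AlgEquiv.ofBijective ψ₀ hbij', fun a b => ?_⟩
  have h1 : (AlgEquiv.ofBijective ψ₀ hbij') (a ⊗ₜ[k] b) = ψ₀ (a ⊗ₜ[k] b) := rfl
  rw [h1, hψ₀]

variable {ι : Type v} [Finite ι]

/-- lifting an element of `B` to `B'` with prescribed values at the marked points. -/
theorem exists_lift_pts (e : A →ₐ[k] k) (hsq0 : ∀ u v : A, e u = 0 → e v = 0 → u * v = 0)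
    (π : B' →ₐ[k] B) (hπ : Function.Surjective π)
    (hπA : ∀ (a : A) (b : B'), π (a • b) = e a • π b)
    (P : ι → (B →ₐ[k] k)) (P' : ι → (B' →ₐ[A] A))
    (hPP' : ∀ j b', e (P' j b') = P j (π b')) (hinj : Function.Injective P) (b : B) :
    ∃ b' : B', π b' = b ∧ ∀ j, P' j b' = algebraMap k A (P j b) := by
  classical
  cases nonempty_fintype ι
  have hker_ne : ∀ j l, j ≠ l → RingHom.ker (P j) ≠ RingHom.ker (P l) := by
    intro j l hjl heq
    apply hjl
    apply hinj
    apply AlgHom.ext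
    intro x
    have h1 : x - algebraMap k B (P j x) ∈ RingHom.ker (P j) := by
      rw [RingHom.mem_ker, map_sub, AlgHom.commutes, Algebra.algebraMap_self_apply, sub_self]
    rw [heq, RingHom.mem_ker, map_sub, AlgHom.commutes, Algebra.algebraMap_self_apply,
      sub_eq_zero] at h1
    exact h1.symm
  have hmax : ∀ j, (RingHom.ker (P j)).IsMaximal := fun j =>
    RingHom.ker_isMaximal_of_surjective (P j) (fun c => ⟨algebraMap k B c, (P j).commutes c⟩)
  have hcop : Pairwise (Function.onFun IsCoprime fun j => RingHom.ker (P j)) := by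
    intro j l hjl
    haveI := hmax j
    haveI := hmax l
    exact Ideal.isCoprime_of_isMaximal (hker_ne j l hjl)
  have hc : ∀ j, ∃ c : B, ∀ l, P l c = if l = j then 1 else 0 := by
    intro j
    obtain ⟨c, hc⟩ := Ideal.exists_forall_sub_mem_ideal hcop
      (fun l => if l = j then (1 : B) else 0)
    refine ⟨c, fun l => ?_⟩
    have h1 := hc l
    rw [RingHom.mem_ker, map_sub, sub_eq_zero] at h1
    rw [h1]
    split_ifs
    · exact map_one _
    · exact map_zero _
  choose c hc using hc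
  choose c' hc' using fun j => hπ (c j)
  obtain ⟨b₀, hb₀⟩ := hπ b
  obtain ⟨u, hu_def⟩ : ∃ u : ι → A, ∀ j, u j = P' j b₀ - algebraMap k A (P j b) :=
    ⟨fun j => P' j b₀ - algebraMap k A (P j b), fun _ => rfl⟩
  have hu : ∀ j, e (u j) = 0 := by
    intro j
    rw [hu_def, map_sub, hPP', hb₀, AlgHom.commutes, Algebra.algebraMap_self_apply, sub_self]
  refine ⟨b₀ - ∑ j, u j • c' j, ?_, ?_⟩
  · rw [map_sub, hb₀, map_sum]
    have : ∑ j, π (u j • c' j) = 0 := Finset.sum_eq_zero fun j _ => by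
      rw [hπA, hu j, zero_smul]
    rw [this, sub_zero]
  · intro l
    have hterm : ∀ j, P' l (u j • c' j) = if l = j then u j else 0 := by
      intro j
      rw [map_smul, smul_eq_mul]
      have h1 : e (P' l (c' j) - algebraMap k A (P l (c j))) = 0 := by
        rw [map_sub, hPP', hc', AlgHom.commutes, Algebra.algebraMap_self_apply, sub_self]
      have h2 : u j * P' l (c' j) = u j * algebraMap k A (P l (c j)) := by
        have := hsq0 (u j) (P' l (c' j) - algebraMap k A (P l (c j))) (hu j) h1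
        rw [mul_sub, sub_eq_zero] at this
        exact this
      rw [h2, hc]
      split_ifs
      · rw [map_one, mul_one]
      · rw [map_zero, mul_zero]
    rw [map_sub, map_sum, Finset.sum_congr rfl (fun j _ => hterm j), Finset.sum_ite_eq,
      if_pos (Finset.mem_univ l), hu_def, sub_sub_cancel]

/-- **a section compatible with the marked points.** -/
theorem exists_section_pts_ring [Algebra.FormallySmooth k B] (e : A →ₐ[k] k)
    (hsq0 : ∀ u v : A, e u = 0 → e v = 0 → u * v = 0)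
    (π : B' →ₐ[k] B) (hπ : Function.Surjective π)
    (hπA : ∀ (a : A) (b : B'), π (a • b) = e a • π b)
    (hker : ∀ b : B', π b = 0 → b ∈ (RingHom.ker e) • (⊤ : Submodule A B'))
    (P : ι → (B →ₐ[k] k)) (P' : ι → (B' →ₐ[A] A))
    (hPP' : ∀ j b', e (P' j b') = P j (π b')) (hinj : Function.Injective P) :
    ∃ s : B →ₐ[k] B', (∀ b, π (s b) = b) ∧ ∀ j b, P' j (s b) = algebraMap k A (P j b) := by
  -- the kernel of `π` has square zero
  have hkersq : (RingHom.ker (π : B' →+* B)) ^ 2 = ⊥ := by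
    have h1 : RingHom.ker (π : B' →+* B) ≤ (RingHom.ker e).map (algebraMap A B') := by
      intro b hb
      have := hker b hb
      rwa [Ideal.smul_top_eq_map] at this
    have h2 : (RingHom.ker e) ^ 2 = (⊥ : Ideal A) := by
      rw [eq_bot_iff, pow_two, Ideal.mul_le]
      intro x hx y hy
      rw [Ideal.mem_bot]
      exact hsq0 x y hx hy
    have h3 := Ideal.pow_right_mono h1 2
    rw [← Ideal.map_pow, h2, Ideal.map_bot] at h3
    exact le_bot_iff.mp h3
  -- the target algebra
  let G : B' →ₐ[k] B × (ι → A) :=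
    AlgHom.prod π (AlgHom.pi (fun j => (P' j).restrictScalars k))
  let f₀ : B →ₐ[k] B × (ι → A) :=
    AlgHom.prod (AlgHom.id k B) (AlgHom.pi (fun j => (Algebra.ofId k A).comp (P j)))
  have hG : ∀ b', G b' = (π b', fun j => P' j b') := fun b' => rfl
  have hf₀ : ∀ b, f₀ b = (b, fun j => algebraMap k A (P j b)) := fun b => rfl
  have hrange : ∀ b, f₀ b ∈ G.range := by
    intro b
    obtain ⟨b', hb'1, hb'2⟩ := exists_lift_pts e hsq0 π hπ hπA P P' hPP' hinj b
    refine ⟨b', ?_⟩
    change G b' = f₀ b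
    rw [hG, hf₀, hb'1]
    congr 1
    exact funext hb'2
  let f : B →ₐ[k] G.range := f₀.codRestrict G.range hrange
  have hGsurj : Function.Surjective G.rangeRestrict := G.rangeRestrict_surjective
  have hnil : IsNilpotent (RingHom.ker (G.rangeRestrict : B' →+* G.range)) := by
    refine ⟨2, ?_⟩
    have h1 : RingHom.ker (G.rangeRestrict : B' →+* G.range) ≤ RingHom.ker (π : B' →+* B) := by
      intro x hx
      rw [RingHom.mem_ker] at hx ⊢
      have h2 : G x = 0 := congrArg Subtype.val hx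
      rw [hG] at h2
      exact congrArg Prod.fst h2
    have h3 := Ideal.pow_right_mono h1 2
    rw [hkersq] at h3
    exact le_bot_iff.mp h3
  let s : B →ₐ[k] B' := Algebra.FormallySmooth.liftOfSurjective f G.rangeRestrict hGsurj hnil
  have hs : ∀ b, G (s b) = f₀ b := by
    intro b
    have h1 := Algebra.FormallySmooth.liftOfSurjective_apply f G.rangeRestrict hGsurj hnil b
    exact congrArg Subtype.val h1
  refine ⟨s, fun b => ?_, fun j b => ?_⟩
  · have := hs b
    rw [hG, hf₀] at this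
    exact congrArg Prod.fst this
  · have := hs b
    rw [hG, hf₀] at this
    exact congrFun (congrArg Prod.snd this) j

end ringlevel

section schemelevel

open AlgebraicGeometry CategoryTheory Limits
open Groth.Agent.Lib.LeadTrivDefSch

variable {ι : Type v} [Finite ι]

set_option maxHeartbeats 3200000 in
/-- **Square-zero deformations of a smooth affine scheme with marked points are trivial.** -/
theorem exists_iso_trivial_pts (k : Type u) [Field k] {X : Scheme.{u}}
    (hX : X ⟶ Spec (CommRingCat.of k)) [IsAffine X] [Smooth hX]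
    (A : Type u) [CommRing A] [Algebra k A] (e : A →ₐ[k] k)
    (hsq0 : ∀ u v : A, e u = 0 → e v = 0 → u * v = 0)
    {X' : Scheme.{u}} (g : X' ⟶ Spec (CommRingCat.of A)) [Flat g] (i : X ⟶ X')
    (hsq : IsPullback i hX g (Spec.map (CommRingCat.ofHom e.toRingHom)))
    (p : ι → (Spec (CommRingCat.of k) ⟶ X)) (hp : ∀ j, p j ≫ hX = 𝟙 _)
    (hinj : Function.Injective p)
    (p' : ι → (Spec (CommRingCat.of A) ⟶ X')) (hp' : ∀ j, p' j ≫ g = 𝟙 _)
    (hpp' : ∀ j, p j ≫ i = Spec.map (CommRingCat.ofHom e.toRingHom) ≫ p' j) :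
    ∃ φ : X' ≅ pullback hX (Spec.map (CommRingCat.ofHom (algebraMap k A))),
      φ.hom ≫ pullback.snd hX (Spec.map (CommRingCat.ofHom (algebraMap k A))) = g ∧
      i ≫ φ.hom ≫ pullback.fst hX (Spec.map (CommRingCat.ofHom (algebraMap k A))) = 𝟙 X ∧
      ∀ j, p' j ≫ φ.hom ≫ pullback.fst hX (Spec.map (CommRingCat.ofHom (algebraMap k A))) =
        Spec.map (CommRingCat.ofHom (algebraMap k A)) ≫ p j := by
  have hnil : IsNilpotent (RingHom.ker e) := by
    refine ⟨2, ?_⟩
    rw [Ideal.zero_eq_bot, eq_bot_iff, pow_two, Ideal.mul_le]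
    intro x hx y hy
    rw [Ideal.mem_bot]
    exact hsq0 x y hx hy
  haveI : IsAffine X' := isAffine_of_isPullback e hX g i hsq hnil
  haveI hci : IsClosedImmersion i := isClosedImmersion_of_isPullback e hX g i hsq
  -- rings
  obtain ⟨β, hβ⟩ : ∃ β : CommRingCat.of k ⟶ Γ(X, ⊤),
      β = (Scheme.ΓSpecIso (CommRingCat.of k)).inv ≫ hX.appTop := ⟨_, rfl⟩
  obtain ⟨γ, hγ⟩ : ∃ γ : CommRingCat.of A ⟶ Γ(X', ⊤),
      γ = (Scheme.ΓSpecIso (CommRingCat.of A)).inv ≫ g.appTop := ⟨_, rfl⟩
  have hgγ : g = X'.isoSpec.hom ≫ Spec.map γ := by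
    rw [hγ]; exact eq_isoSpec_hom_comp _ g
  have hXβ : hX = X.isoSpec.hom ≫ Spec.map β := by
    rw [hβ]; exact eq_isoSpec_hom_comp _ hX
  have hcomm : γ ≫ i.appTop = CommRingCat.ofHom e.toRingHom ≫ β := by
    rw [hγ, hβ]; exact appTop_comm e hX g i hsq
  have hcomm' : ∀ a : A, i.appTop.hom (γ.hom a) = β.hom (e a) := fun a =>
    congrArg (fun f => f.hom a) hcomm
  have hkerle : RingHom.ker i.appTop.hom ≤ (RingHom.ker e.toRingHom).map γ.hom := by
    rw [hγ]; exact ker_appTop_le e hX g i hsq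
  letI algkB : Algebra k Γ(X, ⊤) := β.hom.toAlgebra
  letI algAB' : Algebra A Γ(X', ⊤) := γ.hom.toAlgebra
  letI algkB' : Algebra k Γ(X', ⊤) := (γ.hom.comp (algebraMap k A)).toAlgebra
  haveI : IsScalarTower k A Γ(X', ⊤) := IsScalarTower.of_algebraMap_eq' rfl
  -- flatness
  haveI hflat : Module.Flat A Γ(X', ⊤) := by
    have h1 : g.appTop.hom.Flat := (HasRingHomProperty.iff_of_isAffine (P := @Flat)).mp inferInstance
    have h2 : γ.hom.Flat := by
      rw [hγ]
      exact (RingHom.Flat.respectsIso.cancel_left_isIso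
        (Scheme.ΓSpecIso (CommRingCat.of A)).inv g.appTop).mpr h1
    exact h2
  -- smoothness
  haveI hfs : Algebra.FormallySmooth k Γ(X, ⊤) := by
    have h1 : (hX.appLE ⊤ ⊤ le_top).hom.Smooth :=
      hX.smooth_appLE (isAffineOpen_top _) (isAffineOpen_top X) le_top
    have h1' : hX.appTop.hom.FormallySmooth := by
      have h0 : hX.appLE ⊤ ⊤ le_top = hX.appTop := Scheme.Hom.appLE_eq_app hX (U := ⊤)
      rw [h0] at h1
      exact h1.1
    have h2 : β.hom.FormallySmooth := by
      rw [hβ]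
      exact (RingHom.FormallySmooth.respectsIso.cancel_left_isIso
        (Scheme.ΓSpecIso (CommRingCat.of k)).inv hX.appTop).mpr h1'
    exact h2
  -- the projection
  let π : Γ(X', ⊤) →ₐ[k] Γ(X, ⊤) :=
    { i.appTop.hom with
      commutes' := fun c => by
        change i.appTop.hom (γ.hom (algebraMap k A c)) = β.hom c
        rw [hcomm', e.commutes]
        rfl }
  have hπapp : ∀ b, π b = i.appTop.hom b := fun b => rfl
  have hπsurj : Function.Surjective π :=
    (IsClosedImmersion.isAffine_surjective_of_isAffine i).2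
  have hπA : ∀ (a : A) (b : Γ(X', ⊤)), π (a • b) = e a • π b := by
    intro a b
    rw [hπapp, hπapp, Algebra.smul_def, map_mul, Algebra.smul_def]
    congr 1
    exact hcomm' a
  have hker : ∀ b : Γ(X', ⊤), π b = 0 →
      b ∈ (RingHom.ker e) • (⊤ : Submodule A Γ(X', ⊤)) := by
    intro b hb
    rw [Ideal.smul_top_eq_map]
    exact hkerle hb
  -- the marked points on the ring level
  obtain ⟨Pc, hPc⟩ : ∃ Pc : ι → (Γ(X, ⊤) ⟶ CommRingCat.of k),
      ∀ j, Pc j = (p j).appTop ≫ (Scheme.ΓSpecIso (CommRingCat.of k)).hom := ⟨_, fun _ => rfl⟩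
  obtain ⟨Pc', hPc'⟩ : ∃ Pc' : ι → (Γ(X', ⊤) ⟶ CommRingCat.of A),
      ∀ j, Pc' j = (p' j).appTop ≫ (Scheme.ΓSpecIso (CommRingCat.of A)).hom := ⟨_, fun _ => rfl⟩
  have hβP : ∀ j, β ≫ Pc j = 𝟙 _ := by
    intro j
    rw [hβ, hPc, Category.assoc, ← Category.assoc hX.appTop, ← Scheme.Hom.comp_appTop, hp,
      Scheme.Hom.id_appTop, Category.id_comp, Iso.inv_hom_id]
  have hγP : ∀ j, γ ≫ Pc' j = 𝟙 _ := by
    intro j
    rw [hγ, hPc', Category.assoc, ← Category.assoc g.appTop, ← Scheme.Hom.comp_appTop, hp',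
      Scheme.Hom.id_appTop, Category.id_comp, Iso.inv_hom_id]
  have hPP'c : ∀ j, Pc' j ≫ CommRingCat.ofHom e.toRingHom = i.appTop ≫ Pc j := by
    intro j
    rw [hPc, hPc', Category.assoc, ← Scheme.ΓSpecIso_naturality,
      ← Category.assoc (p' j).appTop, ← Scheme.Hom.comp_appTop, ← hpp', Scheme.Hom.comp_appTop,
      Category.assoc]
  let P : ι → (Γ(X, ⊤) →ₐ[k] k) := fun j =>
    { (Pc j).hom with
      commutes' := fun c => by
        change (Pc j).hom (β.hom c) = c
        exact congrArg (fun f => f.hom c) (hβP j) }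
  let P' : ι → (Γ(X', ⊤) →ₐ[A] A) := fun j =>
    { (Pc' j).hom with
      commutes' := fun a => by
        change (Pc' j).hom (γ.hom a) = a
        exact congrArg (fun f => f.hom a) (hγP j) }
  have hPapp : ∀ j b, P j b = (Pc j).hom b := fun j b => rfl
  have hP'app : ∀ j b, P' j b = (Pc' j).hom b := fun j b => rfl
  have hPP' : ∀ j b', e (P' j b') = P j (π b') := fun j b' =>
    congrArg (fun f => f.hom b') (hPP'c j)
  have hPinj : Function.Injective P := by
    intro j l hjl
    apply hinj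
    have h1 : Pc j = Pc l := by
      ext b
      exact DFunLike.congr_fun hjl b
    have h2 : (p j).appTop = (p l).appTop := by
      rw [hPc, hPc] at h1
      exact (cancel_mono _).mp h1
    exact ext_of_isAffine h2
  obtain ⟨s, hs1, hs2⟩ := exists_section_pts_ring e hsq0 π hπsurj hπA hker P P' hPP' hPinj
  obtain ⟨ψ, hψ⟩ := exists_algEquiv_of_section e hnil π hπA hker s hs1
  -- the section as a morphism of rings
  obtain ⟨σ, hσ⟩ : ∃ σ : Γ(X, ⊤) ⟶ Γ(X', ⊤), ∀ b, σ.hom b = s b :=
    ⟨CommRingCat.ofHom s.toRingHom, fun _ => rfl⟩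
  have hσP : ∀ j, σ ≫ Pc' j = Pc j ≫ CommRingCat.ofHom (algebraMap k A) := by
    intro j
    ext b
    change (Pc' j).hom (σ.hom b) = algebraMap k A ((Pc j).hom b)
    rw [hσ, ← hP'app, hs2, hPapp]
  -- the ring isomorphism `Γ(X) ⊗ A ≃ Γ(X')`
  let E : (Γ(X, ⊤) ⊗[k] A) ≃+* Γ(X', ⊤) :=
    (Algebra.TensorProduct.comm k Γ(X, ⊤) A).toRingEquiv.trans ψ.toRingEquiv
  have hE : ∀ (b : Γ(X, ⊤)) (a : A), E (b ⊗ₜ[k] a) = ψ (a ⊗ₜ[k] b) := fun b a => rfl
  let Ecat : CommRingCat.of (Γ(X, ⊤) ⊗[k] A) ⟶ Γ(X', ⊤) := CommRingCat.ofHom E.toRingHom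
  haveI : IsIso Ecat := by
    have : Ecat = E.toCommRingCatIso.hom := rfl
    rw [this]; infer_instance
  -- compatibilities of `Ecat`
  have hE1 : CommRingCat.ofHom (RingHomClass.toRingHom (Algebra.TensorProduct.includeRight :
      A →ₐ[k] Γ(X, ⊤) ⊗[k] A)) ≫ Ecat = γ := by
    ext a
    change E ((1 : Γ(X, ⊤)) ⊗ₜ[k] a) = γ.hom a
    rw [hE]
    have : a ⊗ₜ[k] (1 : Γ(X, ⊤)) = a • ((1 : A) ⊗ₜ[k] (1 : Γ(X, ⊤))) := by
      rw [TensorProduct.smul_tmul', smul_eq_mul, mul_one]
    rw [this, map_smul, ← Algebra.TensorProduct.one_def, map_one, Algebra.smul_def, mul_one]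
    rfl
  have hE2 : CommRingCat.ofHom (Algebra.TensorProduct.includeLeftRingHom :
      Γ(X, ⊤) →+* Γ(X, ⊤) ⊗[k] A) ≫ Ecat = σ := by
    ext b
    change E (b ⊗ₜ[k] (1 : A)) = σ.hom b
    rw [hE, hψ, one_smul, hσ]
  have hσi : σ ≫ i.appTop = 𝟙 _ := by
    ext b
    change i.appTop.hom (σ.hom b) = b
    rw [hσ, ← hπapp, hs1]
  -- the isomorphisms
  have hfst : Spec.map (CommRingCat.ofHom (algebraMap k Γ(X, ⊤))) ≫ 𝟙 _ = X.isoSpec.inv ≫ hX := by
    rw [Category.comp_id, hXβ, Iso.inv_hom_id_assoc]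
    rfl
  have hsnd : Spec.map (CommRingCat.ofHom (algebraMap k A)) ≫ 𝟙 _ =
      𝟙 _ ≫ Spec.map (CommRingCat.ofHom (algebraMap k A)) := by
    rw [Category.comp_id, Category.id_comp]
  let Λ : pullback (Spec.map (CommRingCat.ofHom (algebraMap k Γ(X, ⊤))))
      (Spec.map (CommRingCat.ofHom (algebraMap k A))) ⟶
      pullback hX (Spec.map (CommRingCat.ofHom (algebraMap k A))) :=
    pullback.map _ _ _ _ X.isoSpec.inv (𝟙 _) (𝟙 _) hfst hsnd
  haveI : IsIso Λ := by
    change IsIso (pullback.map _ _ _ _ X.isoSpec.inv (𝟙 _) (𝟙 _) hfst hsnd)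
    infer_instance
  let Φ : X' ⟶ pullback hX (Spec.map (CommRingCat.ofHom (algebraMap k A))) :=
    X'.isoSpec.hom ≫ Spec.map Ecat ≫ (pullbackSpecIso k Γ(X, ⊤) A).inv ≫ Λ
  haveI : IsIso Φ := by
    change IsIso (X'.isoSpec.hom ≫ Spec.map Ecat ≫ (pullbackSpecIso k Γ(X, ⊤) A).inv ≫ Λ)
    infer_instance
  have hΛsnd : Λ ≫ pullback.snd hX (Spec.map (CommRingCat.ofHom (algebraMap k A))) =
      pullback.snd _ _ := by
    change pullback.map _ _ _ _ X.isoSpec.inv (𝟙 _) (𝟙 _) hfst hsnd ≫ pullback.snd _ _ = _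
    rw [pullback.lift_snd, Category.comp_id]
  have hΛfst : Λ ≫ pullback.fst hX (Spec.map (CommRingCat.ofHom (algebraMap k A))) =
      pullback.fst _ _ ≫ X.isoSpec.inv := by
    change pullback.map _ _ _ _ X.isoSpec.inv (𝟙 _) (𝟙 _) hfst hsnd ≫ pullback.fst _ _ = _
    rw [pullback.lift_fst]
  have hΦfst : Φ ≫ pullback.fst hX (Spec.map (CommRingCat.ofHom (algebraMap k A))) =
      X'.isoSpec.hom ≫ Spec.map σ ≫ X.isoSpec.inv := by
    change (X'.isoSpec.hom ≫ Spec.map Ecat ≫ (pullbackSpecIso k Γ(X, ⊤) A).inv ≫ Λ) ≫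
      pullback.fst _ _ = _
    rw [Category.assoc, Category.assoc, Category.assoc, hΛfst, pullbackSpecIso_inv_fst_assoc,
      ← Spec.map_comp_assoc, hE2]
  refine ⟨asIso Φ, ?_, ?_, ?_⟩
  · change (X'.isoSpec.hom ≫ Spec.map Ecat ≫ (pullbackSpecIso k Γ(X, ⊤) A).inv ≫ Λ) ≫
      pullback.snd _ _ = g
    rw [Category.assoc, Category.assoc, Category.assoc, hΛsnd, pullbackSpecIso_inv_snd,
      ← Spec.map_comp, hE1, ← hgγ]
  · change i ≫ Φ ≫ pullback.fst _ _ = 𝟙 X
    rw [hΦfst, ← Category.assoc, ← Scheme.isoSpec_hom_naturality, Category.assoc,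
      ← Spec.map_comp_assoc, hσi, Spec.map_id]
    change X.isoSpec.hom ≫ 𝟙 (Spec Γ(X, ⊤)) ≫ X.isoSpec.inv = 𝟙 X
    rw [Category.id_comp, Iso.hom_inv_id]
  · intro j
    change p' j ≫ Φ ≫ pullback.fst _ _ = _
    have hkey : σ ≫ (p' j).appTop =
        (p j).appTop ≫ (Spec.map (CommRingCat.ofHom (algebraMap k A))).appTop := by
      rw [← cancel_mono (Scheme.ΓSpecIso (CommRingCat.of A)).hom, Category.assoc, ← hPc',
        Category.assoc, Scheme.ΓSpecIso_naturality, ← Category.assoc, ← hPc]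
      exact hσP j
    have hR : Spec.map (CommRingCat.ofHom (algebraMap k A)) ≫ p j =
        (Spec (CommRingCat.of A)).isoSpec.hom ≫
          Spec.map ((p j).appTop ≫ (Spec.map (CommRingCat.ofHom (algebraMap k A))).appTop) ≫
            X.isoSpec.inv := by
      rw [Spec.map_comp, Category.assoc,
        Scheme.isoSpec_hom_naturality_assoc (Spec.map (CommRingCat.ofHom (algebraMap k A))),
        Scheme.isoSpec_hom_naturality_assoc (p j), Iso.hom_inv_id, Category.comp_id]
    rw [hΦfst, ← Category.assoc, ← Scheme.isoSpec_hom_naturality, Category.assoc,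
      ← Spec.map_comp_assoc, hkey, hR]

/-- **S15991.** -/
theorem main_S15991 (k : Type u) [Field k] (X : Scheme.{u}) (hX : X ⟶ Spec (CommRingCat.of k))
    [IsAffine X] [Smooth hX]
    (p : ι → (Spec (CommRingCat.of k) ⟶ X)) (hp : ∀ j, p j ≫ hX = 𝟙 _)
    (hinj : Function.Injective p)
    (X' : Scheme.{u}) (g : X' ⟶ Spec (CommRingCat.of (DualNumber k))) [Flat g] (i : X ⟶ X')
    (hsq : IsPullback i hX g
      (Spec.map (CommRingCat.ofHom (TrivSqZeroExt.fstHom k k k).toRingHom)))
    (p' : ι → (Spec (CommRingCat.of (DualNumber k)) ⟶ X')) (hp' : ∀ j, p' j ≫ g = 𝟙 _)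
    (hpp' : ∀ j, p j ≫ i =
      Spec.map (CommRingCat.ofHom (TrivSqZeroExt.fstHom k k k).toRingHom) ≫ p' j) :
    ∃ φ : X' ≅ Limits.pullback hX (Spec.map (CommRingCat.ofHom (algebraMap k (DualNumber k)))),
      φ.hom ≫ Limits.pullback.snd hX
          (Spec.map (CommRingCat.ofHom (algebraMap k (DualNumber k)))) = g ∧
        i ≫ φ.hom ≫ Limits.pullback.fst hX
          (Spec.map (CommRingCat.ofHom (algebraMap k (DualNumber k)))) = 𝟙 X ∧
          ∀ j, p' j ≫ φ.hom ≫
              Limits.pullback.fst hX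
                (Spec.map (CommRingCat.ofHom (algebraMap k (DualNumber k)))) =
            Spec.map (CommRingCat.ofHom (algebraMap k (DualNumber k))) ≫ p j := by
  have hsq0 : ∀ u v : DualNumber k, (TrivSqZeroExt.fstHom k k k) u = 0 →
      (TrivSqZeroExt.fstHom k k k) v = 0 → u * v = 0 := by
    intro u v hu hv
    have hu' : u.fst = 0 := hu
    have hv' : v.fst = 0 := hv
    apply TrivSqZeroExt.ext
    · rw [TrivSqZeroExt.fst_mul, hu', zero_mul, TrivSqZeroExt.fst_zero]
    · rw [TrivSqZeroExt.snd_mul, hu', hv', TrivSqZeroExt.snd_zero]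
      simp
  exact exists_iso_trivial_pts k hX (DualNumber k) (TrivSqZeroExt.fstHom k k k) hsq0 g i hsq
    p hp hinj p' hp' hpp'

end schemelevel

end Groth.Agent.Lib.LeadTrivDefPt
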