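import Mathlib
import Groth.Prelude.Def_ArtFun4
import Groth.Agent.Lib.LeadRigid
import Groth.Agent.Lib.LeadTrivDefSch
import Groth.Agent.Lib.LeadTrivDefPt

/-!
# Rigidity of affine schemes with `T¹ = 0` (for S12263), scheme level
-/

set_option autoImplicit false
set_option maxHeartbeats 400000
set_option linter.style.haveILetI false
set_option linter.unusedSectionVars false
set_option linter.unusedVariables false

universe u

open AlgebraicGeometry CategoryTheory Limits TensorProduct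

namespace Groth.Agent.Lib.LeadRigidSch

open Groth.Agent.Lib.LeadTrivDefSch Groth.Agent.Lib.LeadTrivDefPt Groth.Agent.Lib.LeadRigid

set_option maxHeartbeats 3200000 in
/-- **Deformations over a local Artinian base of an affine scheme with `T¹ = 0` are trivial.** -/
theorem exists_iso_trivial_of_T1 (k : Type u) [Field k] {X : Scheme.{u}}
    (hX : X ⟶ Spec (CommRingCat.of k)) [IsAffine X]
    (hT : ∀ [alg : Algebra k Γ(X, ⊤)],
      (algebraMap k Γ(X, ⊤) = ((Scheme.ΓSpecIso (CommRingCat.of k)).inv ≫ hX.appTop).hom) →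
      ∀ E : Exal.Ext k Γ(X, ⊤) Γ(X, ⊤), E.IsTrivial)
    (A : Type u) [CommRing A] [IsLocalRing A] [IsArtinianRing A] [Algebra k A] (e : A →ₐ[k] k)
    (α : CommRingCat.of k ⟶ CommRingCat.of A) (hα : α = CommRingCat.ofHom (algebraMap k A))
    {X' : Scheme.{u}} (g : X' ⟶ Spec (CommRingCat.of A)) [Flat g] (i : X ⟶ X')
    (hsq : IsPullback i hX g (Spec.map (CommRingCat.ofHom e.toRingHom))) :
    ∃ φ : X' ≅ pullback hX (Spec.map α),
      φ.hom ≫ pullback.snd hX (Spec.map α) = g ∧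
      i ≫ φ.hom ≫ pullback.fst hX (Spec.map α) = 𝟙 X := by
  subst hα
  have hnil : IsNilpotent (RingHom.ker e) := isNilpotent_ker_aug e
  haveI : IsAffine X' := isAffine_of_isPullback e hX g i hsq hnil
  haveI hci : IsClosedImmersion i := isClosedImmersion_of_isPullback e hX g i hsq
  -- rings
  obtain ⟨β, hβ⟩ : ∃ β : CommRingCat.of k ⟶ Γ(X, ⊤),
      β = (Scheme.ΓSpecIso (CommRingCat.of k)).inv ≫ hX.appTop := ⟨_, rfl⟩
  obtain ⟨γ, hγ⟩ : ∃ γ : CommRingCat.of A ⟶ Γ(X', ⊤),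
      γ = (Scheme.ΓSpecIso (CommRingCat.of A)).inv ≫ g.appTop := ⟨_, rfl⟩
  have hgγ : g = X'.isoSpec.hom ≫ Spec.map γ := by
    rw [hγ]; exact eq_isoSpec_hom_comp _ g
  have hXβ : hX = X.isoSpec.hom ≫ Spec.map β := by
    rw [hβ]; exact eq_isoSpec_hom_comp _ hX
  have hcomm : γ ≫ i.appTop = CommRingCat.ofHom e.toRingHom ≫ β := by
    rw [hγ, hβ]; exact appTop_comm e hX g i hsq
  have hcomm' : ∀ a : A, i.appTop.hom (γ.hom a) = β.hom (e a) := fun a =>
    congrArg (fun f => f.hom a) hcomm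
  have hkerle : RingHom.ker i.appTop.hom ≤ (RingHom.ker e.toRingHom).map γ.hom := by
    rw [hγ]; exact ker_appTop_le e hX g i hsq
  letI algkB : Algebra k Γ(X, ⊤) := β.hom.toAlgebra
  letI algAB' : Algebra A Γ(X', ⊤) := γ.hom.toAlgebra
  letI algkB' : Algebra k Γ(X', ⊤) := (γ.hom.comp (algebraMap k A)).toAlgebra
  haveI : IsScalarTower k A Γ(X', ⊤) := IsScalarTower.of_algebraMap_eq' rfl
  -- flatness
  haveI hflat : Module.Flat A Γ(X', ⊤) := by
    have h1 : g.appTop.hom.Flat := (HasRingHomProperty.iff_of_isAffine (P := @Flat)).mp inferInstance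
    have h2 : γ.hom.Flat := by
      rw [hγ]
      exact (RingHom.Flat.respectsIso.cancel_left_isIso
        (Scheme.ΓSpecIso (CommRingCat.of A)).inv g.appTop).mpr h1
    exact h2
  -- the `T¹` hypothesis
  have hT' : ∀ E : Exal.Ext k Γ(X, ⊤) Γ(X, ⊤), E.IsTrivial := by
    refine @hT algkB ?_
    rw [← hβ]
    rfl
  -- the projection
  let π : Γ(X', ⊤) →ₐ[k] Γ(X, ⊤) :=
    { i.appTop.hom with
      commutes' := fun c => by
        change i.appTop.hom (γ.hom (algebraMap k A c)) = β.hom c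
        rw [hcomm', e.commutes]
        rfl }
  have hπapp : ∀ b, π b = i.appTop.hom b := fun b => rfl
  have hπsurj : Function.Surjective π :=
    (IsClosedImmersion.isAffine_surjective_of_isAffine i).2
  have hπA : ∀ (a : A) (b : Γ(X', ⊤)), π (a • b) = e a • π b := by
    intro a b
    rw [hπapp, hπapp, Algebra.smul_def, map_mul, Algebra.smul_def]
    congr 1
    exact hcomm' a
  have hker : ∀ b : Γ(X', ⊤), π b = 0 →
      b ∈ (RingHom.ker e) • (⊤ : Submodule A Γ(X', ⊤)) := by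
    intro b hb
    rw [Ideal.smul_top_eq_map]
    exact hkerle hb
  -- the kernel of `e` is the maximal ideal
  have hmax : (RingHom.ker e.toRingHom).IsMaximal :=
    RingHom.ker_isMaximal_of_surjective e.toRingHom (surjective_aug e)
  have hkermax : RingHom.ker e.toRingHom = IsLocalRing.maximalIdeal A :=
    IsLocalRing.eq_maximalIdeal hmax
  have hkerπ : ∀ b, π b = 0 ↔
      b ∈ (IsLocalRing.maximalIdeal A).map (algebraMap A Γ(X', ⊤)) := by
    intro b
    constructor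
    · intro hb
      rw [← hkermax]
      exact hkerle hb
    · intro hb
      have hle : (IsLocalRing.maximalIdeal A).map (algebraMap A Γ(X', ⊤)) ≤
          RingHom.ker π.toRingHom := by
        rw [Ideal.map_le_iff_le_comap]
        intro a ha
        rw [← hkermax] at ha
        rw [Ideal.mem_comap, RingHom.mem_ker]
        change i.appTop.hom (γ.hom a) = 0
        have ha' : e a = 0 := ha
        rw [hcomm', ha', map_zero]
      exact hle hb
  obtain ⟨s, hs1⟩ := exists_section_of_T1 hT' A Γ(X', ⊤) π hπsurj hkerπ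
  obtain ⟨ψ, hψ⟩ := exists_algEquiv_of_section e hnil π hπA hker s hs1
  -- the ring isomorphism `Γ(X) ⊗ A ≃ Γ(X')`
  let E : (Γ(X, ⊤) ⊗[k] A) ≃+* Γ(X', ⊤) :=
    (Algebra.TensorProduct.comm k Γ(X, ⊤) A).toRingEquiv.trans ψ.toRingEquiv
  have hE : ∀ (b : Γ(X, ⊤)) (a : A), E (b ⊗ₜ[k] a) = ψ (a ⊗ₜ[k] b) := fun b a => rfl
  let Ecat : CommRingCat.of (Γ(X, ⊤) ⊗[k] A) ⟶ Γ(X', ⊤) := CommRingCat.ofHom E.toRingHom
  haveI : IsIso Ecat := by
    have : Ecat = E.toCommRingCatIso.hom := rfl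
    rw [this]; infer_instance
  -- compatibilities of `Ecat`
  have hE1 : CommRingCat.ofHom (RingHomClass.toRingHom (Algebra.TensorProduct.includeRight :
      A →ₐ[k] Γ(X, ⊤) ⊗[k] A)) ≫ Ecat = γ := by
    ext a
    change E ((1 : Γ(X, ⊤)) ⊗ₜ[k] a) = γ.hom a
    rw [hE]
    have : a ⊗ₜ[k] (1 : Γ(X, ⊤)) = a • ((1 : A) ⊗ₜ[k] (1 : Γ(X, ⊤))) := by
      rw [TensorProduct.smul_tmul', smul_eq_mul, mul_one]
    rw [this, map_smul, ← Algebra.TensorProduct.one_def, map_one, Algebra.smul_def, mul_one]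
    rfl
  have hE2 : (CommRingCat.ofHom (Algebra.TensorProduct.includeLeftRingHom :
      Γ(X, ⊤) →+* Γ(X, ⊤) ⊗[k] A) ≫ Ecat) ≫ i.appTop = 𝟙 _ := by
    ext b
    change i.appTop.hom (E (b ⊗ₜ[k] (1 : A))) = b
    rw [hE, ← hπapp, hψ, one_smul, hs1]
  -- the isomorphisms
  have hfst : Spec.map (CommRingCat.ofHom (algebraMap k Γ(X, ⊤))) ≫ 𝟙 _ = X.isoSpec.inv ≫ hX := by
    rw [Category.comp_id, hXβ, Iso.inv_hom_id_assoc]
    rfl
  have hsnd : Spec.map (CommRingCat.ofHom (algebraMap k A)) ≫ 𝟙 _ =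
      𝟙 _ ≫ Spec.map (CommRingCat.ofHom (algebraMap k A)) := by
    rw [Category.comp_id, Category.id_comp]
  let Λ : pullback (Spec.map (CommRingCat.ofHom (algebraMap k Γ(X, ⊤))))
      (Spec.map (CommRingCat.ofHom (algebraMap k A))) ⟶
      pullback hX (Spec.map (CommRingCat.ofHom (algebraMap k A))) :=
    pullback.map _ _ _ _ X.isoSpec.inv (𝟙 _) (𝟙 _) hfst hsnd
  haveI : IsIso Λ := by
    change IsIso (pullback.map _ _ _ _ X.isoSpec.inv (𝟙 _) (𝟙 _) hfst hsnd)
    infer_instance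
  let Φ : X' ⟶ pullback hX (Spec.map (CommRingCat.ofHom (algebraMap k A))) :=
    X'.isoSpec.hom ≫ Spec.map Ecat ≫ (pullbackSpecIso k Γ(X, ⊤) A).inv ≫ Λ
  haveI : IsIso Φ := by
    change IsIso (X'.isoSpec.hom ≫ Spec.map Ecat ≫ (pullbackSpecIso k Γ(X, ⊤) A).inv ≫ Λ)
    infer_instance
  refine ⟨asIso Φ, ?_, ?_⟩
  · change (X'.isoSpec.hom ≫ Spec.map Ecat ≫ (pullbackSpecIso k Γ(X, ⊤) A).inv ≫ Λ) ≫
      pullback.snd _ _ = g
    have h1 : Λ ≫ pullback.snd hX (Spec.map (CommRingCat.ofHom (algebraMap k A))) =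
        pullback.snd _ _ := by
      change pullback.map _ _ _ _ X.isoSpec.inv (𝟙 _) (𝟙 _) hfst hsnd ≫ pullback.snd _ _ = _
      rw [pullback.lift_snd, Category.comp_id]
    rw [Category.assoc, Category.assoc, Category.assoc, h1, pullbackSpecIso_inv_snd,
      ← Spec.map_comp, hE1, ← hgγ]
  · change i ≫ (X'.isoSpec.hom ≫ Spec.map Ecat ≫ (pullbackSpecIso k Γ(X, ⊤) A).inv ≫ Λ) ≫
      pullback.fst _ _ = 𝟙 X
    have h1 : Λ ≫ pullback.fst hX (Spec.map (CommRingCat.ofHom (algebraMap k A))) =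
        pullback.fst _ _ ≫ X.isoSpec.inv := by
      change pullback.map _ _ _ _ X.isoSpec.inv (𝟙 _) (𝟙 _) hfst hsnd ≫ pullback.fst _ _ = _
      rw [pullback.lift_fst]
    rw [Category.assoc, Category.assoc, Category.assoc, h1, pullbackSpecIso_inv_fst_assoc,
      ← Spec.map_comp_assoc, ← Category.assoc, ← Scheme.isoSpec_hom_naturality, Category.assoc,
      ← Spec.map_comp_assoc, hE2, Spec.map_id]
    change X.isoSpec.hom ≫ 𝟙 (Spec Γ(X, ⊤)) ≫ X.isoSpec.inv = 𝟙 X
    rw [Category.id_comp, Iso.hom_inv_id]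

/-- the `T¹` hypothesis transported to the global sections of `Spec B₀`. -/
theorem isTrivial_Γ_of_isTrivial {k : Type u} [Field k] (B₀ : Type u) [CommRing B₀] [Algebra k B₀]
    (hT : ∀ E : Exal.Ext k B₀ B₀, E.IsTrivial)
    [alg : Algebra k Γ(Spec (CommRingCat.of B₀), ⊤)]
    (halg : algebraMap k Γ(Spec (CommRingCat.of B₀), ⊤) =
      ((Scheme.ΓSpecIso (CommRingCat.of k)).inv ≫
        (Spec.map (CommRingCat.ofHom (algebraMap k B₀))).appTop).hom) :
    ∀ E : Exal.Ext k Γ(Spec (CommRingCat.of B₀), ⊤) Γ(Spec (CommRingCat.of B₀), ⊤),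
      E.IsTrivial := by
  have hcomm : ∀ c : k, (Scheme.ΓSpecIso (CommRingCat.of B₀)).commRingCatIsoToRingEquiv
      (algebraMap k Γ(Spec (CommRingCat.of B₀), ⊤) c) = algebraMap k B₀ c := by
    intro c
    rw [halg]
    have hnat := Scheme.ΓSpecIso_naturality (CommRingCat.ofHom (algebraMap k B₀))
    have h1 := congrArg (fun f => f.hom ((Scheme.ΓSpecIso (CommRingCat.of k)).inv.hom c)) hnat
    have h2 : (Scheme.ΓSpecIso (CommRingCat.of k)).hom.hom
        ((Scheme.ΓSpecIso (CommRingCat.of k)).inv.hom c) = c :=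
      congrArg (fun f => f.hom c) (Scheme.ΓSpecIso (CommRingCat.of k)).inv_hom_id
    have h3 : (Scheme.ΓSpecIso (CommRingCat.of B₀)).hom.hom
        ((Spec.map (CommRingCat.ofHom (algebraMap k B₀))).appTop.hom
          ((Scheme.ΓSpecIso (CommRingCat.of k)).inv.hom c)) =
        algebraMap k B₀ ((Scheme.ΓSpecIso (CommRingCat.of k)).hom.hom
          ((Scheme.ΓSpecIso (CommRingCat.of k)).inv.hom c)) := h1
    rw [h2] at h3
    exact h3
  exact isTrivial_transport (AlgEquiv.ofRingEquiv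
    (f := (Scheme.ΓSpecIso (CommRingCat.of B₀)).commRingCatIsoToRingEquiv) hcomm) hT

/-- **S12263.** -/
theorem main_S12263 {k : Type u} [Field k] (B₀ : Type u) [CommRing B₀] [Algebra k B₀]
    (hT : ∀ E : Exal.Ext k B₀ B₀, E.IsTrivial) (A : ArtFun.Art k k)
    (ξ : ArtFun.DefSch (Spec (CommRingCat.of B₀))
      (Spec.map (CommRingCat.ofHom (algebraMap k B₀))) A) :
    Nonempty (ξ.Iso (ArtFun.DefSch.trivial (Spec (CommRingCat.of B₀))
      (Spec.map (CommRingCat.ofHom (algebraMap k B₀))) inferInstance A)) := by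
  haveI : Flat ξ.f := ξ.flat
  obtain ⟨φ, hφ1, hφ2⟩ := exists_iso_trivial_of_T1 k
    (Spec.map (CommRingCat.ofHom (algebraMap k B₀)))
    (fun {alg} halg => isTrivial_Γ_of_isTrivial B₀ hT halg) A A.res
    (CommRingCat.ofHom (ArtFun.Art.ofBase A).toAlgHom.toRingHom) rfl ξ.f ξ.i ξ.isPullback
  refine ⟨{ iso := φ, hom_f := hφ1, i_hom := ?_ }⟩
  change ξ.i ≫ φ.hom = pullback.lift (𝟙 _) (Spec.map (CommRingCat.ofHom (algebraMap k B₀)) ≫
    ArtFun.Art.specRes A) _
  apply pullback.hom_ext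
  · exact (Category.assoc _ _ _).trans (hφ2.trans (pullback.lift_fst _ _ _).symm)
  · exact (Category.assoc _ _ _).trans ((congrArg (fun m => ξ.i ≫ m) hφ1).trans
      (ξ.i_f.trans (pullback.lift_snd _ _ _).symm))

end Groth.Agent.Lib.LeadRigidSch
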