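import Mathlib
import Groth.Agent.Lib.Helper23PushAcyclic

set_option maxHeartbeats 400000
set_option autoImplicit false
universe u
open CategoryTheory CategoryTheory.Limits Opposite TopologicalSpace Abelian

/-!
# `R^{n+1} g_* G` is the sheaf associated with `V ↦ H^{n+1}(g⁻¹V, G)` (elementary form)
-/

namespace Groth.Agent.Lib.Lead.RpushCmp

open Groth.Agent.Lib.Helper23.AffVanish

section Abstract

universe v₁ u₁ v₂ u₂
variable {𝒜 : Type u₁} [Category.{v₁} 𝒜] [Abelian 𝒜] {ℬ : Type u₂} [Category.{v₂} ℬ] [Abelian ℬ]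

/-- the canonical map `K^n ⟶ Z^{n+1}` of an injective resolution -/
noncomputable abbrev zlift {A : 𝒜} (R : InjectiveResolution A) (n : ℕ) :
    R.cocomplex.X n ⟶ kernel (R.cocomplex.d (n + 1) (n + 2)) :=
  kernel.lift (R.cocomplex.d (n + 1) (n + 2)) (R.cocomplex.d n (n + 1))
    (R.cocomplex.d_comp_d _ _ _)

theorem nonempty_iso_cokernel [HasInjectiveResolutions 𝒜] (F : 𝒜 ⥤ ℬ) [F.Additive]
    [PreservesFiniteLimits F] {A : 𝒜} (R : InjectiveResolution A) (n : ℕ) :
    Nonempty ((F.rightDerived (n + 1)).obj A ≅ cokernel (F.map (zlift R n))) := by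
  let K := R.cocomplex
  let L := (F.mapHomologicalComplex (ComplexShape.up ℕ)).obj K
  have e1 : (F.rightDerived (n + 1)).obj A ≅ L.homology (n + 1) := R.isoRightDerivedObj F (n + 1)
  have e2 : L.homology (n + 1) ≅ (L.sc' n (n + 1) (n + 2)).homology :=
    L.homologyIsoSc' n (n + 1) (n + 2) (by simp) (by simp only [CochainComplex.next]; rfl)
  have e3 := ShortComplex.homologyIsoCokernelLift (L.sc' n (n + 1) (n + 2))
  have e4 : cokernel (F.map (zlift R n)) ≅
      cokernel (kernel.lift (L.sc' n (n + 1) (n + 2)).g (L.sc' n (n + 1) (n + 2)).f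
        (L.sc' n (n + 1) (n + 2)).zero) :=
    cokernel.mapIso _ _ (Iso.refl _) (PreservesKernel.iso F (K.d (n + 1) (n + 2)))
      (by
        rw [PreservesKernel.iso_hom]
        exact (map_lift_kernelComparison (K.d (n + 1) (n + 2)) F (K.d_comp_d _ _ _)).trans
          (Category.id_comp _).symm)
  exact ⟨e1 ≪≫ e2 ≪≫ e3 ≪≫ e4.symm⟩

end Abstract

section Sections

variable {Z : TopCat.{u}}

lemma app_comp_apply {A B C : CohTop.Ab Z} (φ : A ⟶ B) (ψ : B ⟶ C) (V : Opens Z)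
    (a : A.obj.obj (op V)) :
    ((φ ≫ ψ).hom.app (op V)).hom a = (ψ.hom.app (op V)).hom ((φ.hom.app (op V)).hom a) := rfl

lemma evalGen_comp' {A B : CohTop.Ab Z} (V : Opens Z) (ψ : ZU V ⟶ A) (φ : A ⟶ B) :
    CohFree.evalGen (J Z) V B (ψ ≫ φ) =
      (φ.hom.app (op V)).hom (CohFree.evalGen (J Z) V A ψ) := rfl

lemma app_res_apply {A B : CohTop.Ab Z} (φ : A ⟶ B) {V V' : Opens Z} (h : V' ≤ V)
    (a : A.obj.obj (op V)) :
    (φ.hom.app (op V')).hom ((A.obj.map (homOfLE h).op).hom a) =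
      (B.obj.map (homOfLE h).op).hom ((φ.hom.app (op V)).hom a) :=
  ConcreteCategory.congr_hom (φ.hom.naturality (homOfLE h).op) a

lemma iso_hom_inv_apply {A B : CohTop.Ab Z} (e : A ≅ B) (V : Opens Z) (a : A.obj.obj (op V)) :
    (e.inv.hom.app (op V)).hom ((e.hom.hom.app (op V)).hom a) = a := by
  rw [← app_comp_apply, e.hom_inv_id]; rfl

lemma iso_inv_hom_apply {A B : CohTop.Ab Z} (e : A ≅ B) (V : Opens Z) (b : B.obj.obj (op V)) :
    (e.hom.hom.app (op V)).hom ((e.inv.hom.app (op V)).hom b) = b := by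
  rw [← app_comp_apply, e.inv_hom_id]; rfl

/-- A section killed by `cokernel.π φ` is locally in the image of `φ`. -/
lemma exists_local_lift {A B : CohTop.Ab Z} (φ : A ⟶ B) (V : Opens Z) (z : B.obj.obj (op V))
    (hz : ((cokernel.π φ).hom.app (op V)).hom z = 0) (y : Z) (hy : y ∈ V) :
    ∃ (V' : Opens Z) (h : V' ≤ V), y ∈ V' ∧ ∃ k : A.obj.obj (op V'),
      (φ.hom.app (op V')).hom k = (B.obj.map (homOfLE h).op).hom z := by
  have hψ : CohFree.ofSect (J Z) V B z ≫ cokernel.π φ = 0 := by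
    apply (CohFree.homEquivSect (J Z) V _).injective
    rw [CohFree.homEquivSect_apply, CohFree.homEquivSect_apply, evalGen_comp',
      CohFree.evalGen_ofSect, hz, map_zero]
  obtain ⟨ψ', hψ'⟩ : ∃ ψ' : ZU V ⟶ kernel (cokernel.π φ),
      ψ' ≫ kernel.ι (cokernel.π φ) = CohFree.ofSect (J Z) V B z :=
    ⟨kernel.lift _ _ hψ, kernel.lift_ι _ _ _⟩
  obtain ⟨κ, hκ, hκe⟩ : ∃ κ : A ⟶ kernel (cokernel.π φ),
      κ ≫ kernel.ι (cokernel.π φ) = φ ∧ Epi κ :=
    ⟨kernel.lift _ φ (cokernel.condition φ), kernel.lift_ι _ _ _,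
      (ShortComplex.exact_iff_epi_kernel_lift
        (ShortComplex.mk φ (cokernel.π φ) (cokernel.condition φ))).1
        (ShortComplex.exact_cokernel φ)⟩
  obtain ⟨V', h, ⟨k, hk⟩, hyV'⟩ := (Groth.Agent.Lib.Helper16.ClosedEmb.locSurj_iff κ).1 hκe V
    (CohFree.evalGen (J Z) V _ ψ') y hy
  refine ⟨V', h, hyV', k, ?_⟩
  have hk' : (κ.hom.app (op V')).hom k =
      ((kernel (cokernel.π φ)).obj.map (homOfLE h).op).hom (CohFree.evalGen (J Z) V _ ψ') := hk
  have h1 : ((kernel.ι (cokernel.π φ)).hom.app (op V')).hom ((κ.hom.app (op V')).hom k) =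
      ((kernel.ι (cokernel.π φ)).hom.app (op V')).hom
        (((kernel (cokernel.π φ)).obj.map (homOfLE h).op).hom
          (CohFree.evalGen (J Z) V _ ψ')) := congrArg _ hk'
  rw [← app_comp_apply, hκ, app_res_apply, ← evalGen_comp', hψ', CohFree.evalGen_ofSect] at h1
  exact h1

end Sections

section Main

variable {X Y : TopCat.{u}} (g : X ⟶ Y) {G : CohTop.Ab X} (R : InjectiveResolution G) (n : ℕ)

/-- the sheaf of `(n+1)`-cocycles of the resolution -/
noncomputable abbrev Zs : CohTop.Ab X := kernel (R.cocomplex.d (n + 1) (n + 2))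

lemma extMk_congr {W : Opens X} {m : ℕ} {f f' : ZU W ⟶ R.cocomplex.X m} (h : f = f') (m' : ℕ)
    (hm : m + 1 = m') (hf : f ≫ R.cocomplex.d m m' = 0) :
    (R.extMk f m' hm hf : HE G m W) = R.extMk f' m' hm (h ▸ hf) := by
  subst h; rfl

/-- the class of a section of the cocycle sheaf -/
noncomputable def cl (W : Opens X) (ζ : ZU W ⟶ Zs R n) : HE G (n + 1) W :=
  R.extMk (ζ ≫ kernel.ι _) (n + 2) rfl (by rw [Category.assoc, kernel.condition, comp_zero])

lemma cl_surjective (W : Opens X) : Function.Surjective (cl R n W) := by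
  intro α
  obtain ⟨f, hf, rfl⟩ := R.extMk_surjective α (n + 2) rfl
  exact ⟨kernel.lift _ f hf, extMk_congr R (kernel.lift_ι _ f hf) _ _ _⟩

lemma cl_add (W : Opens X) (ζ ζ' : ZU W ⟶ Zs R n) :
    cl R n W (ζ + ζ') = cl R n W ζ + cl R n W ζ' :=
  (extMk_congr R (Preadditive.add_comp _ _ _ ζ ζ' (kernel.ι _)) _ _ _).trans
    (R.add_extMk _ _ _ _ _ _).symm

/-- `cl` as an additive map -/
noncomputable def clHom (W : Opens X) : (ZU W ⟶ Zs R n) →+ HE G (n + 1) W :=
  AddMonoidHom.mk' (cl R n W) (cl_add R n W)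

lemma cl_eq_zero_iff (W : Opens X) (ζ : ZU W ⟶ Zs R n) :
    cl R n W ζ = 0 ↔ ∃ h : ZU W ⟶ R.cocomplex.X n, h ≫ zlift R n = ζ := by
  unfold cl
  rw [R.extMk_eq_zero_iff _ (n + 2) rfl _ n rfl]
  constructor
  · rintro ⟨h, hh⟩
    refine ⟨h, ?_⟩
    rw [← cancel_mono (kernel.ι (R.cocomplex.d (n + 1) (n + 2))), Category.assoc, kernel.lift_ι]
    exact hh
  · rintro ⟨h, rfl⟩
    exact ⟨h, by rw [Category.assoc, kernel.lift_ι]⟩

lemma cl_res {W W' : Opens X} (h : W' ≤ W) (ζ : ZU W ⟶ Zs R n) :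
    resE G (n + 1) h (cl R n W ζ) =
      cl R n W' (CohCx.freeSheafMap (J X) (homOfLE h) ≫ ζ) := by
  rw [resE_apply]
  unfold cl
  rw [R.mk₀_comp_extMk]
  exact extMk_congr R (Category.assoc _ _ _).symm _ _ _

/-- the target sheaf, a model of `R^{n+1} g_* G` -/
noncomputable abbrev Tc : CohTop.Ab Y := cokernel ((CohTop.push g).map (zlift R n))

/-- the projection onto the cokernel -/
noncomputable abbrev πc : (CohTop.push g).obj (Zs R n) ⟶ Tc g R n := cokernel.π _

/-- sections of the cocycle sheaf to sections of the cokernel -/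
noncomputable def dHom (V : Opens Y) :
    (ZU ((Opens.map g).obj V) ⟶ Zs R n) →+ (Tc g R n).obj.obj (op V) :=
  AddMonoidHom.comp ((πc g R n).hom.app (op V)).hom
    (CohFree.evalGen (J X) ((Opens.map g).obj V) (Zs R n))

lemma dHom_comp_zlift (V : Opens Y) (h : ZU ((Opens.map g).obj V) ⟶ R.cocomplex.X n) :
    dHom g R n V (h ≫ zlift R n) = 0 := by
  have hc : (CohTop.push g).map (zlift R n) ≫ πc g R n = 0 := cokernel.condition _
  have h2 := congrArg (fun κ : (CohTop.push g).obj (R.cocomplex.X n) ⟶ Tc g R n =>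
    (κ.hom.app (op V)).hom (CohFree.evalGen (J X) ((Opens.map g).obj V) _ h)) hc
  exact h2

/-- the comparison map into the cokernel model -/
noncomputable def cAux (V : Opens Y) :
    HE G (n + 1) ((Opens.map g).obj V) →+ (Tc g R n).obj.obj (op V) :=
  (clHom R n ((Opens.map g).obj V)).liftOfRightInverse (Function.surjInv (cl_surjective R n _))
    (Function.rightInverse_surjInv (cl_surjective R n _))
    ⟨dHom g R n V, fun ζ hζ => by
      obtain ⟨h, rfl⟩ := (cl_eq_zero_iff R n _ ζ).1 ((AddMonoidHom.mem_ker).1 hζ)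
      exact (AddMonoidHom.mem_ker).2 (dHom_comp_zlift g R n V h)⟩

lemma cAux_cl (V : Opens Y) (ζ : ZU ((Opens.map g).obj V) ⟶ Zs R n) :
    cAux g R n V (cl R n _ ζ) = dHom g R n V ζ :=
  AddMonoidHom.liftOfRightInverse_comp_apply _ _ _ _ _

lemma cAux_res {V V' : Opens Y} (h : V' ≤ V) (α : HE G (n + 1) ((Opens.map g).obj V)) :
    cAux g R n V' (resE G (n + 1) ((Opens.map g).monotone h) α) =
      ((Tc g R n).obj.map (homOfLE h).op).hom (cAux g R n V α) := by
  obtain ⟨ζ, rfl⟩ := cl_surjective R n _ α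
  rw [cl_res, cAux_cl, cAux_cl]
  show ((πc g R n).hom.app (op V')).hom (CohFree.evalGen (J X) _ _
    (CohCx.freeSheafMap (J X) (homOfLE ((Opens.map g).monotone h)) ≫ ζ)) = _
  rw [CohFree.evalGen_freeSheafMap_comp]
  exact app_res_apply (πc g R n) h (CohFree.evalGen (J X) _ _ ζ)

lemma cAux_locSurj (V : Opens Y) (t : (Tc g R n).obj.obj (op V)) (y : Y) (hy : y ∈ V) :
    ∃ (V' : Opens Y) (h : V' ≤ V), y ∈ V' ∧ ∃ α : HE G (n + 1) ((Opens.map g).obj V'),
      cAux g R n V' α = ((Tc g R n).obj.map (homOfLE h).op).hom t := by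
  obtain ⟨V', h, ⟨s, hs⟩, hyV'⟩ :=
    (Groth.Agent.Lib.Helper16.ClosedEmb.locSurj_iff (πc g R n)).1 inferInstance V t y hy
  refine ⟨V', h, hyV', cl R n _ (CohFree.ofSect (J X) ((Opens.map g).obj V') (Zs R n) s), ?_⟩
  rw [cAux_cl]
  show ((πc g R n).hom.app (op V')).hom (CohFree.evalGen (J X) _ _
    (CohFree.ofSect (J X) _ _ s)) = _
  rw [CohFree.evalGen_ofSect]
  exact hs

lemma cAux_locInj (V : Opens Y) (α : HE G (n + 1) ((Opens.map g).obj V))
    (hα : cAux g R n V α = 0) (y : Y) (hy : y ∈ V) :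
    ∃ (V' : Opens Y) (h : V' ≤ V), y ∈ V' ∧
      resE G (n + 1) ((Opens.map g).monotone h) α = 0 := by
  obtain ⟨ζ, rfl⟩ := cl_surjective R n _ α
  rw [cAux_cl] at hα
  obtain ⟨V', h, hyV', k, hk⟩ := exists_local_lift ((CohTop.push g).map (zlift R n)) V
    (CohFree.evalGen (J X) ((Opens.map g).obj V) (Zs R n) ζ) hα y hy
  refine ⟨V', h, hyV', ?_⟩
  rw [cl_res, cl_eq_zero_iff]
  refine ⟨CohFree.ofSect (J X) ((Opens.map g).obj V') (R.cocomplex.X n) k, ?_⟩
  apply (CohFree.homEquivSect (J X) _ _).injective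
  rw [CohFree.homEquivSect_apply, CohFree.homEquivSect_apply, evalGen_comp',
    CohFree.evalGen_ofSect, CohFree.evalGen_freeSheafMap_comp]
  exact hk

end Main

/-- **`R^{n+1} g_* G` is the sheaf associated with `V ↦ H^{n+1}(g⁻¹V, G)`**, in elementary terms: a natural
family of additive maps `c V : H^{n+1}(g⁻¹V, G) → Γ(V, R^{n+1} g_* G)` which is locally surjective and locally
injective. -/
theorem exists_comparison {X Y : TopCat.{u}} (g : X ⟶ Y) (G : CohTop.Ab X) (n : ℕ) :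
    ∃ c : ∀ V : Opens Y, HE G (n + 1) ((Opens.map g).obj V) →+
        ((CohTop.Rpush g (n + 1)).obj G).obj.obj (op V),
      (∀ (V V' : Opens Y) (h : V' ≤ V) (α : HE G (n + 1) ((Opens.map g).obj V)),
        c V' (resE G (n + 1) ((Opens.map g).monotone h) α) =
          (((CohTop.Rpush g (n + 1)).obj G).obj.map (homOfLE h).op).hom (c V α)) ∧
      (∀ (V : Opens Y) (t : ((CohTop.Rpush g (n + 1)).obj G).obj.obj (op V)) (y : Y), y ∈ V →
        ∃ (V' : Opens Y) (h : V' ≤ V), y ∈ V' ∧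
          ∃ α : HE G (n + 1) ((Opens.map g).obj V'),
            c V' α = (((CohTop.Rpush g (n + 1)).obj G).obj.map (homOfLE h).op).hom t) ∧
      (∀ (V : Opens Y) (α : HE G (n + 1) ((Opens.map g).obj V)), c V α = 0 → ∀ y : Y, y ∈ V →
        ∃ (V' : Opens Y) (h : V' ≤ V), y ∈ V' ∧ resE G (n + 1) ((Opens.map g).monotone h) α = 0) := by
  let R : InjectiveResolution G := Classical.choice (HasInjectiveResolution.out)
  haveI := Groth.Agent.Lib.Helper16.ClosedEmb.push_preservesFiniteLimits g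
  obtain ⟨e⟩ := nonempty_iso_cokernel (CohTop.push g) R n
  refine ⟨fun V => ((e.inv.hom.app (op V)).hom).comp (cAux g R n V), ?_, ?_, ?_⟩
  · intro V V' h α
    show (e.inv.hom.app (op V')).hom (cAux g R n V' (resE G (n + 1) _ α)) = _
    rw [cAux_res]
    exact app_res_apply e.inv h _
  · intro V t y hy
    obtain ⟨V', h, hyV', α, hα⟩ := cAux_locSurj g R n V ((e.hom.hom.app (op V)).hom t) y hy
    refine ⟨V', h, hyV', α, ?_⟩
    show (e.inv.hom.app (op V')).hom (cAux g R n V' α) = _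
    rw [hα, app_res_apply, iso_hom_inv_apply]
  · intro V α hα y hy
    have h0 : cAux g R n V α = 0 := by
      have h1 : (e.hom.hom.app (op V)).hom ((e.inv.hom.app (op V)).hom (cAux g R n V α)) =
          (e.hom.hom.app (op V)).hom 0 := congrArg _ hα
      rw [iso_inv_hom_apply, map_zero] at h1
      exact h1
    exact cAux_locInj g R n V α h0 y hy

end Groth.Agent.Lib.Lead.RpushCmp
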