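import Groth.Agent.Lib.LeadSegI
import Groth.Agent.Lib.Helper28FGDim
import Groth.Agent.Lib.Helper28DepthCM

/-!
# Segre products (lead), part J: graded Cohen–Macaulay modules are unmixed
-/

set_option autoImplicit false
set_option maxHeartbeats 400000
set_option linter.style.haveILetI false
set_option linter.unusedSectionVars false
set_option linter.unusedVariables false

universe u

noncomputable section

open TensorProduct

namespace Groth.Agent.Lib.LeadSeg

section Irr

variable {k : Type u} [Field k] {R : Type u} [CommRing R] [Algebra k R]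
  (𝒜 : ℤ → Submodule k R) [GradedAlgebra 𝒜]

/-- the irrelevant ideal -/
def irr : Ideal R := Ideal.span (⋃ n ∈ Set.Ioi (0 : ℤ), (𝒜 n : Set R))

lemma decompose_mul_zero_of_mem_irr (hpos : ∀ n : ℤ, n < 0 → 𝒜 n = ⊥) {y : R}
    (hy : y ∈ irr 𝒜) : ∀ r : R, (DirectSum.decompose 𝒜 (r * y) 0 : R) = 0 := by
  classical
  rw [irr] at hy
  induction hy using Submodule.span_induction with
  | mem a ha =>
    intro r
    simp only [Set.mem_iUnion, Set.mem_Ioi, SetLike.mem_coe, exists_prop] at ha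
    obtain ⟨n, hn, han⟩ := ha
    have h1 : (DirectSum.decompose 𝒜 (r * a) 0 : R) = (DirectSum.decompose 𝒜 r (-n) : R) * a := by
      have := DirectSum.coe_decompose_mul_add_of_right_mem 𝒜 (i := -n) (a := r) han
      rwa [neg_add_cancel] at this
    rw [h1]
    have h2 : (DirectSum.decompose 𝒜 r (-n) : R) = 0 := by
      have h' : ((DirectSum.decompose 𝒜 r (-n)) : R) ∈ (⊥ : Submodule k R) :=
        (congrArg (fun s : Submodule k R => ((DirectSum.decompose 𝒜 r (-n)) : R) ∈ s)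
          (hpos (-n) (by omega))).mp (DirectSum.decompose 𝒜 r (-n)).2
      exact (Submodule.mem_bot k).mp h'
    rw [h2, zero_mul]
  | zero =>
    intro r
    rw [mul_zero, DirectSum.decompose_zero, DirectSum.zero_apply, ZeroMemClass.coe_zero]
  | add y z _ _ hy hz =>
    intro r
    rw [mul_add, DirectSum.decompose_add, DirectSum.add_apply, AddMemClass.coe_add, hy r, hz r,
      add_zero]
  | smul s y _ hy =>
    intro r
    rw [smul_eq_mul, ← mul_assoc]
    exact hy (r * s)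

lemma one_notMem_irr [Nontrivial R] (hpos : ∀ n : ℤ, n < 0 → 𝒜 n = ⊥) : (1 : R) ∉ irr 𝒜 := by
  intro h1
  have h2 := decompose_mul_zero_of_mem_irr 𝒜 hpos h1 1
  rw [mul_one, DirectSum.decompose_of_mem_same 𝒜 (SetLike.GradedOne.one_mem)] at h2
  exact one_ne_zero h2

lemma irr_isMaximal [Nontrivial R] (hpos : ∀ n : ℤ, n < 0 → 𝒜 n = ⊥)
    (h0 : 𝒜 0 = Submodule.span k {(1 : R)}) : (irr 𝒜).IsMaximal := by
  classical
  rw [Ideal.isMaximal_iff]
  refine ⟨one_notMem_irr 𝒜 hpos, fun J x hpJ hxp hxJ => ?_⟩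
  have hx0 : (DirectSum.decompose 𝒜 x 0 : R) ∈ Submodule.span k {(1 : R)} :=
    (congrArg (fun s : Submodule k R => (DirectSum.decompose 𝒜 x 0 : R) ∈ s) h0).mp
      (DirectSum.decompose 𝒜 x 0).2
  obtain ⟨c, hc⟩ := Submodule.mem_span_singleton.mp hx0
  have hsub : x - (DirectSum.decompose 𝒜 x 0 : R) ∈ irr 𝒜 :=
    sub_decompose_zero_mem_irrelevant 𝒜 hpos x
  have hc0 : c ≠ 0 := by
    rintro rfl
    rw [zero_smul] at hc
    rw [← hc, sub_zero] at hsub
    exact hxp hsub
  have h1 : (DirectSum.decompose 𝒜 x 0 : R) ∈ J := by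
    have : (DirectSum.decompose 𝒜 x 0 : R) = x - (x - (DirectSum.decompose 𝒜 x 0 : R)) := by ring
    rw [this]
    exact Ideal.sub_mem _ hxJ (hpJ hsub)
  rw [← hc] at h1
  have h2 : (c⁻¹ • (c • (1 : R))) ∈ J := by
    rw [Algebra.smul_def]
    exact Ideal.mul_mem_left _ _ h1
  rwa [smul_smul, inv_mul_cancel₀ hc0, one_smul] at h2

lemma le_irr_of_isHomogeneous (hpos : ∀ n : ℤ, n < 0 → 𝒜 n = ⊥)
    (h0 : 𝒜 0 = Submodule.span k {(1 : R)}) {I : Ideal R} (hI : I.IsHomogeneous 𝒜)
    (hne : I ≠ ⊤) : I ≤ irr 𝒜 := by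
  classical
  intro x hx
  have hx0 : (DirectSum.decompose 𝒜 x 0 : R) ∈ Submodule.span k {(1 : R)} :=
    (congrArg (fun s : Submodule k R => (DirectSum.decompose 𝒜 x 0 : R) ∈ s) h0).mp
      (DirectSum.decompose 𝒜 x 0).2
  obtain ⟨c, hc⟩ := Submodule.mem_span_singleton.mp hx0
  have hsub : x - (DirectSum.decompose 𝒜 x 0 : R) ∈ irr 𝒜 :=
    sub_decompose_zero_mem_irrelevant 𝒜 hpos x
  have hxI : (DirectSum.decompose 𝒜 x 0 : R) ∈ I := hI 0 hx
  have hc0 : c = 0 := by
    by_contra hc0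
    apply hne
    rw [Ideal.eq_top_iff_one]
    rw [← hc] at hxI
    have h2 : (c⁻¹ • (c • (1 : R))) ∈ I := by
      rw [Algebra.smul_def]
      exact Ideal.mul_mem_left _ _ hxI
    rwa [smul_smul, inv_mul_cancel₀ hc0, one_smul] at h2
  rw [hc0, zero_smul] at hc
  rwa [← hc, sub_zero] at hsub

lemma isHomogeneous_of_mem_minimalPrimes {I : Ideal R} (hI : I.IsHomogeneous 𝒜) {p : Ideal R}
    (hp : p ∈ I.minimalPrimes) : p.IsHomogeneous 𝒜 := by
  classical
  have hpp : p.IsPrime := hp.1.1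
  have hcp : (p.homogeneousCore 𝒜).toIdeal.IsPrime := Ideal.IsPrime.homogeneousCore hpp
  have hle : (p.homogeneousCore 𝒜).toIdeal ≤ p := Ideal.toIdeal_homogeneousCore_le 𝒜 p
  have hIle : I ≤ (p.homogeneousCore 𝒜).toIdeal :=
    hI.toIdeal_homogeneousCore_eq_self.symm.trans_le (Ideal.homogeneousCore_mono 𝒜 hp.1.2)
  have hge : p ≤ (p.homogeneousCore 𝒜).toIdeal := hp.2 ⟨hcp, hIle⟩ hle
  have heq : (p.homogeneousCore 𝒜).toIdeal = p := le_antisymm hle hge
  rw [← heq]
  exact (p.homogeneousCore 𝒜).isHomogeneous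

end Irr

section Loc

lemma ringKrullDim_quotient_le_comap_localization {R : Type u} [CommRing R] (q : Ideal R)
    [q.IsPrime] (P' : Ideal (Localization.AtPrime q)) :
    ringKrullDim (Localization.AtPrime q ⧸ P') ≤
      ringKrullDim (R ⧸ P'.comap (algebraMap R (Localization.AtPrime q))) := by
  rw [ringKrullDim_quotient, ringKrullDim_quotient]
  refine Order.krullDim_le_of_strictMono
    (fun a => ⟨PrimeSpectrum.comap (algebraMap R (Localization.AtPrime q)) a.1, ?_⟩) ?_
  · exact (PrimeSpectrum.mem_zeroLocus _ _).mpr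
      (Ideal.comap_mono ((PrimeSpectrum.mem_zeroLocus _ _).mp a.2))
  · intro a b hab
    have hab' : a.1 < b.1 := hab
    have hle : PrimeSpectrum.comap (algebraMap R (Localization.AtPrime q)) a.1 ≤
        PrimeSpectrum.comap (algebraMap R (Localization.AtPrime q)) b.1 :=
      Ideal.comap_mono hab'.le
    refine lt_of_le_of_ne hle ?_
    intro heq
    exact hab'.ne (PrimeSpectrum.localization_comap_injective (Localization.AtPrime q)
      q.primeCompl (congrArg Subtype.val heq))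

lemma ringKrullDim_quotient_le_supportDim_localization (k : Type u) [Field k] {R : Type u}
    [CommRing R] [Algebra k R] [Algebra.FiniteType k R]
    {M : Type u} [AddCommGroup M] [Module R M] [Module.Finite R M]
    (𝔪 : Ideal R) [h𝔪 : 𝔪.IsMaximal]
    (p₀ : Ideal R) [hp₀ : p₀.IsPrime] (hann : Module.annihilator R M ≤ p₀) (hp₀𝔪 : p₀ ≤ 𝔪) :
    ringKrullDim (R ⧸ p₀) ≤
      Module.supportDim (Localization.AtPrime 𝔪) (LocalizedModule 𝔪.primeCompl M) := by
  haveI hmax' : (𝔪.map (Ideal.Quotient.mk p₀)).IsMaximal :=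
    Ideal.IsMaximal.map_of_surjective_of_ker_le Ideal.Quotient.mk_surjective
      (by rwa [Ideal.mk_ker])
  have h1 := Groth.Agent.Lib.Helper28.height_eq_ringKrullDim_quotient_of_isMaximal_of_finiteType
    k R p₀ (𝔪.map (Ideal.Quotient.mk p₀))
  rw [← h1]
  have h𝔪M : (⟨𝔪, h𝔪.isPrime⟩ : PrimeSpectrum R) ∈ Module.support R M := by
    rw [Module.support_eq_zeroLocus]
    exact hann.trans hp₀𝔪
  rw [Groth.Agent.Lib.Helper28.supportDim_localization_eq_height 𝔪 M h𝔪M]
  refine WithBot.coe_le_coe.mpr ?_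
  have h2 := PrimeSpectrum.height_eq_orderHeight
    (⟨𝔪.map (Ideal.Quotient.mk p₀), hmax'.isPrime⟩ : PrimeSpectrum (R ⧸ p₀))
  have h2' : (𝔪.map (Ideal.Quotient.mk p₀)).height = Order.height
      (⟨𝔪.map (Ideal.Quotient.mk p₀), hmax'.isPrime⟩ : PrimeSpectrum (R ⧸ p₀)) := h2
  rw [h2']
  have hmemf : ∀ q : PrimeSpectrum (R ⧸ p₀),
      PrimeSpectrum.comap (Ideal.Quotient.mk p₀) q ∈ Module.support R M := by
    intro q
    rw [Module.support_eq_zeroLocus]
    intro r hr
    show Ideal.Quotient.mk p₀ r ∈ q.asIdeal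
    rw [Ideal.Quotient.eq_zero_iff_mem.mpr (hann hr)]
    exact Ideal.zero_mem _
  have hf : StrictMono (fun q : PrimeSpectrum (R ⧸ p₀) =>
      (⟨PrimeSpectrum.comap (Ideal.Quotient.mk p₀) q, hmemf q⟩ : Module.support R M)) :=
    fun a b hab => Groth.Agent.Lib.Helper28.comap_strictMono_of_surjective
      (Ideal.Quotient.mk p₀) Ideal.Quotient.mk_surjective hab
  have h3 := Order.height_le_height_apply_of_strictMono _ hf
    (⟨𝔪.map (Ideal.Quotient.mk p₀), hmax'.isPrime⟩ : PrimeSpectrum (R ⧸ p₀))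
  refine le_trans h3 (le_of_eq ?_)
  congr 1
  apply Subtype.ext
  apply PrimeSpectrum.ext
  show (𝔪.map (Ideal.Quotient.mk p₀)).comap (Ideal.Quotient.mk p₀) = 𝔪
  rw [Ideal.comap_map_of_surjective _ Ideal.Quotient.mk_surjective, ← RingHom.ker_eq_comap_bot,
    Ideal.mk_ker]
  exact sup_eq_left.mpr hp₀𝔪

end Loc

section Unmixed

variable {k : Type u} [Field k] {R : Type u} [CommRing R] [Algebra k R]
  (𝒜 : ℤ → Submodule k R) [GradedAlgebra 𝒜]
  {M : Type u} [AddCommGroup M] [Module R M]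
  (ℳ : ℤ → AddSubgroup M) [DirectSum.Decomposition ℳ] [SetLike.GradedSMul 𝒜 ℳ]

/-- **Graded Cohen–Macaulay modules are unmixed**: the annihilator of every nonzero homogeneous
element has full dimension. -/
theorem ringKrullDim_torsionOf_of_CM (hpos : ∀ n : ℤ, n < 0 → 𝒜 n = ⊥)
    (h0 : 𝒜 0 = Submodule.span k {(1 : R)}) [Algebra.FiniteType k R] [Module.Finite R M]
    (r : ℕ) (hdM : Module.supportDim R M = r)
    (hMcm : ∀ (q : Ideal R) [q.IsPrime], Subsingleton (LocalizedModule q.primeCompl M) ∨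
      LocCoh.IsCohenMacaulayModule (Localization.AtPrime q) (LocalizedModule q.primeCompl M))
    {n : ℤ} {x : M} (hx : x ∈ ℳ n) (hx0 : x ≠ 0) :
    ringKrullDim (R ⧸ Ideal.torsionOf R M x) = r := by
  classical
  haveI : IsNoetherianRing R := Algebra.FiniteType.isNoetherianRing k R
  haveI : Nontrivial M := ⟨⟨x, 0, hx0⟩⟩
  haveI : Nontrivial R := Module.nontrivial R M
  have hdM' : ringKrullDim (R ⧸ Module.annihilator R M) = r := by
    rw [← Module.supportDim_eq_ringKrullDim_quotient_annihilator, hdM]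
  have hannle : Module.annihilator R M ≤ Ideal.torsionOf R M x := fun a ha =>
    (Ideal.mem_torsionOf_iff _ _).mpr (Module.mem_annihilator.mp ha _)
  apply le_antisymm
  · have h1 := ringKrullDim_le_of_surjective (Ideal.Quotient.factor hannle)
      (Ideal.Quotient.factor_surjective hannle)
    rwa [hdM'] at h1
  -- the irrelevant maximal ideal
  haveI h𝔪 : (irr 𝒜).IsMaximal := irr_isMaximal 𝒜 hpos h0
  haveI h𝔪p : (irr 𝒜).IsPrime := h𝔪.isPrime
  -- a minimal prime of full dimension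
  obtain ⟨p, hp, hple, hpdim⟩ := Groth.Agent.Lib.Helper4.HilbFun.exists_prime_dim_eq _ r hdM'
  haveI := hp
  obtain ⟨p₀, hp₀min, hp₀p⟩ := Ideal.exists_minimalPrimes_le hple
  haveI hp₀ : p₀.IsPrime := hp₀min.1.1
  have hannp₀ : Module.annihilator R M ≤ p₀ := hp₀min.1.2
  have hp₀dim : (r : WithBot ℕ∞) ≤ ringKrullDim (R ⧸ p₀) := by
    have h1 := ringKrullDim_le_of_surjective (Ideal.Quotient.factor hp₀p)
      (Ideal.Quotient.factor_surjective hp₀p)
    rwa [hpdim] at h1
  have hp₀hom : p₀.IsHomogeneous 𝒜 :=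
    isHomogeneous_of_mem_minimalPrimes 𝒜 (annihilator_isHomogeneous 𝒜 ℳ) hp₀min
  have hp₀𝔪 : p₀ ≤ irr 𝒜 := le_irr_of_isHomogeneous 𝒜 hpos h0 hp₀hom hp₀.ne_top
  have hloc : (r : WithBot ℕ∞) ≤ Module.supportDim (Localization.AtPrime (irr 𝒜))
      (LocalizedModule (irr 𝒜).primeCompl M) :=
    hp₀dim.trans (ringKrullDim_quotient_le_supportDim_localization k (irr 𝒜) p₀ hannp₀ hp₀𝔪)
  -- the localization is Cohen–Macaulay
  have h𝔪M : (⟨irr 𝒜, h𝔪p⟩ : PrimeSpectrum R) ∈ Module.support R M := by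
    rw [Module.support_eq_zeroLocus]
    exact hannp₀.trans hp₀𝔪
  haveI hnt : Nontrivial (LocalizedModule (irr 𝒜).primeCompl M) := Module.mem_support_iff.mp h𝔪M
  have hCM : LocCoh.IsCohenMacaulayModule (Localization.AtPrime (irr 𝒜))
      (LocalizedModule (irr 𝒜).primeCompl M) := by
    rcases hMcm (irr 𝒜) with h | h
    · exact absurd h (not_subsingleton _)
    · exact h
  -- the image of `x`
  have hIhom : (Ideal.torsionOf R M x).IsHomogeneous 𝒜 := torsionOf_isHomogeneous 𝒜 ℳ hx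
  have hIne : Ideal.torsionOf R M x ≠ ⊤ := by
    intro h
    apply hx0
    have h1 : (1 : R) ∈ Ideal.torsionOf R M x := h ▸ Submodule.mem_top
    rwa [Ideal.mem_torsionOf_iff, one_smul] at h1
  have hI𝔪 : Ideal.torsionOf R M x ≤ irr 𝒜 := le_irr_of_isHomogeneous 𝒜 hpos h0 hIhom hIne
  have hx' : LocalizedModule.mkLinearMap (irr 𝒜).primeCompl M x ≠ 0 := by
    intro h
    obtain ⟨c, hc⟩ := (IsLocalizedModule.eq_zero_iff (irr 𝒜).primeCompl
      (LocalizedModule.mkLinearMap (irr 𝒜).primeCompl M)).mp h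
    exact c.2 (hI𝔪 ((Ideal.mem_torsionOf_iff _ _).mpr hc))
  obtain ⟨P', hP'ass, hP'le⟩ := exists_le_isAssociatedPrime_of_isNoetherianRing
    (Localization.AtPrime (irr 𝒜)) _ hx'
  have hunm := Groth.Agent.Lib.Helper28.ringKrullDim_quotient_eq_supportDim_of_isCohenMacaulayModule
    hCM (p := P') hP'ass
  have hIle : Ideal.torsionOf R M x ≤ P'.comap (algebraMap R (Localization.AtPrime (irr 𝒜))) := by
    intro a ha
    rw [Ideal.mem_comap]
    apply hP'le
    rw [Submodule.mem_colon_singleton, Submodule.mem_bot, algebraMap_smul, ← map_smul,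
      (Ideal.mem_torsionOf_iff _ _).mp ha, map_zero]
  have h1 := ringKrullDim_le_of_surjective (Ideal.Quotient.factor hIle)
    (Ideal.Quotient.factor_surjective hIle)
  have h2 := ringKrullDim_quotient_le_comap_localization (irr 𝒜) P'
  rw [hunm] at h2
  exact hloc.trans (h2.trans h1)

end Unmixed

end Groth.Agent.Lib.LeadSeg
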