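import Groth.Agent.Lib.LeadGCMb
import Groth.Agent.Lib.Helper22GrAvoid
import Groth.Agent.Lib.Helper28DepthMore
import Groth.Agent.Lib.LeadSegJ

/-!
# Segre products with a one-dimensional factor (lead), part a

* `natGr`: the nonnegative part of a `ℤ`-grading (with vanishing negative part) as an `ℕ`-grading;
* `exists_homogeneous_nzd`: a Cohen–Macaulay connected graded algebra of positive dimension has a
  homogeneous non-zero-divisor of positive degree;
* `height_irr_eq`: the height of the irrelevant ideal is the dimension;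
* `two_le_idealDepth_irr`: the depth at the vertex of a Cohen–Macaulay graded ring of dimension
  at least two.
-/

set_option autoImplicit false
set_option maxHeartbeats 400000
set_option linter.style.haveILetI false
set_option linter.unusedSectionVars false
set_option linter.unusedVariables false

universe u

noncomputable section

namespace Groth.Agent.Lib.LeadSP

open Groth.Agent.Lib DirectSum

section NatGr

variable {k : Type u} [Field k] {R : Type u} [CommRing R] [Algebra k R]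
  (𝒜 : ℤ → Submodule k R) [GradedAlgebra 𝒜]

/-- the nonnegative part of a `ℤ`-grading, as an `ℕ`-indexed family -/
def natGr : ℕ → Submodule k R := fun n => 𝒜 (n : ℤ)

lemma mem_natGr {n : ℕ} {x : R} : x ∈ natGr 𝒜 n ↔ x ∈ 𝒜 (n : ℤ) := Iff.rfl

instance natGr_gradedMonoid : SetLike.GradedMonoid (natGr 𝒜) where
  one_mem := by
    show (1 : R) ∈ 𝒜 ((0 : ℕ) : ℤ)
    rw [Nat.cast_zero]
    exact SetLike.GradedOne.one_mem
  mul_mem := by
    intro i j a b ha hb
    show a * b ∈ 𝒜 ((i + j : ℕ) : ℤ)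
    rw [Nat.cast_add]
    exact SetLike.GradedMul.mul_mem ha hb

/-- the decomposition map for the `ℕ`-indexed family -/
def natDecHom : R →+ ⨁ n, natGr 𝒜 n where
  toFun r := DFinsupp.comapDomain (Nat.cast : ℕ → ℤ) Nat.cast_injective (DirectSum.decompose 𝒜 r)
  map_zero' := by
    rw [DirectSum.decompose_zero]
    exact DFinsupp.comapDomain_zero _ _
  map_add' a b := by
    rw [DirectSum.decompose_add]
    exact DFinsupp.comapDomain_add _ _ _ _

lemma natDecHom_of_mem {n : ℕ} {a : R} (ha : a ∈ 𝒜 (n : ℤ)) :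
    natDecHom 𝒜 a = DirectSum.of (fun n : ℕ => natGr 𝒜 n) n ⟨a, ha⟩ := by
  classical
  show DFinsupp.comapDomain (Nat.cast : ℕ → ℤ) Nat.cast_injective (DirectSum.decompose 𝒜 a) = _
  rw [DirectSum.decompose_of_mem 𝒜 ha]
  exact DFinsupp.comapDomain_single (β := fun i : ℤ => ↥(𝒜 i)) (Nat.cast : ℕ → ℤ)
    Nat.cast_injective n (⟨a, ha⟩ : 𝒜 (n : ℤ))

lemma eq_zero_of_mem_neg (hpos : ∀ n : ℤ, n < 0 → 𝒜 n = ⊥) {i : ℤ} (hi : i < 0) {a : R}
    (ha : a ∈ 𝒜 i) : a = 0 := by
  rw [hpos i hi, Submodule.mem_bot] at ha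
  exact ha

/-- the `ℕ`-indexed family decomposes the ring -/
@[instance_reducible]
def natDecomposition (hpos : ∀ n : ℤ, n < 0 → 𝒜 n = ⊥) : DirectSum.Decomposition (natGr 𝒜) :=
  DirectSum.Decomposition.ofAddHom (natGr 𝒜) (natDecHom 𝒜)
    (by
      apply AddMonoidHom.ext
      intro r
      refine DirectSum.Decomposition.inductionOn 𝒜
        (motive := fun r => ((DirectSum.coeAddMonoidHom (natGr 𝒜)).comp (natDecHom 𝒜)) r =
          (AddMonoidHom.id R) r) ?_ ?_ ?_ r
      · rw [map_zero, map_zero]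
      · intro i a
        rcases lt_or_ge i 0 with hi | hi
        · rw [eq_zero_of_mem_neg 𝒜 hpos hi a.2, map_zero, map_zero]
        · obtain ⟨n, rfl⟩ := Int.eq_ofNat_of_zero_le hi
          rw [AddMonoidHom.comp_apply, natDecHom_of_mem 𝒜 a.2, DirectSum.coeAddMonoidHom_of]
          rfl
      · intro a b ha hb
        rw [map_add, map_add, ha, hb])
    (by
      apply DirectSum.addHom_ext
      intro n a
      rw [AddMonoidHom.comp_apply, DirectSum.coeAddMonoidHom_of, natDecHom_of_mem 𝒜 a.2]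
      rfl)

/-- the `ℕ`-indexed family is a graded algebra structure -/
@[instance_reducible]
def natGradedAlgebra (hpos : ∀ n : ℤ, n < 0 → 𝒜 n = ⊥) : GradedAlgebra (natGr 𝒜) :=
  { natGr_gradedMonoid 𝒜 with
    toDecomposition := natDecomposition 𝒜 hpos }

lemma natGr_h0 (h0 : 𝒜 0 = Submodule.span k {(1 : R)}) :
    ∀ a ∈ natGr 𝒜 0, ∃ c : k, algebraMap k R c = a := by
  intro a ha
  have ha' : a ∈ 𝒜 0 := by
    have : a ∈ 𝒜 ((0 : ℕ) : ℤ) := ha
    rwa [Nat.cast_zero] at this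
  rw [h0] at ha'
  obtain ⟨c, hc⟩ := Submodule.mem_span_singleton.mp ha'
  exact ⟨c, by rw [← hc, Algebra.algebraMap_eq_smul_one]⟩

lemma irr_natGr [GradedAlgebra (natGr 𝒜)] : LeadGCM.irr (natGr 𝒜) = LeadSeg.irr 𝒜 := by
  rw [LeadGCM.irr, HomogeneousIdeal.irrelevant_eq_span, LeadSeg.irr]
  congr 1
  ext x
  simp only [Set.mem_iUnion, Set.mem_Ioi, SetLike.mem_coe, exists_prop]
  constructor
  · rintro ⟨n, hn, hx⟩
    exact ⟨(n : ℤ), by exact_mod_cast hn, hx⟩
  · rintro ⟨i, hi, hx⟩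
    obtain ⟨n, rfl⟩ := Int.eq_ofNat_of_zero_le hi.le
    exact ⟨n, by exact_mod_cast hi, hx⟩

end NatGr

section NatWorld

variable {K : Type u} [Field K] {A : Type u} [CommRing A] [Algebra K A]
  (𝒜 : ℕ → Submodule K A) [GradedAlgebra 𝒜]
  (h0 : ∀ a ∈ 𝒜 0, ∃ c : K, algebraMap K A c = a)

include h0 in
/-- the height of the irrelevant ideal is the dimension -/
theorem height_irr_eq_nat [IsNoetherianRing A] [Nontrivial A] :
    (((LeadGCM.irr 𝒜).height : ℕ∞) : WithBot ℕ∞) = ringKrullDim A := by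
  have h := LeadGCM.height_map_irr_eq 𝒜 h0 (I := ⊥) (Ideal.IsHomogeneous.bot 𝒜) bot_ne_top
  have hmap : (LeadGCM.irr 𝒜).map (Ideal.Quotient.mk (⊥ : Ideal A)) =
      (LeadGCM.irr 𝒜).map (RingEquiv.quotientBot A).symm := by
    ext x
    rw [Ideal.mem_map_iff_of_surjective _ Ideal.Quotient.mk_surjective,
      Ideal.mem_map_iff_of_surjective _ (RingEquiv.quotientBot A).symm.surjective]
    constructor
    · rintro ⟨a, ha, rfl⟩
      exact ⟨a, ha, RingEquiv.quotientBot_symm_mk a⟩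
    · rintro ⟨a, ha, rfl⟩
      exact ⟨a, ha, (RingEquiv.quotientBot_symm_mk a).symm⟩
  rw [hmap, RingEquiv.height_map] at h
  rw [h]
  exact ringKrullDim_eq_of_ringEquiv (RingEquiv.quotientBot A)

include h0 in
/-- a Cohen–Macaulay connected graded algebra of positive dimension has no socle -/
theorem irr_notMem_associatedPrimes [hCM : LocCoh.IsCohenMacaulayRing A]
    (h1 : 1 ≤ ringKrullDim A) : LeadGCM.irr 𝒜 ∉ associatedPrimes A A := by
  intro hass
  haveI : Nontrivial A := by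
    by_contra hnt
    rw [not_nontrivial_iff_subsingleton] at hnt
    rw [ringKrullDim_eq_bot_of_subsingleton] at h1
    exact absurd h1 (by simp)
  haveI h𝔪 : (LeadGCM.irr 𝒜).IsMaximal := LeadGCM.irr_isMaximal 𝒜 h0
  haveI h𝔪p : (LeadGCM.irr 𝒜).IsPrime := h𝔪.isPrime
  have hd0 := (Helper28.depth_localization_eq_zero_iff (M := A) (LeadGCM.irr 𝒜)).mpr hass
  rw [Helper28.depth_localizedModule_self] at hd0
  have hcm := (hCM.isCohenMacaulayLocalRing_localization (LeadGCM.irr 𝒜)).supportDim_eq_depth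
  rw [Helper28.supportDim_localization_self, hd0] at hcm
  have hht : (LeadGCM.irr 𝒜).height = 0 := by
    have := WithBot.coe_injective hcm
    simpa using this
  have h2 := height_irr_eq_nat 𝒜 h0
  rw [hht] at h2
  rw [← h2] at h1
  have h3 : (1 : WithBot ℕ∞) ≤ 0 := by simpa using h1
  exact absurd h3 (not_le.mpr zero_lt_one)

include h0 in
/-- **a Cohen–Macaulay connected graded algebra of positive dimension has a homogeneous
non-zero-divisor of positive degree** -/
theorem exists_homogeneous_nzd_nat [hCM : LocCoh.IsCohenMacaulayRing A]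
    (h1 : 1 ≤ ringKrullDim A) :
    ∃ (x : A) (d : ℕ), 0 < d ∧ x ∈ 𝒜 d ∧ x ∈ nonZeroDivisors A := by
  classical
  haveI : Nontrivial A := by
    by_contra hnt
    rw [not_nontrivial_iff_subsingleton] at hnt
    rw [ringKrullDim_eq_bot_of_subsingleton] at h1
    exact absurd h1 (by simp)
  haveI h𝔪 : (LeadGCM.irr 𝒜).IsMaximal := LeadGCM.irr_isMaximal 𝒜 h0
  have hfin : (associatedPrimes A A).Finite := associatedPrimes.finite A A
  have hP : ∀ p ∈ hfin.toFinset, p.IsPrime ∧ ¬ LeadGCM.irr 𝒜 ≤ p := by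
    intro p hp
    rw [Set.Finite.mem_toFinset] at hp
    have hpp : p.IsPrime := IsAssociatedPrime.isPrime hp
    refine ⟨hpp, fun hle => ?_⟩
    have heq : LeadGCM.irr 𝒜 = p := h𝔪.eq_of_le hpp.ne_top hle
    exact irr_notMem_associatedPrimes 𝒜 h0 h1 (heq ▸ hp)
  obtain ⟨x, d, hd, hxd, -, hxP⟩ := Helper22.GrAvoid.exists_homogeneous_avoid 𝒜 (LeadGCM.irr 𝒜)
    (LeadGCM.irr_isHomogeneous 𝒜) le_rfl hfin.toFinset hP
  refine ⟨x, d, hd, hxd, ?_⟩
  rw [mem_nonZeroDivisors_iff_right]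
  intro z hz
  by_contra hz0
  have hmem : x ∈ {r : A | ∃ y : A, y ≠ 0 ∧ r • y = 0} := ⟨z, hz0, by rw [smul_eq_mul, mul_comm]; exact hz⟩
  rw [← biUnion_associatedPrimes_eq_zero_divisors A A] at hmem
  simp only [Set.mem_iUnion, SetLike.mem_coe, exists_prop] at hmem
  obtain ⟨p, hp, hxp⟩ := hmem
  exact hxP p ((Set.Finite.mem_toFinset hfin).mpr hp) hxp

end NatWorld

section IntWorld

variable {k : Type u} [Field k] {R : Type u} [CommRing R] [Algebra k R]
  (𝒜 : ℤ → Submodule k R) [GradedAlgebra 𝒜]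

/-- **a Cohen–Macaulay connected `ℤ`-graded algebra of positive dimension has a homogeneous
non-zero-divisor of positive degree** -/
theorem exists_homogeneous_nzd (hpos : ∀ n : ℤ, n < 0 → 𝒜 n = ⊥)
    (h0 : 𝒜 0 = Submodule.span k {(1 : R)}) [hCM : LocCoh.IsCohenMacaulayRing R]
    (h1 : 1 ≤ ringKrullDim R) :
    ∃ (x : R) (d : ℕ), 0 < d ∧ x ∈ 𝒜 (d : ℤ) ∧ x ∈ nonZeroDivisors R := by
  letI := natGradedAlgebra 𝒜 hpos
  exact exists_homogeneous_nzd_nat (natGr 𝒜) (natGr_h0 𝒜 h0) h1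

/-- the height of the irrelevant ideal is the dimension -/
theorem height_irr_eq (hpos : ∀ n : ℤ, n < 0 → 𝒜 n = ⊥)
    (h0 : 𝒜 0 = Submodule.span k {(1 : R)}) [IsNoetherianRing R] [Nontrivial R] :
    (((LeadSeg.irr 𝒜).height : ℕ∞) : WithBot ℕ∞) = ringKrullDim R := by
  letI := natGradedAlgebra 𝒜 hpos
  rw [← irr_natGr 𝒜]
  exact height_irr_eq_nat (natGr 𝒜) (natGr_h0 𝒜 h0)

/-- the depth at the vertex of a Cohen–Macaulay graded ring of dimension at least two -/
theorem two_le_idealDepth_irr (hpos : ∀ n : ℤ, n < 0 → 𝒜 n = ⊥)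
    (h0 : 𝒜 0 = Submodule.span k {(1 : R)}) [hCM : LocCoh.IsCohenMacaulayRing R]
    (h2 : 2 ≤ ringKrullDim R) : 2 ≤ LocCoh.idealDepth (LeadSeg.irr 𝒜) R := by
  haveI : Nontrivial R := by
    by_contra hnt
    rw [not_nontrivial_iff_subsingleton] at hnt
    rw [ringKrullDim_eq_bot_of_subsingleton] at h2
    exact absurd h2 (by simp)
  haveI h𝔪 : (LeadSeg.irr 𝒜).IsMaximal := LeadSeg.irr_isMaximal 𝒜 hpos h0
  rw [Helper28.idealDepth_self_eq_height_of_isCohenMacaulayRing hCM (LeadSeg.irr 𝒜) h𝔪.ne_top]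
  have h := height_irr_eq 𝒜 hpos h0
  rw [← h] at h2
  exact WithBot.coe_le_coe.mp (by simpa using h2)

end IntWorld

end Groth.Agent.Lib.LeadSP
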