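import Groth.Agent.Lib.LeadSPa

/-!
# Segre products with a one-dimensional factor (lead), part b: standard graded algebras

`R` is a `ℤ`-graded algebra over a field `k` with vanishing negative part and `R_0 = k`.

* `std_piece`: `R_{n+1} = R_1 R_n` when `R` is standard graded;
* `geI`: the ideal generated by the pieces of degree `≥ n`;
* `exists_forall_div`: in dimension one, `R_{n+d} = x R_n` for `n ≫ 0`, `x ∈ R_d` regular;
* `exists_gen_of_top_piece`, `piece_eq_span_pow`: if `R_d = k x` with `x` regular then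
  `R_n = k y^n` for a regular `y ∈ R_1`;
* `aeval_bijective`: then `R = k[y]` is a polynomial ring;
* `exists_gen_of_algEquiv`: conversely a standard graded algebra isomorphic to `k[X]` has
  `R_n = k y^n`.
-/

set_option autoImplicit false
set_option maxHeartbeats 400000
set_option linter.style.haveILetI false
set_option linter.unusedSectionVars false
set_option linter.unusedVariables false

universe u

noncomputable section

namespace Groth.Agent.Lib.LeadSP

open Groth.Agent.Lib DirectSum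

section Gen

variable {k : Type u} [Field k] {R : Type u} [CommRing R] [Algebra k R]
  (𝒜 : ℤ → Submodule k R) [GradedAlgebra 𝒜]

/-- in a standard graded algebra `R_{n+1} = R_1 R_n` -/
theorem std_piece
    (hstd : Ideal.span (⋃ n ∈ Set.Ioi (0 : ℤ), (𝒜 n : Set R)) =
      Ideal.span ((𝒜 1 : Submodule k R) : Set R))
    {n : ℤ} (hn : 0 ≤ n) {r : R} (hr : r ∈ 𝒜 (n + 1)) :
    r ∈ Submodule.span k {z : R | ∃ y ∈ 𝒜 1, ∃ c ∈ 𝒜 n, z = y * c} := by
  classical
  have hmem : r ∈ Ideal.span ((𝒜 1 : Submodule k R) : Set R) := by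
    rw [← hstd]
    refine Ideal.subset_span ?_
    simp only [Set.mem_iUnion, Set.mem_Ioi, SetLike.mem_coe, exists_prop]
    exact ⟨n + 1, by omega, hr⟩
  have key : ∀ t ∈ Ideal.span ((𝒜 1 : Submodule k R) : Set R), ∀ c : R,
      ((DirectSum.decompose 𝒜 (c * t) (n + 1) : R)) ∈
        Submodule.span k {z : R | ∃ y ∈ 𝒜 1, ∃ c ∈ 𝒜 n, z = y * c} := by
    intro t ht
    induction ht using Submodule.span_induction with
    | mem y hy =>
      intro c
      rw [DirectSum.coe_decompose_mul_add_of_right_mem 𝒜 (i := n) (a := c) hy]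
      exact Submodule.subset_span ⟨y, hy, _, (DirectSum.decompose 𝒜 c n).2, mul_comm _ _⟩
    | zero =>
      intro c
      rw [mul_zero, DirectSum.decompose_zero, DirectSum.zero_apply, ZeroMemClass.coe_zero]
      exact Submodule.zero_mem _
    | add y z _ _ hy hz =>
      intro c
      rw [mul_add, DirectSum.decompose_add, DirectSum.add_apply, AddMemClass.coe_add]
      exact Submodule.add_mem _ (hy c) (hz c)
    | smul s y _ hy =>
      intro c
      rw [smul_eq_mul, ← mul_assoc]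
      exact hy (c * s)
  have := key r hmem 1
  rwa [one_mul, DirectSum.decompose_of_mem_same 𝒜 hr] at this

/-- a homogeneous multiple of a homogeneous element is a multiple by a homogeneous element -/
theorem exists_eq_mul_of_mem_span {d n : ℤ} {x : R} (hx : x ∈ 𝒜 d) {ρ : R} (hρ : ρ ∈ 𝒜 (n + d))
    (hmem : ρ ∈ Ideal.span {x}) : ∃ ρ' ∈ 𝒜 n, ρ = x * ρ' := by
  classical
  obtain ⟨c, hc⟩ := Ideal.mem_span_singleton'.mp hmem
  refine ⟨(DirectSum.decompose 𝒜 c n : R), (DirectSum.decompose 𝒜 c n).2, ?_⟩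
  have h1 := DirectSum.coe_decompose_mul_add_of_right_mem 𝒜 (i := n) (a := c) hx
  rw [hc, DirectSum.decompose_of_mem_same 𝒜 hρ] at h1
  rw [h1, mul_comm]

/-- the ideal generated by the pieces of degree at least `n` -/
def geI (n : ℤ) : Ideal R := Ideal.span (⋃ i ∈ Set.Ici n, (𝒜 i : Set R))

lemma geI_mul_le (a b : ℤ) : geI 𝒜 a * geI 𝒜 b ≤ geI 𝒜 (a + b) := by
  rw [geI, geI, Ideal.span_mul_span']
  refine Ideal.span_le.mpr ?_
  rintro _ ⟨u, hu, v, hv, rfl⟩
  simp only [Set.mem_iUnion, Set.mem_Ici, SetLike.mem_coe, exists_prop] at hu hv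
  obtain ⟨i, hi, hui⟩ := hu
  obtain ⟨j, hj, hvj⟩ := hv
  refine Ideal.subset_span ?_
  simp only [Set.mem_iUnion, Set.mem_Ici, SetLike.mem_coe, exists_prop]
  exact ⟨i + j, by omega, SetLike.GradedMul.mul_mem hui hvj⟩

lemma irr_eq_geI : LeadSeg.irr 𝒜 = geI 𝒜 1 := by
  rw [LeadSeg.irr, geI]
  congr 1

lemma mem_irr_of_mem {i : ℤ} (hi : 0 < i) {x : R} (hx : x ∈ 𝒜 i) : x ∈ LeadSeg.irr 𝒜 := by
  refine Ideal.subset_span ?_
  simp only [Set.mem_iUnion, Set.mem_Ioi, SetLike.mem_coe, exists_prop]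
  exact ⟨i, hi, hx⟩

lemma geI_zero : geI 𝒜 0 = ⊤ := by
  rw [Ideal.eq_top_iff_one]
  refine Ideal.subset_span ?_
  simp only [Set.mem_iUnion, Set.mem_Ici, SetLike.mem_coe, exists_prop]
  exact ⟨0, le_rfl, SetLike.GradedOne.one_mem⟩

lemma irr_pow_le (N : ℕ) : LeadSeg.irr 𝒜 ^ N ≤ geI 𝒜 (N : ℤ) := by
  induction N with
  | zero =>
    rw [pow_zero, Ideal.one_eq_top, Nat.cast_zero, geI_zero]
  | succ N ih =>
    rw [pow_succ, Nat.cast_succ]
    exact le_trans (Ideal.mul_mono ih (irr_eq_geI 𝒜).le) (geI_mul_le 𝒜 _ _)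

lemma decompose_eq_zero_of_mem_geI (hpos : ∀ n : ℤ, n < 0 → 𝒜 n = ⊥) {n : ℤ} {t : R}
    (ht : t ∈ geI 𝒜 n) {i : ℤ} (hi : i < n) : (DirectSum.decompose 𝒜 t i : R) = 0 := by
  classical
  have key : ∀ t ∈ geI 𝒜 n, ∀ c : R, (DirectSum.decompose 𝒜 (c * t) i : R) = 0 := by
    intro t ht
    rw [geI] at ht
    induction ht using Submodule.span_induction with
    | mem a ha =>
      intro c
      simp only [Set.mem_iUnion, Set.mem_Ici, SetLike.mem_coe, exists_prop] at ha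
      obtain ⟨j, hj, haj⟩ := ha
      have h1 := DirectSum.coe_decompose_mul_add_of_right_mem 𝒜 (i := i - j) (a := c) haj
      rw [sub_add_cancel] at h1
      rw [h1, eq_zero_of_mem_neg 𝒜 hpos (by omega) (DirectSum.decompose 𝒜 c (i - j)).2, zero_mul]
    | zero =>
      intro c
      rw [mul_zero, DirectSum.decompose_zero, DirectSum.zero_apply, ZeroMemClass.coe_zero]
    | add y z _ _ hy hz =>
      intro c
      rw [mul_add, DirectSum.decompose_add, DirectSum.add_apply, AddMemClass.coe_add, hy c, hz c,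
        add_zero]
    | smul s y _ hy =>
      intro c
      rw [smul_eq_mul, ← mul_assoc]
      exact hy (c * s)
  have := key t ht 1
  rwa [one_mul] at this

lemma mem_span_of_mem_geI (hpos : ∀ n : ℤ, n < 0 → 𝒜 n = ⊥) {n : ℤ} {t : R}
    (ht : t ∈ geI 𝒜 n) : t ∈ Submodule.span k (⋃ i ∈ Set.Ici n, (𝒜 i : Set R)) := by
  classical
  have h := DirectSum.sum_support_decompose 𝒜 t
  rw [← h]
  refine Submodule.sum_mem _ fun i _ => ?_
  rcases lt_or_ge i n with hi | hi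
  · rw [decompose_eq_zero_of_mem_geI 𝒜 hpos ht hi]
    exact Submodule.zero_mem _
  · refine Submodule.subset_span ?_
    simp only [Set.mem_iUnion, Set.mem_Ici, SetLike.mem_coe, exists_prop]
    exact ⟨i, hi, (DirectSum.decompose 𝒜 t i).2⟩

/-- in a standard graded algebra `R_j ⊆ 𝔪^j` -/
theorem piece_le_irr_pow
    (hstd : Ideal.span (⋃ n ∈ Set.Ioi (0 : ℤ), (𝒜 n : Set R)) =
      Ideal.span ((𝒜 1 : Submodule k R) : Set R)) (j : ℕ) :
    ∀ r ∈ 𝒜 (j : ℤ), r ∈ LeadSeg.irr 𝒜 ^ j := by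
  induction j with
  | zero =>
    intro r _
    rw [pow_zero, Ideal.one_eq_top]
    exact Submodule.mem_top
  | succ j ih =>
    intro r hr
    rw [Nat.cast_succ] at hr
    have h1 := std_piece 𝒜 hstd (Nat.cast_nonneg j) hr
    have hle : Submodule.span k {z : R | ∃ y ∈ 𝒜 1, ∃ c ∈ 𝒜 (j : ℤ), z = y * c} ≤
        (LeadSeg.irr 𝒜 ^ (j + 1)).restrictScalars k := by
      refine Submodule.span_le.mpr ?_
      rintro _ ⟨y, hy, c, hc, rfl⟩
      show y * c ∈ LeadSeg.irr 𝒜 ^ (j + 1)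
      rw [pow_succ']
      exact Ideal.mul_mem_mul (mem_irr_of_mem 𝒜 one_pos hy) (ih c hc)
    exact hle h1

/-- **in dimension one the pieces of high degree are multiples of a regular homogeneous element**
-/
theorem exists_forall_div (hpos : ∀ n : ℤ, n < 0 → 𝒜 n = ⊥)
    (h0 : 𝒜 0 = Submodule.span k {(1 : R)})
    (hstd : Ideal.span (⋃ n ∈ Set.Ioi (0 : ℤ), (𝒜 n : Set R)) =
      Ideal.span ((𝒜 1 : Submodule k R) : Set R))
    [IsNoetherianRing R] (hr : ringKrullDim R = 1)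
    {d : ℕ} (hd : 0 < d) {x : R} (hx : x ∈ 𝒜 (d : ℤ)) (hxreg : x ∈ nonZeroDivisors R) :
    ∃ N : ℕ, ∀ n : ℕ, N ≤ n → ∀ ρ ∈ 𝒜 ((n : ℤ) + d), ∃ ρ' ∈ 𝒜 (n : ℤ), ρ = x * ρ' := by
  classical
  haveI : Nontrivial R := by
    by_contra hnt
    rw [not_nontrivial_iff_subsingleton] at hnt
    rw [ringKrullDim_eq_bot_of_subsingleton] at hr
    exact absurd hr (by simp)
  haveI h𝔪 : (LeadSeg.irr 𝒜).IsMaximal := LeadSeg.irr_isMaximal 𝒜 hpos h0
  haveI h𝔪p : (LeadSeg.irr 𝒜).IsPrime := h𝔪.isPrime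
  have hxhom : (Ideal.span {x}).IsHomogeneous 𝒜 := by
    refine Ideal.homogeneous_span 𝒜 _ ?_
    rintro _ rfl
    exact ⟨(d : ℤ), hx⟩
  have hrad : LeadSeg.irr 𝒜 ≤ (Ideal.span {x}).radical := by
    rw [← Ideal.sInf_minimalPrimes]
    refine le_sInf fun q hq => ?_
    haveI hqp : q.IsPrime := hq.1.1
    have hqhom := LeadSeg.isHomogeneous_of_mem_minimalPrimes 𝒜 hxhom hq
    have hqm : q ≤ LeadSeg.irr 𝒜 := LeadSeg.le_irr_of_isHomogeneous 𝒜 hpos h0 hqhom hqp.ne_top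
    by_contra hnle
    have hlt : q < LeadSeg.irr 𝒜 := lt_of_le_of_ne hqm (fun h => hnle h.ge)
    have hxq : x ∈ q := hq.1.2 (Ideal.mem_span_singleton_self x)
    have hq0 : q.height ≠ 0 := by
      intro h
      have hmin := Ideal.height_eq_zero_iff.mp h
      exact Set.disjoint_left.mp (Ideal.disjoint_nonZeroDivisors_of_mem_minimalPrimes hmin) hxq
        hxreg
    have h1 : q.height + 1 ≤ (LeadSeg.irr 𝒜).height :=
      Ideal.height_add_one_le_of_lt_of_isPrime hlt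
    have h2 : ((LeadSeg.irr 𝒜).height : WithBot ℕ∞) ≤ ringKrullDim R :=
      Ideal.height_le_ringKrullDim_of_ne_top h𝔪.ne_top
    rw [hr] at h2
    have h3 : (LeadSeg.irr 𝒜).height ≤ 1 := WithBot.coe_le_coe.mp (by simpa using h2)
    have h4 : 1 ≤ q.height := Order.one_le_iff_ne_zero.mpr hq0
    have h5 : (1 : ℕ∞) + 1 ≤ 1 := le_trans (add_le_add_left h4 1) (h1.trans h3)
    exact absurd h5 (by decide)
  obtain ⟨N, hN⟩ := Ideal.exists_pow_le_of_le_radical_of_fg hrad (IsNoetherian.noetherian _)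
  refine ⟨N, fun n hn ρ hρ => ?_⟩
  have h1 : ρ ∈ LeadSeg.irr 𝒜 ^ (n + d) :=
    piece_le_irr_pow 𝒜 hstd (n + d) ρ (by rwa [Nat.cast_add])
  have h2 : ρ ∈ Ideal.span {x} := hN (Ideal.pow_le_pow_right (by omega) h1)
  exact exists_eq_mul_of_mem_span 𝒜 hx hρ h2

/-- if the piece of degree `d` is spanned by a regular element, the piece of degree one is
spanned by a regular element -/
theorem exists_gen_of_top_piece
    (hstd : Ideal.span (⋃ n ∈ Set.Ioi (0 : ℤ), (𝒜 n : Set R)) =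
      Ideal.span ((𝒜 1 : Submodule k R) : Set R))
    {d : ℕ} (hd : 0 < d) {x : R} (hx : x ∈ 𝒜 (d : ℤ))
    (hxreg : x ∈ nonZeroDivisors R) (hx0 : x ≠ 0)
    (hall : ∀ ρ ∈ 𝒜 (d : ℤ), ∃ c : k, ρ = c • x) :
    ∃ y ∈ 𝒜 1, y ∈ nonZeroDivisors R ∧ ∀ y' ∈ 𝒜 1, ∃ c : k, y' = c • y := by
  obtain ⟨d', rfl⟩ : ∃ d', d = d' + 1 := ⟨d - 1, by omega⟩
  have hx' : x ∈ 𝒜 ((d' : ℤ) + 1) := by rwa [Nat.cast_succ] at hx
  have h1 := std_piece 𝒜 hstd (Nat.cast_nonneg d') hx'
  obtain ⟨y, hy, c, hc, hyc⟩ : ∃ y ∈ 𝒜 1, ∃ c ∈ 𝒜 (d' : ℤ), y * c ≠ 0 := by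
    by_contra hcon
    push Not at hcon
    apply hx0
    have hle : Submodule.span k {z : R | ∃ y ∈ 𝒜 1, ∃ c ∈ 𝒜 (d' : ℤ), z = y * c} ≤ ⊥ := by
      refine Submodule.span_le.mpr ?_
      rintro _ ⟨y, hy, c, hc, rfl⟩
      exact (Submodule.mem_bot k).mpr (hcon y hy c hc)
    exact (Submodule.mem_bot k).mp (hle h1)
  have hmemd : ∀ y' ∈ 𝒜 1, y' * c ∈ 𝒜 ((d' + 1 : ℕ) : ℤ) := by
    intro y' hy'
    have := SetLike.GradedMul.mul_mem hy' hc
    rw [Nat.cast_succ, add_comm]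
    exact this
  obtain ⟨l, hl⟩ := hall _ (hmemd y hy)
  have hl0 : l ≠ 0 := by
    rintro rfl
    rw [zero_smul] at hl
    exact hyc hl
  have hxz : ∀ z : R, z * (l • x) = 0 → z = 0 := by
    intro z hz
    rw [mul_smul_comm] at hz
    rcases smul_eq_zero.mp hz with h | h
    · exact absurd h hl0
    · exact (mem_nonZeroDivisors_iff_right.mp hxreg) z h
  have hyreg : y ∈ nonZeroDivisors R := by
    rw [mem_nonZeroDivisors_iff_right]
    intro z hz
    apply hxz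
    rw [← hl, ← mul_assoc, hz, zero_mul]
  have hcreg : ∀ z, z * c = 0 → z = 0 := by
    intro z hz
    apply hxz
    rw [← hl, mul_comm y c, ← mul_assoc, hz, zero_mul]
  refine ⟨y, hy, hyreg, fun y' hy' => ?_⟩
  obtain ⟨m, hm⟩ := hall _ (hmemd y' hy')
  refine ⟨m * l⁻¹, ?_⟩
  have : (y' - (m * l⁻¹) • y) * c = 0 := by
    rw [sub_mul, smul_mul_assoc, hm, hl, smul_smul, mul_assoc, inv_mul_cancel₀ hl0, mul_one,
      sub_self]
  exact sub_eq_zero.mp (hcreg _ this)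

/-- if `R_1 = k y` then `R_n = k y^n` -/
theorem piece_eq_span_pow (h0 : 𝒜 0 = Submodule.span k {(1 : R)})
    (hstd : Ideal.span (⋃ n ∈ Set.Ioi (0 : ℤ), (𝒜 n : Set R)) =
      Ideal.span ((𝒜 1 : Submodule k R) : Set R))
    {y : R} (hgen : ∀ y' ∈ 𝒜 1, ∃ c : k, y' = c • y) :
    ∀ n : ℕ, ∀ ρ ∈ 𝒜 (n : ℤ), ∃ c : k, ρ = c • y ^ n := by
  intro n
  induction n with
  | zero =>
    intro ρ hρ
    rw [Nat.cast_zero, h0] at hρ
    obtain ⟨c, hc⟩ := Submodule.mem_span_singleton.mp hρ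
    exact ⟨c, by rw [pow_zero, hc]⟩
  | succ n ih =>
    intro ρ hρ
    rw [Nat.cast_succ] at hρ
    have h1 := std_piece 𝒜 hstd (Nat.cast_nonneg n) hρ
    have hle : Submodule.span k {z : R | ∃ y ∈ 𝒜 1, ∃ c ∈ 𝒜 (n : ℤ), z = y * c} ≤
        Submodule.span k {y ^ (n + 1)} := by
      refine Submodule.span_le.mpr ?_
      rintro _ ⟨y', hy', c, hc, rfl⟩
      obtain ⟨a, rfl⟩ := hgen y' hy'
      obtain ⟨b, rfl⟩ := ih c hc
      rw [SetLike.mem_coe, Submodule.mem_span_singleton]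
      exact ⟨a * b, by rw [smul_mul_smul_comm, pow_succ']⟩
    obtain ⟨c, hc⟩ := Submodule.mem_span_singleton.mp (hle h1)
    exact ⟨c, hc.symm⟩

/-- **a graded algebra with `R_n = k y^n`, `y` regular, is the polynomial ring `k[y]`** -/
theorem aeval_bijective (hpos : ∀ n : ℤ, n < 0 → 𝒜 n = ⊥) [Nontrivial R] {y : R}
    (hy : y ∈ 𝒜 1) (hyreg : y ∈ nonZeroDivisors R)
    (hP : ∀ n : ℕ, ∀ ρ ∈ 𝒜 (n : ℤ), ∃ c : k, ρ = c • y ^ n) :
    Function.Bijective (Polynomial.aeval y : Polynomial k →ₐ[k] R) := by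
  classical
  have hypow : ∀ n : ℕ, y ^ n ∈ 𝒜 (n : ℤ) := fun n => by
    have := SetLike.pow_mem_graded n hy
    rwa [nsmul_eq_mul, mul_one] at this
  constructor
  · rw [injective_iff_map_eq_zero]
    intro f hf
    ext m
    rw [Polynomial.coeff_zero]
    have h2 : (DirectSum.decompose 𝒜 (Polynomial.aeval y f) (m : ℤ) : R) = f.coeff m • y ^ m := by
      rw [Polynomial.aeval_eq_sum_range, DirectSum.decompose_sum, DFinsupp.finsetSum_apply,
        AddSubmonoidClass.coe_finsetSum]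
      by_cases hm : m ∈ Finset.range (f.natDegree + 1)
      · rw [Finset.sum_eq_single_of_mem m hm]
        · exact DirectSum.decompose_of_mem_same 𝒜 (Submodule.smul_mem _ _ (hypow m))
        · intro n _ hnm
          exact DirectSum.decompose_of_mem_ne 𝒜 (Submodule.smul_mem _ _ (hypow n))
            (by exact_mod_cast hnm)
      · rw [Finset.sum_eq_zero]
        · rw [Finset.mem_range, not_lt] at hm
          rw [Polynomial.coeff_eq_zero_of_natDegree_lt (by omega), zero_smul]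
        · intro n hn
          have hnm : n ≠ m := fun h => hm (h ▸ hn)
          exact DirectSum.decompose_of_mem_ne 𝒜 (Submodule.smul_mem _ _ (hypow n))
            (by exact_mod_cast hnm)
    rw [hf, DirectSum.decompose_zero, DirectSum.zero_apply, ZeroMemClass.coe_zero] at h2
    rcases smul_eq_zero.mp h2.symm with h | h
    · exact h
    · exact absurd h (nonZeroDivisors.ne_zero (pow_mem hyreg m))
  · intro ρ
    have hall : ∀ ρ : R, ρ ∈ (Polynomial.aeval y : Polynomial k →ₐ[k] R).range := by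
      intro ρ
      refine DirectSum.Decomposition.inductionOn 𝒜
        (motive := fun ρ => ρ ∈ (Polynomial.aeval y : Polynomial k →ₐ[k] R).range) ?_ ?_ ?_ ρ
      · exact Subalgebra.zero_mem _
      · intro i a
        rcases lt_or_ge i 0 with hi | hi
        · rw [eq_zero_of_mem_neg 𝒜 hpos hi a.2]
          exact Subalgebra.zero_mem _
        · obtain ⟨n, rfl⟩ := Int.eq_ofNat_of_zero_le hi
          obtain ⟨c, hc⟩ := hP n a a.2
          rw [hc]
          exact Subalgebra.smul_mem _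
            (Subalgebra.pow_mem _ ((AlgHom.mem_range _).mpr ⟨Polynomial.X, Polynomial.aeval_X y⟩) n) c
      · intro a b ha hb
        exact Subalgebra.add_mem _ ha hb
    exact hall ρ

/-- in a connected graded algebra whose irrelevant ideal is principal, `R_1` is at most a line -/
theorem exists_gen_of_principal (hpos : ∀ n : ℤ, n < 0 → 𝒜 n = ⊥)
    (h0 : 𝒜 0 = Submodule.span k {(1 : R)}) {f : R} (hf : LeadSeg.irr 𝒜 = Ideal.span {f}) :
    ∃ y ∈ 𝒜 1, ∀ y' ∈ 𝒜 1, ∃ c : k, y' = c • y := by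
  classical
  refine ⟨(DirectSum.decompose 𝒜 f 1 : R), (DirectSum.decompose 𝒜 f 1).2, fun y' hy' => ?_⟩
  have hy'm : y' ∈ LeadSeg.irr 𝒜 := mem_irr_of_mem 𝒜 one_pos hy'
  rw [hf] at hy'm
  obtain ⟨g, hg⟩ := Ideal.mem_span_singleton'.mp hy'm
  obtain ⟨g₀, hg₀def⟩ : ∃ g₀ : R, g₀ = (DirectSum.decompose 𝒜 g 0 : R) := ⟨_, rfl⟩
  have hg₀mem : g₀ ∈ 𝒜 0 := hg₀def ▸ (DirectSum.decompose 𝒜 g 0).2
  have hgp : g - g₀ ∈ LeadSeg.irr 𝒜 := by
    rw [hg₀def]
    exact LeadSeg.sub_decompose_zero_mem_irrelevant 𝒜 hpos g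
  have hfm : f ∈ LeadSeg.irr 𝒜 := by
    rw [hf]
    exact Ideal.mem_span_singleton_self f
  have h2 : (g - g₀) * f ∈ geI 𝒜 (1 + 1) := by
    have := Ideal.mul_mem_mul hgp hfm
    rw [irr_eq_geI] at this
    exact geI_mul_le 𝒜 1 1 this
  have h3 : (DirectSum.decompose 𝒜 ((g - g₀) * f) 1 : R) = 0 :=
    decompose_eq_zero_of_mem_geI 𝒜 hpos h2 (by norm_num)
  have h4 : (DirectSum.decompose 𝒜 (g₀ * f) 1 : R) = g₀ * (DirectSum.decompose 𝒜 f 1 : R) := by
    have := DirectSum.coe_decompose_mul_add_of_left_mem 𝒜 (j := 1) (b := f) hg₀mem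
    rwa [zero_add] at this
  have h5 : y' = g₀ * (DirectSum.decompose 𝒜 f 1 : R) := by
    have hsplit : y' = g₀ * f + (g - g₀) * f := by
      rw [← hg]
      ring
    have h6 : (DirectSum.decompose 𝒜 y' 1 : R) =
        (DirectSum.decompose 𝒜 (g₀ * f + (g - g₀) * f) 1 : R) := by rw [← hsplit]
    rw [DirectSum.decompose_of_mem_same 𝒜 hy', DirectSum.decompose_add, DirectSum.add_apply,
      AddMemClass.coe_add, h3, h4, add_zero] at h6
    exact h6
  rw [h0] at hg₀mem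
  obtain ⟨c, hc⟩ := Submodule.mem_span_singleton.mp hg₀mem
  exact ⟨c, by rw [h5, ← hc, smul_mul_assoc, one_mul]⟩

/-- **a standard graded algebra which is abstractly a polynomial ring in one variable has
`R_n = k y^n` with `y` regular** -/
theorem exists_gen_of_algEquiv (hpos : ∀ n : ℤ, n < 0 → 𝒜 n = ⊥)
    (h0 : 𝒜 0 = Submodule.span k {(1 : R)})
    (hstd : Ideal.span (⋃ n ∈ Set.Ioi (0 : ℤ), (𝒜 n : Set R)) =
      Ideal.span ((𝒜 1 : Submodule k R) : Set R))
    (e : R ≃ₐ[k] Polynomial k) :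
    ∃ y ∈ 𝒜 1, y ∈ nonZeroDivisors R ∧ ∀ n : ℕ, ∀ ρ ∈ 𝒜 (n : ℤ), ∃ c : k, ρ = c • y ^ n := by
  haveI : IsDomain R := MulEquiv.isDomain (Polynomial k) e.toRingEquiv.toMulEquiv
  haveI : IsPrincipalIdealRing R :=
    IsPrincipalIdealRing.of_surjective (e.symm : Polynomial k →+* R) e.symm.surjective
  haveI h𝔪 : (LeadSeg.irr 𝒜).IsMaximal := LeadSeg.irr_isMaximal 𝒜 hpos h0
  obtain ⟨f, hf⟩ := (IsPrincipalIdealRing.principal (LeadSeg.irr 𝒜)).principal
  obtain ⟨y, hy, hgen⟩ := exists_gen_of_principal 𝒜 hpos h0 (f := f) hf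
  have hnf : ¬ IsField R := fun h =>
    Polynomial.not_isField k (MulEquiv.isField h e.symm.toRingEquiv.toMulEquiv)
  have hy0 : y ≠ 0 := by
    rintro rfl
    apply Ring.ne_bot_of_isMaximal_of_not_isField h𝔪 hnf
    rw [LeadSeg.irr, hstd, Ideal.span_eq_bot]
    intro y' hy'
    obtain ⟨c, hc⟩ := hgen y' hy'
    rw [hc, smul_zero]
  exact ⟨y, hy, mem_nonZeroDivisors_of_ne_zero hy0, piece_eq_span_pow 𝒜 h0 hstd hgen⟩

end Gen

end Groth.Agent.Lib.LeadSP
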