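import Mathlib

/-!
# Segre products (lead), part C: the projection of `R ⊗ S` onto its balanced part

`pi0 (a ⊗ b) = Σ_n a_n ⊗ b_n`. It is the identity on the span of the `a ⊗ b` with `a ∈ R_n`,
`b ∈ S_n`, and linear over that span.
-/

set_option autoImplicit false
set_option maxHeartbeats 400000
set_option linter.style.haveILetI false
set_option linter.unusedSectionVars false
set_option linter.unusedVariables false

universe u

noncomputable section

open TensorProduct DirectSum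

namespace Groth.Agent.Lib.LeadSeg

theorem isIntegralElem_of_eq {P F : Type*} [CommRing P] [CommRing F] (φ : P →+* F) (y : F) (n : ℕ)
    (c : Fin n → P) (h : y ^ n + ∑ j : Fin n, φ (c j) * y ^ (j : ℕ) = 0) : φ.IsIntegralElem y :=
  ⟨Polynomial.X ^ n + ∑ j : Fin n, Polynomial.C (c j) * Polynomial.X ^ (j : ℕ),
    Polynomial.monic_X_pow_add (Polynomial.degree_sum_fin_lt c), by
    simpa [Polynomial.eval₂_add, Polynomial.eval₂_finsetSum] using h⟩

variable {k : Type u} [Field k] {R S : Type u} [CommRing R] [CommRing S] [Algebra k R] [Algebra k S]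
  (𝒜 : ℤ → Submodule k R) [GradedAlgebra 𝒜] (ℬ : ℤ → Submodule k S) [GradedAlgebra ℬ]

/-- the balanced projection -/
def pi0 : R ⊗[k] S →ₗ[k] R ⊗[k] S :=
  (DirectSum.toModule k ℤ (R ⊗[k] S)
      (fun n => TensorProduct.map (𝒜 n).subtype (GradedAlgebra.proj ℬ n))) ∘ₗ
    (TensorProduct.directSumLeft k k (fun n => 𝒜 n) S).toLinearMap ∘ₗ
    (TensorProduct.map (DirectSum.decomposeLinearEquiv 𝒜).toLinearMap LinearMap.id)

lemma pi0_tmul_of_mem {n : ℤ} {a : R} (ha : a ∈ 𝒜 n) (b : S) :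
    pi0 𝒜 ℬ (a ⊗ₜ[k] b) = a ⊗ₜ[k] (DirectSum.decompose ℬ b n : S) := by
  have h1 : (DirectSum.decomposeLinearEquiv 𝒜).toLinearMap a =
      DirectSum.lof k ℤ (fun n => 𝒜 n) n ⟨a, ha⟩ := by
    show DirectSum.decompose 𝒜 a = _
    rw [DirectSum.decompose_of_mem 𝒜 ha]
    rfl
  rw [pi0, LinearMap.comp_apply, LinearMap.comp_apply, TensorProduct.map_tmul,
    h1, LinearMap.id_apply, LinearEquiv.coe_coe,
    TensorProduct.directSumLeft_tmul_lof, DirectSum.toModule_lof, TensorProduct.map_tmul,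
    Submodule.subtype_apply, GradedAlgebra.proj_apply]

lemma pi0_tmul_of_mem_mem {n : ℤ} {a : R} (ha : a ∈ 𝒜 n) {b : S} (hb : b ∈ ℬ n) :
    pi0 𝒜 ℬ (a ⊗ₜ[k] b) = a ⊗ₜ[k] b := by
  rw [pi0_tmul_of_mem 𝒜 ℬ ha, DirectSum.decompose_of_mem_same ℬ hb]

lemma pi0_one : pi0 𝒜 ℬ (1 : R ⊗[k] S) = 1 := by
  rw [Algebra.TensorProduct.one_def]
  exact pi0_tmul_of_mem_mem 𝒜 ℬ (SetLike.one_mem_graded 𝒜) (SetLike.one_mem_graded ℬ)

/-- `pi0` is linear over balanced elementary tensors -/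
lemma pi0_mul_tmul (c : R ⊗[k] S) {n : ℤ} {a : R} (ha : a ∈ 𝒜 n) {b : S} (hb : b ∈ ℬ n) :
    pi0 𝒜 ℬ (c * (a ⊗ₜ[k] b)) = pi0 𝒜 ℬ c * (a ⊗ₜ[k] b) := by
  induction c using TensorProduct.induction_on with
  | zero => rw [zero_mul, map_zero, zero_mul]
  | add x y hx hy => rw [add_mul, map_add, map_add, add_mul, hx, hy]
  | tmul c₁ c₂ =>
    induction c₁ using DirectSum.Decomposition.inductionOn 𝒜 with
    | zero => rw [TensorProduct.zero_tmul, zero_mul, map_zero, zero_mul]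
    | add x y hx hy =>
      rw [TensorProduct.add_tmul, add_mul, map_add, map_add, add_mul, hx, hy]
    | homogeneous x =>
      rename_i m
      have hxa : (x : R) * a ∈ 𝒜 (m + n) := SetLike.mul_mem_graded x.2 ha
      rw [Algebra.TensorProduct.tmul_mul_tmul, pi0_tmul_of_mem 𝒜 ℬ hxa,
        pi0_tmul_of_mem 𝒜 ℬ x.2, Algebra.TensorProduct.tmul_mul_tmul,
        DirectSum.coe_decompose_mul_add_of_right_mem ℬ hb]

/-- the span of the balanced elementary tensors -/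
def segreSpan : Submodule k (R ⊗[k] S) :=
  ⨆ n : ℤ, Submodule.span k {x : R ⊗[k] S | ∃ a ∈ 𝒜 n, ∃ b ∈ ℬ n, x = a ⊗ₜ[k] b}

lemma pi0_mul_of_mem_segreSpan (c : R ⊗[k] S) {t : R ⊗[k] S} (ht : t ∈ segreSpan 𝒜 ℬ) :
    pi0 𝒜 ℬ (c * t) = pi0 𝒜 ℬ c * t := by
  rw [segreSpan] at ht
  induction ht using Submodule.iSup_induction' with
  | mem n x hx =>
    induction hx using Submodule.span_induction with
    | mem y hy =>
      obtain ⟨a, ha, b, hb, rfl⟩ := hy
      exact pi0_mul_tmul 𝒜 ℬ c ha hb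
    | zero => rw [mul_zero, map_zero, mul_zero]
    | add x y _ _ hx hy => rw [mul_add, map_add, hx, hy, mul_add]
    | smul r x _ hx => rw [mul_smul_comm, map_smul, hx, mul_smul_comm]
  | zero => rw [mul_zero, map_zero, mul_zero]
  | add x y _ _ hx hy => rw [mul_add, map_add, hx, hy, mul_add]

lemma pi0_of_mem_segreSpan {t : R ⊗[k] S} (ht : t ∈ segreSpan 𝒜 ℬ) : pi0 𝒜 ℬ t = t := by
  have := pi0_mul_of_mem_segreSpan 𝒜 ℬ 1 ht
  rwa [one_mul, pi0_one, one_mul] at this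

/-- transfer of integrality along `pi0` -/
theorem isIntegral_of_pi0 (B' T' : Subalgebra k (R ⊗[k] S))
    (hB'T' : ∀ c ∈ B', pi0 𝒜 ℬ c ∈ T') (t : R ⊗[k] S)
    (ht : ∀ j : ℕ, t ^ j ∈ segreSpan 𝒜 ℬ) (hint : IsIntegral B' t) : IsIntegral T' t := by
  classical
  obtain ⟨p, hmonic, hp⟩ := hint
  rw [Polynomial.eval₂_eq_sum_range] at hp
  have h1 := congrArg (pi0 𝒜 ℬ) hp
  rw [map_sum, map_zero, Finset.sum_range_succ] at h1
  have htop : pi0 𝒜 ℬ ((algebraMap B' (R ⊗[k] S)) (p.coeff p.natDegree) * t ^ p.natDegree) =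
      t ^ p.natDegree := by
    rw [Polynomial.Monic.coeff_natDegree hmonic, map_one, one_mul,
      pi0_of_mem_segreSpan 𝒜 ℬ (ht _)]
  rw [htop] at h1
  have hlow : ∀ i, pi0 𝒜 ℬ ((algebraMap B' (R ⊗[k] S)) (p.coeff i) * t ^ i) =
      pi0 𝒜 ℬ ((p.coeff i : B') : R ⊗[k] S) * t ^ i := fun i =>
    pi0_mul_of_mem_segreSpan 𝒜 ℬ _ (ht i)
  simp only [hlow] at h1
  refine isIntegralElem_of_eq (algebraMap T' (R ⊗[k] S)) t p.natDegree
    (fun j => ⟨pi0 𝒜 ℬ ((p.coeff j : B') : R ⊗[k] S), hB'T' _ (SetLike.coe_mem _)⟩) ?_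
  rw [← Fin.sum_univ_eq_sum_range
    (fun i => pi0 𝒜 ℬ ((p.coeff i : B') : R ⊗[k] S) * t ^ i) p.natDegree] at h1
  rw [add_comm]
  exact h1

end Groth.Agent.Lib.LeadSeg
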