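import Groth.Agent.Lib.LeadSegD
import Groth.Agent.Lib.Helper14FTDim

/-!
# Segre products (lead), part E: `dim k[X_i Y_j] = r + s - 1`
-/

set_option autoImplicit false
set_option maxHeartbeats 400000
set_option linter.style.haveILetI false
set_option linter.unusedSectionVars false
set_option linter.unusedVariables false

universe u

noncomputable section

open MvPolynomial

namespace Groth.Agent.Lib.LeadSeg

section General

lemma isAlgebraic_of_mul_eq {A B : Type*} [CommRing A] [CommRing B] [Algebra A B] {x : B}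
    (a b : A) (ha : a ≠ 0) (h : algebraMap A B a * x = algebraMap A B b) : IsAlgebraic A x := by
  refine ⟨Polynomial.C a * Polynomial.X - Polynomial.C b, ?_, ?_⟩
  · intro h0
    have := congrArg (fun p => Polynomial.coeff p 1) h0
    simp at this
    exact ha this
  · simp [h]

end General

variable (k : Type u) [Field k] (r s : ℕ)

/-- exponent vectors of the transcendence basis -/
def expo : Fin (r + 1) ⊕ Fin s → ((Fin (r + 1) ⊕ Fin (s + 1)) →₀ ℕ)
  | Sum.inl i => Finsupp.single (Sum.inl i) 1 + Finsupp.single (Sum.inr 0) 1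
  | Sum.inr j => Finsupp.single (Sum.inl 0) 1 + Finsupp.single (Sum.inr j.succ) 1

/-- the transcendence basis -/
def tb (b : Fin (r + 1) ⊕ Fin s) : MvPolynomial (Fin (r + 1) ⊕ Fin (s + 1)) k :=
  monomial (expo r s b) 1

lemma tb_inl (i : Fin (r + 1)) : tb k r s (Sum.inl i) = X (Sum.inl i) * X (Sum.inr 0) := by
  rw [tb, expo, X, X, monomial_mul, one_mul]

lemma tb_inr (j : Fin s) : tb k r s (Sum.inr j) = X (Sum.inl 0) * X (Sum.inr j.succ) := by
  rw [tb, expo, X, X, monomial_mul, one_mul]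

lemma tb_mem (b : Fin (r + 1) ⊕ Fin s) : tb k r s b ∈ segPoly k (r + 1) (s + 1) := by
  rcases b with i | j
  · rw [tb_inl]; exact segGen_mem k _ _ _ _
  · rw [tb_inr]; exact segGen_mem k _ _ _ _

/-- the exponent map -/
def expoL : ((Fin (r + 1) ⊕ Fin s) →₀ ℕ) →ₗ[ℕ] ((Fin (r + 1) ⊕ Fin (s + 1)) →₀ ℕ) :=
  Finsupp.linearCombination ℕ (expo r s)

lemma expoL_apply (ν : (Fin (r + 1) ⊕ Fin s) →₀ ℕ) (a : Fin (r + 1) ⊕ Fin (s + 1)) :
    expoL r s ν a = (∑ i : Fin (r + 1), ν (Sum.inl i) * expo r s (Sum.inl i) a) +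
      ∑ j : Fin s, ν (Sum.inr j) * expo r s (Sum.inr j) a := by
  rw [expoL, Finsupp.linearCombination_apply,
    Finsupp.sum_fintype _ _ (fun i => zero_smul ℕ (expo r s i)),
    Finsupp.finsetSum_apply, Fintype.sum_sum_type]
  simp only [Finsupp.smul_apply, smul_eq_mul]

lemma expoL_inl_succ (ν : (Fin (r + 1) ⊕ Fin s) →₀ ℕ) (i : Fin r) :
    expoL r s ν (Sum.inl i.succ) = ν (Sum.inl i.succ) := by
  classical
  rw [expoL_apply]
  simp [expo, Finsupp.single_apply, Fin.succ_ne_zero, (Fin.succ_ne_zero _).symm,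
    Finset.sum_ite_eq']

lemma expoL_inr_succ (ν : (Fin (r + 1) ⊕ Fin s) →₀ ℕ) (j : Fin s) :
    expoL r s ν (Sum.inr j.succ) = ν (Sum.inr j) := by
  classical
  rw [expoL_apply]
  simp [expo, Finsupp.single_apply, Fin.succ_ne_zero, (Fin.succ_ne_zero _).symm,
    Finset.sum_ite_eq']

lemma expoL_inl_zero (ν : (Fin (r + 1) ⊕ Fin s) →₀ ℕ) :
    expoL r s ν (Sum.inl 0) = ν (Sum.inl 0) + ∑ j : Fin s, ν (Sum.inr j) := by
  classical
  rw [expoL_apply]
  simp [expo, Finsupp.single_apply, Finset.sum_ite_eq']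

lemma expoL_injective : Function.Injective (expoL r s) := by
  intro ν ν' h
  have hj : ∀ j : Fin s, ν (Sum.inr j) = ν' (Sum.inr j) := fun j => by
    have := DFunLike.congr_fun h (Sum.inr j.succ)
    rwa [expoL_inr_succ, expoL_inr_succ] at this
  ext b
  rcases b with i | j
  · refine Fin.cases ?_ (fun i' => ?_) i
    · have := DFunLike.congr_fun h (Sum.inl 0)
      rw [expoL_inl_zero, expoL_inl_zero, Finset.sum_congr rfl fun j _ => hj j] at this
      exact Nat.add_right_cancel this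
    · have := DFunLike.congr_fun h (Sum.inl i'.succ)
      rwa [expoL_inl_succ, expoL_inl_succ] at this
  · exact hj j

lemma aeval_tb_monomial (ν : (Fin (r + 1) ⊕ Fin s) →₀ ℕ) (c : k) :
    aeval (tb k r s) (monomial ν c) = monomial (expoL r s ν) c := by
  rw [aeval_monomial, Finsupp.prod]
  have h1 : ∀ b ∈ ν.support, tb k r s b ^ ν b = monomial (ν b • expo r s b) (1 : k) := by
    intro b _
    rw [tb, monomial_pow, one_pow]
  rw [Finset.prod_congr rfl h1, ← monomial_sum_one, MvPolynomial.algebraMap_eq, C_mul_monomial,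
    mul_one]
  congr 1

lemma coeff_aeval_tb (p : MvPolynomial (Fin (r + 1) ⊕ Fin s) k)
    (ν₀ : (Fin (r + 1) ⊕ Fin s) →₀ ℕ) :
    coeff (expoL r s ν₀) (aeval (tb k r s) p) = coeff ν₀ p := by
  classical
  refine MvPolynomial.induction_on' p (fun ν c => ?_) (fun p q hp hq => ?_)
  · rw [aeval_tb_monomial, coeff_monomial, coeff_monomial]
    simp only [(expoL_injective r s).eq_iff]
  · rw [map_add, coeff_add, coeff_add, hp, hq]

lemma algebraicIndependent_tb : AlgebraicIndependent k (tb k r s) := by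
  rw [algebraicIndependent_iff_injective_aeval, injective_iff_map_eq_zero]
  intro p hp
  ext ν₀
  rw [← coeff_aeval_tb, hp, coeff_zero, coeff_zero]

/-- the transcendence basis, as elements of the Segre subalgebra -/
def tbS (b : Fin (r + 1) ⊕ Fin s) : segPoly k (r + 1) (s + 1) :=
  ⟨tb k r s b, tb_mem k r s b⟩

lemma algebraicIndependent_tbS : AlgebraicIndependent k (tbS k r s) := by
  refine AlgebraicIndependent.of_comp (segPoly k (r + 1) (s + 1)).val ?_
  exact algebraicIndependent_tb k r s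

section Gen

lemma isAlgebraic_adjoin_of_generators {k A : Type*} [CommRing k] [CommRing A] [Algebra k A]
    (t : Set A) (A₀ : Subalgebra k (Algebra.adjoin k t)) [IsDomain A₀]
    (h : ∀ x : Algebra.adjoin k t, (x : A) ∈ t → IsAlgebraic A₀ x) :
    Algebra.IsAlgebraic A₀ (Algebra.adjoin k t) := by
  have htop : (⊤ : Subalgebra k (Algebra.adjoin k t)) ≤
      (Subalgebra.algebraicClosure A₀ (Algebra.adjoin k t)).restrictScalars k := by
    rw [← Algebra.adjoin_adjoin_coe_preimage]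
    exact Algebra.adjoin_le (fun x hx => h x hx)
  exact ⟨fun x => htop Algebra.mem_top⟩

end Gen

lemma isAlgebraic_tbS :
    Algebra.IsAlgebraic (Algebra.adjoin k (Set.range (tbS k r s))) (segPoly k (r + 1) (s + 1)) := by
  classical
  have hdom : IsDomain (Algebra.adjoin k (Set.range (tbS k r s))) := inferInstance
  refine @isAlgebraic_adjoin_of_generators k (MvPolynomial (Fin (r + 1) ⊕ Fin (s + 1)) k) _ _ _
    (Set.range (segGen k (r + 1) (s + 1))) (Algebra.adjoin k (Set.range (tbS k r s))) hdom ?_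
  rintro ⟨x, hx⟩ ⟨⟨i, j⟩, hij⟩
  have hmem : ∀ b, tbS k r s b ∈ Algebra.adjoin k (Set.range (tbS k r s)) :=
    fun b => Algebra.subset_adjoin ⟨b, rfl⟩
  -- the element `X_0 Y_j` of `A₀`
  obtain ⟨m0j, hm0j⟩ : ∃ m0j : Algebra.adjoin k (Set.range (tbS k r s)),
      ((m0j : segPoly k (r + 1) (s + 1)) : MvPolynomial (Fin (r + 1) ⊕ Fin (s + 1)) k) =
        X (Sum.inl 0) * X (Sum.inr j) := by
    refine Fin.cases ?_ (fun j' => ?_) j
    · exact ⟨⟨tbS k r s (Sum.inl 0), hmem _⟩, tb_inl k r s 0⟩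
    · exact ⟨⟨tbS k r s (Sum.inr j'), hmem _⟩, tb_inr k r s j'⟩
  obtain ⟨a0, ha0⟩ : ∃ a0 : Algebra.adjoin k (Set.range (tbS k r s)),
      ((a0 : segPoly k (r + 1) (s + 1)) : MvPolynomial (Fin (r + 1) ⊕ Fin (s + 1)) k) =
        tb k r s (Sum.inl 0) := ⟨⟨tbS k r s (Sum.inl 0), hmem _⟩, rfl⟩
  obtain ⟨ai, hai⟩ : ∃ ai : Algebra.adjoin k (Set.range (tbS k r s)),
      ((ai : segPoly k (r + 1) (s + 1)) : MvPolynomial (Fin (r + 1) ⊕ Fin (s + 1)) k) =
        tb k r s (Sum.inl i) := ⟨⟨tbS k r s (Sum.inl i), hmem _⟩, rfl⟩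
  have ha0ne : a0 ≠ 0 := by
    intro h0
    rw [h0] at ha0
    have h1 : tb k r s (Sum.inl 0) = 0 := ha0.symm
    rw [tb, monomial_eq_zero] at h1
    exact one_ne_zero h1
  have hrel : algebraMap (Algebra.adjoin k (Set.range (tbS k r s))) (segPoly k (r + 1) (s + 1)) a0 *
      (⟨x, hx⟩ : segPoly k (r + 1) (s + 1)) =
      algebraMap (Algebra.adjoin k (Set.range (tbS k r s))) (segPoly k (r + 1) (s + 1))
        (ai * m0j) := by
    apply Subtype.ext
    show ((a0 : segPoly k (r + 1) (s + 1)) : MvPolynomial (Fin (r + 1) ⊕ Fin (s + 1)) k) * x =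
      ((ai : segPoly k (r + 1) (s + 1)) : MvPolynomial (Fin (r + 1) ⊕ Fin (s + 1)) k) *
      ((m0j : segPoly k (r + 1) (s + 1)) : MvPolynomial (Fin (r + 1) ⊕ Fin (s + 1)) k)
    have hx' : x = segGen k (r + 1) (s + 1) (i, j) := hij.symm
    rw [ha0, hai, hm0j, hx', tb_inl, tb_inl, segGen]
    ring
  exact isAlgebraic_of_mul_eq a0 (ai * m0j) ha0ne hrel

lemma isTranscendenceBasis_tbS : IsTranscendenceBasis k (tbS k r s) :=
  (isTranscendenceBasis_iff_algebraicIndependent_isAlgebraic).mpr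
    ⟨algebraicIndependent_tbS k r s, isAlgebraic_tbS k r s⟩

section Gen

lemma ringKrullDim_of_isTranscendenceBasis (k S : Type u) [Field k] [CommRing S] [IsDomain S]
    [Algebra k S] [Algebra.FiniteType k S] {ι : Type} [Fintype ι] (x : ι → S)
    (hx : IsTranscendenceBasis k x) : ringKrullDim S = ((Fintype.card ι : ℕ) : WithBot ℕ∞) := by
  obtain ⟨n, h1, h2, -⟩ := Groth.Agent.Lib.Helper14.FTDim.exists_dim k S
  haveI : Algebra.IsAlgebraic S (FractionRing S) :=
    IsLocalization.isAlgebraic (FractionRing S) (nonZeroDivisors S)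
  have hB := hx.algebraMap_comp (A := FractionRing S)
  have hc := hB.lift_cardinalMk_eq_trdeg
  rw [h1] at hc
  have hn : n = Fintype.card ι := by
    rw [Cardinal.mk_fintype, Cardinal.lift_natCast, Cardinal.lift_natCast] at hc
    exact (Nat.cast_injective hc).symm
  rw [h2, hn]

end Gen

instance finiteType_segPoly : Algebra.FiniteType k (segPoly k (r + 1) (s + 1)) := by
  rw [← Subalgebra.fg_iff_finiteType]
  exact Subalgebra.fg_def.mpr ⟨_, Set.finite_range _, rfl⟩

/-- **The dimension of the Segre subalgebra** `k[X_i Y_j]`. -/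
theorem ringKrullDim_segPoly :
    ringKrullDim (segPoly k (r + 1) (s + 1)) = ((r + s + 1 : ℕ) : WithBot ℕ∞) := by
  rw [ringKrullDim_of_isTranscendenceBasis k (segPoly k (r + 1) (s + 1)) (tbS k r s)
    (isTranscendenceBasis_tbS k r s)]
  have : Fintype.card (Fin (r + 1) ⊕ Fin s) = r + s + 1 := by
    rw [Fintype.card_sum, Fintype.card_fin, Fintype.card_fin]; omega
  rw [this]

end Groth.Agent.Lib.LeadSeg
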