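import Groth.Agent.Lib.LeadSegB
import Groth.Agent.Lib.LeadSegC
import Groth.Agent.Lib.LeadSegE

/-!
# Segre products (lead), part F: `dim (R # S) = dim R + dim S - 1`
-/

set_option autoImplicit false
set_option maxHeartbeats 400000
set_option linter.style.haveILetI false
set_option linter.unusedSectionVars false
set_option linter.unusedVariables false

universe u

noncomputable section

open MvPolynomial TensorProduct

namespace Groth.Agent.Lib.LeadSeg

section General

lemma isIntegralElem_of_comm {P P' A A' : Type*} [CommRing P] [CommRing P'] [CommRing A]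
    [CommRing A'] (f : P →+* A) (f' : P' →+* A') (g : P →+* P') (h : A →+* A')
    (hcomm : ∀ p, f' (g p) = h (f p)) {a : A} (ha : f.IsIntegralElem a) :
    f'.IsIntegralElem (h a) := by
  obtain ⟨p, hp, hpa⟩ := ha
  refine ⟨p.map g, hp.map g, ?_⟩
  have hc : f'.comp g = h.comp f := RingHom.ext hcomm
  rw [Polynomial.eval₂_map, hc, ← Polynomial.hom_eval₂, hpa, map_zero]

lemma isIntegral_range_of_isIntegralElem {k A B : Type*} [CommRing k] [CommRing A] [CommRing B]
    [Algebra k A] [Algebra k B] (f : A →ₐ[k] B) {z : B} (h : f.toRingHom.IsIntegralElem z) :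
    IsIntegral f.range z := by
  have hcomp : (algebraMap f.range B).comp f.rangeRestrict.toRingHom = f.toRingHom := by
    ext a; rfl
  rw [← hcomp] at h
  exact RingHom.IsIntegralElem.of_comp h

lemma isIntegralElem_of_isIntegral_map {k A B : Type*} [CommRing k] [CommRing A] [CommRing B]
    [Algebra k A] [Algebra k B] (f : A →ₐ[k] B) (U : Subalgebra k A) {z : B}
    (h : IsIntegral (U.map f) z) : (f.toRingHom.comp (algebraMap U A)).IsIntegralElem z := by
  obtain ⟨p, hp, hpz⟩ := h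
  obtain ⟨fU, hfU⟩ : ∃ fU : U →+* U.map f, ∀ u : U, ((fU u : U.map f) : B) = f (u : A) :=
    ⟨((f.comp U.val).codRestrict (U.map f) (fun u => ⟨u, u.2, rfl⟩)).toRingHom, fun u => rfl⟩
  have hsurj : Function.Surjective fU := by
    rintro ⟨y, hy⟩
    obtain ⟨u, hu, rfl⟩ := Subalgebra.mem_map.mp hy
    exact ⟨⟨u, hu⟩, Subtype.ext (hfU ⟨u, hu⟩)⟩
  have hlift : p ∈ Polynomial.lifts fU := by
    rw [Polynomial.lifts_iff_coeff_lifts]
    intro n
    exact hsurj _
  obtain ⟨q, hq, -, hqm⟩ := Polynomial.lifts_and_natDegree_eq_and_monic hlift hp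
  refine ⟨q, hqm, ?_⟩
  have hcomp : (f.toRingHom.comp (algebraMap U A)) = (algebraMap (U.map f) B).comp fU := by
    ext u
    exact (hfU u).symm
  rw [hcomp, ← Polynomial.eval₂_map, hq]
  exact hpz

lemma ringKrullDim_eq_of_injective_isIntegral {A C : Type*} [CommRing A] [CommRing C]
    (f : A →+* C) (hinj : Function.Injective f) (hint : f.IsIntegral) :
    ringKrullDim C = ringKrullDim A := by
  rw [Groth.Agent.Lib.Helper5.ringKrullDim_eq_ringKrullDim_quotient_ker_of_isIntegral f hint]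
  have hker : RingHom.ker f = ⊥ := (RingHom.injective_iff_ker_eq_bot f).mp hinj
  rw [hker]
  exact ringKrullDim_eq_of_ringEquiv (RingEquiv.quotientBot A)

lemma ringKrullDim_eq_of_factor {A B C : Type*} [CommRing A] [CommRing B] [CommRing C]
    (g : A →+* C) (ψ : B →+* C) (hψ : Function.Injective ψ) (hg : Function.Injective g)
    (hrange : ∀ a, ∃ b, ψ b = g a) (hint : ∀ b, g.IsIntegralElem (ψ b)) :
    ringKrullDim B = ringKrullDim A := by
  classical
  choose θ₀ hθ₀ using hrange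
  obtain ⟨θ, hθ⟩ : ∃ θ : A →+* B, ∀ a, ψ (θ a) = g a :=
    ⟨{ toFun := θ₀
       map_one' := hψ (by rw [hθ₀, map_one, map_one])
       map_mul' := fun a a' => hψ (by rw [hθ₀, map_mul, map_mul, hθ₀, hθ₀])
       map_zero' := hψ (by rw [hθ₀, map_zero, map_zero])
       map_add' := fun a a' => hψ (by rw [hθ₀, map_add, map_add, hθ₀, hθ₀]) }, hθ₀⟩
  have hθinj : Function.Injective θ := fun a a' h => hg (by rw [← hθ, ← hθ, h])
  have hθint : θ.IsIntegral := by
    intro b
    obtain ⟨p, hp, hpb⟩ := hint b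
    refine ⟨p, hp, hψ ?_⟩
    rw [Polynomial.hom_eval₂, map_zero]
    have hc : ψ.comp θ = g := RingHom.ext hθ
    rw [hc]
    exact hpb
  exact ringKrullDim_eq_of_injective_isIntegral θ hθinj hθint

lemma injective_of_isIntegral_of_dim {k R : Type*} [Field k] [CommRing R] [Algebra k R] (r : ℕ)
    (hr : ringKrullDim R = r) (g : MvPolynomial (Fin r) k →ₐ[k] R)
    (hint : g.toRingHom.IsIntegral) : Function.Injective g := by
  have hdimK := Groth.Agent.Lib.Helper5.ringKrullDim_eq_ringKrullDim_quotient_ker_of_isIntegral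
    _ hint
  rw [hr] at hdimK
  have hker : RingHom.ker g.toRingHom = ⊥ := by
    by_contra hne
    obtain ⟨f, hf, hf0⟩ := Submodule.exists_mem_ne_zero_of_ne_bot hne
    have hnzd : f ∈ nonZeroDivisors (MvPolynomial (Fin r) k) :=
      mem_nonZeroDivisors_of_ne_zero hf0
    have h1 := ringKrullDim_quotient_succ_le_of_nonZeroDivisor hnzd
    have hle : Ideal.span {f} ≤ RingHom.ker g.toRingHom :=
      (Ideal.span_singleton_le_iff_mem _).mpr hf
    have h2 := ringKrullDim_le_of_surjective (Ideal.Quotient.factor hle)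
      (Ideal.Quotient.factor_surjective hle)
    have h3 : ringKrullDim (MvPolynomial (Fin r) k) = r := by
      rw [MvPolynomial.ringKrullDim_of_isNoetherianRing, ringKrullDim_eq_zero_of_field,
        Nat.card_eq_fintype_card, Fintype.card_fin, zero_add]
    rw [h3] at h1
    rw [← hdimK] at h2
    have h4 : ((r : ℕ) : WithBot ℕ∞) + 1 ≤ r := (add_le_add_left h2 1).trans h1
    have h5 : ((r + 1 : ℕ) : WithBot ℕ∞) ≤ ((r : ℕ) : WithBot ℕ∞) := by
      push_cast
      exact h4
    have h6 : r + 1 ≤ r := by exact_mod_cast h5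
    omega
  exact (RingHom.injective_iff_ker_eq_bot _).mpr hker

lemma aeval_pow_isIntegral {k R : Type*} [CommRing k] [CommRing R] [Algebra k R] {r : ℕ}
    (x : Fin r → R)
    (hint : (aeval x : MvPolynomial (Fin r) k →ₐ[k] R).toRingHom.IsIntegral) (m : ℕ) (hm : 0 < m) :
    (aeval (fun i => x i ^ m) : MvPolynomial (Fin r) k →ₐ[k] R).toRingHom.IsIntegral := by
  have hcomp0 : (aeval (fun i => x i ^ m) : MvPolynomial (Fin r) k →ₐ[k] R) =
      (aeval x : MvPolynomial (Fin r) k →ₐ[k] R).comp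
        (aeval (fun i => (X i : MvPolynomial (Fin r) k) ^ m) :
          MvPolynomial (Fin r) k →ₐ[k] MvPolynomial (Fin r) k) := by
    refine MvPolynomial.algHom_ext (fun i => ?_)
    rw [aeval_X, AlgHom.comp_apply, aeval_X, map_pow, aeval_X]
  have hcomp : (aeval (fun i => x i ^ m) : MvPolynomial (Fin r) k →ₐ[k] R).toRingHom =
      (aeval x : MvPolynomial (Fin r) k →ₐ[k] R).toRingHom.comp
        (aeval (fun i => (X i : MvPolynomial (Fin r) k) ^ m) :
          MvPolynomial (Fin r) k →ₐ[k] MvPolynomial (Fin r) k).toRingHom := by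
    rw [hcomp0]; rfl
  rw [hcomp]
  exact RingHom.IsIntegral.trans _ _ (powHom_isIntegral k (fun _ => m) (fun _ => hm)) hint

end General

section PolyTensor

variable (k : Type u) [Field k] (r s : ℕ)

/-- `k[X ⊕ Y] → k[X] ⊗ k[Y]` -/
def splitHom : MvPolynomial (Fin r ⊕ Fin s) k →ₐ[k]
    MvPolynomial (Fin r) k ⊗[k] MvPolynomial (Fin s) k :=
  aeval (Sum.elim (fun i => (X i : MvPolynomial (Fin r) k) ⊗ₜ[k] (1 : MvPolynomial (Fin s) k))
    (fun j => (1 : MvPolynomial (Fin r) k) ⊗ₜ[k] (X j : MvPolynomial (Fin s) k)))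

/-- `k[X] ⊗ k[Y] → k[X ⊕ Y]` -/
def joinHom : MvPolynomial (Fin r) k ⊗[k] MvPolynomial (Fin s) k →ₐ[k]
    MvPolynomial (Fin r ⊕ Fin s) k :=
  Algebra.TensorProduct.productMap (rename Sum.inl) (rename Sum.inr)

lemma splitHom_X_inl (i : Fin r) : splitHom k r s (X (Sum.inl i)) =
    (X i : MvPolynomial (Fin r) k) ⊗ₜ[k] (1 : MvPolynomial (Fin s) k) := by
  rw [splitHom, aeval_X, Sum.elim_inl]

lemma splitHom_X_inr (j : Fin s) : splitHom k r s (X (Sum.inr j)) =
    (1 : MvPolynomial (Fin r) k) ⊗ₜ[k] (X j : MvPolynomial (Fin s) k) := by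
  rw [splitHom, aeval_X, Sum.elim_inr]

lemma joinHom_comp_splitHom : (joinHom k r s).comp (splitHom k r s) = AlgHom.id k _ := by
  refine MvPolynomial.algHom_ext (fun b => ?_)
  rcases b with i | j
  · rw [AlgHom.comp_apply, splitHom_X_inl, joinHom, Algebra.TensorProduct.productMap_left_apply,
      rename_X, AlgHom.id_apply]
  · rw [AlgHom.comp_apply, splitHom_X_inr, joinHom, Algebra.TensorProduct.productMap_right_apply,
      rename_X, AlgHom.id_apply]

lemma splitHom_injective : Function.Injective (splitHom k r s) := by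
  intro p q h
  have h1 := congrArg (joinHom k r s) h
  rw [← AlgHom.comp_apply, ← AlgHom.comp_apply, joinHom_comp_splitHom, AlgHom.id_apply,
    AlgHom.id_apply] at h1
  exact h1

end PolyTensor

section Seg

variable {k : Type u} [Field k] {R S : Type u} [CommRing R] [CommRing S] [Algebra k R] [Algebra k S]
  {r s : ℕ} (x : Fin r → R) (y : Fin s → S)

variable (k) in
/-- `k[X ⊕ Y] → R ⊗ S`, `X_i ↦ x_i ⊗ 1`, `Y_j ↦ 1 ⊗ y_j` -/
def segHom : MvPolynomial (Fin r ⊕ Fin s) k →ₐ[k] R ⊗[k] S :=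
  aeval (Sum.elim (fun i => x i ⊗ₜ[k] (1 : S)) (fun j => (1 : R) ⊗ₜ[k] y j))

lemma segHom_X_inl (i : Fin r) : segHom k x y (X (Sum.inl i) : MvPolynomial (Fin r ⊕ Fin s) k) =
    x i ⊗ₜ[k] (1 : S) := by
  rw [segHom, aeval_X, Sum.elim_inl]

lemma segHom_X_inr (j : Fin s) : segHom k x y (X (Sum.inr j) : MvPolynomial (Fin r ⊕ Fin s) k) =
    (1 : R) ⊗ₜ[k] y j := by
  rw [segHom, aeval_X, Sum.elim_inr]

lemma segHom_rename_inl (p : MvPolynomial (Fin r) k) :
    segHom k x y (rename Sum.inl p) = (aeval x p) ⊗ₜ[k] (1 : S) := by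
  have h : (segHom k x y).comp (rename Sum.inl) =
      (Algebra.TensorProduct.includeLeft : R →ₐ[k] R ⊗[k] S).comp (aeval x) := by
    refine MvPolynomial.algHom_ext (fun i => ?_)
    rw [AlgHom.comp_apply, rename_X, segHom_X_inl, AlgHom.comp_apply, aeval_X,
      Algebra.TensorProduct.includeLeft_apply]
  exact DFunLike.congr_fun h p

lemma segHom_rename_inr (p : MvPolynomial (Fin s) k) :
    segHom k x y (rename Sum.inr p) = (1 : R) ⊗ₜ[k] (aeval y p) := by
  have h : (segHom k x y).comp (rename Sum.inr) =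
      (Algebra.TensorProduct.includeRight : S →ₐ[k] R ⊗[k] S).comp (aeval y) := by
    refine MvPolynomial.algHom_ext (fun j => ?_)
    rw [AlgHom.comp_apply, rename_X, segHom_X_inr, AlgHom.comp_apply, aeval_X,
      Algebra.TensorProduct.includeRight_apply]
  exact DFunLike.congr_fun h p

lemma segHom_isIntegral
    (hx : (aeval x : MvPolynomial (Fin r) k →ₐ[k] R).toRingHom.IsIntegral)
    (hy : (aeval y : MvPolynomial (Fin s) k →ₐ[k] S).toRingHom.IsIntegral) :
    (segHom k x y).toRingHom.IsIntegral := by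
  refine isIntegral_of_adjoin (segHom k x y) {t : R ⊗[k] S | ∃ a b, a ⊗ₜ[k] b = t}
    (Algebra.TensorProduct.adjoin_tmul_eq_top k R S) ?_
  rintro _ ⟨a, b, rfl⟩
  have h1 : (segHom k x y).toRingHom.IsIntegralElem (a ⊗ₜ[k] (1 : S)) :=
    isIntegralElem_of_comm (aeval x : MvPolynomial (Fin r) k →ₐ[k] R).toRingHom
      (segHom k x y).toRingHom
      (rename Sum.inl : MvPolynomial (Fin r) k →ₐ[k] MvPolynomial (Fin r ⊕ Fin s) k).toRingHom
      (Algebra.TensorProduct.includeLeft : R →ₐ[k] R ⊗[k] S).toRingHom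
      (fun p => segHom_rename_inl x y p) (hx a)
  have h2 : (segHom k x y).toRingHom.IsIntegralElem ((1 : R) ⊗ₜ[k] b) :=
    isIntegralElem_of_comm (aeval y : MvPolynomial (Fin s) k →ₐ[k] S).toRingHom
      (segHom k x y).toRingHom
      (rename Sum.inr : MvPolynomial (Fin s) k →ₐ[k] MvPolynomial (Fin r ⊕ Fin s) k).toRingHom
      (Algebra.TensorProduct.includeRight : S →ₐ[k] R ⊗[k] S).toRingHom
      (fun p => segHom_rename_inr x y p) (hy b)
  have hab : a ⊗ₜ[k] b = (a ⊗ₜ[k] (1 : S)) * ((1 : R) ⊗ₜ[k] b) := by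
    rw [Algebra.TensorProduct.tmul_mul_tmul, mul_one, one_mul]
  rw [hab]
  exact RingHom.IsIntegralElem.mul _ h1 h2

lemma segHom_injective
    (hx : Function.Injective (aeval x : MvPolynomial (Fin r) k →ₐ[k] R))
    (hy : Function.Injective (aeval y : MvPolynomial (Fin s) k →ₐ[k] S)) :
    Function.Injective (segHom k x y) := by
  have hcomp : segHom k x y = (Algebra.TensorProduct.map
      (aeval x : MvPolynomial (Fin r) k →ₐ[k] R)
      (aeval y : MvPolynomial (Fin s) k →ₐ[k] S)).comp (splitHom k r s) := by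
    refine MvPolynomial.algHom_ext (fun b => ?_)
    rcases b with i | j
    · rw [segHom_X_inl, AlgHom.comp_apply, splitHom_X_inl, Algebra.TensorProduct.map_tmul,
        aeval_X, map_one]
    · rw [segHom_X_inr, AlgHom.comp_apply, splitHom_X_inr, Algebra.TensorProduct.map_tmul,
        aeval_X, map_one]
  have hmap : Function.Injective (Algebra.TensorProduct.map
      (aeval x : MvPolynomial (Fin r) k →ₐ[k] R)
      (aeval y : MvPolynomial (Fin s) k →ₐ[k] S)) := by
    have hfun : ∀ t, Algebra.TensorProduct.map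
        (aeval x : MvPolynomial (Fin r) k →ₐ[k] R)
        (aeval y : MvPolynomial (Fin s) k →ₐ[k] S) t =
        TensorProduct.map (aeval x : MvPolynomial (Fin r) k →ₐ[k] R).toLinearMap
          (aeval y : MvPolynomial (Fin s) k →ₐ[k] S).toLinearMap t := by
      intro t
      induction t using TensorProduct.induction_on with
      | zero => rw [map_zero, map_zero]
      | tmul a b => rfl
      | add a b ha hb => rw [map_add, map_add, ha, hb]
    intro t t' h
    rw [hfun, hfun] at h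
    exact TensorProduct.map_injective_of_flat_flat _ _ hx hy h
  rw [hcomp, AlgHom.coe_comp]
  exact hmap.comp (splitHom_injective k r s)

end Seg

section Graded

variable {k : Type u} [Field k] {R S : Type u} [CommRing R] [CommRing S] [Algebra k R] [Algebra k S]
  (𝒜 : ℤ → Submodule k R) [GradedAlgebra 𝒜] (ℬ : ℤ → Submodule k S) [GradedAlgebra ℬ]
  {r s : ℕ} (x : Fin r → R) (y : Fin s → S) (E : ℕ)

lemma segHom_monomial_exists (hx : ∀ i, x i ∈ 𝒜 (E : ℤ)) (hy : ∀ j, y j ∈ ℬ (E : ℤ))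
    (μ : (Fin r ⊕ Fin s) →₀ ℕ) :
    ∃ a ∈ 𝒜 ((degL r s μ * E : ℕ) : ℤ), ∃ b ∈ ℬ ((degR r s μ * E : ℕ) : ℤ),
      segHom k x y (monomial μ (1 : k)) = a ⊗ₜ[k] b := by
  classical
  refine Finsupp.induction_linear μ ?_ ?_ ?_
  · refine ⟨1, ?_, 1, ?_, ?_⟩
    · rw [map_zero, zero_mul, Nat.cast_zero]; exact SetLike.one_mem_graded 𝒜
    · rw [map_zero, zero_mul, Nat.cast_zero]; exact SetLike.one_mem_graded ℬ
    · have h1 : monomial (0 : (Fin r ⊕ Fin s) →₀ ℕ) (1 : k) = 1 := rfl
      rw [h1, map_one, Algebra.TensorProduct.one_def]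
  · intro f g hf hg
    obtain ⟨a, ha, b, hb, hab⟩ := hf
    obtain ⟨a', ha', b', hb', hab'⟩ := hg
    refine ⟨a * a', ?_, b * b', ?_, ?_⟩
    · have h1 := SetLike.mul_mem_graded ha ha'
      have h : ((degL r s f * E : ℕ) : ℤ) + ((degL r s g * E : ℕ) : ℤ) =
          ((degL r s (f + g) * E : ℕ) : ℤ) := by
        rw [map_add]; push_cast; ring
      rwa [h] at h1
    · have h1 := SetLike.mul_mem_graded hb hb'
      have h : ((degR r s f * E : ℕ) : ℤ) + ((degR r s g * E : ℕ) : ℤ) =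
          ((degR r s (f + g) * E : ℕ) : ℤ) := by
        rw [map_add]; push_cast; ring
      rwa [h] at h1
    · have h1 : monomial (f + g) (1 : k) = monomial f 1 * monomial g 1 := by
        rw [monomial_mul, one_mul]
      rw [h1, map_mul, hab, hab', Algebra.TensorProduct.tmul_mul_tmul]
  · intro b n
    have hmon : monomial (Finsupp.single b n) (1 : k) = X b ^ n := (X_pow_eq_monomial).symm
    rcases b with i | j
    · refine ⟨x i ^ n, ?_, 1, ?_, ?_⟩
      · have h1 := SetLike.pow_mem_graded n (hx i)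
        have h : n • (E : ℤ) = ((degL r s (Finsupp.single (Sum.inl i) n) * E : ℕ) : ℤ) := by
          rw [degL_single_inl, nsmul_eq_mul]; push_cast; rfl
        rwa [h] at h1
      · rw [degR_single_inl, zero_mul, Nat.cast_zero]; exact SetLike.one_mem_graded ℬ
      · rw [hmon, map_pow, segHom_X_inl, Algebra.TensorProduct.tmul_pow, one_pow]
    · refine ⟨1, ?_, y j ^ n, ?_, ?_⟩
      · rw [degL_single_inr, zero_mul, Nat.cast_zero]; exact SetLike.one_mem_graded 𝒜
      · have h1 := SetLike.pow_mem_graded n (hy j)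
        have h : n • (E : ℤ) = ((degR r s (Finsupp.single (Sum.inr j) n) * E : ℕ) : ℤ) := by
          rw [degR_single_inr, nsmul_eq_mul]; push_cast; rfl
        rwa [h] at h1
      · rw [hmon, map_pow, segHom_X_inr, Algebra.TensorProduct.tmul_pow, one_pow]

lemma pi0_segHom_mem (hE : 0 < E) (hx : ∀ i, x i ∈ 𝒜 (E : ℤ)) (hy : ∀ j, y j ∈ ℬ (E : ℤ))
    (p : MvPolynomial (Fin r ⊕ Fin s) k) :
    pi0 𝒜 ℬ (segHom k x y p) ∈ (segPoly k r s).map (segHom k x y) := by
  classical
  refine MvPolynomial.induction_on' p (fun μ c => ?_) (fun p q hp hq => ?_)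
  · have hc : monomial μ c = c • monomial μ (1 : k) := by
      rw [smul_monomial, smul_eq_mul, mul_one]
    rw [hc, map_smul, map_smul]
    refine Subalgebra.smul_mem _ ?_ c
    obtain ⟨a, ha, b, hb, hab⟩ := segHom_monomial_exists 𝒜 ℬ x y E hx hy μ
    rw [hab, pi0_tmul_of_mem 𝒜 ℬ ha]
    by_cases hd : degL r s μ = degR r s μ
    · rw [← hd] at hb
      rw [DirectSum.decompose_of_mem_same ℬ hb, ← hab]
      exact Subalgebra.mem_map.mpr ⟨_, monomial_mem_segPoly k r s _ μ rfl hd.symm, rfl⟩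
    · have hne : ((degR r s μ * E : ℕ) : ℤ) ≠ ((degL r s μ * E : ℕ) : ℤ) := by
        intro h
        have h' : degR r s μ * E = degL r s μ * E := by exact_mod_cast h
        exact hd (Nat.eq_of_mul_eq_mul_right hE h').symm
      rw [DirectSum.decompose_of_mem_ne ℬ hb hne, TensorProduct.tmul_zero]
      exact Subalgebra.zero_mem _
  · rw [map_add, map_add]
    exact Subalgebra.add_mem _ hp hq

lemma map_mem_segreSpan {T : Type u} [CommRing T] [Algebra k T] (𝒯 : ℤ → Submodule k T)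
    [GradedAlgebra 𝒯] (ψ : T →ₐ[k] R ⊗[k] S)
    (hdegT : ∀ n : ℤ, (𝒯 n).map ψ.toLinearMap =
      Submodule.span k {x : R ⊗[k] S | ∃ a ∈ 𝒜 n, ∃ b ∈ ℬ n, x = a ⊗ₜ[k] b}) (t : T) :
    ψ t ∈ segreSpan 𝒜 ℬ := by
  classical
  induction t using DirectSum.Decomposition.inductionOn 𝒯 with
  | zero => rw [map_zero]; exact Submodule.zero_mem _
  | homogeneous x =>
    rename_i m
    have h1 : ψ.toLinearMap (x : T) ∈ (𝒯 m).map ψ.toLinearMap := Submodule.mem_map_of_mem x.2
    rw [hdegT] at h1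
    exact (le_iSup (fun n : ℤ => Submodule.span k
      {z : R ⊗[k] S | ∃ a ∈ 𝒜 n, ∃ b ∈ ℬ n, z = a ⊗ₜ[k] b}) m) h1
  | add a b ha hb => rw [map_add]; exact Submodule.add_mem _ ha hb

/-- **The dimension of a Segre product.** -/
theorem ringKrullDim_segre (hposR : ∀ n : ℤ, n < 0 → 𝒜 n = ⊥)
    (h0R : 𝒜 0 = Submodule.span k {(1 : R)}) [Algebra.FiniteType k R]
    (hposS : ∀ n : ℤ, n < 0 → ℬ n = ⊥)
    (h0S : ℬ 0 = Submodule.span k {(1 : S)}) [Algebra.FiniteType k S]
    {T : Type u} [CommRing T] [Algebra k T] (𝒯 : ℤ → Submodule k T)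
    [GradedAlgebra 𝒯] (ψ : T →ₐ[k] R ⊗[k] S) (hψ : Function.Injective ψ)
    (hdegT : ∀ n : ℤ, (𝒯 n).map ψ.toLinearMap =
      Submodule.span k {x : R ⊗[k] S | ∃ a ∈ 𝒜 n, ∃ b ∈ ℬ n, x = a ⊗ₜ[k] b})
    (r' s' : ℕ) (hr : ringKrullDim R = ((r' + 1 : ℕ) : WithBot ℕ∞))
    (hs : ringKrullDim S = ((s' + 1 : ℕ) : WithBot ℕ∞)) :
    ringKrullDim T = ((r' + s' + 1 : ℕ) : WithBot ℕ∞) := by
  classical
  obtain ⟨ER, x₀, hER, hx₀, hx₀int, -⟩ := exists_noether_normalization 𝒜 hposR h0R (r' + 1) hr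
  obtain ⟨ES, y₀, hES, hy₀, hy₀int, -⟩ := exists_noether_normalization ℬ hposS h0S (s' + 1) hs
  obtain ⟨x, hxdef⟩ : ∃ x : Fin (r' + 1) → R, x = fun i => x₀ i ^ ES := ⟨_, rfl⟩
  obtain ⟨y, hydef⟩ : ∃ y : Fin (s' + 1) → S, y = fun j => y₀ j ^ ER := ⟨_, rfl⟩
  obtain ⟨E, hEdef⟩ : ∃ E : ℕ, E = ER * ES := ⟨_, rfl⟩
  have hE : 0 < E := by rw [hEdef]; exact Nat.mul_pos hER hES
  have hx : ∀ i, x i ∈ 𝒜 (E : ℤ) := by
    intro i
    have h1 := SetLike.pow_mem_graded ES (hx₀ i)
    have h : ES • (ER : ℤ) = ((E : ℕ) : ℤ) := by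
      rw [hEdef, nsmul_eq_mul]; push_cast; ring
    rw [h] at h1
    rw [hxdef]; exact h1
  have hy : ∀ j, y j ∈ ℬ (E : ℤ) := by
    intro j
    have h1 := SetLike.pow_mem_graded ER (hy₀ j)
    have h : ER • (ES : ℤ) = ((E : ℕ) : ℤ) := by
      rw [hEdef, nsmul_eq_mul]; push_cast; ring
    rw [h] at h1
    rw [hydef]; exact h1
  have hxint : (aeval x : MvPolynomial (Fin (r' + 1)) k →ₐ[k] R).toRingHom.IsIntegral := by
    rw [hxdef]; exact aeval_pow_isIntegral x₀ hx₀int ES hES
  have hyint : (aeval y : MvPolynomial (Fin (s' + 1)) k →ₐ[k] S).toRingHom.IsIntegral := by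
    rw [hydef]; exact aeval_pow_isIntegral y₀ hy₀int ER hER
  have hxinj : Function.Injective (aeval x : MvPolynomial (Fin (r' + 1)) k →ₐ[k] R) :=
    injective_of_isIntegral_of_dim (r' + 1) hr _ hxint
  have hyinj : Function.Injective (aeval y : MvPolynomial (Fin (s' + 1)) k →ₐ[k] S) :=
    injective_of_isIntegral_of_dim (s' + 1) hs _ hyint
  have hΦint := segHom_isIntegral (k := k) x y hxint hyint
  have hΦinj := segHom_injective (k := k) x y hxinj hyinj
  obtain ⟨g, hg⟩ : ∃ g : segPoly k (r' + 1) (s' + 1) →ₐ[k] R ⊗[k] S,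
      g = (segHom k x y).comp (segPoly k (r' + 1) (s' + 1)).val := ⟨_, rfl⟩
  have hginj : Function.Injective g := by
    rw [hg, AlgHom.coe_comp]
    exact hΦinj.comp Subtype.val_injective
  have hrange : ∀ t, ψ t ∈ segreSpan 𝒜 ℬ := map_mem_segreSpan 𝒜 ℬ 𝒯 ψ hdegT
  have hgen : ∀ i j, x i ⊗ₜ[k] y j ∈ ψ.range := by
    intro i j
    have h1 : x i ⊗ₜ[k] y j ∈ (𝒯 (E : ℤ)).map ψ.toLinearMap := by
      rw [hdegT]
      exact Submodule.subset_span ⟨x i, hx i, y j, hy j, rfl⟩
    obtain ⟨t, -, ht⟩ := Submodule.mem_map.mp h1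
    exact ⟨t, ht⟩
  have hgrange : ∀ q, ∃ t, ψ.toRingHom t = g.toRingHom q := by
    have hle : segPoly k (r' + 1) (s' + 1) ≤ ψ.range.comap (segHom k x y) := by
      refine Algebra.adjoin_le ?_
      rintro _ ⟨⟨i, j⟩, rfl⟩
      show segHom k x y (segGen k _ _ (i, j)) ∈ ψ.range
      rw [segGen, map_mul, segHom_X_inl, segHom_X_inr, Algebra.TensorProduct.tmul_mul_tmul,
        mul_one, one_mul]
      exact hgen i j
    intro q
    have h1 : segHom k x y (q : MvPolynomial (Fin (r' + 1) ⊕ Fin (s' + 1)) k) ∈ ψ.range := hle q.2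
    obtain ⟨t, ht⟩ := h1
    refine ⟨t, ?_⟩
    rw [hg]
    exact ht
  have hgint : ∀ t, g.toRingHom.IsIntegralElem (ψ.toRingHom t) := by
    intro t
    have h1 : IsIntegral (segHom k x y).range (ψ t) :=
      isIntegral_range_of_isIntegralElem _ (hΦint (ψ t))
    have h2 : IsIntegral ((segPoly k (r' + 1) (s' + 1)).map (segHom k x y)) (ψ t) := by
      refine isIntegral_of_pi0 𝒜 ℬ (segHom k x y).range _ ?_ (ψ t) ?_ h1
      · intro c hc
        obtain ⟨p, rfl⟩ := (AlgHom.mem_range _).mp hc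
        exact pi0_segHom_mem 𝒜 ℬ x y E hE hx hy p
      · intro j
        rw [← map_pow]
        exact hrange _
    have h3 := isIntegralElem_of_isIntegral_map (segHom k x y) (segPoly k (r' + 1) (s' + 1)) h2
    rw [hg]
    exact h3
  rw [ringKrullDim_eq_of_factor g.toRingHom ψ.toRingHom hψ hginj hgrange hgint,
    ringKrullDim_segPoly]

end Graded

end Groth.Agent.Lib.LeadSeg
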