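import Groth.Agent.Lib.LeadSPb
import Groth.Agent.Lib.LeadSegF
import Groth.Agent.Lib.Helper28PolyCM

/-!
# Segre products with a one-dimensional factor (lead), part c

`R`, `S` standard graded Cohen–Macaulay algebras over a field `k`, `dim R = 1`, `dim S ≥ 2`.
The Segre product `T = R # S` is Cohen–Macaulay if and only if `R ≅ k[X]`.

The direction `⇒` is elementary: with `x ∈ R_d` and `w ∈ S_e` homogeneous regular elements,
`a = x^{eM} ⊗ w^{dM} ∈ T` is regular, and `T` has depth `≥ 2` at the vertex, so there is `b ∈ T_+`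
regular on `T/aT`.  For `r ∈ R_d` the "fraction" `(r/x) ⊗ 1` multiplies `T_{≥ N}` into `T`; the
depth condition forces it to lie in `T_0 = k`, i.e. `r ∈ k x`.  Hence `R_d = k x`, and standard
gradedness gives `R = k[y]`.
-/

set_option autoImplicit false
set_option maxHeartbeats 400000
set_option linter.style.haveILetI false
set_option linter.unusedSectionVars false
set_option linter.unusedVariables false

universe u

noncomputable section

namespace Groth.Agent.Lib.LeadSP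

open Groth.Agent.Lib DirectSum TensorProduct Pointwise

section Tensor

variable {k : Type u} [Field k] {R S : Type u} [CommRing R] [CommRing S] [Algebra k R]
  [Algebra k S]

lemma tmul_one_mem_nonZeroDivisors {x : R} (hx : x ∈ nonZeroDivisors R) :
    x ⊗ₜ[k] (1 : S) ∈ nonZeroDivisors (R ⊗[k] S) := by
  rw [mem_nonZeroDivisors_iff_right]
  intro z hz
  have hinj0 : Function.Injective (LinearMap.mulLeft k x) :=
    (isRegular_iff_mem_nonZeroDivisors.mpr hx).left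
  have hinj : Function.Injective (LinearMap.rTensor S (LinearMap.mulLeft k x)) :=
    Module.Flat.rTensor_preserves_injective_linearMap _ hinj0
  have heq : LinearMap.rTensor S (LinearMap.mulLeft k x) =
      LinearMap.mulLeft k (x ⊗ₜ[k] (1 : S)) := by
    apply TensorProduct.ext'
    intro a b
    rw [LinearMap.rTensor_tmul, LinearMap.mulLeft_apply, LinearMap.mulLeft_apply,
      Algebra.TensorProduct.tmul_mul_tmul, one_mul]
  apply hinj
  rw [map_zero, heq, LinearMap.mulLeft_apply, mul_comm]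
  exact hz

lemma one_tmul_mem_nonZeroDivisors {w : S} (hw : w ∈ nonZeroDivisors S) :
    (1 : R) ⊗ₜ[k] w ∈ nonZeroDivisors (R ⊗[k] S) := by
  rw [mem_nonZeroDivisors_iff_right]
  intro z hz
  have hinj0 : Function.Injective (LinearMap.mulLeft k w) :=
    (isRegular_iff_mem_nonZeroDivisors.mpr hw).left
  have hinj : Function.Injective (LinearMap.lTensor R (LinearMap.mulLeft k w)) :=
    Module.Flat.lTensor_preserves_injective_linearMap _ hinj0
  have heq : LinearMap.lTensor R (LinearMap.mulLeft k w) =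
      LinearMap.mulLeft k ((1 : R) ⊗ₜ[k] w) := by
    apply TensorProduct.ext'
    intro a b
    rw [LinearMap.lTensor_tmul, LinearMap.mulLeft_apply, LinearMap.mulLeft_apply,
      Algebra.TensorProduct.tmul_mul_tmul, one_mul]
  apply hinj
  rw [map_zero, heq, LinearMap.mulLeft_apply, mul_comm]
  exact hz

end Tensor

section Segre

variable {k : Type u} [Field k] {R S T : Type u} [CommRing R] [CommRing S] [CommRing T]
  [Algebra k R] [Algebra k S] [Algebra k T]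
  (𝒜 : ℤ → Submodule k R) [GradedAlgebra 𝒜] (ℬ : ℤ → Submodule k S) [GradedAlgebra ℬ]
  (𝒯 : ℤ → Submodule k T) [GradedAlgebra 𝒯] (ψ : T →ₐ[k] R ⊗[k] S)
  (hψ : Function.Injective ψ)
  (hdegT : ∀ n : ℤ, (𝒯 n).map ψ.toLinearMap =
    Submodule.span k {x : R ⊗[k] S | ∃ a ∈ 𝒜 n, ∃ b ∈ ℬ n, x = a ⊗ₜ[k] b})

include hdegT in
lemma exists_preimage {n : ℤ} {a : R} (ha : a ∈ 𝒜 n) {b : S} (hb : b ∈ ℬ n) :
    ∃ t ∈ 𝒯 n, ψ t = a ⊗ₜ[k] b := by
  have h : a ⊗ₜ[k] b ∈ (𝒯 n).map ψ.toLinearMap := by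
    rw [hdegT]
    exact Submodule.subset_span ⟨a, ha, b, hb, rfl⟩
  obtain ⟨t, ht, hte⟩ := h
  exact ⟨t, ht, hte⟩

include hdegT in
lemma map_mem {n : ℤ} {t : T} (ht : t ∈ 𝒯 n) :
    ψ t ∈ Submodule.span k {x : R ⊗[k] S | ∃ a ∈ 𝒜 n, ∃ b ∈ ℬ n, x = a ⊗ₜ[k] b} := by
  rw [← hdegT]
  exact Submodule.mem_map_of_mem ht

include hψ hdegT in
lemma hposT (hposR : ∀ n : ℤ, n < 0 → 𝒜 n = ⊥) : ∀ n : ℤ, n < 0 → 𝒯 n = ⊥ := by
  intro n hn
  rw [eq_bot_iff]
  intro t ht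
  have h1 := map_mem 𝒜 ℬ 𝒯 ψ hdegT ht
  have hle : Submodule.span k {x : R ⊗[k] S | ∃ a ∈ 𝒜 n, ∃ b ∈ ℬ n, x = a ⊗ₜ[k] b} ≤ ⊥ := by
    refine Submodule.span_le.mpr ?_
    rintro _ ⟨a, ha, b, hb, rfl⟩
    rw [eq_zero_of_mem_neg 𝒜 hposR hn ha, TensorProduct.zero_tmul]
    exact Submodule.zero_mem _
  have h2 : ψ t = 0 := (Submodule.mem_bot k).mp (hle h1)
  rw [Submodule.mem_bot]
  exact hψ (by rw [h2, map_zero])

include hψ hdegT in
lemma h0T (h0R : 𝒜 0 = Submodule.span k {(1 : R)}) (h0S : ℬ 0 = Submodule.span k {(1 : S)}) :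
    𝒯 0 = Submodule.span k {(1 : T)} := by
  apply le_antisymm
  · intro t ht
    have h1 := map_mem 𝒜 ℬ 𝒯 ψ hdegT ht
    have hle : Submodule.span k {x : R ⊗[k] S | ∃ a ∈ 𝒜 0, ∃ b ∈ ℬ 0, x = a ⊗ₜ[k] b} ≤
        Submodule.span k {(1 : R ⊗[k] S)} := by
      refine Submodule.span_le.mpr ?_
      rintro _ ⟨a, ha, b, hb, rfl⟩
      rw [h0R] at ha
      rw [h0S] at hb
      obtain ⟨c, rfl⟩ := Submodule.mem_span_singleton.mp ha
      obtain ⟨c', rfl⟩ := Submodule.mem_span_singleton.mp hb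
      rw [SetLike.mem_coe, Submodule.mem_span_singleton]
      exact ⟨c * c', by rw [TensorProduct.smul_tmul_smul, Algebra.TensorProduct.one_def]⟩
    obtain ⟨c, hc⟩ := Submodule.mem_span_singleton.mp (hle h1)
    rw [Submodule.mem_span_singleton]
    refine ⟨c, hψ ?_⟩
    rw [map_smul, map_one, hc]
  · rw [Submodule.span_le, Set.singleton_subset_iff]
    exact SetLike.GradedOne.one_mem

include hψ hdegT in
/-- **the key step**: the depth condition forces `R_d = k x`. -/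
theorem key_lemma [Nontrivial S] (hposT' : ∀ n : ℤ, n < 0 → 𝒯 n = ⊥)
    (h0T' : 𝒯 0 = Submodule.span k {(1 : T)})
    {d : ℕ} {x : R} (hx : x ∈ 𝒜 (d : ℤ)) (hxreg : x ∈ nonZeroDivisors R)
    {N : ℕ} (hN : ∀ n : ℕ, N ≤ n → ∀ ρ ∈ 𝒜 ((n : ℤ) + d), ∃ ρ' ∈ 𝒜 (n : ℤ), ρ = x * ρ')
    {D : ℕ} (hND : N ≤ D) {a : T} (ha : a ∈ 𝒯 (D : ℤ)) {X : R} (hX : X ∈ 𝒜 (D : ℤ))
    (hXreg : X ∈ nonZeroDivisors R) {W : S} (hW : W ∈ ℬ (D : ℤ)) (hWreg : W ∈ nonZeroDivisors S)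
    (hψa : ψ a = X ⊗ₜ[k] W)
    {b' : T} (hb' : b' ∈ geI 𝒯 (N : ℤ))
    (hb'reg : ∀ t : T, b' * t ∈ Ideal.span {a} → t ∈ Ideal.span {a})
    {r : R} (hr : r ∈ 𝒜 (d : ℤ)) : ∃ c : k, r = c • x := by
  classical
  -- (1)
  have hrX : X * r ∈ 𝒜 ((D : ℤ) + d) := SetLike.GradedMul.mul_mem hX hr
  obtain ⟨r₁, hr₁, hr₁e⟩ := hN D hND _ hrX
  -- (2)
  obtain ⟨p, hp, hψp⟩ := exists_preimage 𝒜 ℬ 𝒯 ψ hdegT hr₁ hW
  -- (3)
  let Z : Submodule k (R ⊗[k] S) :=
    { carrier := {z | ∃ q : T, (r ⊗ₜ[k] (1 : S)) * z = (x ⊗ₜ[k] (1 : S)) * ψ q}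
      add_mem' := by
        rintro z₁ z₂ ⟨q₁, h₁⟩ ⟨q₂, h₂⟩
        exact ⟨q₁ + q₂, by rw [mul_add, h₁, h₂, map_add, mul_add]⟩
      zero_mem' := ⟨0, by rw [mul_zero, map_zero, mul_zero]⟩
      smul_mem' := by
        rintro c z ⟨q, h⟩
        exact ⟨c • q, by rw [mul_smul_comm, h, map_smul, mul_smul_comm]⟩ }
  have hZgen : ∀ n : ℕ, N ≤ n → ∀ t ∈ 𝒯 (n : ℤ), ψ t ∈ Z := by
    intro n hn t ht
    have h1 := map_mem 𝒜 ℬ 𝒯 ψ hdegT ht
    have hle : Submodule.span k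
        {z : R ⊗[k] S | ∃ a ∈ 𝒜 (n : ℤ), ∃ b ∈ ℬ (n : ℤ), z = a ⊗ₜ[k] b} ≤ Z := by
      refine Submodule.span_le.mpr ?_
      rintro _ ⟨α, hα, β, hβ, rfl⟩
      have hαr : α * r ∈ 𝒜 ((n : ℤ) + d) := SetLike.GradedMul.mul_mem hα hr
      obtain ⟨α', hα', hα'e⟩ := hN n hn _ hαr
      obtain ⟨q, -, hq⟩ := exists_preimage 𝒜 ℬ 𝒯 ψ hdegT hα' hβ
      refine ⟨q, ?_⟩
      rw [hq, Algebra.TensorProduct.tmul_mul_tmul, Algebra.TensorProduct.tmul_mul_tmul, one_mul,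
        mul_comm r α, hα'e]
    exact hle h1
  have hb'Z : ψ b' ∈ Z := by
    have h1 := mem_span_of_mem_geI 𝒯 hposT' hb'
    have hle : Submodule.span k (⋃ i ∈ Set.Ici (N : ℤ), (𝒯 i : Set T)) ≤
        Z.comap ψ.toLinearMap := by
      refine Submodule.span_le.mpr ?_
      intro t ht
      simp only [Set.mem_iUnion, Set.mem_Ici, SetLike.mem_coe, exists_prop] at ht
      obtain ⟨i, hi, hti⟩ := ht
      obtain ⟨n, rfl⟩ := Int.eq_ofNat_of_zero_le (le_trans (Nat.cast_nonneg N) hi)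
      exact hZgen n (by exact_mod_cast hi) t hti
    exact hle h1
  obtain ⟨q, hq⟩ := hb'Z
  -- (5)
  have hx1 : x ⊗ₜ[k] (1 : S) ∈ nonZeroDivisors (R ⊗[k] S) := tmul_one_mem_nonZeroDivisors hxreg
  have h5 : ψ (b' * p) = ψ (q * a) := by
    have h : (x ⊗ₜ[k] (1 : S)) * ψ (b' * p) = (x ⊗ₜ[k] (1 : S)) * ψ (q * a) := by
      rw [map_mul, map_mul, hψp, hψa]
      calc (x ⊗ₜ[k] (1 : S)) * (ψ b' * (r₁ ⊗ₜ[k] W))
          = ψ b' * ((x * r₁) ⊗ₜ[k] W) := by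
            rw [mul_left_comm, Algebra.TensorProduct.tmul_mul_tmul, one_mul]
        _ = ψ b' * ((r ⊗ₜ[k] (1 : S)) * (X ⊗ₜ[k] W)) := by
            rw [Algebra.TensorProduct.tmul_mul_tmul, one_mul, ← hr₁e, mul_comm X r]
        _ = ((r ⊗ₜ[k] (1 : S)) * ψ b') * (X ⊗ₜ[k] W) := by ring
        _ = ((x ⊗ₜ[k] (1 : S)) * ψ q) * (X ⊗ₜ[k] W) := by rw [hq]
        _ = (x ⊗ₜ[k] (1 : S)) * (ψ q * (X ⊗ₜ[k] W)) := by ring
    exact (isRegular_iff_mem_nonZeroDivisors.mpr hx1).left h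
  have h6 : b' * p = q * a := hψ h5
  have h7 : p ∈ Ideal.span {a} :=
    hb'reg p (by rw [h6]; exact Ideal.mem_span_singleton'.mpr ⟨q, rfl⟩)
  obtain ⟨t, ht⟩ := Ideal.mem_span_singleton'.mp h7
  -- (7)
  have h8 : p = (DirectSum.decompose 𝒯 t 0 : T) * a := by
    have := DirectSum.coe_decompose_mul_add_of_right_mem 𝒯 (i := 0) (a := t) ha
    rw [zero_add, ht, DirectSum.decompose_of_mem_same 𝒯 hp] at this
    exact this
  have h9 : (DirectSum.decompose 𝒯 t 0 : T) ∈ Submodule.span k {(1 : T)} :=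
    (congrArg (fun s : Submodule k T => (DirectSum.decompose 𝒯 t 0 : T) ∈ s) h0T').mp
      (DirectSum.decompose 𝒯 t 0).2
  obtain ⟨c, hc⟩ := Submodule.mem_span_singleton.mp h9
  rw [← hc, smul_mul_assoc, one_mul] at h8
  -- (8)
  have h10 : r₁ ⊗ₜ[k] W = (c • X) ⊗ₜ[k] W := by
    rw [← hψp, h8, map_smul, hψa, TensorProduct.smul_tmul']
  have h11 : ((r₁ - c • X) ⊗ₜ[k] (1 : S)) * ((1 : R) ⊗ₜ[k] W) = 0 := by
    rw [Algebra.TensorProduct.tmul_mul_tmul, mul_one, one_mul, TensorProduct.sub_tmul, h10,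
      sub_self]
  have h12 : (r₁ - c • X) ⊗ₜ[k] (1 : S) = 0 :=
    (mem_nonZeroDivisors_iff_right.mp (one_tmul_mem_nonZeroDivisors hWreg)) _ h11
  have h13 : r₁ - c • X = 0 := by
    have hinj := Algebra.TensorProduct.includeLeft_injective (R := k) (S := k) (A := R) (B := S)
      (algebraMap k S).injective
    apply hinj
    rw [map_zero]
    exact h12
  -- (9)
  have h14 : r₁ = c • X := sub_eq_zero.mp h13
  refine ⟨c, ?_⟩
  have h15 : (r - c • x) * X = 0 := by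
    rw [sub_mul, smul_mul_assoc, mul_comm r X, hr₁e, h14, mul_smul_comm, mul_comm x X, sub_self]
  exact sub_eq_zero.mp ((mem_nonZeroDivisors_iff_right.mp hXreg) _ h15)

end Segre

end Groth.Agent.Lib.LeadSP
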