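import Groth.Agent.Lib.LeadSPc

/-!
# Segre products with a one-dimensional factor (lead), part d: the main theorem

`R`, `S` standard graded Cohen–Macaulay algebras over a field `k`, `dim R = 1`, `dim S ≥ 2`.
The Segre product `T = R # S` is Cohen–Macaulay if and only if `R ≅ k[X]`.
-/

set_option autoImplicit false
set_option maxHeartbeats 400000
set_option linter.style.haveILetI false
set_option linter.unusedSectionVars false
set_option linter.unusedVariables false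

universe u

noncomputable section

namespace Groth.Agent.Lib.LeadSP

open Groth.Agent.Lib DirectSum TensorProduct Pointwise

section Main

variable {k : Type u} [Field k] {R S T : Type u} [CommRing R] [CommRing S] [CommRing T]
  [Algebra k R] [Algebra k S] [Algebra k T]
  (𝒜 : ℤ → Submodule k R) [GradedAlgebra 𝒜] (ℬ : ℤ → Submodule k S) [GradedAlgebra ℬ]
  (𝒯 : ℤ → Submodule k T) [GradedAlgebra 𝒯] (ψ : T →ₐ[k] R ⊗[k] S)
  (hψ : Function.Injective ψ)
  (hdegT : ∀ n : ℤ, (𝒯 n).map ψ.toLinearMap =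
    Submodule.span k {x : R ⊗[k] S | ∃ a ∈ 𝒜 n, ∃ b ∈ ℬ n, x = a ⊗ₜ[k] b})

include hψ hdegT in
/-- if `R # S` is Cohen–Macaulay of dimension at least two (and `dim R = 1`), some piece `R_d` is
spanned by a regular element -/
theorem exists_regular_top_piece
    (hposR : ∀ n : ℤ, n < 0 → 𝒜 n = ⊥) (h0R : 𝒜 0 = Submodule.span k {(1 : R)})
    (hstdR : Ideal.span (⋃ n ∈ Set.Ioi (0 : ℤ), (𝒜 n : Set R)) =
      Ideal.span ((𝒜 1 : Submodule k R) : Set R))
    (hposS : ∀ n : ℤ, n < 0 → ℬ n = ⊥) (h0S : ℬ 0 = Submodule.span k {(1 : S)})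
    [hR : LocCoh.IsCohenMacaulayRing R] [hS : LocCoh.IsCohenMacaulayRing S]
    [hT : LocCoh.IsCohenMacaulayRing T]
    (hr : ringKrullDim R = 1) (hs1 : 1 ≤ ringKrullDim S) (hT2 : 2 ≤ ringKrullDim T) :
    ∃ (d : ℕ) (x : R), 0 < d ∧ x ∈ 𝒜 (d : ℤ) ∧ x ∈ nonZeroDivisors R ∧
      ∀ r ∈ 𝒜 (d : ℤ), ∃ c : k, r = c • x := by
  classical
  have hpT := hposT 𝒜 ℬ 𝒯 ψ hψ hdegT hposR
  have h0T' := h0T 𝒜 ℬ 𝒯 ψ hψ hdegT h0R h0S
  haveI : Nontrivial S := by
    by_contra hnt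
    rw [not_nontrivial_iff_subsingleton] at hnt
    rw [ringKrullDim_eq_bot_of_subsingleton] at hs1
    exact absurd hs1 (by simp)
  haveI : Nontrivial T := by
    by_contra hnt
    rw [not_nontrivial_iff_subsingleton] at hnt
    rw [ringKrullDim_eq_bot_of_subsingleton] at hT2
    exact absurd hT2 (by simp)
  obtain ⟨x, d, hd, hx, hxreg⟩ := exists_homogeneous_nzd 𝒜 hposR h0R (by rw [hr])
  obtain ⟨w, e, he, hw, hwreg⟩ := exists_homogeneous_nzd ℬ hposS h0S hs1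
  obtain ⟨N, hN⟩ := exists_forall_div 𝒜 hposR h0R hstdR hr hd hx hxreg
  -- the regular element of `T`
  obtain ⟨D, hDdef⟩ : ∃ D : ℕ, D = d * e * (N + 1) := ⟨_, rfl⟩
  have hN1D : N + 1 ≤ D := by
    rw [hDdef]
    exact Nat.le_mul_of_pos_left _ (Nat.mul_pos hd he)
  have hND : N ≤ D := le_trans (Nat.le_succ N) hN1D
  have hDpos : 0 < D := lt_of_lt_of_le (Nat.succ_pos N) hN1D
  have hX : x ^ (e * (N + 1)) ∈ 𝒜 (D : ℤ) := by
    have h1 := SetLike.pow_mem_graded (e * (N + 1)) hx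
    have h2 : (e * (N + 1)) • (d : ℤ) = ((D : ℕ) : ℤ) := by
      rw [hDdef, nsmul_eq_mul]
      push_cast
      ring
    rwa [h2] at h1
  have hW : w ^ (d * (N + 1)) ∈ ℬ (D : ℤ) := by
    have h1 := SetLike.pow_mem_graded (d * (N + 1)) hw
    have h2 : (d * (N + 1)) • (e : ℤ) = ((D : ℕ) : ℤ) := by
      rw [hDdef, nsmul_eq_mul]
      push_cast
      ring
    rwa [h2] at h1
  have hXreg : x ^ (e * (N + 1)) ∈ nonZeroDivisors R := pow_mem hxreg _
  have hWreg : w ^ (d * (N + 1)) ∈ nonZeroDivisors S := pow_mem hwreg _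
  obtain ⟨a, ha, hψa⟩ := exists_preimage 𝒜 ℬ 𝒯 ψ hdegT hX hW
  have haT : a ∈ nonZeroDivisors T := by
    rw [mem_nonZeroDivisors_iff_right]
    intro z hz
    apply hψ
    rw [map_zero]
    have h1 : ψ z * ((x ^ (e * (N + 1))) ⊗ₜ[k] (w ^ (d * (N + 1)))) = 0 := by
      rw [← hψa, ← map_mul, hz, map_zero]
    have h2 : (x ^ (e * (N + 1))) ⊗ₜ[k] (w ^ (d * (N + 1))) ∈ nonZeroDivisors (R ⊗[k] S) := by
      have := mul_mem (tmul_one_mem_nonZeroDivisors (k := k) (S := S) hXreg)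
        (one_tmul_mem_nonZeroDivisors (k := k) (R := R) hWreg)
      rwa [Algebra.TensorProduct.tmul_mul_tmul, mul_one, one_mul] at this
    exact (mem_nonZeroDivisors_iff_right.mp h2) _ h1
  have haI : a ∈ LeadSeg.irr 𝒯 := mem_irr_of_mem 𝒯 (by exact_mod_cast hDpos) ha
  -- depth
  haveI h𝔪 : (LeadSeg.irr 𝒯).IsMaximal := LeadSeg.irr_isMaximal 𝒯 hpT h0T'
  have hIM : LeadSeg.irr 𝒯 • (⊤ : Submodule T T) ≠ ⊤ := by
    rw [smul_eq_mul, Ideal.mul_top]
    exact h𝔪.ne_top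
  have h2 := two_le_idealDepth_irr 𝒯 hpT h0T' hT2
  have haS : IsSMulRegular T a := (isRegular_iff_mem_nonZeroDivisors.mpr haT).left
  have h3 := Helper28.idealDepth_quotSMulTop_add_one (LeadSeg.irr 𝒯) T hIM a haI haS
  have h4 : 1 ≤ LocCoh.idealDepth (LeadSeg.irr 𝒯) (QuotSMulTop a T) := by
    rw [← h3] at h2
    have h5 : (1 : ℕ∞) + 1 ≤ LocCoh.idealDepth (LeadSeg.irr 𝒯) (QuotSMulTop a T) + 1 := by
      rwa [one_add_one_eq_two]
    exact (ENat.add_le_add_iff_right ENat.one_ne_top).mp h5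
  obtain ⟨b, hbI, hbreg⟩ :=
    (Helper28.one_le_idealDepth_iff (Helper28.smul_top_quotSMulTop_ne_top haI hIM)).mp h4
  have hb'reg := hbreg.pow N
  have hb'mem : b ^ N ∈ geI 𝒯 (N : ℤ) := irr_pow_le 𝒯 N (Ideal.pow_mem_pow hbI N)
  have hb'reg' : ∀ t : T, b ^ N * t ∈ Ideal.span {a} → t ∈ Ideal.span {a} := by
    intro t ht
    have hmem : b ^ N * t ∈ (a • (⊤ : Submodule T T)) := by
      obtain ⟨c, hc⟩ := Ideal.mem_span_singleton'.mp ht
      exact (Submodule.mem_smul_pointwise_iff_exists _ _ _).mpr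
        ⟨c, Submodule.mem_top, by rw [smul_eq_mul, mul_comm, hc]⟩
    have h0 : (b ^ N) • (Submodule.Quotient.mk t : QuotSMulTop a T) =
        (b ^ N) • (0 : QuotSMulTop a T) := by
      rw [smul_zero, ← Submodule.Quotient.mk_smul, smul_eq_mul]
      exact (Submodule.Quotient.mk_eq_zero _).mpr hmem
    have h1 := hb'reg h0
    have h2' : t ∈ (a • (⊤ : Submodule T T)) := (Submodule.Quotient.mk_eq_zero _).mp h1
    obtain ⟨y, -, hy⟩ := (Submodule.mem_smul_pointwise_iff_exists _ _ _).mp h2'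
    exact Ideal.mem_span_singleton'.mpr ⟨y, by rw [mul_comm, ← smul_eq_mul, hy]⟩
  refine ⟨d, x, hd, hx, hxreg, fun r hr' => ?_⟩
  exact key_lemma 𝒜 ℬ 𝒯 ψ hψ hdegT hpT h0T' hx hxreg hN hND ha hX hXreg hW hWreg hψa hb'mem
    hb'reg' hr'

/-- the comparison map `T → S` when `R = k[y]` -/
def thetaHom (ev : R →ₐ[k] k) : T →ₐ[k] S :=
  ((Algebra.TensorProduct.lid k S).toAlgHom.comp
    (Algebra.TensorProduct.map ev (AlgHom.id k S))).comp ψ

lemma thetaHom_of_tmul (ev : R →ₐ[k] k) {t : T} {ρ : R} {β : S} (h : ψ t = ρ ⊗ₜ[k] β) :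
    thetaHom ψ ev t = ev ρ • β := by
  show (Algebra.TensorProduct.lid k S) ((Algebra.TensorProduct.map ev (AlgHom.id k S)) (ψ t)) = _
  rw [h, Algebra.TensorProduct.map_tmul, Algebra.TensorProduct.lid_tmul]
  rfl

include hψ hdegT in
/-- when `R_n = k y^n` the Segre product `R # S` is `S` -/
theorem thetaHom_bijective (hposR : ∀ n : ℤ, n < 0 → 𝒜 n = ⊥)
    (hposS : ∀ n : ℤ, n < 0 → ℬ n = ⊥) {y : R} (hy : y ∈ 𝒜 1)
    (hP : ∀ n : ℕ, ∀ ρ ∈ 𝒜 (n : ℤ), ∃ c : k, ρ = c • y ^ n) (ev : R →ₐ[k] k) (hev : ev y = 1) :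
    Function.Bijective (thetaHom ψ ev) := by
  classical
  have hpT := hposT 𝒜 ℬ 𝒯 ψ hψ hdegT hposR
  have hypow : ∀ n : ℕ, y ^ n ∈ 𝒜 (n : ℤ) := fun n => by
    have := SetLike.pow_mem_graded n hy
    rwa [nsmul_eq_mul, mul_one] at this
  have hevpow : ∀ n : ℕ, ev (y ^ n) = 1 := fun n => by rw [map_pow, hev, one_pow]
  have hpiece : ∀ (n : ℕ) (t : T), t ∈ 𝒯 (n : ℤ) →
      ∃ β ∈ ℬ (n : ℤ), ψ t = (y ^ n) ⊗ₜ[k] β := by
    intro n t ht
    have h1 := map_mem 𝒜 ℬ 𝒯 ψ hdegT ht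
    have hle : Submodule.span k
        {z : R ⊗[k] S | ∃ a ∈ 𝒜 (n : ℤ), ∃ b ∈ ℬ (n : ℤ), z = a ⊗ₜ[k] b} ≤
        (ℬ (n : ℤ)).map ((TensorProduct.mk k R S) (y ^ n)) := by
      refine Submodule.span_le.mpr ?_
      rintro _ ⟨α, hα, β, hβ, rfl⟩
      obtain ⟨c, rfl⟩ := hP n α hα
      refine ⟨c • β, Submodule.smul_mem _ c hβ, ?_⟩
      rw [TensorProduct.mk_apply, TensorProduct.tmul_smul, TensorProduct.smul_tmul']
    obtain ⟨β, hβ, hβe⟩ := hle h1
    exact ⟨β, hβ, hβe.symm⟩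
  have hmem : ∀ (i : ℤ) (t : T), t ∈ 𝒯 i →
      thetaHom ψ ev t ∈ ℬ i ∧ (thetaHom ψ ev t = 0 → t = 0) := by
    intro i t ht
    rcases lt_or_ge i 0 with hi | hi
    · have ht0 : t = 0 := eq_zero_of_mem_neg 𝒯 hpT hi ht
      rw [ht0, map_zero]
      exact ⟨Submodule.zero_mem _, fun _ => rfl⟩
    · obtain ⟨n, rfl⟩ := Int.eq_ofNat_of_zero_le hi
      obtain ⟨β, hβ, hβe⟩ := hpiece n t ht
      have hθ : thetaHom ψ ev t = β := by rw [thetaHom_of_tmul ψ ev hβe, hevpow, one_smul]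
      rw [hθ]
      refine ⟨hβ, fun h0 => hψ ?_⟩
      rw [hβe, h0, TensorProduct.tmul_zero, map_zero]
  have hdec : ∀ (t : T) (j : ℤ), (DirectSum.decompose ℬ (thetaHom ψ ev t) j : S) =
      thetaHom ψ ev (DirectSum.decompose 𝒯 t j : T) := by
    intro t j
    refine DirectSum.Decomposition.inductionOn 𝒯
      (motive := fun t => (DirectSum.decompose ℬ (thetaHom ψ ev t) j : S) =
        thetaHom ψ ev (DirectSum.decompose 𝒯 t j : T)) ?_ ?_ ?_ t
    · rw [map_zero, DirectSum.decompose_zero, DirectSum.zero_apply, ZeroMemClass.coe_zero,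
        DirectSum.decompose_zero, DirectSum.zero_apply, ZeroMemClass.coe_zero, map_zero]
    · intro i a
      by_cases hij : i = j
      · subst hij
        rw [DirectSum.decompose_of_mem_same ℬ (hmem i a a.2).1,
          DirectSum.decompose_of_mem_same 𝒯 a.2]
      · rw [DirectSum.decompose_of_mem_ne ℬ (hmem i a a.2).1 hij,
          DirectSum.decompose_of_mem_ne 𝒯 a.2 hij, map_zero]
    · intro a b ha hb
      rw [map_add, DirectSum.decompose_add, DirectSum.add_apply, AddMemClass.coe_add, ha, hb,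
        DirectSum.decompose_add, DirectSum.add_apply, AddMemClass.coe_add, map_add]
  constructor
  · rw [injective_iff_map_eq_zero]
    intro t ht
    have hall : ∀ j, (DirectSum.decompose 𝒯 t j : T) = 0 := by
      intro j
      apply (hmem j _ (DirectSum.decompose 𝒯 t j).2).2
      rw [← hdec, ht, DirectSum.decompose_zero, DirectSum.zero_apply, ZeroMemClass.coe_zero]
    rw [← DirectSum.sum_support_decompose 𝒯 t]
    exact Finset.sum_eq_zero fun j _ => hall j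
  · intro s
    refine DirectSum.Decomposition.inductionOn ℬ
      (motive := fun s => ∃ t, thetaHom ψ ev t = s) ?_ ?_ ?_ s
    · exact ⟨0, map_zero _⟩
    · intro i β
      rcases lt_or_ge i 0 with hi | hi
      · exact ⟨0, by rw [map_zero, eq_zero_of_mem_neg ℬ hposS hi β.2]⟩
      · obtain ⟨n, rfl⟩ := Int.eq_ofNat_of_zero_le hi
        obtain ⟨t, ht, hte⟩ := exists_preimage 𝒜 ℬ 𝒯 ψ hdegT (hypow n) β.2
        exact ⟨t, by rw [thetaHom_of_tmul ψ ev hte, hevpow, one_smul]⟩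
    · rintro a b ⟨ta, rfl⟩ ⟨tb, rfl⟩
      exact ⟨ta + tb, map_add _ _ _⟩

include hψ hdegT in
/-- **The Segre product of a one-dimensional standard graded Cohen–Macaulay ring `R` with a
standard graded Cohen–Macaulay ring of dimension at least two is Cohen–Macaulay if and only if `R`
is a polynomial ring.** -/
theorem isCohenMacaulayRing_segre_iff
    (hposR : ∀ n : ℤ, n < 0 → 𝒜 n = ⊥) (h0R : 𝒜 0 = Submodule.span k {(1 : R)})
    [Algebra.FiniteType k R]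
    (hposS : ∀ n : ℤ, n < 0 → ℬ n = ⊥) (h0S : ℬ 0 = Submodule.span k {(1 : S)})
    [Algebra.FiniteType k S]
    [hR : LocCoh.IsCohenMacaulayRing R] [hS : LocCoh.IsCohenMacaulayRing S]
    (hstdR : Ideal.span (⋃ n ∈ Set.Ioi (0 : ℤ), (𝒜 n : Set R)) =
      Ideal.span ((𝒜 1 : Submodule k R) : Set R))
    (hr : ringKrullDim R = 1) (hs : 2 ≤ ringKrullDim S) :
    LocCoh.IsCohenMacaulayRing T ↔ Nonempty (R ≃ₐ[k] Polynomial k) := by
  classical
  haveI : Nontrivial R := by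
    by_contra hnt
    rw [not_nontrivial_iff_subsingleton] at hnt
    rw [ringKrullDim_eq_bot_of_subsingleton] at hr
    exact absurd hr (by simp)
  haveI : Nontrivial S := by
    by_contra hnt
    rw [not_nontrivial_iff_subsingleton] at hnt
    rw [ringKrullDim_eq_bot_of_subsingleton] at hs
    exact absurd hs (by simp)
  constructor
  · intro hT
    have hS' := height_irr_eq ℬ hposS h0S
    haveI h𝔫 : (LeadSeg.irr ℬ).IsMaximal := LeadSeg.irr_isMaximal ℬ hposS h0S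
    obtain ⟨n, hn⟩ := ENat.ne_top_iff_exists.mp (Ideal.height_ne_top h𝔫.ne_top)
    rw [← hn] at hS'
    have hn2 : 2 ≤ n := by
      rw [← hS'] at hs
      have h1 : ((2 : ℕ∞) : WithBot ℕ∞) ≤ ((n : ℕ∞) : WithBot ℕ∞) := by simpa using hs
      have h2 : (2 : ℕ∞) ≤ (n : ℕ∞) := WithBot.coe_le_coe.mp h1
      exact_mod_cast h2
    obtain ⟨s', rfl⟩ : ∃ s', n = s' + 1 := ⟨n - 1, by omega⟩
    have hdimT := LeadSeg.ringKrullDim_segre 𝒜 ℬ hposR h0R hposS h0S 𝒯 ψ hψ hdegT 0 s'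
      (by rw [hr]; rfl) (by rw [← hS']; rfl)
    have hT2 : 2 ≤ ringKrullDim T := by
      rw [hdimT]
      have : 2 ≤ 0 + s' + 1 := by omega
      exact_mod_cast this
    have hs1 : 1 ≤ ringKrullDim S := le_trans (by norm_num) hs
    obtain ⟨d, x, hd, hx, hxreg, hall⟩ := exists_regular_top_piece 𝒜 ℬ 𝒯 ψ hψ hdegT hposR h0R
      hstdR hposS h0S hr hs1 hT2
    obtain ⟨y, hy, hyreg, hgen⟩ := exists_gen_of_top_piece 𝒜 hstdR hd hx hxreg
      (nonZeroDivisors.ne_zero hxreg) hall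
    have hP := piece_eq_span_pow 𝒜 h0R hstdR hgen
    exact ⟨(AlgEquiv.ofBijective _ (aeval_bijective 𝒜 hposR hy hyreg hP)).symm⟩
  · rintro ⟨e⟩
    obtain ⟨y, hy, hyreg, hP⟩ := exists_gen_of_algEquiv 𝒜 hposR h0R hstdR e
    obtain ⟨e', he'⟩ : ∃ e' : Polynomial k ≃ₐ[k] R, ∀ f, e' f = Polynomial.aeval y f :=
      ⟨AlgEquiv.ofBijective _ (aeval_bijective 𝒜 hposR hy hyreg hP), fun f => rfl⟩
    obtain ⟨ev, hevdef⟩ : ∃ ev : R →ₐ[k] k, ∀ ρ, ev ρ = Polynomial.aeval (1 : k) (e'.symm ρ) :=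
      ⟨(Polynomial.aeval (1 : k)).comp (e'.symm : R →ₐ[k] Polynomial k), fun ρ => rfl⟩
    have hev : ev y = 1 := by
      have h1 : e'.symm y = Polynomial.X := by
        rw [AlgEquiv.symm_apply_eq, he', Polynomial.aeval_X]
      rw [hevdef, h1, Polynomial.aeval_X]
    have hbij := thetaHom_bijective 𝒜 ℬ 𝒯 ψ hψ hdegT hposR hposS hy hP ev hev
    exact Helper28.isCohenMacaulayRing_of_ringEquiv
      (RingEquiv.ofBijective (thetaHom ψ ev) hbij).symm

end Main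

end Groth.Agent.Lib.LeadSP
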