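import Groth.Agent.Lib.LeadSPd
import Groth.Agent.Lib.Helper28Unmixed
import Groth.Prelude.Def_GrSeg

/-!
# Segre modules `R(a) # S(b)` over `R # S` when `R = k[y]` (lead), part e

When `R_n = k yⁿ` the Segre product `T = R # S` is `S`, and the Segre module `R(a) # S(b)` is, as a
module over `T ≅ S`, the truncation `S_{≥ b - a}` of `S` (shifted).  Hence it is free of rank one
when `b ≤ a`, and has depth exactly one when `a < b`.
-/

set_option autoImplicit false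
set_option maxHeartbeats 400000
set_option linter.style.haveILetI false
set_option linter.unusedSectionVars false
set_option linter.unusedVariables false

universe u

noncomputable section

namespace Groth.Agent.Lib.LeadSP

open Groth.Agent.Lib DirectSum TensorProduct Pointwise

section Shift

variable {k : Type u} [Field k] {R S T : Type u} [CommRing R] [CommRing S] [CommRing T]
  [Algebra k R] [Algebra k S] [Algebra k T]

/-- the action of `R ⊗ S` on itself is multiplication -/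
lemma act_eq_mul (u v : R ⊗[k] S) : GrSeg.act k R S R S u v = u * v := by
  induction u using TensorProduct.induction_on with
  | zero => rw [map_zero, LinearMap.zero_apply, zero_mul]
  | tmul r s =>
    induction v using TensorProduct.induction_on with
    | zero => rw [map_zero, mul_zero]
    | tmul m n =>
      rw [GrSeg.act_tmul, Algebra.TensorProduct.tmul_mul_tmul, smul_eq_mul, smul_eq_mul]
    | add x y hx hy => rw [map_add, hx, hy, mul_add]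
  | add x y hx hy => rw [map_add, LinearMap.add_apply, hx, hy, add_mul]

/-- evaluation `R ⊗ S → S` along `ev : R → k` -/
def evS (ev : R →ₐ[k] k) : R ⊗[k] S →ₐ[k] S :=
  (Algebra.TensorProduct.lid k S).toAlgHom.comp (Algebra.TensorProduct.map ev (AlgHom.id k S))

lemma evS_tmul (ev : R →ₐ[k] k) (ρ : R) (β : S) :
    evS (S := S) ev (ρ ⊗ₜ[k] β) = ev ρ • β := by
  show (Algebra.TensorProduct.lid k S)
    ((Algebra.TensorProduct.map ev (AlgHom.id k S)) (ρ ⊗ₜ[k] β)) = _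
  rw [Algebra.TensorProduct.map_tmul, Algebra.TensorProduct.lid_tmul]
  rfl

lemma thetaHom_eq (ψ : T →ₐ[k] R ⊗[k] S) (ev : R →ₐ[k] k) (t : T) :
    thetaHom ψ ev t = evS ev (ψ t) := rfl

variable (𝒜 : ℤ → Submodule k R) [GradedAlgebra 𝒜] (ℬ : ℤ → Submodule k S) [GradedAlgebra ℬ]
  (𝒯 : ℤ → Submodule k T) [GradedAlgebra 𝒯] (ψ : T →ₐ[k] R ⊗[k] S)
  (hψ : Function.Injective ψ)
  (hdegT : ∀ n : ℤ, (𝒯 n).map ψ.toLinearMap =
    Submodule.span k {x : R ⊗[k] S | ∃ a ∈ 𝒜 n, ∃ b ∈ ℬ n, x = a ⊗ₜ[k] b})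
  {P : Type u} [AddCommGroup P] [Module T P] [Module k P] [IsScalarTower k T P]
  (𝒬 : ℤ → AddSubgroup P) [DirectSum.Decomposition 𝒬]
  (φ : P →ₗ[k] R ⊗[k] S) (a b : ℤ)
  (hPm : GrSeg.IsSegreMod ψ (fun n : ℤ => 𝒜 (n + a)) (fun n : ℤ => ℬ (n + b)) 𝒬 φ)
  (hposR : ∀ n : ℤ, n < 0 → 𝒜 n = ⊥) (hposS : ∀ n : ℤ, n < 0 → ℬ n = ⊥)
  {y : R} (hy : y ∈ 𝒜 1) (hP : ∀ n : ℕ, ∀ ρ ∈ 𝒜 (n : ℤ), ∃ c : k, ρ = c • y ^ n)
  (ev : R →ₐ[k] k) (hev : ev y = 1)

/-- the comparison map `P → S` -/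
def PhiS : P →ₗ[k] S := (evS (S := S) ev).toLinearMap.comp φ

lemma PhiS_apply (p : P) : PhiS φ ev p = evS ev (φ p) := rfl

include hPm in
lemma PhiS_smul (t : T) (p : P) : PhiS φ ev (t • p) = thetaHom ψ ev t * PhiS φ ev p := by
  rw [PhiS_apply, hPm.map_smul, act_eq_mul, map_mul]
  rfl

include hPm hposR hP in
lemma phi_piece {n : ℤ} {p : P} (hp : p ∈ 𝒬 n) :
    (n + a < 0 → p = 0) ∧
      (∀ m : ℕ, n + a = (m : ℤ) → ∃ β ∈ ℬ (n + b), φ p = (y ^ m) ⊗ₜ[k] β) := by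
  have h1 : φ p ∈ GrSeg.segrePiece k (fun n : ℤ => 𝒜 (n + a)) (fun n : ℤ => ℬ (n + b)) n :=
    (hPm.image_piece n).subset ⟨p, hp, rfl⟩
  constructor
  · intro hneg
    have hle : GrSeg.segrePiece k (fun n : ℤ => 𝒜 (n + a)) (fun n : ℤ => ℬ (n + b)) n ≤ ⊥ := by
      unfold GrSeg.segrePiece
      refine Submodule.span_le.mpr ?_
      rintro _ ⟨α, hα, β, hβ, rfl⟩
      have hα0 : α = 0 := by
        have h2 : α ∈ 𝒜 (n + a) := hα
        rw [hposR _ hneg] at h2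
        exact (Submodule.mem_bot k).mp h2
      rw [hα0, TensorProduct.zero_tmul]
      exact Submodule.zero_mem _
    have h2 := hle h1
    rw [Submodule.mem_bot] at h2
    apply hPm.injective
    rw [h2, map_zero]
  · intro m hm
    have hle : GrSeg.segrePiece k (fun n : ℤ => 𝒜 (n + a)) (fun n : ℤ => ℬ (n + b)) n ≤
        (ℬ (n + b)).map ((TensorProduct.mk k R S) (y ^ m)) := by
      unfold GrSeg.segrePiece
      refine Submodule.span_le.mpr ?_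
      rintro _ ⟨α, hα, β, hβ, rfl⟩
      have hα' : α ∈ 𝒜 ((m : ℕ) : ℤ) := by
        have h2 : α ∈ 𝒜 (n + a) := hα
        rwa [hm] at h2
      obtain ⟨c, rfl⟩ := hP m α hα'
      refine ⟨c • β, Submodule.smul_mem _ c hβ, ?_⟩
      rw [TensorProduct.mk_apply, TensorProduct.tmul_smul, TensorProduct.smul_tmul']
    obtain ⟨β, hβ, hβe⟩ := hle h1
    exact ⟨β, hβ, hβe.symm⟩

include hPm hposR hP hev in
lemma PhiS_mem {n : ℤ} {p : P} (hp : p ∈ 𝒬 n) :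
    PhiS φ ev p ∈ ℬ (n + b) ∧ (PhiS φ ev p = 0 → p = 0) := by
  obtain ⟨hneg, hnn⟩ := phi_piece 𝒜 ℬ ψ 𝒬 φ a b hPm hposR hP hp
  rcases lt_or_ge (n + a) 0 with h | h
  · rw [hneg h, map_zero]
    exact ⟨Submodule.zero_mem _, fun _ => rfl⟩
  · obtain ⟨m, hm⟩ := Int.eq_ofNat_of_zero_le h
    obtain ⟨β, hβ, hβe⟩ := hnn m hm
    have hΦ : PhiS φ ev p = β := by
      rw [PhiS_apply, hβe, evS_tmul, map_pow, hev, one_pow, one_smul]
    rw [hΦ]
    refine ⟨hβ, fun h0 => hPm.injective ?_⟩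
    rw [hβe, h0, TensorProduct.tmul_zero, map_zero]

include hPm hposR hP hev in
lemma PhiS_decompose (p : P) (j : ℤ) :
    (DirectSum.decompose ℬ (PhiS φ ev p) (j + b) : S) =
      PhiS φ ev (DirectSum.decompose 𝒬 p j : P) := by
  classical
  have hmem := fun (i : ℤ) (x : P) (hx : x ∈ 𝒬 i) =>
    (PhiS_mem 𝒜 ℬ ψ 𝒬 φ a b hPm hposR hP ev hev hx).1
  refine DirectSum.Decomposition.inductionOn 𝒬
    (motive := fun p => (DirectSum.decompose ℬ (PhiS φ ev p) (j + b) : S) =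
      PhiS φ ev (DirectSum.decompose 𝒬 p j : P)) ?_ ?_ ?_ p
  · rw [map_zero, DirectSum.decompose_zero, DirectSum.zero_apply, ZeroMemClass.coe_zero,
      DirectSum.decompose_zero, DirectSum.zero_apply, ZeroMemClass.coe_zero, map_zero]
  · intro i x
    by_cases hij : i = j
    · subst hij
      rw [DirectSum.decompose_of_mem_same ℬ (hmem i x x.2),
        DirectSum.decompose_of_mem_same 𝒬 x.2]
    · have hij' : i + b ≠ j + b := fun h => hij (add_right_cancel h)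
      rw [DirectSum.decompose_of_mem_ne ℬ (hmem i x x.2) hij',
        DirectSum.decompose_of_mem_ne 𝒬 x.2 hij, map_zero]
  · intro x z hx hz
    rw [map_add, DirectSum.decompose_add, DirectSum.add_apply, AddMemClass.coe_add, hx, hz,
      DirectSum.decompose_add, DirectSum.add_apply, AddMemClass.coe_add, map_add]

include hPm hposR hP hev in
lemma PhiS_injective : Function.Injective (PhiS φ ev) := by
  classical
  rw [injective_iff_map_eq_zero]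
  intro p hp
  have hall : ∀ j, (DirectSum.decompose 𝒬 p j : P) = 0 := by
    intro j
    apply (PhiS_mem 𝒜 ℬ ψ 𝒬 φ a b hPm hposR hP ev hev (DirectSum.decompose 𝒬 p j).2).2
    rw [← PhiS_decompose 𝒜 ℬ ψ 𝒬 φ a b hPm hposR hP ev hev, hp, DirectSum.decompose_zero,
      DirectSum.zero_apply, ZeroMemClass.coe_zero]
  rw [← DirectSum.sum_support_decompose 𝒬 p]
  exact Finset.sum_eq_zero fun j _ => hall j

include hPm hy hev in
lemma exists_PhiS_eq {j : ℤ} (hj : b - a ≤ j) {β : S} (hβ : β ∈ ℬ j) :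
    ∃ p ∈ 𝒬 (j - b), PhiS φ ev p = β := by
  obtain ⟨m, hm⟩ := Int.eq_ofNat_of_zero_le (show 0 ≤ j - b + a by omega)
  have hypow : y ^ m ∈ 𝒜 (j - b + a) := by
    have h1 := SetLike.pow_mem_graded m hy
    rw [nsmul_eq_mul, mul_one] at h1
    rwa [hm]
  have hβ' : β ∈ ℬ (j - b + b) := by rwa [sub_add_cancel]
  have hmem : (y ^ m) ⊗ₜ[k] β ∈
      GrSeg.segrePiece k (fun n : ℤ => 𝒜 (n + a)) (fun n : ℤ => ℬ (n + b)) (j - b) :=
    Submodule.subset_span ⟨y ^ m, hypow, β, hβ', rfl⟩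
  obtain ⟨p, hp, hpe⟩ := (hPm.image_piece (j - b)).superset hmem
  refine ⟨p, hp, ?_⟩
  rw [PhiS_apply, hpe, evS_tmul, map_pow, hev, one_pow, one_smul]

include hPm hposS hy hev in
lemma range_PhiS {x : S} (hx : x ∈ geI ℬ (b - a)) : x ∈ LinearMap.range (PhiS φ ev) := by
  have h1 := mem_span_of_mem_geI ℬ hposS hx
  refine (Submodule.span_le.mpr ?_) h1
  intro z hz
  simp only [Set.mem_iUnion, Set.mem_Ici, SetLike.mem_coe, exists_prop] at hz
  obtain ⟨j, hj, hzj⟩ := hz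
  obtain ⟨p, -, hp⟩ := exists_PhiS_eq 𝒜 ℬ ψ 𝒬 φ a b hPm hy ev hev hj hzj
  exact ⟨p, hp⟩

include hPm hposR hP hev in
lemma PhiS_mem_geI (p : P) : PhiS φ ev p ∈ geI ℬ (b - a) := by
  classical
  have h := DirectSum.sum_support_decompose 𝒬 p
  rw [← h, map_sum]
  refine Ideal.sum_mem _ fun j _ => ?_
  obtain ⟨hneg, -⟩ := phi_piece 𝒜 ℬ ψ 𝒬 φ a b hPm hposR hP (DirectSum.decompose 𝒬 p j).2
  rcases lt_or_ge (j + a) 0 with h' | h'
  · rw [hneg h', map_zero]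
    exact Ideal.zero_mem _
  · refine Ideal.subset_span ?_
    simp only [Set.mem_iUnion, Set.mem_Ici, SetLike.mem_coe, exists_prop]
    exact ⟨j + b, by omega,
      (PhiS_mem 𝒜 ℬ ψ 𝒬 φ a b hPm hposR hP ev hev (DirectSum.decompose 𝒬 p j).2).1⟩

include hψ hdegT hposR hP hev in
lemma thetaHom_mem {i : ℤ} {t : T} (ht : t ∈ 𝒯 i) : thetaHom ψ ev t ∈ ℬ i := by
  have hpT := hposT 𝒜 ℬ 𝒯 ψ hψ hdegT hposR
  rcases lt_or_ge i 0 with hi | hi
  · rw [eq_zero_of_mem_neg 𝒯 hpT hi ht, map_zero]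
    exact Submodule.zero_mem _
  · obtain ⟨n, rfl⟩ := Int.eq_ofNat_of_zero_le hi
    have h1 := map_mem 𝒜 ℬ 𝒯 ψ hdegT ht
    have hle : Submodule.span k
        {z : R ⊗[k] S | ∃ a ∈ 𝒜 (n : ℤ), ∃ b ∈ ℬ (n : ℤ), z = a ⊗ₜ[k] b} ≤
        (ℬ (n : ℤ)).map ((TensorProduct.mk k R S) (y ^ n)) := by
      refine Submodule.span_le.mpr ?_
      rintro _ ⟨α, hα, β, hβ, rfl⟩
      obtain ⟨c, rfl⟩ := hP n α hα
      refine ⟨c • β, Submodule.smul_mem _ c hβ, ?_⟩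
      rw [TensorProduct.mk_apply, TensorProduct.tmul_smul, TensorProduct.smul_tmul']
    obtain ⟨β, hβ, hβe⟩ := hle h1
    rw [thetaHom_of_tmul ψ ev hβe.symm, map_pow, hev, one_pow, one_smul]
    exact hβ

include hψ hdegT hposR hP hev in
lemma thetaHom_mem_geI {t : T} (ht : t ∈ LeadSeg.irr 𝒯) : thetaHom ψ ev t ∈ geI ℬ 1 := by
  have hle : LeadSeg.irr 𝒯 ≤ (geI ℬ 1).comap (thetaHom ψ ev) := by
    rw [LeadSeg.irr]
    refine Ideal.span_le.mpr ?_
    intro x hx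
    simp only [Set.mem_iUnion, Set.mem_Ioi, SetLike.mem_coe, exists_prop] at hx
    obtain ⟨i, hi, hxi⟩ := hx
    rw [SetLike.mem_coe, Ideal.mem_comap]
    refine Ideal.subset_span ?_
    simp only [Set.mem_iUnion, Set.mem_Ici, SetLike.mem_coe, exists_prop]
    exact ⟨i, by omega, thetaHom_mem 𝒜 ℬ 𝒯 ψ hψ hdegT hposR hP ev hev hxi⟩
  exact hle ht

include hψ hdegT hPm hposR hposS hy hP hev in
theorem PhiS_surjective_of_le (hba : b ≤ a) : Function.Surjective (PhiS φ ev) := by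
  classical
  intro x
  have hrange : ∀ j : ℤ, ∀ β ∈ ℬ j, β ∈ LinearMap.range (PhiS φ ev) := by
    intro j β hβ
    rcases lt_or_ge j 0 with hj | hj
    · rw [eq_zero_of_mem_neg ℬ hposS hj hβ]
      exact Submodule.zero_mem _
    · obtain ⟨p, -, hp⟩ := exists_PhiS_eq 𝒜 ℬ ψ 𝒬 φ a b hPm hy ev hev
        (show b - a ≤ j by omega) hβ
      exact ⟨p, hp⟩
  have hx : x ∈ LinearMap.range (PhiS φ ev) := by
    rw [← DirectSum.sum_support_decompose ℬ x]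
    exact Submodule.sum_mem _ fun j _ => hrange j _ (DirectSum.decompose ℬ x j).2
  exact LinearMap.mem_range.mp hx

include hψ hdegT hPm hposR hposS hy hP hev in
/-- for `b ≤ a` the Segre module `R(a) # S(b)` is free of rank one over `T = k[y] # S` -/
theorem exists_linearEquiv_of_le (hba : b ≤ a) : Nonempty (P ≃ₗ[T] T) := by
  have hθ := thetaHom_bijective 𝒜 ℬ 𝒯 ψ hψ hdegT hposR hposS hy hP ev hev
  have hΦi := PhiS_injective 𝒜 ℬ ψ 𝒬 φ a b hPm hposR hP ev hev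
  have hΦs := PhiS_surjective_of_le 𝒜 ℬ 𝒯 ψ hψ hdegT 𝒬 φ a b hPm hposR hposS hy hP ev hev hba
  obtain ⟨θe, hθe⟩ : ∃ θe : T ≃+* S, ∀ t, θe t = thetaHom ψ ev t :=
    ⟨RingEquiv.ofBijective (thetaHom ψ ev) hθ, fun t => rfl⟩
  let Ψ : P →ₗ[T] T :=
    { toFun := fun p => θe.symm (PhiS φ ev p)
      map_add' := fun p p' => by rw [map_add, map_add]
      map_smul' := fun t p => by
        show θe.symm (PhiS φ ev (t • p)) = t * θe.symm (PhiS φ ev p)
        rw [PhiS_smul 𝒜 ℬ ψ 𝒬 φ a b hPm ev, ← hθe, map_mul, RingEquiv.symm_apply_apply] }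
  refine ⟨LinearEquiv.ofBijective Ψ ⟨?_, ?_⟩⟩
  · intro p p' h
    exact hΦi (θe.symm.injective h)
  · intro t
    obtain ⟨p, hp⟩ := hΦs (θe t)
    refine ⟨p, ?_⟩
    show θe.symm (PhiS φ ev p) = t
    rw [hp, RingEquiv.symm_apply_apply]

include hψ hdegT hPm hposR hposS hy hP hev in
/-- for `b ≤ a` the Segre module `R(a) # S(b)` is Cohen–Macaulay at every prime -/
theorem isCohenMacaulayModule_of_le [LocCoh.IsCohenMacaulayRing S] (hba : b ≤ a)
    (q : Ideal T) [q.IsPrime] :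
    LocCoh.IsCohenMacaulayModule (Localization.AtPrime q)
      (LocalizedModule q.primeCompl P) := by
  have hθ := thetaHom_bijective 𝒜 ℬ 𝒯 ψ hψ hdegT hposR hposS hy hP ev hev
  haveI hT : LocCoh.IsCohenMacaulayRing T :=
    Helper28.isCohenMacaulayRing_of_ringEquiv (RingEquiv.ofBijective (thetaHom ψ ev) hθ).symm
  obtain ⟨e⟩ := exists_linearEquiv_of_le 𝒜 ℬ 𝒯 ψ hψ hdegT 𝒬 φ a b hPm hposR hposS hy hP ev hev hba
  have hloc := hT.isCohenMacaulayLocalRing_localization q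
  have hCM : Module.supportDim (Localization.AtPrime q) (Localization.AtPrime q) =
      ((LocCoh.depth (Localization.AtPrime q) (Localization.AtPrime q) : ℕ∞) : WithBot ℕ∞) :=
    hloc.supportDim_eq_depth
  let e₁ : LocalizedModule q.primeCompl P ≃ₗ[Localization.AtPrime q]
      LocalizedModule q.primeCompl T :=
    IsLocalizedModule.mapEquiv q.primeCompl (LocalizedModule.mkLinearMap q.primeCompl P)
      (LocalizedModule.mkLinearMap q.primeCompl T) (Localization.AtPrime q) e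
  let e₂ := e₁.trans (Helper28.localizedModuleSelfEquiv q)
  unfold LocCoh.IsCohenMacaulayModule LocCoh.depth
  rw [Module.supportDim_eq_of_equiv e₂, Helper28.idealDepth_congr e₂]
  exact hCM

include hψ hdegT hPm hposR hposS hy hP hev in
/-- for `a < b` the Segre module `R(a) # S(b)` has depth one -/
theorem idealDepth_eq_one_of_lt [IsDomain S] {w : S} (hw : w ∈ ℬ 1) (hw0 : w ≠ 0) (hab : a < b) :
    LocCoh.idealDepth (LeadSeg.irr 𝒯) P = 1 := by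
  classical
  have hΦi := PhiS_injective 𝒜 ℬ ψ 𝒬 φ a b hPm hposR hP ev hev
  obtain ⟨c, hc⟩ : ∃ c : ℕ, b - a = (c : ℤ) + 1 := ⟨(b - a - 1).toNat, by omega⟩
  have hwpow : ∀ n : ℕ, w ^ n ∈ ℬ (n : ℤ) := fun n => by
    have h1 := SetLike.pow_mem_graded n hw
    rwa [nsmul_eq_mul, mul_one] at h1
  have hwpow0 : ∀ n : ℕ, w ^ n ≠ 0 := fun n => pow_ne_zero n hw0
  have hwc1 : w ^ (c + 1) ∈ ℬ (b - a) := by
    rw [hc]
    exact_mod_cast hwpow (c + 1)
  -- `Φ (𝔪 P) ⊆ S_{≥ b - a + 1}`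
  have hsmul : ∀ x ∈ (LeadSeg.irr 𝒯 • (⊤ : Submodule T P)),
      PhiS φ ev x ∈ geI ℬ (1 + (b - a)) := by
    intro x hx
    refine Submodule.smul_induction_on hx ?_ ?_
    · intro t ht p _
      rw [PhiS_smul 𝒜 ℬ ψ 𝒬 φ a b hPm ev]
      exact geI_mul_le ℬ 1 (b - a) (Ideal.mul_mem_mul
        (thetaHom_mem_geI 𝒜 ℬ 𝒯 ψ hψ hdegT hposR hP ev hev ht)
        (PhiS_mem_geI 𝒜 ℬ ψ 𝒬 φ a b hPm hposR hP ev hev p))
    · intro x z hx hz
      rw [map_add]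
      exact Ideal.add_mem _ hx hz
  -- a generator in the lowest degree
  obtain ⟨p₀, hp₀, hp₀e⟩ := exists_PhiS_eq 𝒜 ℬ ψ 𝒬 φ a b hPm hy ev hev (j := b - a) le_rfl hwc1
  have hIM : LeadSeg.irr 𝒯 • (⊤ : Submodule T P) ≠ ⊤ := by
    intro htop
    have h1 : p₀ ∈ LeadSeg.irr 𝒯 • (⊤ : Submodule T P) := by
      rw [htop]
      exact Submodule.mem_top
    have h2 := hsmul p₀ h1
    rw [hp₀e] at h2
    have h3 := decompose_eq_zero_of_mem_geI ℬ hposS h2 (i := b - a) (by omega)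
    rw [DirectSum.decompose_of_mem_same ℬ hwc1] at h3
    exact hwpow0 _ h3
  -- lower bound
  obtain ⟨t₀, ht₀, ht₀e⟩ := exists_preimage 𝒜 ℬ 𝒯 ψ hdegT hy hw
  have hθt₀ : thetaHom ψ ev t₀ = w := by rw [thetaHom_of_tmul ψ ev ht₀e, hev, one_smul]
  have ht₀I : t₀ ∈ LeadSeg.irr 𝒯 := mem_irr_of_mem 𝒯 one_pos ht₀
  have ht₀reg : IsSMulRegular P t₀ := by
    intro p p' h
    apply hΦi
    have h' : PhiS φ ev (t₀ • p) = PhiS φ ev (t₀ • p') := congrArg _ h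
    rw [PhiS_smul 𝒜 ℬ ψ 𝒬 φ a b hPm ev, PhiS_smul 𝒜 ℬ ψ 𝒬 φ a b hPm ev, hθt₀] at h'
    exact mul_left_cancel₀ hw0 h'
  have h1le : 1 ≤ LocCoh.idealDepth (LeadSeg.irr 𝒯) P :=
    (Helper28.one_le_idealDepth_iff hIM).mpr ⟨t₀, ht₀I, ht₀reg⟩
  -- upper bound
  have h2not : ¬ (((1 + 1 : ℕ) : ℕ∞) ≤ LocCoh.idealDepth (LeadSeg.irr 𝒯) P) := by
    intro h2
    obtain ⟨rs, hlen, hmem, hreg⟩ := (Helper28.natCast_le_idealDepth_iff hIM (1 + 1)).mp h2
    obtain ⟨t₁, t₂, rfl⟩ : ∃ t₁ t₂, rs = [t₁, t₂] := by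
      match rs, hlen with
      | [t₁, t₂], _ => exact ⟨t₁, t₂, rfl⟩
    have hw1 := (RingTheory.Sequence.isWeaklyRegular_cons_iff P t₁ [t₂]).mp hreg.toIsWeaklyRegular
    have hw2 := (RingTheory.Sequence.isWeaklyRegular_cons_iff (QuotSMulTop t₁ P) t₂ []).mp hw1.2
    have ht₁reg : IsSMulRegular P t₁ := hw1.1
    have ht₂reg : IsSMulRegular (QuotSMulTop t₁ P) t₂ := hw2.1
    have ht₁I : t₁ ∈ LeadSeg.irr 𝒯 := hmem t₁ (by simp)
    have ht₂I : t₂ ∈ LeadSeg.irr 𝒯 := hmem t₂ (by simp)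
    -- `θ t₁ ≠ 0`
    have hp₀0 : p₀ ≠ 0 := by
      intro h0
      rw [h0, map_zero] at hp₀e
      exact hwpow0 _ hp₀e.symm
    have hθt₁ : thetaHom ψ ev t₁ ≠ 0 := by
      intro h0
      apply hp₀0
      apply ht₁reg
      apply hΦi
      show PhiS φ ev (t₁ • p₀) = PhiS φ ev (t₁ • 0)
      rw [PhiS_smul 𝒜 ℬ ψ 𝒬 φ a b hPm ev, PhiS_smul 𝒜 ℬ ψ 𝒬 φ a b hPm ev, h0, zero_mul, zero_mul]
    -- the socle-type element
    have hu : w ^ c ∈ geI ℬ (c : ℤ) := by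
      refine Ideal.subset_span ?_
      simp only [Set.mem_iUnion, Set.mem_Ici, SetLike.mem_coe, exists_prop]
      exact ⟨(c : ℤ), le_rfl, hwpow c⟩
    have hmemc : ∀ t ∈ LeadSeg.irr 𝒯, thetaHom ψ ev t * w ^ c ∈ geI ℬ (b - a) := by
      intro t ht
      have h3 := geI_mul_le ℬ 1 (c : ℤ) (Ideal.mul_mem_mul
        (thetaHom_mem_geI 𝒜 ℬ 𝒯 ψ hψ hdegT hposR hP ev hev ht) hu)
      have h4 : (1 : ℤ) + (c : ℤ) = b - a := by omega
      rwa [h4] at h3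
    obtain ⟨p₁, hp₁⟩ := range_PhiS 𝒜 ℬ ψ 𝒬 φ a b hPm hposS hy ev hev (hmemc t₁ ht₁I)
    obtain ⟨p₂, hp₂⟩ := range_PhiS 𝒜 ℬ ψ 𝒬 φ a b hPm hposS hy ev hev (hmemc t₂ ht₂I)
    have hcomm : t₂ • p₁ = t₁ • p₂ := by
      apply hΦi
      rw [PhiS_smul 𝒜 ℬ ψ 𝒬 φ a b hPm ev, PhiS_smul 𝒜 ℬ ψ 𝒬 φ a b hPm ev, hp₁, hp₂]
      ring
    have hmem1 : t₂ • p₁ ∈ (t₁ • (⊤ : Submodule T P)) := by
      rw [hcomm]
      exact (Submodule.mem_smul_pointwise_iff_exists _ _ _).mpr ⟨p₂, Submodule.mem_top, rfl⟩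
    have h0 : t₂ • (Submodule.Quotient.mk p₁ : QuotSMulTop t₁ P) =
        t₂ • (0 : QuotSMulTop t₁ P) := by
      rw [smul_zero, ← Submodule.Quotient.mk_smul]
      exact (Submodule.Quotient.mk_eq_zero _).mpr hmem1
    have h1 := ht₂reg h0
    have h2' : p₁ ∈ (t₁ • (⊤ : Submodule T P)) := (Submodule.Quotient.mk_eq_zero _).mp h1
    obtain ⟨p', -, hp'⟩ := (Submodule.mem_smul_pointwise_iff_exists _ _ _).mp h2'
    have h5 : thetaHom ψ ev t₁ * PhiS φ ev p' = thetaHom ψ ev t₁ * w ^ c := by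
      rw [← PhiS_smul 𝒜 ℬ ψ 𝒬 φ a b hPm ev, hp', hp₁]
    have h6 : PhiS φ ev p' = w ^ c := mul_left_cancel₀ hθt₁ h5
    have h7 := PhiS_mem_geI 𝒜 ℬ ψ 𝒬 φ a b hPm hposR hP ev hev p'
    rw [h6] at h7
    have h8 := decompose_eq_zero_of_mem_geI ℬ hposS h7 (i := (c : ℤ)) (by omega)
    rw [DirectSum.decompose_of_mem_same ℬ (hwpow c)] at h8
    exact hwpow0 _ h8
  have hfin := (Helper28.enat_eq_natCast_iff
    (a := LocCoh.idealDepth (LeadSeg.irr 𝒯) P) (n := 1)).mpr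
    ⟨by rw [Nat.cast_one]; exact h1le, h2not⟩
  rwa [Nat.cast_one] at hfin

end Shift

end Groth.Agent.Lib.LeadSP
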