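import Groth.Agent.Lib.LeadSPe
import Mathlib.RingTheory.MvPolynomial.WeightedHomogeneous

/-!
# Polynomial rings with all variables of weight one, `ℤ`-graded (lead), part f
-/

set_option autoImplicit false
set_option maxHeartbeats 400000
set_option linter.style.haveILetI false
set_option linter.unusedSectionVars false
set_option linter.unusedVariables false

universe u

noncomputable section

namespace Groth.Agent.Lib.LeadSP

open Groth.Agent.Lib DirectSum TensorProduct Pointwise

section MvPoly

variable (k : Type u) [Field k]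

lemma weight_one_nonneg {σ : Type} (d : σ →₀ ℕ) :
    0 ≤ Finsupp.weight (fun _ : σ => (1 : ℤ)) d := by
  rw [Finsupp.weight_apply, Finsupp.sum]
  exact Finset.sum_nonneg fun i _ => nsmul_nonneg zero_le_one _

lemma weighted_neg_eq_bot {σ : Type} (n : ℤ) (hn : n < 0) :
    MvPolynomial.weightedHomogeneousSubmodule k (fun _ : σ => (1 : ℤ)) n = ⊥ := by
  rw [eq_bot_iff]
  intro p hp
  rw [Submodule.mem_bot]
  refine MvPolynomial.IsWeightedHomogeneous.eq_zero_of_no_monomials
    ((MvPolynomial.mem_weightedHomogeneousSubmodule k _ _ p).mp hp) (fun d h => ?_)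
  have h1 := weight_one_nonneg d
  rw [h] at h1
  exact absurd h1 (not_le.mpr hn)

lemma X_mem_weighted {σ : Type} (i : σ) :
    (MvPolynomial.X i : MvPolynomial σ k) ∈
      MvPolynomial.weightedHomogeneousSubmodule k (fun _ : σ => (1 : ℤ)) 1 :=
  MvPolynomial.isWeightedHomogeneous_X k (fun _ : σ => (1 : ℤ)) i

lemma weighted_fin_one (n : ℕ) (ρ : MvPolynomial (Fin 1) k)
    (hρ : ρ ∈ MvPolynomial.weightedHomogeneousSubmodule k (fun _ : Fin 1 => (1 : ℤ)) (n : ℤ)) :
    ∃ c : k, ρ = c • (MvPolynomial.X 0 : MvPolynomial (Fin 1) k) ^ n := by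
  have huniq : ∀ d : Fin 1 →₀ ℕ, Finsupp.weight (fun _ : Fin 1 => (1 : ℤ)) d = (n : ℤ) →
      d = Finsupp.single 0 n := by
    intro d hd
    rw [Finsupp.weight_eq_sum, Fin.sum_univ_one, nsmul_eq_mul, mul_one] at hd
    refine Finsupp.ext fun i => ?_
    have hi : i = 0 := Subsingleton.elim _ _
    rw [hi, Finsupp.single_eq_same]
    exact_mod_cast hd
  have h := MvPolynomial.IsWeightedHomogeneous.eq_monomial_of_unique_weight
    ((MvPolynomial.mem_weightedHomogeneousSubmodule k _ _ ρ).mp hρ) huniq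
  refine ⟨MvPolynomial.coeff (Finsupp.single 0 n) ρ, ?_⟩
  rw [MvPolynomial.X_pow_eq_monomial, MvPolynomial.smul_monomial, smul_eq_mul, mul_one]
  exact h

end MvPoly

end Groth.Agent.Lib.LeadSP
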