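import Mathlib
import Groth.Prelude.Def_SpSeq

/-! Degeneration of a spectral sequence mapping injectively to one with few differentials. -/

set_option autoImplicit false
universe v u

namespace Groth.Agent.LeadSSDegen

open CategoryTheory CategoryTheory.Limits

variable {C : Type u} [Category.{v} C] [Abelian C]

lemma mono_homologyMap {ι : Type*} {c : ComplexShape ι} {K L : HomologicalComplex C c} (f : K ⟶ L)
    (i j : ι) (hi : c.prev j = i) (hK : K.d i j = 0) (hL : L.d i j = 0) [Mono (f.f j)] :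
    Mono (HomologicalComplex.homologyMap f j) := by
  haveI := K.isIso_pOpcycles i j hi hK
  haveI := L.isIso_pOpcycles i j hi hL
  have e : HomologicalComplex.opcyclesMap f j = inv (K.pOpcycles j) ≫ f.f j ≫ L.pOpcycles j := by
    rw [IsIso.eq_inv_comp, HomologicalComplex.p_opcyclesMap]
  haveI : Mono (HomologicalComplex.opcyclesMap f j) := by rw [e]; infer_instance
  haveI : Mono (HomologicalComplex.homologyMap f j ≫ L.homologyι j) := by
    rw [HomologicalComplex.homologyι_naturality]; infer_instance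
  exact mono_of_mono (HomologicalComplex.homologyMap f j) (L.homologyι j)

/-- the inductive property of the pages -/
def Q (E E' : E₂CohomologicalSpectralSequence C) (φ : E ⟶ E') (r : ℤ) (hr : 2 ≤ r) : Prop :=
  (∀ pq : ℤ × ℤ, (pq.1 < 0 ∨ pq.2 < 0) → IsZero ((E.page r hr).X pq)) ∧
  (∀ pq : ℤ × ℤ, r ≤ pq.1 → Mono ((φ.hom r hr).f pq))

lemma d_zero (E E' : E₂CohomologicalSpectralSequence C) (φ : E ⟶ E')
    (hφd : ∀ (r : ℤ) (hr : 2 ≤ r) (pq : ℤ × ℤ),
      (φ.hom r hr).f pq ≫ (E'.page r hr).d pq (pq + (r, 1 - r)) = 0)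
    (r : ℤ) (hr : 2 ≤ r) (hQ : Q E E' φ r hr) :
    ∀ pq pq' : ℤ × ℤ, (E.page r hr).d pq pq' = 0 := by
  intro pq pq'
  by_cases hrel : (ComplexShape.up' (⟨r, 1 - r⟩ : ℤ × ℤ)).Rel pq pq'
  · have hrel' : pq + (r, 1 - r) = pq' := hrel
    subst hrel'
    by_cases hneg : pq.1 < 0
    · exact (hQ.1 pq (Or.inl hneg)).eq_of_src _ _
    · haveI := hQ.2 (pq + (r, 1 - r)) (by simp only [Prod.fst_add]; omega)
      rw [← cancel_mono ((φ.hom r hr).f (pq + (r, 1 - r))), zero_comp, ← (φ.hom r hr).comm]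
      exact hφd r hr pq
  · exact (E.page r hr).shape pq pq' hrel

lemma step (E E' : E₂CohomologicalSpectralSequence C) (φ : E ⟶ E')
    (hd' : ∀ (r : ℤ) (hr : 2 ≤ r) (pq : ℤ × ℤ), pq.1 ≠ 0 →
      (E'.page r hr).d pq (pq + (r, 1 - r)) = 0)
    (hφd : ∀ (r : ℤ) (hr : 2 ≤ r) (pq : ℤ × ℤ),
      (φ.hom r hr).f pq ≫ (E'.page r hr).d pq (pq + (r, 1 - r)) = 0)
    (n : ℤ) (hn : 2 ≤ n) (hQ : Q E E' φ n hn) : Q E E' φ (n + 1) (by omega) := by
  have hd := d_zero E E' φ hφd n hn hQ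
  constructor
  · intro pq hpq
    have hz : IsZero ((E.page n hn).homology pq) :=
      ShortComplex.isZero_homology_of_isZero_X₂ _ (hQ.1 pq hpq)
    exact IsZero.of_iso hz (E.iso n (n + 1) pq rfl hn).symm
  · intro pq hpq
    have hprev : (ComplexShape.up' (⟨n, 1 - n⟩ : ℤ × ℤ)).prev pq = pq - (n, 1 - n) :=
      (ComplexShape.up' _).prev_eq' (sub_add_cancel pq (n, 1 - n))
    haveI : Mono ((φ.hom n hn).f pq) := hQ.2 pq (by omega)
    have hL : (E'.page n hn).d (pq - (n, 1 - n)) pq = 0 := by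
      have h := hd' n hn (pq - (n, 1 - n)) (by simp only [Prod.fst_sub]; omega)
      rwa [sub_add_cancel] at h
    haveI := mono_homologyMap (φ.hom n hn) (pq - (n, 1 - n)) pq hprev (hd _ _) hL
    have hcomm := φ.comm n (n + 1) pq rfl hn
    haveI h1 : Mono ((E.iso n (n + 1) pq rfl hn).hom ≫ (φ.hom (n + 1) (by omega)).f pq) := by
      rw [← hcomm]; infer_instance
    have h2 : (φ.hom (n + 1) (by omega)).f pq = (E.iso n (n + 1) pq rfl hn).inv ≫
        ((E.iso n (n + 1) pq rfl hn).hom ≫ (φ.hom (n + 1) (by omega)).f pq) := by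
      rw [Iso.inv_hom_id_assoc]
    rw [h2]
    infer_instance

theorem main (E E' : E₂CohomologicalSpectralSequence C) (φ : E ⟶ E')
    (hE : ∀ pq : ℤ × ℤ, pq.1 < 0 ∨ pq.2 < 0 → IsZero ((E.page 2 le_rfl).X pq))
    (hd' : ∀ (r : ℤ) (hr : 2 ≤ r) (pq : ℤ × ℤ), pq.1 ≠ 0 →
      (E'.page r hr).d pq (pq + (r, 1 - r)) = 0)
    (hφd : ∀ (r : ℤ) (hr : 2 ≤ r) (pq : ℤ × ℤ),
      (φ.hom r hr).f pq ≫ (E'.page r hr).d pq (pq + (r, 1 - r)) = 0)
    (hmono : ∀ pq : ℤ × ℤ, Mono ((φ.hom 2 le_rfl).f pq)) :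
    SpSeq.Degenerates E 2 := by
  have hQ : ∀ (r : ℤ) (hr : 2 ≤ r), Q E E' φ r hr := fun r hr =>
    Int.le_induction (motive := fun r hr => Q E E' φ r hr) ⟨hE, fun pq _ => hmono pq⟩
      (fun n hn ih => step E E' φ hd' hφd n hn ih) r hr
  exact ⟨le_rfl, fun r' h₀ _ pq pq' => d_zero E E' φ hφd r' h₀ (hQ r' h₀) pq pq'⟩

end Groth.Agent.LeadSSDegen
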