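import Mathlib
import Groth.Prelude.Def_SpSeq
import Groth.Agent.Lib.LeadAbutZero

/-! Stationarity of a spectral sequence of vector spaces from a dimension count. -/

set_option autoImplicit false
universe v u

namespace Groth.Agent.LeadSSStat

open CategoryTheory CategoryTheory.Limits

variable {A : Type u} [Ring A]

lemma length_sub_add_quot {M : Type*} [AddCommGroup M] [Module A M] (N : Submodule A M) :
    Module.length A M = Module.length A N + Module.length A (M ⧸ N) :=
  Module.length_eq_add_of_exact N.subtype N.mkQ N.injective_subtype N.mkQ_surjective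
    (LinearMap.exact_subtype_mkQ N)

/-- length of the image of a morphism of modules -/
noncomputable def rlen {M N : ModuleCat.{v} A} (f : M ⟶ N) : ℕ∞ :=
  Module.length A (LinearMap.range f.hom)

lemma eq_zero_of_rlen {M N : ModuleCat.{v} A} (f : M ⟶ N) (h : rlen f = 0) : f = 0 := by
  have h1 : Subsingleton (LinearMap.range f.hom) := Module.length_eq_zero_iff.mp h
  have h2 : LinearMap.range f.hom = ⊥ := Submodule.subsingleton_iff_eq_bot.mp h1
  have h3 : f.hom = 0 := LinearMap.range_eq_bot.mp h2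
  apply ModuleCat.hom_ext
  rw [h3, ModuleCat.hom_zero]

lemma length_sc (S : ShortComplex (ModuleCat.{v} A)) :
    Module.length A S.X₂ = rlen S.f + Module.length A S.homology + rlen S.g := by
  have h1 := length_sub_add_quot (A := A) (LinearMap.ker S.g.hom)
  have h2 : Module.length A (S.X₂ ⧸ LinearMap.ker S.g.hom) = rlen S.g :=
    (LinearMap.quotKerEquivRange S.g.hom).length_eq
  have h3 := length_sub_add_quot (A := A) (LinearMap.range S.moduleCatToCycles)
  have h4 : Module.length A (LinearMap.range S.moduleCatToCycles) = rlen S.f := by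
    have e1 := (LinearMap.quotKerEquivRange S.moduleCatToCycles).length_eq
    have e2 := (LinearMap.quotKerEquivRange S.f.hom).length_eq
    have hk : LinearMap.ker S.moduleCatToCycles = LinearMap.ker S.f.hom :=
      LinearMap.ker_codRestrict _ _ _
    have e3 := (Submodule.quotEquivOfEq _ _ hk).length_eq
    unfold rlen
    rw [← e1, ← e2]
    exact e3
  have h5 : Module.length A S.homology =
      Module.length A (LinearMap.ker S.g.hom ⧸ LinearMap.range S.moduleCatToCycles) :=
    S.moduleCatHomologyIso.toLinearEquiv.length_eq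
  rw [h1, h2, h3, h4, h5]

lemma length_X {ι : Type*} {c : ComplexShape ι} (K : HomologicalComplex (ModuleCat.{v} A) c)
    (i j k : ι) (hi : c.prev j = i) (hk : c.next j = k) :
    Module.length A (K.X j) =
      rlen (K.d i j) + Module.length A (K.homology j) + rlen (K.d j k) := by
  have h := length_sc (K.sc' i j k)
  have e : Module.length A (K.homology j) = Module.length A (K.sc' i j k).homology :=
    (K.homologyIsoSc' i j k hi hk).toLinearEquiv.length_eq
  rw [e]
  exact h

lemma enat_lemma (x a b : ℕ∞) (hx : x ≠ ⊤) (h : a + x + b ≤ x) : a = 0 ∧ b = 0 := by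
  lift x to ℕ using hx
  have ha : a ≠ ⊤ := by
    rintro rfl
    simp at h
  have hb : b ≠ ⊤ := by
    rintro rfl
    simp at h
  lift a to ℕ using ha
  lift b to ℕ using hb
  norm_cast at h ⊢
  omega

section SS

variable {r₀ : ℤ} (E : CohomologicalSpectralSequence (ModuleCat.{v} A) r₀) (pq : ℤ × ℤ)

/-- length of the term at `pq` on page `r` -/
noncomputable def L (r : ℤ) (hr : r₀ ≤ r) : ℕ∞ := Module.length A ((E.page r hr).X pq)

lemma len_step (r : ℤ) (hr : r₀ ≤ r) :
    L E pq r hr = rlen ((E.page r hr).d (pq - (r, 1 - r)) pq) +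
      L E pq (r + 1) (hr.trans (Int.le_add_one le_rfl)) +
      rlen ((E.page r hr).d pq (pq + (r, 1 - r))) := by
  have h := length_X (E.page r hr) (pq - (r, 1 - r)) pq (pq + (r, 1 - r))
    ((ComplexShape.up' ((r, 1 - r) : ℤ × ℤ)).prev_eq' (sub_add_cancel pq (r, 1 - r)))
    ((ComplexShape.up' ((r, 1 - r) : ℤ × ℤ)).next_eq' rfl)
  have e : Module.length A ((E.page r hr).homology pq) =
      L E pq (r + 1) (hr.trans (Int.le_add_one le_rfl)) :=
    (E.iso r (r + 1) pq rfl hr).toLinearEquiv.length_eq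
  rw [← e]
  exact h

lemma len_anti (r : ℤ) (hr : r₀ ≤ r) :
    ∀ (r' : ℤ) (hrr' : r ≤ r'), L E pq r' (hr.trans hrr') ≤ L E pq r hr := by
  intro r' hrr'
  refine Int.le_induction (motive := fun r' hrr' => L E pq r' (hr.trans hrr') ≤ L E pq r hr)
    le_rfl (fun n hn ih => ?_) r' hrr'
  have h := len_step E pq n (hr.trans hn)
  refine le_trans ?_ ih
  rw [h]
  exact le_add_right le_add_self

lemma d_zero_of_len_eq (R : ℤ) (hR : r₀ ≤ R) (hfin : L E pq r₀ le_rfl ≠ ⊤)
    (heq : L E pq R hR = L E pq r₀ le_rfl) (r : ℤ) (hr : r₀ ≤ r) (hrR : r < R) :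
    (E.page r hr).d (pq - (r, 1 - r)) pq = 0 ∧ (E.page r hr).d pq (pq + (r, 1 - r)) = 0 := by
  have h1 : L E pq r hr ≤ L E pq r₀ le_rfl := len_anti E pq r₀ le_rfl r hr
  have h2 : L E pq R hR ≤ L E pq (r + 1) (hr.trans (Int.le_add_one le_rfl)) :=
    len_anti E pq (r + 1) (hr.trans (Int.le_add_one le_rfl)) R (by omega)
  have h3 := len_step E pq r hr
  rw [heq] at h2
  have h4 : rlen ((E.page r hr).d (pq - (r, 1 - r)) pq) + L E pq r₀ le_rfl +
      rlen ((E.page r hr).d pq (pq + (r, 1 - r))) ≤ L E pq r₀ le_rfl := by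
    refine le_trans ?_ h1
    rw [h3]
    gcongr
  obtain ⟨ha, hb⟩ := enat_lemma _ _ _ hfin h4
  exact ⟨eq_zero_of_rlen _ ha, eq_zero_of_rlen _ hb⟩

end SS

section Fil

variable {X : ModuleCat.{v} A} (F : ℤ → Subobject X) (hF : Antitone F)

lemma len_fil_step (p : ℤ) :
    Module.length A ((F p : ModuleCat.{v} A)) =
      Module.length A ((F (p + 1) : ModuleCat.{v} A)) +
        Module.length A ((SpSeq.grPiece F hF p : ModuleCat.{v} A)) := by
  have hle : F (p + 1) ≤ F p := hF (Int.le_add_one le_rfl)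
  obtain ⟨f, hf⟩ : ∃ f, f = (F (p + 1)).ofLE (F p) hle := ⟨_, rfl⟩
  haveI : Mono f := by rw [hf]; infer_instance
  have hex := (ShortComplex.ShortExact.moduleCat_exact_iff_function_exact _).mp
    (ShortComplex.exact_cokernel f)
  have hinj : Function.Injective f.hom := (ModuleCat.mono_iff_injective f).mp inferInstance
  have hsurj : Function.Surjective (cokernel.π f).hom :=
    (ModuleCat.epi_iff_surjective _).mp inferInstance
  have := Module.length_eq_add_of_exact f.hom (cokernel.π f).hom hinj hsurj hex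
  subst hf
  exact this

lemma len_top (P : Subobject X) (h : P = ⊤) :
    Module.length A ((P : ModuleCat.{v} A)) = Module.length A X := by
  haveI : IsIso P.arrow := (Subobject.isIso_arrow_iff_eq_top _).mpr h
  exact (asIso P.arrow).toLinearEquiv.length_eq

lemma len_bot (P : Subobject X) (h : P = ⊥) :
    Module.length A ((P : ModuleCat.{v} A)) = 0 := by
  have h0 : P.arrow = 0 := LeadAbutZero.arrow_eq_zero_of_eq_bot P h
  have hinj : Function.Injective P.arrow.hom :=
    (ModuleCat.mono_iff_injective P.arrow).mp inferInstance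
  rw [Module.length_eq_zero_iff]
  refine ⟨fun x y => hinj ?_⟩
  rw [h0]
  simp

lemma len_telescope (a : ℤ) : ∀ (b : ℤ) (_ : a ≤ b),
    Module.length A ((F a : ModuleCat.{v} A)) = Module.length A ((F b : ModuleCat.{v} A)) +
      ∑ s ∈ Finset.Ico a b, Module.length A ((SpSeq.grPiece F hF s : ModuleCat.{v} A)) := by
  intro b hab
  refine Int.le_induction (motive := fun b _ => Module.length A ((F a : ModuleCat.{v} A)) =
    Module.length A ((F b : ModuleCat.{v} A)) +
      ∑ s ∈ Finset.Ico a b, Module.length A ((SpSeq.grPiece F hF s : ModuleCat.{v} A))) ?_ (fun m hm ih => ?_) b hab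
  · simp
  · rw [← Finset.insert_Ico_right_eq_Ico_add_one hm, Finset.sum_insert Finset.right_notMem_Ico,
      ih, len_fil_step F hF m]
    ring

end Fil

section Abut

variable {r₀ : ℤ} {E : CohomologicalSpectralSequence (ModuleCat.{v} A) r₀}
  {H : ℤ → ModuleCat.{v} A}

lemma len_gr (a : SpSeq.Abutment E H) (n s : ℤ) :
    Module.length A ((SpSeq.grPiece (a.fil n) (a.anti n) s : ModuleCat.{v} A)) =
      L E (s, n - s) (a.rk (s, n - s)) (a.stat (s, n - s)).1 := by
  have h1 := (a.β (s, n - s)).toLinearEquiv.length_eq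
  have h2 : ∀ (m : ℤ) (_ : m = n), Module.length A ((SpSeq.grPiece (a.fil m) (a.anti m) s : ModuleCat.{v} A)) =
      Module.length A ((SpSeq.grPiece (a.fil n) (a.anti n) s : ModuleCat.{v} A)) := by
    rintro m rfl; rfl
  rw [← h2 (s + (n - s)) (by omega)]
  exact h1.symm

end Abut

theorem main {K : Type u} [Field K] {r₀ : ℤ}
    (E : CohomologicalSpectralSequence (ModuleCat.{v} K) r₀) (H : ℤ → ModuleCat.{v} K)
    (a : SpSeq.Abutment E H) (n : ℤ) (hfin : a.IsFinite n)
    (hquad : ∀ pq : ℤ × ℤ, pq.1 < 0 ∨ pq.2 < 0 → IsZero ((E.page r₀ le_rfl).X pq))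
    (hfd : ∀ pq : ℤ × ℤ, Module.Finite K ((E.page r₀ le_rfl).X pq))
    (hH : Module.Finite K (H n))
    (hsum : ∑ s ∈ Finset.Icc (0 : ℤ) n, Module.finrank K ((E.page r₀ le_rfl).X (s, n - s)) =
      Module.finrank K (H n)) :
    ∀ s : ℤ, SpSeq.StationaryAt E (s, n - s) r₀ := by
  classical
  obtain ⟨g, hg⟩ : ∃ g : ℤ → ℕ,
      g = fun s => Module.finrank K ((E.page r₀ le_rfl).X (s, n - s)) := ⟨_, rfl⟩
  have hg' : ∀ s, g s = Module.finrank K ((E.page r₀ le_rfl).X (s, n - s)) := fun s => by rw [hg]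
  have hLg : ∀ s, L E (s, n - s) r₀ le_rfl = (g s : ℕ∞) := by
    intro s
    haveI := hfd (s, n - s)
    rw [hg' s]
    exact Module.length_eq_finrank K _
  obtain ⟨ℓ, hℓ⟩ : ∃ ℓ : ℤ → ℕ∞,
      ℓ = fun s => Module.length K ((SpSeq.grPiece (a.fil n) (a.anti n) s : ModuleCat.{v} K)) := ⟨_, rfl⟩
  have hℓ' : ∀ s, ℓ s = Module.length K ((SpSeq.grPiece (a.fil n) (a.anti n) s : ModuleCat.{v} K)) :=
    fun s => by rw [hℓ]
  have hℓL : ∀ s, ℓ s = L E (s, n - s) (a.rk (s, n - s)) (a.stat (s, n - s)).1 := by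
    intro s; rw [hℓ' s]; exact len_gr a n s
  have hℓle : ∀ s, ℓ s ≤ (g s : ℕ∞) := by
    intro s
    rw [hℓL, ← hLg]
    exact len_anti E (s, n - s) r₀ le_rfl _ (a.stat (s, n - s)).1
  have hzero : ∀ s, s ∉ Finset.Icc (0 : ℤ) n → IsZero ((E.page r₀ le_rfl).X (s, n - s)) := by
    intro s hs
    rw [Finset.mem_Icc, not_and_or, not_le, not_le] at hs
    refine hquad (s, n - s) ?_
    rcases hs with h | h
    · left; exact h
    · right; show n - s < 0; omega
  have hout : ∀ s, s ∉ Finset.Icc (0 : ℤ) n → g s = 0 := by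
    intro s hs
    haveI := ModuleCat.subsingleton_of_isZero (hzero s hs)
    rw [hg' s]
    exact Module.finrank_zero_of_subsingleton
  obtain ⟨f, hf⟩ : ∃ f : ℤ → ℕ, f = fun s => (ℓ s).toNat := ⟨_, rfl⟩
  have hf' : ∀ s, f s = (ℓ s).toNat := fun s => by rw [hf]
  have hfℓ : ∀ s, (f s : ℕ∞) = ℓ s := by
    intro s; rw [hf' s]
    exact ENat.coe_toNat (ne_top_of_le_ne_top (ENat.coe_ne_top _) (hℓle s))
  have hfg : ∀ s, f s ≤ g s := by
    intro s
    have := hℓle s
    rw [← hfℓ s] at this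
    exact_mod_cast this
  have hfout : ∀ s, s ∉ Finset.Icc (0 : ℤ) n → f s = 0 :=
    fun s hs => Nat.le_zero.mp ((hfg s).trans (hout s hs).le)
  obtain ⟨⟨p₀, hp₀⟩, ⟨p₁, hp₁⟩⟩ := hfin
  have hp₀' : a.fil n p₀ = ⊤ := hp₀
  have hp₁' : a.fil n p₁ = ⊥ := hp₁
  obtain ⟨a', ha'⟩ : ∃ a' : ℤ, a' = min p₀ p₁ := ⟨_, rfl⟩
  obtain ⟨b', hb'⟩ : ∃ b' : ℤ, b' = max p₀ p₁ := ⟨_, rfl⟩
  have hab' : a' ≤ b' := by rw [ha', hb']; exact le_trans (min_le_left _ _) (le_max_left _ _)
  have htop : a.fil n a' = ⊤ := by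
    have : a.fil n p₀ ≤ a.fil n a' := a.anti n (by rw [ha']; exact min_le_left _ _)
    rw [hp₀'] at this
    exact top_le_iff.mp this
  have hbot : a.fil n b' = ⊥ := by
    have : a.fil n b' ≤ a.fil n p₁ := a.anti n (by rw [hb']; exact le_max_right _ _)
    rw [hp₁'] at this
    exact le_bot_iff.mp this
  have htel := len_telescope (a.fil n) (a.anti n) a' b' hab'
  rw [len_top _ htop, len_bot _ hbot, zero_add] at htel
  haveI := hH
  rw [Module.length_eq_finrank K (H n)] at htel
  have h1 : (Module.finrank K (H n) : ℕ∞) = ((∑ s ∈ Finset.Ico a' b', f s : ℕ) : ℕ∞) := by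
    rw [htel, Nat.cast_sum]
    apply Finset.sum_congr rfl
    intro s _
    rw [hfℓ, hℓ' s]
  have h2 : Module.finrank K (H n) = ∑ s ∈ Finset.Ico a' b', f s := by exact_mod_cast h1
  have h3 : ∑ s ∈ Finset.Ico a' b', f s ≤ ∑ s ∈ Finset.Icc (0 : ℤ) n, f s := by
    rw [← Finset.sum_filter_of_ne (p := fun s => s ∈ Finset.Icc (0 : ℤ) n)
      (fun s _ hs => by by_contra hc; exact hs (hfout s hc))]
    exact Finset.sum_le_sum_of_subset (fun s hs => (Finset.mem_filter.mp hs).2)
  have h4 : ∑ s ∈ Finset.Icc (0 : ℤ) n, f s ≤ ∑ s ∈ Finset.Icc (0 : ℤ) n, g s :=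
    Finset.sum_le_sum (fun s _ => hfg s)
  have h5 : ∑ s ∈ Finset.Icc (0 : ℤ) n, g s = Module.finrank K (H n) := by
    rw [← hsum]
    exact Finset.sum_congr rfl (fun s _ => hg' s)
  have h6 : ∑ s ∈ Finset.Icc (0 : ℤ) n, f s = ∑ s ∈ Finset.Icc (0 : ℤ) n, g s := by omega
  have hall := (Finset.sum_eq_sum_iff_of_le (fun s _ => hfg s)).mp h6
  intro s
  refine ⟨le_rfl, fun r' h₀ _ => ?_⟩
  by_cases hs : s ∈ Finset.Icc (0 : ℤ) n
  · have hfs : f s = g s := hall s hs
    have heq : L E (s, n - s) (a.rk (s, n - s)) (a.stat (s, n - s)).1 =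
        L E (s, n - s) r₀ le_rfl := by
      rw [← hℓL, ← hfℓ, hfs, hLg]
    by_cases hr : r' < a.rk (s, n - s)
    · exact d_zero_of_len_eq E (s, n - s) _ (a.stat (s, n - s)).1
        (by rw [hLg]; exact ENat.coe_ne_top _) heq r' h₀ hr
    · exact (a.stat (s, n - s)).2 r' h₀ (not_lt.mp hr)
  · have hz' : IsZero ((E.page r' h₀).X (s, n - s)) :=
      LeadAbutZero.isZero_page E (s, n - s) r₀ le_rfl (hzero s hs) r' h₀
    exact ⟨hz'.eq_of_tgt _ _, hz'.eq_of_src _ _⟩

end Groth.Agent.LeadSSStat
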