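import Groth.Agent.Lib.Helper4HilbFunB

/-!
# Segre products (lead), part A: homogeneous systems of parameters in `k[Z_0..Z_n]/J`

For a homogeneous ideal `J` of `P = k[Z_0, …, Z_n]` with `dim P/J ≤ e` there are `e` forms of
positive degrees such that `P/J` is integral over the polynomial ring on these forms.
-/

set_option autoImplicit false
set_option maxHeartbeats 400000
set_option linter.style.haveILetI false
set_option linter.unusedSectionVars false
set_option linter.unusedVariables false

universe u

noncomputable section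

open MvPolynomial

namespace Groth.Agent.Lib.LeadSeg

open Groth.Agent.Lib.Helper4.HilbFun

attribute [local instance] MvPolynomial.gradedAlgebra

variable (k : Type u) [Field k] (n : ℕ)

/-- forms cutting the dimension down to zero -/
theorem exists_forms_dim_zero : ∀ (e : ℕ) (J : Ideal (MvPolynomial (Fin (n + 1)) k)),
    J.IsHomogeneous (CohB1.polyGrading n k) →
    ringKrullDim (MvPolynomial (Fin (n + 1)) k ⧸ J) ≤ (e : WithBot ℕ∞) →
    ∃ (f : Fin e → MvPolynomial (Fin (n + 1)) k) (δ : Fin e → ℕ), (∀ i, 0 < δ i) ∧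
      (∀ i, f i ∈ CohB1.polyGrading n k (δ i)) ∧
      ringKrullDim (MvPolynomial (Fin (n + 1)) k ⧸ (J ⊔ Ideal.span (Set.range f))) ≤ 0 := by
  intro e
  induction e with
  | zero =>
    intro J hJ hdim
    refine ⟨Fin.elim0, Fin.elim0, fun i => i.elim0, fun i => i.elim0, ?_⟩
    have h0 : Set.range (Fin.elim0 : Fin 0 → MvPolynomial (Fin (n + 1)) k) = ∅ :=
      Set.range_eq_empty _
    have h1 : J ⊔ Ideal.span (Set.range (Fin.elim0 : Fin 0 → MvPolynomial (Fin (n + 1)) k)) = J := by
      rw [h0, Ideal.span_empty, sup_bot_eq]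
    rw [h1]
    exact_mod_cast hdim
  | succ e ih =>
    intro J hJ hdim
    obtain ⟨δ₀, f₀, hδ₀, hf₀, hdrop⟩ := exists_form_dim_drop k n J hJ e hdim
    have hJ₁ : (J ⊔ Ideal.span {f₀}).IsHomogeneous (CohB1.polyGrading n k) := by
      refine Ideal.IsHomogeneous.sup hJ ?_
      apply Ideal.homogeneous_span
      rintro _ rfl
      exact ⟨δ₀, hf₀⟩
    obtain ⟨f, δ, hδ, hf, hd⟩ := ih _ hJ₁ hdrop
    refine ⟨Fin.cons f₀ f, Fin.cons δ₀ δ, ?_, ?_, ?_⟩
    · intro i
      refine Fin.cases ?_ (fun j => ?_) i
      · rw [Fin.cons_zero]; exact hδ₀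
      · rw [Fin.cons_succ]; exact hδ j
    · intro i
      refine Fin.cases ?_ (fun j => ?_) i
      · rw [Fin.cons_zero, Fin.cons_zero]; exact hf₀
      · rw [Fin.cons_succ, Fin.cons_succ]; exact hf j
    · have h1 : J ⊔ Ideal.span (Set.range (Fin.cons f₀ f : Fin (e + 1) → _)) =
          (J ⊔ Ideal.span {f₀}) ⊔ Ideal.span (Set.range f) := by
        rw [Fin.range_cons, Ideal.span_insert, sup_assoc]
      rw [h1]
      exact hd

/-- if `dim P/J' ≤ 0` for a homogeneous ideal `J'`, all forms of high degree lie in `J'` -/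
theorem exists_forall_homogeneous_mem (J' : Ideal (MvPolynomial (Fin (n + 1)) k))
    (hJ' : J'.IsHomogeneous (CohB1.polyGrading n k))
    (hdim : ringKrullDim (MvPolynomial (Fin (n + 1)) k ⧸ J') ≤ 0) :
    ∃ N₀ : ℕ, ∀ m : ℕ, N₀ ≤ m → ∀ p ∈ homogeneousSubmodule (Fin (n + 1)) k m, p ∈ J' := by
  obtain ⟨N₀, hN⟩ := hilb_eq_zero_of_dim_le_zero k n J' hJ' hdim
  refine ⟨N₀, fun m hm p hp => ?_⟩
  have h0 := hN m hm
  rw [hilb_eq_finrank_piece] at h0
  haveI : Module.Finite k ↥(piece J' m) := Module.Finite.map _ _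
  have hbot : piece J' m = ⊥ := Submodule.finrank_eq_zero.mp h0
  have hmem : (Ideal.Quotient.mkₐ k J').toLinearMap p ∈ piece J' m := ⟨p, hp, rfl⟩
  rw [hbot, Submodule.mem_bot] at hmem
  exact Ideal.Quotient.eq_zero_iff_mem.mp hmem

variable {k n}

/-- the algebra map from the polynomial ring on the forms to the quotient -/
def formsHom (J : Ideal (MvPolynomial (Fin (n + 1)) k)) {e : ℕ}
    (f : Fin e → MvPolynomial (Fin (n + 1)) k) :
    MvPolynomial (Fin e) k →ₐ[k] (MvPolynomial (Fin (n + 1)) k ⧸ J) :=
  MvPolynomial.aeval (fun i => Ideal.Quotient.mk J (f i))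

lemma formsHom_X (J : Ideal (MvPolynomial (Fin (n + 1)) k)) {e : ℕ}
    (f : Fin e → MvPolynomial (Fin (n + 1)) k) (i : Fin e) :
    formsHom J f (X i) = Ideal.Quotient.mk J (f i) := by
  rw [formsHom, aeval_X]

/-- **graded Nakayama**: `P/J` is integral over the polynomial ring on forms generating an ideal
containing all forms of high degree modulo `J` -/
theorem formsHom_isIntegral (J : Ideal (MvPolynomial (Fin (n + 1)) k))
    (hJ : J.IsHomogeneous (homogeneousSubmodule (Fin (n + 1)) k)) {e : ℕ}
    (f : Fin e → MvPolynomial (Fin (n + 1)) k) (δ : Fin e → ℕ) (hδ : ∀ i, 0 < δ i)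
    (hf : ∀ i, f i ∈ homogeneousSubmodule (Fin (n + 1)) k (δ i)) (N₀ : ℕ)
    (hN : ∀ m, N₀ ≤ m → ∀ p ∈ homogeneousSubmodule (Fin (n + 1)) k m,
      p ∈ J ⊔ Ideal.span (Set.range f)) :
    (formsHom J f).toRingHom.IsIntegral := by
  classical
  letI alg : Algebra (MvPolynomial (Fin e) k) (MvPolynomial (Fin (n + 1)) k ⧸ J) :=
    (formsHom J f).toRingHom.toAlgebra
  letI modW : Module (MvPolynomial (Fin e) k) (MvPolynomial (Fin (n + 1)) k ⧸ J) :=
    alg.toModule
  have hsmul : ∀ (i : Fin e) (y : MvPolynomial (Fin (n + 1)) k ⧸ J),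
      (X i : MvPolynomial (Fin e) k) • y = Ideal.Quotient.mk J (f i) * y := by
    intro i y
    rw [Algebra.smul_def]
    show (formsHom J f) (X i) * y = _
    rw [formsHom_X]
  obtain ⟨G, hG⟩ : ∃ G : ℕ → Submodule (MvPolynomial (Fin e) k) (MvPolynomial (Fin (n + 1)) k ⧸ J),
      G = fun m => Submodule.span (MvPolynomial (Fin e) k)
        ((fun p => Ideal.Quotient.mk J p) '' (homogeneousSubmodule (Fin (n + 1)) k m : Set _)) :=
    ⟨_, rfl⟩
  obtain ⟨M, hM⟩ : ∃ M : Submodule (MvPolynomial (Fin e) k) (MvPolynomial (Fin (n + 1)) k ⧸ J),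
      M = (Finset.range N₀).sup G := ⟨_, rfl⟩
  have hGmem : ∀ m, ∀ p ∈ homogeneousSubmodule (Fin (n + 1)) k m,
      Ideal.Quotient.mk J p ∈ G m := by
    intro m p hp
    rw [hG]
    exact Submodule.subset_span ⟨p, hp, rfl⟩
  -- finite generation
  have hGfg : ∀ m, (G m).FG := by
    intro m
    obtain ⟨t, ht⟩ := homogeneousSubmodule_fg (Fin (n + 1)) k m
    refine ⟨t.image (fun p => Ideal.Quotient.mk J p), ?_⟩
    rw [hG]
    apply le_antisymm
    · refine Submodule.span_mono ?_
      rw [Finset.coe_image]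
      refine Set.image_mono ?_
      intro p hp
      rw [← ht]
      exact Submodule.subset_span hp
    · have hgen : ∀ p ∈ Submodule.span k (t : Set (MvPolynomial (Fin (n + 1)) k)),
          Ideal.Quotient.mk J p ∈ Submodule.span (MvPolynomial (Fin e) k)
            (↑(t.image fun p => Ideal.Quotient.mk J p) : Set (MvPolynomial (Fin (n + 1)) k ⧸ J)) := by
        intro p hp'
        induction hp' using Submodule.span_induction with
        | mem x hx =>
          exact Submodule.subset_span (Finset.mem_coe.mpr (Finset.mem_image_of_mem _ hx))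
        | zero =>
          rw [map_zero]; exact Submodule.zero_mem _
        | add x y _ _ hx hy =>
          rw [map_add]; exact Submodule.add_mem _ hx hy
        | smul c x _ hx =>
          have : Ideal.Quotient.mk J (c • x) =
              (C c : MvPolynomial (Fin e) k) • Ideal.Quotient.mk J x := by
            rw [Algebra.smul_def, Algebra.smul_def, map_mul]
            congr 1
            show _ = (formsHom J f) (C c)
            rw [← MvPolynomial.algebraMap_eq, AlgHom.commutes]
            rfl
          rw [this]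
          exact Submodule.smul_mem _ _ hx
      refine Submodule.span_le.mpr ?_
      rintro _ ⟨p, hp, rfl⟩
      exact hgen p (by rw [ht]; exact hp)
  have hMfg : M.FG := by
    rw [hM]
    exact Submodule.fg_finset_sup _ _ (fun m _ => hGfg m)
  -- the key induction
  have key : ∀ m, ∀ p ∈ homogeneousSubmodule (Fin (n + 1)) k m, Ideal.Quotient.mk J p ∈ M := by
    intro m
    induction m using Nat.strong_induction_on with
    | _ m ih =>
      intro p hp
      by_cases hm : m < N₀
      · rw [hM]
        exact (Finset.le_sup (f := G) (Finset.mem_range.mpr hm)) (hGmem m p hp)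
      · have hmem := hN m (not_lt.mp hm) p hp
        obtain ⟨j, hj, q, hq, hsum⟩ := Submodule.mem_sup.mp hmem
        obtain ⟨g, hg⟩ := (Ideal.mem_span_range_iff_exists_fun).mp hq
        have hpm : p = (DirectSum.decompose (homogeneousSubmodule (Fin (n + 1)) k) p m :
            MvPolynomial (Fin (n + 1)) k) := by
          rw [DirectSum.decompose_of_mem_same _ hp]
        have hdec : (DirectSum.decompose (homogeneousSubmodule (Fin (n + 1)) k) p m :
            MvPolynomial (Fin (n + 1)) k) =
            (DirectSum.decompose (homogeneousSubmodule (Fin (n + 1)) k) j m :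
              MvPolynomial (Fin (n + 1)) k) +
            ∑ i, (DirectSum.decompose (homogeneousSubmodule (Fin (n + 1)) k) (g i * f i) m :
              MvPolynomial (Fin (n + 1)) k) := by
          rw [← hsum, ← hg, DirectSum.decompose_add, DirectSum.add_apply, Submodule.coe_add,
            DirectSum.decompose_sum, DFinsupp.finsetSum_apply, AddSubmonoidClass.coe_finsetSum]
        have hjm : (DirectSum.decompose (homogeneousSubmodule (Fin (n + 1)) k) j m :
            MvPolynomial (Fin (n + 1)) k) ∈ J := hJ m hj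
        rw [hpm, hdec, map_add, Ideal.Quotient.eq_zero_iff_mem.mpr hjm, zero_add, map_sum]
        refine Submodule.sum_mem _ fun i _ => ?_
        by_cases hle : δ i ≤ m
        · rw [DirectSum.coe_decompose_mul_of_right_mem_of_le
            (homogeneousSubmodule (Fin (n + 1)) k) (hf i) hle, map_mul, mul_comm, ← hsmul]
          refine Submodule.smul_mem _ _ (ih (m - δ i) ?_ _ (SetLike.coe_mem _))
          have := hδ i
          omega
        · rw [DirectSum.coe_decompose_mul_of_right_mem_of_not_le
            (homogeneousSubmodule (Fin (n + 1)) k) (hf i) hle, map_zero]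
          exact Submodule.zero_mem _
  have htop : M = ⊤ := by
    rw [eq_top_iff]
    intro y _
    obtain ⟨p, rfl⟩ := Ideal.Quotient.mk_surjective y
    rw [← DirectSum.sum_support_decompose (homogeneousSubmodule (Fin (n + 1)) k) p, map_sum]
    exact Submodule.sum_mem _ fun m _ => key m _ (SetLike.coe_mem _)
  haveI : Module.Finite (MvPolynomial (Fin e) k) (MvPolynomial (Fin (n + 1)) k ⧸ J) :=
    ⟨htop ▸ hMfg⟩
  haveI : Algebra.IsIntegral (MvPolynomial (Fin e) k) (MvPolynomial (Fin (n + 1)) k ⧸ J) :=
    Algebra.IsIntegral.of_finite _ _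
  intro y
  exact Algebra.IsIntegral.isIntegral (R := MvPolynomial (Fin e) k) y

end Groth.Agent.Lib.LeadSeg
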