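import Groth.Agent.Lib.LeadSegA
import Groth.Agent.Lib.Helper5IntDim

/-!
# Segre products (lead), part B: graded Noether normalization

For a finitely generated `ℤ`-graded `k`-algebra `R` concentrated in degrees `≥ 0` with `R_0 = k` and
`dim R = r` there are `r` homogeneous elements of the same positive degree, algebraically
independent over `k`, with `R` integral over the polynomial ring they generate.
-/

set_option autoImplicit false
set_option maxHeartbeats 400000
set_option linter.style.haveILetI false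
set_option linter.unusedSectionVars false
set_option linter.unusedVariables false

universe u

noncomputable section

open MvPolynomial

namespace Groth.Agent.Lib.LeadSeg

attribute [local instance] MvPolynomial.gradedAlgebra

section General

lemma isIntegralElem_of_pow {P A : Type*} [CommRing P] [CommRing A] (f : P →+* A) {x : A} {n : ℕ}
    (hn : 0 < n) (hx : f.IsIntegralElem (x ^ n)) : f.IsIntegralElem x := by
  letI := f.toAlgebra
  exact IsIntegral.of_pow hn hx

lemma isIntegral_of_adjoin {k P A : Type*} [CommRing k] [CommRing P] [CommRing A] [Algebra k P]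
    [Algebra k A] (f : P →ₐ[k] A) (s : Set A) (hs : Algebra.adjoin k s = ⊤)
    (h : ∀ b ∈ s, f.toRingHom.IsIntegralElem b) : f.toRingHom.IsIntegral := by
  intro y
  have hy : y ∈ Algebra.adjoin k s := by rw [hs]; trivial
  induction hy using Algebra.adjoin_induction with
  | mem x hx => exact h x hx
  | algebraMap r =>
    have : algebraMap k A r = f.toRingHom (algebraMap k P r) := (f.commutes r).symm
    rw [this]
    exact f.toRingHom.isIntegralElem_map
  | add x y _ _ hx hy => exact RingHom.IsIntegralElem.add _ hx hy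
  | mul x y _ _ hx hy => exact RingHom.IsIntegralElem.mul _ hx hy

/-- the `a`-th power substitution `W_i ↦ W_i ^ a i` is integral -/
lemma powHom_isIntegral (k : Type*) [CommRing k] {e : ℕ} (a : Fin e → ℕ) (ha : ∀ i, 0 < a i) :
    (aeval (fun i => (X i : MvPolynomial (Fin e) k) ^ a i) :
      MvPolynomial (Fin e) k →ₐ[k] MvPolynomial (Fin e) k).toRingHom.IsIntegral := by
  refine isIntegral_of_adjoin _ (Set.range X) (MvPolynomial.adjoin_range_X) ?_
  rintro _ ⟨i, rfl⟩
  refine isIntegralElem_of_pow _ (ha i) ?_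
  have : (X i : MvPolynomial (Fin e) k) ^ a i =
      (aeval (fun i => (X i : MvPolynomial (Fin e) k) ^ a i) :
        MvPolynomial (Fin e) k →ₐ[k] MvPolynomial (Fin e) k).toRingHom (X i) := by
    show _ = aeval _ (X i)
    rw [aeval_X]
  rw [this]
  exact RingHom.isIntegralElem_map _

end General

section Graded

variable {k : Type u} [Field k] {R : Type u} [CommRing R] [Algebra k R] (𝒜 : ℤ → Submodule k R)
  [GradedAlgebra 𝒜]

theorem exists_homogeneous_generators (hpos : ∀ n : ℤ, n < 0 → 𝒜 n = ⊥)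
    (h0 : 𝒜 0 = Submodule.span k {(1 : R)}) [Algebra.FiniteType k R] :
    ∃ s : Finset R, Algebra.adjoin k (s : Set R) = ⊤ ∧
      ∀ b ∈ s, ∃ d : ℕ, 0 < d ∧ b ∈ 𝒜 (d : ℤ) := by
  classical
  obtain ⟨s₀, hs₀⟩ := (Algebra.FiniteType.out : (⊤ : Subalgebra k R).FG)
  refine ⟨s₀.biUnion (fun a => ((DirectSum.decompose 𝒜 a).support.filter (fun n => 0 < n)).image
    (fun n => (DirectSum.decompose 𝒜 a n : R))), ?_, ?_⟩
  · rw [eq_top_iff, ← hs₀]
    refine Algebra.adjoin_le ?_
    intro a ha
    rw [SetLike.mem_coe, ← DirectSum.sum_support_decompose 𝒜 a]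
    refine Subalgebra.sum_mem _ fun n hn => ?_
    have hmem : ∀ n, (DirectSum.decompose 𝒜 a n : R) ∈ 𝒜 n := fun n => SetLike.coe_mem _
    rcases lt_trichotomy n 0 with hneg | hzero | hpos'
    · have h1 : (DirectSum.decompose 𝒜 a n : R) ∈ (⊥ : Submodule k R) := by
        rw [← hpos n hneg]; exact hmem n
      rw [Submodule.mem_bot] at h1
      rw [h1]
      exact Subalgebra.zero_mem _
    · have h1 : (DirectSum.decompose 𝒜 a n : R) ∈ Submodule.span k {(1 : R)} := by
        rw [← h0, ← hzero]; exact hmem n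
      rw [Submodule.mem_span_singleton] at h1
      obtain ⟨c, hc⟩ := h1
      rw [← hc, Algebra.smul_def, mul_one]
      exact Subalgebra.algebraMap_mem _ c
    · refine Algebra.subset_adjoin ?_
      rw [Finset.mem_coe, Finset.mem_biUnion]
      refine ⟨a, ha, ?_⟩
      rw [Finset.mem_image]
      exact ⟨n, Finset.mem_filter.mpr ⟨hn, hpos'⟩, rfl⟩
  · intro b hb
    rw [Finset.mem_biUnion] at hb
    obtain ⟨a, ha, hb⟩ := hb
    rw [Finset.mem_image] at hb
    obtain ⟨n, hn, rfl⟩ := hb
    rw [Finset.mem_filter] at hn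
    refine ⟨n.toNat, ?_, ?_⟩
    · have := hn.2
      omega
    · rw [Int.toNat_of_nonneg hn.2.le]
      exact SetLike.coe_mem _

/-- a graded presentation by generators of one degree -/
theorem exists_graded_presentation (hpos : ∀ n : ℤ, n < 0 → 𝒜 n = ⊥)
    (h0 : 𝒜 0 = Submodule.span k {(1 : R)}) [Algebra.FiniteType k R] :
    ∃ (n : ℕ) (D : ℕ) (c : Fin (n + 1) → R), 0 < D ∧ (∀ i, c i ∈ 𝒜 (D : ℤ)) ∧
      (aeval c : MvPolynomial (Fin (n + 1)) k →ₐ[k] R).toRingHom.IsIntegral := by
  classical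
  obtain ⟨s, hs, hd⟩ := exists_homogeneous_generators 𝒜 hpos h0
  choose! d hdpos hdmem using hd
  obtain ⟨D, hD⟩ : ∃ D : ℕ, D = ∏ b ∈ s, d b := ⟨_, rfl⟩
  have hDpos : 0 < D := by
    rw [hD]
    exact Finset.prod_pos fun b hb => hdpos b hb
  have hdvd : ∀ b ∈ s, d b ∣ D := fun b hb => by
    rw [hD]
    exact Finset.dvd_prod_of_mem d hb
  have hcard : Fintype.card (Option ↥s) = s.card + 1 := by
    rw [Fintype.card_option, Fintype.card_coe]
  let e : Option ↥s ≃ Fin (s.card + 1) := Fintype.equivFinOfCardEq hcard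
  obtain ⟨c, hc⟩ : ∃ c : Fin (s.card + 1) → R,
      c = fun i => (e.symm i).elim 0 (fun b => (b : R) ^ (D / d b)) := ⟨_, rfl⟩
  have hcsome : ∀ b : ↥s, c (e (some b)) = (b : R) ^ (D / d b) := by
    intro b
    rw [hc]
    simp only [Equiv.symm_apply_apply, Option.elim_some]
  refine ⟨s.card, D, c, hDpos, ?_, ?_⟩
  · intro i
    rw [hc]
    simp only
    cases h : e.symm i with
    | none => simp only [Option.elim_none]; exact Submodule.zero_mem _
    | some b =>
      simp only [Option.elim_some]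
      have h1 := SetLike.pow_mem_graded (D / d b) (hdmem b b.2)
      have h2 : (D / d (b : R)) • ((d (b : R) : ℕ) : ℤ) = (D : ℤ) := by
        rw [nsmul_eq_mul]
        exact_mod_cast Nat.div_mul_cancel (hdvd b b.2)
      rw [h2] at h1
      exact h1
  · refine isIntegral_of_adjoin _ (s : Set R) hs ?_
    intro b hb
    have hpow : 0 < D / d b :=
      Nat.div_pos (Nat.le_of_dvd hDpos (hdvd b hb)) (hdpos b hb)
    refine isIntegralElem_of_pow _ hpow ?_
    have : b ^ (D / d b) =
        (aeval c : MvPolynomial (Fin (s.card + 1)) k →ₐ[k] R).toRingHom (X (e (some ⟨b, hb⟩))) := by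
      show _ = aeval c (X (e (some ⟨b, hb⟩)))
      rw [aeval_X, hcsome]
    rw [this]
    exact RingHom.isIntegralElem_map _

variable {𝒜}

/-- `aeval c` is graded when all `c i` have the same degree -/
lemma aeval_mem_graded {n : ℕ} (c : Fin (n + 1) → R) (D : ℕ) (hc : ∀ i, c i ∈ 𝒜 (D : ℤ)) (m : ℕ)
    (p : MvPolynomial (Fin (n + 1)) k) (hp : p ∈ homogeneousSubmodule (Fin (n + 1)) k m) :
    aeval c p ∈ 𝒜 ((m * D : ℕ) : ℤ) := by
  classical
  rw [p.as_sum, map_sum]
  refine Submodule.sum_mem _ fun v hv => ?_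
  rw [aeval_monomial, ← Algebra.smul_def]
  refine Submodule.smul_mem _ _ ?_
  have hdeg : v.degree = m := by
    by_contra hne
    exact (mem_support_iff.mp hv) (((mem_homogeneousSubmodule _ _).mp hp).coeff_eq_zero hne)
  have h1 := SetLike.prod_pow_mem_graded 𝒜 (fun _ : Fin (n + 1) => (D : ℤ)) c (fun i => v i)
    (F := v.support) (fun i _ => hc i)
  have h2 : ∑ i ∈ v.support, v i • (D : ℤ) = ((m * D : ℕ) : ℤ) := by
    simp only [nsmul_eq_mul]
    rw [← Finset.sum_mul, ← hdeg, Finsupp.degree_apply]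
    push_cast
    rfl
  rw [h2] at h1
  exact h1

/-- the kernel of a graded `aeval` is homogeneous -/
lemma ker_aeval_isHomogeneous {n : ℕ} (c : Fin (n + 1) → R) (D : ℕ) (hD : 0 < D)
    (hc : ∀ i, c i ∈ 𝒜 (D : ℤ)) :
    (RingHom.ker (aeval c : MvPolynomial (Fin (n + 1)) k →ₐ[k] R).toRingHom).IsHomogeneous
      (homogeneousSubmodule (Fin (n + 1)) k) := by
  classical
  intro m p hp
  rw [RingHom.mem_ker] at hp ⊢
  have hsum : (aeval c) p = ∑ m' ∈ (DirectSum.decompose (homogeneousSubmodule (Fin (n + 1)) k)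
      p).support, aeval c (DirectSum.decompose (homogeneousSubmodule (Fin (n + 1)) k) p m' :
        MvPolynomial (Fin (n + 1)) k) := by
    conv_lhs => rw [← DirectSum.sum_support_decompose (homogeneousSubmodule (Fin (n + 1)) k) p]
    rw [map_sum]
  have hdeg : ∀ m', aeval c (DirectSum.decompose (homogeneousSubmodule (Fin (n + 1)) k) p m' :
      MvPolynomial (Fin (n + 1)) k) ∈ 𝒜 ((m' * D : ℕ) : ℤ) :=
    fun m' => aeval_mem_graded c D hc m' _ (SetLike.coe_mem _)
  have h1 : (DirectSum.decompose 𝒜 ((aeval c) p) ((m * D : ℕ) : ℤ) : R) =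
      aeval c (DirectSum.decompose (homogeneousSubmodule (Fin (n + 1)) k) p m :
        MvPolynomial (Fin (n + 1)) k) := by
    rw [hsum, DirectSum.decompose_sum, DFinsupp.finsetSum_apply, AddSubmonoidClass.coe_finsetSum]
    rw [Finset.sum_eq_single m]
    · exact DirectSum.decompose_of_mem_same 𝒜 (hdeg m)
    · intro m' _ hne
      refine DirectSum.decompose_of_mem_ne 𝒜 (hdeg m') ?_
      intro h
      apply hne
      have h2 : m' * D = m * D := by exact_mod_cast h
      exact Nat.eq_of_mul_eq_mul_right hD h2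
    · intro hm
      rw [DFinsupp.notMem_support_iff] at hm
      rw [hm]
      simp
  have hp' : (aeval c) p = 0 := hp
  rw [hp', DirectSum.decompose_zero, DirectSum.zero_apply, ZeroMemClass.coe_zero] at h1
  exact h1.symm

/-- Noether normalization from a graded integral presentation -/
theorem nn_of_presentation {n : ℕ} (φ : MvPolynomial (Fin (n + 1)) k →ₐ[k] R) (D : ℕ) (hD : 0 < D)
    (hφint : φ.toRingHom.IsIntegral)
    (hφhom : (RingHom.ker φ.toRingHom).IsHomogeneous (homogeneousSubmodule (Fin (n + 1)) k))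
    (hφgr : ∀ (m : ℕ) (p : MvPolynomial (Fin (n + 1)) k),
      p ∈ homogeneousSubmodule (Fin (n + 1)) k m → φ p ∈ 𝒜 ((m * D : ℕ) : ℤ))
    (r : ℕ) (hr : ringKrullDim R = r) :
    ∃ (E : ℕ) (x : Fin r → R), 0 < E ∧ (∀ i, x i ∈ 𝒜 (E : ℤ)) ∧
      (aeval x : MvPolynomial (Fin r) k →ₐ[k] R).toRingHom.IsIntegral ∧
      Function.Injective (aeval x : MvPolynomial (Fin r) k →ₐ[k] R) := by
  classical
  have hdimJ : ringKrullDim (MvPolynomial (Fin (n + 1)) k ⧸ RingHom.ker φ.toRingHom) = r := by
    rw [← Groth.Agent.Lib.Helper5.ringKrullDim_eq_ringKrullDim_quotient_ker_of_isIntegral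
      φ.toRingHom hφint, hr]
  obtain ⟨f, δ, hδ, hf, hd0⟩ := exists_forms_dim_zero k n r _ hφhom hdimJ.le
  have hJ' : (RingHom.ker φ.toRingHom ⊔ Ideal.span (Set.range f)).IsHomogeneous
      (CohB1.polyGrading n k) := by
    refine Ideal.IsHomogeneous.sup hφhom ?_
    apply Ideal.homogeneous_span
    rintro _ ⟨i, rfl⟩
    exact ⟨δ i, hf i⟩
  obtain ⟨N₀, hN⟩ := exists_forall_homogeneous_mem k n _ hJ' hd0
  have hforms := formsHom_isIntegral (RingHom.ker φ.toRingHom) hφhom f δ hδ hf N₀ hN
  obtain ⟨Δ, hΔ⟩ : ∃ Δ : ℕ, Δ = ∏ i, δ i := ⟨_, rfl⟩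
  have hΔpos : 0 < Δ := by
    rw [hΔ]; exact Finset.prod_pos fun i _ => hδ i
  have hdvd : ∀ i, δ i ∣ Δ := fun i => by
    rw [hΔ]; exact Finset.dvd_prod_of_mem δ (Finset.mem_univ i)
  obtain ⟨a, ha⟩ : ∃ a : Fin r → ℕ, a = fun i => Δ / δ i := ⟨_, rfl⟩
  have hapos : ∀ i, 0 < a i := fun i => by
    rw [ha]; exact Nat.div_pos (Nat.le_of_dvd hΔpos (hdvd i)) (hδ i)
  have hamul : ∀ i, a i * δ i = Δ := fun i => by
    rw [ha]; exact Nat.div_mul_cancel (hdvd i)
  have hcomp : (aeval (fun i => (φ (f i)) ^ a i) : MvPolynomial (Fin r) k →ₐ[k] R).toRingHom =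
      (RingHom.kerLift φ.toRingHom).comp
        ((formsHom (RingHom.ker φ.toRingHom) f).toRingHom.comp
          (aeval (fun i => (X i : MvPolynomial (Fin r) k) ^ a i) :
            MvPolynomial (Fin r) k →ₐ[k] MvPolynomial (Fin r) k).toRingHom) := by
    refine MvPolynomial.ringHom_ext (fun c => ?_) (fun i => ?_)
    · show aeval _ (C c) = RingHom.kerLift φ.toRingHom
        (formsHom (RingHom.ker φ.toRingHom) f (aeval _ (C c)))
      rw [← MvPolynomial.algebraMap_eq, AlgHom.commutes, AlgHom.commutes, AlgHom.commutes]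
      show _ = RingHom.kerLift φ.toRingHom (Ideal.Quotient.mk _ (algebraMap k _ c))
      rw [RingHom.kerLift_mk]
      exact (φ.commutes c).symm
    · show aeval _ (X i) = RingHom.kerLift φ.toRingHom
        (formsHom (RingHom.ker φ.toRingHom) f (aeval _ (X i)))
      rw [aeval_X, aeval_X, map_pow (formsHom (RingHom.ker φ.toRingHom) f), formsHom_X,
        map_pow (RingHom.kerLift φ.toRingHom), RingHom.kerLift_mk]
      rfl
  refine ⟨Δ * D, fun i => (φ (f i)) ^ a i, Nat.mul_pos hΔpos hD, ?_, ?_, ?_⟩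
  · intro i
    have h1 := hφgr (δ i) (f i) (hf i)
    have h2 := SetLike.pow_mem_graded (a i) h1
    have h3 : a i • (((δ i * D : ℕ)) : ℤ) = ((Δ * D : ℕ) : ℤ) := by
      rw [nsmul_eq_mul, ← hamul i]
      push_cast
      ring
    rw [h3] at h2
    exact h2
  · rw [hcomp]
    exact RingHom.IsIntegral.trans _ _
      (RingHom.IsIntegral.trans _ _ (powHom_isIntegral k a hapos) hforms) hφint.kerLift
  · have hint : (aeval (fun i => (φ (f i)) ^ a i) :
        MvPolynomial (Fin r) k →ₐ[k] R).toRingHom.IsIntegral := by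
      rw [hcomp]
      exact RingHom.IsIntegral.trans _ _
        (RingHom.IsIntegral.trans _ _ (powHom_isIntegral k a hapos) hforms) hφint.kerLift
    have hdimK := Groth.Agent.Lib.Helper5.ringKrullDim_eq_ringKrullDim_quotient_ker_of_isIntegral
      _ hint
    rw [hr] at hdimK
    have hker : RingHom.ker (aeval (fun i => (φ (f i)) ^ a i) :
        MvPolynomial (Fin r) k →ₐ[k] R).toRingHom = ⊥ := by
      by_contra hne
      obtain ⟨g, hg, hg0⟩ := Submodule.exists_mem_ne_zero_of_ne_bot hne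
      have hnzd : g ∈ nonZeroDivisors (MvPolynomial (Fin r) k) :=
        mem_nonZeroDivisors_of_ne_zero hg0
      have h1 := ringKrullDim_quotient_succ_le_of_nonZeroDivisor hnzd
      have hle : Ideal.span {g} ≤ RingHom.ker (aeval (fun i => (φ (f i)) ^ a i) :
          MvPolynomial (Fin r) k →ₐ[k] R).toRingHom :=
        (Ideal.span_singleton_le_iff_mem _).mpr hg
      have h2 := ringKrullDim_le_of_surjective (Ideal.Quotient.factor hle)
        (Ideal.Quotient.factor_surjective hle)
      have h3 : ringKrullDim (MvPolynomial (Fin r) k) = r := by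
        rw [MvPolynomial.ringKrullDim_of_isNoetherianRing, ringKrullDim_eq_zero_of_field,
          Nat.card_eq_fintype_card, Fintype.card_fin, zero_add]
      rw [h3] at h1
      rw [← hdimK] at h2
      have h4 : ((r : ℕ) : WithBot ℕ∞) + 1 ≤ r := (add_le_add_left h2 1).trans h1
      have h5 : ((r + 1 : ℕ) : WithBot ℕ∞) ≤ ((r : ℕ) : WithBot ℕ∞) := by
        push_cast
        exact h4
      have h6 : r + 1 ≤ r := by exact_mod_cast h5
      omega
    exact (RingHom.injective_iff_ker_eq_bot _).mpr hker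

/-- **graded Noether normalization** -/
theorem exists_noether_normalization (𝒜 : ℤ → Submodule k R) [GradedAlgebra 𝒜]
    (hpos : ∀ n : ℤ, n < 0 → 𝒜 n = ⊥)
    (h0 : 𝒜 0 = Submodule.span k {(1 : R)}) [Algebra.FiniteType k R] (r : ℕ)
    (hr : ringKrullDim R = r) :
    ∃ (E : ℕ) (x : Fin r → R), 0 < E ∧ (∀ i, x i ∈ 𝒜 (E : ℤ)) ∧
      (aeval x : MvPolynomial (Fin r) k →ₐ[k] R).toRingHom.IsIntegral ∧
      Function.Injective (aeval x : MvPolynomial (Fin r) k →ₐ[k] R) := by
  obtain ⟨n, D, c, hD, hc, hint⟩ := exists_graded_presentation 𝒜 hpos h0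
  exact nn_of_presentation (aeval c) D hD hint (ker_aeval_isHomogeneous c D hD hc)
    (fun m p hp => aeval_mem_graded c D hc m p hp) r hr

end Graded

end Groth.Agent.Lib.LeadSeg
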