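import Mathlib

/-!
# Segre products (lead), part D: the Segre subalgebra `k[X_i Y_j]` of `k[X, Y]`: balanced monomials
-/

set_option autoImplicit false
set_option maxHeartbeats 400000
set_option linter.style.haveILetI false
set_option linter.unusedSectionVars false
set_option linter.unusedVariables false

universe u

noncomputable section

open MvPolynomial

namespace Groth.Agent.Lib.LeadSeg

variable (k : Type u) [Field k] (r s : ℕ)

/-- the generators `X_i Y_j` -/
def segGen (p : Fin r × Fin s) : MvPolynomial (Fin r ⊕ Fin s) k :=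
  X (Sum.inl p.1) * X (Sum.inr p.2)

/-- the Segre subalgebra `k[X_i Y_j]` -/
def segPoly : Subalgebra k (MvPolynomial (Fin r ⊕ Fin s) k) :=
  Algebra.adjoin k (Set.range (segGen k r s))

lemma segGen_mem (i : Fin r) (j : Fin s) :
    (X (Sum.inl i) * X (Sum.inr j) : MvPolynomial (Fin r ⊕ Fin s) k) ∈ segPoly k r s :=
  Algebra.subset_adjoin ⟨(i, j), rfl⟩

variable {k}

/-- the `X`-degree of an exponent vector -/
def degL : ((Fin r ⊕ Fin s) →₀ ℕ) →+ ℕ := ∑ i : Fin r, Finsupp.applyAddHom (Sum.inl i)

/-- the `Y`-degree of an exponent vector -/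
def degR : ((Fin r ⊕ Fin s) →₀ ℕ) →+ ℕ := ∑ j : Fin s, Finsupp.applyAddHom (Sum.inr j)

lemma degL_apply (μ : (Fin r ⊕ Fin s) →₀ ℕ) : degL r s μ = ∑ i, μ (Sum.inl i) := by
  simp [degL]

lemma degR_apply (μ : (Fin r ⊕ Fin s) →₀ ℕ) : degR r s μ = ∑ j, μ (Sum.inr j) := by
  simp [degR]

lemma degL_single_inl (i : Fin r) (n : ℕ) : degL r s (Finsupp.single (Sum.inl i) n) = n := by
  classical
  rw [degL_apply]
  simp [Finsupp.single_apply, Finset.sum_ite_eq]

lemma degL_single_inr (j : Fin s) (n : ℕ) : degL r s (Finsupp.single (Sum.inr j) n) = 0 := by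
  classical
  rw [degL_apply]
  simp [Finsupp.single_apply]

lemma degR_single_inr (j : Fin s) (n : ℕ) : degR r s (Finsupp.single (Sum.inr j) n) = n := by
  classical
  rw [degR_apply]
  simp [Finsupp.single_apply, Finset.sum_ite_eq]

lemma degR_single_inl (i : Fin r) (n : ℕ) : degR r s (Finsupp.single (Sum.inl i) n) = 0 := by
  classical
  rw [degR_apply]
  simp [Finsupp.single_apply]

variable (k)

/-- balanced monomials lie in the Segre subalgebra -/
theorem monomial_mem_segPoly : ∀ (t : ℕ) (μ : (Fin r ⊕ Fin s) →₀ ℕ), degL r s μ = t →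
    degR r s μ = t → monomial μ (1 : k) ∈ segPoly k r s := by
  classical
  intro t
  induction t with
  | zero =>
    intro μ hL hR
    rw [degL_apply, Finset.sum_eq_zero_iff] at hL
    rw [degR_apply, Finset.sum_eq_zero_iff] at hR
    have hμ : μ = 0 := by
      ext a
      rcases a with i | j
      · exact hL i (Finset.mem_univ i)
      · exact hR j (Finset.mem_univ j)
    rw [hμ]
    exact Subalgebra.one_mem _
  | succ t ih =>
    intro μ hL hR
    obtain ⟨i₀, hi₀⟩ : ∃ i₀, μ (Sum.inl i₀) ≠ 0 := by
      by_contra hcon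
      push Not at hcon
      rw [degL_apply, Finset.sum_eq_zero fun i _ => hcon i] at hL
      omega
    obtain ⟨j₀, hj₀⟩ : ∃ j₀, μ (Sum.inr j₀) ≠ 0 := by
      by_contra hcon
      push Not at hcon
      rw [degR_apply, Finset.sum_eq_zero fun j _ => hcon j] at hR
      omega
    obtain ⟨ν, hν⟩ : ∃ ν : (Fin r ⊕ Fin s) →₀ ℕ,
        ν = Finsupp.single (Sum.inl i₀) 1 + Finsupp.single (Sum.inr j₀) 1 := ⟨_, rfl⟩
    have hle : ν ≤ μ := by
      rw [hν]
      intro a
      rw [Finsupp.add_apply, Finsupp.single_apply, Finsupp.single_apply]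
      rcases a with i | j
      · by_cases h : i₀ = i
        · subst h
          simp only [if_true, Sum.inl.injEq, reduceCtorEq, if_false, add_zero]
          omega
        · simp [h]
      · by_cases h : j₀ = j
        · subst h
          simp only [if_true, Sum.inr.injEq, reduceCtorEq, if_false, zero_add]
          omega
        · simp [h]
    have hμ : μ = (μ - ν) + ν := (tsub_add_cancel_of_le hle).symm
    have hLν : degL r s ν = 1 := by
      rw [hν, map_add, degL_single_inl, degL_single_inr]
    have hRν : degR r s ν = 1 := by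
      rw [hν, map_add, degR_single_inl, degR_single_inr]
    have hL' : degL r s (μ - ν) = t := by
      have := congrArg (degL r s) hμ
      rw [map_add, hL, hLν] at this
      omega
    have hR' : degR r s (μ - ν) = t := by
      have := congrArg (degR r s) hμ
      rw [map_add, hR, hRν] at this
      omega
    have hmon : monomial μ (1 : k) = monomial (μ - ν) 1 * (X (Sum.inl i₀) * X (Sum.inr j₀)) := by
      conv_lhs => rw [hμ]
      rw [X, X, monomial_mul, monomial_mul, one_mul, one_mul, ← hν]
    rw [hmon]
    exact Subalgebra.mul_mem _ (ih _ hL' hR') (segGen_mem k r s i₀ j₀)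

end Groth.Agent.Lib.LeadSeg
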