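import Groth.Agent.Lib.LeadSegF

/-!
# Segre products (lead), part G: range form of the dimension theorem; quotient gradings
-/

set_option autoImplicit false
set_option maxHeartbeats 400000
set_option linter.style.haveILetI false
set_option linter.unusedSectionVars false
set_option linter.unusedVariables false

universe u

noncomputable section

open MvPolynomial TensorProduct

namespace Groth.Agent.Lib.LeadSeg

section Graded

variable {k : Type u} [Field k] {R S : Type u} [CommRing R] [CommRing S] [Algebra k R] [Algebra k S]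
  (𝒜 : ℤ → Submodule k R) [GradedAlgebra 𝒜] (ℬ : ℤ → Submodule k S) [GradedAlgebra ℬ]

/-- **The dimension of a Segre product**, for any `k`-algebra mapping isomorphically onto the Segre span. -/
theorem ringKrullDim_segre' (hposR : ∀ n : ℤ, n < 0 → 𝒜 n = ⊥)
    (h0R : 𝒜 0 = Submodule.span k {(1 : R)}) [Algebra.FiniteType k R]
    (hposS : ∀ n : ℤ, n < 0 → ℬ n = ⊥)
    (h0S : ℬ 0 = Submodule.span k {(1 : S)}) [Algebra.FiniteType k S]
    {T : Type u} [CommRing T] [Algebra k T] (ψ : T →ₐ[k] R ⊗[k] S) (hψ : Function.Injective ψ)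
    (hrange : ∀ t, ψ t ∈ segreSpan 𝒜 ℬ)
    (hgen0 : ∀ (n : ℤ) (a : R) (b : S), a ∈ 𝒜 n → b ∈ ℬ n → ∃ t, ψ t = a ⊗ₜ[k] b)
    (r' s' : ℕ) (hr : ringKrullDim R = ((r' + 1 : ℕ) : WithBot ℕ∞))
    (hs : ringKrullDim S = ((s' + 1 : ℕ) : WithBot ℕ∞)) :
    ringKrullDim T = ((r' + s' + 1 : ℕ) : WithBot ℕ∞) := by
  classical
  obtain ⟨ER, x₀, hER, hx₀, hx₀int, -⟩ := exists_noether_normalization 𝒜 hposR h0R (r' + 1) hr
  obtain ⟨ES, y₀, hES, hy₀, hy₀int, -⟩ := exists_noether_normalization ℬ hposS h0S (s' + 1) hs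
  obtain ⟨x, hxdef⟩ : ∃ x : Fin (r' + 1) → R, x = fun i => x₀ i ^ ES := ⟨_, rfl⟩
  obtain ⟨y, hydef⟩ : ∃ y : Fin (s' + 1) → S, y = fun j => y₀ j ^ ER := ⟨_, rfl⟩
  obtain ⟨E, hEdef⟩ : ∃ E : ℕ, E = ER * ES := ⟨_, rfl⟩
  have hE : 0 < E := by rw [hEdef]; exact Nat.mul_pos hER hES
  have hx : ∀ i, x i ∈ 𝒜 (E : ℤ) := by
    intro i
    have h1 := SetLike.pow_mem_graded ES (hx₀ i)
    have h : ES • (ER : ℤ) = ((E : ℕ) : ℤ) := by
      rw [hEdef, nsmul_eq_mul]; push_cast; ring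
    rw [h] at h1
    rw [hxdef]; exact h1
  have hy : ∀ j, y j ∈ ℬ (E : ℤ) := by
    intro j
    have h1 := SetLike.pow_mem_graded ER (hy₀ j)
    have h : ER • (ES : ℤ) = ((E : ℕ) : ℤ) := by
      rw [hEdef, nsmul_eq_mul]; push_cast; ring
    rw [h] at h1
    rw [hydef]; exact h1
  have hxint : (aeval x : MvPolynomial (Fin (r' + 1)) k →ₐ[k] R).toRingHom.IsIntegral := by
    rw [hxdef]; exact aeval_pow_isIntegral x₀ hx₀int ES hES
  have hyint : (aeval y : MvPolynomial (Fin (s' + 1)) k →ₐ[k] S).toRingHom.IsIntegral := by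
    rw [hydef]; exact aeval_pow_isIntegral y₀ hy₀int ER hER
  have hxinj : Function.Injective (aeval x : MvPolynomial (Fin (r' + 1)) k →ₐ[k] R) :=
    injective_of_isIntegral_of_dim (r' + 1) hr _ hxint
  have hyinj : Function.Injective (aeval y : MvPolynomial (Fin (s' + 1)) k →ₐ[k] S) :=
    injective_of_isIntegral_of_dim (s' + 1) hs _ hyint
  have hΦint := segHom_isIntegral (k := k) x y hxint hyint
  have hΦinj := segHom_injective (k := k) x y hxinj hyinj
  obtain ⟨g, hg⟩ : ∃ g : segPoly k (r' + 1) (s' + 1) →ₐ[k] R ⊗[k] S,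
      g = (segHom k x y).comp (segPoly k (r' + 1) (s' + 1)).val := ⟨_, rfl⟩
  have hginj : Function.Injective g := by
    rw [hg, AlgHom.coe_comp]
    exact hΦinj.comp Subtype.val_injective
  have hgen : ∀ i j, x i ⊗ₜ[k] y j ∈ ψ.range := by
    intro i j
    obtain ⟨t, ht⟩ := hgen0 (E : ℤ) (x i) (y j) (hx i) (hy j)
    exact ⟨t, ht⟩
  have hgrange : ∀ q, ∃ t, ψ.toRingHom t = g.toRingHom q := by
    have hle : segPoly k (r' + 1) (s' + 1) ≤ ψ.range.comap (segHom k x y) := by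
      refine Algebra.adjoin_le ?_
      rintro _ ⟨⟨i, j⟩, rfl⟩
      show segHom k x y (segGen k _ _ (i, j)) ∈ ψ.range
      rw [segGen, map_mul, segHom_X_inl, segHom_X_inr, Algebra.TensorProduct.tmul_mul_tmul,
        mul_one, one_mul]
      exact hgen i j
    intro q
    have h1 : segHom k x y (q : MvPolynomial (Fin (r' + 1) ⊕ Fin (s' + 1)) k) ∈ ψ.range := hle q.2
    obtain ⟨t, ht⟩ := h1
    refine ⟨t, ?_⟩
    rw [hg]
    exact ht
  have hgint : ∀ t, g.toRingHom.IsIntegralElem (ψ.toRingHom t) := by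
    intro t
    have h1 : IsIntegral (segHom k x y).range (ψ t) :=
      isIntegral_range_of_isIntegralElem _ (hΦint (ψ t))
    have h2 : IsIntegral ((segPoly k (r' + 1) (s' + 1)).map (segHom k x y)) (ψ t) := by
      refine isIntegral_of_pi0 𝒜 ℬ (segHom k x y).range _ ?_ (ψ t) ?_ h1
      · intro c hc
        obtain ⟨p, rfl⟩ := (AlgHom.mem_range _).mp hc
        exact pi0_segHom_mem 𝒜 ℬ x y E hE hx hy p
      · intro j
        rw [← map_pow]
        exact hrange _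
    have h3 := isIntegralElem_of_isIntegral_map (segHom k x y) (segPoly k (r' + 1) (s' + 1)) h2
    rw [hg]
    exact h3
  rw [ringKrullDim_eq_of_factor g.toRingHom ψ.toRingHom hψ hginj hgrange hgint,
    ringKrullDim_segPoly]

end Graded


section QuotGr

open DirectSum

variable {k : Type u} [Field k] {R : Type u} [CommRing R] [Algebra k R]
  (𝒜 : ℤ → Submodule k R) [GradedAlgebra 𝒜] (I : Ideal R)

/-- the graded pieces of the quotient by an ideal -/
def quotGr (n : ℤ) : Submodule k (R ⧸ I) :=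
  (𝒜 n).map (Ideal.Quotient.mkₐ k I).toLinearMap

lemma mem_quotGr {n : ℤ} {y : R ⧸ I} :
    y ∈ quotGr 𝒜 I n ↔ ∃ a ∈ 𝒜 n, Ideal.Quotient.mk I a = y := Iff.rfl

lemma mk_mem_quotGr {n : ℤ} {a : R} (ha : a ∈ 𝒜 n) : Ideal.Quotient.mk I a ∈ quotGr 𝒜 I n :=
  ⟨a, ha, rfl⟩

instance quotGr_gradedMonoid : SetLike.GradedMonoid (quotGr 𝒜 I) where
  one_mem := ⟨1, SetLike.one_mem_graded 𝒜, map_one (Ideal.Quotient.mk I)⟩
  mul_mem := by
    rintro i j _ _ ⟨a, ha, rfl⟩ ⟨b, hb, rfl⟩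
    exact ⟨a * b, SetLike.mul_mem_graded ha hb, map_mul (Ideal.Quotient.mk I) a b⟩

/-- component projection maps -/
def projPiece (n : ℤ) : ↥(𝒜 n) →+ ↥(quotGr 𝒜 I n) where
  toFun x := ⟨Ideal.Quotient.mk I (x : R), (x : R), x.2, rfl⟩
  map_zero' := Subtype.ext (map_zero (Ideal.Quotient.mk I))
  map_add' x y := Subtype.ext (map_add (Ideal.Quotient.mk I) (x : R) (y : R))

theorem coe_map_projPiece (y : ⨁ n, 𝒜 n) :
    DirectSum.coeAddMonoidHom (quotGr 𝒜 I) (DirectSum.map (projPiece 𝒜 I) y) =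
      Ideal.Quotient.mk I (DirectSum.coeAddMonoidHom 𝒜 y) := by
  classical
  induction y using DirectSum.induction_on with
  | zero => simp
  | of g x =>
    rw [DirectSum.map_of, DirectSum.coeAddMonoidHom_of, DirectSum.coeAddMonoidHom_of]
    rfl
  | add x y hx hy => rw [map_add, map_add, map_add, map_add, hx, hy]

/-- the decomposition map before passing to the quotient -/
def preDec : R →+ ⨁ n, quotGr 𝒜 I n :=
  (DirectSum.map (projPiece 𝒜 I)).comp (DirectSum.decomposeAddEquiv 𝒜).toAddMonoidHom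

theorem preDec_apply (x : R) :
    preDec 𝒜 I x = DirectSum.map (projPiece 𝒜 I) (DirectSum.decompose 𝒜 x) := rfl

variable (hI : I.IsHomogeneous 𝒜)

include hI in
theorem preDec_eq_zero {x : R} (hx : x ∈ I) : preDec 𝒜 I x = 0 := by
  rw [preDec_apply]
  ext g
  rw [DirectSum.map_apply, DirectSum.zero_apply]
  change Ideal.Quotient.mk I ((DirectSum.decompose 𝒜 x) g : R) = 0
  rw [Ideal.Quotient.eq_zero_iff_mem]
  exact hI g hx

/-- the decomposition map on the quotient -/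
def decHom : (R ⧸ I) →+ ⨁ n, quotGr 𝒜 I n :=
  QuotientAddGroup.lift (Submodule.toAddSubgroup I) (preDec 𝒜 I)
    (fun _ hx => preDec_eq_zero 𝒜 I hI hx)

theorem decHom_mk (x : R) : decHom 𝒜 I hI (Ideal.Quotient.mk I x) = preDec 𝒜 I x := rfl

/-- the induced decomposition on the quotient by a homogeneous ideal. -/
@[instance_reducible]
def quotDecomposition : DirectSum.Decomposition (quotGr 𝒜 I) :=
  DirectSum.Decomposition.ofAddHom (quotGr 𝒜 I) (decHom 𝒜 I hI)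
    (by
      apply AddMonoidHom.ext
      intro y
      obtain ⟨x, rfl⟩ := Ideal.Quotient.mk_surjective y
      rw [AddMonoidHom.comp_apply, decHom_mk, preDec_apply, coe_map_projPiece]
      have : DirectSum.coeAddMonoidHom 𝒜 (DirectSum.decompose 𝒜 x) = x :=
        DirectSum.Decomposition.left_inv x
      rw [this]
      rfl)
    (by
      apply DirectSum.addHom_ext
      rintro g ⟨y, a, ha, rfl⟩
      rw [AddMonoidHom.comp_apply, DirectSum.coeAddMonoidHom_of]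
      change decHom 𝒜 I hI (Ideal.Quotient.mk I a) = _
      rw [decHom_mk, preDec_apply, DirectSum.decompose_of_mem 𝒜 ha, DirectSum.map_of]
      rfl)

/-- the quotient of a graded algebra by a homogeneous ideal is a graded algebra -/
@[instance_reducible]
def quotGradedAlgebra : GradedAlgebra (quotGr 𝒜 I) :=
  { quotGr_gradedMonoid 𝒜 I with
    toDecomposition := quotDecomposition 𝒜 I hI }

omit hI in
lemma quotGr_neg (hpos : ∀ n : ℤ, n < 0 → 𝒜 n = ⊥) (n : ℤ) (hn : n < 0) : quotGr 𝒜 I n = ⊥ := by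
  rw [quotGr, hpos n hn, Submodule.map_bot]

omit hI in
lemma quotGr_zero (h0 : 𝒜 0 = Submodule.span k {(1 : R)}) :
    quotGr 𝒜 I 0 = Submodule.span k {(1 : R ⧸ I)} := by
  rw [quotGr, h0, Submodule.map_span, Set.image_singleton]
  congr 2

end QuotGr

section SegQuot

variable {k : Type u} [Field k] {R S : Type u} [CommRing R] [CommRing S] [Algebra k R] [Algebra k S]
  (𝒜 : ℤ → Submodule k R) [GradedAlgebra 𝒜] (ℬ : ℤ → Submodule k S) [GradedAlgebra ℬ]
  (I : Ideal R) (J : Ideal S)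

variable (k) in
/-- the quotient map `R ⊗ S → R/I ⊗ S/J` -/
def quotMap : R ⊗[k] S →ₐ[k] (R ⧸ I) ⊗[k] (S ⧸ J) :=
  Algebra.TensorProduct.map (Ideal.Quotient.mkₐ k I) (Ideal.Quotient.mkₐ k J)

lemma quotMap_tmul (a : R) (b : S) :
    quotMap k I J (a ⊗ₜ[k] b) = (Ideal.Quotient.mk I a) ⊗ₜ[k] (Ideal.Quotient.mk J b) := rfl

lemma quotMap_mem_segreSpan [GradedAlgebra (quotGr 𝒜 I)] [GradedAlgebra (quotGr ℬ J)]
    {z : R ⊗[k] S} (hz : z ∈ segreSpan 𝒜 ℬ) :
    quotMap k I J z ∈ segreSpan (quotGr 𝒜 I) (quotGr ℬ J) := by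
  have hle : segreSpan 𝒜 ℬ ≤
      (segreSpan (quotGr 𝒜 I) (quotGr ℬ J)).comap (quotMap k I J).toLinearMap := by
    rw [segreSpan]
    refine iSup_le fun n => Submodule.span_le.mpr ?_
    rintro _ ⟨a, ha, b, hb, rfl⟩
    show quotMap k I J (a ⊗ₜ[k] b) ∈ segreSpan (quotGr 𝒜 I) (quotGr ℬ J)
    rw [quotMap_tmul, segreSpan]
    exact Submodule.mem_iSup_of_mem n (Submodule.subset_span
      ⟨_, mk_mem_quotGr 𝒜 I ha, _, mk_mem_quotGr ℬ J hb, rfl⟩)
  exact hle hz

/-- **Dimension of the Segre product of two graded quotients**, presented as a quotient of an algebra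
mapping onto the Segre span of `R ⊗ S`. -/
theorem ringKrullDim_segre_quot (hI : I.IsHomogeneous 𝒜) (hJ : J.IsHomogeneous ℬ)
    (hposR : ∀ n : ℤ, n < 0 → 𝒜 n = ⊥)
    (h0R : 𝒜 0 = Submodule.span k {(1 : R)}) [Algebra.FiniteType k R]
    (hposS : ∀ n : ℤ, n < 0 → ℬ n = ⊥)
    (h0S : ℬ 0 = Submodule.span k {(1 : S)}) [Algebra.FiniteType k S]
    {T : Type u} [CommRing T] [Algebra k T] (ψ : T →ₐ[k] R ⊗[k] S)
    (hrange : ∀ t, ψ t ∈ segreSpan 𝒜 ℬ)
    (hgen0 : ∀ (n : ℤ) (a : R) (b : S), a ∈ 𝒜 n → b ∈ ℬ n → ∃ t, ψ t = a ⊗ₜ[k] b)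
    (r' s' : ℕ) (hr : ringKrullDim (R ⧸ I) = ((r' + 1 : ℕ) : WithBot ℕ∞))
    (hs : ringKrullDim (S ⧸ J) = ((s' + 1 : ℕ) : WithBot ℕ∞)) :
    ringKrullDim (T ⧸ RingHom.ker ((quotMap k I J).comp ψ)) =
      ((r' + s' + 1 : ℕ) : WithBot ℕ∞) := by
  letI := quotGradedAlgebra 𝒜 I hI
  letI := quotGradedAlgebra ℬ J hJ
  refine ringKrullDim_segre' (quotGr 𝒜 I) (quotGr ℬ J) (quotGr_neg 𝒜 I hposR)
    (quotGr_zero 𝒜 I h0R) (quotGr_neg ℬ J hposS) (quotGr_zero ℬ J h0S)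
    (Ideal.kerLiftAlg ((quotMap k I J).comp ψ)) (Ideal.kerLiftAlg_injective _) ?_ ?_ r' s' hr hs
  · intro t
    obtain ⟨t, rfl⟩ := Ideal.Quotient.mk_surjective t
    rw [Ideal.kerLiftAlg_mk]
    exact quotMap_mem_segreSpan 𝒜 ℬ I J (hrange t)
  · rintro n _ _ ⟨a, ha, rfl⟩ ⟨b, hb, rfl⟩
    obtain ⟨t, ht⟩ := hgen0 n a b ha hb
    refine ⟨Ideal.Quotient.mk _ t, ?_⟩
    rw [Ideal.kerLiftAlg_mk, AlgHom.comp_apply, ht]
    rfl

end SegQuot

end Groth.Agent.Lib.LeadSeg
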