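import Groth.Agent.Lib.LeadSegG
import Groth.Agent.Lib.Helper4HilbFunB
import Groth.Agent.Lib.Helper5SuppDim
import Groth.Prelude.Def_GrSeg

/-!
# Segre products (lead), part H: the dimension of a Segre product of graded modules
-/

set_option autoImplicit false
set_option maxHeartbeats 400000
set_option linter.style.haveILetI false
set_option linter.unusedSectionVars false
set_option linter.unusedVariables false

universe u

noncomputable section

open TensorProduct

namespace Groth.Agent.Lib.LeadSeg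

section GrMod

variable {k : Type u} [Field k] {R : Type u} [CommRing R] [Algebra k R]
  (𝒜 : ℤ → Submodule k R) [GradedAlgebra 𝒜]
  {M : Type u} [AddCommGroup M] [Module R M]
  (ℳ : ℤ → AddSubgroup M) [DirectSum.Decomposition ℳ] [SetLike.GradedSMul 𝒜 ℳ]

lemma smul_mem_graded {i a : ℤ} {r : R} {x : M} (hr : r ∈ 𝒜 i) (hx : x ∈ ℳ a) :
    r • x ∈ ℳ (i + a) :=
  SetLike.GradedSMul.smul_mem hr hx

lemma coe_decompose_smul_of_mem {a : ℤ} {x : M} (hx : x ∈ ℳ a) (r : R) (i : ℤ) :
    ((DirectSum.decompose ℳ (r • x)) (i + a) : M) = ((DirectSum.decompose 𝒜 r) i : R) • x := by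
  classical
  induction r using DirectSum.Decomposition.inductionOn 𝒜 with
  | zero =>
    rw [zero_smul, DirectSum.decompose_zero, DirectSum.decompose_zero, DirectSum.zero_apply,
      DirectSum.zero_apply, ZeroMemClass.coe_zero, ZeroMemClass.coe_zero, zero_smul]
  | homogeneous r =>
    rename_i j
    have hrx : (r : R) • x ∈ ℳ (j + a) := smul_mem_graded 𝒜 ℳ r.2 hx
    by_cases hji : j = i
    · subst hji
      rw [DirectSum.decompose_of_mem_same ℳ hrx, DirectSum.decompose_of_mem_same 𝒜 r.2]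
    · have hne : j + a ≠ i + a := fun h => hji (add_right_cancel h)
      rw [DirectSum.decompose_of_mem_ne ℳ hrx hne, DirectSum.decompose_of_mem_ne 𝒜 r.2 hji,
        zero_smul]
  | add r r' hr hr' =>
    rw [add_smul, DirectSum.decompose_add, DirectSum.decompose_add, DirectSum.add_apply,
      DirectSum.add_apply, AddMemClass.coe_add, AddMemClass.coe_add, hr, hr', add_smul]

lemma torsionOf_isHomogeneous {a : ℤ} {x : M} (hx : x ∈ ℳ a) :
    (Ideal.torsionOf R M x).IsHomogeneous 𝒜 := by
  intro i r hr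
  rw [Ideal.mem_torsionOf_iff] at hr ⊢
  rw [← coe_decompose_smul_of_mem 𝒜 ℳ hx r i, hr, DirectSum.decompose_zero, DirectSum.zero_apply,
    ZeroMemClass.coe_zero]

include ℳ in
lemma annihilator_isHomogeneous : (Module.annihilator R M).IsHomogeneous 𝒜 := by
  classical
  intro i r hr
  rw [Module.mem_annihilator] at hr ⊢
  intro m
  have hm := DirectSum.sum_support_decompose ℳ m
  rw [← hm, Finset.smul_sum]
  refine Finset.sum_eq_zero fun j _ => ?_
  have h1 := torsionOf_isHomogeneous 𝒜 ℳ (SetLike.coe_mem (DirectSum.decompose ℳ m j)) i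
    (show r ∈ Ideal.torsionOf R M ((DirectSum.decompose ℳ m j : M)) from hr _)
  exact h1

end GrMod

section Dim

lemma one_le_of_not_isArtinian {R M : Type*} [CommRing R] [IsNoetherianRing R] [AddCommGroup M]
    [Module R M] [Module.Finite R M] (d : ℕ) (hd : Module.supportDim R M = d)
    (hA : ¬ IsArtinian R M) : 1 ≤ d := by
  by_contra hcon
  have hd0 : d = 0 := by omega
  subst hd0
  apply hA
  have h1 : Module.supportDim R M ≤ 0 := by rw [hd]; rfl
  have h2 := Groth.Agent.Lib.Helper5.isFiniteLength_of_supportDim_le_zero h1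
  exact (isFiniteLength_iff_isNoetherian_isArtinian.mp h2).2

variable {k : Type u} [Field k] {R : Type u} [CommRing R] [Algebra k R]
  (𝒜 : ℤ → Submodule k R) [GradedAlgebra 𝒜]
  {M : Type u} [AddCommGroup M] [Module R M]
  (ℳ : ℤ → AddSubgroup M) [DirectSum.Decomposition ℳ] [SetLike.GradedSMul 𝒜 ℳ]

/-- a prime over `ann M` of full dimension, together with a homogeneous element whose annihilator
lies in it -/
lemma exists_homogeneous_torsionOf_le [Module.Finite R M] (d : ℕ)
    (hd : Module.supportDim R M = d) :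
    ∃ p : Ideal R, p.IsPrime ∧ Module.annihilator R M ≤ p ∧ ringKrullDim (R ⧸ p) = d ∧
      ∃ (a : ℤ) (x : M), x ∈ ℳ a ∧ Ideal.torsionOf R M x ≤ p := by
  classical
  rw [Module.supportDim_eq_ringKrullDim_quotient_annihilator] at hd
  obtain ⟨p, hp, hle, hdim⟩ := Groth.Agent.Lib.Helper4.HilbFun.exists_prime_dim_eq _ d hd
  refine ⟨p, hp, hle, hdim, ?_⟩
  have hmem : (⟨p, hp⟩ : PrimeSpectrum R) ∈ Module.support R M := by
    rw [Module.support_eq_zeroLocus]
    exact hle
  obtain ⟨m, hm⟩ := Module.mem_support_iff_exists_annihilator.mp hmem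
  rw [Ideal.annihilator_span_singleton_eq_torsionOf] at hm
  have hinf : ((DirectSum.decompose ℳ m).support.inf fun j =>
      Ideal.torsionOf R M ((DirectSum.decompose ℳ m j : M))) ≤ p := by
    refine le_trans ?_ hm
    intro r hr
    rw [Ideal.mem_torsionOf_iff]
    have hm' := DirectSum.sum_support_decompose ℳ m
    rw [← hm', Finset.smul_sum]
    refine Finset.sum_eq_zero fun j hj => ?_
    have h1 : r ∈ Ideal.torsionOf R M ((DirectSum.decompose ℳ m j : M)) :=
      (Finset.inf_le (f := fun j => Ideal.torsionOf R M ((DirectSum.decompose ℳ m j : M))) hj) hr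
    exact h1
  obtain ⟨j, -, hj⟩ := (Ideal.IsPrime.inf_le' hp).mp hinf
  exact ⟨j, _, SetLike.coe_mem _, hj⟩

lemma sub_decompose_zero_mem_irrelevant (hpos : ∀ n : ℤ, n < 0 → 𝒜 n = ⊥) (x : R) :
    x - (DirectSum.decompose 𝒜 x 0 : R) ∈
      Ideal.span (⋃ n ∈ Set.Ioi (0 : ℤ), (𝒜 n : Set R)) := by
  classical
  induction x using DirectSum.Decomposition.inductionOn 𝒜 with
  | zero =>
    rw [DirectSum.decompose_zero, DirectSum.zero_apply, ZeroMemClass.coe_zero, sub_zero]
    exact Ideal.zero_mem _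
  | homogeneous x =>
    rename_i i
    rcases lt_trichotomy i 0 with hi | hi | hi
    · have hx0 : (x : R) = 0 := by
        have h' : (x : R) ∈ (⊥ : Submodule k R) :=
          (congrArg (fun s : Submodule k R => (x : R) ∈ s) (hpos i hi)).mp x.2
        exact (Submodule.mem_bot k).mp h'
      rw [hx0, DirectSum.decompose_zero, DirectSum.zero_apply, ZeroMemClass.coe_zero, sub_zero]
      exact Ideal.zero_mem _
    · subst hi
      rw [DirectSum.decompose_of_mem_same 𝒜 x.2, sub_self]
      exact Ideal.zero_mem _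
    · rw [DirectSum.decompose_of_mem_ne 𝒜 x.2 (ne_of_gt hi), sub_zero]
      refine Ideal.subset_span ?_
      simp only [Set.mem_iUnion, Set.mem_Ioi, SetLike.mem_coe, exists_prop]
      exact ⟨i, hi, x.2⟩
  | add x y hx hy =>
    rw [DirectSum.decompose_add, DirectSum.add_apply, AddMemClass.coe_add]
    have : x + y - ((DirectSum.decompose 𝒜 x 0 : R) + (DirectSum.decompose 𝒜 y 0 : R)) =
        (x - (DirectSum.decompose 𝒜 x 0 : R)) + (y - (DirectSum.decompose 𝒜 y 0 : R)) := by ring
    rw [this]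
    exact Ideal.add_mem _ hx hy

/-- over a standard graded ring, a prime of positive dimension misses an element of degree one -/
lemma exists_mem_one_notMem (hpos : ∀ n : ℤ, n < 0 → 𝒜 n = ⊥)
    (h0 : 𝒜 0 = Submodule.span k {(1 : R)})
    (hstd : Ideal.span (⋃ n ∈ Set.Ioi (0 : ℤ), (𝒜 n : Set R)) =
      Ideal.span ((𝒜 1 : Submodule k R) : Set R))
    (p : Ideal R) (hp : p.IsPrime) (d : ℕ) (hd1 : 1 ≤ d) (hdim : ringKrullDim (R ⧸ p) = d) :
    ∃ r ∈ 𝒜 1, r ∉ p := by
  classical
  by_contra hcon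
  push Not at hcon
  have hirr : Ideal.span (⋃ n ∈ Set.Ioi (0 : ℤ), (𝒜 n : Set R)) ≤ p := by
    rw [hstd]
    exact Ideal.span_le.mpr fun r hr => hcon r hr
  have hmax : p.IsMaximal := by
    rw [Ideal.isMaximal_iff]
    refine ⟨(Ideal.ne_top_iff_one p).mp hp.ne_top, fun J x hpJ hxp hxJ => ?_⟩
    have hx0 : (DirectSum.decompose 𝒜 x 0 : R) ∈ Submodule.span k {(1 : R)} :=
      (congrArg (fun s : Submodule k R => (DirectSum.decompose 𝒜 x 0 : R) ∈ s) h0).mp
        (DirectSum.decompose 𝒜 x 0).2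
    obtain ⟨c, hc⟩ := Submodule.mem_span_singleton.mp hx0
    have hsub : x - (DirectSum.decompose 𝒜 x 0 : R) ∈ p :=
      hirr (sub_decompose_zero_mem_irrelevant 𝒜 hpos x)
    have hc0 : c ≠ 0 := by
      rintro rfl
      rw [zero_smul] at hc
      rw [← hc, sub_zero] at hsub
      exact hxp hsub
    have h1 : (DirectSum.decompose 𝒜 x 0 : R) ∈ J := by
      have : (DirectSum.decompose 𝒜 x 0 : R) = x - (x - (DirectSum.decompose 𝒜 x 0 : R)) := by ring
      rw [this]
      exact Ideal.sub_mem _ hxJ (hpJ hsub)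
    rw [← hc] at h1
    have h2 : (c⁻¹ • (c • (1 : R))) ∈ J := by
      rw [Algebra.smul_def]
      exact Ideal.mul_mem_left _ _ h1
    rwa [smul_smul, inv_mul_cancel₀ hc0, one_smul] at h2
  have hfield : IsField (R ⧸ p) := (Ideal.Quotient.maximal_ideal_iff_isField_quotient p).mp hmax
  rw [ringKrullDim_eq_zero_of_isField hfield] at hdim
  have : (d : WithBot ℕ∞) = ((0 : ℕ) : WithBot ℕ∞) := by rw [← hdim]; rfl
  have hd0 : d = 0 := by exact_mod_cast this
  omega

/-- homogeneous elements of every large degree with annihilator of full dimension -/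
lemma exists_homogeneous_dim_eq [Module.Finite R M] (hpos : ∀ n : ℤ, n < 0 → 𝒜 n = ⊥)
    (h0 : 𝒜 0 = Submodule.span k {(1 : R)})
    (hstd : Ideal.span (⋃ n ∈ Set.Ioi (0 : ℤ), (𝒜 n : Set R)) =
      Ideal.span ((𝒜 1 : Submodule k R) : Set R))
    (d : ℕ) (hd : Module.supportDim R M = d) (hd1 : 1 ≤ d) :
    ∃ a₀ : ℤ, ∀ b : ℤ, a₀ ≤ b →
      ∃ x ∈ ℳ b, ringKrullDim (R ⧸ Ideal.torsionOf R M x) = d := by
  classical
  obtain ⟨p, hp, hle, hdim, a₀, x₀, hx₀, hx₀p⟩ := exists_homogeneous_torsionOf_le ℳ d hd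
  obtain ⟨r₁, hr₁, hr₁p⟩ := exists_mem_one_notMem 𝒜 hpos h0 hstd p hp d hd1 hdim
  refine ⟨a₀, fun b hb => ?_⟩
  obtain ⟨c, hc⟩ : ∃ c : ℕ, (c : ℤ) = b - a₀ := ⟨(b - a₀).toNat, Int.toNat_of_nonneg (by omega)⟩
  have hmem : r₁ ^ c • x₀ ∈ ℳ b := by
    have h1 := smul_mem_graded 𝒜 ℳ (SetLike.pow_mem_graded c hr₁) hx₀
    have h2 : c • (1 : ℤ) + a₀ = b := by
      rw [nsmul_eq_mul, mul_one, hc]; ring
    rwa [h2] at h1
  refine ⟨r₁ ^ c • x₀, hmem, le_antisymm ?_ ?_⟩
  · have hann : Module.annihilator R M ≤ Ideal.torsionOf R M (r₁ ^ c • x₀) := fun r hr =>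
      (Ideal.mem_torsionOf_iff _ _).mpr (Module.mem_annihilator.mp hr _)
    have h1 := ringKrullDim_le_of_surjective (Ideal.Quotient.factor hann)
      (Ideal.Quotient.factor_surjective hann)
    rw [Module.supportDim_eq_ringKrullDim_quotient_annihilator] at hd
    rwa [hd] at h1
  · have htp : Ideal.torsionOf R M (r₁ ^ c • x₀) ≤ p := by
      intro s hs
      rw [Ideal.mem_torsionOf_iff, ← mul_smul] at hs
      have h1 : s * r₁ ^ c ∈ p := hx₀p ((Ideal.mem_torsionOf_iff _ _).mpr hs)
      rcases hp.mem_or_mem h1 with h | h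
      · exact h
      · exact absurd (hp.mem_of_pow_mem c h) hr₁p
    have h1 := ringKrullDim_le_of_surjective (Ideal.Quotient.factor htp)
      (Ideal.Quotient.factor_surjective htp)
    rwa [hdim] at h1

end Dim

section Act

variable {k : Type u} [Field k] {R S : Type u} [CommRing R] [CommRing S] [Algebra k R] [Algebra k S]
  {M N : Type u} [AddCommGroup M] [Module R M] [Module k M] [IsScalarTower k R M]
  [AddCommGroup N] [Module S N] [Module k N] [IsScalarTower k S N]

variable (k) in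
/-- `r̄ ↦ r • m` on `R ⧸ I` when `I` kills `m` -/
def quotSmul (I : Ideal R) (m : M) (h : I ≤ Ideal.torsionOf R M m) : R ⧸ I →ₗ[k] M :=
  (I.liftQ (LinearMap.toSpanSingleton R M m) h).restrictScalars k

lemma quotSmul_mk (I : Ideal R) (m : M) (h : I ≤ Ideal.torsionOf R M m) (r : R) :
    quotSmul k I m h (Ideal.Quotient.mk I r) = r • m := rfl

lemma quotSmul_injective (m : M) :
    Function.Injective (quotSmul k (Ideal.torsionOf R M m) m le_rfl) := by
  intro a b hab
  obtain ⟨r, rfl⟩ := Ideal.Quotient.mk_surjective a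
  obtain ⟨s, rfl⟩ := Ideal.Quotient.mk_surjective b
  rw [quotSmul_mk, quotSmul_mk] at hab
  rw [Ideal.Quotient.eq, Ideal.mem_torsionOf_iff, sub_smul, hab, sub_self]

lemma act_tmul_eq (I : Ideal R) (J : Ideal S) (m : M) (n : N) (hI : I ≤ Ideal.torsionOf R M m)
    (hJ : J ≤ Ideal.torsionOf S N n) (z : R ⊗[k] S) :
    GrSeg.act k R S M N z (m ⊗ₜ[k] n) =
      TensorProduct.map (quotSmul k I m hI) (quotSmul k J n hJ) (quotMap k I J z) := by
  induction z using TensorProduct.induction_on with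
  | zero => simp only [map_zero, LinearMap.zero_apply]
  | tmul r s =>
    rw [GrSeg.act_tmul, quotMap_tmul, TensorProduct.map_tmul, quotSmul_mk, quotSmul_mk]
  | add z z' hz hz' => rw [map_add, map_add, map_add, LinearMap.add_apply, hz, hz']

variable {T : Type u} [CommRing T] [Algebra k T] {P : Type u} [AddCommGroup P] [Module T P]
  [Module k P] [IsScalarTower k T P] (ψ : T →ₐ[k] R ⊗[k] S) (φ : P →ₗ[k] M ⊗[k] N)
  (hφinj : Function.Injective φ)
  (hφsmul : ∀ (t : T) (p : P), φ (t • p) = GrSeg.act k R S M N (ψ t) (φ p))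

include hφinj hφsmul in
lemma smul_eq_zero_of_mem_ker (I : Ideal R) (J : Ideal S) (hI : I ≤ Module.annihilator R M)
    (hJ : J ≤ Module.annihilator S N) (t : T) (ht : t ∈ RingHom.ker ((quotMap k I J).comp ψ))
    (p : P) : t • p = 0 := by
  apply hφinj
  rw [hφsmul, map_zero]
  have hz : quotMap k I J (ψ t) = 0 := ht
  generalize φ p = w
  induction w using TensorProduct.induction_on with
  | zero => rw [map_zero]
  | tmul m n =>
    have hIm : I ≤ Ideal.torsionOf R M m := fun r hr =>
      (Ideal.mem_torsionOf_iff _ _).mpr (Module.mem_annihilator.mp (hI hr) m)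
    have hJn : J ≤ Ideal.torsionOf S N n := fun r hr =>
      (Ideal.mem_torsionOf_iff _ _).mpr (Module.mem_annihilator.mp (hJ hr) n)
    rw [act_tmul_eq I J m n hIm hJn, hz, map_zero]
  | add w w' hw hw' => rw [map_add, hw, hw', add_zero]

include hφinj hφsmul in
lemma torsionOf_eq_ker (x : M) (y : N) (p₀ : P) (hp₀ : φ p₀ = x ⊗ₜ[k] y) :
    Ideal.torsionOf T P p₀ =
      RingHom.ker ((quotMap k (Ideal.torsionOf R M x) (Ideal.torsionOf S N y)).comp ψ) := by
  have hinj : Function.Injective (TensorProduct.map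
      (quotSmul k (Ideal.torsionOf R M x) x le_rfl) (quotSmul k (Ideal.torsionOf S N y) y le_rfl)) :=
    TensorProduct.map_injective_of_flat_flat _ _ (quotSmul_injective x) (quotSmul_injective y)
  ext t
  rw [Ideal.mem_torsionOf_iff, RingHom.mem_ker, AlgHom.comp_apply]
  have key : φ (t • p₀) = TensorProduct.map
      (quotSmul k (Ideal.torsionOf R M x) x le_rfl) (quotSmul k (Ideal.torsionOf S N y) y le_rfl)
      (quotMap k (Ideal.torsionOf R M x) (Ideal.torsionOf S N y) (ψ t)) := by
    rw [hφsmul, hp₀, act_tmul_eq _ _ x y le_rfl le_rfl]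
  constructor
  · intro h
    rw [h, map_zero] at key
    exact hinj (by rw [← key, map_zero])
  · intro h
    rw [h, map_zero] at key
    exact hφinj (by rw [key, map_zero])

end Act

section SuppDim

variable {T : Type*} [CommRing T] {P : Type*} [AddCommGroup P] [Module T P]

lemma supportDim_le_of_forall_smul_eq_zero (K : Ideal T) (hK : ∀ t ∈ K, ∀ p : P, t • p = 0) :
    Module.supportDim T P ≤ ringKrullDim (T ⧸ K) := by
  rw [ringKrullDim_quotient, Module.supportDim]
  refine Order.krullDim_le_of_strictMono (fun a => ⟨a.1, ?_⟩) (fun _ _ h => h)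
  intro t ht
  exact Module.annihilator_le_of_mem_support a.2 (Module.mem_annihilator.mpr (hK t ht))

lemma le_supportDim_of_torsionOf (p₀ : P) :
    ringKrullDim (T ⧸ Ideal.torsionOf T P p₀) ≤ Module.supportDim T P := by
  rw [← Module.supportDim_quotient_eq_ringKrullDim]
  exact Module.supportDim_le_of_injective
    ((Ideal.torsionOf T P p₀).liftQ (LinearMap.toSpanSingleton T P p₀) le_rfl)
    (LinearMap.ker_eq_bot.mp (Submodule.ker_liftQ_eq_bot _ _ _ le_rfl))

end SuppDim

end Groth.Agent.Lib.LeadSeg
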