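import Groth.Agent.Lib.LeadSegH

/-!
# Segre products (lead), part I: `dim (M # N) = dim M + dim N - 1`
-/

set_option autoImplicit false
set_option maxHeartbeats 400000
set_option linter.style.haveILetI false
set_option linter.unusedSectionVars false
set_option linter.unusedVariables false

universe u

noncomputable section

open TensorProduct

namespace Groth.Agent.Lib.LeadSeg

/-- **Dimension of the Segre product of two graded modules** over standard graded rings, neither of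
them Artinian. -/
theorem supportDim_segreMod {k : Type u} [Field k] {R : Type u} [CommRing R] [Algebra k R]
    (𝒜 : ℤ → Submodule k R) [GradedAlgebra 𝒜] (hposR : ∀ n : ℤ, n < 0 → 𝒜 n = ⊥)
    (h0R : 𝒜 0 = Submodule.span k {(1 : R)}) [Algebra.FiniteType k R]
    {S : Type u} [CommRing S] [Algebra k S] (ℬ : ℤ → Submodule k S) [GradedAlgebra ℬ]
    (hposS : ∀ n : ℤ, n < 0 → ℬ n = ⊥) (h0S : ℬ 0 = Submodule.span k {(1 : S)})
    [Algebra.FiniteType k S]
    {T : Type u} [CommRing T] [Algebra k T] (𝒯 : ℤ → Submodule k T) [GradedAlgebra 𝒯]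
    (ψ : T →ₐ[k] R ⊗[k] S) (hT : GrSeg.IsSegreRing 𝒜 ℬ 𝒯 ψ)
    (hstdR : Ideal.span (⋃ n ∈ Set.Ioi (0 : ℤ), (𝒜 n : Set R)) =
      Ideal.span ((𝒜 1 : Submodule k R) : Set R))
    (hstdS : Ideal.span (⋃ n ∈ Set.Ioi (0 : ℤ), (ℬ n : Set S)) =
      Ideal.span ((ℬ 1 : Submodule k S) : Set S))
    {M : Type u} [AddCommGroup M] [Module R M] [Module k M] [IsScalarTower k R M]
    (ℳ : ℤ → AddSubgroup M) [DirectSum.Decomposition ℳ] [SetLike.GradedSMul 𝒜 ℳ]
    [Module.Finite R M]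
    {N : Type u} [AddCommGroup N] [Module S N] [Module k N] [IsScalarTower k S N]
    (𝒩 : ℤ → AddSubgroup N) [DirectSum.Decomposition 𝒩] [SetLike.GradedSMul ℬ 𝒩]
    [Module.Finite S N]
    {P : Type u} [AddCommGroup P] [Module T P] [Module k P] [IsScalarTower k T P]
    (𝒬 : ℤ → AddSubgroup P) [DirectSum.Decomposition 𝒬] (φ : P →ₗ[k] M ⊗[k] N)
    (hP : GrSeg.IsSegreMod ψ ℳ 𝒩 𝒬 φ) (dM dN : ℕ) (hdM : Module.supportDim R M = dM)
    (hdN : Module.supportDim S N = dN) (hMA : ¬ IsArtinian R M) (hNA : ¬ IsArtinian S N) :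
    Module.supportDim T P = ((dM + dN - 1 : ℕ) : WithBot ℕ∞) := by
  classical
  haveI : IsNoetherianRing R := Algebra.FiniteType.isNoetherianRing k R
  haveI : IsNoetherianRing S := Algebra.FiniteType.isNoetherianRing k S
  have hM1 : 1 ≤ dM := one_le_of_not_isArtinian dM hdM hMA
  have hN1 : 1 ≤ dN := one_le_of_not_isArtinian dN hdN hNA
  obtain ⟨r', hr'⟩ : ∃ r', dM = r' + 1 := ⟨dM - 1, by omega⟩
  obtain ⟨s', hs'⟩ : ∃ s', dN = s' + 1 := ⟨dN - 1, by omega⟩
  have hrange : ∀ t, ψ t ∈ segreSpan 𝒜 ℬ := map_mem_segreSpan 𝒜 ℬ 𝒯 ψ (fun n => hT.2 n)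
  have hgen0 : ∀ (n : ℤ) (a : R) (b : S), a ∈ 𝒜 n → b ∈ ℬ n → ∃ t, ψ t = a ⊗ₜ[k] b := by
    intro n a b ha hb
    have h1 : a ⊗ₜ[k] b ∈ (𝒯 n).map ψ.toLinearMap := by
      rw [hT.2 n]
      exact Submodule.subset_span ⟨a, ha, b, hb, rfl⟩
    obtain ⟨t, -, ht⟩ := Submodule.mem_map.mp h1
    exact ⟨t, ht⟩
  have htarget : dM + dN - 1 = r' + s' + 1 := by omega
  rw [htarget]
  apply le_antisymm
  · -- upper bound: everything is killed by the kernel of `T → R/ann M ⊗ S/ann N`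
    have hI : (Module.annihilator R M).IsHomogeneous 𝒜 := annihilator_isHomogeneous 𝒜 ℳ
    have hJ : (Module.annihilator S N).IsHomogeneous ℬ := annihilator_isHomogeneous ℬ 𝒩
    have hr : ringKrullDim (R ⧸ Module.annihilator R M) = ((r' + 1 : ℕ) : WithBot ℕ∞) := by
      rw [← Module.supportDim_eq_ringKrullDim_quotient_annihilator, hdM, hr']
    have hs : ringKrullDim (S ⧸ Module.annihilator S N) = ((s' + 1 : ℕ) : WithBot ℕ∞) := by
      rw [← Module.supportDim_eq_ringKrullDim_quotient_annihilator, hdN, hs']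
    have hdim := ringKrullDim_segre_quot 𝒜 ℬ _ _ hI hJ hposR h0R hposS h0S ψ hrange hgen0 r' s'
      hr hs
    rw [← hdim]
    exact supportDim_le_of_forall_smul_eq_zero _ (fun t ht p =>
      smul_eq_zero_of_mem_ker ψ φ hP.injective hP.map_smul _ _ le_rfl le_rfl t ht p)
  · -- lower bound: a homogeneous pure tensor with full-dimensional annihilators
    obtain ⟨a₀, ha₀⟩ := exists_homogeneous_dim_eq 𝒜 ℳ hposR h0R hstdR dM hdM hM1
    obtain ⟨b₀, hb₀⟩ := exists_homogeneous_dim_eq ℬ 𝒩 hposS h0S hstdS dN hdN hN1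
    obtain ⟨x, hx, hxd⟩ := ha₀ (max a₀ b₀) (le_max_left _ _)
    obtain ⟨y, hy, hyd⟩ := hb₀ (max a₀ b₀) (le_max_right _ _)
    have hmem : x ⊗ₜ[k] y ∈ (GrSeg.segrePiece k ℳ 𝒩 (max a₀ b₀) : Set (M ⊗[k] N)) :=
      Submodule.subset_span ⟨x, hx, y, hy, rfl⟩
    rw [← hP.image_piece] at hmem
    obtain ⟨p₀, -, hp₀⟩ := hmem
    have htor := torsionOf_eq_ker ψ φ hP.injective hP.map_smul x y p₀ hp₀
    have hI : (Ideal.torsionOf R M x).IsHomogeneous 𝒜 := torsionOf_isHomogeneous 𝒜 ℳ hx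
    have hJ : (Ideal.torsionOf S N y).IsHomogeneous ℬ := torsionOf_isHomogeneous ℬ 𝒩 hy
    have hdim := ringKrullDim_segre_quot 𝒜 ℬ _ _ hI hJ hposR h0R hposS h0S ψ hrange hgen0 r' s'
      (by rw [hxd, hr']) (by rw [hyd, hs'])
    rw [← hdim, ← htor]
    exact le_supportDim_of_torsionOf p₀

end Groth.Agent.Lib.LeadSeg
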