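import Groth.Agent.Lib.LeadSegJ

/-!
# Segre products (lead), part K: the dimension of a Segre product of graded Cohen–Macaulay modules
-/

set_option autoImplicit false
set_option maxHeartbeats 400000
set_option linter.style.haveILetI false
set_option linter.unusedSectionVars false
set_option linter.unusedVariables false

universe u

noncomputable section

open TensorProduct

namespace Groth.Agent.Lib.LeadSeg

section Bounds

variable {k : Type u} [Field k] {R : Type u} [CommRing R] [Algebra k R]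
  (𝒜 : ℤ → Submodule k R) [GradedAlgebra 𝒜]
  {S : Type u} [CommRing S] [Algebra k S] (ℬ : ℤ → Submodule k S) [GradedAlgebra ℬ]
  {T : Type u} [CommRing T] [Algebra k T] (𝒯 : ℤ → Submodule k T) [GradedAlgebra 𝒯]
  (ψ : T →ₐ[k] R ⊗[k] S)
  {M : Type u} [AddCommGroup M] [Module R M] [Module k M] [IsScalarTower k R M]
  (ℳ : ℤ → AddSubgroup M) [DirectSum.Decomposition ℳ] [SetLike.GradedSMul 𝒜 ℳ]
  {N : Type u} [AddCommGroup N] [Module S N] [Module k N] [IsScalarTower k S N]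
  (𝒩 : ℤ → AddSubgroup N) [DirectSum.Decomposition 𝒩] [SetLike.GradedSMul ℬ 𝒩]
  {P : Type u} [AddCommGroup P] [Module T P] [Module k P] [IsScalarTower k T P]
  (𝒬 : ℤ → AddSubgroup P) [DirectSum.Decomposition 𝒬] (φ : P →ₗ[k] M ⊗[k] N)

/-- the upper bound `dim (M # N) ≤ dim M + dim N - 1` -/
theorem supportDim_segreMod_le (hposR : ∀ n : ℤ, n < 0 → 𝒜 n = ⊥)
    (h0R : 𝒜 0 = Submodule.span k {(1 : R)}) [Algebra.FiniteType k R]
    (hposS : ∀ n : ℤ, n < 0 → ℬ n = ⊥) (h0S : ℬ 0 = Submodule.span k {(1 : S)})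
    [Algebra.FiniteType k S] (hT : GrSeg.IsSegreRing 𝒜 ℬ 𝒯 ψ)
    [Module.Finite R M] [Module.Finite S N]
    (hP : GrSeg.IsSegreMod ψ ℳ 𝒩 𝒬 φ) (r' s' : ℕ)
    (hdM : Module.supportDim R M = ((r' + 1 : ℕ) : WithBot ℕ∞))
    (hdN : Module.supportDim S N = ((s' + 1 : ℕ) : WithBot ℕ∞)) :
    Module.supportDim T P ≤ ((r' + s' + 1 : ℕ) : WithBot ℕ∞) := by
  classical
  have hrange : ∀ t, ψ t ∈ segreSpan 𝒜 ℬ := map_mem_segreSpan 𝒜 ℬ 𝒯 ψ (fun n => hT.2 n)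
  have hgen0 : ∀ (n : ℤ) (a : R) (b : S), a ∈ 𝒜 n → b ∈ ℬ n → ∃ t, ψ t = a ⊗ₜ[k] b := by
    intro n a b ha hb
    have h1 : a ⊗ₜ[k] b ∈ (𝒯 n).map ψ.toLinearMap := by
      rw [hT.2 n]
      exact Submodule.subset_span ⟨a, ha, b, hb, rfl⟩
    obtain ⟨t, -, ht⟩ := Submodule.mem_map.mp h1
    exact ⟨t, ht⟩
  have hI : (Module.annihilator R M).IsHomogeneous 𝒜 := annihilator_isHomogeneous 𝒜 ℳ
  have hJ : (Module.annihilator S N).IsHomogeneous ℬ := annihilator_isHomogeneous ℬ 𝒩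
  have hr : ringKrullDim (R ⧸ Module.annihilator R M) = ((r' + 1 : ℕ) : WithBot ℕ∞) := by
    rw [← Module.supportDim_eq_ringKrullDim_quotient_annihilator, hdM]
  have hs : ringKrullDim (S ⧸ Module.annihilator S N) = ((s' + 1 : ℕ) : WithBot ℕ∞) := by
    rw [← Module.supportDim_eq_ringKrullDim_quotient_annihilator, hdN]
  have hdim := ringKrullDim_segre_quot 𝒜 ℬ _ _ hI hJ hposR h0R hposS h0S ψ hrange hgen0 r' s'
    hr hs
  rw [← hdim]
  exact supportDim_le_of_forall_smul_eq_zero _ (fun t ht p =>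
    smul_eq_zero_of_mem_ker ψ φ hP.injective hP.map_smul _ _ le_rfl le_rfl t ht p)

/-- the lower bound from a homogeneous pure tensor with annihilators of the right dimensions -/
theorem le_supportDim_segreMod (hposR : ∀ n : ℤ, n < 0 → 𝒜 n = ⊥)
    (h0R : 𝒜 0 = Submodule.span k {(1 : R)}) [Algebra.FiniteType k R]
    (hposS : ∀ n : ℤ, n < 0 → ℬ n = ⊥) (h0S : ℬ 0 = Submodule.span k {(1 : S)})
    [Algebra.FiniteType k S] (hT : GrSeg.IsSegreRing 𝒜 ℬ 𝒯 ψ)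
    (hP : GrSeg.IsSegreMod ψ ℳ 𝒩 𝒬 φ) (r' s' : ℕ) (b : ℤ) (x : M) (y : N) (hx : x ∈ ℳ b)
    (hy : y ∈ 𝒩 b)
    (hxd : ringKrullDim (R ⧸ Ideal.torsionOf R M x) = ((r' + 1 : ℕ) : WithBot ℕ∞))
    (hyd : ringKrullDim (S ⧸ Ideal.torsionOf S N y) = ((s' + 1 : ℕ) : WithBot ℕ∞)) :
    ((r' + s' + 1 : ℕ) : WithBot ℕ∞) ≤ Module.supportDim T P := by
  classical
  have hrange : ∀ t, ψ t ∈ segreSpan 𝒜 ℬ := map_mem_segreSpan 𝒜 ℬ 𝒯 ψ (fun n => hT.2 n)
  have hgen0 : ∀ (n : ℤ) (a : R) (b : S), a ∈ 𝒜 n → b ∈ ℬ n → ∃ t, ψ t = a ⊗ₜ[k] b := by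
    intro n a b ha hb
    have h1 : a ⊗ₜ[k] b ∈ (𝒯 n).map ψ.toLinearMap := by
      rw [hT.2 n]
      exact Submodule.subset_span ⟨a, ha, b, hb, rfl⟩
    obtain ⟨t, -, ht⟩ := Submodule.mem_map.mp h1
    exact ⟨t, ht⟩
  have hmem : x ⊗ₜ[k] y ∈ (GrSeg.segrePiece k ℳ 𝒩 b : Set (M ⊗[k] N)) :=
    Submodule.subset_span ⟨x, hx, y, hy, rfl⟩
  rw [← hP.image_piece] at hmem
  obtain ⟨p₀, -, hp₀⟩ := hmem
  have htor := torsionOf_eq_ker ψ φ hP.injective hP.map_smul x y p₀ hp₀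
  have hI : (Ideal.torsionOf R M x).IsHomogeneous 𝒜 := torsionOf_isHomogeneous 𝒜 ℳ hx
  have hJ : (Ideal.torsionOf S N y).IsHomogeneous ℬ := torsionOf_isHomogeneous ℬ 𝒩 hy
  have hdim := ringKrullDim_segre_quot 𝒜 ℬ _ _ hI hJ hposR h0R hposS h0S ψ hrange hgen0 r' s'
    hxd hyd
  rw [← hdim, ← htor]
  exact le_supportDim_of_torsionOf p₀

/-- a nonzero Segre product contains a nonzero homogeneous pure tensor -/
theorem exists_tmul_ne_zero (hP : GrSeg.IsSegreMod ψ ℳ 𝒩 𝒬 φ) (hne : ¬ Subsingleton P) :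
    ∃ (b : ℤ) (x : M) (y : N), x ∈ ℳ b ∧ y ∈ 𝒩 b ∧ x ≠ 0 ∧ y ≠ 0 := by
  classical
  rw [not_subsingleton_iff_nontrivial] at hne
  obtain ⟨p, hp⟩ := exists_ne (0 : P)
  obtain ⟨b, hb⟩ : ∃ b, (DirectSum.decompose 𝒬 p b : P) ≠ 0 := by
    by_contra h
    push Not at h
    apply hp
    rw [← DirectSum.sum_support_decompose 𝒬 p]
    exact Finset.sum_eq_zero (fun i _ => h i)
  have hq : φ (DirectSum.decompose 𝒬 p b : P) ∈ (GrSeg.segrePiece k ℳ 𝒩 b : Set (M ⊗[k] N)) := by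
    rw [← hP.image_piece]
    exact ⟨_, SetLike.coe_mem _, rfl⟩
  have hφq : φ (DirectSum.decompose 𝒬 p b : P) ≠ 0 := fun h => hb (hP.injective (by rw [h, map_zero]))
  refine ⟨b, ?_⟩
  by_contra hcon
  push Not at hcon
  apply hφq
  have hle : GrSeg.segrePiece k ℳ 𝒩 b ≤ (⊥ : Submodule k (M ⊗[k] N)) := by
    rw [GrSeg.segrePiece]
    refine Submodule.span_le.mpr ?_
    rintro _ ⟨x, hx, y, hy, rfl⟩
    show x ⊗ₜ[k] y ∈ (⊥ : Submodule k (M ⊗[k] N))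
    rw [Submodule.mem_bot]
    by_cases hx0 : x = 0
    · rw [hx0, TensorProduct.zero_tmul]
    · have hy0 : y = 0 := by
        by_contra hy0
        exact hy0 (hcon x y hx hy hx0)
      rw [hy0, TensorProduct.tmul_zero]
  exact (Submodule.mem_bot k).mp (hle hq)

end Bounds

/-- **Dimension of the Segre product of two graded Cohen–Macaulay modules.** -/
theorem supportDim_segreMod_CM {k : Type u} [Field k] {R : Type u} [CommRing R] [Algebra k R]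
    (𝒜 : ℤ → Submodule k R) [GradedAlgebra 𝒜] (hposR : ∀ n : ℤ, n < 0 → 𝒜 n = ⊥)
    (h0R : 𝒜 0 = Submodule.span k {(1 : R)}) [Algebra.FiniteType k R]
    {S : Type u} [CommRing S] [Algebra k S] (ℬ : ℤ → Submodule k S) [GradedAlgebra ℬ]
    (hposS : ∀ n : ℤ, n < 0 → ℬ n = ⊥) (h0S : ℬ 0 = Submodule.span k {(1 : S)})
    [Algebra.FiniteType k S]
    {T : Type u} [CommRing T] [Algebra k T] (𝒯 : ℤ → Submodule k T) [GradedAlgebra 𝒯]
    (ψ : T →ₐ[k] R ⊗[k] S) (hT : GrSeg.IsSegreRing 𝒜 ℬ 𝒯 ψ)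
    {M : Type u} [AddCommGroup M] [Module R M] [Module k M] [IsScalarTower k R M]
    (ℳ : ℤ → AddSubgroup M) [DirectSum.Decomposition ℳ] [SetLike.GradedSMul 𝒜 ℳ]
    [Module.Finite R M]
    {N : Type u} [AddCommGroup N] [Module S N] [Module k N] [IsScalarTower k S N]
    (𝒩 : ℤ → AddSubgroup N) [DirectSum.Decomposition 𝒩] [SetLike.GradedSMul ℬ 𝒩]
    [Module.Finite S N]
    {P : Type u} [AddCommGroup P] [Module T P] [Module k P] [IsScalarTower k T P]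
    (𝒬 : ℤ → AddSubgroup P) [DirectSum.Decomposition 𝒬] (φ : P →ₗ[k] M ⊗[k] N)
    (hP : GrSeg.IsSegreMod ψ ℳ 𝒩 𝒬 φ) (r s : ℕ) (h1r : 1 ≤ r) (h1s : 1 ≤ s)
    (hdM : Module.supportDim R M = r) (hdN : Module.supportDim S N = s)
    (hMcm : ∀ (q : Ideal R) [q.IsPrime], Subsingleton (LocalizedModule q.primeCompl M) ∨
      LocCoh.IsCohenMacaulayModule (Localization.AtPrime q) (LocalizedModule q.primeCompl M))
    (hNcm : ∀ (q : Ideal S) [q.IsPrime], Subsingleton (LocalizedModule q.primeCompl N) ∨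
      LocCoh.IsCohenMacaulayModule (Localization.AtPrime q) (LocalizedModule q.primeCompl N)) :
    Module.supportDim T P = ((r + s - 1 : ℕ) : WithBot ℕ∞) ∨ Subsingleton P := by
  classical
  by_cases hPs : Subsingleton P
  · exact Or.inr hPs
  left
  obtain ⟨r', hr'⟩ : ∃ r', r = r' + 1 := ⟨r - 1, by omega⟩
  obtain ⟨s', hs'⟩ : ∃ s', s = s' + 1 := ⟨s - 1, by omega⟩
  have htarget : r + s - 1 = r' + s' + 1 := by omega
  rw [htarget]
  obtain ⟨b, x, y, hx, hy, hx0, hy0⟩ := exists_tmul_ne_zero ψ ℳ 𝒩 𝒬 φ hP hPs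
  have hxd := ringKrullDim_torsionOf_of_CM 𝒜 ℳ hposR h0R r hdM hMcm hx hx0
  have hyd := ringKrullDim_torsionOf_of_CM ℬ 𝒩 hposS h0S s hdN hNcm hy hy0
  apply le_antisymm
  · exact supportDim_segreMod_le 𝒜 ℬ 𝒯 ψ ℳ 𝒩 𝒬 φ hposR h0R hposS h0S hT hP r' s'
      (by rw [hdM, hr']) (by rw [hdN, hs'])
  · exact le_supportDim_segreMod 𝒜 ℬ 𝒯 ψ ℳ 𝒩 𝒬 φ hposR h0R hposS h0S hT hP r' s' b x y hx hy
      (by rw [hxd, hr']) (by rw [hyd, hs'])

end Groth.Agent.Lib.LeadSeg
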