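import Mathlib
import Groth.Prelude.Def_Omega4
import Groth.Agent.Lib.LeadOmSm
import Groth.Agent.Lib.Helper4DimFormulaU

/-!
# The differential of a dominant separable morphism of smooth integral schemes is injective (lead)

* `injective_mapBaseChange_of_formallyEtale`: `C → A → B → L` with `Ω_{A/C}` flat, `B → L` injective
  and `A → L` formally étale: `B ⊗_A Ω_{A/C} → Ω_{B/C}` is injective.
* `formallyEtale_residueField_genericPoint`: sections over a nonempty affine open of an integral
  scheme map formally étale-ly to the residue field of the generic point.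
* `main_S13458`.
-/

set_option autoImplicit false
set_option maxHeartbeats 400000
set_option linter.style.haveILetI false
set_option linter.unusedSectionVars false
set_option linter.unusedVariables false
universe u
open CategoryTheory CategoryTheory.Limits AlgebraicGeometry TopologicalSpace Opposite
open KaehlerDifferential TensorProduct

namespace Groth.Agent.Lib.LeadSepDiff

open Groth.Agent.Helper18OmLS Groth.Agent.Lib.Helper2.FormalEt Groth.Agent.Lib.LeadOmSm

section ring

variable {C A B L : Type u} [CommRing C] [CommRing A] [CommRing B] [CommRing L]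
  [Algebra C A] [Algebra C B] [Algebra A B] [IsScalarTower C A B]
  [Algebra C L] [Algebra A L] [Algebra B L] [IsScalarTower C A L] [IsScalarTower C B L]
  [IsScalarTower A B L]

theorem mapBaseChange_square (w : Ω[A⁄C]) (b : B) :
    KaehlerDifferential.mapBaseChange C A L (algebraMap B L b ⊗ₜ[A] w) =
      KaehlerDifferential.map C C B L (KaehlerDifferential.mapBaseChange C A B (b ⊗ₜ[A] w)) := by
  have hw : w ∈ Submodule.span A (Set.range (D C A)) := by
    rw [KaehlerDifferential.span_range_derivation]; trivial
  induction hw using Submodule.span_induction generalizing b with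
  | mem x hx =>
    obtain ⟨a, rfl⟩ := hx
    rw [KaehlerDifferential.mapBaseChange_tmul, KaehlerDifferential.mapBaseChange_tmul,
      KaehlerDifferential.map_D, KaehlerDifferential.map_D, map_smul, KaehlerDifferential.map_D,
      algebraMap_smul, ← IsScalarTower.algebraMap_apply A B L]
  | zero => simp
  | add x y _ _ hx hy =>
    rw [TensorProduct.tmul_add, TensorProduct.tmul_add, map_add, map_add, map_add, hx, hy]
  | smul a x _ hx =>
    have h1 : algebraMap B L b ⊗ₜ[A] (a • x) = algebraMap B L (a • b) ⊗ₜ[A] x := by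
      rw [TensorProduct.tmul_smul, TensorProduct.smul_tmul', Algebra.smul_def a b, map_mul,
        ← IsScalarTower.algebraMap_apply A B L, Algebra.smul_def]
    have h2 : b ⊗ₜ[A] (a • x) = (a • b) ⊗ₜ[A] x := by
      rw [TensorProduct.tmul_smul, TensorProduct.smul_tmul']
    rw [h1, h2, hx]

theorem injective_mapBaseChange_of_formallyEtale [Module.Flat A Ω[A⁄C]]
    (hinj : Function.Injective (algebraMap B L)) [Algebra.FormallyEtale A L] :
    Function.Injective (KaehlerDifferential.mapBaseChange C A B) := by
  let ι : B ⊗[A] Ω[A⁄C] →ₗ[A] L ⊗[A] Ω[A⁄C] :=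
    LinearMap.rTensor Ω[A⁄C] (IsScalarTower.toAlgHom A B L).toLinearMap
  have hι : Function.Injective ι :=
    Module.Flat.rTensor_preserves_injective_linearMap _ hinj
  have hbij : Function.Injective (KaehlerDifferential.mapBaseChange C A L) :=
    (KaehlerDifferential.tensorKaehlerEquivOfFormallyEtale C A L).injective
  have hsq : ∀ t, KaehlerDifferential.mapBaseChange C A L (ι t) =
      KaehlerDifferential.map C C B L (KaehlerDifferential.mapBaseChange C A B t) := by
    intro t
    induction t using TensorProduct.induction_on with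
    | zero => simp
    | tmul b w => exact mapBaseChange_square w b
    | add x y hx hy => rw [map_add, map_add, map_add, map_add, hx, hy]
  rw [injective_iff_map_eq_zero]
  intro t ht
  have h1 : KaehlerDifferential.mapBaseChange C A L (ι t) = 0 := by
    rw [hsq, ht, map_zero]
  exact (injective_iff_map_eq_zero ι).mp hι t
    ((injective_iff_map_eq_zero (KaehlerDifferential.mapBaseChange C A L)).mp hbij _ h1)

end ring

section scheme

/-- a dominant morphism of irreducible schemes maps the generic point to the generic point. -/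
theorem map_genericPoint_of_denseRange {X Y : Scheme.{u}} [IrreducibleSpace X] [IrreducibleSpace Y]
    (f : X ⟶ Y) (hf : DenseRange f.base) : f (genericPoint X) = genericPoint Y := by
  apply ((genericPoint_spec Y).eq _).symm
  have := (genericPoint_spec X).image f.continuous
  rw [Set.image_univ, hf.closure_range] at this
  exact this

theorem residue_injective_genericPoint (X : Scheme.{u}) [IsIntegral X] :
    Function.Injective (X.residue (genericPoint X)).hom :=
  RingHom.injective (R := X.functionField) (X.residue (genericPoint X)).hom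

/-- sections over a nonempty affine open of an integral scheme map formally étale-ly to the
residue field of the generic point. -/
theorem formallyEtale_residueField_genericPoint (Y : Scheme.{u}) [IsIntegral Y] {V : Y.Opens}
    (hV : IsAffineOpen V) (y : Y) (hy : y = genericPoint Y) (hyV : y ∈ V) :
    letI := (Y.presheaf.germ V y hyV ≫ Y.residue y).hom.toAlgebra
    Algebra.FormallyEtale Γ(Y, V) (Y.residueField y) := by
  subst hy
  haveI : Nonempty V := ⟨⟨_, hyV⟩⟩
  haveI := functionField_isFractionRing_of_isAffineOpen Y V hV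
  haveI : Algebra.FormallyEtale Γ(Y, V) Y.functionField :=
    Algebra.FormallyEtale.of_isLocalization (nonZeroDivisors Γ(Y, V))
  letI := (Y.presheaf.germ V (genericPoint Y) hyV ≫ Y.residue (genericPoint Y)).hom.toAlgebra
  let e₀ : Y.functionField →ₐ[Γ(Y, V)] Y.residueField (genericPoint Y) :=
    { (Y.residue (genericPoint Y)).hom with commutes' := fun a => rfl }
  have hbij : Function.Bijective e₀ :=
    ⟨residue_injective_genericPoint Y, Y.residue_surjective (genericPoint Y)⟩
  exact Algebra.FormallyEtale.of_equiv (AlgEquiv.ofBijective e₀ hbij)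

variable (k : Type u) [Field k] {X Y : Scheme.{u}}
  (pX : X ⟶ Spec (CommRingCat.of k)) (pY : Y ⟶ Spec (CommRingCat.of k)) (φ : X ⟶ Y)
  (w : φ ≫ pY = pX) [IsIntegral X] [IsIntegral Y] [Smooth pY]
  (hdom : DenseRange φ.base)
  (hsep : letI := (φ.residueFieldMap (genericPoint X)).hom.toAlgebra
    Algebra.IsSeparable (Y.residueField (φ.base (genericPoint X)))
      (X.residueField (genericPoint X)))
  (ΩY : Y.Modules) (dY : OmegaSh.Der pY ΩY) (hY : OmegaSh.IsUniversal dY)
  (ΩX : X.Modules) (dX : OmegaSh.Der pX ΩX) (hX : OmegaSh.IsUniversal dX)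
  (c : (Scheme.Modules.pullback φ).obj ΩY ⟶ ΩX) (hc : OmegaSh.IsDiffCompat φ dY dX c)

include w hdom hsep hY hX hc in
theorem chart_S13458 {W : (Spec (CommRingCat.of k)).Opens} (hW : IsAffineOpen W) {V : Y.Opens}
    (hV : IsAffineOpen V) {U : X.Opens} (hU : IsAffineOpen U) (hne : (U : Set X).Nonempty)
    (hVW : V ≤ pY ⁻¹ᵁ W) (hUV : U ≤ φ ⁻¹ᵁ V) :
    Function.Injective (c.app U) := by
  have hUW : U ≤ pX ⁻¹ᵁ W := by
    intro y hy
    have h1 : pY (φ y) ∈ W := hVW (hUV hy)
    have h2 : pX y = pY (φ y) := by rw [← w]; rfl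
    change pX y ∈ W
    rw [h2]; exact h1
  letI algCA : Algebra Γ(Spec (CommRingCat.of k), W) Γ(Y, V) := (pY.appLE W V hVW).hom.toAlgebra
  letI algCB : Algebra Γ(Spec (CommRingCat.of k), W) Γ(X, U) := (pX.appLE W U hUW).hom.toAlgebra
  letI algAB : Algebra Γ(Y, V) Γ(X, U) := (φ.appLE V U hUV).hom.toAlgebra
  haveI : IsScalarTower Γ(Spec (CommRingCat.of k), W) Γ(Y, V) Γ(X, U) := by
    refine IsScalarTower.of_algebraMap_eq fun r => ?_
    have h1 : pY.appLE W V hVW ≫ φ.appLE V U hUV = (φ ≫ pY).appLE W U
        (fun y hy => hVW (hUV hy)) := Scheme.Hom.appLE_comp_appLE _ _ _ _ _ _ _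
    have h3 := OmegaSh.appLE_congr_hom w (U := W) (V := U) (fun y hy => hVW (hUV hy)) hUW
    have h4 : pX.appLE W U hUW = pY.appLE W V hVW ≫ φ.appLE V U hUV := by rw [h1, h3]
    exact congr($h4 r)
  -- smoothness of the base chart
  haveI hsm : Algebra.Smooth Γ(Spec (CommRingCat.of k), W) Γ(Y, V) :=
    pY.smooth_appLE hW hV hVW
  haveI : Module.Flat Γ(Y, V) Ω[Γ(Y, V)⁄Γ(Spec (CommRingCat.of k), W)] := inferInstance
  -- the generic point
  have hηU : genericPoint X ∈ U :=
    ((genericPoint_spec X).mem_open_set_iff U.isOpen).mpr (by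
      obtain ⟨z, hz⟩ := hne
      exact ⟨z, trivial, hz⟩)
  have hφη : φ (genericPoint X) = genericPoint Y := map_genericPoint_of_denseRange φ hdom
  have hφηV : φ (genericPoint X) ∈ V := hUV hηU
  letI algBL : Algebra Γ(X, U) (X.residueField (genericPoint X)) :=
    (X.presheaf.germ U (genericPoint X) hηU ≫ X.residue (genericPoint X)).hom.toAlgebra
  letI algAL : Algebra Γ(Y, V) (X.residueField (genericPoint X)) :=
    ((algebraMap Γ(X, U) (X.residueField (genericPoint X))).comp
      (algebraMap Γ(Y, V) Γ(X, U))).toAlgebra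
  letI algCL : Algebra Γ(Spec (CommRingCat.of k), W) (X.residueField (genericPoint X)) :=
    ((algebraMap Γ(Y, V) (X.residueField (genericPoint X))).comp
      (algebraMap Γ(Spec (CommRingCat.of k), W) Γ(Y, V))).toAlgebra
  haveI : IsScalarTower Γ(Y, V) Γ(X, U) (X.residueField (genericPoint X)) :=
    IsScalarTower.of_algebraMap_eq' rfl
  haveI : IsScalarTower Γ(Spec (CommRingCat.of k), W) Γ(Y, V) (X.residueField (genericPoint X)) :=
    IsScalarTower.of_algebraMap_eq' rfl
  haveI : IsScalarTower Γ(Spec (CommRingCat.of k), W) Γ(X, U)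
      (X.residueField (genericPoint X)) := by
    refine IsScalarTower.of_algebraMap_eq fun r => ?_
    show algebraMap Γ(X, U) (X.residueField (genericPoint X))
      (algebraMap Γ(Y, V) Γ(X, U) (algebraMap Γ(Spec (CommRingCat.of k), W) Γ(Y, V) r)) = _
    rw [← IsScalarTower.algebraMap_apply Γ(Spec (CommRingCat.of k), W) Γ(Y, V) Γ(X, U)]
  have hinj : Function.Injective (algebraMap Γ(X, U) (X.residueField (genericPoint X))) := by
    show Function.Injective
      (X.presheaf.germ U (genericPoint X) hηU ≫ X.residue (genericPoint X)).hom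
    rw [CommRingCat.hom_comp, RingHom.coe_comp]
    exact (residue_injective_genericPoint X).comp (germ_injective_of_isIntegral X _ hηU)
  -- formally étale
  haveI hfe : Algebra.FormallyEtale Γ(Y, V) (X.residueField (genericPoint X)) := by
    letI algAK : Algebra Γ(Y, V) (Y.residueField (φ (genericPoint X))) :=
      (Y.presheaf.germ V (φ (genericPoint X)) hφηV ≫ Y.residue (φ (genericPoint X))).hom.toAlgebra
    letI algKL : Algebra (Y.residueField (φ (genericPoint X))) (X.residueField (genericPoint X)) :=
      (φ.residueFieldMap (genericPoint X)).hom.toAlgebra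
    haveI : IsScalarTower Γ(Y, V) (Y.residueField (φ (genericPoint X)))
        (X.residueField (genericPoint X)) := by
      refine IsScalarTower.of_algebraMap_eq fun a => ?_
      show (X.residue (genericPoint X)).hom ((X.presheaf.germ U (genericPoint X) hηU).hom
        ((φ.appLE V U hUV).hom a)) = (φ.residueFieldMap (genericPoint X)).hom
          ((Y.residue (φ (genericPoint X))).hom
            ((Y.presheaf.germ V (φ (genericPoint X)) hφηV).hom a))
      rw [← Groth.Agent.Lib.Helper4.DimFormula.stalkMap_germ_eq_germ_appLE φ hUV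
        (genericPoint X) hηU a]
      exact (congr($(Scheme.residue_residueFieldMap φ (genericPoint X))
        ((Y.presheaf.germ V (φ (genericPoint X)) hφηV).hom a))).symm
    haveI h1 : Algebra.FormallyEtale Γ(Y, V) (Y.residueField (φ (genericPoint X))) :=
      formallyEtale_residueField_genericPoint Y hV (φ (genericPoint X)) hφη hφηV
    haveI h2 : Algebra.IsSeparable (Y.residueField (φ (genericPoint X)))
        (X.residueField (genericPoint X)) := hsep
    haveI h3 : Algebra.FormallyEtale (Y.residueField (φ (genericPoint X)))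
        (X.residueField (genericPoint X)) := Algebra.FormallyEtale.of_isSeparable _ _
    exact Algebra.FormallyEtale.comp Γ(Y, V) (Y.residueField (φ (genericPoint X)))
      (X.residueField (genericPoint X))
  obtain ⟨e₁, e₂, κ, hκ1, hκ2⟩ := exists_chart_model φ pY pX dY dX c hc hUV hY hX hU hV hW hVW
    hW hUW rfl rfl rfl
  have h1 : κ = KaehlerDifferential.mapBaseChange Γ(Spec (CommRingCat.of k), W) Γ(Y, V) Γ(X, U) := by
    apply tensor_kaehler_ext
    intro a
    rw [hκ2, KaehlerDifferential.mapBaseChange_tmul, KaehlerDifferential.map_D]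
  refine injective_of_model e₁ e₂ κ _ hκ1 ?_
  rw [h1]
  exact injective_mapBaseChange_of_formallyEtale (L := X.residueField (genericPoint X)) hinj

include w hdom hsep hY hX hc in
theorem main_S13458 : Mono c := by
  let Bset : Set X.Opens := {U | IsAffineOpen U ∧ (U : Set X).Nonempty ∧
    ∃ (V : Y.Opens) (W : (Spec (CommRingCat.of k)).Opens),
      IsAffineOpen V ∧ IsAffineOpen W ∧ V ≤ pY ⁻¹ᵁ W ∧ U ≤ φ ⁻¹ᵁ V}
  refine mono_of_injective_app_basis c Bset ?_ ?_
  · rw [Opens.isBasis_iff_nbhd]
    intro O x hxO
    obtain ⟨W, hW, hxW, -⟩ := exists_isAffineOpen_mem_and_subset (x := pY (φ x)) (U := ⊤) trivial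
    obtain ⟨V, hV, hxV, hVW⟩ := exists_isAffineOpen_mem_and_subset (x := φ x) (U := pY ⁻¹ᵁ W) hxW
    have hx2 : x ∈ φ ⁻¹ᵁ V ⊓ O := ⟨hxV, hxO⟩
    obtain ⟨U, hU, hxU, hUle⟩ := exists_isAffineOpen_mem_and_subset (x := x) (U := φ ⁻¹ᵁ V ⊓ O) hx2
    exact ⟨U, ⟨hU, ⟨x, hxU⟩, V, W, hV, hW, hVW, hUle.trans inf_le_left⟩, hxU,
      hUle.trans inf_le_right⟩
  · rintro U ⟨hU, hne, V, W, hV, hW, hVW, hUV⟩
    exact chart_S13458 k pX pY φ w hdom hsep ΩY dY hY ΩX dX hX c hc hW hV hU hne hVW hUV

end scheme

end Groth.Agent.Lib.LeadSepDiff
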