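import Mathlib
import Groth.Agent.Lib.LeadSepDiff
import Groth.Agent.Lib.Helper5GenSmooth
import Groth.Agent.Lib.Helper20StalkExact

/-!
# The differential of a dominant morphism with separable function field extension is injective (lead)

Namespace `Groth.Agent.Lib.LeadSepDiff2`. Generalises `LeadSepDiff` from separable algebraic to
separable (formally smooth) function field extensions.
-/

set_option autoImplicit false
set_option maxHeartbeats 400000
set_option linter.style.haveILetI false
set_option linter.unusedSectionVars false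
set_option linter.unusedVariables false
universe u
open CategoryTheory CategoryTheory.Limits AlgebraicGeometry TopologicalSpace Opposite
open KaehlerDifferential TensorProduct

namespace Groth.Agent.Lib.LeadSepDiff2

open Groth.Agent.Helper18OmLS Groth.Agent.Lib.Helper2.FormalEt Groth.Agent.Lib.LeadOmSm
open Groth.Agent.Lib.LeadSepDiff

section ring

variable {C A B L : Type u} [CommRing C] [CommRing A] [CommRing B] [CommRing L]
  [Algebra C A] [Algebra C B] [Algebra A B] [IsScalarTower C A B]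
  [Algebra C L] [Algebra A L] [Algebra B L] [IsScalarTower C A L] [IsScalarTower C B L]
  [IsScalarTower A B L]

theorem injective_mapBaseChange_of_formallySmooth [Module.Flat A Ω[A⁄C]]
    (hinj : Function.Injective (algebraMap B L)) [Algebra.FormallySmooth A L] :
    Function.Injective (KaehlerDifferential.mapBaseChange C A B) := by
  let ι : B ⊗[A] Ω[A⁄C] →ₗ[A] L ⊗[A] Ω[A⁄C] :=
    LinearMap.rTensor Ω[A⁄C] (IsScalarTower.toAlgHom A B L).toLinearMap
  have hι : Function.Injective ι :=
    Module.Flat.rTensor_preserves_injective_linearMap _ hinj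
  have hbij : Function.Injective (KaehlerDifferential.mapBaseChange C A L) := by
    haveI : Subsingleton (Algebra.H1Cotangent A L) :=
      (Algebra.formallySmooth_iff (R := A) (A := L)).mp inferInstance |>.2
    rw [injective_iff_map_eq_zero]
    intro x hx
    obtain ⟨y, rfl⟩ := (Algebra.H1Cotangent.exact_δ_mapBaseChange C A L x).mp hx
    rw [Subsingleton.elim y 0, map_zero]
  have hsq : ∀ t, KaehlerDifferential.mapBaseChange C A L (ι t) =
      KaehlerDifferential.map C C B L (KaehlerDifferential.mapBaseChange C A B t) := by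
    intro t
    induction t using TensorProduct.induction_on with
    | zero => simp
    | tmul b w => exact mapBaseChange_square w b
    | add x y hx hy => rw [map_add, map_add, map_add, map_add, hx, hy]
  rw [injective_iff_map_eq_zero]
  intro t ht
  have h1 : KaehlerDifferential.mapBaseChange C A L (ι t) = 0 := by
    rw [hsq, ht, map_zero]
  exact (injective_iff_map_eq_zero ι).mp hι t
    ((injective_iff_map_eq_zero (KaehlerDifferential.mapBaseChange C A L)).mp hbij _ h1)

end ring

section scheme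

variable (k : Type u) [Field k] {X Y : Scheme.{u}}
  (pX : X ⟶ Spec (CommRingCat.of k)) (pY : Y ⟶ Spec (CommRingCat.of k)) (φ : X ⟶ Y)
  (w : φ ≫ pY = pX) [IsIntegral X] [Smooth pY]
  (hfs : (φ.stalkMap (genericPoint X)).hom.FormallySmooth)
  (ΩY : Y.Modules) (dY : OmegaSh.Der pY ΩY) (hY : OmegaSh.IsUniversal dY)
  (ΩX : X.Modules) (dX : OmegaSh.Der pX ΩX) (hX : OmegaSh.IsUniversal dX)
  (c : (Scheme.Modules.pullback φ).obj ΩY ⟶ ΩX) (hc : OmegaSh.IsDiffCompat φ dY dX c)

include w hfs hY hX hc in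
theorem chart_inj {W : (Spec (CommRingCat.of k)).Opens} (hW : IsAffineOpen W) {V : Y.Opens}
    (hV : IsAffineOpen V) {U : X.Opens} (hU : IsAffineOpen U) (hne : (U : Set X).Nonempty)
    (hVW : V ≤ pY ⁻¹ᵁ W) (hUV : U ≤ φ ⁻¹ᵁ V) :
    Function.Injective (c.app U) := by
  have hUW : U ≤ pX ⁻¹ᵁ W := by
    intro y hy
    have h1 : pY (φ y) ∈ W := hVW (hUV hy)
    have h2 : pX y = pY (φ y) := by rw [← w]; rfl
    change pX y ∈ W
    rw [h2]; exact h1
  letI algCA : Algebra Γ(Spec (CommRingCat.of k), W) Γ(Y, V) := (pY.appLE W V hVW).hom.toAlgebra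
  letI algCB : Algebra Γ(Spec (CommRingCat.of k), W) Γ(X, U) := (pX.appLE W U hUW).hom.toAlgebra
  letI algAB : Algebra Γ(Y, V) Γ(X, U) := (φ.appLE V U hUV).hom.toAlgebra
  haveI : IsScalarTower Γ(Spec (CommRingCat.of k), W) Γ(Y, V) Γ(X, U) := by
    refine IsScalarTower.of_algebraMap_eq fun r => ?_
    have h1 : pY.appLE W V hVW ≫ φ.appLE V U hUV = (φ ≫ pY).appLE W U
        (fun y hy => hVW (hUV hy)) := Scheme.Hom.appLE_comp_appLE _ _ _ _ _ _ _
    have h3 := OmegaSh.appLE_congr_hom w (U := W) (V := U) (fun y hy => hVW (hUV hy)) hUW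
    have h4 : pX.appLE W U hUW = pY.appLE W V hVW ≫ φ.appLE V U hUV := by rw [h1, h3]
    exact congr($h4 r)
  haveI hsm : Algebra.Smooth Γ(Spec (CommRingCat.of k), W) Γ(Y, V) :=
    pY.smooth_appLE hW hV hVW
  haveI : Module.Flat Γ(Y, V) Ω[Γ(Y, V)⁄Γ(Spec (CommRingCat.of k), W)] := inferInstance
  have hηU : genericPoint X ∈ U :=
    ((genericPoint_spec X).mem_open_set_iff U.isOpen).mpr (by
      obtain ⟨z, hz⟩ := hne
      exact ⟨z, trivial, hz⟩)
  have hφηV : φ (genericPoint X) ∈ V := hUV hηU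
  letI algBL : Algebra Γ(X, U) (X.presheaf.stalk (genericPoint X)) :=
    TopCat.Presheaf.algebra_section_stalk X.presheaf ⟨genericPoint X, hηU⟩
  letI algAL : Algebra Γ(Y, V) (X.presheaf.stalk (genericPoint X)) :=
    ((algebraMap Γ(X, U) (X.presheaf.stalk (genericPoint X))).comp
      (algebraMap Γ(Y, V) Γ(X, U))).toAlgebra
  letI algCL : Algebra Γ(Spec (CommRingCat.of k), W) (X.presheaf.stalk (genericPoint X)) :=
    ((algebraMap Γ(Y, V) (X.presheaf.stalk (genericPoint X))).comp
      (algebraMap Γ(Spec (CommRingCat.of k), W) Γ(Y, V))).toAlgebra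
  haveI : IsScalarTower Γ(Y, V) Γ(X, U) (X.presheaf.stalk (genericPoint X)) :=
    IsScalarTower.of_algebraMap_eq' rfl
  haveI : IsScalarTower Γ(Spec (CommRingCat.of k), W) Γ(Y, V)
      (X.presheaf.stalk (genericPoint X)) :=
    IsScalarTower.of_algebraMap_eq' rfl
  haveI : IsScalarTower Γ(Spec (CommRingCat.of k), W) Γ(X, U)
      (X.presheaf.stalk (genericPoint X)) := by
    refine IsScalarTower.of_algebraMap_eq fun r => ?_
    show algebraMap Γ(X, U) (X.presheaf.stalk (genericPoint X))
      (algebraMap Γ(Y, V) Γ(X, U) (algebraMap Γ(Spec (CommRingCat.of k), W) Γ(Y, V) r)) = _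
    rw [← IsScalarTower.algebraMap_apply Γ(Spec (CommRingCat.of k), W) Γ(Y, V) Γ(X, U)]
  have hinj : Function.Injective (algebraMap Γ(X, U) (X.presheaf.stalk (genericPoint X))) :=
    germ_injective_of_isIntegral X _ hηU
  haveI hfe : Algebra.FormallySmooth Γ(Y, V) (X.presheaf.stalk (genericPoint X)) := by
    letI algAK : Algebra Γ(Y, V) (Y.presheaf.stalk (φ (genericPoint X))) :=
      TopCat.Presheaf.algebra_section_stalk Y.presheaf ⟨φ (genericPoint X), hφηV⟩
    letI algKL : Algebra (Y.presheaf.stalk (φ (genericPoint X)))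
        (X.presheaf.stalk (genericPoint X)) := (φ.stalkMap (genericPoint X)).hom.toAlgebra
    haveI : IsScalarTower Γ(Y, V) (Y.presheaf.stalk (φ (genericPoint X)))
        (X.presheaf.stalk (genericPoint X)) :=
      IsScalarTower.of_algebraMap_eq fun a =>
        (Groth.Agent.Lib.Helper4.DimFormula.stalkMap_germ_eq_germ_appLE φ hUV
          (genericPoint X) hηU a).symm
    haveI hloc : IsLocalization.AtPrime (Y.presheaf.stalk (φ (genericPoint X)))
        (hV.primeIdealOf ⟨φ (genericPoint X), hφηV⟩).asIdeal :=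
      hV.isLocalization_stalk ⟨φ (genericPoint X), hφηV⟩
    haveI h1 : Algebra.FormallyEtale Γ(Y, V) (Y.presheaf.stalk (φ (genericPoint X))) :=
      Algebra.FormallyEtale.of_isLocalization
        (hV.primeIdealOf ⟨φ (genericPoint X), hφηV⟩).asIdeal.primeCompl
    haveI h3 : Algebra.FormallySmooth (Y.presheaf.stalk (φ (genericPoint X)))
        (X.presheaf.stalk (genericPoint X)) := hfs
    exact Algebra.FormallySmooth.comp Γ(Y, V) (Y.presheaf.stalk (φ (genericPoint X)))
      (X.presheaf.stalk (genericPoint X))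
  obtain ⟨e₁, e₂, κ, hκ1, hκ2⟩ := exists_chart_model φ pY pX dY dX c hc hUV hY hX hU hV hW hVW
    hW hUW rfl rfl rfl
  have h1 : κ = KaehlerDifferential.mapBaseChange Γ(Spec (CommRingCat.of k), W) Γ(Y, V) Γ(X, U) := by
    apply tensor_kaehler_ext
    intro a
    rw [hκ2, KaehlerDifferential.mapBaseChange_tmul, KaehlerDifferential.map_D]
  refine injective_of_model e₁ e₂ κ _ hκ1 ?_
  rw [h1]
  exact injective_mapBaseChange_of_formallySmooth (L := X.presheaf.stalk (genericPoint X)) hinj

include w hfs hY hX hc in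
theorem mono_of_formallySmooth_stalkMap : Mono c := by
  let Bset : Set X.Opens := {U | IsAffineOpen U ∧ (U : Set X).Nonempty ∧
    ∃ (V : Y.Opens) (W : (Spec (CommRingCat.of k)).Opens),
      IsAffineOpen V ∧ IsAffineOpen W ∧ V ≤ pY ⁻¹ᵁ W ∧ U ≤ φ ⁻¹ᵁ V}
  refine mono_of_injective_app_basis c Bset ?_ ?_
  · rw [Opens.isBasis_iff_nbhd]
    intro O x hxO
    obtain ⟨W, hW, hxW, -⟩ := exists_isAffineOpen_mem_and_subset (x := pY (φ x)) (U := ⊤) trivial
    obtain ⟨V, hV, hxV, hVW⟩ := exists_isAffineOpen_mem_and_subset (x := φ x) (U := pY ⁻¹ᵁ W) hxW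
    have hx2 : x ∈ φ ⁻¹ᵁ V ⊓ O := ⟨hxV, hxO⟩
    obtain ⟨U, hU, hxU, hUle⟩ := exists_isAffineOpen_mem_and_subset (x := x) (U := φ ⁻¹ᵁ V ⊓ O) hx2
    exact ⟨U, ⟨hU, ⟨x, hxU⟩, V, W, hV, hW, hVW, hUle.trans inf_le_left⟩, hxU,
      hUle.trans inf_le_right⟩
  · rintro U ⟨hU, hne, V, W, hV, hW, hVW, hUV⟩
    exact chart_inj k pX pY φ w hfs ΩY dY hY ΩX dX hX c hc hW hV hU hne hVW hUV

include w hfs hY hX hc in
theorem mono_restrict_of_formallySmooth_stalkMap (U : X.Opens) :
    Mono ((Scheme.Modules.restrictFunctor U.ι).map c) := by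
  haveI : Mono c := mono_of_formallySmooth_stalkMap k pX pY φ w hfs ΩY dY hY ΩX dX hX c hc
  refine mono_of_injective_app_basis _ Set.univ ?_ ?_
  · rw [Opens.isBasis_iff_nbhd]
    intro O x hxO
    exact ⟨O, trivial, hxO, le_rfl⟩
  · intro O _
    exact Groth.Agent.Lib.Helper20.StalkExact.injective_app_of_mono c (U.ι ''ᵁ O)

end scheme


section main

theorem main_S14833 (k : Type u) [Field k]
    (X Z : Scheme.{u}) [X.Over (Spec (CommRingCat.of k))] [Z.Over (Spec (CommRingCat.of k))]
    [IsProper (X ↘ Spec (CommRingCat.of k))] [IsProper (Z ↘ Spec (CommRingCat.of k))]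
    [IsIntegral X] [IsIntegral Z]
    [Smooth (Z ↘ Spec (CommRingCat.of k))]
    (f : X ⟶ Z) [Surjective f]
    (hf : f ≫ (Z ↘ Spec (CommRingCat.of k)) = X ↘ Spec (CommRingCat.of k))
    (hsep : GeometricallyReduced (pullback.snd f (Z.fromSpecResidueField (genericPoint ↥Z))))
    (ΩZ : Z.Modules) (dZ : OmegaSh.Der (Z ↘ Spec (CommRingCat.of k)) ΩZ)
    (hdZ : OmegaSh.IsUniversal dZ)
    (ΩX : X.Modules) (dX : OmegaSh.Der (X ↘ Spec (CommRingCat.of k)) ΩX)
    (hdX : OmegaSh.IsUniversal dX)
    (c : (Scheme.Modules.pullback f).obj ΩZ ⟶ ΩX) (hc : OmegaSh.IsDiffCompat f dZ dX c)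
    (U : X.Opens) :
    Mono ((Scheme.Modules.restrictFunctor U.ι).map c) := by
  haveI : IsLocallyNoetherian Z :=
    LocallyOfFiniteType.isLocallyNoetherian (Z ↘ Spec (CommRingCat.of k))
  haveI : LocallyOfFiniteType (f ≫ (Z ↘ Spec (CommRingCat.of k))) := by rw [hf]; infer_instance
  haveI : LocallyOfFiniteType f := locallyOfFiniteType_of_comp f (Z ↘ Spec (CommRingCat.of k))
  haveI : LocallyOfFinitePresentation f := inferInstance
  have hξη : f (genericPoint X) = genericPoint Z :=
    map_genericPoint_of_denseRange f f.denseRange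
  have hsep' : GeometricallyReduced (f.fiberToSpecResidueField (f (genericPoint X))) := by
    have key : ∀ z : Z, z = genericPoint Z →
        GeometricallyReduced (f.fiberToSpecResidueField z) := by
      rintro _ rfl
      exact hsep
    exact key _ hξη
  have hdense := Groth.Agent.Lib.Helper5.GenSmooth.dense_smoothLocus_of_geometricallyReduced
    X Z f hsep'
  have hmem : genericPoint X ∈ f.smoothLocus :=
    ((genericPoint_spec X).mem_open_set_iff f.smoothLocus.isOpen).mpr (by
      obtain ⟨z, hz⟩ := hdense.nonempty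
      exact ⟨z, trivial, hz⟩)
  exact mono_restrict_of_formallySmooth_stalkMap k _ _ f hf hmem ΩZ dZ hdZ ΩX dX hdX c hc U

end main


end Groth.Agent.Lib.LeadSepDiff2
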