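import Mathlib
import Groth.Agent.Lib.LeadSepF6
import Groth.Agent.Lib.Helper12SchDense

/-!
# Separating families and base change, part 7 (lead)

EGA IV 11.10.5 for a single open subscheme: the preimage of a schematically dense open under a
flat morphism locally of finite presentation is schematically dense.
-/

set_option autoImplicit false
set_option maxHeartbeats 400000
set_option linter.style.haveILetI false
set_option linter.unusedSectionVars false
set_option linter.unusedVariables false

universe u
open CategoryTheory CategoryTheory.Limits AlgebraicGeometry TopologicalSpace Opposite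

namespace Groth.Agent.Lib.LeadSepF

theorem isSchematicallyDense_preimage_of_flat_lfp {X X' : Scheme.{u}} (f : X' ⟶ X) [Flat f]
    [LocallyOfFinitePresentation f] (V : X.Opens) (hV : CInt.IsSchematicallyDense V) :
    CInt.IsSchematicallyDense (f ⁻¹ᵁ V) := by
  intro W'
  rw [Groth.Agent.Lib.Helper12.SchDense.injective_restrict_iff, injective_iff_map_eq_zero]
  intro t ht
  refine schDominant_pullback_of_flat_lfp (ι := PUnit.{u + 1}) (fun _ => V.toScheme)
    (fun _ => V.ι) f ?_ W' t (fun _ => ?_)
  · intro W s hs
    have hinj := (Groth.Agent.Lib.Helper12.SchDense.injective_restrict_iff V W).mp (hV W)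
    exact hinj ((hs PUnit.unit).trans (map_zero _).symm)
  · have sq := isPullback_morphismRestrict f V
    have h1 := appLE_eq_zero_of_factor sq.isoPullback.inv (f ⁻¹ᵁ V).ι (pullback.snd V.ι f)
      sq.isoPullback_inv_snd t ht ((pullback.snd V.ι f) ⁻¹ᵁ W') le_rfl
    rwa [Scheme.Hom.appLE_eq_app] at h1

end Groth.Agent.Lib.LeadSepF
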