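import Mathlib
import Groth.Agent.Lib.LeadSepF7
import Groth.Agent.Lib.Helper12SchDenseExt
import Groth.Agent.S3837

/-!
# Separating families and base change, part 8 (lead)

EGA IV 20.3.7-type statement: if a pseudo-morphism `X ⇢ Y` (to a separated `S`-scheme `Y`, given on
a schematically dense open `U`) becomes defined at `x'` after a flat base change `f : X' ⟶ X`
locally of finite presentation, then it is defined at `f x'`.  Descent of the morphism along the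
fppf cover `V' ⟶ f(V')`, the cocycle condition being checked on the (schematically dense)
preimage of `U`.
-/

set_option autoImplicit false
set_option maxHeartbeats 400000
set_option linter.style.haveILetI false
set_option linter.unusedSectionVars false
set_option linter.unusedVariables false

universe u
open CategoryTheory CategoryTheory.Limits AlgebraicGeometry TopologicalSpace Opposite

namespace Groth.Agent.Lib.LeadSepF

theorem extends_nhd_of_flat_lfp {X X' Y S : Scheme.{u}} (pX : X ⟶ S) (pY : Y ⟶ S)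
    [IsSeparated pY] (U : X.Opens) (hU : CInt.IsSchematicallyDense U) (h : (U : Scheme.{u}) ⟶ Y)
    (hh : h ≫ pY = U.ι ≫ pX) (f : X' ⟶ X) [Flat f] [LocallyOfFinitePresentation f] (x' : ↥X')
    (V' : X'.Opens) (hx' : x' ∈ V') (v' : (V' : Scheme.{u}) ⟶ Y) (hv'S : v' ≫ pY = V'.ι ≫ f ≫ pX)
    (hv' : X'.homOfLE (inf_le_right : f ⁻¹ᵁ U ⊓ V' ≤ V') ≫ v' =
      X'.homOfLE (inf_le_left : f ⁻¹ᵁ U ⊓ V' ≤ f ⁻¹ᵁ U) ≫ (f ∣_ U) ≫ h) :
    ∃ (V : X.Opens) (v : (V : Scheme.{u}) ⟶ Y), f x' ∈ V ∧ v ≫ pY = V.ι ≫ pX ∧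
      X.homOfLE (inf_le_right : U ⊓ V ≤ V) ≫ v = X.homOfLE (inf_le_left : U ⊓ V ≤ U) ≫ h := by
  -- the open image
  let V : X.Opens := ⟨f '' (V' : Set X'), f.isOpenMap _ V'.2⟩
  have hle : V' ≤ f ⁻¹ᵁ V := fun y hy => ⟨y, hy, rfl⟩
  let f' : (V' : Scheme.{u}) ⟶ (V : Scheme.{u}) := f.resLE V V' hle
  have hf'ι : f' ≫ V.ι = V'.ι ≫ f := Scheme.Hom.resLE_comp_ι f hle
  haveI : Flat f' := by
    show Flat (f.resLE V V' hle)
    rw [Scheme.Hom.resLE]
    infer_instance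
  haveI : LocallyOfFinitePresentation f' := by
    show LocallyOfFinitePresentation (f.resLE V V' hle)
    rw [Scheme.Hom.resLE]
    infer_instance
  haveI : Surjective f' := by
    constructor
    rintro ⟨y, x, hx, rfl⟩
    refine ⟨⟨x, hx⟩, ?_⟩
    apply Subtype.ext
    exact Scheme.Hom.coe_resLE_apply f hle ⟨x, hx⟩
  -- the cocycle condition on `P = V' ×_V V'`
  let π : pullback f' f' ⟶ X := pullback.fst f' f' ≫ V'.ι ≫ f
  have hπ2 : pullback.snd f' f' ≫ V'.ι ≫ f = π := by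
    show _ = pullback.fst f' f' ≫ V'.ι ≫ f
    rw [← hf'ι, ← Category.assoc, ← pullback.condition, Category.assoc]
  haveI : Flat π := by
    show Flat (pullback.fst f' f' ≫ V'.ι ≫ f)
    infer_instance
  haveI : LocallyOfFinitePresentation π := by
    show LocallyOfFinitePresentation (pullback.fst f' f' ≫ V'.ι ≫ f)
    infer_instance
  have hW : CInt.IsSchematicallyDense (π ⁻¹ᵁ U) := isSchematicallyDense_preimage_of_flat_lfp π U hU
  have hcoc : pullback.fst f' f' ≫ v' = pullback.snd f' f' ≫ v' := by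
    refine Groth.Agent.Lib.Helper12.SchDense.ext_of_isSchematicallyDense pY ?_ (π ⁻¹ᵁ U) hW ?_
    · rw [Category.assoc, Category.assoc, hv'S]
      have h3 : pullback.snd f' f' ≫ V'.ι ≫ f ≫ pX = (pullback.snd f' f' ≫ V'.ι ≫ f) ≫ pX := by
        simp only [Category.assoc]
      rw [h3, hπ2]
      simp only [π, Category.assoc]
    · have h1 := Groth.Agent.S3837.comp_v'_eq U h f V' v' hv'
        ((π ⁻¹ᵁ U).ι ≫ pullback.fst f' f') (π ∣_ U) (by
          rw [Category.assoc, morphismRestrict_ι])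
      have h2 := Groth.Agent.S3837.comp_v'_eq U h f V' v' hv'
        ((π ⁻¹ᵁ U).ι ≫ pullback.snd f' f') (π ∣_ U) (by
          rw [Category.assoc, hπ2, morphismRestrict_ι])
      rw [Category.assoc] at h1 h2
      rw [h1, h2]
  -- descent
  let v : (V : Scheme.{u}) ⟶ Y := EffectiveEpi.desc f' v' (by
    intro Z g₁ g₂ hg
    calc g₁ ≫ v' = (pullback.lift g₁ g₂ hg ≫ pullback.fst f' f') ≫ v' := by
          rw [pullback.lift_fst]
      _ = (pullback.lift g₁ g₂ hg ≫ pullback.snd f' f') ≫ v' := by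
          rw [Category.assoc, hcoc, Category.assoc]
      _ = g₂ ≫ v' := by rw [pullback.lift_snd])
  have hfac : f' ≫ v = v' := EffectiveEpi.fac f' v' _
  refine ⟨V, v, ⟨x', hx', rfl⟩, ?_, ?_⟩
  · rw [← cancel_epi f', ← Category.assoc, hfac, hv'S, ← Category.assoc, ← hf'ι, Category.assoc]
  · -- check after the fppf cover `f⁻¹U ⊓ V' ⟶ U ⊓ V`
    have hle2 : f ⁻¹ᵁ U ⊓ V' ≤ f ⁻¹ᵁ (U ⊓ V) := fun y hy => ⟨hy.1, hle hy.2⟩
    let f'' : ((f ⁻¹ᵁ U ⊓ V' : X'.Opens) : Scheme.{u}) ⟶ ((U ⊓ V : X.Opens) : Scheme.{u}) :=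
      f.resLE (U ⊓ V) (f ⁻¹ᵁ U ⊓ V') hle2
    haveI : Flat f'' := by
      show Flat (f.resLE (U ⊓ V) (f ⁻¹ᵁ U ⊓ V') hle2)
      rw [Scheme.Hom.resLE]
      infer_instance
    haveI : LocallyOfFinitePresentation f'' := by
      show LocallyOfFinitePresentation (f.resLE (U ⊓ V) (f ⁻¹ᵁ U ⊓ V') hle2)
      rw [Scheme.Hom.resLE]
      infer_instance
    haveI : Surjective f'' := by
      constructor
      rintro ⟨y, hyU, x, hx, rfl⟩
      refine ⟨⟨x, hyU, hx⟩, ?_⟩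
      apply Subtype.ext
      exact Scheme.Hom.coe_resLE_apply f hle2 ⟨x, hyU, hx⟩
    rw [← cancel_epi f'']
    have h1 : f'' ≫ X.homOfLE (inf_le_right : U ⊓ V ≤ V) =
        X'.homOfLE (inf_le_right : f ⁻¹ᵁ U ⊓ V' ≤ V') ≫ f' := by
      show f.resLE (U ⊓ V) (f ⁻¹ᵁ U ⊓ V') hle2 ≫ _ = _ ≫ f.resLE V V' hle
      rw [Scheme.Hom.resLE_map, Scheme.Hom.map_resLE]
    have h2 : f'' ≫ X.homOfLE (inf_le_left : U ⊓ V ≤ U) =
        X'.homOfLE (inf_le_left : f ⁻¹ᵁ U ⊓ V' ≤ f ⁻¹ᵁ U) ≫ (f ∣_ U) := by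
      show f.resLE (U ⊓ V) (f ⁻¹ᵁ U ⊓ V') hle2 ≫ _ = _
      rw [Scheme.Hom.resLE_map, ← Scheme.Hom.resLE_eq_morphismRestrict, Scheme.Hom.map_resLE]
    rw [← Category.assoc, h1, Category.assoc, hfac, hv', ← Category.assoc, ← Category.assoc, ← h2]

end Groth.Agent.Lib.LeadSepF
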