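import Mathlib
import Groth.Agent.Lib.LeadInrE
import Groth.Agent.Lib.LeadExtH
import Groth.Agent.Lib.Helper28Catenary

/-!
# The separable part of a finite normal extension with group action (lead)

For `S ⊆ A` finite, `A` a normal domain, the subring `B ⊆ A` of elements separable over `Frac S`.
-/

set_option autoImplicit false
set_option maxHeartbeats 400000
set_option linter.style.haveILetI false
set_option linter.unusedSectionVars false
set_option linter.unusedVariables false
universe u v w

noncomputable section

namespace Groth.Agent.Lib.LeadSepSub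

open IsLocalRing IntermediateField

section field

/-- a separable element with a `p`-power in the base field lies in the base field. -/
theorem mem_range_of_isSeparable_of_pow_mem {K : Type*} {L : Type*} [Field K] [Field L]
    [Algebra K L] (p : ℕ) [ExpChar K p] (x : L) (hs : IsSeparable K x) (e : ℕ)
    (he : x ^ p ^ e ∈ (algebraMap K L).range) : x ∈ (algebraMap K L).range := by
  haveI : IsPurelyInseparable K K⟮x⟯ :=
    (isPurelyInseparable_adjoin_simple_iff_pow_mem K L p).mpr ⟨e, he⟩
  haveI : Algebra.IsSeparable K K⟮x⟯ :=
    (IntermediateField.isSeparable_adjoin_simple_iff_isSeparable K L).mpr hs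
  have hbot := IntermediateField.eq_bot_of_isPurelyInseparable_of_isSeparable K⟮x⟯
  have hx : x ∈ K⟮x⟯ := IntermediateField.mem_adjoin_simple_self K x
  rw [hbot, IntermediateField.mem_bot] at hx
  obtain ⟨c, hc⟩ := hx
  exact ⟨c, hc⟩

end field

section sub

variable (S : Type v) (A : Type u) [CommRing S] [CommRing A] [Algebra S A]
  (K : Type v) (L : Type u) [Field K] [Field L] [Algebra S K] [Algebra A L]
  [Algebra K L] [Algebra S L] [IsScalarTower S K L] [IsScalarTower S A L]

/-- the subalgebra of elements of `A` separable over `K`. -/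
def sepSub : Subalgebra S A :=
  ((separableClosure K L).toSubalgebra.restrictScalars S).comap (IsScalarTower.toAlgHom S A L)

variable {S A K L} in
theorem mem_sepSub {a : A} : a ∈ sepSub S A K L ↔ IsSeparable K (algebraMap A L a) := by
  rw [sepSub, Subalgebra.mem_comap, Subalgebra.mem_restrictScalars,
    IntermediateField.mem_toSubalgebra, mem_separableClosure_iff]
  rfl

end sub

section act

variable (S : Type v) (A : Type u) [CommRing S] [CommRing A] [Algebra S A]
  [IsDomain S] [IsIntegrallyClosed S] [IsDomain A]
  (K : Type v) (L : Type u) [Field K] [Field L] [Algebra S K] [IsFractionRing S K] [Algebra A L]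
  [IsFractionRing A L]
  [Algebra K L] [Algebra S L] [IsScalarTower S K L] [IsScalarTower S A L]
  [Algebra.IsIntegral S A]
  {G : Type w} [Group G] [MulSemiringAction G A] [SMulCommClass G S A]

variable {A} in
theorem smul_mem_sepSub (σ : G) {a : A} (ha : a ∈ sepSub S A K L) :
    σ • a ∈ sepSub S A K L := by
  rw [mem_sepSub] at ha ⊢
  unfold IsSeparable at ha ⊢
  have h1 := minpoly.isIntegrallyClosed_eq_field_fractions K L
    (Algebra.IsIntegral.isIntegral (R := S) a)
  have h2 := minpoly.isIntegrallyClosed_eq_field_fractions K L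
    (Algebra.IsIntegral.isIntegral (R := S) (σ • a))
  have h3 : minpoly S (σ • a) = minpoly S a :=
    minpoly.algEquiv_eq (MulSemiringAction.toAlgEquiv S A σ) a
  rw [h2, h3, ← h1]
  exact ha

/-- the action of `G` on the separable part. -/
instance actB : MulSemiringAction G (sepSub S A K L) where
  smul σ b := ⟨σ • (b : A), smul_mem_sepSub S K L σ b.2⟩
  one_smul b := Subtype.ext (one_smul G (b : A))
  mul_smul σ τ b := Subtype.ext (mul_smul σ τ (b : A))
  smul_zero σ := Subtype.ext (smul_zero σ)
  smul_add σ a b := Subtype.ext (smul_add σ (a : A) (b : A))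
  smul_one σ := Subtype.ext (smul_one σ)
  smul_mul σ a b := Subtype.ext (smul_mul' σ (a : A) (b : A))

theorem coe_smul (σ : G) (b : sepSub S A K L) : ((σ • b : sepSub S A K L) : A) = σ • (b : A) :=
  rfl

instance smulCommB : SMulCommClass G S (sepSub S A K L) where
  smul_comm σ s b := Subtype.ext (smul_comm σ s (b : A))

end act

section loc

variable (S : Type v) (A : Type u) [CommRing S] [CommRing A] [Algebra S A] [IsDomain A]
  (K : Type v) (L : Type u) [Field K] [Field L] [Algebra S K] [Algebra A L]
  [IsFractionRing A L]
  [Algebra K L] [Algebra S L] [IsScalarTower S K L] [IsScalarTower S A L]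

theorem isUnit_iff (b : sepSub S A K L) : IsUnit b ↔ IsUnit (b : A) := by
  constructor
  · intro h
    exact h.map (sepSub S A K L).val
  · intro h
    obtain ⟨c, hc⟩ := h.exists_right_inv
    have hcL : algebraMap A L c = (algebraMap A L (b : A))⁻¹ := by
      apply eq_inv_of_mul_eq_one_right
      rw [← map_mul, hc, map_one]
    have hmem : c ∈ sepSub S A K L := by
      have hb := b.2
      rw [mem_sepSub, ← mem_separableClosure_iff] at hb ⊢
      rw [hcL]
      exact inv_mem hb
    exact IsUnit.of_mul_eq_one ⟨c, hmem⟩ (Subtype.ext hc)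

instance isLocalRing_sepSub [IsLocalRing A] : IsLocalRing (sepSub S A K L) := by
  apply IsLocalRing.of_nonunits_add
  intro a b ha hb
  rw [mem_nonunits_iff, isUnit_iff] at ha hb ⊢
  exact IsLocalRing.nonunits_add ha hb

theorem mem_maximalIdeal_iff [IsLocalRing A] (b : sepSub S A K L) :
    b ∈ maximalIdeal (sepSub S A K L) ↔ (b : A) ∈ maximalIdeal A := by
  rw [IsLocalRing.mem_maximalIdeal, IsLocalRing.mem_maximalIdeal, mem_nonunits_iff,
    mem_nonunits_iff, isUnit_iff]

theorem residue_surjective [IsLocalRing A]
    (hres : Function.Surjective (IsLocalRing.residue A ∘ algebraMap S A)) :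
    Function.Surjective (IsLocalRing.residue (sepSub S A K L) ∘
      algebraMap S (sepSub S A K L)) := by
  intro x
  obtain ⟨b, rfl⟩ := IsLocalRing.residue_surjective x
  obtain ⟨s, hs⟩ := hres (IsLocalRing.residue A (b : A))
  refine ⟨s, ?_⟩
  change IsLocalRing.residue _ (algebraMap S (sepSub S A K L) s) = IsLocalRing.residue _ b
  rw [← sub_eq_zero, ← map_sub, IsLocalRing.residue_eq_zero_iff, mem_maximalIdeal_iff]
  change IsLocalRing.residue A (algebraMap S A s) = IsLocalRing.residue A (b : A) at hs
  rw [← sub_eq_zero, ← map_sub, IsLocalRing.residue_eq_zero_iff] at hs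
  exact hs

theorem comap_maximalIdeal [IsLocalRing A] :
    (maximalIdeal A).comap (algebraMap (sepSub S A K L) A) = maximalIdeal (sepSub S A K L) := by
  ext b
  rw [Ideal.mem_comap, mem_maximalIdeal_iff]
  rfl

end loc

section norm

variable (S : Type v) (A : Type u) [CommRing S] [CommRing A] [Algebra S A] [IsDomain A]
  (K : Type v) (L : Type u) [Field K] [Field L] [Algebra S K] [Algebra A L]
  [IsFractionRing A L]
  [Algebra K L] [Algebra S L] [IsScalarTower S K L] [IsScalarTower S A L]

theorem algebraMap_injective_sepSub :
    Function.Injective (algebraMap (sepSub S A K L) L) := by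
  intro x y h
  exact Subtype.ext (IsFractionRing.injective A L h)

/-- the separable part of a normal domain is normal. -/
instance isIntegrallyClosed_sepSub [IsIntegrallyClosed A] :
    IsIntegrallyClosed (sepSub S A K L) := by
  rw [isIntegrallyClosed_iff (FractionRing (sepSub S A K L))]
  intro x hx
  have hinjB := algebraMap_injective_sepSub S A K L
  let ψ : FractionRing (sepSub S A K L) →+* L :=
    IsFractionRing.lift (g := algebraMap (sepSub S A K L) L) hinjB
  have hψ : ∀ b : sepSub S A K L, ψ (algebraMap _ _ b) = algebraMap A L (b : A) := by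
    intro b
    exact IsFractionRing.lift_algebraMap hinjB b
  -- ψ x is integral over A
  have hint : IsIntegral A (ψ x) := by
    refine IsIntegral.map_of_comp_eq (algebraMap (sepSub S A K L) A) ψ ?_ hx
    ext b
    exact (hψ b).symm
  obtain ⟨a, ha⟩ := IsIntegrallyClosed.algebraMap_eq_of_integral hint
  -- ψ x lies in the separable closure
  obtain ⟨b₁, b₂, hb₂, rfl⟩ := IsFractionRing.div_surjective (A := sepSub S A K L) x
  have hmem : ψ (algebraMap _ _ b₁ / algebraMap _ _ b₂) ∈ separableClosure K L := by
    rw [map_div₀, hψ, hψ]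
    have h1 := b₁.2
    have h2 := b₂.2
    rw [mem_sepSub, ← mem_separableClosure_iff] at h1 h2
    exact div_mem h1 h2
  have haB : a ∈ sepSub S A K L := by
    rw [mem_sepSub, ← mem_separableClosure_iff, ha]
    exact hmem
  refine ⟨⟨a, haB⟩, ?_⟩
  apply ψ.injective
  rw [hψ]
  exact ha

theorem finite_sepSub [IsNoetherianRing S] [Module.Finite S A] :
    Module.Finite S (sepSub S A K L) := by
  haveI : IsNoetherian S A := isNoetherian_of_isNoetherianRing_of_finite S A
  exact Module.Finite.of_injective (Subalgebra.val (sepSub S A K L)).toLinearMap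
    Subtype.val_injective

end norm

section fix

variable (p : ℕ) [Fact p.Prime]
  (S : Type v) (A : Type u) [CommRing S] [CommRing A] [Algebra S A]
  [IsDomain S] [IsIntegrallyClosed S] [IsDomain A]
  (K : Type v) (L : Type u) [Field K] [Field L] [Algebra S K] [IsFractionRing S K] [Algebra A L]
  [IsFractionRing A L]
  [Algebra K L] [Algebra S L] [IsScalarTower S K L] [IsScalarTower S A L]
  [Algebra.IsIntegral S A] [ExpChar K p]

/-- a separable element of `A` with a `p`-power in `S` lies in `S`. -/
theorem mem_range_of_mem_sepSub_of_pow_mem (b : sepSub S A K L) (e : ℕ)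
    (he : (b : A) ^ p ^ e ∈ Set.range (algebraMap S A)) :
    b ∈ Set.range (algebraMap S (sepSub S A K L)) := by
  obtain ⟨s, hs⟩ := he
  have hsep := b.2
  rw [mem_sepSub] at hsep
  have hpow : (algebraMap A L (b : A)) ^ p ^ e ∈ (algebraMap K L).range := by
    refine ⟨algebraMap S K s, ?_⟩
    rw [← IsScalarTower.algebraMap_apply, IsScalarTower.algebraMap_apply S A L, hs, map_pow]
  obtain ⟨c, hc⟩ := mem_range_of_isSeparable_of_pow_mem p (algebraMap A L (b : A)) hsep e hpow
  have hintL : IsIntegral S (algebraMap A L (b : A)) :=
    (Algebra.IsIntegral.isIntegral (R := S) (b : A)).algebraMap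
  have hintc : IsIntegral S c := by
    rw [← hc] at hintL
    exact (isIntegral_algHom_iff (IsScalarTower.toAlgHom S K L)
      (algebraMap K L).injective).mp hintL
  obtain ⟨t, ht⟩ := IsIntegrallyClosed.algebraMap_eq_of_integral hintc
  refine ⟨t, Subtype.ext ?_⟩
  apply IsFractionRing.injective A L
  change algebraMap A L (algebraMap S A t) = algebraMap A L (b : A)
  rw [← IsScalarTower.algebraMap_apply, IsScalarTower.algebraMap_apply S K L, ht, hc]

/-- every element of `A` has a `p`-power in the separable part. -/
theorem exists_pow_mem_sepSub [FiniteDimensional K L] (a : A) :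
    ∃ j : ℕ, a ^ p ^ j ∈ sepSub S A K L := by
  haveI : Algebra.IsAlgebraic K L := Algebra.IsAlgebraic.of_finite K L
  haveI : IsPurelyInseparable (separableClosure K L) L := separableClosure.isPurelyInseparable K L
  haveI : ExpChar (separableClosure K L) p :=
    expChar_of_injective_algebraMap (algebraMap K (separableClosure K L)).injective p
  obtain ⟨j, x, hx⟩ := IsPurelyInseparable.pow_mem (separableClosure K L) p (algebraMap A L a)
  refine ⟨j, ?_⟩
  rw [mem_sepSub, ← mem_separableClosure_iff, map_pow, ← hx]
  exact x.2

end fix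

end Groth.Agent.Lib.LeadSepSub
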