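import Mathlib
import Groth.Agent.Lib.LeadSepSubA

/-!
# A group acting freely in codimension one cannot have purely inseparable invariants (lead)
-/

set_option autoImplicit false
set_option maxHeartbeats 400000
set_option linter.style.haveILetI false
set_option linter.unusedSectionVars false
set_option linter.unusedVariables false
universe u v w

noncomputable section

namespace Groth.Agent.Lib.LeadSepSub

open IsLocalRing IntermediateField

section inert

variable (p : ℕ) [Fact p.Prime]
  (S : Type v) (A : Type u) [CommRing S] [CommRing A] [Algebra S A]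
  [IsDomain S] [IsIntegrallyClosed S] [IsDomain A] [CharP A p]
  (K : Type v) (L : Type u) [Field K] [Field L] [Algebra S K] [IsFractionRing S K] [Algebra A L]
  [IsFractionRing A L]
  [Algebra K L] [Algebra S L] [IsScalarTower S K L] [IsScalarTower S A L]
  [Algebra.IsIntegral S A] [ExpChar K p] [FiniteDimensional K L]
  {G : Type w} [Group G] [MulSemiringAction G A] [SMulCommClass G S A]

theorem smul_sub_pow (σ : G) (a : A) (j : ℕ) :
    (σ • a - a) ^ p ^ j = σ • (a ^ p ^ j) - a ^ p ^ j := by
  rw [sub_pow_char_pow, smul_pow']

theorem eq_of_pow_eq (x y : A) (j : ℕ) (h : x ^ p ^ j = y ^ p ^ j) : x = y := by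
  have h1 : (x - y) ^ p ^ j = 0 := by rw [sub_pow_char_pow, h, sub_self]
  exact sub_eq_zero.mp (pow_eq_zero_iff (pow_ne_zero j (Fact.out : p.Prime).ne_zero) |>.mp h1)

include p in
theorem faithful_sepSub [FaithfulSMul G A] : FaithfulSMul G (sepSub S A K L) := by
  constructor
  intro σ τ h
  apply FaithfulSMul.eq_of_smul_eq_smul (α := A)
  intro a
  obtain ⟨j, hj⟩ := exists_pow_mem_sepSub p S A K L a
  have h1 := congrArg Subtype.val (h ⟨a ^ p ^ j, hj⟩)
  change σ • (a ^ p ^ j) = τ • (a ^ p ^ j) at h1
  rw [smul_pow', smul_pow'] at h1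
  exact eq_of_pow_eq p A _ _ j h1

include p in
theorem inertia_eq_bot [IsLocalRing A]
    (hram : ∀ P : Ideal A, P.IsPrime → P ≠ maximalIdeal A → P.inertia G = ⊥)
    (q : Ideal (sepSub S A K L)) [q.IsPrime] (hq : q ≠ maximalIdeal (sepSub S A K L)) :
    q.inertia G = ⊥ := by
  haveI : Algebra.IsIntegral (sepSub S A K L) A := Algebra.IsIntegral.tower_top (R := S)
  rw [eq_bot_iff]
  intro σ hσ
  obtain ⟨P, -, hP, hPq⟩ := Ideal.exists_ideal_over_prime_of_isIntegral q (⊥ : Ideal A)
    (by
      intro x hx
      rw [Ideal.mem_comap, Ideal.mem_bot] at hx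
      have : x = 0 := Subtype.ext hx
      rw [this]; exact zero_mem _)
  have hPne : P ≠ maximalIdeal A := by
    intro h
    apply hq
    rw [← hPq, h]
    exact comap_maximalIdeal S A K L
  rw [← hram P hP hPne]
  intro a
  obtain ⟨j, hj⟩ := exists_pow_mem_sepSub p S A K L a
  have h1 := hσ ⟨a ^ p ^ j, hj⟩
  have h2 : (σ • (⟨a ^ p ^ j, hj⟩ : sepSub S A K L) - ⟨a ^ p ^ j, hj⟩ : sepSub S A K L) ∈
      P.comap (algebraMap (sepSub S A K L) A) := by
    rw [hPq]; exact h1
  rw [Ideal.mem_comap] at h2
  have h3 : σ • (a ^ p ^ j) - a ^ p ^ j ∈ P := h2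
  rw [← smul_sub_pow] at h3
  exact hP.mem_of_pow_mem _ h3

end inert

section main

/-- **no purely inseparable invariants**: let `S ⊆ A` be a finite extension of a regular local ring by a
normal local domain of characteristic `p` with the same residue field and of dimension `≥ 2`, and `G` a finite
group of `S`-automorphisms of `A` with trivial inertia at all non-maximal primes. If every invariant has a
`p`-power in `S`, then `G` is trivial. -/
theorem subsingleton_of_pow_mem (p : ℕ) [Fact p.Prime]
    (S : Type v) [CommRing S] [IsRegularLocalRing S]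
    (A : Type u) [CommRing A] [IsDomain A] [IsIntegrallyClosed A] [IsLocalRing A] [CharP A p]
    [Algebra S A] [Module.Finite S A] (hinj : Function.Injective (algebraMap S A))
    (hres : Function.Surjective (IsLocalRing.residue A ∘ algebraMap S A))
    (G : Type w) [Group G] [Finite G] [MulSemiringAction G A] [SMulCommClass G S A]
    (hdim : 2 ≤ ringKrullDim A)
    (hram : ∀ P : Ideal A, P.IsPrime → P ≠ IsLocalRing.maximalIdeal A → P.inertia G = ⊥)
    (hpi : ∀ y : A, (∀ σ : G, σ • y = y) → ∃ e : ℕ, y ^ p ^ e ∈ Set.range (algebraMap S A)) :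
    Subsingleton G := by
  haveI : IsDomain S := Groth.Agent.Lib.Helper5.isDomain_of_isRegularLocalRing S
  haveI : IsIntegrallyClosed S :=
    Groth.Agent.Lib.Helper28.isIntegrallyClosed_of_isRegularLocalRing S
  haveI : FaithfulSMul S A := (faithfulSMul_iff_algebraMap_injective S A).mpr hinj
  letI := FractionRing.liftAlgebra S (FractionRing A)
  haveI := FractionRing.isScalarTower_liftAlgebra S (FractionRing A)
  have hfr : Module.finrank (FractionRing S) (FractionRing A) = Module.finrank S A :=
    IsFractionRing.finrank_eq S (FractionRing S) A (FractionRing A)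
  have hpos : 0 < Module.finrank S A := Module.finrank_pos
  haveI : FiniteDimensional (FractionRing S) (FractionRing A) :=
    Module.finite_of_finrank_pos (hfr ▸ hpos)
  haveI : Algebra.IsIntegral S A := Algebra.IsIntegral.of_finite S A
  haveI : CharP S p := RingHom.charP (algebraMap S A) hinj p
  haveI : CharP (FractionRing S) p :=
    charP_of_injective_algebraMap (IsFractionRing.injective S (FractionRing S)) p
  haveI : ExpChar (FractionRing S) p := ExpChar.prime Fact.out
  haveI : FaithfulSMul G A := Groth.Agent.Lib.LeadExt.faithful_of_hram A hdim G hram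
  haveI := faithful_sepSub p S A (FractionRing S) (FractionRing A) (G := G)
  haveI := finite_sepSub S A (FractionRing S) (FractionRing A)
  have hinjB : Function.Injective
      (algebraMap S (sepSub S A (FractionRing S) (FractionRing A))) :=
    fun x y h => hinj (congrArg Subtype.val h)
  have hresB := residue_surjective S A (FractionRing S) (FractionRing A) hres
  have hfixB : ∀ b : sepSub S A (FractionRing S) (FractionRing A), (∀ σ : G, σ • b = b) →
      b ∈ Set.range (algebraMap S (sepSub S A (FractionRing S) (FractionRing A))) := by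
    intro b hb
    obtain ⟨e, he⟩ := hpi (b : A) (fun σ => congrArg Subtype.val (hb σ))
    exact mem_range_of_mem_sepSub_of_pow_mem p S A (FractionRing S) (FractionRing A) b e he
  have htop := Groth.Agent.Lib.LeadInr.iSup_inertia_eq_top S
    (sepSub S A (FractionRing S) (FractionRing A)) hinjB hresB G hfixB
  have hbot : (⨆ P : {P : Ideal (sepSub S A (FractionRing S) (FractionRing A)) //
      P.IsPrime ∧ P.height = 1}, P.1.inertia G) = ⊥ := by
    rw [iSup_eq_bot]
    rintro ⟨P, hP, hht⟩
    haveI := hP
    apply inertia_eq_bot p S A (FractionRing S) (FractionRing A) hram P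
    intro h
    have h1 : ((maximalIdeal (sepSub S A (FractionRing S) (FractionRing A))).height : WithBot ℕ∞) =
        ringKrullDim (sepSub S A (FractionRing S) (FractionRing A)) :=
      IsLocalRing.maximalIdeal_height_eq_ringKrullDim
    haveI : Algebra.IsIntegral (sepSub S A (FractionRing S) (FractionRing A)) A :=
      Algebra.IsIntegral.tower_top (R := S)
    have h2 : ringKrullDim A = ringKrullDim (sepSub S A (FractionRing S) (FractionRing A)) :=
      Groth.Agent.Lib.Helper5.ringKrullDim_eq_of_isIntegral_of_injective
        (sepSub S A (FractionRing S) (FractionRing A)) A Subtype.val_injective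
    rw [← h, hht, ← h2] at h1
    rw [← h1] at hdim
    norm_num at hdim
  rw [hbot] at htop
  refine ⟨fun a b => ?_⟩
  have ha : a ∈ (⊤ : Subgroup G) := Subgroup.mem_top a
  have hb : b ∈ (⊤ : Subgroup G) := Subgroup.mem_top b
  rw [← htop, Subgroup.mem_bot] at ha hb
  rw [ha, hb]

end main

end Groth.Agent.Lib.LeadSepSub
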