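import Mathlib
import Groth.Agent.Lib.LeadWQc
import Groth.Agent.Lib.LeadASn
import Groth.Agent.Lib.Helper19PsDim

/-!
# A complete regular local ring is finite free over the power series ring on a system of
parameters (lead)
-/

set_option autoImplicit false
set_option maxHeartbeats 400000
set_option linter.style.haveILetI false
set_option linter.unusedSectionVars false
set_option linter.unusedVariables false
universe u v w

noncomputable section

namespace Groth.Agent.Lib.LeadWQ

open IsLocalRing MvPowerSeries Groth.Agent.Lib.Helper19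

section SameUniv

variable (A : Type u) [CommRing A] [IsRegularLocalRing A] [IsAdicComplete (maximalIdeal A) A]
  (K : Type u) [Field K] [Algebra K A]

theorem ringKrullDim_quot_eq_zero (J : Ideal A) (hJ : J ≤ maximalIdeal A) (N : ℕ)
    (hN : maximalIdeal A ^ N ≤ J) : ringKrullDim (A ⧸ J) = 0 := by
  have hJne : J ≠ ⊤ := fun h =>
    (maximalIdeal.isMaximal A).ne_top (top_le_iff.mp (h ▸ hJ))
  haveI : Nontrivial (A ⧸ J) := Ideal.Quotient.nontrivial_iff.mpr hJne
  haveI : IsLocalRing (A ⧸ J) :=
    IsLocalRing.of_surjective' (Ideal.Quotient.mk J) Ideal.Quotient.mk_surjective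
  haveI : IsArtinianRing (A ⧸ J) := by
    rw [isArtinianRing_iff_isNilpotent_maximalIdeal]
    refine ⟨N, ?_⟩
    rw [Groth.Agent.Lib.Helper5.maximalIdeal_quotient_eq_map, ← Ideal.map_pow, Ideal.zero_eq_bot,
      Ideal.map_eq_bot_iff_le_ker, Ideal.mk_ker]
    exact hN
  exact ringKrullDimZero_iff_ringKrullDim_eq_zero.mp inferInstance

theorem exists_basis_sameUniv
    (hK : Function.Surjective (IsLocalRing.residue A ∘ algebraMap K A))
    (n : ℕ) (hn : ringKrullDim A = n) (x : Fin n → A)
    (hx : (Ideal.span (Set.range x)).radical = maximalIdeal A)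
    (φ : MvPowerSeries (Fin n) K →ₐ[K] A) (hφ : ∀ i, φ (MvPowerSeries.X i) = x i) :
    ∃ (d : ℕ) (b : Fin d → A), (d : ℕ∞) = Module.length A (A ⧸ Ideal.span (Set.range x)) ∧
      Function.Bijective (fun r : Fin d → MvPowerSeries (Fin n) K => ∑ i, φ (r i) * b i) := by
  classical
  have hxm : ∀ i, x i ∈ maximalIdeal A := fun i =>
    hx ▸ Ideal.le_radical (Ideal.subset_span ⟨i, rfl⟩)
  obtain ⟨N, hN⟩ := Ideal.exists_pow_le_of_le_radical_of_fg (le_of_eq hx.symm)
    (IsNoetherian.noetherian (maximalIdeal A))
  obtain ⟨φ', hφ', hfin⟩ := exists_finite_ps K A hK n x hxm N hN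
  have hφφ' : φ = φ' := algHom_ext_of_X_of_isHausdorff (maximalIdeal A) φ φ'
    (fun s => by rw [hφ]; exact hxm s) (fun s => by rw [hφ, hφ'])
  subst hφφ'
  letI : Algebra (MvPowerSeries (Fin n) K) A := φ.toRingHom.toAlgebra
  have halg : ∀ g : MvPowerSeries (Fin n) K, algebraMap (MvPowerSeries (Fin n) K) A g = φ g :=
    fun g => rfl
  haveI : Module.Finite (MvPowerSeries (Fin n) K) A := hfin
  have hJm : Ideal.span (Set.range x) ≤ maximalIdeal A := by
    rw [Ideal.span_le]
    rintro _ ⟨i, rfl⟩
    exact hxm i
  have hmap : (maximalIdeal (MvPowerSeries (Fin n) K)).map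
      (algebraMap (MvPowerSeries (Fin n) K) A) = Ideal.span (Set.range x) := by
    rw [Groth.Agent.Lib.Helper28.CTensor.maximalIdeal_mvPowerSeries_field, varsIdeal,
      Ideal.map_span, ← Set.range_comp]
    congr 2
    funext i
    exact hφ i
  haveI : IsLocalHom (algebraMap (MvPowerSeries (Fin n) K) A) := by
    constructor
    intro f hf
    by_contra hfu
    have hfm : f ∈ maximalIdeal (MvPowerSeries (Fin n) K) := hfu
    have h1 : algebraMap (MvPowerSeries (Fin n) K) A f ∈ maximalIdeal A :=
      hJm (hmap ▸ Ideal.mem_map_of_mem _ hfm)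
    exact h1 hf
  haveI : LocCoh.IsCohenMacaulayLocalRing A :=
    Groth.Agent.Lib.Helper5.isCohenMacaulayLocalRing_of_isRegularLocalRing A
  have h0 : ringKrullDim (A ⧸ (maximalIdeal (MvPowerSeries (Fin n) K)).map
      (algebraMap (MvPowerSeries (Fin n) K) A)) = 0 := by
    rw [hmap]
    exact ringKrullDim_quot_eq_zero A _ hJm N hN
  haveI hflat : Module.Flat (MvPowerSeries (Fin n) K) A :=
    Groth.Agent.S2082.result (R := MvPowerSeries (Fin n) K) (S := A)
      (by rw [h0, add_zero, hn, ringKrullDim_mvPowerSeries])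
  haveI : Module.Free (MvPowerSeries (Fin n) K) A := Module.free_of_flat_of_isLocalRing
  let b := Module.finBasis (MvPowerSeries (Fin n) K) A
  refine ⟨Module.finrank (MvPowerSeries (Fin n) K) A, fun i => b i, ?_, ?_⟩
  · have hres : ∀ a : A, ∃ r : MvPowerSeries (Fin n) K,
        a - algebraMap (MvPowerSeries (Fin n) K) A r ∈ maximalIdeal A := by
      intro a
      obtain ⟨c, hc⟩ := hK (IsLocalRing.residue A a)
      refine ⟨MvPowerSeries.C c, ?_⟩
      rw [← Ideal.Quotient.eq_zero_iff_mem (I := maximalIdeal A)]
      have h2 : IsLocalRing.residue A (a - algebraMap (MvPowerSeries (Fin n) K) A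
          (MvPowerSeries.C c)) = 0 := by
        rw [map_sub, sub_eq_zero, halg]
        have : φ (MvPowerSeries.C c) = algebraMap K A c := by
          have h3 : (MvPowerSeries.C c : MvPowerSeries (Fin n) K) =
              algebraMap K (MvPowerSeries (Fin n) K) c := by
            rw [MvPowerSeries.c_eq_algebraMap]
          rw [h3]
          exact φ.commutes c
        rw [this]
        exact hc.symm
      exact h2
    have hl := Groth.Agent.Lib.LeadAS.length_quot_map (R := MvPowerSeries (Fin n) K) (A := A) hres
      (maximalIdeal (MvPowerSeries (Fin n) K)) (maximalIdeal.isMaximal _).ne_top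
    rw [hmap] at hl
    rw [hl]
    have h1 : Module.length (MvPowerSeries (Fin n) K)
        (MvPowerSeries (Fin n) K ⧸ maximalIdeal (MvPowerSeries (Fin n) K)) = 1 := by
      rw [Module.length_eq_one_iff]
      exact isSimpleModule_iff_quot_maximal.mpr
        ⟨maximalIdeal _, maximalIdeal.isMaximal _, ⟨LinearEquiv.refl _ _⟩⟩
    rw [h1, mul_one]
  · have : (fun r : Fin (Module.finrank (MvPowerSeries (Fin n) K) A) → MvPowerSeries (Fin n) K =>
        ∑ i, φ (r i) * b i) = b.equivFun.symm := by
      funext r
      rw [Module.Basis.equivFun_symm_apply]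
      apply Finset.sum_congr rfl
      intro i _
      rw [Algebra.smul_def, halg]
    rw [this]
    exact b.equivFun.symm.bijective

end SameUniv

section GenUniv

variable (A : Type u) [CommRing A] [IsRegularLocalRing A] [IsAdicComplete (maximalIdeal A) A]

theorem exists_basis_over_ps (n : ℕ) (hn : ringKrullDim A = n)
    (k : Type v) [Field k] [Algebra k A]
    (hk : Function.Surjective (IsLocalRing.residue A ∘ algebraMap k A))
    (x : Fin n → A) (hx : (Ideal.span (Set.range x)).radical = IsLocalRing.maximalIdeal A)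
    (φ : MvPowerSeries (Fin n) k →ₐ[k] A) (hφ : ∀ i, φ (MvPowerSeries.X i) = x i) :
    ∃ (d : ℕ) (b : Fin d → A), (d : ℕ∞) = Module.length A (A ⧸ Ideal.span (Set.range x)) ∧
      Function.Bijective (fun r : Fin d → MvPowerSeries (Fin n) k => ∑ i, φ (r i) * b i) := by
  classical
  let K := ResidueField A
  let f : k →+* K := (IsLocalRing.residue A).comp (algebraMap k A)
  let e : k ≃+* K := RingEquiv.ofBijective f ⟨f.injective, hk⟩
  have he : ∀ c, e c = IsLocalRing.residue A (algebraMap k A c) := fun c => rfl
  letI algKA : Algebra K A := ((algebraMap k A).comp e.symm.toRingHom).toAlgebra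
  have halgK : ∀ y : K, algebraMap K A y = algebraMap k A (e.symm y) := fun y => rfl
  have hK : Function.Surjective (IsLocalRing.residue A ∘ algebraMap K A) := by
    intro y
    refine ⟨y, ?_⟩
    change IsLocalRing.residue A (algebraMap K A y) = y
    rw [halgK, ← he, RingEquiv.apply_symm_apply]
  let E : MvPowerSeries (Fin n) k →+* MvPowerSeries (Fin n) K := MvPowerSeries.map e.toRingHom
  let E' : MvPowerSeries (Fin n) K →+* MvPowerSeries (Fin n) k := MvPowerSeries.map e.symm.toRingHom
  have hE'E : ∀ g, E' (E g) = g := by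
    intro g
    change (MvPowerSeries.map e.symm.toRingHom) ((MvPowerSeries.map e.toRingHom) g) = g
    rw [← RingHom.comp_apply, ← MvPowerSeries.map_comp]
    have : e.symm.toRingHom.comp e.toRingHom = RingHom.id k := by
      ext c; simp
    rw [this, MvPowerSeries.map_id]
    rfl
  have hEE' : ∀ g, E (E' g) = g := by
    intro g
    change (MvPowerSeries.map e.toRingHom) ((MvPowerSeries.map e.symm.toRingHom) g) = g
    rw [← RingHom.comp_apply, ← MvPowerSeries.map_comp]
    have : e.toRingHom.comp e.symm.toRingHom = RingHom.id K := by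
      ext c; simp
    rw [this, MvPowerSeries.map_id]
    rfl
  let φK : MvPowerSeries (Fin n) K →ₐ[K] A :=
    { φ.toRingHom.comp E' with
      commutes' := fun y => by
        change φ (E' (algebraMap K (MvPowerSeries (Fin n) K) y)) = algebraMap K A y
        rw [halgK, ← MvPowerSeries.c_eq_algebraMap]
        have h1 : E' (MvPowerSeries.C y) = MvPowerSeries.C (e.symm y) := by
          change (MvPowerSeries.map e.symm.toRingHom) (MvPowerSeries.C y) = _
          rw [MvPowerSeries.map_C]
          rfl
        rw [h1, MvPowerSeries.c_eq_algebraMap]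
        exact φ.commutes _ }
  have hφK : ∀ g, φK g = φ (E' g) := fun g => rfl
  have hφKX : ∀ i, φK (MvPowerSeries.X i) = x i := by
    intro i
    rw [hφK]
    have : E' (MvPowerSeries.X i) = MvPowerSeries.X i := by
      change (MvPowerSeries.map e.symm.toRingHom) (MvPowerSeries.X i) = _
      rw [MvPowerSeries.map_X]
    rw [this, hφ]
  obtain ⟨d, b, hd, hbij⟩ := exists_basis_sameUniv A K hK n hn x hx φK hφKX
  refine ⟨d, b, hd, ?_⟩
  have hcomp : (fun r : Fin d → MvPowerSeries (Fin n) k => ∑ i, φ (r i) * b i) =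
      (fun r : Fin d → MvPowerSeries (Fin n) K => ∑ i, φK (r i) * b i) ∘
        (fun r i => E (r i)) := by
    funext r
    simp only [Function.comp_apply, hφK, hE'E]
  rw [hcomp]
  refine hbij.comp ?_
  refine ⟨fun r r' h => ?_, fun r => ⟨fun i => E' (r i), ?_⟩⟩
  · funext i
    have := congrFun h i
    have h2 := congrArg E' this
    rwa [hE'E, hE'E] at h2
  · funext i
    exact hEE' (r i)

end GenUniv

end Groth.Agent.Lib.LeadWQ
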