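import Mathlib
import Groth.Agent.Lib.LeadSepSubB
import Groth.Agent.Lib.LeadWQf
import Groth.Agent.Lib.LeadWQa
import Groth.Agent.Lib.Helper19PsDim

/-!
# `Frac(A^G)` is not purely inseparable over the fraction field of a norm subring (lead)
-/

set_option autoImplicit false
set_option maxHeartbeats 400000
set_option linter.style.haveILetI false
set_option linter.unusedSectionVars false
set_option linter.unusedVariables false
universe u v w

noncomputable section

namespace Groth.Agent.Lib.LeadSepSub

open IsLocalRing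

section norms

variable {A : Type u} [CommRing A] [IsLocalRing A] {G : Type w} [Group G] [Fintype G]
  [MulSemiringAction G A] {n : ℕ}

theorem smul_norm (u : A) (σ : G) : σ • (∏ τ : G, τ • u) = ∏ τ : G, τ • u := by
  rw [Finset.smul_prod']
  simp only [← mul_smul]
  exact Fintype.prod_equiv (Equiv.mulLeft σ) _ _ (fun τ => rfl)

theorem radical_span_norms (u : Fin n → A)
    (hu : ∀ τ : Fin n → G, Ideal.span (Set.range fun i => τ i • u i) = maximalIdeal A) :
    (Ideal.span (Set.range fun i => ∏ σ : G, σ • u i)).radical = maximalIdeal A := by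
  apply le_antisymm
  · have hle : Ideal.span (Set.range fun i => ∏ σ : G, σ • u i) ≤ maximalIdeal A := by
      rw [Ideal.span_le]
      rintro _ ⟨i, rfl⟩
      have h1 : (1 : G) • u i ∈ maximalIdeal A := by
        rw [← hu (fun _ => 1)]
        exact Ideal.subset_span ⟨i, rfl⟩
      have h2 : (1 : G) • u i ∣ ∏ σ : G, σ • u i :=
        Finset.dvd_prod_of_mem _ (Finset.mem_univ 1)
      exact Ideal.mem_of_dvd _ h2 h1
    calc (Ideal.span (Set.range fun i => ∏ σ : G, σ • u i)).radical
        ≤ (maximalIdeal A).radical := Ideal.radical_mono hle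
      _ = maximalIdeal A := (IsLocalRing.maximalIdeal.isMaximal A).isPrime.radical
  · rw [Ideal.radical_eq_sInf]
    apply le_sInf
    rintro P ⟨hP, hPprime⟩
    have hex : ∀ i, ∃ τ : G, τ • u i ∈ P := by
      intro i
      have h1 : ∏ σ : G, σ • u i ∈ P := hP (Ideal.subset_span ⟨i, rfl⟩)
      obtain ⟨τ, -, hτ⟩ := (hPprime.prod_mem_iff).mp h1
      exact ⟨τ, hτ⟩
    choose τ hτ using hex
    rw [← hu τ, Ideal.span_le]
    rintro _ ⟨i, rfl⟩
    exact hτ i

end norms

section main

theorem main
    (p : ℕ) [Fact p.Prime] (A : Type u) [CommRing A] [IsRegularLocalRing A] [CharP A p]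
    [IsAdicComplete (IsLocalRing.maximalIdeal A) A] (n : ℕ) (hn : ringKrullDim A = n) (h2 : 2 ≤ n)
    (k : Type v) [Field k] [Algebra k A]
    (hk : Function.Surjective (IsLocalRing.residue A ∘ algebraMap k A))
    (G : Type w) [Group G] [Fintype G] [MulSemiringAction G A] (hcard : Fintype.card G = p)
    [SMulCommClass G k A]
    (hram : ∀ P : Ideal A, P.IsPrime → P ≠ IsLocalRing.maximalIdeal A → P.inertia G = ⊥)
    (u : Fin n → A)
    (hu : ∀ τ : Fin n → G,
      Ideal.span (Set.range fun i => τ i • u i) = IsLocalRing.maximalIdeal A)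
    (φ : MvPowerSeries (Fin n) k →ₐ[k] A) (hφ : ∀ i, φ (MvPowerSeries.X i) = ∏ σ : G, σ • u i) :
    ∃ y : A, (∀ σ : G, σ • y = y) ∧ ∀ e : ℕ, y ^ p ^ e ∉ Set.range φ := by
  by_contra hcon
  push Not at hcon
  haveI : IsDomain A := Groth.Agent.Lib.Helper5.isDomain_of_isRegularLocalRing A
  haveI : IsIntegrallyClosed A :=
    Groth.Agent.Lib.Helper28.isIntegrallyClosed_of_isRegularLocalRing A
  have hx := radical_span_norms u hu
  obtain ⟨d, b, -, hbij⟩ := Groth.Agent.Lib.LeadWQ.exists_basis_over_ps A n hn k hk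
    (fun i => ∏ σ : G, σ • u i) hx φ hφ
  letI algSA : Algebra (MvPowerSeries (Fin n) k) A := φ.toRingHom.toAlgebra
  have halg : ∀ f : MvPowerSeries (Fin n) k, algebraMap (MvPowerSeries (Fin n) k) A f = φ f :=
    fun _ => rfl
  have hsmul : ∀ (f : MvPowerSeries (Fin n) k) (a : A), f • a = φ f * a := fun f a => by
    rw [Algebra.smul_def, halg]
  -- finiteness
  haveI : Module.Finite (MvPowerSeries (Fin n) k) A := by
    apply Module.Finite.of_surjective (Fintype.linearCombination (MvPowerSeries (Fin n) k) b)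
    intro a
    obtain ⟨r, hr⟩ := hbij.surjective a
    refine ⟨r, ?_⟩
    rw [Fintype.linearCombination_apply, ← hr]
    exact Finset.sum_congr rfl (fun i _ => hsmul _ _)
  -- injectivity
  have hinj : Function.Injective (algebraMap (MvPowerSeries (Fin n) k) A) := by
    have hd : 0 < d := by
      rcases Nat.eq_zero_or_pos d with h0 | h0
      · exfalso
        subst h0
        obtain ⟨r, hr⟩ := hbij.surjective (1 : A)
        simp at hr
      · exact h0
    classical
    intro s s' hss
    have := hbij.injective (a₁ := Pi.single ⟨0, hd⟩ s) (a₂ := Pi.single ⟨0, hd⟩ s') (by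
      rw [Finset.sum_eq_single (⟨0, hd⟩ : Fin d), Finset.sum_eq_single (⟨0, hd⟩ : Fin d)]
      · rw [Pi.single_eq_same, Pi.single_eq_same, ← halg, ← halg, hss]
      · intro j _ hj
        rw [Pi.single_eq_of_ne hj, map_zero, zero_mul]
      · intro h; exact absurd (Finset.mem_univ _) h
      · intro j _ hj
        rw [Pi.single_eq_of_ne hj, map_zero, zero_mul]
      · intro h; exact absurd (Finset.mem_univ _) h)
    have h3 := congrFun this ⟨0, hd⟩
    rwa [Pi.single_eq_same, Pi.single_eq_same] at h3
  -- residue field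
  have hres : Function.Surjective
      (IsLocalRing.residue A ∘ algebraMap (MvPowerSeries (Fin n) k) A) := by
    intro z
    obtain ⟨c, hc⟩ := hk z
    refine ⟨algebraMap k (MvPowerSeries (Fin n) k) c, ?_⟩
    rw [← hc]
    change IsLocalRing.residue A (φ (algebraMap k (MvPowerSeries (Fin n) k) c)) = _
    rw [φ.commutes]
    rfl
  -- the action commutes with the power series
  have hGk : ∀ (σ : G) (c : k), σ • algebraMap k A c = algebraMap k A c := by
    intro σ c
    rw [Algebra.algebraMap_eq_smul_one, smul_comm, smul_one]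
  have hm : ∀ i, φ (MvPowerSeries.X i) ∈ maximalIdeal A := by
    intro i
    rw [hφ, ← hx]
    exact Ideal.le_radical (Ideal.subset_span ⟨i, rfl⟩)
  have hinv : ∀ (σ : G) i, σ • φ (MvPowerSeries.X i) = φ (MvPowerSeries.X i) := by
    intro σ i
    rw [hφ]
    exact smul_norm (u i) σ
  have hfix := Groth.Agent.Lib.LeadWQ.smul_ps_eq k A hGk φ hm hinv
  haveI : SMulCommClass G (MvPowerSeries (Fin n) k) A := by
    constructor
    intro σ f a
    rw [hsmul, hsmul, smul_mul', hfix]
  have hdim : 2 ≤ ringKrullDim A := by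
    rw [hn]
    exact_mod_cast h2
  have hpi : ∀ y : A, (∀ σ : G, σ • y = y) → ∃ e : ℕ,
      y ^ p ^ e ∈ Set.range (algebraMap (MvPowerSeries (Fin n) k) A) := by
    intro y hy
    obtain ⟨e, f, hf⟩ := hcon y hy
    exact ⟨e, f, hf⟩
  have hsub := subsingleton_of_pow_mem p (MvPowerSeries (Fin n) k) A hinj hres G hdim hram hpi
  have h1 : Fintype.card G ≤ 1 := Fintype.card_le_one_iff_subsingleton.mpr hsub
  rw [hcard] at h1
  exact absurd h1 (by have := (Fact.out : p.Prime).two_le; omega)

end main

end Groth.Agent.Lib.LeadSepSub
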