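import Mathlib

/-!
# A formally smooth quotient of a polynomial ring by an ideal inside `𝔪²` is the polynomial ring (lead)

`k` a field, `φ : k[x_σ] → A` a surjective `k`-algebra map onto a formally smooth `k`-algebra such that every
element of `ker φ` has zero constant and linear coefficients.  Then `ker φ = 0`.
-/

set_option autoImplicit false
set_option maxHeartbeats 400000
set_option linter.style.haveILetI false
set_option linter.unusedSectionVars false
set_option linter.unusedVariables false

universe u v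

namespace Groth.Agent.Lib.LeadSharpMon

open MvPolynomial TensorProduct

section algebra
variable {k : Type u} [Field k] {σ : Type} [Fintype σ] [DecidableEq σ]
  {A : Type v} [CommRing A] [Algebra k A]

/-- the ideal of polynomials without constant term -/
noncomputable def mIdeal (k : Type u) [Field k] (σ : Type) : Ideal (MvPolynomial σ k) :=
  RingHom.ker (constantCoeff : MvPolynomial σ k →+* k)

theorem mem_mIdeal (f : MvPolynomial σ k) : f ∈ mIdeal k σ ↔ constantCoeff f = 0 :=
  RingHom.mem_ker

theorem constantCoeff_pderiv (i : σ) (f : MvPolynomial σ k) :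
    constantCoeff (pderiv i f) = coeff (Finsupp.single i 1) f := by
  rw [constantCoeff_eq, coeff_pderiv, zero_add]
  simp

theorem D_eq_sum (f : MvPolynomial σ k) :
    KaehlerDifferential.D k (MvPolynomial σ k) f =
      ∑ i, pderiv i f • KaehlerDifferential.D k (MvPolynomial σ k) (X i) := by
  have h := (KaehlerDifferential.mvPolynomialBasis k σ).sum_repr
    (KaehlerDifferential.D k (MvPolynomial σ k) f)
  conv_lhs => rw [← h]
  apply Finset.sum_congr rfl
  intro i _
  rw [KaehlerDifferential.mvPolynomialBasis_repr_apply, KaehlerDifferential.mvPolynomialBasis_apply]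

theorem ker_le_mul [Algebra (MvPolynomial σ k) A] [IsScalarTower k (MvPolynomial σ k) A]
    [Algebra.FormallySmooth k A]
    (hsurj : Function.Surjective (algebraMap (MvPolynomial σ k) A))
    (h0 : ∀ f ∈ RingHom.ker (algebraMap (MvPolynomial σ k) A), constantCoeff f = 0)
    (h1 : ∀ f ∈ RingHom.ker (algebraMap (MvPolynomial σ k) A), ∀ i,
      coeff (Finsupp.single i 1) f = 0) :
    RingHom.ker (algebraMap (MvPolynomial σ k) A) ≤
      mIdeal k σ * RingHom.ker (algebraMap (MvPolynomial σ k) A) := by
  set J := RingHom.ker (algebraMap (MvPolynomial σ k) A) with hJ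
  obtain ⟨l, hl⟩ := (Algebra.FormallySmooth.iff_split_injection (R := k)
    (P := MvPolynomial σ k) (A := A) hsurj).mp inferInstance
  have hJm : J ≤ mIdeal k σ := fun f hf => (mem_mIdeal f).mpr (h0 f hf)
  -- representatives of `l (1 ⊗ dX_i)`
  choose c hc using fun i : σ => Ideal.toCotangent_surjective J
    (l ((1 : A) ⊗ₜ[MvPolynomial σ k] KaehlerDifferential.D k (MvPolynomial σ k) (X i)))
  intro j hj
  have e1 : J.toCotangent ⟨j, hj⟩ = l (KaehlerDifferential.kerCotangentToTensor k
      (MvPolynomial σ k) A (J.toCotangent ⟨j, hj⟩)) := by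
    have := LinearMap.congr_fun hl (J.toCotangent ⟨j, hj⟩)
    simpa using this.symm
  rw [KaehlerDifferential.kerCotangentToTensor_toCotangent] at e1
  have e2 : ((1 : A) ⊗ₜ[MvPolynomial σ k] KaehlerDifferential.D k (MvPolynomial σ k) j) =
      ∑ i, pderiv i j • ((1 : A) ⊗ₜ[MvPolynomial σ k]
        KaehlerDifferential.D k (MvPolynomial σ k) (X i)) := by
    rw [D_eq_sum j, TensorProduct.tmul_sum]
    apply Finset.sum_congr rfl
    intro i _
    rw [TensorProduct.tmul_smul]
  change J.toCotangent ⟨j, hj⟩ = l ((1 : A) ⊗ₜ[MvPolynomial σ k]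
    KaehlerDifferential.D k (MvPolynomial σ k) j) at e1
  rw [e2, map_sum] at e1
  have e3 : J.toCotangent ⟨j, hj⟩ = J.toCotangent (∑ i, pderiv i j • c i) := by
    rw [e1, map_sum]
    apply Finset.sum_congr rfl
    intro i _
    rw [map_smul, map_smul, hc i]
  have e4 : J.toCotangent (⟨j, hj⟩ - ∑ i, pderiv i j • c i) = 0 := by
    rw [map_sub, e3, sub_self]
  rw [Ideal.toCotangent_eq_zero] at e4
  have e5 : ((⟨j, hj⟩ - ∑ i, pderiv i j • c i : J) : MvPolynomial σ k) =
      j - ∑ i, pderiv i j * (c i : MvPolynomial σ k) := by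
    simp
  rw [e5] at e4
  have e6 : J ^ 2 ≤ mIdeal k σ * J := by
    rw [pow_two]
    exact Ideal.mul_mono_left hJm
  have e7 : ∑ i, pderiv i j * (c i : MvPolynomial σ k) ∈ mIdeal k σ * J := by
    apply Ideal.sum_mem
    intro i _
    apply Ideal.mul_mem_mul
    · rw [mem_mIdeal, constantCoeff_pderiv]
      exact h1 j hj i
    · exact (c i).2
  have e8 : j = (j - ∑ i, pderiv i j * (c i : MvPolynomial σ k)) +
      ∑ i, pderiv i j * (c i : MvPolynomial σ k) := by ring
  rw [e8]
  exact Ideal.add_mem _ (e6 e4) e7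

/-- **Main algebraic lemma.** -/
theorem ker_eq_bot [Algebra.FormallySmooth k A] (φ : MvPolynomial σ k →ₐ[k] A)
    (hsurj : Function.Surjective φ)
    (h0 : ∀ f, φ f = 0 → constantCoeff f = 0)
    (h1 : ∀ f, φ f = 0 → ∀ i, coeff (Finsupp.single i 1) f = 0) :
    ∀ f, φ f = 0 → f = 0 := by
  letI : Algebra (MvPolynomial σ k) A := φ.toRingHom.toAlgebra
  haveI : IsScalarTower k (MvPolynomial σ k) A :=
    IsScalarTower.of_algebraMap_eq' φ.comp_algebraMap.symm
  have halg : ∀ f, algebraMap (MvPolynomial σ k) A f = φ f := fun f => rfl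
  have hle := ker_le_mul (k := k) (σ := σ) (A := A) hsurj
    (fun f hf => h0 f ((halg f).symm.trans (RingHom.mem_ker.mp hf)))
    (fun f hf => h1 f ((halg f).symm.trans (RingHom.mem_ker.mp hf)))
  set J := RingHom.ker (algebraMap (MvPolynomial σ k) A) with hJ
  have hfg : (J : Submodule (MvPolynomial σ k) (MvPolynomial σ k)).FG :=
    IsNoetherian.noetherian J
  obtain ⟨r, hr1, hr2⟩ := Submodule.exists_sub_one_mem_and_smul_eq_zero_of_fg_of_le_smul
    (mIdeal k σ) J hfg (by rwa [Ideal.smul_eq_mul])
  have hr0 : r ≠ 0 := by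
    intro h
    rw [h, zero_sub, mem_mIdeal, map_neg, map_one, neg_eq_zero] at hr1
    exact one_ne_zero hr1
  intro f hf
  have := hr2 f (RingHom.mem_ker.mpr ((halg f).trans hf))
  rw [smul_eq_mul] at this
  exact (mul_eq_zero.mp this).resolve_left hr0

end algebra

end Groth.Agent.Lib.LeadSharpMon
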