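import Groth.Agent.Lib.LeadSharpMonA

/-!
# Fine sharp monoids with smooth monoid algebra are free (lead)

`N` a finitely generated cancellative sharp commutative monoid.  A minimal generating set `S` gives
`π : ℕ^S ↠ N` with singleton fibres over `0` and over the generators; so the kernel of `k[ℕ^S] → k[N]` lies in
`𝔪²`, and when `k[N]` is formally smooth over the field `k` the kernel vanishes (`LeadSharpMonA`): `N ≅ ℕ^S`.
Consequently a smooth `R[N]` is a polynomial ring, i.e. a symmetric algebra of a free module.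
-/

set_option autoImplicit false
set_option maxHeartbeats 400000
set_option linter.style.haveILetI false
set_option linter.unusedSectionVars false
set_option linter.unusedVariables false

universe u v

namespace Groth.Agent.Lib.LeadSharpMon

open MvPolynomial TensorProduct

section monoid
variable {N : Type} [AddCommMonoid N] [DecidableEq N]

theorem exists_min_gen [AddMonoid.FG N] : ∃ S : Finset N,
    AddSubmonoid.closure (S : Set N) = ⊤ ∧
      ∀ g ∈ S, g ∉ AddSubmonoid.closure ((S.erase g : Finset N) : Set N) := by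
  classical
  obtain ⟨S, hS⟩ := AddSubmonoid.exists_minimal_closure_eq_top N
  refine ⟨S, hS.1, fun g hg hmem => ?_⟩
  have hgen : AddSubmonoid.closure ((S.erase g : Finset N) : Set N) = ⊤ := by
    rw [eq_top_iff, ← hS.1, AddSubmonoid.closure_le]
    intro x hx
    by_cases hxg : x = g
    · rw [hxg]; exact hmem
    · exact AddSubmonoid.subset_closure
        (Finset.mem_coe.mpr (Finset.mem_erase.mpr ⟨hxg, Finset.mem_coe.mp hx⟩))
  have hle : S ≤ S.erase g := hS.2 hgen (Finset.erase_subset g S)
  exact (Finset.notMem_erase g S) (hle hg)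

variable (S : Finset N)

/-- the map `ℕ^S → N` -/
noncomputable def piHom : ({x // x ∈ S} →₀ ℕ) →+ N :=
  (Finsupp.linearCombination ℕ (fun i : {x // x ∈ S} => (i : N))).toAddMonoidHom

theorem piHom_apply (b : {x // x ∈ S} →₀ ℕ) : piHom S b = b.sum (fun i a => a • (i : N)) := by
  simp [piHom, Finsupp.linearCombination_apply]

theorem piHom_single (i : {x // x ∈ S}) (a : ℕ) : piHom S (Finsupp.single i a) = a • (i : N) := by
  simp [piHom]

theorem piHom_surjective (hS : AddSubmonoid.closure (S : Set N) = ⊤) :
    Function.Surjective (piHom S) := by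
  rw [← AddMonoidHom.mrange_eq_top, eq_top_iff, ← hS, AddSubmonoid.closure_le]
  intro x hx
  exact ⟨Finsupp.single ⟨x, Finset.mem_coe.mp hx⟩ 1, by rw [piHom_single, one_smul]⟩

theorem piHom_mem_closure_erase (i : {x // x ∈ S}) (b : {x // x ∈ S} →₀ ℕ)
    (hb : b i = 0) :
    piHom S b ∈ AddSubmonoid.closure ((S.erase (i : N) : Finset N) : Set N) := by
  rw [piHom_apply, Finsupp.sum]
  apply AddSubmonoid.sum_mem
  intro j hj
  apply AddSubmonoid.nsmul_mem
  apply AddSubmonoid.subset_closure
  rw [Finset.mem_coe, Finset.mem_erase]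
  refine ⟨fun h => ?_, j.2⟩
  have : j = i := Subtype.ext h
  rw [this] at hj
  exact (Finsupp.mem_support_iff.mp hj) hb

theorem exists_eq_single_add (b : {x // x ∈ S} →₀ ℕ) (j : {x // x ∈ S}) (hj : b j ≠ 0) :
    ∃ c, b = Finsupp.single j 1 + c := by
  classical
  refine ⟨b - Finsupp.single j 1, (add_tsub_cancel_of_le ?_).symm⟩
  rw [Finsupp.le_def]
  intro x
  by_cases hx : x = j
  · subst hx
    rw [Finsupp.single_eq_same]
    exact Nat.one_le_iff_ne_zero.mpr hj
  · rw [Finsupp.single_apply, if_neg (fun h => hx h.symm)]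
    exact Nat.zero_le _

variable (hsharp : ∀ n : N, IsAddUnit n → n = 0)
  (hmin : ∀ g ∈ S, g ∉ AddSubmonoid.closure ((S.erase g : Finset N) : Set N))

include hsharp hmin in
theorem piHom_eq_zero (b : {x // x ∈ S} →₀ ℕ) (h : piHom S b = 0) : b = 0 := by
  classical
  by_contra hb
  obtain ⟨j, hj⟩ : ∃ j, b j ≠ 0 := by
    by_contra hne
    push Not at hne
    exact hb (Finsupp.ext hne)
  obtain ⟨c, rfl⟩ := exists_eq_single_add S b j hj
  rw [map_add, piHom_single, one_smul] at h
  have hu : IsAddUnit (j : N) := isAddUnit_iff_exists_neg.mpr ⟨_, h⟩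
  have h0 : (j : N) = 0 := hsharp _ hu
  exact hmin j j.2 (h0 ▸ AddSubmonoid.zero_mem _)

include hsharp hmin in
theorem piHom_eq_gen [IsCancelAdd N] (i : {x // x ∈ S}) (b : {x // x ∈ S} →₀ ℕ)
    (h : piHom S b = (i : N)) : b = Finsupp.single i 1 := by
  classical
  by_cases hbi : b i = 0
  · exact absurd (h ▸ piHom_mem_closure_erase S i b hbi) (hmin i i.2)
  · obtain ⟨c, rfl⟩ := exists_eq_single_add S b i hbi
    rw [map_add, piHom_single, one_smul] at h
    have hc : piHom S c = 0 := add_left_cancel (a := (i : N)) (h.trans (add_zero _).symm)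
    rw [piHom_eq_zero S hsharp hmin c hc, add_zero]

end monoid

section fiber

theorem mapDomain_apply_of_fiber {M N R : Type*} [AddCommMonoid R] (f : M → N) (x : M →₀ R)
    (a₀ : M) (h : ∀ a, f a = f a₀ → a = a₀) : Finsupp.mapDomain f x (f a₀) = x a₀ := by
  classical
  rw [Finsupp.mapDomain, Finsupp.sum_apply, Finsupp.sum, Finset.sum_eq_single a₀]
  · rw [Finsupp.single_eq_same]
  · intro a _ hne
    rw [Finsupp.single_apply, if_neg (fun he => hne (h a he))]
  · intro hn
    rw [Finsupp.notMem_support_iff.mp hn, Finsupp.single_zero]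
    rfl

end fiber

section field
variable {N : Type} [AddCommMonoid N] [IsCancelAdd N] [DecidableEq N] (S : Finset N)
  (hsharp : ∀ n : N, IsAddUnit n → n = 0)
  (hS : AddSubmonoid.closure (S : Set N) = ⊤)
  (hmin : ∀ g ∈ S, g ∉ AddSubmonoid.closure ((S.erase g : Finset N) : Set N))

/-- the algebra map `k[ℕ^S] → k[N]` -/
noncomputable def phi (k : Type u) [Field k] :
    MvPolynomial {x // x ∈ S} k →ₐ[k] AddMonoidAlgebra k N :=
  AddMonoidAlgebra.mapDomainAlgHom k k (piHom S)

theorem phi_coeff (k : Type u) [Field k] (f : MvPolynomial {x // x ∈ S} k) :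
    (phi S k f).coeff = Finsupp.mapDomain (piHom S) (AddMonoidAlgebra.coeff f) := rfl

include hS in
theorem phi_surjective (k : Type u) [Field k] : Function.Surjective (phi S k) := by
  intro y
  obtain ⟨x, hx⟩ := Finsupp.mapDomain_surjective (piHom_surjective S hS) y.coeff
  refine ⟨AddMonoidAlgebra.ofCoeff x, ?_⟩
  apply AddMonoidAlgebra.coeff_injective
  rw [phi_coeff]
  exact hx

include hsharp hS hmin in
theorem piHom_injective (k : Type u) [Field k]
    [Algebra.FormallySmooth k (AddMonoidAlgebra k N)] : Function.Injective (piHom S) := by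
  classical
  have hker := ker_eq_bot (k := k) (σ := {x // x ∈ S}) (phi S k) (phi_surjective S hS k)
    (fun f hf => by
      have h1 : (phi S k f).coeff (piHom S 0) = AddMonoidAlgebra.coeff f 0 := by
        rw [phi_coeff]
        exact mapDomain_apply_of_fiber (piHom S) (AddMonoidAlgebra.coeff f) 0 (fun a ha =>
          piHom_eq_zero S hsharp hmin a (ha.trans (map_zero _)))
      rw [hf] at h1
      rw [constantCoeff_eq]
      exact h1.symm)
    (fun f hf i => by
      have h1 : (phi S k f).coeff (piHom S (Finsupp.single i 1)) =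
          AddMonoidAlgebra.coeff f (Finsupp.single i 1) := by
        rw [phi_coeff]
        exact mapDomain_apply_of_fiber (piHom S) (AddMonoidAlgebra.coeff f) (Finsupp.single i 1) (fun a ha =>
          piHom_eq_gen S hsharp hmin i a (ha.trans (by rw [piHom_single, one_smul])))
      rw [hf] at h1
      exact h1.symm)
  intro a b hab
  have h1 : phi S k (monomial a 1 - monomial b 1) = 0 := by
    rw [map_sub, sub_eq_zero]
    show AddMonoidAlgebra.mapDomain (piHom S) (AddMonoidAlgebra.single a 1) =
      AddMonoidAlgebra.mapDomain (piHom S) (AddMonoidAlgebra.single b 1)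
    rw [AddMonoidAlgebra.mapDomain_single, AddMonoidAlgebra.mapDomain_single, hab]
  have h2 := sub_eq_zero.mp (hker _ h1)
  exact (monomial_left_inj (one_ne_zero)).mp h2

end field

section final

theorem exists_symmetricAlgebra (R : Type u) [CommRing R] (N : Type)
    [AddCommMonoid N] [AddMonoid.FG N] [IsCancelAdd N] (hsharp : ∀ n : N, IsAddUnit n → n = 0)
    [Algebra.Smooth R (AddMonoidAlgebra R N)] :
    ∃ (P : Type u) (_ : AddCommGroup P) (_ : Module R P), Module.Finite R P ∧ Module.Projective R P ∧
      Nonempty (AddMonoidAlgebra R N ≃ₐ[R] SymmetricAlgebra R P) := by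
  classical
  obtain ⟨S, hS, hmin⟩ := exists_min_gen (N := N)
  refine ⟨({x // x ∈ S} → R), inferInstance, inferInstance, inferInstance, inferInstance, ?_⟩
  rcases subsingleton_or_nontrivial R with hR | hR
  · -- trivial ring: everything is zero
    haveI : Subsingleton (AddMonoidAlgebra R N) := Module.subsingleton R _
    haveI : Subsingleton (SymmetricAlgebra R ({x // x ∈ S} → R)) := Module.subsingleton R _
    exact ⟨{ toFun := fun _ => 0, invFun := fun _ => 0,
             left_inv := fun _ => Subsingleton.elim _ _,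
             right_inv := fun _ => Subsingleton.elim _ _,
             map_mul' := fun _ _ => Subsingleton.elim _ _,
             map_add' := fun _ _ => Subsingleton.elim _ _,
             commutes' := fun _ => Subsingleton.elim _ _ }⟩
  · obtain ⟨m, hm⟩ := Ideal.exists_maximal R
    letI : Field (R ⧸ m) := Ideal.Quotient.field m
    haveI : Algebra.FormallySmooth R (AddMonoidAlgebra R N) := inferInstance
    haveI : Algebra.FormallySmooth (R ⧸ m) ((R ⧸ m) ⊗[R] AddMonoidAlgebra R N) := inferInstance
    haveI : Algebra.FormallySmooth (R ⧸ m) (AddMonoidAlgebra (R ⧸ m) N) :=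
      Algebra.FormallySmooth.of_equiv (AddMonoidAlgebra.scalarTensorEquiv R (R ⧸ m))
    have hinj := piHom_injective S hsharp hS hmin (R ⧸ m)
    let e : ({x // x ∈ S} →₀ ℕ) ≃+ N :=
      AddEquiv.ofBijective (piHom S) ⟨hinj, piHom_surjective S hS⟩
    let e1 : AddMonoidAlgebra R N ≃ₐ[R] MvPolynomial {x // x ∈ S} R :=
      AddMonoidAlgebra.domCongr R R e.symm
    exact ⟨e1.trans (SymmetricAlgebra.equivMvPolynomial (Pi.basisFun R {x // x ∈ S})).symm⟩

end final

end Groth.Agent.Lib.LeadSharpMon
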