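import Groth.Agent.Lib.LeadNST2
import Groth.Agent.Lib.LeadSingA

set_option autoImplicit false
set_option maxHeartbeats 400000
set_option linter.style.haveILetI false
set_option linter.unusedSectionVars false
set_option linter.unusedVariables false

/-! Constant field extension of a finite separable extension `K/k(t)`: the power basis stays a
power basis of `K'/k'(t)` with the same discriminant. -/

namespace Groth.Agent.Lib.LeadSing

open Polynomial IntermediateField
open scoped IntermediateField.algebraAdjoinAdjoin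

-- this global instance (for `A[b] → A⟮algebraMap B C b⟯`) shadows the scoped
-- `algebraAdjoinAdjoin` instances on singletons of the form `{algebraMap K K' t}`.
attribute [-instance]
  IntermediateField.instAlgebraSubtypeMemSubalgebraAdjoinSingletonSetAdjoinCoeRingHomAlgebraMap

section B

variable {k k' K K' : Type*} [Field k] [Field k'] [Field K] [Field K']
  [Algebra k k'] [Algebra k K] [Algebra K K'] [Algebra k' K'] [Algebra k K']
  [IsScalarTower k k' K'] [IsScalarTower k K K']

variable (k') in
/-- image of `k(t)` lies in `k'(t')`. -/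
lemma map_mem_adjoin' {t : K} {f : K} (hf : f ∈ k⟮t⟯) :
    algebraMap K K' f ∈ k'⟮algebraMap K K' t⟯ := by
  let C : IntermediateField k K :=
    ((k'⟮algebraMap K K' t⟯).restrictScalars k).comap (IsScalarTower.toAlgHom k K K')
  have hC : k⟮t⟯ ≤ C := by
    rw [adjoin_simple_le_iff]
    show algebraMap K K' t ∈ k'⟮algebraMap K K' t⟯
    exact mem_adjoin_simple_self k' _
  exact hC hf

variable (k') in
/-- the ring map `k(t) → k'(t')`. -/
noncomputable def iotaF (t : K) : k⟮t⟯ →+* k'⟮algebraMap K K' t⟯ :=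
  ((algebraMap K K').comp (algebraMap k⟮t⟯ K)).codRestrict (k'⟮algebraMap K K' t⟯)
    (fun f => map_mem_adjoin' k' f.2)

lemma coe_iotaF (t : K) (f : k⟮t⟯) :
    ((iotaF k' t f : k'⟮algebraMap K K' t⟯) : K') = algebraMap K K' (f : K) := rfl

variable (h1 : Function.Bijective (Algebra.TensorProduct.productMap
      (IsScalarTower.toAlgHom k k' K') (IsScalarTower.toAlgHom k K K')))
  {ι : Type*} [Fintype ι] (b : Module.Basis ι k k')

include h1 in
lemma repr_mem_of_mem_adjoin {t : K} {r : K'}
    (hr : r ∈ Algebra.adjoin k' ({algebraMap K K' t} : Set K')) (j : ι) :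
    (LeadNST.basisK h1 b).repr r j ∈ Algebra.adjoin k ({t} : Set K) := by
  have hS : ∀ c : k, algebraMap k K c ∈ (Algebra.adjoin k ({t} : Set K)).toSubring :=
    fun c => Subalgebra.algebraMap_mem _ c
  have key : r ∈ Algebra.adjoin (((Algebra.adjoin k ({t} : Set K)).toSubring).map
      (algebraMap K K')) (Set.range (algebraMap k' K')) := by
    induction hr using Algebra.adjoin_induction with
    | mem x hx =>
      rw [Set.mem_singleton_iff] at hx; subst hx
      exact Subalgebra.algebraMap_mem _ (⟨algebraMap K K' t,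
        ⟨t, Algebra.self_mem_adjoin_singleton k t, rfl⟩⟩ :
          ((Algebra.adjoin k ({t} : Set K)).toSubring).map (algebraMap K K'))
    | algebraMap c => exact Algebra.subset_adjoin ⟨c, rfl⟩
    | add x y _ _ hx hy => exact Subalgebra.add_mem _ hx hy
    | mul x y _ _ hx hy => exact Subalgebra.mul_mem _ hx hy
  exact (LeadNST.mem_adjoin_iff h1 b _ hS r).mp key j

include h1 b in
lemma linearIndependent_pow_adjoin {t : K} (pb : PowerBasis k⟮t⟯ K) :
    LinearIndependent (Algebra.adjoin k' ({algebraMap K K' t} : Set K'))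
      (fun i : Fin pb.dim => (algebraMap K K' pb.gen) ^ (i : ℕ)) := by
  classical
  rw [Fintype.linearIndependent_iff]
  intro g hg i
  have hcoord : ∀ j, ∑ i, (LeadNST.basisK h1 b).repr (g i : K') j * pb.gen ^ (i : ℕ) = 0 := by
    intro j
    have h2 := congrArg (fun z => (LeadNST.basisK h1 b).repr z j) hg
    simp only [map_sum, map_zero, Finsupp.coe_finsetSum, Finset.sum_apply,
      Finsupp.zero_apply] at h2
    rw [← h2]
    refine Finset.sum_congr rfl fun i _ => ?_
    have h3 : (g i) • (algebraMap K K' pb.gen) ^ (i : ℕ) =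
        (pb.gen ^ (i : ℕ)) • ((g i : K')) := by
      rw [Algebra.smul_def, Algebra.smul_def, map_pow, mul_comm]; rfl
    rw [h3, map_smul, Finsupp.smul_apply, smul_eq_mul, mul_comm]
  have hzero : ∀ j i, (LeadNST.basisK h1 b).repr (g i : K') j = 0 := by
    intro j
    let φ : Fin pb.dim → k⟮t⟯ := fun i => ⟨(LeadNST.basisK h1 b).repr (g i : K') j,
      algebra_adjoin_le_adjoin k _ (repr_mem_of_mem_adjoin h1 b (g i).2 j)⟩
    have hφ : ∑ i, φ i • pb.basis i = 0 := by
      rw [← hcoord j]
      refine Finset.sum_congr rfl fun i _ => ?_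
      rw [pb.basis_eq_pow, Algebra.smul_def]; rfl
    intro i
    have := Fintype.linearIndependent_iff.mp pb.basis.linearIndependent φ hφ i
    exact congrArg Subtype.val this
  have hgi : (g i : K') = 0 := by
    apply (LeadNST.basisK h1 b).repr.injective
    ext j
    rw [map_zero, Finsupp.zero_apply]
    exact hzero j i
  exact Subtype.ext hgi

include h1 b in
lemma span_pow_eq_top {t : K} (pb : PowerBasis k⟮t⟯ K) :
    ⊤ ≤ Submodule.span (k'⟮algebraMap K K' t⟯)
      (Set.range fun i : Fin pb.dim => (algebraMap K K' pb.gen) ^ (i : ℕ)) := by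
  classical
  intro z _
  set S := Submodule.span (k'⟮algebraMap K K' t⟯)
      (Set.range fun i : Fin pb.dim => (algebraMap K K' pb.gen) ^ (i : ℕ)) with hS
  have hK : ∀ κ : K, algebraMap K K' κ ∈ S := by
    intro κ
    rw [← pb.basis.sum_repr κ, map_sum]
    refine Submodule.sum_mem _ fun i _ => ?_
    have h2 : algebraMap K K' ((pb.basis.repr κ i) • pb.basis i) =
        (iotaF (K' := K') k' t (pb.basis.repr κ i)) • (algebraMap K K' pb.gen) ^ (i : ℕ) := by
      rw [Algebra.smul_def, map_mul, pb.basis_eq_pow, map_pow, Algebra.smul_def]; rfl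
    rw [h2]
    exact Submodule.smul_mem _ _ (Submodule.subset_span ⟨i, rfl⟩)
  rw [← (LeadNST.basisK h1 b).sum_repr z]
  refine Submodule.sum_mem _ fun j _ => ?_
  rw [LeadNST.basisK_apply, Algebra.smul_def, mul_comm]
  have h3 : algebraMap k' K' (b j) * algebraMap K K' ((LeadNST.basisK h1 b).repr z j) =
      (algebraMap k' (k'⟮algebraMap K K' t⟯) (b j)) •
        algebraMap K K' ((LeadNST.basisK h1 b).repr z j) := by
    rw [Algebra.smul_def]; rfl
  rw [h3]
  exact Submodule.smul_mem _ _ (hK _)

/-- the basis of `K'` over `k'(t')`. -/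
noncomputable def basis' {t : K} (pb : PowerBasis k⟮t⟯ K) :
    Module.Basis (Fin pb.dim) (k'⟮algebraMap K K' t⟯) K' :=
  Module.Basis.mk
    ((LinearIndependent.iff_fractionRing (Algebra.adjoin k' ({algebraMap K K' t} : Set K'))
      (k'⟮algebraMap K K' t⟯)).mp (linearIndependent_pow_adjoin h1 b pb))
    (span_pow_eq_top h1 b pb)

lemma basis'_apply {t : K} (pb : PowerBasis k⟮t⟯ K) (i : Fin pb.dim) :
    basis' h1 b pb i = (algebraMap K K' pb.gen) ^ (i : ℕ) := by
  rw [basis', Module.Basis.mk_apply]

/-- the power basis of `K'` over `k'(t')`. -/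
noncomputable def pb' {t : K} (pb : PowerBasis k⟮t⟯ K) :
    PowerBasis (k'⟮algebraMap K K' t⟯) K' where
  gen := algebraMap K K' pb.gen
  dim := pb.dim
  basis := basis' h1 b pb
  basis_eq_pow := basis'_apply h1 b pb

lemma basis'_eq_map {t : K} (pb : PowerBasis k⟮t⟯ K) (i : Fin pb.dim) :
    basis' h1 b pb i = algebraMap K K' (pb.basis i) := by
  rw [basis'_apply, pb.basis_eq_pow, map_pow]

lemma repr_map {t : K} (pb : PowerBasis k⟮t⟯ K) (x : K) (i : Fin pb.dim) :
    (basis' h1 b pb).repr (algebraMap K K' x) i = iotaF k' t (pb.basis.repr x i) := by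
  have h2 : algebraMap K K' x =
      ∑ i, iotaF (K' := K') k' t (pb.basis.repr x i) • basis' h1 b pb i := by
    conv_lhs => rw [← pb.basis.sum_repr x, map_sum]
    refine Finset.sum_congr rfl fun i _ => ?_
    rw [basis'_eq_map, Algebra.smul_def, map_mul, Algebra.smul_def]; rfl
  rw [h2, Module.Basis.repr_sum_self]

include h1 b in
lemma trace_map {t : K} (pb : PowerBasis k⟮t⟯ K) (x : K) :
    Algebra.trace (k'⟮algebraMap K K' t⟯) K' (algebraMap K K' x) =
      iotaF k' t (Algebra.trace k⟮t⟯ K x) := by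
  rw [Algebra.trace_eq_matrix_trace (basis' h1 b pb), Algebra.trace_eq_matrix_trace pb.basis,
    Matrix.trace, Matrix.trace, map_sum]
  refine Finset.sum_congr rfl fun i _ => ?_
  rw [Matrix.diag_apply, Matrix.diag_apply, Algebra.leftMulMatrix_eq_repr_mul,
    Algebra.leftMulMatrix_eq_repr_mul, basis'_eq_map, ← map_mul, repr_map]

lemma discr_map {t : K} (pb : PowerBasis k⟮t⟯ K) :
    Algebra.discr (k'⟮algebraMap K K' t⟯) (basis' h1 b pb) =
      iotaF k' t (Algebra.discr k⟮t⟯ pb.basis) := by
  rw [Algebra.discr_def, Algebra.discr_def, RingHom.map_det]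
  congr 1
  ext i j
  rw [RingHom.mapMatrix_apply, Matrix.map_apply, Algebra.traceMatrix_apply,
    Algebra.traceMatrix_apply, Algebra.traceForm_apply, Algebra.traceForm_apply,
    basis'_eq_map, basis'_eq_map, ← map_mul, trace_map h1 b pb]

lemma algebraMap_comp_iotaF (t : K) :
    (algebraMap (k'⟮algebraMap K K' t⟯) K').comp (iotaF k' t) =
      (algebraMap K K').comp (algebraMap k⟮t⟯ K) := by
  ext f; rfl

lemma isSeparable_gen' {t : K} (pb : PowerBasis k⟮t⟯ K) [Algebra.IsSeparable k⟮t⟯ K] :
    IsSeparable (k'⟮algebraMap K K' t⟯) (algebraMap K K' pb.gen) := by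
  have hsep : (minpoly k⟮t⟯ pb.gen).Separable := Algebra.IsSeparable.isSeparable _ _
  have hdvd : minpoly (k'⟮algebraMap K K' t⟯) (algebraMap K K' pb.gen) ∣
      (minpoly k⟮t⟯ pb.gen).map (iotaF k' t) := by
    apply minpoly.dvd
    rw [aeval_def, eval₂_map, algebraMap_comp_iotaF, ← hom_eval₂, ← aeval_def, minpoly.aeval,
      map_zero]
  exact (hsep.map (f := iotaF k' t)).of_dvd hdvd

include h1 b in
theorem isSeparable' {t : K} (pb : PowerBasis k⟮t⟯ K) [Algebra.IsSeparable k⟮t⟯ K] :
    Algebra.IsSeparable (k'⟮algebraMap K K' t⟯) K' := by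
  rw [← separableClosure.eq_top_iff]
  have hgen : algebraMap K K' pb.gen ∈ separableClosure (k'⟮algebraMap K K' t⟯) K' := by
    rw [mem_separableClosure_iff]; exact isSeparable_gen' pb
  have h2 : (k'⟮algebraMap K K' t⟯)⟮algebraMap K K' pb.gen⟯ = ⊤ :=
    adjoin_eq_top_of_algebra _ _ ((pb' h1 b pb).adjoin_gen_eq_top)
  rw [eq_top_iff, ← h2, adjoin_simple_le_iff]
  exact hgen

/-- images of `k[t]` lie in `k'[t']`. -/
lemma map_mem_algebraAdjoin {t : K} {s : K} (hs : s ∈ Algebra.adjoin k ({t} : Set K)) :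
    algebraMap K K' s ∈ Algebra.adjoin k' ({algebraMap K K' t} : Set K') := by
  induction hs using Algebra.adjoin_induction with
  | mem x hx =>
    rw [Set.mem_singleton_iff] at hx; subst hx
    exact Algebra.self_mem_adjoin_singleton _ _
  | algebraMap c =>
    rw [← IsScalarTower.algebraMap_apply, IsScalarTower.algebraMap_apply k k' K']
    exact Subalgebra.algebraMap_mem _ _
  | add x y _ _ hx hy => rw [map_add]; exact Subalgebra.add_mem _ hx hy
  | mul x y _ _ hx hy => rw [map_mul]; exact Subalgebra.mul_mem _ hx hy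

/-- the ring map `k[t] → k'[t']`. -/
noncomputable def iotaR (t : K) :
    Algebra.adjoin k ({t} : Set K) →+* Algebra.adjoin k' ({algebraMap K K' t} : Set K') :=
  ((algebraMap K K').comp (Algebra.adjoin k ({t} : Set K)).val.toRingHom).codRestrict
    (Algebra.adjoin k' ({algebraMap K K' t} : Set K')) (fun s => map_mem_algebraAdjoin s.2)

lemma isIntegral_map_of_isIntegral {t : K} {x : K}
    (hx : IsIntegral (Algebra.adjoin k ({t} : Set K)) x) :
    IsIntegral (Algebra.adjoin k' ({algebraMap K K' t} : Set K')) (algebraMap K K' x) :=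
  IsIntegral.map_of_comp_eq (iotaR (k' := k') (K' := K') t) (algebraMap K K') (by ext; rfl) hx

/-- elements of `K'` integral over `k[t]` are integral over `k'[t']`. -/
lemma isIntegral_of_isIntegral_adjoin {t : K} {z : K'}
    (hz : IsIntegral (Algebra.adjoin k ({t} : Set K)) z) :
    IsIntegral (Algebra.adjoin k' ({algebraMap K K' t} : Set K')) z := by
  obtain ⟨p, hp, hpz⟩ := hz
  refine ⟨p.map (iotaR (k' := k') (K' := K') t), hp.map _, ?_⟩
  rw [eval₂_map]
  exact hpz

include h1 b in
theorem discr_mul_mem {t : K} (ht : Transcendental k' (algebraMap K K' t))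
    (pb : PowerBasis k⟮t⟯ K) [Algebra.IsSeparable k⟮t⟯ K]
    (hint : IsIntegral (Algebra.adjoin k ({t} : Set K)) pb.gen) {z : K'}
    (hz : IsIntegral (Algebra.adjoin k' ({algebraMap K K' t} : Set K')) z)
    (S : Subring K) (hSk : ∀ c : k, algebraMap k K c ∈ S) (hSt : t ∈ S) (hSy : pb.gen ∈ S) :
    algebraMap K K' (algebraMap k⟮t⟯ K (Algebra.discr k⟮t⟯ pb.basis)) * z ∈
      Algebra.adjoin (S.map (algebraMap K K')) (Set.range (algebraMap k' K')) := by
  haveI : IsIntegrallyClosed (Algebra.adjoin k' ({algebraMap K K' t} : Set K')) :=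
    isIntegrallyClosed_adjoin_of_transcendental ht
  haveI : Module.Finite (k'⟮algebraMap K K' t⟯) K' := Module.Finite.of_basis (basis' h1 b pb)
  haveI := isSeparable' h1 b pb
  have key := Algebra.discr_mul_isIntegral_mem_adjoin (K := k'⟮algebraMap K K' t⟯)
    (R := Algebra.adjoin k' ({algebraMap K K' t} : Set K')) (B := pb' h1 b pb)
    (isIntegral_map_of_isIntegral hint) hz
  have hd : Algebra.discr (k'⟮algebraMap K K' t⟯) (pb' h1 b pb).basis =
      iotaF k' t (Algebra.discr k⟮t⟯ pb.basis) := discr_map h1 b pb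
  rw [hd, Algebra.smul_def] at key
  have hT : ∀ r ∈ Algebra.adjoin k' ({algebraMap K K' t} : Set K'),
      r ∈ Algebra.adjoin (S.map (algebraMap K K')) (Set.range (algebraMap k' K')) := by
    intro r hr
    induction hr using Algebra.adjoin_induction with
    | mem x hx =>
      rw [Set.mem_singleton_iff] at hx; subst hx
      exact Subalgebra.algebraMap_mem _ (⟨algebraMap K K' t, ⟨t, hSt, rfl⟩⟩ :
        S.map (algebraMap K K'))
    | algebraMap c => exact Algebra.subset_adjoin ⟨c, rfl⟩
    | add x y _ _ hx hy => exact Subalgebra.add_mem _ hx hy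
    | mul x y _ _ hx hy => exact Subalgebra.mul_mem _ hx hy
  have hT2 : ∀ w ∈ Algebra.adjoin (Algebra.adjoin k' ({algebraMap K K' t} : Set K'))
      ({(pb' h1 b pb).gen} : Set K'),
      w ∈ Algebra.adjoin (S.map (algebraMap K K')) (Set.range (algebraMap k' K')) := by
    intro w hw
    induction hw using Algebra.adjoin_induction with
    | mem x hx =>
      rw [Set.mem_singleton_iff] at hx; subst hx
      exact Subalgebra.algebraMap_mem _ (⟨algebraMap K K' pb.gen, ⟨pb.gen, hSy, rfl⟩⟩ :
        S.map (algebraMap K K'))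
    | algebraMap r => exact hT r r.2
    | add x y _ _ hx hy => exact Subalgebra.add_mem _ hx hy
    | mul x y _ _ hx hy => exact Subalgebra.mul_mem _ hx hy
  exact hT2 _ key

end B

end Groth.Agent.Lib.LeadSing
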