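import Groth.Agent.Lib.LeadNST4
import Groth.Agent.Lib.LeadSingB
import Groth.Agent.Lib.LeadSingC

set_option autoImplicit false
set_option maxHeartbeats 400000
set_option linter.style.haveILetI false
set_option linter.unusedSectionVars false
set_option linter.unusedVariables false

/-! A place away from the poles of `t` and the zeros of the discriminant is nonsingular with
respect to every finite constant extension. -/

namespace Groth.Agent.Lib.LeadSing

open FunFld WithZero Polynomial IntermediateField Groth.Agent.Lib.LeadFG Groth.Agent.Lib.LeadNST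

section D

/-- integrality over the integral closure (as a subring) descends. -/
lemma isIntegral_of_isIntegral_closure' {A₀ L : Type*} [CommRing A₀] [Field L] [Algebra A₀ L]
    {x : L} (hx : IsIntegral (integralClosure A₀ L).toSubring x) : IsIntegral A₀ x := by
  have h2 : IsIntegral (integralClosure A₀ L) x := hx
  exact isIntegral_trans x h2

variable {k k' K K' : Type*} [Field k] [Field k'] [Field K] [Field K']
  [Algebra k k'] [Algebra k K] [Algebra K K'] [Algebra k' K'] [Algebra k K']
  [IsScalarTower k k' K'] [IsScalarTower k K K'] [FiniteDimensional k k']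

lemma transcendental_map {t : K} (ht : Transcendental k t) :
    Transcendental k' (algebraMap K K' t) := by
  intro h
  apply ht
  have h2 : IsAlgebraic k (algebraMap K K' t) := h.restrictScalars k
  exact (isAlgebraic_algebraMap_iff (algebraMap K K').injective).mp h2

lemma val_le_one_of_isIntegral_adjoin (P : Place k K) {t : K} (hPt : P.1 t ≤ 1) {y : K}
    (hy : IsIntegral (Algebra.adjoin k ({t} : Set K)) y) : P.1 y ≤ 1 := by
  have hle : (Algebra.adjoin k ({t} : Set K)).toSubring ≤ P.O.toSubring := by
    intro s hs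
    have hs' : s ∈ Algebra.adjoin k ({t} : Set K) := hs
    rw [Algebra.adjoin_singleton_eq_range_aeval] at hs'
    obtain ⟨q, rfl⟩ := hs'
    exact val_aeval_le_one P hPt q
  have hy' : IsIntegral (Algebra.adjoin k ({t} : Set K)).toSubring y := hy
  exact val_le_one_of_isIntegral_subring P hle hy'

theorem nonsingular_of_good
    (h1 : Function.Bijective (Algebra.TensorProduct.productMap
      (IsScalarTower.toAlgHom k k' K') (IsScalarTower.toAlgHom k K K')))
    (hK : IsFF k K) {t : K} (ht : Transcendental k t)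
    (pb : PowerBasis k⟮t⟯ K) [Algebra.IsSeparable k⟮t⟯ K]
    (hint : IsIntegral (Algebra.adjoin k ({t} : Set K)) pb.gen)
    (P : Place k K) (hPt : P.1 t ≤ 1)
    (hPD : P.1 (algebraMap k⟮t⟯ K (Algebra.discr k⟮t⟯ pb.basis)) = 1) :
    integralClosure (OE K' P) K' =
      Algebra.adjoin (OE K' P) (Set.range (algebraMap k' K')) := by
  classical
  rw [integralClosure_eq_adjoin_iff]
  swap
  · rintro _ ⟨c, rfl⟩
    exact isIntegral_OE_of_isIntegral P
      ((Algebra.IsIntegral.isIntegral (R := k) c).map (IsScalarTower.toAlgHom k k' K'))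
  intro z hz
  let A₀ : Subalgebra k K := Algebra.adjoin k ({t} : Set K)
  let R₀ : Subring K' := (integralClosure A₀ K').toSubring
  let MK : Submonoid K :=
    { carrier := {e | P.1 e = 1 ∧ IsIntegral A₀ e}
      mul_mem' := fun {a b} ha hb => ⟨by rw [map_mul, ha.1, hb.1, one_mul], ha.2.mul hb.2⟩
      one_mem' := ⟨map_one _, isIntegral_one⟩ }
  let M : Submonoid K' := MK.map (algebraMap K K')
  have hM : ∀ s ∈ M, s ∈ R₀ := by
    rintro _ ⟨e, he, rfl⟩
    exact he.2.algebraMap
  have hO : ∀ c ∈ OE K' P, ∃ s ∈ M, s * c ∈ R₀ := by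
    rintro _ ⟨α, hα, rfl⟩
    obtain ⟨e, he1, he2, he3⟩ := exists_unit_mul_integral hK ht P hPt hα
    refine ⟨algebraMap K K' e, ⟨e, ⟨he1, he2⟩, rfl⟩, ?_⟩
    have : algebraMap K K' e * algebraMap K K' α = algebraMap K K' (e * α) := (map_mul _ _ _).symm
    show algebraMap K K' e * algebraMap K K' α ∈ R₀
    rw [this]
    exact he3.algebraMap
  obtain ⟨s, ⟨e, he, rfl⟩, hs⟩ := exists_mul_isIntegral R₀ (OE K' P) M hM hO hz
  have hz' : IsIntegral A₀ (algebraMap K K' e * z) := isIntegral_of_isIntegral_closure' hs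
  have hz'' := isIntegral_of_isIntegral_adjoin (k' := k') hz'
  have hmem := discr_mul_mem h1 (Module.finBasis k k') (transcendental_map ht) pb hint hz''
    P.O.toSubring (fun c => P.2.1 c) hPt (val_le_one_of_isIntegral_adjoin P hPt hint)
  set D : K := algebraMap k⟮t⟯ K (Algebra.discr k⟮t⟯ pb.basis) with hD
  have hu : P.1 (D * e) = 1 := by rw [map_mul, hPD, he.1, one_mul]
  have hu0 : D * e ≠ 0 := by
    intro h; rw [h, map_zero] at hu; exact zero_ne_one hu
  have hinv : P.1 (D * e)⁻¹ ≤ 1 := by rw [map_inv₀, hu, inv_one]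
  have hzeq : z = algebraMap K K' (D * e)⁻¹ * (algebraMap K K' D * (algebraMap K K' e * z)) := by
    rw [← mul_assoc, ← mul_assoc, ← map_mul, ← map_mul, mul_assoc (D * e)⁻¹, inv_mul_cancel₀ hu0,
      map_one, one_mul]
  rw [hzeq]
  exact Subalgebra.mul_mem _
    (Subalgebra.algebraMap_mem _ (⟨_, mem_OE hinv⟩ : OE K' P)) hmem

end D

end Groth.Agent.Lib.LeadSing
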