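import Mathlib
import Groth.Agent.Lib.LeadSmA
import Groth.Agent.Lib.Helper19KosApi

/-!
# The obstruction of a chart along a small extension without coefficient field (for S12310)

`p : A' → A` is a surjection of augmented rings with kernel `(t)` killed by the augmentation ideal
of `A'`.  For a chart `(τ, F)` of a deformation over `A` and lifts `F'` of the `F s`, every relation
`q` among the `f s` lifts to a family `Q'` which is a relation modulo `t`; writing
`∑ Q'_s F'_s = t · G`, the image of `G` in `B₀` only depends on `q`.  This is an `S₀`-linear map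
on the relation module killing the Koszul relations; if it extends to the free module the lifts
`F'` can be corrected so that all relations lift.
-/

set_option autoImplicit false
set_option maxHeartbeats 400000
set_option linter.style.haveILetI false
set_option linter.unusedSectionVars false
set_option linter.unusedVariables false

universe u

namespace Groth.Agent.Lib.LeadSm

open MvPolynomial Groth.Agent.Lib.LeadHull Groth.Agent.Lib.Helper19 Groth.Agent.Lib.LeadObs

variable {k B₀ : Type u} [Field k] [CommRing B₀] [Algebra k B₀] {ι σ : Type u}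
  [Algebra (MvPolynomial ι k) B₀] [IsScalarTower k (MvPolynomial ι k) B₀]
  {f : σ → MvPolynomial ι k}

variable {A' A : Type u} [CommRing A'] [CommRing A]
  {r' : A' →+* k} {r : A →+* k} {p : A' →+* A} {t : A'}

/-- a small extension of augmented rings with nilpotent augmentation ideals and kernel `(t)`. -/
structure SmExt (r' : A' →+* k) (r : A →+* k) (p : A' →+* A) (t : A') : Prop where
  hrp : ∀ a, r (p a) = r' a
  hps : Function.Surjective p
  hrs' : Function.Surjective r'
  hker : ∀ a, p a = 0 → ∃ b, a = t * b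
  hpt : p t = 0
  hJ : ∀ a, r' a = 0 → a * t = 0
  hann : ∀ a, a * t = 0 → r' a = 0
  hnil : IsNilpotent (RingHom.ker r)
  hnil' : IsNilpotent (RingHom.ker r')

namespace SmExt

variable (X : SmExt r' r p t)

include X in
theorem hrs : Function.Surjective r := fun c => by
  obtain ⟨a, ha⟩ := X.hrs' c
  exact ⟨p a, (X.hrp a).trans ha⟩

include X in
theorem red_p (z : MvPolynomial ι A') : map r (map p z) = map r' z :=
  map_map_of_comp p r r' X.hrp z

include X in
theorem pm_surj : Function.Surjective (map (σ := ι) p) := map_surjective p X.hps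

include X in
theorem rm_surj : Function.Surjective (map (σ := ι) r') := map_surjective r' X.hrs'

include X in
theorem mr_red_p (Q' : σ →₀ MvPolynomial ι A') :
    mr (map r) (mr (map p) Q') = mr (map r') Q' := by
  rw [mr_mr]
  exact mr_congr (fun z => X.red_p z) _

include X in
/-- polynomials killed by `p` are divisible by `t`. -/
theorem exists_C_mul (z : MvPolynomial ι A') (hz : map p z = 0) :
    ∃ G : MvPolynomial ι A', z = C t * G := by
  classical
  have h0 : ∀ m, p (coeff m z) = 0 := fun m => by rw [← coeff_map, hz, coeff_zero]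
  choose b hb using fun m => X.hker (coeff m z) (h0 m)
  refine ⟨∑ m ∈ z.support, monomial m (b m), ?_⟩
  ext m
  rw [coeff_C_mul, coeff_sum]
  simp only [coeff_monomial]
  rw [Finset.sum_ite_eq']
  split_ifs with h
  · exact hb m
  · rw [mul_zero]
    exact MvPolynomial.notMem_support_iff.mp h

include X in
theorem C_mul_eq_zero (G : MvPolynomial ι A') (hG : map r' G = 0) : C t * G = 0 := by
  ext m
  rw [coeff_C_mul, coeff_zero, mul_comm]
  refine X.hJ _ ?_
  rw [← coeff_map, hG, coeff_zero]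

include X in
theorem red_eq_zero (G : MvPolynomial ι A') (h : C t * G = 0) : map r' G = 0 := by
  ext m
  rw [coeff_map, coeff_zero]
  apply X.hann
  have h1 := congrArg (coeff m) h
  rw [coeff_C_mul, coeff_zero] at h1
  rw [mul_comm]
  exact h1

include X in
theorem red_eq (G G' : MvPolynomial ι A') (h : C t * G = C t * G') : map r' G = map r' G' := by
  have h1 : C t * (G - G') = 0 := by rw [mul_sub, h, sub_self]
  have h2 := X.red_eq_zero _ h1
  rw [map_sub, sub_eq_zero] at h2
  exact h2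

end SmExt

variable {D : DefRing r (algebraMap k B₀)}

theorem exists_relLift' (ch : Chart f D) (hps : Function.Surjective p) :
    Nonempty (RelLift ch p) := by
  choose F' hF' using fun s => map_surjective (σ := ι) p hps (ch.F s)
  exact ⟨⟨F', hF'⟩⟩

section inrel

variable {ch : Chart f D} {Q' Q'' : σ →₀ MvPolynomial ι A'}

theorem inRel_add (h : InRel ch p Q') (h' : InRel ch p Q'') : InRel ch p (Q' + Q'') := by
  unfold InRel at *
  rw [mr_add, map_add, h, h', add_zero]

theorem inRel_sub (h : InRel ch p Q') (h' : InRel ch p Q'') : InRel ch p (Q' - Q'') := by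
  unfold InRel at *
  rw [mr_sub, map_sub, h, h', sub_zero]

theorem inRel_smul (h : InRel ch p Q') (g : MvPolynomial ι A') : InRel ch p (g • Q') := by
  unfold InRel at *
  rw [mr_smul, map_smul, h, smul_zero]

end inrel

theorem lc_mul_left {R : Type u} [CommRing R] (c : R) (v : σ → R) (Q : σ →₀ R) :
    Finsupp.linearCombination R (fun s => c * v s) Q = c * Finsupp.linearCombination R v Q := by
  induction Q using Finsupp.induction_linear with
  | zero => rw [map_zero, map_zero, mul_zero]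
  | add x y hx hy => rw [map_add, map_add, hx, hy, mul_add]
  | single s a =>
    rw [Finsupp.linearCombination_single, Finsupp.linearCombination_single, smul_eq_mul,
      smul_eq_mul, mul_left_comm]

theorem algebraMap_lc (h : σ → MvPolynomial ι k) (q : σ →₀ MvPolynomial ι k) :
    algebraMap (MvPolynomial ι k) B₀ (Finsupp.linearCombination _ h q) =
      Finsupp.linearCombination (MvPolynomial ι k)
        (fun s => algebraMap (MvPolynomial ι k) B₀ (h s)) q := by
  induction q using Finsupp.induction_linear with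
  | zero => rw [map_zero, map_zero, map_zero]
  | add x y hx hy => rw [map_add, map_add, map_add, hx, hy]
  | single s a =>
    rw [Finsupp.linearCombination_single, Finsupp.linearCombination_single, smul_eq_mul, map_mul,
      Algebra.smul_def]

theorem lc_eq_zero_of_mem_Q' (q : Kos.Q (MvPolynomial ι k) f) :
    Finsupp.linearCombination _ f (q : σ →₀ MvPolynomial ι k) = 0 :=
  LinearMap.mem_ker.mp q.2

theorem linearMap_eq_lc' {M : Type u} [AddCommGroup M] [Module (MvPolynomial ι k) M]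
    (G : (σ →₀ MvPolynomial ι k) →ₗ[MvPolynomial ι k] M) (x : σ →₀ MvPolynomial ι k) :
    G x = Finsupp.linearCombination (MvPolynomial ι k) (fun s => G (Finsupp.single s 1)) x := by
  induction x using Finsupp.induction_linear with
  | zero => rw [map_zero, map_zero]
  | add x y hx hy => rw [map_add, map_add, hx, hy]
  | single s a =>
    rw [Finsupp.linearCombination_single, ← map_smul, Finsupp.smul_single, smul_eq_mul, mul_one]

section cocycle

variable (X : SmExt r' r p t) (Pf : Pres B₀ f) (ch : Chart f D) (L : RelLift ch p)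

theorem relLift_map_p_lc (Q' : σ →₀ MvPolynomial ι A') :
    map p (Finsupp.linearCombination _ L.F' Q') =
      Finsupp.linearCombination _ ch.F (mr (map p) Q') := by
  rw [lc_mr]
  exact lc_congr L.hF' _

include X in
theorem relLift_red_F' (s : σ) : map r' (L.F' s) = f s := by
  rw [← X.red_p, L.hF', ch.red_F]

include X in
theorem relLift_red_lc (Q' : σ →₀ MvPolynomial ι A') :
    map r' (Finsupp.linearCombination _ L.F' Q') =
      Finsupp.linearCombination _ f (mr (map r') Q') := by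
  rw [lc_mr]
  exact lc_congr (relLift_red_F' X ch L) _

/-- the value `b` of the obstruction on the lifted family `Q'`. -/
def Ob (t : A') (r' : A' →+* k) {ch : Chart f D} (L : RelLift ch p)
    (Q' : σ →₀ MvPolynomial ι A') (b : B₀) : Prop :=
  ∃ G : MvPolynomial ι A', Finsupp.linearCombination _ L.F' Q' = C t * G ∧
    algebraMap (MvPolynomial ι k) B₀ (map r' G) = b

variable {ch L}

include X in
theorem Ob.unique {Q' : σ →₀ MvPolynomial ι A'} {b b' : B₀} (h : Ob t r' L Q' b)
    (h' : Ob t r' L Q' b') : b = b' := by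
  obtain ⟨G, hG, hb⟩ := h
  obtain ⟨G', hG', hb'⟩ := h'
  rw [← hb, ← hb', X.red_eq G G' (hG.symm.trans hG')]

theorem Ob.add {Q' Q'' : σ →₀ MvPolynomial ι A'} {b b' : B₀} (h : Ob t r' L Q' b)
    (h' : Ob t r' L Q'' b') : Ob t r' L (Q' + Q'') (b + b') := by
  obtain ⟨G, hG, hb⟩ := h
  obtain ⟨G', hG', hb'⟩ := h'
  exact ⟨G + G', by rw [map_add, hG, hG', mul_add], by rw [map_add, map_add, hb, hb']⟩

theorem Ob.smul {Q' : σ →₀ MvPolynomial ι A'} {b : B₀} (h : Ob t r' L Q' b)
    (g : MvPolynomial ι A') :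
    Ob t r' L (g • Q') (algebraMap (MvPolynomial ι k) B₀ (map r' g) * b) := by
  obtain ⟨G, hG, hb⟩ := h
  exact ⟨g * G, by rw [map_smul, hG, smul_eq_mul, mul_left_comm], by rw [map_mul, map_mul, hb]⟩

variable (ch L)

include X in
theorem ob_exists {Q' : σ →₀ MvPolynomial ι A'} (hQ : InRel ch p Q') :
    ∃ b, Ob t r' L Q' b := by
  have h0 : map p (Finsupp.linearCombination _ L.F' Q') = 0 := by
    rw [relLift_map_p_lc ch L]
    exact hQ
  obtain ⟨G, hG⟩ := X.exists_C_mul _ h0
  exact ⟨_, G, hG, rfl⟩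

include X Pf in
theorem ob_of_map_p_eq_zero (E : σ →₀ MvPolynomial ι A') (hE : ∀ s, map p (E s) = 0) :
    Ob t r' L E 0 := by
  choose Gs hGs using fun s => X.exists_C_mul (E s) (hE s)
  refine ⟨∑ s ∈ E.support, Gs s * L.F' s, ?_, ?_⟩
  · rw [Finsupp.linearCombination_apply, Finsupp.sum, Finset.mul_sum]
    refine Finset.sum_congr rfl (fun s _ => ?_)
    rw [smul_eq_mul, ← mul_assoc, ← hGs s]
  · rw [map_sum, map_sum]
    refine Finset.sum_eq_zero (fun s _ => ?_)
    rw [map_mul, map_mul, relLift_red_F' X ch L, Pf.hf, mul_zero]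

include X in
theorem ob_C_smul (a' : A') (ha' : r' a' = 0) (N' : σ →₀ MvPolynomial ι A')
    (hN : InRel ch p N') : Ob t r' L ((C a' : MvPolynomial ι A') • N') 0 := by
  obtain ⟨b, G₁, hG₁, hb⟩ := ob_exists X ch L hN
  refine ⟨0, ?_, by rw [map_zero, map_zero]⟩
  rw [map_smul, smul_eq_mul, hG₁, ← mul_assoc, ← C_mul, X.hJ a' ha', C_0, zero_mul, mul_zero]

include X Pf in
/-- **well-definedness**: a relation modulo `t` which vanishes modulo the augmentation ideal has
obstruction zero. -/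
theorem ob_zero_of_red_eq_zero (Q' : σ →₀ MvPolynomial ι A') (hQ : InRel ch p Q')
    (hQ0 : mr (map r') Q' = 0) : Ob t r' L Q' 0 := by
  have hN' : ∀ s, map r (mr (map p) Q' s) = 0 := fun s => by
    rw [mr_apply, X.red_p]
    exact (mr_eq_zero_iff _ _).mp hQ0 s
  refine chart_rel_induction Pf X.hrs X.hnil ch
    (fun N => ∀ Q' : σ →₀ MvPolynomial ι A', mr (map p) Q' = N → Ob t r' L Q' 0)
    ?_ ?_ (mr (map p) Q') hQ hN' Q' rfl
  · intro a ha N₁ hN₁ Q₁ hQ₁
    obtain ⟨a', ha'⟩ := X.hps a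
    obtain ⟨N₁', hN₁'⟩ := mr_surjective (σ := σ) (map p) X.pm_surj N₁
    obtain ⟨E, hE⟩ : ∃ E : σ →₀ MvPolynomial ι A',
        E = Q₁ - (C a' : MvPolynomial ι A') • N₁' := ⟨_, rfl⟩
    have hE0 : mr (map p) E = 0 := by
      rw [hE, mr_sub, mr_smul, hQ₁, hN₁', map_C, ha', sub_self]
    have hEs : ∀ s, map p (E s) = 0 := fun s => (mr_eq_zero_iff _ _).mp hE0 s
    have hQ₁eq : Q₁ = (C a' : MvPolynomial ι A') • N₁' + E := by rw [hE]; abel
    have hrel : InRel ch p N₁' := by
      unfold InRel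
      rw [hN₁']
      exact hN₁
    have hra' : r' a' = 0 := by rw [← X.hrp, ha', ha]
    have h1 := ob_C_smul X ch L a' hra' N₁' hrel
    have h2 := ob_of_map_p_eq_zero X Pf ch L E hEs
    have h3 := h1.add h2
    rw [add_zero] at h3
    rw [hQ₁eq]
    exact h3
  · intro x y hx hy Q₁ hQ₁
    obtain ⟨Qx, hQx⟩ := mr_surjective (σ := σ) (map p) X.pm_surj x
    have hQy : mr (map p) (Q₁ - Qx) = y := by rw [mr_sub, hQ₁, hQx]; abel
    have h1 := hx Qx hQx
    have h2 := hy (Q₁ - Qx) hQy
    have h3 := h1.add h2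
    rw [add_zero, add_sub_cancel] at h3
    exact h3

include X Pf in
theorem exists_inRel_lift' (q : σ →₀ MvPolynomial ι k)
    (hq : Finsupp.linearCombination _ f q = 0) :
    ∃ Q' : σ →₀ MvPolynomial ι A', InRel ch p Q' ∧ mr (map r') Q' = q := by
  obtain ⟨Q, hQ1, hQ2⟩ := chart_exists_rel_lift Pf X.hrs X.hnil ch q hq
  obtain ⟨Q', hQ'⟩ := mr_surjective (σ := σ) (map p) X.pm_surj Q
  refine ⟨Q', ?_, ?_⟩
  · unfold InRel
    rw [hQ']
    exact hQ2
  · rw [← hQ1, ← hQ', X.mr_red_p]

include X Pf in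
theorem exists_ob (q : Kos.Q (MvPolynomial ι k) f) :
    ∃ b : B₀, ∃ Q' : σ →₀ MvPolynomial ι A', InRel ch p Q' ∧
      mr (map r') Q' = (q : σ →₀ MvPolynomial ι k) ∧ Ob t r' L Q' b := by
  obtain ⟨Q', hQ, hQr⟩ := exists_inRel_lift' X Pf ch q.1 (lc_eq_zero_of_mem_Q' q)
  obtain ⟨b, hb⟩ := ob_exists X ch L hQ
  exact ⟨b, Q', hQ, hQr, hb⟩

/-- the obstruction cocycle, as a function. -/
noncomputable def hfun (q : Kos.Q (MvPolynomial ι k) f) : B₀ :=
  Classical.choose (exists_ob X Pf ch L q)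

theorem hfun_spec {Q' : σ →₀ MvPolynomial ι A'} (hQ : InRel ch p Q')
    (q : Kos.Q (MvPolynomial ι k) f) (hq : mr (map r') Q' = (q : σ →₀ MvPolynomial ι k)) :
    Ob t r' L Q' (hfun X Pf ch L q) := by
  obtain ⟨Q₀, h1, h2, h3⟩ := Classical.choose_spec (exists_ob X Pf ch L q)
  have h4 := ob_zero_of_red_eq_zero X Pf ch L (Q' - Q₀) (inRel_sub hQ h1)
    (by rw [mr_sub, hq, h2, sub_self])
  have h5 := h4.add h3
  rw [zero_add, sub_add_cancel] at h5
  exact h5

theorem hfun_add (q q' : Kos.Q (MvPolynomial ι k) f) :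
    hfun X Pf ch L (q + q') = hfun X Pf ch L q + hfun X Pf ch L q' := by
  obtain ⟨Q, hQ, hQr⟩ := exists_inRel_lift' X Pf ch q.1 (lc_eq_zero_of_mem_Q' q)
  obtain ⟨Q2, hQ2, hQ2r⟩ := exists_inRel_lift' X Pf ch q'.1 (lc_eq_zero_of_mem_Q' q')
  have h1 := (hfun_spec X Pf ch L hQ q hQr).add (hfun_spec X Pf ch L hQ2 q' hQ2r)
  have h2 := hfun_spec X Pf ch L (inRel_add hQ hQ2) (q + q')
    (by rw [mr_add, hQr, hQ2r]; rfl)
  exact h2.unique X h1

theorem hfun_smul (g : MvPolynomial ι k) (q : Kos.Q (MvPolynomial ι k) f) :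
    hfun X Pf ch L (g • q) = g • hfun X Pf ch L q := by
  obtain ⟨Q, hQ, hQr⟩ := exists_inRel_lift' X Pf ch q.1 (lc_eq_zero_of_mem_Q' q)
  obtain ⟨g', hg'⟩ := X.rm_surj (ι := ι) g
  have h1 := (hfun_spec X Pf ch L hQ q hQr).smul g'
  have h2 := hfun_spec X Pf ch L (inRel_smul hQ g') (g • q)
    (by rw [mr_smul, hQr, hg']; rfl)
  rw [h2.unique X h1, hg', Algebra.smul_def]

/-- the obstruction cocycle, as a linear map on the relation module. -/
noncomputable def hl : Kos.Q (MvPolynomial ι k) f →ₗ[MvPolynomial ι k] B₀ where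
  toFun := hfun X Pf ch L
  map_add' := hfun_add X Pf ch L
  map_smul' := hfun_smul X Pf ch L

theorem hl_spec {Q' : σ →₀ MvPolynomial ι A'} (hQ : InRel ch p Q')
    (q : Kos.Q (MvPolynomial ι k) f) (hq : mr (map r') Q' = (q : σ →₀ MvPolynomial ι k)) :
    Ob t r' L Q' (hl X Pf ch L q) :=
  hfun_spec X Pf ch L hQ q hq

theorem hl_kos (a b : σ →₀ MvPolynomial ι k) (q : Kos.Q (MvPolynomial ι k) f)
    (hq : (q : σ →₀ MvPolynomial ι k) = Finsupp.linearCombination _ f a • b -
      Finsupp.linearCombination _ f b • a) : hl X Pf ch L q = 0 := by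
  obtain ⟨a', ha'⟩ := mr_surjective (σ := σ) (map r') (X.rm_surj (ι := ι)) a
  obtain ⟨b', hb'⟩ := mr_surjective (σ := σ) (map r') (X.rm_surj (ι := ι)) b
  obtain ⟨Q', hQ'⟩ : ∃ Q' : σ →₀ MvPolynomial ι A',
      Q' = Finsupp.linearCombination _ L.F' a' • b' - Finsupp.linearCombination _ L.F' b' • a' :=
    ⟨_, rfl⟩
  have hrel : InRel ch p Q' := by
    unfold InRel
    rw [hQ', mr_sub, mr_smul, mr_smul, relLift_map_p_lc ch L, relLift_map_p_lc ch L, map_sub,
      map_smul, map_smul, smul_eq_mul, smul_eq_mul, mul_comm, sub_self]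
  have hred : mr (map r') Q' = (q : σ →₀ MvPolynomial ι k) := by
    rw [hq, hQ', mr_sub, mr_smul, mr_smul, relLift_red_lc X ch L, relLift_red_lc X ch L, ha', hb']
  have h0 : Finsupp.linearCombination _ L.F' Q' = 0 := by
    rw [hQ', map_sub, map_smul, map_smul, smul_eq_mul, smul_eq_mul, mul_comm, sub_self]
  have hob : Ob t r' L Q' 0 := ⟨0, by rw [h0, mul_zero], by rw [map_zero, map_zero]⟩
  exact (hl_spec X Pf ch L hrel q hred).unique X hob

theorem hl_F0 (q : Kos.Q (MvPolynomial ι k) f)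
    (hq : (q : σ →₀ MvPolynomial ι k) ∈ Kos.F0 (MvPolynomial ι k) f) :
    hl X Pf ch L q = 0 := by
  have key : ∀ x, ∀ hx : x ∈ Submodule.span (MvPolynomial ι k)
      {y | ∃ a b : σ →₀ MvPolynomial ι k,
        y = Kos.jm (MvPolynomial ι k) f a • b - Kos.jm (MvPolynomial ι k) f b • a},
      ∀ hxQ : x ∈ Kos.Q (MvPolynomial ι k) f, hl X Pf ch L ⟨x, hxQ⟩ = 0 := by
    intro x hx
    refine Submodule.span_induction
      (p := fun x _ => ∀ hxQ : x ∈ Kos.Q (MvPolynomial ι k) f, hl X Pf ch L ⟨x, hxQ⟩ = 0)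
      ?_ ?_ ?_ ?_ hx
    · rintro _ ⟨a, b, rfl⟩ hxQ
      exact hl_kos X Pf ch L a b ⟨_, hxQ⟩ rfl
    · intro hxQ
      exact map_zero (hl X Pf ch L)
    · intro x y hx hy ihx ihy hxy
      have hxQ : x ∈ Kos.Q (MvPolynomial ι k) f := Kos.F0_le_Q _ _ hx
      have hyQ : y ∈ Kos.Q (MvPolynomial ι k) f := Kos.F0_le_Q _ _ hy
      have h : (⟨x + y, hxy⟩ : Kos.Q (MvPolynomial ι k) f) = ⟨x, hxQ⟩ + ⟨y, hyQ⟩ := rfl
      rw [h, map_add, ihx hxQ, ihy hyQ, add_zero]
    · intro a x hx ihx hax
      have hxQ : x ∈ Kos.Q (MvPolynomial ι k) f := Kos.F0_le_Q _ _ hx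
      have h : (⟨a • x, hax⟩ : Kos.Q (MvPolynomial ι k) f) = a • ⟨x, hxQ⟩ := rfl
      rw [h, map_smul, ihx hxQ, smul_zero]
  exact key q.1 hq q.2

include X Pf L in
/-- **if the obstruction cocycle extends to the free module, the lifts of the relations can be
corrected so that every relation lifts.** -/
theorem exists_star_lift
    (hT2 : ∀ G₂ : Kos.Q (MvPolynomial ι k) f →ₗ[MvPolynomial ι k] B₀,
      (∀ q : Kos.Q (MvPolynomial ι k) f,
        (q : σ →₀ MvPolynomial ι k) ∈ Kos.F0 (MvPolynomial ι k) f → G₂ q = 0) →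
      ∃ G : (σ →₀ MvPolynomial ι k) →ₗ[MvPolynomial ι k] B₀,
        ∀ q : Kos.Q (MvPolynomial ι k) f, G (q : σ →₀ MvPolynomial ι k) = G₂ q) :
    ∃ L'' : RelLift ch p, ∀ Q' : σ →₀ MvPolynomial ι A', InRel ch p Q' → Ob t r' L'' Q' 0 := by
  obtain ⟨G, hG⟩ := hT2 (hl X Pf ch L) (hl_F0 X Pf ch L)
  choose h hh using fun s => Pf.surj (G (Finsupp.single s 1))
  choose h' hh' using fun s => X.rm_surj (ι := ι) (h s)
  obtain ⟨L'', hL''⟩ : ∃ L'' : RelLift ch p, ∀ s, L''.F' s = L.F' s - C t * h' s := by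
    refine ⟨⟨fun s => L.F' s - C t * h' s, fun s => ?_⟩, fun s => rfl⟩
    rw [map_sub, map_mul, map_C, X.hpt, C_0, zero_mul, sub_zero, L.hF']
  refine ⟨L'', fun Q' hQ => ?_⟩
  have hq0 : Finsupp.linearCombination _ f (mr (map r') Q') = 0 := by
    rw [← relLift_red_lc X ch L, ← X.red_p, relLift_map_p_lc ch L, hQ, map_zero]
  obtain ⟨q, hq⟩ : ∃ q : Kos.Q (MvPolynomial ι k) f, (q : σ →₀ MvPolynomial ι k) =
      mr (map r') Q' := ⟨⟨_, LinearMap.mem_ker.mpr hq0⟩, rfl⟩
  obtain ⟨G₁, hG₁, hb⟩ := hl_spec X Pf ch L hQ q hq.symm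
  have h1 : Finsupp.linearCombination _ L''.F' Q' =
      C t * (G₁ - Finsupp.linearCombination _ h' Q') := by
    rw [lc_congr hL'' Q', lc_sub_fun L.F' (fun s => C t * h' s) Q', lc_mul_left, hG₁, mul_sub]
  refine ⟨_, h1, ?_⟩
  have hfun : (fun s => algebraMap (MvPolynomial ι k) B₀ (map r' (h' s))) =
      fun s => G (Finsupp.single s 1) := funext fun s => by rw [hh', hh]
  rw [map_sub, map_sub, hb, lc_mr, algebraMap_lc, hfun, ← linearMap_eq_lc' G, ← hq, hG,
    sub_self]

end cocycle

end Groth.Agent.Lib.LeadSm
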