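import Mathlib
import Groth.Agent.Lib.LeadSmB

/-!
# The corrected lifts give a flat lift of the deformation (for S12310)

If every relation modulo `t` has obstruction zero for the lifts `F'`, then `A'[x]/(F')` is flat
over `A'` and lifts the deformation.
-/

set_option autoImplicit false
set_option maxHeartbeats 400000
set_option linter.style.haveILetI false
set_option linter.unusedSectionVars false
set_option linter.unusedVariables false

universe u

namespace Groth.Agent.Lib.LeadSm

open MvPolynomial Groth.Agent.Lib.LeadHull Groth.Agent.Lib.Helper19 Groth.Agent.Lib.LeadObs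
  Groth.Agent.Lib.LeadTrivDef

variable {k B₀ : Type u} [Field k] [CommRing B₀] [Algebra k B₀] {ι σ : Type u}
  [Algebra (MvPolynomial ι k) B₀] [IsScalarTower k (MvPolynomial ι k) B₀]
  {f : σ → MvPolynomial ι k}

variable {A' A : Type u} [CommRing A'] [CommRing A]
  {r' : A' →+* k} {r : A →+* k} {p : A' →+* A} {t : A'} {D : DefRing r (algebraMap k B₀)}

/-! ### the candidate lift `A'[x]/(F')` -/

section candidate

variable (X : SmExt r' r p t) (Pf : Pres B₀ f) (ch : Chart f D) (L : RelLift ch p)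

/-- the candidate lift. -/
abbrev NE : Type u := MvPolynomial ι A' ⧸ Ideal.span (Set.range L.F')

/-- the structure map of the candidate lift. -/
noncomputable def NEγ : A' →+* NE ch L :=
  (Ideal.Quotient.mk (Ideal.span (Set.range L.F'))).comp (C : A' →+* MvPolynomial ι A')

include X Pf in
theorem NE_aux1 : ∀ z ∈ Ideal.span (Set.range L.F'),
    ((algebraMap (MvPolynomial ι k) B₀).comp (map r')) z = 0 := by
  intro z hz
  have hle : Ideal.span (Set.range L.F') ≤
      RingHom.ker ((algebraMap (MvPolynomial ι k) B₀).comp (map r')) := by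
    rw [Ideal.span_le]
    rintro _ ⟨s, rfl⟩
    change ((algebraMap (MvPolynomial ι k) B₀).comp (map r')) (L.F' s) = 0
    rw [RingHom.comp_apply, relLift_red_F' X ch L, Pf.hf]
  exact RingHom.mem_ker.mp (hle hz)

theorem NE_aux2 : ∀ z ∈ Ideal.span (Set.range L.F'), (ch.τ.comp (map p)) z = 0 := by
  intro z hz
  have hle : Ideal.span (Set.range L.F') ≤ RingHom.ker (ch.τ.comp (map p)) := by
    rw [Ideal.span_le]
    rintro _ ⟨s, rfl⟩
    change (ch.τ.comp (map p)) (L.F' s) = 0
    rw [RingHom.comp_apply, L.hF', ch.τ_F]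
  exact RingHom.mem_ker.mp (hle hz)

/-- the projection of the candidate lift to `B₀`. -/
noncomputable def NEπ : NE ch L →+* B₀ :=
  Ideal.Quotient.lift _ ((algebraMap (MvPolynomial ι k) B₀).comp (map r')) (NE_aux1 X Pf ch L)

/-- the map from the candidate lift to the deformation. -/
noncomputable def NEG : NE ch L →+* D.E :=
  Ideal.Quotient.lift _ (ch.τ.comp (map p)) (NE_aux2 ch L)

theorem NEπ_mk (z : MvPolynomial ι A') :
    NEπ X Pf ch L (Ideal.Quotient.mk _ z) = algebraMap (MvPolynomial ι k) B₀ (map r' z) := by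
  unfold NEπ
  rw [Ideal.Quotient.lift_mk]
  rfl

theorem NEG_mk (z : MvPolynomial ι A') :
    NEG ch L (Ideal.Quotient.mk _ z) = ch.τ (map p z) := by
  unfold NEG
  rw [Ideal.Quotient.lift_mk]
  rfl

theorem NEπ_γ (a : A') : NEπ X Pf ch L (NEγ ch L a) = algebraMap k B₀ (r' a) := by
  unfold NEγ
  rw [RingHom.comp_apply, NEπ_mk, map_C, algebraMap_C]

theorem NEG_γ (a : A') : NEG ch L (NEγ ch L a) = D.γ (p a) := by
  unfold NEγ
  rw [RingHom.comp_apply, NEG_mk, map_C, ch.τ_C]

theorem π_NEG (y : NE ch L) : D.π (NEG ch L y) = NEπ X Pf ch L y := by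
  obtain ⟨z, rfl⟩ := Ideal.Quotient.mk_surjective y
  rw [NEG_mk, NEπ_mk, ch.π_τ, X.red_p]

theorem NEπ_surj : Function.Surjective (NEπ X Pf ch L) := by
  intro b
  obtain ⟨g, hg⟩ := Pf.surj b
  obtain ⟨g', hg'⟩ := X.rm_surj (ι := ι) g
  refine ⟨Ideal.Quotient.mk _ g', ?_⟩
  rw [NEπ_mk, hg', hg]

theorem NE_mk_lc (Q' : σ →₀ MvPolynomial ι A') :
    Ideal.Quotient.mk (Ideal.span (Set.range L.F')) (Finsupp.linearCombination _ L.F' Q') = 0 := by
  rw [Ideal.Quotient.eq_zero_iff_mem]
  exact (mem_span_range_iff_lc L.F' _).mpr ⟨Q', rfl⟩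

/-- the kernel of the projection is generated by the augmentation ideal. -/
theorem NE_ker_π (y : NE ch L) (hy : NEπ X Pf ch L y = 0) :
    y ∈ (RingHom.ker r').map (NEγ ch L) := by
  obtain ⟨z, rfl⟩ := Ideal.Quotient.mk_surjective y
  rw [NEπ_mk] at hy
  obtain ⟨q, hq⟩ := (mem_span_range_iff_lc f _).mp (Pf.ker _ hy)
  obtain ⟨q', hq'⟩ := mr_surjective (σ := σ) (map r') (X.rm_surj (ι := ι)) q
  obtain ⟨z₁, hz₁⟩ : ∃ z₁ : MvPolynomial ι A', z₁ = z -
      Finsupp.linearCombination _ L.F' q' := ⟨_, rfl⟩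
  have h1 : z₁ ∈ Ideal.map (C : A' →+* MvPolynomial ι A') (RingHom.ker r') := by
    rw [← MvPolynomial.ker_map, RingHom.mem_ker, hz₁, map_sub, relLift_red_lc X ch L, hq', hq,
      sub_self]
  have h2 : Ideal.Quotient.mk (Ideal.span (Set.range L.F')) z =
      Ideal.Quotient.mk (Ideal.span (Set.range L.F')) z₁ := by
    rw [hz₁, map_sub, NE_mk_lc, sub_zero]
  rw [h2]
  unfold NEγ
  rw [← Ideal.map_map]
  exact Ideal.mem_map_of_mem _ h1

end candidate

/-! ### flatness of the candidate lift -/

section flat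

variable (X : SmExt r' r p t) (Pf : Pres B₀ f) (ch : Chart f D) (L : RelLift ch p)
  (hstar : ∀ Q' : σ →₀ MvPolynomial ι A', InRel ch p Q' → Ob t r' L Q' 0)

include hstar in
/-- the flatness criterion for the candidate lift. -/
theorem NE_crit (y : NE ch L) (hy : NEγ ch L t * y = 0) : NEπ X Pf ch L y = 0 := by
  obtain ⟨z, rfl⟩ := Ideal.Quotient.mk_surjective y
  have hw0 : Ideal.Quotient.mk (Ideal.span (Set.range L.F')) (C t * z) = 0 := by
    rw [map_mul]
    exact hy
  obtain ⟨H', hH'⟩ := (mem_span_range_iff_lc L.F' _).mp (Ideal.Quotient.eq_zero_iff_mem.mp hw0)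
  have hrel : InRel ch p H' := by
    unfold InRel
    rw [← relLift_map_p_lc ch L, hH', map_mul, map_C, X.hpt, C_0, zero_mul]
  obtain ⟨G, hG, hb⟩ := hstar H' hrel
  have h1 : map r' z = map r' G := X.red_eq z G (hH'.symm.trans hG)
  rw [NEπ_mk, h1]
  exact hb

include X Pf hstar in
/-- **the candidate lift is a deformation lifting `D`.** -/
theorem exists_defRing_of_star' :
    ∃ D' : DefRing r' (algebraMap k B₀), Nonempty (DefRing.Hom p D' D) := by
  classical
  obtain ⟨T, b, hsp, hli⟩ := exists_basis (algebraMap k B₀)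
  choose nn hnn using fun i => NEπ_surj X Pf ch L (b i)
  have heD : ∀ i, D.π (NEG ch L (nn i)) = b i := fun i => by rw [π_NEG X Pf, hnn]
  have hbD := D.comb_bijective b (fun i => NEG ch L (nn i)) X.hrs X.hnil hsp hli heD
  -- formulas
  have hπsum : ∀ c : T →₀ A', NEπ X Pf ch L (c.sum fun i a => NEγ ch L a * nn i) =
      (c.mapRange r' (map_zero r')).sum (fun i x => algebraMap k B₀ x * b i) := by
    intro c
    rw [map_finsuppSum, Finsupp.sum_mapRange_index (fun s => by rw [map_zero, zero_mul])]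
    refine Finsupp.sum_congr (fun i _ => ?_)
    rw [map_mul, NEπ_γ, hnn]
  have hGsum : ∀ c : T →₀ A', NEG ch L (c.sum fun i a => NEγ ch L a * nn i) =
      D.comb (fun i => NEG ch L (nn i)) (c.mapRange p (map_zero p)) := by
    intro c
    unfold DefRing.comb
    rw [map_finsuppSum, Finsupp.sum_mapRange_index (fun s => by rw [map_zero, zero_mul])]
    refine Finsupp.sum_congr (fun i _ => ?_)
    rw [map_mul, NEG_γ]
  -- surjectivity of coordinates
  have hsurj : Function.Surjective (fun c : T →₀ A' => c.sum fun i a => NEγ ch L a * nn i) := by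
    refine surjective_coords X.hnil' (NEγ ch L) nn (fun y => ?_)
    obtain ⟨c₀, hc₀⟩ := hsp (NEπ X Pf ch L y)
    obtain ⟨c₁, hc₁⟩ := Finsupp.mapRange_surjective r' (map_zero r') X.hrs' c₀
    refine ⟨c₁, NE_ker_π X Pf ch L _ ?_⟩
    rw [map_sub, hπsum, hc₁, hc₀, sub_self]
  -- injectivity of coordinates
  have hinj : Function.Injective (fun c : T →₀ A' => c.sum fun i a => NEγ ch L a * nn i) := by
    have hzero : ∀ c : T →₀ A', (c.sum fun i a => NEγ ch L a * nn i) = 0 → c = 0 := by
      intro c hc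
      have h1 : c.mapRange p (map_zero p) = 0 := by
        apply hbD.1
        rw [← hGsum, hc, map_zero, DefRing.comb_zero]
      have hp0 : ∀ i, p (c i) = 0 := fun i => by
        have := DFunLike.congr_fun h1 i
        rw [Finsupp.mapRange_apply] at this
        exact this
      -- division by `t`
      obtain ⟨φ, hφ0, hφ⟩ : ∃ φ : A' → A', φ 0 = 0 ∧ ∀ a, p a = 0 → a = t * φ a := by
        refine ⟨fun a => if h : a ≠ 0 ∧ ∃ b, a = t * b then Classical.choose h.2 else 0, ?_, ?_⟩
        · have hn : ¬ ((0 : A') ≠ 0 ∧ ∃ b, (0 : A') = t * b) := fun h => h.1 rfl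
          exact dif_neg hn
        · intro a ha
          by_cases h0 : a = 0
          · have hn : ¬ (a ≠ 0 ∧ ∃ b, a = t * b) := fun h => h.1 h0
            change a = t * (if h : a ≠ 0 ∧ ∃ b, a = t * b then Classical.choose h.2 else 0)
            rw [dif_neg hn, mul_zero, h0]
          · have h : a ≠ 0 ∧ ∃ b, a = t * b := ⟨h0, X.hker a ha⟩
            change a = t * (if h : a ≠ 0 ∧ ∃ b, a = t * b then Classical.choose h.2 else 0)
            rw [dif_pos h]
            exact Classical.choose_spec h.2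
      obtain ⟨y, hy⟩ : ∃ y : NE ch L,
          y = (c.mapRange φ hφ0).sum fun i a => NEγ ch L a * nn i := ⟨_, rfl⟩
      have hsum : NEγ ch L t * y = 0 := by
        rw [← hc, hy, Finsupp.sum_mapRange_index (fun i => by rw [map_zero, zero_mul])]
        unfold Finsupp.sum
        rw [Finset.mul_sum]
        refine Finset.sum_congr rfl (fun i _ => ?_)
        conv_rhs => rw [hφ (c i) (hp0 i)]
        change NEγ ch L t * (NEγ ch L (φ (c i)) * nn i) = NEγ ch L (t * φ (c i)) * nn i
        rw [map_mul, mul_assoc]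
      have hπy : NEπ X Pf ch L y = 0 := NE_crit X Pf ch L hstar y hsum
      have hlam : (c.mapRange φ hφ0).mapRange r' (map_zero r') = 0 := by
        apply hli
        rw [← hπsum, ← hy, hπy]
      ext i
      rw [Finsupp.coe_zero, Pi.zero_apply, hφ (c i) (hp0 i)]
      have h2 := DFunLike.congr_fun hlam i
      rw [Finsupp.mapRange_apply, Finsupp.mapRange_apply, Finsupp.coe_zero, Pi.zero_apply] at h2
      rw [mul_comm]
      exact X.hJ _ h2
    intro c c' hcc
    have hsub : ((c - c').sum fun i a => NEγ ch L a * nn i) = 0 := by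
      have h := Finsupp.sum_sub_index (f := c) (g := c')
        (h := fun i a => NEγ ch L a * nn i) (fun i a a' => by rw [map_sub, sub_mul])
      rw [h]
      exact sub_eq_zero.mpr hcc
    exact sub_eq_zero.mp (hzero _ hsub)
  have hflat : (NEγ ch L).Flat := flat_of_bijective (NEγ ch L) nn ⟨hinj, hsurj⟩
  exact ⟨{ E := NE ch L
           γ := NEγ ch L
           π := NEπ X Pf ch L
           π_γ := NEπ_γ X Pf ch L
           π_surj := NEπ_surj X Pf ch L
           ker_π := NE_ker_π X Pf ch L
           flat := hflat },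
    ⟨{ G := NEG ch L, G_γ := NEG_γ ch L, π_G := π_NEG X Pf ch L }⟩⟩

end flat

/-! ### the lifting theorem -/

include σ in
/-- **if `T²` vanishes (in the form: cocycles on the relation module killing the Koszul relations
extend to the free module), deformations lift along small extensions.** -/
theorem exists_lift_of_T2 (X : SmExt r' r p t) (Pf : Pres B₀ f)
    (hT2 : ∀ G₂ : Kos.Q (MvPolynomial ι k) f →ₗ[MvPolynomial ι k] B₀,
      (∀ q : Kos.Q (MvPolynomial ι k) f,
        (q : σ →₀ MvPolynomial ι k) ∈ Kos.F0 (MvPolynomial ι k) f → G₂ q = 0) →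
      ∃ G : (σ →₀ MvPolynomial ι k) →ₗ[MvPolynomial ι k] B₀,
        ∀ q : Kos.Q (MvPolynomial ι k) f, G (q : σ →₀ MvPolynomial ι k) = G₂ q)
    (D : DefRing r (algebraMap k B₀)) :
    ∃ D' : DefRing r' (algebraMap k B₀), Nonempty (DefRing.Hom p D' D) := by
  obtain ⟨ch⟩ := exists_chart' (f := f) Pf X.hrs X.hnil D
  obtain ⟨L⟩ := exists_relLift' ch X.hps
  obtain ⟨L'', hstar⟩ := exists_star_lift X Pf ch L hT2
  exact exists_defRing_of_star' X Pf ch L'' hstar

end Groth.Agent.Lib.LeadSm
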