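import Mathlib
import Groth.Prelude.Def_SheafNL

/-!
# Base change of the naive cotangent complex along a cocartesian square (T2 helper2)
-/

set_option autoImplicit false
set_option linter.style.haveILetI false
set_option linter.unusedSectionVars false

universe u

open CategoryTheory CategoryTheory.Limits TensorProduct

namespace Groth.Agent.Lib.T2H2.NLBC

section Ker

variable {R S R' S' : Type u} [CommRing R] [CommRing S] [CommRing R'] [CommRing S']
  [Algebra R S] [Algebra R' S'] [Algebra R R'] [Algebra S S'] [Algebra R S']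
  [IsScalarTower R R' S'] [IsScalarTower R S S'] [Algebra.IsPushout R R' S S']

/-- In a cocartesian square, the kernel of the base-changed presentation on the same variables is
generated by the image of the kernel. -/
theorem ker_le_map {ι : Type u} (π : MvPolynomial ι R →ₐ[R] S) (hπ : Function.Surjective π)
    (π' : MvPolynomial ι R' →ₐ[R'] S')
    (h : ∀ i, π' (MvPolynomial.X i) = algebraMap S S' (π (MvPolynomial.X i))) :
    RingHom.ker π'.toRingHom ≤
      Ideal.map (MvPolynomial.map (algebraMap R R')) (RingHom.ker π.toRingHom) := by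
  set φ : MvPolynomial ι R →+* MvPolynomial ι R' := MvPolynomial.map (algebraMap R R') with hφ
  set K : Ideal (MvPolynomial ι R') := Ideal.map φ (RingHom.ker π.toRingHom) with hK
  -- the `R`-algebra map `S → P'/K`
  let φa : MvPolynomial ι R →ₐ[R] MvPolynomial ι R' := MvPolynomial.mapAlgHom (Algebra.ofId R R')
  have hφa : ∀ x, φa x = φ x := fun x => rfl
  let ψ0 : MvPolynomial ι R →ₐ[R] (MvPolynomial ι R' ⧸ K) :=
    ((Ideal.Quotient.mkₐ R' K).restrictScalars R).comp φa
  have hψ0 : ∀ x, π x = 0 → ψ0 x = 0 := by
    intro x hx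
    change Ideal.Quotient.mk K (φa x) = 0
    rw [hφa, Ideal.Quotient.eq_zero_iff_mem]
    exact Ideal.mem_map_of_mem _ (by simpa using hx)
  let g : S →ₐ[R] (MvPolynomial ι R' ⧸ K) :=
    AlgHom.liftOfSurjective π hπ ψ0 (fun x hx => hψ0 x (by simpa using hx))
  have hg : ∀ x, g (π x) = ψ0 x := fun x => AlgHom.liftOfSurjective_apply _ _ _ _ x
  let f0 : R' →ₐ[R] (MvPolynomial ι R' ⧸ K) := (Algebra.ofId R' _).restrictScalars R
  let d : S' →ₐ[R] (MvPolynomial ι R' ⧸ K) :=
    Algebra.pushoutDesc S' f0 g (fun _ _ => Commute.all _ _)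
  have hd : (d.toRingHom.comp π'.toRingHom) = Ideal.Quotient.mk K := by
    apply MvPolynomial.ringHom_ext
    · intro r
      change d (π' (MvPolynomial.C r)) = _
      have : π' (MvPolynomial.C r) = algebraMap R' S' r := by
        rw [← MvPolynomial.algebraMap_eq, AlgHom.commutes]
      rw [this, Algebra.pushoutDesc_left]
      rfl
    · intro i
      change d (π' (MvPolynomial.X i)) = _
      rw [h i, Algebra.pushoutDesc_right, hg]
      change Ideal.Quotient.mk K (φa (MvPolynomial.X i)) = _
      rw [hφa, hφ, MvPolynomial.map_X]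
  intro x hx
  have h1 : Ideal.Quotient.mk K x = d (π' x) := (RingHom.congr_fun hd x).symm
  have h2 : π' x = 0 := by simpa using hx
  rw [h2, map_zero] at h1
  exact Ideal.Quotient.eq_zero_iff_mem.mp h1

end Ker

section Surj

variable {R S R' S' : Type u} [CommRing R] [CommRing S] [CommRing R'] [CommRing S']
  [Algebra R S] [Algebra R' S'] [Algebra R R'] [Algebra S S'] [Algebra R S']
  [IsScalarTower R R' S'] [IsScalarTower R S S']
  {P : Algebra.Extension.{u} R S} {P' : Algebra.Extension.{u} R' S'}

/-- If the kernel of `P'` is generated by the image of the kernel of `P`, the base-changed map on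
`I/I²` is surjective. -/
theorem liftBaseChange_cotangent_map_surjective (f : P.Hom P')
    (hker : P'.ker ≤ Ideal.map f.toRingHom P.ker) :
    Function.Surjective (LinearMap.liftBaseChange S' (Algebra.Extension.Cotangent.map f)) := by
  set α := LinearMap.liftBaseChange S' (Algebra.Extension.Cotangent.map f) with hα
  have key : ∀ x ∈ Ideal.map f.toRingHom P.ker,
      ∃ hx : x ∈ P'.ker, Algebra.Extension.Cotangent.mk ⟨x, hx⟩ ∈ LinearMap.range α := by
    intro x hx
    refine Submodule.span_induction ?_ ?_ ?_ ?_ hx
    · rintro _ ⟨y, hy, rfl⟩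
      have hy' : f.toRingHom y ∈ P'.ker := by
        have := RingHom.congr_arg (algebraMap S S') (show algebraMap P.Ring S y = 0 from hy)
        simpa using this
      refine ⟨hy', ⟨1 ⊗ₜ Algebra.Extension.Cotangent.mk ⟨y, hy⟩, ?_⟩⟩
      rw [hα, LinearMap.liftBaseChange_tmul, one_smul, Algebra.Extension.Cotangent.map_mk]
      rfl
    · refine ⟨P'.ker.zero_mem, ?_⟩
      have : (⟨0, P'.ker.zero_mem⟩ : P'.ker) = 0 := rfl
      rw [this, map_zero]
      exact Submodule.zero_mem _
    · rintro x y _ _ ⟨hx, hx'⟩ ⟨hy, hy'⟩
      refine ⟨P'.ker.add_mem hx hy, ?_⟩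
      have : (⟨x + y, P'.ker.add_mem hx hy⟩ : P'.ker) = ⟨x, hx⟩ + ⟨y, hy⟩ := rfl
      rw [this, map_add]
      exact Submodule.add_mem _ hx' hy'
    · rintro c x _ ⟨hx, hx'⟩
      refine ⟨P'.ker.mul_mem_left c hx, ?_⟩
      have : (⟨c • x, P'.ker.mul_mem_left c hx⟩ : P'.ker) = c • ⟨x, hx⟩ := rfl
      rw [this, map_smul, ← algebraMap_smul S' c]
      exact Submodule.smul_mem _ _ hx'
  intro y
  obtain ⟨⟨x, hx⟩, rfl⟩ := Algebra.Extension.Cotangent.mk_surjective y
  obtain ⟨_, h2⟩ := key x (hker hx)
  exact h2

/-- The four-lemma step: surjective on `I/I²` and injective on the cotangent spaces gives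
surjectivity on `H^{-1}`. -/
theorem bcH1Map_surjective_of (f : P.Hom P')
    (h1 : Function.Surjective (LinearMap.liftBaseChange S' (Algebra.Extension.Cotangent.map f)))
    (h2 : Function.Injective
      (LinearMap.liftBaseChange S' (Algebra.Extension.CotangentSpace.map f))) :
    Function.Surjective (NLCx.bcH1Map f) := by
  rintro ⟨y, hy⟩
  obtain ⟨x, hx⟩ := h1 y
  have key : P'.cotangentComplex ∘ₗ
      LinearMap.liftBaseChange S' (Algebra.Extension.Cotangent.map f) =
      LinearMap.liftBaseChange S' (Algebra.Extension.CotangentSpace.map f) ∘ₗ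
        P.cotangentComplex.baseChange S' := by
    ext z
    simpa using (Algebra.Extension.CotangentSpace.map_cotangentComplex f z).symm
  have hxk : x ∈ NLCx.bcH1 P S' := by
    change (P.cotangentComplex.baseChange S') x = 0
    apply h2
    have := congr($key x)
    simp only [LinearMap.coe_comp, Function.comp_apply] at this
    rw [← this, hx, map_zero]
    exact hy
  refine ⟨⟨x, hxk⟩, ?_⟩
  apply Subtype.ext
  exact hx

end Surj

section SameVars

variable {R S R' S' : Type u} [CommRing R] [CommRing S] [CommRing R'] [CommRing S']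
  [Algebra R S] [Algebra R' S'] [Algebra R R'] [Algebra S S'] [Algebra R S']
  [IsScalarTower R R' S'] [IsScalarTower R S S']
  {ι : Type u} (G : Algebra.Generators R S ι) (G' : Algebra.Generators R' S' ι)
  (h : ∀ i, G'.val i = algebraMap S S' (G.val i))

open MvPolynomial in
theorem sameVarsHom_toRingHom_apply (x : MvPolynomial ι R) :
    ((NLCx.sameVarsHom G G' h).toExtensionHom.toRingHom x : MvPolynomial ι R') =
      MvPolynomial.map (algebraMap R R') x := by
  change MvPolynomial.aeval (fun i => (X i : MvPolynomial ι R')) x = _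
  induction x using MvPolynomial.induction_on with
  | C a => simp [MvPolynomial.algebraMap_eq, IsScalarTower.algebraMap_apply R R' (MvPolynomial ι R')]
  | add p q hp hq => simp [hp, hq]
  | mul_X p i hp => simp [hp]

theorem sameVarsHom_cotangentSpace_map_basis (i : ι) :
    Algebra.Extension.CotangentSpace.map (NLCx.sameVarsHom G G' h).toExtensionHom
      (G.cotangentSpaceBasis i) = G'.cotangentSpaceBasis i := by
  rw [Algebra.Generators.cotangentSpaceBasis_apply, Algebra.Generators.cotangentSpaceBasis_apply]
  refine (Algebra.Extension.CotangentSpace.map_tmul (NLCx.sameVarsHom G G' h).toExtensionHom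
    (1 : S) (MvPolynomial.X i : G.toExtension.Ring)).trans ?_
  rw [map_one]
  congr 2
  exact (sameVarsHom_toRingHom_apply G G' h _).trans (MvPolynomial.map_X _ _)

theorem sameVarsHom_liftBaseChange_cotangentSpace_bijective :
    Function.Bijective (LinearMap.liftBaseChange S'
      (Algebra.Extension.CotangentSpace.map (NLCx.sameVarsHom G G' h).toExtensionHom)) := by
  let bS := G.cotangentSpaceBasis.baseChange S'
  let e : S' ⊗[S] G.toExtension.CotangentSpace ≃ₗ[S'] G'.toExtension.CotangentSpace :=
    bS.equiv G'.cotangentSpaceBasis (Equiv.refl ι)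
  have : LinearMap.liftBaseChange S'
      (Algebra.Extension.CotangentSpace.map (NLCx.sameVarsHom G G' h).toExtensionHom) =
      e.toLinearMap := by
    apply bS.ext
    intro i
    rw [Module.Basis.baseChange_apply, LinearMap.liftBaseChange_tmul, one_smul,
      sameVarsHom_cotangentSpace_map_basis]
    change _ = (bS.equiv G'.cotangentSpaceBasis (Equiv.refl ι)) _
    rw [← Module.Basis.baseChange_apply S' G.cotangentSpaceBasis i]
    exact ((bS.equiv_apply i G'.cotangentSpaceBasis (Equiv.refl ι))).symm
  rw [this]
  exact e.bijective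

variable [Algebra.IsPushout R R' S S']

theorem sameVarsHom_ker_le :
    G'.toExtension.ker ≤
      Ideal.map (NLCx.sameVarsHom G G' h).toExtensionHom.toRingHom G.toExtension.ker := by
  have hφ : (NLCx.sameVarsHom G G' h).toExtensionHom.toRingHom =
      MvPolynomial.map (algebraMap R R') := RingHom.ext (sameVarsHom_toRingHom_apply G G' h)
  rw [hφ]
  have := ker_le_map (R := R) (S := S) (R' := R') (S' := S') (MvPolynomial.aeval G.val)
    G.aeval_val_surjective (MvPolynomial.aeval G'.val) (fun i => by simp [h])
  have hk : G.toExtension.ker = RingHom.ker (MvPolynomial.aeval (R := R) G.val).toRingHom :=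
    G.ker_eq_ker_aeval_val
  have hk' : G'.toExtension.ker = RingHom.ker (MvPolynomial.aeval (R := R') G'.val).toRingHom :=
    G'.ker_eq_ker_aeval_val
  rw [hk, hk']
  exact this

theorem bcH1Map_sameVarsHom_surjective :
    Function.Surjective (NLCx.bcH1Map (NLCx.sameVarsHom G G' h).toExtensionHom) :=
  bcH1Map_surjective_of _
    (liftBaseChange_cotangent_map_surjective _ (sameVarsHom_ker_le G G' h))
    (sameVarsHom_liftBaseChange_cotangentSpace_bijective G G' h).1

end SameVars

section Comp

variable {R S R' S' : Type u} [CommRing R] [CommRing S] [CommRing R'] [CommRing S']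
  [Algebra R S] [Algebra R' S'] [Algebra R R'] [Algebra S S'] [Algebra R S']
  [IsScalarTower R R' S'] [IsScalarTower R S S']
  {P : Algebra.Extension.{u} R S} {P' P'' : Algebra.Extension.{u} R' S'}

/-- `bcH1Map` of a composite with a morphism of extensions of the target. -/
theorem bcH1Map_comp_apply (f : P.Hom P') (g : P'.Hom P'') (x : NLCx.bcH1 P S') :
    NLCx.bcH1Map (g.comp f) x = Algebra.Extension.H1Cotangent.map g (NLCx.bcH1Map f x) := by
  apply Subtype.ext
  change LinearMap.liftBaseChange S' (Algebra.Extension.Cotangent.map (g.comp f)) x.1 =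
    Algebra.Extension.Cotangent.map g
      (LinearMap.liftBaseChange S' (Algebra.Extension.Cotangent.map f) x.1)
  generalize x.1 = z
  induction z with
  | zero => simp
  | add a b ha hb => simp only [map_add, ha, hb]
  | tmul s c =>
    rw [LinearMap.liftBaseChange_tmul, LinearMap.liftBaseChange_tmul, map_smul,
      Algebra.Extension.Cotangent.map_comp]
    rfl

theorem bcH1Map_comp_surjective (f : P.Hom P') (g : P'.Hom P'') (g' : P''.Hom P')
    (hf : Function.Surjective (NLCx.bcH1Map f)) :
    Function.Surjective (NLCx.bcH1Map (g.comp f)) := by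
  intro y
  obtain ⟨y₁, rfl⟩ := (Algebra.Extension.H1Cotangent.equiv g g').surjective y
  obtain ⟨x, rfl⟩ := hf y₁
  exact ⟨x, bcH1Map_comp_apply f g x⟩

end Comp

section Self

variable (R S R' S' : Type u) [CommRing R] [CommRing S] [CommRing R'] [CommRing S']
  [Algebra R S] [Algebra R' S'] [Algebra R R'] [Algebra S S'] [Algebra R S']
  [IsScalarTower R R' S'] [IsScalarTower R S S'] [Algebra.IsPushout R R' S S']

include R in
theorem aeval_algebraMap_surjective :
    Function.Surjective (MvPolynomial.aeval (R := R') (fun s : S => algebraMap S S' s)) := by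
  intro y
  have hbc : IsBaseChange R' (IsScalarTower.toAlgHom R S S').toLinearMap :=
    Algebra.IsPushout.out
  refine hbc.inductionOn y _ ?_ ?_ ?_ ?_
  · exact ⟨0, map_zero _⟩
  · intro s
    exact ⟨MvPolynomial.X s, by simp⟩
  · rintro r y ⟨x, rfl⟩
    exact ⟨r • x, by simp⟩
  · rintro y₁ y₂ ⟨x₁, rfl⟩ ⟨x₂, rfl⟩
    exact ⟨x₁ + x₂, map_add _ _ _⟩

include R in
/-- The base change of the presentation on all elements. -/
noncomputable def selfBC : Algebra.Generators R' S' S :=
  Algebra.Generators.ofSurjective (fun s : S => algebraMap S S' s)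
    (aeval_algebraMap_surjective R S R' S')

theorem bcH1Map_defaultHom_surjective :
    Function.Surjective (NLCx.bcH1Map
      ((Algebra.Generators.self R S).defaultHom
        (Algebra.Generators.self R' S')).toExtensionHom) := by
  let G₁ := selfBC R S R' S'
  have h₁ : ∀ s, G₁.val s = algebraMap S S' ((Algebra.Generators.self R S).val s) := fun s => rfl
  let f₁ := NLCx.sameVarsHom (Algebra.Generators.self R S) G₁ h₁
  let g : G₁.Hom (Algebra.Generators.self R' S') := G₁.defaultHom _
  let g' : (Algebra.Generators.self R' S').Hom G₁ := Algebra.Generators.defaultHom _ _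
  have hcomp : (Algebra.Generators.self R S).defaultHom (Algebra.Generators.self R' S') =
      g.comp f₁ := by
    ext s : 2
    simp [g, f₁, NLCx.sameVarsHom, G₁, selfBC]
  rw [hcomp, Algebra.Generators.Hom.toExtensionHom_comp]
  exact bcH1Map_comp_surjective _ _ g'.toExtensionHom
    (bcH1Map_sameVarsHom_surjective (Algebra.Generators.self R S) G₁ h₁)

end Self

end Groth.Agent.Lib.T2H2.NLBC
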