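import Mathlib
import Groth.Prelude.Def_SheafNL
import Groth.Agent.Lib.T2H2NLBC

/-!
# Flat base change of the naive cotangent complex (T2 helper2)
-/

set_option autoImplicit false
set_option linter.style.haveILetI false
set_option linter.unusedSectionVars false

universe u

open CategoryTheory CategoryTheory.Limits TensorProduct

namespace Groth.Agent.Lib.T2H2.NLBC

section Inj

variable {R S R' S' : Type u} [CommRing R] [CommRing S] [CommRing R'] [CommRing S']
  [Algebra R S] [Algebra R' S'] [Algebra R R'] [Algebra S S'] [Algebra R S']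
  [IsScalarTower R R' S'] [IsScalarTower R S S']
  {P : Algebra.Extension.{u} R S} {P' : Algebra.Extension.{u} R' S'}

/-- If `P'.Ring` is flat over `P.Ring` and the kernel of `P'` is generated by the image of the
kernel of `P`, the base-changed map on `I/I²` is injective. -/
theorem liftBaseChange_cotangent_map_injective (f : P.Hom P')
    (hflat : letI := f.toRingHom.toAlgebra; Module.Flat P.Ring P'.Ring)
    (hker : P'.ker ≤ Ideal.map f.toRingHom P.ker) :
    Function.Injective (LinearMap.liftBaseChange S' (Algebra.Extension.Cotangent.map f)) := by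
  letI := f.toRingHom.toAlgebra
  haveI : Module.Flat P.Ring P'.Ring := hflat
  have hφ : ∀ (p : P.Ring) (c : P'.Ring), p • c = f.toRingHom p * c := fun p c => rfl
  have hmem : ∀ y : P.ker, f.toRingHom y ∈ P'.ker := by
    intro y
    have := RingHom.congr_arg (algebraMap S S') (show algebraMap P.Ring S y = 0 from y.2)
    simpa using this
  set α := LinearMap.liftBaseChange S' (Algebra.Extension.Cotangent.map f) with hα
  -- the map `γ : P' ⊗_P I → S' ⊗_S I/I²`
  let γ₀ : P'.Ring →+ P.ker →+ (S' ⊗[S] P.Cotangent) :=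
    AddMonoidHom.mk' (fun c => AddMonoidHom.mk'
      (fun y => algebraMap P'.Ring S' c ⊗ₜ[S] Algebra.Extension.Cotangent.mk y)
      (by intro a b; rw [map_add, tmul_add]))
      (by intro a b; ext y; simp [add_tmul])
  have hγ₀ : ∀ (p : P.Ring) (c : P'.Ring) (y : P.ker), γ₀ (p • c) y = γ₀ c (p • y) := by
    intro p c y
    change algebraMap P'.Ring S' (p • c) ⊗ₜ[S] Algebra.Extension.Cotangent.mk y =
      algebraMap P'.Ring S' c ⊗ₜ[S] Algebra.Extension.Cotangent.mk (p • y)
    rw [hφ, map_mul, f.algebraMap_toRingHom, map_smul, ← algebraMap_smul S p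
      (Algebra.Extension.Cotangent.mk y), tmul_smul, smul_tmul', Algebra.smul_def]
  let γ : P'.Ring ⊗[P.Ring] P.ker →+ (S' ⊗[S] P.Cotangent) := TensorProduct.liftAddHom γ₀ hγ₀
  have hγ_tmul : ∀ c y, γ (c ⊗ₜ y) =
      algebraMap P'.Ring S' c ⊗ₜ[S] Algebra.Extension.Cotangent.mk y := fun c y => rfl
  have hγ_smul : ∀ (c : P'.Ring) t, γ (c • t) = algebraMap P'.Ring S' c • γ t := by
    intro c t
    induction t with
    | zero => simp
    | add a b ha hb => rw [smul_add, map_add, ha, hb, map_add, smul_add]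
    | tmul c₁ y => rw [smul_tmul', hγ_tmul, hγ_tmul, smul_eq_mul, map_mul, smul_tmul', smul_eq_mul]
  have hγ_surj : Function.Surjective γ := by
    intro z
    induction z with
    | zero => exact ⟨0, map_zero _⟩
    | add a b ha hb =>
      obtain ⟨a', rfl⟩ := ha
      obtain ⟨b', rfl⟩ := hb
      exact ⟨a' + b', map_add _ _ _⟩
    | tmul s x =>
      obtain ⟨c, rfl⟩ := P'.algebraMap_surjective s
      obtain ⟨y, rfl⟩ := Algebra.Extension.Cotangent.mk_surjective x
      exact ⟨c ⊗ₜ y, rfl⟩
  -- the map `β' : P' ⊗_P I → I'`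
  let β₀ : P'.Ring →+ P.ker →+ P'.ker :=
    AddMonoidHom.mk' (fun c => AddMonoidHom.mk'
      (fun y => (⟨c * f.toRingHom y, P'.ker.mul_mem_left c (hmem y)⟩ : P'.ker))
      (by intro a b; apply Subtype.ext; simp [mul_add]))
      (by intro a b; ext y; simp [add_mul])
  have hβ₀ : ∀ (p : P.Ring) (c : P'.Ring) (y : P.ker), β₀ (p • c) y = β₀ c (p • y) := by
    intro p c y
    apply Subtype.ext
    change (p • c) * f.toRingHom y = c * f.toRingHom ((p • y : P.ker) : P.Ring)
    rw [hφ]
    simp only [Submodule.coe_smul, smul_eq_mul, map_mul]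
    ring
  let β' : P'.Ring ⊗[P.Ring] P.ker →+ P'.ker := TensorProduct.liftAddHom β₀ hβ₀
  have hβ'_tmul : ∀ c (y : P.ker), ((β' (c ⊗ₜ y) : P'.ker) : P'.Ring) = c * f.toRingHom y :=
    fun c y => rfl
  have hβ'_smul : ∀ (c : P'.Ring) t, β' (c • t) = c • β' t := by
    intro c t
    induction t with
    | zero => simp
    | add a b ha hb => rw [smul_add, map_add, ha, hb, map_add, smul_add]
    | tmul c₁ y =>
      apply Subtype.ext
      rw [smul_tmul', hβ'_tmul]
      simp only [Submodule.coe_smul, smul_eq_mul, hβ'_tmul]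
      ring
  -- `β'` is injective by flatness
  have hβ'_inj : Function.Injective β' := by
    have h1 : Function.Injective ((Submodule.subtype P.ker).lTensor P'.Ring) :=
      Module.Flat.lTensor_preserves_injective_linearMap _ Subtype.val_injective
    have h2 : ∀ t, ((β' t : P'.ker) : P'.Ring) =
        TensorProduct.rid P.Ring P'.Ring ((Submodule.subtype P.ker).lTensor P'.Ring t) := by
      intro t
      induction t with
      | zero => simp
      | add a b ha hb => simp only [map_add, Submodule.coe_add, ha, hb]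
      | tmul c y =>
        rw [hβ'_tmul, LinearMap.lTensor_tmul, TensorProduct.rid_tmul, Submodule.subtype_apply,
          hφ, mul_comm]
    intro t₁ t₂ h
    apply h1
    apply (TensorProduct.rid P.Ring P'.Ring).injective
    rw [← h2, ← h2, h]
  -- compatibility
  have hcomp : ∀ t, Algebra.Extension.Cotangent.mk (β' t) = α (γ t) := by
    intro t
    induction t with
    | zero => simp
    | add a b ha hb => simp only [map_add, ha, hb]
    | tmul c y =>
      rw [hγ_tmul, hα, LinearMap.liftBaseChange_tmul, Algebra.Extension.Cotangent.map_mk,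
        algebraMap_smul, ← map_smul]
      congr 1
  -- elements of `I'²` come from the kernel of `γ`
  have hK : ∀ x ∈ Ideal.map f.toRingHom (P.ker ^ 2),
      ∃ t', γ t' = 0 ∧ ((β' t' : P'.ker) : P'.Ring) = x := by
    intro x hx
    refine Submodule.span_induction ?_ ?_ ?_ ?_ hx
    · rintro _ ⟨w, hw, rfl⟩
      have hw' : w ∈ P.ker := Ideal.pow_le_self two_ne_zero hw
      refine ⟨1 ⊗ₜ ⟨w, hw'⟩, ?_, ?_⟩
      · rw [hγ_tmul]
        have : Algebra.Extension.Cotangent.mk (⟨w, hw'⟩ : P.ker) = 0 :=
          (Algebra.Extension.Cotangent.mk_eq_zero_iff _).mpr hw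
        rw [this, tmul_zero]
      · rw [hβ'_tmul, one_mul]
    · exact ⟨0, map_zero _, by simp⟩
    · rintro x y _ _ ⟨t₁, h₁, rfl⟩ ⟨t₂, h₂, rfl⟩
      exact ⟨t₁ + t₂, by rw [map_add, h₁, h₂, add_zero], by simp⟩
    · rintro c x _ ⟨t₁, h₁, rfl⟩
      exact ⟨c • t₁, by rw [hγ_smul, h₁, smul_zero], by rw [hβ'_smul]; rfl⟩
  rw [injective_iff_map_eq_zero]
  intro z hz
  obtain ⟨t, rfl⟩ := hγ_surj z
  rw [← hcomp, Algebra.Extension.Cotangent.mk_eq_zero_iff] at hz
  have hz' : ((β' t : P'.ker) : P'.Ring) ∈ Ideal.map f.toRingHom (P.ker ^ 2) := by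
    rw [Ideal.map_pow]
    exact Ideal.pow_right_mono hker 2 hz
  obtain ⟨t', ht', hbt'⟩ := hK _ hz'
  have : t = t' := hβ'_inj (Subtype.ext hbt'.symm)
  rw [this, ht']

end Inj

section SameVarsFlat

variable {R S R' S' : Type u} [CommRing R] [CommRing S] [CommRing R'] [CommRing S']
  [Algebra R S] [Algebra R' S'] [Algebra R R'] [Algebra S S'] [Algebra R S']
  [IsScalarTower R R' S'] [IsScalarTower R S S']
  {ι : Type u} (G : Algebra.Generators R S ι) (G' : Algebra.Generators R' S' ι)
  (h : ∀ i, G'.val i = algebraMap S S' (G.val i))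

theorem sameVarsHom_flat [Module.Flat R R'] :
    letI := (NLCx.sameVarsHom G G' h).toExtensionHom.toRingHom.toAlgebra
    Module.Flat G.toExtension.Ring G'.toExtension.Ring := by
  have h1 : (NLCx.sameVarsHom G G' h).toExtensionHom.toRingHom.toAlgebra =
      (MvPolynomial.algebraMvPolynomial : Algebra (MvPolynomial ι R) (MvPolynomial ι R')) := by
    apply Algebra.algebra_ext
    intro r
    exact sameVarsHom_toRingHom_apply G G' h r
  change @Module.Flat (MvPolynomial ι R) (MvPolynomial ι R') _ _
    (NLCx.sameVarsHom G G' h).toExtensionHom.toRingHom.toAlgebra.toModule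
  rw [h1]
  letI : Algebra (MvPolynomial ι R) (MvPolynomial ι R') := MvPolynomial.algebraMvPolynomial
  have hp : Algebra.IsPushout R (MvPolynomial ι R) R' (MvPolynomial ι R') := inferInstance
  exact Module.Flat.isBaseChange (R := R) (M := R') (S := MvPolynomial ι R) (MvPolynomial ι R')
    hp.out

variable [Algebra.IsPushout R R' S S']

theorem sameVarsHom_liftBaseChange_cotangent_bijective [Module.Flat R R'] :
    Function.Bijective (LinearMap.liftBaseChange S'
      (Algebra.Extension.Cotangent.map (NLCx.sameVarsHom G G' h).toExtensionHom)) :=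
  ⟨liftBaseChange_cotangent_map_injective _ (sameVarsHom_flat G G' h) (sameVarsHom_ker_le G G' h),
    liftBaseChange_cotangent_map_surjective _ (sameVarsHom_ker_le G G' h)⟩

end SameVarsFlat

section IsoCrit

variable {R S R' S' : Type u} [CommRing R] [CommRing S] [CommRing R'] [CommRing S']
  [Algebra R S] [Algebra R' S'] [Algebra R R'] [Algebra S S'] [Algebra R S']
  [IsScalarTower R R' S'] [IsScalarTower R S S']
  {P : Algebra.Extension.{u} R S} {P' : Algebra.Extension.{u} R' S'}

theorem bcMap_f_neg_one (f : P.Hom P') :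
    (NLCx.bcMap (S' := S') f).f (-1) =
      (HomologicalComplex.doubleXIso₀ (ModuleCat.ofHom (P.cotangentComplex.baseChange S'))
        (show (ComplexShape.up ℤ).Rel (-1) 0 by simp)).hom ≫
      (ModuleCat.ofHom (LinearMap.liftBaseChange S' (Algebra.Extension.Cotangent.map f)) ≫
        (HomologicalComplex.doubleXIso₀ (ModuleCat.ofHom P'.cotangentComplex) _).inv) := by
  unfold NLCx.bcMap
  exact HomologicalComplex.mkHomFromDouble_f₀ _ _ _ _ _ _

theorem bcMap_f_zero (f : P.Hom P') :
    (NLCx.bcMap (S' := S') f).f 0 =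
      (HomologicalComplex.doubleXIso₁ (ModuleCat.ofHom (P.cotangentComplex.baseChange S'))
        (show (ComplexShape.up ℤ).Rel (-1) 0 by simp) (by decide)).hom ≫
      (ModuleCat.ofHom (LinearMap.liftBaseChange S' (Algebra.Extension.CotangentSpace.map f)) ≫
        (HomologicalComplex.doubleXIso₁ (ModuleCat.ofHom P'.cotangentComplex) _
          (by decide)).inv) := by
  unfold NLCx.bcMap
  exact HomologicalComplex.mkHomFromDouble_f₁ _ _ _ _ _ _

/-- `bcMap f` is an isomorphism as soon as both components are bijective. -/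
theorem isIso_bcMap (f : P.Hom P')
    (h1 : Function.Bijective (LinearMap.liftBaseChange S' (Algebra.Extension.Cotangent.map f)))
    (h2 : Function.Bijective
      (LinearMap.liftBaseChange S' (Algebra.Extension.CotangentSpace.map f))) :
    IsIso (NLCx.bcMap (S' := S') f) := by
  have hc : ∀ n : ℤ, IsIso ((NLCx.bcMap (S' := S') f).f n) := by
    intro n
    by_cases hn1 : n = -1
    · subst hn1
      rw [bcMap_f_neg_one]
      have hi : IsIso (ModuleCat.ofHom
          (LinearMap.liftBaseChange S' (Algebra.Extension.Cotangent.map f))) :=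
        (ConcreteCategory.isIso_iff_bijective _).mpr h1
      exact IsIso.comp_isIso' inferInstance (IsIso.comp_isIso' hi inferInstance)
    · by_cases hn0 : n = 0
      · subst hn0
        rw [bcMap_f_zero]
        have hi : IsIso (ModuleCat.ofHom
            (LinearMap.liftBaseChange S' (Algebra.Extension.CotangentSpace.map f))) :=
          (ConcreteCategory.isIso_iff_bijective _).mpr h2
        exact IsIso.comp_isIso' inferInstance (IsIso.comp_isIso' hi inferInstance)
      · have hs : IsZero ((NLCx.bcCx P S').X n) :=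
          HomologicalComplex.isZero_double_X _ _ n hn1 hn0
        have ht : IsZero ((NLCx.cx P').X n) :=
          HomologicalComplex.isZero_double_X _ _ n hn1 hn0
        exact ⟨⟨0, hs.eq_of_src _ _, ht.eq_of_src _ _⟩⟩
  exact HomologicalComplex.Hom.isIso_of_components _

end IsoCrit

section MapComp

variable {R S : Type u} [CommRing R] [CommRing S] [Algebra R S]

/-- degree `-1` of `cx P`. -/
noncomputable def cxIso₀ (P : Algebra.Extension.{u} R S) :
    (NLCx.cx P).X (-1) ≅ ModuleCat.of S P.Cotangent :=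
  HomologicalComplex.doubleXIso₀ (ModuleCat.ofHom P.cotangentComplex)
    (show (ComplexShape.up ℤ).Rel (-1) 0 by simp)

/-- degree `0` of `cx P`. -/
noncomputable def cxIso₁ (P : Algebra.Extension.{u} R S) :
    (NLCx.cx P).X 0 ≅ ModuleCat.of S P.CotangentSpace :=
  HomologicalComplex.doubleXIso₁ (ModuleCat.ofHom P.cotangentComplex)
    (show (ComplexShape.up ℤ).Rel (-1) 0 by simp) (by decide)

theorem cx_d (P : Algebra.Extension.{u} R S) :
    (NLCx.cx P).d (-1) 0 =
      (cxIso₀ P).hom ≫ ModuleCat.ofHom P.cotangentComplex ≫ (cxIso₁ P).inv :=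
  HomologicalComplex.double_d _ _ (by decide)

variable {P P' P'' : Algebra.Extension.{u} R S}

theorem map_f_neg_one (f : P.Hom P') :
    (NLCx.map f).f (-1) =
      (cxIso₀ P).hom ≫ ModuleCat.ofHom (Algebra.Extension.Cotangent.map f) ≫ (cxIso₀ P').inv := by
  unfold NLCx.map
  exact HomologicalComplex.mkHomFromDouble_f₀ _ _ _ _ _ _

theorem map_f_zero (f : P.Hom P') :
    (NLCx.map f).f 0 =
      (cxIso₁ P).hom ≫ ModuleCat.ofHom (Algebra.Extension.CotangentSpace.map f) ≫
        (cxIso₁ P').inv := by
  unfold NLCx.map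
  exact HomologicalComplex.mkHomFromDouble_f₁ _ _ _ _ _ _

theorem cx_hom_ext {K : DRing.Cx S} {φ φ' : NLCx.cx P ⟶ K}
    (h₀ : φ.f (-1) = φ'.f (-1)) (h₁ : φ.f 0 = φ'.f 0) : φ = φ' :=
  HomologicalComplex.from_double_hom_ext h₀ h₁

theorem map_comp (f : P.Hom P') (g : P'.Hom P'') :
    NLCx.map (g.comp f) = NLCx.map f ≫ NLCx.map g := by
  apply cx_hom_ext
  · rw [HomologicalComplex.comp_f, map_f_neg_one, map_f_neg_one, map_f_neg_one,
      Algebra.Extension.Cotangent.map_comp]
    simp only [Category.assoc, Iso.inv_hom_id_assoc]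
    rfl
  · rw [HomologicalComplex.comp_f, map_f_zero, map_f_zero, map_f_zero,
      Algebra.Extension.CotangentSpace.map_comp]
    simp only [Category.assoc, Iso.inv_hom_id_assoc]
    rfl

theorem map_id : NLCx.map (Algebra.Extension.Hom.id P) = 𝟙 (NLCx.cx P) := by
  apply cx_hom_ext
  · rw [map_f_neg_one, Algebra.Extension.Cotangent.map_id, HomologicalComplex.id_f]
    change (cxIso₀ P).hom ≫ 𝟙 _ ≫ (cxIso₀ P).inv = _
    simp
  · rw [map_f_zero, Algebra.Extension.CotangentSpace.map_id, HomologicalComplex.id_f]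
    change (cxIso₁ P).hom ≫ 𝟙 _ ≫ (cxIso₁ P).inv = _
    simp

end MapComp

section BcComp

variable {R S R' S' : Type u} [CommRing R] [CommRing S] [CommRing R'] [CommRing S']
  [Algebra R S] [Algebra R' S'] [Algebra R R'] [Algebra S S'] [Algebra R S']
  [IsScalarTower R R' S'] [IsScalarTower R S S']
  {P : Algebra.Extension.{u} R S} {P' P'' : Algebra.Extension.{u} R' S'}

/-- degree `-1` of `bcCx P S'`. -/
noncomputable def bcIso₀ (P : Algebra.Extension.{u} R S) (S' : Type u) [CommRing S']
    [Algebra S S'] :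
    (NLCx.bcCx P S').X (-1) ≅ ModuleCat.of S' (S' ⊗[S] P.Cotangent) :=
  HomologicalComplex.doubleXIso₀ (ModuleCat.ofHom (P.cotangentComplex.baseChange S'))
    (show (ComplexShape.up ℤ).Rel (-1) 0 by simp)

/-- degree `0` of `bcCx P S'`. -/
noncomputable def bcIso₁ (P : Algebra.Extension.{u} R S) (S' : Type u) [CommRing S']
    [Algebra S S'] :
    (NLCx.bcCx P S').X 0 ≅ ModuleCat.of S' (S' ⊗[S] P.CotangentSpace) :=
  HomologicalComplex.doubleXIso₁ (ModuleCat.ofHom (P.cotangentComplex.baseChange S'))
    (show (ComplexShape.up ℤ).Rel (-1) 0 by simp) (by decide)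

theorem bcMap_f_neg_one' (f : P.Hom P') :
    (NLCx.bcMap (S' := S') f).f (-1) =
      (bcIso₀ P S').hom ≫
        ModuleCat.ofHom (LinearMap.liftBaseChange S' (Algebra.Extension.Cotangent.map f)) ≫
        (cxIso₀ P').inv :=
  bcMap_f_neg_one f

theorem bcMap_f_zero' (f : P.Hom P') :
    (NLCx.bcMap (S' := S') f).f 0 =
      (bcIso₁ P S').hom ≫
        ModuleCat.ofHom (LinearMap.liftBaseChange S' (Algebra.Extension.CotangentSpace.map f)) ≫
        (cxIso₁ P').inv :=
  bcMap_f_zero f

theorem bcCx_hom_ext {K : DRing.Cx S'} {φ φ' : NLCx.bcCx P S' ⟶ K}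
    (h₀ : φ.f (-1) = φ'.f (-1)) (h₁ : φ.f 0 = φ'.f 0) : φ = φ' :=
  HomologicalComplex.from_double_hom_ext h₀ h₁

theorem bcMap_comp (f : P.Hom P') (g : P'.Hom P'') :
    NLCx.bcMap (S' := S') (g.comp f) = NLCx.bcMap (S' := S') f ≫ NLCx.map g := by
  apply bcCx_hom_ext
  · rw [HomologicalComplex.comp_f, bcMap_f_neg_one', bcMap_f_neg_one', map_f_neg_one]
    simp only [Category.assoc, Iso.inv_hom_id_assoc]
    congr 1
    rw [← Category.assoc, ← ModuleCat.ofHom_comp]
    congr 2
    ext x
    simp [Algebra.Extension.Cotangent.map_comp]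
  · rw [HomologicalComplex.comp_f, bcMap_f_zero', bcMap_f_zero', map_f_zero]
    simp only [Category.assoc, Iso.inv_hom_id_assoc]
    congr 1
    rw [← Category.assoc, ← ModuleCat.ofHom_comp]
    congr 2
    ext x
    simp [Algebra.Extension.CotangentSpace.map_comp]

end BcComp

section Htpy

variable {R S : Type u} [CommRing R] [CommRing S] [Algebra R S]
  {P P' : Algebra.Extension.{u} R S}

/-- the components of the homotopy. -/
noncomputable def htpyHom (a b : P.Hom P') (i j : ℤ) : (NLCx.cx P).X i ⟶ (NLCx.cx P').X j :=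
  if h : i = 0 ∧ j = -1 then
    eqToHom (by rw [h.1]) ≫ (cxIso₁ P).hom ≫ ModuleCat.ofHom (a.sub b) ≫ (cxIso₀ P').inv ≫
      eqToHom (by rw [h.2])
  else 0

theorem htpyHom_zero_neg_one (a b : P.Hom P') :
    htpyHom a b 0 (-1) = (cxIso₁ P).hom ≫ ModuleCat.ofHom (a.sub b) ≫ (cxIso₀ P').inv := by
  unfold htpyHom
  rw [dif_pos ⟨rfl, rfl⟩]
  simp

theorem htpyHom_eq_zero (a b : P.Hom P') (i j : ℤ) (h : ¬ (i = 0 ∧ j = -1)) :
    htpyHom a b i j = 0 := by
  unfold htpyHom
  rw [dif_neg h]

/-- Two morphisms of extensions induce homotopic maps on naive cotangent complexes. -/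
noncomputable def mapHomotopy (a b : P.Hom P') : Homotopy (NLCx.map a) (NLCx.map b) where
  hom i j := htpyHom a b i j
  zero i j hij := by
    apply htpyHom_eq_zero
    rintro ⟨rfl, rfl⟩
    exact hij (by simp)
  comm i := by
    by_cases hi1 : i = -1
    · subst hi1
      rw [dNext_eq _ (show (ComplexShape.up ℤ).Rel (-1) 0 by simp),
        prevD_eq _ (show (ComplexShape.up ℤ).Rel (-2) (-1) by simp)]
      rw [htpyHom_zero_neg_one, htpyHom_eq_zero a b (-1) (-2) (by decide)]
      rw [map_f_neg_one, map_f_neg_one, cx_d]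
      simp only [Category.assoc, Iso.inv_hom_id_assoc, zero_comp, add_zero]
      rw [← Preadditive.comp_add, ← Category.assoc (ModuleCat.ofHom P.cotangentComplex),
        ← Preadditive.add_comp]
      congr 2
      rw [← ModuleCat.ofHom_comp, ← ModuleCat.ofHom_add]
      congr 1
      rw [← Algebra.Extension.Cotangent.map_sub_map, sub_add_cancel]
    · by_cases hi0 : i = 0
      · subst hi0
        rw [dNext_eq _ (show (ComplexShape.up ℤ).Rel 0 1 by simp),
          prevD_eq _ (show (ComplexShape.up ℤ).Rel (-1) 0 by simp)]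
        rw [htpyHom_zero_neg_one, htpyHom_eq_zero a b 1 0 (by decide)]
        rw [map_f_zero, map_f_zero, cx_d]
        simp only [Category.assoc, Iso.inv_hom_id_assoc, comp_zero, zero_add]
        rw [← Preadditive.comp_add, ← Category.assoc (ModuleCat.ofHom (a.sub b)),
          ← Preadditive.add_comp]
        congr 2
        rw [← ModuleCat.ofHom_comp, ← ModuleCat.ofHom_add]
        congr 1
        have := Algebra.Extension.CotangentSpace.map_sub_map a b
        refine LinearMap.ext fun x => ?_
        have h2 := LinearMap.congr_fun this x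
        rw [LinearMap.sub_apply, sub_eq_iff_eq_add] at h2
        exact h2
      · exact (HomologicalComplex.isZero_double_X _ _ i hi1 hi0).eq_of_src _ _

/-- Two presentations of the same algebra have homotopy equivalent naive cotangent complexes. -/
noncomputable def mapHomotopyEquiv (g : P.Hom P') (g' : P'.Hom P) :
    HomotopyEquiv (NLCx.cx P) (NLCx.cx P') where
  hom := NLCx.map g
  inv := NLCx.map g'
  homotopyHomInvId :=
    (Homotopy.ofEq (map_comp g g').symm).trans
      ((mapHomotopy (g'.comp g) (Algebra.Extension.Hom.id P)).trans (Homotopy.ofEq map_id))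
  homotopyInvHomId :=
    (Homotopy.ofEq (map_comp g' g).symm).trans
      ((mapHomotopy (g.comp g') (Algebra.Extension.Hom.id P')).trans (Homotopy.ofEq map_id))

end Htpy

section Final

variable (R S R' S' : Type u) [CommRing R] [CommRing S] [CommRing R'] [CommRing S']
  [Algebra R S] [Algebra R' S'] [Algebra R R'] [Algebra S S'] [Algebra R S']
  [IsScalarTower R R' S'] [IsScalarTower R S S'] [Algebra.IsPushout R R' S S'] [Module.Flat R R']

variable {R S R' S'} in
theorem isIso_bcMap_sameVarsHom {ι : Type u} (G : Algebra.Generators R S ι)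
    (G' : Algebra.Generators R' S' ι) (h : ∀ i, G'.val i = algebraMap S S' (G.val i)) :
    IsIso (NLCx.bcMap (S' := S') (NLCx.sameVarsHom G G' h).toExtensionHom) :=
  isIso_bcMap _ (sameVarsHom_liftBaseChange_cotangent_bijective G G' h)
    (sameVarsHom_liftBaseChange_cotangentSpace_bijective G G' h)

theorem exists_homotopyEquiv_bcMapSelf :
    ∃ e : HomotopyEquiv (NLCx.bcCx (Algebra.Generators.self R S).toExtension S')
        (NLCx.cx (Algebra.Generators.self R' S').toExtension),
      e.hom = NLCx.bcMapSelf R S R' S' := by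
  let G₁ := selfBC R S R' S'
  have h₁ : ∀ s, G₁.val s = algebraMap S S' ((Algebra.Generators.self R S).val s) := fun s => rfl
  let f₁ := NLCx.sameVarsHom (Algebra.Generators.self R S) G₁ h₁
  let g : G₁.Hom (Algebra.Generators.self R' S') := G₁.defaultHom _
  let g' : (Algebra.Generators.self R' S').Hom G₁ := Algebra.Generators.defaultHom _ _
  have hcomp : (Algebra.Generators.self R S).defaultHom (Algebra.Generators.self R' S') =
      g.comp f₁ := by
    ext s : 2
    simp [g, f₁, NLCx.sameVarsHom, G₁, selfBC]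
  haveI hiso : IsIso (NLCx.bcMap (S' := S') f₁.toExtensionHom) :=
    isIso_bcMap_sameVarsHom (Algebra.Generators.self R S) G₁ h₁
  let e₁ := HomotopyEquiv.ofIso (asIso (NLCx.bcMap (S' := S') f₁.toExtensionHom))
  let e₂ := mapHomotopyEquiv g.toExtensionHom g'.toExtensionHom
  refine ⟨e₁.trans e₂, ?_⟩
  change NLCx.bcMap (S' := S') f₁.toExtensionHom ≫ NLCx.map g.toExtensionHom = _
  unfold NLCx.bcMapSelf
  rw [hcomp, Algebra.Generators.Hom.toExtensionHom_comp, bcMap_comp]

end Final

end Groth.Agent.Lib.T2H2.NLBC
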