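import Mathlib
import Groth.Prelude.Def_SheafNL
import Groth.Agent.Lib.T2H2NLBC2

/-!
# Base change of the naive cotangent complex along an arbitrary map when `S` is flat over `R`
(T2 helper2)
-/

set_option autoImplicit false
set_option linter.style.haveILetI false
set_option linter.unusedSectionVars false

universe u

open CategoryTheory CategoryTheory.Limits TensorProduct

namespace Groth.Agent.Lib.T2H2.NLBC3

open Groth.Agent.Lib.T2H2.NLBC

section Inj

variable {R S R' S' : Type u} [CommRing R] [CommRing S] [CommRing R'] [CommRing S']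
  [Algebra R S] [Algebra R' S'] [Algebra R R'] [Algebra S S'] [Algebra R S']
  [IsScalarTower R R' S'] [IsScalarTower R S S']
  {P : Algebra.Extension.{u} R S} {P' : Algebra.Extension.{u} R' S'}

/-- Variant of `liftBaseChange_cotangent_map_injective` where flatness is replaced by the only
consequence that is used: injectivity of `P' ⊗_P I → P' ⊗_P P`. -/
theorem liftBaseChange_cotangent_map_injective' (f : P.Hom P') [Algebra P.Ring P'.Ring]
    (halg : ∀ p : P.Ring, algebraMap P.Ring P'.Ring p = f.toRingHom p)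
    (hinj : Function.Injective ((Submodule.subtype P.ker).lTensor P'.Ring))
    (hker : P'.ker ≤ Ideal.map f.toRingHom P.ker) :
    Function.Injective (LinearMap.liftBaseChange S' (Algebra.Extension.Cotangent.map f)) := by
  have hφ : ∀ (p : P.Ring) (c : P'.Ring), p • c = f.toRingHom p * c := fun p c => by
    rw [Algebra.smul_def, halg]
  have hmem : ∀ y : P.ker, f.toRingHom y ∈ P'.ker := by
    intro y
    have := RingHom.congr_arg (algebraMap S S') (show algebraMap P.Ring S y = 0 from y.2)
    simpa using this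
  set α := LinearMap.liftBaseChange S' (Algebra.Extension.Cotangent.map f) with hα
  -- the map `γ : P' ⊗_P I → S' ⊗_S I/I²`
  let γ₀ : P'.Ring →+ P.ker →+ (S' ⊗[S] P.Cotangent) :=
    AddMonoidHom.mk' (fun c => AddMonoidHom.mk'
      (fun y => algebraMap P'.Ring S' c ⊗ₜ[S] Algebra.Extension.Cotangent.mk y)
      (by intro a b; rw [map_add, tmul_add]))
      (by intro a b; ext y; simp [add_tmul])
  have hγ₀ : ∀ (p : P.Ring) (c : P'.Ring) (y : P.ker), γ₀ (p • c) y = γ₀ c (p • y) := by
    intro p c y
    change algebraMap P'.Ring S' (p • c) ⊗ₜ[S] Algebra.Extension.Cotangent.mk y =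
      algebraMap P'.Ring S' c ⊗ₜ[S] Algebra.Extension.Cotangent.mk (p • y)
    rw [hφ, map_mul, f.algebraMap_toRingHom, map_smul, ← algebraMap_smul S p
      (Algebra.Extension.Cotangent.mk y), tmul_smul, smul_tmul', Algebra.smul_def]
  let γ : P'.Ring ⊗[P.Ring] P.ker →+ (S' ⊗[S] P.Cotangent) := TensorProduct.liftAddHom γ₀ hγ₀
  have hγ_tmul : ∀ c y, γ (c ⊗ₜ y) =
      algebraMap P'.Ring S' c ⊗ₜ[S] Algebra.Extension.Cotangent.mk y := fun c y => rfl
  have hγ_smul : ∀ (c : P'.Ring) t, γ (c • t) = algebraMap P'.Ring S' c • γ t := by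
    intro c t
    induction t with
    | zero => simp
    | add a b ha hb => rw [smul_add, map_add, ha, hb, map_add, smul_add]
    | tmul c₁ y => rw [smul_tmul', hγ_tmul, hγ_tmul, smul_eq_mul, map_mul, smul_tmul', smul_eq_mul]
  have hγ_surj : Function.Surjective γ := by
    intro z
    induction z with
    | zero => exact ⟨0, map_zero _⟩
    | add a b ha hb =>
      obtain ⟨a', rfl⟩ := ha
      obtain ⟨b', rfl⟩ := hb
      exact ⟨a' + b', map_add _ _ _⟩
    | tmul s x =>
      obtain ⟨c, rfl⟩ := P'.algebraMap_surjective s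
      obtain ⟨y, rfl⟩ := Algebra.Extension.Cotangent.mk_surjective x
      exact ⟨c ⊗ₜ y, rfl⟩
  -- the map `β' : P' ⊗_P I → I'`
  let β₀ : P'.Ring →+ P.ker →+ P'.ker :=
    AddMonoidHom.mk' (fun c => AddMonoidHom.mk'
      (fun y => (⟨c * f.toRingHom y, P'.ker.mul_mem_left c (hmem y)⟩ : P'.ker))
      (by intro a b; apply Subtype.ext; simp [mul_add]))
      (by intro a b; ext y; simp [add_mul])
  have hβ₀ : ∀ (p : P.Ring) (c : P'.Ring) (y : P.ker), β₀ (p • c) y = β₀ c (p • y) := by
    intro p c y
    apply Subtype.ext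
    change (p • c) * f.toRingHom y = c * f.toRingHom ((p • y : P.ker) : P.Ring)
    rw [hφ]
    simp only [Submodule.coe_smul, smul_eq_mul, map_mul]
    ring
  let β' : P'.Ring ⊗[P.Ring] P.ker →+ P'.ker := TensorProduct.liftAddHom β₀ hβ₀
  have hβ'_tmul : ∀ c (y : P.ker), ((β' (c ⊗ₜ y) : P'.ker) : P'.Ring) = c * f.toRingHom y :=
    fun c y => rfl
  have hβ'_smul : ∀ (c : P'.Ring) t, β' (c • t) = c • β' t := by
    intro c t
    induction t with
    | zero => simp
    | add a b ha hb => rw [smul_add, map_add, ha, hb, map_add, smul_add]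
    | tmul c₁ y =>
      apply Subtype.ext
      rw [smul_tmul', hβ'_tmul]
      simp only [Submodule.coe_smul, smul_eq_mul, hβ'_tmul]
      ring
  -- `β'` is injective by flatness
  have hβ'_inj : Function.Injective β' := by
    have h1 : Function.Injective ((Submodule.subtype P.ker).lTensor P'.Ring) := hinj
    have h2 : ∀ t, ((β' t : P'.ker) : P'.Ring) =
        TensorProduct.rid P.Ring P'.Ring ((Submodule.subtype P.ker).lTensor P'.Ring t) := by
      intro t
      induction t with
      | zero => simp
      | add a b ha hb => simp only [map_add, Submodule.coe_add, ha, hb]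
      | tmul c y =>
        rw [hβ'_tmul, LinearMap.lTensor_tmul, TensorProduct.rid_tmul, Submodule.subtype_apply,
          hφ, mul_comm]
    intro t₁ t₂ h
    apply h1
    apply (TensorProduct.rid P.Ring P'.Ring).injective
    rw [← h2, ← h2, h]
  -- compatibility
  have hcomp : ∀ t, Algebra.Extension.Cotangent.mk (β' t) = α (γ t) := by
    intro t
    induction t with
    | zero => simp
    | add a b ha hb => simp only [map_add, ha, hb]
    | tmul c y =>
      rw [hγ_tmul, hα, LinearMap.liftBaseChange_tmul, Algebra.Extension.Cotangent.map_mk,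
        algebraMap_smul, ← map_smul]
      congr 1
  -- elements of `I'²` come from the kernel of `γ`
  have hK : ∀ x ∈ Ideal.map f.toRingHom (P.ker ^ 2),
      ∃ t', γ t' = 0 ∧ ((β' t' : P'.ker) : P'.Ring) = x := by
    intro x hx
    refine Submodule.span_induction ?_ ?_ ?_ ?_ hx
    · rintro _ ⟨w, hw, rfl⟩
      have hw' : w ∈ P.ker := Ideal.pow_le_self two_ne_zero hw
      refine ⟨1 ⊗ₜ ⟨w, hw'⟩, ?_, ?_⟩
      · rw [hγ_tmul]
        have : Algebra.Extension.Cotangent.mk (⟨w, hw'⟩ : P.ker) = 0 :=
          (Algebra.Extension.Cotangent.mk_eq_zero_iff _).mpr hw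
        rw [this, tmul_zero]
      · rw [hβ'_tmul, one_mul]
    · exact ⟨0, map_zero _, by simp⟩
    · rintro x y _ _ ⟨t₁, h₁, rfl⟩ ⟨t₂, h₂, rfl⟩
      exact ⟨t₁ + t₂, by rw [map_add, h₁, h₂, add_zero], by simp⟩
    · rintro c x _ ⟨t₁, h₁, rfl⟩
      exact ⟨c • t₁, by rw [hγ_smul, h₁, smul_zero], by rw [hβ'_smul]; rfl⟩
  rw [injective_iff_map_eq_zero]
  intro z hz
  obtain ⟨t, rfl⟩ := hγ_surj z
  rw [← hcomp, Algebra.Extension.Cotangent.mk_eq_zero_iff] at hz
  have hz' : ((β' t : P'.ker) : P'.Ring) ∈ Ideal.map f.toRingHom (P.ker ^ 2) := by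
    rw [Ideal.map_pow]
    exact Ideal.pow_right_mono hker 2 hz
  obtain ⟨t', ht', hbt'⟩ := hK _ hz'
  have : t = t' := hβ'_inj (Subtype.ext hbt'.symm)
  rw [this, ht']

end Inj

section SameVars

variable {R S R' S' : Type u} [CommRing R] [CommRing S] [CommRing R'] [CommRing S']
  [Algebra R S] [Algebra R' S'] [Algebra R R'] [Algebra S S'] [Algebra R S']
  [IsScalarTower R R' S'] [IsScalarTower R S S']
  {ι : Type u} (G : Algebra.Generators R S ι) (G' : Algebra.Generators R' S' ι)
  (h : ∀ i, G'.val i = algebraMap S S' (G.val i))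

theorem mvPolynomial_lTensor_injective [Module.Flat R S] (I : Ideal (MvPolynomial ι R))
    (f : MvPolynomial ι R →ₗ[R] S) (hf : Function.Surjective f)
    (hI : ∀ x, f x = 0 ↔ x ∈ I) :
    letI : Algebra (MvPolynomial ι R) (MvPolynomial ι R') := MvPolynomial.algebraMvPolynomial
    Function.Injective ((Submodule.subtype I).lTensor (MvPolynomial ι R')) := by
  letI : Algebra (MvPolynomial ι R) (MvPolynomial ι R') := MvPolynomial.algebraMvPolynomial
  have hp0 : Algebra.IsPushout R (MvPolynomial ι R) R' (MvPolynomial ι R') := inferInstance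
  haveI hp : Algebra.IsPushout R R' (MvPolynomial ι R) (MvPolynomial ι R') := hp0.symm
  let eI := Algebra.IsPushout.cancelBaseChange R R' (MvPolynomial ι R) (MvPolynomial ι R') I
  let eP := Algebra.IsPushout.cancelBaseChange R R' (MvPolynomial ι R) (MvPolynomial ι R')
    (MvPolynomial ι R)
  let g : I →ₗ[R] MvPolynomial ι R := (Submodule.subtype I).restrictScalars R
  have hg : Function.Injective g := Subtype.val_injective
  have hex : Function.Exact g f := by
    intro x
    constructor
    · intro hx
      exact ⟨⟨x, (hI x).1 hx⟩, rfl⟩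
    · rintro ⟨y, rfl⟩
      exact (hI _).2 y.2
  have hinj := LinearMap.lTensor_injective_of_exact_of_flat f hf g hg hex R'
  have hsq : ∀ t, (Submodule.subtype I).lTensor (MvPolynomial ι R') (eI.symm t) =
      eP.symm (g.lTensor R' t) := by
    intro t
    induction t with
    | zero => simp
    | add a b ha hb => simp only [map_add, ha, hb]
    | tmul s m =>
      rw [Algebra.IsPushout.cancelBaseChange_symm_tmul, LinearMap.lTensor_tmul,
        LinearMap.lTensor_tmul, Algebra.IsPushout.cancelBaseChange_symm_tmul]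
      rfl
  intro t₁ t₂ ht
  obtain ⟨t₁, rfl⟩ := eI.symm.surjective t₁
  obtain ⟨t₂, rfl⟩ := eI.symm.surjective t₂
  rw [hsq, hsq] at ht
  rw [hinj (eP.symm.injective ht)]

variable [Algebra.IsPushout R R' S S']

theorem sameVarsHom_liftBaseChange_cotangent_bijective' [Module.Flat R S] :
    Function.Bijective (LinearMap.liftBaseChange S'
      (Algebra.Extension.Cotangent.map (NLCx.sameVarsHom G G' h).toExtensionHom)) := by
  letI : Algebra G.toExtension.Ring G'.toExtension.Ring :=
    (MvPolynomial.algebraMvPolynomial : Algebra (MvPolynomial ι R) (MvPolynomial ι R'))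
  refine ⟨liftBaseChange_cotangent_map_injective' _ ?_ ?_ (sameVarsHom_ker_le G G' h),
    liftBaseChange_cotangent_map_surjective _ (sameVarsHom_ker_le G G' h)⟩
  · intro p
    rw [sameVarsHom_toRingHom_apply]
    rfl
  · exact mvPolynomial_lTensor_injective (R' := R') (S := S) G.toExtension.ker
      ((IsScalarTower.toAlgHom R G.toExtension.Ring S).toLinearMap)
      G.algebraMap_surjective (fun x => Iff.rfl)

end SameVars

section Final

variable (R S R' S' : Type u) [CommRing R] [CommRing S] [CommRing R'] [CommRing S']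
  [Algebra R S] [Algebra R' S'] [Algebra R R'] [Algebra S S'] [Algebra R S']
  [IsScalarTower R R' S'] [IsScalarTower R S S'] [Algebra.IsPushout R R' S S'] [Module.Flat R S]

variable {R S R' S'} in
theorem isIso_bcMap_sameVarsHom' {ι : Type u} (G : Algebra.Generators R S ι)
    (G' : Algebra.Generators R' S' ι) (h : ∀ i, G'.val i = algebraMap S S' (G.val i)) :
    IsIso (NLCx.bcMap (S' := S') (NLCx.sameVarsHom G G' h).toExtensionHom) :=
  isIso_bcMap _ (sameVarsHom_liftBaseChange_cotangent_bijective' G G' h)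
    (sameVarsHom_liftBaseChange_cotangentSpace_bijective G G' h)

theorem exists_homotopyEquiv_bcMapSelf' :
    ∃ e : HomotopyEquiv (NLCx.bcCx (Algebra.Generators.self R S).toExtension S')
        (NLCx.cx (Algebra.Generators.self R' S').toExtension),
      e.hom = NLCx.bcMapSelf R S R' S' := by
  let G₁ := selfBC R S R' S'
  have h₁ : ∀ s, G₁.val s = algebraMap S S' ((Algebra.Generators.self R S).val s) := fun s => rfl
  let f₁ := NLCx.sameVarsHom (Algebra.Generators.self R S) G₁ h₁
  let g : G₁.Hom (Algebra.Generators.self R' S') := G₁.defaultHom _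
  let g' : (Algebra.Generators.self R' S').Hom G₁ := Algebra.Generators.defaultHom _ _
  have hcomp : (Algebra.Generators.self R S).defaultHom (Algebra.Generators.self R' S') =
      g.comp f₁ := by
    ext s : 2
    simp [g, f₁, NLCx.sameVarsHom, G₁, selfBC]
  haveI hiso : IsIso (NLCx.bcMap (S' := S') f₁.toExtensionHom) :=
    isIso_bcMap_sameVarsHom' (Algebra.Generators.self R S) G₁ h₁
  let e₁ := HomotopyEquiv.ofIso (asIso (NLCx.bcMap (S' := S') f₁.toExtensionHom))
  let e₂ := mapHomotopyEquiv g.toExtensionHom g'.toExtensionHom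
  refine ⟨e₁.trans e₂, ?_⟩
  change NLCx.bcMap (S' := S') f₁.toExtensionHom ≫ NLCx.map g.toExtensionHom = _
  unfold NLCx.bcMapSelf
  rw [hcomp, Algebra.Generators.Hom.toExtensionHom_comp, bcMap_comp]

theorem quasiIso_bcMapSelf : QuasiIso (NLCx.bcMapSelf R S R' S') := by
  obtain ⟨e, he⟩ := exists_homotopyEquiv_bcMapSelf' R S R' S'
  rw [← he]
  infer_instance

end Final

end Groth.Agent.Lib.T2H2.NLBC3
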