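import Mathlib
import Groth.Prelude.Def_SheafNL
import Groth.Agent.Lib.Helper1Extend
import Groth.Agent.Lib.Helper1LBC2
import Groth.Agent.Lib.Helper1TwoTerm
import Groth.Agent.Lib.Helper1TorE
import Groth.Agent.Lib.Helper1TorH
import Groth.Agent.Lib.Helper1TorDim
import Groth.Agent.Lib.Helper14TorSyz
import Groth.Agent.Lib.Helper1TorF

set_option autoImplicit false
set_option linter.style.haveILetI false
set_option linter.unusedSectionVars false

/-!
# Derived base change of a two-term complex (T2 helper2)
-/

universe u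

open CategoryTheory CategoryTheory.Limits TensorProduct

attribute [local instance] HasDerivedCategory.standard

namespace Groth.Agent.Lib.T2H2.NLBC4

open Groth.Agent.Lib.Helper1.Tor Groth.Agent.Lib.Helper1.TorDim Groth.Agent.Lib.Helper14.TorSyz

section Flat

variable {B : Type u} [CommRing B]

theorem flat_neg_one_of_hasTorAmp (E : DRing.Cx B)
    (hE : ∀ i : ℤ, i ≠ -1 → i ≠ 0 → IsZero (E.X i)) (h0 : Module.Flat B (E.X 0))
    (h : DRing.HasTorAmplitudeIn B (-1) 0 (DRing.toD E)) : Module.Flat B (E.X (-1)) := by
  obtain ⟨i, p, hT, -⟩ := Groth.Agent.Lib.Helper1.TwoTerm.exists_triangle E hE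
  have h1 : DRing.HasTorAmplitudeIn B 0 0 (Dual.inD B (E.X 0)) := by
    have := (hasTorDimLE_iff_hasTorAmp (R := B) (E.X 0) 0).1 ((hasTorDimLE_zero_iff_flat _).2 h0)
    simpa using this
  have h3 := (hasTorAmp_two_out_of_three (-1) 0 _ hT).1 (hasTorAmp_mono (by lia) (by lia) h1) h
  have h4 := hasTorAmp_shift h3 (-1) 0 1 (by lia) (by lia)
  have h5 : DRing.HasTorAmplitudeIn B 0 1 (Dual.inD B (E.X (-1))) :=
    hasTorAmp_of_iso ((shiftEquiv _ (1 : ℤ)).unitIso.symm.app _) h4
  exact (hasTorDimLE_zero_iff_flat _).1 (hasTorDimLE_of_hasTorAmp _ 0 1 (by simpa using h5))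

end Flat

section Double

open Groth.Agent.Lib.Helper1.Extend Groth.Agent.Lib.Helper1.LDer

variable {B B' : Type u} [CommRing B] [CommRing B'] [Algebra B B']

theorem extIso_naturality {M N : Type u} [AddCommGroup M] [Module B M] [AddCommGroup N]
    [Module B N] (d : M →ₗ[B] N) :
    (ext B B').map (ModuleCat.ofHom d) ≫ (extIso (A := B) (B := B') N).hom =
      (extIso (A := B) (B := B') M).hom ≫ ModuleCat.ofHom (d.baseChange B') := by
  ext x
  rfl

variable {M N : Type u} [AddCommGroup M] [Module B M] [AddCommGroup N] [Module B N]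
  (d : M →ₗ[B] N)

theorem extIso_inv_naturality :
    (extIso (A := B) (B := B') M).inv ≫ (ext B B').map (ModuleCat.ofHom d) =
      ModuleCat.ofHom (d.baseChange B') ≫ (extIso (A := B) (B := B') N).inv := by
  rw [Iso.inv_comp_eq, ← Category.assoc, Iso.eq_comp_inv, extIso_naturality]

/-- the comparison map `double (d ⊗ B') ⟶ (double d) ⊗ B'` -/
noncomputable def doubleBcHom :
    HomologicalComplex.double (ModuleCat.ofHom (d.baseChange B'))
        (show (ComplexShape.up ℤ).Rel (-1) 0 by simp) ⟶
      (bcCx (algebraMap B B')).obj (HomologicalComplex.double (ModuleCat.ofHom d)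
        (show (ComplexShape.up ℤ).Rel (-1) 0 by simp)) :=
  HomologicalComplex.mkHomFromDouble _ (by decide)
    ((extIso (A := B) (B := B') M).inv ≫
      (ext B B').map (HomologicalComplex.doubleXIso₀ (ModuleCat.ofHom d) _).inv)
    ((extIso (A := B) (B := B') N).inv ≫
      (ext B B').map (HomologicalComplex.doubleXIso₁ (ModuleCat.ofHom d) _ (by decide)).inv)
    (by
      change (_ ≫ _) ≫ (ext B B').map ((HomologicalComplex.double (ModuleCat.ofHom d) _).d (-1) 0) = _
      rw [HomologicalComplex.double_d _ _ (by decide), Category.assoc, ← Functor.map_comp,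
        Iso.inv_hom_id_assoc, Functor.map_comp, ← Category.assoc, extIso_inv_naturality,
        Category.assoc]
      rfl)
    (fun k hk => by
      have hk' : (0 : ℤ) + 1 = k := hk
      have hz : IsZero ((HomologicalComplex.double (ModuleCat.ofHom d)
          (show (ComplexShape.up ℤ).Rel (-1) 0 by simp)).X k) :=
        HomologicalComplex.isZero_double_X _ _ k (by lia) (by lia)
      exact ((ext B B').map_isZero hz).eq_of_tgt _ _)

instance isIso_doubleBcHom : IsIso (doubleBcHom (B' := B') d) := by
  have hc : ∀ n : ℤ, IsIso ((doubleBcHom (B' := B') d).f n) := by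
    intro n
    by_cases hn1 : n = -1
    · subst hn1
      unfold doubleBcHom
      rw [HomologicalComplex.mkHomFromDouble_f₀]
      exact IsIso.comp_isIso' inferInstance (IsIso.comp_isIso' inferInstance
        (Functor.map_isIso (ext B B') _))
    · by_cases hn0 : n = 0
      · subst hn0
        unfold doubleBcHom
        rw [HomologicalComplex.mkHomFromDouble_f₁]
        exact IsIso.comp_isIso' inferInstance (IsIso.comp_isIso' inferInstance
        (Functor.map_isIso (ext B B') _))
      · have hs : IsZero ((HomologicalComplex.double (ModuleCat.ofHom (d.baseChange B'))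
            (show (ComplexShape.up ℤ).Rel (-1) 0 by simp)).X n) :=
          HomologicalComplex.isZero_double_X _ _ n hn1 hn0
        have hz : IsZero ((HomologicalComplex.double (ModuleCat.ofHom d)
            (show (ComplexShape.up ℤ).Rel (-1) 0 by simp)).X n) :=
          HomologicalComplex.isZero_double_X _ _ n hn1 hn0
        have ht := (ext B B').map_isZero hz
        exact ⟨⟨0, hs.eq_of_src _ _, ht.eq_of_src _ _⟩⟩
  exact HomologicalComplex.Hom.isIso_of_components _

end Double

section LBCFlat

open Groth.Agent.Lib.Helper1.LDer Groth.Agent.Lib.Helper1.PC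
open Groth.Agent.Lib.Helper1.Cone Groth.Agent.Lib.Helper1.ProjRes DerivedCategory

/-- derived base change of a bounded above termwise flat complex is computed termwise -/
theorem nonempty_lbc_iso_of_flat {A B : Type u} [CommRing A] [CommRing B] (φ : A →+* B)
    [DRing.HasLBaseChange φ] (E : DRing.Cx A) (b : ℤ) (hEb : DRing.VanishesAbove E b)
    (hEf : DRing.TermwiseFlat E) :
    Nonempty ((DRing.LBaseChange φ).obj (Q.obj E) ≅ Q.obj ((bcCx φ).obj E)) := by
  have hEle : E.IsStrictlyLE b := by
    rw [CochainComplex.isStrictlyLE_iff]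
    exact hEb
  obtain ⟨P, p, hp, hPproj, hPle⟩ := exists_proj_res E b
  have hPK : P.IsKProjective := CochainComplex.isKProjective_of_projective P b
  have hpi : IsIso (Q.map p) := (DerivedCategory.isIso_Q_map_iff_quasiIso (φ := p)).2 hp
  have hPb : DRing.VanishesAbove P b := fun i hi => P.isZero_of_isStrictlyLE b i hi
  have hPf : DRing.TermwiseFlat P := termwiseFlat_of_projective P hPproj
  have hbc : IsIso (Q.map ((bcCx φ).map p)) := isIso_Q_map_bc φ p b b hPb hEb hPf hEf hpi
  exact ⟨((DRing.LBaseChange φ).mapIso (asIso (Q.map p))).symm ≪≫ lbcIso φ P ≪≫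
    asIso (Q.map ((bcCx φ).map p))⟩

end LBCFlat

end Groth.Agent.Lib.T2H2.NLBC4
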