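import Mathlib
import Groth.Prelude.Def_RegImm
import Groth.Agent.Lib.T2H7KRegH

/-!
# The conormal module of a Koszul-regular ideal is flat (helper7)

* `exists_pow_mul_mem_of_sum_mem_sq`: a combination of a Koszul-regular generating sequence lying
  in `I²` has its coefficients in `I` (up to powers of the localizing element).
* `flat_localizedModule_cotangent`: the localized conormal module is free, hence flat.
* `flat_cotangent_of_isKoszulRegularIdeal`: `I/I²` is flat over `C/I` for `I` Koszul-regular.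
-/

set_option autoImplicit false

universe u

namespace Groth.Agent.Lib.T2H7.NLa

open Groth.Agent.Lib.T2H7.KRegA Groth.Agent.Lib.T2H7.KRegB Groth.Agent.Lib.T2H7.KRegH

section KL

variable {C : Type u} [CommRing C] (I : Ideal C) (s : C) {r : ℕ} (l : Fin r → C)

/-- elements of `I²` are, after multiplication by a power of `s`, combinations of the `l j` with
coefficients in `I` -/
lemma exists_pow_mul_eq_sum_of_mem_sq
    (hgen : ∀ x ∈ I, ∃ k : ℕ, s ^ k * x ∈ Ideal.span (Set.range l)) (z : C) (hz : z ∈ I ^ 2) :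
    ∃ (k : ℕ) (d : Fin r → C), (∀ j, d j ∈ I) ∧ s ^ k * z = ∑ j, d j * l j := by
  rw [pow_two] at hz
  induction hz using Submodule.mul_induction_on' with
  | mem_mul_mem x hx y hy =>
    obtain ⟨k, hk⟩ := hgen x hx
    obtain ⟨a, ha⟩ := (Ideal.mem_span_range_iff_exists_fun).mp hk
    refine ⟨k, fun j => a j * y, fun j => I.mul_mem_left _ hy, ?_⟩
    rw [← mul_assoc, ← ha, Finset.sum_mul]
    refine Finset.sum_congr rfl fun j _ => ?_
    ring
  | add z₁ _ z₂ _ h₁ h₂ =>
    obtain ⟨k₁, d₁, hd₁, e₁⟩ := h₁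
    obtain ⟨k₂, d₂, hd₂, e₂⟩ := h₂
    refine ⟨k₁ + k₂, fun j => s ^ k₂ * d₁ j + s ^ k₁ * d₂ j,
      fun j => I.add_mem (I.mul_mem_left _ (hd₁ j)) (I.mul_mem_left _ (hd₂ j)), ?_⟩
    have : s ^ (k₁ + k₂) * (z₁ + z₂) = s ^ k₂ * (s ^ k₁ * z₁) + s ^ k₁ * (s ^ k₂ * z₂) := by
      rw [pow_add]; ring
    rw [this, e₁, e₂, Finset.mul_sum, Finset.mul_sum, ← Finset.sum_add_distrib]
    refine Finset.sum_congr rfl fun j _ => ?_
    ring

/-- the key lemma: a combination of a Koszul-regular generating sequence lying in `I²` has its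
coefficients in `I`, up to powers of `s` -/
theorem exists_pow_mul_mem_of_sum_mem_sq (hl : ∀ j, l j ∈ I)
    (hgen : ∀ x ∈ I, ∃ k : ℕ, s ^ k * x ∈ Ideal.span (Set.range l))
    (htors : TorsAt s (List.ofFn l)) (c : Fin r → C) (n : ℕ)
    (h : s ^ n * ∑ j, c j * l j ∈ I ^ 2) : ∃ n' : ℕ, ∀ j, s ^ n' * c j ∈ I := by
  obtain ⟨k, d, hd, e⟩ := exists_pow_mul_eq_sum_of_mem_sq I s l hgen _ h
  have hrel : ∑ j, (s ^ (k + n) * c j - d j) * l j = 0 := by
    have : ∑ j, (s ^ (k + n) * c j - d j) * l j =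
        s ^ k * (s ^ n * ∑ j, c j * l j) - ∑ j, d j * l j := by
      rw [Finset.mul_sum, Finset.mul_sum, ← Finset.sum_sub_distrib]
      refine Finset.sum_congr rfl fun j _ => ?_
      rw [pow_add]; ring
    rw [this, e, sub_self]
  have hq := qr1_tors s l htors _ hrel
  choose m hm using hq
  have hlI : Ideal.ofList (List.ofFn l) ≤ I := by
    rw [ofList_ofFn', Ideal.span_le]
    rintro _ ⟨j, rfl⟩
    exact hl j
  refine ⟨(Finset.univ.sup m) + (k + n), fun j => ?_⟩
  have h1 : s ^ m j * (s ^ (k + n) * c j - d j) ∈ I := hlI (hm j)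
  have h2 : s ^ m j * (s ^ (k + n) * c j) ∈ I := by
    have : s ^ m j * (s ^ (k + n) * c j) =
        s ^ m j * (s ^ (k + n) * c j - d j) + s ^ m j * d j := by ring
    rw [this]
    exact I.add_mem h1 (I.mul_mem_left _ (hd j))
  have hle : m j ≤ Finset.univ.sup m := Finset.le_sup (Finset.mem_univ j)
  obtain ⟨t, ht⟩ := Nat.exists_eq_add_of_le hle
  have : s ^ (Finset.univ.sup m + (k + n)) * c j = s ^ t * (s ^ m j * (s ^ (k + n) * c j)) := by
    rw [ht, pow_add, pow_add]; ring
  rw [this]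
  exact I.mul_mem_left _ h2

end KL

section Free

variable {C : Type u} [CommRing C] (I : Ideal C) (s : C) {r : ℕ} (l : Fin r → C)

local notation "sb" => Ideal.Quotient.mk I s
local notation "T" => Localization (Submonoid.powers (Ideal.Quotient.mk I s))
local notation "N" => LocalizedModule (Submonoid.powers (Ideal.Quotient.mk I s)) I.Cotangent
local notation "fN" => LocalizedModule.mkLinearMap (Submonoid.powers (Ideal.Quotient.mk I s))
  I.Cotangent

/-- the candidate basis of the localized cotangent module -/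
noncomputable def vvec (hl : ∀ j, l j ∈ I) : Fin r → N :=
  fun j => fN (I.toCotangent ⟨l j, hl j⟩)

/-- the comparison map from the free module -/
noncomputable def theta (hl : ∀ j, l j ∈ I) : (Fin r → T) →ₗ[T] N :=
  Fintype.linearCombination T (vvec I s l hl)

lemma theta_algebraMap (hl : ∀ j, l j ∈ I) (a : Fin r → C ⧸ I) :
    theta I s l hl (fun j => algebraMap (C ⧸ I) T (a j)) =
      fN (∑ j, a j • I.toCotangent ⟨l j, hl j⟩) := by
  unfold theta
  rw [Fintype.linearCombination_apply, map_sum]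
  refine Finset.sum_congr rfl fun j _ => ?_
  rw [algebraMap_smul, map_smul]
  rfl

lemma sum_smul_toCotangent (hl : ∀ j, l j ∈ I) (c : Fin r → C) :
    ∑ j, (Ideal.Quotient.mk I (c j)) • I.toCotangent ⟨l j, hl j⟩ =
      I.toCotangent ⟨∑ j, c j * l j, I.sum_mem fun j _ => I.mul_mem_left _ (hl j)⟩ := by
  have h1 : (⟨∑ j, c j * l j, I.sum_mem fun j _ => I.mul_mem_left _ (hl j)⟩ : I) =
      ∑ j, c j • (⟨l j, hl j⟩ : I) := by
    ext
    simp
  rw [h1, map_sum]
  refine Finset.sum_congr rfl fun j _ => ?_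
  rw [map_smul]
  rfl

theorem theta_surjective (hl : ∀ j, l j ∈ I)
    (hgen : ∀ x ∈ I, ∃ k : ℕ, s ^ k * x ∈ Ideal.span (Set.range l)) :
    Function.Surjective (theta I s l hl) := by
  intro y
  obtain ⟨⟨m, t⟩, rfl⟩ := IsLocalizedModule.mk'_surjective
    (Submonoid.powers (Ideal.Quotient.mk I s)) fN y
  obtain ⟨⟨x, hx⟩, rfl⟩ := Ideal.toCotangent_surjective I m
  obtain ⟨k, hk⟩ := hgen x hx
  obtain ⟨a, ha⟩ := (Ideal.mem_span_range_iff_exists_fun).mp hk
  -- `(t * sb^k) • y` is in the range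
  have hu : IsUnit (algebraMap (C ⧸ I) T ((t : C ⧸ I) * sb ^ k)) := by
    rw [map_mul, map_pow]
    exact (IsLocalization.map_units T t).mul
      ((IsLocalization.map_units T (⟨sb, Submonoid.mem_powers _⟩ :
        Submonoid.powers (Ideal.Quotient.mk I s))).pow k)
  have h1 : ((t : C ⧸ I) * sb ^ k) •
      (IsLocalizedModule.mk' fN (I.toCotangent ⟨x, hx⟩) t) =
      theta I s l hl (fun j => algebraMap (C ⧸ I) T (Ideal.Quotient.mk I (a j))) := by
    rw [theta_algebraMap, sum_smul_toCotangent, mul_comm, mul_smul, ← Submonoid.smul_def,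
      IsLocalizedModule.mk'_cancel', ← map_smul]
    congr 1
    rw [← map_pow]
    have h2 : (Ideal.Quotient.mk I (s ^ k)) • I.toCotangent ⟨x, hx⟩ =
        (s ^ k) • I.toCotangent ⟨x, hx⟩ := rfl
    rw [h2, ← map_smul]
    congr 1
    ext
    exact ha.symm
  have h3 : IsLocalizedModule.mk' fN (I.toCotangent ⟨x, hx⟩) t =
      (hu.unit⁻¹ : Tˣ) • (((t : C ⧸ I) * sb ^ k) •
        (IsLocalizedModule.mk' fN (I.toCotangent ⟨x, hx⟩) t)) := by
    rw [← algebraMap_smul T ((t : C ⧸ I) * sb ^ k), Units.smul_def, smul_smul,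
      IsUnit.val_inv_mul, one_smul]
  refine ⟨(hu.unit⁻¹ : Tˣ) • (fun j => algebraMap (C ⧸ I) T (Ideal.Quotient.mk I (a j))), ?_⟩
  rw [Units.smul_def, map_smul, ← h1]
  exact h3.symm

theorem theta_injective (hl : ∀ j, l j ∈ I)
    (hgen : ∀ x ∈ I, ∃ k : ℕ, s ^ k * x ∈ Ideal.span (Set.range l))
    (htors : TorsAt s (List.ofFn l)) : Function.Injective (theta I s l hl) := by
  rw [injective_iff_map_eq_zero]
  intro b hb
  obtain ⟨t, ht⟩ := IsLocalization.exist_integer_multiples_of_finite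
    (Submonoid.powers (Ideal.Quotient.mk I s)) b
  choose a ha using ht
  have htu : IsUnit (algebraMap (C ⧸ I) T (t : C ⧸ I)) := IsLocalization.map_units T t
  -- `t • b` has integral coordinates
  have h1 : theta I s l hl (fun j => algebraMap (C ⧸ I) T (a j)) = 0 := by
    have : (fun j => algebraMap (C ⧸ I) T (a j)) = (algebraMap (C ⧸ I) T (t : C ⧸ I)) • b := by
      funext j
      rw [ha j, Pi.smul_apply, Algebra.smul_def, smul_eq_mul]
    rw [this, map_smul, hb, smul_zero]
  obtain ⟨c, hc⟩ : ∃ c : Fin r → C, ∀ j, Ideal.Quotient.mk I (c j) = a j :=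
    ⟨fun j => (Ideal.Quotient.mk_surjective (a j)).choose,
      fun j => (Ideal.Quotient.mk_surjective (a j)).choose_spec⟩
  have ha' : a = fun j => Ideal.Quotient.mk I (c j) := funext fun j => (hc j).symm
  rw [theta_algebraMap, ha', sum_smul_toCotangent,
    IsLocalizedModule.eq_zero_iff (Submonoid.powers (Ideal.Quotient.mk I s))] at h1
  obtain ⟨⟨_, n, rfl⟩, hn⟩ := h1
  have h2 : s ^ n * ∑ j, c j * l j ∈ I ^ 2 := by
    have h3 : (Ideal.Quotient.mk I s ^ n) • I.toCotangent
        ⟨∑ j, c j * l j, I.sum_mem fun j _ => I.mul_mem_left _ (hl j)⟩ = 0 := hn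
    rw [← map_pow] at h3
    have h4 : (Ideal.Quotient.mk I (s ^ n)) • I.toCotangent
        ⟨∑ j, c j * l j, I.sum_mem fun j _ => I.mul_mem_left _ (hl j)⟩ =
        (s ^ n) • I.toCotangent
          ⟨∑ j, c j * l j, I.sum_mem fun j _ => I.mul_mem_left _ (hl j)⟩ := rfl
    rw [h4, ← map_smul, Ideal.toCotangent_eq_zero] at h3
    exact h3
  obtain ⟨n', hn'⟩ := exists_pow_mul_mem_of_sum_mem_sq I s l hl hgen htors c n h2
  funext j
  have h5 : algebraMap (C ⧸ I) T (a j) = 0 := by
    rw [IsLocalization.map_eq_zero_iff (Submonoid.powers (Ideal.Quotient.mk I s))]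
    refine ⟨⟨Ideal.Quotient.mk I s ^ n', n', rfl⟩, ?_⟩
    show Ideal.Quotient.mk I s ^ n' * a j = 0
    rw [← hc j, ← map_pow, ← map_mul, Ideal.Quotient.eq_zero_iff_mem]
    exact hn' j
  have h6 := ha j
  rw [h5, Algebra.smul_def] at h6
  exact (htu.mul_right_eq_zero.mp h6.symm)

/-- the localized cotangent module of an ideal generated near `s` by a Koszul-regular sequence is
flat -/
theorem flat_localizedModule_cotangent (hl : ∀ j, l j ∈ I)
    (hgen : ∀ x ∈ I, ∃ k : ℕ, s ^ k * x ∈ Ideal.span (Set.range l))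
    (htors : TorsAt s (List.ofFn l)) : Module.Flat (C ⧸ I) N := by
  let e : (Fin r → T) ≃ₗ[T] N := LinearEquiv.ofBijective (theta I s l hl)
    ⟨theta_injective I s l hl hgen htors, theta_surjective I s l hl hgen⟩
  have h1 : Module.Flat T N := Module.Flat.of_linearEquiv e.symm
  exact Module.Flat.trans (C ⧸ I) T N

end Free

section Global

variable {C : Type u} [CommRing C] (I : Ideal C)

/-- normalising local Koszul-regular generators: they can be taken inside `I` -/
lemma exists_fin_gens_of_kRegAt (𝔭 : Ideal C) (h : KRegAt I 𝔭) :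
    ∃ g : C, g ∉ 𝔭 ∧ ∃ (r : ℕ) (l : Fin r → C), (∀ j, l j ∈ I) ∧
      (∀ x ∈ I, ∃ k : ℕ, g ^ k * x ∈ Ideal.span (Set.range l)) ∧ TorsAt g (List.ofFn l) := by
  classical
  obtain ⟨g, hg, l₀, ⟨hgen1, hgen2⟩, htors⟩ := h
  -- a common exponent
  obtain ⟨k, hk⟩ : ∃ k : ℕ, ∀ j : Fin l₀.length, g ^ k * l₀.get j ∈ I :=
    exists_common (fun (j : Fin l₀.length) k => g ^ k * l₀.get j ∈ I)
      (fun j n m hnm h => pow_mul_mem_of_le hnm h) (fun j => hgen2 _ (List.get_mem l₀ j))
  refine ⟨g, hg, l₀.length, fun j => g ^ k * l₀.get j, hk, ?_, ?_⟩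
  · intro x hx
    obtain ⟨k₁, hk₁⟩ := hgen1 x hx
    refine ⟨k + k₁, ?_⟩
    have h1 : g ^ (k + k₁) * x = g ^ k * (g ^ k₁ * x) := by rw [pow_add]; ring
    rw [h1]
    have h2 : ∀ y ∈ Ideal.ofList l₀, g ^ k * y ∈
        Ideal.span (Set.range fun j : Fin l₀.length => g ^ k * l₀.get j) := by
      intro y hy
      unfold Ideal.ofList at hy
      induction hy using Submodule.span_induction with
      | mem y hy =>
        obtain ⟨j, rfl⟩ := List.mem_iff_get.mp hy
        exact Ideal.subset_span ⟨j, rfl⟩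
      | zero => rw [mul_zero]; exact Ideal.zero_mem _
      | add y₁ y₂ _ _ h₁ h₂ => rw [mul_add]; exact Ideal.add_mem _ h₁ h₂
      | smul a y _ h₁ =>
        rw [smul_eq_mul, mul_left_comm]
        exact Ideal.mul_mem_left _ _ h₁
    exact h2 _ hk₁
  · refine torsAt_of_length_eq htors ?_ ?_ (by simp)
    · intro x hx
      rw [List.mem_ofFn] at hx
      obtain ⟨j, rfl⟩ := hx
      exact ⟨0, by
        rw [pow_zero, one_mul]
        exact Ideal.mul_mem_left _ _ (Ideal.subset_span (List.get_mem l₀ j))⟩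
    · intro x hx
      obtain ⟨j, rfl⟩ := List.mem_iff_get.mp hx
      exact ⟨k, Ideal.subset_span (List.mem_ofFn.mpr ⟨j, rfl⟩)⟩

/-- the conormal module of a Koszul-regular ideal is flat -/
theorem flat_cotangent_of_isKoszulRegularIdeal (hI : LCI.IsKoszulRegularIdeal I) :
    Module.Flat (C ⧸ I) I.Cotangent := by
  rw [isKoszulRegularIdeal_iff] at hI
  set S₀ : Set (C ⧸ I) := {b | Module.Flat (C ⧸ I)
    (LocalizedModule (Submonoid.powers b) I.Cotangent)} with hS₀
  have hspan : Ideal.span S₀ = ⊤ := by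
    by_contra hne
    obtain ⟨𝔪, h𝔪, hle⟩ := Ideal.exists_le_maximal _ hne
    have hq'p : (𝔪.comap (Ideal.Quotient.mk I)).IsPrime := Ideal.comap_isPrime _ _
    have hIq' : I ≤ 𝔪.comap (Ideal.Quotient.mk I) := by
      intro x hx
      rw [Ideal.mem_comap, Ideal.Quotient.eq_zero_iff_mem.mpr hx]
      exact Ideal.zero_mem _
    obtain ⟨g, hg, r, l, hl, hgen, htors⟩ :=
      exists_fin_gens_of_kRegAt I _ (hI _ hq'p hIq')
    have hmem : Ideal.Quotient.mk I g ∈ S₀ := flat_localizedModule_cotangent I g l hl hgen htors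
    exact hg (hle (Ideal.subset_span hmem))
  exact Module.flat_of_localized_span (C ⧸ I) I.Cotangent S₀ hspan (fun r => r.2)

end Global

end Groth.Agent.Lib.T2H7.NLa
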