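import Mathlib
import Groth.Prelude.Def_RegImm

/-!
# Flatness of the conormal module of an extension (helper7)

* `flat_of_ringEquiv_of_addEquiv`: flatness transfers along a ring isomorphism and a compatible
  additive isomorphism of modules.
* `flat_cotangent_iff`: for an extension `P → S`, `P.Cotangent` is flat over `S` iff
  `P.ker.Cotangent` is flat over `P.Ring ⧸ P.ker`.
-/

set_option autoImplicit false

universe u

namespace Groth.Agent.Lib.T2H7.NLb

section Transport

variable {R₁ R₂ : Type*} [CommRing R₁] [CommRing R₂] {M₁ M₂ : Type*} [AddCommGroup M₁]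
  [AddCommGroup M₂] [Module R₁ M₁] [Module R₂ M₂]

/-- flatness transfers along a ring isomorphism and a compatible additive isomorphism -/
theorem flat_of_ringEquiv_of_addEquiv (φ : R₁ ≃+* R₂) (e : M₁ ≃+ M₂)
    (he : ∀ (r : R₁) (m : M₁), e (r • m) = φ r • e m) (h : Module.Flat R₁ M₁) :
    Module.Flat R₂ M₂ := by
  apply Module.Flat.of_forall_isTrivialRelation
  intro l f x hfx
  have he' : ∀ (r : R₂) (m : M₂), e.symm (r • m) = φ.symm r • e.symm m := by
    intro r m
    apply e.injective
    rw [he, AddEquiv.apply_symm_apply, RingEquiv.apply_symm_apply, AddEquiv.apply_symm_apply]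
  have h1 : ∑ i, (φ.symm (f i)) • e.symm (x i) = 0 := by
    have : ∑ i, (φ.symm (f i)) • e.symm (x i) = e.symm (∑ i, f i • x i) := by
      rw [map_sum]
      exact Finset.sum_congr rfl fun i _ => (he' _ _).symm
    rw [this, hfx, map_zero]
  obtain ⟨k, a, y, hy, ha⟩ := Module.Flat.isTrivialRelation_of_sum_smul_eq_zero h1
  refine ⟨k, fun i j => φ (a i j), fun j => e (y j), ?_, ?_⟩
  · intro i
    have h2 := congrArg e (hy i)
    rw [AddEquiv.apply_symm_apply, map_sum] at h2
    rw [h2]
    exact Finset.sum_congr rfl fun j _ => he _ _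
  · intro j
    have h2 := congrArg φ (ha j)
    rw [map_sum, map_zero] at h2
    rw [← h2]
    refine Finset.sum_congr rfl fun i _ => ?_
    rw [map_mul, RingEquiv.apply_symm_apply]

end Transport

section Ext

variable {R S : Type u} [CommRing R] [CommRing S] [Algebra R S] (P : Algebra.Extension.{u} R S)

/-- the quotient of the ring of an extension by its kernel -/
noncomputable def quotKerEquiv : (P.Ring ⧸ P.ker) ≃+* S :=
  RingHom.quotientKerEquivOfSurjective (f := algebraMap P.Ring S) P.algebraMap_surjective

lemma quotKerEquiv_mk (c : P.Ring) :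
    quotKerEquiv P (Ideal.Quotient.mk P.ker c) = algebraMap P.Ring S c := rfl

/-- the cotangent module of an extension as an additive group -/
def cotAddEquiv : P.ker.Cotangent ≃+ P.Cotangent := AddEquiv.refl _

lemma cotAddEquiv_smul (r : P.Ring ⧸ P.ker) (m : P.ker.Cotangent) :
    cotAddEquiv P (r • m) = quotKerEquiv P r • cotAddEquiv P m := by
  obtain ⟨c, rfl⟩ := Ideal.Quotient.mk_surjective r
  rw [quotKerEquiv_mk, algebraMap_smul]
  apply Algebra.Extension.Cotangent.ext
  rw [Algebra.Extension.Cotangent.val_smul']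
  rfl

theorem flat_cotangent_iff :
    Module.Flat S P.Cotangent ↔ Module.Flat (P.Ring ⧸ P.ker) P.ker.Cotangent := by
  constructor
  · intro h
    refine flat_of_ringEquiv_of_addEquiv (quotKerEquiv P).symm (cotAddEquiv P).symm ?_ h
    intro r m
    apply (cotAddEquiv P).injective
    rw [cotAddEquiv_smul, AddEquiv.apply_symm_apply, RingEquiv.apply_symm_apply,
      AddEquiv.apply_symm_apply]
  · intro h
    exact flat_of_ringEquiv_of_addEquiv (quotKerEquiv P) (cotAddEquiv P) (cotAddEquiv_smul P) h

end Ext

end Groth.Agent.Lib.T2H7.NLb
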