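import Mathlib
import Groth.Prelude.Def_RegImm
import Groth.Prelude.Def_SheafNL
import Groth.Agent.Lib.T2H2NLBC4
import Groth.Agent.Lib.T2H2NLBC3
import Groth.Agent.Lib.T2H7NLa
import Groth.Agent.Lib.T2H7NLb

/-!
# Naive cotangent complex of an lci algebra has tor-amplitude in [-1,0] (T2 helper7)

* `nonempty_toD_cx_iso`: any presentation computes `NL_{B/A}` in `D(B)`.
* `hasTorAmp_of_flat_cotangent`, `hasTorAmp_of_isLCI`.
-/

set_option autoImplicit false

universe u

open CategoryTheory CategoryTheory.Limits

attribute [local instance] HasDerivedCategory.standard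

namespace Groth.Agent.Lib.T2H7.NLc

section Iso

variable {A B : Type u} [CommRing A] [CommRing B] [Algebra A B]

/-- the naive cotangent complex computed by any presentation (in the derived category) -/
theorem nonempty_toD_cx_iso {ι : Type} (G : Algebra.Generators A B ι) :
    Nonempty (DRing.toD (NLCx.cx G.toExtension) ≅ LCI.NL A B) := by
  let g : (Algebra.Generators.self A B).Hom G := Algebra.Generators.defaultHom _ _
  let g' : G.Hom (Algebra.Generators.self A B) := Algebra.Generators.defaultHom _ _
  let e := Groth.Agent.Lib.T2H2.NLBC.mapHomotopyEquiv g'.toExtensionHom g.toExtensionHom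
  have hq : QuasiIso e.hom := inferInstance
  have hi : IsIso (DerivedCategory.Q.map e.hom) :=
    (DerivedCategory.isIso_Q_map_iff_quasiIso _ e.hom).mpr hq
  exact ⟨@asIso _ _ _ _ _ hi⟩

end Iso

section Converse

variable {A B : Type u} [CommRing A] [CommRing B] [Algebra A B]

/-- generators attached to a surjection from a polynomial ring -/
noncomputable def gensOf {n : ℕ} (f : MvPolynomial (Fin n) A →ₐ[A] B) (hf : Function.Surjective f) :
    Algebra.Generators A B (Fin n) :=
  Algebra.Generators.ofSurjective (fun i => f (MvPolynomial.X i)) (by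
    have : MvPolynomial.aeval (fun i => f (MvPolynomial.X i)) = f := by
      apply MvPolynomial.algHom_ext
      intro i
      rw [MvPolynomial.aeval_X]
    rw [this]
    exact hf)

lemma gensOf_ker {n : ℕ} (f : MvPolynomial (Fin n) A →ₐ[A] B) (hf : Function.Surjective f) :
    (gensOf f hf).toExtension.ker = RingHom.ker f.toRingHom := by
  have : MvPolynomial.aeval (fun i => f (MvPolynomial.X i)) = f := by
    apply MvPolynomial.algHom_ext
    intro i
    rw [MvPolynomial.aeval_X]
  ext v
  show (algebraMap (gensOf f hf).toExtension.Ring B) v = 0 ↔ f v = 0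
  have h2 : (algebraMap (gensOf f hf).toExtension.Ring B) v =
      MvPolynomial.aeval (fun i => f (MvPolynomial.X i)) v := rfl
  rw [h2, this]

/-- the two-term complex of a presentation with flat conormal module has tor-amplitude in
`[-1, 0]` -/
theorem hasTorAmp_of_flat_cotangent {ι : Type} (G : Algebra.Generators A B ι)
    (hflat : Module.Flat B G.toExtension.Cotangent) :
    DRing.HasTorAmplitudeIn B (-1) 0 (LCI.NL A B) := by
  refine ⟨NLCx.cx G.toExtension, ?_, ?_, nonempty_toD_cx_iso G⟩
  · intro i hi
    exact HomologicalComplex.isZero_double_X _ _ i (by omega) (by omega)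
  · intro i
    by_cases h1 : i = -1
    · subst h1
      exact Module.Flat.of_linearEquiv
        (HomologicalComplex.doubleXIso₀ (ModuleCat.ofHom G.toExtension.cotangentComplex)
          (show (ComplexShape.up ℤ).Rel (-1) 0 by simp)).toLinearEquiv
    · by_cases h0 : i = 0
      · subst h0
        exact Module.Flat.of_linearEquiv
          (HomologicalComplex.doubleXIso₁ (ModuleCat.ofHom G.toExtension.cotangentComplex)
            (show (ComplexShape.up ℤ).Rel (-1) 0 by simp) (by decide)).toLinearEquiv
      · have hz : IsZero ((NLCx.cx G.toExtension).X i) :=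
          HomologicalComplex.isZero_double_X _ _ i h1 h0
        have : Subsingleton ((NLCx.cx G.toExtension).X i) := ModuleCat.subsingleton_of_isZero hz
        infer_instance

/-- a local complete intersection algebra has naive cotangent complex of tor-amplitude in
`[-1, 0]` -/
theorem hasTorAmp_of_isLCI (hlci : LCI.IsLCI A B) :
    DRing.HasTorAmplitudeIn B (-1) 0 (LCI.NL A B) := by
  obtain ⟨-, n, f, hf, hK⟩ := hlci
  apply hasTorAmp_of_flat_cotangent (gensOf f hf)
  rw [Groth.Agent.Lib.T2H7.NLb.flat_cotangent_iff]
  apply Groth.Agent.Lib.T2H7.NLa.flat_cotangent_of_isKoszulRegularIdeal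
  rw [gensOf_ker]
  exact hK

end Converse

end Groth.Agent.Lib.T2H7.NLc
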