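import Mathlib
import Groth.Prelude
import Groth.Agent.Lib.T2H9TransReg
import Groth.Agent.Lib.T2H9SyntCI2
import Groth.Agent.Lib.Helper28ComplIso
import Groth.Agent.Lib.Helper6SepBC
import Groth.Agent.Lib.Helper19ComplDim2

/-!
# Complete intersections: quotients by regular sequences and polynomial extensions (helper9)

* `isCI_quotient_ofList`: a complete intersection modulo a regular sequence is a complete
  intersection.
* `exists_ringEquiv_adicCompletion_baseChange`: for `A → A'` flat local with `m_A A' = m_{A'}` and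
  trivial residue extension, an `A`-algebra `R` and a prime `P` of `R` over `m_A`, the ideal
  `P (R ⊗ A')` is prime and `R_P`, `(R ⊗ A')_{P'}` have isomorphic completions.
* `isCI_localization_mvPolynomial`: `A` a complete intersection ⟹ `A[t₁,…,tₙ]_P` is one, for `P`
  over `m_A`.
-/

set_option autoImplicit false
set_option linter.unusedSectionVars false
set_option linter.style.haveILetI false
universe u

namespace Groth.Agent.Lib.T2H9.CIPoly

open IsLocalRing RingTheory.Sequence Groth.Agent.Lib.Helper5 Groth.Agent.Lib.Helper28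
  Groth.Agent.Lib.T2H9.GeomDepthCI Groth.Agent.Lib.T2H9.CILocus Groth.Agent.Lib.T2H9.TransReg

section QuotReg

/-- weak regularity transports along ring isomorphisms -/
theorem isWeaklyRegular_map_ringEquiv {R R' : Type u} [CommRing R] [CommRing R'] (e : R ≃+* R')
    (rs : List R) (h : IsWeaklyRegular R rs) : IsWeaklyRegular R' (rs.map e) := by
  refine (AddEquiv.isWeaklyRegular_congr (e := e.toAddEquiv) (as := rs) (bs := rs.map e) ?_).mp h
  rw [List.forall₂_map_right_iff, List.forall₂_same]
  intro r _ x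
  change e (r * x) = e r * e x
  exact map_mul e r x

/-- concatenation of a regular sequence with a lift of a regular sequence of the quotient -/
theorem isWeaklyRegular_append_of_quotient {R : Type u} [CommRing R] (fs rs : List R)
    (hf : IsWeaklyRegular R fs)
    (hr : IsWeaklyRegular (R ⧸ Ideal.ofList fs) (rs.map (Ideal.Quotient.mk (Ideal.ofList fs)))) :
    IsWeaklyRegular R (fs ++ rs) := by
  rw [isWeaklyRegular_append_iff]
  refine ⟨hf, ?_⟩
  rw [(quotSMulTopEquiv (Ideal.ofList fs)).isWeaklyRegular_congr rs]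
  exact (isWeaklyRegular_map_algebraMap_iff (R ⧸ Ideal.ofList fs) (R ⧸ Ideal.ofList fs) rs).mp hr

/-- **(b)** a complete intersection modulo a regular sequence is a complete intersection -/
theorem isCI_quotient_ofList {A : Type u} [CommRing A] [IsLocalRing A] [IsNoetherianRing A]
    (hA : Pi1.IsCompleteIntersection A) (rs : List A) (hreg : IsRegular A rs)
    [IsLocalRing (A ⧸ Ideal.ofList rs)] : Pi1.IsCompleteIntersection (A ⧸ Ideal.ofList rs) := by
  obtain ⟨B₀, i1, i2, fs, hfmem, hfreg, ⟨e₀⟩⟩ := hA
  change AdicCompletion (maximalIdeal A) A ≃+* B₀ ⧸ Ideal.ofList fs at e₀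
  have hP : maximalIdeal (AdicCompletion (maximalIdeal A) A) =
      (maximalIdeal A).map (algebraMap A (AdicCompletion (maximalIdeal A) A)) :=
    AdicCompletion.maximalIdeal_eq_map
  have hloc : IsLocalHom (algebraMap A (AdicCompletion (maximalIdeal A) A)) := by
    apply ((IsLocalRing.local_hom_TFAE (algebraMap A (AdicCompletion (maximalIdeal A) A))).out 0 2).mpr
    rw [hP]
  have hff : Module.FaithfullyFlat A (AdicCompletion (maximalIdeal A) A) :=
    Module.FaithfullyFlat.of_flat_of_isLocalHom
  have hreg' : IsRegular (AdicCompletion (maximalIdeal A) A)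
      (rs.map (algebraMap A (AdicCompletion (maximalIdeal A) A))) :=
    IsRegular.of_faithfullyFlat hreg
  have hne : Ideal.ofList rs ≠ ⊤ := by
    intro h
    have : Nontrivial (A ⧸ Ideal.ofList rs) := inferInstance
    exact (Ideal.Quotient.nontrivial_iff.mp this) h
  have hmem : ∀ r ∈ rs, r ∈ maximalIdeal A := by
    intro r hr
    exact IsLocalRing.le_maximalIdeal hne (Ideal.subset_span hr)
  have hfne : Ideal.ofList fs ≠ ⊤ := by
    intro htop
    apply hfreg.top_ne_smul
    rw [htop, smul_eq_mul, Ideal.mul_top]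
  haveI : IsLocalRing (B₀ ⧸ Ideal.ofList fs) := e₀.isLocalRing
  set rs1 : List (B₀ ⧸ Ideal.ofList fs) :=
    (rs.map (algebraMap A (AdicCompletion (maximalIdeal A) A))).map e₀ with hrs1
  have hw1 : IsWeaklyRegular (B₀ ⧸ Ideal.ofList fs) rs1 :=
    isWeaklyRegular_map_ringEquiv e₀ _ hreg'.toIsWeaklyRegular
  obtain ⟨rs2, hrs2, -⟩ := exists_list_lift (Ideal.Quotient.mk (Ideal.ofList fs)) ⊤ rs1
    (fun g _ => by
      obtain ⟨r, rfl⟩ := Ideal.Quotient.mk_surjective g
      exact ⟨r, trivial, rfl⟩)
  have hw : IsWeaklyRegular B₀ (fs ++ rs2) :=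
    isWeaklyRegular_append_of_quotient fs rs2 hfreg.toIsWeaklyRegular (hrs2 ▸ hw1)
  haveI : IsLocalHom (Ideal.Quotient.mk (Ideal.ofList fs)) :=
    IsLocalHom.of_surjective _ Ideal.Quotient.mk_surjective
  have hmem2 : ∀ r ∈ rs2, r ∈ maximalIdeal B₀ := by
    intro r hr
    have h1 : Ideal.Quotient.mk (Ideal.ofList fs) r ∈ rs1 := by
      rw [← hrs2]; exact List.mem_map_of_mem hr
    rw [hrs1, List.map_map] at h1
    obtain ⟨a, ha, hae⟩ := List.mem_map.mp h1
    have h2 : algebraMap A (AdicCompletion (maximalIdeal A) A) a ∈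
        maximalIdeal (AdicCompletion (maximalIdeal A) A) := by
      rw [hP]; exact Ideal.mem_map_of_mem _ (hmem a ha)
    rw [IsLocalRing.mem_maximalIdeal, mem_nonunits_iff] at h2 ⊢
    intro hu
    apply h2
    have h3 : IsUnit (Ideal.Quotient.mk (Ideal.ofList fs) r) := hu.map _
    rw [← hae] at h3
    exact (isUnit_map_iff e₀ _).mp h3
  have hmemall : ∀ r ∈ fs ++ rs2, r ∈ maximalIdeal B₀ := by
    intro r hr
    rcases List.mem_append.mp hr with h | h
    · exact hfmem r h
    · exact hmem2 r h
  refine ⟨B₀, i1, i2, fs ++ rs2, hmemall,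
    (IsLocalRing.isRegular_iff_isWeaklyRegular_of_subset_maximalIdeal hmemall).mpr hw, ?_⟩
  obtain ⟨e1, -⟩ := exists_ringEquiv_adicCompletion_quotient (maximalIdeal A) (Ideal.ofList rs)
  rw [Groth.Agent.Lib.Helper5.maximalIdeal_quotient_eq_map (Ideal.ofList rs)]
  have hK : (Ideal.ofList rs2).map (Ideal.Quotient.mk (Ideal.ofList fs)) =
      ((Ideal.ofList rs).map (algebraMap A (AdicCompletion (maximalIdeal A) A))).map
        (e₀ : AdicCompletion (maximalIdeal A) A →+* B₀ ⧸ Ideal.ofList fs) := by
    rw [Ideal.map_ofList, Ideal.map_ofList, Ideal.map_ofList, hrs2, hrs1]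
    rfl
  let e2 := Ideal.quotientEquiv _ _ e₀ hK
  let e3 := DoubleQuot.quotQuotEquivQuotSup (Ideal.ofList fs) (Ideal.ofList rs2)
  have hK2 : Ideal.ofList fs ⊔ Ideal.ofList rs2 = Ideal.span {r | r ∈ fs ++ rs2} := by
    rw [← Ideal.ofList_append]
  exact ⟨e1.symm.trans (e2.trans (e3.trans (Ideal.quotEquivOfEq hK2)))⟩

end QuotReg

section BaseChange

open TensorProduct

variable {A A' R : Type u} [CommRing A] [CommRing A'] [CommRing R] [IsLocalRing A]
  [IsLocalRing A'] [Algebra A A'] [Algebra A R]

/-- every element of `R ⊗ A'` is congruent to an element of `R` modulo `m_A` -/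
theorem exists_sub_mem_map_maximalIdeal
    (h1 : (maximalIdeal A).map (algebraMap A A') = maximalIdeal A')
    (h2 : ∀ a' : A', ∃ a : A, a' - algebraMap A A' a ∈ maximalIdeal A') (x : R ⊗[A] A') :
    ∃ y : R, x - y ⊗ₜ[A] (1 : A') ∈ (maximalIdeal A).map (algebraMap A (R ⊗[A] A')) := by
  have hinc : ∀ e ∈ maximalIdeal A', ∀ r : R,
      r ⊗ₜ[A] e ∈ (maximalIdeal A).map (algebraMap A (R ⊗[A] A')) := by
    intro e he r
    have h3 : (1 : R) ⊗ₜ[A] e ∈ (maximalIdeal A).map (algebraMap A (R ⊗[A] A')) := by
      have h4 : (Algebra.TensorProduct.includeRight : A' →ₐ[A] R ⊗[A] A') e ∈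
          ((maximalIdeal A).map (algebraMap A A')).map
            (Algebra.TensorProduct.includeRight : A' →ₐ[A] R ⊗[A] A').toRingHom := by
        rw [h1]
        exact Ideal.mem_map_of_mem _ he
      rw [Ideal.map_map] at h4
      have h5 : (Algebra.TensorProduct.includeRight : A' →ₐ[A] R ⊗[A] A').toRingHom.comp
          (algebraMap A A') = algebraMap A (R ⊗[A] A') := by
        ext a
        exact (Algebra.TensorProduct.includeRight : A' →ₐ[A] R ⊗[A] A').commutes a
      rw [h5] at h4
      exact h4
    have h6 : r ⊗ₜ[A] e = (r ⊗ₜ[A] (1 : A')) * ((1 : R) ⊗ₜ[A] e) := by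
      rw [Algebra.TensorProduct.tmul_mul_tmul, mul_one, one_mul]
    rw [h6]
    exact Ideal.mul_mem_left _ _ h3
  induction x using TensorProduct.induction_on with
  | zero => exact ⟨0, by simp⟩
  | tmul r a' =>
    obtain ⟨a, ha⟩ := h2 a'
    refine ⟨a • r, ?_⟩
    have h7 : r ⊗ₜ[A] a' - (a • r) ⊗ₜ[A] (1 : A') = r ⊗ₜ[A] (a' - algebraMap A A' a) := by
      rw [TensorProduct.tmul_sub, TensorProduct.smul_tmul, Algebra.smul_def, mul_one]
    rw [h7]
    exact hinc _ ha r
  | add x₁ x₂ ih₁ ih₂ =>
    obtain ⟨y₁, hy₁⟩ := ih₁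
    obtain ⟨y₂, hy₂⟩ := ih₂
    refine ⟨y₁ + y₂, ?_⟩
    have : x₁ + x₂ - (y₁ + y₂) ⊗ₜ[A] (1 : A') =
        (x₁ - y₁ ⊗ₜ[A] (1 : A')) + (x₂ - y₂ ⊗ₜ[A] (1 : A')) := by
      rw [TensorProduct.add_tmul]; ring
    rw [this]
    exact Ideal.add_mem _ hy₁ hy₂

variable [Module.Flat A A'] [IsLocalHom (algebraMap A A')]

theorem map_maximalIdeal_le (P : Ideal R) (hP : (maximalIdeal A).map (algebraMap A R) ≤ P) :
    (maximalIdeal A).map (algebraMap A (R ⊗[A] A')) ≤ P.map (algebraMap R (R ⊗[A] A')) := by
  rw [IsScalarTower.algebraMap_eq A R (R ⊗[A] A'), ← Ideal.map_map]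
  exact Ideal.map_mono hP

theorem comap_map_eq (P : Ideal R) :
    (P.map (algebraMap R (R ⊗[A] A'))).comap (algebraMap R (R ⊗[A] A')) = P := by
  haveI : Module.FaithfullyFlat A A' := Module.FaithfullyFlat.of_flat_of_isLocalHom
  exact Ideal.comap_map_eq_self_of_faithfullyFlat P

theorem isPrime_map (h1 : (maximalIdeal A).map (algebraMap A A') = maximalIdeal A')
    (h2 : ∀ a' : A', ∃ a : A, a' - algebraMap A A' a ∈ maximalIdeal A')
    (P : Ideal R) [hPp : P.IsPrime] (hP : (maximalIdeal A).map (algebraMap A R) ≤ P) :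
    (P.map (algebraMap R (R ⊗[A] A'))).IsPrime := by
  have hle := map_maximalIdeal_le (A' := A') P hP
  have hc := comap_map_eq (A := A) (A' := A') P
  refine ⟨?_, ?_⟩
  · intro htop
    rw [htop, Ideal.comap_top] at hc
    exact hPp.ne_top hc.symm
  · intro x x' hxx'
    obtain ⟨y, hy⟩ := exists_sub_mem_map_maximalIdeal h1 h2 x
    obtain ⟨y', hy'⟩ := exists_sub_mem_map_maximalIdeal h1 h2 x'
    have hyy' : algebraMap R (R ⊗[A] A') (y * y') ∈ P.map (algebraMap R (R ⊗[A] A')) := by
      have e : algebraMap R (R ⊗[A] A') (y * y') =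
          x * x' - (x - y ⊗ₜ[A] (1 : A')) * x' - y ⊗ₜ[A] (1 : A') * (x' - y' ⊗ₜ[A] (1 : A')) := by
        rw [map_mul, Algebra.TensorProduct.algebraMap_apply, Algebra.TensorProduct.algebraMap_apply,
          Algebra.algebraMap_self, RingHom.id_apply, RingHom.id_apply]
        ring
      rw [e]
      exact Ideal.sub_mem _ (Ideal.sub_mem _ hxx' (Ideal.mul_mem_right _ _ (hle hy)))
        (Ideal.mul_mem_left _ _ (hle hy'))
    have hmem : y * y' ∈ P := by
      rw [← hc]
      exact hyy'
    rcases hPp.mem_or_mem hmem with h | h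
    · left
      have : x = (x - y ⊗ₜ[A] (1 : A')) + algebraMap R (R ⊗[A] A') y := by
        rw [Algebra.TensorProduct.algebraMap_apply, Algebra.algebraMap_self, RingHom.id_apply]
        ring
      rw [this]
      exact Ideal.add_mem _ (hle hy) (Ideal.mem_map_of_mem _ h)
    · right
      have : x' = (x' - y' ⊗ₜ[A] (1 : A')) + algebraMap R (R ⊗[A] A') y' := by
        rw [Algebra.TensorProduct.algebraMap_apply, Algebra.algebraMap_self, RingHom.id_apply]
        ring
      rw [this]
      exact Ideal.add_mem _ (hle hy') (Ideal.mem_map_of_mem _ h)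

/-- **(G)** `R_P` and `(R ⊗ A')_{P'}` have isomorphic completions -/
theorem exists_ringEquiv_adicCompletion_baseChange [IsNoetherianRing R]
    [IsNoetherianRing (R ⊗[A] A')]
    (h1 : (maximalIdeal A).map (algebraMap A A') = maximalIdeal A')
    (h2 : ∀ a' : A', ∃ a : A, a' - algebraMap A A' a ∈ maximalIdeal A')
    (P : Ideal R) [hPp : P.IsPrime] (hP : (maximalIdeal A).map (algebraMap A R) ≤ P)
    [hP' : (P.map (algebraMap R (R ⊗[A] A'))).IsPrime] :
    Nonempty (AdicCompletion (maximalIdeal (Localization.AtPrime P)) (Localization.AtPrime P) ≃+*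
      AdicCompletion (maximalIdeal (Localization.AtPrime (P.map (algebraMap R (R ⊗[A] A')))))
        (Localization.AtPrime (P.map (algebraMap R (R ⊗[A] A'))))) := by
  set P' : Ideal (R ⊗[A] A') := P.map (algebraMap R (R ⊗[A] A')) with hP'def
  have hle : (maximalIdeal A).map (algebraMap A (R ⊗[A] A')) ≤ P' :=
    map_maximalIdeal_le (A' := A') P hP
  have hc : P = P'.comap (algebraMap R (R ⊗[A] A')) := (comap_map_eq (A := A) (A' := A') P).symm
  set φ : Localization.AtPrime P →+* Localization.AtPrime P' :=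
    Localization.localRingHom P P' (algebraMap R (R ⊗[A] A')) hc with hφ
  letI : Algebra (Localization.AtPrime P) (Localization.AtPrime P') := φ.toAlgebra
  haveI : IsLocalHom (algebraMap (Localization.AtPrime P) (Localization.AtPrime P')) :=
    Localization.isLocalHom_localRingHom P P' _ hc
  haveI : Module.Flat (Localization.AtPrime P) (Localization.AtPrime P') := by
    have hf : (algebraMap R (R ⊗[A] A')).Flat := by
      rw [RingHom.flat_algebraMap_iff]
      infer_instance
    exact RingHom.Flat.localRingHom hf P' P hc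
  have hm : (maximalIdeal (Localization.AtPrime P)).map
      (algebraMap (Localization.AtPrime P) (Localization.AtPrime P')) =
        maximalIdeal (Localization.AtPrime P') := by
    change (maximalIdeal (Localization.AtPrime P)).map φ = _
    rw [← Localization.AtPrime.map_eq_maximalIdeal, ← Localization.AtPrime.map_eq_maximalIdeal,
      Ideal.map_map]
    have : φ.comp (algebraMap R (Localization.AtPrime P)) =
        (algebraMap (R ⊗[A] A') (Localization.AtPrime P')).comp (algebraMap R (R ⊗[A] A')) := by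
      ext x
      exact Localization.localRingHom_to_map P P' _ hc x
    rw [this, ← Ideal.map_map]
  have hres : ∀ c' : Localization.AtPrime P', ∃ c : Localization.AtPrime P,
      c' - algebraMap (Localization.AtPrime P) (Localization.AtPrime P') c ∈
        maximalIdeal (Localization.AtPrime P') := by
    intro c'
    obtain ⟨x, s, rfl⟩ := IsLocalization.exists_mk'_eq P'.primeCompl c'
    obtain ⟨y, hy⟩ := exists_sub_mem_map_maximalIdeal h1 h2 x
    obtain ⟨u, hu⟩ := exists_sub_mem_map_maximalIdeal h1 h2 (s : R ⊗[A] A')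
    have huP : u ∉ P := by
      intro h
      apply s.2
      have : (s : R ⊗[A] A') = ((s : R ⊗[A] A') - u ⊗ₜ[A] (1 : A')) +
          algebraMap R (R ⊗[A] A') u := by
        rw [Algebra.TensorProduct.algebraMap_apply, Algebra.algebraMap_self, RingHom.id_apply]
        ring
      rw [this]
      exact Ideal.add_mem _ (hle hu) (Ideal.mem_map_of_mem _ h)
    have huP' : u ∈ P.primeCompl := huP
    refine ⟨IsLocalization.mk' _ y (⟨u, huP'⟩ : P.primeCompl), ?_⟩
    change _ - φ _ ∈ _
    rw [hφ, Localization.localRingHom_mk', ← IsLocalization.mk'_sub,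
      IsLocalization.AtPrime.mk'_mem_maximal_iff (Localization.AtPrime P') P']
    change x * algebraMap R (R ⊗[A] A') u - algebraMap R (R ⊗[A] A') y * (s : R ⊗[A] A') ∈ P'
    have e : x * algebraMap R (R ⊗[A] A') u - algebraMap R (R ⊗[A] A') y * (s : R ⊗[A] A') =
        u ⊗ₜ[A] (1 : A') * (x - y ⊗ₜ[A] (1 : A')) -
          ((s : R ⊗[A] A') - u ⊗ₜ[A] (1 : A')) * y ⊗ₜ[A] (1 : A') := by
      simp only [Algebra.TensorProduct.algebraMap_apply, Algebra.algebraMap_self, RingHom.id_apply]
      ring
    rw [e]
    exact Ideal.sub_mem _ (Ideal.mul_mem_left _ _ (hle hy)) (Ideal.mul_mem_right _ _ (hle hu))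
  obtain ⟨e, -⟩ := exists_ringEquiv_adicCompletion_of_flat_of_map_maximalIdeal
    (Localization.AtPrime P) (Localization.AtPrime P') hm hres
  exact ⟨e⟩

end BaseChange

section Poly

open TensorProduct

/-- the complete intersection property only depends on the completion -/
theorem isCI_of_ringEquiv_adicCompletion {X Y : Type u} [CommRing X] [CommRing Y] [IsLocalRing X]
    [IsLocalRing Y]
    (e : AdicCompletion (maximalIdeal X) X ≃+* AdicCompletion (maximalIdeal Y) Y)
    (h : Pi1.IsCompleteIntersection Y) : Pi1.IsCompleteIntersection X := by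
  obtain ⟨B, i1, i2, rs, hmem, hreg, ⟨e₀⟩⟩ := h
  exact ⟨B, i1, i2, rs, hmem, hreg, ⟨e.trans e₀⟩⟩

variable {A : Type u} [CommRing A] [IsLocalRing A] [IsNoetherianRing A]

/-- **(a)** if `A` is a complete intersection, so is `A[t₁,…,tₙ]_P` for `P` over `m_A` -/
theorem isCI_localization_mvPolynomial (hA : Pi1.IsCompleteIntersection A) (n : ℕ)
    (P : Ideal (MvPolynomial (Fin n) A)) [hPp : P.IsPrime]
    (hP : (maximalIdeal A).map (algebraMap A (MvPolynomial (Fin n) A)) ≤ P) :
    Pi1.IsCompleteIntersection (Localization.AtPrime P) := by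
  obtain ⟨B₀, i1, i2, fs, hfmem, hfreg, ⟨e₀⟩⟩ := hA
  change AdicCompletion (maximalIdeal A) A ≃+* B₀ ⧸ Ideal.ofList fs at e₀
  have hm : maximalIdeal (AdicCompletion (maximalIdeal A) A) =
      (maximalIdeal A).map (algebraMap A (AdicCompletion (maximalIdeal A) A)) :=
    AdicCompletion.maximalIdeal_eq_map
  haveI hloc : IsLocalHom (algebraMap A (AdicCompletion (maximalIdeal A) A)) := by
    apply ((IsLocalRing.local_hom_TFAE (algebraMap A (AdicCompletion (maximalIdeal A) A))).out 0 2).mpr
    rw [hm]
  haveI hN : IsNoetherianRing (AdicCompletion (maximalIdeal A) A) :=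
    Groth.Agent.Lib.Helper19.isNoetherianRing_adicCompletion (maximalIdeal A)
  have h2 : ∀ a' : AdicCompletion (maximalIdeal A) A, ∃ a : A,
      a' - algebraMap A (AdicCompletion (maximalIdeal A) A) a ∈
        maximalIdeal (AdicCompletion (maximalIdeal A) A) := by
    intro a'
    rw [hm]
    exact Groth.Agent.Lib.Helper19.exists_sub_algebraMap_mem_map A (maximalIdeal A) a'
  -- the ring `T = A[t] ⊗ Â ≃ Â[t]`
  let ψ : (MvPolynomial (Fin n) A ⊗[A] AdicCompletion (maximalIdeal A) A) ≃+*
      MvPolynomial (Fin n) (AdicCompletion (maximalIdeal A) A) :=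
    (Algebra.TensorProduct.comm A (MvPolynomial (Fin n) A)
      (AdicCompletion (maximalIdeal A) A)).toRingEquiv.trans
      (MvPolynomial.algebraTensorAlgEquiv A (AdicCompletion (maximalIdeal A) A)).toRingEquiv
  haveI : IsNoetherianRing (MvPolynomial (Fin n) A ⊗[A] AdicCompletion (maximalIdeal A) A) :=
    isNoetherianRing_of_ringEquiv _ ψ.symm
  haveI hP' := isPrime_map (R := MvPolynomial (Fin n) A) hm.symm h2 P hP
  obtain ⟨ec⟩ := exists_ringEquiv_adicCompletion_baseChange (R := MvPolynomial (Fin n) A)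
    hm.symm h2 P hP
  refine isCI_of_ringEquiv_adicCompletion ec ?_
  set P' : Ideal (MvPolynomial (Fin n) A ⊗[A] AdicCompletion (maximalIdeal A) A) :=
    P.map (algebraMap _ _) with hP'def
  -- the surjection `B₀[t] → T`
  let φ : MvPolynomial (Fin n) B₀ →+*
      (MvPolynomial (Fin n) A ⊗[A] AdicCompletion (maximalIdeal A) A) :=
    ψ.symm.toRingHom.comp ((MvPolynomial.mapEquiv (Fin n) e₀.symm).toRingHom.comp
      (MvPolynomial.map (Ideal.Quotient.mk (Ideal.ofList fs))))
  have hφ : Function.Surjective φ :=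
    ψ.symm.surjective.comp ((MvPolynomial.mapEquiv (Fin n) e₀.symm).surjective.comp
      (MvPolynomial.map_surjective _ Ideal.Quotient.mk_surjective))
  have hker : RingHom.ker φ = Ideal.ofList (fs.map MvPolynomial.C) := by
    have h3 : RingHom.ker φ = RingHom.ker
        (MvPolynomial.map (σ := Fin n) (Ideal.Quotient.mk (Ideal.ofList fs))) := by
      ext x
      simp only [RingHom.mem_ker]
      change ψ.symm ((MvPolynomial.mapEquiv (Fin n) e₀.symm) _) = 0 ↔ _
      rw [map_eq_zero_iff _ ψ.symm.injective,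
        map_eq_zero_iff _ (MvPolynomial.mapEquiv (Fin n) e₀.symm).injective]
    rw [h3, MvPolynomial.ker_map, Ideal.mk_ker, Ideal.map_ofList]
  set Q : Ideal (MvPolynomial (Fin n) B₀) := P'.comap φ with hQ
  haveI hQp : Q.IsPrime := Ideal.comap_isPrime _ _
  let e1 := Groth.Agent.Lib.T2H9.SyntCI.locSurjEquiv φ hφ P'
  haveI : IsRegularRing B₀ := Groth.Agent.Lib.Helper6.SepBC.isRegularRing_of_isRegularLocalRing B₀
  haveI : IsRegularRing (MvPolynomial (Fin n) B₀) := inferInstance
  haveI hRL : IsRegularLocalRing (Localization.AtPrime Q) :=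
    IsRegularRing.isRegularLocalRing_localization _
  haveI : Module.Flat B₀ (Localization.AtPrime Q) :=
    Module.Flat.trans B₀ (MvPolynomial (Fin n) B₀) (Localization.AtPrime Q)
  have hw : IsWeaklyRegular (Localization.AtPrime Q)
      (fs.map (algebraMap B₀ (Localization.AtPrime Q))) :=
    IsWeaklyRegular.of_flat hfreg.toIsWeaklyRegular
  have hlist : fs.map (algebraMap B₀ (Localization.AtPrime Q)) =
      (fs.map MvPolynomial.C).map (algebraMap (MvPolynomial (Fin n) B₀) (Localization.AtPrime Q)) := by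
    rw [List.map_map]
    apply List.map_congr_left
    intro f _
    rw [IsScalarTower.algebraMap_apply B₀ (MvPolynomial (Fin n) B₀) (Localization.AtPrime Q),
      MvPolynomial.algebraMap_eq]
    rfl
  rw [hlist] at hw
  have hmem : ∀ y ∈ (fs.map MvPolynomial.C).map
      (algebraMap (MvPolynomial (Fin n) B₀) (Localization.AtPrime Q)),
      y ∈ maximalIdeal (Localization.AtPrime Q) := by
    intro y hy
    obtain ⟨a, ha, rfl⟩ := List.mem_map.mp hy
    refine (IsLocalization.AtPrime.to_map_mem_maximal_iff (Localization.AtPrime Q) Q a).mpr ?_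
    have : a ∈ RingHom.ker φ := by rw [hker]; exact Ideal.subset_span ha
    rw [hQ, Ideal.mem_comap, RingHom.mem_ker.mp this]
    exact Ideal.zero_mem _
  have hreg : IsRegular (Localization.AtPrime Q) ((fs.map MvPolynomial.C).map
      (algebraMap (MvPolynomial (Fin n) B₀) (Localization.AtPrime Q))) :=
    (IsLocalRing.isRegular_iff_isWeaklyRegular_of_subset_maximalIdeal hmem).mpr hw
  have heq : (RingHom.ker φ).map (algebraMap _ (Localization.AtPrime Q)) =
      Ideal.ofList ((fs.map MvPolynomial.C).map
        (algebraMap (MvPolynomial (Fin n) B₀) (Localization.AtPrime Q))) := by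
    rw [hker, Ideal.map_ofList]
  let e2 := e1.trans (Ideal.quotEquivOfEq heq)
  haveI : IsLocalRing (Localization.AtPrime Q ⧸ Ideal.ofList ((fs.map MvPolynomial.C).map
      (algebraMap (MvPolynomial (Fin n) B₀) (Localization.AtPrime Q)))) := e2.isLocalRing
  exact isCI_of_ringEquiv e2.symm
    (Groth.Agent.S2165.isCompleteIntersection_quotient_ofList _ hreg)

end Poly

section Ascent

open Groth.Agent.Lib.T2H9.SyntCI

theorem isRegularLocalRing_quot_congr {R : Type u} [CommRing R] (I : Ideal R) (Q P : Ideal R)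
    [Q.IsPrime] [P.IsPrime] (h : Q = P)
    (hr : IsRegularLocalRing (Localization.AtPrime Q ⧸
      I.map (algebraMap R (Localization.AtPrime Q)))) :
    IsRegularLocalRing (Localization.AtPrime P ⧸
      I.map (algebraMap R (Localization.AtPrime P))) := by
  subst h
  exact hr

variable {A : Type u} [CommRing A] [IsLocalRing A] [IsNoetherianRing A]

/-- the closed fibre of `A → A[t]_P` is a regular local ring (`P` over `m_A`) -/
theorem isRegularLocalRing_fibRing_localization_mvPolynomial (n : ℕ)
    (P : Ideal (MvPolynomial (Fin n) A)) [hPp : P.IsPrime]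
    (hP : (maximalIdeal A).map (algebraMap A (MvPolynomial (Fin n) A)) ≤ P) :
    IsRegularLocalRing (EGA4.FibRing A (Localization.AtPrime P)) := by
  let φ : MvPolynomial (Fin n) A →+* MvPolynomial (Fin n) (ResidueField A) :=
    MvPolynomial.map (IsLocalRing.residue A)
  have hφ : Function.Surjective φ :=
    MvPolynomial.map_surjective _ IsLocalRing.residue_surjective
  have hker : RingHom.ker φ = (maximalIdeal A).map (algebraMap A (MvPolynomial (Fin n) A)) := by
    rw [MvPolynomial.ker_map, IsLocalRing.ker_residue, MvPolynomial.algebraMap_eq]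
  have hkP : RingHom.ker φ ≤ P := hker ▸ hP
  haveI hpb : (P.map φ).IsPrime := Ideal.map_isPrime_of_surjective hφ hkP
  have hc : (P.map φ).comap φ = P := by
    rw [Ideal.comap_map_of_surjective φ hφ, sup_eq_left]
    exact hkP
  haveI : ((P.map φ).comap φ).IsPrime := Ideal.comap_isPrime _ _
  let e1 := locSurjEquiv φ hφ (P.map φ)
  haveI : IsRegularRing (MvPolynomial (Fin n) (ResidueField A)) := inferInstance
  haveI h1 : IsRegularLocalRing (Localization.AtPrime (P.map φ)) :=
    IsRegularRing.isRegularLocalRing_localization _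
  have h2 : IsRegularLocalRing (Localization.AtPrime ((P.map φ).comap φ) ⧸
      (RingHom.ker φ).map (algebraMap _ (Localization.AtPrime ((P.map φ).comap φ)))) :=
    IsRegularLocalRing.of_ringEquiv e1
  haveI h3 := isRegularLocalRing_quot_congr (RingHom.ker φ) _ P hc h2
  have heq : (RingHom.ker φ).map (algebraMap _ (Localization.AtPrime P)) =
      EGA4.mB A (Localization.AtPrime P) := by
    unfold EGA4.mB
    rw [hker, Ideal.map_map, ← IsScalarTower.algebraMap_eq]
  let e4 : (Localization.AtPrime P ⧸ (RingHom.ker φ).map (algebraMap _ (Localization.AtPrime P)))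
      ≃+* EGA4.FibRing A (Localization.AtPrime P) := Ideal.quotEquivOfEq heq
  exact IsRegularLocalRing.of_ringEquiv (R := Localization.AtPrime P ⧸
    (RingHom.ker φ).map (algebraMap _ (Localization.AtPrime P))) e4

/-- **ascent**: a flat local `A`-algebra essentially of finite type over a complete intersection
`A` whose closed fibre is a complete intersection is a complete intersection -/
theorem isCI_of_flat_of_isCI_fibre {B : Type u} [CommRing B] [IsLocalRing B] [Algebra A B]
    [IsLocalHom (algebraMap A B)] [Module.Flat A B] [Algebra.EssFiniteType A B]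
    (hA : Pi1.IsCompleteIntersection A) (hF : Pi1.IsCompleteIntersection (EGA4.FibRing A B)) :
    Pi1.IsCompleteIntersection B := by
  set q₀ : Ideal (Algebra.EssFiniteType.subalgebra A B) :=
    (maximalIdeal B).comap (algebraMap (Algebra.EssFiniteType.subalgebra A B) B) with hq₀
  haveI hq₀p : q₀.IsPrime := Ideal.comap_isPrime _ _
  haveI hloc : IsLocalization.AtPrime B q₀ := by
    have h : q₀.primeCompl = Algebra.EssFiniteType.submonoid A B := by
      ext b
      change b ∉ q₀ ↔ IsUnit (algebraMap (Algebra.EssFiniteType.subalgebra A B) B b)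
      rw [hq₀, Ideal.mem_comap, IsLocalRing.mem_maximalIdeal, mem_nonunits_iff, not_not]
    unfold IsLocalization.AtPrime
    rw [h]
    infer_instance
  obtain ⟨n, π₀, hπ₀⟩ := Algebra.FiniteType.iff_quotient_mvPolynomial''.mp
    (inferInstance : Algebra.FiniteType A (Algebra.EssFiniteType.subalgebra A B))
  set P : Ideal (MvPolynomial (Fin n) A) := q₀.comap π₀.toRingHom with hPdef
  haveI hPp : P.IsPrime := Ideal.comap_isPrime _ _
  let e : Localization.AtPrime q₀ ≃ₐ[A] B :=
    (IsLocalization.algEquiv q₀.primeCompl (Localization.AtPrime q₀) B).restrictScalars A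
  let ι : Localization.AtPrime P →ₐ[A] B := e.toAlgHom.comp (locSurjAlgHom π₀ q₀)
  have hι : Function.Surjective ι := e.surjective.comp (locSurjAlgHom_surjective π₀ hπ₀ q₀)
  letI : Algebra (Localization.AtPrime P) B := ι.toRingHom.toAlgebra
  haveI : IsScalarTower A (Localization.AtPrime P) B :=
    IsScalarTower.of_algebraMap_eq (fun a => (ι.commutes a).symm)
  have hsurj : Function.Surjective (algebraMap (Localization.AtPrime P) B) := hι
  haveI : IsLocalHom (algebraMap A (Localization.AtPrime P)) := by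
    constructor
    intro a ha
    have : IsUnit (algebraMap A B a) := by
      rw [IsScalarTower.algebraMap_apply A (Localization.AtPrime P) B]
      exact ha.map _
    exact isUnit_of_map_unit (algebraMap A B) a this
  haveI : Module.Flat A (Localization.AtPrime P) :=
    Module.Flat.trans A (MvPolynomial (Fin n) A) (Localization.AtPrime P)
  have hP : (maximalIdeal A).map (algebraMap A (MvPolynomial (Fin n) A)) ≤ P := by
    rw [Ideal.map_le_iff_le_comap]
    intro a ha
    rw [Ideal.mem_comap, hPdef, Ideal.mem_comap]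
    change π₀ (algebraMap A _ a) ∈ q₀
    rw [π₀.commutes, hq₀, Ideal.mem_comap, ← IsScalarTower.algebraMap_apply]
    rw [IsLocalRing.mem_maximalIdeal, mem_nonunits_iff] at ha ⊢
    intro hu
    exact ha (isUnit_of_map_unit _ _ hu)
  have hreg := isRegularLocalRing_fibRing_localization_mvPolynomial n P hP
  obtain ⟨rs, hrs, htr⟩ := backward (A := A) (C := Localization.AtPrime P) (B := B) hreg hsurj
    inferInstance hF
  have hC : Pi1.IsCompleteIntersection (Localization.AtPrime P) :=
    isCI_localization_mvPolynomial hA n P hP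
  have hne : RingHom.ker (algebraMap (Localization.AtPrime P) B) ≠ ⊤ := RingHom.ker_ne_top _
  have hmem : ∀ r ∈ rs, r ∈ maximalIdeal (Localization.AtPrime P) := by
    intro r hr
    apply IsLocalRing.le_maximalIdeal hne
    rw [← hrs]
    exact Ideal.subset_span hr
  have hregular : IsRegular (Localization.AtPrime P) rs :=
    (IsLocalRing.isRegular_iff_isWeaklyRegular_of_subset_maximalIdeal hmem).mpr htr.1
  let e5 : (Localization.AtPrime P ⧸ Ideal.ofList rs) ≃+* B :=
    (Ideal.quotEquivOfEq hrs).trans (RingHom.quotientKerEquivOfSurjective hsurj)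
  haveI : IsLocalRing (Localization.AtPrime P ⧸ Ideal.ofList rs) := e5.symm.isLocalRing
  exact isCI_of_ringEquiv e5 (isCI_quotient_ofList hC rs hregular)

end Ascent

end Groth.Agent.Lib.T2H9.CIPoly
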