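import Mathlib
import Groth.Prelude.Def_RegImm
import Groth.Prelude.Def_Flat
import Groth.Agent.Lib.T2H7SyntB
import Groth.Agent.Lib.Helper3SmDim

/-!
# Fibre dimension of a relative global complete intersection (helper9)
-/

set_option autoImplicit false
set_option linter.style.haveILetI false
universe u

open AlgebraicGeometry CategoryTheory TensorProduct MvPolynomial

namespace Groth.Agent.Lib.T2H9.RelGCIDim

open Groth.Agent.Lib.Helper4.FibDim Groth.Agent.Lib.T2H7.SyntB

/-- a quotient of `κ[x₁..xₙ]` by `c` equations cutting out an ideal of height `≥ c` has local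
dimension `n - c` at every point. -/
theorem localDim_eq_of_presentation (κ : Type u) [Field κ] (T : Type u) [CommRing T] [Algebra κ T]
    (n c : ℕ) (φ : MvPolynomial (Fin n) κ →ₐ[κ] T) (hφ : Function.Surjective φ)
    (G : Fin c → MvPolynomial (Fin n) κ)
    (hker : RingHom.ker φ.toRingHom = Ideal.span (Set.range G))
    (hht : (c : ℕ∞) ≤ (RingHom.ker φ.toRingHom).height) (P : PrimeSpectrum T) :
    FlatMor.localDim (PrimeSpectrum T) P = ((n - c : ℕ) : WithBot ℕ∞) := by
  classical
  haveI : Algebra.FiniteType κ T := Algebra.FiniteType.of_surjective φ hφ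
  haveI hCM : LocCoh.IsCohenMacaulayRing (MvPolynomial (Fin n) κ) :=
    Groth.Agent.Lib.T2H9.SyntCI.cm_mvPolynomial κ n
  have key : ∀ q ∈ minimalPrimes T, ringKrullDim (T ⧸ q) = ((n - c : ℕ) : WithBot ℕ∞) ∧ c ≤ n := by
    intro q hq
    haveI : q.IsPrime := hq.1.1
    have hQmin : q.comap φ.toRingHom ∈ (RingHom.ker φ.toRingHom).minimalPrimes := by
      have := Ideal.minimalPrimes_comap_of_surjective (f := φ.toRingHom) hφ (I := ⊥) hq
      rwa [← RingHom.ker_eq_comap_bot] at this
    set Q := q.comap φ.toRingHom with hQ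
    haveI : Q.IsPrime := hQmin.1.1
    have hQne : Q ≠ ⊤ := Ideal.IsPrime.ne_top ‹_›
    -- height of Q
    have h1 : Q.height ≤ c := by
      have hspan : Ideal.span (Set.range G) = Ideal.span ((Finset.univ.image G : Finset _) : Set _) := by
        rw [Finset.coe_image, Finset.coe_univ, Set.image_univ]
      rw [hker, hspan] at hQmin
      refine (Ideal.height_le_card_of_mem_minimalPrimes_span_finset hQmin).trans ?_
      have : (Finset.univ.image G).card ≤ c := by
        refine Finset.card_image_le.trans ?_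
        simp
      exact_mod_cast this
    have h2 : (c : ℕ∞) ≤ Q.height := hht.trans (Ideal.height_mono hQmin.1.2)
    have h3 : Q.height = c := le_antisymm h1 h2
    have h4 := Groth.Agent.Lib.Helper28.height_add_ringKrullDim_quotient_eq_of_forall_isMaximal_height_eq' n
      (Groth.Agent.Lib.Helper28.height_eq_of_isMaximal_mvPolynomial_fin κ n) Q hQne
    rw [h3] at h4
    -- T / q ≃ κ[x] / Q
    have hsurj : Function.Surjective ((Ideal.Quotient.mk q).comp φ.toRingHom) :=
      Ideal.Quotient.mk_surjective.comp hφ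
    have hkerψ : RingHom.ker ((Ideal.Quotient.mk q).comp φ.toRingHom) = Q := by
      ext a
      rw [RingHom.mem_ker, RingHom.comp_apply, Ideal.Quotient.eq_zero_iff_mem, hQ, Ideal.mem_comap]
    let e : (MvPolynomial (Fin n) κ ⧸ Q) ≃+* (T ⧸ q) :=
      (Ideal.quotEquivOfEq hkerψ.symm).trans (RingHom.quotientKerEquivOfSurjective hsurj)
    rw [← ringKrullDim_eq_of_ringEquiv e]
    -- arithmetic
    generalize ringKrullDim (MvPolynomial (Fin n) κ ⧸ Q) = d at h4
    induction d using WithBot.recBotCoe with
    | bot => simp at h4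
    | coe d =>
      induction d using ENat.recTopCoe with
      | top =>
        exfalso
        have : (((c : ℕ∞) + ⊤ : ℕ∞) : WithBot ℕ∞) = ((n : ℕ∞) : WithBot ℕ∞) := by
          exact_mod_cast h4
        rw [add_top] at this
        exact ENat.coe_ne_top n (WithBot.coe_injective this).symm
      | coe d =>
        have h5 : c + d = n := by exact_mod_cast h4
        refine ⟨?_, by omega⟩
        have : d = n - c := by omega
        rw [this]
        rfl
  haveI : P.asIdeal.IsPrime := P.2
  obtain ⟨n', e, hn, he, -, he'⟩ :=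
    Groth.Agent.Lib.Helper14.LocalDim.exists_dims (k := κ) P.asIdeal
  have h2 := Groth.Agent.Lib.Helper14.LocalDim.localDim_eq (k := κ) P.asIdeal n' e hn he he'
  have hP : (⟨P.asIdeal, inferInstance⟩ : PrimeSpectrum T) = P := rfl
  rw [hP] at h2
  apply le_antisymm
  · have := (Groth.Agent.Lib.Helper14.LocalDim.localDim_le_iff (k := κ) P.asIdeal (n - c)).mpr
      (fun q hq _ => (key q hq).1.le)
    rwa [hP] at this
  · obtain ⟨q, hq, hqP⟩ := Ideal.exists_minimalPrimes_le (I := (⊥ : Ideal T)) (J := P.asIdeal) bot_le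
    have h3 := (Groth.Agent.Lib.Helper14.LocalDim.localDim_le_iff (k := κ) P.asIdeal (n' + e)).mp
      (by rw [hP]; exact h2.le) q hq hqP
    rw [(key q hq).1] at h3
    rw [h2]
    exact h3

theorem main (R : Type u) [CommRing R] (n c : ℕ) (F : Fin c → MvPolynomial (Fin n) R)
    (hF : Synt.IsRelGCI R n c F) (x : ↑(Spec (CommRingCat.of (Synt.RelGCIRing R n c F)))) :
    FlatMor.fibreDimAt (Spec.map (CommRingCat.ofHom (algebraMap R (Synt.RelGCIRing R n c F)))) x =
      ((n - c : ℕ) : WithBot ℕ∞) := by
  rw [fibreDimAt_eq_fibLD]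
  change fibLD (PrimeSpectrum.comap (algebraMap R (Synt.RelGCIRing R n c F))) x = _
  rw [fibLD_comap_eq]
  set p := PrimeSpectrum.comap (algebraMap R (Synt.RelGCIRing R n c F)) x with hp
  haveI : Nontrivial (p.asIdeal.Fiber (Synt.RelGCIRing R n c F)) :=
    PrimeSpectrum.nonempty_iff_nontrivial.mp
      ⟨PrimeSpectrum.preimageHomeomorphFiber R (Synt.RelGCIRing R n c F) p ⟨x, rfl⟩⟩
  obtain ⟨hcn, hdim⟩ := hF p inferInstance
  have hht := le_height_map_ι p.asIdeal n (Ideal.span (Set.range F)) hcn hdim
  refine localDim_eq_of_presentation p.asIdeal.ResidueField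
    (p.asIdeal.Fiber (MvPolynomial (Fin n) R ⧸ Ideal.span (Set.range F))) n c
    (φ p.asIdeal n (Ideal.span (Set.range F)))
    (φ_surjective p.asIdeal n (Ideal.span (Set.range F)))
    (fun i => ι p.asIdeal n (F i)) ?_ ?_ _
  · rw [ker_φ, Ideal.map_span, ← Set.range_comp]
    rfl
  · rw [ker_φ]
    exact hht

end Groth.Agent.Lib.T2H9.RelGCIDim
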