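import Mathlib
import Groth.Prelude
import Groth.Agent.Lib.T2H9CIPoly
import Groth.Agent.Lib.Helper5FiberRing
import Groth.Agent.Lib.Helper5FiberStalk

set_option autoImplicit false
set_option linter.unusedSectionVars false
set_option linter.style.haveILetI false
universe u

namespace Groth.Agent.Lib.T2H9.CIComp

open IsLocalRing TensorProduct Groth.Agent.Lib.Helper5 Groth.Agent.Lib.Helper28
  Groth.Agent.Lib.T2H9.CILocus Groth.Agent.Lib.T2H9.CIPoly

section Ring

/-- the closed fibre of an essentially finite type local algebra is Noetherian -/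
theorem isNoetherianRing_quot_map_maximalIdeal {C A : Type u} [CommRing C] [CommRing A]
    [IsLocalRing C] [Algebra C A] [Algebra.EssFiniteType C A] :
    IsNoetherianRing (A ⧸ (maximalIdeal C).map (algebraMap C A)) := by
  letI : Field (C ⧸ maximalIdeal C) := Ideal.Quotient.field _
  haveI : Algebra.EssFiniteType (C ⧸ maximalIdeal C) ((C ⧸ maximalIdeal C) ⊗[C] A) :=
    inferInstance
  haveI : IsNoetherianRing ((C ⧸ maximalIdeal C) ⊗[C] A) :=
    Algebra.EssFiniteType.isNoetherianRing (C ⧸ maximalIdeal C) _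
  exact isNoetherianRing_of_ringEquiv _
    (Algebra.TensorProduct.quotIdealMapEquivQuotTensor A (maximalIdeal C)).symm.toRingEquiv

end Ring

section Quot

variable {A₀ B₀ : Type u} [CommRing A₀] [CommRing B₀] [IsLocalRing A₀] [IsLocalRing B₀]
  [Algebra A₀ B₀] [IsLocalHom (algebraMap A₀ B₀)] [Module.Flat A₀ B₀]
  [Algebra.EssFiniteType A₀ B₀]

/-- ascent of complete intersections for quotients: for a flat local essentially finite type
homomorphism `A₀ → B₀` of local rings and a proper ideal `a` of `A₀` with `A₀/a` Noetherian,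
if `A₀/a` and `B₀/m_{A₀}B₀` are complete intersections then so is `B₀/aB₀`. -/
theorem isCI_quot_of_flat (a : Ideal A₀) (ha : a ≠ ⊤) [IsNoetherianRing (A₀ ⧸ a)]
    [hS : IsLocalRing (A₀ ⧸ a)] [hT : IsLocalRing (B₀ ⧸ a.map (algebraMap A₀ B₀))]
    [hF : IsLocalRing (B₀ ⧸ (maximalIdeal A₀).map (algebraMap A₀ B₀))]
    (h1 : Pi1.IsCompleteIntersection (A₀ ⧸ a))
    (h2 : Pi1.IsCompleteIntersection (B₀ ⧸ (maximalIdeal A₀).map (algebraMap A₀ B₀))) :
    IsNoetherianRing (B₀ ⧸ a.map (algebraMap A₀ B₀)) ∧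
      Pi1.IsCompleteIntersection (B₀ ⧸ a.map (algebraMap A₀ B₀)) := by
  haveI hlocST := isLocalHom_quotient_map (A := A₀) (A' := B₀) a
  haveI hflatST := flat_quotient_map' (A := A₀) (A' := B₀) a
  have hle : a.map (algebraMap A₀ B₀) ≤ (maximalIdeal A₀).map (algebraMap A₀ B₀) :=
    Ideal.map_mono (IsLocalRing.le_maximalIdeal ha)
  have hker : RingHom.ker (Ideal.Quotient.factor hle) =
      (maximalIdeal (A₀ ⧸ a)).map
        (algebraMap (A₀ ⧸ a) (B₀ ⧸ a.map (algebraMap A₀ B₀))) := by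
    rw [Ideal.Quotient.factor_ker, maximalIdeal_quotient_eq_map]
    have e1 := Ideal.map_map (I := maximalIdeal A₀) (algebraMap A₀ B₀)
      (Ideal.Quotient.mk (a.map (algebraMap A₀ B₀)))
    have e2 := Ideal.map_map (I := maximalIdeal A₀) (Ideal.Quotient.mk a)
      (algebraMap (A₀ ⧸ a) (B₀ ⧸ a.map (algebraMap A₀ B₀)))
    have hcomp : (Ideal.Quotient.mk (a.map (algebraMap A₀ B₀))).comp (algebraMap A₀ B₀) =
        (algebraMap (A₀ ⧸ a) (B₀ ⧸ a.map (algebraMap A₀ B₀))).comp (Ideal.Quotient.mk a) :=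
      RingHom.ext fun x => rfl
    exact e1.trans ((congrArg (fun g => Ideal.map g (maximalIdeal A₀)) hcomp).trans e2.symm)
  -- essentially of finite type
  haveI : Algebra.EssFiniteType A₀ (B₀ ⧸ a.map (algebraMap A₀ B₀)) :=
    Algebra.EssFiniteType.comp A₀ B₀ _
  haveI : Algebra.EssFiniteType (A₀ ⧸ a) (B₀ ⧸ a.map (algebraMap A₀ B₀)) :=
    Algebra.EssFiniteType.of_comp A₀ (A₀ ⧸ a) _
  haveI : IsNoetherianRing (B₀ ⧸ a.map (algebraMap A₀ B₀)) :=
    Algebra.EssFiniteType.isNoetherianRing (A₀ ⧸ a) _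
  haveI : IsNoetherianRing (B₀ ⧸ (maximalIdeal A₀).map (algebraMap A₀ B₀)) :=
    isNoetherianRing_of_surjective _ _ (Ideal.Quotient.factor hle)
      (Ideal.Quotient.factor_surjective hle)
  -- the closed fibre
  let e : (B₀ ⧸ (maximalIdeal A₀).map (algebraMap A₀ B₀)) ≃+*
      EGA4.FibRing (A₀ ⧸ a) (B₀ ⧸ a.map (algebraMap A₀ B₀)) :=
    (RingHom.quotientKerEquivOfSurjective (Ideal.Quotient.factor_surjective hle)).symm.trans
      (Ideal.quotEquivOfEq hker)
  have hF' : Pi1.IsCompleteIntersection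
      (EGA4.FibRing (A₀ ⧸ a) (B₀ ⧸ a.map (algebraMap A₀ B₀))) :=
    isCI_of_ringEquiv e h2
  exact ⟨inferInstance, isCI_of_flat_of_isCI_fibre h1 hF'⟩

end Quot

section Scheme

open AlgebraicGeometry CategoryTheory Groth.Agent.Lib.Helper5.FiberStalk

variable {X Y Z : Scheme.{u}} (f : X ⟶ Y) (g : Y ⟶ Z) (x : X)

/-- the local ring of the fibre of an essentially finite type morphism is Noetherian -/
theorem isNoetherianRing_fiberStalk (hfe : (f.stalkMap x).hom.EssFiniteType) :
    IsNoetherianRing (CInt.fiberStalk f x) := by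
  obtain ⟨ef⟩ := nonempty_stalk_asFiber_equiv f x
  letI := (f.stalkMap x).hom.toAlgebra
  haveI : Algebra.EssFiniteType (Y.presheaf.stalk (f x)) (X.presheaf.stalk x) := by
    rw [← RingHom.essFiniteType_algebraMap, RingHom.algebraMap_toAlgebra]
    exact hfe
  haveI := isNoetherianRing_quot_map_maximalIdeal (C := Y.presheaf.stalk (f x))
    (A := X.presheaf.stalk x)
  exact isNoetherianRing_of_ringEquiv _ ef.symm

/-- complete-intersection fibres compose -/
theorem isCI_fiberStalk_comp (hfl : (f.stalkMap x).hom.Flat)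
    (hfe : (f.stalkMap x).hom.EssFiniteType) (hge : (g.stalkMap (f x)).hom.EssFiniteType)
    (h1 : Pi1.IsCompleteIntersection (CInt.fiberStalk g (f x)))
    (h2 : Pi1.IsCompleteIntersection (CInt.fiberStalk f x)) :
    Pi1.IsCompleteIntersection (CInt.fiberStalk (f ≫ g) x) := by
  obtain ⟨ef⟩ := nonempty_stalk_asFiber_equiv f x
  obtain ⟨eg⟩ := nonempty_stalk_asFiber_equiv g (f x)
  obtain ⟨egf⟩ := nonempty_stalk_asFiber_equiv (f ≫ g) x
  have hI : (maximalIdeal (Z.presheaf.stalk ((f ≫ g) x))).map ((f ≫ g).stalkMap x).hom =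
      ((maximalIdeal (Z.presheaf.stalk (g (f x)))).map (g.stalkMap (f x)).hom).map
        (f.stalkMap x).hom := by
    rw [Scheme.Hom.stalkMap_comp]
    exact (Ideal.map_map _ _).symm
  let egf' := egf.trans (Ideal.quotEquivOfEq hI)
  haveI := isNoetherianRing_fiberStalk f x hfe
  haveI := isNoetherianRing_fiberStalk g (f x) hge
  letI i1 := (g.stalkMap (f x)).hom.toAlgebra
  letI i2 := (f.stalkMap x).hom.toAlgebra
  haveI : IsLocalHom (algebraMap (Y.presheaf.stalk (f x)) (X.presheaf.stalk x)) :=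
    inferInstanceAs (IsLocalHom (f.stalkMap x).hom)
  haveI : Module.Flat (Y.presheaf.stalk (f x)) (X.presheaf.stalk x) := hfl
  haveI : Algebra.EssFiniteType (Y.presheaf.stalk (f x)) (X.presheaf.stalk x) := by
    rw [← RingHom.essFiniteType_algebraMap, RingHom.algebraMap_toAlgebra]
    exact hfe
  have ha : (maximalIdeal (Z.presheaf.stalk (g (f x)))).map (g.stalkMap (f x)).hom ≠ ⊤ :=
    (IsLocalRing.map_maximalIdeal_lt_top _).ne
  haveI : IsNoetherianRing (Y.presheaf.stalk (f x) ⧸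
      (maximalIdeal (Z.presheaf.stalk (g (f x)))).map (g.stalkMap (f x)).hom) :=
    isNoetherianRing_of_ringEquiv _ eg
  haveI : IsLocalRing (Y.presheaf.stalk (f x) ⧸
      (maximalIdeal (Z.presheaf.stalk (g (f x)))).map (g.stalkMap (f x)).hom) :=
    isLocalRing_quotient ha
  haveI : IsLocalRing (X.presheaf.stalk x ⧸
      ((maximalIdeal (Z.presheaf.stalk (g (f x)))).map (g.stalkMap (f x)).hom).map
        (algebraMap (Y.presheaf.stalk (f x)) (X.presheaf.stalk x))) :=
    isLocalRing_quotient (map_ne_top_of_isLocalHom _ ha)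
  haveI : IsLocalRing (X.presheaf.stalk x ⧸
      (maximalIdeal (Y.presheaf.stalk (f x))).map
        (algebraMap (Y.presheaf.stalk (f x)) (X.presheaf.stalk x))) :=
    isLocalRing_quotient (map_ne_top_of_isLocalHom _ (maximalIdeal.isMaximal _).ne_top)
  obtain ⟨hN, hCI⟩ := isCI_quot_of_flat (A₀ := Y.presheaf.stalk (f x))
    (B₀ := X.presheaf.stalk x)
    ((maximalIdeal (Z.presheaf.stalk (g (f x)))).map (g.stalkMap (f x)).hom) ha
    (isCI_of_ringEquiv eg h1) (isCI_of_ringEquiv ef h2)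
  haveI := hN
  exact isCI_of_ringEquiv egf'.symm hCI

end Scheme

end Groth.Agent.Lib.T2H9.CIComp
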