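import Mathlib
import Groth.Prelude
import Groth.Agent.Lib.T2H9SyntCI2

/-!
# Complete intersections over a field: characterisations for local algebras essentially of finite
type (helper9)
-/

set_option autoImplicit false
set_option linter.unusedSectionVars false
set_option linter.style.haveILetI false
universe u

namespace Groth.Agent.Lib.T2H9.SyntCI

open IsLocalRing Groth.Agent.Lib.Helper5 Groth.Agent.Lib.Helper5.DirLimReg
  Groth.Agent.Lib.T2H9.GeomDepthCI Groth.Agent.Lib.T2H9.CILocus

section EssFT

variable (k S : Type u) [Field k] [CommRing S] [IsLocalRing S] [Algebra k S]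
  [Algebra.EssFiniteType k S]

/-- the prime of the finite type subalgebra under the maximal ideal -/
noncomputable abbrev essPrime : Ideal (Algebra.EssFiniteType.subalgebra k S) :=
  (maximalIdeal S).comap (algebraMap (Algebra.EssFiniteType.subalgebra k S) S)

instance : (essPrime k S).IsPrime := Ideal.comap_isPrime _ _

/-- a local algebra essentially of finite type is the localization of a finite type subalgebra
at a prime -/
theorem isLocalization_essPrime : IsLocalization.AtPrime S (essPrime k S) := by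
  have h : (essPrime k S).primeCompl = Algebra.EssFiniteType.submonoid k S := by
    ext b
    change b ∉ essPrime k S ↔ IsUnit (algebraMap (Algebra.EssFiniteType.subalgebra k S) S b)
    rw [Ideal.mem_comap, IsLocalRing.mem_maximalIdeal, mem_nonunits_iff, not_not]
  unfold IsLocalization.AtPrime
  rw [h]
  infer_instance

/-- `S ≃ₐ[k] (S₀)_q`. -/
theorem nonempty_algEquiv_essPrime :
    Nonempty (Localization.AtPrime (essPrime k S) ≃ₐ[k] S) := by
  haveI := isLocalization_essPrime k S
  exact ⟨(IsLocalization.algEquiv (essPrime k S).primeCompl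
    (Localization.AtPrime (essPrime k S)) S).restrictScalars k⟩

/-- a regular presentation of a local algebra essentially of finite type -/
theorem exists_regular_presentation :
    ∃ (n : ℕ) (P : Ideal (MvPolynomial (Fin n) k)) (_ : P.IsPrime)
      (π : Localization.AtPrime P →ₐ[k] S), Function.Surjective π := by
  obtain ⟨n, π₀, hπ₀⟩ := Algebra.FiniteType.iff_quotient_mvPolynomial''.mp
    (inferInstance : Algebra.FiniteType k (Algebra.EssFiniteType.subalgebra k S))
  obtain ⟨e⟩ := nonempty_algEquiv_essPrime k S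
  exact ⟨n, (essPrime k S).comap π₀.toRingHom, Ideal.comap_isPrime _ _,
    e.toAlgHom.comp (locSurjAlgHom π₀ (essPrime k S)),
    e.surjective.comp (locSurjAlgHom_surjective π₀ hπ₀ (essPrime k S))⟩

/-- (E2), forward: presentation independence -/
theorem exists_isRegular_ker_of_isCIOver (h : Synt.IsCIOver k S)
    (R : Type u) [CommRing R] [IsRegularLocalRing R] [Algebra k R]
    (π : R →ₐ[k] S) (hπ : Function.Surjective π) :
    ∃ rs : List R, RingTheory.Sequence.IsRegular R rs ∧
      RingHom.ker π.toRingHom = Ideal.ofList rs := by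
  haveI : IsNoetherianRing S := Algebra.EssFiniteType.isNoetherianRing k S
  have hS := isCI_of_isCIOver h
  let e : (R ⧸ RingHom.ker π.toRingHom) ≃+* S :=
    RingHom.quotientKerEquivOfSurjective (f := π.toRingHom) hπ
  haveI : IsLocalRing (R ⧸ RingHom.ker π.toRingHom) := e.symm.isLocalRing
  have hne : RingHom.ker π.toRingHom ≠ ⊤ := RingHom.ker_ne_top _
  obtain ⟨rs, hrs, hreg⟩ := exists_isRegular_of_isCompleteIntersection_quotient _ hne
    (isCI_of_ringEquiv e.symm hS)
  exact ⟨rs, hreg, hrs.symm⟩

/-- a surjection from a regular local ring with kernel generated by a regular sequence exhibits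
a complete intersection over `k` -/
theorem isCIOver_of_isRegular_ker (R : Type u) [CommRing R] [hR : IsRegularLocalRing R]
    [Algebra k R] (hess : Algebra.EssFiniteType k R)
    (π : R →ₐ[k] S) (hπ : Function.Surjective π) (rs : List R)
    (hreg : RingTheory.Sequence.IsRegular R rs) (hker : RingHom.ker π.toRingHom = Ideal.ofList rs) :
    Synt.IsCIOver k S := by
  have hne : RingHom.ker π.toRingHom ≠ ⊤ := RingHom.ker_ne_top _
  have hmem : ∀ r ∈ rs, r ∈ maximalIdeal R := by
    intro r hr
    apply IsLocalRing.le_maximalIdeal hne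
    rw [hker]
    exact Ideal.subset_span hr
  have hker' : RingHom.ker π = Ideal.ofList rs := hker
  exact ⟨R, inferInstance, hR, inferInstance, hess, rs, hmem, hreg,
    ⟨(Ideal.quotientKerAlgEquivOfSurjective hπ).symm.trans
      (Ideal.quotientEquivAlgOfEq k hker')⟩⟩

/-- (E3), backward -/
theorem isCIOver_of_dim (R : Type u) [CommRing R] [hR : IsRegularLocalRing R]
    [Algebra k R] (hess : Algebra.EssFiniteType k R)
    (π : R →ₐ[k] S) (hπ : Function.Surjective π) (rs : List R)
    (hker : RingHom.ker π.toRingHom = Ideal.ofList rs)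
    (hdim : ringKrullDim R = ringKrullDim S + (rs.length : WithBot ℕ∞)) :
    Synt.IsCIOver k S := by
  haveI : IsNoetherianRing S := Algebra.EssFiniteType.isNoetherianRing k S
  haveI hCM : LocCoh.IsCohenMacaulayLocalRing R := isCohenMacaulayLocalRing_of_isRegularLocalRing R
  have hne : RingHom.ker π.toRingHom ≠ ⊤ := RingHom.ker_ne_top _
  have hmem : ∀ r ∈ rs, r ∈ maximalIdeal R := by
    intro r hr
    apply IsLocalRing.le_maximalIdeal hne
    rw [hker]
    exact Ideal.subset_span hr
  let e : (R ⧸ RingHom.ker π.toRingHom) ≃+* S :=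
    RingHom.quotientKerEquivOfSurjective (f := π.toRingHom) hπ
  have h1 := Groth.Agent.Lib.Helper28.height_add_ringKrullDim_quotient_eq_of_isCohenMacaulayLocalRing
    (RingHom.ker π.toRingHom) hne
  rw [ringKrullDim_eq_of_ringEquiv e, hdim] at h1
  obtain ⟨d, hd⟩ := Groth.Agent.Lib.Helper5.exists_nat_ringKrullDim_eq S
  rw [hd] at h1
  have hfin : (RingHom.ker π.toRingHom).height ≠ ⊤ := Ideal.height_ne_top hne
  obtain ⟨h', hh'⟩ := ENat.ne_top_iff_exists.mp hfin
  rw [← hh'] at h1
  have h2 : h' + d = d + rs.length := by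
    have : ((h' + d : ℕ) : WithBot ℕ∞) = ((d + rs.length : ℕ) : WithBot ℕ∞) := by
      push_cast
      exact h1
    exact_mod_cast this
  have h3 : (rs.length : ℕ∞) ≤ (Ideal.ofList rs).height := by
    rw [← hker, ← hh']
    have : rs.length ≤ h' := by omega
    exact_mod_cast this
  obtain ⟨hw, -, -⟩ := Groth.Agent.Lib.Helper28.isWeaklyRegular_of_length_le_height rs hmem h3
  exact isCIOver_of_isRegular_ker k S R hess π hπ rs
    ((IsLocalRing.isRegular_iff_isWeaklyRegular_of_subset_maximalIdeal hmem).mpr hw) hker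

/-- (E4), forward -/
theorem exists_globalCI_of_isCIOver (h : Synt.IsCIOver k S) :
    ∃ (A : Type u) (_ : CommRing A) (_ : Algebra k A) (a : Ideal A) (_ : a.IsPrime),
      Algebra.FiniteType k A ∧ Synt.IsGlobalCI k A ∧
        Nonempty (S ≃ₐ[k] Localization.AtPrime a) := by
  haveI : IsNoetherianRing S := Algebra.EssFiniteType.isNoetherianRing k S
  have hS := isCI_of_isCIOver h
  obtain ⟨e⟩ := nonempty_algEquiv_essPrime k S
  have hCI : Pi1.IsCompleteIntersection (Localization.AtPrime (essPrime k S)) :=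
    isCI_of_ringEquiv e.symm.toRingEquiv hS
  obtain ⟨n, π₀, hπ₀⟩ := Algebra.FiniteType.iff_quotient_mvPolynomial''.mp
    (inferInstance : Algebra.FiniteType k (Algebra.EssFiniteType.subalgebra k S))
  obtain ⟨g, hg, hG⟩ := exists_away_isGlobalCI_of_isCI π₀ hπ₀ (essPrime k S) hCI
  haveI hp := away_map_isPrime g (essPrime k S) hg
  obtain ⟨e'⟩ := nonempty_algEquiv_away_atPrime (k := k) g (essPrime k S) hg
  exact ⟨Localization.Away g, inferInstance, inferInstance,
    (essPrime k S).map (algebraMap _ (Localization.Away g)), hp, inferInstance, hG,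
    ⟨e.symm.trans e'⟩⟩

/-- **S9143** -/
theorem main_S9143 :
    (Synt.IsCIOver k S ↔
        ∀ (R : Type u) [CommRing R] [IsRegularLocalRing R] [Algebra k R],
          Algebra.EssFiniteType k R →
          ∀ π : R →ₐ[k] S, Function.Surjective π →
            ∃ rs : List R, RingTheory.Sequence.IsRegular R rs ∧
              RingHom.ker π.toRingHom = Ideal.ofList rs) ∧
      (Synt.IsCIOver k S ↔
        ∃ (R : Type u) (_ : CommRing R) (_ : IsRegularLocalRing R) (_ : Algebra k R),
          Algebra.EssFiniteType k R ∧ ∃ π : R →ₐ[k] S, Function.Surjective π ∧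
            ∃ rs : List R, RingHom.ker π.toRingHom = Ideal.ofList rs ∧
              ringKrullDim R = ringKrullDim S + (rs.length : WithBot ℕ∞)) ∧
      (Synt.IsCIOver k S ↔
        ∃ (A : Type u) (_ : CommRing A) (_ : Algebra k A) (a : Ideal A) (_ : a.IsPrime),
          Algebra.FiniteType k A ∧ Synt.IsGlobalCI k A ∧
            Nonempty (S ≃ₐ[k] Localization.AtPrime a)) ∧
      (Synt.IsCIOver k S ↔
        ∃ (A : Type u) (_ : CommRing A) (_ : Algebra k A) (a : Ideal A) (_ : a.IsPrime),
          Synt.IsLCIOver k A ∧ Nonempty (S ≃ₐ[k] Localization.AtPrime a)) := by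
  refine ⟨⟨?_, ?_⟩, ⟨?_, ?_⟩, ⟨?_, ?_⟩, ⟨?_, ?_⟩⟩
  · intro h R _ _ _ _ π hπ
    exact exists_isRegular_ker_of_isCIOver k S h R π hπ
  · intro h
    obtain ⟨n, P, hP, π, hπ⟩ := exists_regular_presentation k S
    haveI : IsRegularRing (MvPolynomial (Fin n) k) := inferInstance
    haveI : IsRegularLocalRing (Localization.AtPrime P) :=
      IsRegularRing.isRegularLocalRing_localization _
    obtain ⟨rs, hreg, hker⟩ := h (Localization.AtPrime P) inferInstance π hπ
    exact isCIOver_of_isRegular_ker k S _ inferInstance π hπ rs hreg hker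
  · rintro ⟨R, i1, i2, i3, hess, rs, hmem, hreg, ⟨e₀⟩⟩
    refine ⟨R, i1, i2, i3, hess, e₀.symm.toAlgHom.comp (Ideal.Quotient.mkₐ k (Ideal.ofList rs)),
      e₀.symm.surjective.comp Ideal.Quotient.mk_surjective, rs, ?_, ?_⟩
    · ext x
      rw [RingHom.mem_ker]
      change e₀.symm (Ideal.Quotient.mk _ x) = 0 ↔ _
      rw [map_eq_zero_iff _ e₀.symm.injective, Ideal.Quotient.eq_zero_iff_mem]
    · rw [ringKrullDim_eq_of_ringEquiv e₀.toRingEquiv]
      exact (ringKrullDim_add_length_eq_ringKrullDim_of_isRegular rs hreg).symm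
  · rintro ⟨R, i1, i2, i3, hess, π, hπ, rs, hker, hdim⟩
    exact isCIOver_of_dim k S R hess π hπ rs hker hdim
  · exact exists_globalCI_of_isCIOver k S
  · rintro ⟨A, i1, i2, a, i3, -, hG, ⟨e⟩⟩
    exact isCIOver_of_algEquiv e.symm (isCIOver_localization_of_isGlobalCI A hG a)
  · intro h
    obtain ⟨A, i1, i2, a, i3, -, hG, he⟩ := exists_globalCI_of_isCIOver k S h
    exact ⟨A, i1, i2, a, i3, isLCIOver_of_isGlobalCI hG, he⟩
  · rintro ⟨A, i1, i2, a, i3, hL, ⟨e⟩⟩
    obtain ⟨h, hh, hG⟩ := hL.2 ⟨a, i3⟩
    exact isCIOver_of_algEquiv e.symm (isCIOver_atPrime_of_away h a hh hG)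

end EssFT

end Groth.Agent.Lib.T2H9.SyntCI
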