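import Mathlib
import Groth.Prelude
import Groth.Agent.Lib.T2H9CIPoly
import Groth.Agent.Lib.Helper5FibreDepth
import Groth.Agent.Lib.T2H9GeomDepthCI
import Groth.Agent.Lib.T2H9SyntCI3
import Groth.Agent.Lib.Helper5CodepthFib
import Groth.Agent.Lib.T2H9CIComp

/-!
# Complete intersections and extension of the base field (helper9)

* `isCI_quotient_map_of_flat`, `isCI_quotient_of_map_of_flat`: for a flat local homomorphism
  `R → R'` of regular local rings and a proper ideal `J` of `R`: `R/J` is a complete intersection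
  iff `R'/JR'` is.
* `isRegularLocalRing_localization_tensor`: local rings of `k[x]_M ⊗[k] k'` are regular.
* `isCI_localization_tensor_iff`: for a local `k`-algebra `T` essentially of finite type:
  `(T ⊗[k] k')_𝔮` is a complete intersection iff `T` is.
* `PCI`, `RingBCInv₁`, `ringBCInv₁_pci`, `fiber_stalk_baseChange_iff_of_lft`,
  `isCI_fiberStalk_baseChange_iff`: the local rings of the fibres of a morphism locally of finite
  type and of a base change of it are complete intersections simultaneously.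
-/

set_option autoImplicit false
set_option linter.unusedSectionVars false
set_option linter.style.haveILetI false
universe u

namespace Groth.Agent.Lib.T2H9.CIBaseChange

open IsLocalRing TensorProduct RingTheory.Sequence Groth.Agent.Lib.Helper5 Groth.Agent.Lib.Helper28
  Groth.Agent.Lib.T2H9.CILocus Groth.Agent.Lib.T2H9.GeomDepthCI

section FQ

variable {R R' : Type u} [CommRing R] [CommRing R'] [IsRegularLocalRing R]
  [IsRegularLocalRing R'] [Algebra R R'] [IsLocalHom (algebraMap R R')] [Module.Flat R R']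

theorem isCI_quotient_map_of_flat (J : Ideal R) (hJ : J ≠ ⊤) [IsLocalRing (R ⧸ J)]
    [hloc : IsLocalRing (R' ⧸ J.map (algebraMap R R'))]
    (h : Pi1.IsCompleteIntersection (R ⧸ J)) :
    Pi1.IsCompleteIntersection (R' ⧸ J.map (algebraMap R R')) := by
  obtain ⟨rs, hrs, hreg⟩ := exists_isRegular_of_isCompleteIntersection_quotient J hJ h
  haveI : Module.FaithfullyFlat R R' := Module.FaithfullyFlat.of_flat_of_isLocalHom
  have hreg' : IsRegular R' (rs.map (algebraMap R R')) := hreg.of_faithfullyFlat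
  have heq : J.map (algebraMap R R') = Ideal.ofList (rs.map (algebraMap R R')) := by
    rw [← hrs, Ideal.map_ofList]
  revert hloc
  rw [heq]
  intro hloc
  exact Groth.Agent.S2165.isCompleteIntersection_quotient_ofList _ hreg'

theorem isCI_quotient_of_map_of_flat (J : Ideal R) (hJ : J ≠ ⊤) [hloc : IsLocalRing (R ⧸ J)]
    [IsLocalRing (R' ⧸ J.map (algebraMap R R'))]
    (h : Pi1.IsCompleteIntersection (R' ⧸ J.map (algebraMap R R'))) :
    Pi1.IsCompleteIntersection (R ⧸ J) := by
  have hJ' : J.map (algebraMap R R') ≠ ⊤ := map_ne_top_of_isLocalHom J hJ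
  obtain ⟨rs', hrs', hreg'⟩ := exists_isRegular_of_isCompleteIntersection_quotient _ hJ' h
  haveI : Module.FaithfullyFlat R R' := Module.FaithfullyFlat.of_flat_of_isLocalHom
  obtain ⟨d, hd⟩ := Groth.Agent.Lib.Helper5.exists_nat_ringKrullDim_eq R
  obtain ⟨dJ, hdJ⟩ := Groth.Agent.Lib.Helper5.exists_nat_ringKrullDim_eq (R ⧸ J)
  obtain ⟨d', hd'⟩ := Groth.Agent.Lib.Helper5.exists_nat_ringKrullDim_eq R'
  obtain ⟨dJ', hdJ'⟩ := Groth.Agent.Lib.Helper5.exists_nat_ringKrullDim_eq
    (R' ⧸ J.map (algebraMap R R'))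
  have hmne : (maximalIdeal R).map (algebraMap R R') ≠ ⊤ :=
    map_ne_top_of_isLocalHom _ (maximalIdeal.isMaximal R).ne_top
  haveI hF : IsLocalRing (R' ⧸ (maximalIdeal R).map (algebraMap R R')) :=
    isLocalRing_quotient hmne
  obtain ⟨φ, hφ⟩ := Groth.Agent.Lib.Helper5.exists_nat_ringKrullDim_eq
    (R' ⧸ (maximalIdeal R).map (algebraMap R R'))
  have h1 := Groth.Agent.Lib.Helper5.GorFlat.dim_formula (A := R) (B := R')
    (Ideal.Quotient.mk ((maximalIdeal R).map (algebraMap R R'))) Ideal.Quotient.mk_surjective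
    Ideal.mk_ker
  have h2 := Groth.Agent.Lib.Helper5.FibreDepth.quot_dim (A₀ := R) (B₀ := R') J hJ
  have h3 := ringKrullDim_add_length_eq_ringKrullDim_of_isRegular rs' hreg'
  rw [hrs'] at h3
  have h4 : J.spanFinrank ≤ rs'.length := by
    have := spanFinrank_le_spanFinrank_map (R := R) (S := R') J
    rwa [← hrs', spanFinrank_ofList_of_isRegular rs' hreg'] at this
  have h5 := ringKrullDim_le_ringKrullDim_quotient_add_spanFinrank J (by
    rw [IsLocalRing.ringJacobson_eq_maximalIdeal]; exact IsLocalRing.le_maximalIdeal hJ)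
  rw [hd', hφ, hd] at h1
  rw [hdJ', hφ, hdJ] at h2
  rw [hdJ', hd'] at h3
  rw [hd, hdJ] at h5
  have e1 : d' = φ + d := by exact_mod_cast h1
  have e2 : dJ' = φ + dJ := by exact_mod_cast h2
  have e3 : dJ' + rs'.length = d' := by exact_mod_cast h3
  have e5 : d ≤ dJ + J.spanFinrank := by exact_mod_cast h5
  have e6 : dJ + J.spanFinrank = d := by omega
  obtain ⟨rs, hrs, hreg⟩ := exists_isRegular_of_dim J hJ d dJ hd hdJ e6
  clear h
  revert hloc
  rw [← hrs]
  intro hloc
  exact Groth.Agent.S2165.isCompleteIntersection_quotient_ofList _ hreg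

end FQ
section Reg

variable (k k' : Type u) [Field k] [Field k'] [Algebra k k']

/-- the base change of a localization of a polynomial ring over a field to an extension field
has regular local rings -/
theorem isRegularLocalRing_localization_tensor (n : ℕ) (M : Submonoid (MvPolynomial (Fin n) k))
    (R : Type u) [CommRing R] [Algebra (MvPolynomial (Fin n) k) R] [Algebra k R]
    [IsScalarTower k (MvPolynomial (Fin n) k) R] [IsLocalization M R]
    (𝔔 : Ideal (R ⊗[k] k')) [𝔔.IsPrime] (R' : Type u) [CommRing R'] [Algebra (R ⊗[k] k') R']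
    [IsLocalization.AtPrime R' 𝔔] :
    IsRegularLocalRing R' := by
  letI alg : Algebra (MvPolynomial (Fin n) k ⊗[k] k') (R ⊗[k] k') :=
    (Algebra.TensorProduct.map (IsScalarTower.toAlgHom k (MvPolynomial (Fin n) k) R)
      (AlgHom.id k k')).toRingHom.toAlgebra
  haveI st : IsScalarTower (MvPolynomial (Fin n) k) (MvPolynomial (Fin n) k ⊗[k] k')
      (R ⊗[k] k') :=
    IsScalarTower.of_algebraMap_eq fun x => by
      change _ = (Algebra.TensorProduct.map (IsScalarTower.toAlgHom k (MvPolynomial (Fin n) k) R)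
        (AlgHom.id k k')) (algebraMap (MvPolynomial (Fin n) k) (MvPolynomial (Fin n) k ⊗[k] k') x)
      simp [Algebra.TensorProduct.algebraMap_apply]
  have H : (algebraMap (MvPolynomial (Fin n) k ⊗[k] k') (R ⊗[k] k')).comp
      (Algebra.TensorProduct.includeRight : k' →ₐ[k] MvPolynomial (Fin n) k ⊗[k] k').toRingHom =
      (Algebra.TensorProduct.includeRight : k' →ₐ[k] R ⊗[k] k').toRingHom := by
    ext c
    change (Algebra.TensorProduct.map (IsScalarTower.toAlgHom k (MvPolynomial (Fin n) k) R)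
        (AlgHom.id k k')) (1 ⊗ₜ c) = 1 ⊗ₜ c
    simp
  haveI hloc := IsLocalization.tensorProduct_tensorProduct k k' M R H
  haveI : IsRegularRing (MvPolynomial (Fin n) k ⊗[k] k') :=
    IsRegularRing.of_ringEquiv
      ((Algebra.TensorProduct.comm k (MvPolynomial (Fin n) k) k').toRingEquiv.trans
        (MvPolynomial.algebraTensorAlgEquiv k k').toRingEquiv).symm
  letI alg2 : Algebra (MvPolynomial (Fin n) k ⊗[k] k') R' :=
    ((algebraMap (R ⊗[k] k') R').comp
      (algebraMap (MvPolynomial (Fin n) k ⊗[k] k') (R ⊗[k] k'))).toAlgebra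
  haveI st2 : IsScalarTower (MvPolynomial (Fin n) k ⊗[k] k') (R ⊗[k] k')
      R' := IsScalarTower.of_algebraMap_eq fun x => rfl
  haveI hloc2 := IsLocalization.isLocalization_isLocalization_atPrime_isLocalization
    (Algebra.algebraMapSubmonoid (MvPolynomial (Fin n) k ⊗[k] k') M)
    R' 𝔔
  haveI : (𝔔.comap (algebraMap (MvPolynomial (Fin n) k ⊗[k] k') (R ⊗[k] k'))).IsPrime :=
    Ideal.comap_isPrime _ _
  let e := IsLocalization.algEquiv (𝔔.comap (algebraMap (MvPolynomial (Fin n) k ⊗[k] k')
      (R ⊗[k] k'))).primeCompl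
    (Localization.AtPrime (𝔔.comap (algebraMap (MvPolynomial (Fin n) k ⊗[k] k') (R ⊗[k] k'))))
    R'
  exact IsRegularLocalRing.of_ringEquiv (R := Localization.AtPrime
    (𝔔.comap (algebraMap (MvPolynomial (Fin n) k ⊗[k] k') (R ⊗[k] k')))) e.toRingEquiv

end Reg

section BC

variable (k k' : Type u) [Field k] [Field k'] [Algebra k k']

theorem bc_core' (n : ℕ) (M : Submonoid (MvPolynomial (Fin n) k))
    (R : Type u) [CommRing R] [IsRegularLocalRing R] [Algebra (MvPolynomial (Fin n) k) R]
    [Algebra k R] [IsScalarTower k (MvPolynomial (Fin n) k) R] [IsLocalization M R]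
    (J : Ideal R) (hJ : J ≠ ⊤) (𝔔 : Ideal (R ⊗[k] k')) [𝔔.IsPrime]
    (h𝔔 : 𝔔.comap (algebraMap R (R ⊗[k] k')) = maximalIdeal R)
    (R' : Type u) [CommRing R'] [Algebra (R ⊗[k] k') R'] [IsLocalization.AtPrime R' 𝔔]
    [IsLocalRing (R ⧸ J)]
    [hloc : IsLocalRing (R' ⧸ (J.map (algebraMap R (R ⊗[k] k'))).map (algebraMap (R ⊗[k] k') R'))] :
    Pi1.IsCompleteIntersection (R ⧸ J) ↔ Pi1.IsCompleteIntersection
      (R' ⧸ (J.map (algebraMap R (R ⊗[k] k'))).map (algebraMap (R ⊗[k] k') R')) := by
  haveI hR' : IsRegularLocalRing R' := isRegularLocalRing_localization_tensor k k' n M R 𝔔 R'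
  letI algRR' : Algebra R R' :=
    ((algebraMap (R ⊗[k] k') R').comp (algebraMap R (R ⊗[k] k'))).toAlgebra
  haveI : IsScalarTower R (R ⊗[k] k') R' := IsScalarTower.of_algebraMap_eq fun _ => rfl
  haveI : Module.Flat R (R ⊗[k] k') := inferInstance
  haveI : Module.Flat (R ⊗[k] k') R' := IsLocalization.flat R' 𝔔.primeCompl
  haveI : Module.Flat R R' := Module.Flat.trans R (R ⊗[k] k') R'
  haveI : IsLocalHom (algebraMap R R') := by
    constructor
    intro a ha
    by_contra hnu
    have h1 : a ∈ maximalIdeal R := (mem_maximalIdeal a).mpr hnu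
    rw [← h𝔔, Ideal.mem_comap] at h1
    have h2 : algebraMap (R ⊗[k] k') R' (algebraMap R (R ⊗[k] k') a) ∈ maximalIdeal R' :=
      (IsLocalization.AtPrime.to_map_mem_maximal_iff R' 𝔔 _).mpr h1
    exact ((mem_maximalIdeal _).mp h2) ha
  have heq : (J.map (algebraMap R (R ⊗[k] k'))).map (algebraMap (R ⊗[k] k') R') =
      J.map (algebraMap R R') := by
    rw [Ideal.map_map]
    rfl
  revert hloc
  rw [heq]
  intro hloc
  exact ⟨isCI_quotient_map_of_flat J hJ, isCI_quotient_of_map_of_flat J hJ⟩

variable (T : Type u) [CommRing T] [IsLocalRing T] [IsNoetherianRing T] [Algebra k T]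

open Groth.Agent.Lib.T2H9.SyntCI in
theorem bc_core (n : ℕ) (M : Submonoid (MvPolynomial (Fin n) k))
    (R : Type u) [CommRing R] [IsRegularLocalRing R] [Algebra (MvPolynomial (Fin n) k) R]
    [Algebra k R] [IsScalarTower k (MvPolynomial (Fin n) k) R] [IsLocalization M R]
    (π : R →ₐ[k] T) (hπ : Function.Surjective π) (𝔮 : Ideal (T ⊗[k] k')) [𝔮.IsPrime]
    (h𝔮 : 𝔮.comap (algebraMap T (T ⊗[k] k')) = maximalIdeal T) [IsNoetherianRing (T ⊗[k] k')] :
    Pi1.IsCompleteIntersection (Localization.AtPrime 𝔮) ↔ Pi1.IsCompleteIntersection T := by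
  set Φ : R ⊗[k] k' →ₐ[k] T ⊗[k] k' := Algebra.TensorProduct.map π (AlgHom.id k k') with hΦdef
  have hΦ : Function.Surjective Φ.toRingHom :=
    Algebra.TensorProduct.map_surjective _ _ hπ Function.surjective_id
  have hker : RingHom.ker Φ.toRingHom = (RingHom.ker π.toRingHom).map
      (algebraMap R (R ⊗[k] k')) := Algebra.TensorProduct.rTensor_ker _ hπ
  haveI : (𝔮.comap Φ.toRingHom).IsPrime := Ideal.comap_isPrime _ _
  have h𝔔 : (𝔮.comap Φ.toRingHom).comap (algebraMap R (R ⊗[k] k')) = maximalIdeal R := by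
    rw [Ideal.comap_comap]
    have hcomp : Φ.toRingHom.comp (algebraMap R (R ⊗[k] k')) =
        (algebraMap T (T ⊗[k] k')).comp π.toRingHom := by
      ext x
      simp [Φ, Algebra.TensorProduct.algebraMap_apply]
    rw [hcomp, ← Ideal.comap_comap, h𝔮]
    haveI : IsLocalHom π.toRingHom := IsLocalHom.of_surjective π.toRingHom hπ
    exact IsLocalRing.maximalIdeal_comap π.toRingHom
  let e := locSurjEquiv Φ.toRingHom hΦ 𝔮
  let eT : (R ⧸ RingHom.ker π.toRingHom) ≃+* T :=
    RingHom.quotientKerEquivOfSurjective (f := π.toRingHom) hπ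
  have hJ : RingHom.ker π.toRingHom ≠ ⊤ := RingHom.ker_ne_top _
  haveI : IsLocalRing (R ⧸ RingHom.ker π.toRingHom) := isLocalRing_quotient hJ
  have heq : (RingHom.ker Φ.toRingHom).map
      (algebraMap (R ⊗[k] k') (Localization.AtPrime (𝔮.comap Φ.toRingHom))) =
      ((RingHom.ker π.toRingHom).map (algebraMap R (R ⊗[k] k'))).map
        (algebraMap (R ⊗[k] k') (Localization.AtPrime (𝔮.comap Φ.toRingHom))) := by
    rw [hker]
  let e' := e.trans (Ideal.quotEquivOfEq heq)
  haveI : IsLocalRing (Localization.AtPrime (𝔮.comap Φ.toRingHom) ⧸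
      ((RingHom.ker π.toRingHom).map (algebraMap R (R ⊗[k] k'))).map
        (algebraMap (R ⊗[k] k') (Localization.AtPrime (𝔮.comap Φ.toRingHom)))) :=
    e'.isLocalRing
  haveI : IsNoetherianRing (Localization.AtPrime (𝔮.comap Φ.toRingHom) ⧸
      ((RingHom.ker π.toRingHom).map (algebraMap R (R ⊗[k] k'))).map
        (algebraMap (R ⊗[k] k') (Localization.AtPrime (𝔮.comap Φ.toRingHom)))) :=
    isNoetherianRing_of_ringEquiv _ e'
  have key := bc_core' k k' n M R (RingHom.ker π.toRingHom) hJ (𝔮.comap Φ.toRingHom) h𝔔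
    (Localization.AtPrime (𝔮.comap Φ.toRingHom))
  constructor
  · intro h
    exact isCI_of_ringEquiv eT (key.mpr (isCI_of_ringEquiv e' h))
  · intro h
    exact isCI_of_ringEquiv e'.symm (key.mp (isCI_of_ringEquiv eT.symm h))

open Groth.Agent.Lib.T2H9.SyntCI in
/-- **field base change**: for a local `k`-algebra `T` essentially of finite type, an extension
field `k'` and a prime `𝔮` of `T ⊗[k] k'` over the maximal ideal of `T`, the local ring
`(T ⊗[k] k')_𝔮` is a complete intersection iff `T` is. -/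
theorem isCI_localization_tensor_iff [Algebra.EssFiniteType k T] (𝔮 : Ideal (T ⊗[k] k'))
    [𝔮.IsPrime] (h𝔮 : 𝔮.comap (algebraMap T (T ⊗[k] k')) = maximalIdeal T)
    [IsNoetherianRing (T ⊗[k] k')] :
    Pi1.IsCompleteIntersection (Localization.AtPrime 𝔮) ↔ Pi1.IsCompleteIntersection T := by
  obtain ⟨n, P, hP, π, hπ⟩ := exists_regular_presentation k T
  exact bc_core k k' T n P.primeCompl (Localization.AtPrime P) π hπ 𝔮 h𝔮

end BC


section PCI

/-- a Noetherian local ring which is a complete intersection, as a predicate on rings -/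
def PCI (R : Type u) [CommRing R] : Prop :=
  ∃ (_ : IsLocalRing R), IsNoetherianRing R ∧ Pi1.IsCompleteIntersection R

theorem pci_iff (R : Type u) [CommRing R] [IsLocalRing R] [IsNoetherianRing R] :
    PCI R ↔ Pi1.IsCompleteIntersection R :=
  ⟨fun ⟨_, _, h⟩ => h, fun h => ⟨inferInstance, inferInstance, h⟩⟩

open Groth.Agent.Lib.Helper5.FiberMor in
theorem isoInv_pci : IsoInv.{u} PCI := by
  intro R S _ _ e ⟨hl, hn, h⟩
  haveI := hl
  haveI := hn
  haveI : IsLocalRing S := e.isLocalRing
  exact ⟨inferInstance, isNoetherianRing_of_ringEquiv _ e, isCI_of_ringEquiv e h⟩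

/-- Invariance of `P` under `T ↦ (T ⊗[k] k')_𝔮` for `T` essentially of finite type. -/
def RingBCInv₁ (P : ∀ (R : Type u) [CommRing R], Prop) : Prop :=
  ∀ (k T k' : Type u) [Field k] [CommRing T] [IsLocalRing T] [IsNoetherianRing T] [Field k']
    [Algebra k T] [Algebra k k'], Algebra.EssFiniteType k T →
    ∀ (𝔮 : Ideal (T ⊗[k] k')) [𝔮.IsPrime],
      𝔮.comap (algebraMap T (T ⊗[k] k')) = maximalIdeal T →
      (P (Localization.AtPrime 𝔮) ↔ P T)

theorem ringBCInv₁_pci : RingBCInv₁.{u} PCI := by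
  intro k T k' _ _ _ _ _ _ _ hft 𝔮 _ h𝔮
  haveI := hft
  haveI hN : IsNoetherianRing (T ⊗[k] k') := by
    haveI : Algebra.EssFiniteType k' (k' ⊗[k] T) := inferInstance
    haveI : IsNoetherianRing (k' ⊗[k] T) := Algebra.EssFiniteType.isNoetherianRing k' _
    exact isNoetherianRing_of_ringEquiv _ (Algebra.TensorProduct.comm k k' T).toRingEquiv
  rw [pci_iff, pci_iff]
  exact isCI_localization_tensor_iff k k' T 𝔮 h𝔮

end PCI

section FibBC

open AlgebraicGeometry CategoryTheory Limits
  Groth.Agent.Lib.Helper5.FiberStalk Groth.Agent.Lib.Helper5.FiberRing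
  Groth.Agent.Lib.Helper5.FiberMor Groth.Agent.Lib.Helper5.FlatPreimm
  Groth.Agent.Lib.Helper5.FiberBC Groth.Agent.Lib.Helper5.GorFlat
  Groth.Agent.Lib.Helper5.CodepthFib LocCoh

variable {P : ∀ (R : Type u) [CommRing R], Prop}
variable {X Y X' Y' : Scheme.{u}} {f : X ⟶ Y} {g : Y' ⟶ Y} {f' : X' ⟶ Y'} {g' : X' ⟶ X}

/-- In a cartesian square with `f` locally of finite type, the local ring of the fibre of `f'` at
`x'` has `P` iff the local ring of the fibre of `f` at `g' x'` has `P`
(copy of `Helper5.CodepthFib.fiber_stalk_baseChange_iff_of_ringBCInv'` for one-sided `P`). -/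
theorem fiber_stalk_baseChange_iff_of_lft (hR : RingBCInv₁ P) (hPe : IsoInv P)
    (hsq : IsPullback g' f' f g) (x' : X')
    [hN : IsNoetherianRing ((f.fiber (f (g' x'))).presheaf.stalk (f.asFiber (g' x')))]
    [hf : LocallyOfFiniteType f] :
    P ((f'.fiber (f' x')).presheaf.stalk (f'.asFiber x')) ↔
      P ((f.fiber (f (g' x'))).presheaf.stalk (f.asFiber (g' x'))) := by
  obtain ⟨h, hpb, hcomm⟩ : ∃ h : f'.fiber (f' x') ⟶ f.fiber (g (f' x')),
      IsPullback h (f'.fiberToSpecResidueField (f' x'))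
        (f.fiberToSpecResidueField (g (f' x'))) (Spec.map (g.residueFieldMap (f' x'))) ∧
      h ≫ f.fiberι (g (f' x')) = f'.fiberι (f' x') ≫ g' :=
    ⟨_, isPullback_fiberToSpecResidueField_of_isPullback hsq (f' x'), pullback.lift_fst _ _ _⟩
  -- transport to the fibre over `g (f' x')`
  have hw₁ : f.fiberι (g (f' x')) (h (f'.asFiber x')) = g' x' := by
    rw [← Scheme.Hom.comp_apply, hcomm, Scheme.Hom.comp_apply, f'.fiberι_asFiber]
  have hyy : g (f' x') = f (g' x') := by
    rw [← Scheme.Hom.comp_apply, ← Scheme.Hom.comp_apply, hsq.w]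
  obtain ⟨eT⟩ := fiber_stalk_transport f hyy (h (f'.asFiber x')) (f.asFiber (g' x'))
    (hw₁.trans (f.fiberι_asFiber _).symm)
  haveI : IsNoetherianRing ((f.fiber (g (f' x'))).presheaf.stalk (h (f'.asFiber x'))) :=
    isNoetherianRing_of_ringEquiv _ eT.symm
  -- the algebra structures
  letI algT : Algebra (Y.residueField (g (f' x')))
      ((f.fiber (g (f' x'))).presheaf.stalk (h (f'.asFiber x'))) :=
    (StructureSheaf.toStalk (Y.residueField (g (f' x')))
        ((f.fiberToSpecResidueField (g (f' x'))) (h (f'.asFiber x'))) ≫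
      (f.fiberToSpecResidueField (g (f' x'))).stalkMap (h (f'.asFiber x'))).hom.toAlgebra
  letI algK : Algebra (Y.residueField (g (f' x'))) (Y'.residueField (f' x')) :=
    (g.residueFieldMap (f' x')).hom.toAlgebra
  -- pasting of the cartesian squares
  have hpaste := (IsPullback.of_hasPullback
    ((f.fiber (g (f' x'))).fromSpecStalk (h (f'.asFiber x'))) h).paste_vert hpb
  have hjπ : (f.fiber (g (f' x'))).fromSpecStalk (h (f'.asFiber x')) ≫
      f.fiberToSpecResidueField (g (f' x')) =
      Spec.map (CommRingCat.ofHom (algebraMap (Y.residueField (g (f' x')))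
        ((f.fiber (g (f' x'))).presheaf.stalk (h (f'.asFiber x'))))) := by
    rw [← Scheme.SpecMap_stalkMap_fromSpecStalk, Spec.fromSpecStalk_eq']
    exact (Spec.map_comp _ _).symm
  rw [hjπ] at hpaste
  let ε := hpaste.isoPullback ≪≫ pullbackSpecIso (Y.residueField (g (f' x')))
    ((f.fiber (g (f' x'))).presheaf.stalk (h (f'.asFiber x'))) (Y'.residueField (f' x'))
  -- the point
  obtain ⟨z, hz1, hz2⟩ := Scheme.Pullback.exists_preimage_pullback
    (f := (f.fiber (g (f' x'))).fromSpecStalk (h (f'.asFiber x'))) (g := h)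
    (closedPoint ((f.fiber (g (f' x'))).presheaf.stalk (h (f'.asFiber x')))) (f'.asFiber x')
    Scheme.fromSpecStalk_closedPoint
  have hq1 : (Spec.map (CommRingCat.ofHom (algebraMap
      ((f.fiber (g (f' x'))).presheaf.stalk (h (f'.asFiber x')))
      (((f.fiber (g (f' x'))).presheaf.stalk (h (f'.asFiber x'))) ⊗[Y.residueField (g (f' x'))]
        (Y'.residueField (f' x')))))) (ε.hom z) =
      closedPoint ((f.fiber (g (f' x'))).presheaf.stalk (h (f'.asFiber x'))) := by
    have hcomp : ε.hom ≫ Spec.map (CommRingCat.ofHom (algebraMap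
        ((f.fiber (g (f' x'))).presheaf.stalk (h (f'.asFiber x')))
        (((f.fiber (g (f' x'))).presheaf.stalk (h (f'.asFiber x')))
          ⊗[Y.residueField (g (f' x'))] (Y'.residueField (f' x'))))) =
        pullback.fst ((f.fiber (g (f' x'))).fromSpecStalk (h (f'.asFiber x'))) h := by
      simp only [ε, Iso.trans_hom, Category.assoc, pullbackSpecIso_hom_fst']
      exact hpaste.isoPullback_hom_fst
    rw [← hcomp] at hz1
    exact hz1
  have h𝔮 : (ε.hom z).asIdeal.comap (algebraMap
      ((f.fiber (g (f' x'))).presheaf.stalk (h (f'.asFiber x')))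
      (((f.fiber (g (f' x'))).presheaf.stalk (h (f'.asFiber x'))) ⊗[Y.residueField (g (f' x'))]
        (Y'.residueField (f' x')))) =
      maximalIdeal ((f.fiber (g (f' x'))).presheaf.stalk (h (f'.asFiber x'))) :=
    congrArg PrimeSpectrum.asIdeal hq1
  -- the flat preimmersion from the spectrum of the tensor product
  have hρ : (ε.inv ≫ pullback.snd ((f.fiber (g (f' x'))).fromSpecStalk (h (f'.asFiber x'))) h)
      (ε.hom z) = f'.asFiber x' := by
    have hcomp : ε.hom ≫ ε.inv ≫
        pullback.snd ((f.fiber (g (f' x'))).fromSpecStalk (h (f'.asFiber x'))) h =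
        pullback.snd ((f.fiber (g (f' x'))).fromSpecStalk (h (f'.asFiber x'))) h := by
      rw [Iso.hom_inv_id_assoc]
    rw [← hcomp] at hz2
    exact hz2
  obtain ⟨e1⟩ := nonempty_stalk_equiv_of_eq hρ
  let e2 := stalkEquiv
    (ε.inv ≫ pullback.snd ((f.fiber (g (f' x'))).fromSpecStalk (h (f'.asFiber x'))) h) (ε.hom z)
  let e3 := (Spec.stalkIso (CommRingCat.of
    (((f.fiber (g (f' x'))).presheaf.stalk (h (f'.asFiber x'))) ⊗[Y.residueField (g (f' x'))]
      (Y'.residueField (f' x')))) (ε.hom z)).commRingCatIsoToRingEquiv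
  let eT' := (e1.symm.trans e2).trans e3
  -- the finiteness hypothesis
  have hft : Algebra.EssFiniteType (Y.residueField (g (f' x')))
      ((f.fiber (g (f' x'))).presheaf.stalk (h (f'.asFiber x'))) := by
    haveI : LocallyOfFiniteType (f.fiberToSpecResidueField (g (f' x'))) := by
      dsimp only [Scheme.Hom.fiberToSpecResidueField]
      exact MorphismProperty.pullback_snd (P := @LocallyOfFiniteType) f _ inferInstance
    have h1 := LocallyOfFiniteType.stalkMap (f.fiberToSpecResidueField (g (f' x')))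
      (h (f'.asFiber x'))
    have h2 : (StructureSheaf.toStalk (Y.residueField (g (f' x')))
        ((f.fiberToSpecResidueField (g (f' x'))) (h (f'.asFiber x')))).hom.EssFiniteType :=
      Algebra.EssFiniteType.of_isLocalization _
        ((f.fiberToSpecResidueField (g (f' x'))) (h (f'.asFiber x'))).asIdeal.primeCompl
    exact h2.comp h1
  have key := hR (Y.residueField (g (f' x')))
    ((f.fiber (g (f' x'))).presheaf.stalk (h (f'.asFiber x'))) (Y'.residueField (f' x')) hft
    (ε.hom z).asIdeal h𝔮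
  constructor
  · intro hp
    exact hPe _ _ eT (key.mp (hPe _ _ eT' hp))
  · intro hp
    exact hPe _ _ eT'.symm (key.mpr (hPe _ _ eT.symm hp))


/-- complete-intersection fibres and base change -/
theorem isCI_fiberStalk_baseChange_iff (hsq : IsPullback g' f' f g) (x' : X')
    [hf : LocallyOfFiniteType f] :
    Pi1.IsCompleteIntersection (CInt.fiberStalk f' x') ↔
      Pi1.IsCompleteIntersection (CInt.fiberStalk f (g' x')) := by
  haveI hN := Groth.Agent.Lib.T2H9.CIComp.isNoetherianRing_fiberStalk f (g' x')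
    (LocallyOfFiniteType.stalkMap f (g' x'))
  haveI : LocallyOfFiniteType f' := MorphismProperty.of_isPullback (P := @LocallyOfFiniteType) hsq hf
  haveI hN' := Groth.Agent.Lib.T2H9.CIComp.isNoetherianRing_fiberStalk f' x'
    (LocallyOfFiniteType.stalkMap f' x')
  have key := fiber_stalk_baseChange_iff_of_lft ringBCInv₁_pci isoInv_pci hsq x'
  rw [pci_iff, pci_iff] at key
  exact key

end FibBC

end Groth.Agent.Lib.T2H9.CIBaseChange
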