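import Mathlib
import Groth.Prelude
import Groth.Agent.Lib.T2H9CIBaseChange
import Groth.Agent.Lib.Helper28FibreTrans
import Groth.Agent.Lib.Helper28FlatNormal

set_option autoImplicit false
set_option linter.unusedSectionVars false
set_option linter.style.haveILetI false
universe u

namespace Groth.Agent.Lib.T2H9.CIAscent

open IsLocalRing TensorProduct Groth.Agent.Lib.Helper5 Groth.Agent.Lib.Helper28
  Groth.Agent.Lib.T2H9.CILocus Groth.Agent.Lib.T2H9.CIPoly Groth.Agent.Lib.T2H9.CIBaseChange

section Equiv

variable {X Y : Type u} [CommRing X] [CommRing Y]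

/-- localizations at corresponding primes are isomorphic -/
theorem nonempty_localization_ringEquiv (e : X ≃+* Y) (Q : Ideal X) [Q.IsPrime] (Q' : Ideal Y)
    [Q'.IsPrime] (h : Q'.comap (e : X →+* Y) = Q) :
    Nonempty (Localization.AtPrime Q ≃+* Localization.AtPrime Q') := by
  refine ⟨IsLocalization.ringEquivOfRingEquiv (M := Q.primeCompl) (T := Q'.primeCompl)
    (Localization.AtPrime Q) (Localization.AtPrime Q') e ?_⟩
  ext y
  constructor
  · rintro ⟨x, hx, rfl⟩
    intro hy
    apply hx
    rw [← h]
    exact hy
  · intro hy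
    refine ⟨e.symm y, ?_, e.apply_symm_apply y⟩
    intro hx
    apply hy
    rw [← h] at hx
    have hx' : (e : X →+* Y) (e.symm y) ∈ Q' := hx
    simpa using hx'

/-- `PCI` of all localizations transfers along ring isomorphisms -/
theorem forall_pci_localization_of_ringEquiv (e : X ≃+* Y)
    (h : ∀ (Q' : Ideal Y) [Q'.IsPrime], PCI (Localization.AtPrime Q')) (Q : Ideal X) [Q.IsPrime] :
    PCI (Localization.AtPrime Q) := by
  haveI : (Q.comap (e.symm : Y →+* X)).IsPrime := Ideal.comap_isPrime _ _
  obtain ⟨e'⟩ := nonempty_localization_ringEquiv e Q (Q.comap (e.symm : Y →+* X)) (by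
    ext x
    simp)
  exact isoInv_pci _ _ e'.symm (h _)

end Equiv

section Ascent

variable {A B : Type u} [CommRing A] [CommRing B] [IsNoetherianRing A] [Algebra A B]
  [Module.Flat A B] [Algebra.EssFiniteType A B]

/-- **ascent for rings**: for a flat essentially finite type algebra `B` over a Noetherian ring `A`
and a prime `Q` of `B` over `p`, if `A_p` and the fibre local ring `B_Q / p B_Q` are complete
intersections then so is `B_Q`. -/
theorem isCI_localization_of_flat_of_fibLocRing (Q : Ideal B) [Q.IsPrime]
    (hA : Pi1.IsCompleteIntersection (Localization.AtPrime (Q.comap (algebraMap A B))))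
    (hF : PCI (EGA4.FibLocRing A B Q)) :
    Pi1.IsCompleteIntersection (Localization.AtPrime Q) := by
  have hlies : Q.LiesOver (Q.comap (algebraMap A B)) := ⟨rfl⟩
  letI alg := Localization.AtPrime.algebraOfLiesOver (Q.comap (algebraMap A B)) Q
  haveI hloc : IsLocalHom (algebraMap (Localization.AtPrime (Q.comap (algebraMap A B)))
      (Localization.AtPrime Q)) := by
    rw [RingHom.algebraMap_toAlgebra]
    exact Localization.isLocalHom_localRingHom (Q.comap (algebraMap A B)) Q (algebraMap A B)
      Ideal.LiesOver.over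
  haveI hflatB : Module.Flat B (Localization.AtPrime Q) := IsLocalization.flat _ Q.primeCompl
  haveI hflatA : Module.Flat A (Localization.AtPrime Q) := Module.Flat.trans A B _
  haveI hflat : Module.Flat (Localization.AtPrime (Q.comap (algebraMap A B)))
      (Localization.AtPrime Q) :=
    (Module.flat_iff_of_isLocalization (Localization.AtPrime (Q.comap (algebraMap A B)))
      (Q.comap (algebraMap A B)).primeCompl _).mpr hflatA
  have hmap : (Q.comap (algebraMap A B)).map (algebraMap A (Localization.AtPrime Q)) =
      (maximalIdeal (Localization.AtPrime (Q.comap (algebraMap A B)))).map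
        (algebraMap (Localization.AtPrime (Q.comap (algebraMap A B)))
          (Localization.AtPrime Q)) := by
    rw [← IsLocalization.AtPrime.map_eq_maximalIdeal (Q.comap (algebraMap A B))
      (Localization.AtPrime (Q.comap (algebraMap A B))), Ideal.map_map,
      ← IsScalarTower.algebraMap_eq]
  haveI : Algebra.EssFiniteType B (Localization.AtPrime Q) :=
    Algebra.EssFiniteType.of_isLocalization _ Q.primeCompl
  haveI : Algebra.EssFiniteType A (Localization.AtPrime Q) :=
    Algebra.EssFiniteType.comp A B _
  haveI : Algebra.EssFiniteType (Localization.AtPrime (Q.comap (algebraMap A B)))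
      (Localization.AtPrime Q) :=
    Algebra.EssFiniteType.of_comp A _ _
  obtain ⟨hl, hn, hci⟩ := hF
  have hF' : Pi1.IsCompleteIntersection
      (EGA4.FibRing (Localization.AtPrime (Q.comap (algebraMap A B))) (Localization.AtPrime Q)) :=
    isCI_of_ringEquiv (Ideal.quotEquivOfEq hmap) hci
  exact isCI_of_flat_of_isCI_fibre hA hF'

end Ascent

section Field

variable (k K κ : Type u) [Field k] [Field K] [Field κ] [Algebra k K] [Algebra k κ]
  [Algebra.EssFiniteType k K]

/-- local rings of `K ⊗[k] κ` for a finitely generated field extension `K/k` -/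
theorem pci_localization_tensor_fields (𝔮 : Ideal (K ⊗[k] κ)) [𝔮.IsPrime] :
    PCI (Localization.AtPrime 𝔮) := by
  haveI hN : IsNoetherianRing (K ⊗[k] κ) := by
    haveI : Algebra.EssFiniteType κ (κ ⊗[k] K) := inferInstance
    haveI : IsNoetherianRing (κ ⊗[k] K) := Algebra.EssFiniteType.isNoetherianRing κ _
    exact isNoetherianRing_of_ringEquiv _ (Algebra.TensorProduct.comm k κ K).toRingEquiv
  have h𝔮 : 𝔮.comap (algebraMap K (K ⊗[k] κ)) = maximalIdeal K := by
    rw [IsLocalRing.maximalIdeal_eq_bot]
    exact Ideal.eq_bot_of_prime _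
  rw [pci_iff]
  exact (isCI_localization_tensor_iff k κ K 𝔮 h𝔮).mpr (isCI_of_isRegularLocalRing K)

end Field

section Main

variable (k K R : Type u) [Field k] [Field K] [Algebra k K] [Algebra.EssFiniteType k K]
  [CommRing R] [Algebra k R] [IsNoetherianRing R]

/-- S8950 -/
theorem main_S8950
    (hR : ∀ (p : Ideal R) [p.IsPrime], Pi1.IsCompleteIntersection (Localization.AtPrime p)) :
    IsNoetherianRing (K ⊗[k] R) ∧
      ∀ (P : Ideal (K ⊗[k] R)) [P.IsPrime],
        Pi1.IsCompleteIntersection (Localization.AtPrime P) := by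
  haveI : Algebra.EssFiniteType R (R ⊗[k] K) := inferInstance
  haveI hN : IsNoetherianRing (R ⊗[k] K) := Algebra.EssFiniteType.isNoetherianRing R _
  haveI hN' : IsNoetherianRing (K ⊗[k] R) :=
    isNoetherianRing_of_ringEquiv _ (Algebra.TensorProduct.comm k R K).toRingEquiv
  have hfib : ∀ (q : Ideal (R ⊗[k] K)) [q.IsPrime], PCI (EGA4.FibLocRing R (R ⊗[k] K) q) := by
    refine (forall_localization_fiber_iff (A := R) (B := R ⊗[k] K) PCI isoInv_pci).mp ?_
    intro p _ Q' _
    let e : p.Fiber (R ⊗[k] K) ≃+* K ⊗[k] p.ResidueField :=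
      (Algebra.TensorProduct.cancelBaseChange k R p.ResidueField p.ResidueField
        K).toRingEquiv.trans (Algebra.TensorProduct.comm k p.ResidueField K).toRingEquiv
    exact forall_pci_localization_of_ringEquiv e
      (fun 𝔮 _ => pci_localization_tensor_fields k K p.ResidueField 𝔮) Q'
  have key : ∀ (Q : Ideal (R ⊗[k] K)) [Q.IsPrime], PCI (Localization.AtPrime Q) := by
    intro Q _
    rw [pci_iff]
    exact isCI_localization_of_flat_of_fibLocRing (A := R) Q (hR _) (hfib Q)
  refine ⟨hN', fun P _ => ?_⟩
  exact (pci_iff _).mp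
    (forall_pci_localization_of_ringEquiv (Algebra.TensorProduct.comm k K R).toRingEquiv key P)

end Main

end Groth.Agent.Lib.T2H9.CIAscent
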