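import Mathlib
import Groth.Prelude
import Groth.Agent.Lib.T2H9CIBaseChange
import Groth.Agent.Lib.T2H9CIAscent
import Groth.Agent.Lib.T2H9SyntCI2
import Groth.Agent.Lib.Helper2StalkFlat

set_option autoImplicit false
set_option linter.unusedSectionVars false
set_option linter.style.haveILetI false
universe u

namespace Groth.Agent.Lib.T2H9.SyntMor

open IsLocalRing TensorProduct AlgebraicGeometry CategoryTheory
  Groth.Agent.Lib.T2H9.CILocus Groth.Agent.Lib.T2H9.CIBaseChange
  Groth.Agent.Lib.Helper5.FiberStalk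

section FL

variable {A B A' B' : Type u} [CommRing A] [CommRing B] [CommRing A'] [CommRing B']
  [Algebra A B] [Algebra A A'] [Algebra B B'] [IsLocalRing A']

/-- the closed fibre of a localized map is the fibre local ring -/
theorem nonempty_quot_equiv_fibLocRing (q : Ideal B) [q.IsPrime] (p : Ideal A) [p.IsPrime]
    (hp : q.comap (algebraMap A B) = p) [IsLocalization.AtPrime A' p]
    [IsLocalization.AtPrime B' q] (φ : A' →+* B')
    (hφ : φ.comp (algebraMap A A') = (algebraMap B B').comp (algebraMap A B)) :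
    Nonempty ((B' ⧸ (maximalIdeal A').map φ) ≃+* EGA4.FibLocRing A B q) := by
  let e₂ : Localization.AtPrime q ≃ₐ[B] B' :=
    IsLocalization.algEquiv q.primeCompl (Localization.AtPrime q) B'
  have h1 : (maximalIdeal A').map φ = p.map ((algebraMap B B').comp (algebraMap A B)) := by
    rw [← IsLocalization.AtPrime.map_eq_maximalIdeal p A', Ideal.map_map, hφ]
  have h2 : ((q.comap (algebraMap A B)).map (algebraMap A (Localization.AtPrime q))).map
      (e₂.toRingEquiv : Localization.AtPrime q →+* B') =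
      p.map ((algebraMap B B').comp (algebraMap A B)) := by
    rw [Ideal.map_map, hp]
    congr 1
    ext a
    rw [RingHom.comp_apply, RingHom.comp_apply,
      IsScalarTower.algebraMap_apply A B (Localization.AtPrime q)]
    exact e₂.commutes (algebraMap A B a)
  refine ⟨(Ideal.quotientEquiv _ _ e₂.toRingEquiv ?_).symm⟩
  rw [h1, ← h2]

end FL

section Star

variable {X S : Scheme.{u}} (f : X ⟶ S)

theorem stalkMap_germ_eq_germ_appLE {U : X.Opens} {V : S.Opens}
    (e : U ≤ f ⁻¹ᵁ V) (x : X) (hx : x ∈ U) (a : Γ(S, V)) :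
    (f.stalkMap x).hom ((S.presheaf.germ V (f.base x) (e hx)).hom a) =
      (X.presheaf.germ U x hx).hom ((f.appLE V U e).hom a) := by
  simp only [Scheme.Hom.appLE, CommRingCat.hom_comp, RingHom.coe_comp, Function.comp_apply]
  erw [Scheme.Hom.germ_stalkMap_apply, X.presheaf.germ_res_apply]

/-- the local ring of the fibre at a point of an affine chart is the fibre local ring of the chart -/
theorem nonempty_fiberStalk_equiv_fibLocRing {U : X.Opens} (hU : IsAffineOpen U) {V : S.Opens}
    (hV : IsAffineOpen V) (e : U ≤ f ⁻¹ᵁ V) (x : X) (hx : x ∈ U) :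
    letI := (f.appLE V U e).hom.toAlgebra
    Nonempty (CInt.fiberStalk f x ≃+*
      EGA4.FibLocRing Γ(S, V) Γ(X, U) (hU.primeIdealOf ⟨x, hx⟩).asIdeal) := by
  letI algAB := (f.appLE V U e).hom.toAlgebra
  letI algB : Algebra Γ(X, U) (X.presheaf.stalk x) := X.presheaf.algebra_section_stalk ⟨x, hx⟩
  haveI locB := hU.isLocalization_stalk ⟨x, hx⟩
  letI algA : Algebra Γ(S, V) (S.presheaf.stalk (f x)) :=
    S.presheaf.algebra_section_stalk ⟨f x, e hx⟩
  haveI locA := hV.isLocalization_stalk ⟨f x, e hx⟩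
  have hp : (hU.primeIdealOf ⟨x, hx⟩).asIdeal.comap (algebraMap Γ(S, V) Γ(X, U)) =
      (hV.primeIdealOf ⟨f x, e hx⟩).asIdeal := by
    have := IsAffineOpen.comap_primeIdealOf_appLE (f := f) V hV U hU e hx
    exact congrArg PrimeSpectrum.asIdeal this
  obtain ⟨e₁⟩ := nonempty_stalk_asFiber_equiv f x
  obtain ⟨e₂⟩ := nonempty_quot_equiv_fibLocRing (A := Γ(S, V)) (B := Γ(X, U))
    (A' := S.presheaf.stalk (f x)) (B' := X.presheaf.stalk x)
    (hU.primeIdealOf ⟨x, hx⟩).asIdeal (hV.primeIdealOf ⟨f x, e hx⟩).asIdeal hp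
    (f.stalkMap x).hom (by
      ext a
      exact stalkMap_germ_eq_germ_appLE f e x hx a)
  exact ⟨e₁.trans e₂⟩

end Star

section RS

open Groth.Agent.Lib.T2H9.SyntCI Groth.Agent.Lib.Helper28

variable (κ T : Type u) [Field κ] [CommRing T] [Algebra κ T] [Algebra.FiniteType κ T]

/-- a finite type algebra over a field all of whose local rings are complete intersections is a
local complete intersection over the field -/
theorem isLCIOver_of_forall_isCI
    (h : ∀ (Q : Ideal T) [Q.IsPrime], Pi1.IsCompleteIntersection (Localization.AtPrime Q)) :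
    Synt.IsLCIOver κ T := by
  obtain ⟨n, π, hπ⟩ := Algebra.FiniteType.iff_quotient_mvPolynomial''.mp
    (inferInstance : Algebra.FiniteType κ T)
  refine ⟨inferInstance, fun p => ?_⟩
  exact exists_away_isGlobalCI_of_isCI π hπ p.asIdeal (h p.asIdeal)

omit [Algebra.FiniteType κ T] in
theorem isCI_localization_of_isLCIOver (h : Synt.IsLCIOver κ T) (Q : Ideal T) [Q.IsPrime] :
    Pi1.IsCompleteIntersection (Localization.AtPrime Q) := by
  obtain ⟨-, hL⟩ := h
  obtain ⟨g, hg, hG⟩ := hL ⟨Q, inferInstance⟩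
  exact isCI_of_isCIOver (isCIOver_atPrime_of_away g Q hg hG)

theorem isLCIOver_iff_forall_pci :
    Synt.IsLCIOver κ T ↔ ∀ (Q : Ideal T) [Q.IsPrime], PCI (Localization.AtPrime Q) := by
  haveI : IsNoetherianRing T := Algebra.FiniteType.isNoetherianRing κ T
  constructor
  · intro h Q _
    rw [pci_iff]
    exact isCI_localization_of_isLCIOver κ T h Q
  · intro h
    exact isLCIOver_of_forall_isCI κ T fun Q _ => (pci_iff _).mp (h Q)

variable (A B : Type u) [CommRing A] [CommRing B] [Algebra A B]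

/-- syntomic ring maps in terms of fibre local rings -/
theorem isSyntomic_iff_fibLocRing :
    Synt.IsSyntomic A B ↔ Module.Flat A B ∧ Algebra.FinitePresentation A B ∧
      ∀ (q : Ideal B) [q.IsPrime], PCI (EGA4.FibLocRing A B q) := by
  unfold Synt.IsSyntomic
  refine and_congr Iff.rfl (and_congr_right fun hfp => ?_)
  haveI := hfp
  rw [← forall_localization_fiber_iff (A := A) (B := B) PCI isoInv_pci]
  constructor
  · intro h p _ Q _
    exact (isLCIOver_iff_forall_pci p.ResidueField (p.Fiber B)).mp (h ⟨p, inferInstance⟩) Q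
  · intro h p
    exact (isLCIOver_iff_forall_pci p.asIdeal.ResidueField (p.asIdeal.Fiber B)).mpr
      (fun Q _ => h p.asIdeal Q)

end RS

section Chart

variable {X S : Scheme.{u}} (f : X ⟶ S)

/-- every prime of the ring of an affine open is the prime of a point -/
theorem exists_mem_primeIdealOf_eq {U : X.Opens} (hU : IsAffineOpen U) (q : Ideal Γ(X, U))
    [hq : q.IsPrime] : ∃ (x : X) (hx : x ∈ U), (hU.primeIdealOf ⟨x, hx⟩).asIdeal = q := by
  have hx : hU.fromSpec ⟨q, hq⟩ ∈ U := by
    rw [← SetLike.mem_coe, ← hU.range_fromSpec]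
    exact ⟨_, rfl⟩
  refine ⟨hU.fromSpec ⟨q, hq⟩, hx, ?_⟩
  have h1 := hU.fromSpec_primeIdealOf ⟨hU.fromSpec ⟨q, hq⟩, hx⟩
  have h2 := hU.fromSpec.isOpenEmbedding.injective h1
  rw [h2]

theorem isSyntomic_appLE_iff {U : X.Opens} (hU : IsAffineOpen U) {V : S.Opens}
    (hV : IsAffineOpen V) (e : U ≤ f ⁻¹ᵁ V) :
    letI := (f.appLE V U e).hom.toAlgebra
    Synt.IsSyntomic Γ(S, V) Γ(X, U) ↔ (f.appLE V U e).hom.Flat ∧
      (f.appLE V U e).hom.FinitePresentation ∧ ∀ x ∈ U, PCI (CInt.fiberStalk f x) := by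
  letI := (f.appLE V U e).hom.toAlgebra
  rw [isSyntomic_iff_fibLocRing]
  refine and_congr Iff.rfl (and_congr Iff.rfl ?_)
  constructor
  · intro h x hx
    obtain ⟨e'⟩ := nonempty_fiberStalk_equiv_fibLocRing f hU hV e x hx
    exact isoInv_pci _ _ e'.symm (h _)
  · intro h q _
    obtain ⟨x, hx, rfl⟩ := exists_mem_primeIdealOf_eq hU q
    obtain ⟨e'⟩ := nonempty_fiberStalk_equiv_fibLocRing f hU hV e x hx
    exact isoInv_pci _ _ e' (h x hx)

/-- **syntomic = flat, locally of finite presentation, complete-intersection fibres** -/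
theorem isSyntomicMor_iff_isCIMorphism : Synt.IsSyntomicMor f ↔ CInt.IsCIMorphism f := by
  constructor
  · intro h
    have key : ∀ x : X, ∃ (U : X.affineOpens) (V : S.affineOpens) (e : U.1 ≤ f ⁻¹ᵁ V.1),
        x ∈ U.1 ∧ (f.appLE V.1 U.1 e).hom.Flat ∧ (f.appLE V.1 U.1 e).hom.FinitePresentation ∧
          ∀ x' ∈ U.1, PCI (CInt.fiberStalk f x') := by
      intro x
      obtain ⟨U, V, e, hx, hs⟩ := h x
      exact ⟨U, V, e, hx, (isSyntomic_appLE_iff f U.2 V.2 e).mp hs⟩
    refine ⟨?_, ?_, ?_⟩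
    · rw [Flat.iff_flat_stalkMap]
      intro x
      obtain ⟨U, V, e, hx, hfl, -, -⟩ := key x
      exact Groth.Agent.Lib.Helper2.StalkFlat.flat_stalkMap_of_flat_appLE f U.2 V.2 e hfl x hx
    · rw [HasRingHomProperty.iff_exists_appLE (P := @LocallyOfFinitePresentation)
        (Q := RingHom.FinitePresentation)
        (RingHom.finitePresentation_stableUnderComposition.stableUnderCompositionWithLocalizationAway
          RingHom.finitePresentation_holdsForLocalizationAway).1]
      intro x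
      obtain ⟨U, V, e, hx, -, hfp, -⟩ := key x
      exact ⟨V, U, hx, e, hfp⟩
    · intro x
      obtain ⟨U, V, e, hx, -, -, hc⟩ := key x
      obtain ⟨hl, hn, hci⟩ := hc x hx
      exact hci
  · rintro ⟨hfl, hfp, hc⟩ x
    haveI := hfl
    haveI := hfp
    obtain ⟨V, hV, hfx, -⟩ := TopologicalSpace.Opens.isBasis_iff_nbhd.mp S.isBasis_affineOpens
      (TopologicalSpace.Opens.mem_top (f x))
    obtain ⟨U, hU, hx, e⟩ := TopologicalSpace.Opens.isBasis_iff_nbhd.mp X.isBasis_affineOpens
      (show x ∈ f ⁻¹ᵁ V from hfx)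
    refine ⟨⟨U, hU⟩, ⟨V, hV⟩, e, hx, (isSyntomic_appLE_iff f hU hV e).mpr
      ⟨Flat.flat_appLE f hV hU e, LocallyOfFinitePresentation.finitePresentation_appLE f hV hU e,
        fun x' _ => ?_⟩⟩
    haveI := Groth.Agent.Lib.T2H9.CIComp.isNoetherianRing_fiberStalk f x'
      (LocallyOfFiniteType.stalkMap f x')
    exact (pci_iff _).mpr (hc x')

end Chart

end Groth.Agent.Lib.T2H9.SyntMor
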