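import Mathlib
import Groth.Agent.Lib.T2H7SyntB
import Groth.Agent.Lib.T2H9RelGCIDim
import Groth.Agent.Lib.Helper14LocalDimB
import Groth.Agent.Lib.T2H9SyntMor
import Groth.Agent.Lib.T2H9SyntCI
import Groth.Agent.Lib.T2H9CIPoly

/-!
# Fibres of syntomic maps: field-level lemmas (helper7)

Over a field `κ`, for a presentation `φ : κ[x₁..xₙ] ↠ T` and a prime `𝔮` of `T` with preimage `Q`:
* `isRegular_of_le_height`: `c` elements of `Q` generating an ideal of height `≥ c` in `κ[x]_Q` form
  a regular sequence (Cohen–Macaulay).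
* `le_height_of_localDim_le`, `localDim_le_of_le_height`: the local dimension of `Spec T` at `𝔮` is
  `≤ n - c` iff the kernel of `φ` has height `≥ c` in `κ[x]_Q`.
* `exists_isRegular_of_isLCIOver`, `isCI_of_isRegular`: `T` a local complete intersection over `κ`
  iff the kernel is generated by a regular sequence in every `κ[x]_Q`.
-/

set_option autoImplicit false

universe u
open TensorProduct MvPolynomial

namespace Groth.Agent.Lib.T2H7.SyntF

open IsLocalRing

section Field

variable (κ : Type u) [Field κ] (n : ℕ)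

/-- `c` elements of a prime `Q` of `κ[x]` generating an ideal of height `≥ c` in the local ring at
`Q` form a regular sequence there -/
theorem isRegular_of_le_height {c : ℕ} (G : Fin c → MvPolynomial (Fin n) κ)
    (Q : Ideal (MvPolynomial (Fin n) κ)) [Q.IsPrime] (hQ : ∀ i, G i ∈ Q)
    (hht : (c : ℕ∞) ≤ ((Ideal.span (Set.range G)).map
      (algebraMap (MvPolynomial (Fin n) κ) (Localization.AtPrime Q))).height) :
    RingTheory.Sequence.IsRegular (Localization.AtPrime Q)
      ((List.ofFn G).map (algebraMap (MvPolynomial (Fin n) κ) (Localization.AtPrime Q))) := by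
  have hCM : LocCoh.IsCohenMacaulayLocalRing (Localization.AtPrime Q) :=
    (Groth.Agent.Lib.T2H9.SyntCI.cm_mvPolynomial κ n).isCohenMacaulayLocalRing_localization Q
  set rs := (List.ofFn G).map
    (algebraMap (MvPolynomial (Fin n) κ) (Localization.AtPrime Q)) with hrs
  have hmem : ∀ y ∈ rs, y ∈ maximalIdeal (Localization.AtPrime Q) := by
    intro y hy
    rw [hrs, List.mem_map] at hy
    obtain ⟨x, hx, rfl⟩ := hy
    rw [List.mem_ofFn] at hx
    obtain ⟨i, rfl⟩ := hx
    rw [IsLocalization.AtPrime.to_map_mem_maximal_iff (Localization.AtPrime Q) Q]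
    exact hQ i
  have hlen : rs.length = c := by
    rw [hrs, List.length_map, List.length_ofFn]
  have hof : Ideal.ofList rs = (Ideal.span (Set.range G)).map
      (algebraMap (MvPolynomial (Fin n) κ) (Localization.AtPrime Q)) := by
    rw [hrs, ← Ideal.map_ofList]
    congr 1
    unfold Ideal.ofList
    congr 1
    ext x
    simp only [Set.mem_ofPred_eq, List.mem_ofFn, Set.mem_range]
  have hht' : (rs.length : ℕ∞) ≤ (Ideal.ofList rs).height := by
    rw [hlen, hof]
    exact hht
  obtain ⟨hw, -, -⟩ := Groth.Agent.Lib.Helper28.isWeaklyRegular_of_length_le_height rs hmem hht'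
  exact (IsLocalRing.isRegular_iff_isWeaklyRegular_of_subset_maximalIdeal hmem).mpr hw

variable {κ n}
variable {T : Type u} [CommRing T] [Algebra κ T] (φ : MvPolynomial (Fin n) κ →ₐ[κ] T)
  (hφ : Function.Surjective φ)

include hφ in
/-- quotient by a minimal prime: dimension in terms of the height upstairs -/
theorem height_add_dim_eq (q₀ : Ideal T) [q₀.IsPrime] :
    (((q₀.comap φ.toRingHom).height : ℕ∞) : WithBot ℕ∞) + ringKrullDim (T ⧸ q₀) = n := by
  set 𝔓 := q₀.comap φ.toRingHom with h𝔓
  have hne : 𝔓 ≠ ⊤ := Ideal.IsPrime.ne_top inferInstance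
  have hCM : LocCoh.IsCohenMacaulayRing (MvPolynomial (Fin n) κ) :=
    Groth.Agent.Lib.T2H9.SyntCI.cm_mvPolynomial κ n
  have h4 := Groth.Agent.Lib.Helper28.height_add_ringKrullDim_quotient_eq_of_forall_isMaximal_height_eq' n
    (Groth.Agent.Lib.Helper28.height_eq_of_isMaximal_mvPolynomial_fin κ n) 𝔓 hne
  have hsurj : Function.Surjective ((Ideal.Quotient.mk q₀).comp φ.toRingHom) :=
    Ideal.Quotient.mk_surjective.comp hφ
  have hkerψ : RingHom.ker ((Ideal.Quotient.mk q₀).comp φ.toRingHom) = 𝔓 := by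
    ext a
    rw [RingHom.mem_ker, RingHom.comp_apply, Ideal.Quotient.eq_zero_iff_mem, h𝔓, Ideal.mem_comap]
  let e : (MvPolynomial (Fin n) κ ⧸ 𝔓) ≃+* (T ⧸ q₀) :=
    (Ideal.quotEquivOfEq hkerψ.symm).trans (RingHom.quotientKerEquivOfSurjective hsurj)
  rw [← ringKrullDim_eq_of_ringEquiv e]
  exact h4


include hφ in
/-- from a bound on the local dimension to a height estimate in the local ring of `κ[x]` -/
theorem le_height_of_localDim_le [Algebra.FiniteType κ T] (𝔮 : Ideal T) [𝔮.IsPrime] (c : ℕ)
    (hcn : c ≤ n)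
    (h : FlatMor.localDim (PrimeSpectrum T) ⟨𝔮, inferInstance⟩ ≤ ((n - c : ℕ) : WithBot ℕ∞)) :
    (c : ℕ∞) ≤ ((RingHom.ker φ.toRingHom).map (algebraMap (MvPolynomial (Fin n) κ)
      (Localization.AtPrime (𝔮.comap φ.toRingHom)))).height := by
  set Q := 𝔮.comap φ.toRingHom with hQ
  set J := RingHom.ker φ.toRingHom with hJ
  rw [Ideal.height_eq_inf_minimalPrimes]
  refine le_iInf₂ fun 𝔐 h𝔐 => ?_
  have hprime : 𝔐.IsPrime := h𝔐.1.1
  have h1 : (𝔐.under (MvPolynomial (Fin n) κ)).height = 𝔐.height :=
    IsLocalization.height_under Q.primeCompl 𝔐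
  rw [← h1]
  rw [IsLocalization.minimalPrimes_map Q.primeCompl (Localization.AtPrime Q) J] at h𝔐
  have h𝔓 : 𝔐.under (MvPolynomial (Fin n) κ) ∈ J.minimalPrimes := h𝔐
  set 𝔓 := 𝔐.under (MvPolynomial (Fin n) κ) with h𝔓def
  have h𝔓Q : 𝔓 ≤ Q := by
    have hle : 𝔐 ≤ maximalIdeal (Localization.AtPrime Q) := IsLocalRing.le_maximalIdeal hprime.ne_top
    have := Ideal.comap_mono (f := algebraMap (MvPolynomial (Fin n) κ) (Localization.AtPrime Q)) hle
    have h2 : (maximalIdeal (Localization.AtPrime Q)).under (MvPolynomial (Fin n) κ) = Q :=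
      IsLocalization.AtPrime.under_maximalIdeal (Localization.AtPrime Q) Q
    exact this.trans h2.le
  -- the corresponding minimal prime of `T`
  have hJ' : J = (⊥ : Ideal T).comap φ.toRingHom := by
    rw [hJ, RingHom.ker_eq_comap_bot]
  rw [hJ'] at h𝔓
  obtain ⟨q₀, hq₀, hq₀𝔓⟩ := Ideal.exists_minimalPrimes_comap_eq φ.toRingHom 𝔓 h𝔓
  have hq₀p : q₀.IsPrime := hq₀.1.1
  have hq₀𝔮 : q₀ ≤ 𝔮 := by
    rw [← Ideal.comap_le_comap_iff_of_surjective φ.toRingHom hφ, hq₀𝔓]
    exact h𝔓Q
  have h2 := (Groth.Agent.Lib.Helper14.LocalDim.localDim_le_iff (k := κ) 𝔮 (n - c)).mp h q₀ hq₀ hq₀𝔮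
  have h3 := height_add_dim_eq φ hφ q₀
  rw [hq₀𝔓] at h3
  -- arithmetic
  generalize ringKrullDim (T ⧸ q₀) = d at h2 h3
  generalize 𝔓.height = e at h3
  induction d using WithBot.recBotCoe with
  | bot => simp at h3
  | coe d =>
    induction e using ENat.recTopCoe with
    | top =>
      exfalso
      have : (((⊤ : ℕ∞) + d : ℕ∞) : WithBot ℕ∞) = ((n : ℕ∞) : WithBot ℕ∞) := by
        exact_mod_cast h3
      rw [top_add] at this
      exact ENat.natCast_ne_top n (WithBot.coe_injective this).symm
    | coe e =>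
      induction d using ENat.recTopCoe with
      | top =>
        exfalso
        have : (((e : ℕ∞) + ⊤ : ℕ∞) : WithBot ℕ∞) = ((n : ℕ∞) : WithBot ℕ∞) := by
          exact_mod_cast h3
        rw [add_top] at this
        exact ENat.natCast_ne_top n (WithBot.coe_injective this).symm
      | coe d =>
        have h5 : e + d = n := by exact_mod_cast h3
        have h6' : ((d : ℕ∞) : WithBot ℕ∞) ≤ (((n - c : ℕ) : ℕ∞) : WithBot ℕ∞) := h2
        have h6 : d ≤ n - c := by exact_mod_cast WithBot.coe_le_coe.mp h6'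
        have : c ≤ e := by omega
        exact_mod_cast this

include hφ in
/-- from a height estimate in the local ring of `κ[x]` to a bound on the local dimension -/
theorem localDim_le_of_le_height [Algebra.FiniteType κ T] (𝔮 : Ideal T) [𝔮.IsPrime] (c : ℕ)
    (h : (c : ℕ∞) ≤ ((RingHom.ker φ.toRingHom).map (algebraMap (MvPolynomial (Fin n) κ)
      (Localization.AtPrime (𝔮.comap φ.toRingHom)))).height) :
    c ≤ n ∧
      FlatMor.localDim (PrimeSpectrum T) ⟨𝔮, inferInstance⟩ ≤ ((n - c : ℕ) : WithBot ℕ∞) := by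
  set Q := 𝔮.comap φ.toRingHom with hQ
  set J := RingHom.ker φ.toRingHom with hJ
  have key : ∀ q₀ ∈ minimalPrimes T, q₀ ≤ 𝔮 → (c : ℕ∞) ≤ (q₀.comap φ.toRingHom).height := by
    intro q₀ hq₀ hq₀𝔮
    have hq₀p : q₀.IsPrime := hq₀.1.1
    set 𝔓 := q₀.comap φ.toRingHom with h𝔓
    have h𝔓Q : 𝔓 ≤ Q := Ideal.comap_mono hq₀𝔮
    have hJ𝔓 : J ≤ 𝔓 := by
      rw [hJ, RingHom.ker_eq_comap_bot]
      exact Ideal.comap_mono bot_le
    have hdisj : Disjoint (Q.primeCompl : Set (MvPolynomial (Fin n) κ)) (𝔓 : Set _) := by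
      rw [Set.disjoint_left]
      intro x hx hx'
      exact hx (h𝔓Q hx')
    have hpr : (𝔓.map (algebraMap (MvPolynomial (Fin n) κ) (Localization.AtPrime Q))).IsPrime :=
      IsLocalization.isPrime_of_isPrime_disjoint Q.primeCompl _ 𝔓 inferInstance hdisj
    have hun : (𝔓.map (algebraMap (MvPolynomial (Fin n) κ) (Localization.AtPrime Q))).under
        (MvPolynomial (Fin n) κ) = 𝔓 :=
      IsLocalization.under_map_of_isPrime_disjoint Q.primeCompl _ inferInstance hdisj
    have h1 : ((𝔓.map (algebraMap (MvPolynomial (Fin n) κ) (Localization.AtPrime Q))).under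
        (MvPolynomial (Fin n) κ)).height =
        (𝔓.map (algebraMap (MvPolynomial (Fin n) κ) (Localization.AtPrime Q))).height :=
      IsLocalization.height_under Q.primeCompl _
    rw [hun] at h1
    rw [h1]
    exact h.trans (Ideal.height_mono (Ideal.map_mono hJ𝔓))
  have hcn : c ≤ n := by
    obtain ⟨q₀, hq₀, hq₀𝔮⟩ := Ideal.exists_minimalPrimes_le (I := (⊥ : Ideal T)) (J := 𝔮) bot_le
    have hq₀p : q₀.IsPrime := hq₀.1.1
    have h1 := key q₀ hq₀ hq₀𝔮
    have h3 := height_add_dim_eq φ hφ q₀
    generalize ringKrullDim (T ⧸ q₀) = d at h3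
    generalize (q₀.comap φ.toRingHom).height = e at h1 h3
    induction d using WithBot.recBotCoe with
    | bot => simp at h3
    | coe d =>
      induction e using ENat.recTopCoe with
      | top =>
        exfalso
        have : (((⊤ : ℕ∞) + d : ℕ∞) : WithBot ℕ∞) = ((n : ℕ∞) : WithBot ℕ∞) := by
          exact_mod_cast h3
        rw [top_add] at this
        exact ENat.natCast_ne_top n (WithBot.coe_injective this).symm
      | coe e =>
        induction d using ENat.recTopCoe with
        | top =>
          exfalso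
          have : (((e : ℕ∞) + ⊤ : ℕ∞) : WithBot ℕ∞) = ((n : ℕ∞) : WithBot ℕ∞) := by
            exact_mod_cast h3
          rw [add_top] at this
          exact ENat.natCast_ne_top n (WithBot.coe_injective this).symm
        | coe d =>
          have h5 : e + d = n := by exact_mod_cast h3
          have h6 : c ≤ e := by exact_mod_cast h1
          omega
  refine ⟨hcn, ?_⟩
  rw [Groth.Agent.Lib.Helper14.LocalDim.localDim_le_iff (k := κ) 𝔮 (n - c)]
  intro q₀ hq₀ hq₀𝔮
  have hq₀p : q₀.IsPrime := hq₀.1.1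
  have h1 := key q₀ hq₀ hq₀𝔮
  have h3 := height_add_dim_eq φ hφ q₀
  generalize ringKrullDim (T ⧸ q₀) = d at h3 ⊢
  generalize (q₀.comap φ.toRingHom).height = e at h1 h3
  induction d using WithBot.recBotCoe with
  | bot => exact bot_le
  | coe d =>
    induction e using ENat.recTopCoe with
    | top =>
      exfalso
      have : (((⊤ : ℕ∞) + d : ℕ∞) : WithBot ℕ∞) = ((n : ℕ∞) : WithBot ℕ∞) := by
        exact_mod_cast h3
      rw [top_add] at this
      exact ENat.natCast_ne_top n (WithBot.coe_injective this).symm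
    | coe e =>
      induction d using ENat.recTopCoe with
      | top =>
        exfalso
        have : (((e : ℕ∞) + ⊤ : ℕ∞) : WithBot ℕ∞) = ((n : ℕ∞) : WithBot ℕ∞) := by
          exact_mod_cast h3
        rw [add_top] at this
        exact ENat.natCast_ne_top n (WithBot.coe_injective this).symm
      | coe d =>
        have h5 : e + d = n := by exact_mod_cast h3
        have h6 : c ≤ e := by exact_mod_cast h1
        have h7 : d ≤ n - c := by omega
        have h8 : ((d : ℕ∞) : WithBot ℕ∞) ≤ (((n - c : ℕ) : ℕ∞) : WithBot ℕ∞) :=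
          WithBot.coe_le_coe.mpr (by exact_mod_cast h7)
        exact h8


include hφ in
/-- a local complete intersection over a field: the kernel of a presentation is generated by a
regular sequence in the local rings of the polynomial ring -/
theorem exists_isRegular_of_isLCIOver (h : Synt.IsLCIOver κ T) (𝔮 : Ideal T) [𝔮.IsPrime] :
    ∃ rs : List (Localization.AtPrime (𝔮.comap φ.toRingHom)),
      RingTheory.Sequence.IsRegular (Localization.AtPrime (𝔮.comap φ.toRingHom)) rs ∧
      Ideal.ofList rs = (RingHom.ker φ.toRingHom).map (algebraMap (MvPolynomial (Fin n) κ)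
        (Localization.AtPrime (𝔮.comap φ.toRingHom))) := by
  have hft : Algebra.FiniteType κ T := h.1
  have hN : IsNoetherianRing T := Algebra.FiniteType.isNoetherianRing κ T
  have h1 : Pi1.IsCompleteIntersection (Localization.AtPrime 𝔮) :=
    Groth.Agent.Lib.T2H9.SyntMor.isCI_localization_of_isLCIOver κ T h 𝔮
  let e := Groth.Agent.Lib.T2H9.SyntCI.locSurjEquiv φ.toRingHom hφ 𝔮
  have hloc : IsLocalRing (Localization.AtPrime (𝔮.comap φ.toRingHom) ⧸
      (RingHom.ker φ.toRingHom).map (algebraMap (MvPolynomial (Fin n) κ)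
        (Localization.AtPrime (𝔮.comap φ.toRingHom)))) := e.isLocalRing
  have h2 : Pi1.IsCompleteIntersection (Localization.AtPrime (𝔮.comap φ.toRingHom) ⧸
      (RingHom.ker φ.toRingHom).map (algebraMap (MvPolynomial (Fin n) κ)
        (Localization.AtPrime (𝔮.comap φ.toRingHom)))) :=
    Groth.Agent.Lib.T2H9.CILocus.isCI_of_ringEquiv e h1
  have hne : (RingHom.ker φ.toRingHom).map (algebraMap (MvPolynomial (Fin n) κ)
        (Localization.AtPrime (𝔮.comap φ.toRingHom))) ≠ ⊤ := by
    intro htop
    have : Subsingleton (Localization.AtPrime (𝔮.comap φ.toRingHom) ⧸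
      (RingHom.ker φ.toRingHom).map (algebraMap (MvPolynomial (Fin n) κ)
        (Localization.AtPrime (𝔮.comap φ.toRingHom)))) :=
      Ideal.Quotient.subsingleton_iff.mpr htop
    exact not_subsingleton _ this
  have hreg : IsRegularLocalRing (Localization.AtPrime (𝔮.comap φ.toRingHom)) := by
    have : IsRegularRing (MvPolynomial (Fin n) κ) := inferInstance
    exact IsRegularRing.isRegularLocalRing_localization _
  obtain ⟨rs, hrs, hreg'⟩ :=
    Groth.Agent.Lib.T2H9.GeomDepthCI.exists_isRegular_of_isCompleteIntersection_quotient _ hne h2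
  exact ⟨rs, hreg', hrs⟩

include hφ in
/-- conversely, if the kernel of a presentation is generated by a regular sequence in the local ring
of the polynomial ring, the local ring of the quotient is a complete intersection -/
theorem isCI_of_isRegular [Algebra.FiniteType κ T] (𝔮 : Ideal T) [𝔮.IsPrime]
    (rs : List (Localization.AtPrime (𝔮.comap φ.toRingHom)))
    (hreg : RingTheory.Sequence.IsRegular (Localization.AtPrime (𝔮.comap φ.toRingHom)) rs)
    (hrs : Ideal.ofList rs = (RingHom.ker φ.toRingHom).map (algebraMap (MvPolynomial (Fin n) κ)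
        (Localization.AtPrime (𝔮.comap φ.toRingHom)))) :
    Pi1.IsCompleteIntersection (Localization.AtPrime 𝔮) := by
  have hN : IsNoetherianRing T := Algebra.FiniteType.isNoetherianRing κ T
  have hregl : IsRegularLocalRing (Localization.AtPrime (𝔮.comap φ.toRingHom)) := by
    have : IsRegularRing (MvPolynomial (Fin n) κ) := inferInstance
    exact IsRegularRing.isRegularLocalRing_localization _
  let e := Groth.Agent.Lib.T2H9.SyntCI.locSurjEquiv φ.toRingHom hφ 𝔮
  rw [← hrs] at e
  have hloc : IsLocalRing (Localization.AtPrime (𝔮.comap φ.toRingHom) ⧸ Ideal.ofList rs) :=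
    e.isLocalRing
  have h1 : Pi1.IsCompleteIntersection
      (Localization.AtPrime (𝔮.comap φ.toRingHom) ⧸ Ideal.ofList rs) :=
    Groth.Agent.Lib.T2H9.CIPoly.isCI_quotient_ofList
      (Groth.Agent.Lib.T2H9.CILocus.isCI_of_isRegularLocalRing _) rs hreg
  exact Groth.Agent.Lib.T2H9.CILocus.isCI_of_ringEquiv e.symm h1

end Field

end Groth.Agent.Lib.T2H7.SyntF
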