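import Groth.Agent.Lib.T2H9SyntMor
import Groth.Agent.Lib.T2H9CIComp
import Groth.Agent.Lib.Helper6SmSynt

/-!
# Composition of syntomic ring maps (T2 helper9)

* `pci_fibLocRing_comp`: complete intersection fibre local rings compose.
* `isSyntomic_comp`: `Synt.IsSyntomic A B → Synt.IsSyntomic B C → Synt.IsSyntomic A C`.
* `isSyntomic_of_bijective`, `isSyntomic_self`, `isSyntomic_of_algEquiv`.
-/

set_option autoImplicit false
set_option linter.style.haveILetI false
set_option linter.unusedSectionVars false
universe u
open IsLocalRing

namespace Groth.Agent.Lib.T2H9.SyntComp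

open Groth.Agent.Lib.T2H9.CIBaseChange Groth.Agent.Lib.T2H9.SyntMor Groth.Agent.Lib.T2H9.CIComp

variable (A B C : Type u) [CommRing A] [CommRing B] [CommRing C] [Algebra A B] [Algebra B C]
  [Algebra A C] [IsScalarTower A B C]

/-- complete intersection fibre local rings compose (ring level) -/
theorem pci_fibLocRing_comp [Module.Flat B C] [Algebra.FiniteType B C] (r : Ideal C) [r.IsPrime]
    (h1 : PCI (EGA4.FibLocRing A B (r.comap (algebraMap B C))))
    (h2 : PCI (EGA4.FibLocRing B C r)) : PCI (EGA4.FibLocRing A C r) := by
  set q : Ideal B := r.comap (algebraMap B C) with hq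
  set p : Ideal A := q.comap (algebraMap A B) with hp
  have hpr : r.comap (algebraMap A C) = p := by
    rw [hp, hq, Ideal.comap_comap, ← IsScalarTower.algebraMap_eq]
  letI alg : Algebra (Localization.AtPrime q) (Localization.AtPrime r) :=
    (Localization.localRingHom q r (algebraMap B C) rfl).toAlgebra
  haveI : IsLocalHom (algebraMap (Localization.AtPrime q) (Localization.AtPrime r)) :=
    Localization.isLocalHom_localRingHom q r (algebraMap B C) rfl
  haveI tBqr : IsScalarTower B (Localization.AtPrime q) (Localization.AtPrime r) := by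
    refine IsScalarTower.of_algebraMap_eq fun x => ?_
    rw [IsScalarTower.algebraMap_apply B C (Localization.AtPrime r)]
    exact (Localization.localRingHom_to_map q r (algebraMap B C) rfl x).symm
  haveI tAqr : IsScalarTower A (Localization.AtPrime q) (Localization.AtPrime r) := by
    refine IsScalarTower.of_algebraMap_eq fun x => ?_
    rw [IsScalarTower.algebraMap_apply A B (Localization.AtPrime q),
      IsScalarTower.algebraMap_apply A C (Localization.AtPrime r),
      IsScalarTower.algebraMap_apply A B C]
    exact (Localization.localRingHom_to_map q r (algebraMap B C) rfl _).symm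
  haveI : Module.Flat (Localization.AtPrime q) (Localization.AtPrime r) := by
    have hfl : (algebraMap B C).Flat := (RingHom.flat_algebraMap_iff).mpr inferInstance
    exact hfl.localRingHom r q rfl
  haveI : Algebra.EssFiniteType B (Localization.AtPrime r) :=
    Algebra.EssFiniteType.comp B C (Localization.AtPrime r)
  haveI : Algebra.EssFiniteType (Localization.AtPrime q) (Localization.AtPrime r) :=
    Algebra.EssFiniteType.of_comp B (Localization.AtPrime q) (Localization.AtPrime r)
  obtain ⟨hl1, hn1, hci1⟩ := h1
  obtain ⟨hl2, hn2, hci2⟩ := h2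
  set a : Ideal (Localization.AtPrime q) := p.map (algebraMap A (Localization.AtPrime q)) with ha
  have ha_ne : a ≠ ⊤ := by
    intro htop
    haveI := hl1
    have : Subsingleton (Localization.AtPrime q ⧸ a) := Ideal.Quotient.subsingleton_iff.mpr htop
    exact not_subsingleton (Localization.AtPrime q ⧸ a) this
  haveI : IsNoetherianRing (Localization.AtPrime q ⧸ a) := hn1
  haveI : IsLocalRing (Localization.AtPrime q ⧸ a) := hl1
  -- the two quotients of `C_r`
  have hI2 : (maximalIdeal (Localization.AtPrime q)).map
      (algebraMap (Localization.AtPrime q) (Localization.AtPrime r)) =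
      (r.comap (algebraMap B C)).map (algebraMap B (Localization.AtPrime r)) := by
    rw [← Localization.AtPrime.map_eq_maximalIdeal, Ideal.map_map,
      ← IsScalarTower.algebraMap_eq]
  have hI3 : a.map (algebraMap (Localization.AtPrime q) (Localization.AtPrime r)) =
      (r.comap (algebraMap A C)).map (algebraMap A (Localization.AtPrime r)) := by
    rw [ha, Ideal.map_map, ← IsScalarTower.algebraMap_eq, hpr]
  haveI : IsLocalRing (Localization.AtPrime r ⧸ (maximalIdeal (Localization.AtPrime q)).map
      (algebraMap (Localization.AtPrime q) (Localization.AtPrime r))) :=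
    (Ideal.quotEquivOfEq hI2).symm.isLocalRing
  have hne3 : a.map (algebraMap (Localization.AtPrime q) (Localization.AtPrime r)) ≠ ⊤ := by
    intro htop
    have hle : a.map (algebraMap (Localization.AtPrime q) (Localization.AtPrime r)) ≤
        (maximalIdeal (Localization.AtPrime q)).map
          (algebraMap (Localization.AtPrime q) (Localization.AtPrime r)) :=
      Ideal.map_mono (IsLocalRing.le_maximalIdeal ha_ne)
    rw [htop] at hle
    exact (IsLocalRing.map_maximalIdeal_lt_top _).ne (top_le_iff.mp hle)
  haveI : IsLocalRing (Localization.AtPrime r ⧸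
      a.map (algebraMap (Localization.AtPrime q) (Localization.AtPrime r))) :=
    Groth.Agent.Lib.Helper5.isLocalRing_quotient hne3
  have hci2' : Pi1.IsCompleteIntersection (Localization.AtPrime r ⧸
      (maximalIdeal (Localization.AtPrime q)).map
        (algebraMap (Localization.AtPrime q) (Localization.AtPrime r))) := by
    haveI := hl2
    haveI := hn2
    exact Groth.Agent.Lib.T2H9.CILocus.isCI_of_ringEquiv (Ideal.quotEquivOfEq hI2).symm hci2
  obtain ⟨hn3, hci3⟩ := isCI_quot_of_flat (A₀ := Localization.AtPrime q)
    (B₀ := Localization.AtPrime r) a ha_ne hci1 hci2'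
  exact isoInv_pci _ _ (Ideal.quotEquivOfEq hI3) ⟨inferInstance, hn3, hci3⟩

/-- **syntomic ring maps compose** -/
theorem isSyntomic_comp (h1 : Synt.IsSyntomic A B) (h2 : Synt.IsSyntomic B C) :
    Synt.IsSyntomic A C := by
  rw [isSyntomic_iff_fibLocRing] at h1 h2 ⊢
  obtain ⟨f1, p1, c1⟩ := h1
  obtain ⟨f2, p2, c2⟩ := h2
  haveI := f1
  haveI := f2
  haveI := p1
  haveI := p2
  refine ⟨Module.Flat.trans A B C, Algebra.FinitePresentation.trans A B C, fun r _ => ?_⟩
  haveI : Algebra.FiniteType B C := inferInstance
  exact pci_fibLocRing_comp A B C r (c1 _) (c2 r)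

omit [Algebra A B] [Algebra A C] [IsScalarTower A B C] in
theorem isSyntomic_of_bijective (h : Function.Bijective (algebraMap B C)) :
    Synt.IsSyntomic B C := by
  let e : B ≃ₐ[B] C := AlgEquiv.ofBijective (Algebra.ofId B C) h
  haveI : Algebra.Smooth B C := Algebra.Smooth.of_equiv e
  exact Groth.Agent.Lib.Helper6.SmSynt.isSyntomic_of_smooth B C

omit [Algebra A B] [Algebra B C] [Algebra A C] [IsScalarTower A B C] in
theorem isSyntomic_self : Synt.IsSyntomic A A :=
  isSyntomic_of_bijective A A Function.bijective_id

omit [Algebra B C] [IsScalarTower A B C] in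
theorem isSyntomic_of_algEquiv (e : B ≃ₐ[A] C) (h : Synt.IsSyntomic A B) : Synt.IsSyntomic A C := by
  letI : Algebra B C := e.toAlgHom.toRingHom.toAlgebra
  haveI : IsScalarTower A B C := IsScalarTower.of_algebraMap_eq fun x => (e.commutes x).symm
  exact isSyntomic_comp A B C h (isSyntomic_of_bijective B C e.bijective)

end Groth.Agent.Lib.T2H9.SyntComp
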