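import Mathlib
import Groth.Agent.Lib.Helper5KoszulBC
import Groth.Agent.Lib.T2H7KRegH
import Groth.Agent.Lib.T2H7KRegI
import Groth.Agent.Lib.T2H7SyntF
import Groth.Agent.Lib.T2H9SyntComp

/-!
# Flat local complete intersection ring maps are syntomic (helper7)

* `isRegular_reverse_of_isKoszulRegularSeq`: in a Noetherian local ring a Koszul-regular sequence in
  the maximal ideal is regular when read backwards.
* `fg_of_isKoszulRegularIdeal`: Koszul-regular ideals are finitely generated.
* `isLCIOver_fiber`: the fibres of a flat quotient of a polynomial ring by a Koszul-regular ideal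
  are local complete intersections.
* `isSyntomic_of_flat_of_isLCI`: flat + lci ⟹ syntomic.
-/

set_option autoImplicit false

universe u
open TensorProduct

namespace Groth.Agent.Lib.T2H7.SyntH

open IsLocalRing RingTheory.Sequence
open Groth.Agent.Helper13Kz Groth.Agent.Helper13KzLift Groth.Agent.Lib.Helper5.KoszulGor

section Local

variable (A : Type u) [CommRing A] [IsLocalRing A] [IsNoetherianRing A]

lemma ofList_reverse (l : List A) : Ideal.ofList l.reverse = Ideal.ofList l := by
  unfold Ideal.ofList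
  congr 1
  ext x
  simp only [Set.mem_ofPred_eq, List.mem_reverse]

/-- in a Noetherian local ring, a Koszul-regular sequence in the maximal ideal is a regular
sequence when read backwards -/
theorem isWeaklyRegular_reverse_of_koszul :
    ∀ (l : List A), (∀ x ∈ l, x ∈ maximalIdeal A) →
      (∀ i : ℤ, i ≠ 0 → Subsingleton (KH l A i)) → IsWeaklyRegular A l.reverse
  | [], _, _ => by
    rw [List.reverse_nil]
    exact IsWeaklyRegular.nil _ _
  | x :: l, hm, hK => by
    obtain ⟨hK0, hinj⟩ := acyclic_of_cons A x l (hm x List.mem_cons_self) hK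
    have IH := isWeaklyRegular_reverse_of_koszul l
      (fun y hy => hm y (List.mem_cons_of_mem _ hy)) hK0
    rw [List.reverse_cons, isWeaklyRegular_append_iff]
    refine ⟨IH, ?_⟩
    rw [isWeaklyRegular_cons_iff]
    refine ⟨?_, IsWeaklyRegular.nil _ _⟩
    obtain ⟨e⟩ := Groth.Agent.S11917.main A l
    rw [ofList_reverse]
    have h1 : IsSMulRegular (KH l A 0) x := hinj
    exact (e.isSMulRegular_congr x).mp h1

theorem isRegular_reverse_of_isKoszulRegularSeq (l : List A)
    (hm : ∀ x ∈ l, x ∈ maximalIdeal A) (h : LCI.IsKoszulRegularSeq A l) :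
    IsRegular A l.reverse := by
  have hw := isWeaklyRegular_reverse_of_koszul A l hm
    ((isKoszulRegularSeq_iff A l).mp h)
  have hm' : ∀ x ∈ l.reverse, x ∈ maximalIdeal A := fun x hx => hm x (List.mem_reverse.mp hx)
  exact (IsLocalRing.isRegular_iff_isWeaklyRegular_of_subset_maximalIdeal hm').mpr hw

end Local

section Gen

open Groth.Agent.Lib.T2H7.KRegA Groth.Agent.Lib.T2H7.KRegB Groth.Agent.Lib.T2H7.KRegH

variable {C D : Type u} [CommRing C] [CommRing D]

/-- generation transported along a ring map inverting `g` -/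
lemma map_eq_of_genAt_of_isUnit {g : C} {I : Ideal C} {l : List C} (h : GenAt g I l)
    (f : C →+* D) (hu : IsUnit (f g)) : I.map f = (Ideal.ofList l).map f := by
  have hu' : ∀ k : ℕ, IsUnit (f (g ^ k)) := fun k => by
    rw [map_pow]
    exact hu.pow k
  apply le_antisymm
  · rw [Ideal.map_le_iff_le_comap]
    intro x hx
    obtain ⟨k, hk⟩ := h.1 x hx
    rw [Ideal.mem_comap]
    have := Ideal.mem_map_of_mem f hk
    rwa [map_mul, Ideal.unit_mul_mem_iff_mem _ (hu' k)] at this
  · rw [Ideal.map_le_iff_le_comap]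
    refine Ideal.span_le.mpr ?_
    intro x hx
    obtain ⟨k, hk⟩ := h.2 x hx
    show x ∈ Ideal.comap _ _
    rw [Ideal.mem_comap]
    have := Ideal.mem_map_of_mem f hk
    rwa [map_mul, Ideal.unit_mul_mem_iff_mem _ (hu' k)] at this

/-- torsion of Koszul homology gives Koszul-regularity in a flat algebra inverting `g` -/
theorem kreg_map_of_torsAt [Algebra C D] [Module.Flat C D] {g : C} {l : List C}
    (h : TorsAt g l) (hu : IsUnit (algebraMap C D g)) :
    LCI.IsKoszulRegularSeq D (l.map (algebraMap C D)) := by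
  rw [kreg_map_iff_of_flat]
  intro i hi
  suffices hz : ∀ t : KH l C i ⊗[C] D, t = 0 from ⟨fun a b => by rw [hz a, hz b]⟩
  intro t
  induction t using TensorProduct.induction_on with
  | zero => rfl
  | tmul z d =>
    obtain ⟨k, hk⟩ := h i hi z
    have hu' : IsUnit (algebraMap C D (g ^ k)) := by
      rw [map_pow]
      exact hu.pow k
    obtain ⟨v, hv⟩ := hu'
    have h1 : d = g ^ k • ((v⁻¹ : Dˣ) * d : D) := by
      rw [Algebra.smul_def, ← hv, ← mul_assoc, Units.mul_inv, one_mul]
    rw [h1, ← TensorProduct.smul_tmul, hk, TensorProduct.zero_tmul]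
  | add a b ha hb => rw [ha, hb, add_zero]

end Gen

section Fibre

open Groth.Agent.Lib.T2H7.KRegA Groth.Agent.Lib.T2H7.KRegB Groth.Agent.Lib.T2H7.KRegH
open Groth.Agent.Lib.T2H7.SyntB Groth.Agent.Lib.T2H7.SyntF MvPolynomial

variable {R : Type u} [CommRing R] {n : ℕ} (I : Ideal (MvPolynomial (Fin n) R))

/-- the extension of a Koszul-regular ideal with flat quotient to the fibre polynomial ring is
Koszul-regular -/
theorem isKoszulRegularIdeal_map_ι (hI : LCI.IsKoszulRegularIdeal I)
    (hflat : Module.Flat R (MvPolynomial (Fin n) R ⧸ I)) (p : Ideal R) [p.IsPrime] :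
    LCI.IsKoszulRegularIdeal (I.map (ι p n)) := by
  have hJ := Groth.Agent.Lib.Helper5.KoszulBC.koszulRegular_baseChange R (MvPolynomial (Fin n) R)
    p.ResidueField I hI hflat
  let e1 : MvPolynomial (Fin n) p.ResidueField ≃+* MvPolynomial (Fin n) R ⊗[R] p.ResidueField :=
    ((MvPolynomial.algebraTensorAlgEquiv R p.ResidueField).symm.toRingEquiv).trans
      (Algebra.TensorProduct.comm R p.ResidueField (MvPolynomial (Fin n) R)).toRingEquiv
  have h1 := Groth.Agent.Lib.T2H7.KRegI.isKoszulRegularIdeal_comap_of_bijective e1.toRingHom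
    e1.bijective _ hJ
  have h2 : (I.map (Algebra.TensorProduct.includeLeft :
      MvPolynomial (Fin n) R →ₐ[R] MvPolynomial (Fin n) R ⊗[R] p.ResidueField)).comap e1.toRingHom =
      I.map (ι p n) := by
    have h3 : ∀ v : MvPolynomial (Fin n) R, e1 (ι p n v) = v ⊗ₜ[R] (1 : p.ResidueField) := by
      intro v
      show (Algebra.TensorProduct.comm R p.ResidueField (MvPolynomial (Fin n) R))
        ((MvPolynomial.algebraTensorAlgEquiv R p.ResidueField).symm (ι p n v)) = _
      have : (MvPolynomial.algebraTensorAlgEquiv R p.ResidueField).symm (ι p n v) = 1 ⊗ₜ v :=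
        eT_symm_ι p n v
      rw [this]
      rfl
    have h4 : (I.map (Algebra.TensorProduct.includeLeft :
        MvPolynomial (Fin n) R →ₐ[R] MvPolynomial (Fin n) R ⊗[R] p.ResidueField)).comap
        e1.toRingHom = (I.map (Algebra.TensorProduct.includeLeft :
        MvPolynomial (Fin n) R →ₐ[R] MvPolynomial (Fin n) R ⊗[R] p.ResidueField)).map
        e1.symm.toRingHom := (Ideal.map_comap_of_equiv e1.symm).symm
    rw [h4]
    have h5 : ∀ v : MvPolynomial (Fin n) R, e1.symm (v ⊗ₜ[R] (1 : p.ResidueField)) = ι p n v := by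
      intro v
      rw [← h3, RingEquiv.symm_apply_apply]
    apply le_antisymm
    · rw [Ideal.map_le_iff_le_comap, Ideal.map_le_iff_le_comap]
      intro v hv
      rw [Ideal.mem_comap, Ideal.mem_comap]
      have : e1.symm.toRingHom ((Algebra.TensorProduct.includeLeft :
          MvPolynomial (Fin n) R →ₐ[R] MvPolynomial (Fin n) R ⊗[R] p.ResidueField) v) =
          ι p n v := h5 v
      rw [this]
      exact Ideal.mem_map_of_mem _ hv
    · rw [Ideal.map_le_iff_le_comap]
      intro v hv
      rw [Ideal.mem_comap, ← h5 v]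
      exact Ideal.mem_map_of_mem e1.symm.toRingHom (Ideal.mem_map_of_mem
        (Algebra.TensorProduct.includeLeft :
          MvPolynomial (Fin n) R →ₐ[R] MvPolynomial (Fin n) R ⊗[R] p.ResidueField) hv)
  rw [h2] at h1
  exact h1

/-- the local rings of a quotient of `κ[x]` by a Koszul-regular ideal are complete intersections -/
theorem isCI_atPrime_of_kRegAt {κ : Type u} [Field κ] {T : Type u} [CommRing T] [Algebra κ T]
    (ψ : MvPolynomial (Fin n) κ →ₐ[κ] T) (hψ : Function.Surjective ψ)
    (𝔮 : Ideal T) [𝔮.IsPrime]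
    (hJ : KRegAt (RingHom.ker ψ.toRingHom) (𝔮.comap ψ.toRingHom)) :
    Pi1.IsCompleteIntersection (Localization.AtPrime 𝔮) := by
  have hft : Algebra.FiniteType κ T := Algebra.FiniteType.of_surjective ψ hψ
  have hJQ : RingHom.ker ψ.toRingHom ≤ 𝔮.comap ψ.toRingHom := by
    rw [RingHom.ker_eq_comap_bot]
    exact Ideal.comap_mono bot_le
  obtain ⟨g, hg, l, hgen, htors⟩ := hJ
  have hu : IsUnit (algebraMap (MvPolynomial (Fin n) κ)
      (Localization.AtPrime (𝔮.comap ψ.toRingHom)) g) :=
    IsLocalization.map_units (Localization.AtPrime (𝔮.comap ψ.toRingHom))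
      (⟨g, hg⟩ : (𝔮.comap ψ.toRingHom).primeCompl)
  have hK : LCI.IsKoszulRegularSeq (Localization.AtPrime (𝔮.comap ψ.toRingHom))
      (l.map (algebraMap (MvPolynomial (Fin n) κ)
        (Localization.AtPrime (𝔮.comap ψ.toRingHom)))) :=
    kreg_map_of_torsAt htors hu
  have hm : ∀ x ∈ l.map (algebraMap (MvPolynomial (Fin n) κ)
      (Localization.AtPrime (𝔮.comap ψ.toRingHom))),
      x ∈ IsLocalRing.maximalIdeal (Localization.AtPrime (𝔮.comap ψ.toRingHom)) := by
    intro x hx
    rw [List.mem_map] at hx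
    obtain ⟨y, hy, rfl⟩ := hx
    rw [IsLocalization.AtPrime.to_map_mem_maximal_iff
      (Localization.AtPrime (𝔮.comap ψ.toRingHom)) (𝔮.comap ψ.toRingHom)]
    obtain ⟨k, hk⟩ := hgen.2 y hy
    have h1 : g ^ k * y ∈ 𝔮.comap ψ.toRingHom := hJQ hk
    rcases Ideal.IsPrime.mem_or_mem inferInstance h1 with h2 | h2
    · exact absurd (Ideal.IsPrime.mem_of_pow_mem inferInstance k h2) hg
    · exact h2
  have hreg := isRegular_reverse_of_isKoszulRegularSeq
    (Localization.AtPrime (𝔮.comap ψ.toRingHom)) _ hm hK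
  have hof : Ideal.ofList (l.map (algebraMap (MvPolynomial (Fin n) κ)
      (Localization.AtPrime (𝔮.comap ψ.toRingHom)))).reverse =
      (RingHom.ker ψ.toRingHom).map (algebraMap (MvPolynomial (Fin n) κ)
        (Localization.AtPrime (𝔮.comap ψ.toRingHom))) := by
    rw [ofList_reverse, ← Ideal.map_ofList]
    exact (map_eq_of_genAt_of_isUnit hgen _ hu).symm
  exact isCI_of_isRegular ψ hψ 𝔮 _ hreg hof

/-- fibres of a flat local complete intersection presentation are local complete intersections -/
theorem isLCIOver_fiber (hI : LCI.IsKoszulRegularIdeal I)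
    (hflat : Module.Flat R (MvPolynomial (Fin n) R ⧸ I)) (p : Ideal R) [p.IsPrime] :
    Synt.IsLCIOver p.ResidueField (p.Fiber (MvPolynomial (Fin n) R ⧸ I)) := by
  have hJ := isKoszulRegularIdeal_map_ι I hI hflat p
  have hφ := φ_surjective p n I
  have hft : Algebra.FiniteType p.ResidueField (p.Fiber (MvPolynomial (Fin n) R ⧸ I)) :=
    Algebra.FiniteType.of_surjective (φ p n I) hφ
  refine Groth.Agent.Lib.T2H9.SyntMor.isLCIOver_of_forall_isCI p.ResidueField
    (p.Fiber (MvPolynomial (Fin n) R ⧸ I)) ?_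
  intro 𝔮 h𝔮
  have hJQ : I.map (ι p n) ≤ 𝔮.comap (φ p n I).toRingHom := by
    rw [← ker_φ p n I, RingHom.ker_eq_comap_bot]
    exact Ideal.comap_mono bot_le
  rw [isKoszulRegularIdeal_iff] at hJ
  refine isCI_atPrime_of_kRegAt (φ p n I) hφ 𝔮 ?_
  rw [ker_φ p n I]
  exact hJ _ inferInstance hJQ

end Fibre

section Main

open MvPolynomial

variable {C : Type u} [CommRing C]

/-- a Koszul-regular ideal is finitely generated -/
theorem fg_of_isKoszulRegularIdeal (I : Ideal C) (hI : LCI.IsKoszulRegularIdeal I) : I.FG := by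
  let t : Set C := {g | (I.map (algebraMap C (Localization.Away g))).FG}
  have ht : Ideal.span t = ⊤ := by
    by_contra hne
    obtain ⟨𝔪, h𝔪, hle⟩ := Ideal.exists_le_maximal _ hne
    have hp : 𝔪.IsPrime := h𝔪.isPrime
    by_cases hIm : I ≤ 𝔪
    · obtain ⟨g, hg, l, -, hl⟩ := hI ⟨𝔪, hp⟩ hIm
      apply hg
      apply hle
      apply Ideal.subset_span
      show (I.map (algebraMap C (Localization.Away g))).FG
      rw [hl]
      have hfin : {x | x ∈ l}.Finite := List.finite_toSet l
      exact ⟨hfin.toFinset, by rw [Set.Finite.coe_toFinset]⟩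
    · obtain ⟨g, hgI, hg⟩ := Set.not_subset.mp hIm
      apply hg
      apply hle
      apply Ideal.subset_span
      show (I.map (algebraMap C (Localization.Away g))).FG
      have htop : I.map (algebraMap C (Localization.Away g)) = ⊤ :=
        Ideal.eq_top_of_isUnit_mem _ (Ideal.mem_map_of_mem _ hgI)
          (IsLocalization.Away.algebraMap_isUnit g)
      rw [htop]
      exact ⟨{1}, by simp⟩
  exact Ideal.fg_of_localizationSpan t ht (fun g => g.2)

variable {R : Type u} [CommRing R]

/-- a flat local complete intersection quotient of a polynomial ring is syntomic -/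
theorem isSyntomic_quotient {n : ℕ} (I : Ideal (MvPolynomial (Fin n) R))
    (hI : LCI.IsKoszulRegularIdeal I) (hflat : Module.Flat R (MvPolynomial (Fin n) R ⧸ I)) :
    Synt.IsSyntomic R (MvPolynomial (Fin n) R ⧸ I) :=
  ⟨hflat, Algebra.FinitePresentation.quotient (fg_of_isKoszulRegularIdeal I hI),
    fun p => isLCIOver_fiber I hI hflat p.asIdeal⟩

/-- a flat local complete intersection ring map is syntomic -/
theorem isSyntomic_of_flat_of_isLCI (S : Type u) [CommRing S] [Algebra R S]
    (hflat : Module.Flat R S) (h : LCI.IsLCI R S) : Synt.IsSyntomic R S := by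
  obtain ⟨-, n, f, hf, hK⟩ := h
  have hflat' : Module.Flat R (MvPolynomial (Fin n) R ⧸ RingHom.ker f.toRingHom) :=
    Module.Flat.of_linearEquiv (Ideal.quotientKerAlgEquivOfSurjective hf).toLinearEquiv
  exact Groth.Agent.Lib.T2H9.SyntComp.isSyntomic_of_algEquiv R
    (MvPolynomial (Fin n) R ⧸ RingHom.ker f.toRingHom) S
    (Ideal.quotientKerAlgEquivOfSurjective hf) (isSyntomic_quotient _ hK hflat')

end Main

end Groth.Agent.Lib.T2H7.SyntH
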