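import Mathlib
import Groth.Prelude.Def_RegImm
import Groth.Prelude.Def_SheafNL
import Groth.Agent.Lib.T2H7NLc
import Groth.Agent.Lib.T2H7SyntH

/-!
# The naive cotangent complex of an lci algebra is perfect (T2 helper7)

* `finitePresentation_cotangent_of_isKoszulRegularIdeal`,
  `projective_cotangent_of_isKoszulRegularIdeal`: `I/I²` is finite projective for `I`
  Koszul-regular.
* `isPerfect_of_isLCI`.
-/

set_option autoImplicit false

universe u

open CategoryTheory CategoryTheory.Limits

attribute [local instance] HasDerivedCategory.standard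

namespace Groth.Agent.Lib.T2H7.NLg

open Groth.Agent.Lib.T2H7.KRegA Groth.Agent.Lib.T2H7.KRegB Groth.Agent.Lib.T2H7.KRegH
open Groth.Agent.Lib.T2H7.NLa

section Global

variable {C : Type u} [CommRing C] (I : Ideal C)

/-- the conormal module of a Koszul-regular ideal is finitely presented -/
theorem finitePresentation_cotangent_of_isKoszulRegularIdeal (hI : LCI.IsKoszulRegularIdeal I) :
    Module.FinitePresentation (C ⧸ I) I.Cotangent := by
  rw [isKoszulRegularIdeal_iff] at hI
  set S₀ : Set (C ⧸ I) := {b | Module.FinitePresentation (Localization.Away b)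
    (LocalizedModule.Away b I.Cotangent)} with hS₀
  have hspan : Ideal.span S₀ = ⊤ := by
    by_contra hne
    obtain ⟨𝔪, h𝔪, hle⟩ := Ideal.exists_le_maximal _ hne
    have hq'p : (𝔪.comap (Ideal.Quotient.mk I)).IsPrime := Ideal.comap_isPrime _ _
    have hIq' : I ≤ 𝔪.comap (Ideal.Quotient.mk I) := by
      intro x hx
      rw [Ideal.mem_comap, Ideal.Quotient.eq_zero_iff_mem.mpr hx]
      exact Ideal.zero_mem _
    obtain ⟨g, hg, r, l, hl, hgen, htors⟩ :=
      exists_fin_gens_of_kRegAt I _ (hI _ hq'p hIq')
    have hmem : Ideal.Quotient.mk I g ∈ S₀ := by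
      let e : (Fin r → Localization (Submonoid.powers (Ideal.Quotient.mk I g))) ≃ₗ[
          Localization (Submonoid.powers (Ideal.Quotient.mk I g))]
          LocalizedModule (Submonoid.powers (Ideal.Quotient.mk I g)) I.Cotangent :=
        LinearEquiv.ofBijective (theta I g l hl)
          ⟨theta_injective I g l hl hgen htors, theta_surjective I g l hl hgen⟩
      exact Module.FinitePresentation.of_equiv e
    exact hg (hle (Ideal.subset_span hmem))
  exact Module.FinitePresentation.of_localizationSpan S₀ hspan (fun r => r.2)

/-- the conormal module of a Koszul-regular ideal is projective -/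
theorem projective_cotangent_of_isKoszulRegularIdeal (hI : LCI.IsKoszulRegularIdeal I) :
    Module.Projective (C ⧸ I) I.Cotangent := by
  have h1 := finitePresentation_cotangent_of_isKoszulRegularIdeal I hI
  have h2 := flat_cotangent_of_isKoszulRegularIdeal I hI
  exact Module.Flat.projective_of_finitePresentation

end Global

section Ext

variable {R S : Type u} [CommRing R] [CommRing S] [Algebra R S] (P : Algebra.Extension.{u} R S)

open Groth.Agent.Lib.T2H7.NLb

/-- projectivity of the conormal module of an extension, from that of its kernel -/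
theorem projective_cotangent_of_ker (h : Module.Projective (P.Ring ⧸ P.ker) P.ker.Cotangent) :
    Module.Projective S P.Cotangent := by
  let φ : (P.Ring ⧸ P.ker) ≃+* S := quotKerEquiv P
  have i1 : RingHomInvPair (φ : (P.Ring ⧸ P.ker) →+* S) (φ.symm : S →+* (P.Ring ⧸ P.ker)) :=
    RingHomInvPair.of_ringEquiv φ
  have i2 : RingHomInvPair (φ.symm : S →+* (P.Ring ⧸ P.ker)) (φ : (P.Ring ⧸ P.ker) →+* S) :=
    RingHomInvPair.of_ringEquiv_symm φ
  let e : P.ker.Cotangent ≃ₛₗ[(φ : (P.Ring ⧸ P.ker) →+* S)] P.Cotangent :=
    { (cotAddEquiv P) with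
      map_smul' := fun r m => cotAddEquiv_smul P r m }
  exact Module.Projective.of_equiv e

end Ext

section Perfect

variable {A B : Type u} [CommRing A] [CommRing B] [Algebra A B]

open Groth.Agent.Lib.T2H7.NLc

/-- the naive cotangent complex of a local complete intersection algebra is perfect -/
theorem isPerfect_of_isLCI (hlci : LCI.IsLCI A B) : DRing.IsPerfect B (LCI.NL A B) := by
  obtain ⟨-, n, f, hf, hK⟩ := hlci
  have hfg : (gensOf f hf).toExtension.ker.FG := by
    rw [gensOf_ker]
    exact Groth.Agent.Lib.T2H7.SyntH.fg_of_isKoszulRegularIdeal _ hK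
  have hfin : Module.Finite B (gensOf f hf).toExtension.Cotangent :=
    Algebra.Extension.Cotangent.finite hfg
  have hproj : Module.Projective B (gensOf f hf).toExtension.Cotangent := by
    apply projective_cotangent_of_ker
    apply projective_cotangent_of_isKoszulRegularIdeal
    rw [gensOf_ker]
    exact hK
  refine ⟨NLCx.cx (gensOf f hf).toExtension, -1, 0, ?_, ?_, nonempty_toD_cx_iso (gensOf f hf)⟩
  · intro i hi
    exact HomologicalComplex.isZero_double_X _ _ i (by omega) (by omega)
  · intro i
    by_cases h1 : i = -1
    · subst h1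
      let e0 : ((NLCx.cx (gensOf f hf).toExtension).X (-1)) ≃ₗ[B]
          (gensOf f hf).toExtension.Cotangent :=
        (HomologicalComplex.doubleXIso₀
          (ModuleCat.ofHom (gensOf f hf).toExtension.cotangentComplex)
          (show (ComplexShape.up ℤ).Rel (-1) 0 by simp)).toLinearEquiv
      exact ⟨Module.Finite.equiv e0.symm, Module.Projective.of_equiv' e0.symm⟩
    · by_cases h0 : i = 0
      · subst h0
        let e1 : ((NLCx.cx (gensOf f hf).toExtension).X 0) ≃ₗ[B]
            (gensOf f hf).toExtension.CotangentSpace :=
          (HomologicalComplex.doubleXIso₁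
            (ModuleCat.ofHom (gensOf f hf).toExtension.cotangentComplex)
            (show (ComplexShape.up ℤ).Rel (-1) 0 by simp) (by decide)).toLinearEquiv
        have hfin0 : Module.Finite B (gensOf f hf).toExtension.CotangentSpace :=
          Module.Finite.of_basis (gensOf f hf).cotangentSpaceBasis
        exact ⟨Module.Finite.equiv e1.symm, Module.Projective.of_equiv' e1.symm⟩
      · have hz : IsZero ((NLCx.cx (gensOf f hf).toExtension).X i) :=
          HomologicalComplex.isZero_double_X _ _ i h1 h0
        have : Subsingleton ((NLCx.cx (gensOf f hf).toExtension).X i) :=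
          ModuleCat.subsingleton_of_isZero hz
        exact ⟨inferInstance, inferInstance⟩

end Perfect

end Groth.Agent.Lib.T2H7.NLg
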