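import Mathlib
import Groth.Prelude.Def_LCI2
import Groth.Prelude.Def_CotT
import Groth.Agent.Lib.Helper19CotTReg
import Groth.Agent.Lib.Helper19LciH1B
import Groth.Agent.Lib.T2H7NLg

/-!
# `T²` vanishes for local complete intersections (for S12310)

For a presentation whose kernel is a Koszul-regular ideal, the conormal module is projective and
`d₂ : L₂ → L₁` is injective (the kernel is locally generated by regular sequences, so all
relations are Koszul relations); hence `d₂` is split injective and `T² = 0`.
-/

set_option autoImplicit false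
set_option maxHeartbeats 400000
set_option linter.style.haveILetI false
set_option linter.unusedSectionVars false
set_option linter.unusedVariables false

universe u w

namespace Groth.Agent.Lib.LeadSm

open Groth.Agent.Lib.Helper19

section proj

variable {A B : Type u} [CommRing A] [CommRing B] [Algebra A B] {ι : Type w} {σ : Type u}
  (P : Algebra.Presentation A B ι σ)

/-- `T² = 0` when the conormal module is projective and `d₂` is injective. -/
theorem T2_subsingleton_of_projective (hproj : Module.Projective B P.toExtension.Cotangent)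
    (hinj : Function.Injective (CotT.d2 P)) (M : Type u) [AddCommGroup M] [Module B M] :
    Subsingleton (CotT.T2 P M) := by
  obtain ⟨s, hs⟩ := Module.projective_lifting_property (CotT.toCot P) LinearMap.id
    (CotTReg.toCot_surjective P)
  have htfae := ((CotTReg.exact_d2_toCot P).split_tfae'.out 0 1 rfl rfl).mp ⟨hinj, s, hs⟩
  obtain ⟨_, ρ, hρ⟩ := htfae
  have hz : ∀ x : CotT.T2 P M, x = 0 := by
    intro x
    obtain ⟨ψ, rfl⟩ := Submodule.Quotient.mk_surjective _ x
    rw [Submodule.Quotient.mk_eq_zero]
    refine ⟨ψ ∘ₗ ρ, ?_⟩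
    rw [CotT.d2Star_apply, LinearMap.comp_assoc, hρ, LinearMap.comp_id]
  exact ⟨fun a b => by rw [hz a, hz b]⟩

/-- the presentation with all elements of the kernel as relations. -/
noncomputable def presOfGen (G : Algebra.Generators A B ι) :
    Algebra.Presentation A B ι ↥G.ker where
  toGenerators := G
  relation := fun x => x.1
  span_range_relation_eq_ker := by
    have h : Set.range (fun x : ↥G.ker => (x.1 : G.Ring)) = (G.ker : Set G.Ring) :=
      Subtype.range_coe
    rw [h, Ideal.span_eq]

end proj

section lci

variable (k A₀ : Type u) [Field k] [CommRing A₀] [Algebra k A₀]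

theorem exists_presentation_T2_fin (n : ℕ) (f : MvPolynomial (Fin n) k →ₐ[k] A₀)
    (hf : Function.Surjective f) (hK : LCI.IsKoszulRegularIdeal (RingHom.ker f.toRingHom)) :
    ∃ (σ : Type u) (P : Algebra.Presentation k A₀ (Fin n) σ), Subsingleton (CotT.T2 P A₀) := by
  have hval : (MvPolynomial.aeval (R := k) (fun i : Fin n => f (MvPolynomial.X i))) = f := by
    refine MvPolynomial.algHom_ext fun i => ?_
    rw [MvPolynomial.aeval_X]
  let Pg : Algebra.Generators k A₀ (Fin n) :=
    Algebra.Generators.ofSurjective (fun i => f (MvPolynomial.X i)) (by rw [hval]; exact hf)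
  have halg : ∀ x : Pg.toExtension.Ring, algebraMap Pg.toExtension.Ring A₀ x = f x := by
    intro x
    have h1 : algebraMap Pg.toExtension.Ring A₀ x =
        MvPolynomial.aeval (R := k) (fun i : Fin n => f (MvPolynomial.X i)) x := rfl
    rw [h1, hval]
  have hker : Pg.toExtension.ker = RingHom.ker f.toRingHom := by
    ext x
    show algebraMap Pg.toExtension.Ring A₀ x = 0 ↔ f x = 0
    rw [halg]
  have hK' : LCI.IsKoszulRegularIdeal Pg.toExtension.ker := by rw [hker]; exact hK
  haveI : IsNoetherianRing Pg.toExtension.Ring :=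
    inferInstanceAs (IsNoetherianRing (MvPolynomial (Fin n) k))
  obtain ⟨P₁, hP₁⟩ : ∃ P₁ : Algebra.Presentation k A₀ (Fin n) ↥Pg.ker, P₁ = presOfGen Pg :=
    ⟨_, rfl⟩
  have hK'' : LCI.IsKoszulRegularIdeal P₁.toExtension.ker := by rw [hP₁]; exact hK'
  haveI : IsNoetherianRing P₁.toExtension.Ring :=
    inferInstanceAs (IsNoetherianRing (MvPolynomial (Fin n) k))
  have hproj : Module.Projective A₀ P₁.toExtension.Cotangent :=
    Groth.Agent.Lib.T2H7.NLg.projective_cotangent_of_ker P₁.toExtension
      (Groth.Agent.Lib.T2H7.NLg.projective_cotangent_of_isKoszulRegularIdeal _ hK'')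
  have hinj : Function.Injective (CotT.d2 P₁) := by
    refine CotTReg.d2_injective_of_local P₁ (fun p _ hp => ?_)
    obtain ⟨c, g, hreg, hspan⟩ := LciH1.exists_local_regular P₁.toExtension.ker hK'' p hp
    exact ⟨c, g, hreg, hspan⟩
  exact ⟨_, P₁, T2_subsingleton_of_projective P₁ hproj hinj A₀⟩

/-- **`T²(A₀/k, A₀) = 0` for a local complete intersection**, for a presentation with index types
in the universe of the rings. -/
theorem exists_presentation_T2 (hA : LCI.IsLCI k A₀) :
    ∃ (ι σ : Type u) (P : Algebra.Presentation k A₀ ι σ), Subsingleton (CotT.T2 P A₀) := by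
  obtain ⟨hft, n, f, hf, hK⟩ := hA
  obtain ⟨σ₁, P₁, hP₁⟩ := exists_presentation_T2_fin k A₀ n f hf hK
  have hval : (MvPolynomial.aeval (R := k) (fun i : Fin n => f (MvPolynomial.X i))) = f := by
    refine MvPolynomial.algHom_ext fun i => ?_
    rw [MvPolynomial.aeval_X]
  have hsurj : Function.Surjective (MvPolynomial.aeval (R := k)
      (fun i : ULift.{u} (Fin n) => f (MvPolynomial.X i.down))) := by
    intro b
    obtain ⟨x, rfl⟩ := hf b
    refine ⟨MvPolynomial.rename ULift.up x, ?_⟩
    rw [MvPolynomial.aeval_rename]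
    exact DFunLike.congr_fun hval x
  let G : Algebra.Generators k A₀ (ULift.{u} (Fin n)) :=
    Algebra.Generators.ofSurjective (fun i => f (MvPolynomial.X i.down)) hsurj
  obtain ⟨e⟩ := CotTReg.nonempty_T2_equiv_presentations' (presOfGen G) P₁ A₀
  exact ⟨_, _, presOfGen G, e.toEquiv.subsingleton_congr.mpr hP₁⟩

end lci

end Groth.Agent.Lib.LeadSm
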