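import Mathlib
import Groth.Prelude.Def_ArtFun3
import Groth.Prelude.Def_ArtFun4
import Groth.Prelude.Def_LCI2
import Groth.Agent.Lib.LeadSmC
import Groth.Agent.Lib.LeadSmD
import Groth.Agent.Lib.LeadObsH
import Groth.Agent.Lib.Helper19FormallySmooth

/-!
# The deformation functor of an lci affine scheme is smooth (S12310)
-/

set_option autoImplicit false
set_option maxHeartbeats 400000
set_option linter.style.haveILetI false
set_option linter.unusedSectionVars false
set_option linter.unusedVariables false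

universe u

namespace Groth.Agent.Lib.LeadSm

open AlgebraicGeometry CategoryTheory Limits ArtFun ArtFun.Art
open Groth.Agent.Lib.LeadHull Groth.Agent.Lib.Helper19 Groth.Agent.Lib.LeadObs

/-! ### small extensions in `Art Λ k` -/

section art

variable {Λ k : Type u} [CommRing Λ] [Field k] [Algebra Λ k] {C' C : Art Λ k} (p : C' ⟶ C)

theorem exists_smExt_of_small (hp : Art.IsSmallExt p) :
    ∃ t : C', SmExt (resR C') (resR C) p.toAlgHom.toRingHom t := by
  obtain ⟨hsurj, hne, hprin, hm⟩ := hp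
  haveI := hprin
  obtain ⟨t, ht⟩ : ∃ t : C', t = Submodule.IsPrincipal.generator (RingHom.ker p.toAlgHom) :=
    ⟨_, rfl⟩
  have htmem : t ∈ RingHom.ker p.toAlgHom := by
    rw [ht]
    exact Submodule.IsPrincipal.generator_mem _
  have hJ : ∀ a : C', resR C' a = 0 → a * t = 0 := by
    intro a ha
    have ha' : a ∈ IsLocalRing.maximalIdeal C' := (Art.mem_maximalIdeal_iff C' a).mpr ha
    have h := Ideal.mul_mem_mul ha' htmem
    rw [hm] at h
    exact h
  refine ⟨t, ⟨fun a => Art.res_app p a, hsurj, C'.res_surjective, fun a ha => ?_, htmem, hJ,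
    fun a ha => ?_, isNilpotent_ker_resR C, isNilpotent_ker_resR C'⟩⟩
  · have ha' : a ∈ RingHom.ker p.toAlgHom := ha
    obtain ⟨s, hs⟩ := (Submodule.IsPrincipal.mem_iff_eq_smul_generator _).mp ha'
    refine ⟨s, ?_⟩
    rw [hs, ht, smul_eq_mul, mul_comm]
  · by_contra hra
    have hnm : a ∉ IsLocalRing.maximalIdeal C' := fun h =>
      hra ((Art.mem_maximalIdeal_iff C' a).mp h)
    have hu : IsUnit a := IsLocalRing.notMem_maximalIdeal.mp hnm
    have ht0 : t = 0 := (hu.mul_right_eq_zero).mp ha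
    apply hne
    rw [← Submodule.IsPrincipal.span_singleton_generator (RingHom.ker p.toAlgHom), ← ht, ht0]
    exact Ideal.span_singleton_eq_bot.mpr rfl

end art

/-! ### the deformation functor of `Spec B₀` over `Λ` -/

section obs

variable {Λ k B₀ : Type u} [CommRing Λ] [Field k] [Algebra Λ k] [CommRing B₀] [Algebra k B₀]

/-- the deformation functor of `Spec B₀` on `Art Λ k`. -/
noncomputable abbrev defFL (Λ k B₀ : Type u) [CommRing Λ] [Field k] [Algebra Λ k] [CommRing B₀]
    [Algebra k B₀] : Art Λ k ⥤ Type (u + 1) :=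
  defFunctor (Λ := Λ) (Spec (CommRingCat.of B₀)) (xs k B₀)

variable {C' C : Art Λ k}

/-- the chosen representative of a class. -/
noncomputable def xiV (u : (defFL Λ k B₀).obj C) :
    DefSch (Spec (CommRingCat.of B₀)) (xs k B₀) C :=
  Quotient.out u

theorem xiV_cl (u : (defFL Λ k B₀).obj C) : (xiV u).cl = u := Quotient.out_eq u

/-- the chosen ring-level deformation of a class. -/
noncomputable def DV (u : (defFL Λ k B₀).obj C) : DefRing (resR C) (algebraMap k B₀) :=
  transferDef (thetaS B₀) (thetaS_kap (k := k) (B₀ := B₀)) (toDefRing (xiV u))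

/-- lifting a class is lifting its ring-level deformation. -/
theorem exists_lift_iff' (p : C' ⟶ C) (u : (defFL Λ k B₀).obj C) :
    (∃ u' : (defFL Λ k B₀).obj C', (defFL Λ k B₀).map p u' = u) ↔
      ∃ D' : DefRing (resR C') (algebraMap k B₀),
        Nonempty (DefRing.Hom p.toAlgHom.toRingHom D' (DV u)) := by
  constructor
  · rintro ⟨u', hu'⟩
    obtain ⟨ξ', rfl⟩ := Quotient.exists_rep u'
    have h1 : (ξ'.baseChange p).cl = (xiV u).cl := by
      rw [xiV_cl]
      exact hu'
    obtain ⟨e⟩ : Nonempty ((ξ'.baseChange p).Iso (xiV u)) := Quotient.exact h1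
    have hcomp : DefRing.Hom p.toAlgHom.toRingHom (toDefRing ξ') (toDefRing (xiV u)) :=
      (bcHom p ξ').compId (homOfIso e)
    unfold DV
    exact ⟨transferDef (thetaS B₀) (thetaS_kap (k := k) (B₀ := B₀)) (toDefRing ξ'),
      ⟨transferHom (thetaS B₀) (thetaS_kap (k := k) (B₀ := B₀)) hcomp⟩⟩
  · rintro ⟨D', ⟨h⟩⟩
    have h' := untransferHom (thetaS B₀) (thetaS_kap (k := k) (B₀ := B₀))
      (thetaS_symm_kap (k := k) (B₀ := B₀)) (D := toDefRing (xiV u))
      (show DefRing.Hom p.toAlgHom.toRingHom D'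
        (transferDef (thetaS B₀) (thetaS_kap (k := k) (B₀ := B₀)) (toDefRing (xiV u))) from h)
    obtain ⟨e1⟩ := nonempty_iso_baseChange_of_hom p _ (toDefRing (xiV u)) h'
    obtain ⟨e2⟩ := nonempty_iso_ofDefRing_toDefRing (xiV u)
    refine ⟨(ofDefRing (transferDef (thetaS B₀).symm
      (thetaS_symm_kap (k := k) (B₀ := B₀)) D')).cl, ?_⟩
    rw [← xiV_cl u]
    exact Quotient.sound ⟨e1.trans e2.symm⟩

/-- vanishing of `T²` in the form used for the correction of the lifts. -/
theorem extend_of_T2_subsingleton {S₀ B : Type u} [CommRing S₀] [CommRing B] [Algebra S₀ B]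
    {σ : Type u} {f : σ → S₀} (hf : ∀ s, algebraMap S₀ B (f s) = 0)
    (hT2 : Subsingleton (Kos.T2 S₀ B f hf B)) :
    ∀ G₂ : Kos.Q S₀ f →ₗ[S₀] B,
      (∀ q : Kos.Q S₀ f, (q : σ →₀ S₀) ∈ Kos.F0 S₀ f → G₂ q = 0) →
      ∃ G : (σ →₀ S₀) →ₗ[S₀] B, ∀ q : Kos.Q S₀ f, G (q : σ →₀ S₀) = G₂ q := by
  intro G₂ hG₂
  have h0 : (Submodule.Quotient.mk (Kos.lift2 (B := B) G₂ hG₂) : Kos.T2 S₀ B f hf B) = 0 :=
    Subsingleton.elim _ _
  rw [Submodule.Quotient.mk_eq_zero, Kos.mem_range_lcomp_d2_iff] at h0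
  obtain ⟨G, hG⟩ := h0
  exact ⟨G, fun q => by rw [hG, Kos.at2_lift2]⟩

variable {ι σ : Type u} (P : Algebra.Presentation k B₀ ι σ)

/-- **if `T²` vanishes, deformations of `Spec B₀` lift along small extensions of `Art Λ k`.** -/
theorem surjective_map_of_small (hT2 : Subsingleton (CotT.T2 P B₀)) (p : C' ⟶ C)
    (hp : Art.IsSmallExt p) : Function.Surjective ((defFL Λ k B₀).map p) := by
  intro u
  obtain ⟨t, X⟩ := exists_smExt_of_small p hp
  letI := algP P
  haveI := towerP P
  have hext := @extend_of_T2_subsingleton (MvPolynomial ι k) B₀ _ _ (algP P) σ (CotT.rel P)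
    (CotT.algebraMap_rel P) hT2
  exact (exists_lift_iff' p u).mpr (exists_lift_of_T2 X (presOf P) hext (DV u))

end obs

/-- **S12310: the deformation functor of an lci affine scheme is smooth.** -/
theorem main_S12310 (Λ k : Type u) [CommRing Λ] [IsNoetherianRing Λ] [Field k] [Algebra Λ k]
    (hk : Function.Surjective (algebraMap Λ k))
    (A₀ : Type u) [CommRing A₀] [Algebra k A₀] (hA : LCI.IsLCI k A₀) :
    ArtFun.IsSmoothFunctor (ArtFun.defFunctor (Λ := Λ) (Spec (CommRingCat.of A₀))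
      (Spec.map (CommRingCat.ofHom (algebraMap k A₀)))) := by
  haveI : Module.Finite Λ k := Module.Finite.of_surjective (Algebra.linearMap Λ k) hk
  obtain ⟨ι, σ, P, hT2⟩ := exists_presentation_T2 k A₀ hA
  exact isSmoothFunctor_of_smallExt _ (fun B A μ hμ => surjective_map_of_small P hT2 μ hμ)

end Groth.Agent.Lib.LeadSm
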