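import Mathlib
import Groth.Agent.Lib.Helper19FlatLiftFS

/-!
# Lifting automorphisms along a small extension (for S11280)

`A` local Artinian with residue field `k`, `t ∈ 𝔪` with `𝔪 t = 0`, `B` flat over `A` with
`B/𝔪B` formally smooth over `k`.  Then `B` is formally smooth over `A` (EGA 0_IV 19.7.1, helper19),
so every `A`-automorphism of `B/tB` lifts to an `A`-endomorphism of `B`, which is bijective by
flatness.
-/

set_option autoImplicit false
set_option maxHeartbeats 400000
set_option linter.style.haveILetI false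
set_option linter.unusedSectionVars false
set_option linter.unusedVariables false

universe u

open IsLocalRing

namespace Groth.Agent.Lib.LeadSmallExt

section bij

variable {A : Type u} [CommRing A] [IsLocalRing A] {B : Type u} [CommRing B] [Algebra A B]

/-- an `A`-algebra endomorphism of a flat `A`-algebra `B` lifting an automorphism of `B/tB`,
where `𝔪 t = 0`, is bijective. -/
theorem bijective_of_lifts [Module.Flat A B] (t : A) (ht : t ∈ maximalIdeal A)
    (htm : ∀ a ∈ maximalIdeal A, a * t = 0)
    (σ : (B ⧸ Ideal.span {algebraMap A B t}) ≃ₐ[A] (B ⧸ Ideal.span {algebraMap A B t}))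
    (g : B →ₐ[A] B)
    (hg : ∀ b, Ideal.Quotient.mk (Ideal.span {algebraMap A B t}) (g b) =
      σ (Ideal.Quotient.mk (Ideal.span {algebraMap A B t}) b)) :
    Function.Bijective g := by
  have htt : t * t = 0 := htm t ht
  have ht't' : algebraMap A B t * algebraMap A B t = 0 := by rw [← map_mul, htt, map_zero]
  have hgt : ∀ c, g (algebraMap A B t * c) = algebraMap A B t * g c := by
    intro c; rw [map_mul, AlgHom.commutes]
  have ht'm : algebraMap A B t ∈ (maximalIdeal A).map (algebraMap A B) :=
    Ideal.mem_map_of_mem _ ht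
  constructor
  · -- injective
    rw [injective_iff_map_eq_zero]
    intro b hb
    have h1 : Ideal.Quotient.mk (Ideal.span {algebraMap A B t}) b = 0 := by
      have h := hg b
      rw [hb, map_zero] at h
      exact (map_eq_zero_iff σ σ.injective).mp h.symm
    rw [Ideal.Quotient.eq_zero_iff_mem, Ideal.mem_span_singleton'] at h1
    obtain ⟨b', rfl⟩ := h1
    by_cases ht0 : t = 0
    · rw [ht0, map_zero, mul_zero]
    have hann : ∀ a : A, t * a = 0 → a ∈ maximalIdeal A := by
      intro a ha
      by_contra hna
      have hu : IsUnit a := by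
        rwa [mem_maximalIdeal, mem_nonunits_iff, not_not] at hna
      exact ht0 ((hu.mul_left_eq_zero).mp ha)
    have h2 : t • g b' = 0 := by
      rw [Algebra.smul_def, ← hgt, mul_comm]
      exact hb
    have h3 : g b' ∈ (maximalIdeal A).map (algebraMap A B) := by
      obtain ⟨κ, a, y, hy, ha⟩ := Module.Flat.isTrivialRelation_of_sum_smul_eq_zero (R := A)
        (M := B) (f := fun _ : Fin 1 => t) (x := fun _ : Fin 1 => g b') (by
          rw [Fin.sum_univ_one]; exact h2)
      have hy0 : g b' = ∑ j, a 0 j • y j := hy 0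
      rw [hy0]
      refine Ideal.sum_mem _ fun j _ => ?_
      rw [Algebra.smul_def]
      refine Ideal.mul_mem_right _ _ (Ideal.mem_map_of_mem _ (hann _ ?_))
      have := ha j
      rwa [Fin.sum_univ_one] at this
    -- `b' ∈ 𝔪B`
    have hmapσ : ∀ x ∈ (maximalIdeal A).map
        (algebraMap A (B ⧸ Ideal.span {algebraMap A B t})),
        σ.symm x ∈ (maximalIdeal A).map (algebraMap A (B ⧸ Ideal.span {algebraMap A B t})) := by
      intro x hx
      have h4 : ((maximalIdeal A).map (algebraMap A (B ⧸ Ideal.span {algebraMap A B t}))).map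
          (σ.symm : (B ⧸ Ideal.span {algebraMap A B t}) →+* (B ⧸ Ideal.span {algebraMap A B t})) =
          (maximalIdeal A).map (algebraMap A (B ⧸ Ideal.span {algebraMap A B t})) := by
        rw [Ideal.map_map]
        congr 1
        ext a
        exact σ.symm.commutes a
      rw [← h4]
      exact Ideal.mem_map_of_mem _ hx
    have h5 : Ideal.Quotient.mk (Ideal.span {algebraMap A B t}) (g b') ∈
        (maximalIdeal A).map (algebraMap A (B ⧸ Ideal.span {algebraMap A B t})) := by
      have h6 : (maximalIdeal A).map (algebraMap A (B ⧸ Ideal.span {algebraMap A B t})) =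
          ((maximalIdeal A).map (algebraMap A B)).map
            (Ideal.Quotient.mk (Ideal.span {algebraMap A B t})) := by
        rw [Ideal.map_map]
        rfl
      rw [h6]
      exact Ideal.mem_map_of_mem _ h3
    have h7 : Ideal.Quotient.mk (Ideal.span {algebraMap A B t}) b' ∈
        (maximalIdeal A).map (algebraMap A (B ⧸ Ideal.span {algebraMap A B t})) := by
      have := hmapσ _ h5
      rwa [hg, AlgEquiv.symm_apply_apply] at this
    have h8 : b' ∈ (maximalIdeal A).map (algebraMap A B) := by
      have h6 : (maximalIdeal A).map (algebraMap A (B ⧸ Ideal.span {algebraMap A B t})) =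
          ((maximalIdeal A).map (algebraMap A B)).map
            (Ideal.Quotient.mk (Ideal.span {algebraMap A B t})) := by
        rw [Ideal.map_map]
        rfl
      rw [h6, Ideal.mem_map_iff_of_surjective _ Ideal.Quotient.mk_surjective] at h7
      obtain ⟨y, hy, hyb⟩ := h7
      have h9 : b' - y ∈ Ideal.span {algebraMap A B t} := by
        rw [← Ideal.Quotient.eq_zero_iff_mem, map_sub, hyb, sub_self]
      have h10 : b' - y ∈ (maximalIdeal A).map (algebraMap A B) :=
        (Ideal.span_le.mpr (Set.singleton_subset_iff.mpr ht'm)) h9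
      have := add_mem h10 hy
      rwa [sub_add_cancel] at this
    -- `t' * 𝔪B = 0`
    have h11 : (maximalIdeal A).map (algebraMap A B) ≤
        (Ideal.span {algebraMap A B t}).annihilator := by
      rw [Ideal.map_le_iff_le_comap]
      intro a ha
      rw [Ideal.mem_comap, Submodule.mem_annihilator_span_singleton, smul_eq_mul, ← map_mul,
        htm a ha, map_zero]
    have h12 := h11 h8
    rw [Submodule.mem_annihilator_span_singleton, smul_eq_mul] at h12
    exact h12
  · -- surjective
    have key : ∀ b, ∃ b₁ c, b = g b₁ + algebraMap A B t * c := by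
      intro b
      obtain ⟨b₁, hb₁⟩ := Ideal.Quotient.mk_surjective
        (σ.symm (Ideal.Quotient.mk (Ideal.span {algebraMap A B t}) b))
      have h1 : Ideal.Quotient.mk (Ideal.span {algebraMap A B t}) (b - g b₁) = 0 := by
        rw [map_sub, hg, hb₁, AlgEquiv.apply_symm_apply, sub_self]
      rw [Ideal.Quotient.eq_zero_iff_mem, Ideal.mem_span_singleton'] at h1
      obtain ⟨c, hc⟩ := h1
      refine ⟨b₁, c, ?_⟩
      rw [mul_comm, hc]
      ring
    intro b
    obtain ⟨b₁, c, rfl⟩ := key b
    obtain ⟨c₁, c₂, rfl⟩ := key c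
    refine ⟨b₁ + algebraMap A B t * c₁, ?_⟩
    rw [map_add, hgt, mul_add, ← mul_assoc, ht't', zero_mul, add_zero]

end bij

section main

/-- **S11280.** -/
theorem main_S11280 {k : Type u} [Field k]
    {A : Type u} [CommRing A] [Algebra k A] [IsLocalRing A] [IsArtinianRing A]
    (hres : ∀ a : A, ∃ c : k, a - algebraMap k A c ∈ IsLocalRing.maximalIdeal A)
    (t : A) (ht : t ∈ IsLocalRing.maximalIdeal A)
    (htm : ∀ a ∈ IsLocalRing.maximalIdeal A, a * t = 0)
    {B : Type u} [CommRing B] [Algebra A B] [Module.Flat A B] [Algebra k B] [IsScalarTower k A B]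
    (hsm : Algebra.FormallySmooth k (B ⧸ (IsLocalRing.maximalIdeal A).map (algebraMap A B)))
    (σ : (B ⧸ Ideal.span {algebraMap A B t}) ≃ₐ[A] (B ⧸ Ideal.span {algebraMap A B t})) :
    ∃ τ : B ≃ₐ[A] B, ∀ b : B,
      Ideal.Quotient.mk (Ideal.span {algebraMap A B t}) (τ b) =
        σ (Ideal.Quotient.mk (Ideal.span {algebraMap A B t}) b) := by
  -- `B` is formally smooth over `A`
  have hnil : IsNilpotent (maximalIdeal A) := by
    have h := IsArtinianRing.isNilpotent_jacobson_bot (R := A)
    rwa [IsLocalRing.jacobson_eq_maximalIdeal ⊥ bot_ne_top] at h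
  haveI : IsScalarTower k (A ⧸ maximalIdeal A)
      (B ⧸ (maximalIdeal A).map (algebraMap A B)) := by
    refine IsScalarTower.of_algebraMap_eq fun c => ?_
    rw [IsScalarTower.algebraMap_apply k A (A ⧸ maximalIdeal A),
      IsScalarTower.algebraMap_apply k B (B ⧸ (maximalIdeal A).map (algebraMap A B)),
      IsScalarTower.algebraMap_apply k A B]
    rfl
  have hsurj : Function.Surjective (algebraMap k (A ⧸ maximalIdeal A)) := by
    intro x
    obtain ⟨a, rfl⟩ := Ideal.Quotient.mk_surjective x
    obtain ⟨c, hc⟩ := hres a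
    refine ⟨c, ?_⟩
    rw [IsScalarTower.algebraMap_apply k A (A ⧸ maximalIdeal A)]
    exact ((Ideal.Quotient.mk_eq_mk_iff_sub_mem _ _).mpr hc).symm
  haveI : Algebra.FormallyUnramified k (A ⧸ maximalIdeal A) :=
    Algebra.FormallyUnramified.of_surjective (Algebra.ofId k (A ⧸ maximalIdeal A)) hsurj
  haveI : Algebra.FormallySmooth (A ⧸ maximalIdeal A)
      (B ⧸ (maximalIdeal A).map (algebraMap A B)) :=
    Algebra.FormallySmooth.of_restrictScalars k _ _
  haveI hfs : Algebra.FormallySmooth A B :=
    Groth.Agent.Lib.Helper19.FlatLift.formallySmooth_of_flat_of_nilpotent (maximalIdeal A) hnil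
  -- lift
  have htt : t * t = 0 := htm t ht
  have hJ : (Ideal.span {algebraMap A B t}) ^ 2 = ⊥ := by
    rw [pow_two, Ideal.span_singleton_mul_span_singleton, ← map_mul, htt, map_zero]
    exact Ideal.span_singleton_eq_bot.mpr rfl
  obtain ⟨g, hg⟩ := Algebra.FormallySmooth.comp_surjective A B (Ideal.span {algebraMap A B t}) hJ
    ((σ : (B ⧸ Ideal.span {algebraMap A B t}) →ₐ[A] (B ⧸ Ideal.span {algebraMap A B t})).comp
      (Ideal.Quotient.mkₐ A (Ideal.span {algebraMap A B t})))
  have hg' : ∀ b, Ideal.Quotient.mk (Ideal.span {algebraMap A B t}) (g b) =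
      σ (Ideal.Quotient.mk (Ideal.span {algebraMap A B t}) b) := by
    intro b
    exact congrArg (fun h : B →ₐ[A] (B ⧸ Ideal.span {algebraMap A B t}) => h b) hg
  exact ⟨AlgEquiv.ofBijective g (bijective_of_lifts t ht htm σ g hg'), hg'⟩

end main

end Groth.Agent.Lib.LeadSmallExt
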