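import Mathlib
import Groth.Prelude.Def_SpSeq

/-!
# Convergence of the spectral sequence of a filtered complex from cohomological conditions

Elementwise (refinement) arguments on the subobjects `ZSub`, `BSub`, `ZTop`, `BBot` of the terms of
a filtered complex.
-/

universe v u

open CategoryTheory CategoryTheory.Limits

namespace Groth.Agent.Lib.LeadSpSeq

open SpSeq SpSeq.FilCx

section toolkit

variable {A : Type u} [Category.{v} A] [Abelian A]

lemma factors_of_comp_cokernel_eq_zero {W T : A} (S : Subobject W) (t : T ⟶ W)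
    (h : t ≫ cokernel.π S.arrow = 0) : S.Factors t := by
  have h2 := Subobject.factors_comp_arrow (P := S) (Abelian.monoLift S.arrow t h)
  rwa [Abelian.monoLift_comp] at h2

lemma comp_cokernel_eq_zero_of_factors {W T : A} (S : Subobject W) (t : T ⟶ W)
    (h : S.Factors t) : t ≫ cokernel.π S.arrow = 0 := by
  rw [← Subobject.factorThru_arrow _ _ h, Category.assoc, cokernel.condition, comp_zero]

lemma factors_of_epi_comp {W T T' : A} (S : Subobject W) (π : T' ⟶ T) [Epi π] (t : T ⟶ W)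
    (h : S.Factors (π ≫ t)) : S.Factors t := by
  apply factors_of_comp_cokernel_eq_zero
  have h1 := comp_cokernel_eq_zero_of_factors S _ h
  rw [Category.assoc] at h1
  exact (cancel_epi π).1 (by rw [h1, comp_zero])

lemma le_of_factors_arrow {W : A} {S S' : Subobject W} (h : S'.Factors S.arrow) : S ≤ S' :=
  Subobject.le_of_comm (S'.factorThru S.arrow h) (Subobject.factorThru_arrow _ _ _)

lemma factors_arrow_of_le {W : A} {Z B : Subobject W} (h : Z ≤ B) : B.Factors Z.arrow := by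
  rw [← Subobject.ofLE_arrow h]
  exact Subobject.factors_comp_arrow _

lemma exists_refinement_of_factors_image {X Y T : A} (f : X ⟶ Y) (t : T ⟶ Y)
    (h : (imageSubobject f).Factors t) :
    ∃ (T' : A) (π : T' ⟶ T) (_ : Epi π) (u : T' ⟶ X), π ≫ t = u ≫ f := by
  obtain ⟨T', π, hπ, u, hu⟩ := surjective_up_to_refinements_of_epi (factorThruImageSubobject f)
    ((imageSubobject f).factorThru t h)
  refine ⟨T', π, hπ, u, ?_⟩
  calc π ≫ t = π ≫ ((imageSubobject f).factorThru t h ≫ (imageSubobject f).arrow) := by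
        rw [Subobject.factorThru_arrow]
    _ = (π ≫ (imageSubobject f).factorThru t h) ≫ (imageSubobject f).arrow :=
        (Category.assoc _ _ _).symm
    _ = (u ≫ factorThruImageSubobject f) ≫ (imageSubobject f).arrow := by rw [hu]
    _ = u ≫ f := by rw [Category.assoc, imageSubobject_arrow_comp]

lemma arrow_eq_zero_of_eq_bot {W : A} {S : Subobject W} (h : S = ⊥) : S.arrow = 0 := by
  subst h
  exact Subobject.bot_arrow

lemma imageSubobject_eq_top_of_epi {X Y : A} (f : X ⟶ Y) [Epi f] : imageSubobject f = ⊤ := by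
  have h1 : factorThruImageSubobject f ≫ (imageSubobject f).arrow = f :=
    imageSubobject_arrow_comp f
  have : Epi (factorThruImageSubobject f ≫ (imageSubobject f).arrow) := by
    rw [h1]; infer_instance
  have : Epi (imageSubobject f).arrow := epi_of_epi (factorThruImageSubobject f) _
  have : IsIso (imageSubobject f).arrow := isIso_of_mono_of_epi _
  exact (Subobject.isIso_arrow_iff_eq_top _).1 inferInstance

lemma imageSubobject_eq_bot_of_eq_zero {X Y : A} {f : X ⟶ Y} (h : f = 0) :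
    imageSubobject f = ⊥ := by
  subst h
  exact imageSubobject_zero

lemma isZero_subquot_of_le {W : A} (Z B : Subobject W) (h : B ≤ Z) (h' : Z ≤ B) :
    IsZero (SpSeq.subquot Z B h) := by
  have h1 : Subobject.ofLE Z B h' ≫ Subobject.ofLE B Z h = 𝟙 _ := by
    rw [Subobject.ofLE_comp_ofLE, Subobject.ofLE_refl]
  have : Epi (Subobject.ofLE Z B h' ≫ Subobject.ofLE B Z h) := by
    rw [h1]; infer_instance
  have : Epi (Subobject.ofLE B Z h) := epi_of_epi (Subobject.ofLE Z B h') _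
  exact isZero_cokernel_of_epi _

lemma exists_lift_of_isZero_homology (L : CochainComplex A ℤ) (i j k : ℤ) (hi : i + 1 = j)
    (hk : j + 1 = k) (h : IsZero (L.homology j)) {T : A} (x : T ⟶ L.X j)
    (hx : x ≫ L.d j k = 0) :
    ∃ (T' : A) (π : T' ⟶ T) (_ : Epi π) (y : T' ⟶ L.X i), π ≫ x = y ≫ L.d i j := by
  have hex : L.ExactAt j := (L.exactAt_iff_isZero_homology j).2 h
  exact (L.exactAt_iff_exact_up_to_refinements i j k (by subst hi; simp)
    (by subst hk; simp)).1 hex x hx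

lemma mono_refine {L M : CochainComplex A ℤ} (φ : L ⟶ M) (i j k : ℤ) (hi : i + 1 = j)
    (hk : j + 1 = k) [Mono (HomologicalComplex.homologyMap φ j)]
    {T : A} (x₂ : T ⟶ L.X j) (hx₂ : x₂ ≫ L.d j k = 0) (y₁ : T ⟶ M.X i)
    (h : x₂ ≫ φ.f j = y₁ ≫ M.d i j) :
    ∃ (T' : A) (π : T' ⟶ T) (_ : Epi π) (x₁ : T' ⟶ L.X i), π ≫ x₂ = x₁ ≫ L.d i j :=
  (HomologicalComplex.mono_homologyMap_iff_up_to_refinements φ i j k (by subst hi; simp)
    (by subst hk; simp)).1 inferInstance x₂ hx₂ y₁ h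

lemma epi_refine {L M : CochainComplex A ℤ} (φ : L ⟶ M) (i j k : ℤ) (hi : i + 1 = j)
    (hk : j + 1 = k) [Epi (HomologicalComplex.homologyMap φ j)]
    {T : A} (y₂ : T ⟶ M.X j) (hy₂ : y₂ ≫ M.d j k = 0) :
    ∃ (T' : A) (π : T' ⟶ T) (_ : Epi π) (x₂ : T' ⟶ L.X j) (_ : x₂ ≫ L.d j k = 0)
      (y₁ : T' ⟶ M.X i), π ≫ y₂ = x₂ ≫ φ.f j + y₁ ≫ M.d i j :=
  (HomologicalComplex.epi_homologyMap_iff_up_to_refinements φ i j k (by subst hi; simp)
    (by subst hk; simp)).1 inferInstance y₂ hy₂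

end toolkit

section fil

variable {A : Type u} [Category.{v} A] [Abelian A] (K : FilCx A)

/-- inclusion of the `p`-th step of the filtration -/
noncomputable abbrev inc (p : ℤ) : K.step p ⟶ K.obj := (K.fil p).arrow

lemma inc_comm (p i j : ℤ) :
    (inc K p).f i ≫ K.obj.d i j = (K.step p).d i j ≫ (inc K p).f j := (inc K p).comm i j

lemma stepLE_inc {p q : ℤ} (h : p ≤ q) (n : ℤ) :
    (K.stepLE h).f n ≫ (inc K p).f n = (inc K q).f n := by
  have h1 : K.stepLE h ≫ inc K p = inc K q := Subobject.ofLE_arrow _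
  rw [← HomologicalComplex.comp_f, h1]

lemma mem_filX_iff {T : A} (p n : ℤ) (t : T ⟶ K.obj.X n) :
    (K.filX p n).Factors t ↔ ∃ x : T ⟶ (K.step p).X n, x ≫ (inc K p).f n = t := by
  show (Subobject.mk ((K.fil p).arrow.f n)).Factors t ↔
    ∃ x : T ⟶ (K.step p).X n, x ≫ (K.fil p).arrow.f n = t
  constructor
  · intro h
    refine ⟨(Subobject.mk ((K.fil p).arrow.f n)).factorThru t h ≫
      (Subobject.underlyingIso ((K.fil p).arrow.f n)).hom, ?_⟩
    rw [Category.assoc, Subobject.underlyingIso_hom_comp_eq_mk]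
    exact Subobject.factorThru_arrow _ _ _
  · rintro ⟨x, rfl⟩
    have h1 : x ≫ (K.fil p).arrow.f n =
        (x ≫ (Subobject.underlyingIso ((K.fil p).arrow.f n)).inv) ≫
          (Subobject.mk ((K.fil p).arrow.f n)).arrow := by
      rw [Category.assoc, Subobject.underlyingIso_arrow]
    rw [h1]
    exact Subobject.factors_comp_arrow _

lemma mem_filX_of_eq {T : A} (p n : ℤ) (x : T ⟶ (K.step p).X n) :
    (K.filX p n).Factors (x ≫ (inc K p).f n) := (mem_filX_iff K p n _).2 ⟨x, rfl⟩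

lemma mem_filX_of_le {T : A} {p q : ℤ} (h : p ≤ q) (n : ℤ) (x : T ⟶ (K.step q).X n) :
    (K.filX p n).Factors (x ≫ (inc K q).f n) :=
  Subobject.factors_of_le _ (K.filX_anti n h) (mem_filX_of_eq K q n x)

lemma mem_image_filX {T Y : A} (q m : ℤ) (g : K.obj.X m ⟶ Y) (u : T ⟶ (K.step q).X m) :
    (imageSubobject ((K.filX q m).arrow ≫ g)).Factors (u ≫ ((inc K q).f m ≫ g)) := by
  show (imageSubobject ((Subobject.mk ((K.fil q).arrow.f m)).arrow ≫ g)).Factors
    (u ≫ ((K.fil q).arrow.f m ≫ g))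
  have h1 : u ≫ ((K.fil q).arrow.f m ≫ g) =
      (u ≫ (Subobject.underlyingIso ((K.fil q).arrow.f m)).inv) ≫
        ((Subobject.mk ((K.fil q).arrow.f m)).arrow ≫ g) := by
    rw [Category.assoc, Subobject.underlyingIso_arrow_assoc]
  rw [h1]
  exact imageSubobject_factors_comp_self _ _

lemma cocycle_of_inc {T : A} (p m k : ℤ) (w : T ⟶ (K.step p).X m)
    (h : (w ≫ (inc K p).f m) ≫ K.obj.d m k = 0) : w ≫ (K.step p).d m k = 0 := by
  rw [← cancel_mono ((inc K p).f k), zero_comp, Category.assoc, ← inc_comm, ← Category.assoc]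
  exact h

/-- decomposition of an element from vanishing of cohomology -/
lemma elem1 (p q n : ℤ) (hpq : p ≤ q) (hn : IsZero ((K.step p).homology n))
    (hn1 : IsZero ((K.step q).homology (n + 1)))
    {T : A} (x : T ⟶ (K.step p).X n) (w : T ⟶ (K.step q).X (n + 1))
    (hxw : (x ≫ (inc K p).f n) ≫ K.obj.d n (n + 1) = w ≫ (inc K q).f (n + 1)) :
    ∃ (T' : A) (π : T' ⟶ T) (_ : Epi π) (z : T' ⟶ (K.step p).X (n - 1))
      (y : T' ⟶ (K.step q).X n),
      π ≫ (x ≫ (inc K p).f n) =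
        z ≫ ((inc K p).f (n - 1) ≫ K.obj.d (n - 1) n) + y ≫ (inc K q).f n := by
  have hw : w ≫ (K.step q).d (n + 1) (n + 1 + 1) = 0 := by
    apply cocycle_of_inc
    rw [← hxw, Category.assoc, K.obj.d_comp_d, comp_zero]
  obtain ⟨T₁, π₁, hπ₁, y, hy⟩ :=
    exists_lift_of_isZero_homology (K.step q) n (n + 1) (n + 1 + 1) rfl rfl hn1 w hw
  have hx'K : (π₁ ≫ x - y ≫ (K.stepLE hpq).f n) ≫ (inc K p).f n =
      π₁ ≫ (x ≫ (inc K p).f n) - y ≫ (inc K q).f n := by
    rw [Preadditive.sub_comp, Category.assoc, Category.assoc, stepLE_inc]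
  have hA : (π₁ ≫ (x ≫ (inc K p).f n)) ≫ K.obj.d n (n + 1) =
      π₁ ≫ w ≫ (inc K q).f (n + 1) := by rw [Category.assoc, hxw]
  have hB : (y ≫ (inc K q).f n) ≫ K.obj.d n (n + 1) = π₁ ≫ w ≫ (inc K q).f (n + 1) := by
    rw [Category.assoc, inc_comm, ← Category.assoc, ← hy, Category.assoc]
  have hx' : (π₁ ≫ x - y ≫ (K.stepLE hpq).f n) ≫ (K.step p).d n (n + 1) = 0 := by
    apply cocycle_of_inc
    rw [hx'K, Preadditive.sub_comp, hA, hB, sub_self]
  obtain ⟨T₂, π₂, hπ₂, z, hz⟩ :=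
    exists_lift_of_isZero_homology (K.step p) (n - 1) n (n + 1) (by omega) rfl hn _ hx'
  refine ⟨T₂, π₂ ≫ π₁, epi_comp _ _, z, π₂ ≫ y, ?_⟩
  have h1 : π₂ ≫ ((π₁ ≫ x - y ≫ (K.stepLE hpq).f n) ≫ (inc K p).f n) =
      z ≫ ((inc K p).f (n - 1) ≫ K.obj.d (n - 1) n) := by
    rw [← Category.assoc, hz, Category.assoc, ← inc_comm]
  rw [hx'K, Preadditive.comp_sub] at h1
  simpa only [Category.assoc] using sub_eq_iff_eq_add.1 h1

/-- decomposition of an element from isomorphisms on cohomology -/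
lemma elem2 (p q n : ℤ) (hpq : p ≤ q)
    [Mono (HomologicalComplex.homologyMap (inc K q) (n + 1))]
    [Epi (HomologicalComplex.homologyMap (inc K q) n)]
    [Mono (HomologicalComplex.homologyMap (inc K p) n)]
    {T : A} (x : T ⟶ (K.step p).X n) (w : T ⟶ (K.step q).X (n + 1))
    (hxw : (x ≫ (inc K p).f n) ≫ K.obj.d n (n + 1) = w ≫ (inc K q).f (n + 1)) :
    ∃ (T' : A) (π : T' ⟶ T) (_ : Epi π) (z : T' ⟶ (K.step p).X (n - 1))
      (y : T' ⟶ (K.step q).X n),
      π ≫ (x ≫ (inc K p).f n) =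
        z ≫ ((inc K p).f (n - 1) ≫ K.obj.d (n - 1) n) + y ≫ (inc K q).f n := by
  have hw : w ≫ (K.step q).d (n + 1) (n + 1 + 1) = 0 := by
    apply cocycle_of_inc
    rw [← hxw, Category.assoc, K.obj.d_comp_d, comp_zero]
  obtain ⟨T₁, π₁, hπ₁, y, hy⟩ :=
    mono_refine (inc K q) n (n + 1) (n + 1 + 1) rfl rfl w hw (x ≫ (inc K p).f n) hxw.symm
  have hx'K : (π₁ ≫ x - y ≫ (K.stepLE hpq).f n) ≫ (inc K p).f n =
      π₁ ≫ (x ≫ (inc K p).f n) - y ≫ (inc K q).f n := by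
    rw [Preadditive.sub_comp, Category.assoc, Category.assoc, stepLE_inc]
  have hA : (π₁ ≫ (x ≫ (inc K p).f n)) ≫ K.obj.d n (n + 1) =
      π₁ ≫ w ≫ (inc K q).f (n + 1) := by rw [Category.assoc, hxw]
  have hB : (y ≫ (inc K q).f n) ≫ K.obj.d n (n + 1) = π₁ ≫ w ≫ (inc K q).f (n + 1) := by
    rw [Category.assoc, inc_comm, ← Category.assoc, ← hy, Category.assoc]
  have hx'd : ((π₁ ≫ x - y ≫ (K.stepLE hpq).f n) ≫ (inc K p).f n) ≫ K.obj.d n (n + 1) = 0 := by
    rw [hx'K, Preadditive.sub_comp, hA, hB, sub_self]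
  have hx' : (π₁ ≫ x - y ≫ (K.stepLE hpq).f n) ≫ (K.step p).d n (n + 1) = 0 :=
    cocycle_of_inc K p n (n + 1) _ hx'd
  -- surjectivity on cohomology in degree `n`
  obtain ⟨T₂, π₂, hπ₂, c, hc, u, hu⟩ :=
    epi_refine (inc K q) (n - 1) n (n + 1) (by omega) rfl
      ((π₁ ≫ x - y ≫ (K.stepLE hpq).f n) ≫ (inc K p).f n) hx'd
  -- `x'' := π₂ ≫ x' - c ≫ j`
  have hx''K : (π₂ ≫ (π₁ ≫ x - y ≫ (K.stepLE hpq).f n) - c ≫ (K.stepLE hpq).f n) ≫
      (inc K p).f n = u ≫ K.obj.d (n - 1) n := by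
    rw [Preadditive.sub_comp, Category.assoc, Category.assoc, stepLE_inc, hu, add_sub_cancel_left]
  have hx''d : (π₂ ≫ (π₁ ≫ x - y ≫ (K.stepLE hpq).f n) - c ≫ (K.stepLE hpq).f n) ≫
      (K.step p).d n (n + 1) = 0 := by
    apply cocycle_of_inc
    rw [hx''K, Category.assoc, K.obj.d_comp_d, comp_zero]
  obtain ⟨T₃, π₃, hπ₃, z, hz⟩ :=
    mono_refine (inc K p) (n - 1) n (n + 1) (by omega) rfl _ hx''d u hx''K
  refine ⟨T₃, π₃ ≫ π₂ ≫ π₁, epi_comp _ _, z, π₃ ≫ c + π₃ ≫ π₂ ≫ y, ?_⟩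
  have h1 : π₃ ≫ ((π₂ ≫ (π₁ ≫ x - y ≫ (K.stepLE hpq).f n) - c ≫ (K.stepLE hpq).f n) ≫
      (inc K p).f n) = z ≫ ((inc K p).f (n - 1) ≫ K.obj.d (n - 1) n) := by
    rw [← Category.assoc, hz, Category.assoc, ← inc_comm]
  have h2 : (π₂ ≫ (π₁ ≫ x - y ≫ (K.stepLE hpq).f n) - c ≫ (K.stepLE hpq).f n) ≫
      (inc K p).f n = π₂ ≫ (π₁ ≫ (x ≫ (inc K p).f n) - y ≫ (inc K q).f n) -
        c ≫ (inc K q).f n := by
    rw [Preadditive.sub_comp, Category.assoc, Category.assoc, stepLE_inc, hx'K]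
  rw [h2] at h1
  simp only [Preadditive.comp_sub, Preadditive.add_comp, Category.assoc] at h1 ⊢
  rw [← h1]
  abel

lemma ZTop_le_ZSub (r : ℕ) (p n : ℤ) : K.ZTop p n ≤ K.ZSub r p n :=
  sup_le_sup_right (inf_le_inf_left _ (kernelSubobject_le_pullback _ _)) _

lemma BSub_le_BBot (r : ℕ) (p n : ℤ) : K.BSub r p n ≤ K.BBot p n :=
  sup_le_sup_right (inf_le_inf_left _ (imageSubobject_comp_le _ _)) _

lemma mem_BSub_of_decomp (r : ℕ) (p n q q' : ℤ) (hq : p - (r : ℤ) + 1 ≤ q) (hq' : p + 1 ≤ q')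
    {T : A} (t : T ⟶ K.obj.X n) (ht : (K.filX p n).Factors t)
    (z : T ⟶ (K.step q).X (n - 1)) (y : T ⟶ (K.step q').X n)
    (h : t = z ≫ ((inc K q).f (n - 1) ≫ K.obj.d (n - 1) n) + y ≫ (inc K q').f n) :
    (K.BSub r p n).Factors t := by
  have hy1 : (K.filX (p + 1) n).Factors (y ≫ (inc K q').f n) := mem_filX_of_le K hq' n y
  have hy2 : (K.filX p n).Factors (y ≫ (inc K q').f n) :=
    mem_filX_of_le K (by omega) n y
  have hz1 : (K.filX p n).Factors (z ≫ ((inc K q).f (n - 1) ≫ K.obj.d (n - 1) n)) := by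
    have h3 : z ≫ ((inc K q).f (n - 1) ≫ K.obj.d (n - 1) n) = t - y ≫ (inc K q').f n := by
      rw [h, add_sub_cancel_right]
    rw [h3, sub_eq_add_neg, ← Preadditive.neg_comp]
    exact Subobject.factors_add _ _ ht (mem_filX_of_le K (by omega) n (-y))
  have hz2 : (imageSubobject ((K.filX (p - (r : ℤ) + 1) (n - 1)).arrow ≫ K.obj.d (n - 1) n)).Factors
      (z ≫ ((inc K q).f (n - 1) ≫ K.obj.d (n - 1) n)) := by
    have h4 : z ≫ ((inc K q).f (n - 1) ≫ K.obj.d (n - 1) n) =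
        (z ≫ (K.stepLE hq).f (n - 1)) ≫
          ((inc K (p - (r : ℤ) + 1)).f (n - 1) ≫ K.obj.d (n - 1) n) := by
      rw [Category.assoc, ← Category.assoc ((K.stepLE hq).f (n - 1)), stepLE_inc]
    rw [h4]
    exact mem_image_filX K _ _ _ _
  rw [h]
  unfold FilCx.BSub
  apply Subobject.factors_add
  · exact Subobject.factors_of_le _ le_sup_left ((Subobject.inf_factors _).2 ⟨hz1, hz2⟩)
  · exact Subobject.factors_of_le _ le_sup_right hy1

lemma ZSub_le_BSub_of_decomp (r : ℕ) (hr : 1 ≤ r) (p n : ℤ)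
    (H : ∀ {T : A} (x : T ⟶ (K.step p).X n) (w : T ⟶ (K.step (p + (r : ℤ))).X (n + 1)),
      (x ≫ (inc K p).f n) ≫ K.obj.d n (n + 1) = w ≫ (inc K (p + (r : ℤ))).f (n + 1) →
      ∃ (T' : A) (π : T' ⟶ T) (_ : Epi π) (z : T' ⟶ (K.step p).X (n - 1))
        (y : T' ⟶ (K.step (p + (r : ℤ))).X n),
        π ≫ (x ≫ (inc K p).f n) =
          z ≫ ((inc K p).f (n - 1) ≫ K.obj.d (n - 1) n) + y ≫ (inc K (p + (r : ℤ))).f n) :
    K.ZSub r p n ≤ K.BSub r p n := by
  unfold FilCx.ZSub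
  refine sup_le (le_of_factors_arrow ?_) (by unfold FilCx.BSub; exact le_sup_right)
  have ht1 : (K.filX p n).Factors (K.filX p n ⊓ (Subobject.pullback (K.obj.d n (n + 1))).obj
      (K.filX (p + (r : ℤ)) (n + 1))).arrow := factors_arrow_of_le inf_le_left
  have ht2 : (K.filX (p + (r : ℤ)) (n + 1)).Factors ((K.filX p n ⊓
      (Subobject.pullback (K.obj.d n (n + 1))).obj (K.filX (p + (r : ℤ)) (n + 1))).arrow ≫
        K.obj.d n (n + 1)) :=
    (pullback_factors_iff _ _ _).1 (factors_arrow_of_le inf_le_right)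
  obtain ⟨x, hx⟩ := (mem_filX_iff K p n _).1 ht1
  obtain ⟨w, hw⟩ := (mem_filX_iff K _ _ _).1 ht2
  rw [← hx] at hw ⊢
  obtain ⟨T', π, hπ, z, y, hdec⟩ := H x w hw.symm
  apply factors_of_epi_comp _ π
  exact mem_BSub_of_decomp K r p n p (p + (r : ℤ)) (by omega) (by omega) _
    (Subobject.factors_of_factors_right π (mem_filX_of_eq K p n x)) z y hdec

lemma ZSub_le_ZTop (r : ℕ) (hr : 1 ≤ r) (p n : ℤ)
    (hz : IsZero ((K.step (p + (r : ℤ))).homology (n + 1))) : K.ZSub r p n ≤ K.ZTop p n := by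
  unfold FilCx.ZSub
  refine sup_le (le_of_factors_arrow ?_) (by unfold FilCx.ZTop; exact le_sup_right)
  have ht1 : (K.filX p n).Factors (K.filX p n ⊓ (Subobject.pullback (K.obj.d n (n + 1))).obj
      (K.filX (p + (r : ℤ)) (n + 1))).arrow := factors_arrow_of_le inf_le_left
  have ht2 : (K.filX (p + (r : ℤ)) (n + 1)).Factors ((K.filX p n ⊓
      (Subobject.pullback (K.obj.d n (n + 1))).obj (K.filX (p + (r : ℤ)) (n + 1))).arrow ≫
        K.obj.d n (n + 1)) :=
    (pullback_factors_iff _ _ _).1 (factors_arrow_of_le inf_le_right)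
  obtain ⟨x, hx⟩ := (mem_filX_iff K p n _).1 ht1
  obtain ⟨w, hw⟩ := (mem_filX_iff K _ _ _).1 ht2
  rw [← hx] at hw ⊢
  have hwc : w ≫ (K.step (p + (r : ℤ))).d (n + 1) (n + 1 + 1) = 0 := by
    apply cocycle_of_inc
    rw [hw, Category.assoc, K.obj.d_comp_d, comp_zero]
  obtain ⟨T₁, π₁, hπ₁, y, hy⟩ :=
    exists_lift_of_isZero_homology _ n (n + 1) (n + 1 + 1) rfl rfl hz w hwc
  apply factors_of_epi_comp _ π₁
  have hdecomp : π₁ ≫ (x ≫ (inc K p).f n) =
      (π₁ ≫ (x ≫ (inc K p).f n) - y ≫ (inc K (p + (r : ℤ))).f n) +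
        y ≫ (inc K (p + (r : ℤ))).f n := by abel
  rw [hdecomp]
  unfold FilCx.ZTop
  apply Subobject.factors_add
  · apply Subobject.factors_of_le _ le_sup_left
    rw [Subobject.inf_factors]
    constructor
    · have hpq : p ≤ p + (r : ℤ) := by omega
      have h5 : π₁ ≫ (x ≫ (inc K p).f n) - y ≫ (inc K (p + (r : ℤ))).f n =
          (π₁ ≫ x - y ≫ (K.stepLE hpq).f n) ≫ (inc K p).f n := by
        rw [Preadditive.sub_comp, Category.assoc, Category.assoc, stepLE_inc]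
      rw [h5]
      exact mem_filX_of_eq K p n _
    · apply kernelSubobject_factors
      have hA : (π₁ ≫ (x ≫ (inc K p).f n)) ≫ K.obj.d n (n + 1) =
          π₁ ≫ w ≫ (inc K (p + (r : ℤ))).f (n + 1) := by rw [Category.assoc, hw]
      have hB : (y ≫ (inc K (p + (r : ℤ))).f n) ≫ K.obj.d n (n + 1) =
          π₁ ≫ w ≫ (inc K (p + (r : ℤ))).f (n + 1) := by
        rw [Category.assoc, inc_comm, ← Category.assoc, ← hy, Category.assoc]
      rw [Preadditive.sub_comp, hA, hB, sub_self]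
  · exact Subobject.factors_of_le _ le_sup_right (mem_filX_of_le K (by omega) n y)

lemma BBot_le_BSub (r : ℕ) (hr : 1 ≤ r) (p n : ℤ)
    [Mono (HomologicalComplex.homologyMap (inc K (p - (r : ℤ) + 1)) n)] :
    K.BBot p n ≤ K.BSub r p n := by
  unfold FilCx.BBot
  refine sup_le (le_of_factors_arrow ?_) (by unfold FilCx.BSub; exact le_sup_right)
  have ht1 : (K.filX p n).Factors
      (K.filX p n ⊓ imageSubobject (K.obj.d (n - 1) n)).arrow := factors_arrow_of_le inf_le_left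
  have ht2 : (imageSubobject (K.obj.d (n - 1) n)).Factors
      (K.filX p n ⊓ imageSubobject (K.obj.d (n - 1) n)).arrow := factors_arrow_of_le inf_le_right
  obtain ⟨x, hx⟩ := (mem_filX_iff K p n _).1 ht1
  rw [← hx] at ht2 ⊢
  obtain ⟨T₁, π₁, hπ₁, u, hu⟩ := exists_refinement_of_factors_image _ _ ht2
  have hq : p - (r : ℤ) + 1 ≤ p := by omega
  have hxq : (π₁ ≫ x ≫ (K.stepLE hq).f n) ≫ (inc K (p - (r : ℤ) + 1)).f n =
      u ≫ K.obj.d (n - 1) n := by
    rw [Category.assoc, Category.assoc, stepLE_inc, hu]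
  have hxqd : (π₁ ≫ x ≫ (K.stepLE hq).f n) ≫ (K.step (p - (r : ℤ) + 1)).d n (n + 1) = 0 := by
    apply cocycle_of_inc
    rw [hxq, Category.assoc, K.obj.d_comp_d, comp_zero]
  obtain ⟨T₂, π₂, hπ₂, x₁, hx₁⟩ :=
    mono_refine (inc K (p - (r : ℤ) + 1)) (n - 1) n (n + 1) (by omega) rfl _ hxqd u hxq
  apply factors_of_epi_comp _ π₁
  apply factors_of_epi_comp _ π₂
  have h6 : π₂ ≫ π₁ ≫ (x ≫ (inc K p).f n) =
      x₁ ≫ ((inc K (p - (r : ℤ) + 1)).f (n - 1) ≫ K.obj.d (n - 1) n) +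
        (0 : T₂ ⟶ (K.step (p + 1)).X n) ≫ (inc K (p + 1)).f n := by
    rw [zero_comp, add_zero, inc_comm, ← Category.assoc x₁, ← hx₁]
    simp only [Category.assoc, stepLE_inc]
  exact mem_BSub_of_decomp K r p n _ (p + 1) le_rfl le_rfl _
    (Subobject.factors_of_factors_right _ (Subobject.factors_of_factors_right _
      (mem_filX_of_eq K p n x))) x₁ 0 h6

end fil

section filobj

variable {A : Type u} [Category.{v} A] [Abelian A]

lemma isSeparated_of_bot (H : FilObj A) (b : ℤ) (hb : H.fil b = ⊥) : H.IsSeparated :=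
  ⟨fun _ _ => bot_le, fun _ hS => (hS ⟨b, rfl⟩).trans_eq hb⟩

lemma isExhaustive_of_top (H : FilObj A) (a : ℤ) (ha : H.fil a = ⊤) : H.IsExhaustive :=
  ⟨fun _ _ => le_top, fun _ hS => ha.symm.trans_le (hS ⟨a, rfl⟩)⟩

lemma quotMap_fac (H : FilObj A) {p q : ℤ} (h : p ≤ q) :
    cokernel.π (H.fil q).arrow ≫ H.quotMap h = cokernel.π (H.fil p).arrow := by
  unfold FilObj.quotMap
  exact cokernel.π_desc _ _ _

lemma isIso_cokernel_π_of_bot (H : FilObj A) (b : ℤ) (hb : H.fil b = ⊥) :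
    IsIso (cokernel.π (H.fil b).arrow) := by
  have h0 : (H.fil b).arrow = 0 := arrow_eq_zero_of_eq_bot hb
  have : Mono (cokernel.π (H.fil b).arrow) := by
    apply Preadditive.mono_of_cancel_zero
    intro T g hg
    have h1 := Abelian.monoLift_comp (H.fil b).arrow g hg
    exact h1.symm.trans ((congrArg (fun a => Abelian.monoLift (H.fil b).arrow g hg ≫ a) h0).trans
      comp_zero)
  exact isIso_of_mono_of_epi _

lemma isComplete_of_bot (H : FilObj A) (b : ℤ) (hb : H.fil b = ⊥) : H.IsComplete := by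
  intro T f hf
  have := isIso_cokernel_π_of_bot H b hb
  refine ⟨f b ≫ inv (cokernel.π (H.fil b).arrow), fun p => ?_⟩
  rcases le_total p b with hpb | hbp
  · rw [← quotMap_fac H hpb, Category.assoc, IsIso.inv_hom_id_assoc]
    exact hf p b hpb
  · have hp : H.fil p = ⊥ := eq_bot_iff.2 ((H.anti hbp).trans_eq hb)
    have := isIso_cokernel_π_of_bot H p hp
    have hq : H.quotMap hbp = inv (cokernel.π (H.fil p).arrow) ≫ cokernel.π (H.fil b).arrow := by
      rw [← quotMap_fac H hbp, IsIso.inv_hom_id_assoc]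
    have hfb : f b = f p ≫ H.quotMap hbp := (hf b p hbp).symm
    rw [hfb, hq]
    simp

end filobj

section main

variable {A : Type u} [Category.{v} A] [Abelian A]

lemma filH_eq_top (K : FilCx A) (p n : ℤ)
    [Epi (HomologicalComplex.homologyMap (K.fil p).arrow n)] : K.filH p n = ⊤ :=
  imageSubobject_eq_top_of_epi _

lemma filH_eq_bot (K : FilCx A) (p n : ℤ)
    (h : IsZero ((K.fil p : CochainComplex A ℤ).homology n)) : K.filH p n = ⊥ := by
  exact imageSubobject_eq_bot_of_eq_zero (h.eq_of_src _ _)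

theorem main (K : FilCx A)
    (h0 : ∀ n : ℤ, ∃ p₀ : ℤ, ∀ p : ℤ, p₀ ≤ p →
      IsZero ((K.fil p : CochainComplex A ℤ).homology n))
    (h1 : ∀ n : ℤ, ∃ p₁ : ℤ, ∀ p : ℤ, p ≤ p₁ →
      IsIso (HomologicalComplex.homologyMap (K.fil p).arrow n)) :
    K.IsBounded 1 ∧ (∀ n : ℤ, (K.HFil n).IsFinite) ∧ K.Converges := by
  have hfin : ∀ n : ℤ, (K.HFil n).IsFinite := by
    intro n
    obtain ⟨a, ha⟩ := h0 n
    obtain ⟨b, hb⟩ := h1 n
    refine ⟨⟨b, ?_⟩, ⟨a, ?_⟩⟩
    · have := hb b le_rfl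
      exact filH_eq_top K b n
    · exact filH_eq_bot K a n (ha a le_rfl)
  have hZ : ∀ p n : ℤ, ∃ r₀ : ℕ, 1 ≤ r₀ ∧ ∀ r : ℕ, r₀ ≤ r → K.ZSub r p n = K.ZTop p n := by
    intro p n
    obtain ⟨a', ha'⟩ := h0 (n + 1)
    refine ⟨max 1 (a' - p).toNat, le_max_left _ _, fun r hr => ?_⟩
    have hr1 : 1 ≤ r := (le_max_left _ _).trans hr
    have hr2 : (a' - p).toNat ≤ r := (le_max_right _ _).trans hr
    have hr3 : a' ≤ p + (r : ℤ) := by
      have := Int.self_le_toNat (a' - p)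
      omega
    exact le_antisymm (ZSub_le_ZTop K r hr1 p n (ha' _ hr3)) (ZTop_le_ZSub K r p n)
  have hB : ∀ p n : ℤ, ∃ r₁ : ℕ, K.BSub r₁ p n = K.BBot p n := by
    intro p n
    obtain ⟨b, hb⟩ := h1 n
    have hr1 : 1 ≤ max 1 (p - b + 1).toNat := le_max_left _ _
    have hr3 : p - ((max 1 (p - b + 1).toNat : ℕ) : ℤ) + 1 ≤ b := by
      have h3 := Int.self_le_toNat (p - b + 1)
      have h4 : (p - b + 1).toNat ≤ max 1 (p - b + 1).toNat := le_max_right _ _
      omega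
    have := hb _ hr3
    exact ⟨max 1 (p - b + 1).toNat,
      le_antisymm (BSub_le_BBot K _ p n) (BBot_le_BSub K _ hr1 p n)⟩
  refine ⟨?_, hfin, ?_, ⟨?_, ?_⟩, ?_⟩
  · -- bounded from page 1
    intro n
    obtain ⟨a, ha⟩ := h0 n
    obtain ⟨a', ha'⟩ := h0 (n + 1)
    obtain ⟨b, hb⟩ := h1 n
    obtain ⟨b', hb'⟩ := h1 (n + 1)
    apply Set.Finite.subset (Set.finite_Ioo (min b b' - 1) (max a a'))
    intro p hp
    by_contra hcon
    apply hp
    rw [Set.mem_Ioo, not_and_or, not_lt, not_lt] at hcon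
    apply isZero_subquot_of_le
    apply ZSub_le_BSub_of_decomp K 1 le_rfl p n
    rcases hcon with h | h
    · have hb1 : p + ((1 : ℕ) : ℤ) ≤ b' := by
        have := min_le_right b b'
        push_cast
        omega
      have hb2 : p + ((1 : ℕ) : ℤ) ≤ b := by
        have := min_le_left b b'
        push_cast
        omega
      have hb3 : p ≤ b := by
        have := min_le_left b b'
        omega
      have := hb' _ hb1
      have := hb _ hb2
      have := hb _ hb3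
      intro T x w hxw
      exact elem2 K p (p + ((1 : ℕ) : ℤ)) n (by push_cast; omega) x w hxw
    · have ha1 : a ≤ p := (le_max_left _ _).trans h
      have ha2 : a' ≤ p + ((1 : ℕ) : ℤ) := by
        have := le_max_right a a'
        push_cast
        omega
      intro T x w hxw
      exact elem1 K p (p + ((1 : ℕ) : ℤ)) n (by push_cast; omega) (ha p ha1) (ha' _ ha2) x w hxw
  · -- regular
    intro p n
    obtain ⟨r₀, _, hr₀⟩ := hZ p n
    exact ⟨r₀, fun r hr => (hr₀ r hr).trans (hr₀ r₀ le_rfl).symm⟩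
  · -- weakly converges
    intro p n
    obtain ⟨r₀, _, hr₀⟩ := hZ p n
    obtain ⟨r₁, hr₁⟩ := hB p n
    refine ⟨⟨?_, ?_⟩, ⟨?_, ?_⟩⟩
    · rintro _ ⟨r, rfl⟩
      exact ZTop_le_ZSub K r p n
    · intro S hS
      exact (hS ⟨r₀, rfl⟩).trans_eq (hr₀ r₀ le_rfl)
    · rintro _ ⟨r, rfl⟩
      exact BSub_le_BBot K r p n
    · intro S hS
      exact hr₁.symm.trans_le (hS ⟨r₁, rfl⟩)
  · -- separated and exhaustive
    intro n
    obtain ⟨⟨a, ha⟩, ⟨b, hb⟩⟩ := hfin n
    exact ⟨isSeparated_of_bot _ b hb, isExhaustive_of_top _ a ha⟩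
  · -- complete
    intro n
    obtain ⟨_, ⟨b, hb⟩⟩ := hfin n
    exact isComplete_of_bot _ b hb

end main

end Groth.Agent.Lib.LeadSpSeq
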