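import Mathlib
import Groth.Prelude.Def_SpSeq
import Groth.Agent.Lib.LeadSpSeq

/-!
# Weak Serre classes and the spectral sequence of a filtered complex

Subquotient calculus in an abelian category (via refinements), the passage from page `r` to page
`r+1` as kernel / cokernel of maps between terms of page `r`, and the finite filtration on
cohomology with graded pieces the terms of a late page.
-/

universe v u

open CategoryTheory CategoryTheory.Limits

namespace Groth.Agent.Lib.LeadSpSeq2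

open SpSeq SpSeq.FilCx Groth.Agent.Lib.LeadSpSeq
open ZeroObject

section weakSerre

variable {A : Type u} [Category.{v} A] [Abelian A] (P : ObjectProperty A)
  [P.IsClosedUnderIsomorphisms]

lemma prop_of_isZero (h0 : ∃ Z : A, IsZero Z ∧ P Z) {Z : A} (hZ : IsZero Z) : P Z := by
  obtain ⟨Z0, hZ0, hPZ0⟩ := h0
  exact P.prop_of_iso (hZ0.iso hZ) hPZ0

lemma prop_of_five
    (hP : ∀ S : ComposableArrows A 4, S.Exact → P (S.obj 0) → P (S.obj 1) → P (S.obj 3) →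
      P (S.obj 4) → P (S.obj 2))
    {X0 X1 X2 X3 X4 : A} (f0 : X0 ⟶ X1) (f1 : X1 ⟶ X2) (f2 : X2 ⟶ X3) (f3 : X3 ⟶ X4)
    (w1 : f0 ≫ f1 = 0) (w2 : f1 ≫ f2 = 0) (w3 : f2 ≫ f3 = 0)
    (e1 : (ShortComplex.mk f0 f1 w1).Exact) (e2 : (ShortComplex.mk f1 f2 w2).Exact)
    (e3 : (ShortComplex.mk f2 f3 w3).Exact)
    (p0 : P X0) (p1 : P X1) (p3 : P X3) (p4 : P X4) : P X2 := by
  have hS : (ComposableArrows.mk₄ f0 f1 f2 f3).Exact :=
    ComposableArrows.exact_of_δ₀ e1.exact_toComposableArrows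
      (ComposableArrows.exact_of_δ₀ e2.exact_toComposableArrows e3.exact_toComposableArrows)
  exact hP _ hS p0 p1 p3 p4

variable (h0 : ∃ Z : A, IsZero Z ∧ P Z)
  (hP : ∀ S : ComposableArrows A 4, S.Exact → P (S.obj 0) → P (S.obj 1) → P (S.obj 3) →
      P (S.obj 4) → P (S.obj 2))

include h0 hP

lemma prop_kernel {K X Y : A} (i : K ⟶ X) (f : X ⟶ Y) [Mono i] (w : i ≫ f = 0)
    (e : (ShortComplex.mk i f w).Exact) (pX : P X) (pY : P Y) : P K := by
  have hz : IsZero (0 : A) := isZero_zero A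
  have pz := prop_of_isZero P h0 hz
  refine prop_of_five P hP (0 : (0 : A) ⟶ (0 : A)) (0 : (0 : A) ⟶ K) i f zero_comp zero_comp w
    ?_ ?_ e pz pz pX pY
  · exact ShortComplex.exact_of_isZero_X₂ _ hz
  · exact (ShortComplex.exact_iff_mono _ rfl).2 ‹Mono i›

lemma prop_cokernel {X Y C : A} (f : X ⟶ Y) (q : Y ⟶ C) [Epi q] (w : f ≫ q = 0)
    (e : (ShortComplex.mk f q w).Exact) (pX : P X) (pY : P Y) : P C := by
  have hz : IsZero (0 : A) := isZero_zero A
  have pz := prop_of_isZero P h0 hz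
  refine prop_of_five P hP f q (0 : C ⟶ (0 : A)) (0 : (0 : A) ⟶ (0 : A)) w comp_zero comp_zero
    e ?_ ?_ pX pY pz pz
  · exact (ShortComplex.exact_iff_epi _ rfl).2 ‹Epi q›
  · exact ShortComplex.exact_of_isZero_X₂ _ hz

lemma prop_ext {S : ShortComplex A} (hS : S.ShortExact) (p1 : P S.X₁) (p3 : P S.X₃) :
    P S.X₂ := by
  have hz : IsZero (0 : A) := isZero_zero A
  have pz := prop_of_isZero P h0 hz
  have hm : Mono S.f := hS.mono_f
  have he : Epi S.g := hS.epi_g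
  refine prop_of_five P hP (0 : (0 : A) ⟶ S.X₁) S.f S.g (0 : S.X₃ ⟶ (0 : A)) zero_comp S.zero
    comp_zero ?_ hS.exact ?_ pz p1 p3 pz
  · exact (ShortComplex.exact_iff_mono _ rfl).2 hm
  · exact (ShortComplex.exact_iff_epi _ rfl).2 he

end weakSerre

section general

variable {A : Type u} [Category.{v} A] [Abelian A]

lemma exact_comp_mono {S : ShortComplex A} (hS : S.Exact) {Y : A} (m : S.X₃ ⟶ Y) [Mono m] :
    (ShortComplex.mk S.f (S.g ≫ m) (by rw [← Category.assoc, S.zero, zero_comp])).Exact := by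
  rw [ShortComplex.exact_iff_exact_up_to_refinements] at hS ⊢
  intro T x₂ hx₂
  refine hS x₂ ((cancel_mono m).1 ?_)
  rw [Category.assoc, zero_comp]
  exact hx₂

lemma le_of_forall_factors {X : A} {S S' : Subobject X}
    (h : ∀ {T : A} (t : T ⟶ X), S.Factors t → S'.Factors t) : S ≤ S' :=
  le_of_factors_arrow (h S.arrow (Subobject.factors_self S))

lemma factors_neg {X T : A} (S : Subobject X) (t : T ⟶ X) (h : S.Factors t) :
    S.Factors (-t) := by
  have h1 : -t = (-(S.factorThru t h)) ≫ S.arrow := by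
    rw [Preadditive.neg_comp, Subobject.factorThru_arrow]
  rw [h1]
  exact Subobject.factors_comp_arrow _

lemma factors_sub {X T : A} (S : Subobject X) (t t' : T ⟶ X) (h : S.Factors t)
    (h' : S.Factors t') : S.Factors (t - t') := by
  rw [sub_eq_add_neg]
  exact Subobject.factors_add _ _ h (factors_neg S t' h')

lemma exists_decomp_of_factors_sup {X T : A} (S S' : Subobject X) (t : T ⟶ X)
    (h : (S ⊔ S').Factors t) :
    ∃ (T' : A) (π : T' ⟶ T) (_ : Epi π) (a b : T' ⟶ X),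
      S.Factors a ∧ S'.Factors b ∧ π ≫ t = a + b := by
  have hle : S ⊔ S' ≤ imageSubobject (biprod.desc S.arrow S'.arrow) := by
    apply sup_le
    · apply le_of_factors_arrow
      have := imageSubobject_factors_comp_self (biprod.desc S.arrow S'.arrow) biprod.inl
      rwa [biprod.inl_desc] at this
    · apply le_of_factors_arrow
      have := imageSubobject_factors_comp_self (biprod.desc S.arrow S'.arrow) biprod.inr
      rwa [biprod.inr_desc] at this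
  obtain ⟨T', π, hπ, u, hu⟩ :=
    exists_refinement_of_factors_image _ t (Subobject.factors_of_le _ hle h)
  refine ⟨T', π, hπ, (u ≫ biprod.fst) ≫ S.arrow, (u ≫ biprod.snd) ≫ S'.arrow,
    Subobject.factors_comp_arrow _, Subobject.factors_comp_arrow _, ?_⟩
  rw [hu, biprod.desc_eq, Preadditive.comp_add, Category.assoc, Category.assoc]

lemma factors_sup_of_decomp {X T : A} (S S' : Subobject X) (a b : T ⟶ X) (ha : S.Factors a)
    (hb : S'.Factors b) : (S ⊔ S').Factors (a + b) :=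
  Subobject.factors_add _ _ (Subobject.factors_of_le _ le_sup_left ha)
    (Subobject.factors_of_le _ le_sup_right hb)

lemma mem_image_iff {X Y T : A} (f : X ⟶ Y) (t : T ⟶ Y) :
    (imageSubobject f).Factors t ↔
      ∃ (T' : A) (π : T' ⟶ T) (_ : Epi π) (u : T' ⟶ X), π ≫ t = u ≫ f := by
  constructor
  · exact exists_refinement_of_factors_image f t
  · rintro ⟨T', π, hπ, u, hu⟩
    apply factors_of_epi_comp _ π
    rw [hu]
    exact imageSubobject_factors_comp_self _ _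

lemma mem_image_comp_iff {X Y T : A} (S : Subobject X) (f : X ⟶ Y) (t : T ⟶ Y) :
    (imageSubobject (S.arrow ≫ f)).Factors t ↔
      ∃ (T' : A) (π : T' ⟶ T) (_ : Epi π) (s : T' ⟶ X), S.Factors s ∧ π ≫ t = s ≫ f := by
  constructor
  · intro h
    obtain ⟨T', π, hπ, u, hu⟩ := exists_refinement_of_factors_image _ t h
    exact ⟨T', π, hπ, u ≫ S.arrow, Subobject.factors_comp_arrow _, by rw [hu, Category.assoc]⟩
  · rintro ⟨T', π, hπ, s, hs, hst⟩
    apply factors_of_epi_comp _ π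
    have h1 : s ≫ f = S.factorThru s hs ≫ (S.arrow ≫ f) := by
      rw [← Category.assoc, Subobject.factorThru_arrow]
    rw [hst, h1]
    exact imageSubobject_factors_comp_self _ _

section sq

variable {X : A} {Z B : Subobject X} (h : B ≤ Z)

/-- the projection `Z ⟶ Z/B` -/
noncomputable def sqπ : (Z : A) ⟶ subquot Z B h := cokernel.π (B.ofLE Z h)

instance epi_sqπ : Epi (sqπ h) := inferInstanceAs (Epi (cokernel.π (B.ofLE Z h)))

lemma ofLE_sqπ : B.ofLE Z h ≫ sqπ h = 0 := cokernel.condition _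

/-- descent from the subquotient -/
noncomputable def sqDesc {T : A} (g : (Z : A) ⟶ T) (w : B.ofLE Z h ≫ g = 0) :
    subquot Z B h ⟶ T :=
  cokernel.desc (B.ofLE Z h) g w

lemma sqπ_desc {T : A} (g : (Z : A) ⟶ T) (w : B.ofLE Z h ≫ g = 0) :
    sqπ h ≫ sqDesc h g w = g :=
  cokernel.π_desc _ _ _

lemma sqπ_eq_zero_iff {T : A} (z : T ⟶ (Z : A)) :
    z ≫ sqπ h = 0 ↔ B.Factors (z ≫ Z.arrow) := by
  constructor
  · intro hz
    have h1 : z ≫ Z.arrow = Abelian.monoLift (B.ofLE Z h) z hz ≫ B.arrow := by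
      rw [← Subobject.ofLE_arrow h, ← Category.assoc, Abelian.monoLift_comp]
    rw [h1]
    exact Subobject.factors_comp_arrow _
  · intro hz
    have h1 : B.factorThru _ hz ≫ B.ofLE Z h = z := by
      rw [← cancel_mono Z.arrow, Category.assoc, Subobject.ofLE_arrow,
        Subobject.factorThru_arrow]
    rw [← h1, Category.assoc, ofLE_sqπ, comp_zero]

lemma epi_comp_sqπ {V : A} (g : V ⟶ (Z : A))
    (hg : ∀ {T : A} (z : T ⟶ (Z : A)), ∃ (T' : A) (π : T' ⟶ T) (_ : Epi π) (v : T' ⟶ V),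
      B.Factors ((π ≫ z - v ≫ g) ≫ Z.arrow)) :
    Epi (g ≫ sqπ h) := by
  rw [epi_iff_surjective_up_to_refinements]
  intro T y
  obtain ⟨T₁, π₁, hπ₁, z, hz⟩ := surjective_up_to_refinements_of_epi (sqπ h) y
  obtain ⟨T₂, π₂, hπ₂, v, hv⟩ := hg z
  have h1 := (sqπ_eq_zero_iff h _).2 hv
  rw [Preadditive.sub_comp, sub_eq_zero] at h1
  refine ⟨T₂, π₂ ≫ π₁, epi_comp _ _, v, ?_⟩
  calc (π₂ ≫ π₁) ≫ y = π₂ ≫ (π₁ ≫ y) := Category.assoc _ _ _
    _ = π₂ ≫ (z ≫ sqπ h) := by rw [hz]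
    _ = (π₂ ≫ z) ≫ sqπ h := (Category.assoc _ _ _).symm
    _ = (v ≫ g) ≫ sqπ h := h1
    _ = v ≫ g ≫ sqπ h := Category.assoc _ _ _

end sq

lemma isIso_of_fac {W H H' : A} (α : W ⟶ H) (β : W ⟶ H') (D : H ⟶ H') [Epi α] [Epi β]
    (hfac : α ≫ D = β) (h : ∀ {T : A} (t : T ⟶ W), t ≫ β = 0 → t ≫ α = 0) : IsIso D := by
  have hepi : Epi D := epi_of_epi_fac hfac
  have hmono : Mono D := by
    apply Preadditive.mono_of_cancel_zero
    intro T t ht
    obtain ⟨T', π, hπ, w, hw⟩ := surjective_up_to_refinements_of_epi α t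
    have h2 : w ≫ β = 0 := by
      calc w ≫ β = w ≫ (α ≫ D) := by rw [hfac]
        _ = (w ≫ α) ≫ D := (Category.assoc _ _ _).symm
        _ = (π ≫ t) ≫ D := by rw [hw]
        _ = π ≫ (t ≫ D) := Category.assoc _ _ _
        _ = 0 := by rw [ht, comp_zero]
    have h3 : w ≫ α = 0 := h w h2
    rw [← cancel_epi π, comp_zero, hw, h3]
  exact isIso_of_mono_of_epi D

lemma nonempty_iso_of_epi_of_ker {W H H' : A} (α : W ⟶ H) (β : W ⟶ H') [Epi α] [Epi β]
    (h : ∀ {T : A} (t : T ⟶ W), t ≫ α = 0 ↔ t ≫ β = 0) : Nonempty (H ≅ H') := by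
  have hk : kernel.ι α ≫ β = 0 := (h _).1 (kernel.condition α)
  have hfac : α ≫ Abelian.epiDesc α β hk = β := Abelian.comp_epiDesc α β hk
  have := isIso_of_fac α β _ hfac (fun t ht => (h t).2 ht)
  exact ⟨asIso (Abelian.epiDesc α β hk)⟩

lemma nonempty_subquot_iso {X Y : A} (φ : X ⟶ Y) {Z B : Subobject X} (h : B ≤ Z)
    {Z' B' : Subobject Y} (h' : B' ≤ Z') (W : Subobject X) (c1 : W ≤ Z) (c2 : Z ≤ W ⊔ B)
    (c3 : W ≤ (Subobject.pullback φ).obj Z') (c4 : Z' ≤ imageSubobject (W.arrow ≫ φ) ⊔ B')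
    (c5 : ∀ {T : A} (w : T ⟶ X), W.Factors w → (B.Factors w ↔ B'.Factors (w ≫ φ))) :
    Nonempty (subquot Z B h ≅ subquot Z' B' h') := by
  have hW' : Z'.Factors (W.arrow ≫ φ) :=
    (pullback_factors_iff _ _ _).1 (factors_arrow_of_le c3)
  have hα : Epi (W.ofLE Z c1 ≫ sqπ h) := by
    apply epi_comp_sqπ
    intro T z
    obtain ⟨T', π, hπ, a, b, ha, hb, hab⟩ := exists_decomp_of_factors_sup W B (z ≫ Z.arrow)
      (Subobject.factors_of_le _ c2 (Subobject.factors_comp_arrow z))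
    refine ⟨T', π, hπ, W.factorThru a ha, ?_⟩
    have h1 : (π ≫ z - W.factorThru a ha ≫ W.ofLE Z c1) ≫ Z.arrow = b := by
      calc (π ≫ z - W.factorThru a ha ≫ W.ofLE Z c1) ≫ Z.arrow
          = π ≫ z ≫ Z.arrow - a := by
            simp only [Preadditive.sub_comp, Category.assoc, Subobject.ofLE_arrow,
              Subobject.factorThru_arrow]
        _ = b := by rw [hab, add_sub_cancel_left]
    rw [h1]
    exact hb
  have hβ : Epi (Z'.factorThru (W.arrow ≫ φ) hW' ≫ sqπ h') := by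
    apply epi_comp_sqπ
    intro T z
    obtain ⟨T₁, π₁, hπ₁, a, b, ha, hb, hab⟩ :=
      exists_decomp_of_factors_sup _ B' (z ≫ Z'.arrow)
        (Subobject.factors_of_le _ c4 (Subobject.factors_comp_arrow z))
    obtain ⟨T₂, π₂, hπ₂, u, hu⟩ := exists_refinement_of_factors_image _ a ha
    refine ⟨T₂, π₂ ≫ π₁, epi_comp _ _, u, ?_⟩
    have h1 : ((π₂ ≫ π₁) ≫ z - u ≫ Z'.factorThru (W.arrow ≫ φ) hW') ≫ Z'.arrow = π₂ ≫ b := by
      calc ((π₂ ≫ π₁) ≫ z - u ≫ Z'.factorThru (W.arrow ≫ φ) hW') ≫ Z'.arrow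
          = π₂ ≫ π₁ ≫ z ≫ Z'.arrow - u ≫ W.arrow ≫ φ := by
            simp only [Preadditive.sub_comp, Category.assoc, Subobject.factorThru_arrow]
        _ = π₂ ≫ (a + b) - π₂ ≫ a := by rw [hab, hu]
        _ = π₂ ≫ b := by rw [Preadditive.comp_add, add_sub_cancel_left]
    rw [h1]
    exact Subobject.factors_of_factors_right _ hb
  refine nonempty_iso_of_epi_of_ker (W.ofLE Z c1 ≫ sqπ h)
    (Z'.factorThru (W.arrow ≫ φ) hW' ≫ sqπ h') ?_
  intro T t
  have hA : t ≫ W.ofLE Z c1 ≫ sqπ h = 0 ↔ B.Factors (t ≫ W.arrow) := by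
    rw [← Category.assoc, sqπ_eq_zero_iff, Category.assoc, Subobject.ofLE_arrow]
  have hB : t ≫ Z'.factorThru (W.arrow ≫ φ) hW' ≫ sqπ h' = 0 ↔
      B'.Factors ((t ≫ W.arrow) ≫ φ) := by
    rw [← Category.assoc, sqπ_eq_zero_iff, Category.assoc, Subobject.factorThru_arrow,
      Category.assoc]
  rw [hA, hB]
  exact c5 _ (Subobject.factors_comp_arrow t)

/-- the map between subquotients induced by inclusions -/
noncomputable def subquotMap {X : A} {Z B Z' B' : Subobject X} (h : B ≤ Z) (h' : B' ≤ Z')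
    (hZ : Z ≤ Z') (hB : B ≤ B') : subquot Z B h ⟶ subquot Z' B' h' :=
  sqDesc h (Z.ofLE Z' hZ ≫ sqπ h') (by
    have h1 : B.ofLE Z h ≫ Z.ofLE Z' hZ = B.ofLE B' hB ≫ B'.ofLE Z' h' := by
      rw [Subobject.ofLE_comp_ofLE, Subobject.ofLE_comp_ofLE]
    rw [← Category.assoc, h1, Category.assoc, ofLE_sqπ, comp_zero])

lemma π_subquotMap {X : A} {Z B Z' B' : Subobject X} (h : B ≤ Z) (h' : B' ≤ Z')
    (hZ : Z ≤ Z') (hB : B ≤ B') :
    sqπ h ≫ subquotMap h h' hZ hB = Z.ofLE Z' hZ ≫ sqπ h' :=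
  sqπ_desc _ _ _

section ses

variable {X : A} {B Z' Z : Subobject X} (h1 : B ≤ Z') (h2 : Z' ≤ Z)

/-- `Z'/B ⟶ Z/B` -/
noncomputable def sqInc : subquot Z' B h1 ⟶ subquot Z B (h1.trans h2) :=
  subquotMap h1 (h1.trans h2) h2 le_rfl

/-- `Z/B ⟶ Z/Z'` -/
noncomputable def sqProj : subquot Z B (h1.trans h2) ⟶ subquot Z Z' h2 :=
  subquotMap (h1.trans h2) h2 le_rfl h1

lemma π_sqInc : sqπ h1 ≫ sqInc h1 h2 = Z'.ofLE Z h2 ≫ sqπ (h1.trans h2) :=
  π_subquotMap _ _ _ _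

lemma π_sqProj : sqπ (h1.trans h2) ≫ sqProj h1 h2 = sqπ h2 := by
  have := π_subquotMap (h1.trans h2) h2 le_rfl h1
  rw [Subobject.ofLE_refl, Category.id_comp] at this
  exact this

lemma sqInc_sqProj : sqInc h1 h2 ≫ sqProj h1 h2 = 0 := by
  refine (cancel_epi (sqπ h1)).1 ?_
  rw [comp_zero]
  calc sqπ h1 ≫ sqInc h1 h2 ≫ sqProj h1 h2
      = (sqπ h1 ≫ sqInc h1 h2) ≫ sqProj h1 h2 := (Category.assoc _ _ _).symm
    _ = (Z'.ofLE Z h2 ≫ sqπ (h1.trans h2)) ≫ sqProj h1 h2 := by rw [π_sqInc]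
    _ = Z'.ofLE Z h2 ≫ (sqπ (h1.trans h2) ≫ sqProj h1 h2) := Category.assoc _ _ _
    _ = Z'.ofLE Z h2 ≫ sqπ h2 := by rw [π_sqProj]
    _ = 0 := ofLE_sqπ _

/-- the short complex `Z'/B ⟶ Z/B ⟶ Z/Z'` -/
noncomputable def sqSC : ShortComplex A :=
  ShortComplex.mk (sqInc h1 h2) (sqProj h1 h2) (sqInc_sqProj h1 h2)

lemma mono_sqInc : Mono (sqInc h1 h2) := by
  apply Preadditive.mono_of_cancel_zero
  intro T t ht
  obtain ⟨T', π, hπ, z, hz⟩ := surjective_up_to_refinements_of_epi (sqπ h1) t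
  have h3 : (z ≫ Z'.ofLE Z h2) ≫ sqπ (h1.trans h2) = 0 := by
    calc (z ≫ Z'.ofLE Z h2) ≫ sqπ (h1.trans h2)
        = z ≫ (Z'.ofLE Z h2 ≫ sqπ (h1.trans h2)) := Category.assoc _ _ _
      _ = z ≫ (sqπ h1 ≫ sqInc h1 h2) := by rw [π_sqInc]
      _ = (z ≫ sqπ h1) ≫ sqInc h1 h2 := (Category.assoc _ _ _).symm
      _ = (π ≫ t) ≫ sqInc h1 h2 := by rw [hz]
      _ = π ≫ (t ≫ sqInc h1 h2) := Category.assoc _ _ _
      _ = 0 := by rw [ht, comp_zero]
  rw [sqπ_eq_zero_iff, Category.assoc, Subobject.ofLE_arrow] at h3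
  have h4 : z ≫ sqπ h1 = 0 := (sqπ_eq_zero_iff h1 z).2 h3
  rw [← cancel_epi π, comp_zero, hz, h4]

lemma epi_sqProj : Epi (sqProj h1 h2) := epi_of_epi_fac (π_sqProj h1 h2)

lemma exact_sqSC_aux {T : A} (x₂ : T ⟶ subquot Z B (h1.trans h2))
    (hx₂' : x₂ ≫ sqProj h1 h2 = 0) :
    ∃ (T' : A) (π : T' ⟶ T) (_ : Epi π) (x₁ : T' ⟶ subquot Z' B h1),
      π ≫ x₂ = x₁ ≫ sqInc h1 h2 := by
  obtain ⟨T', π, hπ, z, hz⟩ :=
    surjective_up_to_refinements_of_epi (sqπ (h1.trans h2)) x₂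
  have h3 : z ≫ sqπ h2 = 0 := by
    calc z ≫ sqπ h2
        = z ≫ (sqπ (h1.trans h2) ≫ sqProj h1 h2) := by rw [π_sqProj]
      _ = (z ≫ sqπ (h1.trans h2)) ≫ sqProj h1 h2 := (Category.assoc _ _ _).symm
      _ = (π ≫ x₂) ≫ sqProj h1 h2 := by rw [hz]
      _ = π ≫ (x₂ ≫ sqProj h1 h2) := Category.assoc _ _ _
      _ = 0 := by rw [hx₂', comp_zero]
  rw [sqπ_eq_zero_iff] at h3
  have h4 : Z'.factorThru _ h3 ≫ Z'.ofLE Z h2 = z := by
    rw [← cancel_mono Z.arrow, Category.assoc, Subobject.ofLE_arrow, Subobject.factorThru_arrow]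
  refine ⟨T', π, hπ, Z'.factorThru _ h3 ≫ sqπ h1, ?_⟩
  calc π ≫ x₂ = z ≫ sqπ (h1.trans h2) := hz
    _ = (Z'.factorThru _ h3 ≫ Z'.ofLE Z h2) ≫ sqπ (h1.trans h2) := by rw [h4]
    _ = Z'.factorThru _ h3 ≫ (Z'.ofLE Z h2 ≫ sqπ (h1.trans h2)) := Category.assoc _ _ _
    _ = Z'.factorThru _ h3 ≫ (sqπ h1 ≫ sqInc h1 h2) := by rw [π_sqInc]
    _ = (Z'.factorThru _ h3 ≫ sqπ h1) ≫ sqInc h1 h2 := (Category.assoc _ _ _).symm

lemma exact_sqSC : (sqSC h1 h2).Exact := by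
  rw [ShortComplex.exact_iff_exact_up_to_refinements]
  intro T x₂ hx₂
  exact exact_sqSC_aux h1 h2 x₂ hx₂

lemma sqSC_shortExact : (sqSC h1 h2).ShortExact :=
  ShortComplex.ShortExact.mk' (exact_sqSC h1 h2) (mono_sqInc h1 h2) (epi_sqProj h1 h2)

end ses

lemma prop_subquot_of_eq (P : ObjectProperty A) {X : A} {Z Z' B B' : Subobject X} (hZ : Z = Z')
    (hB : B = B') (h : B ≤ Z) (h' : B' ≤ Z') (hp : P (subquot Z B h)) :
    P (subquot Z' B' h') := by
  subst hZ hB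
  exact hp

end general

section chain

variable {A : Type u} [Category.{v} A] [Abelian A] (P : ObjectProperty A)
  [P.IsClosedUnderIsomorphisms]
  (h0 : ∃ Z : A, IsZero Z ∧ P Z)
  (hP : ∀ S : ComposableArrows A 4, S.Exact → P (S.obj 0) → P (S.obj 1) → P (S.obj 3) →
      P (S.obj 4) → P (S.obj 2))

include h0 hP

lemma prop_of_iso_chain {X Y : A} {B Z' Z : Subobject X} (h1 : B ≤ Z') (h2 : Z' ≤ Z)
    {C C' D : Subobject Y} (k1 : C ≤ C') (k2 : C' ≤ D)
    (e : subquot Z Z' h2 ≅ subquot C' C k1)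
    (pX : P (subquot Z B (h1.trans h2))) (pY : P (subquot D C (k1.trans k2))) :
    P (subquot Z' B h1) ∧ P (subquot C' C k1) := by
  have hm1 : Mono (sqInc h1 h2) := mono_sqInc h1 h2
  have he1 : Epi (sqProj h1 h2) := epi_sqProj h1 h2
  have hm2 : Mono (sqInc k1 k2) := mono_sqInc k1 k2
  have hm3 : Mono (e.hom ≫ sqInc k1 k2) := mono_comp _ _
  have hex := exact_comp_mono (exact_sqSC h1 h2) (e.hom ≫ sqInc k1 k2)
  have p1 : P (subquot Z' B h1) :=
    prop_kernel P h0 hP (sqInc h1 h2) (sqProj h1 h2 ≫ e.hom ≫ sqInc k1 k2) _ hex pX pY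
  have p3 : P (subquot Z Z' h2) :=
    prop_cokernel P h0 hP (sqInc h1 h2) (sqProj h1 h2) (sqInc_sqProj h1 h2) (exact_sqSC h1 h2)
      p1 pX
  exact ⟨p1, P.prop_of_iso e p3⟩

end chain

end Groth.Agent.Lib.LeadSpSeq2
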