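import Mathlib
import Groth.Prelude.Def_SpSeq
import Groth.Agent.Lib.LeadSpSeq
import Groth.Agent.Lib.LeadSpSeq2

/-!
# Weak Serre classes and the spectral sequence of a filtered complex, II

Membership characterisations of `ZSub`, `BSub`, the isomorphisms
`Z_r/Z_{r+1} ≅ B_{r+1}/B_r`, the passage from page `r` to page `r+1`, and the final assembly.
-/

universe v u

set_option maxHeartbeats 400000

open CategoryTheory CategoryTheory.Limits

namespace Groth.Agent.Lib.LeadSpSeq3

open SpSeq SpSeq.FilCx Groth.Agent.Lib.LeadSpSeq Groth.Agent.Lib.LeadSpSeq2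

section fil

variable {A : Type u} [Category.{v} A] [Abelian A] (K : FilCx A)

lemma filX_d {T : A} (p n m : ℤ) (x : T ⟶ K.obj.X n) (hx : (K.filX p n).Factors x) :
    (K.filX p m).Factors (x ≫ K.obj.d n m) := by
  obtain ⟨x', rfl⟩ := (mem_filX_iff K p n x).1 hx
  have h1 : (x' ≫ (inc K p).f n) ≫ K.obj.d n m =
      (x' ≫ (K.step p).d n m) ≫ (inc K p).f m := by
    rw [Category.assoc, inc_comm, Category.assoc]
  rw [h1]
  exact mem_filX_of_eq K p m _

lemma filX_mono {T : A} {p q : ℤ} (h : p ≤ q) (n : ℤ) (x : T ⟶ K.obj.X n)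
    (hx : (K.filX q n).Factors x) : (K.filX p n).Factors x :=
  Subobject.factors_of_le _ (K.filX_anti n h) hx

lemma mem_ZSub_iff (r : ℕ) (p n m : ℤ) (hm : n + 1 = m) {T : A} (t : T ⟶ K.obj.X n) :
    (K.ZSub r p n).Factors t ↔ ∃ (T' : A) (π : T' ⟶ T) (_ : Epi π) (x y : T' ⟶ K.obj.X n),
      (K.filX p n).Factors x ∧ (K.filX (p + (r : ℤ)) m).Factors (x ≫ K.obj.d n m) ∧
      (K.filX (p + 1) n).Factors y ∧ π ≫ t = x + y := by
  subst hm
  unfold FilCx.ZSub
  constructor
  · intro h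
    obtain ⟨T', π, hπ, a, b, ha, hb, hab⟩ := exists_decomp_of_factors_sup _ _ t h
    rw [Subobject.inf_factors] at ha
    exact ⟨T', π, hπ, a, b, ha.1, (pullback_factors_iff _ _ _).1 ha.2, hb, hab⟩
  · rintro ⟨T', π, hπ, x, y, hx, hdx, hy, hxy⟩
    apply factors_of_epi_comp _ π
    rw [hxy]
    exact factors_sup_of_decomp _ _ x y
      ((Subobject.inf_factors _).2 ⟨hx, (pullback_factors_iff _ _ _).2 hdx⟩) hy

lemma mem_BSub_iff (r : ℕ) (p l n : ℤ) (hl : l + 1 = n) {T : A} (t : T ⟶ K.obj.X n) :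
    (K.BSub r p n).Factors t ↔ ∃ (T' : A) (π : T' ⟶ T) (_ : Epi π) (z : T' ⟶ K.obj.X l)
      (y : T' ⟶ K.obj.X n), (K.filX (p - (r : ℤ) + 1) l).Factors z ∧
      (K.filX p n).Factors (z ≫ K.obj.d l n) ∧ (K.filX (p + 1) n).Factors y ∧
      π ≫ t = z ≫ K.obj.d l n + y := by
  obtain rfl : l = n - 1 := by omega
  unfold FilCx.BSub
  constructor
  · intro h
    obtain ⟨T₁, π₁, hπ₁, a, b, ha, hb, hab⟩ := exists_decomp_of_factors_sup _ _ t h
    rw [Subobject.inf_factors] at ha
    obtain ⟨T₂, π₂, hπ₂, s, hs, hsa⟩ := (mem_image_comp_iff _ _ a).1 ha.2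
    refine ⟨T₂, π₂ ≫ π₁, epi_comp _ _, s, π₂ ≫ b, hs, ?_,
      Subobject.factors_of_factors_right _ hb, ?_⟩
    · rw [← hsa]
      exact Subobject.factors_of_factors_right _ ha.1
    · rw [Category.assoc, hab, Preadditive.comp_add, hsa]
  · rintro ⟨T', π, hπ, z, y, hz, hdz, hy, hzy⟩
    apply factors_of_epi_comp _ π
    rw [hzy]
    refine factors_sup_of_decomp _ _ _ _ ((Subobject.inf_factors _).2 ⟨hdz, ?_⟩) hy
    exact (mem_image_comp_iff _ _ _).2 ⟨T', 𝟙 _, inferInstance, z, hz, Category.id_comp _⟩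

lemma ZSub_anti (r s : ℕ) (h : r ≤ s) (p n : ℤ) : K.ZSub s p n ≤ K.ZSub r p n := by
  unfold FilCx.ZSub
  have h1 : K.filX (p + (s : ℤ)) (n + 1) ≤ K.filX (p + (r : ℤ)) (n + 1) :=
    K.filX_anti (n + 1) (by omega)
  exact sup_le_sup_right (inf_le_inf_left _
    ((Subobject.pullback (K.obj.d n (n + 1))).monotone h1)) _

lemma BSub_mono (r s : ℕ) (h : r ≤ s) (p n : ℤ) : K.BSub r p n ≤ K.BSub s p n := by
  unfold FilCx.BSub
  have h1 : K.filX (p - (r : ℤ) + 1) (n - 1) ≤ K.filX (p - (s : ℤ) + 1) (n - 1) :=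
    K.filX_anti (n - 1) (by omega)
  refine sup_le_sup_right (inf_le_inf_left _
    (FilCx.imageSubobject_le_of_fac (Subobject.ofLE _ _ h1) ?_)) _
  rw [← Category.assoc, Subobject.ofLE_arrow]

lemma nonempty_iso_ZZ_BB (r : ℕ) (p p' n m : ℤ) (hp : p + (r : ℤ) = p') (hm : n + 1 = m) :
    Nonempty (subquot (K.ZSub r p n) (K.ZSub (r + 1) p n)
        (ZSub_anti K r (r + 1) (Nat.le_succ r) p n) ≅
      subquot (K.BSub (r + 1) p' m) (K.BSub r p' m)
        (BSub_mono K r (r + 1) (Nat.le_succ r) p' m)) := by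
  subst hp
  have hi1 : p + (r : ℤ) - ((r + 1 : ℕ) : ℤ) + 1 = p := by push_cast; ring
  have hi2 : p + (r : ℤ) - (r : ℤ) + 1 = p + 1 := by ring
  have hi3 : p + ((r + 1 : ℕ) : ℤ) = p + (r : ℤ) + 1 := by push_cast; ring
  refine nonempty_subquot_iso (K.obj.d n m) _ _
    (K.filX p n ⊓ (Subobject.pullback (K.obj.d n m)).obj (K.filX (p + (r : ℤ)) m))
    ?_ ?_ ?_ ?_ ?_
  · -- c1
    apply le_of_forall_factors
    intro T t ht
    rw [Subobject.inf_factors, pullback_factors_iff] at ht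
    exact (mem_ZSub_iff K r p n m hm t).2 ⟨T, 𝟙 _, inferInstance, t, 0, ht.1, ht.2,
      Subobject.factors_zero, by rw [Category.id_comp, add_zero]⟩
  · -- c2
    apply le_of_forall_factors
    intro T t ht
    obtain ⟨T', π, hπ, x, y, hx, hdx, hy, hxy⟩ := (mem_ZSub_iff K r p n m hm t).1 ht
    apply factors_of_epi_comp _ π
    rw [hxy]
    refine factors_sup_of_decomp _ _ x y
      ((Subobject.inf_factors _).2 ⟨hx, (pullback_factors_iff _ _ _).2 hdx⟩) ?_
    exact (mem_ZSub_iff K (r + 1) p n m hm y).2 ⟨T', 𝟙 _, inferInstance, 0, y,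
      Subobject.factors_zero, by rw [zero_comp]; exact Subobject.factors_zero, hy,
      by rw [Category.id_comp, zero_add]⟩
  · -- c3
    apply le_of_forall_factors
    intro T t ht
    rw [Subobject.inf_factors, pullback_factors_iff] at ht
    rw [pullback_factors_iff]
    refine (mem_BSub_iff K (r + 1) (p + (r : ℤ)) n m hm _).2 ⟨T, 𝟙 _, inferInstance, t, 0, ?_,
      ht.2, Subobject.factors_zero, by rw [Category.id_comp, add_zero]⟩
    rw [hi1]
    exact ht.1
  · -- c4
    apply le_of_forall_factors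
    intro T t ht
    obtain ⟨T', π, hπ, z, y, hz, hdz, hy, hzy⟩ :=
      (mem_BSub_iff K (r + 1) (p + (r : ℤ)) n m hm t).1 ht
    rw [hi1] at hz
    apply factors_of_epi_comp _ π
    rw [hzy]
    refine factors_sup_of_decomp _ _ _ y ?_ ?_
    · exact (mem_image_comp_iff _ _ _).2 ⟨T', 𝟙 _, inferInstance, z,
        (Subobject.inf_factors _).2 ⟨hz, (pullback_factors_iff _ _ _).2 hdz⟩,
        Category.id_comp _⟩
    · exact (mem_BSub_iff K r (p + (r : ℤ)) n m hm y).2 ⟨T', 𝟙 _, inferInstance, 0, y,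
        Subobject.factors_zero, by rw [zero_comp]; exact Subobject.factors_zero, hy,
        by rw [Category.id_comp, zero_comp, zero_add]⟩
  · -- c5
    intro T w hw
    rw [Subobject.inf_factors, pullback_factors_iff] at hw
    constructor
    · intro hB
      obtain ⟨T', π, hπ, x, y, hx, hdx, hy, hxy⟩ := (mem_ZSub_iff K (r + 1) p n m hm w).1 hB
      rw [hi3] at hdx
      refine (mem_BSub_iff K r (p + (r : ℤ)) n m hm _).2
        ⟨T', π, hπ, y, x ≫ K.obj.d n m, ?_, ?_, hdx, ?_⟩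
      · rw [hi2]
        exact hy
      · have h1 : y ≫ K.obj.d n m = π ≫ (w ≫ K.obj.d n m) - x ≫ K.obj.d n m := by
          rw [← Category.assoc, hxy, Preadditive.add_comp, add_sub_cancel_left]
        rw [h1]
        exact factors_sub _ _ _ (Subobject.factors_of_factors_right _ hw.2)
          (filX_mono K (by omega) m _ hdx)
      · rw [← Category.assoc, hxy, Preadditive.add_comp,
          add_comm (x ≫ K.obj.d n m) (y ≫ K.obj.d n m)]
    · intro hB'
      obtain ⟨T', π, hπ, z, y, hz, hdz, hy, hzy⟩ :=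
        (mem_BSub_iff K r (p + (r : ℤ)) n m hm _).1 hB'
      rw [hi2] at hz
      refine (mem_ZSub_iff K (r + 1) p n m hm w).2
        ⟨T', π, hπ, π ≫ w - z, z, ?_, ?_, hz, (sub_add_cancel _ _).symm⟩
      · exact factors_sub _ _ _ (Subobject.factors_of_factors_right _ hw.1)
          (filX_mono K (by omega) n _ hz)
      · have h1 : (π ≫ w - z) ≫ K.obj.d n m = y := by
          rw [Preadditive.sub_comp, Category.assoc, hzy, add_sub_cancel_left]
        rw [h1, hi3]
        exact hy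

/-- the subobject `(F^p ∩ Ker d) + Im d` of `K^n` -/
noncomputable def Zc (p l n m : ℤ) : Subobject (K.obj.X n) :=
  (K.filX p n ⊓ kernelSubobject (K.obj.d n m)) ⊔ imageSubobject (K.obj.d l n)

lemma Zc_anti (p l n m : ℤ) : Zc K (p + 1) l n m ≤ Zc K p l n m := by
  unfold Zc
  exact sup_le_sup_right (inf_le_inf_right _ (K.filX_anti n (by omega))) _

lemma image_le_Zc (p l n m : ℤ) : imageSubobject (K.obj.d l n) ≤ Zc K p l n m := by
  unfold Zc
  exact le_sup_right

lemma nonempty_iso_gr (s : ℕ) (p l n m : ℤ) (hl : l + 1 = n) (hm : n + 1 = m)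
    (hbot : K.filX (p + (s : ℤ)) m = ⊥) (htop : K.filX (p - (s : ℤ) + 1) l = ⊤) :
    Nonempty (subquot (Zc K p l n m) (Zc K (p + 1) l n m) (Zc_anti K p l n m) ≅ K.E s p n) := by
  unfold FilCx.E
  refine nonempty_subquot_iso (𝟙 (K.obj.X n)) _ _
    (K.filX p n ⊓ kernelSubobject (K.obj.d n m)) ?_ ?_ ?_ ?_ ?_
  · unfold Zc
    exact le_sup_left
  · unfold Zc
    exact sup_le le_sup_left (le_sup_of_le_right le_sup_right)
  · apply le_of_forall_factors
    intro T t ht
    rw [Subobject.inf_factors, kernelSubobject_factors_iff] at ht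
    rw [pullback_factors_iff, Category.comp_id]
    exact (mem_ZSub_iff K s p n m hm t).2 ⟨T, 𝟙 _, inferInstance, t, 0, ht.1,
      by rw [ht.2]; exact Subobject.factors_zero, Subobject.factors_zero,
      by rw [Category.id_comp, add_zero]⟩
  · apply le_of_forall_factors
    intro T t ht
    obtain ⟨T', π, hπ, x, y, hx, hdx, hy, hxy⟩ := (mem_ZSub_iff K s p n m hm t).1 ht
    rw [hbot, Subobject.bot_factors_iff_zero] at hdx
    apply factors_of_epi_comp _ π
    rw [hxy]
    refine factors_sup_of_decomp _ _ x y ?_ ?_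
    · exact (mem_image_comp_iff _ _ _).2 ⟨T', 𝟙 _, inferInstance, x,
        (Subobject.inf_factors _).2 ⟨hx, (kernelSubobject_factors_iff _ _).2 hdx⟩,
        by rw [Category.id_comp, Category.comp_id]⟩
    · exact (mem_BSub_iff K s p l n hl y).2 ⟨T', 𝟙 _, inferInstance, 0, y,
        Subobject.factors_zero, by rw [zero_comp]; exact Subobject.factors_zero, hy,
        by rw [Category.id_comp, zero_comp, zero_add]⟩
  · intro T w hw
    rw [Subobject.inf_factors, kernelSubobject_factors_iff] at hw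
    rw [Category.comp_id]
    constructor
    · intro hB
      unfold Zc at hB
      obtain ⟨T₁, π₁, hπ₁, a, b, ha, hb, hab⟩ := exists_decomp_of_factors_sup _ _ w hB
      rw [Subobject.inf_factors] at ha
      obtain ⟨T₂, π₂, hπ₂, u, hu⟩ := (mem_image_iff _ _).1 hb
      refine (mem_BSub_iff K s p l n hl w).2 ⟨T₂, π₂ ≫ π₁, epi_comp _ _, u, π₂ ≫ a, ?_, ?_,
        Subobject.factors_of_factors_right _ ha.1, ?_⟩
      · rw [htop]
        exact Subobject.top_factors _
      · have h1 : u ≫ K.obj.d l n = π₂ ≫ (π₁ ≫ w) - π₂ ≫ a := by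
          rw [hab, Preadditive.comp_add, ← hu, add_sub_cancel_left]
        rw [h1]
        exact factors_sub _ _ _
          (Subobject.factors_of_factors_right _ (Subobject.factors_of_factors_right _ hw.1))
          (Subobject.factors_of_factors_right _ (filX_mono K (by omega) n _ ha.1))
      · rw [Category.assoc, hab, Preadditive.comp_add, hu, add_comm (π₂ ≫ a) (u ≫ K.obj.d l n)]
    · intro hB'
      obtain ⟨T', π, hπ, z, y, hz, hdz, hy, hzy⟩ := (mem_BSub_iff K s p l n hl w).1 hB'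
      apply factors_of_epi_comp _ π
      have h1 : y = π ≫ w - z ≫ K.obj.d l n := by rw [hzy, add_sub_cancel_left]
      have h2 : y ≫ K.obj.d n m = 0 := by
        rw [h1, Preadditive.sub_comp, Category.assoc, hw.2, comp_zero, Category.assoc,
          K.obj.d_comp_d, comp_zero, sub_zero]
      rw [hzy, add_comm (z ≫ K.obj.d l n) y]
      unfold Zc
      exact factors_sup_of_decomp _ _ y (z ≫ K.obj.d l n)
        ((Subobject.inf_factors _).2 ⟨hy, (kernelSubobject_factors_iff _ _).2 h2⟩)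
        ((mem_image_iff _ _).2 ⟨T', 𝟙 _, inferInstance, z, Category.id_comp _⟩)

lemma image_le_kernel (L : CochainComplex A ℤ) (l n m : ℤ) :
    imageSubobject (L.d l n) ≤ kernelSubobject (L.d n m) :=
  le_kernelSubobject _ _ (imageSubobject_arrow_comp_eq_zero (L.d_comp_d l n m))

lemma nonempty_homology_iso (L : CochainComplex A ℤ) (l n m : ℤ) (hl : l + 1 = n)
    (hm : n + 1 = m) :
    Nonempty (subquot (kernelSubobject (L.d n m)) (imageSubobject (L.d l n))
      (image_le_kernel L l n m) ≅ L.homology n) := by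
  have hnext : (ComplexShape.up ℤ).next n = m := by subst hm; simp
  have hprev : (ComplexShape.up ℤ).prev n = l := by subst hl; simp
  have hk : (kernelSubobject (L.d n m)).arrow ≫ L.d n m = 0 := kernelSubobject_arrow_comp _
  have hβ' : Epi (L.liftCycles (kernelSubobject (L.d n m)).arrow m hnext hk) := by
    rw [epi_iff_surjective_up_to_refinements]
    intro T c
    have hc : (c ≫ L.iCycles n) ≫ L.d n m = 0 := by
      rw [Category.assoc, L.iCycles_d, comp_zero]
    refine ⟨T, 𝟙 _, inferInstance, factorThruKernelSubobject (L.d n m) (c ≫ L.iCycles n) hc, ?_⟩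
    rw [← cancel_mono (L.iCycles n), Category.id_comp, Category.assoc, L.liftCycles_i,
      factorThruKernelSubobject_comp_arrow]
  have hβ : Epi (L.liftCycles (kernelSubobject (L.d n m)).arrow m hnext hk ≫ L.homologyπ n) :=
    epi_comp _ _
  refine nonempty_iso_of_epi_of_ker (sqπ (image_le_kernel L l n m))
    (L.liftCycles (kernelSubobject (L.d n m)).arrow m hnext hk ≫ L.homologyπ n) ?_
  intro T t
  have h1 : t ≫ L.liftCycles (kernelSubobject (L.d n m)).arrow m hnext hk ≫ L.homologyπ n =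
      L.liftCycles (t ≫ (kernelSubobject (L.d n m)).arrow) m hnext
        (by rw [Category.assoc, hk, comp_zero]) ≫ L.homologyπ n := by
    rw [← Category.assoc, L.comp_liftCycles]
  rw [sqπ_eq_zero_iff, mem_image_iff, h1,
    L.liftCycles_comp_homologyπ_eq_zero_iff_up_to_refinements l n m hprev hnext]

end fil

section main

variable {A : Type u} [Category.{v} A] [Abelian A] (P : ObjectProperty A)
  [P.IsClosedUnderIsomorphisms]
  (h0 : ∃ Z : A, IsZero Z ∧ P Z)
  (hP : ∀ S : ComposableArrows A 4, S.Exact → P (S.obj 0) → P (S.obj 1) → P (S.obj 3) →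
      P (S.obj 4) → P (S.obj 2))

include h0 hP

lemma page_step (K : FilCx A) (r : ℕ) (hr : ∀ p n : ℤ, P (K.E r p n)) (p n : ℤ) :
    P (K.E (r + 1) p n) := by
  have hBB' := BSub_mono K r (r + 1) (Nat.le_succ r)
  have hZZ' := ZSub_anti K r (r + 1) (Nat.le_succ r)
  have hBZ1 : ∀ p n, K.BSub r p n ≤ K.ZSub (r + 1) p n :=
    fun p n => (hBB' p n).trans (K.BSub_le_ZSub (r + 1) p n)
  have hBZ2 : ∀ p n, K.BSub (r + 1) p n ≤ K.ZSub r p n :=
    fun p n => (K.BSub_le_ZSub (r + 1) p n).trans (hZZ' p n)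
  have hZB : P (subquot (K.ZSub (r + 1) p n) (K.BSub r p n) (hBZ1 p n)) := by
    obtain ⟨e⟩ := nonempty_iso_ZZ_BB K r p (p + (r : ℤ)) n (n + 1) rfl rfl
    exact (prop_of_iso_chain P h0 hP (hBZ1 p n) (hZZ' p n) (hBB' (p + (r : ℤ)) (n + 1))
      (hBZ2 (p + (r : ℤ)) (n + 1)) e (hr p n) (hr _ _)).1
  have hBB : P (subquot (K.BSub (r + 1) p n) (K.BSub r p n) (hBB' p n)) := by
    obtain ⟨e⟩ := nonempty_iso_ZZ_BB K r (p - (r : ℤ)) p (n - 1) n (by ring) (by ring)
    exact (prop_of_iso_chain P h0 hP (hBZ1 (p - (r : ℤ)) (n - 1)) (hZZ' (p - (r : ℤ)) (n - 1))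
      (hBB' p n) (hBZ2 p n) e (hr _ _) (hr p n)).2
  have he : Epi (sqProj (hBB' p n) (K.BSub_le_ZSub (r + 1) p n)) := epi_sqProj _ _
  have hfin : P (subquot (K.ZSub (r + 1) p n) (K.BSub (r + 1) p n)
      (K.BSub_le_ZSub (r + 1) p n)) :=
    prop_cokernel P h0 hP (sqInc (hBB' p n) (K.BSub_le_ZSub (r + 1) p n))
      (sqProj (hBB' p n) (K.BSub_le_ZSub (r + 1) p n)) (sqInc_sqProj _ _) (exact_sqSC _ _)
      hBB hZB
  exact hfin

theorem main (K : FilCx A) (hK : ∀ n : ℤ, (K.XFil n).IsFinite) (r : ℕ)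
    (hr : ∀ p n : ℤ, P (K.E r p n)) (n : ℤ) : P (K.obj.homology n) := by
  have hpage : ∀ s : ℕ, r ≤ s → ∀ p n : ℤ, P (K.E s p n) := by
    intro s hs
    induction s, hs using Nat.le_induction with
    | base => exact hr
    | succ s hs ih => exact fun p n => page_step P h0 hP K s ih p n
  obtain ⟨⟨a, ha⟩, ⟨b, hb⟩⟩ := hK n
  obtain ⟨_, ⟨b', hb'⟩⟩ := hK (n + 1)
  obtain ⟨⟨a', ha'⟩, _⟩ := hK (n - 1)
  have ha0 : K.filX a n = ⊤ := ha
  have hb0 : K.filX b n = ⊥ := hb
  have hb1 : K.filX b' (n + 1) = ⊥ := hb'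
  have ha1 : K.filX a' (n - 1) = ⊤ := ha'
  have hgr : ∀ p : ℤ, P (subquot (Zc K p (n - 1) n (n + 1)) (Zc K (p + 1) (n - 1) n (n + 1))
      (Zc_anti K p (n - 1) n (n + 1))) := by
    intro p
    obtain ⟨s, hs1, hs2, hs3⟩ : ∃ s : ℕ, r ≤ s ∧ b' ≤ p + (s : ℤ) ∧ p - (s : ℤ) + 1 ≤ a' := by
      refine ⟨r + (b' - p).toNat + (p + 1 - a').toNat, by omega, ?_, ?_⟩
      · have h2 := Int.self_le_toNat (b' - p)
        push_cast
        omega
      · have h2 := Int.self_le_toNat (p + 1 - a')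
        push_cast
        omega
    have hbot : K.filX (p + (s : ℤ)) (n + 1) = ⊥ :=
      eq_bot_iff.2 ((K.filX_anti (n + 1) hs2).trans_eq hb1)
    have htop : K.filX (p - (s : ℤ) + 1) (n - 1) = ⊤ :=
      eq_top_iff.2 (ha1.symm.trans_le (K.filX_anti (n - 1) hs3))
    obtain ⟨e⟩ := nonempty_iso_gr K s p (n - 1) n (n + 1) (by omega) rfl hbot htop
    exact P.prop_of_iso e.symm (hpage s hs1 p n)
  have hQbase : ∀ p : ℤ, b ≤ p → P (subquot (Zc K p (n - 1) n (n + 1))
      (imageSubobject (K.obj.d (n - 1) n)) (image_le_Zc K p (n - 1) n (n + 1))) := by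
    intro p hp
    apply prop_of_isZero P h0
    apply isZero_subquot_of_le
    have hpbot : K.filX p n = ⊥ := eq_bot_iff.2 ((K.filX_anti n hp).trans_eq hb0)
    unfold Zc
    rw [hpbot]
    exact sup_le (inf_le_left.trans bot_le) le_rfl
  have hQstep : ∀ p : ℤ, P (subquot (Zc K (p + 1) (n - 1) n (n + 1))
      (imageSubobject (K.obj.d (n - 1) n)) (image_le_Zc K (p + 1) (n - 1) n (n + 1))) →
      P (subquot (Zc K p (n - 1) n (n + 1))
      (imageSubobject (K.obj.d (n - 1) n)) (image_le_Zc K p (n - 1) n (n + 1))) := by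
    intro p hq
    exact prop_ext P h0 hP (sqSC_shortExact (image_le_Zc K (p + 1) (n - 1) n (n + 1))
      (Zc_anti K p (n - 1) n (n + 1))) hq (hgr p)
  have hQall : ∀ (k : ℕ) (p : ℤ), b ≤ p + (k : ℤ) → P (subquot (Zc K p (n - 1) n (n + 1))
      (imageSubobject (K.obj.d (n - 1) n)) (image_le_Zc K p (n - 1) n (n + 1))) := by
    intro k
    induction k with
    | zero =>
      intro p hp
      exact hQbase p (by simpa using hp)
    | succ k ih =>
      intro p hp
      exact hQstep p (ih (p + 1) (by push_cast at hp; omega))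
  have hQa := hQall (b - a).toNat a (by have := Int.self_le_toNat (b - a); omega)
  have hZa : Zc K a (n - 1) n (n + 1) = kernelSubobject (K.obj.d n (n + 1)) := by
    unfold Zc
    rw [ha0, top_inf_eq]
    exact sup_eq_left.2 (image_le_kernel K.obj (n - 1) n (n + 1))
  have hker : P (subquot (kernelSubobject (K.obj.d n (n + 1)))
      (imageSubobject (K.obj.d (n - 1) n)) (image_le_kernel K.obj (n - 1) n (n + 1))) :=
    prop_subquot_of_eq P hZa rfl _ _ hQa
  obtain ⟨e⟩ := nonempty_homology_iso K.obj (n - 1) n (n + 1) (by omega) rfl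
  exact P.prop_of_iso e hker

end main

end Groth.Agent.Lib.LeadSpSeq3
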