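import Mathlib

set_option autoImplicit false
set_option maxHeartbeats 400000
set_option linter.style.haveILetI false
set_option linter.unusedSectionVars false
set_option linter.unusedVariables false

/-! A finite field extension: primitive element of the separable closure, and `p^N`-th powers. -/

namespace Groth.Agent.Lib.LeadSpc

open Polynomial IntermediateField

theorem exists_sep_prim (k F : Type*) [Field k] [Field F] [Algebra k F] [FiniteDimensional k F]
    (p : ℕ) [ExpChar k p] :
    ∃ (θ : F) (N : ℕ), (minpoly k θ).Separable ∧
      (minpoly k θ).natDegree = Field.finSepDegree k F ∧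
      Module.finrank (separableClosure k F) F = p ^ N ∧
      ∀ a : F, ∃ g : k[X], a ^ (p ^ N) = aeval θ g := by
  classical
  haveI : Algebra.IsSeparable k (separableClosure k F) := separableClosure.isSeparable k F
  haveI : IsPurelyInseparable (separableClosure k F) F := separableClosure.isPurelyInseparable k F
  haveI : ExpChar (separableClosure k F) p :=
    expChar_of_injective_algebraMap (algebraMap k (separableClosure k F)).injective p
  obtain ⟨α, hα⟩ := Field.exists_primitive_element k (separableClosure k F)
  obtain ⟨N, hN⟩ := IsPurelyInseparable.finrank_eq_pow (F := separableClosure k F) F p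
  have hint : IsIntegral k α := Algebra.IsIntegral.isIntegral α
  have hmin : minpoly k (α : F) = minpoly k α :=
    minpoly.algebraMap_eq (algebraMap (separableClosure k F) F).injective α
  refine ⟨(α : F), N, ?_, ?_, hN, ?_⟩
  · rw [hmin]
    exact Algebra.IsSeparable.isSeparable k α
  · rw [hmin, ← IntermediateField.adjoin.finrank hint, hα, IntermediateField.finrank_top',
      Field.finSepDegree_eq, Field.sepDegree]
    rfl
  · intro a
    obtain ⟨n, y, hy⟩ := IsPurelyInseparable.minpoly_eq_X_pow_sub_C (separableClosure k F) p a
    have hdvd : p ^ n ∣ p ^ N := by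
      rw [← hN]
      have := minpoly.degree_dvd (K := separableClosure k F) (x := a)
        (Algebra.IsIntegral.isIntegral a)
      rwa [hy, natDegree_sub_C, natDegree_X_pow] at this
    obtain ⟨r, hr⟩ := hdvd
    have hay : a ^ (p ^ n) = (y : F) := by
      have := minpoly.aeval (separableClosure k F) a
      rw [hy] at this
      simpa [sub_eq_zero] using this
    have hpow : a ^ (p ^ N) = ((y ^ r : separableClosure k F) : F) := by
      rw [hr, pow_mul, hay]
      rfl
    have hmem : (y ^ r : separableClosure k F) ∈ (k⟮α⟯).toSubalgebra := by
      show (y ^ r : separableClosure k F) ∈ k⟮α⟯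
      rw [hα]; trivial
    have hmem2 : (y ^ r : separableClosure k F) ∈ (aeval (R := k) α).range := by
      rw [← Algebra.adjoin_singleton_eq_range_aeval,
        ← IntermediateField.adjoin_simple_toSubalgebra_of_isAlgebraic hint.isAlgebraic]
      exact hmem
    obtain ⟨g, hg⟩ := hmem2
    refine ⟨g, ?_⟩
    rw [hpow, ← hg]
    exact (Polynomial.aeval_algebraMap_apply F α g).symm

end Groth.Agent.Lib.LeadSpc
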