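import Groth.Agent.Lib.LeadNSh
import Groth.Agent.Lib.LeadCE3
import Groth.Agent.Lib.Helper7FunFldConst

set_option autoImplicit false
set_option maxHeartbeats 400000
set_option linter.style.haveILetI false
set_option linter.unusedSectionVars false
set_option linter.unusedVariables false

/-! Splitting fields of places: a place above a nonsingular place, over a constant field in which
the residue field of the latter "splits", has degree one. -/

namespace Groth.Agent.Lib.LeadSpl

attribute [-instance] IsLocalRing.instModuleResidueFieldOfAlgebra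

open Polynomial FunFld WithZero TensorProduct IsLocalRing Groth.Agent.Lib.LeadNST

universe u v

section Poly

variable {k₁ F : Type*} [Field k₁] [Field F] [Algebra k₁ F]

lemma map_mem_range_of_splits {k' Ω : Type*} [Field k'] [Field Ω] [Algebra k₁ k']
    (j : k' →+* Ω) (σ : F →+* Ω)
    (hσ : ∀ c : k₁, σ (algebraMap k₁ F c) = j (algebraMap k₁ k' c))
    {b : F} (hb : IsIntegral k₁ b) (hs : ((minpoly k₁ b).map (algebraMap k₁ k')).Splits) :
    σ b ∈ j.range := by
  refine Splits.mem_range_of_isRoot hs (Polynomial.map_ne_zero (minpoly.ne_zero hb)) (i := j) ?_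
  rw [IsRoot.def, Polynomial.map_map, Polynomial.eval_map]
  have : j.comp (algebraMap k₁ k') = σ.comp (algebraMap k₁ F) :=
    RingHom.ext fun c => (hσ c).symm
  rw [this, ← Polynomial.hom_eval₂, ← Polynomial.aeval_def, minpoly.aeval, map_zero]

theorem exists_poly (k₁ : Type u) (F : Type v) [Field k₁] [Field F] [Algebra k₁ F]
    [FiniteDimensional k₁ F] :
    ∃ g : k₁[X], g ≠ 0 ∧ ∀ (k' : Type u) [Field k'] [Algebra k₁ k'] (Ω : Type v) [Field Ω]
      (j : k' →+* Ω) (σ : F →+* Ω),
      (∀ c : k₁, σ (algebraMap k₁ F c) = j (algebraMap k₁ k' c)) →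
      (g.map (algebraMap k₁ k')).Splits → ∀ x : F, σ x ∈ j.range := by
  classical
  obtain ⟨s, hs⟩ := (Module.Finite.fg_top : (⊤ : Submodule k₁ F).FG)
  have hint : ∀ b : F, IsIntegral k₁ b := fun b => Algebra.IsIntegral.isIntegral b
  have hne : (∏ b ∈ s, minpoly k₁ b) ≠ 0 :=
    Finset.prod_ne_zero_iff.mpr fun b _ => minpoly.ne_zero (hint b)
  refine ⟨∏ b ∈ s, minpoly k₁ b, hne, ?_⟩
  intro k' _ _ Ω _ j σ hσ hsplit x
  have hx : x ∈ Submodule.span k₁ (s : Set F) := by rw [hs]; trivial
  induction hx using Submodule.span_induction with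
  | mem b hb =>
    apply map_mem_range_of_splits j σ hσ (hint b)
    exact Splits.of_dvd hsplit (Polynomial.map_ne_zero hne)
      (Polynomial.map_dvd _ (Finset.dvd_prod_of_mem _ hb))
  | zero => rw [map_zero]; exact j.range.zero_mem
  | add x y _ _ hx hy => rw [map_add]; exact j.range.add_mem hx hy
  | smul c x _ hx =>
    rw [Algebra.smul_def, map_mul, hσ]
    exact j.range.mul_mem ⟨_, rfl⟩ hx

end Poly

section Convert

variable {k K K' k' : Type*} [Field k] [Field K] [Field K'] [Field k'] [Algebra k K]
  [Algebra K K'] [Algebra k' K']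

lemma ns_convert (P : Place k K) [Algebra P.O K'] [IsScalarTower P.O K K']
    (hns : integralClosure (OE K' P) K' =
      Algebra.adjoin (OE K' P) (Set.range (algebraMap k' K'))) :
    (integralClosure P.O K').toSubring =
      (Algebra.adjoin P.O (Set.range (algebraMap k' K'))).toSubring := by
  let φ : P.O →+* OE K' P :=
    ((algebraMap K K').comp (algebraMap P.O K)).codRestrict (OE K' P)
      (fun x => ⟨(x : K), x.2, rfl⟩)
  have hφ : Function.Surjective φ := by
    rintro ⟨_, ⟨x, hx, rfl⟩⟩
    exact ⟨⟨x, hx⟩, rfl⟩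
  have hcomp : (algebraMap (OE K' P) K').comp φ = algebraMap P.O K' := by
    ext x
    show algebraMap K K' (x : K) = algebraMap P.O K' x
    rw [IsScalarTower.algebraMap_apply P.O K K']
    rfl
  have hint_iff : ∀ z : K', IsIntegral P.O z ↔ IsIntegral (OE K' P) z := by
    intro z
    constructor
    · rintro ⟨p, hp, hpz⟩
      refine ⟨p.map φ, hp.map φ, ?_⟩
      rw [Polynomial.eval₂_map, hcomp]
      exact hpz
    · rintro ⟨p, hp, hpz⟩
      obtain ⟨q, hq, -, hqm⟩ := Polynomial.lifts_and_degree_eq_and_monic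
        ((Polynomial.mem_lifts p).mpr (Polynomial.map_surjective φ hφ p)) hp
      refine ⟨q, hqm, ?_⟩
      rw [← hcomp, ← Polynomial.eval₂_map, hq]
      exact hpz
  have hadj1 : ∀ z : K', z ∈ Algebra.adjoin P.O (Set.range (algebraMap k' K')) →
      z ∈ Algebra.adjoin (OE K' P) (Set.range (algebraMap k' K')) := by
    intro z hz
    induction hz using Algebra.adjoin_induction with
    | mem x hx => exact Algebra.subset_adjoin hx
    | algebraMap r =>
      have : algebraMap P.O K' r = algebraMap (OE K' P) K' (φ r) := by rw [← hcomp]; rfl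
      rw [this]
      exact Subalgebra.algebraMap_mem _ _
    | add x y _ _ hx hy => exact Subalgebra.add_mem _ hx hy
    | mul x y _ _ hx hy => exact Subalgebra.mul_mem _ hx hy
  have hadj2 : ∀ z : K', z ∈ Algebra.adjoin (OE K' P) (Set.range (algebraMap k' K')) →
      z ∈ Algebra.adjoin P.O (Set.range (algebraMap k' K')) := by
    intro z hz
    induction hz using Algebra.adjoin_induction with
    | mem x hx => exact Algebra.subset_adjoin hx
    | algebraMap r =>
      obtain ⟨r', rfl⟩ := hφ r
      have : algebraMap (OE K' P) K' (φ r') = algebraMap P.O K' r' := by rw [← hcomp]; rfl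
      rw [this]
      exact Subalgebra.algebraMap_mem _ _
    | add x y _ _ hx hy => exact Subalgebra.add_mem _ hx hy
    | mul x y _ _ hx hy => exact Subalgebra.mul_mem _ hx hy
  ext z
  constructor
  · intro hz
    have h1 : IsIntegral P.O z := hz
    have h2 : z ∈ integralClosure (OE K' P) K' := (hint_iff z).mp h1
    rw [hns] at h2
    exact hadj2 z h2
  · intro hz
    have h1 : z ∈ Algebra.adjoin (OE K' P) (Set.range (algebraMap k' K')) := hadj1 z hz
    rw [← hns] at h1
    exact (hint_iff z).mpr h1

end Convert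

section Core

variable {k₁ k' K₁ K' : Type*} [Field k₁] [Field k'] [Field K₁] [Field K']
  [Algebra k₁ k'] [Algebra k₁ K₁] [Algebra K₁ K'] [Algebra k' K'] [Algebra k₁ K']
  [IsScalarTower k₁ k' K'] [IsScalarTower k₁ K₁ K']

variable (k₁) in
/-- a place over `k'` is a place over `k₁`. -/
def down (Q : Place k' K') : Place k₁ K' :=
  ⟨Q.1, fun c => by rw [IsScalarTower.algebraMap_apply k₁ k' K']; exact Q.2.1 _, Q.2.2⟩

theorem deg_eq_one [FiniteDimensional k₁ k']
    (h : Function.Bijective (Algebra.TensorProduct.productMap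
      (IsScalarTower.toAlgHom k₁ k' K') (IsScalarTower.toAlgHom k₁ K₁ K')))
    (hK₁ : IsFunctionField k₁ K₁) (P₁ : Place k₁ K₁) (Q : Place k' K')
    [P₁.1.HasExtension Q.1]
    (hns : integralClosure (OE K' P₁) K' =
      Algebra.adjoin (OE K' P₁) (Set.range (algebraMap k' K')))
    (hrange : ∀ x : ResidueField P₁.O,
      algebraMap (ResidueField P₁.O) (ResidueField Q.O) x ∈
        (algebraMap k' (ResidueField Q.O)).range) : Q.deg = 1 := by
  classical
  letI : Algebra P₁.O K' := ((algebraMap K₁ K').comp (algebraMap P₁.O K₁)).toAlgebra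
  haveI : IsScalarTower P₁.O K₁ K' := IsScalarTower.of_algebraMap_eq fun _ => rfl
  have hns' := ns_convert P₁ hns
  let Q' : Place k₁ K' := down k₁ Q
  haveI : P₁.1.HasExtension Q'.1 := ‹P₁.1.HasExtension Q.1›
  have hk' : ∀ c : k', Q'.1 (algebraMap k' K' c) ≤ 1 := fun c => Q.2.1 c
  have hadj := LeadCE.residue_adjoin_eq_top h hK₁ P₁ hns' Q' hk'
  have key : ∀ w : ResidueField Q.O, w ∈ Algebra.adjoin (ResidueField P₁.O)
      (Set.range fun c : k' => residue Q'.O ⟨algebraMap k' K' c, hk' c⟩) →
      w ∈ (algebraMap k' (ResidueField Q.O)).range := by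
    intro w hw
    induction hw using Algebra.adjoin_induction with
    | mem x hx =>
      obtain ⟨c, rfl⟩ := hx
      exact ⟨c, rfl⟩
    | algebraMap r => exact hrange r
    | add x y _ _ hx hy => exact Subring.add_mem _ hx hy
    | mul x y _ _ hx hy => exact Subring.mul_mem _ hx hy
  have hsurj : ∀ z : ResidueField Q.O, ∃ c : k', algebraMap k' (ResidueField Q.O) c = z := by
    intro z
    have hz : z ∈ Algebra.adjoin (ResidueField P₁.O)
        (Set.range fun c : k' => residue Q'.O ⟨algebraMap k' K' c, hk' c⟩) := by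
      rw [hadj]; trivial
    exact key z hz
  show Module.finrank k' (ResidueField Q.O) = 1
  rw [finrank_eq_one_iff_of_nonzero' (1 : ResidueField Q.O) one_ne_zero]
  intro w
  obtain ⟨c, hc⟩ := hsurj w
  exact ⟨c, by rw [← hc, Algebra.algebraMap_eq_smul_one]⟩

end Core

end Groth.Agent.Lib.LeadSpl
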