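import Groth.Agent.Lib.LeadSpcA
import Groth.Agent.Lib.LeadSplA
import Groth.Agent.Lib.LeadZT1

set_option autoImplicit false
set_option maxHeartbeats 400000
set_option linter.style.haveILetI false
set_option linter.unusedSectionVars false
set_option linter.unusedVariables false

/-! Places above a nonsingular place in a splitting constant field extension: local lemmas. -/

namespace Groth.Agent.Lib.LeadSpc

attribute [-instance] IsLocalRing.instModuleResidueFieldOfAlgebra

open Polynomial FunFld WithZero TensorProduct IsLocalRing Groth.Agent.Lib.LeadNST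
  Groth.Agent.Lib.LeadFG

section Local

variable {k' K' : Type*} [Field k'] [Field K'] [Algebra k' K']

lemma val_aeval_sub_eval_lt (Q : Place k' K') {s : K'} {γ : k'}
    (hs : Q.1 (s - algebraMap k' K' γ) < 1) (G : k'[X]) :
    Q.1 (aeval s G - algebraMap k' K' (G.eval γ)) < 1 := by
  have hk := place_trivOn Q
  have h1 := val_aeval_sub_coeff_zero_lt hk hs (G.comp (X + C γ))
  have h2 : aeval (s - algebraMap k' K' γ) (G.comp (X + C γ)) = aeval s G := by
    rw [aeval_comp]; simp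
  have h3 : (G.comp (X + C γ)).coeff 0 = G.eval γ := by
    rw [coeff_zero_eq_eval_zero, eval_comp]; simp
  rwa [h2, h3] at h1

lemma val_le_one_of_sub_lt (Q : Place k' K') {s : K'} {γ : k'}
    (hs : Q.1 (s - algebraMap k' K' γ) < 1) : Q.1 s ≤ 1 := by
  have : s = (s - algebraMap k' K' γ) + algebraMap k' K' γ := by ring
  rw [this]
  exact (Q.1.map_add _ _).trans (max_le hs.le (Q.2.1 γ))

lemma eval_eq_zero_of_lt (Q : Place k' K') {s : K'} {γ : k'}
    (hs : Q.1 (s - algebraMap k' K' γ) < 1) {G : k'[X]} (hG : Q.1 (aeval s G) < 1) :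
    G.eval γ = 0 := by
  by_contra hne
  have h1 := val_aeval_sub_eval_lt Q hs G
  have h2 : Q.1 (algebraMap k' K' (G.eval γ)) = 1 := place_trivOn Q _ hne
  have h3 : algebraMap k' K' (G.eval γ) =
      aeval s G - (aeval s G - algebraMap k' K' (G.eval γ)) := by ring
  have h4 : Q.1 (algebraMap k' K' (G.eval γ)) < 1 := by
    rw [h3]
    exact lt_of_le_of_lt (Valuation.map_sub _ _ _) (max_lt hG h1)
  rw [h2] at h4
  exact lt_irrefl _ h4

lemma val_eq_one_of_eval_ne (Q : Place k' K') {s : K'} {γ : k'}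
    (hs : Q.1 (s - algebraMap k' K' γ) < 1) {G : k'[X]} (hG : G.eval γ ≠ 0) :
    Q.1 (aeval s G) = 1 := by
  have h1 := val_aeval_sub_eval_lt Q hs G
  have h2 : Q.1 (algebraMap k' K' (G.eval γ)) = 1 := place_trivOn Q _ hG
  have h3 : Q.1 (aeval s G) = Q.1 (algebraMap k' K' (G.eval γ)) :=
    Valuation.map_eq_of_sub_lt Q.1 (by rw [h2]; exact h1)
  rw [h3, h2]

lemma exists_const (Q : Place k' K') (hdeg : Q.deg = 1) {s : K'} (hs : Q.1 s ≤ 1) :
    ∃ γ : k', Q.1 (s - algebraMap k' K' γ) < 1 := by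
  have h1 : Module.finrank k' (ResidueField Q.O) = 1 := hdeg
  rw [finrank_eq_one_iff_of_nonzero' (1 : ResidueField Q.O) one_ne_zero] at h1
  obtain ⟨γ, hγ⟩ := h1 (residue Q.O ⟨s, hs⟩)
  refine ⟨γ, ?_⟩
  have h2 : residue Q.O (⟨s, hs⟩ - algebraMap k' Q.O γ) = 0 := by
    rw [map_sub, ← hγ, Algebra.smul_def, mul_one]
    exact sub_self _
  rw [LeadFG.residue_eq_zero_iff] at h2
  exact h2

lemma sep_cofactor {M M₁ : k'[X]} {γ : k'} (hsep : M.Separable) (h : M = (X - C γ) * M₁) :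
    M₁.eval γ ≠ 0 := by
  intro h0
  obtain ⟨M₂, hM₂⟩ := dvd_iff_isRoot.mpr h0
  have hsq : (X - C γ) * (X - C γ) ∣ M := ⟨M₂, by rw [h, hM₂]; ring⟩
  exact not_isUnit_X_sub_C γ (hsep.squarefree _ hsq)

lemma val_le_of_root (Q : Place k' K') {s : K'} {γ : k'}
    (hs : Q.1 (s - algebraMap k' K' γ) < 1)
    {M : k'[X]} (hsep : M.Separable) {b : WithZero (Multiplicative ℤ)} (hb : b < 1)
    (hM : Q.1 (aeval s M) ≤ b)
    {G : k'[X]} (hG : G.eval γ = 0) : Q.1 (aeval s G) ≤ b := by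
  have hMγ : M.eval γ = 0 := eval_eq_zero_of_lt Q hs (lt_of_le_of_lt hM hb)
  obtain ⟨M₁, hM₁⟩ := dvd_iff_isRoot.mpr hMγ
  obtain ⟨G₁, hG₁⟩ := dvd_iff_isRoot.mpr hG
  have hne := sep_cofactor hsep hM₁
  have h1 : Q.1 (aeval s M₁) = 1 := val_eq_one_of_eval_ne Q hs hne
  have hs1 : Q.1 s ≤ 1 := val_le_one_of_sub_lt Q hs
  have h2 : Q.1 (aeval s G₁) ≤ 1 := val_aeval_le_one (place_trivOn Q) hs1 G₁
  have h3 : aeval s G * aeval s M₁ = aeval s G₁ * aeval s M := by
    rw [← map_mul, ← map_mul]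
    congr 1
    rw [hG₁, hM₁]; ring
  calc Q.1 (aeval s G) = Q.1 (aeval s G) * Q.1 (aeval s M₁) := by rw [h1, mul_one]
    _ = Q.1 (aeval s G₁) * Q.1 (aeval s M) := by rw [← map_mul, h3, map_mul]
    _ ≤ 1 * b := mul_le_mul' h2 hM
    _ = b := one_mul _

end Local

section Res

variable {k K : Type*} [Field k] [Field K] [Algebra k K]

lemma coe_eval_map (Q : Place k K) (g : k[X]) (x : Q.O) :
    (((g.map (algebraMap k Q.O)).eval x : Q.O) : K) = aeval (x : K) g := by
  rw [eval_map, aeval_def]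
  exact hom_eval₂ g (algebraMap k Q.O) Q.O.subtype x

lemma residue_eval_map (Q : Place k K) (g : k[X]) (x : Q.O) :
    IsLocalRing.residue Q.O ((g.map (algebraMap k Q.O)).eval x) =
      aeval (IsLocalRing.residue Q.O x) g := by
  rw [eval_map, aeval_def]
  exact hom_eval₂ g (algebraMap k Q.O) (IsLocalRing.residue Q.O) x

end Res

section Global

variable {k k' K K' : Type*} [Field k] [Field k'] [Field K] [Field K']
  [Algebra k k'] [Algebra k K] [Algebra K K'] [Algebra k' K'] [Algebra k K']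
  [IsScalarTower k k' K'] [IsScalarTower k K K']

lemma exp_neg_le_one (e : ℕ) : (exp (-(e : ℤ)) : WithZero (Multiplicative ℤ)) ≤ 1 := by
  rw [← exp_zero, exp_le_exp]; omega

theorem exists_poly_approx (p N : ℕ) [ExpChar k p] (P : Place k K) (θ : K) (hθ : P.1 θ ≤ 1)
    (hS : ∀ a : K, P.1 a ≤ 1 → ∃ g : k[X], P.1 (a ^ (p ^ N) - aeval θ g) < 1)
    (z : K') (hz : z ∈ Algebra.adjoin (OE K' P) (Set.range (algebraMap k' K'))) :
    ∃ G : k'[X], ∀ (Q : Place k' K') (e : ℕ),
      (∀ x : K, Q.1 (algebraMap K K' x) = P.1 x ^ e) →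
      Q.1 (z ^ (p ^ N) - aeval (algebraMap K K' θ) G) ≤ exp (-(e : ℤ)) := by
  haveI : ExpChar K' p := expChar_of_injective_algebraMap (algebraMap k K').injective p
  have key : ∀ w : K', w ∈ Algebra.adjoin (OE K' P) (Set.range (algebraMap k' K')) →
      ∃ G : k'[X], ∀ (Q : Place k' K') (e : ℕ),
        (∀ x : K, Q.1 (algebraMap K K' x) = P.1 x ^ e) →
        Q.1 (w ^ (p ^ N) - aeval (algebraMap K K' θ) G) ≤ exp (-(e : ℤ)) := by
    intro w hw
    induction hw using Algebra.adjoin_induction with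
    | mem x hx =>
      obtain ⟨c, rfl⟩ := hx
      refine ⟨C (c ^ (p ^ N)), fun Q e _ => ?_⟩
      rw [aeval_C, map_pow, sub_self, map_zero]
      exact zero_le
    | algebraMap r =>
      obtain ⟨a, ha, hr⟩ := r.2
      have ha' : P.1 a ≤ 1 := ha
      obtain ⟨g, hg⟩ := hS a ha'
      refine ⟨g.map (algebraMap k k'), fun Q e hQ => ?_⟩
      have h1 : algebraMap (OE K' P) K' r = algebraMap K K' a := hr.symm
      rw [h1, aeval_map_algebraMap, aeval_algebraMap_apply, ← map_pow, ← map_sub, hQ]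
      have h2 : P.1 (a ^ (p ^ N) - aeval θ g) ≤ exp (-1 : ℤ) := LeadFF.zm0_lt_one_iff.mp hg
      calc P.1 (a ^ (p ^ N) - aeval θ g) ^ e ≤ (exp (-1 : ℤ)) ^ e :=
            pow_le_pow_left₀ zero_le h2 e
        _ = exp (-(e : ℤ)) := by rw [LeadFF.zm0_exp_pow]; congr 1; ring
    | add x y _ _ hx hy =>
      obtain ⟨G, hG⟩ := hx
      obtain ⟨G', hG'⟩ := hy
      refine ⟨G + G', fun Q e hQ => ?_⟩
      have : (x + y) ^ (p ^ N) - aeval (algebraMap K K' θ) (G + G') =
          (x ^ (p ^ N) - aeval (algebraMap K K' θ) G) +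
            (y ^ (p ^ N) - aeval (algebraMap K K' θ) G') := by
        rw [add_pow_expChar_pow, map_add]; ring
      rw [this]
      exact (Q.1.map_add _ _).trans (max_le (hG Q e hQ) (hG' Q e hQ))
    | mul x y _ _ hx hy =>
      obtain ⟨G, hG⟩ := hx
      obtain ⟨G', hG'⟩ := hy
      refine ⟨G * G', fun Q e hQ => ?_⟩
      have hθ' : Q.1 (algebraMap K K' θ) ≤ 1 := by rw [hQ]; exact pow_le_one' hθ e
      have hG1 : Q.1 (aeval (algebraMap K K' θ) G') ≤ 1 :=
        val_aeval_le_one (place_trivOn Q) hθ' G'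
      have hG0 : Q.1 (aeval (algebraMap K K' θ) G) ≤ 1 :=
        val_aeval_le_one (place_trivOn Q) hθ' G
      have hx1 : Q.1 (x ^ (p ^ N)) ≤ 1 := by
        have : x ^ (p ^ N) =
            (x ^ (p ^ N) - aeval (algebraMap K K' θ) G) + aeval (algebraMap K K' θ) G := by ring
        rw [this]
        exact (Q.1.map_add _ _).trans (max_le ((hG Q e hQ).trans (exp_neg_le_one e)) hG0)
      have : (x * y) ^ (p ^ N) - aeval (algebraMap K K' θ) (G * G') =
          x ^ (p ^ N) * (y ^ (p ^ N) - aeval (algebraMap K K' θ) G') +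
            (x ^ (p ^ N) - aeval (algebraMap K K' θ) G) * aeval (algebraMap K K' θ) G' := by
        rw [mul_pow, map_mul]; ring
      rw [this]
      refine (Q.1.map_add _ _).trans (max_le ?_ ?_)
      · rw [map_mul]
        calc Q.1 (x ^ (p ^ N)) * Q.1 (y ^ (p ^ N) - aeval (algebraMap K K' θ) G')
            ≤ 1 * exp (-(e : ℤ)) := mul_le_mul' hx1 (hG' Q e hQ)
          _ = _ := one_mul _
      · rw [map_mul]
        calc Q.1 (x ^ (p ^ N) - aeval (algebraMap K K' θ) G) *
              Q.1 (aeval (algebraMap K K' θ) G')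
            ≤ exp (-(e : ℤ)) * 1 := mul_le_mul' (hG Q e hQ) hG1
          _ = _ := mul_one _
  exact key z hz

end Global

end Groth.Agent.Lib.LeadSpc
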