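import Groth.Agent.Lib.LeadSpcB

set_option autoImplicit false
set_option maxHeartbeats 800000
set_option linter.style.haveILetI false
set_option linter.unusedSectionVars false
set_option linter.unusedVariables false

/-! Places above a nonsingular place in a splitting constant field extension: global lemmas. -/

namespace Groth.Agent.Lib.LeadSpc

attribute [-instance] IsLocalRing.instModuleResidueFieldOfAlgebra

open Polynomial FunFld WithZero TensorProduct IsLocalRing Groth.Agent.Lib.LeadNST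
  Groth.Agent.Lib.LeadFG

variable {k k' K K' : Type*} [Field k] [Field k'] [Field K] [Field K']
  [Algebra k k'] [Algebra k K] [Algebra K K'] [Algebra k' K'] [Algebra k K']
  [IsScalarTower k k' K'] [IsScalarTower k K K']

variable (k' K') in
/-- the places of `K'/k'` above `P`. -/
def Ov (P : Place k K) : Set (Place k' K') :=
  {Q | ∃ e : ℕ, ∀ z : K, Q.1 (algebraMap K K' z) = P.1 z ^ e}

lemma down_injective :
    Function.Injective (LeadSpl.down k : Place k' K' → Place k K') := fun A B hAB =>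
  Subtype.ext (congrArg (fun R : Place k K' => R.1) hAB)

lemma exp_pos_of_ov {P : Place k K} {Q : Place k' K'} {e : ℕ}
    (he : ∀ z : K, Q.1 (algebraMap K K' z) = P.1 z ^ e) : 0 < e := by
  rcases Nat.eq_zero_or_pos e with rfl | h
  · have := he 0
    simp at this
  · exact h

variable [FiniteDimensional k k']

lemma ov_finite
    (h : Function.Bijective (Algebra.TensorProduct.productMap
      (IsScalarTower.toAlgHom k k' K') (IsScalarTower.toAlgHom k K K')))
    (hK : IsFunctionField k K) (P : Place k K) : (Ov k' K' P).Finite := by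
  haveI : FiniteDimensional K K' := LeadCE.finiteDimensional_of_surjective h.2
  refine Set.Finite.subset (Set.Finite.preimage (down_injective (k := k) (k' := k')
    (K' := K')).injOn (LeadFF.finite_over (K' := K') hK P)) ?_
  rintro Q ⟨e, he⟩
  exact ⟨e, fun z => he z⟩

lemma mem_adjoin_of_forall
    (h : Function.Bijective (Algebra.TensorProduct.productMap
      (IsScalarTower.toAlgHom k k' K') (IsScalarTower.toAlgHom k K K')))
    (hK : IsFunctionField k K) (P : Place k K)
    (hns : integralClosure (OE K' P) K' =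
      Algebra.adjoin (OE K' P) (Set.range (algebraMap k' K')))
    {y : K'} (hy : ∀ Q : Place k' K', Q ∈ Ov k' K' P → Q.1 y ≤ 1) :
    y ∈ Algebra.adjoin (OE K' P) (Set.range (algebraMap k' K')) := by
  haveI : FiniteDimensional K K' := LeadCE.finiteDimensional_of_surjective h.2
  have hint : IsIntegral (OE K' P) y := by
    apply LeadNST.isIntegral_of_forall_over (LeadFG.IsFF.of_isFunctionField hK) P
    intro Q' hQ'
    obtain ⟨e, he⟩ := hQ'
    exact hy (LeadZT.up Q') ⟨e, fun z => he z⟩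
  have : y ∈ integralClosure (OE K' P) K' := hint
  rwa [hns] at this

section Main

variable
    (h : Function.Bijective (Algebra.TensorProduct.productMap
      (IsScalarTower.toAlgHom k k' K') (IsScalarTower.toAlgHom k K K')))
    (hK : IsFunctionField k K) (P : Place k K)
    (hns : integralClosure (OE K' P) K' =
      Algebra.adjoin (OE K' P) (Set.range (algebraMap k' K')))
    (hsplit : ∀ Q : Place k' K', Q ∈ Ov k' K' P → Q.deg = 1)
    (p N : ℕ) [ExpChar k p] (θ : K) (hθ : P.1 θ ≤ 1)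
    (hS : ∀ a : K, P.1 a ≤ 1 → ∃ g : k[X], P.1 (a ^ (p ^ N) - aeval θ g) < 1)
    (m : k[X]) (hm : m.Separable) (hmθ : P.1 (aeval θ m) < 1)

include h hK hns hsplit hθ hS hm hmθ

theorem ramIdx_le (Q : Place k' K') (e : ℕ)
    (he : ∀ z : K, Q.1 (algebraMap K K' z) = P.1 z ^ e) : e ≤ p ^ N := by
  classical
  have hfin := ov_finite h hK P
  have he0 : 0 < e := exp_pos_of_ov he
  have hQ : Q ∈ Ov k' K' P := ⟨e, he⟩
  have hq0 : 0 < p ^ N := Nat.pow_pos (expChar_pos k p)
  obtain ⟨s, hs⟩ := LeadFG.exists_unif Q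
  obtain ⟨y, hy⟩ := LeadFG.weak_approx hfin.toFinset (fun R => if R = Q then s else 0)
    (fun R => if R = Q then -2 else 0)
  have hyQ : Q.1 y = exp (-1 : ℤ) := by
    have h1 := hy Q (hfin.mem_toFinset.mpr hQ)
    rw [if_pos rfl, if_pos rfl] at h1
    have : Q.1 y = Q.1 s :=
      Valuation.map_eq_of_sub_lt Q.1 (by rw [h1, hs, exp_lt_exp]; norm_num)
    rw [this, hs]
  have hyall : ∀ R : Place k' K', R ∈ Ov k' K' P → R.1 y ≤ 1 := by
    intro R hR
    by_cases hRQ : R = Q
    · rw [hRQ, hyQ, ← exp_zero, exp_le_exp]; norm_num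
    · have h1 := hy R (hfin.mem_toFinset.mpr hR)
      rw [if_neg hRQ, if_neg hRQ, sub_zero, exp_zero] at h1
      exact h1.le
  have hmem := mem_adjoin_of_forall h hK P hns hyall
  obtain ⟨G, hG⟩ := exists_poly_approx p N P θ hθ hS y hmem
  have hGQ := hG Q e he
  have hθ' : Q.1 (algebraMap K K' θ) ≤ 1 := by rw [he]; exact pow_le_one' hθ e
  obtain ⟨γ, hγ⟩ := exists_const Q (hsplit Q hQ) hθ'
  have hexp_lt : (exp (-(e : ℤ)) : WithZero (Multiplicative ℤ)) < 1 := by
    rw [← exp_zero, exp_lt_exp]; omega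
  have hyq : Q.1 (y ^ (p ^ N)) < 1 := by
    rw [map_pow, hyQ, LeadFF.zm0_exp_pow, ← exp_zero, exp_lt_exp]
    have : (0 : ℤ) < ((p ^ N : ℕ) : ℤ) := by exact_mod_cast hq0
    linarith
  have hGlt : Q.1 (aeval (algebraMap K K' θ) G) < 1 := by
    have : aeval (algebraMap K K' θ) G =
        y ^ (p ^ N) - (y ^ (p ^ N) - aeval (algebraMap K K' θ) G) := by ring
    rw [this]
    exact lt_of_le_of_lt (Valuation.map_sub _ _ _) (max_lt hyq (lt_of_le_of_lt hGQ hexp_lt))
  have hGγ : G.eval γ = 0 := eval_eq_zero_of_lt Q hγ hGlt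
  have hM : Q.1 (aeval (algebraMap K K' θ) (m.map (algebraMap k k'))) ≤ exp (-(e : ℤ)) := by
    rw [aeval_map_algebraMap, aeval_algebraMap_apply, he]
    calc P.1 (aeval θ m) ^ e ≤ (exp (-1 : ℤ)) ^ e :=
          pow_le_pow_left₀ zero_le (LeadFF.zm0_lt_one_iff.mp hmθ) e
      _ = exp (-(e : ℤ)) := by rw [LeadFF.zm0_exp_pow]; congr 1; ring
  have hGle := val_le_of_root Q hγ (hm.map (f := algebraMap k k')) hexp_lt hM hGγ
  have hyle : Q.1 (y ^ (p ^ N)) ≤ exp (-(e : ℤ)) := by
    have : y ^ (p ^ N) =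
        (y ^ (p ^ N) - aeval (algebraMap K K' θ) G) + aeval (algebraMap K K' θ) G := by ring
    rw [this]
    exact (Q.1.map_add _ _).trans (max_le hGQ hGle)
  rw [map_pow, hyQ, LeadFF.zm0_exp_pow, exp_le_exp] at hyle
  have : ((e : ℕ) : ℤ) ≤ ((p ^ N : ℕ) : ℤ) := by linarith
  exact_mod_cast this

theorem const_injective (Q Q' : Place k' K') (hQ : Q ∈ Ov k' K' P) (hQ' : Q' ∈ Ov k' K' P)
    (γ : k') (hγ : Q.1 (algebraMap K K' θ - algebraMap k' K' γ) < 1)
    (hγ' : Q'.1 (algebraMap K K' θ - algebraMap k' K' γ) < 1) : Q = Q' := by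
  classical
  by_contra hne
  haveI : ExpChar K' p := expChar_of_injective_algebraMap (algebraMap k K').injective p
  have hfin := ov_finite h hK P
  have hq0 : 0 < p ^ N := Nat.pow_pos (expChar_pos k p)
  have hqlt : (exp (-1 : ℤ) : WithZero (Multiplicative ℤ)) ^ (p ^ N) < 1 := by
    rw [LeadFF.zm0_exp_pow, ← exp_zero, exp_lt_exp]
    have : (0 : ℤ) < ((p ^ N : ℕ) : ℤ) := by exact_mod_cast hq0
    linarith
  obtain ⟨e, he⟩ := hQ
  obtain ⟨e', he'⟩ := hQ'
  have he0 : 0 < e := exp_pos_of_ov he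
  have he'0 : 0 < e' := exp_pos_of_ov he'
  obtain ⟨y, hy⟩ := LeadFG.weak_approx hfin.toFinset (fun R => if R = Q' then 1 else 0)
    (fun R => if R = Q ∨ R = Q' then -1 else 0)
  have hyQ : Q.1 y = exp (-1 : ℤ) := by
    have h1 := hy Q (hfin.mem_toFinset.mpr ⟨e, he⟩)
    rw [if_neg hne, if_pos (Or.inl rfl), sub_zero] at h1
    exact h1
  have hyQ' : Q'.1 (y - 1) = exp (-1 : ℤ) := by
    have h1 := hy Q' (hfin.mem_toFinset.mpr ⟨e', he'⟩)
    rw [if_pos rfl, if_pos (Or.inr rfl)] at h1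
    exact h1
  have hlt1 : (exp (-1 : ℤ) : WithZero (Multiplicative ℤ)) < 1 := by
    rw [← exp_zero, exp_lt_exp]; norm_num
  have hyall : ∀ R : Place k' K', R ∈ Ov k' K' P → R.1 y ≤ 1 := by
    intro R hR
    by_cases hRQ : R = Q
    · rw [hRQ, hyQ]; exact hlt1.le
    · by_cases hRQ' : R = Q'
      · rw [hRQ']
        have : y = (y - 1) + 1 := by ring
        rw [this]
        refine (Q'.1.map_add _ _).trans (max_le ?_ ?_)
        · rw [hyQ']; exact hlt1.le
        · rw [map_one]
      · have h1 := hy R (hfin.mem_toFinset.mpr hR)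
        rw [if_neg hRQ', if_neg (by tauto), sub_zero, exp_zero] at h1
        exact h1.le
  have hmem := mem_adjoin_of_forall h hK P hns hyall
  obtain ⟨G, hG⟩ := exists_poly_approx p N P θ hθ hS y hmem
  have hGQ := hG Q e he
  have hGQ' := hG Q' e' he'
  have hexp_lt : ∀ n : ℕ, 0 < n → (exp (-(n : ℤ)) : WithZero (Multiplicative ℤ)) < 1 := by
    intro n hn
    rw [← exp_zero, exp_lt_exp]; omega
  -- at `Q`
  have hyq : Q.1 (y ^ (p ^ N)) < 1 := by rw [map_pow, hyQ]; exact hqlt
  have hGlt : Q.1 (aeval (algebraMap K K' θ) G) < 1 := by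
    have : aeval (algebraMap K K' θ) G =
        y ^ (p ^ N) - (y ^ (p ^ N) - aeval (algebraMap K K' θ) G) := by ring
    rw [this]
    exact lt_of_le_of_lt (Valuation.map_sub _ _ _)
      (max_lt hyq (lt_of_le_of_lt hGQ (hexp_lt e he0)))
  have hGγ : G.eval γ = 0 := eval_eq_zero_of_lt Q hγ hGlt
  -- at `Q'`
  have hyq' : Q'.1 (y ^ (p ^ N) - 1) < 1 := by
    have : y ^ (p ^ N) - 1 = (y - 1) ^ (p ^ N) := by
      rw [sub_pow_expChar_pow, one_pow]
    rw [this, map_pow, hyQ']
    exact hqlt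
  have hG1 : Q'.1 (aeval (algebraMap K K' θ) G - 1) < 1 := by
    have : aeval (algebraMap K K' θ) G - 1 =
        (y ^ (p ^ N) - 1) - (y ^ (p ^ N) - aeval (algebraMap K K' θ) G) := by ring
    rw [this]
    exact lt_of_le_of_lt (Valuation.map_sub _ _ _)
      (max_lt hyq' (lt_of_le_of_lt hGQ' (hexp_lt e' he'0)))
  have hG2 := val_aeval_sub_eval_lt Q' hγ' G
  rw [hGγ, map_zero, sub_zero] at hG2
  have : Q'.1 (1 : K') < 1 := by
    have h1 : (1 : K') = aeval (algebraMap K K' θ) G - (aeval (algebraMap K K' θ) G - 1) := by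
      ring
    rw [h1]
    exact lt_of_le_of_lt (Valuation.map_sub _ _ _) (max_lt hG2 hG1)
  rw [map_one] at this
  exact lt_irrefl _ this

theorem card_le : (ov_finite h hK P).toFinset.card ≤ m.natDegree := by
  classical
  have hfin := ov_finite h hK P
  have hγ : ∀ Q : Place k' K', Q ∈ Ov k' K' P →
      ∃ γ : k', Q.1 (algebraMap K K' θ - algebraMap k' K' γ) < 1 := by
    intro Q hQ
    obtain ⟨e, he⟩ := hQ
    exact exists_const Q (hsplit Q ⟨e, he⟩) (by rw [he]; exact pow_le_one' hθ e)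
  let γf : Place k' K' → k' := fun Q => if hQ : Q ∈ Ov k' K' P then (hγ Q hQ).choose else 0
  have hγf : ∀ (Q : Place k' K') (hQ : Q ∈ Ov k' K' P),
      Q.1 (algebraMap K K' θ - algebraMap k' K' (γf Q)) < 1 := by
    intro Q hQ
    simp only [γf, dif_pos hQ]
    exact (hγ Q hQ).choose_spec
  have hM0 : m.map (algebraMap k k') ≠ 0 := Polynomial.map_ne_zero hm.ne_zero
  have hroot : ∀ Q ∈ hfin.toFinset, γf Q ∈ (m.map (algebraMap k k')).roots.toFinset := by
    intro Q hQ
    have hQ' : Q ∈ Ov k' K' P := hfin.mem_toFinset.mp hQ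
    rw [Multiset.mem_toFinset, mem_roots hM0]
    obtain ⟨e, he⟩ := hQ'
    have he0 := exp_pos_of_ov he
    apply eval_eq_zero_of_lt Q (hγf Q ⟨e, he⟩)
    rw [aeval_map_algebraMap, aeval_algebraMap_apply, he]
    exact pow_lt_one' hmθ he0.ne'
  have hinj : Set.InjOn γf (hfin.toFinset : Set (Place k' K')) := by
    intro Q hQ Q' hQ' hEq
    have hQm : Q ∈ Ov k' K' P := hfin.mem_toFinset.mp hQ
    have hQm' : Q' ∈ Ov k' K' P := hfin.mem_toFinset.mp hQ'
    refine const_injective h hK P hns hsplit p N θ hθ hS m hm hmθ Q Q' hQm hQm' (γf Q)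
      (hγf Q hQm) ?_
    rw [hEq]
    exact hγf Q' hQm'
  calc hfin.toFinset.card ≤ (m.map (algebraMap k k')).roots.toFinset.card :=
        Finset.card_le_card_of_injOn γf hroot hinj
    _ ≤ Multiset.card (m.map (algebraMap k k')).roots := Multiset.toFinset_card_le _
    _ ≤ (m.map (algebraMap k k')).natDegree := card_roots' _
    _ = m.natDegree := natDegree_map _

end Main

theorem sum_ramIdx
    (h : Function.Bijective (Algebra.TensorProduct.productMap
      (IsScalarTower.toAlgHom k k' K') (IsScalarTower.toAlgHom k K K')))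
    (hK : IsFunctionField k K) (P : Place k K)
    (hsplit : ∀ Q : Place k' K', Q ∈ Ov k' K' P → Q.deg = 1) :
    ∑ Q ∈ (ov_finite h hK P).toFinset, ramIdx (LeadSpl.down k Q) P = P.deg := by
  classical
  haveI : FiniteDimensional K K' := LeadCE.finiteDimensional_of_surjective h.2
  have hfin := ov_finite h hK P
  have hQs : ∀ Q' : Place k K', Q' ∈ hfin.toFinset.image (LeadSpl.down k) ↔ IsOver Q' P := by
    intro Q'
    rw [Finset.mem_image]
    constructor
    · rintro ⟨Q, hQ, rfl⟩
      obtain ⟨e, he⟩ := hfin.mem_toFinset.mp hQ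
      exact ⟨e, fun z => he z⟩
    · rintro ⟨e, he⟩
      exact ⟨LeadZT.up Q', hfin.mem_toFinset.mpr ⟨e, fun z => he z⟩, Subtype.ext rfl⟩
  have hsum := LeadFF.sum_ramIdx_deg hK P (hfin.toFinset.image (LeadSpl.down k)) hQs
  rw [Finset.sum_image (fun a _ b _ hab => down_injective hab)] at hsum
  have hdeg : ∀ Q ∈ hfin.toFinset, (LeadSpl.down k Q).deg = Module.finrank k k' := by
    intro Q hQ
    have h1 := LeadZT.up_deg (k' := k') (LeadSpl.down k Q)
    have h2 : LeadZT.up (k' := k') (LeadSpl.down k Q) = Q := Subtype.ext rfl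
    rw [h2, hsplit Q (hfin.mem_toFinset.mp hQ), one_mul] at h1
    exact h1.symm
  rw [Finset.sum_congr rfl (fun Q hQ => by rw [hdeg Q hQ]), ← Finset.sum_mul,
    LeadZT.finrank_constExt h, mul_comm] at hsum
  exact Nat.eq_of_mul_eq_mul_left Module.finrank_pos hsum

end Groth.Agent.Lib.LeadSpc
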