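import Groth.Agent.Lib.LeadSpcC

set_option autoImplicit false
set_option maxHeartbeats 800000
set_option linter.style.haveILetI false
set_option linter.unusedSectionVars false
set_option linter.unusedVariables false

/-! Number of places above a nonsingular place in a splitting constant field extension, and their
ramification index. -/

namespace Groth.Agent.Lib.LeadSpc

attribute [-instance] IsLocalRing.instModuleResidueFieldOfAlgebra

open Polynomial FunFld WithZero TensorProduct IsLocalRing Groth.Agent.Lib.LeadNST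
  Groth.Agent.Lib.LeadFG

variable {k k' K K' : Type*} [Field k] [Field k'] [Field K] [Field K']
  [Algebra k k'] [FiniteDimensional k k'] [Algebra k K] [Algebra K K'] [Algebra k' K']
  [Algebra k K'] [IsScalarTower k k' K'] [IsScalarTower k K K']

theorem card_and_ramIdx
    (h : Function.Bijective (Algebra.TensorProduct.productMap
      (IsScalarTower.toAlgHom k k' K') (IsScalarTower.toAlgHom k K K')))
    (hK : IsFunctionField k K) (P : Place k K)
    (hns : integralClosure (OE K' P) K' =
      Algebra.adjoin (OE K' P) (Set.range (algebraMap k' K')))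
    (hsplit : ∀ Q : Place k' K',
      (∃ e : ℕ, ∀ z : K, Q.1 (algebraMap K K' z) = P.1 z ^ e) → Q.deg = 1) :
    {Q : Place k' K' | ∃ e : ℕ, ∀ z : K, Q.1 (algebraMap K K' z) = P.1 z ^ e}.Finite ∧
    {Q : Place k' K' | ∃ e : ℕ, ∀ z : K, Q.1 (algebraMap K K' z) = P.1 z ^ e}.ncard =
      Field.finSepDegree k (ResidueField P.O) ∧
    ∀ Q : Place k' K', (∃ e : ℕ, ∀ z : K, Q.1 (algebraMap K K' z) = P.1 z ^ e) →
      ∀ z : K, Q.1 (algebraMap K K' z) = P.1 z ^
        Module.finrank (separableClosure k (ResidueField P.O)) (ResidueField P.O) := by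
  classical
  haveI : FiniteDimensional K K' := LeadCE.finiteDimensional_of_surjective h.2
  haveI : ExpChar k (ringExpChar k) := ringExpChar.expChar k
  haveI : FiniteDimensional k (ResidueField P.O) := LeadFF.residueField_finite hK P
  obtain ⟨θb, N, hsep, hdeg, hq, hpow⟩ := exists_sep_prim k (ResidueField P.O) (ringExpChar k)
  obtain ⟨θO, hθO⟩ := residue_surjective θb
  have hθ : P.1 (θO : K) ≤ 1 := θO.2
  have hS : ∀ a : K, P.1 a ≤ 1 →
      ∃ g : k[X], P.1 (a ^ (ringExpChar k ^ N) - aeval (θO : K) g) < 1 := by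
    intro a ha
    obtain ⟨g, hg⟩ := hpow (residue P.O ⟨a, ha⟩)
    refine ⟨g, ?_⟩
    have h1 : residue P.O ((⟨a, ha⟩ : P.O) ^ (ringExpChar k ^ N) -
        (g.map (algebraMap k P.O)).eval θO) = 0 := by
      rw [map_sub, map_pow, residue_eval_map, hθO, hg, sub_self]
    rw [LeadFG.residue_eq_zero_iff] at h1
    have h2 : (((⟨a, ha⟩ : P.O) ^ (ringExpChar k ^ N) -
        (g.map (algebraMap k P.O)).eval θO : P.O) : K) =
        a ^ (ringExpChar k ^ N) - aeval (θO : K) g := by
      rw [← coe_eval_map]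
      rfl
    rwa [h2] at h1
  have hmθ : P.1 (aeval (θO : K) (minpoly k θb)) < 1 := by
    have h1 : residue P.O (((minpoly k θb).map (algebraMap k P.O)).eval θO) = 0 := by
      rw [residue_eval_map, hθO, minpoly.aeval]
    rw [LeadFG.residue_eq_zero_iff, coe_eval_map] at h1
    exact h1
  have hsplit' : ∀ Q : Place k' K', Q ∈ Ov k' K' P → Q.deg = 1 := fun Q hQ => hsplit Q hQ
  have hfin := ov_finite h hK P
  have hcard := card_le h hK P hns hsplit' (ringExpChar k) N (θO : K) hθ hS (minpoly k θb) hsep hmθ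
  have hram : ∀ (Q : Place k' K') (e : ℕ),
      (∀ z : K, Q.1 (algebraMap K K' z) = P.1 z ^ e) → e ≤ ringExpChar k ^ N :=
    ramIdx_le h hK P hns hsplit' (ringExpChar k) N (θO : K) hθ hS (minpoly k θb) hsep hmθ
  have hsum := sum_ramIdx h hK P hsplit'
  have hq0 : 0 < ringExpChar k ^ N := Nat.pow_pos (expChar_pos k (ringExpChar k))
  have hdegP : P.deg = Field.finSepDegree k (ResidueField P.O) * ringExpChar k ^ N := by
    show Module.finrank k (ResidueField P.O) = _
    rw [← Field.finSepDegree_mul_finInsepDegree k (ResidueField P.O), ← hq]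
    rfl
  have hcard' : hfin.toFinset.card ≤ Field.finSepDegree k (ResidueField P.O) := by
    rw [← hdeg]; exact hcard
  have hle : ∀ Q ∈ hfin.toFinset, ramIdx (LeadSpl.down k Q) P ≤ ringExpChar k ^ N := by
    intro Q hQ
    obtain ⟨e, he⟩ := hfin.mem_toFinset.mp hQ
    rw [LeadFF.ramIdx_eq (Q := LeadSpl.down k Q) (P := P) (e := e) (fun z => he z)]
    exact hram Q e he
  have h1 : ∑ Q ∈ hfin.toFinset, ramIdx (LeadSpl.down k Q) P ≤
      hfin.toFinset.card * ringExpChar k ^ N := by
    calc ∑ Q ∈ hfin.toFinset, ramIdx (LeadSpl.down k Q) P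
        ≤ ∑ Q ∈ hfin.toFinset, ringExpChar k ^ N := Finset.sum_le_sum hle
      _ = hfin.toFinset.card * ringExpChar k ^ N := by rw [Finset.sum_const, smul_eq_mul]
  rw [hsum, hdegP] at h1
  have h2 : Field.finSepDegree k (ResidueField P.O) ≤ hfin.toFinset.card :=
    Nat.le_of_mul_le_mul_right h1 hq0
  have hT : hfin.toFinset.card = Field.finSepDegree k (ResidueField P.O) := le_antisymm hcard' h2
  have heq : ∀ Q ∈ hfin.toFinset, ramIdx (LeadSpl.down k Q) P = ringExpChar k ^ N := by
    by_contra hcon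
    push Not at hcon
    obtain ⟨Q₀, hQ₀, hne⟩ := hcon
    have hlt : ramIdx (LeadSpl.down k Q₀) P < ringExpChar k ^ N :=
      lt_of_le_of_ne (hle Q₀ hQ₀) hne
    have : ∑ Q ∈ hfin.toFinset, ramIdx (LeadSpl.down k Q) P <
        ∑ Q ∈ hfin.toFinset, ringExpChar k ^ N := Finset.sum_lt_sum hle ⟨Q₀, hQ₀, hlt⟩
    rw [hsum, hdegP, Finset.sum_const, smul_eq_mul, hT] at this
    exact lt_irrefl _ this
  refine ⟨hfin, ?_, ?_⟩
  · exact (Set.ncard_eq_toFinset_card (Ov k' K' P) hfin).trans hT
  · intro Q hQ z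
    obtain ⟨e, he⟩ := hQ
    have h3 := heq Q (hfin.mem_toFinset.mpr ⟨e, he⟩)
    rw [LeadFF.ramIdx_eq (Q := LeadSpl.down k Q) (P := P) (e := e) (fun z => he z)] at h3
    rw [he, h3, hq]

end Groth.Agent.Lib.LeadSpc
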