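import Groth.Agent.Lib.LeadSplA

set_option autoImplicit false
set_option maxHeartbeats 800000
set_option linter.style.haveILetI false
set_option linter.unusedSectionVars false
set_option linter.unusedVariables false

/-! Existence of a finite splitting field for a place of a geometric function field, given a finite
extension of the constants over which the function field becomes nonsingular. -/

namespace Groth.Agent.Lib.LeadSpl

attribute [-instance] IsLocalRing.instModuleResidueFieldOfAlgebra

open Polynomial FunFld WithZero TensorProduct IsLocalRing Groth.Agent.Lib.LeadNST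
  Groth.Agent.Lib.LeadNS Groth.Agent.Lib.Helper7.FunFldConst

universe u v

lemma hasExtension_of_pow {K K' : Type*} [Field K] [Field K'] [Algebra K K']
    {v : Valuation K (WithZero (Multiplicative ℤ))}
    {w : Valuation K' (WithZero (Multiplicative ℤ))}
    {e : ℕ} (he : 0 < e) (h : ∀ x, w (algebraMap K K' x) = v x ^ e) : v.HasExtension w :=
  ⟨fun x y => by
    show v x ≤ v y ↔ w (algebraMap K K' x) ≤ w (algebraMap K K' y)
    rw [h, h, pow_le_pow_iff_left₀ zero_le zero_le he.ne']⟩

theorem exists_splitting (k : Type u) (K : Type v) [Field k] [Field K] [Algebra k K]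
    (hK : IsFunctionField k K) (hg : IsGeometric k K) (P : Place k K)
    (k₁ : Type u) [Field k₁] [Algebra k k₁] [FiniteDimensional k k₁]
    (H : ∀ (K' : Type v) [Field K'] [Algebra K K'] [Algebra k₁ K'] [Algebra k K']
        [IsScalarTower k k₁ K'] [IsScalarTower k K K'],
        Function.Bijective (Algebra.TensorProduct.productMap
          (IsScalarTower.toAlgHom k k₁ K') (IsScalarTower.toAlgHom k K K')) →
        ∀ (Q : Place k₁ K') (k'' : Type u) [Field k''] [Algebra k₁ k'']
          [FiniteDimensional k₁ k'']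
          (K'' : Type v) [Field K''] [Algebra K' K''] [Algebra k'' K''] [Algebra k₁ K'']
          [IsScalarTower k₁ k'' K''] [IsScalarTower k₁ K' K''],
          Function.Bijective (Algebra.TensorProduct.productMap
            (IsScalarTower.toAlgHom k₁ k'' K'') (IsScalarTower.toAlgHom k₁ K' K'')) →
          integralClosure (Q.O.toSubring.map (algebraMap K' K'')) K'' =
            Algebra.adjoin (Q.O.toSubring.map (algebraMap K' K''))
              (Set.range (algebraMap k'' K''))) :
    ∃ (k' : Type u) (_ : Field k') (_ : Algebra k k'), FiniteDimensional k k' ∧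
      ∀ (K' : Type v) [Field K'] [Algebra K K'] [Algebra k' K'] [Algebra k K']
        [IsScalarTower k k' K'] [IsScalarTower k K K'],
        Function.Bijective (Algebra.TensorProduct.productMap
          (IsScalarTower.toAlgHom k k' K') (IsScalarTower.toAlgHom k K K')) →
        ∀ Q : Place k' K', P.1.HasExtension Q.1 → Q.deg = 1 := by
  classical
  -- the model over `k₁`
  obtain ⟨K₁, _, _, _, _, _, _, h₁⟩ := exists_model k k₁ K (hg k₁ inferInstance)
  have hK₁ : IsFunctionField k₁ K₁ := isFunctionField_constExt h₁ hK hg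
  have hg₁ : IsGeometric k₁ K₁ := isGeometric_constExt h₁ hg
  haveI : FiniteDimensional K K₁ := LeadCE.finiteDimensional_of_surjective h₁.2
  -- the places of `K₁` above `P`
  let dn : Place k₁ K₁ → Place k K₁ := fun P₁ => down k P₁
  have hdn : Function.Injective dn := fun A B hAB =>
    Subtype.ext (congrArg (fun R : Place k K₁ => R.1) hAB)
  have hfin : (dn ⁻¹' {Q₁ : Place k K₁ | IsOver Q₁ P}).Finite :=
    Set.Finite.preimage hdn.injOn (LeadFF.finite_over (K' := K₁) hK P)
  -- the polynomials
  have hpoly : ∀ P₁ : Place k₁ K₁, ∃ g : k₁[X], g ≠ 0 ∧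
      ∀ (k' : Type u) [Field k'] [Algebra k₁ k'] (Ω : Type v) [Field Ω]
        (j : k' →+* Ω) (σ : ResidueField P₁.O →+* Ω),
        (∀ c : k₁, σ (algebraMap k₁ (ResidueField P₁.O) c) = j (algebraMap k₁ k' c)) →
        (g.map (algebraMap k₁ k')).Splits → ∀ x : ResidueField P₁.O, σ x ∈ j.range := by
    intro P₁
    haveI : FiniteDimensional k₁ (ResidueField P₁.O) := LeadFF.residueField_finite hK₁ P₁
    exact exists_poly k₁ (ResidueField P₁.O)
  choose g hg0 hgs using hpoly
  let f : k₁[X] := ∏ P₁ ∈ hfin.toFinset, g P₁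
  have hf0 : f ≠ 0 := Finset.prod_ne_zero_iff.mpr fun P₁ _ => hg0 P₁
  -- the splitting field
  have hfin' : FiniteDimensional k f.SplittingField := Module.Finite.trans k₁ f.SplittingField
  refine ⟨f.SplittingField, inferInstance, inferInstance, hfin', ?_⟩
  intro K' _ _ _ _ _ _ h Q hext
  haveI := hext
  -- `K'` as an algebra over `k₁`
  letI : Algebra k₁ K' :=
    ((algebraMap f.SplittingField K').comp (algebraMap k₁ f.SplittingField)).toAlgebra
  haveI : IsScalarTower k₁ f.SplittingField K' := IsScalarTower.of_algebraMap_eq fun _ => rfl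
  haveI : IsScalarTower k k₁ K' := by
    apply IsScalarTower.of_algebraMap_eq
    intro c
    show algebraMap k K' c =
      algebraMap f.SplittingField K' (algebraMap k₁ f.SplittingField (algebraMap k k₁ c))
    rw [← IsScalarTower.algebraMap_apply k k₁ f.SplittingField,
      ← IsScalarTower.algebraMap_apply k f.SplittingField K']
  -- `K'` as an algebra over `K₁`
  let e₁ : k₁ ⊗[k] K ≃ₐ[k] K₁ := AlgEquiv.ofBijective _ h₁
  let ψ : k₁ ⊗[k] K →ₐ[k] K' := Algebra.TensorProduct.productMap
    (IsScalarTower.toAlgHom k k₁ K') (IsScalarTower.toAlgHom k K K')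
  let φ : K₁ →ₐ[k] K' := ψ.comp e₁.symm.toAlgHom
  letI : Algebra K₁ K' := φ.toRingHom.toAlgebra
  have he₁c : ∀ c : k₁, e₁ (c ⊗ₜ 1) = algebraMap k₁ K₁ c := by
    intro c
    show Algebra.TensorProduct.productMap _ _ (c ⊗ₜ[k] (1 : K)) = _
    simp
  have he₁x : ∀ x : K, e₁ (1 ⊗ₜ x) = algebraMap K K₁ x := by
    intro x
    show Algebra.TensorProduct.productMap _ _ ((1 : k₁) ⊗ₜ[k] x) = _
    simp
  have hφc : ∀ c : k₁, algebraMap K₁ K' (algebraMap k₁ K₁ c) = algebraMap k₁ K' c := by
    intro c
    show ψ (e₁.symm (algebraMap k₁ K₁ c)) = _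
    rw [← he₁c, AlgEquiv.symm_apply_apply]
    simp [ψ]
  have hφx : ∀ x : K, algebraMap K₁ K' (algebraMap K K₁ x) = algebraMap K K' x := by
    intro x
    show ψ (e₁.symm (algebraMap K K₁ x)) = _
    rw [← he₁x, AlgEquiv.symm_apply_apply]
    simp [ψ]
  haveI : IsScalarTower k₁ K₁ K' := IsScalarTower.of_algebraMap_eq fun c => (hφc c).symm
  haveI : IsScalarTower K K₁ K' := IsScalarTower.of_algebraMap_eq fun x => (hφx x).symm
  -- bijectivity of `k' ⊗ K₁ → K'`
  have hgen : ∀ z : K', z ∈ Algebra.adjoin K₁ (Set.range (algebraMap f.SplittingField K')) := by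
    intro z
    obtain ⟨w, rfl⟩ := h.2 z
    induction w using TensorProduct.induction_on with
    | zero => rw [map_zero]; exact Subalgebra.zero_mem _
    | tmul a b =>
      rw [Algebra.TensorProduct.productMap_apply_tmul]
      refine Subalgebra.mul_mem _ (Algebra.subset_adjoin ⟨a, rfl⟩) ?_
      show algebraMap K K' b ∈ _
      rw [← hφx]
      exact Subalgebra.algebraMap_mem _ _
    | add x y hx hy => rw [map_add]; exact Subalgebra.add_mem _ hx hy
  have h' := bijective_productMap_of_isField (hg₁ f.SplittingField inferInstance) hgen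
  haveI : FiniteDimensional K₁ K' := LeadCE.finiteDimensional_of_surjective h'.2
  -- the place below `Q`
  obtain ⟨P₁, e, he0, he⟩ := LeadFF.exists_below hK₁ (down k₁ Q)
  have he' : ∀ x : K₁, Q.1 (algebraMap K₁ K' x) = P₁.1 x ^ e := fun x => he x
  haveI : P₁.1.HasExtension Q.1 := hasExtension_of_pow he0 he'
  -- `P₁` is above `P`
  have hP₁ : IsOver (dn P₁) P := by
    obtain ⟨P'', e'', he''0, he''⟩ := LeadFF.exists_below hK (dn P₁)
    have he''' : ∀ x : K, P₁.1 (algebraMap K K₁ x) = P''.1 x ^ e'' := fun x => he'' x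
    have hPP : P = P'' := by
      apply LeadFF.place_eq_of_le
      intro x hx
      have h1 : Q.1 (algebraMap K K' x) ≤ 1 :=
        (Valuation.HasExtension.val_map_le_one_iff P.1 Q.1 x).mpr hx
      rw [← hφx, he'] at h1
      have h3 : P₁.1 (algebraMap K K₁ x) ≤ 1 := (pow_le_one_iff he0.ne').mp h1
      rw [he'''] at h3
      exact (pow_le_one_iff he''0.ne').mp h3
    subst hPP
    exact ⟨e'', he''⟩
  have hmem : P₁ ∈ hfin.toFinset := hfin.mem_toFinset.mpr hP₁
  -- nonsingularity
  have hns := H K₁ h₁ P₁ f.SplittingField K' h'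
  -- splitting
  have hsplitf : (f.map (algebraMap k₁ f.SplittingField)).Splits := SplittingField.splits f
  have hsplitg : ((g P₁).map (algebraMap k₁ f.SplittingField)).Splits :=
    Splits.of_dvd hsplitf (Polynomial.map_ne_zero hf0)
      (Polynomial.map_dvd _ (Finset.dvd_prod_of_mem _ hmem))
  apply deg_eq_one h' hK₁ P₁ Q hns
  intro x
  refine hgs P₁ f.SplittingField (ResidueField Q.O) (algebraMap f.SplittingField (ResidueField Q.O))
    (algebraMap (ResidueField P₁.O) (ResidueField Q.O)) ?_ hsplitg x
  intro c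
  show algebraMap (ResidueField P₁.O) (ResidueField Q.O) (residue P₁.O (algebraMap k₁ P₁.O c)) =
    residue Q.O (algebraMap f.SplittingField Q.O (algebraMap k₁ f.SplittingField c))
  rw [Valuation.HasExtension.algebraMap_residue_eq_residue_algebraMap]
  congr 1
  apply Subtype.ext
  show algebraMap K₁ K' (algebraMap k₁ K₁ c) =
    algebraMap f.SplittingField K' (algebraMap k₁ f.SplittingField c)
  rw [hφc]
  rfl

end Groth.Agent.Lib.LeadSpl
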