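import Mathlib
import Groth.Prelude.Def_ArtFun2
import Groth.Agent.Lib.LeadTangent
import Groth.Agent.Lib.Helper19FibreProd

/-!
# `(S2)` for square-zero extensions of the residue field by finite-dimensional spaces (lead)

If `F` satisfies `Heps`, then for every `E` with `m_E² = 0` and a section `k → E`, the comparison map of
every fibre product square `A ×_k E` is bijective (`bijective_cmp_sqZero`).
-/

set_option maxHeartbeats 400000
set_option autoImplicit false
set_option linter.style.haveILetI false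
set_option linter.unusedSectionVars false
universe u v
open CategoryTheory ArtFun ArtFun.Art

namespace Groth.Agent.Lib.LeadSqZero

open Groth.Agent.Lib.Helper19 Groth.Agent.Lib.LeadTangent

variable {Λ : Type u} {k : Type u} [CommRing Λ] [Field k] [Algebra Λ k]

section cmp

variable (F : Art Λ k ⥤ Type v)

theorem bijective_cmp_iff {B A A' A'' : Art Λ k} {p' : B ⟶ A'} {p'' : B ⟶ A''} {f' : A' ⟶ A}
    {f'' : A'' ⟶ A} (h : IsFibreProd p' p'' f' f'') :
    Function.Bijective (cmp F h) ↔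
      (∀ z z' : F.obj B, F.map p' z = F.map p' z' → F.map p'' z = F.map p'' z' → z = z') ∧
      (∀ (x : F.obj A') (y : F.obj A''), F.map f' x = F.map f'' y →
        ∃ z : F.obj B, F.map p' z = x ∧ F.map p'' z = y) := by
  constructor
  · rintro ⟨hi, hs⟩
    refine ⟨fun z z' h1 h2 => hi (FibProd.ext h1 h2), fun x y hxy => ?_⟩
    obtain ⟨z, hz⟩ := hs ⟨(x, y), hxy⟩
    exact ⟨z, congrArg (fun t => t.1.1) hz, congrArg (fun t => t.1.2) hz⟩
  · rintro ⟨hi, hs⟩
    refine ⟨fun z z' hzz' => hi z z' (congrArg (fun t => t.1.1) hzz')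
      (congrArg (fun t => t.1.2) hzz'), fun t => ?_⟩
    obtain ⟨z, hz1, hz2⟩ := hs t.1.1 t.1.2 t.2
    exact ⟨z, FibProd.ext hz1 hz2⟩

/-- `E` is good for `F`: the comparison maps of all fibre product squares `A ×_k E` are bijective. -/
def Good (E : Art Λ k) : Prop :=
  ∀ ⦃B A : Art Λ k⦄ (p' : B ⟶ A) (p'' : B ⟶ E)
    (h : IsFibreProd p' p'' (toBase A) (toBase E)), Function.Bijective (cmp F h)

theorem toBase_base : toBase (base Λ k) = 𝟙 (base Λ k) := (eq_toBase (𝟙 _)).symm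

theorem good_base : Good F (base Λ k) := by
  intro B A p' p'' h
  have hw : (𝟙 A) ≫ toBase A = toBase A ≫ toBase (base Λ k) := by
    rw [Category.id_comp, eq_toBase (toBase A ≫ toBase (base Λ k))]
  obtain ⟨i, hi1, hi2⟩ : ∃ i : A ⟶ B, i ≫ p' = 𝟙 A ∧ i ≫ p'' = toBase A :=
    ⟨fibreProdLift h (𝟙 A) (toBase A) hw, fibreProdLift_fst h _ _ hw, fibreProdLift_snd h _ _ hw⟩
  have hi3 : p' ≫ i = 𝟙 B := by
    apply fibreProd_hom_ext h
    · rw [Category.assoc, hi1, Category.comp_id, Category.id_comp]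
    · rw [Category.assoc, hi2, Category.id_comp, eq_toBase p'', eq_toBase (p' ≫ toBase A)]
  rw [bijective_cmp_iff]
  constructor
  · intro z z' h1 _
    have h3 := congrArg (F.map i) h1
    rw [← F.map_comp_apply, ← F.map_comp_apply, hi3, F.map_id_apply, F.map_id_apply] at h3
    exact h3
  · intro x y hxy
    refine ⟨F.map i x, ?_, ?_⟩
    · rw [← F.map_comp_apply, hi1, F.map_id_apply]
    · rw [← F.map_comp_apply, hi2, hxy, toBase_base, F.map_id_apply]

theorem good_of_iso {E₁ E : Art Λ k} (φ : E₁ ⟶ E) (ψ : E ⟶ E₁) (h₁ : φ ≫ ψ = 𝟙 E₁)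
    (h₂ : ψ ≫ φ = 𝟙 E) (g : Good F E₁) : Good F E := by
  intro B A p' p'' h
  have hψinj : Function.Injective ψ := by
    intro a b hab
    have h3 := congrArg φ hab
    have h4 : ∀ e : E, φ (ψ e) = e := fun e => by
      change (ψ ≫ φ) e = e
      rw [h₂]; rfl
    rw [h4, h4] at h3
    exact h3
  have hφψ : ∀ e : E₁, ψ (φ e) = e := fun e => by
    change (φ ≫ ψ) e = e
    rw [h₁]; rfl
  have h' : IsFibreProd p' (p'' ≫ ψ) (toBase A) (toBase E₁) :=
    { w := by rw [eq_toBase (p' ≫ toBase A), eq_toBase ((p'' ≫ ψ) ≫ toBase E₁)]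
      inj := fun b b' e1 e2 => h.inj b b' e1 (hψinj e2)
      surj := fun a e₁ hae => by
        have hae' : toBase A a = toBase E (φ e₁) := by
          rw [hae]
          exact (res_app φ e₁).symm
        obtain ⟨b, hb1, hb2⟩ := h.surj a (φ e₁) hae'
        refine ⟨b, hb1, ?_⟩
        change ψ (p'' b) = e₁
        rw [hb2, hφψ] }
  have b' := (bijective_cmp_iff F h').mp (g p' (p'' ≫ ψ) h')
  rw [bijective_cmp_iff]
  constructor
  · intro z z' e1 e2
    apply b'.1 z z' e1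
    rw [F.map_comp_apply, F.map_comp_apply, e2]
  · intro x y hxy
    have hxy' : F.map (toBase A) x = F.map (toBase E₁) (F.map ψ y) := by
      rw [← F.map_comp_apply, eq_toBase (ψ ≫ toBase E₁)]
      exact hxy
    obtain ⟨z, hz1, hz2⟩ := b'.2 x (F.map ψ y) hxy'
    refine ⟨z, hz1, ?_⟩
    rw [F.map_comp_apply] at hz2
    have hψφ : ∀ t : F.obj E, F.map φ (F.map ψ t) = t := fun t => by
      rw [← F.map_comp_apply, h₂, F.map_id_apply]
    have h3 := congrArg (F.map φ) hz2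
    rw [hψφ, hψφ] at h3
    exact h3

theorem exists_inv_of_bijective {E₁ E : Art Λ k} (φ : E₁ ⟶ E) (hφ : Function.Bijective φ) :
    ∃ ψ : E ⟶ E₁, φ ≫ ψ = 𝟙 E₁ ∧ ψ ≫ φ = 𝟙 E := by
  obtain ⟨e, he⟩ : ∃ e : E₁ ≃ₐ[Λ] E, ∀ x, e x = φ x :=
    ⟨AlgEquiv.ofBijective φ.toAlgHom hφ, fun x => rfl⟩
  refine ⟨⟨e.symm.toAlgHom, AlgHom.ext fun y => ?_⟩, ?_, ?_⟩
  · change E₁.res (e.symm y) = E.res y
    rw [← res_app φ (e.symm y), ← he, e.apply_symm_apply]
  · apply hom_ext; apply AlgHom.ext; intro x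
    change e.symm (φ x) = x
    rw [← he, e.symm_apply_apply]
  · apply hom_ext; apply AlgHom.ext; intro y
    change φ (e.symm y) = y
    rw [← he, e.apply_symm_apply]

theorem good_of_bijective {E₁ E : Art Λ k} (φ : E₁ ⟶ E) (hφ : Function.Bijective φ)
    (g : Good F E₁) : Good F E := by
  obtain ⟨ψ, h₁, h₂⟩ := exists_inv_of_bijective φ hφ
  exact good_of_iso F φ ψ h₁ h₂ g

theorem good_of_bijective' {E₁ E : Art Λ k} (ψ : E ⟶ E₁) (hψ : Function.Bijective ψ)
    (g : Good F E₁) : Good F E := by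
  obtain ⟨φ, h₁, h₂⟩ := exists_inv_of_bijective ψ hψ
  exact good_of_iso F φ ψ h₂ h₁ g

theorem good_of_fibreProd [Module.Finite Λ k] {E E₁ E₂ : Art Λ k} (q₁ : E ⟶ E₁) (q₂ : E ⟶ E₂)
    (hE : IsFibreProd q₁ q₂ (toBase E₁) (toBase E₂)) (g₁ : Good F E₁) (g₂ : Good F E₂) :
    Good F E := by
  intro B A p' p'' h
  have hs₁ : Function.Surjective (toBase E₁) := E₁.res_surjective
  obtain ⟨B₁, r₁, r₂, h₁⟩ : ∃ (B₁ : Art Λ k) (r₁ : B₁ ⟶ A) (r₂ : B₁ ⟶ E₁),
      IsFibreProd r₁ r₂ (toBase A) (toBase E₁) :=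
    ⟨_, _, _, isFibreProd_pullbackObj (toBase A) (toBase E₁) hs₁⟩
  have hw : p' ≫ toBase A = (p'' ≫ q₁) ≫ toBase E₁ := by
    rw [eq_toBase (p' ≫ toBase A), eq_toBase ((p'' ≫ q₁) ≫ toBase E₁)]
  obtain ⟨l, hl1, hl2⟩ : ∃ l : B ⟶ B₁, l ≫ r₁ = p' ∧ l ≫ r₂ = p'' ≫ q₁ :=
    ⟨fibreProdLift h₁ p' (p'' ≫ q₁) hw, fibreProdLift_fst h₁ _ _ hw, fibreProdLift_snd h₁ _ _ hw⟩
  have hl1' : ∀ b : B, r₁ (l b) = p' b := fun b => by
    change (l ≫ r₁) b = p' b
    rw [hl1]
  have hl2' : ∀ b : B, r₂ (l b) = q₁ (p'' b) := fun b => by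
    change (l ≫ r₂) b = (p'' ≫ q₁) b
    rw [hl2]
  have hB : IsFibreProd l (p'' ≫ q₂) (toBase B₁) (toBase E₂) :=
    { w := by rw [eq_toBase (l ≫ toBase B₁), eq_toBase ((p'' ≫ q₂) ≫ toBase E₂)]
      inj := fun b b' e1 e2 => by
        have hp : p' b = p' b' := by rw [← hl1', ← hl1', e1]
        have hq1 : q₁ (p'' b) = q₁ (p'' b') := by rw [← hl2', ← hl2', e1]
        exact h.inj b b' hp (hE.inj _ _ hq1 e2)
      surj := fun b₁ e₂ hbe => by
        have h3 : toBase E₁ (r₂ b₁) = toBase E₂ e₂ := by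
          rw [← hbe]
          exact res_app r₂ b₁
        obtain ⟨e, he1, he2⟩ := hE.surj (r₂ b₁) e₂ h3
        have h4 : toBase A (r₁ b₁) = toBase E e := by
          have h5 : toBase E e = toBase E₁ (q₁ e) := (res_app q₁ e).symm
          rw [h5, he1]
          exact h₁.w_apply b₁
        obtain ⟨b, hb1, hb2⟩ := h.surj (r₁ b₁) e h4
        refine ⟨b, h₁.inj _ _ ?_ ?_, ?_⟩
        · rw [hl1', hb1]
        · rw [hl2', hb2, he1]
        · change q₂ (p'' b) = e₂
          rw [hb2, he2] }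
  have c₁ := (bijective_cmp_iff F h₁).mp (g₁ r₁ r₂ h₁)
  have c₂ := (bijective_cmp_iff F hB).mp (g₂ l (p'' ≫ q₂) hB)
  have c₃ := (bijective_cmp_iff F hE).mp (g₂ q₁ q₂ hE)
  rw [bijective_cmp_iff]
  constructor
  · intro z z' e1 e2
    apply c₂.1 z z'
    · apply c₁.1
      · rw [← F.map_comp_apply, ← F.map_comp_apply, hl1, e1]
      · rw [← F.map_comp_apply, ← F.map_comp_apply, hl2, F.map_comp_apply, F.map_comp_apply, e2]
    · rw [F.map_comp_apply, F.map_comp_apply, e2]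
  · intro x y hxy
    have hx1 : F.map (toBase A) x = F.map (toBase E₁) (F.map q₁ y) := by
      rw [← F.map_comp_apply, eq_toBase (q₁ ≫ toBase E₁)]
      exact hxy
    obtain ⟨u, hu1, hu2⟩ := c₁.2 x (F.map q₁ y) hx1
    have hu3 : F.map (toBase B₁) u = F.map (toBase E₂) (F.map q₂ y) := by
      rw [← F.map_comp_apply, eq_toBase (q₂ ≫ toBase E₂), ← hxy, ← hu1, ← F.map_comp_apply,
        eq_toBase (r₁ ≫ toBase A)]
    obtain ⟨z, hz1, hz2⟩ := c₂.2 u (F.map q₂ y) hu3
    refine ⟨z, ?_, ?_⟩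
    · rw [← hl1, F.map_comp_apply, hz1, hu1]
    · apply c₃.1
      · rw [← F.map_comp_apply, ← hl2, F.map_comp_apply, hz1, hu2]
      · rw [← F.map_comp_apply, hz2]

end cmp

section objects

variable (F : Art Λ k ⥤ Type v)

variable {M M₁ M₂ : Type u}
  [AddCommGroup M] [Module k M] [Module kᵐᵒᵖ M] [SMulCommClass k kᵐᵒᵖ M]
  [IsCentralScalar k M] [Module Λ M] [IsScalarTower Λ k M] [IsScalarTower Λ kᵐᵒᵖ M]
  [Module.Finite k M]
  [AddCommGroup M₁] [Module k M₁] [Module kᵐᵒᵖ M₁] [SMulCommClass k kᵐᵒᵖ M₁]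
  [IsCentralScalar k M₁] [Module Λ M₁] [IsScalarTower Λ k M₁] [IsScalarTower Λ kᵐᵒᵖ M₁]
  [Module.Finite k M₁]
  [AddCommGroup M₂] [Module k M₂] [Module kᵐᵒᵖ M₂] [SMulCommClass k kᵐᵒᵖ M₂]
  [IsCentralScalar k M₂] [Module Λ M₂] [IsScalarTower Λ k M₂] [IsScalarTower Λ kᵐᵒᵖ M₂]
  [Module.Finite k M₂]

/-- `k ⊕ M` is the fibre product of `k ⊕ M₁` and `k ⊕ M₂` when `M ≅ M₁ × M₂` through `(f₁, f₂)`. -/
theorem isFibreProd_tmap (f₁ : M →ₗ[k] M₁) (f₂ : M →ₗ[k] M₂)
    (hinj : ∀ x y : M, f₁ x = f₁ y → f₂ x = f₂ y → x = y)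
    (hsurj : ∀ (a : M₁) (b : M₂), ∃ x : M, f₁ x = a ∧ f₂ x = b) :
    IsFibreProd (tmap f₁ : obj Λ k M ⟶ obj Λ k M₁) (tmap f₂ : obj Λ k M ⟶ obj Λ k M₂)
      (toBase (obj Λ k M₁)) (toBase (obj Λ k M₂)) where
  w := by
    rw [eq_toBase ((tmap f₁ : obj Λ k M ⟶ obj Λ k M₁) ≫ toBase _),
      eq_toBase ((tmap f₂ : obj Λ k M ⟶ obj Λ k M₂) ≫ toBase _)]
  inj b₁ b₂ h₁ h₂ := by
    have e₁ : b₁.fst = b₂.fst := by have e := congrArg TrivSqZeroExt.fst h₁; exact e
    have e₂ : f₁ b₁.snd = f₁ b₂.snd := by have e := congrArg TrivSqZeroExt.snd h₁; exact e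
    have e₃ : f₂ b₁.snd = f₂ b₂.snd := by have e := congrArg TrivSqZeroExt.snd h₂; exact e
    exact TrivSqZeroExt.ext e₁ (hinj _ _ e₂ e₃)
  surj a' a'' h := by
    have h' : a'.fst = a''.fst := h
    obtain ⟨x, hx1, hx2⟩ := hsurj a'.snd a''.snd
    exact ⟨(a'.fst, x), TrivSqZeroExt.ext rfl hx1, TrivSqZeroExt.ext h' hx2⟩

theorem toBase_obj_bijective_of_subsingleton [Subsingleton M] :
    Function.Bijective (toBase (obj Λ k M)) := by
  constructor
  · intro x y hxy
    have e₁ : x.fst = y.fst := hxy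
    exact TrivSqZeroExt.ext e₁ (Subsingleton.elim _ _)
  · exact (obj Λ k M).res_surjective

variable [Module.Finite Λ k]

theorem good_obj_fin (h2 : Heps F) : ∀ n : ℕ, Good F (obj Λ k (Fin n → k)) := by
  intro n
  induction n with
  | zero =>
    exact good_of_bijective' F (toBase (obj Λ k (Fin 0 → k)))
      toBase_obj_bijective_of_subsingleton (good_base F)
  | succ n ih =>
    have hfp := isFibreProd_tmap (Λ := Λ) (k := k)
      (LinearMap.funLeft k k (Fin.castSucc : Fin n → Fin (n + 1)))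
      (LinearMap.proj (R := k) (φ := fun _ : Fin (n + 1) => k) (Fin.last n))
      (fun x y e1 e2 => by
        funext i
        refine Fin.lastCases ?_ (fun j => ?_) i
        · exact e2
        · exact congrFun e1 j)
      (fun a b => ⟨Fin.snoc (α := fun _ => k) a b, by
        funext j
        simp [LinearMap.funLeft_apply], by simp⟩)
    have gd : Good F (obj Λ k k) := fun B A p' p'' h => h2 p' p'' h
    exact good_of_fibreProd F _ _ hfp ih gd

end objects

section main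

variable (F : Art Λ k ⥤ Type v)

theorem exists_bijective_obj (E : Art Λ k) (σ : base Λ k ⟶ E)
    (hE : IsLocalRing.maximalIdeal E ^ 2 = ⊥) :
    ∃ (n : ℕ) (φ : obj Λ k (Fin n → k) ⟶ E), Function.Bijective φ := by
  have hres : ∀ c : k, E.res (σ c) = c := fun c => res_app σ c
  have hm : ∀ e : E, e - σ (E.res e) ∈ IsLocalRing.maximalIdeal E := by
    intro e
    rw [mem_maximalIdeal_iff, map_sub, hres, sub_self]
  have hmul : ∀ x y : E, x ∈ IsLocalRing.maximalIdeal E → y ∈ IsLocalRing.maximalIdeal E →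
      x * y = 0 := by
    intro x y hx hy
    have h1 : x * y ∈ IsLocalRing.maximalIdeal E ^ 2 := by
      rw [pow_two]
      exact Ideal.mul_mem_mul hx hy
    rw [hE] at h1
    exact h1
  letI algkE : Algebra k E := σ.toAlgHom.toRingHom.toAlgebra
  have halg : ∀ c : k, algebraMap k E c = σ c := fun c => rfl
  obtain ⟨V, hV⟩ : ∃ V : Submodule k E, ∀ x, x ∈ V ↔ x ∈ IsLocalRing.maximalIdeal E :=
    ⟨(IsLocalRing.maximalIdeal E).restrictScalars k, fun x => Iff.rfl⟩
  haveI hVfin : Module.Finite k V := by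
    haveI : IsNoetherianRing E := inferInstance
    obtain ⟨s, hs⟩ := (isNoetherianRing_iff_ideal_fg E).mp inferInstance
      (IsLocalRing.maximalIdeal E)
    have hsub : ∀ x ∈ IsLocalRing.maximalIdeal E, x ∈ Submodule.span k (s : Set E) := by
      intro x hx
      rw [← hs] at hx
      refine Submodule.span_induction (p := fun x _ => x ∈ Submodule.span k (s : Set E))
        ?_ ?_ ?_ ?_ hx
      · intro y hy
        exact Submodule.subset_span hy
      · exact Submodule.zero_mem _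
      · intro y z _ _ hy hz
        exact Submodule.add_mem _ hy hz
      · intro e y hy hy'
        have hym : y ∈ IsLocalRing.maximalIdeal E := by
          rw [← hs]
          exact hy
        have h1 : e • y = (E.res e) • y := by
          rw [smul_eq_mul, Algebra.smul_def, halg]
          have h2 := hmul _ _ (hm e) hym
          linear_combination h2
        rw [h1]
        exact Submodule.smul_mem _ _ hy'
    have hVeq : V = Submodule.span k (s : Set E) := by
      apply le_antisymm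
      · intro x hx
        exact hsub x ((hV x).mp hx)
      · rw [Submodule.span_le]
        intro y hy
        apply (hV y).mpr
        rw [← hs]
        exact Ideal.subset_span hy
    rw [hVeq]
    exact Module.Finite.span_of_finite k s.finite_toSet
  obtain ⟨n, ⟨b⟩⟩ : ∃ n : ℕ, Nonempty (Module.Basis (Fin n) k V) :=
    ⟨_, ⟨Module.finBasis k V⟩⟩
  obtain ⟨φ₀, hφ₀⟩ : ∃ φ₀ : (Fin n → k) →ₗ[k] E, ∀ w, φ₀ w = (b.equivFun.symm w : E) :=
    ⟨V.subtype ∘ₗ b.equivFun.symm.toLinearMap, fun w => rfl⟩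
  have hφ₀m : ∀ w, φ₀ w ∈ IsLocalRing.maximalIdeal E := fun w => by
    rw [hφ₀]
    exact (hV _).mp (b.equivFun.symm w).2
  have hφ₀inj : ∀ w, φ₀ w = 0 → w = 0 := by
    intro w hw
    rw [hφ₀] at hw
    have h1 : b.equivFun.symm w = 0 := Subtype.ext hw
    exact (LinearEquiv.map_eq_zero_iff _).mp h1
  have hφ₀surj : ∀ x ∈ IsLocalRing.maximalIdeal E, ∃ w, φ₀ w = x := by
    intro x hx
    refine ⟨b.equivFun ⟨x, (hV x).mpr hx⟩, ?_⟩
    rw [hφ₀, LinearEquiv.symm_apply_apply]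
  have hσmul : ∀ a c : k, σ (a * c) = σ a * σ c := fun a c => map_mul σ.toAlgHom a c
  have hσadd : ∀ a c : k, σ (a + c) = σ a + σ c := fun a c => map_add σ.toAlgHom a c
  let φa : TrivSqZeroExt k (Fin n → k) →ₐ[Λ] E :=
    { toFun := fun x => σ x.fst + φ₀ x.snd
      map_one' := by
        change σ (1 : k) + φ₀ 0 = 1
        rw [map_zero, add_zero]
        exact hom_map_one σ
      map_mul' := fun x y => by
        change σ (x.fst * y.fst) + φ₀ (x.fst • y.snd + MulOpposite.op y.fst • x.snd) =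
          (σ x.fst + φ₀ x.snd) * (σ y.fst + φ₀ y.snd)
        rw [op_smul_eq_smul, map_add, map_smul, map_smul, Algebra.smul_def, Algebra.smul_def,
          halg, halg, hσmul]
        have h1 := hmul _ _ (hφ₀m x.snd) (hφ₀m y.snd)
        linear_combination (-1 : E) * h1
      map_zero' := by
        change σ (0 : k) + φ₀ 0 = 0
        rw [map_zero, add_zero]
        exact hom_map_zero σ
      map_add' := fun x y => by
        change σ (x.fst + y.fst) + φ₀ (x.snd + y.snd) = (σ x.fst + φ₀ x.snd) + (σ y.fst + φ₀ y.snd)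
        rw [map_add, hσadd]
        ring
      commutes' := fun r => by
        change σ ((algebraMap Λ (TrivSqZeroExt k (Fin n → k)) r).fst) +
          φ₀ ((algebraMap Λ (TrivSqZeroExt k (Fin n → k)) r).snd) = algebraMap Λ E r
        rw [TrivSqZeroExt.algebraMap_eq_inl', TrivSqZeroExt.fst_inl, TrivSqZeroExt.snd_inl,
          map_zero, add_zero]
        exact σ.toAlgHom.commutes r }
  have hφa : ∀ x, φa x = σ x.fst + φ₀ x.snd := fun x => rfl
  have hresφ : ∀ x, E.res (φa x) = x.fst := fun x => by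
    rw [hφa, map_add, hres, (mem_maximalIdeal_iff E _).mp (hφ₀m _), add_zero]
  refine ⟨n, ⟨φa, AlgHom.ext fun x => hresφ x⟩, ?_, ?_⟩
  · intro (x : TrivSqZeroExt k (Fin n → k)) (y : TrivSqZeroExt k (Fin n → k)) hxy
    have hxy' : σ x.fst + φ₀ x.snd = σ y.fst + φ₀ y.snd := hxy
    have h1 : x.fst = y.fst := by
      have h3 := congrArg E.res hxy'
      rw [map_add, map_add, hres, hres, (mem_maximalIdeal_iff E _).mp (hφ₀m _),
        (mem_maximalIdeal_iff E _).mp (hφ₀m _), add_zero, add_zero] at h3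
      exact h3
    have h2 : φ₀ (x.snd - y.snd) = 0 := by
      rw [h1] at hxy'
      rw [map_sub, sub_eq_zero]
      exact add_left_cancel hxy'
    exact TrivSqZeroExt.ext h1 (sub_eq_zero.mp (hφ₀inj _ h2))
  · intro e
    obtain ⟨w, hw⟩ := hφ₀surj _ (hm e)
    refine ⟨(E.res e, w), ?_⟩
    change σ (E.res e) + φ₀ w = e
    rw [hw]
    ring

variable [Module.Finite Λ k]

/-- **Main theorem**: `(S2)` for `k[ε]` implies `(S2)` for all `k ⊕ V`. -/
theorem bijective_cmp_sqZero (hF : Heps F) {E : Art Λ k} (hσ : Nonempty (base Λ k ⟶ E))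
    (hE : IsLocalRing.maximalIdeal E ^ 2 = ⊥) ⦃B A : Art Λ k⦄ (p' : B ⟶ A) (p'' : B ⟶ E)
    (h : IsFibreProd p' p'' (toBase A) (toBase E)) : Function.Bijective (cmp F h) := by
  obtain ⟨σ⟩ := hσ
  obtain ⟨n, φ, hφ⟩ := exists_bijective_obj E σ hE
  exact good_of_bijective F φ hφ (good_obj_fin F hF n) p' p'' h

end main

end Groth.Agent.Lib.LeadSqZero
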