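import Mathlib

set_option autoImplicit false
set_option linter.style.haveILetI false
set_option linter.unusedSectionVars false
universe u

namespace Groth.Agent.Lib.T2H9.RedArt

section basic

variable {E : Type u} [CommRing E] [IsArtinianRing E] [IsReduced E]

/-- in a reduced artinian ring every element is a multiple of its square -/
theorem exists_eq_sq_mul (y : E) : ∃ c : E, y = y * y * c := by
  let f : ℕ →o (Ideal E)ᵒᵈ :=
    ⟨fun n => OrderDual.toDual (Ideal.span {y ^ n}), fun m n h =>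
      OrderDual.toDual_le_toDual.mpr (by
        rw [Ideal.span_singleton_le_span_singleton]
        exact pow_dvd_pow y h)⟩
  obtain ⟨n, hn⟩ := IsArtinian.monotone_stabilizes f
  have h1 : Ideal.span {y ^ n} = Ideal.span {y ^ (n + 1)} := by
    have := hn (n + 1) (Nat.le_succ n)
    exact congrArg OrderDual.ofDual this
  have h2 : y ^ n ∈ Ideal.span {y ^ (n + 1)} := by
    rw [← h1]
    exact Ideal.mem_span_singleton_self _
  rw [Ideal.mem_span_singleton'] at h2
  obtain ⟨c, hc⟩ := h2
  have h3 : (y - y * y * c) ^ (n + 1) = 0 := by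
    have : y - y * y * c = y * (1 - y * c) := by ring
    rw [this, mul_pow, pow_succ (1 - y * c) n]
    have h4 : y ^ (n + 1) * (1 - y * c) = 0 := by
      have : y ^ (n + 1) * (1 - y * c) = y * (y ^ n - c * y ^ (n + 1)) := by ring
      rw [this, hc, sub_self, mul_zero]
    calc y ^ (n + 1) * ((1 - y * c) ^ n * (1 - y * c))
        = (y ^ (n + 1) * (1 - y * c)) * (1 - y * c) ^ n := by ring
      _ = 0 := by rw [h4, zero_mul]
  have h5 : y - y * y * c = 0 := IsReduced.eq_zero _ ⟨n + 1, h3⟩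
  exact ⟨c, sub_eq_zero.mp h5⟩

/-- in a reduced artinian ring, an element of a proper ideal is killed by an element outside -/
theorem exists_notMem_mul_eq_zero (I : Ideal E) (hI : I ≠ ⊤) (y : E) (hy : y ∈ I) :
    ∃ s ∉ I, s * y = 0 := by
  obtain ⟨c, hc⟩ := exists_eq_sq_mul y
  refine ⟨1 - y * c, ?_, ?_⟩
  · intro hs
    apply hI
    rw [Ideal.eq_top_iff_one]
    have : (1 : E) = (1 - y * c) + y * c := by ring
    rw [this]
    exact I.add_mem hs (I.mul_mem_right _ hy)
  · have : (1 - y * c) * y = y - y * y * c := by ring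
    rw [this, ← hc, sub_self]

/-- every ideal of a reduced artinian ring is radical -/
theorem mem_of_pow_mem (I : Ideal E) (x : E) (k : ℕ) (hk : x ^ k ∈ I) (hk0 : 0 < k) : x ∈ I := by
  obtain ⟨c, hc⟩ := exists_eq_sq_mul x
  have key : ∀ j : ℕ, x = x ^ (j + 1) * c ^ j := by
    intro j
    induction j with
    | zero => simp
    | succ j ih =>
      calc x = x * x * c := hc
        _ = (x ^ (j + 1) * c ^ j) * x * c := by rw [← ih]
        _ = x ^ (j + 1 + 1) * c ^ (j + 1) := by ring
  obtain ⟨j, rfl⟩ := Nat.exists_eq_succ_of_ne_zero hk0.ne'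
  rw [key j]
  exact I.mul_mem_right _ hk

end basic

section surj

variable {E E' : Type u} [CommRing E] [IsArtinianRing E] [IsReduced E] [CommRing E']

/-- a quotient of a reduced artinian ring is reduced and artinian -/
theorem of_surjective (φ : E →+* E') (hφ : Function.Surjective φ) :
    IsArtinianRing E' ∧ IsReduced E' := by
  refine ⟨hφ.isArtinianRing, ⟨?_⟩⟩
  rintro x ⟨k, hk⟩
  obtain ⟨y, rfl⟩ := hφ x
  rcases Nat.eq_zero_or_pos k with h0 | h0
  · rw [h0, pow_zero] at hk
    have : φ y = φ y * 1 := (mul_one _).symm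
    rw [this, hk, mul_zero]
  · have h1 : y ^ k ∈ RingHom.ker φ := by rw [RingHom.mem_ker, map_pow]; exact hk
    exact mem_of_pow_mem _ y k h1 h0

end surj

section lift

variable {R : Type u} [CommRing R]

/-- lifting the annihilation statement from `R ⧸ (t)` to `R` -/
theorem exists_mul_eq_mul (t : R) [IsArtinianRing (R ⧸ Ideal.span {t})]
    [IsReduced (R ⧸ Ideal.span {t})] (𝔫 : Ideal R) (h𝔫 : 𝔫 ≠ ⊤) (ht : t ∈ 𝔫) (y : R)
    (hy : y ∈ 𝔫) : ∃ s ∉ 𝔫, ∃ y' : R, s * y = t * y' := by
  have hle : Ideal.span {t} ≤ 𝔫 := (Ideal.span_singleton_le_iff_mem _).mpr ht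
  have hcomap : (𝔫.map (Ideal.Quotient.mk (Ideal.span {t}))).comap
      (Ideal.Quotient.mk (Ideal.span {t})) = 𝔫 := by
    rw [Ideal.comap_map_of_surjective _ Ideal.Quotient.mk_surjective, ← RingHom.ker_eq_comap_bot,
      Ideal.mk_ker, sup_eq_left.mpr hle]
  have hI : 𝔫.map (Ideal.Quotient.mk (Ideal.span {t})) ≠ ⊤ := by
    intro h
    apply h𝔫
    rw [← hcomap, h, Ideal.comap_top]
  obtain ⟨s', hs', hsy⟩ := exists_notMem_mul_eq_zero _ hI
    (Ideal.Quotient.mk (Ideal.span {t}) y) (Ideal.mem_map_of_mem _ hy)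
  obtain ⟨s, rfl⟩ := Ideal.Quotient.mk_surjective s'
  refine ⟨s, fun hs => hs' (Ideal.mem_map_of_mem _ hs), ?_⟩
  rw [← map_mul, Ideal.Quotient.eq_zero_iff_mem, Ideal.mem_span_singleton'] at hsy
  obtain ⟨y', hy'⟩ := hsy
  exact ⟨y', by rw [← hy', mul_comm]⟩

end lift

end Groth.Agent.Lib.T2H9.RedArt
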