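import Mathlib
import Groth.Prelude.Def_EtRam

set_option autoImplicit false
set_option linter.style.haveILetI false
set_option linter.unusedSectionVars false
universe u

namespace Groth.Agent.Lib.T2H9.ValGen

open IsLocalRing

section gen

variable {L : Type u} [Field L]

/-- in a discrete valuation ring, powers of a non-unit eventually drop below any nonzero
element -/
theorem exists_pow_lt (V : ValuationSubring L) [IsDiscreteValuationRing V] (t y : L)
    (ht1 : V.valuation t < 1) (hy : y ∈ V) (hy0 : y ≠ 0) :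
    ∃ n : ℕ, V.valuation t ^ n < V.valuation y := by
  obtain ⟨ω, hω⟩ := IsDiscreteValuationRing.exists_irreducible V
  have hω1 : V.valuation (ω : L) < 1 := by
    rw [← V.valuation_lt_one_iff]
    rw [mem_maximalIdeal, mem_nonunits_iff]
    exact hω.not_isUnit
  have hω0 : V.valuation (ω : L) ≠ 0 := by
    rw [Valuation.ne_zero_iff]
    exact fun h => hω.ne_zero (Subtype.ext h)
  have hunit : ∀ u : Vˣ, V.valuation ((u : V) : L) = 1 := fun u => V.valuation_unit u
  have hy0' : (⟨y, hy⟩ : V) ≠ 0 := fun h => hy0 (congrArg Subtype.val h)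
  obtain ⟨a, u, hu⟩ := IsDiscreteValuationRing.eq_unit_mul_pow_irreducible hy0' hω
  have hvy : V.valuation y = V.valuation (ω : L) ^ a := by
    have h1 : y = ((u : V) : L) * (ω : L) ^ a := by
      have := congrArg Subtype.val hu
      simpa using this
    rw [h1, map_mul, map_pow, hunit, one_mul]
  by_cases ht0 : t = 0
  · refine ⟨1, ?_⟩
    rw [ht0, map_zero, pow_one, hvy]
    exact pow_pos (zero_lt_iff.mpr hω0) a
  have htV : t ∈ V := (V.valuation_le_one_iff t).mp ht1.le
  have ht0' : (⟨t, htV⟩ : V) ≠ 0 := fun h => ht0 (congrArg Subtype.val h)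
  obtain ⟨b, w, hw⟩ := IsDiscreteValuationRing.eq_unit_mul_pow_irreducible ht0' hω
  have hvt : V.valuation t = V.valuation (ω : L) ^ b := by
    have h1 : t = ((w : V) : L) * (ω : L) ^ b := by
      have := congrArg Subtype.val hw
      simpa using this
    rw [h1, map_mul, map_pow, hunit, one_mul]
  have hb : 0 < b := by
    rcases Nat.eq_zero_or_pos b with h0 | h0
    · rw [hvt, h0, pow_zero] at ht1
      exact absurd ht1 (lt_irrefl _)
    · exact h0
  refine ⟨a + 1, ?_⟩
  rw [hvy, hvt, ← pow_mul]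
  apply pow_lt_pow_right_of_lt_one₀ (zero_lt_iff.mpr hω0) hω1
  calc a < a + 1 := Nat.lt_succ_self a
    _ ≤ b * (a + 1) := Nat.le_mul_of_pos_left _ hb

/-- factorisation of the elements of a subring whose localisation has maximal ideal
generated by `t` -/
theorem exists_factor (V : ValuationSubring L) [IsDiscreteValuationRing V] (R : Subring L)
    (hRV : ∀ x ∈ R, x ∈ V) (t : L) (ht : t ∈ R) (ht1 : V.valuation t < 1) (ht0 : t ≠ 0)
    (h2 : ∀ y ∈ R, V.valuation y < 1 → ∃ s ∈ R, V.valuation s = 1 ∧ ∃ y' ∈ R, s * y = t * y') :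
    ∀ y ∈ R, y ≠ 0 → ∃ k : ℕ, ∃ s ∈ R, ∃ u ∈ R, V.valuation s = 1 ∧ V.valuation u = 1 ∧
      s * y = t ^ k * u := by
  have hvt0 : V.valuation t ≠ 0 := (Valuation.ne_zero_iff _).mpr ht0
  have key : ∀ n : ℕ, ∀ y ∈ R, y ≠ 0 → V.valuation t ^ n < V.valuation y →
      ∃ k : ℕ, ∃ s ∈ R, ∃ u ∈ R, V.valuation s = 1 ∧ V.valuation u = 1 ∧ s * y = t ^ k * u := by
    intro n
    induction n with
    | zero =>
      intro y hy _ hlt
      rw [pow_zero] at hlt
      exact absurd ((V.valuation_le_one_iff y).mpr (hRV y hy)) (not_le.mpr hlt)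
    | succ n ih =>
      intro y hy hy0 hlt
      rcases lt_or_eq_of_le ((V.valuation_le_one_iff y).mpr (hRV y hy)) with h1 | h1
      · obtain ⟨s, hs, hs1, y', hy', hsy⟩ := h2 y hy h1
        have hs0 : s ≠ 0 := by
          intro h
          rw [h, map_zero] at hs1
          exact zero_ne_one hs1
        have hy'0 : y' ≠ 0 := by
          intro h
          rw [h, mul_zero] at hsy
          exact mul_ne_zero hs0 hy0 hsy
        have hval : V.valuation y = V.valuation t * V.valuation y' := by
          have := congrArg V.valuation hsy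
          rwa [map_mul, map_mul, hs1, one_mul] at this
        have hlt' : V.valuation t ^ n < V.valuation y' := by
          rw [hval, pow_succ'] at hlt
          exact lt_of_mul_lt_mul_left' hlt
        obtain ⟨k, s', hs', u, hu, hs'1, hu1, hsu⟩ := ih y' hy' hy'0 hlt'
        refine ⟨k + 1, s' * s, R.mul_mem hs' hs, u, hu, ?_, hu1, ?_⟩
        · rw [map_mul, hs'1, hs1, one_mul]
        · rw [mul_assoc, hsy, ← mul_assoc, mul_comm s' t, mul_assoc, hsu, pow_succ']
          ring
      · exact ⟨0, 1, R.one_mem, y, hy, map_one _, h1, by rw [one_mul, pow_zero, one_mul]⟩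
  intro y hy hy0
  obtain ⟨n, hn⟩ := exists_pow_lt V t y ht1 (hRV y hy) hy0
  exact key n y hy hy0 hn

/-- a discrete valuation ring containing a subring with the same fraction field, such that
modulo `t` the non-units of the subring are killed by units, has maximal ideal generated by `t`
and its units are ratios of units coming from the subring -/
theorem gen_of_subring (V : ValuationSubring L) [IsDiscreteValuationRing V] (R : Subring L)
    (hRV : ∀ x ∈ R, x ∈ V) (t : L) (ht : t ∈ R) (ht1 : V.valuation t < 1) (ht0 : t ≠ 0)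
    (h2 : ∀ y ∈ R, V.valuation y < 1 → ∃ s ∈ R, V.valuation s = 1 ∧ ∃ y' ∈ R, s * y = t * y')
    (h3 : ∀ x : L, ∃ y ∈ R, ∃ y' ∈ R, y' ≠ 0 ∧ x * y' = y) :
    (∀ x : L, V.valuation x < 1 → ∃ w ∈ V, x = t * w) ∧
    (∀ x : L, V.valuation x = 1 → ∃ u ∈ R, ∃ u' ∈ R, V.valuation u = 1 ∧ V.valuation u' = 1 ∧
      x * u' = u) := by
  have hvt0 : V.valuation t ≠ 0 := (Valuation.ne_zero_iff _).mpr ht0
  have hvtpos : 0 < V.valuation t := zero_lt_iff.mpr hvt0
  have hfac := exists_factor V R hRV t ht ht1 ht0 h2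
  -- common analysis of a nonzero element
  have hcommon : ∀ x : L, x ≠ 0 → ∃ k k' : ℕ, ∃ a ∈ R, ∃ a' ∈ R, V.valuation a = 1 ∧
      V.valuation a' = 1 ∧ x * (t ^ k' * a') = t ^ k * a := by
    intro x hx0
    obtain ⟨y, hy, y', hy', hy'0, hxy⟩ := h3 x
    have hy0 : y ≠ 0 := by
      rw [← hxy]
      exact mul_ne_zero hx0 hy'0
    obtain ⟨k, s, hs, u, hu, hs1, hu1, hsu⟩ := hfac y hy hy0
    obtain ⟨k', s', hs', u', hu', hs'1, hu'1, hsu'⟩ := hfac y' hy' hy'0
    refine ⟨k, k', u * s', R.mul_mem hu hs', u' * s, R.mul_mem hu' hs, ?_, ?_, ?_⟩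
    · rw [map_mul, hu1, hs'1, one_mul]
    · rw [map_mul, hu'1, hs1, one_mul]
    · calc x * (t ^ k' * (u' * s)) = s * (x * (t ^ k' * u')) := by ring
        _ = s * (x * (s' * y')) := by rw [hsu']
        _ = s' * (s * (x * y')) := by ring
        _ = s' * (s * y) := by rw [hxy]
        _ = s' * (t ^ k * u) := by rw [hsu]
        _ = t ^ k * (u * s') := by ring
  constructor
  · intro x hx1
    by_cases hx0 : x = 0
    · exact ⟨0, V.zero_mem, by rw [hx0, mul_zero]⟩
    obtain ⟨k, k', a, ha, a', ha', ha1, ha'1, hx⟩ := hcommon x hx0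
    have hval : V.valuation x * V.valuation t ^ k' = V.valuation t ^ k := by
      have := congrArg V.valuation hx
      rwa [map_mul, map_mul, map_mul, map_pow, map_pow, ha1, ha'1, mul_one, mul_one] at this
    have hkk' : k' < k := by
      by_contra hle
      push Not at hle
      have h1 : V.valuation t ^ k' ≤ V.valuation t ^ k :=
        pow_le_pow_of_le_one hvtpos.le ht1.le hle
      have h2' : V.valuation x * V.valuation t ^ k' < 1 * V.valuation t ^ k' :=
        mul_lt_mul_of_pos_right hx1 (pow_pos hvtpos k')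
      rw [one_mul, hval] at h2'
      exact absurd h1 (not_le.mpr h2')
    obtain ⟨j, rfl⟩ := Nat.exists_eq_add_of_lt hkk'
    have ha'0 : a' ≠ 0 := by
      intro h
      rw [h, map_zero] at ha'1
      exact zero_ne_one ha'1
    have htk'0 : t ^ k' ≠ 0 := pow_ne_zero _ ht0
    refine ⟨t ^ j * a / a', ?_, ?_⟩
    · rw [← V.valuation_le_one_iff, map_div₀, map_mul, map_pow, ha1, ha'1, div_one, mul_one]
      exact pow_le_one₀ hvtpos.le ht1.le
    · have h5 : x * (t ^ k' * a') = (t * (t ^ j * a / a')) * (t ^ k' * a') := by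
        rw [hx]
        field_simp
        ring
      exact mul_right_cancel₀ (mul_ne_zero htk'0 ha'0) h5
  · intro x hx1
    have hx0 : x ≠ 0 := by
      intro h
      rw [h, map_zero] at hx1
      exact zero_ne_one hx1
    obtain ⟨k, k', a, ha, a', ha', ha1, ha'1, hx⟩ := hcommon x hx0
    have hval : V.valuation t ^ k' = V.valuation t ^ k := by
      have := congrArg V.valuation hx
      rwa [map_mul, map_mul, map_mul, map_pow, map_pow, ha1, ha'1, mul_one, mul_one, hx1,
        one_mul] at this
    have hkk' : k' = k := by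
      rcases lt_trichotomy k' k with h | h | h
      · exact absurd hval (ne_of_gt (pow_lt_pow_right_of_lt_one₀ hvtpos ht1 h))
      · exact h
      · exact absurd hval (ne_of_lt (pow_lt_pow_right_of_lt_one₀ hvtpos ht1 h))
    subst hkk'
    refine ⟨a, ha, a', ha', ha1, ha'1, ?_⟩
    have htk0 : t ^ k' ≠ 0 := pow_ne_zero _ ht0
    have h5 : t ^ k' * (x * a') = t ^ k' * a := by
      rw [← hx]
      ring
    exact mul_left_cancel₀ htk0 h5

end gen

end Groth.Agent.Lib.T2H9.ValGen
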