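import Mathlib
import Groth.Prelude.Def_EtRam
import Groth.Agent.Lib.T2H9FinDVR
import Groth.Agent.Lib.T2H9ValGen
import Groth.Agent.Lib.T2H9RedArt
import Groth.Agent.Lib.T2H9TotRamDeg
import Groth.Agent.Lib.T2H9RamTower

set_option autoImplicit false
set_option maxHeartbeats 400000
set_option linter.style.haveILetI false
set_option linter.unusedSectionVars false
set_option linter.unusedVariables false

/-!
# Kummer-type generators: unramifiedness of the quotient, and the tame field lemma
-/

universe u

namespace Groth.Agent.Lib.LeadTame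

open IsLocalRing Polynomial

section unram

/-- an algebra generated by elements which are zero or `n`-th roots of units (with `n`
invertible) has no differentials -/
theorem formallyUnramified_of_gens (R D : Type*) [CommRing R] [CommRing D] [Algebra R D]
    {ι : Type*} (x : ι → D) (n : ι → ℕ)
    (hgen : Algebra.adjoin R (Set.range x) = ⊤)
    (hx : ∀ j, x j = 0 ∨ (IsUnit ((n j : ℕ) : D) ∧ 1 ≤ n j ∧
      ∃ u : R, IsUnit (algebraMap R D u) ∧ x j ^ n j = algebraMap R D u)) :
    Algebra.FormallyUnramified R D := by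
  have key : ∀ y : D, KaehlerDifferential.D R D y = 0 := by
    intro y
    have hy : y ∈ Algebra.adjoin R (Set.range x) := by rw [hgen]; trivial
    induction hy using Algebra.adjoin_induction with
    | mem y hy =>
      obtain ⟨j, rfl⟩ := hy
      rcases hx j with h0 | ⟨hn, h1, u, hu, hpow⟩
      · rw [h0, map_zero]
      · have hxu : IsUnit (x j) := by
          have : IsUnit (x j ^ n j) := hpow ▸ hu
          exact (isUnit_pow_iff (by omega)).mp this
        have h2 := congrArg (KaehlerDifferential.D R D) hpow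
        rw [Derivation.leibniz_pow, Derivation.map_algebraMap] at h2
        have h3 : (((n j : ℕ) : D) * x j ^ (n j - 1)) • KaehlerDifferential.D R D (x j) = 0 := by
          rw [mul_smul, ← h2, Nat.cast_smul_eq_nsmul]
        exact (IsUnit.smul_eq_zero (hn.mul (hxu.pow _))).mp h3
    | algebraMap r => exact (KaehlerDifferential.D R D).map_algebraMap r
    | add a b _ _ ha hb => rw [map_add, ha, hb, add_zero]
    | mul a b _ _ ha hb => rw [Derivation.leibniz, ha, hb, smul_zero, smul_zero, add_zero]
  rw [Algebra.formallyUnramified_iff]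
  have hspan := KaehlerDifferential.span_range_derivation R D
  have hbot : Submodule.span D (Set.range (KaehlerDifferential.D R D)) = ⊥ := by
    rw [Submodule.span_eq_bot]
    rintro _ ⟨y, rfl⟩
    exact key y
  rw [hbot] at hspan
  exact subsingleton_of_bot_eq_top (α := Submodule D Ω[D⁄R]) hspan |> fun h =>
    (Submodule.subsingleton_iff D).mp h

/-- quotient of a ring generated over a local ring `R` by Kummer-type elements, by an element
`t i₀` dividing the image of the maximal ideal: reduced and artinian -/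
theorem isArtinian_isReduced_quotient (R : Type u) [CommRing R] [IsLocalRing R]
    (C : Type u) [CommRing C] [Algebra R C] {ι : Type*} [Finite ι] (t : ι → C) (n : ι → ℕ) (i₀ : ι)
    (hgen : Algebra.adjoin R (Set.range t) = ⊤)
    (hm : ∀ a ∈ maximalIdeal R, algebraMap R C a ∈ Ideal.span {t i₀})
    (hj : ∀ j, j ≠ i₀ → IsUnit ((n j : ℕ) : R) ∧ 1 ≤ n j ∧
      ∃ u : Rˣ, t j ^ n j = algebraMap R C u) :
    IsArtinianRing (C ⧸ Ideal.span {t i₀}) ∧ IsReduced (C ⧸ Ideal.span {t i₀}) := by
  classical
  set I : Ideal C := Ideal.span {t i₀} with hI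
  have hgen' : Algebra.adjoin R (Set.range fun j => (Ideal.Quotient.mk I (t j))) = ⊤ := by
    have h1 := AlgHom.map_adjoin (Ideal.Quotient.mkₐ R I) (Set.range t)
    rw [hgen, Algebra.map_top, (AlgHom.range_eq_top _).mpr (Ideal.Quotient.mkₐ_surjective R I),
      ← Set.range_comp] at h1
    exact h1.symm
  haveI hunr : Algebra.FormallyUnramified R (C ⧸ I) := by
    refine formallyUnramified_of_gens R (C ⧸ I) (fun j => Ideal.Quotient.mk I (t j)) n hgen' ?_
    intro j
    by_cases hji : j = i₀
    · left
      rw [hji, Ideal.Quotient.eq_zero_iff_mem]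
      exact Ideal.mem_span_singleton_self _
    · right
      obtain ⟨hnj, h1, u, hu⟩ := hj j hji
      refine ⟨?_, h1, (u : R), u.isUnit.map _, ?_⟩
      · have := hnj.map (algebraMap R (C ⧸ I))
        rwa [map_natCast] at this
      · rw [← map_pow, hu]
        rfl
  have hker : ∀ a ∈ maximalIdeal R, algebraMap R (C ⧸ I) a = 0 := by
    intro a ha
    change Ideal.Quotient.mk I (algebraMap R C a) = 0
    rw [Ideal.Quotient.eq_zero_iff_mem]
    exact hm a ha
  letI algκ : Algebra (ResidueField R) (C ⧸ I) :=
    (Ideal.Quotient.lift (maximalIdeal R) (algebraMap R (C ⧸ I)) hker).toAlgebra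
  haveI : IsScalarTower R (ResidueField R) (C ⧸ I) := IsScalarTower.of_algebraMap_eq (fun r => rfl)
  haveI : Algebra.FormallyUnramified (ResidueField R) (C ⧸ I) := .of_restrictScalars R _ _
  haveI hft : Algebra.FiniteType R (C ⧸ I) := by
    refine ⟨⟨(Set.finite_range fun j => (Ideal.Quotient.mk I (t j))).toFinset, ?_⟩⟩
    rw [Set.Finite.coe_toFinset]
    exact hgen'
  haveI : Algebra.FiniteType (ResidueField R) (C ⧸ I) :=
    Algebra.FiniteType.of_restrictScalars_finiteType R _ _
  haveI : Module.Finite (ResidueField R) (C ⧸ I) :=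
    Algebra.FormallyUnramified.finite_of_free _ _
  exact ⟨IsArtinianRing.of_finite (ResidueField R) _,
    Algebra.FormallyUnramified.isReduced_of_field (ResidueField R) _⟩

end unram

section main

open Groth.Agent.Lib.T2H9

variable (R K M : Type u) [CommRing R] [IsDomain R] [IsDiscreteValuationRing R]
  [Field K] [Algebra R K] [IsFractionRing R K] [Field M] [Algebra K M] [FiniteDimensional K M]
  [Algebra R M] [IsScalarTower R K M]
  {ι : Type} [Finite ι] (t : ι → M) (n : ι → ℕ) (i₀ : ι) (ϖ : R)

theorem mem_of_pow_mem (W : ValuationSubring M) (x : M) (k : ℕ) (hk : 1 ≤ k) (h : x ^ k ∈ W) :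
    x ∈ W := by
  rw [← W.valuation_le_one_iff] at h ⊢
  by_contra hlt
  push Not at hlt
  rw [map_pow] at h
  exact absurd h (not_le.mpr (one_lt_pow₀ hlt (by omega)))

theorem valuation_eq_one_of_pow (W : ValuationSubring M) (x : M) (k : ℕ) (hk : 1 ≤ k)
    (h : W.valuation (x ^ k) = 1) : W.valuation x = 1 := by
  rw [map_pow] at h
  rcases lt_trichotomy (W.valuation x) 1 with h1 | h1 | h1
  · exact absurd h (ne_of_lt (pow_lt_one₀ zero_le h1 (by omega)))
  · exact h1
  · exact absurd h (ne_of_gt (one_lt_pow₀ h1 (by omega)))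

include K in
theorem tame_of_kummer_gens (hϖ : Irreducible ϖ)
    (h₀ : t i₀ ^ n i₀ = algebraMap R M ϖ)
    (hj : ∀ j, j ≠ i₀ → IsUnit ((n j : ℕ) : R) ∧ 1 ≤ n j ∧
      ∃ u : Rˣ, t j ^ n j = algebraMap R M u)
    (hfrac : ∀ x : M, ∃ y ∈ Algebra.adjoin R (Set.range t),
      ∃ y' ∈ Algebra.adjoin R (Set.range t), y' ≠ 0 ∧ x * y' = y)
    (W : ValuationSubring M) (hW : EtRam.Dominates R (algebraMap R M) W) :
    letI : Algebra R W := (RingHom.codRestrict (algebraMap R M) W hW.1).toAlgebra
    ∀ [IsLocalHom (algebraMap R W)],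
      Algebra.IsSeparable (ResidueField R) (ResidueField W) ∧
      Ideal.ramificationIdx' (maximalIdeal R) (maximalIdeal W) = n i₀ := by
  letI algRW : Algebra R W := (RingHom.codRestrict (algebraMap R M) W hW.1).toAlgebra
  intro hloc
  classical
  haveI hdvr : IsDiscreteValuationRing W :=
    FinDVR.isDiscreteValuationRing_of_dominates R K M W hW
  have hϖm : ϖ ∈ maximalIdeal R := by
    rw [mem_maximalIdeal, mem_nonunits_iff]
    exact hϖ.not_isUnit
  have hvϖ : W.valuation (algebraMap R M ϖ) < 1 := hW.2 ϖ hϖm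
  have hn₀ : 1 ≤ n i₀ := by
    by_contra h
    have h0 : n i₀ = 0 := by omega
    rw [h0, pow_zero] at h₀
    rw [← h₀, map_one] at hvϖ
    exact lt_irrefl _ hvϖ
  -- the generators lie in `W`
  have htW : ∀ j, t j ∈ W := by
    intro j
    by_cases hji : j = i₀
    · rw [hji]
      exact mem_of_pow_mem M W _ _ hn₀ (h₀ ▸ hW.1 ϖ)
    · obtain ⟨_, h1, u, hu⟩ := hj j hji
      exact mem_of_pow_mem M W _ _ h1 (hu ▸ hW.1 _)
  have hvt₀ : W.valuation (t i₀) < 1 := by
    by_contra hge
    push Not at hge
    have : 1 ≤ W.valuation (t i₀) ^ n i₀ := one_le_pow₀ hge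
    rw [← map_pow, h₀] at this
    exact absurd hvϖ (not_lt.mpr this)
  have ht₀0 : t i₀ ≠ 0 := by
    intro h0
    rw [h0, zero_pow (by omega)] at h₀
    have : algebraMap R M ϖ ≠ 0 := by
      rw [Ne, map_eq_zero_iff _ (FinDVR.algebraMap_injective R K M)]
      exact hϖ.ne_zero
    exact this h₀.symm
  set C : Subalgebra R M := Algebra.adjoin R (Set.range t) with hC
  have hCW : ∀ x ∈ C, x ∈ W := by
    intro x hx
    induction hx using Algebra.adjoin_induction with
    | mem y hy => obtain ⟨j, rfl⟩ := hy; exact htW j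
    | algebraMap r => exact hW.1 r
    | add a b _ _ ha hb => exact W.add_mem _ _ ha hb
    | mul a b _ _ ha hb => exact W.mul_mem _ _ ha hb
  let tC : ι → C := fun j => ⟨t j, Algebra.subset_adjoin ⟨j, rfl⟩⟩
  have hgenC : Algebra.adjoin R (Set.range tC) = ⊤ := by
    have h1 := Algebra.adjoin_adjoin_coe_preimage (R := R) (s := Set.range t)
    have h2 : Set.range tC = ((↑) : C → M) ⁻¹' (Set.range t) := by
      ext x
      constructor
      · rintro ⟨j, rfl⟩
        exact ⟨j, rfl⟩
      · rintro ⟨j, hj'⟩
        exact ⟨j, Subtype.ext hj'⟩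
    rw [h2]
    exact h1
  have hϖC : algebraMap R C ϖ = tC i₀ ^ n i₀ := Subtype.ext h₀.symm
  have hmC : ∀ a ∈ maximalIdeal R, algebraMap R C a ∈ Ideal.span {tC i₀} := by
    intro a ha
    rw [hϖ.maximalIdeal_eq, Ideal.mem_span_singleton'] at ha
    obtain ⟨b, rfl⟩ := ha
    rw [map_mul, Ideal.mem_span_singleton, hϖC]
    exact Dvd.dvd.mul_left (dvd_pow_self _ (by omega)) _
  have hjC : ∀ j, j ≠ i₀ → IsUnit ((n j : ℕ) : R) ∧ 1 ≤ n j ∧
      ∃ u : Rˣ, tC j ^ n j = algebraMap R C u := by
    intro j hji
    obtain ⟨h1, h2, u, hu⟩ := hj j hji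
    exact ⟨h1, h2, u, Subtype.ext hu⟩
  obtain ⟨hart, hred⟩ := isArtinian_isReduced_quotient R C tC n i₀ hgenC hmC hjC
  haveI := hart
  haveI := hred
  let 𝔫 : Ideal C :=
    { carrier := {c | W.valuation (c : M) < 1}
      add_mem' := fun {a b} ha hb => by
        change W.valuation ((a : M) + (b : M)) < 1
        exact lt_of_le_of_lt (W.valuation.map_add _ _) (max_lt ha hb)
      zero_mem' := by
        change W.valuation (0 : M) < 1
        rw [map_zero]
        exact zero_lt_one
      smul_mem' := fun c x hx => by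
        change W.valuation ((c : M) * (x : M)) < 1
        rw [map_mul]
        have hc : W.valuation (c : M) ≤ 1 := (W.valuation_le_one_iff _).mpr (hCW _ c.2)
        calc W.valuation (c : M) * W.valuation (x : M) ≤ 1 * W.valuation (x : M) :=
              mul_le_mul_left hc _
          _ = W.valuation (x : M) := one_mul _
          _ < 1 := hx }
  have h𝔫mem : ∀ c : C, c ∈ 𝔫 ↔ W.valuation (c : M) < 1 := fun c => Iff.rfl
  have h𝔫 : 𝔫 ≠ ⊤ := by
    intro h
    have : (1 : C) ∈ 𝔫 := by rw [h]; trivial
    rw [h𝔫mem] at this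
    simp at this
  have hτ : tC i₀ ∈ 𝔫 := hvt₀
  have h2 : ∀ y ∈ C.toSubring, W.valuation y < 1 → ∃ s ∈ C.toSubring, W.valuation s = 1 ∧
      ∃ y' ∈ C.toSubring, s * y = t i₀ * y' := by
    intro y hy hy1
    obtain ⟨s, hs, y', hsy⟩ := RedArt.exists_mul_eq_mul (tC i₀) 𝔫 h𝔫 hτ ⟨y, hy⟩ hy1
    refine ⟨(s : M), s.2, ?_, (y' : M), y'.2, congrArg Subtype.val hsy⟩
    have h1 : W.valuation (s : M) ≤ 1 := (W.valuation_le_one_iff _).mpr (hCW _ s.2)
    rw [h𝔫mem] at hs
    exact le_antisymm h1 (not_lt.mp hs)
  obtain ⟨hA, hB⟩ := ValGen.gen_of_subring W C.toSubring (fun x hx => hCW x hx) (t i₀)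
    (Algebra.subset_adjoin ⟨i₀, rfl⟩) hvt₀ ht₀0 h2 hfrac
  -- ramification index
  let τW : W := ⟨t i₀, htW i₀⟩
  have hmW : maximalIdeal W = Ideal.span {τW} := by
    apply le_antisymm
    · intro x hx
      rw [ValuationSubring.valuation_lt_one_iff] at hx
      obtain ⟨w, hw, hxw⟩ := hA _ hx
      rw [Ideal.mem_span_singleton]
      exact ⟨⟨w, hw⟩, Subtype.ext hxw⟩
    · rw [Ideal.span_singleton_le_iff_mem, ValuationSubring.valuation_lt_one_iff]
      exact hvt₀
  have hω : Irreducible τW := (IsDiscreteValuationRing.irreducible_iff_uniformizer _).mpr hmW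
  have hx : (maximalIdeal R).map (algebraMap R W) = Ideal.span {algebraMap R W ϖ} := by
    rw [hϖ.maximalIdeal_eq, Ideal.map_span, Set.image_singleton]
  have hxk : algebraMap R W ϖ = ((1 : Wˣ) : W) * τW ^ n i₀ := by
    rw [Units.val_one, one_mul]
    exact Subtype.ext h₀.symm
  refine ⟨?_, TotRamDeg.ramificationIdx'_eq_of_span _ hx τW hω 1 (n i₀) hxk⟩
  -- separability of the residue field extension
  let incl : C →+* W := RingHom.codRestrict C.val.toRingHom W (fun c => hCW _ c.2)
  let ρ : C →+* ResidueField W := (residue W).comp incl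
  have hρalg : ∀ r : R, ρ (algebraMap R C r) =
      algebraMap (ResidueField R) (ResidueField W) (residue R r) := by
    intro r
    rfl
  set F := separableClosure (ResidueField R) (ResidueField W) with hF
  have hρF : ∀ c : C, ρ c ∈ F := by
    intro c
    have hc : c ∈ Algebra.adjoin R (Set.range tC) := by rw [hgenC]; trivial
    induction hc using Algebra.adjoin_induction with
    | mem y hy =>
      obtain ⟨j, rfl⟩ := hy
      by_cases hji : j = i₀
      · have : ρ (tC j) = 0 := by
          rw [hji]
          change residue W τW = 0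
          rw [residue_eq_zero_iff, hmW]
          exact Ideal.mem_span_singleton_self _
        rw [this]
        exact F.zero_mem
      · obtain ⟨hnj, h1, u, hu⟩ := hjC j hji
        rw [hF, mem_separableClosure_iff]
        have hpow : ρ (tC j) ^ n j =
            algebraMap (ResidueField R) (ResidueField W) (residue R u) := by
          rw [← map_pow, hu, hρalg]
        have hnk : ((n j : ℕ) : ResidueField R) ≠ 0 := by
          have := hnj.map (residue R)
          rw [map_natCast] at this
          exact this.ne_zero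
        have huk : residue R (u : R) ≠ 0 := (u.isUnit.map (residue R)).ne_zero
        have hsepP : (X ^ n j - Polynomial.C (residue R (u : R)) : (ResidueField R)[X]).Separable :=
          separable_X_pow_sub_C _ hnk huk
        have hroot : aeval (ρ (tC j)) (X ^ n j - Polynomial.C (residue R (u : R)) : (ResidueField R)[X]) = 0 := by
          rw [map_sub, map_pow, aeval_X, aeval_C, hpow, sub_self]
        exact Polynomial.Separable.of_dvd hsepP (minpoly.dvd _ _ hroot)
    | algebraMap r =>
      rw [hρalg]
      exact F.algebraMap_mem _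
    | add a b _ _ ha hb =>
      rw [map_add]
      exact F.add_mem ha hb
    | mul a b _ _ ha hb =>
      rw [map_mul]
      exact F.mul_mem ha hb
  have htop : F = ⊤ := by
    rw [eq_top_iff]
    intro xbar _
    obtain ⟨x, rfl⟩ := residue_surjective xbar
    by_cases hxm : x ∈ maximalIdeal W
    · rw [(residue_eq_zero_iff x).mpr hxm]
      exact F.zero_mem
    · have hv1 : W.valuation (x : M) = 1 := by
        have h1 : W.valuation (x : M) ≤ 1 := (W.valuation_le_one_iff _).mpr x.2
        rw [ValuationSubring.valuation_lt_one_iff] at hxm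
        exact le_antisymm h1 (not_lt.mp hxm)
      obtain ⟨u, hu, u', hu', hvu, hvu', hxu⟩ := hB _ hv1
      have hmul : residue W x * ρ ⟨u', hu'⟩ = ρ ⟨u, hu⟩ := by
        change residue W x * residue W (incl ⟨u', hu'⟩) = residue W (incl ⟨u, hu⟩)
        rw [← map_mul]
        congr 1
        exact Subtype.ext hxu
      have hne : ρ ⟨u', hu'⟩ ≠ 0 := by
        change residue W (incl ⟨u', hu'⟩) ≠ 0
        rw [Ne, residue_eq_zero_iff, ValuationSubring.valuation_lt_one_iff]
        change ¬ W.valuation u' < 1
        rw [hvu']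
        exact lt_irrefl _
      have : residue W x = ρ ⟨u, hu⟩ / ρ ⟨u', hu'⟩ := by
        rw [eq_div_iff hne, hmul]
      rw [this]
      exact F.div_mem (hρF _) (hρF _)
  exact (separableClosure.eq_top_iff (F := ResidueField R) (E := ResidueField W)).mp htop

end main

end Groth.Agent.Lib.LeadTame
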