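import Mathlib
import Groth.Prelude.Def_EtRam
import Groth.Prelude.Def_SGA1
import Groth.Agent.Lib.LeadTameA

set_option autoImplicit false
set_option maxHeartbeats 400000
set_option linter.style.haveILetI false
set_option linter.unusedSectionVars false
set_option linter.unusedVariables false

/-!
# The Kummer algebra of part of a regular system of parameters is tamely ramified
-/

universe u

namespace Groth.Agent.Lib.LeadTame

open IsLocalRing

section prelim

variable (A : Type u) [CommRing A] [IsLocalRing A] [IsNoetherianRing A] [IsDomain A]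

/-- the localization of a Noetherian local domain at a nonzero principal prime is a DVR -/
theorem isDVR_localization_principal (a : A) (ha : a ≠ 0) [hP : (Ideal.span ({a} : Set A)).IsPrime] :
    IsDiscreteValuationRing (Localization.AtPrime (Ideal.span {a})) ∧
      Irreducible (algebraMap A (Localization.AtPrime (Ideal.span {a})) a) := by
  set R := Localization.AtPrime (Ideal.span {a}) with hR
  have hmax : maximalIdeal R = Ideal.span {algebraMap A R a} := by
    rw [← IsLocalization.AtPrime.map_eq_maximalIdeal (Ideal.span {a}) R, Ideal.map_span,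
      Set.image_singleton]
  have hinj : Function.Injective (algebraMap A R) :=
    IsLocalization.injective R (Ideal.primeCompl_le_nonZeroDivisors (Ideal.span {a}))
  have ha' : algebraMap A R a ≠ 0 := by
    rw [Ne, map_eq_zero_iff _ hinj]
    exact ha
  have hnf : ¬ IsField R := by
    intro hfield
    have : maximalIdeal R = ⊥ := by
      letI := hfield.toField
      exact IsLocalRing.maximalIdeal_eq_bot
    rw [hmax, Ideal.span_singleton_eq_bot] at this
    exact ha' this
  have hdvr : IsDiscreteValuationRing R :=
    ((IsDiscreteValuationRing.TFAE R hnf).out 0 4).mpr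
      (⟨⟨algebraMap A R a, hmax⟩⟩ : (maximalIdeal R).IsPrincipal)
  exact ⟨hdvr, (IsDiscreteValuationRing.irreducible_iff_uniformizer _).mpr hmax⟩

variable {A} in
theorem ne_zero_of_linearIndependent {r : ℕ} (f : Fin r → A) (hm : ∀ i, f i ∈ maximalIdeal A)
    (hf : LinearIndependent (ResidueField A)
      (fun i => (maximalIdeal A).toCotangent ⟨f i, hm i⟩)) (i : Fin r) : f i ≠ 0 := by
  intro h0
  have h1 := hf.ne_zero i
  apply h1
  have : (⟨f i, hm i⟩ : maximalIdeal A) = 0 := Subtype.ext h0
  simp only [this, map_zero]

variable {A} in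
theorem notMem_span_of_linearIndependent {r : ℕ} (f : Fin r → A) (hm : ∀ i, f i ∈ maximalIdeal A)
    (hf : LinearIndependent (ResidueField A)
      (fun i => (maximalIdeal A).toCotangent ⟨f i, hm i⟩)) (i j : Fin r) (hji : j ≠ i) :
    f j ∉ Ideal.span {f i} := by
  intro hmem
  rw [Ideal.mem_span_singleton'] at hmem
  obtain ⟨a, ha⟩ := hmem
  have h1 := hf.notMem_span_image (s := {i}) (x := j) (by simpa using hji)
  apply h1
  rw [Set.image_singleton]
  have h2 : (⟨f j, hm j⟩ : maximalIdeal A) = a • ⟨f i, hm i⟩ := Subtype.ext (by simpa using ha.symm)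
  have h3 : (maximalIdeal A).toCotangent ⟨f j, hm j⟩ =
      (residue A a) • (maximalIdeal A).toCotangent ⟨f i, hm i⟩ := by
    rw [h2, map_smul]
    rfl
  change (maximalIdeal A).toCotangent ⟨f j, hm j⟩ ∈ _
  rw [h3]
  exact Submodule.smul_mem _ _ (Submodule.mem_span_singleton_self _)

variable {A} in
theorem isUnit_natCast_of_residue (k : ℕ) (hk : IsUnit ((k : ℕ) : ResidueField A)) :
    IsUnit ((k : ℕ) : A) := by
  have h1 : residue A ((k : ℕ) : A) = ((k : ℕ) : ResidueField A) := map_natCast _ _
  rw [← h1] at hk
  exact (isUnit_map_iff (residue A) _).mp hk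

end prelim

section kummer

variable (A : Type u) [CommRing A] [IsLocalRing A] [IsNoetherianRing A] [IsDomain A]
  {r : ℕ} (f : Fin r → A) (n : Fin r → ℕ)

/-- the class of `X j` in the Kummer algebra -/
noncomputable def kx (j : Fin r) : SGA1.kummerAlg A f n :=
  Ideal.Quotient.mk _ (MvPolynomial.X j)

theorem kx_pow (j : Fin r) :
    kx A f n j ^ n j = algebraMap A (SGA1.kummerAlg A f n) (f j) := by
  unfold kx
  rw [← map_pow]
  change _ = Ideal.Quotient.mk _ (MvPolynomial.C (f j))
  rw [Ideal.Quotient.eq]
  exact Ideal.subset_span ⟨j, rfl⟩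

/-- every element of the Kummer algebra is a polynomial in the classes `kx j` -/
theorem kummer_induction (p : SGA1.kummerAlg A f n → Prop)
    (hC : ∀ a, p (algebraMap A _ a)) (hX : ∀ j, p (kx A f n j))
    (hadd : ∀ x y, p x → p y → p (x + y)) (hmul : ∀ x y, p x → p y → p (x * y)) :
    ∀ x, p x := by
  intro x
  obtain ⟨P, rfl⟩ := Ideal.Quotient.mk_surjective x
  induction P using MvPolynomial.induction_on with
  | C a => exact hC a
  | add P Q hP hQ => rw [map_add]; exact hadd _ _ hP hQ
  | mul_X P j hP => rw [map_mul]; exact hmul _ _ hP (hX j)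

theorem main_core (i : Fin r) (hn : ∀ j, 1 ≤ n j) (hnu : ∀ j, IsUnit ((n j : ℕ) : A))
    (R : Type u) [CommRing R] [IsDomain R] [IsDiscreteValuationRing R] [Algebra A R]
    (hirr : Irreducible (algebraMap A R (f i)))
    (hunit : ∀ j, j ≠ i → IsUnit (algebraMap A R (f j)))
    (M : Type u) [Field M] [Algebra (SGA1.kummerAlg A f n) M] (g : R →+* M)
    (hginj : Function.Injective g)
    (hgA : ∀ a : A, g (algebraMap A R a) =
      algebraMap (SGA1.kummerAlg A f n) M (algebraMap A (SGA1.kummerAlg A f n) a))
    (hfracM : ∀ x : M, ∃ a b : SGA1.kummerAlg A f n,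
      algebraMap (SGA1.kummerAlg A f n) M b ≠ 0 ∧
        x * algebraMap (SGA1.kummerAlg A f n) M b = algebraMap (SGA1.kummerAlg A f n) M a) :
    EtRam.IsTamelyRamified R g := by
  classical
  letI algRM : Algebra R M := g.toAlgebra
  letI algKM : Algebra (FractionRing R) M :=
    (IsFractionRing.lift (K := FractionRing R) (g := algebraMap R M) hginj).toAlgebra
  haveI : @IsScalarTower R (FractionRing R) M Algebra.toSMul Algebra.toSMul Algebra.toSMul :=
    IsScalarTower.of_algebraMap_eq (fun x => (IsFractionRing.lift_algebraMap hginj x).symm)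
  let t : Fin r → M := fun j => algebraMap (SGA1.kummerAlg A f n) M (kx A f n j)
  have htpow : ∀ j, t j ^ n j = algebraMap R M (algebraMap A R (f j)) := by
    intro j
    change algebraMap (SGA1.kummerAlg A f n) M (kx A f n j) ^ n j = g (algebraMap A R (f j))
    rw [← map_pow, kx_pow, hgA]
  -- the image of the Kummer algebra lies in the adjoined subalgebra
  have himB : ∀ b : SGA1.kummerAlg A f n,
      algebraMap (SGA1.kummerAlg A f n) M b ∈ Algebra.adjoin R (Set.range t) := by
    refine kummer_induction A f n _ ?_ ?_ ?_ ?_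
    · intro a
      rw [← hgA]
      exact Subalgebra.algebraMap_mem _ (algebraMap A R a)
    · intro j
      exact Algebra.subset_adjoin ⟨j, rfl⟩
    · intro x y hx hy
      rw [map_add]
      exact Subalgebra.add_mem _ hx hy
    · intro x y hx hy
      rw [map_mul]
      exact Subalgebra.mul_mem _ hx hy
  have hfrac : ∀ x : M, ∃ y ∈ Algebra.adjoin R (Set.range t),
      ∃ y' ∈ Algebra.adjoin R (Set.range t), y' ≠ 0 ∧ x * y' = y := by
    intro x
    obtain ⟨a, b, hb0, hab⟩ := hfracM x
    exact ⟨_, himB a, _, himB b, hb0, hab⟩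
  -- finiteness
  haveI hfin : FiniteDimensional (FractionRing R) M := by
    have hint : ∀ x ∈ Set.range t, IsIntegral (FractionRing R) x := by
      rintro _ ⟨j, rfl⟩
      refine IsIntegral.of_pow (n := n j) (by have := hn j; omega) ?_
      rw [htpow, IsScalarTower.algebraMap_apply R (FractionRing R) M]
      exact isIntegral_algebraMap
    haveI : FiniteDimensional (FractionRing R)
        (IntermediateField.adjoin (FractionRing R) (Set.range t)) :=
      IntermediateField.finiteDimensional_adjoin hint
    have htop : IntermediateField.adjoin (FractionRing R) (Set.range t) = ⊤ := by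
      rw [eq_top_iff]
      intro x _
      have hle : ∀ y ∈ Algebra.adjoin R (Set.range t),
          y ∈ IntermediateField.adjoin (FractionRing R) (Set.range t) := by
        intro y hy
        induction hy using Algebra.adjoin_induction with
        | mem z hz => exact IntermediateField.subset_adjoin (FractionRing R) _ hz
        | algebraMap c =>
          rw [IsScalarTower.algebraMap_apply R (FractionRing R) M]
          exact IntermediateField.algebraMap_mem _ _
        | add a b _ _ ha hb => exact add_mem ha hb
        | mul a b _ _ ha hb => exact mul_mem ha hb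
      obtain ⟨y, hy, y', hy', hy'0, hxy⟩ := hfrac x
      have : x = y / y' := by rw [eq_div_iff hy'0, hxy]
      rw [this]
      exact div_mem (hle y hy) (hle y' hy')
    rw [htop] at this
    exact (IntermediateField.topEquiv (F := FractionRing R) (E := M)).toLinearEquiv.finiteDimensional
  have hnR : ∀ j, IsUnit ((n j : ℕ) : R) := by
    intro j
    have := (hnu j).map (algebraMap A R)
    rwa [map_natCast] at this
  have hj : ∀ j, j ≠ i → IsUnit ((n j : ℕ) : R) ∧ 1 ≤ n j ∧
      ∃ u : Rˣ, t j ^ n j = algebraMap R M u := by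
    intro j hji
    exact ⟨hnR j, hn j, (hunit j hji).unit, by rw [htpow, IsUnit.unit_spec]⟩
  intro V hV hloc
  obtain ⟨hsep, hram⟩ := tame_of_kummer_gens R (FractionRing R) M t n i (algebraMap A R (f i))
    hirr (htpow i) hj hfrac V hV
  refine ⟨hsep, ?_⟩
  intro p hp hchar hdvd
  rw [hram] at hdvd
  have h0 : ((n i : ℕ) : ResidueField R) = 0 := (CharP.cast_eq_zero_iff _ p _).mpr hdvd
  have h1 : IsUnit ((n i : ℕ) : ResidueField R) := by
    have := (hnR i).map (residue R)
    rwa [map_natCast] at this
  exact h1.ne_zero h0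

theorem main (hm : ∀ i, f i ∈ maximalIdeal A)
    (hf : LinearIndependent (ResidueField A)
      (fun i => (maximalIdeal A).toCotangent ⟨f i, hm i⟩))
    [hP : ∀ i, (Ideal.span {f i}).IsPrime] (hn : ∀ i, 1 ≤ n i)
    (hu : ∀ i, IsUnit ((n i : ℕ) : ResidueField A)) :
    SGA1.IsTameAlong f (algebraMap A (SGA1.kummerAlg A f n)) := by
  intro i q hqp hq
  have hfi : f i ≠ 0 := ne_zero_of_linearIndependent f hm hf i
  obtain ⟨hdvr, hirr⟩ := isDVR_localization_principal A (f i) hfi
  haveI : IsDiscreteValuationRing (Localization.AtPrime (Ideal.span {f i})) := hdvr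
  have hAinj : Function.Injective (algebraMap A (Localization.AtPrime (Ideal.span {f i}))) :=
    IsLocalization.injective _ (Ideal.primeCompl_le_nonZeroDivisors (Ideal.span {f i}))
  have hg₀inj : Function.Injective ((algebraMap (SGA1.kummerAlg A f n) q.ResidueField).comp
      (algebraMap A (SGA1.kummerAlg A f n))) := by
    rw [injective_iff_map_eq_zero]
    intro a ha
    have h1 : algebraMap A (SGA1.kummerAlg A f n) a ∈ q := by
      rwa [RingHom.comp_apply, ← RingHom.mem_ker, Ideal.ker_algebraMap_residueField] at ha
    have h2 : a ∈ Ideal.comap (algebraMap A (SGA1.kummerAlg A f n)) q := h1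
    rw [hq] at h2
    exact h2
  refine main_core A f n i hn (fun j => isUnit_natCast_of_residue (A := A) (n j) (hu j))
    (Localization.AtPrime (Ideal.span {f i})) hirr ?_ q.ResidueField _ ?_ ?_ ?_
  · intro j hji
    exact IsLocalization.map_units _
      (⟨f j, notMem_span_of_linearIndependent f hm hf i j hji⟩ : (Ideal.span {f i}).primeCompl)
  · exact (IsLocalization.lift_injective_iff _).mpr
      (fun x y => ⟨fun h => by rw [hAinj h], fun h => by rw [hg₀inj h]⟩)
  · intro a
    exact IsLocalization.lift_eq _ a
  · intro x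
    obtain ⟨a, b, hb, rfl⟩ := IsFractionRing.div_surjective (A := SGA1.kummerAlg A f n ⧸ q) x
    obtain ⟨a', rfl⟩ := Ideal.Quotient.mk_surjective a
    obtain ⟨b', rfl⟩ := Ideal.Quotient.mk_surjective b
    have hb0 : algebraMap (SGA1.kummerAlg A f n ⧸ q) q.ResidueField (Ideal.Quotient.mk q b') ≠ 0 := by
      rw [Ne, map_eq_zero_iff _ (IsFractionRing.injective (SGA1.kummerAlg A f n ⧸ q) q.ResidueField)]
      exact nonZeroDivisors.ne_zero hb
    exact ⟨a', b', hb0, div_mul_cancel₀ _ hb0⟩

end kummer

end Groth.Agent.Lib.LeadTame
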