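import Mathlib
import Groth.Prelude.Def_EtRam
import Groth.Agent.Lib.LeadTameA

set_option autoImplicit false
set_option maxHeartbeats 400000
set_option linter.style.haveILetI false
set_option linter.unusedSectionVars false
set_option linter.unusedVariables false

/-!
# A finite formally unramified algebra over a DVR gives unramified extensions of valuation rings
-/

universe u

namespace Groth.Agent.Lib.LeadTame

open IsLocalRing Polynomial Groth.Agent.Lib.T2H9

section artred

/-- a finite type formally unramified algebra over a local ring which is killed by the maximal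
ideal is artinian and reduced -/
theorem isArtinian_isReduced_of_unramified (R : Type u) [CommRing R] [IsLocalRing R]
    (D : Type u) [CommRing D] [Algebra R D] [Algebra.FormallyUnramified R D]
    [Algebra.FiniteType R D] (hker : ∀ a ∈ maximalIdeal R, algebraMap R D a = 0) :
    IsArtinianRing D ∧ IsReduced D := by
  letI algκ : Algebra (ResidueField R) D :=
    (Ideal.Quotient.lift (maximalIdeal R) (algebraMap R D) hker).toAlgebra
  haveI : IsScalarTower R (ResidueField R) D := IsScalarTower.of_algebraMap_eq (fun r => rfl)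
  haveI : Algebra.FormallyUnramified (ResidueField R) D := .of_restrictScalars R _ _
  haveI : Algebra.FiniteType (ResidueField R) D :=
    Algebra.FiniteType.of_restrictScalars_finiteType R _ _
  haveI : Module.Finite (ResidueField R) D := Algebra.FormallyUnramified.finite_of_free _ _
  exact ⟨IsArtinianRing.of_finite (ResidueField R) _,
    Algebra.FormallyUnramified.isReduced_of_field (ResidueField R) _⟩

/-- a field which is a finite type formally unramified algebra over a local ring, killed by the
maximal ideal, is separable over the residue field (for the induced algebra structure) -/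
theorem isSeparable_of_unramified_field (R : Type u) [CommRing R] [IsLocalRing R]
    (Q : Type u) [Field Q] [Algebra R Q] [Algebra.FormallyUnramified R Q]
    [Algebra.FiniteType R Q] [Algebra (ResidueField R) Q] [IsScalarTower R (ResidueField R) Q] :
    Algebra.IsSeparable (ResidueField R) Q := by
  haveI : Algebra.FormallyUnramified (ResidueField R) Q := .of_restrictScalars R _ _
  haveI : Algebra.FiniteType (ResidueField R) Q :=
    Algebra.FiniteType.of_restrictScalars_finiteType R _ _
  exact Algebra.FormallyUnramified.isSeparable (ResidueField R) Q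

end artred

section main

variable (R K M : Type u) [CommRing R] [IsDomain R] [IsDiscreteValuationRing R]
  [Field K] [Algebra R K] [IsFractionRing R K] [Field M] [Algebra K M] [FiniteDimensional K M]
  [Algebra R M] [IsScalarTower R K M]

include K in
theorem unramified_of_subalgebra (C : Subalgebra R M) [Algebra.FormallyUnramified R C]
    [Algebra.FiniteType R C] (hCint : ∀ c ∈ C, IsIntegral R c)
    (hfrac : ∀ x : M, ∃ y ∈ C, ∃ y' ∈ C, y' ≠ 0 ∧ x * y' = y)
    (W : ValuationSubring M) (hW : EtRam.Dominates R (algebraMap R M) W) :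
    letI : Algebra R W := (RingHom.codRestrict (algebraMap R M) W hW.1).toAlgebra
    ∀ [IsLocalHom (algebraMap R W)],
      EtRam.IsWeaklyUnramified R W ∧
      Algebra.IsSeparable (ResidueField R) (ResidueField W) := by
  letI algRW : Algebra R W := (RingHom.codRestrict (algebraMap R M) W hW.1).toAlgebra
  intro hloc
  classical
  haveI hdvr : IsDiscreteValuationRing W :=
    FinDVR.isDiscreteValuationRing_of_dominates R K M W hW
  obtain ⟨ϖ, hϖ⟩ := IsDiscreteValuationRing.exists_irreducible R
  have hϖm : ϖ ∈ maximalIdeal R := by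
    rw [mem_maximalIdeal, mem_nonunits_iff]
    exact hϖ.not_isUnit
  have hvϖ : W.valuation (algebraMap R M ϖ) < 1 := hW.2 ϖ hϖm
  have hϖ0 : algebraMap R M ϖ ≠ 0 := by
    rw [Ne, map_eq_zero_iff _ (FinDVR.algebraMap_injective R K M)]
    exact hϖ.ne_zero
  have hCW : ∀ x ∈ C, x ∈ W := fun x hx =>
    TotRam.mem_of_isIntegralElem (algebraMap R M) W hW.1 x (hCint x hx)
  set τ : C := algebraMap R C ϖ with hτdef
  have hker : ∀ a ∈ maximalIdeal R, algebraMap R (C ⧸ Ideal.span {τ}) a = 0 := by
    intro a ha
    rw [hϖ.maximalIdeal_eq, Ideal.mem_span_singleton'] at ha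
    obtain ⟨b, rfl⟩ := ha
    change Ideal.Quotient.mk _ (algebraMap R C (b * ϖ)) = 0
    rw [Ideal.Quotient.eq_zero_iff_mem, map_mul, Ideal.mem_span_singleton]
    exact Dvd.intro_left _ rfl
  haveI : Algebra.FiniteType R (C ⧸ Ideal.span {τ}) :=
    Algebra.FiniteType.of_surjective (Ideal.Quotient.mkₐ R (Ideal.span {τ}))
      (Ideal.Quotient.mkₐ_surjective R _)
  obtain ⟨hart, hred⟩ := isArtinian_isReduced_of_unramified R (C ⧸ Ideal.span {τ}) hker
  haveI := hart
  haveI := hred
  let 𝔫 : Ideal C :=
    { carrier := {c | W.valuation (c : M) < 1}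
      add_mem' := fun {a b} ha hb => by
        change W.valuation ((a : M) + (b : M)) < 1
        exact lt_of_le_of_lt (W.valuation.map_add _ _) (max_lt ha hb)
      zero_mem' := by
        change W.valuation (0 : M) < 1
        rw [map_zero]
        exact zero_lt_one
      smul_mem' := fun c x hx => by
        change W.valuation ((c : M) * (x : M)) < 1
        rw [map_mul]
        have hc : W.valuation (c : M) ≤ 1 := (W.valuation_le_one_iff _).mpr (hCW _ c.2)
        calc W.valuation (c : M) * W.valuation (x : M) ≤ 1 * W.valuation (x : M) :=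
              mul_le_mul_left hc _
          _ = W.valuation (x : M) := one_mul _
          _ < 1 := hx }
  have h𝔫mem : ∀ c : C, c ∈ 𝔫 ↔ W.valuation (c : M) < 1 := fun c => Iff.rfl
  have h𝔫 : 𝔫 ≠ ⊤ := by
    intro h
    have : (1 : C) ∈ 𝔫 := by rw [h]; trivial
    rw [h𝔫mem] at this
    simp at this
  have hτ : τ ∈ 𝔫 := hvϖ
  have h2 : ∀ y ∈ C.toSubring, W.valuation y < 1 → ∃ s ∈ C.toSubring, W.valuation s = 1 ∧
      ∃ y' ∈ C.toSubring, s * y = algebraMap R M ϖ * y' := by
    intro y hy hy1
    obtain ⟨s, hs, y', hsy⟩ := RedArt.exists_mul_eq_mul τ 𝔫 h𝔫 hτ ⟨y, hy⟩ hy1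
    refine ⟨(s : M), s.2, ?_, (y' : M), y'.2, congrArg Subtype.val hsy⟩
    have h1 : W.valuation (s : M) ≤ 1 := (W.valuation_le_one_iff _).mpr (hCW _ s.2)
    rw [h𝔫mem] at hs
    exact le_antisymm h1 (not_lt.mp hs)
  obtain ⟨hA, hB⟩ := ValGen.gen_of_subring W C.toSubring (fun x hx => hCW x hx)
    (algebraMap R M ϖ) (C.algebraMap_mem ϖ) hvϖ hϖ0 h2 hfrac
  constructor
  · -- weakly unramified
    have hx : (maximalIdeal R).map (algebraMap R W) = Ideal.span {algebraMap R W ϖ} := by
      rw [hϖ.maximalIdeal_eq, Ideal.map_span, Set.image_singleton]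
    change (maximalIdeal R).map (algebraMap R W) = maximalIdeal W
    rw [hx]
    apply le_antisymm
    · rw [Ideal.span_singleton_le_iff_mem, ValuationSubring.valuation_lt_one_iff]
      exact hvϖ
    · intro x hx
      rw [ValuationSubring.valuation_lt_one_iff] at hx
      obtain ⟨w, hw, hxw⟩ := hA _ hx
      rw [Ideal.mem_span_singleton]
      exact ⟨⟨w, hw⟩, Subtype.ext hxw⟩
  · -- separability
    let incl : C →+* W := RingHom.codRestrict C.val.toRingHom W (fun c => hCW _ c.2)
    let ρ : C →+* ResidueField W := (residue W).comp incl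
    have hρ𝔫 : ∀ c : C, c ∈ 𝔫 → ρ c = 0 := by
      intro c hc
      change residue W (incl c) = 0
      rw [residue_eq_zero_iff, ValuationSubring.valuation_lt_one_iff]
      exact hc
    haveI hint : Algebra.IsIntegral R C :=
      ⟨fun c => (isIntegral_algHom_iff C.val Subtype.val_injective).mp (hCint _ c.2)⟩
    have hcomap : 𝔫.comap (algebraMap R C) = maximalIdeal R := by
      ext a
      rw [Ideal.mem_comap, h𝔫mem]
      constructor
      · intro ha
        rw [mem_maximalIdeal, mem_nonunits_iff]
        intro hu
        have h1 : W.valuation (algebraMap R M a) * W.valuation (algebraMap R M (hu.unit⁻¹ : Rˣ)) = 1 := by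
          rw [← map_mul, ← map_mul]
          have : a * ((hu.unit⁻¹ : Rˣ) : R) = 1 := hu.mul_val_inv
          rw [this, map_one, map_one]
        have h2' : W.valuation (algebraMap R M (hu.unit⁻¹ : Rˣ)) ≤ 1 :=
          (W.valuation_le_one_iff _).mpr (hW.1 _)
        have h3 : W.valuation (algebraMap R M a) * W.valuation (algebraMap R M (hu.unit⁻¹ : Rˣ)) < 1 :=
          lt_of_le_of_lt (mul_le_mul_right h2' _) (by rw [mul_one]; exact ha)
        rw [h1] at h3
        exact lt_irrefl _ h3
      · intro ha
        exact hW.2 a ha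
    haveI h𝔫prime : 𝔫.IsPrime := by
      refine ⟨h𝔫, ?_⟩
      intro a b hab
      rw [h𝔫mem] at hab ⊢
      rw [h𝔫mem]
      by_contra hcon
      push Not at hcon
      have ha1 : W.valuation (a : M) = 1 :=
        le_antisymm ((W.valuation_le_one_iff _).mpr (hCW _ a.2)) hcon.1
      have hb1 : W.valuation (b : M) = 1 :=
        le_antisymm ((W.valuation_le_one_iff _).mpr (hCW _ b.2)) hcon.2
      have : W.valuation ((a * b : C) : M) = 1 := by
        change W.valuation ((a : M) * (b : M)) = 1
        rw [map_mul, ha1, hb1, one_mul]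
      rw [this] at hab
      exact lt_irrefl _ hab
    haveI h𝔫max : 𝔫.IsMaximal :=
      Ideal.isMaximal_of_isIntegral_of_isMaximal_comap (R := R) 𝔫
        (hcomap ▸ maximalIdeal.isMaximal R)
    letI : Field (C ⧸ 𝔫) := Ideal.Quotient.field 𝔫
    haveI : Algebra.FiniteType R (C ⧸ 𝔫) :=
      Algebra.FiniteType.of_surjective (Ideal.Quotient.mkₐ R 𝔫) (Ideal.Quotient.mkₐ_surjective R _)
    have hkerL : ∀ a ∈ maximalIdeal R, algebraMap R (C ⧸ 𝔫) a = 0 := by
      intro a ha
      change Ideal.Quotient.mk _ (algebraMap R C a) = 0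
      rw [Ideal.Quotient.eq_zero_iff_mem]
      exact hW.2 a ha
    letI algκL : Algebra (ResidueField R) (C ⧸ 𝔫) :=
      (Ideal.Quotient.lift (maximalIdeal R) (algebraMap R (C ⧸ 𝔫)) hkerL).toAlgebra
    haveI : IsScalarTower R (ResidueField R) (C ⧸ 𝔫) :=
      IsScalarTower.of_algebraMap_eq (fun r => rfl)
    haveI hsepL : Algebra.IsSeparable (ResidueField R) (C ⧸ 𝔫) :=
      isSeparable_of_unramified_field R (C ⧸ 𝔫)
    let ρbar : (C ⧸ 𝔫) →ₐ[ResidueField R] ResidueField W :=
      { toRingHom := Ideal.Quotient.lift 𝔫 ρ hρ𝔫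
        commutes' := by
          intro r
          obtain ⟨r, rfl⟩ := Ideal.Quotient.mk_surjective r
          rfl }
    have hρbarinj : Function.Injective ρbar := (ρbar : (C ⧸ 𝔫) →+* ResidueField W).injective
    refine ⟨fun xbar => ?_⟩
    have hex : ∃ y : C ⧸ 𝔫, ρbar y = xbar := by
      obtain ⟨x, rfl⟩ := residue_surjective xbar
      by_cases hxm : x ∈ maximalIdeal W
      · exact ⟨0, by rw [map_zero, (residue_eq_zero_iff x).mpr hxm]⟩
      · have hv1 : W.valuation (x : M) = 1 := by
          have h1 : W.valuation (x : M) ≤ 1 := (W.valuation_le_one_iff _).mpr x.2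
          rw [ValuationSubring.valuation_lt_one_iff] at hxm
          exact le_antisymm h1 (not_lt.mp hxm)
        obtain ⟨u, hu, u', hu', hvu, hvu', hxu⟩ := hB _ hv1
        have hmul : residue W x * ρ ⟨u', hu'⟩ = ρ ⟨u, hu⟩ := by
          change residue W x * residue W (incl ⟨u', hu'⟩) = residue W (incl ⟨u, hu⟩)
          rw [← map_mul]
          congr 1
          exact Subtype.ext hxu
        have hne : ρ ⟨u', hu'⟩ ≠ 0 := by
          change residue W (incl ⟨u', hu'⟩) ≠ 0
          rw [Ne, residue_eq_zero_iff, ValuationSubring.valuation_lt_one_iff]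
          change ¬ W.valuation u' < 1
          rw [hvu']
          exact lt_irrefl _
        refine ⟨Ideal.Quotient.mk 𝔫 ⟨u, hu⟩ / Ideal.Quotient.mk 𝔫 ⟨u', hu'⟩, ?_⟩
        rw [map_div₀]
        change ρ ⟨u, hu⟩ / ρ ⟨u', hu'⟩ = _
        rw [div_eq_iff hne, hmul]
    obtain ⟨y, rfl⟩ := hex
    have := Algebra.IsSeparable.isSeparable (ResidueField R) y
    unfold IsSeparable at this ⊢
    rwa [minpoly.algHom_eq ρbar hρbarinj y]

end main

section alg

/-- a field generated (as ratios) by the image of a finite formally unramified algebra over a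
DVR `R` is tamely ramified (indeed unramified) with respect to `R` -/
theorem tame_of_finite_unramified (R M : Type u) [CommRing R] [IsDomain R]
    [IsDiscreteValuationRing R] [Field M] (g : R →+* M) (hg : Function.Injective g)
    (E : Type u) [CommRing E] [Algebra R E] [Module.Finite R E] [Algebra.FormallyUnramified R E]
    (φ : E →+* M) (hφ : ∀ r, φ (algebraMap R E r) = g r)
    (hfrac : ∀ x : M, ∃ a b : E, φ b ≠ 0 ∧ x * φ b = φ a) :
    EtRam.IsTamelyRamified R g := by
  classical
  letI algRM : Algebra R M := g.toAlgebra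
  letI algKM : Algebra (FractionRing R) M :=
    (IsFractionRing.lift (K := FractionRing R) (g := algebraMap R M) hg).toAlgebra
  haveI : @IsScalarTower R (FractionRing R) M Algebra.toSMul Algebra.toSMul Algebra.toSMul :=
    IsScalarTower.of_algebraMap_eq (fun x => (IsFractionRing.lift_algebraMap hg x).symm)
  let φ' : E →ₐ[R] M := { toRingHom := φ, commutes' := hφ }
  haveI : Algebra.FormallyUnramified R φ'.range :=
    Algebra.FormallyUnramified.of_surjective φ'.rangeRestrict φ'.rangeRestrict_surjective
  haveI : Algebra.FiniteType R φ'.range :=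
    Algebra.FiniteType.of_surjective φ'.rangeRestrict φ'.rangeRestrict_surjective
  have hCint : ∀ c ∈ φ'.range, IsIntegral R c := by
    rintro _ ⟨e, rfl⟩
    exact (Algebra.IsIntegral.isIntegral (R := R) e).map φ'
  have hfrac' : ∀ x : M, ∃ y ∈ φ'.range, ∃ y' ∈ φ'.range, y' ≠ 0 ∧ x * y' = y := by
    intro x
    obtain ⟨a, b, hb, hab⟩ := hfrac x
    exact ⟨φ a, ⟨a, rfl⟩, φ b, ⟨b, rfl⟩, hb, hab⟩
  haveI hfin : FiniteDimensional (FractionRing R) M := by
    obtain ⟨s, hs⟩ := (Module.Finite.fg_top (R := R) (M := E))
    have hint : ∀ x ∈ (φ '' (s : Set E)), IsIntegral (FractionRing R) x := by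
      rintro _ ⟨e, -, rfl⟩
      exact (hCint (φ e) ⟨e, rfl⟩).tower_top
    haveI : Finite (φ '' (s : Set E)) := (s.finite_toSet.image φ).to_subtype
    haveI : FiniteDimensional (FractionRing R)
        (IntermediateField.adjoin (FractionRing R) (φ '' (s : Set E))) :=
      IntermediateField.finiteDimensional_adjoin hint
    have hle : ∀ e : E, φ e ∈ IntermediateField.adjoin (FractionRing R) (φ '' (s : Set E)) := by
      intro e
      have he : e ∈ Submodule.span R (s : Set E) := by rw [hs]; trivial
      induction he using Submodule.span_induction with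
      | mem x hx => exact IntermediateField.subset_adjoin _ _ ⟨x, hx, rfl⟩
      | zero => rw [map_zero]; exact zero_mem _
      | add x y _ _ hx hy => rw [map_add]; exact add_mem hx hy
      | smul a x _ hx =>
        rw [Algebra.smul_def, map_mul, hφ]
        refine mul_mem ?_ hx
        change algebraMap R M a ∈ _
        rw [IsScalarTower.algebraMap_apply R (FractionRing R) M]
        exact IntermediateField.algebraMap_mem _ _
    have htop : IntermediateField.adjoin (FractionRing R) (φ '' (s : Set E)) = ⊤ := by
      rw [eq_top_iff]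
      intro x _
      obtain ⟨a, b, hb, hab⟩ := hfrac x
      have : x = φ a / φ b := by rw [eq_div_iff hb, hab]
      rw [this]
      exact div_mem (hle a) (hle b)
    rw [htop] at this
    exact (IntermediateField.topEquiv (F := FractionRing R) (E := M)).toLinearEquiv.finiteDimensional
  intro V hV
  letI algRV : Algebra R V := (RingHom.codRestrict (algebraMap R M) V hV.1).toAlgebra
  intro hloc
  haveI hdvr : IsDiscreteValuationRing V :=
    FinDVR.isDiscreteValuationRing_of_dominates R (FractionRing R) M V hV
  obtain ⟨hwu, hsep⟩ := unramified_of_subalgebra R (FractionRing R) M φ'.range hCint hfrac' V hV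
  refine ⟨hsep, ?_⟩
  intro p hp hchar hdvd
  have hram : Ideal.ramificationIdx' (maximalIdeal R) (maximalIdeal V) = 1 := by
    apply Ideal.ramificationIdx'_spec
    · rw [pow_one]
      exact le_of_eq hwu
    · intro hle
      have h1 : (maximalIdeal R).map (algebraMap R V) = maximalIdeal V := hwu
      rw [h1] at hle
      have := Ideal.pow_succ_lt_pow (IsDiscreteValuationRing.not_a_field V) 1
      rw [pow_one] at this
      exact not_lt_of_ge hle this
  rw [hram] at hdvd
  exact hp.one_lt.ne' (Nat.dvd_one.mp hdvd)

end alg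

end Groth.Agent.Lib.LeadTame
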