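import Mathlib
import Groth.Prelude.Def_EtRam
import Groth.Agent.Lib.LeadTameC

set_option autoImplicit false
set_option maxHeartbeats 400000
set_option linter.style.haveILetI false
set_option linter.unusedSectionVars false
set_option linter.unusedVariables false

/-!
# Finite étale covers of proper schemes are unramified along every DVR of a residue field
-/

universe u

namespace Groth.Agent.Lib.LeadTame

open AlgebraicGeometry CategoryTheory IsLocalRing TensorProduct

section scheme

/-- the canonical map from the spectrum of the residue field, through an affine open -/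
theorem fromSpecResidueField_eq_evaluation {X : Scheme.{u}} (x : X) (U : X.Opens)
    (hU : IsAffineOpen U) (hx : x ∈ U) :
    X.fromSpecResidueField x = Spec.map (X.evaluation U x hx) ≫ hU.fromSpec := by
  rw [Scheme.fromSpecResidueField, ← hU.fromSpecStalk_eq_fromSpecStalk hx,
    IsAffineOpen.fromSpecStalk, ← Category.assoc, ← Spec.map_comp]
  rfl

/-- ratios of evaluations of sections over an affine open exhaust the residue field -/
theorem exists_evaluation_ratio {Y : Scheme.{u}} (y : Y) (V : Y.Opens) (hV : IsAffineOpen V)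
    (hy : y ∈ V) (z : Y.residueField y) :
    ∃ c c' : Γ(Y, V), (Y.evaluation V y hy).hom c' ≠ 0 ∧
      z * (Y.evaluation V y hy).hom c' = (Y.evaluation V y hy).hom c := by
  obtain ⟨σ, rfl⟩ := Y.residue_surjective y z
  letI := Y.presheaf.algebra_section_stalk (U := V) ⟨y, hy⟩
  haveI := hV.isLocalization_stalk ⟨y, hy⟩
  obtain ⟨⟨c, c'⟩, hcc'⟩ := IsLocalization.surj (hV.primeIdealOf ⟨y, hy⟩).asIdeal.primeCompl σ
  refine ⟨c, c', ?_, ?_⟩
  · have hunit : IsUnit (algebraMap Γ(Y, V) (Y.presheaf.stalk y) c') :=
      IsLocalization.map_units _ c'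
    exact (hunit.map (Y.residue y).hom).ne_zero
  · have := congrArg (Y.residue y).hom hcc'
    rw [map_mul] at this
    exact this

theorem main_proper (k : Type u) [Field k] {X Y : Scheme.{u}}
    (s : X ⟶ Spec (CommRingCat.of k)) [IsProper s] (f : Y ⟶ X) [IsFinite f] [Etale f] (y : Y)
    (A : ValuationSubring (X.residueField (f.base y))) [IsDiscreteValuationRing A]
    (a : Spec (CommRingCat.of A) ⟶ Spec (CommRingCat.of k))
    (ha : Spec.map (CommRingCat.ofHom A.subtype) ≫ a = X.fromSpecResidueField (f.base y) ≫ s) :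
    EtRam.IsTamelyRamified A ((f.residueFieldMap y).hom.comp A.subtype) := by
  classical
  -- the valuative criterion
  have hex : ValuativeCriterion.Existence s := by
    have h : UniversallyClosed s := inferInstance
    rw [UniversallyClosed.eq_valuativeCriterion] at h
    exact h.1
  let S : ValuativeCommSq s :=
    { R := A
      K := X.residueField (f.base y)
      i₁ := X.fromSpecResidueField (f.base y)
      i₂ := a
      commSq := ⟨ha.symm⟩ }
  obtain ⟨⟨l, hl1, hl2⟩⟩ := (hex S).exists_lift
  replace hl1 : Spec.map (CommRingCat.ofHom A.subtype) ≫ l =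
      X.fromSpecResidueField (f.base y) := hl1
  -- an affine open around the image of the closed point
  obtain ⟨U, hU, hx₀U, -⟩ := exists_isAffineOpen_mem_and_subset
    (x := l (closedPoint A)) (U := ⊤) trivial
  have hlU : Set.range l ⊆ Set.range hU.fromSpec := by
    rw [hU.range_fromSpec]
    rintro _ ⟨p, rfl⟩
    exact ((specializes_closedPoint p).map l.continuous).mem_open U.2 hx₀U
  have hxU : f.base y ∈ U := by
    have h1 : X.fromSpecResidueField (f.base y)
        (default : Spec (X.residueField (f.base y))) = f.base y :=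
      Scheme.fromSpecResidueField_apply _ _
    rw [← h1, ← hl1]
    have : (Spec.map (CommRingCat.ofHom A.subtype) ≫ l) default ∈ Set.range l := ⟨_, rfl⟩
    have h2 := hlU this
    rw [hU.range_fromSpec] at h2
    exact h2
  let l' : Spec (CommRingCat.of A) ⟶ Spec Γ(X, U) := IsOpenImmersion.lift hU.fromSpec l hlU
  have hl' : l' ≫ hU.fromSpec = l := IsOpenImmersion.lift_fac _ _ _
  let ψ : Γ(X, U) ⟶ CommRingCat.of A := Spec.preimage l'
  have hψ : Spec.map ψ = l' := Spec.map_preimage l'
  -- compatibility with evaluation at `x`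
  have hψev : ψ ≫ CommRingCat.ofHom A.subtype = X.evaluation U (f.base y) hxU := by
    apply Spec.map_injective
    rw [Spec.map_comp, ← cancel_mono hU.fromSpec, Category.assoc, hψ, hl', hl1]
    exact fromSpecResidueField_eq_evaluation _ U hU hxU
  -- the affine open upstairs
  have hV : IsAffineOpen (f ⁻¹ᵁ U) := hU.preimage f
  have hyV : y ∈ f ⁻¹ᵁ U := hxU
  letI algRC : Algebra Γ(X, U) Γ(Y, f ⁻¹ᵁ U) := (f.app U).hom.toAlgebra
  haveI hfinRC : Module.Finite Γ(X, U) Γ(Y, f ⁻¹ᵁ U) := f.finite_app U hU
  haveI hetRC : Algebra.Etale Γ(X, U) Γ(Y, f ⁻¹ᵁ U) := by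
    have h := f.etale_appLE hU hV le_rfl
    rw [Scheme.Hom.appLE_eq_app] at h
    exact h
  letI algRA : Algebra Γ(X, U) A := ψ.hom.toAlgebra
  -- the maps to the residue field of `y`
  let g : A →+* Y.residueField y := (f.residueFieldMap y).hom.comp A.subtype
  have hginj : Function.Injective g :=
    (f.residueFieldMap y).hom.injective.comp Subtype.val_injective
  let ev : Γ(Y, f ⁻¹ᵁ U) →+* Y.residueField y := (Y.evaluation (f ⁻¹ᵁ U) y hyV).hom
  have hcompat : ∀ r : Γ(X, U), g (ψ.hom r) = ev (f.app U r) := by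
    intro r
    have h1 : ((ψ.hom r : A) : X.residueField (f.base y)) = X.evaluation U (f.base y) hxU r := by
      have := congrArg (fun φ => φ.hom r) hψev
      exact this
    change (f.residueFieldMap y).hom ((ψ.hom r : A) : X.residueField (f.base y)) = _
    rw [h1]
    exact Scheme.evaluation_naturality_apply f y hxU r
  letI algRκ : Algebra Γ(X, U) (Y.residueField y) := (g.comp ψ.hom).toAlgebra
  let gA : A →ₐ[Γ(X, U)] Y.residueField y := { toRingHom := g, commutes' := fun r => rfl }
  let evA : Γ(Y, f ⁻¹ᵁ U) →ₐ[Γ(X, U)] Y.residueField y :=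
    { toRingHom := ev, commutes' := fun r => (hcompat r).symm }
  let φ : A ⊗[Γ(X, U)] Γ(Y, f ⁻¹ᵁ U) →ₐ[Γ(X, U)] Y.residueField y :=
    Algebra.TensorProduct.productMap gA evA
  refine tame_of_finite_unramified A (Y.residueField y) g hginj
    (A ⊗[Γ(X, U)] Γ(Y, f ⁻¹ᵁ U)) φ.toRingHom ?_ ?_
  · intro r
    change φ (r ⊗ₜ 1) = g r
    rw [Algebra.TensorProduct.productMap_left_apply]
    rfl
  · intro z
    obtain ⟨c, c', hc', hcc'⟩ := exists_evaluation_ratio y (f ⁻¹ᵁ U) hV hyV z
    refine ⟨1 ⊗ₜ c, 1 ⊗ₜ c', ?_, ?_⟩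
    · change φ (1 ⊗ₜ c') ≠ 0
      rw [Algebra.TensorProduct.productMap_right_apply]
      exact hc'
    · change z * φ (1 ⊗ₜ c') = φ (1 ⊗ₜ c)
      rw [Algebra.TensorProduct.productMap_right_apply,
        Algebra.TensorProduct.productMap_right_apply]
      exact hcc'

end scheme

end Groth.Agent.Lib.LeadTame
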