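import Mathlib
import Groth.Agent.Lib.LeadFittSing
import Groth.Agent.Lib.Helper4VarDim11
import Groth.Agent.Lib.Helper4DimFormulaAJ
import Groth.Agent.Lib.Helper2FlatOver
import Groth.Agent.Lib.Helper18FittSh6
import Groth.Prelude.Def_FixPt

/-!
# The cotangent fibre at a closed point bounds the dimension of the fibre (lead)

Namespace `Groth.Agent.Lib.LeadTanDim`.

* `localDim_le_finrank`: for a finite type algebra over a field, the local dimension at a prime is at most the
  dimension of the fibre of the differentials there.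
* `fibLD_le_finrank`: relative version (local dimension of the fibre through `q`).
* `finrank_fiber_eq`: the fibre `M_x / 𝔪_x M_x` of a localised module, as a vector space over a field mapping
  onto the residue field, has the dimension of `κ(q) ⊗ N`.
* `main_S14443`.
-/

set_option autoImplicit false
set_option maxHeartbeats 400000
set_option linter.style.haveILetI false
set_option linter.unusedSectionVars false
set_option linter.unusedVariables false

universe u

open TensorProduct IsLocalRing Algebra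

namespace Groth.Agent.Lib.LeadTanDim

open Groth.Agent.Lib.LeadFlatSm Groth.Agent.Lib.LeadFittSing Groth.Agent.Lib.Helper4.FibDim

/-- over a field: the local dimension at a prime is at most the dimension of the cotangent fibre. -/
theorem localDim_le_finrank (k S : Type u) [Field k] [CommRing S] [Algebra k S]
    [Algebra.FiniteType k S] (q : Ideal S) [q.IsPrime] :
    FlatMor.localDim (PrimeSpectrum S) ⟨q, inferInstance⟩ ≤
      ((Module.finrank q.ResidueField (q.ResidueField ⊗[S] Ω[S⁄k]) : ℕ∞) : WithBot ℕ∞) := by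
  by_contra h
  rw [not_le] at h
  haveI hsm : Algebra.IsSmoothAt k q :=
    (Groth.Agent.Lib.LeadJacDim.main_S2063 (k := k) (S := S) q).mpr h.le
  have h2 := Groth.Agent.Lib.LeadJacDim.finrank_eq_localDim_of_isSmoothAt k S q q.ResidueField
    (Ideal.ker_algebraMap_residueField q)
  rw [h2] at h
  exact lt_irrefl _ h

variable {R S : Type u} [CommRing R] [CommRing S] [Algebra R S]

attribute [local instance] Algebra.TensorProduct.rightAlgebra in
theorem finrank_fiber_omega (p : Ideal R) [p.IsPrime] (Q : Ideal (p.Fiber S)) [Q.IsPrime] :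
    Module.finrank Q.ResidueField (Q.ResidueField ⊗[p.Fiber S] Ω[p.Fiber S⁄p.ResidueField]) =
      Module.finrank (Q.comap Algebra.TensorProduct.includeRight).ResidueField
        ((Q.comap Algebra.TensorProduct.includeRight).ResidueField ⊗[S] Ω[S⁄R]) := by
  let e : p.Fiber S ⊗[S] Ω[S⁄R] ≃ₗ[p.Fiber S] Ω[p.Fiber S⁄p.ResidueField] :=
    KaehlerDifferential.tensorKaehlerEquiv R p.ResidueField S (p.Fiber S)
  have hK : RingHom.ker (algebraMap S Q.ResidueField) =
      Q.comap Algebra.TensorProduct.includeRight := by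
    ext s
    rw [RingHom.mem_ker, Ideal.mem_comap,
      IsScalarTower.algebraMap_apply S (p.Fiber S) Q.ResidueField, ← RingHom.mem_ker,
      Ideal.ker_algebraMap_residueField]
    rfl
  have h1 : Module.finrank Q.ResidueField
      (Q.ResidueField ⊗[p.Fiber S] Ω[p.Fiber S⁄p.ResidueField]) =
      Module.finrank Q.ResidueField (Q.ResidueField ⊗[S] Ω[S⁄R]) := by
    rw [← (AlgebraTensorModule.congr (LinearEquiv.refl Q.ResidueField Q.ResidueField)
        e).finrank_eq,
      (AlgebraTensorModule.cancelBaseChange S (p.Fiber S) Q.ResidueField Q.ResidueField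
        Ω[S⁄R]).finrank_eq]
  rw [h1, finrank_tensor_eq_of_ker Ω[S⁄R] _ Q.ResidueField hK]

/-- the local dimension of the fibre through `q` is at most the dimension of the cotangent fibre. -/
theorem fibLD_le_finrank [Algebra.FiniteType R S] (q : Ideal S) [q.IsPrime] :
    fibLD (PrimeSpectrum.comap (algebraMap R S)) ⟨q, inferInstance⟩ ≤
      ((Module.finrank q.ResidueField (q.ResidueField ⊗[S] Ω[S⁄R]) : ℕ∞) : WithBot ℕ∞) := by
  obtain ⟨q', hq'⟩ : ∃ q' : PrimeSpectrum S, q' = ⟨q, inferInstance⟩ := ⟨_, rfl⟩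
  rw [← hq', fibLD_comap_eq]
  obtain ⟨p, hp⟩ : ∃ p : PrimeSpectrum R, p = PrimeSpectrum.comap (algebraMap R S) q' :=
    ⟨_, rfl⟩
  obtain ⟨Q, hQ⟩ : ∃ Q : PrimeSpectrum (p.asIdeal.Fiber S),
      Q = PrimeSpectrum.preimageHomeomorphFiber R S p ⟨q', hp.symm⟩ := ⟨_, rfl⟩
  have hQq : PrimeSpectrum.comap Algebra.TensorProduct.includeRight.toRingHom Q = q' := by
    rw [hQ]
    exact comap_includeRight_preimageHomeomorphFiber p.asIdeal ⟨q', hp.symm⟩
  have hI : Q.asIdeal.comap Algebra.TensorProduct.includeRight = q := by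
    have h1 := congrArg PrimeSpectrum.asIdeal hQq
    rw [hq'] at h1
    exact h1
  have hgoal : FlatMor.localDim (PrimeSpectrum (p.asIdeal.Fiber S)) Q ≤
      ((Module.finrank q.ResidueField (q.ResidueField ⊗[S] Ω[S⁄R]) : ℕ∞) : WithBot ℕ∞) := by
    have h1 := localDim_le_finrank p.asIdeal.ResidueField (p.asIdeal.Fiber S) Q.asIdeal
    rw [finrank_fiber_omega p.asIdeal Q.asIdeal] at h1
    have key : ∀ (I : Ideal S) (hIq : I = q) [I.IsPrime],
        Module.finrank I.ResidueField (I.ResidueField ⊗[S] Ω[S⁄R]) =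
          Module.finrank q.ResidueField (q.ResidueField ⊗[S] Ω[S⁄R]) := by
      rintro I rfl _
      rfl
    rw [key _ hI] at h1
    exact h1
  subst hp
  subst hQ
  exact hgoal

section fiber

variable {B R' k N Mx : Type u} [CommRing B] [CommRing R'] [IsLocalRing R'] [Field k]
  [Algebra B R'] (q : Ideal B) [q.IsPrime] [IsLocalization.AtPrime R' q]
  [AddCommGroup N] [Module B N] [AddCommGroup Mx] [Module R' Mx] [Module B Mx]
  [IsScalarTower B R' Mx]

theorem ker_algebraMap_residueField_of_isLocalization :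
    RingHom.ker (algebraMap B (ResidueField R')) = q := by
  ext b
  rw [RingHom.mem_ker, IsScalarTower.algebraMap_apply B R' (ResidueField R')]
  have h := IsLocalization.AtPrime.under_maximalIdeal R' q
  rw [Ideal.under_def] at h
  rw [show algebraMap R' (ResidueField R') = residue R' from rfl, residue_eq_zero_iff,
    ← Ideal.mem_comap, h]

/-- the fibre `M_x / 𝔪 M_x` of a localisation `M_x = N_q`, as a vector space over a field `k` mapping onto
the residue field, has dimension `dim κ(q) ⊗ N`. -/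
theorem finrank_fiber_eq (φ : k →+* R') (hφ : Function.Surjective ((residue R').comp φ))
    (ℓ : N →ₗ[B] Mx) [IsLocalizedModule q.primeCompl ℓ] :
    @Module.finrank k (Mx ⧸ (maximalIdeal R' • (⊤ : Submodule R' Mx))) _ _
      (Module.compHom _ φ) =
      Module.finrank q.ResidueField (q.ResidueField ⊗[B] N) := by
  letI : Module k (Mx ⧸ (maximalIdeal R' • (⊤ : Submodule R' Mx))) := Module.compHom _ φ
  have hbc : IsBaseChange R' ℓ := IsLocalizedModule.isBaseChange q.primeCompl R' ℓ
  -- step 1: from `k` to the residue field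
  have hbij : Function.Bijective ((residue R').comp φ) := ⟨RingHom.injective _, hφ⟩
  let j : (Mx ⧸ (maximalIdeal R' • (⊤ : Submodule R' Mx))) ≃ₗ[R'] (ResidueField R') ⊗[R'] Mx :=
    (TensorProduct.quotTensorEquivQuotSMul Mx (maximalIdeal R')).symm
  have h1 : Module.finrank k (Mx ⧸ (maximalIdeal R' • (⊤ : Submodule R' Mx))) =
      Module.finrank (ResidueField R') ((ResidueField R') ⊗[R'] Mx) := by
    have := rank_eq_of_equiv_equiv ((residue R').comp φ) j.toAddEquiv hbij (by
      intro c v
      change j (φ c • v) = (residue R' (φ c)) • j v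
      rw [map_smul]
      exact (algebraMap_smul (ResidueField R') (φ c) (j v)).symm)
    exact congrArg Cardinal.toNat this
  -- step 2: base change
  have h2 : Module.finrank (ResidueField R') ((ResidueField R') ⊗[R'] Mx) =
      Module.finrank (ResidueField R') ((ResidueField R') ⊗[B] N) := by
    rw [← (AlgebraTensorModule.congr (LinearEquiv.refl (ResidueField R') (ResidueField R'))
        hbc.equiv).finrank_eq,
      (AlgebraTensorModule.cancelBaseChange B R' (ResidueField R') (ResidueField R')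
        N).finrank_eq]
  rw [h1, h2]
  exact finrank_tensor_eq_of_ker N q (ResidueField R')
    (ker_algebraMap_residueField_of_isLocalization q)

end fiber

section scheme

open CategoryTheory CategoryTheory.Limits AlgebraicGeometry TopologicalSpace Opposite
open Groth.Agent.Lib.Helper4.VarDim Groth.Agent.Lib.Helper4.DimFormula
open Groth.Agent.Lib.Helper2.FlatOver Groth.Agent.Helper18FittSh Groth.Agent.Lib.Helper20.OmegaQCoh

attribute [local instance] Curv2.resAlgebra

variable (k : Type u) [Field k] {X Y : Scheme.{u}} [X.Over (Spec (CommRingCat.of k))]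
  [Y.Over (Spec (CommRingCat.of k))]
  [LocallyOfFiniteType (X ↘ Spec (CommRingCat.of k))]
  [LocallyOfFiniteType (Y ↘ Spec (CommRingCat.of k))]

theorem trdegNat_eq_zero_of_isClosed (x : X) (hx : IsClosed ({x} : Set X)) :
    trdegNat k X x = 0 := by
  have h := topologicalKrullDim_closure_singleton k X x
  rw [hx.closure_eq] at h
  have h0 : topologicalKrullDim ↥({x} : Set X) ≤ 0 :=
    topologicalKrullDim_zero_of_discreteTopology _
  rw [h] at h0
  have h1 : ((trdegNat k X x : ℕ) : WithBot ℕ∞) ≤ ((0 : ℕ) : WithBot ℕ∞) := h0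
  exact Nat.le_zero.mp (by exact_mod_cast h1)

theorem residue_surjective_of_isClosed [IsAlgClosed k] (x : X) (hx : IsClosed ({x} : Set X)) :
    Function.Surjective
      ((IsLocalRing.residue (X.presheaf.stalk x)).comp (Curv2.stalkMap k X x)) := by
  have h0 := trdegNat_eq_zero_of_isClosed k x hx
  have h1 : Algebra.trdeg k (X.residueField x) = 0 := by
    rw [trdeg_eq_trdegNat k X x, h0]
    simp
  haveI : Algebra.IsAlgebraic k (X.residueField x) := trdeg_eq_zero_iff.mp h1
  exact (IsAlgClosed.algebraMap_bijective_of_isIntegral (k := k) (K := X.residueField x)).2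

theorem main_S14443 [IsAlgClosed k] (f : X ⟶ Y)
    (hf : f ≫ (Y ↘ Spec (CommRingCat.of k)) = X ↘ Spec (CommRingCat.of k))
    (x : X) (hx : IsClosed ({x} : Set X)) (Z : Set X) (hZ : IsIrreducible Z) (hZc : IsClosed Z)
    (hxZ : x ∈ Z) (hZf : Z ⊆ f.base ⁻¹' {f.base x}) (r : ℕ)
    (hr : topologicalKrullDim ↥Z = (r : WithBot ℕ∞)) :
    r ≤ @Module.finrank k (FixPt.fiber (Omega.sheaf f) x) _ _
      (FixPt.fiberModule k X (Omega.sheaf f) x) := by
  haveI : LocallyOfFiniteType (f ≫ (Y ↘ Spec (CommRingCat.of k))) := by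
    rw [hf]; infer_instance
  haveI : LocallyOfFiniteType f := locallyOfFiniteType_of_comp f (Y ↘ Spec (CommRingCat.of k))
  haveI : IsLocallyNoetherian X :=
    LocallyOfFiniteType.isLocallyNoetherian (X ↘ Spec (CommRingCat.of k))
  haveI : QuasiSeparated f := inferInstance
  haveI := isQuasicoherent_omega f
  -- the generic point of `Z`
  obtain ⟨η, hη⟩ := QuasiSober.sober hZ hZc
  have hηZ : η ∈ Z := hη.mem
  have hsp : η ⤳ x := hη.specializes hxZ
  have hfη : f.base η = f.base x := hZf hηZ
  have hr1 : r = trdegNat k X η := by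
    have h := topologicalKrullDim_closure_singleton k X η
    rw [hη.def, hr] at h
    exact_mod_cast h
  have h2 := trdegNat_eq_add_fiber k f hf (f.base η) (f.asFiber η) η (f.fiberι_asFiber η)
  have h3 := trdegNat_eq_add_fiber k f hf (f.base x) (f.asFiber x) x (f.fiberι_asFiber x)
  have hx0 := trdegNat_eq_zero_of_isClosed k x hx
  have hy0 : trdegNat k Y (f.base x) = 0 := by omega
  have hyη : trdegNat k Y (f.base η) = 0 := by
    rw [hfη]; exact hy0
  have hr2 : r = ptTrdeg f η := by
    rw [hr1, h2, hyη, zero_add]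
    rfl
  have h4 : (r : WithBot ℕ∞) ≤ FlatMor.fibreDimAt f x := by
    rw [hr2]
    exact (ptTrdeg_le_fibreDimAt f η).trans (fibreDimAt_le_of_specializes f η x hsp)
  -- charts
  obtain ⟨V, hV, hfxV, -⟩ := exists_isAffineOpen_mem_and_subset (x := f x) (U := ⊤) trivial
  obtain ⟨W, hW, hxW, hWV⟩ := exists_isAffineOpen_mem_and_subset (x := x) (U := f ⁻¹ᵁ V) hfxV
  letI : Algebra Γ(Y, V) Γ(X, W) := (f.appLE V W hWV).hom.toAlgebra
  haveI : Algebra.FiniteType Γ(Y, V) Γ(X, W) := f.finiteType_appLE hV hW hWV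
  have hz : hW.fromSpec (hW.primeIdealOf ⟨x, hxW⟩) = x := hW.fromSpec_primeIdealOf ⟨x, hxW⟩
  have h5 : fibLD f x = fibLD (Spec.map (f.appLE V W hWV)) (hW.primeIdealOf ⟨x, hxW⟩) := by
    have h := fibLD_fromSpec f hW hV hWV (hW.primeIdealOf ⟨x, hxW⟩)
    rwa [hz] at h
  haveI : (hW.primeIdealOf ⟨x, hxW⟩).asIdeal.IsPrime := (hW.primeIdealOf ⟨x, hxW⟩).isPrime
  have h6 : fibLD (PrimeSpectrum.comap (algebraMap Γ(Y, V) Γ(X, W)))
      ⟨(hW.primeIdealOf ⟨x, hxW⟩).asIdeal, inferInstance⟩ = FlatMor.fibreDimAt f x :=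
    h5.symm.trans (fibreDimAt_eq_fibLD f x).symm
  have h7 := fibLD_le_finrank (R := Γ(Y, V)) (S := Γ(X, W)) (hW.primeIdealOf ⟨x, hxW⟩).asIdeal
  rw [h6] at h7
  -- sections of the differentials
  obtain ⟨e⟩ := nonempty_sections_omega_equiv f hW hV hWV
  have h8 : Module.finrank (hW.primeIdealOf ⟨x, hxW⟩).asIdeal.ResidueField
      ((hW.primeIdealOf ⟨x, hxW⟩).asIdeal.ResidueField ⊗[Γ(X, W)] Γ(Omega.sheaf f, W)) =
      Module.finrank (hW.primeIdealOf ⟨x, hxW⟩).asIdeal.ResidueField
        ((hW.primeIdealOf ⟨x, hxW⟩).asIdeal.ResidueField ⊗[Γ(X, W)] Ω[Γ(X, W)⁄Γ(Y, V)]) :=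
    (AlgebraTensorModule.congr (LinearEquiv.refl
      (hW.primeIdealOf ⟨x, hxW⟩).asIdeal.ResidueField
      (hW.primeIdealOf ⟨x, hxW⟩).asIdeal.ResidueField) e).finrank_eq
  -- the stalk
  letI algSt : Algebra Γ(X, W) (X.presheaf.stalk x) :=
    TopCat.Presheaf.algebra_section_stalk X.presheaf ⟨x, hxW⟩
  haveI hloc : IsLocalization.AtPrime (X.presheaf.stalk x) (hW.primeIdealOf ⟨x, hxW⟩).asIdeal :=
    hW.isLocalization_stalk ⟨x, hxW⟩
  letI modSt : Module Γ(X, W) ((Omega.sheaf f).presheaf.stalk x) :=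
    moduleStalkSections (Omega.sheaf f) W x hxW
  haveI : IsScalarTower Γ(X, W) (X.presheaf.stalk x) ((Omega.sheaf f).presheaf.stalk x) :=
    ⟨fun b r m => by
      change (X.presheaf.germ W x hxW b * r) • m = X.presheaf.germ W x hxW b • (r • m)
      exact mul_smul _ _ _⟩
  haveI := isLocalizedModule_germ hW (Omega.sheaf f) x hxW
  have h9 := finrank_fiber_eq (hW.primeIdealOf ⟨x, hxW⟩).asIdeal (Curv2.stalkMap k X x)
    (residue_surjective_of_isClosed k x hx) (germₗ (Omega.sheaf f) W x hxW)
  have h10 : (r : WithBot ℕ∞) ≤ ((Module.finrank (hW.primeIdealOf ⟨x, hxW⟩).asIdeal.ResidueField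
      ((hW.primeIdealOf ⟨x, hxW⟩).asIdeal.ResidueField ⊗[Γ(X, W)] Ω[Γ(X, W)⁄Γ(Y, V)]) : ℕ∞) :
        WithBot ℕ∞) := h4.trans h7
  rw [← h8] at h10
  have h11 : r ≤ Module.finrank (hW.primeIdealOf ⟨x, hxW⟩).asIdeal.ResidueField
      ((hW.primeIdealOf ⟨x, hxW⟩).asIdeal.ResidueField ⊗[Γ(X, W)] Γ(Omega.sheaf f, W)) := by
    exact_mod_cast h10
  rw [← h9] at h11
  exact h11

end scheme

end Groth.Agent.Lib.LeadTanDim
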