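import Mathlib
import Groth.Prelude.Def_CohTop
import Groth.Prelude.Def_SpSeq
import Groth.Agent.Lib.LeadSplitSS
import Groth.Agent.Lib.LeadExtRetract
import Groth.Agent.Lib.LeadWPSec

set_option maxHeartbeats 400000

/-!
# The descent spectral sequence for a continuous map with a section
-/

namespace Groth.Agent.LeadTopDesc

open CategoryTheory CategoryTheory.Limits TopologicalSpace Opposite

universe u

section Pull

variable {X Y : TopCat.{u}}

/-- the adjunction `f⁻¹ ⊣ f_*` -/
noncomputable abbrev adj (f : X ⟶ Y) : CohTop.pull f ⊣ CohTop.push f :=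
  TopCat.Sheaf.pullbackPushforwardAdjunction AddCommGrpCat.{u} f

instance pull_additive (f : X ⟶ Y) : (CohTop.pull f).Additive := (adj f).left_adjoint_additive

instance pull_preservesFiniteColimits (f : X ⟶ Y) : PreservesFiniteColimits (CohTop.pull f) :=
  have : PreservesColimitsOfSize.{0, 0} (CohTop.pull f) := (adj f).leftAdjoint_preservesColimits
  PreservesColimitsOfSize.preservesFiniteColimits _

instance pull_preservesFiniteLimits (f : X ⟶ Y) : PreservesFiniteLimits (CohTop.pull f) :=
  CategoryTheory.Functor.SmallCategories.instPreservesFiniteLimitsSheafSheafPullbackOfRepresentablyFlat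
    (Opens.map f) AddCommGrpCat.{u} (Opens.grothendieckTopology ↑Y) (Opens.grothendieckTopology ↑X)

/-- global sections -/
noncomputable abbrev gsec (Y : TopCat.{u}) : CohTop.Ab Y ⥤ AddCommGrpCat.{u} :=
  (sheafSections (Opens.grothendieckTopology Y) AddCommGrpCat.{u}).obj (op (⊤ : Opens Y))

/-- constant sheaf ⊣ global sections -/
noncomputable abbrev constAdj (Y : TopCat.{u}) :
    constantSheaf (Opens.grothendieckTopology Y) AddCommGrpCat.{u} ⊣ gsec Y :=
  constantSheafAdj (Opens.grothendieckTopology Y) AddCommGrpCat.{u} (T := (⊤ : Opens Y))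
    isTerminalTop

/-- `Γ(Y, f_* F) = Γ(X, F)` -/
noncomputable def pushGsecIso (f : X ⟶ Y) : CohTop.push f ⋙ gsec Y ≅ gsec X :=
  NatIso.ofComponents (fun F => Iso.refl _) (fun {F G} φ => by
    simp only [Iso.refl_hom, Category.comp_id]
    rfl)

/-- pullback of constant sheaves -/
noncomputable def pullConstIso (f : X ⟶ Y) :
    constantSheaf (Opens.grothendieckTopology Y) AddCommGrpCat.{u} ⋙ CohTop.pull f ≅
      constantSheaf (Opens.grothendieckTopology X) AddCommGrpCat.{u} :=
  Adjunction.leftAdjointUniq (((constAdj Y).comp (adj f)).ofNatIsoRight (pushGsecIso f))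
    (constAdj X)

/-- direct images compose -/
noncomputable def pushComp {Z : TopCat.{u}} (g : Z ⟶ X) (f : X ⟶ Y) :
    CohTop.push g ⋙ CohTop.push f ≅ CohTop.push (g ≫ f) :=
  Functor.sheafPushforwardContinuousComp' (F := Opens.map f) (G := Opens.map g)
    (FG := Opens.map (g ≫ f)) (Opens.mapComp g f).symm AddCommGrpCat.{u}
    (Opens.grothendieckTopology Y) (Opens.grothendieckTopology X) (Opens.grothendieckTopology Z)

/-- inverse images compose -/
noncomputable def pullComp {Z : TopCat.{u}} (g : Z ⟶ X) (f : X ⟶ Y) :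
    CohTop.pull (g ≫ f) ≅ CohTop.pull f ⋙ CohTop.pull g :=
  Adjunction.leftAdjointUniq (adj (g ≫ f)) (((adj f).comp (adj g)).ofNatIsoRight (pushComp g f))

/-- transport along an equality -/
noncomputable def pullCongr {f f' : X ⟶ Y} (h : f = f') : CohTop.pull f ≅ CohTop.pull f' :=
  eqToIso (by rw [h])

/-- direct image along the identity -/
noncomputable def pushId (Y : TopCat.{u}) : CohTop.push (𝟙 Y) ≅ 𝟭 _ :=
  Functor.sheafPushforwardContinuousId' (Opens.mapId Y) AddCommGrpCat.{u}
    (Opens.grothendieckTopology Y)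

/-- inverse image along the identity -/
noncomputable def pullId (Y : TopCat.{u}) : CohTop.pull (𝟙 Y) ≅ 𝟭 _ :=
  Adjunction.leftAdjointUniq (adj (𝟙 Y)) (Adjunction.id.ofNatIsoRight (pushId Y).symm)

theorem retract_top {Y Y' : TopCat.{u}} (g : Y' ⟶ Y) (t : Y ⟶ Y') (hs : t ≫ g = 𝟙 Y)
    (A : CohTop.Ab Y) (A' : CohTop.Ab Y') (α : (CohTop.pull g).obj A ≅ A')
    (β : (CohTop.pull t).obj A' ≅ A) (n : ℕ) :
    ∃ (a : CohTop.H A n →+ CohTop.H A' n) (b : CohTop.H A' n →+ CohTop.H A n),
      Function.Bijective (b ∘ a) :=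
  LeadExtRetract.retract_bijective (CohTop.pull g) (CohTop.pull t)
    ((pullComp t g).symm ≪≫ pullCongr hs ≪≫ pullId Y)
    ((pullConstIso g).app (AddCommGrpCat.of (ULift.{u} ℤ))).symm
    ((pullConstIso t).app (AddCommGrpCat.of (ULift.{u} ℤ))).symm α β n

end Pull

section Main

open LeadWPSec

variable {X S : TopCat.{u}} (f : X ⟶ S) (s : S ⟶ X) (hs : s ≫ f = 𝟙 S) (F : CohTop.Ab S)

/-- the inverse image of `F` on the `(p+1)`-fold fibre product -/
noncomputable abbrev Fp (p : ℕ) : CohTop.Ab (Xp f p) := (CohTop.pull (bp f p)).obj F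

include s hs in
lemma exists_ir (p q : ℕ) :
    ∃ (a : CohTop.H (Fp f F p) q →+ CohTop.H (Fp f F (p + 1)) q)
      (b : CohTop.H (Fp f F (p + 1)) q →+ CohTop.H (Fp f F p) q), Function.Bijective (b ∘ a) :=
  retract_top (pr f p) (σ f s hs p) (σ_pr f s hs p) (Fp f F p) (Fp f F (p + 1))
    (((pullComp (pr f p) (bp f p)).symm ≪≫ pullCongr (pr_bp f p)).app F)
    (((pullComp (σ f s hs p) (bp f (p + 1))).symm ≪≫ pullCongr (σ_bp f s hs p)).app F) q

include s hs in
lemma exists_ερ (q : ℕ) :
    ∃ (a : CohTop.H F q →+ CohTop.H (Fp f F 0) q)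
      (b : CohTop.H (Fp f F 0) q →+ CohTop.H F q), Function.Bijective (b ∘ a) :=
  retract_top (bp f 0) (s₀ f s hs) (s₀_bp f s hs) F (Fp f F 0) (Iso.refl _)
    (((pullComp (s₀ f s hs) (bp f 0)).symm ≪≫ pullCongr (s₀_bp f s hs) ≪≫ pullId S).app F) q

/-- the split data -/
noncomputable def splitData : LeadSplitSS.SplitData AddCommGrpCat.{u} :=
  LeadSplitSS.SplitData.ofIsIso
    (fun p q => AddCommGrpCat.of (CohTop.H (Fp f F p) q))
    (fun q => AddCommGrpCat.of (CohTop.H F q))
    (fun p q => AddCommGrpCat.ofHom (exists_ir f s hs F p q).choose)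
    (fun p q => AddCommGrpCat.ofHom (exists_ir f s hs F p q).choose_spec.choose)
    (fun p q => by
      rw [← AddCommGrpCat.ofHom_comp]
      exact (ConcreteCategory.isIso_iff_bijective _).mpr
        (exists_ir f s hs F p q).choose_spec.choose_spec)
    (fun q => AddCommGrpCat.ofHom (exists_ερ f s hs F q).choose)
    (fun q => AddCommGrpCat.ofHom (exists_ερ f s hs F q).choose_spec.choose)
    (fun q => by
      rw [← AddCommGrpCat.ofHom_comp]
      exact (ConcreteCategory.isIso_iff_bijective _).mpr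
        (exists_ερ f s hs F q).choose_spec.choose_spec)

include s hs in
theorem main :
    ∃ (E : CohomologicalSpectralSequence AddCommGrpCat.{u} 1)
      (a : SpSeq.Abutment E (fun n : ℤ =>
        if 0 ≤ n then AddCommGrpCat.of (CohTop.H F n.toNat) else AddCommGrpCat.of PUnit.{u + 1})),
      (∀ n, a.IsFinite n) ∧ SpSeq.IsBounded E ∧
      ∀ p q : ℤ, Nonempty ((E.page 1 le_rfl).X (p, q) ≅
        (if 0 ≤ p ∧ 0 ≤ q then
          AddCommGrpCat.of (CohTop.H ((CohTop.pull
            (WidePullback.base (fun _ : Fin (p.toNat + 1) => f) :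
              widePullback S (fun _ : Fin (p.toNat + 1) => X) (fun _ => f) ⟶ S)).obj F) q.toNat)
         else AddCommGrpCat.of PUnit.{u + 1})) := by
  refine (splitData f s hs F).exists_ss (AddCommGrpCat.of PUnit.{u + 1})
    (AddCommGrpCat.isZero_of_subsingleton _) _ (fun n => ?_) (fun n hn => ?_)
  · refine ⟨eqToIso ?_⟩
    show (if 0 ≤ (n : ℤ) then AddCommGrpCat.of (CohTop.H F (n : ℤ).toNat)
      else AddCommGrpCat.of PUnit.{u + 1}) = AddCommGrpCat.of (CohTop.H F n)
    rw [if_pos (Int.natCast_nonneg n), Int.toNat_natCast]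
  · show IsZero (if 0 ≤ n then AddCommGrpCat.of (CohTop.H F n.toNat)
      else AddCommGrpCat.of PUnit.{u + 1})
    rw [if_neg (not_le.mpr hn)]
    exact AddCommGrpCat.isZero_of_subsingleton _

end Main

end Groth.Agent.LeadTopDesc
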