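import Mathlib

/-!
# Unique factorization (lead), part a

* `nagata`: Nagata's criterion — a Noetherian domain `B` with a prime element `u` such that
  `B[1/u]` is a UFD is a UFD;
* `exists_single_of_mul_eq_single`: over a ring without zero divisors, a factor of a monomial of
  `A[T;T⁻¹]` is a monomial;
* `ufd_of_ufd_laurent`: `A[T;T⁻¹]` UFD ⟹ `A` UFD;  `ufd_laurent`: the converse.
-/

set_option autoImplicit false
set_option maxHeartbeats 400000
set_option linter.style.haveILetI false
set_option linter.unusedSectionVars false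
set_option linter.unusedVariables false

universe u

noncomputable section

namespace Groth.Agent.Lib.LeadUF

open scoped Polynomial
open LaurentPolynomial

section Nagata

variable {B L : Type u} [CommRing B] [IsDomain B] [CommRing L] [Algebra B L] (u : B)
  [IsLocalization.Away u L]

lemma dvd_of_mul_pow_eq (hu : Prime u) {y : B} (hy : ¬ u ∣ y) {a : B} :
    ∀ (n : ℕ) (c : B), a * u ^ n = y * c → y ∣ a := by
  intro n
  induction n with
  | zero =>
    intro c h
    exact ⟨c, by rw [← h, pow_zero, mul_one]⟩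
  | succ n ih =>
    intro c h
    have h1 : u ∣ y * c := ⟨a * u ^ n, by rw [← h, pow_succ]; ring⟩
    rcases hu.dvd_or_dvd h1 with h2 | ⟨c', rfl⟩
    · exact absurd h2 hy
    · apply ih c'
      have h3 : u * (a * u ^ n) = u * (y * c') := by
        rw [pow_succ] at h
        linear_combination h
      exact mul_left_cancel₀ hu.ne_zero h3

include u in
lemma algebraMap_injective_away (hu0 : u ≠ 0) : Function.Injective (algebraMap B L) :=
  IsLocalization.injective L (powers_le_nonZeroDivisors_of_noZeroDivisors hu0)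

lemma dvd_of_map_dvd (hu : Prime u) {y a : B} (hy : ¬ u ∣ y)
    (h : algebraMap B L y ∣ algebraMap B L a) : y ∣ a := by
  obtain ⟨z, hz⟩ := h
  obtain ⟨n, c, hc⟩ := IsLocalization.Away.surj u z
  apply dvd_of_mul_pow_eq u hu hy n c
  apply algebraMap_injective_away (L := L) u hu.ne_zero
  rw [map_mul, map_mul, map_pow, hz, ← hc]
  ring

lemma prime_of_prime_map (hu : Prime u) {y : B} (hy : ¬ u ∣ y)
    (hyL : Prime (algebraMap B L y)) : Prime y := by
  refine ⟨?_, ?_, ?_⟩
  · rintro rfl
    rw [map_zero] at hyL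
    exact hyL.ne_zero rfl
  · intro h
    exact hyL.not_isUnit (h.map (algebraMap B L))
  · intro a b hab
    have h1 : algebraMap B L y ∣ algebraMap B L a * algebraMap B L b := by
      rw [← map_mul]
      exact map_dvd (algebraMap B L) hab
    rcases hyL.dvd_or_dvd h1 with h2 | h2
    · exact Or.inl (dvd_of_map_dvd (L := L) u hu hy h2)
    · exact Or.inr (dvd_of_map_dvd (L := L) u hu hy h2)

/-- **Nagata's criterion** -/
theorem nagata [IsDomain L] [IsNoetherianRing B] (hu : Prime u) [UniqueFactorizationMonoid L] :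
    UniqueFactorizationMonoid B := by
  have hinj := algebraMap_injective_away (L := L) u hu.ne_zero
  refine UniqueFactorizationMonoid.iff_exists_prime_mem_of_isPrime.mpr (fun P hP0 hP => ?_)
  by_cases huP : u ∈ P
  · exact ⟨u, huP, hu⟩
  · have hd : Disjoint ((Submonoid.powers u : Submonoid B) : Set B) (P : Set B) := by
      rw [Set.disjoint_left]
      rintro x ⟨n, rfl⟩ hx
      exact huP (hP.mem_of_pow_mem n hx)
    have hPL : (P.map (algebraMap B L)).IsPrime :=
      IsLocalization.isPrime_of_isPrime_disjoint (Submonoid.powers u) L P hP hd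
    have hcomap : (P.map (algebraMap B L)).comap (algebraMap B L) = P :=
      IsLocalization.under_map_of_isPrime_disjoint (Submonoid.powers u) L hP hd
    have hPL0 : P.map (algebraMap B L) ≠ ⊥ := by
      intro h0
      apply hP0
      rw [← hcomap, h0, ← RingHom.ker_eq_comap_bot]
      exact (RingHom.injective_iff_ker_eq_bot _).mp hinj
    obtain ⟨π, hπP, hπ⟩ := hPL.exists_mem_prime_of_ne_bot hPL0
    obtain ⟨n, x, hx⟩ := IsLocalization.Away.surj u π
    have hunit : IsUnit (algebraMap B L u) := IsLocalization.Away.algebraMap_isUnit u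
    have hx0 : x ≠ 0 := by
      rintro rfl
      rw [map_zero] at hx
      rcases mul_eq_zero.mp hx with h | h
      · exact hπ.ne_zero h
      · exact (pow_ne_zero n hunit.ne_zero) h
    obtain ⟨m, y, hy, hxy⟩ := WfDvdMonoid.max_power_factor' hx0 hu.not_isUnit
    have hyπ : Associated (algebraMap B L y) π := by
      refine ⟨hunit.unit ^ m * (hunit.unit ^ n)⁻¹, ?_⟩
      rw [Units.val_mul, ← mul_assoc, Units.mul_inv_eq_iff_eq_mul, Units.val_pow_eq_pow_val,
        Units.val_pow_eq_pow_val, IsUnit.unit_spec, hx, hxy, map_mul, map_pow]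
      ring
    have hyL : Prime (algebraMap B L y) := hyπ.symm.prime hπ
    have hyP : y ∈ P := by
      rw [← hcomap, Ideal.mem_comap]
      obtain ⟨w, hw⟩ := hyπ.symm
      rw [← hw]
      exact Ideal.mul_mem_right _ _ hπP
    exact ⟨y, hyP, prime_of_prime_map (L := L) u hu hy hyL⟩

end Nagata

section Laurent

variable {A : Type u} [CommRing A]

/-- a factor of a monomial is a monomial -/
lemma exists_single_of_mul_eq_single [NoZeroDivisors A] {x y : A[T;T⁻¹]} {n : ℤ} {c : A}
    (hc : c ≠ 0) (h : x * y = AddMonoidAlgebra.single n c) :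
    ∃ (i : ℤ) (a : A), x = AddMonoidAlgebra.single i a := by
  have hne : x * y ≠ 0 := by
    rw [h]
    intro h0
    apply hc
    have h1 : (AddMonoidAlgebra.single n c : A[T;T⁻¹]).coeff n = (0 : A[T;T⁻¹]).coeff n := by
      rw [h0]
    rw [AddMonoidAlgebra.coeff_single, Finsupp.single_eq_same, AddMonoidAlgebra.coeff_zero,
      Finsupp.zero_apply] at h1
    exact h1
  have hx : x ≠ 0 := left_ne_zero_of_mul hne
  have hy : y ≠ 0 := right_ne_zero_of_mul hne
  have hxs : x.coeff.support.Nonempty := by
    rw [Finsupp.support_nonempty_iff]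
    intro h0
    exact hx (AddMonoidAlgebra.coeff_injective (by simpa using h0))
  have hys : y.coeff.support.Nonempty := by
    rw [Finsupp.support_nonempty_iff]
    intro h0
    exact hy (AddMonoidAlgebra.coeff_injective (by simpa using h0))
  have hcoeff : ∀ m : ℤ, (x * y).coeff m ≠ 0 → m = n := by
    intro m hm
    by_contra hmn
    apply hm
    rw [h, AddMonoidAlgebra.coeff_single, Finsupp.single_apply, if_neg (Ne.symm hmn)]
  -- maxima
  have hmax : (x * y).coeff (x.coeff.support.max' hxs + y.coeff.support.max' hys) =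
      x.coeff (x.coeff.support.max' hxs) * y.coeff (y.coeff.support.max' hys) := by
    apply AddMonoidAlgebra.coeff_mul_add_of_uniqueAdd
    intro a b ha hb hab
    have h1 := Finset.le_max' _ a ha
    have h2 := Finset.le_max' _ b hb
    constructor <;> omega
  have hmin : (x * y).coeff (x.coeff.support.min' hxs + y.coeff.support.min' hys) =
      x.coeff (x.coeff.support.min' hxs) * y.coeff (y.coeff.support.min' hys) := by
    apply AddMonoidAlgebra.coeff_mul_add_of_uniqueAdd
    intro a b ha hb hab
    have h1 := Finset.min'_le _ a ha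
    have h2 := Finset.min'_le _ b hb
    constructor <;> omega
  have hxmax := Finsupp.mem_support_iff.mp (Finset.max'_mem _ hxs)
  have hymax := Finsupp.mem_support_iff.mp (Finset.max'_mem _ hys)
  have hxmin := Finsupp.mem_support_iff.mp (Finset.min'_mem _ hxs)
  have hymin := Finsupp.mem_support_iff.mp (Finset.min'_mem _ hys)
  have e1 := hcoeff _ (by rw [hmax]; exact mul_ne_zero hxmax hymax)
  have e2 := hcoeff _ (by rw [hmin]; exact mul_ne_zero hxmin hymin)
  have l1 := Finset.min'_le_max' _ hxs
  have l2 := Finset.min'_le_max' _ hys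
  have hxeq : x.coeff.support.min' hxs = x.coeff.support.max' hxs := by omega
  refine ⟨x.coeff.support.max' hxs, x.coeff (x.coeff.support.max' hxs), ?_⟩
  apply LaurentPolynomial.ext
  intro i
  rw [AddMonoidAlgebra.coeff_single, Finsupp.single_apply]
  split_ifs with hi
  · rw [hi]
  · by_contra hne'
    have hmem : i ∈ x.coeff.support := Finsupp.mem_support_iff.mpr hne'
    have h1 := Finset.le_max' _ i hmem
    have h2 := Finset.min'_le _ i hmem
    omega

/-- the augmentation `T ↦ 1` -/
def aug (A : Type u) [CommRing A] : A[T;T⁻¹] →+* A := LaurentPolynomial.eval₂ (RingHom.id A) 1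

lemma aug_single (i : ℤ) (a : A) : aug A (AddMonoidAlgebra.single i a) = a := by
  rw [aug, single_eq_C_mul_T, eval₂_C_mul_T, one_zpow, Units.val_one, mul_one, RingHom.id_apply]

lemma aug_C (a : A) : aug A (C a) = a := by
  rw [aug, eval₂_C, RingHom.id_apply]

lemma isUnit_T_int (i : ℤ) : IsUnit (T i : A[T;T⁻¹]) := isUnit_T i

lemma coeff_C_mul (c : A) (z : A[T;T⁻¹]) (n : ℤ) : (C c * z).coeff n = c * z.coeff n := by
  rw [← smul_eq_C_mul]
  rfl

/-- `C c` prime in `A[T;T⁻¹]` implies `c` prime in `A` -/
lemma prime_of_prime_C {c : A} (h : Prime (C c : A[T;T⁻¹])) : Prime c := by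
  refine ⟨?_, ?_, ?_⟩
  · rintro rfl
    rw [map_zero] at h
    exact h.ne_zero rfl
  · intro hu
    exact h.not_isUnit (hu.map C)
  · intro a b hab
    have h1 : (C c : A[T;T⁻¹]) ∣ C a * C b := by
      rw [← map_mul]
      exact map_dvd C hab
    have key : ∀ a' : A, (C c : A[T;T⁻¹]) ∣ C a' → c ∣ a' := by
      rintro a' ⟨z, hz⟩
      refine ⟨z.coeff 0, ?_⟩
      have := congrArg (fun w : A[T;T⁻¹] => w.coeff 0) hz
      simp only [coeff_C_mul] at this
      rw [← this, C_apply, if_pos rfl]
    rcases h.dvd_or_dvd h1 with h2 | h2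
    · exact Or.inl (key a h2)
    · exact Or.inr (key b h2)

/-- `A[T;T⁻¹]` UFD ⟹ `A` UFD -/
theorem ufd_of_ufd_laurent [IsDomain A] [UniqueFactorizationMonoid A[T;T⁻¹]] :
    UniqueFactorizationMonoid A := by
  refine UniqueFactorizationMonoid.of_exists_prime_factors (fun a ha => ?_)
  have hCa : (C a : A[T;T⁻¹]) ≠ 0 := by
    intro h0
    apply ha
    have := congrArg (aug A) h0
    rwa [aug_C, map_zero] at this
  obtain ⟨f, hf, w, hw⟩ := UniqueFactorizationMonoid.exists_prime_factors (C a : A[T;T⁻¹]) hCa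
  have hCa' : (C a : A[T;T⁻¹]) = AddMonoidAlgebra.single 0 a := by
    rw [single_eq_C_mul_T, T_zero, mul_one]
  refine ⟨f.map (aug A), ?_, ?_⟩
  · intro b hb
    obtain ⟨b', hb', rfl⟩ := Multiset.mem_map.mp hb
    have hdvd : b' ∣ f.prod := Multiset.dvd_prod hb'
    obtain ⟨z, hz⟩ := hdvd
    have h1 : b' * (z * (w : A[T;T⁻¹])) = AddMonoidAlgebra.single 0 a := by
      rw [← mul_assoc, ← hz, hw, hCa']
    obtain ⟨i, c, hic⟩ := exists_single_of_mul_eq_single ha h1
    rw [hic, aug_single]
    apply prime_of_prime_C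
    have h2 : Prime (AddMonoidAlgebra.single i c : A[T;T⁻¹]) := hic ▸ hf b' hb'
    rw [single_eq_C_mul_T] at h2
    exact (associated_mul_unit_left (C c : A[T;T⁻¹]) (T i) (isUnit_T i)).prime h2
  · have h1 : aug A (f.prod * (w : A[T;T⁻¹])) = a := by
      rw [hw, aug_C]
    rw [map_mul, map_multiset_prod] at h1
    have hwu : IsUnit (aug A (w : A[T;T⁻¹])) := (w.isUnit).map (aug A)
    exact ⟨hwu.unit, by rw [IsUnit.unit_spec]; exact h1⟩

/-- `A` UFD ⟹ `A[T;T⁻¹]` UFD -/
theorem ufd_laurent [IsDomain A] [UniqueFactorizationMonoid A] :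
    UniqueFactorizationMonoid A[T;T⁻¹] :=
  UniqueFactorizationMonoid.of_isLocalization (Submonoid.powers (Polynomial.X : A[X])) A[T;T⁻¹]

end Laurent

end Groth.Agent.Lib.LeadUF
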