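import Mathlib
import Groth.Agent.Lib.LeadUFa
import Groth.Agent.Lib.LeadERa

/-!
# Unique factorization (lead), part b: the extended Rees algebra

`R' = ⊕ F_n T^n` is a UFD iff `A` is a UFD and `G = R'/uR'` is a domain (for `A` a Noetherian domain,
`⋂ F_n = 0`, Rees algebra finitely generated).
-/

set_option autoImplicit false
set_option maxHeartbeats 400000
set_option linter.style.haveILetI false
set_option linter.unusedSectionVars false
set_option linter.unusedVariables false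

universe u

noncomputable section

namespace Groth.Agent.Lib.LeadUF

open scoped Polynomial
open LaurentPolynomial Groth.Agent.Lib.LeadER

variable {A : Type u} [CommRing A] (𝓕 : FiltBl.IdealFiltration A)

lemma F_one_ne_top' [Nontrivial A] (hsep : ⨅ n, 𝓕.F n = ⊥) : 𝓕.F 1 ≠ ⊤ := by
  intro h1
  have hall : ∀ n, 𝓕.F n = ⊤ := by
    intro n
    induction n with
    | zero => exact 𝓕.zero_eq
    | succ n ih =>
      have h2 := 𝓕.mul_le n 1
      rw [ih, h1, Ideal.top_mul] at h2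
      exact top_le_iff.mp h2
  have h3 : (⨅ n, 𝓕.F n) = ⊤ := by
    simp only [hall, iInf_top]
  rw [hsep] at h3
  exact bot_ne_top h3

lemma u_ne_zero [Nontrivial A] : 𝓕.u ≠ 0 := by
  intro h
  have h1 : ((𝓕.u : 𝓕.extRees) : A[T;T⁻¹]) = ((0 : 𝓕.extRees) : A[T;T⁻¹]) := by rw [h]
  rw [coe_u, ZeroMemClass.coe_zero] at h1
  exact (isUnit_T (-1)).ne_zero h1

lemma not_isUnit_u [Nontrivial A] (hF1 : 𝓕.F 1 ≠ ⊤) : ¬ IsUnit 𝓕.u := by
  intro h
  obtain ⟨v, hv⟩ := isUnit_iff_exists_inv.mp h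
  have h1 : (T (-1) : A[T;T⁻¹]) * (v : A[T;T⁻¹]) = 1 := by
    have h0 : ((𝓕.u * v : 𝓕.extRees) : A[T;T⁻¹]) = ((1 : 𝓕.extRees) : A[T;T⁻¹]) := by rw [hv]
    rw [Subalgebra.coe_mul, coe_u, Subalgebra.coe_one] at h0
    exact h0
  have h2 : (v : A[T;T⁻¹]) = T 1 := by
    calc (v : A[T;T⁻¹]) = T 1 * (T (-1) * (v : A[T;T⁻¹])) := by
          rw [← mul_assoc, ← T_add, add_neg_cancel, T_zero, one_mul]
      _ = T 1 := by rw [h1, mul_one]
  have h3 := v.2 1
  rw [h2, T_apply, if_pos rfl] at h3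
  exact hF1 ((Ideal.eq_top_iff_one _).mpr h3)

lemma coe_algebraMap_eq_single (a : A) :
    ((algebraMap A 𝓕.extRees a : 𝓕.extRees) : A[T;T⁻¹]) = AddMonoidAlgebra.single 0 a := by
  rw [Subalgebra.coe_algebraMap, ← LaurentPolynomial.C_eq_algebraMap, single_eq_C_mul_T, T_zero,
    mul_one]

lemma irreducible_u [IsDomain A] (hF1 : 𝓕.F 1 ≠ ⊤) : Irreducible 𝓕.u := by
  rw [irreducible_iff]
  refine ⟨not_isUnit_u 𝓕 hF1, fun x y hxy => ?_⟩
  have h1 : (x : A[T;T⁻¹]) * (y : A[T;T⁻¹]) = AddMonoidAlgebra.single (-1) 1 := by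
    rw [← Subalgebra.coe_mul, ← hxy, coe_u]
    rfl
  have h1' : (y : A[T;T⁻¹]) * (x : A[T;T⁻¹]) = AddMonoidAlgebra.single (-1) 1 := by
    rw [mul_comm, h1]
  obtain ⟨i, a, hxa⟩ := exists_single_of_mul_eq_single one_ne_zero h1
  obtain ⟨j, b, hyb⟩ := exists_single_of_mul_eq_single one_ne_zero h1'
  rw [hxa, hyb, AddMonoidAlgebra.single_mul_single] at h1
  have hij : i + j = -1 ∧ a * b = 1 := by
    have := congrArg AddMonoidAlgebra.coeff h1
    rw [AddMonoidAlgebra.coeff_single, AddMonoidAlgebra.coeff_single,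
      Finsupp.single_eq_single_iff] at this
    rcases this with ⟨h, h'⟩ | ⟨h, h'⟩
    · exact ⟨h, h'⟩
    · exact absurd h' one_ne_zero
  have ha : a ∈ 𝓕.F i.toNat := by
    have := x.2 i
    rwa [hxa, AddMonoidAlgebra.coeff_single, Finsupp.single_eq_same] at this
  have hb : b ∈ 𝓕.F j.toNat := by
    have := y.2 j
    rwa [hyb, AddMonoidAlgebra.coeff_single, Finsupp.single_eq_same] at this
  have haunit : IsUnit a := IsUnit.of_mul_eq_one b hij.2
  have hbunit : IsUnit b := IsUnit.of_mul_eq_one a (by rw [mul_comm]; exact hij.2)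
  have hi : i ≤ 0 := by
    by_contra hpos
    have : 𝓕.F i.toNat ≤ 𝓕.F 1 := 𝓕.antitone (by omega)
    exact hF1 (Ideal.eq_top_of_isUnit_mem _ (this ha) haunit)
  have hj : j ≤ 0 := by
    by_contra hpos
    have : 𝓕.F j.toNat ≤ 𝓕.F 1 := 𝓕.antitone (by omega)
    exact hF1 (Ideal.eq_top_of_isUnit_mem _ (this hb) hbunit)
  rcases (show i = 0 ∨ j = 0 by omega) with rfl | rfl
  · left
    have hx' : x = algebraMap A 𝓕.extRees a := by
      apply Subtype.ext
      rw [hxa, coe_algebraMap_eq_single]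
    rw [hx']
    exact haunit.map _
  · right
    have hy' : y = algebraMap A 𝓕.extRees b := by
      apply Subtype.ext
      rw [hyb, coe_algebraMap_eq_single]
    rw [hy']
    exact hbunit.map _

theorem ufd_extRees_iff [IsNoetherianRing A] [IsDomain A] [IsDomain 𝓕.extRees]
    (hsep : ⨅ n, 𝓕.F n = ⊥) (hfg : Algebra.FiniteType A 𝓕.rees) :
    UniqueFactorizationMonoid 𝓕.extRees ↔ (UniqueFactorizationMonoid A ∧ IsDomain 𝓕.Gr) := by
  have hF1 := F_one_ne_top' 𝓕 hsep
  constructor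
  · intro hU
    haveI := hU
    constructor
    · haveI : UniqueFactorizationMonoid A[T;T⁻¹] :=
        UniqueFactorizationMonoid.of_isLocalization (Submonoid.powers 𝓕.u) A[T;T⁻¹]
      exact ufd_of_ufd_laurent
    · have hprime : Prime 𝓕.u :=
        UniqueFactorizationMonoid.irreducible_iff_prime.mp (irreducible_u 𝓕 hF1)
      haveI : (Ideal.span {𝓕.u}).IsPrime :=
        (Ideal.span_singleton_prime (u_ne_zero 𝓕)).mpr hprime
      exact Ideal.Quotient.isDomain _
  · rintro ⟨hA, hG⟩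
    haveI := hA
    have hprime : Prime 𝓕.u := by
      rw [← Ideal.span_singleton_prime (u_ne_zero 𝓕), ← Ideal.Quotient.isDomain_iff_prime]
      exact hG
    haveI : IsNoetherianRing 𝓕.extRees := isNoetherianRing_extRees 𝓕 hfg
    haveI : UniqueFactorizationMonoid A[T;T⁻¹] := ufd_laurent
    exact nagata (L := A[T;T⁻¹]) 𝓕.u hprime

end Groth.Agent.Lib.LeadUF
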