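import Mathlib
import Groth.Agent.Lib.T2H7FPFlatC
import Groth.Agent.Lib.Helper13Fiber

/-!
# Universal injectivity of `N → S' ⊗ N` for flat coverings of the associated points of the closed
fibre (helper7)
-/

universe u
open TensorProduct

namespace Groth.Agent.Lib.T2H7.FPFlat

section FibreNoeth
variable {R S : Type u} [CommRing R] [CommRing S] [Algebra R S] (p : Ideal R) [p.IsPrime]

/-- The fibre ring of an algebra essentially of finite presentation is Noetherian. -/
theorem isNoetherianRing_fiber_of_essFP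
    (hS : ∃ (S₀ : Type u) (_ : CommRing S₀) (_ : Algebra R S₀) (_ : Algebra S₀ S)
      (_ : IsScalarTower R S₀ S) (Msub : Submonoid S₀),
      Algebra.FinitePresentation R S₀ ∧ IsLocalization Msub S) :
    IsNoetherianRing (p.Fiber S) := by
  obtain ⟨S₀, _, _, _, _, Msub, hfp, hloc⟩ := hS
  have h1 : Algebra.FiniteType p.ResidueField (p.ResidueField ⊗[R] S₀) := inferInstance
  have h2 : IsNoetherianRing (p.ResidueField ⊗[R] S₀) :=
    Algebra.FiniteType.isNoetherianRing p.ResidueField _
  let _ : Algebra (p.ResidueField ⊗[R] S₀) (p.ResidueField ⊗[R] S) :=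
    (Algebra.TensorProduct.map (AlgHom.id R p.ResidueField)
      (IsScalarTower.toAlgHom R S₀ S)).toAlgebra
  have : IsScalarTower p.ResidueField (p.ResidueField ⊗[R] S₀) (p.ResidueField ⊗[R] S) :=
    .of_algebraMap_eq <| by intro; simp [RingHom.algebraMap_toAlgebra]
  have h3 := IsLocalization.tensorProduct_tensorProduct_right R p.ResidueField Msub S
    (by ext; simp [RingHom.algebraMap_toAlgebra])
  exact IsLocalization.isNoetherianRing
    (Msub.map (Algebra.TensorProduct.includeRight (R := R) (A := p.ResidueField))) _ h2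

end FibreNoeth
end Groth.Agent.Lib.T2H7.FPFlat

namespace Groth.Agent.Lib.T2H7.FPFlat

section Avoid
open FlatCA
attribute [local instance] Algebra.TensorProduct.rightAlgebra

variable {R S : Type u} [CommRing R] [CommRing S] [Algebra R S] (p : Ideal R) [p.IsPrime]
  (N : Type u) [AddCommGroup N] [Module S N] [Module R N] [IsScalarTower R S N]

/-- The contraction to `S` of an associated prime of the fibre module over the (Noetherian) fibre
ring is an associated prime of the fibre module as an `S`-module. -/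
theorem comap_mem_associatedPrimes [IsNoetherianRing (p.Fiber S)] {𝔔 : Ideal (p.Fiber S)}
    (h : 𝔔 ∈ associatedPrimes (p.Fiber S) (fiberMod p S N)) :
    𝔔.comap (algebraMap S (p.Fiber S)) ∈ associatedPrimes S (fiberMod p S N) := by
  obtain ⟨hprime, y, hy⟩ := (isAssociatedPrime_iff).mp h
  have hp' : (𝔔.comap (algebraMap S (p.Fiber S))).IsPrime := Ideal.comap_isPrime _ _
  refine ⟨hp', y, ?_⟩
  have : 𝔔.comap (algebraMap S (p.Fiber S)) = Submodule.colon ⊥ {y} := by
    ext s
    rw [Ideal.mem_comap, hy, Submodule.mem_colon_singleton, Submodule.mem_colon_singleton,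
      algebraMap_smul]
    exact Iff.rfl
  rw [← this, hp'.radical]

/-- Prime avoidance on the closed fibre: a prime of `S` consisting of zero divisors of the fibre
module is contained in an associated prime of the fibre module. -/
theorem exists_le_associatedPrime_of_disjoint [IsNoetherianRing (p.Fiber S)]
    [Module.Finite (p.Fiber S) (fiberMod p S N)] (𝔓 : Ideal S)
    (hd : Disjoint (𝔓 : Set S) (nonZeroSMulDivisors S (fiberMod p S N) : Set S)) :
    ∃ q ∈ associatedPrimes S (fiberMod p S N), 𝔓 ≤ q := by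
  classical
  have hfin := associatedPrimes.finite (p.Fiber S) (fiberMod p S N)
  have hcover : (𝔓 : Set S) ⊆ ⋃ 𝔔 ∈ (hfin.toFinset : Set (Ideal (p.Fiber S))),
      ((𝔔.comap (algebraMap S (p.Fiber S)) : Ideal S) : Set S) := by
    intro s hs
    have hsW : s ∉ nonZeroSMulDivisors S (fiberMod p S N) := fun h =>
      Set.disjoint_left.mp hd hs h
    rw [mem_nonZeroSMulDivisors_iff, not_forall] at hsW
    obtain ⟨y, hy⟩ := hsW
    rw [Classical.not_imp] at hy
    obtain ⟨hy0, hyne⟩ := hy
    have hz : algebraMap S (p.Fiber S) s ∈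
        { r : p.Fiber S | ∃ x : fiberMod p S N, x ≠ 0 ∧ r • x = 0 } :=
      ⟨y, hyne, by rw [algebraMap_smul]; exact hy0⟩
    rw [← biUnion_associatedPrimes_eq_zero_divisors] at hz
    simp only [Set.mem_iUnion, SetLike.mem_coe] at hz
    obtain ⟨𝔔, h𝔔, hmem⟩ := hz
    simp only [Set.Finite.coe_toFinset, Set.mem_iUnion, SetLike.mem_coe, Ideal.mem_comap]
    exact ⟨𝔔, h𝔔, hmem⟩
  obtain ⟨𝔔, h𝔔, hle⟩ := (Ideal.subset_union_prime (⊥ : Ideal (p.Fiber S)) ⊥
    (fun i hi _ _ => by
      have : i ∈ associatedPrimes (p.Fiber S) (fiberMod p S N) := by simpa using hi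
      have : i.IsPrime := this.isPrime
      exact Ideal.comap_isPrime _ _)).mp hcover
  exact ⟨_, comap_mem_associatedPrimes p N (by simpa using h𝔔), hle⟩

end Avoid
end Groth.Agent.Lib.T2H7.FPFlat

namespace Groth.Agent.Lib.T2H7.FPFlat

section Main
open FlatCA IsLocalRing
attribute [local instance] Algebra.TensorProduct.rightAlgebra

theorem rTensor_lsmul_apply {R S : Type u} [CommRing R] [CommRing S] [Algebra R S]
    (N : Type u) [AddCommGroup N] [Module S N] [Module R N] [IsScalarTower R S N]
    (Q : Type u) [AddCommGroup Q] [Module R Q] (s : S) (z : N ⊗[R] Q) :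
    LinearMap.rTensor Q ((LinearMap.lsmul S N s).restrictScalars R) z = s • z := by
  induction z with
  | zero => simp
  | add a b ha hb => rw [map_add, ha, hb, smul_add]
  | tmul n q => rfl

/-- Stacks 05FP-type statement: if the associated primes of the closed fibre of `N` all lift to
the flat `S`-algebra `S'`, then `N → S' ⊗ N` is universally injective over `R`. -/
theorem univInj_mk_of_assoc_closed_fiber {R S S' : Type u} [CommRing R] [IsLocalRing R]
    [CommRing S] [CommRing S'] [Algebra R S] [Algebra S S'] [Algebra R S'] [IsScalarTower R S S']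
    (hS : ∃ (S₀ : Type u) (_ : CommRing S₀) (_ : Algebra R S₀) (_ : Algebra S₀ S)
      (_ : IsScalarTower R S₀ S) (Msub : Submonoid S₀),
      Algebra.FinitePresentation R S₀ ∧ IsLocalization Msub S)
    [Module.Flat S S']
    (N : Type u) [AddCommGroup N] [Module S N] [Module R N] [IsScalarTower R S N]
    [Module.Finite S N]
    (h1194 : ∀ s ∈ FlatCA.nzdFiber R S N,
      FlatCA.UnivInj R ((LinearMap.lsmul S N s).restrictScalars R))
    (h : ∀ q ∈ associatedPrimes S (FlatCA.fiberMod (maximalIdeal R) S N),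
      ∃ q' : Ideal S', q'.IsPrime ∧ q'.comap (algebraMap S S') = q) :
    FlatCA.UnivInj R ((TensorProduct.mk S S' N 1).restrictScalars R) := by
  classical
  have hN : IsNoetherianRing ((maximalIdeal R).Fiber S) :=
    isNoetherianRing_fiber_of_essFP _ hS
  have hfin : Module.Finite ((maximalIdeal R).Fiber S) (fiberMod (maximalIdeal R) S N) :=
    inferInstanceAs (Module.Finite ((maximalIdeal R).Fiber S)
      (((maximalIdeal R).Fiber S) ⊗[S] N))
  intro Q _ _
  rw [LinearMap.lTensor_inj_iff_rTensor_inj, injective_iff_map_eq_zero]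
  intro z hz
  by_contra hne
  let 𝔞 : Ideal S := LinearMap.ker (LinearMap.toSpanSingleton S (N ⊗[R] Q) z)
  have h𝔞 : ∀ s, s ∈ 𝔞 ↔ s • z = 0 := fun s => by
    simp [𝔞, LinearMap.mem_ker, LinearMap.toSpanSingleton_apply]
  have hdisj : Disjoint (𝔞 : Set S) (nzdFiber R S N : Set S) := by
    rw [Set.disjoint_left]
    intro s hs hsW
    apply hne
    have h3 := h1194 s hsW Q
    rw [LinearMap.lTensor_inj_iff_rTensor_inj] at h3
    apply h3
    rw [map_zero, rTensor_lsmul_apply]
    exact (h𝔞 s).mp hs
  obtain ⟨𝔓, h𝔓, hle, hd⟩ := Ideal.exists_le_prime_disjoint 𝔞 _ hdisj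
  obtain ⟨q, hq, h𝔓q⟩ := exists_le_associatedPrime_of_disjoint (maximalIdeal R) N 𝔓 hd
  obtain ⟨q', hq', hqq'⟩ := h q hq
  have h1 : (1 : S') ∈ (𝔞 • ⊤ : Submodule S S') := by
    let ι : (S ⧸ 𝔞) →ₗ[S] (N ⊗[R] Q) :=
      Submodule.liftQ 𝔞 (LinearMap.toSpanSingleton S _ z) le_rfl
    have hι : Function.Injective ι := by
      rw [← LinearMap.ker_eq_bot]
      exact Submodule.ker_liftQ_eq_bot _ _ _ le_rfl
    have hflat := Module.Flat.lTensor_preserves_injective_linearMap (M := S') ι hι
    let e := TensorProduct.AlgebraTensorModule.assoc R S S S' N Q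
    have hz' : (1 : S') ⊗ₜ[S] z = 0 := by
      have key : ∀ w : N ⊗[R] Q,
          e (LinearMap.rTensor Q ((TensorProduct.mk S S' N 1).restrictScalars R) w) =
            (1 : S') ⊗ₜ[S] w := by
        intro w
        induction w with
        | zero => simp
        | add a b ha hb => rw [map_add, map_add, ha, hb, tmul_add]
        | tmul n q => rfl
      rw [← key, hz, map_zero]
    have h5 : (1 : S') ⊗ₜ[S] (Ideal.Quotient.mk 𝔞 1 : S ⧸ 𝔞) = 0 := by
      apply hflat
      rw [map_zero, LinearMap.lTensor_tmul]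
      have : ι (Ideal.Quotient.mk 𝔞 1) = z := by
        change LinearMap.toSpanSingleton S _ z 1 = z
        simp
      rw [this]
      exact hz'
    have h6 := congrArg (TensorProduct.tensorQuotEquivQuotSMul S' 𝔞) h5
    rw [map_zero, TensorProduct.tensorQuotEquivQuotSMul_tmul_mk, one_smul,
      Submodule.Quotient.mk_eq_zero] at h6
    exact h6
  have h2 : (𝔞 • ⊤ : Submodule S S') ≤ q'.restrictScalars S := by
    rw [Submodule.smul_le]
    intro a ha x _
    rw [Submodule.restrictScalars_mem, Algebra.smul_def]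
    refine Ideal.mul_mem_right _ _ ?_
    have : a ∈ q := h𝔓q (hle ha)
    rw [← hqq'] at this
    exact this
  exact hq'.ne_top ((Ideal.eq_top_iff_one _).mpr (h2 h1))

end Main
end Groth.Agent.Lib.T2H7.FPFlat
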