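import Mathlib
import Groth.Agent.Lib.T2H7FPFlatG
import Groth.Agent.Lib.T2H7FPFlatF

/-!
# Universal injectivity of `N → S' ⊗ N` for flat coverings of the associated points of all
fibres (helper7)
-/

universe u
open TensorProduct

namespace Groth.Agent.Lib.T2H7.FPFlat

section NzdFibre
open FlatCA
attribute [local instance] Algebra.TensorProduct.rightAlgebra

variable {R S : Type u} [CommRing R] [CommRing S] [Algebra R S]
  (N : Type u) [AddCommGroup N] [Module S N] [Module R N] [IsScalarTower R S N]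

/-- An element of `S` which is a nonzerodivisor on the fibre of `N` over `p = 𝔓 ∩ R` acts
injectively on `(N ⊗[R] Q)_𝔓` for every `R`-module `Q`. -/
theorem exists_smul_eq_zero_tensor_of_nzd_fiber [Algebra.FinitePresentation R S]
    [Module.FinitePresentation S N] [Module.Flat R N]
    (p : Ideal R) [p.IsPrime] (𝔓 : Ideal S) [𝔓.IsPrime] [𝔓.LiesOver p]
    (s : S) (hs : s ∈ nonZeroSMulDivisors S (fiberMod p S N))
    (Q : Type u) [AddCommGroup Q] [Module R Q] (w : N ⊗[R] Q)
    (hw : ∃ t ∈ 𝔓.primeCompl, t • s • w = 0) : ∃ t ∈ 𝔓.primeCompl, t • w = 0 := by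
  have hflat : Module.Flat R (LocalizedModule 𝔓.primeCompl N) :=
    Groth.Agent.Lib.Helper3.FlatLoc.flat_localizedModule_of_flat 𝔓.primeCompl
  let s' : Localization.AtPrime 𝔓 := algebraMap S (Localization.AtPrime 𝔓) s
  let u : LocalizedModule 𝔓.primeCompl N →ₗ[Localization.AtPrime 𝔓]
      LocalizedModule 𝔓.primeCompl N :=
    LinearMap.lsmul (Localization.AtPrime 𝔓) (LocalizedModule 𝔓.primeCompl N) s'
  have hu : ∀ x : LocalizedModule 𝔓.primeCompl N,
      u x ∈ (p • ⊤ : Submodule R (LocalizedModule 𝔓.primeCompl N)) →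
      x ∈ (p • ⊤ : Submodule R (LocalizedModule 𝔓.primeCompl N)) := by
    intro x hx
    induction x using LocalizedModule.induction_on with
    | h n t =>
      have hx' : LocalizedModule.mk (s • n) t ∈
          (p • ⊤ : Submodule R (LocalizedModule 𝔓.primeCompl N)) := by
        have : u (LocalizedModule.mk n t) = LocalizedModule.mk (s • n) t := by
          change s' • LocalizedModule.mk n t = _
          rw [algebraMap_smul, LocalizedModule.smul'_mk]
        rw [← this]
        exact hx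
      rw [mk_mem_smul_top_iff_of_tower] at hx' ⊢
      obtain ⟨t₁, ht₁, h1⟩ := hx'
      have h2 := Groth.Agent.Helper13Fiber.toFiberMod_eq_zero_of_mem p S N h1
      rw [smul_comm, map_smul] at h2
      have h3 := (mem_nonZeroSMulDivisors_iff.mp hs) _ h2
      obtain ⟨r, hr, h4⟩ := (Groth.Agent.Helper13Fiber.toFiberMod_eq_zero_iff p S N _).mp h3
      refine ⟨algebraMap R S r * t₁, mul_mem (algebraMap_mem_primeCompl_of_notMem p 𝔓 hr) ht₁, ?_⟩
      rw [mul_smul]
      exact h4
  obtain ⟨hinj, hfl⟩ := injective_and_flat_coker_atPrime p 𝔓 u hu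
  have h3 : Function.Injective ((u.restrictScalars R).rTensor Q) := by
    rw [← LinearMap.lTensor_inj_iff_rTensor_inj]
    have hsurj : Function.Surjective ((LinearMap.range u).mkQ.restrictScalars R) :=
      Submodule.mkQ_surjective (LinearMap.range u)
    have hex : Function.Exact (u.restrictScalars R) ((LinearMap.range u).mkQ.restrictScalars R) :=
      LinearMap.exact_map_mkQ_range u
    have hinj' : Function.Injective (u.restrictScalars R) := hinj
    exact LinearMap.lTensor_injective_of_exact_of_flat (R := R)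
      (M := LocalizedModule 𝔓.primeCompl N) (N := LocalizedModule 𝔓.primeCompl N)
      (P := LocalizedModule 𝔓.primeCompl N ⧸ LinearMap.range u)
      ((LinearMap.range u).mkQ.restrictScalars R) hsurj (u.restrictScalars R) hinj' hex Q
  have hloc := IsLocalizedModule.rTensor (R := R) S 𝔓.primeCompl (N := Q)
    (LocalizedModule.mkLinearMap 𝔓.primeCompl N)
  set f := TensorProduct.AlgebraTensorModule.rTensor R Q
    (LocalizedModule.mkLinearMap 𝔓.primeCompl N) with hf
  obtain ⟨t, ht, htw⟩ := hw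
  have h4 : (⟨t, ht⟩ : 𝔓.primeCompl) • (s • f w) = 0 := by
    rw [Submonoid.mk_smul, ← map_smul, ← map_smul, htw, map_zero]
  have h5 : s • f w = 0 := by
    have := IsLocalizedModule.smul_injective f (⟨t, ht⟩ : 𝔓.primeCompl)
    exact this (h4.trans (smul_zero _).symm)
  have h6 : (u.restrictScalars R).rTensor Q (f w) = 0 := by
    have := rTensor_lsmul_apply (R := R) (S := Localization.AtPrime 𝔓)
      (LocalizedModule 𝔓.primeCompl N) Q s' (f w)
    rw [show (u.restrictScalars R) = (LinearMap.lsmul (Localization.AtPrime 𝔓)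
      (LocalizedModule 𝔓.primeCompl N) s').restrictScalars R from rfl, this]
    change algebraMap S (Localization.AtPrime 𝔓) s • f w = 0
    rw [algebraMap_smul]
    exact h5
  have h7 : f w = f 0 := by
    rw [map_zero]
    exact h3 (h6.trans (map_zero _).symm)
  obtain ⟨c, hc⟩ := IsLocalizedModule.exists_of_eq (S := 𝔓.primeCompl) (f := f) h7
  exact ⟨c.1, c.2, by rw [smul_zero] at hc; exact hc⟩

end NzdFibre
end Groth.Agent.Lib.T2H7.FPFlat

namespace Groth.Agent.Lib.T2H7.FPFlat

section FibreAss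
open FlatCA
attribute [local instance] Algebra.TensorProduct.rightAlgebra

variable {R S : Type u} [CommRing R] [CommRing S] [Algebra R S] (p : Ideal R) [p.IsPrime]
  (N : Type u) [AddCommGroup N] [Module S N] [Module R N] [IsScalarTower R S N]

/-- Every ideal of the fibre ring is extended from its contraction to `S`. -/
theorem map_comap_fiber_eq (𝔔 : Ideal (p.Fiber S)) :
    (𝔔.comap (algebraMap S (p.Fiber S))).map
      (Algebra.TensorProduct.includeRight (R := R) (A := p.ResidueField) (B := S)).toRingHom =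
        𝔔 := by
  refine le_antisymm ?_ ?_
  · exact Ideal.map_comap_le
  · intro x hx
    obtain ⟨r, hr, s, e⟩ := Ideal.Fiber.exists_smul_eq_one_tmul p x
    have hu := Groth.Agent.Helper13Fiber.isUnit_algebraMap p S hr
    have e' : algebraMap S (p.Fiber S) (algebraMap R S r) * x = algebraMap S (p.Fiber S) s := by
      rw [← IsScalarTower.algebraMap_apply R S (p.Fiber S), ← Algebra.smul_def, e]
      rfl
    have hs : s ∈ 𝔔.comap (algebraMap S (p.Fiber S)) := by
      rw [Ideal.mem_comap, ← e']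
      exact Ideal.mul_mem_left _ _ hx
    have h1 : algebraMap S (p.Fiber S) s ∈ (𝔔.comap (algebraMap S (p.Fiber S))).map
        (Algebra.TensorProduct.includeRight (R := R) (A := p.ResidueField) (B := S)).toRingHom :=
      Ideal.mem_map_of_mem _ hs
    rw [← e'] at h1
    obtain ⟨v, hv⟩ := hu
    have : x = (↑v⁻¹ : p.Fiber S) * (algebraMap S (p.Fiber S) (algebraMap R S r) * x) := by
      rw [← hv, ← mul_assoc, Units.inv_mul, one_mul]
    rw [this]
    exact Ideal.mul_mem_left _ _ h1

/-- Prime avoidance on a fibre, keeping the associated prime of the fibre ring. -/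
theorem exists_associatedPrime_fiber_le [IsNoetherianRing (p.Fiber S)]
    [Module.Finite (p.Fiber S) (fiberMod p S N)] (𝔓 : Ideal S)
    (hd : Disjoint (𝔓 : Set S) (nonZeroSMulDivisors S (fiberMod p S N) : Set S)) :
    ∃ 𝔔 ∈ associatedPrimes (p.Fiber S) (fiberMod p S N),
      𝔓 ≤ 𝔔.comap (algebraMap S (p.Fiber S)) := by
  classical
  have hfin := associatedPrimes.finite (p.Fiber S) (fiberMod p S N)
  have hcover : (𝔓 : Set S) ⊆ ⋃ 𝔔 ∈ (hfin.toFinset : Set (Ideal (p.Fiber S))),
      ((𝔔.comap (algebraMap S (p.Fiber S)) : Ideal S) : Set S) := by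
    intro s hs
    have hsW : s ∉ nonZeroSMulDivisors S (fiberMod p S N) := fun h =>
      Set.disjoint_left.mp hd hs h
    rw [mem_nonZeroSMulDivisors_iff, not_forall] at hsW
    obtain ⟨y, hy⟩ := hsW
    rw [Classical.not_imp] at hy
    obtain ⟨hy0, hyne⟩ := hy
    have hz : algebraMap S (p.Fiber S) s ∈
        { r : p.Fiber S | ∃ x : fiberMod p S N, x ≠ 0 ∧ r • x = 0 } :=
      ⟨y, hyne, by rw [algebraMap_smul]; exact hy0⟩
    rw [← biUnion_associatedPrimes_eq_zero_divisors] at hz
    simp only [Set.mem_iUnion, SetLike.mem_coe] at hz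
    obtain ⟨𝔔, h𝔔, hmem⟩ := hz
    simp only [Set.Finite.coe_toFinset, Set.mem_iUnion, SetLike.mem_coe, Ideal.mem_comap]
    exact ⟨𝔔, h𝔔, hmem⟩
  obtain ⟨𝔔, h𝔔, hle⟩ := (Ideal.subset_union_prime (⊥ : Ideal (p.Fiber S)) ⊥
    (fun i hi _ _ => by
      have : i ∈ associatedPrimes (p.Fiber S) (fiberMod p S N) := by simpa using hi
      have : i.IsPrime := this.isPrime
      exact Ideal.comap_isPrime _ _)).mp hcover
  exact ⟨𝔔, by simpa using h𝔔, hle⟩

end FibreAss

section FlatAnn
variable {S S' : Type u} [CommRing S] [CommRing S'] [Algebra S S'] [Module.Flat S S']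
  {P : Type u} [AddCommGroup P] [Module S P]

/-- If `1 ⊗ z = 0` in `S' ⊗ P` with `S'` flat over `S`, then the annihilator of `z` generates
the unit ideal of `S'`. -/
theorem one_mem_smul_top_of_one_tmul_eq_zero (z : P) (hz : (1 : S') ⊗ₜ[S] z = 0) :
    (1 : S') ∈ ((LinearMap.ker (LinearMap.toSpanSingleton S P z) : Ideal S) • ⊤ :
      Submodule S S') := by
  set 𝔞 : Ideal S := LinearMap.ker (LinearMap.toSpanSingleton S P z) with h𝔞
  let ι : (S ⧸ 𝔞) →ₗ[S] P := Submodule.liftQ 𝔞 (LinearMap.toSpanSingleton S _ z) le_rfl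
  have hι : Function.Injective ι := by
    rw [← LinearMap.ker_eq_bot]
    exact Submodule.ker_liftQ_eq_bot _ _ _ le_rfl
  have hflat := Module.Flat.lTensor_preserves_injective_linearMap (M := S') ι hι
  have h5 : (1 : S') ⊗ₜ[S] (Ideal.Quotient.mk 𝔞 1 : S ⧸ 𝔞) = 0 := by
    apply hflat
    rw [map_zero, LinearMap.lTensor_tmul]
    have : ι (Ideal.Quotient.mk 𝔞 1) = z := by
      change LinearMap.toSpanSingleton S _ z 1 = z
      simp
    rw [this]
    exact hz
  have h6 := congrArg (TensorProduct.tensorQuotEquivQuotSMul S' 𝔞) h5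
  rw [map_zero, TensorProduct.tensorQuotEquivQuotSMul_tmul_mk, one_smul,
    Submodule.Quotient.mk_eq_zero] at h6
  exact h6

end FlatAnn
end Groth.Agent.Lib.T2H7.FPFlat

namespace Groth.Agent.Lib.T2H7.FPFlat

section MainGlobal
open FlatCA
attribute [local instance] Algebra.TensorProduct.rightAlgebra

/-- A prime minimal over `𝔞` consists of elements nilpotent modulo `𝔞` locally. -/
theorem exists_mul_pow_mem_of_mem_minimalPrimes {S : Type u} [CommRing S] {𝔞 𝔓 : Ideal S}
    (h𝔓 : 𝔓 ∈ 𝔞.minimalPrimes) {s : S} (hs : s ∈ 𝔓) :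
    ∃ t, t ∉ 𝔓 ∧ ∃ n : ℕ, t * s ^ n ∈ 𝔞 := by
  have hprime : 𝔓.IsPrime := h𝔓.1.1
  have h1 := IsLocalization.AtPrime.radical_map_of_mem_minimalPrimes
    (A := Localization.AtPrime 𝔓) 𝔓 𝔞 h𝔓
  have h2 : algebraMap S (Localization.AtPrime 𝔓) s ∈
      (𝔞.map (algebraMap S (Localization.AtPrime 𝔓))).radical := by
    rw [h1]
    exact Ideal.mem_map_of_mem _ hs
  obtain ⟨n, hn⟩ := h2
  rw [← map_pow, IsLocalization.mem_map_algebraMap_iff (M := 𝔓.primeCompl)] at hn
  obtain ⟨⟨a, b⟩, hab⟩ := hn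
  rw [← map_mul, IsLocalization.eq_iff_exists 𝔓.primeCompl] at hab
  obtain ⟨t, ht⟩ := hab
  refine ⟨t * b, (mul_mem t.2 b.2 : (t : S) * (b : S) ∈ 𝔓.primeCompl), n, ?_⟩
  have : (t : S) * (b : S) * s ^ n = t * a := by
    rw [mul_assoc, mul_comm (b : S)]
    exact ht
  rw [this]
  exact Ideal.mul_mem_left _ _ a.2

/-- Stacks 05FP-type statement, global form: if the associated points of all the fibres of `N`
lift to the flat `S`-algebra `S'`, then `N → S' ⊗ N` is universally injective over `R`. -/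
theorem univInj_mk_of_assoc_fibers {R S S' : Type u} [CommRing R] [CommRing S] [CommRing S']
    [Algebra R S] [Algebra S S'] [Algebra R S'] [IsScalarTower R S S']
    [Algebra.FinitePresentation R S] [Module.Flat S S']
    (N : Type u) [AddCommGroup N] [Module S N] [Module R N] [IsScalarTower R S N]
    [Module.FinitePresentation S N] [Module.Flat R N]
    (h : ∀ (p : Ideal R) (q : Ideal S) [p.IsPrime] [q.IsPrime] [q.LiesOver p],
      FlatCA.fiberIdeal p q ∈ associatedPrimes (p.Fiber S) (FlatCA.fiberMod p S N) →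
      ∃ q' : Ideal S', q'.IsPrime ∧ q'.comap (algebraMap S S') = q) :
    FlatCA.UnivInj R ((TensorProduct.mk S S' N 1).restrictScalars R) := by
  classical
  intro Q _ _
  rw [LinearMap.lTensor_inj_iff_rTensor_inj, injective_iff_map_eq_zero]
  intro z hz
  by_contra hne
  let e := TensorProduct.AlgebraTensorModule.assoc R S S S' N Q
  have hz' : (1 : S') ⊗ₜ[S] z = 0 := by
    have key : ∀ w : N ⊗[R] Q,
        e (LinearMap.rTensor Q ((TensorProduct.mk S S' N 1).restrictScalars R) w) =
          (1 : S') ⊗ₜ[S] w := by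
      intro w
      induction w with
      | zero => simp
      | add a b ha hb => rw [map_add, map_add, ha, hb, tmul_add]
      | tmul n q => rfl
    rw [← key, hz, map_zero]
  set 𝔞 : Ideal S := LinearMap.ker (LinearMap.toSpanSingleton S (N ⊗[R] Q) z) with h𝔞def
  have h𝔞 : ∀ s, s ∈ 𝔞 ↔ s • z = 0 := fun s => by
    simp [h𝔞def, LinearMap.mem_ker, LinearMap.toSpanSingleton_apply]
  have h1 : (1 : S') ∈ (𝔞 • ⊤ : Submodule S S') := one_mem_smul_top_of_one_tmul_eq_zero z hz'
  have hne_top : 𝔞 ≠ ⊤ := by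
    intro htop
    apply hne
    have : (1 : S) ∈ 𝔞 := by rw [htop]; trivial
    rw [h𝔞, one_smul] at this
    exact this
  obtain ⟨𝔪, h𝔪, h𝔞𝔪⟩ := Ideal.exists_le_maximal 𝔞 hne_top
  have : 𝔪.IsPrime := h𝔪.isPrime
  obtain ⟨𝔓, h𝔓, -⟩ := Ideal.exists_minimalPrimes_le h𝔞𝔪
  have h𝔓prime : 𝔓.IsPrime := h𝔓.1.1
  have h𝔞𝔓 : 𝔞 ≤ 𝔓 := h𝔓.1.2
  let p : Ideal R := 𝔓.under R
  have hNoeth : IsNoetherianRing (p.Fiber S) := by
    have h1 : Algebra.FiniteType p.ResidueField (p.ResidueField ⊗[R] S) := inferInstance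
    exact Algebra.FiniteType.isNoetherianRing p.ResidueField _
  have hfin : Module.Finite (p.Fiber S) (fiberMod p S N) :=
    inferInstanceAs (Module.Finite (p.Fiber S) ((p.Fiber S) ⊗[S] N))
  have hdisj : Disjoint (𝔓 : Set S) (nonZeroSMulDivisors S (fiberMod p S N) : Set S) := by
    rw [Set.disjoint_left]
    intro s hs hsW
    obtain ⟨t, ht, n, htn⟩ := exists_mul_pow_mem_of_mem_minimalPrimes h𝔓 hs
    have hw : ∃ t ∈ 𝔓.primeCompl, t • s ^ n • z = 0 :=
      ⟨t, ht, by rw [← mul_smul]; exact (h𝔞 _).mp htn⟩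
    obtain ⟨t', ht', h2⟩ := exists_smul_eq_zero_tensor_of_nzd_fiber N p 𝔓 (s ^ n)
      (pow_mem hsW n) Q z hw
    exact ht' (h𝔞𝔓 ((h𝔞 t').mpr h2))
  obtain ⟨𝔔, h𝔔, hle⟩ := exists_associatedPrime_fiber_le p N 𝔓 hdisj
  have h𝔔prime : 𝔔.IsPrime := h𝔔.isPrime
  let q : Ideal S := 𝔔.comap (algebraMap S (p.Fiber S))
  have hqprime : q.IsPrime := Ideal.comap_isPrime _ _
  have hqover : q.LiesOver p := by
    refine ⟨?_⟩
    have h0 : p = 𝔔.under R := Ideal.LiesOver.over
    rw [h0]
    change Ideal.comap (algebraMap R (p.Fiber S)) 𝔔 =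
      Ideal.comap (algebraMap R S) (Ideal.comap (algebraMap S (p.Fiber S)) 𝔔)
    rw [Ideal.comap_comap, ← IsScalarTower.algebraMap_eq]
  have hfib : FlatCA.fiberIdeal p q = 𝔔 := map_comap_fiber_eq p 𝔔
  obtain ⟨q', hq', hqq'⟩ := h p q (by rw [hfib]; exact h𝔔)
  have h2 : (𝔞 • ⊤ : Submodule S S') ≤ q'.restrictScalars S := by
    rw [Submodule.smul_le]
    intro a ha x _
    rw [Submodule.restrictScalars_mem, Algebra.smul_def]
    refine Ideal.mul_mem_right _ _ ?_
    have : a ∈ q := hle (h𝔞𝔓 ha)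
    rw [← hqq'] at this
    exact this
  exact hq'.ne_top ((Ideal.eq_top_iff_one _).mpr (h2 h1))

end MainGlobal
end Groth.Agent.Lib.T2H7.FPFlat
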