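import Mathlib
import Groth.Agent.Lib.T2H7FPFlatH

/-!
# Universally schematically dense opens, fibrewise (lead), part 1

Local form of helper7's lemma `exists_smul_eq_zero_tensor_of_nzd_fiber`: an element of `S` which is
a nonzerodivisor on the fibre module of `N` *locally at `𝔓`* acts injectively on `(N ⊗[R] Q)_𝔓`.
-/

set_option autoImplicit false
set_option maxHeartbeats 800000
set_option linter.style.haveILetI false
set_option linter.unusedSectionVars false
set_option linter.unusedVariables false

universe u
open TensorProduct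

namespace Groth.Agent.Lib.LeadUSD

open FlatCA Groth.Agent.Lib.T2H7.FPFlat
attribute [local instance] Algebra.TensorProduct.rightAlgebra

/-- An element of `S` which is a nonzerodivisor on the fibre of `N` over `p = 𝔓 ∩ R` locally at `𝔓`
acts injectively on `(N ⊗[R] Q)_𝔓` for every `R`-module `Q`. -/
theorem exists_smul_eq_zero_tensor_of_locally_nzd_fiber {R S : Type u} [CommRing R] [CommRing S]
    [Algebra R S] (N : Type u) [AddCommGroup N] [Module S N] [Module R N] [IsScalarTower R S N]
    [Algebra.FinitePresentation R S]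
    [Module.FinitePresentation S N] [Module.Flat R N]
    (p : Ideal R) [p.IsPrime] (𝔓 : Ideal S) [𝔓.IsPrime] [𝔓.LiesOver p]
    (s : S) (hs : ∀ y : fiberMod p S N, s • y = 0 → ∃ t ∈ 𝔓.primeCompl, t • y = 0)
    (Q : Type u) [AddCommGroup Q] [Module R Q] (w : N ⊗[R] Q)
    (hw : ∃ t ∈ 𝔓.primeCompl, t • s • w = 0) : ∃ t ∈ 𝔓.primeCompl, t • w = 0 := by
  have hflat : Module.Flat R (LocalizedModule 𝔓.primeCompl N) :=
    Groth.Agent.Lib.Helper3.FlatLoc.flat_localizedModule_of_flat 𝔓.primeCompl
  let s' : Localization.AtPrime 𝔓 := algebraMap S (Localization.AtPrime 𝔓) s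
  let u : LocalizedModule 𝔓.primeCompl N →ₗ[Localization.AtPrime 𝔓]
      LocalizedModule 𝔓.primeCompl N :=
    LinearMap.lsmul (Localization.AtPrime 𝔓) (LocalizedModule 𝔓.primeCompl N) s'
  have hu : ∀ x : LocalizedModule 𝔓.primeCompl N,
      u x ∈ (p • ⊤ : Submodule R (LocalizedModule 𝔓.primeCompl N)) →
      x ∈ (p • ⊤ : Submodule R (LocalizedModule 𝔓.primeCompl N)) := by
    intro x hx
    induction x using LocalizedModule.induction_on with
    | h n t =>
      have hx' : LocalizedModule.mk (s • n) t ∈
          (p • ⊤ : Submodule R (LocalizedModule 𝔓.primeCompl N)) := by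
        have : u (LocalizedModule.mk n t) = LocalizedModule.mk (s • n) t := by
          change s' • LocalizedModule.mk n t = _
          rw [algebraMap_smul, LocalizedModule.smul'_mk]
        rw [← this]
        exact hx
      rw [mk_mem_smul_top_iff_of_tower] at hx' ⊢
      obtain ⟨t₁, ht₁, h1⟩ := hx'
      have h2 := Groth.Agent.Helper13Fiber.toFiberMod_eq_zero_of_mem p S N h1
      rw [smul_comm, map_smul] at h2
      obtain ⟨t₂, ht₂, h3⟩ := hs _ h2
      rw [← map_smul] at h3
      obtain ⟨r, hr, h4⟩ := (Groth.Agent.Helper13Fiber.toFiberMod_eq_zero_iff p S N _).mp h3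
      refine ⟨algebraMap R S r * (t₂ * t₁),
        mul_mem (algebraMap_mem_primeCompl_of_notMem p 𝔓 hr) (mul_mem ht₂ ht₁), ?_⟩
      rw [mul_smul, mul_smul]
      exact h4
  obtain ⟨hinj, hfl⟩ := injective_and_flat_coker_atPrime p 𝔓 u hu
  have h3 : Function.Injective ((u.restrictScalars R).rTensor Q) := by
    rw [← LinearMap.lTensor_inj_iff_rTensor_inj]
    have hsurj : Function.Surjective ((LinearMap.range u).mkQ.restrictScalars R) :=
      Submodule.mkQ_surjective (LinearMap.range u)
    have hex : Function.Exact (u.restrictScalars R) ((LinearMap.range u).mkQ.restrictScalars R) :=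
      LinearMap.exact_map_mkQ_range u
    have hinj' : Function.Injective (u.restrictScalars R) := hinj
    exact LinearMap.lTensor_injective_of_exact_of_flat (R := R)
      (M := LocalizedModule 𝔓.primeCompl N) (N := LocalizedModule 𝔓.primeCompl N)
      (P := LocalizedModule 𝔓.primeCompl N ⧸ LinearMap.range u)
      ((LinearMap.range u).mkQ.restrictScalars R) hsurj (u.restrictScalars R) hinj' hex Q
  have hloc := IsLocalizedModule.rTensor (R := R) S 𝔓.primeCompl (N := Q)
    (LocalizedModule.mkLinearMap 𝔓.primeCompl N)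
  set f := TensorProduct.AlgebraTensorModule.rTensor R Q
    (LocalizedModule.mkLinearMap 𝔓.primeCompl N) with hf
  obtain ⟨t, ht, htw⟩ := hw
  have h4 : (⟨t, ht⟩ : 𝔓.primeCompl) • (s • f w) = 0 := by
    rw [Submonoid.mk_smul, ← map_smul, ← map_smul, htw, map_zero]
  have h5 : s • f w = 0 := by
    have := IsLocalizedModule.smul_injective f (⟨t, ht⟩ : 𝔓.primeCompl)
    exact this (h4.trans (smul_zero _).symm)
  have h6 : (u.restrictScalars R).rTensor Q (f w) = 0 := by
    have := rTensor_lsmul_apply (R := R) (S := Localization.AtPrime 𝔓)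
      (LocalizedModule 𝔓.primeCompl N) Q s' (f w)
    rw [show (u.restrictScalars R) = (LinearMap.lsmul (Localization.AtPrime 𝔓)
      (LocalizedModule 𝔓.primeCompl N) s').restrictScalars R from rfl, this]
    change algebraMap S (Localization.AtPrime 𝔓) s • f w = 0
    rw [algebraMap_smul]
    exact h5
  have h7 : f w = f 0 := by
    rw [map_zero]
    exact h3 (h6.trans (map_zero _).symm)
  obtain ⟨c, hc⟩ := IsLocalizedModule.exists_of_eq (S := 𝔓.primeCompl) (f := f) h7
  exact ⟨c.1, c.2, by rw [smul_zero] at hc; exact hc⟩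

end Groth.Agent.Lib.LeadUSD
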