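import Mathlib
import Groth.Agent.Lib.LeadUSD1
import Groth.Agent.Lib.LeadFib3

/-!
# Universally schematically dense opens, fibrewise (lead), part 2

* `exists_mem_span_regular_mod_torsion`: over a Noetherian ring, if a finite module has no
  `(g i)`-power torsion modulo `s`-power torsion, the ideal generated by the `g i` contains an
  element which is regular modulo `s`-power torsion (associated primes + prime avoidance).
* `exists_pow_smul_eq_zero_of_fibres`: **ring-level main theorem** (EGA IV 11.10.10 type):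
  `S` finitely presented over `R`, `N` a finitely presented `S`-module flat over `R`, `g i : S`;
  if on every fibre of `N` the `g i`-torsion vanishes locally, the same holds for `N ⊗[R] Q`.
-/

set_option autoImplicit false
set_option maxHeartbeats 800000
set_option linter.style.haveILetI false
set_option linter.unusedSectionVars false
set_option linter.unusedVariables false

universe u
open TensorProduct

namespace Groth.Agent.Lib.LeadUSD

open FlatCA Groth.Agent.Lib.T2H7.FPFlat Groth.Agent.Lib.LeadFib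
attribute [local instance] Algebra.TensorProduct.rightAlgebra

theorem mul_pow_succ_eq {S : Type*} [CommRing S] (s b : S) (n : ℕ) :
    (s * b) ^ (n + 1) = (s * b ^ n) * (s ^ n * b) := by
  rw [mul_pow, pow_succ, pow_succ]; ring

/-- regular element modulo `s`-power torsion inside the ideal generated by the `g i`. -/
theorem exists_mem_span_regular_mod_torsion {S P : Type*} [CommRing S] [CommRing P] [Algebra S P]
    [IsNoetherianRing P] {F : Type*} [AddCommGroup F] [Module P F] [Module S F]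
    [IsScalarTower S P F] [Module.Finite P F] {ι : Type*} (g : ι → S) (s : S)
    (h : ∀ y : F, (∀ i, ∃ n : ℕ, (s * g i) ^ n • y = 0) → ∃ n : ℕ, s ^ n • y = 0) :
    ∃ b ∈ Ideal.span (Set.range g), ∀ y : F, b • y = 0 → ∃ n : ℕ, s ^ n • y = 0 := by
  classical
  let Γ : Submodule P F := powTorsion F (algebraMap S P s)
  have hΓ : ∀ y : F, y ∈ Γ ↔ ∃ n : ℕ, s ^ n • y = 0 := by
    intro y
    rw [mem_powTorsion]
    constructor
    · rintro ⟨n, hn⟩
      exact ⟨n, by rw [← algebraMap_smul P, map_pow]; exact hn⟩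
    · rintro ⟨n, hn⟩
      exact ⟨n, by rw [← map_pow, algebraMap_smul]; exact hn⟩
  by_contra hcon
  push Not at hcon
  have hfin := associatedPrimes.finite P (F ⧸ Γ)
  have hcover : ((Ideal.span (Set.range g) : Ideal S) : Set S) ⊆
      ⋃ 𝔔 ∈ (hfin.toFinset : Set (Ideal P)), ((𝔔.comap (algebraMap S P) : Ideal S) : Set S) := by
    intro r hr
    obtain ⟨y, hy0, hyne⟩ := hcon r hr
    have hz : algebraMap S P r ∈ {r : P | ∃ x : F ⧸ Γ, x ≠ 0 ∧ r • x = 0} := by
      refine ⟨Γ.mkQ y, ?_, ?_⟩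
      · intro h0
        rw [Submodule.mkQ_apply, Submodule.Quotient.mk_eq_zero, hΓ] at h0
        obtain ⟨n, hn⟩ := h0
        exact hyne n hn
      · rw [← map_smul, algebraMap_smul, hy0, map_zero]
    rw [← biUnion_associatedPrimes_eq_zero_divisors] at hz
    simp only [Set.mem_iUnion, SetLike.mem_coe] at hz
    obtain ⟨𝔔, h𝔔, hmem⟩ := hz
    simp only [Set.Finite.coe_toFinset, Set.mem_iUnion, SetLike.mem_coe, Ideal.mem_comap]
    exact ⟨𝔔, h𝔔, hmem⟩
  obtain ⟨𝔔, h𝔔, hle⟩ := (Ideal.subset_union_prime (⊥ : Ideal P) ⊥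
    (fun i hi _ _ => by
      have : i ∈ associatedPrimes P (F ⧸ Γ) := by simpa using hi
      have : i.IsPrime := this.isPrime
      exact Ideal.comap_isPrime _ _)).mp hcover
  have h𝔔' : 𝔔 ∈ associatedPrimes P (F ⧸ Γ) := by simpa using h𝔔
  obtain ⟨hprime, x, hx⟩ := (isAssociatedPrime_iff).mp h𝔔'
  obtain ⟨y, rfl⟩ := Γ.mkQ_surjective x
  have hy : ∀ i, ∃ n : ℕ, (s * g i) ^ n • y = 0 := by
    intro i
    have h1 : algebraMap S P (g i) ∈ 𝔔 :=
      hle (Ideal.subset_span (Set.mem_range_self i))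
    rw [hx, Submodule.mem_colon_singleton, Submodule.mem_bot, ← map_smul, Submodule.mkQ_apply,
      Submodule.Quotient.mk_eq_zero, hΓ] at h1
    obtain ⟨n, hn⟩ := h1
    rw [algebraMap_smul] at hn
    refine ⟨n + 1, ?_⟩
    rw [mul_pow_succ_eq, mul_smul, mul_smul (s ^ n), hn, smul_zero]
  obtain ⟨n, hn⟩ := h y hy
  have h0 : Γ.mkQ y = 0 := by
    rw [Submodule.mkQ_apply, Submodule.Quotient.mk_eq_zero, hΓ]
    exact ⟨n, hn⟩
  have h1 : (1 : P) ∈ 𝔔 := by
    rw [hx, Submodule.mem_colon_singleton, h0, smul_zero]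
    exact Submodule.zero_mem _
  exact hprime.ne_top ((Ideal.eq_top_iff_one _).mpr h1)

/-- **ring-level main theorem**. -/
theorem exists_pow_smul_eq_zero_of_fibres {R S : Type u} [CommRing R] [CommRing S] [Algebra R S]
    [Algebra.FinitePresentation R S]
    (N : Type u) [AddCommGroup N] [Module S N] [Module R N] [IsScalarTower R S N]
    [Module.FinitePresentation S N] [Module.Flat R N] {ι : Type*} (g : ι → S)
    (hfib : ∀ (p : Ideal R) [p.IsPrime] (a : S) (y : fiberMod p S N),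
      (∀ i, ∃ n : ℕ, (a * g i) ^ n • y = 0) → ∃ n : ℕ, a ^ n • y = 0)
    (Q : Type u) [AddCommGroup Q] [Module R Q] (s : S) (z : N ⊗[R] Q)
    (hz : ∀ i, ∃ n : ℕ, (s * g i) ^ n • z = 0) : ∃ n : ℕ, s ^ n • z = 0 := by
  classical
  by_contra hne
  push Not at hne
  set 𝔞 : Ideal S := LinearMap.ker (LinearMap.toSpanSingleton S (N ⊗[R] Q) z) with h𝔞def
  have h𝔞 : ∀ b, b ∈ 𝔞 ↔ b • z = 0 := fun b => by
    simp [h𝔞def, LinearMap.mem_ker, LinearMap.toSpanSingleton_apply]
  have hdisj : Disjoint (𝔞 : Set S) (Submonoid.powers s : Set S) := by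
    rw [Set.disjoint_left]
    rintro b hb ⟨n, rfl⟩
    exact hne n ((h𝔞 _).mp hb)
  obtain ⟨𝔓, h𝔓prime, h𝔞𝔓, h𝔓s⟩ := Ideal.exists_le_prime_disjoint 𝔞 (Submonoid.powers s) hdisj
  have hs𝔓 : ∀ n : ℕ, s ^ n ∉ 𝔓 := fun n hmem =>
    Set.disjoint_left.mp h𝔓s hmem ⟨n, rfl⟩
  let p : Ideal R := 𝔓.under R
  haveI : 𝔓.LiesOver p := ⟨rfl⟩
  have hNoeth : IsNoetherianRing (p.Fiber S) := by
    have h1 : Algebra.FiniteType p.ResidueField (p.ResidueField ⊗[R] S) := inferInstance
    exact Algebra.FiniteType.isNoetherianRing p.ResidueField _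
  have hfin : Module.Finite (p.Fiber S) (fiberMod p S N) :=
    inferInstanceAs (Module.Finite (p.Fiber S) ((p.Fiber S) ⊗[S] N))
  obtain ⟨b, hb, hreg⟩ := exists_mem_span_regular_mod_torsion (P := p.Fiber S)
    (F := fiberMod p S N) g s (hfib p s)
  -- powers of `b` are still regular modulo torsion
  have hregpow : ∀ (k : ℕ) (y : fiberMod p S N), b ^ k • y = 0 → ∃ n : ℕ, s ^ n • y = 0 := by
    intro k
    induction k with
    | zero =>
      intro y hy
      rw [pow_zero, one_smul] at hy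
      exact ⟨0, by rw [hy, smul_zero]⟩
    | succ k ih =>
      intro y hy
      rw [pow_succ, mul_smul] at hy
      obtain ⟨n, hn⟩ := ih _ hy
      rw [smul_comm] at hn
      obtain ⟨m, hm⟩ := hreg _ hn
      exact ⟨m + n, by rw [pow_add, mul_smul]; exact hm⟩
  -- `(s b)^k` kills `z`
  have hJ : Ideal.span (Set.range g) ≤ (𝔞.radical).colon {s} := by
    rw [Ideal.span_le]
    rintro _ ⟨i, rfl⟩
    rw [SetLike.mem_coe, Submodule.mem_colon_singleton, smul_eq_mul, mul_comm]
    obtain ⟨n, hn⟩ := hz i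
    exact ⟨n, (h𝔞 _).mpr hn⟩
  have hbJ := hJ hb
  rw [Submodule.mem_colon_singleton, smul_eq_mul] at hbJ
  obtain ⟨k, hk⟩ := hbJ
  rw [h𝔞, mul_pow, mul_smul] at hk
  obtain ⟨t, ht, htz⟩ := exists_smul_eq_zero_tensor_of_locally_nzd_fiber N p 𝔓 (b ^ k)
    (fun y hy => by
      obtain ⟨n, hn⟩ := hregpow k y hy
      exact ⟨s ^ n, hs𝔓 n, hn⟩) Q (s ^ k • z) ⟨1, 𝔓.primeCompl.one_mem, by rw [one_smul]; exact hk⟩
  have h1 : t * s ^ k ∈ 𝔓 := h𝔞𝔓 ((h𝔞 _).mpr (by rw [mul_smul]; exact htz))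
  rcases h𝔓prime.mem_or_mem h1 with h2 | h2
  · exact ht h2
  · exact hs𝔓 k h2

end Groth.Agent.Lib.LeadUSD
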