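import Mathlib
import Groth.Agent.Lib.LeadUSD2
import Groth.Agent.Lib.LeadFib6

/-!
# Universally schematically dense opens, fibrewise (lead), part 3

From the universal fibre condition `UFC A u` for localization maps `u i : M → M_{g i}` of a finitely
presented `R`-module `M` flat over `A` (`R` finitely presented over `A`) to `Phi u P' s` on every
base change.  No Noetherian hypothesis.
-/

set_option autoImplicit false
set_option maxHeartbeats 800000
set_option linter.style.haveILetI false
set_option linter.unusedSectionVars false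
set_option linter.unusedVariables false

universe u
open TensorProduct

namespace Groth.Agent.Lib.LeadUSD

open FlatCA Groth.Agent.Lib.T2H7.FPFlat Groth.Agent.Lib.LeadFib Groth.Agent.Lib.T2H3.SepFG
attribute [local instance] Algebra.TensorProduct.rightAlgebra

section Bridge

variable {R : Type*} [CommRing R] {M N : Type*} [AddCommGroup M] [Module R M] [AddCommGroup N]
  [Module R N]

/-- the kernel of the base change of a localization map. -/
theorem lTensor_eq_zero_iff (g : R) (u : M →ₗ[R] N) [IsLocalizedModule (Submonoid.powers g) u]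
    (P : Type*) [CommRing P] [Algebra R P] (z : P ⊗[R] M) :
    u.lTensor P z = 0 ↔ ∃ n : ℕ, g ^ n • z = 0 := by
  have h1 : IsLocalizedModule (Submonoid.powers g) (AlgebraTensorModule.rTensor R P u) :=
    IsLocalizedModule.rTensor (R := R) (A := R) (N := P) (Submonoid.powers g) u
  have key : ∀ y : P ⊗[R] M, AlgebraTensorModule.rTensor R P u (TensorProduct.comm R P M y) =
      TensorProduct.comm R P N (u.lTensor P y) := by
    intro y
    induction y using TensorProduct.induction_on with
    | zero => simp
    | add a b ha hb => simp only [map_add, ha, hb]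
    | tmul a b => simp
  rw [← (TensorProduct.comm R P N).map_eq_zero_iff, ← key,
    IsLocalizedModule.eq_zero_iff (Submonoid.powers g)]
  constructor
  · rintro ⟨⟨_, n, rfl⟩, hn⟩
    refine ⟨n, (TensorProduct.comm R P M).injective ?_⟩
    rw [map_smul, map_zero]
    exact hn
  · rintro ⟨n, hn⟩
    refine ⟨⟨g ^ n, n, rfl⟩, ?_⟩
    show g ^ n • (TensorProduct.comm R P M) z = 0
    rw [← map_smul, hn, map_zero]

/-- bridge between the two forms of the torsion condition. -/
theorem exists_pow_smul_lTensor_iff (g : R) (u : M →ₗ[R] N)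
    [IsLocalizedModule (Submonoid.powers g) u]
    (P : Type*) [CommRing P] [Algebra R P] (a : P) (z : P ⊗[R] M) :
    (∃ n : ℕ, a ^ n • u.lTensor P z = 0) ↔ ∃ n : ℕ, (a * algebraMap R P g) ^ n • z = 0 := by
  constructor
  · rintro ⟨n, hn⟩
    rw [← lTensor_smul (P := P) (L := P), lTensor_eq_zero_iff g] at hn
    obtain ⟨m, hm⟩ := hn
    refine ⟨n + m, ?_⟩
    have e : (a * algebraMap R P g) ^ (n + m) =
        (a ^ m * algebraMap R P g ^ n) * (algebraMap R P g ^ m * a ^ n) := by
      rw [mul_pow, pow_add, pow_add]; ring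
    have h2 : algebraMap R P g ^ m • (a ^ n • z) = g ^ m • (a ^ n • z) := by
      rw [← map_pow, algebraMap_smul]
    rw [e, mul_smul, mul_smul (algebraMap R P g ^ m), h2, hm, smul_zero]
  · rintro ⟨n, hn⟩
    refine ⟨n, ?_⟩
    rw [← lTensor_smul (P := P) (L := P), lTensor_eq_zero_iff g]
    refine ⟨n, ?_⟩
    rw [← algebraMap_smul P, map_pow, ← mul_smul, mul_comm, ← mul_pow]
    exact hn

end Bridge

section Self

/-- the main theorem of part 2 for `Q = R`. -/
theorem exists_pow_smul_eq_zero_of_fibres_self {R S : Type u} [CommRing R] [CommRing S]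
    [Algebra R S] [Algebra.FinitePresentation R S]
    (N : Type u) [AddCommGroup N] [Module S N] [Module R N] [IsScalarTower R S N]
    [Module.FinitePresentation S N] [Module.Flat R N] {ι : Type*} (g : ι → S)
    (hfib : ∀ (p : Ideal R) [p.IsPrime] (a : S) (y : fiberMod p S N),
      (∀ i, ∃ n : ℕ, (a * g i) ^ n • y = 0) → ∃ n : ℕ, a ^ n • y = 0)
    (s : S) (z : N) (hz : ∀ i, ∃ n : ℕ, (s * g i) ^ n • z = 0) : ∃ n : ℕ, s ^ n • z = 0 := by
  obtain ⟨n, hn⟩ := exists_pow_smul_eq_zero_of_fibres N g hfib R s (z ⊗ₜ[R] (1 : R)) (fun i => by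
    obtain ⟨n, hn⟩ := hz i
    exact ⟨n, by rw [TensorProduct.smul_tmul', hn, TensorProduct.zero_tmul]⟩)
  refine ⟨n, ?_⟩
  rw [TensorProduct.smul_tmul'] at hn
  have := congrArg (TensorProduct.rid R N) hn
  rw [TensorProduct.rid_tmul, one_smul, map_zero] at this
  exact this

end Self

section Main

variable {A R : Type u} [CommRing A] [CommRing R] [Algebra A R] [Algebra.FinitePresentation A R]
  {M : Type u} [AddCommGroup M] [Module R M] [Module A M] [IsScalarTower A R M]
  [Module.FinitePresentation R M] [Module.Flat A M]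

/-- the fibre condition of part 2 for the base change `P' ⊗[R] M` over `A'`, from `UFC`. -/
theorem fibre_condition_of_ufc {ι : Type*} (g : ι → R) {N : ι → Type u}
    [∀ i, AddCommGroup (N i)] [∀ i, Module R (N i)]
    (u : ∀ i, M →ₗ[R] N i) [∀ i, IsLocalizedModule (Submonoid.powers (g i)) (u i)]
    (hU : UFC A u) {A' : Type u} [CommRing A'] [Algebra A A']
    (P' : Type u) [CommRing P'] [Algebra A P'] [Algebra A' P'] [Algebra R P']
    [IsScalarTower A A' P'] [IsScalarTower A R P'] [Algebra.IsPushout A A' R P']
    (p : Ideal A') [p.IsPrime] (a : P') (y : p.Fiber P' ⊗[P'] (P' ⊗[R] M))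
    (hy : ∀ i, ∃ n : ℕ, (a * algebraMap R P' (g i)) ^ n • y = 0) : ∃ n : ℕ, a ^ n • y = 0 := by
  haveI towAA'K : IsScalarTower A A' p.ResidueField := .of_algebraMap_eq fun x => by
    show IsLocalRing.residue _ (algebraMap A (Localization.AtPrime p) x) =
      IsLocalRing.residue _ (algebraMap A' (Localization.AtPrime p) (algebraMap A A' x))
    rw [IsScalarTower.algebraMap_apply A A' (Localization.AtPrime p)]
  letI algRP₂ : Algebra R (p.Fiber P') :=
    ((algebraMap P' (p.Fiber P')).comp (algebraMap R P')).toAlgebra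
  haveI towRP'P₂ : IsScalarTower R P' (p.Fiber P') := .of_algebraMap_eq fun _ => rfl
  haveI towAP'P₂ : IsScalarTower A P' (p.Fiber P') := by
    have h : @IsScalarTower A P' (p.Fiber P') Algebra.toSMul Algebra.toSMul Algebra.toSMul := by
      refine .of_algebraMap_eq fun x => ?_
      show algebraMap A p.ResidueField x ⊗ₜ[A'] (1 : P') =
        (1 : p.ResidueField) ⊗ₜ[A'] algebraMap A P' x
      rw [IsScalarTower.algebraMap_apply A A' P', ← Algebra.TensorProduct.algebraMap_apply',
        Algebra.TensorProduct.algebraMap_apply, ← IsScalarTower.algebraMap_apply A A' p.ResidueField]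
    exact h
  haveI towARP₂ : IsScalarTower A R (p.Fiber P') := by
    have h : @IsScalarTower A R (p.Fiber P') Algebra.toSMul Algebra.toSMul Algebra.toSMul := by
      refine .of_algebraMap_eq fun x => ?_
      rw [IsScalarTower.algebraMap_apply R P' (p.Fiber P'),
        ← IsScalarTower.algebraMap_apply A R P',
        ← IsScalarTower.algebraMap_apply A P' (p.Fiber P')]
    exact h
  haveI hpo : Algebra.IsPushout A p.ResidueField R (p.Fiber P') :=
    (Algebra.IsPushout.comp_iff A A' R P').mpr inferInstance
  have hΦ : Phi u (p.Fiber P') (algebraMap P' (p.Fiber P') a) :=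
    hU p.ResidueField (p.Fiber P') _
  let e := AlgebraTensorModule.cancelBaseChange R P' (p.Fiber P') (p.Fiber P') M
  have hy' : ∀ i, ∃ n : ℕ, (algebraMap P' (p.Fiber P') a) ^ n •
      (u i).lTensor (p.Fiber P') (e y) = 0 := by
    intro i
    rw [exists_pow_smul_lTensor_iff (g i)]
    obtain ⟨n, hn⟩ := hy i
    refine ⟨n, ?_⟩
    have h1 : algebraMap P' (p.Fiber P') a * algebraMap R (p.Fiber P') (g i) =
        algebraMap P' (p.Fiber P') (a * algebraMap R P' (g i)) := by
      rw [map_mul, ← IsScalarTower.algebraMap_apply R P' (p.Fiber P')]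
    rw [h1, ← map_pow, ← map_smul, algebraMap_smul, hn, map_zero]
  obtain ⟨n, hn⟩ := hΦ (e y) hy'
  refine ⟨n, e.injective ?_⟩
  rw [map_zero, ← algebraMap_smul (p.Fiber P'), map_smul, map_pow]
  exact hn

/-- **EGA IV 11.10.10, ring level**: `R` finitely presented over `A`, `M` a finitely presented
`R`-module flat over `A`, `u i : M → M_{g i}` localization maps.  The universal fibre condition
implies `Phi u P' s` on every base change. -/
theorem phi_of_ufc_of_fp {ι : Type*} (g : ι → R) {N : ι → Type u}
    [∀ i, AddCommGroup (N i)] [∀ i, Module R (N i)]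
    (u : ∀ i, M →ₗ[R] N i) [∀ i, IsLocalizedModule (Submonoid.powers (g i)) (u i)]
    (hU : UFC A u) {A' : Type u} [CommRing A'] [Algebra A A']
    (P' : Type u) [CommRing P'] [Algebra A P'] [Algebra A' P'] [Algebra R P']
    [IsScalarTower A A' P'] [IsScalarTower A R P'] [Algebra.IsPushout A A' R P'] (s : P') :
    Phi u P' s := by
  intro z₀ hz₀
  haveI scc : SMulCommClass R A' P' := smulCommClass_of_algebra R A' P'
  haveI hfpalg : Algebra.FinitePresentation A' P' :=
    Algebra.FinitePresentation.equiv (Algebra.IsPushout.equiv A A' R P')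
  haveI hflat : Module.Flat A' (P' ⊗[R] M) :=
    Module.Flat.of_linearEquiv (Algebra.IsPushout.cancelBaseChange A A' R P' M)
  refine exists_pow_smul_eq_zero_of_fibres_self (R := A') (S := P') (P' ⊗[R] M)
    (fun i => algebraMap R P' (g i))
    (fun p _ a y hy => fibre_condition_of_ufc g u hU P' p a y hy) s z₀ (fun i => ?_)
  exact (exists_pow_smul_lTensor_iff (g i) (u i) P' s z₀).mp (hz₀ i)

end Main

end Groth.Agent.Lib.LeadUSD
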