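import Mathlib
import Groth.Agent.Lib.LeadUSD3
import Groth.Agent.Lib.T2H3SepFGSch

/-!
# Universally schematically dense opens, fibrewise (lead), part 4

Scheme-level dictionary: for a morphism `h : Y ⟶ X`, a quasi-coherent `O_X`-module `F` and an open
`U` of `X`, injectivity of the restriction maps `Γ(V', h^*F) → Γ(V' ∩ h⁻¹U, h^*F)` is equivalent to
the conditions `Phi` for the families of localization maps `Γ(V, F) → Γ(V, F)_r`, `D(r) ⊆ U`, over
pairs of affine opens.
-/

set_option autoImplicit false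
set_option maxHeartbeats 800000
set_option linter.style.haveILetI false
set_option linter.unusedSectionVars false
set_option linter.unusedVariables false

universe u
open CategoryTheory CategoryTheory.Limits AlgebraicGeometry TopologicalSpace Opposite TensorProduct
open Groth.Agent.Helper18Strict Groth.Agent.Lib.T2H3.PullSec Groth.Agent.Lib.T2H3.SepFG
  Groth.Agent.Lib.T2H3.SepFGSch

namespace Groth.Agent.Lib.LeadUSD

theorem res_res {Y : Scheme.{u}} (P : Y.Modules) {V₁ V₂ V₃ : Y.Opens} (h₁₂ : V₁ ≤ V₂)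
    (h₂₃ : V₂ ≤ V₃) (m : Γ(P, V₃)) :
    P.presheaf.map (homOfLE h₁₂).op (P.presheaf.map (homOfLE h₂₃).op m) =
      P.presheaf.map (homOfLE (h₁₂.trans h₂₃)).op m := by
  rw [← ConcreteCategory.comp_apply, ← Functor.map_comp]
  rfl

/-- the family of localization maps of `Γ(F, V)` at the elements `r` with `D(r) ⊆ U`. -/
noncomputable abbrev locFam {X : Scheme.{u}} (F : X.Modules) (U V : X.Opens)
    (r : {r : Γ(X, V) // X.basicOpen r ≤ U}) :
    Γ(F, V) →ₗ[Γ(X, V)] LocalizedModule (Submonoid.powers r.1) Γ(F, V) :=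
  LocalizedModule.mkLinearMap (Submonoid.powers r.1) Γ(F, V)

section Dict

variable {X Y : Scheme.{u}} (h : Y ⟶ X) (F : X.Modules) [F.IsQuasicoherent] (U : X.Opens)

/-- injectivity of the restriction maps gives `Phi`. -/
theorem phi_of_restrict_injective
    (H : ∀ V' : Y.Opens, Function.Injective (((Scheme.Modules.pullback h).obj F).presheaf.map
      (homOfLE (inf_le_left : V' ⊓ h ⁻¹ᵁ U ≤ V')).op))
    {V : X.Opens} (hV : IsAffineOpen V) {W : Y.Opens} (hW : IsAffineOpen W) (e : W ≤ h ⁻¹ᵁ V)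
    (a : Γ(Y, W)) :
    letI := (h.appLE V W e).hom.toAlgebra
    Phi (locFam F U V) Γ(Y, W) a := by
  letI alg := (h.appLE V W e).hom.toAlgebra
  haveI : ((Scheme.Modules.pullback h).obj F).IsQuasicoherent :=
    Groth.Agent.Lib.Helper2.PullbackSec.isQuasicoherent_pullback h F
  intro z hz
  have hclaim : ((Scheme.Modules.pullback h).obj F).presheaf.map (homOfLE (Y.basicOpen_le a)).op
      (secEquiv h hV hW e F z) = 0 := by
    apply H (Y.basicOpen a)
    rw [map_zero]
    refine TopCat.Sheaf.eq_of_locally_eq' ⟨((Scheme.Modules.pullback h).obj F).presheaf,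
      ((Scheme.Modules.pullback h).obj F).isSheaf⟩
      (fun r : {r : Γ(X, V) // X.basicOpen r ≤ U} =>
        Y.basicOpen (a * algebraMap Γ(X, V) Γ(Y, W) r.1))
      (Y.basicOpen a ⊓ h ⁻¹ᵁ U) (fun r => homOfLE ?_) ?_ _ 0 (fun r => ?_)
    · rw [Scheme.basicOpen_mul]
      refine le_inf inf_le_left (inf_le_right.trans ?_)
      show Y.basicOpen ((h.appLE V W e) r.1) ≤ h ⁻¹ᵁ U
      rw [Scheme.basicOpen_appLE]
      exact inf_le_right.trans (fun x hx => r.2 hx)
    · rintro x ⟨hxa, hxU⟩
      have hxW : x ∈ W := Y.basicOpen_le a hxa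
      obtain ⟨r, hrU, hxr⟩ := hV.exists_basicOpen_le (V := U) ⟨h x, hxU⟩ (e hxW)
      refine Opens.mem_iSup.mpr ⟨⟨r, hrU⟩, ?_⟩
      rw [Scheme.basicOpen_mul]
      refine ⟨hxa, ?_⟩
      show x ∈ Y.basicOpen ((h.appLE V W e) r)
      rw [Scheme.basicOpen_appLE]
      exact ⟨hxW, hxr⟩
    · rw [map_zero]
      show ((Scheme.Modules.pullback h).obj F).presheaf.map (homOfLE _).op
        (((Scheme.Modules.pullback h).obj F).presheaf.map (homOfLE _).op
          (((Scheme.Modules.pullback h).obj F).presheaf.map (homOfLE _).op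
            (secEquiv h hV hW e F z))) = 0
      rw [res_res, res_res]
      obtain ⟨n, hn⟩ := (exists_pow_smul_lTensor_iff r.1 (locFam F U V r) Γ(Y, W) a z).mp (hz r)
      have h2 : (a * algebraMap Γ(X, V) Γ(Y, W) r.1) ^ n • secEquiv h hV hW e F z = 0 := by
        rw [← map_smul, hn, map_zero]
      exact (map_basicOpen_eq_zero_iff ((Scheme.Modules.pullback h).obj F) hW _ _).mpr ⟨n, h2⟩
  obtain ⟨n, hn⟩ := (map_basicOpen_eq_zero_iff ((Scheme.Modules.pullback h).obj F) hW a _).mp hclaim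
  exact ⟨n, (secEquiv h hV hW e F).injective (by rw [map_smul, map_zero]; exact hn)⟩

/-- `Phi` on enough pairs of affine opens gives injectivity of the restriction maps. -/
theorem restrict_injective_of_phi
    (H : ∀ y : Y, ∃ (V : X.Opens) (W : Y.Opens) (_ : IsAffineOpen V) (_ : IsAffineOpen W)
      (e : W ≤ h ⁻¹ᵁ V), y ∈ W ∧ ∀ a : Γ(Y, W),
        letI := (h.appLE V W e).hom.toAlgebra
        Phi (locFam F U V) Γ(Y, W) a)
    (V' : Y.Opens) :
    Function.Injective (((Scheme.Modules.pullback h).obj F).presheaf.map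
      (homOfLE (inf_le_left : V' ⊓ h ⁻¹ᵁ U ≤ V')).op) := by
  haveI : ((Scheme.Modules.pullback h).obj F).IsQuasicoherent :=
    Groth.Agent.Lib.Helper2.PullbackSec.isQuasicoherent_pullback h F
  rw [injective_iff_map_eq_zero]
  intro t ht
  have key : ∀ y : V', ∃ (O : Y.Opens) (hO : O ≤ V'), y.1 ∈ O ∧
      ((Scheme.Modules.pullback h).obj F).presheaf.map (homOfLE hO).op t = 0 := by
    rintro ⟨y, hy⟩
    obtain ⟨V, W, hV, hW, e, hyW, hΦ⟩ := H y
    obtain ⟨a, haV', hya⟩ := hW.exists_basicOpen_le (V := V') ⟨y, hy⟩ hyW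
    refine ⟨Y.basicOpen a, haV', hya, ?_⟩
    have hO : IsAffineOpen (Y.basicOpen a) := hW.basicOpen a
    have eO : Y.basicOpen a ≤ h ⁻¹ᵁ V := (Y.basicOpen_le a).trans e
    letI algW := (h.appLE V W e).hom.toAlgebra
    letI algO := (h.appLE V (Y.basicOpen a) eO).hom.toAlgebra
    haveI := isScalarTower_basicOpen h e a
    haveI : IsLocalization.Away a Γ(Y, Y.basicOpen a) := hW.isLocalization_basicOpen a
    set tO := ((Scheme.Modules.pullback h).obj F).presheaf.map (homOfLE haV').op t with htO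
    have hz : (secEquiv h hV hO eO F).symm tO = 0 := by
      refine injective_of_phi (L := Γ(Y, Y.basicOpen a)) (locFam F U V) a (hΦ a) _ (fun r => ?_)
      rw [lTensor_eq_zero_iff r.1]
      -- the basic open of `b = h^♯ r` in `D(a)`
      have hb : Y.basicOpen (algebraMap Γ(X, V) Γ(Y, Y.basicOpen a) r.1) ≤ V' ⊓ h ⁻¹ᵁ U := by
        show Y.basicOpen ((h.appLE V (Y.basicOpen a) eO) r.1) ≤ V' ⊓ h ⁻¹ᵁ U
        rw [Scheme.basicOpen_appLE]
        exact le_inf (inf_le_left.trans haV') (inf_le_right.trans (fun x hx => r.2 hx))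
      have h0 : ((Scheme.Modules.pullback h).obj F).presheaf.map
          (homOfLE (Y.basicOpen_le (algebraMap Γ(X, V) Γ(Y, Y.basicOpen a) r.1))).op tO = 0 := by
        rw [htO, res_res]
        have h1 := congrArg (((Scheme.Modules.pullback h).obj F).presheaf.map (homOfLE hb).op) ht
        rw [res_res, map_zero] at h1
        exact h1
      obtain ⟨n, hn⟩ := (map_basicOpen_eq_zero_iff ((Scheme.Modules.pullback h).obj F) hO _ _).mp h0
      refine ⟨n, (secEquiv h hV hO eO F).injective ?_⟩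
      rw [map_zero, ← algebraMap_smul Γ(Y, Y.basicOpen a), map_smul, LinearEquiv.apply_symm_apply,
        map_pow]
      exact hn
    have := congrArg (secEquiv h hV hO eO F) hz
    rw [LinearEquiv.apply_symm_apply, map_zero] at this
    exact this
  choose O hO hyO hOt using key
  refine TopCat.Sheaf.eq_of_locally_eq' ⟨((Scheme.Modules.pullback h).obj F).presheaf,
    ((Scheme.Modules.pullback h).obj F).isSheaf⟩ O V' (fun y => homOfLE (hO y)) ?_ t 0 (fun y => ?_)
  · intro y hy
    exact Opens.mem_iSup.mpr ⟨⟨y, hy⟩, hyO ⟨y, hy⟩⟩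
  · rw [map_zero]
    exact hOt y

end Dict

end Groth.Agent.Lib.LeadUSD
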