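import Mathlib
import Groth.Agent.Lib.LeadUSD4
import Groth.Agent.Lib.LeadFib7
import Groth.Agent.Lib.Helper2FlatOver2
import Groth.Agent.Lib.Helper2FPAff

/-!
# Universally schematically dense opens, fibrewise (lead), part 5

**EGA IV 11.10.10 (module version)**: `p : X ⟶ S` locally of finite presentation, `F` a
quasi-coherent finitely presented `O_X`-module flat over `S`, `U` an open of `X`.  If on every fibre
`X_s` the restriction maps `Γ(V, F_s) → Γ(V ∩ U_s, F_s)` are injective, then the same holds after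
every base change `S' ⟶ S`.
-/

set_option autoImplicit false
set_option maxHeartbeats 800000
set_option linter.style.haveILetI false
set_option linter.unusedSectionVars false
set_option linter.unusedVariables false

universe u
open CategoryTheory CategoryTheory.Limits AlgebraicGeometry TopologicalSpace Opposite TensorProduct
open Groth.Agent.Helper18Strict Groth.Agent.Lib.T2H3.PullSec Groth.Agent.Lib.T2H3.SepFG
  Groth.Agent.Lib.T2H3.SepFGSch Groth.Agent.Lib.LeadFib

namespace Groth.Agent.Lib.LeadUSD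

/-- **EGA IV 11.10.10 (module version)**, the nontrivial direction. -/
theorem restrict_injective_of_fibres {X S : Scheme.{u}} (p : X ⟶ S)
    [LocallyOfFinitePresentation p]
    (F : X.Modules) [F.IsQuasicoherent]
    [SheafOfModules.IsFinitePresentation (R := X.ringCatSheaf) F]
    (hflat : FlatMod.IsFlatOver p F) (U : X.Opens)
    (hfib : ∀ (s : S) (V : (pullback p (S.fromSpecResidueField s)).Opens),
      Function.Injective
        (((Scheme.Modules.pullback (pullback.fst p (S.fromSpecResidueField s))).obj F).presheaf.map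
          (homOfLE (inf_le_left :
            V ⊓ (pullback.fst p (S.fromSpecResidueField s)) ⁻¹ᵁ U ≤ V)).op))
    {S' : Scheme.{u}} (g : S' ⟶ S) (V' : (pullback p g).Opens) :
    Function.Injective (((Scheme.Modules.pullback (pullback.fst p g)).obj F).presheaf.map
      (homOfLE (inf_le_left : V' ⊓ (pullback.fst p g) ⁻¹ᵁ U ≤ V')).op) := by
  refine restrict_injective_of_phi (pullback.fst p g) F U (fun x => ?_) V'
  obtain ⟨T, hT, hxT, -⟩ := exists_isAffineOpen_mem_and_subset
    (x := p ((pullback.fst p g) x)) (U := ⊤) trivial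
  have hxT₂ : g ((pullback.snd p g) x) ∈ T := by
    have h1 : (pullback.fst p g ≫ p) x = (pullback.snd p g ≫ g) x := by
      rw [pullback.condition]
    exact h1 ▸ hxT
  obtain ⟨T', hT', hxT', eT⟩ := exists_isAffineOpen_mem_and_subset
    (x := (pullback.snd p g) x) (U := g ⁻¹ᵁ T) hxT₂
  obtain ⟨V, hV, hxV, eV⟩ := exists_isAffineOpen_mem_and_subset
    (x := (pullback.fst p g) x) (U := p ⁻¹ᵁ T) hxT
  have hc := IsPullback.of_hasPullback p g
  have hW : IsAffineOpen ((pullback.fst p g) ⁻¹ᵁ V ⊓ (pullback.snd p g) ⁻¹ᵁ T') :=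
    Groth.Agent.Lib.Helper2.PullbackSec.isAffineOpen_inf_preimage hc eT eV hT hT' hV
  refine ⟨V, (pullback.fst p g) ⁻¹ᵁ V ⊓ (pullback.snd p g) ⁻¹ᵁ T', hV, hW, inf_le_left,
    ⟨hxV, hxT'⟩, fun s => ?_⟩
  obtain ⟨t1, t2, hpo⟩ := sections_pushout p g hT hT' hV eT eV
  letI aAB : Algebra Γ(S, T) Γ(X, V) := (p.appLE T V eV).hom.toAlgebra
  letI aAA' : Algebra Γ(S, T) Γ(S', T') := (g.appLE T T' eT).hom.toAlgebra
  letI aBB' : Algebra Γ(X, V)
      Γ(pullback p g, (pullback.fst p g) ⁻¹ᵁ V ⊓ (pullback.snd p g) ⁻¹ᵁ T') :=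
    ((pullback.fst p g).appLE V _ inf_le_left).hom.toAlgebra
  letI aA'B' : Algebra Γ(S', T')
      Γ(pullback p g, (pullback.fst p g) ⁻¹ᵁ V ⊓ (pullback.snd p g) ⁻¹ᵁ T') :=
    ((pullback.snd p g).appLE T' _ inf_le_right).hom.toAlgebra
  letI aAB' : Algebra Γ(S, T)
      Γ(pullback p g, (pullback.fst p g) ⁻¹ᵁ V ⊓ (pullback.snd p g) ⁻¹ᵁ T') :=
    (((pullback.fst p g).appLE V _ inf_le_left).hom.comp (p.appLE T V eV).hom).toAlgebra
  haveI := t1
  haveI := t2
  haveI := hpo
  letI modF : Module Γ(S, T) Γ(F, V) :=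
    Module.compHom Γ(F, V) (algebraMap Γ(S, T) Γ(X, V))
  haveI tF : IsScalarTower Γ(S, T) Γ(X, V) Γ(F, V) := by
    refine ⟨fun a b y => ?_⟩
    change (algebraMap Γ(S, T) Γ(X, V) a * b) • y = algebraMap Γ(S, T) Γ(X, V) a • (b • y)
    rw [mul_smul]
  haveI flF : Module.Flat Γ(S, T) Γ(F, V) :=
    Groth.Agent.Lib.Helper2.FlatOver.flat_sections_of_isFlatOverAt p F hV hT eV
      (fun x _ => hflat x)
  haveI fpA : Algebra.FinitePresentation Γ(S, T) Γ(X, V) := p.finitePresentation_appLE hT hV eV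
  haveI fpM : Module.FinitePresentation Γ(X, V) Γ(F, V) :=
    Groth.Agent.Lib.Helper2.FPAff.finitePresentation_sections F hV
  have hU : UFC Γ(S, T) (locFam F U V) := by
    refine ufc_sections p hT hV eV (locFam F U V) (fun s hs a => ?_)
    have eT' : (⊤ : (Spec (S.residueField s)).Opens) ≤ (S.fromSpecResidueField s) ⁻¹ᵁ T := by
      intro y _
      show (S.fromSpecResidueField s) y ∈ T
      rw [Scheme.fromSpecResidueField_apply]
      exact hs
    have hWs : IsAffineOpen (fibreOpen p s V) :=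
      Groth.Agent.Lib.Helper2.PullbackSec.isAffineOpen_inf_preimage
        (IsPullback.of_hasPullback p (S.fromSpecResidueField s)) eT' eV hT
        (isAffineOpen_top (Spec (S.residueField s))) hV
    exact phi_of_restrict_injective (pullback.fst p (S.fromSpecResidueField s)) F U (hfib s) hV
      hWs inf_le_left a
  exact phi_of_ufc_of_fp (A := Γ(S, T)) (fun r : {r : Γ(X, V) // X.basicOpen r ≤ U} => r.1)
    (locFam F U V) hU (A' := Γ(S', T'))
    Γ(pullback p g, (pullback.fst p g) ⁻¹ᵁ V ⊓ (pullback.snd p g) ⁻¹ᵁ T') s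

end Groth.Agent.Lib.LeadUSD
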