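import Groth.Agent.Lib.Helper20RegMero
import Groth.Prelude.Def_FlatMod2

/-!
# T2H9InvFlat (helper9): an invertible module on a scheme flat over `S` is flat over `S`
-/

set_option autoImplicit false
set_option linter.style.haveILetI false
universe u
open CategoryTheory AlgebraicGeometry Limits TopologicalSpace Opposite

namespace Groth.Agent.Lib.T2H9.InvFlat

/-- an invertible module on a scheme flat over `S` is flat over `S`. -/
theorem isFlatOver_of_isInvertible {X S : Scheme.{u}} (f : X ⟶ S) [Flat f] (N : X.Modules)
    (hN : PicF.IsInvertible N) : FlatMod.IsFlatOver f N := by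
  intro x
  obtain ⟨g, hg⟩ := Groth.Agent.Lib.Helper20.RegMero.exists_isGen N hN x
  unfold FlatMod.IsFlatOverAt
  letI := FlatMod.moduleStalkOver f N x
  letI : Algebra (S.presheaf.stalk (f.base x)) (X.presheaf.stalk x) := (f.stalkMap x).hom.toAlgebra
  haveI : Module.Flat (S.presheaf.stalk (f.base x)) (X.presheaf.stalk x) := Flat.stalkMap f x
  let e : X.presheaf.stalk x ≃ₗ[S.presheaf.stalk (f.base x)] N.presheaf.stalk x :=
    { Equiv.ofBijective (fun c : X.presheaf.stalk x => c • g) hg with
      map_add' := fun a b => add_smul a b g
      map_smul' := fun r a => by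
        change ((f.stalkMap x).hom r * a) • g = (f.stalkMap x).hom r • (a • g)
        rw [mul_smul] }
  exact Module.Flat.of_linearEquiv e.symm

end Groth.Agent.Lib.T2H9.InvFlat
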