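import Mathlib
import Groth.Agent.Lib.LeadUSD5
import Groth.Agent.Lib.T2H9InvFlat
import Groth.Agent.Lib.Helper23TensorUnit
import Groth.Agent.Lib.Helper23PB
import Groth.Agent.Lib.Helper20OmegaAff
import Groth.Agent.Lib.Helper18FinFlat1
import Groth.Agent.Lib.Helper23GenLocus

/-!
# Universally schematically dense opens, fibrewise (lead), part 6

**EGA IV 11.10.10**: `f : X ⟶ S` flat and locally of finite presentation, `U` an open of `X`.  If
`U_s` is schematically dense in `X_s` for every `s`, then the preimage of `U` in `X ×_S S'` is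
schematically dense for every `S' ⟶ S` (the case `F = O_X` of part 5).
-/

set_option autoImplicit false
set_option maxHeartbeats 800000
set_option linter.style.haveILetI false
set_option linter.unusedSectionVars false
set_option linter.unusedVariables false

universe u
open CategoryTheory CategoryTheory.Limits AlgebraicGeometry TopologicalSpace Opposite

namespace Groth.Agent.Lib.LeadUSD

/-- transfer of injectivity of a restriction map along an isomorphism of modules. -/
theorem restrict_injective_of_iso {Y : Scheme.{u}} {P Q : Y.Modules} (ε : P ≅ Q)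
    {V₁ V₂ : Y.Opens} (i : V₁ ⟶ V₂) (h : Function.Injective (Q.presheaf.map i.op)) :
    Function.Injective (P.presheaf.map i.op) := by
  intro x y hxy
  have h1 : Q.presheaf.map i.op (ε.hom.app V₂ x) = Q.presheaf.map i.op (ε.hom.app V₂ y) := by
    rw [← Groth.Agent.Lib.Helper23.Extend.app_map, ← Groth.Agent.Lib.Helper23.Extend.app_map, hxy]
  have h2 := h h1
  have h3 : ∀ w : Γ(P, V₂), ε.inv.app V₂ (ε.hom.app V₂ w) = w := by
    intro w
    rw [← ConcreteCategory.comp_apply, ← Scheme.Modules.Hom.comp_app, ε.hom_inv_id,
      Scheme.Modules.Hom.id_app]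
    rfl
  rw [← h3 x, ← h3 y, h2]

/-- **EGA IV 11.10.10**, the nontrivial direction. -/
theorem schDense_of_fibres {X S : Scheme.{u}} (f : X ⟶ S) [Flat f]
    [LocallyOfFinitePresentation f] (U : X.Opens)
    (hfib : ∀ s : S,
      CInt.IsSchematicallyDense ((pullback.fst f (S.fromSpecResidueField s)) ⁻¹ᵁ U))
    {S' : Scheme.{u}} (g : S' ⟶ S) :
    CInt.IsSchematicallyDense ((pullback.fst f g) ⁻¹ᵁ U) := by
  haveI : SheafOfModules.IsFinitePresentation (R := X.ringCatSheaf) (Coh.structureModule X) :=
    Groth.Agent.Helper18FinFlat.isFinitePresentation_structureModule X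
  have hflat : FlatMod.IsFlatOver f (Coh.structureModule X) :=
    Groth.Agent.Lib.T2H9.InvFlat.isFlatOver_of_isInvertible f _
      (Groth.Agent.Lib.Helper23.TensorUnit.isInvertible_structureModule X)
  intro V'
  have key := restrict_injective_of_fibres f (Coh.structureModule X) hflat U (fun s V => ?_) g V'
  · have h2 := restrict_injective_of_iso
      (Groth.Agent.Lib.Helper23.PB.pullbackUnitIso (pullback.fst f g)).symm
      (homOfLE (inf_le_left : V' ⊓ (pullback.fst f g) ⁻¹ᵁ U ≤ V')) key
    exact h2
  · refine restrict_injective_of_iso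
      (Groth.Agent.Lib.Helper23.PB.pullbackUnitIso (pullback.fst f (S.fromSpecResidueField s)))
      (homOfLE (inf_le_left : V ⊓ (pullback.fst f (S.fromSpecResidueField s)) ⁻¹ᵁ U ≤ V)) ?_
    exact hfib s V

end Groth.Agent.Lib.LeadUSD
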