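import Mathlib

/-!
# Stabilisation of degree-filtered families of submodules of `k[x]^r` (helper7)

For a Noetherian ring `R` and an increasing family `G d` of `R`-submodules of `R[x]^ι`
(finitely many variables, finite `ι`) with `x_i G d ⊆ G (d+1)` and `G d` of degree `≤ d`,
one has `G (d+1) = G d + ∑ x_i G d` for large `d` (Noetherianity of the Rees module).
-/

set_option autoImplicit false
set_option linter.unusedSectionVars false
open MvPolynomial

namespace Groth.Agent.Lib.T2H7.ReesStab

variable {R : Type*} [CommRing R] {σ ι : Type*}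

/-- Multiplication by the variable `X i` on tuples of polynomials, as an `R`-linear map. -/
noncomputable def mulX (i : σ) : (ι → MvPolynomial σ R) →ₗ[R] (ι → MvPolynomial σ R) :=
  (LinearMap.lsmul (MvPolynomial σ R) (ι → MvPolynomial σ R) (X i)).restrictScalars R

@[simp] theorem mulX_apply (i : σ) (g : ι → MvPolynomial σ R) (j : ι) :
    mulX i g j = X i * g j := rfl

section W

variable (G : ℕ → Submodule R (ι → MvPolynomial σ R))

/-- The family generated from level `D` on. -/
noncomputable def W (D : ℕ) : ℕ → Submodule R (ι → MvPolynomial σ R)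
  | 0 => G 0
  | (d + 1) => if d + 1 ≤ D then G (d + 1) else W D d ⊔ ⨆ i : σ, (W D d).map (mulX i)

theorem W_zero (D : ℕ) : W G D 0 = G 0 := rfl

theorem W_succ_of_le {D d : ℕ} (h : d + 1 ≤ D) : W G D (d + 1) = G (d + 1) := by
  rw [W, if_pos h]

theorem W_succ_of_lt {D d : ℕ} (h : D < d + 1) :
    W G D (d + 1) = W G D d ⊔ ⨆ i : σ, (W G D d).map (mulX i) := by
  rw [W, if_neg (not_le.mpr h)]

theorem W_eq_of_le {D d : ℕ} (h : d ≤ D) : W G D d = G d := by
  cases d with
  | zero => rfl
  | succ d => exact W_succ_of_le G h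

variable (hmono : ∀ d, G d ≤ G (d + 1)) (hX : ∀ d (i : σ), (G d).map (mulX i) ≤ G (d + 1))
include hmono hX

theorem W_le (D d : ℕ) : W G D d ≤ G d := by
  induction d with
  | zero => exact le_of_eq rfl
  | succ d ih =>
    by_cases h : d + 1 ≤ D
    · rw [W_succ_of_le G h]
    · rw [W_succ_of_lt G (not_le.mp h)]
      refine sup_le (ih.trans (hmono d)) (iSup_le fun i => ?_)
      exact (Submodule.map_mono ih).trans (hX d i)

theorem W_le_succ (D d : ℕ) : W G D d ≤ W G D (d + 1) := by
  by_cases h : d + 1 ≤ D
  · rw [W_succ_of_le G h, W_eq_of_le G (Nat.le_of_succ_le h)]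
    exact hmono d
  · rw [W_succ_of_lt G (not_le.mp h)]
    exact le_sup_left

theorem map_mulX_W_le (D d : ℕ) (i : σ) : (W G D d).map (mulX i) ≤ W G D (d + 1) := by
  by_cases h : d + 1 ≤ D
  · rw [W_succ_of_le G h, W_eq_of_le G (Nat.le_of_succ_le h)]
    exact hX d i
  · rw [W_succ_of_lt G (not_le.mp h)]
    exact le_sup_of_le_right (le_iSup (fun i : σ => (W G D d).map (mulX i)) i)

theorem W_mono_D (D d : ℕ) : W G D d ≤ W G (D + 1) d := by
  induction d with
  | zero => exact le_of_eq rfl
  | succ d ih =>
    by_cases h : d + 1 ≤ D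
    · rw [W_succ_of_le G h, W_succ_of_le G (Nat.le_succ_of_le h)]
    · by_cases h' : d + 1 ≤ D + 1
      · have hd : d = D := by omega
        subst hd
        rw [W_succ_of_lt G (not_le.mp h), W_succ_of_le G h', W_eq_of_le G le_rfl]
        exact sup_le (hmono d) (iSup_le fun i => hX d i)
      · rw [W_succ_of_lt G (not_le.mp h), W_succ_of_lt G (not_le.mp h')]
        exact sup_le_sup ih (iSup_mono fun i => Submodule.map_mono ih)

end W

section Phi

variable (R σ)

/-- The Rees map `R[y₀, y] → R[x][t]`, `y₀ ↦ t`, `y_i ↦ x_i t`. -/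
noncomputable def phi : MvPolynomial (Option σ) R →ₐ[R] Polynomial (MvPolynomial σ R) :=
  MvPolynomial.aeval (fun o => Option.elim o Polynomial.X
    (fun i => Polynomial.C (X i) * Polynomial.X))

variable {R σ}

theorem phi_X_none : phi R σ (X none) = Polynomial.X := by
  simp [phi]

theorem phi_X_some (i : σ) : phi R σ (X (some i)) = Polynomial.C (X i) * Polynomial.X := by
  simp [phi]

theorem phi_C (r : R) : phi R σ (C r) = Polynomial.C (C r) := by
  simp [phi, Polynomial.algebraMap_apply, MvPolynomial.algebraMap_eq]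

/-- Every polynomial of degree `≤ e` is the coefficient of `t^e` of an element of the Rees ring. -/
theorem exists_phi_eq_monomial (e : ℕ) (p : MvPolynomial σ R) (hp : p.totalDegree ≤ e) :
    ∃ q : MvPolynomial (Option σ) R, phi R σ q = Polynomial.monomial e p := by
  classical
  have key : ∀ α ∈ p.support, ∃ q : MvPolynomial (Option σ) R,
      phi R σ q = Polynomial.monomial e (monomial α (coeff α p)) := by
    intro α hα
    have hdeg : (α.sum fun _ n => n) ≤ e := (le_totalDegree hα).trans hp
    refine ⟨C (coeff α p) * (α.prod fun i n => X (some i) ^ n) *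
      X none ^ (e - α.sum fun _ n => n), ?_⟩
    rw [map_mul, map_mul, phi_C, map_pow, phi_X_none, map_finsuppProd]
    have h1 : (α.prod fun i n => phi R σ (X (some i) ^ n)) =
        Polynomial.C (α.prod fun i n => (X i : MvPolynomial σ R) ^ n) *
          Polynomial.X ^ (α.sum fun _ n => n) := by
      simp only [map_pow, phi_X_some, mul_pow, Finsupp.prod_mul]
      congr 1
      · simp only [Finsupp.prod, map_prod, map_pow]
      · simp only [Finsupp.prod, Finsupp.sum, Finset.prod_pow_eq_pow_sum]
    rw [h1, ← Polynomial.C_mul_X_pow_eq_monomial, MvPolynomial.monomial_eq]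
    have h2 : Polynomial.X ^ (α.sum fun _ n => n) * Polynomial.X ^ (e - α.sum fun _ n => n) =
        (Polynomial.X : Polynomial (MvPolynomial σ R)) ^ e := by
      rw [← pow_add, Nat.add_sub_cancel' hdeg]
    rw [map_mul, ← h2]
    ring
  choose! q hq using key
  refine ⟨∑ α ∈ p.support, q α, ?_⟩
  rw [map_sum, Finset.sum_congr rfl hq, ← map_sum]
  congr 1
  exact support_sum_monomial_coeff p

end Phi

section T

variable (G : ℕ → Submodule R (ι → MvPolynomial σ R))

/-- The coefficient vector of `t^d`. -/
noncomputable def cv (a : ι → MvPolynomial (Option σ) R) (d : ℕ) : ι → MvPolynomial σ R :=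
  fun j => (phi R σ (a j)).coeff d

theorem cv_add (a b : ι → MvPolynomial (Option σ) R) (d : ℕ) :
    cv (a + b) d = cv a d + cv b d := by
  funext j
  simp [cv]

theorem cv_zero (d : ℕ) : cv (0 : ι → MvPolynomial (Option σ) R) d = 0 := by
  funext j
  simp [cv]

theorem cv_C_smul (r : R) (a : ι → MvPolynomial (Option σ) R) (d : ℕ) :
    cv ((C r : MvPolynomial (Option σ) R) • a) d = r • cv a d := by
  funext j
  simp only [cv, Pi.smul_apply, smul_eq_mul, map_mul, phi_C, Polynomial.coeff_C_mul]
  rw [MvPolynomial.C_mul']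

theorem cv_X_none_zero (a : ι → MvPolynomial (Option σ) R) :
    cv ((X none : MvPolynomial (Option σ) R) • a) 0 = 0 := by
  funext j
  simp [cv, phi_X_none]

theorem cv_X_none_succ (a : ι → MvPolynomial (Option σ) R) (d : ℕ) :
    cv ((X none : MvPolynomial (Option σ) R) • a) (d + 1) = cv a d := by
  funext j
  simp [cv, phi_X_none]

theorem cv_X_some_zero (i : σ) (a : ι → MvPolynomial (Option σ) R) :
    cv ((X (some i) : MvPolynomial (Option σ) R) • a) 0 = 0 := by
  funext j
  simp [cv, phi_X_some, mul_assoc]

theorem cv_X_some_succ (i : σ) (a : ι → MvPolynomial (Option σ) R) (d : ℕ) :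
    cv ((X (some i) : MvPolynomial (Option σ) R) • a) (d + 1) = mulX i (cv a d) := by
  funext j
  simp [cv, phi_X_some, mul_assoc]

variable (hmono : ∀ d, G d ≤ G (d + 1)) (hX : ∀ d (i : σ), (G d).map (mulX i) ≤ G (d + 1))
include hmono hX

theorem smul_mem_Tset (D : ℕ) (c : MvPolynomial (Option σ) R) :
    ∀ a : ι → MvPolynomial (Option σ) R, (∀ d, cv a d ∈ W G D d) →
      ∀ d, cv (c • a) d ∈ W G D d := by
  induction c using MvPolynomial.induction_on with
  | C r =>
    intro a ha d
    rw [cv_C_smul]
    exact Submodule.smul_mem _ _ (ha d)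
  | add p q hp hq =>
    intro a ha d
    rw [add_smul, cv_add]
    exact Submodule.add_mem _ (hp a ha d) (hq a ha d)
  | mul_X p o hp =>
    intro a ha
    rw [mul_smul]
    apply hp
    intro d
    cases o with
    | none =>
      cases d with
      | zero => rw [cv_X_none_zero]; exact Submodule.zero_mem _
      | succ d =>
        rw [cv_X_none_succ]
        exact W_le_succ G hmono hX D d (ha d)
    | some i =>
      cases d with
      | zero => rw [cv_X_some_zero]; exact Submodule.zero_mem _
      | succ d =>
        rw [cv_X_some_succ]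
        exact map_mulX_W_le G hmono hX D d i (Submodule.mem_map_of_mem (ha d))

/-- The submodule of the free module over the Rees polynomial ring cut out by `W G D`. -/
noncomputable def T (D : ℕ) :
    Submodule (MvPolynomial (Option σ) R) (ι → MvPolynomial (Option σ) R) where
  carrier := {a | ∀ d, cv a d ∈ W G D d}
  add_mem' := by
    intro a b ha hb d
    rw [cv_add]
    exact Submodule.add_mem _ (ha d) (hb d)
  zero_mem' := by
    intro d
    rw [cv_zero]
    exact Submodule.zero_mem _
  smul_mem' := fun c a ha => smul_mem_Tset G hmono hX D c a ha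

theorem mem_T (D : ℕ) (a : ι → MvPolynomial (Option σ) R) :
    a ∈ T G hmono hX D ↔ ∀ d, cv a d ∈ W G D d := Iff.rfl

theorem T_mono : Monotone (T G hmono hX) := by
  refine monotone_nat_of_le_succ fun D a ha d => ?_
  exact W_mono_D G hmono hX D d (ha d)

/-- **Stabilisation.** -/
theorem exists_stabilization [IsNoetherianRing R] [Finite σ] [Finite ι]
    (hdeg : ∀ d g, g ∈ G d → ∀ j, (g j).totalDegree ≤ d) :
    ∃ D, ∀ d, D ≤ d → G (d + 1) ≤ G d ⊔ ⨆ i : σ, (G d).map (mulX i) := by
  have hN : IsNoetherian (MvPolynomial (Option σ) R) (ι → MvPolynomial (Option σ) R) :=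
    inferInstance
  obtain ⟨D, hD⟩ := (monotone_stabilizes_iff_noetherian.mpr hN)
    ⟨T G hmono hX, T_mono G hmono hX⟩
  refine ⟨D, fun d hd g hg => ?_⟩
  have hex : ∀ j, ∃ q : MvPolynomial (Option σ) R,
      phi R σ q = Polynomial.monomial (d + 1) (g j) := fun j =>
    exists_phi_eq_monomial (d + 1) (g j) (hdeg (d + 1) g hg j)
  choose a ha using hex
  have hcv : ∀ e, cv a e = if d + 1 = e then g else 0 := by
    intro e
    funext j
    simp only [cv, ha, Polynomial.coeff_monomial]
    split_ifs <;> rfl
  have haT : a ∈ T G hmono hX (d + 1) := by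
    intro e
    rw [hcv]
    split_ifs with h
    · subst h
      rw [W_eq_of_le G le_rfl]
      exact hg
    · exact Submodule.zero_mem _
  have h1 := hD (d + 1) (Nat.le_succ_of_le hd)
  change T G hmono hX D = T G hmono hX (d + 1) at h1
  rw [← h1] at haT
  have h2 := haT (d + 1)
  rw [hcv, if_pos rfl, W_succ_of_lt G (Nat.lt_succ_of_le hd)] at h2
  refine (sup_le_sup (W_le G hmono hX D d) (iSup_mono fun i => ?_)) h2
  exact Submodule.map_mono (W_le G hmono hX D d)

end T

end Groth.Agent.Lib.T2H7.ReesStab
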