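import Mathlib
import Groth.Agent.Lib.T2H7ReesStab

/-!
# Saturated submodules of `V[x]^r` over a valuation ring are finitely generated (helper7)

`V` a valuation ring, `N ⊆ V[x₁..xₙ]^ι` a submodule with `V`-torsion-free quotient.  Then `N` is
finitely generated.  (Graded Nakayama on the pieces of bounded degree, which are finite free
`V`-modules, plus Noetherianity of the Rees module over the residue field.)
-/

set_option autoImplicit false
set_option linter.unusedSectionVars false
universe u
open MvPolynomial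

namespace Groth.Agent.Lib.T2H7.ValCoh

open Groth.Agent.Lib.T2H7.ReesStab

section Basic

variable {V : Type u} [CommRing V] {σ ι : Type*}

/-- Tuples of polynomials of total degree `≤ d`. -/
def Fle (d : ℕ) : Submodule V (ι → MvPolynomial σ V) where
  carrier := {f | ∀ j, (f j).totalDegree ≤ d}
  add_mem' := by
    intro f g hf hg j
    exact (totalDegree_add _ _).trans (max_le (hf j) (hg j))
  zero_mem' := by
    intro j
    simp
  smul_mem' := by
    intro c f hf j
    exact (totalDegree_smul_le c (f j)).trans (hf j)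

theorem mem_Fle (d : ℕ) (f : ι → MvPolynomial σ V) :
    f ∈ Fle (V := V) d ↔ ∀ j, (f j).totalDegree ≤ d := Iff.rfl

theorem Fle_mono {d e : ℕ} (h : d ≤ e) : Fle (V := V) (σ := σ) (ι := ι) d ≤ Fle e :=
  fun _ hf j => (hf j).trans h

theorem Fle_fg [Finite σ] [Finite ι] (d : ℕ) : (Fle (V := V) (σ := σ) (ι := ι) d).FG := by
  let L : (ι → restrictTotalDegree σ V d) →ₗ[V] (ι → MvPolynomial σ V) :=
    (Submodule.subtype (restrictTotalDegree σ V d)).compLeft ι
  have h : Fle (V := V) (σ := σ) (ι := ι) d = LinearMap.range L := by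
    ext f
    constructor
    · intro hf
      exact ⟨fun j => ⟨f j, (mem_restrictTotalDegree _ _ _).mpr (hf j)⟩, rfl⟩
    · rintro ⟨g, rfl⟩ j
      exact (mem_restrictTotalDegree _ _ _).mp (g j).2
  rw [h, LinearMap.range_eq_map]
  exact Module.Finite.fg_top.map L

theorem exists_mem_Fle [Finite ι] (f : ι → MvPolynomial σ V) : ∃ d, f ∈ Fle (V := V) d := by
  classical
  cases nonempty_fintype ι
  exact ⟨Finset.univ.sup fun j => (f j).totalDegree, fun j =>
    Finset.le_sup (f := fun j => (f j).totalDegree) (Finset.mem_univ j)⟩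

/-- The piece of degree `≤ d` of a submodule. -/
noncomputable def Nd (N : Submodule (MvPolynomial σ V) (ι → MvPolynomial σ V)) (d : ℕ) :
    Submodule V (ι → MvPolynomial σ V) :=
  N.restrictScalars V ⊓ Fle d

theorem mem_Nd (N : Submodule (MvPolynomial σ V) (ι → MvPolynomial σ V)) (d : ℕ)
    (f : ι → MvPolynomial σ V) : f ∈ Nd N d ↔ f ∈ N ∧ ∀ j, (f j).totalDegree ≤ d := Iff.rfl

theorem Nd_mono (N : Submodule (MvPolynomial σ V) (ι → MvPolynomial σ V)) {d e : ℕ}
    (h : d ≤ e) : Nd N d ≤ Nd N e :=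
  inf_le_inf_left _ (Fle_mono h)

theorem mulX_mem_Nd [Nontrivial V] (N : Submodule (MvPolynomial σ V) (ι → MvPolynomial σ V))
    (d : ℕ) (i : σ) {f : ι → MvPolynomial σ V} (hf : f ∈ Nd N d) : mulX i f ∈ Nd N (d + 1) := by
  refine ⟨N.smul_mem (X i) hf.1, fun j => ?_⟩
  rw [mulX_apply]
  refine (totalDegree_mul _ _).trans ?_
  rw [totalDegree_X, add_comm]
  exact Nat.succ_le_succ (hf.2 j)

end Basic

section Val

variable {V : Type u} [CommRing V] [IsDomain V] [ValuationRing V] {σ ι : Type*}
  (N : Submodule (MvPolynomial σ V) (ι → MvPolynomial σ V))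
  (hsat : ∀ (a : V) (f : ι → MvPolynomial σ V), a ≠ 0 → a • f ∈ N → f ∈ N)

include hsat in
theorem Nd_fg [Finite σ] [Finite ι] (d : ℕ) : (Nd N d).FG := by
  have hfin : Module.Finite V (Fle (V := V) (σ := σ) (ι := ι) d) :=
    Module.Finite.iff_fg.mpr (Fle_fg d)
  let q : Fle (V := V) (σ := σ) (ι := ι) d →ₗ[V]
      ((ι → MvPolynomial σ V) ⧸ N.restrictScalars V) :=
    (N.restrictScalars V).mkQ ∘ₗ (Fle d).subtype
  have hq0 : ∀ y : Fle (V := V) (σ := σ) (ι := ι) d, q y = 0 ↔ (y : ι → MvPolynomial σ V) ∈ N := by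
    intro y
    simp only [q, LinearMap.comp_apply, Submodule.subtype_apply, Submodule.mkQ_apply,
      Submodule.Quotient.mk_eq_zero, Submodule.restrictScalars_mem]
  have htors : Submodule.torsion V (LinearMap.range q) = ⊥ := by
    rw [eq_bot_iff]
    rintro ⟨x, y, rfl⟩ ⟨a, ha⟩
    have ha' : (a : V) • q y = 0 := by
      have := congrArg Subtype.val ha
      simpa [Submonoid.smul_def] using this
    rw [← map_smul, hq0] at ha'
    have hy : (y : ι → MvPolynomial σ V) ∈ N :=
      hsat (a : V) y (nonZeroDivisors.ne_zero a.2) (by simpa using ha')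
    have : q y = 0 := (hq0 y).mpr hy
    simp [this]
  have hflat : Module.Flat V (LinearMap.range q) :=
    Module.Flat.flat_iff_torsion_eq_bot_of_isBezout.mpr htors
  have hfree : Module.Free V (LinearMap.range q) := Module.free_of_flat_of_isLocalRing
  have hfp : Module.FinitePresentation V (LinearMap.range q) :=
    Module.finitePresentation_of_projective V _
  have hker : (LinearMap.ker q.rangeRestrict).FG :=
    Module.FinitePresentation.fg_ker q.rangeRestrict q.surjective_rangeRestrict
  rw [LinearMap.ker_rangeRestrict] at hker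
  have hNd : Nd N d = (LinearMap.ker q).map (Fle d).subtype := by
    ext f
    constructor
    · rintro ⟨hfN, hfd⟩
      exact ⟨⟨f, hfd⟩, (hq0 ⟨f, hfd⟩).mpr hfN, rfl⟩
    · rintro ⟨y, hy, rfl⟩
      exact ⟨(hq0 y).mp hy, y.2⟩
  rw [hNd]
  exact hker.map _

/-- Elements of `𝔪 F` are of the form `m • f`. -/
theorem exists_eq_smul_of_mem_smul_top {F : Type*} [AddCommGroup F] [Module V F] (I : Ideal V)
    {n : F} (hn : n ∈ I • (⊤ : Submodule V F)) : ∃ m ∈ I, ∃ f : F, n = m • f := by
  refine Submodule.smul_induction_on hn (fun a ha f _ => ⟨a, ha, f, rfl⟩) ?_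
  rintro x y ⟨m, hm, f, rfl⟩ ⟨m', hm', f', rfl⟩
  rcases ValuationRing.dvd_total m m' with ⟨c, rfl⟩ | ⟨c, rfl⟩
  · exact ⟨m, hm, f + c • f', by rw [smul_add, mul_smul]⟩
  · exact ⟨m', hm', c • f + f', by rw [smul_add, mul_smul]⟩

include hsat in
theorem mem_smul_Nd (d : ℕ) {n : ι → MvPolynomial σ V} (hn : n ∈ Nd N d)
    (hn' : n ∈ IsLocalRing.maximalIdeal V • (⊤ : Submodule V (ι → MvPolynomial σ V))) :
    n ∈ IsLocalRing.maximalIdeal V • Nd N d := by
  obtain ⟨m, hm, f, rfl⟩ := exists_eq_smul_of_mem_smul_top _ hn'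
  by_cases hm0 : m = 0
  · subst hm0
    rw [zero_smul]
    exact Submodule.zero_mem _
  · refine Submodule.smul_mem_smul hm ⟨hsat m f hm0 hn.1, fun j => ?_⟩
    have h1 := hn.2 j
    rw [Pi.smul_apply] at h1
    have h2 : (m • f j).support = (f j).support := support_smul_eq hm0 (f j)
    unfold totalDegree at h1 ⊢
    rwa [h2] at h1

end Val

section Red

variable {V : Type u} [CommRing V] [IsLocalRing V] {σ ι : Type*}

/-- Reduction modulo the maximal ideal, one polynomial. -/
noncomputable def redP : MvPolynomial σ V →ₗ[V] MvPolynomial σ (IsLocalRing.ResidueField V) where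
  toFun p := MvPolynomial.map (algebraMap V (IsLocalRing.ResidueField V)) p
  map_add' := map_add _
  map_smul' := by
    intro c p
    rw [RingHom.id_apply, smul_eq_C_mul, map_mul, map_C, ← algebraMap_smul
      (IsLocalRing.ResidueField V) c (MvPolynomial.map (algebraMap V (IsLocalRing.ResidueField V)) p),
      smul_eq_C_mul]

/-- Reduction modulo the maximal ideal. -/
noncomputable def red : (ι → MvPolynomial σ V) →ₗ[V] (ι → MvPolynomial σ (IsLocalRing.ResidueField V)) :=
  (redP (V := V) (σ := σ)).compLeft ι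

theorem red_apply (f : ι → MvPolynomial σ V) (j : ι) :
    red f j = MvPolynomial.map (algebraMap V (IsLocalRing.ResidueField V)) (f j) := rfl

theorem red_mulX (i : σ) (f : ι → MvPolynomial σ V) : red (mulX i f) = mulX i (red f) := by
  funext j
  simp [red_apply]

theorem totalDegree_red_le (f : ι → MvPolynomial σ V) (j : ι) :
    (red f j).totalDegree ≤ (f j).totalDegree := by
  rw [red_apply]
  unfold totalDegree
  exact Finset.sup_mono (support_map_subset _ _)

theorem mem_smul_top_of_red_eq_zero [Finite ι] {f : ι → MvPolynomial σ V} (hf : red f = 0) :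
    f ∈ IsLocalRing.maximalIdeal V • (⊤ : Submodule V (ι → MvPolynomial σ V)) := by
  classical
  cases nonempty_fintype ι
  have h1 : ∀ j, f j ∈ IsLocalRing.maximalIdeal V • (⊤ : Submodule V (MvPolynomial σ V)) := by
    intro j
    have hj : MvPolynomial.map (algebraMap V (IsLocalRing.ResidueField V)) (f j) = 0 :=
      congrFun hf j
    have hj' : f j ∈ RingHom.ker (MvPolynomial.map (σ := σ)
        (algebraMap V (IsLocalRing.ResidueField V))) := hj
    rw [MvPolynomial.ker_map, MvPolynomial.mem_map_C_iff] at hj'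
    rw [← support_sum_monomial_coeff (f j)]
    refine Submodule.sum_mem _ fun α _ => ?_
    have hc : coeff α (f j) ∈ IsLocalRing.maximalIdeal V := by
      have := hj' α
      rwa [RingHom.mem_ker, IsLocalRing.ResidueField.algebraMap_eq,
        IsLocalRing.residue_eq_zero_iff] at this
    have : monomial α (coeff α (f j)) = coeff α (f j) • monomial α (1 : V) := by
      rw [smul_monomial, smul_eq_mul, mul_one]
    rw [this]
    exact Submodule.smul_mem_smul hc Submodule.mem_top
  have h2 : f = ∑ j, (LinearMap.single V (fun _ : ι => MvPolynomial σ V) j) (f j) := by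
    funext k
    simp [Finset.sum_apply, Pi.single_apply]
  rw [h2]
  refine Submodule.sum_mem _ fun j _ => ?_
  have := Submodule.mem_map_of_mem (f := LinearMap.single V (fun _ : ι => MvPolynomial σ V) j)
    (h1 j)
  rw [Submodule.map_smul''] at this
  exact Submodule.smul_mono le_rfl le_top this

end Red

section RedSub

variable {V : Type u} [CommRing V] [IsLocalRing V] {σ ι : Type*}

/-- The image under reduction of a `V`-submodule, as a submodule over the residue field. -/
noncomputable def redSub (P : Submodule V (ι → MvPolynomial σ V)) :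
    Submodule (IsLocalRing.ResidueField V) (ι → MvPolynomial σ (IsLocalRing.ResidueField V)) where
  carrier := red '' (P : Set (ι → MvPolynomial σ V))
  add_mem' := by
    rintro _ _ ⟨f, hf, rfl⟩ ⟨g, hg, rfl⟩
    exact ⟨f + g, P.add_mem hf hg, map_add _ _ _⟩
  zero_mem' := ⟨0, P.zero_mem, map_zero _⟩
  smul_mem' := by
    rintro c _ ⟨f, hf, rfl⟩
    obtain ⟨a, rfl⟩ := IsLocalRing.residue_surjective c
    refine ⟨a • f, P.smul_mem a hf, ?_⟩
    rw [map_smul]
    exact (algebraMap_smul (IsLocalRing.ResidueField V) a (red f))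

theorem mem_redSub (P : Submodule V (ι → MvPolynomial σ V))
    (g : ι → MvPolynomial σ (IsLocalRing.ResidueField V)) :
    g ∈ redSub P ↔ ∃ f ∈ P, red f = g := Iff.rfl

theorem redSub_mono {P Q : Submodule V (ι → MvPolynomial σ V)} (h : P ≤ Q) :
    redSub P ≤ redSub Q := by
  rintro _ ⟨f, hf, rfl⟩
  exact ⟨f, h hf, rfl⟩

theorem map_mulX_redSub (P : Submodule V (ι → MvPolynomial σ V)) (i : σ) :
    (redSub P).map (mulX i) ≤ redSub (P.map (mulX i)) := by
  rintro _ ⟨_, ⟨f, hf, rfl⟩, rfl⟩
  exact ⟨mulX i f, Submodule.mem_map_of_mem hf, red_mulX i f⟩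

end RedSub

section Main

variable {V : Type u} [CommRing V] [IsDomain V] [ValuationRing V] {σ ι : Type*}
  (N : Submodule (MvPolynomial σ V) (ι → MvPolynomial σ V))
  (hsat : ∀ (a : V) (f : ι → MvPolynomial σ V), a ≠ 0 → a • f ∈ N → f ∈ N)

/-- `N_d + ∑ x_i N_d`. -/
noncomputable def Ad (d : ℕ) : Submodule V (ι → MvPolynomial σ V) :=
  Nd N d ⊔ ⨆ i : σ, (Nd N d).map (mulX i)

theorem Ad_le (d : ℕ) : Ad N d ≤ Nd N (d + 1) := by
  refine sup_le (Nd_mono N (Nat.le_succ d)) (iSup_le fun i => ?_)
  rintro _ ⟨f, hf, rfl⟩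
  exact mulX_mem_Nd N d i hf

include hsat in
theorem exists_Nd_succ_le [Finite σ] [Finite ι] :
    ∃ D, ∀ d, D ≤ d → Nd N (d + 1) ≤ Ad N d := by
  have hmono : ∀ d, redSub (Nd N d) ≤ redSub (Nd N (d + 1)) := fun d =>
    redSub_mono (Nd_mono N (Nat.le_succ d))
  have hX : ∀ d (i : σ), (redSub (Nd N d)).map (mulX i) ≤ redSub (Nd N (d + 1)) := by
    intro d i
    refine (map_mulX_redSub _ i).trans (redSub_mono ?_)
    rintro _ ⟨f, hf, rfl⟩
    exact mulX_mem_Nd N d i hf
  have hdeg : ∀ d g, g ∈ redSub (Nd N d) → ∀ j, (g j).totalDegree ≤ d := by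
    rintro d _ ⟨f, hf, rfl⟩ j
    exact (totalDegree_red_le f j).trans (hf.2 j)
  obtain ⟨D, hD⟩ := exists_stabilization (fun d => redSub (Nd N d)) hmono hX hdeg
  refine ⟨D, fun d hd => ?_⟩
  have hle : redSub (Nd N d) ⊔ ⨆ i : σ, (redSub (Nd N d)).map (mulX i) ≤ redSub (Ad N d) := by
    refine sup_le (redSub_mono le_sup_left) (iSup_le fun i => ?_)
    refine (map_mulX_redSub _ i).trans (redSub_mono ?_)
    exact le_sup_of_le_right (le_iSup (fun i : σ => (Nd N d).map (mulX i)) i)
  refine Submodule.le_of_le_smul_of_le_jacobson_bot (I := IsLocalRing.maximalIdeal V)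
    (Nd_fg N hsat (d + 1)) (IsLocalRing.maximalIdeal_le_jacobson ⊥) ?_
  intro n hn
  have h1 : red n ∈ redSub (Ad N d) := hle (hD d hd ⟨n, hn, rfl⟩)
  obtain ⟨a, ha, hra⟩ := h1
  have h2 : n - a ∈ Nd N (d + 1) := Submodule.sub_mem _ hn (Ad_le N d ha)
  have h3 : red (n - a) = 0 := by rw [map_sub, hra, sub_self]
  have h4 := mem_smul_Nd N hsat (d + 1) h2 (mem_smul_top_of_red_eq_zero h3)
  have : n = a + (n - a) := by abel
  rw [this]
  exact Submodule.add_mem_sup ha h4

include hsat in
/-- **Saturated submodules of `V[x]^ι` are finitely generated** (`V` a valuation ring). -/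
theorem fg_of_saturated [Finite σ] [Finite ι] : N.FG := by
  obtain ⟨D, hD⟩ := exists_Nd_succ_le N hsat
  have hle : ∀ d, D ≤ d → Nd N d ≤
      (Submodule.span (MvPolynomial σ V) (Nd N D : Set (ι → MvPolynomial σ V))).restrictScalars V := by
    intro d hd
    induction d, hd using Nat.le_induction with
    | base => exact fun f hf => Submodule.subset_span hf
    | succ d hd ih =>
      refine (hD d hd).trans (sup_le ih (iSup_le fun i => ?_))
      rintro _ ⟨f, hf, rfl⟩
      exact Submodule.smul_mem _ (X i) (ih hf)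
  have hN : N = Submodule.span (MvPolynomial σ V) (Nd N D : Set (ι → MvPolynomial σ V)) := by
    apply le_antisymm
    · intro f hf
      obtain ⟨d, hd⟩ := exists_mem_Fle f
      exact hle (max d D) (le_max_right d D) ⟨hf, Fle_mono (le_max_left d D) hd⟩
    · exact Submodule.span_le.mpr fun f hf => hf.1
  obtain ⟨s, hs⟩ := Nd_fg N hsat D
  refine ⟨s, ?_⟩
  rw [hN, ← hs, Submodule.span_span_of_tower]

end Main

end Groth.Agent.Lib.T2H7.ValCoh
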