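import Mathlib
import Groth.Agent.Lib.T2H7ValCoh

/-!
# Finite torsion-free modules over essentially finite type algebras over a valuation ring are
finitely presented (helper7)
-/

set_option autoImplicit false
set_option linter.unusedSectionVars false
universe u
open MvPolynomial

namespace Groth.Agent.Lib.T2H7.ValFp

open Groth.Agent.Lib.T2H7.ValCoh

/-- `V` a valuation ring, `S` a `V`-algebra in which every element is a fraction `ψ p / ψ t` of
images of polynomials with `ψ t` a unit.  Then every finite `S`-module which is torsion free over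
`V` is finitely presented. -/
theorem finitePresentation_of_torsionFree {V : Type u} [CommRing V] [IsDomain V] [ValuationRing V]
    {σ : Type*} [Finite σ] {S : Type*} [CommRing S] [Algebra V S]
    (ψ : MvPolynomial σ V →ₐ[V] S)
    (hψ : ∀ x : S, ∃ t p : MvPolynomial σ V, IsUnit (ψ t) ∧ ψ t * x = ψ p)
    {M : Type*} [AddCommGroup M] [Module S M] [Module V M] [IsScalarTower V S M]
    [Module.Finite S M]
    (htf : ∀ (a : V) (x : M), a ≠ 0 → a • x = 0 → x = 0) : Module.FinitePresentation S M := by
  classical
  obtain ⟨n, s, hs⟩ := Module.Finite.exists_fin (R := S) (M := M)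
  let πS : (Fin n → S) →ₗ[S] M := Fintype.linearCombination S s
  have hπS : Function.Surjective πS := by
    rw [← LinearMap.range_eq_top, Fintype.range_linearCombination, hs]
  have hπS_apply : ∀ c : Fin n → S, πS c = ∑ j, c j • s j := fun c =>
    Fintype.linearCombination_apply S s c
  let N : Submodule (MvPolynomial σ V) (Fin n → MvPolynomial σ V) :=
    { carrier := {f | ∑ j, ψ (f j) • s j = 0}
      add_mem' := by
        intro f g hf hg
        simp only [Set.mem_ofPred_eq, Pi.add_apply, map_add, add_smul, Finset.sum_add_distrib] at *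
        rw [hf, hg, add_zero]
      zero_mem' := by simp
      smul_mem' := by
        intro p f hf
        simp only [Set.mem_ofPred_eq, Pi.smul_apply, smul_eq_mul, map_mul, mul_smul] at *
        rw [← Finset.smul_sum, hf, smul_zero] }
  have hmemN : ∀ f, f ∈ N ↔ ∑ j, ψ (f j) • s j = 0 := fun f => Iff.rfl
  have hsat : ∀ (a : V) (f : Fin n → MvPolynomial σ V), a ≠ 0 → a • f ∈ N → f ∈ N := by
    intro a f ha hf
    rw [hmemN] at hf ⊢
    refine htf a _ ha ?_
    rw [Finset.smul_sum, ← hf]
    refine Finset.sum_congr rfl fun j _ => ?_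
    rw [Pi.smul_apply, map_smul, smul_assoc]
  obtain ⟨G, hG⟩ := fg_of_saturated N hsat
  let Ψ : (Fin n → MvPolynomial σ V) → (Fin n → S) := fun f j => ψ (f j)
  have hΨspan : ∀ f, f ∈ Submodule.span (MvPolynomial σ V) (G : Set (Fin n → MvPolynomial σ V)) →
      Ψ f ∈ Submodule.span S (Ψ '' (G : Set (Fin n → MvPolynomial σ V))) := by
    intro f hf
    induction hf using Submodule.span_induction with
    | mem x hx => exact Submodule.subset_span ⟨x, hx, rfl⟩
    | zero =>
      have : Ψ 0 = 0 := by funext j; simp [Ψ]
      rw [this]; exact Submodule.zero_mem _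
    | add x y _ _ hx hy =>
      have : Ψ (x + y) = Ψ x + Ψ y := by funext j; simp [Ψ]
      rw [this]; exact Submodule.add_mem _ hx hy
    | smul p x _ hx =>
      have : Ψ (p • x) = ψ p • Ψ x := by funext j; simp [Ψ]
      rw [this]; exact Submodule.smul_mem _ _ hx
  have hker : LinearMap.ker πS = Submodule.span S (Ψ '' (G : Set (Fin n → MvPolynomial σ V))) := by
    apply le_antisymm
    · intro c hc
      rw [LinearMap.mem_ker, hπS_apply] at hc
      choose t p ht htp using fun j => hψ (c j)
      let f : Fin n → MvPolynomial σ V := fun j => (∏ k ∈ Finset.univ.erase j, t k) * p j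
      have hu : IsUnit (ψ (∏ k, t k)) := by
        rw [map_prod]
        exact IsUnit.prod_univ_iff.mpr fun j => ht j
      have hfj : ∀ j, ψ (f j) = ψ (∏ k, t k) * c j := by
        intro j
        rw [← Finset.mul_prod_erase Finset.univ t (Finset.mem_univ j)]
        simp only [f, map_mul]
        rw [← htp j]
        ring
      have hfN : f ∈ N := by
        rw [hmemN]
        simp_rw [hfj, mul_smul]
        rw [← Finset.smul_sum, hc, smul_zero]
      rw [← hG] at hfN
      have h1 := hΨspan f hfN
      have h2 : Ψ f = ψ (∏ k, t k) • c := by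
        funext j
        simp only [Ψ, hfj, Pi.smul_apply, smul_eq_mul]
      rw [h2] at h1
      have h3 := Submodule.smul_mem _ (↑hu.unit⁻¹ : S) h1
      rwa [smul_smul, IsUnit.val_inv_mul, one_smul] at h3
    · refine Submodule.span_le.mpr ?_
      rintro _ ⟨f, hf, rfl⟩
      have hfN : f ∈ N := by
        rw [← hG]
        exact Submodule.subset_span hf
      rw [SetLike.mem_coe, LinearMap.mem_ker, hπS_apply]
      exact (hmemN f).mp hfN
  refine Module.finitePresentation_of_free_of_surjective πS hπS ?_
  rw [hker]
  exact Submodule.fg_span ((G.finite_toSet).image Ψ)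

/-- Flat modules over a valuation ring are torsion free. -/
theorem torsionFree_of_flat {V : Type*} [CommRing V] [IsDomain V] [ValuationRing V]
    {M : Type*} [AddCommGroup M] [Module V M] [Module.Flat V M] :
    ∀ (a : V) (x : M), a ≠ 0 → a • x = 0 → x = 0 := by
  intro a x ha hx
  have h := Module.Flat.flat_iff_torsion_eq_bot_of_isBezout.mp (inferInstance : Module.Flat V M)
  have hx' : x ∈ Submodule.torsion V M :=
    (Submodule.mem_torsion_iff x).mpr ⟨⟨a, mem_nonZeroDivisors_of_ne_zero ha⟩, hx⟩
  rw [h] at hx'
  exact (Submodule.mem_bot V).mp hx'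

/-- Torsion free modules over a valuation ring are flat. -/
theorem flat_of_torsionFree {V : Type*} [CommRing V] [IsDomain V] [ValuationRing V]
    {M : Type*} [AddCommGroup M] [Module V M]
    (h : ∀ (a : V) (x : M), a ≠ 0 → a • x = 0 → x = 0) : Module.Flat V M := by
  refine Module.Flat.flat_iff_torsion_eq_bot_of_isBezout.mpr ?_
  rw [eq_bot_iff]
  intro x hx
  obtain ⟨a, ha⟩ := (Submodule.mem_torsion_iff x).mp hx
  exact (Submodule.mem_bot V).mpr (h a x (nonZeroDivisors.ne_zero a.2) ha)

/-- **Essentially finite type version**: a finite module over an essentially finite type algebra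
over a valuation ring which is flat over the valuation ring is finitely presented. -/
theorem finitePresentation_of_essFiniteType {A B M : Type u} [CommRing A] [IsDomain A]
    [ValuationRing A] [CommRing B] [Algebra A B]
    [Algebra.EssFiniteType A B] [AddCommGroup M] [Module B M] [Module A M] [IsScalarTower A B M]
    [Module.Finite B M] [Module.Flat A M] : Module.FinitePresentation B M := by
  obtain ⟨s, hs⟩ := Algebra.EssFiniteType.cond (R := A) (S := B)
  rw [Algebra.essFiniteType_cond_iff] at hs
  let ψ : MvPolynomial (s : Set B) A →ₐ[A] B := MvPolynomial.aeval (fun i => (i : B))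
  have hrange : ∀ x, x ∈ Algebra.adjoin A (s : Set B) ↔ ∃ p, ψ p = x := by
    intro x
    rw [Algebra.adjoin_eq_range]
    rfl
  refine finitePresentation_of_torsionFree ψ ?_ torsionFree_of_flat
  intro x
  obtain ⟨t, ht, hu, hxt⟩ := hs x
  obtain ⟨pt, rfl⟩ := (hrange t).mp ht
  obtain ⟨p, hp⟩ := (hrange _).mp hxt
  exact ⟨pt, p, hu, by rw [hp, mul_comm]⟩

end Groth.Agent.Lib.T2H7.ValFp
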