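import Groth.Agent.S2107
import Groth.Agent.Lib.T2H7ValFp

set_option autoImplicit false
set_option maxHeartbeats 400000
set_option linter.style.haveILetI false
set_option linter.unusedSectionVars false
set_option linter.unusedVariables false

/-! Over a valuation ring: a map of finite modules over an essentially finitely presented local algebra
into a flat module which is injective modulo the maximal ideal is injective with flat cokernel. -/

namespace Groth.Agent.Lib.LeadVF

open Groth.Agent.Lib.T2H7.ValFp

universe u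

section Gen

variable {A : Type*} [CommRing A] [IsDomain A] [ValuationRing A]

/-- over a valuation ring, an element of `I • ⊤` is a single product. -/
lemma exists_smul_of_mem_smul_top {X : Type*} [AddCommGroup X] [Module A X] (I : Ideal A) {x : X}
    (hx : x ∈ I • (⊤ : Submodule A X)) : ∃ a ∈ I, ∃ n : X, x = a • n := by
  induction hx using Submodule.smul_induction_on' with
  | smul r hr n hn => exact ⟨r, hr, n, rfl⟩
  | add x hx y hy ihx ihy =>
    obtain ⟨a, ha, n, rfl⟩ := ihx
    obtain ⟨b, hb, m, rfl⟩ := ihy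
    rcases ValuationRing.dvd_total a b with ⟨c, rfl⟩ | ⟨c, rfl⟩
    · exact ⟨a, ha, n + c • m, by rw [smul_add, mul_smul]⟩
    · exact ⟨b, hb, c • n + m, by rw [smul_add, mul_smul]⟩

lemma mem_map_smul_top_iff {B X : Type*} [CommRing B] [Algebra A B] [AddCommGroup X] [Module A X]
    [Module B X] [IsScalarTower A B X] (I : Ideal A) (x : X) :
    x ∈ I.map (algebraMap A B) • (⊤ : Submodule B X) ↔ x ∈ I • (⊤ : Submodule A X) := by
  have h := Ideal.smul_restrictScalars (R := A) (S := B) I (⊤ : Submodule B X)
  rw [Submodule.restrictScalars_top] at h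
  rw [← h]
  rfl

end Gen

section Core

variable {A B N M : Type u} [CommRing A] [IsDomain A] [ValuationRing A] [CommRing B]
  [IsLocalRing B] [Algebra A B] [IsLocalHom (algebraMap A B)] [Algebra.EssFiniteType A B]
  [AddCommGroup N] [Module B N] [Module A N] [IsScalarTower A B N] [Module.Finite B N]
  [AddCommGroup M] [Module B M] [Module A M] [IsScalarTower A B M] [Module.Finite B M]
  [Module.Flat A M]

/-- the `A`-torsion of a `B`-module, as a `B`-submodule. -/
def tors (A B N : Type*) [CommRing A] [IsDomain A] [CommRing B] [Algebra A B] [AddCommGroup N]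
    [Module B N] [Module A N] [IsScalarTower A B N] : Submodule B N where
  carrier := {x | ∃ a : A, a ≠ 0 ∧ a • x = 0}
  zero_mem' := ⟨1, one_ne_zero, smul_zero _⟩
  add_mem' := by
    rintro x y ⟨a, ha, hax⟩ ⟨b, hb, hby⟩
    refine ⟨a * b, mul_ne_zero ha hb, ?_⟩
    have h1 : (a * b) • x = 0 := by rw [mul_comm, mul_smul, hax, smul_zero]
    have h2 : (a * b) • y = 0 := by rw [mul_smul, hby, smul_zero]
    rw [smul_add, h1, h2, add_zero]
  smul_mem' := by
    rintro c x ⟨a, ha, hax⟩
    exact ⟨a, ha, by rw [smul_comm, hax, smul_zero]⟩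

lemma mem_tors {x : N} : x ∈ tors A B N ↔ ∃ a : A, a ≠ 0 ∧ a • x = 0 := Iff.rfl

lemma quot_tors_torsionFree (a : A) (x : N ⧸ tors A B N) (ha : a ≠ 0) (hx : a • x = 0) : x = 0 := by
  induction x using Submodule.Quotient.induction_on with
  | H x =>
    rw [← Submodule.Quotient.mk_smul, Submodule.Quotient.mk_eq_zero] at hx
    obtain ⟨b, hb, hbx⟩ := hx
    rw [Submodule.Quotient.mk_eq_zero]
    exact ⟨b * a, mul_ne_zero hb ha, by rw [mul_smul, hbx]⟩

theorem core (hB : CAlgX.IsEssFinitePresentation A B) (u : N →ₗ[B] M)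
    (hu : ∀ x : N, u x ∈ IsLocalRing.maximalIdeal A • (⊤ : Submodule A M) →
      x ∈ IsLocalRing.maximalIdeal A • (⊤ : Submodule A N)) :
    Function.Injective u ∧ Module.Flat A (M ⧸ LinearMap.range u) := by
  classical
  set tN := tors A B N with htN
  haveI : Module.Flat A (N ⧸ tN) := flat_of_torsionFree (fun a x ha hx =>
    quot_tors_torsionFree a x ha hx)
  haveI : Module.FinitePresentation B (N ⧸ tN) := finitePresentation_of_essFiniteType (A := A)
  haveI : Module.FinitePresentation B M := finitePresentation_of_essFiniteType (A := A)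
  have hMtf := torsionFree_of_flat (V := A) (M := M)
  have hker : tN ≤ LinearMap.ker u := by
    rintro x ⟨a, ha, hax⟩
    rw [LinearMap.mem_ker]
    apply hMtf a _ ha
    rw [← algebraMap_smul B a (u x), ← map_smul, algebraMap_smul, hax, map_zero]
  set ubar : (N ⧸ tN) →ₗ[B] M := tN.liftQ u hker with hubar
  have hubar' : ∀ x : N ⧸ tN,
      ubar x ∈ (IsLocalRing.maximalIdeal A).map (algebraMap A B) • (⊤ : Submodule B M) →
      x ∈ (IsLocalRing.maximalIdeal A).map (algebraMap A B) • (⊤ : Submodule B (N ⧸ tN)) := by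
    intro x hx
    induction x using Submodule.Quotient.induction_on with
    | H x =>
      rw [mem_map_smul_top_iff] at hx ⊢
      have h1 : x ∈ IsLocalRing.maximalIdeal A • (⊤ : Submodule A N) := hu x (by simpa [hubar] using hx)
      have h2 := Submodule.mem_map_of_mem (f := (tN.mkQ).restrictScalars A) h1
      rw [Submodule.map_smul''] at h2
      exact Submodule.smul_mono le_rfl le_top h2
  obtain ⟨hinj, hflat⟩ := Groth.Agent.S2107.result hB ubar hubar'
  rw [hubar, Submodule.range_liftQ] at hflat
  refine ⟨?_, hflat⟩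
  -- the torsion vanishes
  have hfg : tN.FG := by
    have := Module.FinitePresentation.fg_ker (tN.mkQ) (Submodule.mkQ_surjective tN)
    rwa [Submodule.ker_mkQ] at this
  have hle : tN ≤ IsLocalRing.maximalIdeal B • tN := by
    intro x hx
    have h1 : x ∈ IsLocalRing.maximalIdeal A • (⊤ : Submodule A N) := by
      apply hu
      rw [LinearMap.mem_ker.mp (hker hx)]
      exact Submodule.zero_mem _
    obtain ⟨a, ha, n, rfl⟩ := exists_smul_of_mem_smul_top _ h1
    by_cases ha0 : a = 0
    · rw [ha0, zero_smul]; exact Submodule.zero_mem _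
    · obtain ⟨c, hc, hcx⟩ := hx
      have hn : n ∈ tN := ⟨c * a, mul_ne_zero hc ha0, by rw [mul_smul, hcx]⟩
      rw [← algebraMap_smul B a n]
      refine Submodule.smul_mem_smul ?_ hn
      rw [IsLocalRing.mem_maximalIdeal, mem_nonunits_iff] at ha ⊢
      exact fun h => ha (isUnit_of_map_unit (algebraMap A B) a h)
  have hbot : tN = ⊥ := Submodule.eq_bot_of_le_smul_of_le_jacobson_bot _ tN hfg hle
    (IsLocalRing.maximalIdeal_le_jacobson _)
  rw [← LinearMap.ker_eq_bot, eq_bot_iff]
  intro x hx
  have h1 : ubar (Submodule.Quotient.mk x) = 0 := by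
    simpa [hubar] using LinearMap.mem_ker.mp hx
  have h2 := hinj (h1.trans (map_zero ubar).symm)
  rw [Submodule.Quotient.mk_eq_zero, hbot] at h2
  exact h2

end Core

end Groth.Agent.Lib.LeadVF
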