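import Groth.Agent.Lib.LeadVF1

set_option autoImplicit false
set_option maxHeartbeats 400000
set_option linter.style.haveILetI false
set_option linter.unusedSectionVars false
set_option linter.unusedVariables false

/-! Reduction of the essentially finite type case to the essentially finitely presented case. -/

namespace Groth.Agent.Lib.LeadVF

universe u

/-- the statement is insensitive to replacing the algebra by one surjecting onto it. -/
theorem of_surjective {A B' B N M : Type u} [CommRing A] [IsDomain A] [ValuationRing A]
    [CommRing B'] [IsLocalRing B'] [Algebra A B'] [IsLocalHom (algebraMap A B')]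
    [Algebra.EssFiniteType A B'] (hB' : CAlgX.IsEssFinitePresentation A B')
    [CommRing B] [Algebra A B] [Algebra B' B] [IsScalarTower A B' B]
    (hsurj : Function.Surjective (algebraMap B' B))
    [AddCommGroup N] [Module B N] [Module A N] [IsScalarTower A B N] [Module.Finite B N]
    [AddCommGroup M] [Module B M] [Module A M] [IsScalarTower A B M] [Module.Finite B M]
    [Module.Flat A M] (u : N →ₗ[B] M)
    (hu : ∀ x : N, u x ∈ IsLocalRing.maximalIdeal A • (⊤ : Submodule A M) →
      x ∈ IsLocalRing.maximalIdeal A • (⊤ : Submodule A N)) :
    Function.Injective u ∧ Module.Flat A (M ⧸ LinearMap.range u) := by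
  classical
  letI : Module B' N := Module.compHom N (algebraMap B' B)
  letI : Module B' M := Module.compHom M (algebraMap B' B)
  haveI : IsScalarTower B' B N := ⟨fun x y z => by
    rw [Algebra.smul_def, mul_smul]
    rfl⟩
  haveI : IsScalarTower B' B M := ⟨fun x y z => by
    rw [Algebra.smul_def, mul_smul]
    rfl⟩
  haveI : IsScalarTower A B' N := ⟨fun a b n => by
    show algebraMap B' B (a • b) • n = a • (algebraMap B' B b • n)
    rw [Algebra.smul_def, map_mul, ← IsScalarTower.algebraMap_apply A B' B, mul_smul,
      algebraMap_smul]⟩
  haveI : IsScalarTower A B' M := ⟨fun a b n => by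
    show algebraMap B' B (a • b) • n = a • (algebraMap B' B b • n)
    rw [Algebra.smul_def, map_mul, ← IsScalarTower.algebraMap_apply A B' B, mul_smul,
      algebraMap_smul]⟩
  haveI : Module.Finite B' N := by
    obtain ⟨s, hs⟩ := (Module.Finite.fg_top : (⊤ : Submodule B N).FG)
    refine ⟨⟨s, ?_⟩⟩
    have := Submodule.restrictScalars_span B' B hsurj (s : Set N)
    rw [hs, Submodule.restrictScalars_top] at this
    exact this.symm
  haveI : Module.Finite B' M := by
    obtain ⟨s, hs⟩ := (Module.Finite.fg_top : (⊤ : Submodule B M).FG)
    refine ⟨⟨s, ?_⟩⟩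
    have := Submodule.restrictScalars_span B' B hsurj (s : Set M)
    rw [hs, Submodule.restrictScalars_top] at this
    exact this.symm
  let u' : N →ₗ[B'] M :=
    { toFun := u
      map_add' := u.map_add
      map_smul' := fun b x => by
        show u (algebraMap B' B b • x) = algebraMap B' B b • u x
        exact u.map_smul _ _ }
  obtain ⟨hinj, hflat⟩ := core hB' u' hu
  refine ⟨hinj, ?_⟩
  have e1 := Submodule.Quotient.restrictScalarsEquiv A (LinearMap.range u')
  have e2 := Submodule.Quotient.restrictScalarsEquiv A (LinearMap.range u)
  have heq : (LinearMap.range u').restrictScalars A = (LinearMap.range u).restrictScalars A := by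
    ext x
    simp only [Submodule.restrictScalars_mem, LinearMap.mem_range]
    rfl
  exact Module.Flat.of_linearEquiv (e2.symm ≪≫ₗ (Submodule.quotEquivOfEq _ _ heq.symm) ≪≫ₗ e1)

end Groth.Agent.Lib.LeadVF
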