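import Groth.Agent.Lib.LeadVF2

set_option autoImplicit false
set_option maxHeartbeats 400000
set_option linter.style.haveILetI false
set_option linter.unusedSectionVars false
set_option linter.unusedVariables false

/-! The essentially finite type case. -/

namespace Groth.Agent.Lib.LeadVF

universe u

theorem main {A B N M : Type u} [CommRing A] [IsDomain A] [ValuationRing A] [CommRing B]
    [IsLocalRing B] [Algebra A B] [IsLocalHom (algebraMap A B)] [Algebra.EssFiniteType A B]
    [AddCommGroup N] [Module B N] [Module A N] [IsScalarTower A B N] [Module.Finite B N]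
    [AddCommGroup M] [Module B M] [Module A M] [IsScalarTower A B M] [Module.Finite B M]
    [Module.Flat A M] (u : N →ₗ[B] M)
    (hu : ∀ x : N, u x ∈ IsLocalRing.maximalIdeal A • (⊤ : Submodule A M) →
      x ∈ IsLocalRing.maximalIdeal A • (⊤ : Submodule A N)) :
    Function.Injective u ∧ Module.Flat A (M ⧸ LinearMap.range u) := by
  classical
  obtain ⟨s, hs⟩ := Algebra.EssFiniteType.cond (R := A) (S := B)
  rw [Algebra.essFiniteType_cond_iff] at hs
  let P := MvPolynomial (s : Set B) A
  let ψ : P →ₐ[A] B := MvPolynomial.aeval (fun i => (i : B))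
  have hrange : ∀ x, x ∈ Algebra.adjoin A (s : Set B) ↔ ∃ p, ψ p = x := by
    intro x
    rw [Algebra.adjoin_eq_range]
    rfl
  let q : Ideal P := (IsLocalRing.maximalIdeal B).comap ψ.toRingHom
  haveI : q.IsPrime := Ideal.comap_isPrime _ _
  let B' := Localization.AtPrime q
  have hunit : ∀ y : q.primeCompl, IsUnit (ψ.toRingHom y) := fun y => by
    have h1 : ψ.toRingHom (y : P) ∉ IsLocalRing.maximalIdeal B := y.2
    exact IsLocalRing.notMem_maximalIdeal.mp h1
  let g : B' →+* B := IsLocalization.lift hunit
  letI : Algebra B' B := g.toAlgebra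
  haveI : IsScalarTower A B' B := IsScalarTower.of_algebraMap_eq fun a => by
    show algebraMap A B a = g (algebraMap A B' a)
    rw [IsScalarTower.algebraMap_apply A P B', IsLocalization.lift_eq]
    exact (ψ.commutes a).symm
  have hsurj : Function.Surjective (algebraMap B' B) := by
    intro x
    obtain ⟨t, ht, htu, hxt⟩ := hs x
    obtain ⟨pt, rfl⟩ := (hrange t).mp ht
    obtain ⟨p, hp⟩ := (hrange _).mp hxt
    have hpt : pt ∈ q.primeCompl := by
      show pt ∉ q
      intro h
      exact (IsLocalRing.notMem_maximalIdeal.mpr htu) h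
    refine ⟨IsLocalization.mk' B' p ⟨pt, hpt⟩, ?_⟩
    show g (IsLocalization.mk' B' p ⟨pt, hpt⟩) = x
    rw [IsLocalization.lift_mk'_spec]
    show ψ p = ψ pt * x
    rw [hp, mul_comm]
  haveI : IsLocalHom (algebraMap A B') := ⟨fun a ha => by
    have h1 : IsUnit (algebraMap A B a) := by
      rw [IsScalarTower.algebraMap_apply A B' B]
      exact ha.map _
    exact isUnit_of_map_unit (algebraMap A B) a h1⟩
  haveI : Algebra.EssFiniteType P B' := Algebra.EssFiniteType.of_isLocalization B' q.primeCompl
  haveI : Algebra.EssFiniteType A B' := Algebra.EssFiniteType.comp A P B'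
  have hB' : CAlgX.IsEssFinitePresentation A B' :=
    ⟨P, inferInstance, inferInstance, inferInstance, inferInstance, q.primeCompl,
      inferInstance, inferInstance⟩
  exact of_surjective hB' hsurj u hu

end Groth.Agent.Lib.LeadVF
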