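import Mathlib
import Groth.Agent.Lib.Helper5GorRing
import Groth.Agent.Lib.LeadGSc

/-!
# Gorenstein rings: lifting from a quotient by a regular element and from a localization (lead)

* `gorLocal_of_quotient`: `B` Noetherian, `b` regular, `b ∈ P`: `(B/b)_{P/b}` Gorenstein ⇒ `B_P` Gorenstein.
* `gorLocal_atPrime_of_away`: `S = R[1/t]` Gorenstein, `t ∉ p` ⇒ `R_p` Gorenstein.
* `isLocalization_away_of_injective`: an injective `φ : R → B` into a domain with
  `∀ b, ∃ N r, φ r = φ t ^ N * b` makes `B[1/φ t]` the localization of `R` away from `t`.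
* `gorRing_of_quotient_of_away`: `B/b` Gorenstein and `B_P` Gorenstein for `b ∉ P` ⇒ `B` Gorenstein.
-/

set_option autoImplicit false
set_option maxHeartbeats 400000
set_option linter.style.haveILetI false
set_option linter.unusedSectionVars false
set_option linter.unusedVariables false
set_option linter.overlappingInstances false

universe u

noncomputable section

namespace Groth.Agent.Lib.LeadWS

open LocCoh IsLocalRing Groth.Agent.Lib.Helper5.GorRing Groth.Agent.Lib.Helper28

section Quot

variable {B : Type u} [CommRing B]

/-- If `b` is a regular element of the Noetherian ring `B` lying in the prime `P` and the localization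
of `B/b` at `P/b` is Gorenstein, so is `B_P`. -/
theorem gorLocal_of_quotient [IsNoetherianRing B] (b : B)
    (hb : IsSMulRegular B b) (P : Ideal B) [P.IsPrime] (hbP : b ∈ P)
    (P' : Ideal (B ⧸ Ideal.span {b})) [P'.IsPrime]
    (hP' : P' = P.map (Ideal.Quotient.mk (Ideal.span {b})))
    (hG : IsGorensteinLocalRing (Localization.AtPrime P')) :
    IsGorensteinLocalRing (Localization.AtPrime P) := by
  subst hP'
  have hIP : Ideal.span {b} ≤ P := (Ideal.span_singleton_le_iff_mem _).mpr hbP
  have inst : IsLocalization (Algebra.algebraMapSubmonoid (B ⧸ Ideal.span {b}) P.primeCompl)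
      (Localization.AtPrime P ⧸ (Ideal.span {b}).map (algebraMap B (Localization.AtPrime P))) :=
    inferInstance
  rw [algebraMapSubmonoid_quotient_primeCompl (Ideal.span {b}) P hIP] at inst
  haveI inst' : IsLocalization.AtPrime
      (Localization.AtPrime P ⧸ (Ideal.span {b}).map (algebraMap B (Localization.AtPrime P)))
      (P.map (Ideal.Quotient.mk (Ideal.span {b}))) := inst
  have hmem : algebraMap B (Localization.AtPrime P) b ∈ maximalIdeal (Localization.AtPrime P) :=
    (IsLocalization.AtPrime.to_map_mem_maximal_iff (Localization.AtPrime P) P b).mpr hbP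
  have hreg : IsSMulRegular (Localization.AtPrime P) (algebraMap B (Localization.AtPrime P) b) :=
    hb.of_flat
  have hspan : (Ideal.span {b}).map (algebraMap B (Localization.AtPrime P)) =
      Ideal.span {algebraMap B (Localization.AtPrime P) b} := by
    rw [Ideal.map_span, Set.image_singleton]
  have h1 : IsGorensteinLocalRing
      (Localization.AtPrime P ⧸ (Ideal.span {b}).map (algebraMap B (Localization.AtPrime P))) :=
    gorLocal_of_ringEquiv
      (IsLocalization.algEquiv (P.map (Ideal.Quotient.mk (Ideal.span {b}))).primeCompl
        (Localization.AtPrime (P.map (Ideal.Quotient.mk (Ideal.span {b}))))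
        (Localization.AtPrime P ⧸ (Ideal.span {b}).map (algebraMap B (Localization.AtPrime P)))
        ).toRingEquiv
  rw [hspan] at h1
  exact (Groth.Agent.S0343.result (Localization.AtPrime P) _ hmem hreg).mpr h1

/-- `B` Noetherian, `b` regular, `B/b` Gorenstein and `B_P` Gorenstein for all primes `P ∌ b`:
then `B` is Gorenstein. -/
theorem gorRing_of_quotient_of_away [IsNoetherianRing B] (b : B) (hb : IsSMulRegular B b)
    [hQ : IsGorensteinRing (B ⧸ Ideal.span {b})]
    (haway : ∀ (P : Ideal B) [P.IsPrime], b ∉ P → IsGorensteinLocalRing (Localization.AtPrime P)) :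
    IsGorensteinRing B := by
  refine { isGorensteinLocalRing_localization := ?_ }
  intro P hP
  by_cases hbP : b ∈ P
  · have hIP : Ideal.span {b} ≤ P := (Ideal.span_singleton_le_iff_mem _).mpr hbP
    have hker : RingHom.ker (Ideal.Quotient.mk (Ideal.span {b})) ≤ P := by
      rw [Ideal.mk_ker]; exact hIP
    haveI hP' : (P.map (Ideal.Quotient.mk (Ideal.span {b}))).IsPrime :=
      Ideal.map_isPrime_of_surjective Ideal.Quotient.mk_surjective hker
    exact gorLocal_of_quotient b hb P hbP _ rfl
      (hQ.isGorensteinLocalRing_localization (P.map (Ideal.Quotient.mk (Ideal.span {b}))))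
  · exact haway P hbP

end Quot

section Away

variable {R : Type u} [CommRing R]

/-- If `S = R[1/t]` is Gorenstein and `t ∉ p` then `R_p` is Gorenstein. -/
theorem gorLocal_atPrime_of_away (t : R) (S : Type u) [CommRing S] [Algebra R S]
    [IsLocalization.Away t S] [hS : IsGorensteinRing S] (p : Ideal R) [hp : p.IsPrime]
    (htp : t ∉ p) : IsGorensteinLocalRing (Localization.AtPrime p) := by
  have hdisj : Disjoint (Submonoid.powers t : Set R) (p : Set R) := by
    rw [Set.disjoint_left]
    rintro x ⟨n, rfl⟩ hx
    exact htp (hp.mem_of_pow_mem n hx)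
  have hq : (p.map (algebraMap R S)).IsPrime :=
    IsLocalization.isPrime_of_isPrime_disjoint (Submonoid.powers t) S p hp hdisj
  have hcomap : (p.map (algebraMap R S)).comap (algebraMap R S) = p :=
    IsLocalization.under_map_of_isPrime_disjoint (Submonoid.powers t) S hp hdisj
  haveI := hS.isGorensteinLocalRing_localization (p.map (algebraMap R S))
  haveI h1 : IsLocalization.AtPrime (Localization.AtPrime (p.map (algebraMap R S)))
      ((p.map (algebraMap R S)).comap (algebraMap R S)) :=
    IsLocalization.isLocalization_isLocalization_atPrime_isLocalization (Submonoid.powers t)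
      (Localization.AtPrime (p.map (algebraMap R S))) (p.map (algebraMap R S))
  have h2 : IsLocalization.AtPrime (Localization.AtPrime (p.map (algebraMap R S))) p := by
    have := h1
    simp only [hcomap] at this
    exact this
  exact gorLocal_of_ringEquiv
    (IsLocalization.algEquiv p.primeCompl
      (Localization.AtPrime (p.map (algebraMap R S))) (Localization.AtPrime p)).toRingEquiv

/-- An injective ring map `φ : R → B` into a domain such that every `b` becomes an element of `R`
after multiplication by a power of `φ t` exhibits `B[1/φ t]` as `R[1/t]`. -/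
theorem isLocalization_away_of_injective {B : Type u} [CommRing B] [IsDomain B] (φ : R →+* B)
    (hφ : Function.Injective φ) (t : R) (ht : t ≠ 0)
    (hsurj : ∀ b : B, ∃ (N : ℕ) (r : R), φ r = φ t ^ N * b) :
    @IsLocalization.Away R _ t (Localization.Away (φ t)) _
      (((algebraMap B (Localization.Away (φ t))).comp φ).toAlgebra) := by
  letI : Algebra R (Localization.Away (φ t)) :=
    ((algebraMap B (Localization.Away (φ t))).comp φ).toAlgebra
  have halg : ∀ r : R, algebraMap R (Localization.Away (φ t)) r =
      algebraMap B (Localization.Away (φ t)) (φ r) := fun r => rfl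
  have hφt : φ t ≠ 0 := fun h => ht (hφ (by rw [h, map_zero]))
  have hinjB : Function.Injective (algebraMap B (Localization.Away (φ t))) := by
    apply IsLocalization.injective (M := Submonoid.powers (φ t))
    exact powers_le_nonZeroDivisors_of_noZeroDivisors hφt
  have hunit : IsUnit (algebraMap B (Localization.Away (φ t)) (φ t)) :=
    IsLocalization.Away.algebraMap_isUnit (φ t)
  refine IsLocalization.Away.mk (S := Localization.Away (φ t)) t ?_ ?_ ?_
  · rw [halg]; exact hunit
  · intro z
    obtain ⟨n, b, hb⟩ := IsLocalization.Away.surj (φ t) z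
    obtain ⟨N, r, hr⟩ := hsurj b
    refine ⟨n + N, r, ?_⟩
    rw [halg, halg, hr, map_mul, map_pow, ← hb]
    ring
  · intro a b hab
    refine ⟨0, ?_⟩
    rw [halg, halg] at hab
    rw [pow_zero, one_mul, one_mul]
    exact hφ (hinjB hab)

/-- Combination: `R ⊆ B` with `B` a Gorenstein domain and `B ⊆ R[1/t]`: then `R_p` is Gorenstein for
every prime `p ∌ t`. -/
theorem gorLocal_atPrime_of_injective {B : Type u} [CommRing B] [IsDomain B]
    [hB : IsGorensteinRing B] (φ : R →+* B)
    (hφ : Function.Injective φ) (t : R) (ht : t ≠ 0)
    (hsurj : ∀ b : B, ∃ (N : ℕ) (r : R), φ r = φ t ^ N * b)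
    (p : Ideal R) [hp : p.IsPrime] (htp : t ∉ p) :
    IsGorensteinLocalRing (Localization.AtPrime p) := by
  letI : Algebra R (Localization.Away (φ t)) :=
    ((algebraMap B (Localization.Away (φ t))).comp φ).toAlgebra
  haveI : IsLocalization.Away t (Localization.Away (φ t)) :=
    isLocalization_away_of_injective φ hφ t ht hsurj
  haveI : IsGorensteinRing (Localization.Away (φ t)) :=
    gorRing_of_isLocalization (Submonoid.powers (φ t)) (Localization.Away (φ t))
  exact gorLocal_atPrime_of_away t (Localization.Away (φ t)) p htp

end Away

/-- A Gorenstein local ring is a Gorenstein ring at its maximal ideal (and `D` Artinian local: at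
every prime). -/
theorem gorLocal_atPrime_of_gorLocal_of_artinian (D : Type u) [CommRing D] [IsLocalRing D]
    [IsArtinianRing D] [hD : IsGorensteinLocalRing D] (q : Ideal D) [hq : q.IsPrime] :
    IsGorensteinLocalRing (Localization.AtPrime q) := by
  have hqmax : q = maximalIdeal D :=
    IsLocalRing.eq_maximalIdeal (Ideal.IsPrime.isMaximal' (R := D) hq)
  have H : q.primeCompl ≤ IsUnit.submonoid D := by
    intro x hx
    have hx' : x ∉ q := hx
    rw [hqmax] at hx'
    exact IsLocalRing.notMem_maximalIdeal.mp hx'
  exact gorLocal_of_ringEquiv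
    (IsLocalization.atUnits D q.primeCompl (S := Localization.AtPrime q) H).toRingEquiv

end Groth.Agent.Lib.LeadWS
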