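import Mathlib
import Groth.Prelude.Def_W4c6gradedringsgwSect

/-!
# Numerical semigroups: symmetry via the maximal elements of the Apéry set (lead)

For a numerical semigroup `H ⊆ ℕ` and a positive element `e ∈ H`, the Apéry set is `H \ (e + H)`.
`H` is symmetric iff the Apéry set has a unique maximal element for the order `w ≤_H w' ↔ w' - w ∈ H`.
-/

set_option autoImplicit false
set_option maxHeartbeats 400000
set_option linter.style.haveILetI false
set_option linter.unusedSectionVars false
set_option linter.unusedVariables false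

namespace Groth.Agent.Lib.LeadWS

/-- `H` is a numerical semigroup: contains `0`, closed under addition, cofinite. -/
structure IsNumSG (H : Set ℕ) : Prop where
  zero_mem : 0 ∈ H
  add_mem : ∀ a ∈ H, ∀ b ∈ H, a + b ∈ H
  cofinite : ∃ c, ∀ n, c ≤ n → n ∈ H

/-- The translate `e + H`. -/
def shift (H : Set ℕ) (e : ℕ) : Set ℕ := {n | e ≤ n ∧ n - e ∈ H}

/-- The maximal elements of the Apéry set `H \ (e + H)` for the order induced by `H`. -/
def maxAp (H : Set ℕ) (e : ℕ) : Set ℕ :=
  {w | w ∈ H ∧ w ∉ shift H e ∧ ∀ h ∈ H, 0 < h → w + h ∈ shift H e}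

/-- Membership of an integer in `H`. -/
def InH (H : Set ℕ) (n : ℤ) : Prop := ∃ h ∈ H, (h : ℤ) = n

variable {H : Set ℕ}

lemma inH_natCast {n : ℕ} : InH H (n : ℤ) ↔ n ∈ H := by
  constructor
  · rintro ⟨h, hh, he⟩
    have : h = n := by exact_mod_cast he
    rwa [← this]
  · intro h
    exact ⟨n, h, rfl⟩

lemma not_inH_of_neg {n : ℤ} (hn : n < 0) : ¬ InH H n := by
  rintro ⟨h, -, he⟩
  omega

lemma InH.add (hH : IsNumSG H) {a b : ℤ} (ha : InH H a) (hb : InH H b) : InH H (a + b) := by
  obtain ⟨x, hx, rfl⟩ := ha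
  obtain ⟨y, hy, rfl⟩ := hb
  exact ⟨x + y, hH.add_mem x hx y hy, by push_cast; rfl⟩

lemma mul_mem (hH : IsNumSG H) {e : ℕ} (he : e ∈ H) (j : ℕ) : j * e ∈ H := by
  induction j with
  | zero => rw [zero_mul]; exact hH.zero_mem
  | succ j ih => rw [Nat.succ_mul]; exact hH.add_mem _ ih _ he

lemma mem_shift_of_add (hH : IsNumSG H) {e w h : ℕ} (hw : w ∈ shift H e) (hh : h ∈ H) :
    w + h ∈ shift H e := by
  refine ⟨hw.1.trans (Nat.le_add_right _ _), ?_⟩
  have : w + h - e = (w - e) + h := by have := hw.1; omega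
  rw [this]
  exact hH.add_mem _ hw.2 _ hh

/-- Every element of the Apéry set is dominated by a maximal one. -/
lemma exists_maxAp_ge (hH : IsNumSG H) {e : ℕ} (w : ℕ) (hw : w ∈ H) (hws : w ∉ shift H e) :
    ∃ w' ∈ maxAp H e, w ≤ w' ∧ w' - w ∈ H := by
  obtain ⟨c, hc⟩ := hH.cofinite
  have hbound : ∀ v, v ∈ H → v ∉ shift H e → v < c + e := by
    intro v _ hvs
    by_contra hge
    push Not at hge
    exact hvs ⟨by omega, hc _ (by omega)⟩
  -- strong induction on `c + e - w`
  have key : ∀ m : ℕ, ∀ v, v ∈ H → v ∉ shift H e → c + e - v ≤ m →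
      ∃ w' ∈ maxAp H e, v ≤ w' ∧ w' - v ∈ H := by
    intro m
    induction m with
    | zero =>
      intro v hv hvs hm
      have := hbound v hv hvs
      omega
    | succ m ih =>
      intro v hv hvs hm
      by_cases hmax : ∀ h ∈ H, 0 < h → v + h ∈ shift H e
      · exact ⟨v, ⟨hv, hvs, hmax⟩, le_rfl, by rw [Nat.sub_self]; exact hH.zero_mem⟩
      · push Not at hmax
        obtain ⟨h, hh, hpos, hns⟩ := hmax
        have hvh : v + h ∈ H := hH.add_mem _ hv _ hh
        have hb := hbound v hv hvs
        obtain ⟨w', hw', hle, hsub⟩ := ih (v + h) hvh hns (by omega)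
        refine ⟨w', hw', by omega, ?_⟩
        have : w' - v = (w' - (v + h)) + h := by omega
        rw [this]
        exact hH.add_mem _ hsub _ hh
  exact key (c + e - w) w hw hws le_rfl

/-- There is a greatest integer `F ≥ -1` not in `H` (the Frobenius number). -/
lemma exists_frobenius (hH : IsNumSG H) :
    ∃ F : ℤ, -1 ≤ F ∧ ¬ InH H F ∧ ∀ n : ℤ, F < n → InH H n := by
  obtain ⟨c, hc⟩ := hH.cofinite
  obtain ⟨F, ⟨hF1, hF2⟩, hF3⟩ := Int.exists_greatest_of_bdd
    (P := fun z : ℤ => -1 ≤ z ∧ ¬ InH H z)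
    ⟨c, fun z hz => by
      by_contra hlt
      push Not at hlt
      apply hz.2
      have hz0 : 0 ≤ z := by omega
      lift z to ℕ using hz0
      exact inH_natCast.mpr (hc z (by omega))⟩
    ⟨-1, le_rfl, not_inH_of_neg (by norm_num)⟩
  refine ⟨F, hF1, hF2, fun n hn => ?_⟩
  by_contra hni
  have := hF3 n ⟨by omega, hni⟩
  omega

/-- `F + e` is a maximal element of the Apéry set. -/
lemma frob_add_mem_maxAp (hH : IsNumSG H) {e : ℕ} (hpos : 0 < e) {F : ℤ} (hF1 : -1 ≤ F)
    (hF2 : ¬ InH H F) (hF3 : ∀ n : ℤ, F < n → InH H n) :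
    (F + e).toNat ∈ maxAp H e := by
  have h0 : 0 ≤ F + e := by omega
  have hcast : (((F + e).toNat : ℕ) : ℤ) = F + e := Int.toNat_of_nonneg h0
  refine ⟨?_, ?_, ?_⟩
  · rw [← inH_natCast, hcast]
    exact hF3 _ (by omega)
  · rintro ⟨hle, hmem⟩
    apply hF2
    rw [← inH_natCast] at hmem
    have : (((F + e).toNat - e : ℕ) : ℤ) = F := by
      rw [Nat.cast_sub hle, hcast]; ring
    rwa [this] at hmem
  · intro h hh hhpos
    have hle : e ≤ (F + e).toNat + h := by
      have : (e : ℤ) ≤ ((F + e).toNat : ℤ) + h := by rw [hcast]; omega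
      exact_mod_cast this
    refine ⟨hle, ?_⟩
    rw [← inH_natCast]
    have : ((((F + e).toNat + h - e : ℕ)) : ℤ) = F + h := by
      rw [Nat.cast_sub hle]; push_cast; rw [hcast]; ring
    rw [this]
    exact hF3 _ (by omega)

theorem isSymmetric_iff_existsUnique_maxAp (hH : IsNumSG H) {e : ℕ} (he : e ∈ H) (hpos : 0 < e) :
    W4c6gradedringsgw.IsSymmetric H ↔ ∃! w, w ∈ maxAp H e := by
  constructor
  · rintro ⟨d, hd⟩
    have hd' : ∀ n : ℤ, InH H n ↔ ¬ InH H (d - n) := hd
    have hnd : ¬ InH H d := by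
      have := (hd' 0).mp (inH_natCast.mpr hH.zero_mem)
      rwa [sub_zero] at this
    have hd1 : -1 ≤ d := by
      by_contra hlt
      push Not at hlt
      have h1 : ¬ InH H (d - (-1)) := not_inH_of_neg (by omega)
      have := (hd' (-1)).mpr h1
      exact not_inH_of_neg (by norm_num) this
    have hgt : ∀ n : ℤ, d < n → InH H n := by
      intro n hn
      exact (hd' n).mpr (not_inH_of_neg (by omega))
    refine ⟨(d + e).toNat, frob_add_mem_maxAp hH hpos hd1 hnd hgt, ?_⟩
    rintro w ⟨hwH, hws, hwmax⟩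
    have hnot : ¬ InH H ((w : ℤ) - e) := by
      rintro ⟨x, hx, hxe⟩
      apply hws
      have hle : e ≤ w := by omega
      refine ⟨hle, ?_⟩
      have : w - e = x := by omega
      rwa [this]
    have h2 : InH H (d - ((w : ℤ) - e)) := by
      by_contra hcon
      have := (hd' ((w : ℤ) - e)).mpr hcon
      exact hnot this
    obtain ⟨h, hh, hhe⟩ := h2
    rcases Nat.eq_zero_or_pos h with h0 | hhpos
    · subst h0
      have : (d + e) = w := by push_cast at hhe; omega
      rw [this]
      exact (Int.toNat_natCast w).symm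
    · exfalso
      obtain ⟨hle, hmem⟩ := hwmax h hh hhpos
      apply hnd
      rw [← inH_natCast] at hmem
      have : ((w + h - e : ℕ) : ℤ) = d := by
        rw [Nat.cast_sub hle]; push_cast; omega
      rwa [this] at hmem
  · rintro ⟨w₀, hw₀, huniq⟩
    obtain ⟨F, hF1, hF2, hF3⟩ := exists_frobenius hH
    have hFe := frob_add_mem_maxAp hH hpos hF1 hF2 hF3
    have hw₀eq : (F + e).toNat = w₀ := huniq _ hFe
    have h0 : 0 ≤ F + e := by omega
    have hcast : ((w₀ : ℕ) : ℤ) = F + e := by
      rw [← hw₀eq]; exact Int.toNat_of_nonneg h0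
    refine ⟨F, fun n => ?_⟩
    show InH H n ↔ ¬ InH H (F - n)
    constructor
    · intro hn hFn
      apply hF2
      have := InH.add hH hn hFn
      rwa [add_sub_cancel] at this
    · intro hFn
      by_contra hn
      apply hFn
      rcases lt_or_ge n 0 with hneg | hnn
      · exact hF3 _ (by omega)
      · lift n to ℕ using hnn
        have hnH : n ∉ H := fun h => hn (inH_natCast.mpr h)
        obtain ⟨c, hc⟩ := hH.cofinite
        have hex : ∃ j : ℕ, n + j * e ∈ H := ⟨c, hc _ (by nlinarith)⟩
        classical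
        let j := Nat.find hex
        have hj : n + j * e ∈ H := Nat.find_spec hex
        have hj0 : j ≠ 0 := by
          intro h0
          rw [h0, zero_mul, add_zero] at hj
          exact hnH hj
        have hjmin : n + (j - 1) * e ∉ H := Nat.find_min hex (by omega)
        have hws : n + j * e ∉ shift H e := by
          rintro ⟨-, hmem⟩
          apply hjmin
          have : n + j * e - e = n + (j - 1) * e := by
            obtain ⟨i, hi⟩ := Nat.exists_eq_succ_of_ne_zero hj0
            rw [hi, Nat.succ_sub_one, Nat.succ_mul]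
            omega
          rwa [this] at hmem
        obtain ⟨w', hw', hle, hsub⟩ := exists_maxAp_ge hH (n + j * e) hj hws
        have hw'eq : w' = w₀ := huniq _ hw'
        subst hw'eq
        have h1 : InH H (((w' - (n + j * e) : ℕ) : ℤ)) := inH_natCast.mpr hsub
        have h2 : InH H ((((j - 1) * e : ℕ)) : ℤ) := inH_natCast.mpr (mul_mem hH he _)
        have := InH.add hH h1 h2
        have heq : ((w' - (n + j * e) : ℕ) : ℤ) + (((j - 1) * e : ℕ) : ℤ) = F - n := by
          rw [Nat.cast_sub hle]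
          obtain ⟨i, hi⟩ := Nat.exists_eq_succ_of_ne_zero hj0
          rw [hi, Nat.succ_sub_one]
          push_cast
          rw [hcast]
          ring
        rwa [heq] at this

end Groth.Agent.Lib.LeadWS
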