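import Mathlib
import Groth.Agent.Lib.LeadWSb
import Groth.Agent.Lib.Helper5GorArt

/-!
# The semigroup algebra `k[H] ⊆ k[X]` of a numerical semigroup and its Artinian reduction (lead)

`semiAlg k hH` is the subalgebra of `k[X]` of polynomials supported in `H`; for `e ∈ H` positive,
`D = k[H]/(X^e)` is an Artinian local ring whose socle is spanned by the `X^w`, `w ∈ maxAp H e`.
-/

set_option autoImplicit false
set_option maxHeartbeats 400000
set_option synthInstance.maxHeartbeats 200000
set_option linter.style.haveILetI false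
set_option linter.unusedSectionVars false
set_option linter.unusedVariables false

universe u

noncomputable section

namespace Groth.Agent.Lib.LeadWS

open Polynomial

variable (k : Type u) [Field k] {H : Set ℕ}

/-- The semigroup algebra of `H` as a subalgebra of `k[X]`. -/
def semiAlg (hH : IsNumSG H) : Subalgebra k k[X] where
  carrier := {p | ∀ n, p.coeff n ≠ 0 → n ∈ H}
  mul_mem' := by
    intro p q hp hq n hn
    rw [coeff_mul] at hn
    obtain ⟨x, hx, hne⟩ := Finset.exists_ne_zero_of_sum_ne_zero hn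
    have h1 : p.coeff x.1 ≠ 0 := left_ne_zero_of_mul hne
    have h2 : q.coeff x.2 ≠ 0 := right_ne_zero_of_mul hne
    rw [← Finset.HasAntidiagonal.mem_antidiagonal.mp hx]
    exact hH.add_mem _ (hp _ h1) _ (hq _ h2)
  add_mem' := by
    intro p q hp hq n hn
    rw [coeff_add] at hn
    by_cases h : p.coeff n = 0
    · rw [h, zero_add] at hn
      exact hq n hn
    · exact hp n h
  algebraMap_mem' := by
    intro c n hn
    rw [Polynomial.algebraMap_apply, Algebra.algebraMap_self_apply, coeff_C] at hn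
    by_cases h : n = 0
    · rw [h]; exact hH.zero_mem
    · rw [if_neg h] at hn
      exact absurd rfl hn

variable {k}

lemma mem_semiAlg (hH : IsNumSG H) {p : k[X]} :
    p ∈ semiAlg k hH ↔ ∀ n, p.coeff n ≠ 0 → n ∈ H := Iff.rfl

lemma X_pow_mem (hH : IsNumSG H) {n : ℕ} (hn : n ∈ H) : (X : k[X]) ^ n ∈ semiAlg k hH := by
  intro m hm
  rw [coeff_X_pow] at hm
  by_cases h : m = n
  · rwa [h]
  · rw [if_neg h] at hm
    exact absurd rfl hm

variable (k) in
open Classical in
/-- The monomial `X^n` as an element of `k[H]` (zero if `n ∉ H`). -/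
def xm (hH : IsNumSG H) (n : ℕ) : semiAlg k hH :=
  if hn : n ∈ H then ⟨X ^ n, X_pow_mem hH hn⟩ else 0

lemma xm_val (hH : IsNumSG H) {n : ℕ} (hn : n ∈ H) : ((xm k hH n : semiAlg k hH) : k[X]) = X ^ n := by
  unfold xm
  rw [dif_pos hn]

/-- Every element of `k[H]` is the sum of its monomials. -/
lemma eq_sum_xm (hH : IsNumSG H) (p : semiAlg k hH) :
    p = ∑ n ∈ p.1.support, p.1.coeff n • xm k hH n := by
  apply Subtype.ext
  rw [AddSubmonoidClass.coe_finsetSum]
  conv_lhs => rw [p.1.as_sum_support_C_mul_X_pow]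
  refine Finset.sum_congr rfl fun n hn => ?_
  have hnH : n ∈ H := p.2 n (mem_support_iff.mp hn)
  show _ = p.1.coeff n • ((xm k hH n : semiAlg k hH) : k[X])
  rw [xm_val hH hnH, smul_eq_C_mul]

section Quot

variable (k) (hH : IsNumSG H) {e : ℕ} (he : e ∈ H) (hpos : 0 < e)

/-- `X^e` as an element of `k[H]`. -/
def xe : semiAlg k hH := ⟨X ^ e, X_pow_mem hH he⟩

lemma xe_ne_zero : (xe k hH he : semiAlg k hH) ≠ 0 := by
  intro h
  have := congrArg Subtype.val h
  exact pow_ne_zero e X_ne_zero this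

/-- Membership in the ideal `(X^e)` of `k[H]`. -/
lemma mem_span_xe_iff (p : semiAlg k hH) :
    p ∈ Ideal.span {xe k hH he} ↔ ∀ n, p.1.coeff n ≠ 0 → n ∈ shift H e := by
  constructor
  · intro h n hn
    obtain ⟨q, rfl⟩ := Ideal.mem_span_singleton'.mp h
    have hval : ((q * xe k hH he : semiAlg k hH) : k[X]) = q.1 * X ^ e := rfl
    rw [hval, coeff_mul_X_pow'] at hn
    by_cases hle : e ≤ n
    · rw [if_pos hle] at hn
      exact ⟨hle, q.2 _ hn⟩
    · rw [if_neg hle] at hn
      exact absurd rfl hn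
  · intro h
    have hdvd : (X : k[X]) ^ e ∣ p.1 := by
      rw [X_pow_dvd_iff]
      intro d hd
      by_contra hne
      have := (h d hne).1
      omega
    obtain ⟨q, hq⟩ := hdvd
    have hqmem : q ∈ semiAlg k hH := by
      intro m hm
      have h1 : p.1.coeff (m + e) = q.coeff m := by
        rw [hq, coeff_X_pow_mul]
      have h2 := h (m + e) (by rw [h1]; exact hm)
      have : m + e - e = m := by omega
      rw [← this]
      exact h2.2
    rw [Ideal.mem_span_singleton']
    refine ⟨⟨q, hqmem⟩, ?_⟩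
    apply Subtype.ext
    show q * X ^ e = p.1
    rw [hq, mul_comm]

/-- The Artinian reduction `k[H]/(X^e)`. -/
abbrev DQ : Type u := semiAlg k hH ⧸ Ideal.span {xe k hH he}

/-- The constant-coefficient map on `k[H]`. -/
def eps : semiAlg k hH →+* k := (Polynomial.constantCoeff).comp (semiAlg k hH).val.toRingHom

lemma eps_apply (p : semiAlg k hH) : eps k hH p = p.1.coeff 0 := rfl

include hpos in
lemma eps_xe : eps k hH (xe k hH he) = 0 := by
  rw [eps_apply]
  show ((X : k[X]) ^ e).coeff 0 = 0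
  rw [coeff_X_pow, if_neg (by omega)]

/-- The constant-coefficient map on `k[H]/(X^e)`. -/
def epsBar : DQ k hH he →+* k :=
  Ideal.Quotient.lift _ (eps k hH) (by
    intro a ha
    obtain ⟨q, rfl⟩ := Ideal.mem_span_singleton'.mp ha
    rw [map_mul, eps_xe k hH he hpos, mul_zero])

lemma epsBar_mk (p : semiAlg k hH) :
    epsBar k hH he hpos (Ideal.Quotient.mk _ p) = p.1.coeff 0 := rfl

/-- Elements with vanishing constant coefficient are nilpotent modulo `X^e`. -/
lemma pow_mem_span_of_coeff_zero (p : semiAlg k hH) (hp : p.1.coeff 0 = 0) :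
    ∃ N : ℕ, p ^ N ∈ Ideal.span {xe k hH he} := by
  obtain ⟨c, hc⟩ := hH.cofinite
  refine ⟨e + c, ?_⟩
  rw [mem_span_xe_iff]
  intro n hn
  have hX : (X : k[X]) ∣ p.1 := X_dvd_iff.mpr hp
  have hXN : (X : k[X]) ^ (e + c) ∣ p.1 ^ (e + c) := pow_dvd_pow_of_dvd hX _
  have hval : ((p ^ (e + c) : semiAlg k hH) : k[X]) = p.1 ^ (e + c) := rfl
  rw [hval] at hn
  have hge : e + c ≤ n := by
    by_contra hlt
    push Not at hlt
    exact hn (X_pow_dvd_iff.mp hXN n hlt)
  exact ⟨by omega, hc _ (by omega)⟩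

include hpos in
lemma one_notMem_span : (1 : semiAlg k hH) ∉ Ideal.span {xe k hH he} := by
  intro h
  have := (mem_span_xe_iff k hH he 1).mp h 0 (by
    show (1 : k[X]).coeff 0 ≠ 0
    rw [coeff_one_zero]; exact one_ne_zero)
  have := this.1
  omega

include hpos in
lemma nontrivial_DQ : Nontrivial (DQ k hH he) := by
  apply Ideal.Quotient.nontrivial_iff.mpr
  intro h
  exact one_notMem_span k hH he hpos (h ▸ Submodule.mem_top)

lemma isNilpotent_of_epsBar_eq_zero (d : DQ k hH he) (hd : epsBar k hH he hpos d = 0) :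
    IsNilpotent d := by
  obtain ⟨p, rfl⟩ := Ideal.Quotient.mk_surjective d
  rw [epsBar_mk] at hd
  obtain ⟨N, hN⟩ := pow_mem_span_of_coeff_zero k hH he p hd
  exact ⟨N, by rw [← map_pow]; exact Ideal.Quotient.eq_zero_iff_mem.mpr hN⟩

lemma isUnit_of_epsBar_ne_zero (d : DQ k hH he) (hd : epsBar k hH he hpos d ≠ 0) : IsUnit d := by
  set a := epsBar k hH he hpos d with ha
  let ι : k →+* DQ k hH he := (Ideal.Quotient.mk _).comp (algebraMap k (semiAlg k hH))
  have hι : ∀ c : k, epsBar k hH he hpos (ι c) = c := by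
    intro c
    show epsBar k hH he hpos (Ideal.Quotient.mk _ (algebraMap k (semiAlg k hH) c)) = c
    rw [epsBar_mk]
    show (algebraMap k k[X] c).coeff 0 = c
    rw [Polynomial.algebraMap_apply, Algebra.algebraMap_self_apply, coeff_C_zero]
  have h1 : epsBar k hH he hpos (1 - ι a⁻¹ * d) = 0 := by
    rw [map_sub, map_one, map_mul, hι, ← ha, inv_mul_cancel₀ hd, sub_self]
  have hnil := isNilpotent_of_epsBar_eq_zero k hH he hpos _ h1
  have hu : IsUnit (ι a⁻¹ * d) := by
    have := hnil.isUnit_one_sub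
    rwa [sub_sub_cancel] at this
  obtain ⟨u, hu'⟩ := hu
  exact ⟨⟨d, ι a⁻¹ * ↑u⁻¹, by
    calc d * (ι a⁻¹ * ↑u⁻¹) = (ι a⁻¹ * d) * ↑u⁻¹ := by ring
      _ = 1 := by rw [← hu']; exact u.mul_inv, by
    calc ι a⁻¹ * ↑u⁻¹ * d = ↑u⁻¹ * (ι a⁻¹ * d) := by ring
      _ = 1 := by rw [← hu']; exact u.inv_mul⟩, rfl⟩

include hpos in
lemma isLocalRing_DQ : IsLocalRing (DQ k hH he) := by
  haveI := nontrivial_DQ k hH he hpos
  haveI : IsLocalHom (epsBar k hH he hpos) :=
    ⟨fun d hd => isUnit_of_epsBar_ne_zero k hH he hpos d hd.ne_zero⟩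
  exact (epsBar k hH he hpos).domain_isLocalRing

lemma mem_maximalIdeal_DQ [IsLocalRing (DQ k hH he)] (d : DQ k hH he) :
    d ∈ IsLocalRing.maximalIdeal (DQ k hH he) ↔ epsBar k hH he hpos d = 0 := by
  rw [IsLocalRing.mem_maximalIdeal, mem_nonunits_iff]
  constructor
  · intro h
    by_contra hne
    exact h (isUnit_of_epsBar_ne_zero k hH he hpos d hne)
  · intro h hu
    have := hu.map (epsBar k hH he hpos)
    rw [h] at this
    exact not_isUnit_zero this

variable {k} in
lemma coeff_xm_ne_zero {n m : ℕ} (h : ((xm k hH n : semiAlg k hH) : k[X]).coeff m ≠ 0) :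
    m = n ∧ n ∈ H := by
  by_cases hn : n ∈ H
  · rw [xm_val hH hn, coeff_X_pow] at h
    by_cases hmn : m = n
    · exact ⟨hmn, hn⟩
    · rw [if_neg hmn] at h
      exact absurd rfl h
  · unfold xm at h
    rw [dif_neg hn] at h
    exact absurd (coeff_zero m) h

lemma mk_xm_eq_zero_of_mem_shift {n : ℕ} (hn : n ∈ shift H e) :
    (Ideal.Quotient.mk (Ideal.span {xe k hH he}) (xm k hH n)) = 0 := by
  rw [Ideal.Quotient.eq_zero_iff_mem, mem_span_xe_iff]
  intro m hm
  obtain ⟨rfl, -⟩ := coeff_xm_ne_zero hH hm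
  exact hn

lemma finite_DQ : Module.Finite k (DQ k hH he) := by
  classical
  obtain ⟨c, hc⟩ := hH.cofinite
  refine ⟨⟨(Finset.range (e + c)).image
    (fun n => Ideal.Quotient.mk (Ideal.span {xe k hH he}) (xm k hH n)), ?_⟩⟩
  rw [eq_top_iff]
  rintro d -
  obtain ⟨p, rfl⟩ := Ideal.Quotient.mk_surjective d
  have hsum := congrArg (Ideal.Quotient.mk (Ideal.span {xe k hH he})) (eq_sum_xm hH p)
  rw [hsum, map_sum]
  refine Submodule.sum_mem _ fun n hn => ?_
  have hsm : Ideal.Quotient.mk (Ideal.span {xe k hH he}) (p.1.coeff n • xm k hH n) =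
      p.1.coeff n • Ideal.Quotient.mk (Ideal.span {xe k hH he}) (xm k hH n) := rfl
  rw [hsm]
  by_cases hlt : n < e + c
  · exact Submodule.smul_mem _ _ (Submodule.subset_span
      (Finset.mem_coe.mpr (Finset.mem_image_of_mem _ (Finset.mem_range.mpr hlt))))
  · rw [mk_xm_eq_zero_of_mem_shift k hH he ⟨by omega, hc _ (by omega)⟩, smul_zero]
    exact zero_mem _

lemma isArtinianRing_DQ : IsArtinianRing (DQ k hH he) := by
  haveI := finite_DQ k hH he
  exact IsArtinianRing.of_finite k _

end Quot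

end Groth.Agent.Lib.LeadWS
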