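import Mathlib
import Groth.Agent.Lib.LeadWSa
import Groth.Agent.Lib.LeadWSc

/-!
# Kunz's theorem: `k[H]` is Gorenstein iff `H` is symmetric (lead)
-/

set_option autoImplicit false
set_option maxHeartbeats 400000
set_option synthInstance.maxHeartbeats 200000
set_option linter.style.haveILetI false
set_option linter.unusedSectionVars false
set_option linter.unusedVariables false

universe u

noncomputable section

namespace Groth.Agent.Lib.LeadWS

open Polynomial Groth.Agent.Lib.Helper5.GorArt

variable (k : Type u) [Field k] {H : Set ℕ} (hH : IsNumSG H) {e : ℕ} (he : e ∈ H) (hpos : 0 < e)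

include hpos in
/-- Description of the socle of `k[H]/(X^e)`. -/
lemma mk_mem_soc_iff [IsLocalRing (DQ k hH he)] (p : semiAlg k hH) :
    Ideal.Quotient.mk (Ideal.span {xe k hH he}) p ∈ soc (DQ k hH he) ↔
      ∀ n, p.1.coeff n ≠ 0 → n ∈ shift H e ∨ n ∈ maxAp H e := by
  constructor
  · intro h n hn
    by_cases hns : n ∈ shift H e
    · exact Or.inl hns
    · refine Or.inr ⟨p.2 n hn, hns, fun h' hh' hh'pos => ?_⟩
      have hmax : Ideal.Quotient.mk (Ideal.span {xe k hH he}) (xm k hH h') ∈
          IsLocalRing.maximalIdeal (DQ k hH he) := by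
        rw [mem_maximalIdeal_DQ k hH he hpos, epsBar_mk, xm_val hH hh', coeff_X_pow,
          if_neg (by omega)]
      have h0 := h _ hmax
      rw [← map_mul, Ideal.Quotient.eq_zero_iff_mem, mem_span_xe_iff] at h0
      have hval : ((xm k hH h' * p : semiAlg k hH) : k[X]) = X ^ h' * p.1 := by
        show ((xm k hH h' : semiAlg k hH) : k[X]) * p.1 = _
        rw [xm_val hH hh']
      apply h0 (n + h')
      rw [hval, coeff_X_pow_mul]
      exact hn
  · intro h x hx
    obtain ⟨q, rfl⟩ := Ideal.Quotient.mk_surjective x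
    rw [mem_maximalIdeal_DQ k hH he hpos, epsBar_mk] at hx
    rw [← map_mul, Ideal.Quotient.eq_zero_iff_mem, mem_span_xe_iff]
    intro m hm
    have hval : ((q * p : semiAlg k hH) : k[X]) = q.1 * p.1 := rfl
    rw [hval, coeff_mul] at hm
    obtain ⟨x, hx', hne⟩ := Finset.exists_ne_zero_of_sum_ne_zero hm
    have h1 : q.1.coeff x.1 ≠ 0 := left_ne_zero_of_mul hne
    have h2 : p.1.coeff x.2 ≠ 0 := right_ne_zero_of_mul hne
    have hsum : x.1 + x.2 = m := Finset.HasAntidiagonal.mem_antidiagonal.mp hx'
    have hx1 : x.1 ∈ H := q.2 _ h1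
    have hx1pos : 0 < x.1 := by
      rcases Nat.eq_zero_or_pos x.1 with h0 | h0
      · rw [h0] at h1; exact absurd hx h1
      · exact h0
    rw [← hsum, add_comm]
    rcases h _ h2 with hs | hm'
    · exact mem_shift_of_add hH hs hx1
    · exact hm'.2.2 _ hx1 hx1pos

include hpos in
/-- `k[H]/(X^e)` has principal socle iff the Apéry set has a unique maximal element. -/
theorem T1_DQ_iff [IsLocalRing (DQ k hH he)] :
    T1 (DQ k hH he) ↔ ∃! w, w ∈ maxAp H e := by
  constructor
  · rintro ⟨s, hs0, hsoc⟩
    obtain ⟨p, rfl⟩ := Ideal.Quotient.mk_surjective s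
    have hsmem : Ideal.Quotient.mk (Ideal.span {xe k hH he}) p ∈ soc (DQ k hH he) := by
      rw [hsoc]; exact Ideal.mem_span_singleton_self _
    -- existence
    have hex : ∃ w, w ∈ maxAp H e := by
      by_contra hno
      push Not at hno
      apply hs0
      rw [Ideal.Quotient.eq_zero_iff_mem, mem_span_xe_iff]
      intro n hn
      rcases (mk_mem_soc_iff k hH he hpos p).mp hsmem n hn with h | h
      · exact h
      · exact absurd h (hno n)
    obtain ⟨w, hw⟩ := hex
    refine ⟨w, hw, fun w' hw' => ?_⟩
    -- both monomials are scalar multiples of `s`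
    have key : ∀ v, v ∈ maxAp H e → ∃ α : k, α ≠ 0 ∧
        Ideal.Quotient.mk (Ideal.span {xe k hH he}) (xm k hH v) =
          Ideal.Quotient.mk (Ideal.span {xe k hH he}) (algebraMap k (semiAlg k hH) α * p) := by
      intro v hv
      have hvsoc : Ideal.Quotient.mk (Ideal.span {xe k hH he}) (xm k hH v) ∈ soc (DQ k hH he) := by
        rw [mk_mem_soc_iff k hH he hpos]
        intro n hn
        obtain ⟨rfl, -⟩ := coeff_xm_ne_zero hH hn
        exact Or.inr hv
      rw [hsoc] at hvsoc
      obtain ⟨a, ha⟩ := Ideal.mem_span_singleton'.mp hvsoc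
      obtain ⟨q, rfl⟩ := Ideal.Quotient.mk_surjective a
      -- q = q₀ + (q - q₀), the second part kills `s`
      set α : k := q.1.coeff 0 with hα
      have hkill : Ideal.Quotient.mk (Ideal.span {xe k hH he}) (q - algebraMap k (semiAlg k hH) α) *
          Ideal.Quotient.mk (Ideal.span {xe k hH he}) p = 0 := by
        apply hsmem
        rw [mem_maximalIdeal_DQ k hH he hpos, epsBar_mk]
        show (q.1 - algebraMap k k[X] α).coeff 0 = 0
        rw [coeff_sub, Polynomial.algebraMap_apply, Algebra.algebraMap_self_apply, coeff_C_zero,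
          hα, sub_self]
      have heq : Ideal.Quotient.mk (Ideal.span {xe k hH he}) (xm k hH v) =
          Ideal.Quotient.mk (Ideal.span {xe k hH he}) (algebraMap k (semiAlg k hH) α * p) := by
        rw [← ha, map_mul, ← sub_eq_zero, ← sub_mul, ← map_sub]
        exact hkill
      refine ⟨α, ?_, heq⟩
      rintro h0
      rw [h0, map_zero, zero_mul, map_zero, Ideal.Quotient.eq_zero_iff_mem, mem_span_xe_iff] at heq
      have := heq v (by rw [xm_val hH hv.1, coeff_X_pow, if_pos rfl]; exact one_ne_zero)
      exact hv.2.1 this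
    obtain ⟨α, hα0, hα⟩ := key w hw
    obtain ⟨β, hβ0, hβ⟩ := key w' hw'
    by_contra hne
    -- β • X^w - α • X^{w'} ∈ (X^e)
    have hmem : algebraMap k (semiAlg k hH) β * xm k hH w -
        algebraMap k (semiAlg k hH) α * xm k hH w' ∈ Ideal.span {xe k hH he} := by
      rw [← Ideal.Quotient.eq_zero_iff_mem, map_sub, map_mul, map_mul, hα, hβ, map_mul, map_mul,
        sub_eq_zero]
      ring
    rw [mem_span_xe_iff] at hmem
    have hcoef : ((algebraMap k (semiAlg k hH) β * xm k hH w -
        algebraMap k (semiAlg k hH) α * xm k hH w' : semiAlg k hH) : k[X]).coeff w = β := by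
      show (algebraMap k k[X] β * ((xm k hH w : semiAlg k hH) : k[X]) -
        algebraMap k k[X] α * ((xm k hH w' : semiAlg k hH) : k[X])).coeff w = β
      rw [xm_val hH hw.1, xm_val hH hw'.1, Polynomial.algebraMap_apply, Polynomial.algebraMap_apply,
        Algebra.algebraMap_self_apply, Algebra.algebraMap_self_apply, coeff_sub, coeff_C_mul,
        coeff_C_mul, coeff_X_pow, coeff_X_pow, if_pos rfl, if_neg (fun h => hne h.symm), mul_one,
        mul_zero, sub_zero]
    exact hw.2.1 (hmem w (by rw [hcoef]; exact hβ0))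
  · rintro ⟨w, hw, huniq⟩
    refine ⟨Ideal.Quotient.mk (Ideal.span {xe k hH he}) (xm k hH w), ?_, ?_⟩
    · intro h0
      rw [Ideal.Quotient.eq_zero_iff_mem, mem_span_xe_iff] at h0
      exact hw.2.1 (h0 w (by rw [xm_val hH hw.1, coeff_X_pow, if_pos rfl]; exact one_ne_zero))
    · apply le_antisymm
      · intro d hd
        obtain ⟨p, rfl⟩ := Ideal.Quotient.mk_surjective d
        rw [mk_mem_soc_iff k hH he hpos] at hd
        rw [Ideal.mem_span_singleton']
        refine ⟨Ideal.Quotient.mk (Ideal.span {xe k hH he})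
          (algebraMap k (semiAlg k hH) (p.1.coeff w)), ?_⟩
        rw [← map_mul, ← sub_eq_zero, ← map_sub, Ideal.Quotient.eq_zero_iff_mem, mem_span_xe_iff]
        intro n hn
        have hval : ((algebraMap k (semiAlg k hH) (p.1.coeff w) * xm k hH w - p : semiAlg k hH) :
            k[X]).coeff n = (if n = w then p.1.coeff w else 0) - p.1.coeff n := by
          show (algebraMap k k[X] (p.1.coeff w) * ((xm k hH w : semiAlg k hH) : k[X]) -
            p.1).coeff n = _
          rw [xm_val hH hw.1, Polynomial.algebraMap_apply, Algebra.algebraMap_self_apply,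
            coeff_sub, coeff_C_mul, coeff_X_pow, mul_ite, mul_one, mul_zero]
        rw [hval] at hn
        by_cases hnw : n = w
        · rw [if_pos hnw, hnw, sub_self] at hn
          exact absurd rfl hn
        · rw [if_neg hnw, zero_sub, neg_ne_zero] at hn
          rcases hd n hn with h | h
          · exact h
          · exact absurd (huniq n h) hnw
      · rw [Ideal.span_singleton_le_iff_mem, mk_mem_soc_iff k hH he hpos]
        intro n hn
        obtain ⟨rfl, -⟩ := coeff_xm_ne_zero hH hn
        exact Or.inr hw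


/-- `X^e` is a regular element of `k[H]`. -/
lemma isSMulRegular_xe : IsSMulRegular (semiAlg k hH) (xe k hH he) := by
  intro x y h
  have h' : xe k hH he * x = xe k hH he * y := h
  have h1 : (X : k[X]) ^ e * x.1 = X ^ e * y.1 := congrArg Subtype.val h'
  exact Subtype.ext (mul_left_cancel₀ (pow_ne_zero e X_ne_zero) h1)

include hpos in
/-- Away from `X^e`, the ring `k[H]` is Gorenstein (it is a localization of `k[X]`). -/
lemma gorLocal_semiAlg_of_notMem (P : Ideal (semiAlg k hH)) [P.IsPrime] (hP : xe k hH he ∉ P) :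
    LocCoh.IsGorensteinLocalRing (Localization.AtPrime P) := by
  haveI : LocCoh.IsGorensteinRing k[X] := Helper5.GorRing.gorRing_of_isRegularRing k[X]
  obtain ⟨c, hc⟩ := hH.cofinite
  refine gorLocal_atPrime_of_injective (B := k[X]) (semiAlg k hH).val.toRingHom
    Subtype.val_injective (xe k hH he) (xe_ne_zero k hH he) ?_ P hP
  intro b
  have hmem : (X : k[X]) ^ (e * c) * b ∈ semiAlg k hH := by
    intro n hn
    apply hc
    by_contra hlt
    push Not at hlt
    apply hn
    rw [coeff_X_pow_mul']
    rw [if_neg]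
    have : c ≤ e * c := Nat.le_mul_of_pos_left c hpos
    omega
  refine ⟨c, ⟨_, hmem⟩, ?_⟩
  show (X : k[X]) ^ (e * c) * b = ((X : k[X]) ^ e) ^ c * b
  rw [pow_mul]

include he hpos in
/-- **Kunz's theorem** for the positive element `e`. -/
theorem gorRing_semiAlg_iff_aux [IsNoetherianRing (semiAlg k hH)] :
    LocCoh.IsGorensteinRing (semiAlg k hH) ↔ W4c6gradedringsgw.IsSymmetric H := by
  haveI := isLocalRing_DQ k hH he hpos
  haveI := isArtinianRing_DQ k hH he
  rw [isSymmetric_iff_existsUnique_maxAp hH he hpos, ← T1_DQ_iff k hH he hpos]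
  constructor
  · intro hG
    haveI : LocCoh.IsGorensteinRing (DQ k hH he) :=
      Helper5.GorRing.gorRing_quotient_of_regular (xe k hH he) (isSMulRegular_xe k hH he)
    haveI := LeadGS.gorLocal_of_gorRing_of_isLocalRing (DQ k hH he)
    exact T1_of_gor (DQ k hH he)
  · intro hT
    haveI hD : LocCoh.IsGorensteinLocalRing (DQ k hH he) := gor_of_T1 (DQ k hH he) hT
    haveI : LocCoh.IsGorensteinRing (DQ k hH he) :=
      { isGorensteinLocalRing_localization := fun q hq =>
          gorLocal_atPrime_of_gorLocal_of_artinian (DQ k hH he) q }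
    exact gorRing_of_quotient_of_away (xe k hH he) (isSMulRegular_xe k hH he)
      (fun P hP hxe => gorLocal_semiAlg_of_notMem k hH he hpos P hxe)

/-- **Kunz's theorem**: the semigroup algebra of a numerical semigroup is Gorenstein iff the
semigroup is symmetric. -/
theorem gorRing_semiAlg_iff [IsNoetherianRing (semiAlg k hH)] :
    LocCoh.IsGorensteinRing (semiAlg k hH) ↔ W4c6gradedringsgw.IsSymmetric H := by
  obtain ⟨c, hc⟩ := hH.cofinite
  exact gorRing_semiAlg_iff_aux k hH (e := c + 1) (hc _ (Nat.le_succ c)) (Nat.succ_pos c)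

end Groth.Agent.Lib.LeadWS
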