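import Mathlib
import Groth.Agent.Lib.Helper27Sect8
import Groth.Agent.Lib.LeadWSd

/-!
# The section ring `R_{X,P}` is of finite type and `R/tR ≅ k[H]` (concrete form) (lead)
-/

set_option autoImplicit false
set_option maxHeartbeats 400000
set_option linter.style.haveILetI false
set_option linter.unusedSectionVars false
set_option linter.unusedVariables false

universe u

noncomputable section

namespace Groth.Agent.Lib.LeadWS

open FunFld WithZero Polynomial Groth.Agent.Lib.LeadFF Groth.Agent.Lib.Helper27Sect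

variable {k K : Type u} [Field k] [Field K] [Algebra k K]

section
variable [IsAlgClosed k] (hK : IsFunctionField k K) (P : Place k K)

include hK in
/-- Subtracting the leading term (in `K`). -/
lemma exists_sub_smul_mem {n : ℕ} {y f : K}
    (hy : y ∈ L (Finsupp.single P ((n + 1 : ℕ) : ℤ) : Divisor k K))
    (hy1 : P.1 y = exp ((n + 1 : ℕ) : ℤ))
    (hf : f ∈ L (Finsupp.single P ((n + 1 : ℕ) : ℤ) : Divisor k K)) :
    ∃ c : k, f - c • y ∈ L (Finsupp.single P (n : ℤ) : Divisor k K) := by
  obtain ⟨π, hπ⟩ := exists_unif P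
  have hvy := val_mul_pow_eq_one hπ hy1
  have hu0 : resK hK P (y * π ^ (n + 1)) ≠ 0 := by
    intro h
    rw [resK_eq_zero_iff hK P hvy.le, hvy] at h
    exact lt_irrefl _ h
  set c : k := resK hK P (f * π ^ (n + 1)) / resK hK P (y * π ^ (n + 1)) with hc
  have hcy : c • y ∈ L (Finsupp.single P ((n + 1 : ℕ) : ℤ) : Divisor k K) :=
    Submodule.smul_mem _ c hy
  have hg : f - c • y ∈ L (Finsupp.single P ((n + 1 : ℕ) : ℤ) : Divisor k K) := sub_mem hf hcy
  have hgv : P.1 ((f - c • y) * π ^ (n + 1)) < 1 := by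
    rw [← resK_eq_zero_iff hK P (val_mul_pow_le hπ hg)]
    have e : (f - c • y) * π ^ (n + 1) = f * π ^ (n + 1) - algebraMap k K c * (y * π ^ (n + 1)) := by
      rw [Algebra.smul_def]; ring
    have hle2 : P.1 (algebraMap k K c * (y * π ^ (n + 1))) ≤ 1 := by
      rw [map_mul]; exact mul_le_one' (P.2.1 c) hvy.le
    rw [e, resK_sub hK P (val_mul_pow_le hπ hf) hle2, resK_smul hK P c hvy.le, hc,
      div_mul_cancel₀ _ hu0, sub_self]
  have hle : P.1 (f - c • y) ≤ exp (n : ℤ) := by
    have := (val_mul_pow_lt_iff hπ).mp hgv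
    refine this.trans_eq ?_
    congr 1
    push_cast
    ring
  exact ⟨c, mem_L_pred_of_le hg hle⟩

include hK in
/-- Subtracting the leading term (in the section ring). -/
lemma exists_split {n : ℕ} {y f : K}
    (hy : y ∈ L (Finsupp.single P ((n + 1 : ℕ) : ℤ) : Divisor k K))
    (hy1 : P.1 y = exp ((n + 1 : ℕ) : ℤ))
    (hf : f ∈ L (Finsupp.single P ((n + 1 : ℕ) : ℤ) : Divisor k K)) :
    ∃ (c : k) (g : K), g ∈ L (Finsupp.single P (n : ℤ) : Divisor k K) ∧
      mono P (n + 1) f = c • mono P (n + 1) y + tX P * mono P n g := by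
  obtain ⟨c, hgL⟩ := exists_sub_smul_mem hK P hy hy1 hf
  have hcy : c • y ∈ L (Finsupp.single P ((n + 1 : ℕ) : ℤ) : Divisor k K) :=
    Submodule.smul_mem _ c hy
  have hg : f - c • y ∈ L (Finsupp.single P ((n + 1 : ℕ) : ℤ) : Divisor k K) := sub_mem hf hcy
  refine ⟨c, f - c • y, hgL, ?_⟩
  rw [← mono_succ_eq hgL, ← mono_smul c hy, ← mono_add hcy hg]
  congr 1
  ring

/-- Every element of the section ring is the sum of its homogeneous components. -/
lemma eq_sum_mono (p : RP P) : p = ∑ n ∈ p.1.support, mono P n (p.1.coeff n) := by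
  apply Subtype.ext
  rw [AddSubmonoidClass.coe_finsetSum]
  conv_lhs => rw [p.1.as_sum_support]
  refine Finset.sum_congr rfl fun n _ => ?_
  rw [mono_val (mem_RP.mp p.2 n)]

include hK in
/-- The section ring is generated by finitely many homogeneous elements. -/
theorem finiteType_RP : Algebra.FiniteType k (RP P) := by
  classical
  have hP := deg_eq_one_of_algClosed hK P
  set N₀ : ℕ := 2 * genus k K + 1 with hN₀
  have hlarge : ∀ n, N₀ ≤ n → ¬ IsGap P n := fun n hn =>
    not_isGap_of_large hK P hP (by omega)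
  -- chosen functions with exact pole order
  have hchoice : ∀ n : ℕ, ∃ x : K, ¬ IsGap P n →
      (P.1 x = exp (n : ℤ) ∧ ∀ Q : Place k K, Q ≠ P → Q.1 x ≤ 1) := by
    intro n
    by_cases h : IsGap P n
    · exact ⟨0, fun h' => absurd h h'⟩
    · obtain ⟨x, hx⟩ := (not_isGap_iff P n).mp h
      exact ⟨x, fun _ => hx⟩
  choose F hF using hchoice
  set G : Finset (RP P) := insert (tX P) ((Finset.range (2 * N₀ + 1)).image fun n => mono P n (F n))
    with hG
  have htG : tX P ∈ Algebra.adjoin k (G : Set (RP P)) :=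
    Algebra.subset_adjoin (by rw [hG]; exact Finset.mem_coe.mpr (Finset.mem_insert_self _ _))
  have hFG : ∀ n, n ≤ 2 * N₀ → mono P n (F n) ∈ Algebra.adjoin k (G : Set (RP P)) := by
    intro n hn
    apply Algebra.subset_adjoin
    rw [hG]
    exact Finset.mem_coe.mpr (Finset.mem_insert_of_mem
      (Finset.mem_image_of_mem _ (Finset.mem_range.mpr (by omega))))
  have key : ∀ n : ℕ, ∀ f ∈ L (Finsupp.single P (n : ℤ) : Divisor k K),
      mono P n f ∈ Algebra.adjoin k (G : Set (RP P)) := by
    intro n
    induction n using Nat.strong_induction_on with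
    | _ n ih =>
      intro f hf
      rcases n with _ | m
      · obtain ⟨c, hc⟩ := exists_const_of_mem_L_zero hK P hf
        have : mono P 0 f = algebraMap k (RP P) c := by
          apply Subtype.ext
          rw [mono_val hf, ← hc]
          show monomial 0 (algebraMap k K c) = algebraMap k K[X] c
          rw [monomial_zero_left, Polynomial.algebraMap_apply]
        rw [this]
        exact Subalgebra.algebraMap_mem _ c
      · by_cases hgap : IsGap P (m + 1)
        · unfold IsGap at hgap
          have h1 : f ∈ L (Finsupp.single P (((m + 1 : ℕ) : ℤ) - 1) : Divisor k K) := hgap ▸ hf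
          have e2 : (((m + 1 : ℕ) : ℤ)) - 1 = (m : ℤ) := by push_cast; ring
          rw [e2] at h1
          rw [mono_succ_eq h1]
          exact Subalgebra.mul_mem _ htG (ih m (by omega) f h1)
        · -- an element of exact pole order `m + 1` in the subalgebra
          obtain ⟨y, hy1, hy2, hyS⟩ : ∃ y : K, P.1 y = exp ((m + 1 : ℕ) : ℤ) ∧
              (∀ Q : Place k K, Q ≠ P → Q.1 y ≤ 1) ∧
              mono P (m + 1) y ∈ Algebra.adjoin k (G : Set (RP P)) := by
            by_cases hsmall : m + 1 ≤ 2 * N₀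
            · exact ⟨F (m + 1), (hF _ hgap).1, (hF _ hgap).2, hFG _ hsmall⟩
            · push Not at hsmall
              have ha : ¬ IsGap P N₀ := hlarge _ le_rfl
              have hb : ¬ IsGap P (m + 1 - N₀) := hlarge _ (by omega)
              obtain ⟨xa, hxa1, hxa2⟩ := (not_isGap_iff P _).mp ha
              obtain ⟨xb, hxb1, hxb2⟩ := (not_isGap_iff P _).mp hb
              have hxaL : xa ∈ L (Finsupp.single P (N₀ : ℤ) : Divisor k K) :=
                mem_L_single.mpr ⟨hxa1.le, hxa2⟩
              have hxbL : xb ∈ L (Finsupp.single P ((m + 1 - N₀ : ℕ) : ℤ) : Divisor k K) :=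
                mem_L_single.mpr ⟨hxb1.le, hxb2⟩
              have hsum : N₀ + (m + 1 - N₀) = m + 1 := by omega
              refine ⟨xa * xb, ?_, fun Q hQ => ?_, ?_⟩
              · rw [map_mul, hxa1, hxb1, ← exp_add, ← Nat.cast_add, hsum]
              · rw [map_mul]; exact mul_le_one' (hxa2 Q hQ) (hxb2 Q hQ)
              · have := mono_mul hxaL hxbL
                rw [hsum] at this
                rw [this]
                exact Subalgebra.mul_mem _ (ih N₀ (by omega) xa hxaL)
                  (ih (m + 1 - N₀) (by omega) xb hxbL)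
          have hyL : y ∈ L (Finsupp.single P ((m + 1 : ℕ) : ℤ) : Divisor k K) :=
            mem_L_single.mpr ⟨hy1.le, hy2⟩
          obtain ⟨c, g, hg, hsplit⟩ := exists_split hK P hyL hy1 hf
          rw [hsplit]
          exact Subalgebra.add_mem _ (Subalgebra.smul_mem _ hyS c)
            (Subalgebra.mul_mem _ htG (ih m (by omega) g hg))
  refine ⟨⟨G, ?_⟩⟩
  rw [eq_top_iff]
  rintro p -
  rw [eq_sum_mono P p]
  exact Subalgebra.sum_mem _ fun n _ => key n _ (mem_RP.mp p.2 n)

include hK in
theorem isNoetherianRing_RP : IsNoetherianRing (RP P) := by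
  haveI := finiteType_RP hK P
  exact Algebra.FiniteType.isNoetherianRing k (RP P)

include hK in
/-- The Weierstrass semigroup is a numerical semigroup. -/
theorem isNumSG_poleOrders : IsNumSG (W4c6gradedringsgw.poleOrders P) := by
  have hP := deg_eq_one_of_algClosed hK P
  refine ⟨?_, ?_, ?_⟩
  · exact (mem_poleOrders_iff hK P 0).mpr (not_isGap_zero P)
  · intro a ha b hb
    rw [mem_poleOrders_iff hK P] at ha hb ⊢
    exact not_isGap_add ha hb
  · exact ⟨2 * genus k K, fun n hn => (mem_poleOrders_iff hK P n).mpr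
      (not_isGap_of_large hK P hP hn)⟩

/-- The range of the leading-coefficient map is the semigroup algebra. -/
theorem range_phi_eq_semiAlg {π : K} (hπ : P.1 π = exp (-1 : ℤ)) :
    (phi hK P hπ).range = semiAlg k (isNumSG_poleOrders hK P) := by
  apply le_antisymm
  · rintro _ ⟨p, rfl⟩
    intro n hn
    exact (mem_poleOrders_iff hK P n).mpr (not_isGap_of_coeff_ne_zero hK P hπ p n hn)
  · intro p hp
    rw [p.as_sum_support_C_mul_X_pow]
    refine Subalgebra.sum_mem _ fun n hn => ?_
    have hnH : n ∈ W4c6gradedringsgw.poleOrders P := hp n (mem_support_iff.mp hn)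
    rw [← smul_eq_C_mul]
    exact Subalgebra.smul_mem _
      (X_pow_mem_range hK P hπ ((mem_poleOrders_iff hK P n).mp hnH)) _

lemma tX_val' : ((tX P : RP P) : K[X]) = C (algebraMap k K 1) * X := by
  rw [tX_val, map_one, C_1, one_mul]

/-- `R/tR ≅ k[H]` with `k[H]` realised inside `k[X]`. -/
theorem nonempty_quotient_equiv :
    Nonempty ((RP P ⧸ Ideal.span {tX P}) ≃+* semiAlg k (isNumSG_poleOrders hK P)) := by
  obtain ⟨π, hπ⟩ := exists_unif P
  have hker := ker_phi hK P hπ (tX P) 1 one_ne_zero (tX_val' P)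
  exact ⟨((Ideal.quotientEquivAlgOfEq k hker.symm).trans
    ((Ideal.quotientKerEquivRange (phi hK P hπ)).trans
      (Subalgebra.equivOfEq _ _ (range_phi_eq_semiAlg hK P hπ)))).toRingEquiv⟩

lemma tX_ne_zero : tX P ≠ 0 := by
  intro h
  have := congrArg Subtype.val h
  rw [tX_val] at this
  exact X_ne_zero this

lemma isSMulRegular_tX : IsSMulRegular (RP P) (tX P) := by
  intro x y h
  have h' : tX P * x = tX P * y := h
  have h1 : ((tX P : RP P) : K[X]) * x.1 = ((tX P : RP P) : K[X]) * y.1 := congrArg Subtype.val h'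
  rw [tX_val] at h1
  exact Subtype.ext (mul_left_cancel₀ X_ne_zero h1)

end

end Groth.Agent.Lib.LeadWS
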