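import Mathlib
import Groth.Agent.Lib.LeadWSe

/-!
# The ring of functions regular away from a place is a Dedekind domain (lead)
-/

set_option autoImplicit false
set_option maxHeartbeats 400000
set_option linter.style.haveILetI false
set_option linter.unusedSectionVars false
set_option linter.unusedVariables false

universe u

noncomputable section

namespace Groth.Agent.Lib.LeadWS

open FunFld WithZero Polynomial Groth.Agent.Lib.LeadFF Groth.Agent.Lib.Helper27Sect

variable {k K : Type u} [Field k] [Field K] [Algebra k K]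

/-- The ring of functions with poles at most at `P`. -/
def holo (P : Place k K) : Subalgebra k K where
  carrier := {f | ∀ Q : Place k K, Q ≠ P → Q.1 f ≤ 1}
  mul_mem' := fun {a b} ha hb Q hQ => by
    rw [map_mul]; exact mul_le_one' (ha Q hQ) (hb Q hQ)
  add_mem' := fun {a b} ha hb Q hQ => (Q.1.map_add _ _).trans (max_le (ha Q hQ) (hb Q hQ))
  algebraMap_mem' := fun c Q _ => Q.2.1 c

lemma mem_holo {P : Place k K} {f : K} : f ∈ holo P ↔ ∀ Q : Place k K, Q ≠ P → Q.1 f ≤ 1 :=
  Iff.rfl

lemma exists_mem_L_of_mem_holo {P : Place k K} {f : K} (hf : f ∈ holo P) :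
    ∃ n : ℕ, f ∈ L (Finsupp.single P (n : ℤ) : Divisor k K) := by
  obtain ⟨M, hM⟩ := zm0_exists_le_exp (P.1 f)
  exact ⟨M, mem_L_single.mpr ⟨hM, hf⟩⟩

lemma mem_holo_of_mem_L {P : Place k K} {n : ℤ} {f : K}
    (hf : f ∈ L (Finsupp.single P n : Divisor k K)) : f ∈ holo P :=
  (mem_L_single.mp hf).2

variable (P : Place k K)

/-- Evaluation at `T = 1`, from the section ring onto the holomorphy ring. -/
def evHolo : RP P →+* holo P :=
  RingHom.codRestrict ((Polynomial.evalRingHom (1 : K)).comp (RP P).val.toRingHom) (holo P) (by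
    intro p
    show Polynomial.eval 1 p.1 ∈ holo P
    rw [Polynomial.eval_eq_sum_range]
    refine Subalgebra.sum_mem _ fun n _ => ?_
    rw [one_pow, mul_one]
    exact mem_holo_of_mem_L (mem_RP.mp p.2 n))

lemma evHolo_surjective : Function.Surjective (evHolo P) := by
  rintro ⟨f, hf⟩
  obtain ⟨n, hn⟩ := exists_mem_L_of_mem_holo hf
  refine ⟨mono P n f, Subtype.ext ?_⟩
  show Polynomial.eval 1 ((mono P n f : RP P) : K[X]) = f
  rw [mono_val hn, Polynomial.eval_monomial, one_pow, mul_one]

/-- The holomorphy ring is integrally closed in `K`. -/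
lemma mem_holo_of_isIntegral {x : K} (hx : IsIntegral (holo P) x) : x ∈ holo P := by
  intro Q hQ
  obtain ⟨p, hp, hpx⟩ := hx
  let ι : holo P →+* Q.1.integer :=
    RingHom.codRestrict (holo P).val.toRingHom Q.1.integer (fun a => a.2 Q hQ)
  have hint : IsIntegral Q.1.integer x := by
    refine ⟨p.map ι, hp.map ι, ?_⟩
    rw [Polynomial.eval₂_map]
    exact hpx
  exact (Valuation.integer.integers Q.1).mem_of_integral hint

theorem isIntegrallyClosed_holo : IsIntegrallyClosed (holo P) := by
  have h1 : IsIntegrallyClosedIn (holo P) K := by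
    rw [isIntegrallyClosedIn_iff]
    exact ⟨Subtype.val_injective, fun {x} hx => ⟨⟨x, mem_holo_of_isIntegral P hx⟩, rfl⟩⟩
  have hinj : Function.Injective (Algebra.ofId (holo P) K) := Subtype.val_injective
  let f : FractionRing (holo P) →ₐ[holo P] K := IsFractionRing.liftAlgHom hinj
  exact AlgHom.isIntegrallyClosedIn f f.toRingHom.injective h1

section AlgClosed

variable [IsAlgClosed k] (hK : IsFunctionField k K)

include hK in
theorem isNoetherianRing_holo : IsNoetherianRing (holo P) := by
  haveI := isNoetherianRing_RP hK P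
  exact isNoetherianRing_of_surjective (RP P) (holo P) (evHolo P) (evHolo_surjective P)

include hK in
/-- A nonzero element of the holomorphy ring has a pole of nonnegative order at `P`. -/
lemma exists_pole_order {a : K} (ha : a ∈ holo P) (ha0 : a ≠ 0) :
    ∃ m : ℕ, P.1 a = exp (m : ℤ) := by
  have hP := deg_eq_one_of_algClosed hK P
  have hval := val_eq_exp_neg_ord P ha0
  by_cases hneg : 0 ≤ -(P.ord a)
  · refine ⟨(-(P.ord a)).toNat, ?_⟩
    rw [hval, Int.toNat_of_nonneg hneg]
  · exfalso
    push Not at hneg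
    have hmem : a ∈ L (Finsupp.single P (-1 : ℤ) : Divisor k K) := by
      refine mem_L_single.mpr ⟨?_, ha⟩
      rw [hval, exp_le_exp]
      omega
    have hbot : L (Finsupp.single P (-1 : ℤ) : Divisor k K) = ⊥ :=
      L_eq_bot_of_deg_neg hK _ (by rw [deg_single, hP]; norm_num)
    rw [hbot, Submodule.mem_bot] at hmem
    exact ha0 hmem

include hK in
/-- Modulo a nonzero element `a`, the holomorphy ring is spanned by some `L(N P)`. -/
theorem exists_bound_mod {a : K} (ha : a ∈ holo P) (ha0 : a ≠ 0) :
    ∃ N : ℕ, ∀ y ∈ holo P, ∃ z ∈ holo P,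
      y - a * z ∈ L (Finsupp.single P (N : ℤ) : Divisor k K) := by
  have hP := deg_eq_one_of_algClosed hK P
  obtain ⟨m, hm⟩ := exists_pole_order P hK ha ha0
  set N₀ : ℕ := 2 * genus k K with hN₀
  refine ⟨N₀ + m, ?_⟩
  have key : ∀ n : ℕ, ∀ y ∈ L (Finsupp.single P (n : ℤ) : Divisor k K), ∃ z ∈ holo P,
      y - a * z ∈ L (Finsupp.single P ((N₀ + m : ℕ) : ℤ) : Divisor k K) := by
    intro n
    induction n with
    | zero =>
      intro y hy
      refine ⟨0, Subalgebra.zero_mem _, ?_⟩
      rw [mul_zero, sub_zero]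
      exact L_mono (single_mono P (by positivity)) hy
    | succ n ih =>
      intro y hy
      by_cases hle : P.1 y ≤ exp (n : ℤ)
      · exact ih y (mem_L_pred_of_le hy hle)
      · by_cases hsmall : n + 1 ≤ N₀ + m
        · refine ⟨0, Subalgebra.zero_mem _, ?_⟩
          rw [mul_zero, sub_zero]
          exact L_mono (single_mono P (by exact_mod_cast hsmall)) hy
        · push Not at hsmall hle
          -- exact pole order `n + 1`
          have hy1 : P.1 y = exp ((n + 1 : ℕ) : ℤ) := by
            apply le_antisymm (mem_L_single.mp hy).1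
            rw [← not_lt, zm0_lt_exp_iff]
            have e : (((n + 1 : ℕ) : ℤ)) - 1 = (n : ℤ) := by push_cast; ring
            rw [e]
            exact not_le.mpr hle
          have hb : ¬ IsGap P (n + 1 - m) := not_isGap_of_large hK P hP (by omega)
          obtain ⟨x, hx1, hx2⟩ := (not_isGap_iff P _).mp hb
          have hax1 : P.1 (a * x) = exp ((n + 1 : ℕ) : ℤ) := by
            rw [map_mul, hm, hx1, ← exp_add, ← Nat.cast_add]
            congr 2
            omega
          have haxL : a * x ∈ L (Finsupp.single P ((n + 1 : ℕ) : ℤ) : Divisor k K) :=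
            mem_L_single.mpr ⟨hax1.le, fun Q hQ => by
              rw [map_mul]; exact mul_le_one' (ha Q hQ) (hx2 Q hQ)⟩
          obtain ⟨c, hc⟩ := exists_sub_smul_mem hK P haxL hax1 hy
          obtain ⟨z', hz', hz'mem⟩ := ih _ hc
          have hxh : x ∈ holo P := hx2
          refine ⟨c • x + z', Subalgebra.add_mem _ (Subalgebra.smul_mem _ hxh c) hz', ?_⟩
          have e : y - a * (c • x + z') = y - c • (a * x) - a * z' := by
            rw [Algebra.smul_def, Algebra.smul_def]; ring
          rw [e]
          exact hz'mem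
  intro y hy
  obtain ⟨n, hn⟩ := exists_mem_L_of_mem_holo hy
  exact key n y hn

include hK in
theorem dimensionLEOne_holo : Ring.DimensionLEOne (holo P) := by
  refine ⟨fun {p} hp0 hpprime => ?_⟩
  obtain ⟨a, hap, ha0⟩ := Submodule.exists_mem_ne_zero_of_ne_bot hp0
  have ha0' : (a : K) ≠ 0 := fun h => ha0 (Subtype.ext h)
  obtain ⟨N, hN⟩ := exists_bound_mod P hK a.2 ha0'
  haveI := L_finite hK (Finsupp.single P (N : ℤ) : Divisor k K)
  let incl : L (Finsupp.single P (N : ℤ) : Divisor k K) →ₗ[k] holo P :=
    LinearMap.codRestrict (Subalgebra.toSubmodule (holo P)) (Submodule.subtype _)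
      (fun x => mem_holo_of_mem_L x.2)
  let g : L (Finsupp.single P (N : ℤ) : Divisor k K) →ₗ[k] (holo P ⧸ p) :=
    (Ideal.Quotient.mkₐ k p).toLinearMap.comp incl
  have hsurj : Function.Surjective g := by
    intro d
    obtain ⟨y, rfl⟩ := Ideal.Quotient.mk_surjective d
    obtain ⟨z, hz, hmem⟩ := hN y.1 y.2
    refine ⟨⟨_, hmem⟩, ?_⟩
    show Ideal.Quotient.mk p (⟨y.1 - a.1 * z, mem_holo_of_mem_L hmem⟩ : holo P) =
      Ideal.Quotient.mk p y
    rw [Ideal.Quotient.eq]
    have : (⟨y.1 - a.1 * z, mem_holo_of_mem_L hmem⟩ : holo P) - y = - (a * ⟨z, hz⟩) := by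
      apply Subtype.ext
      show y.1 - a.1 * z - y.1 = -(a.1 * z)
      ring
    rw [this]
    exact p.neg_mem (p.mul_mem_right _ hap)
  haveI : Module.Finite k (holo P ⧸ p) := Module.Finite.of_surjective g hsurj
  haveI : IsArtinianRing (holo P ⧸ p) := IsArtinianRing.of_finite k _
  haveI : IsDomain (holo P ⧸ p) := Ideal.Quotient.isDomain p
  exact Ideal.Quotient.maximal_of_isField p (IsArtinianRing.isField_of_isDomain _)

include hK in
/-- The ring of functions regular away from `P` is a Dedekind domain. -/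
theorem isDedekindDomain_holo : IsDedekindDomain (holo P) := by
  have hN := isNoetherianRing_holo P hK
  have hD := dimensionLEOne_holo P hK
  have hI := isIntegrallyClosed_holo P
  haveI : IsDedekindRing (holo P) := { hN, hD, hI with }
  exact { }

end AlgClosed

end Groth.Agent.Lib.LeadWS
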