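import Mathlib
import Groth.Agent.Lib.LeadWSf

/-!
# `R_{X,P}` is Gorenstein iff the Weierstrass semigroup is symmetric (lead)
-/

set_option autoImplicit false
set_option maxHeartbeats 400000
set_option linter.style.haveILetI false
set_option linter.unusedSectionVars false
set_option linter.unusedVariables false

universe u

noncomputable section

namespace Groth.Agent.Lib.LeadWS

open FunFld WithZero Polynomial Groth.Agent.Lib.LeadFF Groth.Agent.Lib.Helper27Sect
  Groth.Agent.Lib.Helper5.GorRing LocCoh

variable {k K : Type u} [Field k] [Field K] [Algebra k K] (P : Place k K)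

/-- `A[T]` realised as a subring of `K[T]`, `A` the holomorphy ring. -/
abbrev polyHolo : Subring K[X] := (Polynomial.mapRingHom (algebraMap (holo P) K)).range

lemma mem_polyHolo {q : K[X]} : q ∈ polyHolo P ↔ ∀ n, q.coeff n ∈ holo P := by
  unfold polyHolo
  rw [Polynomial.mem_map_range]
  refine forall_congr' fun n => ?_
  constructor
  · rintro ⟨a, ha⟩
    rw [← ha]
    exact a.2
  · intro h
    exact ⟨⟨_, h⟩, rfl⟩

/-- `A[T] ≃ polyHolo`. -/
def polyHoloEquiv : (holo P)[X] ≃+* polyHolo P :=
  RingEquiv.ofBijective (Polynomial.mapRingHom (algebraMap (holo P) K)).rangeRestrict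
    ⟨by
      intro p q h
      have h' := congrArg Subtype.val h
      exact Polynomial.map_injective _ Subtype.val_injective h',
     RingHom.rangeRestrict_surjective _⟩

/-- The inclusion of the section ring into `A[T]`. -/
def toPolyHolo : RP P →+* polyHolo P :=
  RingHom.codRestrict (RP P).val.toRingHom (polyHolo P) (by
    intro p
    rw [mem_polyHolo]
    intro n
    exact mem_holo_of_mem_L (mem_RP.mp p.2 n))

lemma toPolyHolo_val (p : RP P) : ((toPolyHolo P p : polyHolo P) : K[X]) = p.1 := rfl

lemma toPolyHolo_injective : Function.Injective (toPolyHolo P) := by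
  intro p q h
  have h' : ((toPolyHolo P p : polyHolo P) : K[X]) = ((toPolyHolo P q : polyHolo P) : K[X]) :=
    congrArg Subtype.val h
  exact Subtype.ext h'

/-- Every element of `A[T]` is in the section ring after multiplication by a power of `T`. -/
lemma exists_pow_mul_mem (b : polyHolo P) :
    ∃ (N : ℕ) (r : RP P), toPolyHolo P r = toPolyHolo P (tX P) ^ N * b := by
  classical
  have hb := (mem_polyHolo P).mp b.2
  have hch : ∀ n, ∃ M : ℕ, b.1.coeff n ∈ L (Finsupp.single P (M : ℤ) : Divisor k K) :=
    fun n => exists_mem_L_of_mem_holo (hb n)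
  choose M hM using hch
  set N : ℕ := b.1.support.sup M with hN
  have hmem : (X : K[X]) ^ N * b.1 ∈ RP P := by
    rw [mem_RP]
    intro j
    rw [coeff_X_pow_mul']
    split_ifs with hj
    · by_cases h0 : b.1.coeff (j - N) = 0
      · rw [h0]; exact zero_mem _
      · have hsup : M (j - N) ≤ N := Finset.le_sup (f := M) (mem_support_iff.mpr h0)
        refine L_mono (single_mono P ?_) (hM (j - N))
        have : M (j - N) ≤ j := hsup.trans hj
        exact_mod_cast this
    · exact zero_mem _
  refine ⟨N, ⟨_, hmem⟩, ?_⟩
  apply Subtype.ext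
  show (X : K[X]) ^ N * b.1 = ((toPolyHolo P (tX P) : polyHolo P) : K[X]) ^ N * b.1
  rw [toPolyHolo_val, tX_val]

section AlgClosed

variable [IsAlgClosed k] (hK : IsFunctionField k K)

include hK in
theorem gorRing_polyHolo : IsGorensteinRing (polyHolo P) := by
  haveI := isDedekindDomain_holo P hK
  haveI : IsGorensteinRing (holo P) := gorRing_of_isRegularRing (holo P)
  haveI : IsGorensteinRing (holo P)[X] := gorRing_polynomial (holo P)
  exact gorRing_of_ringEquiv (polyHoloEquiv P)

include hK in
/-- Away from `t`, the section ring is Gorenstein (indeed regular). -/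
theorem gorLocal_RP_of_notMem (p : Ideal (RP P)) [p.IsPrime] (htp : tX P ∉ p) :
    IsGorensteinLocalRing (Localization.AtPrime p) := by
  haveI := gorRing_polyHolo P hK
  exact gorLocal_atPrime_of_injective (B := polyHolo P) (toPolyHolo P) (toPolyHolo_injective P)
    (tX P) (tX_ne_zero P) (exists_pow_mul_mem P) p htp

include hK in
/-- **Main theorem**: the section ring of a point is Gorenstein iff the Weierstrass semigroup is
symmetric. -/
theorem gorRing_RP_iff :
    IsGorensteinRing (RP P) ↔
      W4c6gradedringsgw.IsSymmetric (W4c6gradedringsgw.poleOrders P) := by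
  haveI := isNoetherianRing_RP hK P
  obtain ⟨e⟩ := nonempty_quotient_equiv hK P
  haveI : IsNoetherianRing (semiAlg k (isNumSG_poleOrders hK P)) :=
    isNoetherianRing_of_ringEquiv _ e
  rw [← gorRing_semiAlg_iff k (isNumSG_poleOrders hK P)]
  constructor
  · intro hG
    haveI : IsGorensteinRing (RP P ⧸ Ideal.span {tX P}) :=
      gorRing_quotient_of_regular (tX P) (isSMulRegular_tX P)
    exact gorRing_of_ringEquiv (R := RP P ⧸ Ideal.span {tX P}) e
  · intro hG
    haveI : IsGorensteinRing (RP P ⧸ Ideal.span {tX P}) :=
      gorRing_of_ringEquiv (S := RP P ⧸ Ideal.span {tX P}) e.symm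
    exact gorRing_of_quotient_of_away (tX P) (isSMulRegular_tX P)
      (fun p hp htp => gorLocal_RP_of_notMem P hK p htp)

end AlgClosed

end Groth.Agent.Lib.LeadWS
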