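import Mathlib

set_option autoImplicit false
set_option maxHeartbeats 400000
set_option linter.style.haveILetI false
set_option linter.unusedSectionVars false
set_option linter.unusedVariables false

/-! Complete-intersection presentation `ℤ[F,V]/(FV - q, h)`: polynomial algebra part. -/

namespace Groth.Agent.Lib.LeadWeilCI

open MvPolynomial

noncomputable section

abbrev R := MvPolynomial (Fin 2) ℤ

/-- the generator `FV - q`. -/
def gen (q : ℤ) : R := X 0 * X 1 - C q

/-- `F ↦ 0`, `V ↦ X`. -/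
def eps : R →ₐ[ℤ] Polynomial ℤ := aeval ![0, Polynomial.X]

/-- `X ↦ V`. -/
def cp : Polynomial ℤ →ₐ[ℤ] R := Polynomial.aeval (X 1 : R)

lemma eps_X0 : eps (X 0) = 0 := by simp [eps]
lemma eps_X1 : eps (X 1) = Polynomial.X := by simp [eps]
lemma eps_C (a : ℤ) : eps (C a) = Polynomial.C a := by simp [eps]
lemma cp_C (a : ℤ) : cp (Polynomial.C a) = C a := by simp [cp]
lemma cp_X : cp Polynomial.X = X 1 := by simp [cp]

lemma eps_gen (q : ℤ) : eps (gen q) = - Polynomial.C q := by
  rw [gen, map_sub, map_mul, eps_X0, eps_C, zero_mul, zero_sub]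

lemma decomp (c : R) : ∃ c' : R, c = cp (eps c) + X 0 * c' := by
  induction c using MvPolynomial.induction_on with
  | C a => exact ⟨0, by rw [eps_C, cp_C, mul_zero, add_zero]⟩
  | add f g hf hg =>
    obtain ⟨f', hf'⟩ := hf
    obtain ⟨g', hg'⟩ := hg
    refine ⟨f' + g', ?_⟩
    rw [map_add, map_add]
    calc f + g = (cp (eps f) + X 0 * f') + (cp (eps g) + X 0 * g') := by rw [← hf', ← hg']
      _ = _ := by ring
  | mul_X f i hf =>
    obtain ⟨f', hf'⟩ := hf
    fin_cases i
    · refine ⟨f, ?_⟩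
      simp only [Fin.zero_eta, map_mul, eps_X0, mul_zero, map_zero, zero_add]
      ring
    · refine ⟨f' * X 1, ?_⟩
      simp only [Fin.mk_one, map_mul, eps_X1, cp_X]
      calc f * X 1 = (cp (eps f) + X 0 * f') * X 1 := by rw [← hf']
        _ = _ := by ring

lemma X0_not_dvd_C {q : ℤ} (hq : q ≠ 0) : ¬ ((X 0 : R) ∣ C q) := by
  rintro ⟨d, hd⟩
  have := congrArg eps hd
  rw [eps_C, map_mul, eps_X0, zero_mul] at this
  exact hq (by simpa using this)

lemma mem_I_iff (q : ℤ) (y : R) : y ∈ Ideal.span ({gen q} : Set R) ↔ ∃ c, y = gen q * c := by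
  rw [Ideal.mem_span_singleton]; rfl

lemma X0_cancel {q : ℤ} (hq : q ≠ 0) (y : R) (h : X 0 * y ∈ Ideal.span ({gen q} : Set R)) :
    y ∈ Ideal.span ({gen q} : Set R) := by
  rw [mem_I_iff] at h ⊢
  obtain ⟨c, hc⟩ := h
  have hdvd : (X 0 : R) ∣ C q * c := by
    refine ⟨X 1 * c - y, ?_⟩
    have : C q * c = X 0 * X 1 * c - gen q * c := by rw [gen]; ring
    rw [this, ← hc]; ring
  have hprime : Prime (X 0 : R) := MvPolynomial.X_prime
  obtain ⟨c', rfl⟩ := (hprime.dvd_or_dvd hdvd).resolve_left (X0_not_dvd_C hq)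
  refine ⟨c', ?_⟩
  have hX : (X 0 : R) ≠ 0 := MvPolynomial.X_ne_zero 0
  apply mul_left_cancel₀ hX
  rw [hc]; ring

lemma X0_pow_cancel {q : ℤ} (hq : q ≠ 0) (N : ℕ) (y : R)
    (h : X 0 ^ N * y ∈ Ideal.span ({gen q} : Set R)) :
    y ∈ Ideal.span ({gen q} : Set R) := by
  induction N with
  | zero => simpa using h
  | succ n ih =>
    apply ih
    apply X0_cancel hq
    rwa [← mul_assoc, ← pow_succ']

lemma gen_mem (q : ℤ) : gen q ∈ Ideal.span ({gen q} : Set R) := Ideal.mem_span_singleton_self _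

lemma reduce (q : ℤ) (g : R) : ∃ (N : ℕ) (G : Polynomial ℤ),
    X 0 ^ N * g - Polynomial.aeval (X 0 : R) G ∈ Ideal.span ({gen q} : Set R) := by
  induction g using MvPolynomial.induction_on with
  | C a =>
    refine ⟨0, Polynomial.C a, ?_⟩
    simp
  | add f g hf hg =>
    obtain ⟨N1, G1, h1⟩ := hf
    obtain ⟨N2, G2, h2⟩ := hg
    refine ⟨N1 + N2, Polynomial.X ^ N2 * G1 + Polynomial.X ^ N1 * G2, ?_⟩
    have : X 0 ^ (N1 + N2) * (f + g) - Polynomial.aeval (X 0 : R)
        (Polynomial.X ^ N2 * G1 + Polynomial.X ^ N1 * G2) =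
        X 0 ^ N2 * (X 0 ^ N1 * f - Polynomial.aeval (X 0 : R) G1) +
        X 0 ^ N1 * (X 0 ^ N2 * g - Polynomial.aeval (X 0 : R) G2) := by
      simp only [map_add, map_mul, map_pow, Polynomial.aeval_X]
      ring
    rw [this]
    exact Ideal.add_mem _ (Ideal.mul_mem_left _ _ h1) (Ideal.mul_mem_left _ _ h2)
  | mul_X f i hf =>
    obtain ⟨N, G, h1⟩ := hf
    fin_cases i
    · refine ⟨N, G * Polynomial.X, ?_⟩
      have : X 0 ^ N * (f * X 0) - Polynomial.aeval (X 0 : R) (G * Polynomial.X) =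
          X 0 * (X 0 ^ N * f - Polynomial.aeval (X 0 : R) G) := by
        simp only [map_mul, Polynomial.aeval_X]
        ring
      simp only [Fin.zero_eta]
      rw [this]
      exact Ideal.mul_mem_left _ _ h1
    · refine ⟨N + 1, Polynomial.C q * G, ?_⟩
      have : X 0 ^ (N + 1) * (f * X 1) - Polynomial.aeval (X 0 : R) (Polynomial.C q * G) =
          X 0 ^ N * f * gen q + C q * (X 0 ^ N * f - Polynomial.aeval (X 0 : R) G) := by
        simp only [map_mul, Polynomial.aeval_C, MvPolynomial.algebraMap_eq, gen]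
        ring
      simp only [Fin.mk_one]
      rw [this]
      exact Ideal.add_mem _ (Ideal.mul_mem_left _ _ (gen_mem q)) (Ideal.mul_mem_left _ _ h1)

end

end Groth.Agent.Lib.LeadWeilCI
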