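import Groth.Agent.Lib.LeadWeilCIA

set_option autoImplicit false
set_option maxHeartbeats 400000
set_option linter.style.haveILetI false
set_option linter.unusedSectionVars false
set_option linter.unusedVariables false

namespace Groth.Agent.Lib.LeadWeilCI

open MvPolynomial

noncomputable section

abbrev KK := FractionRing (Polynomial ℤ)

/-- `T` in the fraction field. -/
def TT : KK := algebraMap (Polynomial ℤ) KK Polynomial.X

lemma TT_ne_zero : TT ≠ 0 := by
  rw [TT]
  intro h
  have := (IsFractionRing.injective (Polynomial ℤ) KK) (h.trans (map_zero _).symm)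
  exact Polynomial.X_ne_zero this

/-- `F ↦ T`, `V ↦ q / T`. -/
def rho (q : ℤ) : R →ₐ[ℤ] KK := aeval ![TT, (q : KK) / TT]

lemma rho_X0 (q : ℤ) : rho q (X 0) = TT := by simp [rho]
lemma rho_X1 (q : ℤ) : rho q (X 1) = (q : KK) / TT := by simp [rho]
lemma rho_C (q a : ℤ) : rho q (C a) = (a : KK) := by simp [rho]

lemma rho_gen (q : ℤ) : rho q (gen q) = 0 := by
  rw [gen, map_sub, map_mul, rho_X0, rho_X1, rho_C, mul_div_cancel₀ _ TT_ne_zero, sub_self]

lemma rho_aeval (q : ℤ) (G : Polynomial ℤ) :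
    rho q (Polynomial.aeval (X 0 : R) G) = algebraMap (Polynomial ℤ) KK G := by
  rw [← Polynomial.aeval_algHom_apply, rho_X0, TT, Polynomial.aeval_algebraMap_apply,
    Polynomial.aeval_X_left_apply]

lemma rho_eq_zero_of_mem (q : ℤ) (g : R) (hg : g ∈ Ideal.span ({gen q} : Set R)) :
    rho q g = 0 := by
  rw [mem_I_iff] at hg
  obtain ⟨c, rfl⟩ := hg
  rw [map_mul, rho_gen, zero_mul]

lemma mem_of_rho_eq_zero {q : ℤ} (hq : q ≠ 0) (g : R) (hg : rho q g = 0) :
    g ∈ Ideal.span ({gen q} : Set R) := by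
  obtain ⟨N, G, hNG⟩ := reduce q g
  have h1 := rho_eq_zero_of_mem q _ hNG
  rw [map_sub, map_mul, hg, mul_zero, zero_sub, neg_eq_zero, rho_aeval] at h1
  have hG : G = 0 := (IsFractionRing.injective (Polynomial ℤ) KK) (h1.trans (map_zero _).symm)
  rw [hG, map_zero, sub_zero] at hNG
  exact X0_pow_cancel hq N g hNG

/-- `h` is a nonzerodivisor modulo `FV - q`. -/
lemma h_cancel {q : ℤ} (hq : q ≠ 0) (D : ℕ) (P : Polynomial ℤ) (hP : P ≠ 0) (h : R)
    (hh : X 0 ^ D * h - Polynomial.aeval (X 0 : R) P ∈ Ideal.span ({gen q} : Set R))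
    (y : R) (hy : h * y ∈ Ideal.span ({gen q} : Set R)) :
    y ∈ Ideal.span ({gen q} : Set R) := by
  apply mem_of_rho_eq_zero hq
  have h1 := rho_eq_zero_of_mem q _ hh
  have h2 := rho_eq_zero_of_mem q _ hy
  rw [map_sub, map_mul, map_pow, rho_X0, rho_aeval, sub_eq_zero] at h1
  rw [map_mul] at h2
  have hne : rho q h ≠ 0 := by
    intro h0
    rw [h0, mul_zero] at h1
    exact hP ((IsFractionRing.injective (Polynomial ℤ) KK) ((map_zero _).trans h1)).symm
  exact (mul_eq_zero.mp h2).resolve_left hne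

end

end Groth.Agent.Lib.LeadWeilCI
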