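import Groth.Agent.Lib.LeadWeilCIA

set_option autoImplicit false
set_option maxHeartbeats 400000
set_option linter.style.haveILetI false
set_option linter.unusedSectionVars false
set_option linter.unusedVariables false

namespace Groth.Agent.Lib.LeadWeilCI

open MvPolynomial

noncomputable section

/-- weight of the monomial `F^a V^b`: `q^a` if `b = a + D`, else `0`. -/
def wt (D : ℕ) (q : ℤ) (m : Fin 2 →₀ ℕ) : ℤ := if m 1 = m 0 + D then q ^ (m 0) else 0

/-- the functional "coefficient of `V^D`" on `ℤ[F,V]/(FV-q)`. -/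
def mu (D : ℕ) (q : ℤ) : R →ₗ[ℤ] ℤ := (basisMonomials (Fin 2) ℤ).constr ℤ (wt D q)

lemma mu_monomial (D : ℕ) (q : ℤ) (m : Fin 2 →₀ ℕ) (a : ℤ) :
    mu D q (monomial m a) = a * wt D q m := by
  have h1 : (monomial m a : R) = a • (basisMonomials (Fin 2) ℤ m) := by
    rw [coe_basisMonomials, smul_monomial, smul_eq_mul, mul_one]
  rw [h1, map_smul, mu, Module.Basis.constr_basis, smul_eq_mul]

lemma mu_gen_mul (D : ℕ) (q : ℤ) (c : R) : mu D q (gen q * c) = 0 := by
  induction c using MvPolynomial.induction_on' with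
  | monomial m a =>
    have h1 : gen q * monomial m a =
        monomial (Finsupp.single 0 1 + Finsupp.single 1 1 + m) a - monomial m (q * a) := by
      rw [gen, sub_mul, C_mul_monomial, X, X, monomial_mul, monomial_mul, one_mul, one_mul]
    rw [h1, map_sub, mu_monomial, mu_monomial, wt, wt]
    simp only [Finsupp.coe_add, Pi.add_apply, Finsupp.single_eq_same, ne_eq, one_ne_zero,
      not_false_eq_true, Finsupp.single_eq_of_ne, zero_add, add_zero, zero_ne_one]
    by_cases hm : m 1 = m 0 + D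
    · rw [if_pos hm, if_pos (by omega)]; ring
    · rw [if_neg hm, if_neg (by omega)]; ring
  | add f g hf hg => rw [mul_add, map_add, hf, hg, add_zero]

lemma mu_X0_mul (D : ℕ) (q : ℤ) (c : R) : q ∣ mu D q (X 0 * c) := by
  induction c using MvPolynomial.induction_on' with
  | monomial m a =>
    have h1 : (X 0 : R) * monomial m a = monomial (Finsupp.single 0 1 + m) a := by
      rw [X, monomial_mul, one_mul]
    rw [h1, mu_monomial, wt]
    simp only [Finsupp.coe_add, Pi.add_apply, Finsupp.single_eq_same, ne_eq, one_ne_zero,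
      not_false_eq_true, Finsupp.single_eq_of_ne, zero_add]
    split_ifs
    · exact Dvd.dvd.mul_left (dvd_pow_self q (by omega)) a
    · simp
  | add f g hf hg => rw [mul_add, map_add]; exact dvd_add hf hg

lemma mu_cp (D : ℕ) (q : ℤ) (G : Polynomial ℤ) : mu D q (cp G) = G.coeff D := by
  induction G using Polynomial.induction_on' with
  | add f g hf hg => rw [map_add, map_add, hf, hg, Polynomial.coeff_add]
  | monomial n a =>
    have h1 : cp (Polynomial.monomial n a) = monomial (Finsupp.single 1 n) a := by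
      rw [cp, Polynomial.aeval_monomial, MvPolynomial.algebraMap_eq, X_pow_eq_monomial,
        C_mul_monomial, mul_one]
    rw [h1, mu_monomial, wt, Polynomial.coeff_monomial]
    simp only [Finsupp.single_eq_same, ne_eq, zero_ne_one, not_false_eq_true,
      Finsupp.single_eq_of_ne, zero_add, pow_zero]
    split_ifs <;> simp

lemma mu_XD_aeval (D : ℕ) (q : ℤ) (G : Polynomial ℤ) :
    mu D q (X 1 ^ D * Polynomial.aeval (X 0 : R) G) = G.coeff 0 := by
  induction G using Polynomial.induction_on' with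
  | add f g hf hg => rw [map_add, mul_add, map_add, hf, hg, Polynomial.coeff_add]
  | monomial n a =>
    have h1 : (X 1 : R) ^ D * Polynomial.aeval (X 0 : R) (Polynomial.monomial n a) =
        monomial (Finsupp.single 1 D + Finsupp.single 0 n) a := by
      rw [Polynomial.aeval_monomial, MvPolynomial.algebraMap_eq, X_pow_eq_monomial,
        X_pow_eq_monomial, C_mul_monomial, mul_one, monomial_mul, one_mul]
    rw [h1, mu_monomial, wt, Polynomial.coeff_monomial]
    simp only [Finsupp.coe_add, Pi.add_apply, Finsupp.single_eq_same, ne_eq, one_ne_zero,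
      not_false_eq_true, Finsupp.single_eq_of_ne, zero_add, add_zero, zero_ne_one]
    by_cases hn : n = 0
    · subst hn; simp
    · rw [if_neg (by omega), if_neg hn, mul_zero]

lemma mu_C_mul (D : ℕ) (q : ℤ) (a : ℤ) (g : R) : mu D q (C a * g) = a * mu D q g := by
  rw [C_mul', map_smul, smul_eq_mul]

/-- `q^D μ(h) = P(0)`. -/
lemma mu_h (D : ℕ) (q : ℤ) (P : Polynomial ℤ) (h : R)
    (hh : X 0 ^ D * h - Polynomial.aeval (X 0 : R) P ∈ Ideal.span ({gen q} : Set R)) :
    q ^ D * mu D q h = P.coeff 0 := by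
  rw [mem_I_iff] at hh
  obtain ⟨c, hc⟩ := hh
  obtain ⟨d, hd⟩ := sub_dvd_pow_sub_pow (X 0 * X 1 : R) (C q) D
  have key : C (q ^ D) * h = X 1 ^ D * Polynomial.aeval (X 0 : R) P +
      gen q * (X 1 ^ D * c - d * h) := by
    have e1 : X 0 ^ D * h = Polynomial.aeval (X 0 : R) P + gen q * c := by rw [← hc]; ring
    have e2 : (C q : R) ^ D = (X 0 * X 1) ^ D - gen q * d := by
      rw [gen, ← hd]; ring
    rw [C_pow, e2, mul_pow]
    calc (X 0 ^ D * X 1 ^ D - gen q * d) * h = X 1 ^ D * (X 0 ^ D * h) - gen q * d * h := by ring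
      _ = _ := by rw [e1]; ring
  have := congrArg (mu D q) key
  rw [mu_C_mul, map_add, mu_gen_mul, add_zero, mu_XD_aeval] at this
  exact this

/-- `p ∤ ε₀(h)` when `|P(0)| = q^D`. -/
lemma not_dvd_eps_h {p : ℤ} (hp : Prime p) {q : ℤ} (hpq : p ∣ q) (hq : q ≠ 0)
    (D : ℕ) (P : Polynomial ℤ) (hP0 : (P.coeff 0).natAbs = (q ^ D).natAbs) (h : R)
    (hh : X 0 ^ D * h - Polynomial.aeval (X 0 : R) P ∈ Ideal.span ({gen q} : Set R)) :
    ¬ (Polynomial.C p ∣ eps h) := by
  intro hdvd
  have h1 := mu_h D q P h hh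
  obtain ⟨h', hh'⟩ := decomp h
  have h2 : mu D q h = (eps h).coeff D + mu D q (X 0 * h') := by
    conv_lhs => rw [hh']
    rw [map_add, mu_cp]
  have h3 : p ∣ mu D q h := by
    rw [h2]
    exact dvd_add ((Polynomial.C_dvd_iff_dvd_coeff _ _).mp hdvd D) (hpq.trans (mu_X0_mul D q h'))
  have h4 : (mu D q h).natAbs = 1 := by
    have := congrArg Int.natAbs h1
    rw [Int.natAbs_mul, hP0] at this
    have hne : (q ^ D).natAbs ≠ 0 := by
      rw [Int.natAbs_ne_zero]; exact pow_ne_zero _ hq
    exact Nat.eq_of_mul_eq_mul_left (Nat.pos_of_ne_zero hne) (by rw [this, mul_one])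
  have h5 : IsUnit (mu D q h) := Int.isUnit_iff_natAbs_eq.mpr h4
  exact hp.not_isUnit (isUnit_of_dvd_unit h3 h5)

end

end Groth.Agent.Lib.LeadWeilCI
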