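import Groth.Agent.Lib.LeadWeilCIA
import Groth.Agent.Lib.LeadWeilCIB
import Groth.Agent.Lib.LeadWeilCIC

set_option autoImplicit false
set_option maxHeartbeats 400000
set_option linter.style.haveILetI false
set_option linter.unusedSectionVars false
set_option linter.unusedVariables false

namespace Groth.Agent.Lib.LeadWeilCI

open MvPolynomial

noncomputable section

lemma gen_ne_zero {q : ℤ} (hq : q ≠ 0) : gen q ≠ 0 := by
  intro h0
  have := congrArg eps h0
  rw [eps_gen, map_zero, neg_eq_zero] at this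
  exact hq (by simpa using this)

/-- `F` is a nonzerodivisor modulo `(FV - q, h)`. -/
lemma X0_cancel_J {p : ℤ} (hp : Prime p) (e : ℕ) (he : 0 < e) (h : R)
    (hnd : ¬ (Polynomial.C p ∣ eps h)) (y : R)
    (hy : X 0 * y ∈ Ideal.span ({gen (p ^ e), h} : Set R)) :
    y ∈ Ideal.span ({gen (p ^ e), h} : Set R) := by
  have hq : (p ^ e : ℤ) ≠ 0 := pow_ne_zero _ hp.ne_zero
  rw [Ideal.mem_span_pair] at hy ⊢
  obtain ⟨a, b, hab⟩ := hy
  -- apply eps
  have h1 := congrArg eps hab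
  rw [map_add, map_mul, map_mul, map_mul, eps_X0, zero_mul, eps_gen] at h1
  have h2 : Polynomial.C (p ^ e) * eps a = eps b * eps h := by
    have : eps b * eps h = eps a * Polynomial.C (p ^ e) := by linear_combination h1
    rw [this, mul_comm]
  have hCp : Prime (Polynomial.C p : Polynomial ℤ) := Polynomial.prime_C_iff.mpr hp
  have h3 : (Polynomial.C p : Polynomial ℤ) ^ e ∣ eps b * eps h := by
    rw [← h2, Polynomial.C_pow]
    exact dvd_mul_right _ _
  obtain ⟨β, hβ⟩ := hCp.pow_dvd_of_dvd_mul_right e hnd h3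
  rw [← Polynomial.C_pow] at hβ
  have h4 : eps a = β * eps h := by
    have hC : (Polynomial.C (p ^ e) : Polynomial ℤ) ≠ 0 := by
      rw [Ne, Polynomial.C_eq_zero]; exact hq
    apply mul_left_cancel₀ hC
    rw [h2, hβ]; ring
  obtain ⟨a', ha'⟩ := decomp a
  obtain ⟨b', hb'⟩ := decomp b
  obtain ⟨h', hh'⟩ := decomp h
  rw [h4, map_mul] at ha'
  rw [hβ, map_mul, cp_C] at hb'
  refine ⟨a' - h' * cp β, cp β * X 1 + b', ?_⟩
  have hX : (X 0 : R) ≠ 0 := MvPolynomial.X_ne_zero 0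
  apply mul_left_cancel₀ hX
  rw [← hab]
  set A := cp β
  set Hc := cp (eps h)
  rw [ha', hb']
  have hg : gen (p ^ e) = X 0 * X 1 - C (p ^ e) := rfl
  rw [hg]
  have hHc : Hc = h - X 0 * h' := by
    have := hh'
    exact eq_sub_of_add_eq this.symm
  rw [hHc]
  ring

lemma X0_pow_cancel_J {p : ℤ} (hp : Prime p) (e : ℕ) (he : 0 < e) (h : R)
    (hnd : ¬ (Polynomial.C p ∣ eps h)) (N : ℕ) (y : R)
    (hy : X 0 ^ N * y ∈ Ideal.span ({gen (p ^ e), h} : Set R)) :
    y ∈ Ideal.span ({gen (p ^ e), h} : Set R) := by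
  induction N with
  | zero => simpa using hy
  | succ n ih =>
    apply ih
    apply X0_cancel_J hp e he h hnd
    rwa [← mul_assoc, ← pow_succ']

lemma span_le_pair (q : ℤ) (h : R) :
    Ideal.span ({gen q} : Set R) ≤ Ideal.span ({gen q, h} : Set R) :=
  Ideal.span_mono (by intro x hx; rw [Set.mem_singleton_iff] at hx; subst hx; exact Or.inl rfl)

lemma h_mem_pair (q : ℤ) (h : R) : h ∈ Ideal.span ({gen q, h} : Set R) :=
  Ideal.subset_span (Or.inr rfl)

lemma aeval_P_mem (q : ℤ) (D : ℕ) (P : Polynomial ℤ) (h : R)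
    (hh : X 0 ^ D * h - Polynomial.aeval (X 0 : R) P ∈ Ideal.span ({gen q} : Set R)) :
    Polynomial.aeval (X 0 : R) P ∈ Ideal.span ({gen q, h} : Set R) := by
  have : Polynomial.aeval (X 0 : R) P =
      X 0 ^ D * h - (X 0 ^ D * h - Polynomial.aeval (X 0 : R) P) := by ring
  rw [this]
  exact Ideal.sub_mem _ (Ideal.mul_mem_left _ _ (h_mem_pair q h)) (span_le_pair q h hh)

/-- membership criterion: `g ∈ (FV - q, h)` as soon as `P ∣ G` where `F^N g ≡ G(F)`. -/
lemma mem_pair_of_dvd {p : ℤ} (hp : Prime p) (e : ℕ) (he : 0 < e) (D : ℕ) (P : Polynomial ℤ)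
    (hP0 : (P.coeff 0).natAbs = ((p ^ e) ^ D).natAbs) (h : R)
    (hh : X 0 ^ D * h - Polynomial.aeval (X 0 : R) P ∈ Ideal.span ({gen (p ^ e)} : Set R))
    (g : R) (N : ℕ) (G : Polynomial ℤ)
    (hNG : X 0 ^ N * g - Polynomial.aeval (X 0 : R) G ∈ Ideal.span ({gen (p ^ e)} : Set R))
    (hdvd : P ∣ G) :
    g ∈ Ideal.span ({gen (p ^ e), h} : Set R) := by
  have hq : (p ^ e : ℤ) ≠ 0 := pow_ne_zero _ hp.ne_zero
  have hnd := not_dvd_eps_h hp (dvd_pow_self p he.ne') hq D P hP0 h hh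
  apply X0_pow_cancel_J hp e he h hnd N
  obtain ⟨G', rfl⟩ := hdvd
  have : X 0 ^ N * g = (X 0 ^ N * g - Polynomial.aeval (X 0 : R) (P * G')) +
      Polynomial.aeval (X 0 : R) G' * Polynomial.aeval (X 0 : R) P := by
    rw [map_mul]; ring
  rw [this]
  exact Ideal.add_mem _ (span_le_pair _ h hNG)
    (Ideal.mul_mem_left _ _ (aeval_P_mem _ D P h hh))

theorem weaklyRegular {q : ℤ} (hq : q ≠ 0) (D : ℕ) (P : Polynomial ℤ) (hP : P ≠ 0) (h : R)
    (hh : X 0 ^ D * h - Polynomial.aeval (X 0 : R) P ∈ Ideal.span ({gen q} : Set R)) :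
    RingTheory.Sequence.IsWeaklyRegular R [gen q, h] := by
  rw [RingTheory.Sequence.isWeaklyRegular_cons_iff, RingTheory.Sequence.isWeaklyRegular_singleton_iff]
  refine ⟨(IsRegular.of_ne_zero (gen_ne_zero hq)).left.isSMulRegular, ?_⟩
  rw [isSMulRegular_quotient_iff_mem_of_smul_mem]
  intro y hy
  rw [Submodule.mem_smul_pointwise_iff_exists] at hy ⊢
  obtain ⟨c, -, hc⟩ := hy
  have : h * y ∈ Ideal.span ({gen q} : Set R) := by
    rw [mem_I_iff]; exact ⟨c, by rw [← smul_eq_mul h y, ← hc, smul_eq_mul]⟩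
  have := h_cancel hq D P hP h hh y this
  rw [mem_I_iff] at this
  obtain ⟨c', hc'⟩ := this
  exact ⟨c', trivial, by rw [hc', smul_eq_mul]⟩

end

end Groth.Agent.Lib.LeadWeilCI
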