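import Groth.Agent.Lib.LeadWeilCID

set_option autoImplicit false
set_option maxHeartbeats 400000
set_option linter.style.haveILetI false
set_option linter.unusedSectionVars false
set_option linter.unusedVariables false

namespace Groth.Agent.Lib.LeadWeilCI

open Polynomial

lemma abs_coeff_zero (P : ℤ[X]) (hP : P.Monic) (r : ℝ) (hr : ∀ z ∈ P.aroots ℂ, ‖z‖ = r) :
    |((P.coeff 0 : ℤ) : ℝ)| = r ^ P.natDegree := by
  set Pc := P.map (algebraMap ℤ ℂ) with hPc
  have hm : Pc.Monic := hP.map _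
  have hs : Pc.Splits := IsAlgClosed.splits Pc
  have h0 := hs.coeff_zero_eq_prod_roots_of_monic hm
  have hdeg : Pc.natDegree = P.natDegree := hP.natDegree_map _
  have hcard : Multiset.card Pc.roots = P.natDegree := by
    rw [IsAlgClosed.card_roots_eq_natDegree, hdeg]
  have hn : (Pc.roots.map (fun z => ‖z‖)) = Multiset.replicate P.natDegree r := by
    rw [Multiset.eq_replicate]
    refine ⟨by rw [Multiset.card_map, hcard], ?_⟩
    intro b hb
    rw [Multiset.mem_map] at hb
    obtain ⟨z, hz, rfl⟩ := hb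
    exact hr z hz
  have h1 : ‖Pc.coeff 0‖ = r ^ P.natDegree := by
    rw [h0, norm_mul, norm_pow, norm_neg, norm_one, one_pow, one_mul]
    have h2 := map_multiset_prod (normHom : ℂ →*₀ ℝ) Pc.roots
    simp only [normHom_apply] at h2
    rw [h2, hn, Multiset.prod_replicate]
  rw [hPc, coeff_map] at h1
  rw [← h1]
  simp [Complex.norm_intCast]

/-- `|P(0)| = q^D` for the product of Weil `q`-polynomials of total degree `2D`. -/
lemma natAbs_coeff_zero_prod {ι : Type} [Fintype ι] (f : ι → ℤ[X]) (hm : ∀ i, (f i).Monic)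
    (q : ℕ) (hr : ∀ i, ∀ z ∈ (f i).aroots ℂ, ‖z‖ = Real.sqrt (q : ℝ))
    (D : ℕ) (hD : ∑ i, (f i).natDegree = 2 * D) :
    ((∏ i, f i).coeff 0).natAbs = (((q : ℤ)) ^ D).natAbs := by
  apply Nat.cast_injective (R := ℝ)
  rw [Nat.cast_natAbs, Nat.cast_natAbs, Int.cast_abs, Int.cast_abs, coeff_zero_prod,
    Int.cast_prod, Finset.abs_prod]
  have : ∀ i ∈ Finset.univ, |((f i).coeff 0 : ℝ)| = Real.sqrt (q : ℝ) ^ (f i).natDegree :=
    fun i _ => abs_coeff_zero (f i) (hm i) _ (hr i)
  rw [Finset.prod_congr rfl this, Finset.prod_pow_eq_pow_sum, hD, pow_mul,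
    Real.sq_sqrt (Nat.cast_nonneg q)]
  simp

end Groth.Agent.Lib.LeadWeilCI
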