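import Groth.Agent.Lib.LeadWeilCIE

set_option autoImplicit false
set_option maxHeartbeats 400000
set_option linter.style.haveILetI false
set_option linter.unusedSectionVars false
set_option linter.unusedVariables false

universe u

namespace Groth.Agent.Lib.LeadWeilCI

open MvPolynomial

theorem ker_eq (p e : ℕ) [Fact p.Prime] (he : 0 < e)
    (ι : Type) [Fintype ι] (K : ι → Type u) [∀ i, Field (K i)] [∀ i, CharZero (K i)] (π : ∀ i, K i)
    (hint : ∀ i, IsIntegral ℤ (π i))
    (hweil : ∀ i, ∀ z ∈ (minpoly ℤ (π i)).aroots ℂ, ‖z‖ = Real.sqrt ((p : ℝ) ^ e))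
    (hinj : ∀ i j, minpoly ℤ (π i) = minpoly ℤ (π j) → i = j)
    (D : ℕ) (hD : ∑ i, (minpoly ℤ (π i)).natDegree = 2 * D)
    (h : R)
    (hh : X 0 ^ D * h - Polynomial.aeval (X 0 : R) (∏ i, minpoly ℤ (π i)) ∈
      Ideal.span ({gen ((p : ℤ) ^ e)} : Set R)) :
    RingHom.ker (MvPolynomial.aeval ![fun i => π i, fun i => ((p : K i) ^ e) / π i] :
        R →ₐ[ℤ] ((i : ι) → K i)) = Ideal.span {gen ((p : ℤ) ^ e), h} := by
  classical
  have hp : Prime (p : ℤ) := Nat.prime_iff_prime_int.mp Fact.out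
  set q : ℤ := (p : ℤ) ^ e with hq
  set φ : R →ₐ[ℤ] ((i : ι) → K i) :=
    MvPolynomial.aeval ![fun i => π i, fun i => ((p : K i) ^ e) / π i] with hφ
  set P : Polynomial ℤ := ∏ i, minpoly ℤ (π i) with hP
  have hmon : ∀ i, (minpoly ℤ (π i)).Monic := fun i => minpoly.monic (hint i)
  have hPm : P.Monic := Polynomial.monic_prod_of_monic _ _ (fun i _ => hmon i)
  have hr : ∀ i, ∀ z ∈ (minpoly ℤ (π i)).aroots ℂ, ‖z‖ = Real.sqrt ((p ^ e : ℕ) : ℝ) := by
    intro i z hz
    rw [Nat.cast_pow]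
    exact hweil i z hz
  have hP0 : (P.coeff 0).natAbs = (q ^ D).natAbs := by
    have := natAbs_coeff_zero_prod (fun i => minpoly ℤ (π i)) hmon (p ^ e) hr D hD
    rw [Nat.cast_pow] at this
    exact this
  have hrpos : 0 < Real.sqrt ((p ^ e : ℕ) : ℝ) := by
    rw [Real.sqrt_pos]
    exact_mod_cast pow_pos (Fact.out : p.Prime).pos e
  have hπ : ∀ i, π i ≠ 0 := by
    intro i h0
    have h1 := abs_coeff_zero (minpoly ℤ (π i)) (hmon i) _ (hr i)
    have h2 : (minpoly ℤ (π i)).coeff 0 = 0 := by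
      have h3 : Polynomial.aeval (0 : K i) (minpoly ℤ (π i)) = 0 :=
        (congrArg (fun x => Polynomial.aeval x (minpoly ℤ (π i))) h0.symm).trans
          (minpoly.aeval ℤ (π i))
      rw [← Polynomial.coeff_zero_eq_aeval_zero'] at h3
      simpa using h3
    rw [h2] at h1
    simp only [Int.cast_zero, abs_zero] at h1
    exact absurd h1.symm (pow_pos hrpos _).ne'
  have hφ0 : φ (X 0) = fun i => π i := by simp [hφ]
  have hφ1 : φ (X 1) = fun i => ((p : K i) ^ e) / π i := by simp [hφ]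
  have hφC : ∀ a : ℤ, φ (C a) = fun i => (a : K i) := by
    intro a
    funext i
    simp [hφ]
  have hgen : φ (gen q) = 0 := by
    rw [gen, map_sub, map_mul, hφ0, hφ1, hφC]
    funext i
    simp only [Pi.sub_apply, Pi.mul_apply, Pi.zero_apply, hq]
    rw [mul_div_cancel₀ _ (hπ i)]
    push_cast
    ring
  have hI : ∀ y ∈ Ideal.span ({gen q} : Set R), φ y = 0 := by
    intro y hy
    rw [mem_I_iff] at hy
    obtain ⟨c, rfl⟩ := hy
    rw [map_mul, hgen, zero_mul]
  have haev : ∀ G : Polynomial ℤ, φ (Polynomial.aeval (X 0 : R) G) =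
      fun i => Polynomial.aeval (π i) G := by
    intro G
    rw [← Polynomial.aeval_algHom_apply, hφ0, Polynomial.aeval_pi_apply]
  have hPπ : ∀ i, Polynomial.aeval (π i) P = 0 := by
    intro i
    rw [hP, map_prod]
    exact Finset.prod_eq_zero (Finset.mem_univ i) (minpoly.aeval ℤ (π i))
  have hφh : φ h = 0 := by
    have h1 := hI _ hh
    rw [map_sub, map_mul, map_pow, hφ0, haev, sub_eq_zero] at h1
    funext i
    have h2 := congrFun h1 i
    simp only [Pi.mul_apply, Pi.pow_apply, hPπ i] at h2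
    exact (mul_eq_zero.mp h2).resolve_left (pow_ne_zero _ (hπ i))
  apply le_antisymm
  · intro g hg
    rw [RingHom.mem_ker] at hg
    obtain ⟨N, G, hNG⟩ := reduce q g
    have h1 := hI _ hNG
    rw [map_sub, map_mul, hg, mul_zero, zero_sub, neg_eq_zero, haev] at h1
    have hdvd : ∀ i, minpoly ℤ (π i) ∣ G := fun i =>
      minpoly.isIntegrallyClosed_dvd (hint i) (congrFun h1 i)
    have hprime : ∀ i, Prime (minpoly ℤ (π i)) := fun i =>
      minpoly.prime_of_isIntegrallyClosed (hint i)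
    have hPG : P ∣ G := by
      rw [hP]
      refine Finset.prod_dvd_of_isRelPrime ?_ (fun i _ => hdvd i)
      intro i _ j _ hij
      refine (Irreducible.isRelPrime_iff_not_dvd (hprime i).irreducible).mpr (fun hd => hij ?_)
      exact hinj i j (Polynomial.eq_of_monic_of_associated (hmon i) (hmon j)
        ((hprime i).irreducible.associated_of_dvd (hprime j).irreducible hd))
    exact mem_pair_of_dvd hp e he D P hP0 h hh g N G hNG hPG
  · rw [Ideal.span_le]
    rintro x (rfl | rfl)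
    · exact hgen
    · exact hφh

end Groth.Agent.Lib.LeadWeilCI
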