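import Mathlib

set_option autoImplicit false
set_option maxHeartbeats 400000
set_option linter.style.haveILetI false
set_option linter.unusedSectionVars false
set_option linter.unusedVariables false

/-! Functional equation `X^n P(q/X) = P(0) P(X)` for Weil `q`-polynomials. -/

namespace Groth.Agent.Lib.LeadWeilCI

open Polynomial ComplexConjugate

/-- reciprocal polynomial `X^n P(q/X)`. -/
noncomputable def star (P : ℤ[X]) (q : ℤ) : ℤ[X] :=
  ∑ j ∈ Finset.range (P.natDegree + 1), monomial (P.natDegree - j) (P.coeff j * q ^ j)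

lemma coeff_star (P : ℤ[X]) (q : ℤ) (m : ℕ) :
    (star P q).coeff m = if m ≤ P.natDegree then P.coeff (P.natDegree - m) * q ^ (P.natDegree - m)
      else 0 := by
  unfold star
  rw [finsetSum_coeff]
  simp only [coeff_monomial]
  split_ifs with hm
  · rw [Finset.sum_eq_single (P.natDegree - m)]
    · rw [if_pos (by omega)]
    · intro j hj hne
      rw [Finset.mem_range] at hj
      rw [if_neg (by omega)]
    · intro h
      exact absurd (Finset.mem_range.mpr (by omega)) h
  · refine Finset.sum_eq_zero fun j hj => ?_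
    rw [if_neg (by omega)]

lemma aeval_star {A : Type*} [CommRing A] (P : ℤ[X]) (q : ℤ) (w z : A) (hwz : w * z = (q : A)) :
    aeval w (star P q) = w ^ P.natDegree * aeval z P := by
  rw [aeval_eq_sum_range (p := P), Finset.mul_sum]
  unfold star
  rw [map_sum]
  refine Finset.sum_congr rfl fun j hj => ?_
  rw [Finset.mem_range] at hj
  rw [aeval_monomial]
  have : w ^ P.natDegree = w ^ (P.natDegree - j) * w ^ j := by
    rw [← pow_add]; congr 1; omega
  rw [this, zsmul_eq_mul]
  simp only [algebraMap_int_eq, eq_intCast, Int.cast_mul, Int.cast_pow]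
  rw [← hwz, mul_pow]
  ring

lemma roots_map_conj (P : ℤ[X]) :
    ((P.map (algebraMap ℤ ℂ)).roots.map conj) = (P.map (algebraMap ℤ ℂ)).roots := by
  have h1 : (P.map (algebraMap ℤ ℂ)).map (starRingEnd ℂ) = P.map (algebraMap ℤ ℂ) := by
    rw [Polynomial.map_map]
    congr 1
    exact RingHom.ext_int _ _
  have h2 := Polynomial.roots_map_of_injective_of_card_eq_natDegree
    (p := P.map (algebraMap ℤ ℂ)) (f := starRingEnd ℂ) (RingHom.injective _)
    IsAlgClosed.card_roots_eq_natDegree
  rw [h1] at h2
  exact h2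

theorem star_eq (P : ℤ[X]) (hP : P.Monic) (q : ℕ)
    (hr : ∀ z ∈ P.aroots ℂ, ‖z‖ = Real.sqrt (q : ℝ)) :
    star P q = C (P.coeff 0) * P := by
  apply Polynomial.map_injective (Int.castRingHom ℂ) Int.cast_injective
  apply Polynomial.eq_of_infinite_eval_eq
  refine Set.Infinite.mono ?_ (Set.finite_singleton (0 : ℂ)).infinite_compl
  intro w hw
  have hw0 : w ≠ 0 := hw
  simp only [Set.mem_ofPred_eq]
  set Pc := P.map (algebraMap ℤ ℂ) with hPc
  have hm : Pc.Monic := hP.map _
  have hs : Pc.Splits := IsAlgClosed.splits Pc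
  have hzq : ∀ z ∈ Pc.roots, z * conj z = (q : ℂ) := by
    intro z hz
    rw [Complex.mul_conj, Complex.normSq_eq_norm_sq, hr z hz, Real.sq_sqrt (Nat.cast_nonneg q)]
    simp
  have e1 : eval w ((star P q).map (Int.castRingHom ℂ)) =
      w ^ P.natDegree * eval ((q : ℂ) / w) Pc := by
    have := aeval_star P q w ((q : ℂ) / w) (by rw [mul_div_cancel₀ _ hw0]; simp)
    rw [aeval_def, eval₂_eq_eval_map] at this
    rw [show (Int.castRingHom ℂ) = algebraMap ℤ ℂ from rfl, this, aeval_def, eval₂_eq_eval_map]
  have e2 : eval w ((C (P.coeff 0) * P).map (Int.castRingHom ℂ)) =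
      (P.coeff 0 : ℂ) * eval w Pc := by
    rw [Polynomial.map_mul, eval_mul, map_C, eval_C]
    rfl
  rw [e1, e2, hs.eval_eq_prod_roots_of_monic hm, hs.eval_eq_prod_roots_of_monic hm]
  have hcard : Multiset.card Pc.roots = P.natDegree := by
    rw [IsAlgClosed.card_roots_eq_natDegree, hP.natDegree_map]
  have h0 : (P.coeff 0 : ℂ) = (Pc.roots.map Neg.neg).prod := by
    rw [Multiset.prod_map_neg, hcard]
    have := hs.coeff_zero_eq_prod_roots_of_monic hm
    rw [hPc, coeff_map, hP.natDegree_map] at this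
    exact this
  have h3 : (Pc.roots.map (fun z => w - z)).prod = (Pc.roots.map (fun z => w - conj z)).prod := by
    conv_lhs => rw [← roots_map_conj P]
    rw [Multiset.map_map]
    rfl
  rw [h0, h3, ← Multiset.prod_map_mul]
  have h4 : w ^ P.natDegree = (Pc.roots.map (fun _ => w)).prod := by
    rw [Multiset.map_const', Multiset.prod_replicate, hcard]
  rw [h4, ← Multiset.prod_map_mul]
  congr 1
  apply Multiset.map_congr rfl
  intro z hz
  have := hzq z hz
  rw [mul_sub, mul_div_cancel₀ _ hw0, ← this]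
  ring

/-- coefficient form of the functional equation. -/
theorem coeff_mul_pow_eq (P : ℤ[X]) (hP : P.Monic) (q : ℕ)
    (hr : ∀ z ∈ P.aroots ℂ, ‖z‖ = Real.sqrt (q : ℝ)) (j : ℕ) (hj : j ≤ P.natDegree) :
    P.coeff j * (q : ℤ) ^ j = P.coeff 0 * P.coeff (P.natDegree - j) := by
  have h1 := congrArg (fun A => A.coeff (P.natDegree - j)) (star_eq P hP q hr)
  simp only [coeff_star, coeff_C_mul] at h1
  rw [if_pos (by omega)] at h1
  have : P.natDegree - (P.natDegree - j) = j := by omega
  rw [this] at h1
  exact h1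

end Groth.Agent.Lib.LeadWeilCI
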