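import Groth.Agent.Lib.LeadWeilCIA
import Groth.Agent.Lib.LeadWeilCIG

set_option autoImplicit false
set_option maxHeartbeats 400000
set_option linter.style.haveILetI false
set_option linter.unusedSectionVars false
set_option linter.unusedVariables false

namespace Groth.Agent.Lib.LeadWeilCI

open MvPolynomial

/-- existence of the symmetric polynomial `h`. -/
theorem exists_h (q : ℤ) (hq : q ≠ 0) (D : ℕ) (P : Polynomial ℤ) (hdeg : P.natDegree = 2 * D)
    (hP0 : (P.coeff 0).natAbs = (q ^ D).natAbs)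
    (hfe : ∀ j ≤ P.natDegree, P.coeff j * q ^ j = P.coeff 0 * P.coeff (P.natDegree - j)) :
    ∃ h : R, X 0 ^ D * h - Polynomial.aeval (X 0 : R) P ∈ Ideal.span ({gen q} : Set R) := by
  -- sign
  obtain ⟨ε, hε2, hε⟩ : ∃ ε : ℤ, ε * ε = 1 ∧ P.coeff 0 = ε * q ^ D := by
    rcases Int.natAbs_eq_natAbs_iff.mp hP0 with h | h
    · exact ⟨1, by ring, by rw [h]; ring⟩
    · exact ⟨-1, by ring, by rw [h]; ring⟩
  set b : ℕ → ℤ := fun m => ε * P.coeff (2 * D - m) with hb
  have hab : ∀ m, m < D → P.coeff m = b m * q ^ (D - m) := by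
    intro m hm
    have h1 := hfe (2 * D - m) (by rw [hdeg]; omega)
    rw [hdeg, show 2 * D - (2 * D - m) = m by omega, hε,
      show 2 * D - m = (D - m) + D by omega, pow_add] at h1
    have hqD : (q ^ D : ℤ) ≠ 0 := pow_ne_zero _ hq
    apply mul_right_cancel₀ hqD
    rw [hb]
    simp only
    rw [show 2 * D - m = (D - m) + D by omega]
    calc P.coeff m * q ^ D = ε * ε * (P.coeff m * q ^ D) := by rw [hε2, one_mul]
      _ = ε * (ε * q ^ D * P.coeff m) := by ring
      _ = ε * (P.coeff (D - m + D) * (q ^ (D - m) * q ^ D)) := by rw [h1]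
      _ = _ := by ring
  refine ⟨∑ m ∈ Finset.range (D + 1), C (P.coeff (D + m)) * X 0 ^ m +
    ∑ m ∈ Finset.range D, C (b m) * X 1 ^ (D - m), ?_⟩
  have key : X 0 ^ D * (∑ m ∈ Finset.range (D + 1), C (P.coeff (D + m)) * X 0 ^ m +
      ∑ m ∈ Finset.range D, C (b m) * X 1 ^ (D - m)) - Polynomial.aeval (X 0 : R) P =
      ∑ m ∈ Finset.range D, C (b m) * X 0 ^ m *
        (((X 0 : R) * X 1) ^ (D - m) - (C q) ^ (D - m)) := by
    have hA : Polynomial.aeval (X 0 : R) P = ∑ m ∈ Finset.range D, P.coeff m • (X 0 : R) ^ m +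
        ∑ x ∈ Finset.range (D + 1), P.coeff (D + x) • (X 0 : R) ^ (D + x) := by
      rw [Polynomial.aeval_eq_sum_range, hdeg, show 2 * D + 1 = D + (D + 1) by ring,
        Finset.sum_range_add]
    rw [hA, mul_add, Finset.mul_sum, Finset.mul_sum]
    have e1 : ∑ i ∈ Finset.range (D + 1), (X 0 : R) ^ D * (C (P.coeff (D + i)) * X 0 ^ i) =
        ∑ x ∈ Finset.range (D + 1), P.coeff (D + x) • (X 0 : R) ^ (D + x) := by
      refine Finset.sum_congr rfl fun i _ => ?_
      rw [zsmul_eq_mul, pow_add]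
      rw [show ((P.coeff (D + i) : ℤ) : R) = C (P.coeff (D + i)) by simp]
      ring
    rw [e1]
    have e2 : ∀ a b c : R, a + b - (c + a) = b - c := by intros; ring
    rw [e2, ← Finset.sum_sub_distrib]
    refine Finset.sum_congr rfl fun m hm => ?_
    rw [Finset.mem_range] at hm
    rw [zsmul_eq_mul, hab m hm]
    have e3 : (X 0 : R) ^ D = X 0 ^ m * X 0 ^ (D - m) := by
      rw [← pow_add]; congr 1; omega
    rw [e3, mul_pow]
    rw [show (((b m * q ^ (D - m) : ℤ) : ℤ) : R) = C (b m) * C q ^ (D - m) by simp]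
    ring
  rw [key]
  refine Ideal.sum_mem _ fun m _ => Ideal.mul_mem_left _ _ ?_
  rw [Ideal.mem_span_singleton]
  exact sub_dvd_pow_sub_pow _ _ _

end Groth.Agent.Lib.LeadWeilCI
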