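import Groth.Agent.Lib.Helper5KoszulGor
import Groth.Agent.Lib.LeadWeilCID

set_option autoImplicit false
set_option maxHeartbeats 400000
set_option linter.style.haveILetI false
set_option linter.unusedSectionVars false
set_option linter.unusedVariables false

universe u

namespace Groth.Agent.Lib.LeadWeilCI

open MvPolynomial LocCoh

/-- A quotient of a Gorenstein ring by a regular sequence of length two is Gorenstein. -/
theorem gor_of_regular_pair {A : Type u} [CommRing A] [IsGorensteinRing A] {S : Type u}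
    [CommRing S] (ψ : A →+* S) (hψ : Function.Surjective ψ) (a b : A)
    (hker : RingHom.ker ψ = Ideal.span {a, b}) (ha : IsSMulRegular A a)
    (hb : ∀ y, b * y ∈ Ideal.span ({a} : Set A) → y ∈ Ideal.span ({a} : Set A)) :
    IsGorensteinRing S := by
  haveI h1 : IsGorensteinRing (A ⧸ Ideal.span ({a} : Set A)) :=
    Groth.Agent.Lib.Helper5.GorRing.gorRing_quotient_of_regular a ha
  have hreg : IsSMulRegular (A ⧸ Ideal.span ({a} : Set A))
      (Ideal.Quotient.mk (Ideal.span ({a} : Set A)) b) := by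
    apply IsLeftRegular.isSMulRegular
    rw [isLeftRegular_iff_right_eq_zero_of_mul]
    intro x hx
    obtain ⟨y, rfl⟩ := Ideal.Quotient.mk_surjective x
    rw [← map_mul, Ideal.Quotient.eq_zero_iff_mem] at hx
    rw [Ideal.Quotient.eq_zero_iff_mem]
    exact hb y hx
  haveI h2 : IsGorensteinRing ((A ⧸ Ideal.span ({a} : Set A)) ⧸
      Ideal.span ({Ideal.Quotient.mk (Ideal.span ({a} : Set A)) b} : Set _)) :=
    Groth.Agent.Lib.Helper5.GorRing.gorRing_quotient_of_regular _ hreg
  have e1 : Ideal.map (Ideal.Quotient.mk (Ideal.span ({a} : Set A))) (Ideal.span ({b} : Set A)) =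
      Ideal.span ({Ideal.Quotient.mk (Ideal.span ({a} : Set A)) b} : Set _) := by
    rw [Ideal.map_span, Set.image_singleton]
  have e2 : Ideal.span ({a} : Set A) ⊔ Ideal.span ({b} : Set A) = RingHom.ker ψ := by
    rw [hker, Ideal.span_insert]
  exact Groth.Agent.Lib.Helper5.GorRing.gorRing_of_ringEquiv
    ((((Ideal.quotEquivOfEq e1).symm.trans
      (DoubleQuot.quotQuotEquivQuotSup (Ideal.span ({a} : Set A)) (Ideal.span ({b} : Set A)))).trans
      (Ideal.quotEquivOfEq e2)).trans (RingHom.quotientKerEquivOfSurjective hψ))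

abbrev Zu := ULift.{u} ℤ

instance : IsDomain Zu := MulEquiv.isDomain ℤ (ULift.ringEquiv (R := ℤ)).toMulEquiv

instance : IsPrincipalIdealRing Zu :=
  IsPrincipalIdealRing.of_surjective (ULift.ringEquiv (R := ℤ)).symm.toRingHom
    (ULift.ringEquiv (R := ℤ)).symm.surjective

theorem gor_Zu : IsGorensteinRing Zu := Groth.Agent.Lib.Helper5.GorRing.gorRing_of_isRegularRing _

abbrev Au := MvPolynomial (Fin 2) Zu

theorem gor_Au : IsGorensteinRing Au.{u} := by
  haveI := gor_Zu.{u}
  exact Groth.Agent.Lib.Helper5.KoszulGor.gorRing_mvPolynomial Zu 2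

noncomputable def eA : Au.{u} ≃+* R := MvPolynomial.mapEquiv (Fin 2) ULift.ringEquiv

/-- Gorenstein-ness of a (universe `u`) quotient of `ℤ[F,V]` by `(FV - q, h)`. -/
theorem gor_of_surjective {S : Type u} [CommRing S] (φ : R →+* S) (hφ : Function.Surjective φ)
    {q : ℤ} (hq : q ≠ 0) (h : R) (hker : RingHom.ker φ = Ideal.span {gen q, h})
    (hh : ∀ y, h * y ∈ Ideal.span ({gen q} : Set R) → y ∈ Ideal.span ({gen q} : Set R)) :
    IsGorensteinRing S := by
  haveI := gor_Au.{u}
  have hcomap : ∀ (s : Set R), Ideal.comap (eA.{u} : Au →+* R) (Ideal.span s) =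
      Ideal.span (eA.{u}.symm '' s) := by
    intro s
    have h0 : Ideal.comap (eA.{u} : Au →+* R) (Ideal.span s) =
        Ideal.comap eA.{u} (Ideal.span s) := rfl
    rw [h0, ← Ideal.map_symm, Ideal.map_span]
  refine gor_of_regular_pair (φ.comp (eA.{u} : Au →+* R))
    (hφ.comp eA.{u}.surjective) (eA.{u}.symm (gen q)) (eA.{u}.symm h) ?_ ?_ ?_
  · rw [← RingHom.comap_ker, hker, hcomap, Set.image_pair]
  · have hne : eA.{u}.symm (gen q) ≠ 0 := by
      rw [Ne, map_eq_zero_iff _ eA.{u}.symm.injective]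
      exact gen_ne_zero hq
    exact (IsRegular.of_ne_zero hne).left.isSMulRegular
  · intro y hy
    have h1 : ∀ z : Au, z ∈ Ideal.span ({eA.{u}.symm (gen q)} : Set Au) ↔
        eA.{u} z ∈ Ideal.span ({gen q} : Set R) := by
      intro z
      rw [← Set.image_singleton, ← hcomap, Ideal.mem_comap]
      rfl
    rw [h1] at hy ⊢
    rw [map_mul, RingEquiv.apply_symm_apply] at hy
    exact hh _ hy

end Groth.Agent.Lib.LeadWeilCI
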