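import Groth.Agent.Lib.LeadWeilCIA
import Groth.Agent.Lib.Helper5IntDim

set_option autoImplicit false
set_option maxHeartbeats 400000
set_option linter.style.haveILetI false
set_option linter.unusedSectionVars false
set_option linter.unusedVariables false

universe u

namespace Groth.Agent.Lib.LeadWeilCI

open MvPolynomial

section

variable {A : Type u} [CommRing A] (f : Fin 2 → A) (q : ℤ) (P : Polynomial ℤ)

lemma aeval_X0_eq (G : Polynomial ℤ) :
    (MvPolynomial.aeval f : R →ₐ[ℤ] A) (Polynomial.aeval (X 0 : R) G) =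
      Polynomial.aeval (f 0) G := by
  rw [← Polynomial.aeval_algHom_apply, MvPolynomial.aeval_X]

theorem finite_range (hPm : P.Monic) (h0 : Polynomial.aeval (f 0) P = 0)
    (h1 : Polynomial.aeval (f 1) P = 0) :
    Module.Finite ℤ (MvPolynomial.aeval f : R →ₐ[ℤ] A).range := by
  have hfg : (Subalgebra.toSubmodule (Algebra.adjoin ℤ (Set.range f))).FG := by
    refine fg_adjoin_of_finite (Set.finite_range f) ?_
    rintro y ⟨i, rfl⟩
    fin_cases i
    · exact ⟨P, hPm, by rw [← Polynomial.aeval_def]; exact h0⟩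
    · exact ⟨P, hPm, by rw [← Polynomial.aeval_def]; exact h1⟩
  rw [Algebra.adjoin_range_eq_range_aeval] at hfg
  exact Module.Finite.iff_fg.mpr hfg

/-- the submodule `ℤ[x]`. -/
noncomputable def M0 : Submodule ℤ A :=
  Subalgebra.toSubmodule (Polynomial.aeval (f 0) : Polynomial ℤ →ₐ[ℤ] A).range

lemma M0_le : M0 f ≤ Subalgebra.toSubmodule (MvPolynomial.aeval f : R →ₐ[ℤ] A).range := by
  rintro y ⟨G, rfl⟩
  exact ⟨Polynomial.aeval (X 0 : R) G, aeval_X0_eq f G⟩

lemma mul_mem_M0 (y : A) (hy : y ∈ M0 f) (N : ℕ) : f 0 ^ N * y ∈ M0 f := by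
  obtain ⟨G, rfl⟩ := hy
  exact ⟨Polynomial.X ^ N * G, by simp⟩

lemma ker_aeval_eq (h0 : Polynomial.aeval (f 0) P = 0)
    (hdvd : ∀ G : Polynomial ℤ, Polynomial.aeval (f 0) G = 0 → P ∣ G) :
    RingHom.ker (Polynomial.aeval (f 0) : Polynomial ℤ →ₐ[ℤ] A) = Ideal.span {P} := by
  ext G
  rw [RingHom.mem_ker, Ideal.mem_span_singleton]
  constructor
  · exact hdvd G
  · rintro ⟨G', rfl⟩
    rw [map_mul, h0, zero_mul]

/-- `ℤ[x] ≃ ℤ[X]/(P)`. -/
noncomputable def equivM0 (h0 : Polynomial.aeval (f 0) P = 0)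
    (hdvd : ∀ G : Polynomial ℤ, Polynomial.aeval (f 0) G = 0 → P ∣ G) :
    AdjoinRoot P ≃ₗ[ℤ] M0 f :=
  ((Ideal.quotientEquivAlgOfEq ℤ (ker_aeval_eq f P h0 hdvd)).toLinearEquiv.symm).trans
    (Ideal.quotientKerEquivRange (Polynomial.aeval (f 0) : Polynomial ℤ →ₐ[ℤ] A)).toLinearEquiv

theorem finite_M0 (hPm : P.Monic) (h0 : Polynomial.aeval (f 0) P = 0)
    (hdvd : ∀ G : Polynomial ℤ, Polynomial.aeval (f 0) G = 0 → P ∣ G) :
    Module.Finite ℤ (M0 f) := by
  haveI : Module.Finite ℤ (AdjoinRoot P) := (AdjoinRoot.powerBasis' hPm).finite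
  exact Module.Finite.equiv (equivM0 f P h0 hdvd)

theorem finrank_M0 (hPm : P.Monic) (h0 : Polynomial.aeval (f 0) P = 0)
    (hdvd : ∀ G : Polynomial ℤ, Polynomial.aeval (f 0) G = 0 → P ∣ G) :
    Module.finrank ℤ (M0 f) = P.natDegree := by
  rw [← (equivM0 f P h0 hdvd).finrank_eq, (AdjoinRoot.powerBasis' hPm).finrank,
    AdjoinRoot.powerBasis'_dim]

lemma pow_reg (hreg : ∀ y : A, f 0 * y = 0 → y = 0) (N : ℕ) :
    ∀ y : A, f 0 ^ N * y = 0 → y = 0 := by
  induction N with
  | zero => intro y hy; simpa using hy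
  | succ n ih =>
    intro y hy
    apply ih
    apply hreg
    rw [← mul_assoc, ← pow_succ']
    exact hy

lemma exists_pow_mul_mem (hgen : (MvPolynomial.aeval f : R →ₐ[ℤ] A) (gen q) = 0)
    (T : Finset A) (hT : ∀ t ∈ T, t ∈ (MvPolynomial.aeval f : R →ₐ[ℤ] A).range) :
    ∃ N : ℕ, ∀ s ∈ Submodule.span ℤ (T : Set A), f 0 ^ N * s ∈ M0 f := by
  classical
  induction T using Finset.induction_on with
  | empty =>
    refine ⟨0, fun s hs => ?_⟩
    rw [Finset.coe_empty, Submodule.span_empty, Submodule.mem_bot] at hs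
    rw [hs, mul_zero]
    exact Submodule.zero_mem _
  | insert t T ht ih =>
    obtain ⟨N', hN'⟩ := ih (fun t' ht' => hT t' (Finset.mem_insert_of_mem ht'))
    obtain ⟨g, hg⟩ := hT t (Finset.mem_insert_self t T)
    obtain ⟨Nt, G, hNG⟩ := reduce q g
    have hI : (MvPolynomial.aeval f : R →ₐ[ℤ] A) (X 0 ^ Nt * g - Polynomial.aeval (X 0 : R) G)
        = 0 := by
      rw [mem_I_iff] at hNG
      obtain ⟨c, hc⟩ := hNG
      rw [hc, map_mul, hgen, zero_mul]
    rw [map_sub, map_mul, map_pow, MvPolynomial.aeval_X, aeval_X0_eq, sub_eq_zero] at hI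
    have hg' : (MvPolynomial.aeval f : R →ₐ[ℤ] A) g = t := hg
    rw [hg'] at hI
    have ht0 : f 0 ^ Nt * t ∈ M0 f := by rw [hI]; exact ⟨G, rfl⟩
    refine ⟨N' + Nt, fun s hs => ?_⟩
    rw [Finset.coe_insert, Submodule.mem_span_insert] at hs
    obtain ⟨a, z, hz, rfl⟩ := hs
    have e : f 0 ^ (N' + Nt) * (a • t + z) =
        a • (f 0 ^ N' * (f 0 ^ Nt * t)) + f 0 ^ Nt * (f 0 ^ N' * z) := by
      rw [pow_add, mul_add, mul_smul_comm]
      ring_nf
    rw [e]
    exact Submodule.add_mem _ (Submodule.smul_mem _ _ (mul_mem_M0 f _ ht0 N'))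
      (mul_mem_M0 f _ (hN' z hz) Nt)

theorem finrank_range (hPm : P.Monic)
    (h0 : Polynomial.aeval (f 0) P = 0) (h1 : Polynomial.aeval (f 1) P = 0)
    (hdvd : ∀ G : Polynomial ℤ, Polynomial.aeval (f 0) G = 0 → P ∣ G)
    (hgen : (MvPolynomial.aeval f : R →ₐ[ℤ] A) (gen q) = 0)
    (hreg : ∀ y : A, f 0 * y = 0 → y = 0) :
    Module.finrank ℤ (MvPolynomial.aeval f : R →ₐ[ℤ] A).range = P.natDegree := by
  haveI hfin := finite_range f P hPm h0 h1
  set M : Submodule ℤ A := Subalgebra.toSubmodule (MvPolynomial.aeval f : R →ₐ[ℤ] A).range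
    with hM
  haveI : Module.Finite ℤ M := hfin
  have hge : P.natDegree ≤ Module.finrank ℤ M := by
    rw [← finrank_M0 f P hPm h0 hdvd]
    exact Submodule.finrank_mono (M0_le f)
  have hle : Module.finrank ℤ M ≤ P.natDegree := by
    obtain ⟨T, hT⟩ := (Module.Finite.iff_fg.mp hfin : M.FG)
    have hTM : ∀ t ∈ T, t ∈ (MvPolynomial.aeval f : R →ₐ[ℤ] A).range := by
      intro t ht
      have : t ∈ M := hT ▸ Submodule.subset_span ht
      exact this
    obtain ⟨N, hN⟩ := exists_pow_mul_mem f q hgen T hTM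
    rw [hT] at hN
    have hregN := pow_reg f hreg N
    set L : A →ₗ[ℤ] A := LinearMap.mulLeft ℤ (f 0 ^ N) with hL
    have hLinj : Function.Injective L := by
      rw [injective_iff_map_eq_zero]
      intro y hy
      exact hregN y hy
    have hmap : M.map L ≤ M0 f := by
      rintro y ⟨s, hs, rfl⟩
      exact hN s hs
    haveI := finite_M0 f P hPm h0 hdvd
    rw [(Submodule.equivMapOfInjective L hLinj M).finrank_eq, ← finrank_M0 f P hPm h0 hdvd]
    exact Submodule.finrank_mono hmap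
  exact le_antisymm hle hge

end

end Groth.Agent.Lib.LeadWeilCI

namespace Groth.Agent.Lib.LeadWeilCI

open MvPolynomial

section

variable {A : Type u} [CommRing A] (f : Fin 2 → A) (q : ℤ) (P : Polynomial ℤ)

theorem free_range [IsAddTorsionFree A] (hPm : P.Monic)
    (h0 : Polynomial.aeval (f 0) P = 0) (h1 : Polynomial.aeval (f 1) P = 0) :
    Module.Free ℤ (MvPolynomial.aeval f : R →ₐ[ℤ] A).range := by
  haveI := finite_range f P hPm h0 h1
  haveI : IsAddTorsionFree (MvPolynomial.aeval f : R →ₐ[ℤ] A).range :=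
    Function.Injective.isAddTorsionFree
      ((MvPolynomial.aeval f : R →ₐ[ℤ] A).range.val : _ →+ A) Subtype.val_injective
  exact Module.free_of_finite_type_torsion_free'

theorem krullDim_range [IsAddTorsionFree A] [Nontrivial A] (hPm : P.Monic)
    (h0 : Polynomial.aeval (f 0) P = 0) (h1 : Polynomial.aeval (f 1) P = 0) :
    ringKrullDim (MvPolynomial.aeval f : R →ₐ[ℤ] A).range = 1 := by
  haveI := finite_range f P hPm h0 h1
  haveI : Algebra.IsIntegral ℤ (MvPolynomial.aeval f : R →ₐ[ℤ] A).range :=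
    Algebra.IsIntegral.of_finite ℤ _
  have hinj : Function.Injective (algebraMap ℤ (MvPolynomial.aeval f : R →ₐ[ℤ] A).range) := by
    rw [injective_iff_map_eq_zero]
    intro n hn
    have h2 : ((algebraMap ℤ (MvPolynomial.aeval f : R →ₐ[ℤ] A).range n : _) : A) = 0 := by
      rw [hn]; rfl
    have h3 : n • (1 : A) = 0 := by
      rw [← h2]; simp
    rcases smul_eq_zero.mp h3 with h | h
    · exact h
    · exact absurd h one_ne_zero
  rw [Groth.Agent.Lib.Helper5.ringKrullDim_eq_of_isIntegral_of_injective ℤ _ hinj]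
  exact IsPrincipalIdealRing.ringKrullDim_eq_one ℤ Int.not_isField

end

end Groth.Agent.Lib.LeadWeilCI
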