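import Groth.Agent.Lib.LeadWeilCIF
import Groth.Agent.Lib.LeadWeilCIH
import Groth.Agent.Lib.LeadWeilCII
import Groth.Agent.Lib.LeadWeilCIJ

set_option autoImplicit false
set_option maxHeartbeats 400000
set_option linter.style.haveILetI false
set_option linter.unusedSectionVars false
set_option linter.unusedVariables false

universe u

namespace Groth.Agent.Lib.LeadWeilCI

open MvPolynomial

theorem minOrder (p e : ℕ) [Fact p.Prime] (he : 0 < e)
    (ι : Type) [Fintype ι] (K : ι → Type u) [∀ i, Field (K i)] [∀ i, CharZero (K i)] (π : ∀ i, K i)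
    (hint : ∀ i, IsIntegral ℤ (π i))
    (hweil : ∀ i, ∀ z ∈ (minpoly ℤ (π i)).aroots ℂ, ‖z‖ = Real.sqrt ((p : ℝ) ^ e))
    (hinj : ∀ i j, minpoly ℤ (π i) = minpoly ℤ (π j) → i = j)
    [Nonempty ι] (D : ℕ) (hD : ∑ i, (minpoly ℤ (π i)).natDegree = 2 * D) :
    Module.Free ℤ (MvPolynomial.aeval ![fun i => π i, fun i => ((p : K i) ^ e) / π i] :
        R →ₐ[ℤ] ((i : ι) → K i)).range ∧
      Module.finrank ℤ (MvPolynomial.aeval ![fun i => π i, fun i => ((p : K i) ^ e) / π i] :
        R →ₐ[ℤ] ((i : ι) → K i)).range = 2 * D ∧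
      ringKrullDim (MvPolynomial.aeval ![fun i => π i, fun i => ((p : K i) ^ e) / π i] :
        R →ₐ[ℤ] ((i : ι) → K i)).range = 1 ∧
      LocCoh.IsGorensteinRing (MvPolynomial.aeval ![fun i => π i, fun i => ((p : K i) ^ e) / π i] :
        R →ₐ[ℤ] ((i : ι) → K i)).range := by
  classical
  have hp : Prime (p : ℤ) := Nat.prime_iff_prime_int.mp Fact.out
  set q : ℤ := (p : ℤ) ^ e with hq
  have hq0 : q ≠ 0 := pow_ne_zero _ hp.ne_zero
  set f : Fin 2 → ((i : ι) → K i) := ![fun i => π i, fun i => ((p : K i) ^ e) / π i] with hf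
  set φ : R →ₐ[ℤ] ((i : ι) → K i) := MvPolynomial.aeval f with hφ
  set P : Polynomial ℤ := ∏ i, minpoly ℤ (π i) with hP
  have hmon : ∀ i, (minpoly ℤ (π i)).Monic := fun i => minpoly.monic (hint i)
  have hPm : P.Monic := Polynomial.monic_prod_of_monic _ _ (fun i _ => hmon i)
  have hdeg : P.natDegree = 2 * D := by
    rw [hP, Polynomial.natDegree_prod_of_monic _ _ (fun i _ => hmon i), hD]
  have hr : ∀ i, ∀ z ∈ (minpoly ℤ (π i)).aroots ℂ, ‖z‖ = Real.sqrt ((p ^ e : ℕ) : ℝ) := by
    intro i z hz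
    rw [Nat.cast_pow]
    exact hweil i z hz
  have hrP : ∀ z ∈ P.aroots ℂ, ‖z‖ = Real.sqrt ((p ^ e : ℕ) : ℝ) := by
    intro z hz
    rw [Polynomial.mem_aroots] at hz
    obtain ⟨-, hz⟩ := hz
    rw [hP, map_prod, Finset.prod_eq_zero_iff] at hz
    obtain ⟨i, -, hi⟩ := hz
    exact hr i z ((Polynomial.mem_aroots).mpr ⟨(hmon i).ne_zero, hi⟩)
  have hP0 : (P.coeff 0).natAbs = (q ^ D).natAbs := by
    have := natAbs_coeff_zero_prod (fun i => minpoly ℤ (π i)) hmon (p ^ e) hr D hD
    rw [Nat.cast_pow] at this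
    exact this
  have hfe : ∀ j ≤ P.natDegree, P.coeff j * q ^ j = P.coeff 0 * P.coeff (P.natDegree - j) := by
    intro j hj
    have := coeff_mul_pow_eq P hPm (p ^ e) hrP j hj
    rw [Nat.cast_pow] at this
    exact this
  obtain ⟨h, hh⟩ := exists_h q hq0 D P hdeg hP0 hfe
  have hker := ker_eq p e he ι K π hint hweil hinj D hD h hh
  have hf0 : f 0 = fun i => π i := by simp [hf]
  have hf1 : f 1 = fun i => ((p : K i) ^ e) / π i := by simp [hf]
  have hgen : φ (gen q) = 0 := by
    have : gen q ∈ RingHom.ker φ := by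
      rw [hker]; exact Ideal.subset_span (Or.inl rfl)
    exact this
  have hπ : ∀ i, π i ≠ 0 := by
    intro i h0
    have h1 := congrFun hgen i
    rw [gen, map_sub, map_mul, hφ, MvPolynomial.aeval_X, MvPolynomial.aeval_X, hf0, hf1] at h1
    simp only [Pi.sub_apply, Pi.mul_apply, h0, zero_mul, Pi.zero_apply, zero_sub,
      neg_eq_zero] at h1
    have h2 : ((MvPolynomial.aeval f) (C q) : (i : ι) → K i) i = (q : K i) := by simp
    rw [h2, hq] at h1
    have h3 : ((p : ℤ) ^ e : K i) ≠ 0 := by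
      have : (p : K i) ≠ 0 := by
        exact_mod_cast (Fact.out : p.Prime).ne_zero
      exact_mod_cast pow_ne_zero e this
    exact h3 (by exact_mod_cast h1)
  have hPπ : ∀ i, Polynomial.aeval (π i) P = 0 := by
    intro i
    rw [hP, map_prod]
    exact Finset.prod_eq_zero (Finset.mem_univ i) (minpoly.aeval ℤ (π i))
  have h0 : Polynomial.aeval (f 0) P = 0 := by
    rw [hf0, Polynomial.aeval_pi_apply]
    funext i
    exact hPπ i
  have hstar := star_eq P hPm (p ^ e) hrP
  have ha0 : P.coeff 0 ≠ 0 := by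
    intro h0'
    rw [h0', Int.natAbs_zero] at hP0
    exact (Int.natAbs_ne_zero.mpr (pow_ne_zero D hq0)) hP0.symm
  have h1 : Polynomial.aeval (f 1) P = 0 := by
    rw [hf1, Polynomial.aeval_pi_apply]
    funext i
    have h2 := aeval_star P ((p ^ e : ℕ) : ℤ) (((p : K i) ^ e) / π i) (π i)
      (by rw [div_mul_cancel₀ _ (hπ i)]; push_cast; ring)
    rw [hstar, hPπ i, mul_zero, map_mul, Polynomial.aeval_C] at h2
    rcases mul_eq_zero.mp h2 with h3 | h3
    · rw [algebraMap_int_eq, eq_intCast, Int.cast_eq_zero] at h3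
      exact absurd h3 ha0
    · exact h3
  have hdvd : ∀ G : Polynomial ℤ, Polynomial.aeval (f 0) G = 0 → P ∣ G := by
    intro G hG
    rw [hf0, Polynomial.aeval_pi_apply] at hG
    have hd : ∀ i, minpoly ℤ (π i) ∣ G := fun i =>
      minpoly.isIntegrallyClosed_dvd (hint i) (congrFun hG i)
    have hprime : ∀ i, Prime (minpoly ℤ (π i)) := fun i =>
      minpoly.prime_of_isIntegrallyClosed (hint i)
    rw [hP]
    refine Finset.prod_dvd_of_isRelPrime ?_ (fun i _ => hd i)
    intro i _ j _ hij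
    refine (Irreducible.isRelPrime_iff_not_dvd (hprime i).irreducible).mpr (fun hd' => hij ?_)
    exact hinj i j (Polynomial.eq_of_monic_of_associated (hmon i) (hmon j)
      ((hprime i).irreducible.associated_of_dvd (hprime j).irreducible hd'))
  have hreg : ∀ y : (i : ι) → K i, f 0 * y = 0 → y = 0 := by
    intro y hy
    funext i
    have := congrFun hy i
    rw [hf0] at this
    exact (mul_eq_zero.mp this).resolve_left (hπ i)
  refine ⟨free_range f P hPm h0 h1, ?_, krullDim_range f P hPm h0 h1, ?_⟩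
  · exact (finrank_range f q P hPm h0 h1 hdvd hgen hreg).trans hdeg
  · refine gor_of_surjective (φ.rangeRestrict : R →+* φ.range) φ.rangeRestrict_surjective hq0 h ?_
      (h_cancel hq0 D P hPm.ne_zero h hh)
    rw [← hker]
    exact AlgHom.ker_rangeRestrict φ

end Groth.Agent.Lib.LeadWeilCI
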