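import Groth.Agent.Lib.Helper10WeilCorr

/-!
# Weil cohomology: composition of correspondences and the trace pairing

`Tr_P(φ ∪ σ^* ψ) = Σ (-1)^i tr(ψ ∘ φ | H^i X)` for classes `φ` on `X × Y` and `ψ` on `Y × X`
acting as correspondences, `σ` the swap.
-/

set_option maxHeartbeats 400000

universe u v

open AlgebraicGeometry CategoryTheory CategoryTheory.Limits
open Groth.Agent.Lib.Helper10.WeilPt

namespace Groth.Agent.Lib.LeadWeilCorr

variable {k : Type u} [Field k] [IsAlgClosed k] {K : Type v} [Field K] [CharZero K]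
  (T : WeilCoh.Theory k K)

/-- the action of a class on a product as a correspondence -/
noncomputable def act {X Y P : WeilCoh.Var k} (p : P ⟶ X) (q : P ⟶ Y) (d : ℤ)
    (φ : T.gr P d) (i : ℤ) :
    T.gr X i →ₗ[K] T.gr Y (i + d + 2 * (WeilCoh.dim Y.obj.left : ℤ) -
      2 * (WeilCoh.dim P.obj.left : ℤ)) :=
  (T.push q (i + d)) ∘ₗ
    ((LinearMap.mulRight K (φ : T.H P)).restrict (p := T.gr P i) (q := T.gr P (i + d))
      (fun x hx => SetLike.mul_mem_graded hx φ.2)) ∘ₗ (T.pullDeg p i)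

lemma tr_act {X Y P : WeilCoh.Var k} (p : P ⟶ X) (q : P ⟶ Y) (d : ℤ) (φ : T.gr P d) (i : ℤ)
    (x : T.gr X i) (b : T.H Y)
    (hb : b ∈ T.gr Y (2 * (WeilCoh.dim P.obj.left : ℤ) - (i + d))) :
    T.tr Y ((act T p q d φ i x : T.H Y) * b) =
      T.tr P (T.pull p (x : T.H X) * (φ : T.H P) * T.pull q b) :=
  tr_push_mul T q (i + d) _ b hb

lemma tr_act_hom {X Y P : WeilCoh.Var k} (p : P ⟶ X) (q : P ⟶ Y) (d : ℤ) (φ : T.gr P d) (i : ℤ)
    (x : T.gr X i) (t : ℤ) (b : T.H Y) (hb : b ∈ T.gr Y t) :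
    T.tr Y ((act T p q d φ i x : T.H Y) * b) =
      T.tr P (T.pull p (x : T.H X) * (φ : T.H P) * T.pull q b) := by
  by_cases ht : t = 2 * (WeilCoh.dim P.obj.left : ℤ) - (i + d)
  · subst ht
    exact tr_act T p q d φ i x b hb
  · rw [T.tr_vanish Y _ _ (SetLike.mul_mem_graded (act T p q d φ i x).2 hb) (by omega),
      T.tr_vanish P _ _ (SetLike.mul_mem_graded
        (SetLike.mul_mem_graded (T.pull_mem p i _ x.2) φ.2) (T.pull_mem q t _ hb)) (by omega)]

lemma act_congr {X Y P : WeilCoh.Var k} (p : P ⟶ X) (q : P ⟶ Y) (d : ℤ) (φ : T.gr P d)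
    {a b : ℤ} (h : a = b) (x : T.gr X a) (x' : T.gr X b) (hx : (x : T.H X) = (x' : T.H X)) :
    (act T p q d φ a x : T.H Y) = (act T p q d φ b x' : T.H Y) := by
  subst h
  have : x = x' := Subtype.ext hx
  rw [this]

omit [CharZero K] in
lemma sign_mul_eq_one (a b c d : ℤ) (h : Even (a * b + c * d)) :
    (-1 : K) ^ (a.natAbs * b.natAbs) * (-1 : K) ^ (c.natAbs * d.natAbs) = 1 := by
  rw [← pow_add]
  apply Even.neg_one_pow
  rw [← Int.natAbs_mul, ← Int.natAbs_mul, Nat.even_add, Int.natAbs_even, Int.natAbs_even,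
    ← Int.even_add]
  exact h

section Swap

variable {X Y P : WeilCoh.Var k} (p : P ⟶ X) (q : P ⟶ Y) (hP : WeilCoh.IsProd p q)

include hP in
lemma tr_swap_hom (s t : ℤ) (c : T.H Y) (d : T.H X) (hc : c ∈ T.gr Y s) (hd : d ∈ T.gr X t) :
    T.tr P (T.pull q c * T.pull p d) = T.tr Y c * T.tr X d := by
  rw [T.gradedComm P s t _ _ (T.pull_mem q s c hc) (T.pull_mem p t d hd), map_smul, smul_eq_mul,
    tr_prod_all T p q hP]
  by_cases h1 : s = 2 * (WeilCoh.dim Y.obj.left : ℤ)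
  · have hE : Even (s.natAbs * t.natAbs) := by
      have h2 : Even (2 : ℤ).natAbs := ⟨1, rfl⟩
      rw [h1, Int.natAbs_mul]
      exact (h2.mul_right _).mul_right _
    rw [hE.neg_one_pow, one_mul, mul_comm]
  · rw [T.tr_vanish Y s c hc h1]
    simp

include hP in
lemma tr_swap_all (c : T.H Y) (d : T.H X) :
    T.tr P (T.pull q c * T.pull p d) = T.tr Y c * T.tr X d := by
  refine Submodule.iSup_induction (T.gr Y) (motive := fun c => ∀ d,
    T.tr P (T.pull q c * T.pull p d) = T.tr Y c * T.tr X d) (mem_iSup_gr T Y c) ?_ ?_ ?_ d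
  · intro s c hc d
    refine Submodule.iSup_induction (T.gr X) (motive := fun d =>
      T.tr P (T.pull q c * T.pull p d) = T.tr Y c * T.tr X d) (mem_iSup_gr T X d) ?_ ?_ ?_
    · intro t d hd
      exact tr_swap_hom T p q hP s t c d hc hd
    · simp
    · intro x y hx hy
      rw [map_add, mul_add, map_add, hx, hy, map_add, mul_add]
  · intro d; simp
  · intro x y hx hy d
    rw [map_add, add_mul, map_add, hx d, hy d, map_add, add_mul]

variable {P' : WeilCoh.Var k} (p' : P' ⟶ Y) (q' : P' ⟶ X) (hP' : WeilCoh.IsProd p' q')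
  (σ : P ⟶ P') (hσ₁ : σ ≫ p' = q) (hσ₂ : σ ≫ q' = p)

include hP hP' hσ₁ hσ₂ in
/-- the trace is invariant under pull-back along the swap -/
lemma tr_pull_swap (z : T.H P') : T.tr P (T.pull σ z) = T.tr P' z := by
  obtain ⟨w, rfl⟩ := (T.kunneth p' q' hP').2 z
  induction w using TensorProduct.induction_on with
  | zero => simp
  | tmul c d =>
    change T.tr P (T.pull σ (T.pull p' c * T.pull q' d)) = T.tr P' (T.pull p' c * T.pull q' d)
    rw [map_mul, pull_pull, pull_pull, hσ₁, hσ₂, tr_prod_all T p' q' hP', tr_swap_all T p q hP]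
  | add a b ha hb =>
    simp only [map_add]
    rw [ha, hb]

include hP hP' hσ₁ hσ₂ in
/-- the key term-by-term identity -/
lemma tr_mul_act_swap (d' : ℤ) (ψ : T.gr P' d') (j : ℤ) (y : T.gr Y j) (s : ℤ) (f : T.H X)
    (hf : f ∈ T.gr X (2 * (WeilCoh.dim X.obj.left : ℤ) - s))
    (hs : j + d' + 2 * (WeilCoh.dim X.obj.left : ℤ) - 2 * (WeilCoh.dim P'.obj.left : ℤ) = s) :
    T.tr X (f * (act T p' q' d' ψ j y : T.H X)) =
      T.tr P (T.pull p f * T.pull q (y : T.H Y) * T.pull σ (ψ : T.H P')) := by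
  have hΨ : (act T p' q' d' ψ j y : T.H X) ∈ T.gr X s :=
    (show ∀ (a b : ℤ) (_ : a = b) (z : T.gr X a), (z : T.H X) ∈ T.gr X b from
      fun a b h z => h ▸ z.2) _ _ hs (act T p' q' d' ψ j y)
  have hb : f ∈ T.gr X (2 * (WeilCoh.dim P'.obj.left : ℤ) - (j + d')) := by
    have e1 : 2 * (WeilCoh.dim P'.obj.left : ℤ) - (j + d') =
        2 * (WeilCoh.dim X.obj.left : ℤ) - s := by omega
    rw [e1]; exact hf
  have h1 := T.gradedComm X _ _ f _ hf hΨ
  have h2 := tr_act T p' q' d' ψ j y f hb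
  have h3 := tr_pull_swap T p q hP p' q' hP' σ hσ₁ hσ₂
    (T.pull p' (y : T.H Y) * (ψ : T.H P') * T.pull q' f)
  have h4 : T.pull σ (T.pull p' (y : T.H Y) * (ψ : T.H P') * T.pull q' f) =
      T.pull q (y : T.H Y) * T.pull σ (ψ : T.H P') * T.pull p f := by
    rw [map_mul, map_mul, pull_pull, pull_pull, hσ₁, hσ₂]
  have hm1 : T.pull q (y : T.H Y) * T.pull σ (ψ : T.H P') ∈ T.gr P (j + d') :=
    SetLike.mul_mem_graded (T.pull_mem q j _ y.2) (T.pull_mem σ d' _ ψ.2)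
  have hm2 : T.pull p f ∈ T.gr P (2 * (WeilCoh.dim X.obj.left : ℤ) - s) := T.pull_mem p _ _ hf
  have h5 := T.gradedComm P _ _ _ _ hm1 hm2
  have hjd : j + d' = s - 2 * (WeilCoh.dim X.obj.left : ℤ) +
      2 * (WeilCoh.dim P'.obj.left : ℤ) := by omega
  have hsign : (-1 : K) ^ ((2 * (WeilCoh.dim X.obj.left : ℤ) - s).natAbs * s.natAbs) *
      (-1 : K) ^ ((j + d').natAbs * (2 * (WeilCoh.dim X.obj.left : ℤ) - s).natAbs) = 1 := by
    apply sign_mul_eq_one
    refine ⟨(2 * (WeilCoh.dim X.obj.left : ℤ) - s) *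
      (s - (WeilCoh.dim X.obj.left : ℤ) + (WeilCoh.dim P'.obj.left : ℤ)), ?_⟩
    rw [hjd]; ring
  calc T.tr X (f * (act T p' q' d' ψ j y : T.H X))
      = (-1 : K) ^ ((2 * (WeilCoh.dim X.obj.left : ℤ) - s).natAbs * s.natAbs) *
          T.tr X ((act T p' q' d' ψ j y : T.H X) * f) := by
        rw [h1, map_smul, smul_eq_mul]
    _ = (-1 : K) ^ ((2 * (WeilCoh.dim X.obj.left : ℤ) - s).natAbs * s.natAbs) *
          T.tr P (T.pull q (y : T.H Y) * T.pull σ (ψ : T.H P') * T.pull p f) := by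
        rw [h2, ← h3, h4]
    _ = (-1 : K) ^ ((2 * (WeilCoh.dim X.obj.left : ℤ) - s).natAbs * s.natAbs) *
          ((-1 : K) ^ ((j + d').natAbs * (2 * (WeilCoh.dim X.obj.left : ℤ) - s).natAbs) *
            T.tr P (T.pull p f * (T.pull q (y : T.H Y) * T.pull σ (ψ : T.H P')))) := by
        rw [h5, map_smul, smul_eq_mul]
    _ = T.tr P (T.pull p f * T.pull q (y : T.H Y) * T.pull σ (ψ : T.H P')) := by
        rw [← mul_assoc ((-1 : K) ^ ((2 * (WeilCoh.dim X.obj.left : ℤ) - s).natAbs * s.natAbs)),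
          hsign, one_mul, mul_assoc]

end Swap

section Expand

variable {X Y P : WeilCoh.Var k} (p : P ⟶ X) (q : P ⟶ Y) (hP : WeilCoh.IsProd p q)
  (ι : ℕ → Type) [∀ r, Fintype (ι r)] [∀ r, DecidableEq (ι r)]
  (e : (r : ℕ) → Module.Basis (ι r) K ↥(T.gr X (r : ℤ)))
  (f : (r : ℕ) → ι r → ↥(T.gr X (2 * (WeilCoh.dim X.obj.left : ℤ) - r)))
  (hef : ∀ r, r ≤ 2 * WeilCoh.dim X.obj.left → ∀ i l : ι r,
    T.tr X ((f r l : T.H X) * (e r i : T.H X)) = if i = l then 1 else 0)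

include hP hef in
/-- a class on a product is the Künneth expansion of its action as a correspondence -/
lemma eq_corrClass (d : ℤ) (φ : T.gr P d) (y : (r : ℕ) → ι r → T.H Y)
    (hy : ∀ s l, y s l = (act T p q d φ (s : ℤ) (e s l) : T.H Y)) :
    (φ : T.H P) = corrClass T p q ι f y := by
  have hd := dim_prod p q hP
  have hmem : corrClass T p q ι f y ∈ T.gr P d := by
    apply corrClass_mem
    intro s l
    rw [hy]
    have h1 := (act T p q d φ (s : ℤ) (e s l)).2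
    have e1 : (s : ℤ) + d + 2 * (WeilCoh.dim Y.obj.left : ℤ) - 2 * (WeilCoh.dim P.obj.left : ℤ) =
        d - (2 * (WeilCoh.dim X.obj.left : ℤ) - s) := by
      rw [hd]; push_cast; ring
    rw [← e1]
    exact h1
  apply eq_of_forall_tr_pull_mul T p q hP d _ _ φ.2 hmem
  intro s x hx t b hb
  by_cases hs : ∃ s' : ℕ, s = (s' : ℤ) ∧ s' ≤ 2 * WeilCoh.dim X.obj.left
  · obtain ⟨s', rfl, hs'⟩ := hs
    have h1 := tr_act_hom T p q d φ (s' : ℤ) ⟨x, hx⟩ t b hb
    rw [tr_corrClass T p q hP ι e f hef y s' hs' x hx b]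
    refine h1.symm.trans ?_
    conv_lhs => rw [← (e s').sum_repr ⟨x, hx⟩]
    rw [map_sum, Submodule.coe_sum, Finset.sum_mul, map_sum]
    refine Finset.sum_congr rfl fun l _ => ?_
    rw [hy, map_smul, Submodule.coe_smul, smul_mul_assoc, map_smul, smul_eq_mul]
  · have hx0 : x = 0 := by
      apply eq_zero_of_mem_of_lt T x s hx
      by_contra hcon
      push Not at hcon
      exact hs ⟨s.toNat, by omega, by omega⟩
    subst hx0
    simp

include hef in
/-- the trace of an endomorphism of `H^s` through the Poincaré dual family -/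
lemma trace_eq_sum_dual (s : ℕ) (hs : s ≤ 2 * WeilCoh.dim X.obj.left)
    (A : ↥(T.gr X (s : ℤ)) →ₗ[K] ↥(T.gr X (s : ℤ))) :
    LinearMap.trace K ↥(T.gr X (s : ℤ)) A =
      ∑ l : ι s, T.tr X ((f s l : T.H X) * (A (e s l) : T.H X)) := by
  rw [LinearMap.trace_eq_matrix_trace K (e s), Matrix.trace]
  refine Finset.sum_congr rfl fun l _ => ?_
  rw [Matrix.diag_apply, LinearMap.toMatrix_apply]
  exact (tr_dual_mul T ι e f hef s hs l _ (A (e s l)).2).symm

end Expand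

/-- S15748, for arbitrary degrees. -/
theorem tr_mul_pull_swap_eq {X Y P P' : WeilCoh.Var k}
    (p : P ⟶ X) (q : P ⟶ Y) (hP : WeilCoh.IsProd p q)
    (p' : P' ⟶ Y) (q' : P' ⟶ X) (hP' : WeilCoh.IsProd p' q')
    (σ : P ⟶ P') (hσ₁ : σ ≫ p' = q) (hσ₂ : σ ≫ q' = p) (d d' : ℤ)
    (hdim : ∀ i : ℤ, (i + d + 2 * (WeilCoh.dim Y.obj.left : ℤ) -
      2 * (WeilCoh.dim P.obj.left : ℤ)) + d' + 2 * (WeilCoh.dim X.obj.left : ℤ) -
      2 * (WeilCoh.dim P'.obj.left : ℤ) = i)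
    (φ : ↥(T.gr P d)) (ψ : ↥(T.gr P' d')) :
    T.tr P ((φ : T.H P) * T.pull σ (ψ : T.H P')) =
      ∑ i ∈ Finset.range (2 * WeilCoh.dim X.obj.left + 1),
        (-1 : K) ^ i * LinearMap.trace K ↥(T.gr X (i : ℤ))
          ((LinearEquiv.ofEq _ (T.gr X (i : ℤ)) (congrArg (T.gr X) (hdim (i : ℤ)))).toLinearMap ∘ₗ
            (act T p' q' d' ψ ((i : ℤ) + d + 2 * (WeilCoh.dim Y.obj.left : ℤ) -
              2 * (WeilCoh.dim P.obj.left : ℤ))) ∘ₗ (act T p q d φ (i : ℤ))) := by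
  obtain ⟨ι, _, _, e, f, hef⟩ := exists_dual_family T X
  have hφ := eq_corrClass T p q hP ι e f hef d φ
    (fun s l => (act T p q d φ (s : ℤ) (e s l) : T.H Y)) (fun s l => rfl)
  rw [hφ]
  unfold corrClass
  rw [Finset.sum_mul, map_sum]
  refine Finset.sum_congr rfl fun s hs => ?_
  have hs' : s ≤ 2 * WeilCoh.dim X.obj.left := by
    have := Finset.mem_range.mp hs; omega
  rw [trace_eq_sum_dual T ι e f hef s hs', Finset.mul_sum, Finset.sum_mul, map_sum]
  refine Finset.sum_congr rfl fun l _ => ?_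
  rw [smul_mul_assoc, map_smul, smul_eq_mul]
  congr 1
  exact (tr_mul_act_swap T p q hP p' q' hP' σ hσ₁ hσ₂ d' ψ _ (act T p q d φ (s : ℤ) (e s l))
    (s : ℤ) (f s l : T.H X) (f s l).2 (hdim (s : ℤ))).symm

section Involution

variable {X P : WeilCoh.Var k} (p q : P ⟶ X) (hP : WeilCoh.IsProd p q) (σ : P ⟶ P)
  (hσp : σ ≫ p = q) (hσq : σ ≫ q = p)

include hP hσp hσq in
lemma swap_swap : σ ≫ σ = 𝟙 P := by
  have h1 : (σ ≫ σ) ≫ p = 𝟙 P ≫ p := by rw [Category.assoc, hσp, hσq, Category.id_comp]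
  have h2 : (σ ≫ σ) ≫ q = 𝟙 P ≫ q := by rw [Category.assoc, hσq, hσp, Category.id_comp]
  apply ObjectProperty.hom_ext
  apply Over.OverMorphism.ext
  apply hP.hom_ext
  · exact congrArg (fun φ => WeilCoh.sm φ) h1
  · exact congrArg (fun φ => WeilCoh.sm φ) h2

include hP hσp hσq in
lemma pull_swap_cl (y : P.obj.left) : T.pull σ (T.cl P y) = T.cl P (WeilCoh.sm σ y) := by
  have hσσ := swap_swap p q hP σ hσp hσq
  apply eq_of_forall_tr_mul T P
  intro a
  rw [tr_cl_section_mul' T σ σ hσσ y a]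
  have e1 : a = T.pull σ (T.pull σ a) := by rw [pull_pull, pull_of_eq_id T _ hσσ]
  conv_lhs => rw [e1, ← map_mul]
  exact tr_pull_swap T p q hP p q hP σ hσp hσq _

include hP hσp hσq in
lemma pull_swap_mem_span (v : T.H P) (hv : v ∈ Submodule.span K (Set.range (T.cl P))) :
    T.pull σ v ∈ Submodule.span K (Set.range (T.cl P)) := by
  refine Submodule.span_induction
    (p := fun x _ => T.pull σ x ∈ Submodule.span K (Set.range (T.cl P))) ?_ ?_ ?_ ?_ hv
  · intro x hx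
    obtain ⟨y, rfl⟩ := hx
    rw [pull_swap_cl T p q hP σ hσp hσq y]
    exact Submodule.subset_span ⟨_, rfl⟩
  · rw [map_zero]; exact Submodule.zero_mem _
  · intro a b _ _ ha hb
    rw [map_add]; exact Submodule.add_mem _ ha hb
  · intro c a _ ha
    rw [map_smul]; exact Submodule.smul_mem _ c ha

end Involution

end Groth.Agent.Lib.LeadWeilCorr
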