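import Mathlib

/-!
# Linear algebra for the functional equation of the zeta function (lead)

Universe-polymorphic forms of the determinant and characteristic-polynomial identities for two
endomorphisms adjoint up to a scalar under a perfect pairing, the characteristic polynomial of a
scalar multiple, parity of the rank of a skew perfect pairing, and the rational-function
manipulation deducing `Z(1/(q^n t)) = ± q^{nE/2} t^E Z(t)`.
-/

set_option maxHeartbeats 400000
set_option autoImplicit false

universe u v

open Polynomial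

namespace Groth.Agent.Lib.LeadWeilFE

section LinAlg

variable {K : Type u} [Field K] {V W : Type v} [AddCommGroup V] [Module K V]
  [FiniteDimensional K V] [AddCommGroup W] [Module K W] [FiniteDimensional K W]

theorem det_mul_det_of_pairing_scaled (B : V →ₗ[K] W →ₗ[K] K) [B.IsPerfPair]
    (F : V →ₗ[K] V) (G : W →ₗ[K] W) (c : K)
    (hFG : ∀ (v : V) (w : W), B (F v) (G w) = c * B v w) :
    LinearMap.det F * LinearMap.det G = c ^ Module.finrank K V := by
  classical
  let β : V ≃ₗ[K] Module.Dual K W := B.toPerfPair
  have hcomp : ((β.symm : Module.Dual K W →ₗ[K] V) ∘ₗ G.dualMap ∘ₗ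
      (β.symm.symm : V →ₗ[K] Module.Dual K W)) ∘ₗ F = c • LinearMap.id := by
    apply LinearMap.ext
    intro v
    simp only [LinearMap.comp_apply, LinearEquiv.coe_coe, LinearEquiv.symm_symm,
      LinearMap.smul_apply, LinearMap.id_apply]
    apply β.injective
    rw [LinearEquiv.apply_symm_apply, map_smul]
    apply LinearMap.ext
    intro w
    simp only [LinearMap.dualMap_apply, LinearMap.smul_apply, smul_eq_mul, β,
      LinearMap.toPerfPair_apply]
    exact hFG v w
  have hdet := congrArg LinearMap.det hcomp
  rw [LinearMap.det_comp, LinearMap.det_conj, LinearMap.det_dualMap, LinearMap.det_smul,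
    LinearMap.det_id, mul_one] at hdet
  rw [mul_comm]
  exact hdet

theorem det_smul_reverse_charpoly_eq_of_pairing_scaled (B : V →ₗ[K] W →ₗ[K] K) [B.IsPerfPair]
    (f : V →ₗ[K] V) (g : W →ₗ[K] W)
    (c : K) (hc : c ≠ 0) (hfg : ∀ (v : V) (w : W), B (f v) (g w) = c * B v w) :
    LinearMap.det f • (LinearMap.charpoly g).reverse =
      ((-1) ^ Module.finrank K W * c ^ Module.finrank K W) • (c⁻¹ • f).charpoly := by
  classical
  have mat_key : ∀ {ι : Type v} [Fintype ι] [DecidableEq ι] (F H : Matrix ι ι K),
      H * F = c • (1 : Matrix ι ι K) →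
      F.det • H.charpoly.reverse =
        ((-1) ^ Fintype.card ι * c ^ Fintype.card ι) • (c⁻¹ • F).charpoly := by
    intro ι _ _ F H hHF
    rw [Matrix.reverse_charpoly, Matrix.charpolyRev, Matrix.charpoly, Polynomial.smul_eq_C_mul,
      Polynomial.smul_eq_C_mul]
    have h1 : (Polynomial.C F.det : Polynomial K) = (F.map Polynomial.C).det := by
      rw [RingHom.map_det, RingHom.mapMatrix_apply]
    have hcc : (Polynomial.C c * Polynomial.C c⁻¹ : Polynomial K) = 1 := by
      rw [← Polynomial.C_mul, mul_inv_cancel₀ hc, Polynomial.C_1]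
    have h2 : ((1 : Matrix ι ι (Polynomial K)) - (Polynomial.X : Polynomial K) • H.map Polynomial.C) *
        F.map Polynomial.C =
        (-(Polynomial.C c : Polynomial K)) • Matrix.charmatrix (c⁻¹ • F) := by
      have h3 : H.map Polynomial.C * F.map Polynomial.C =
          (Polynomial.C c : Polynomial K) • (1 : Matrix ι ι (Polynomial K)) := by
        rw [← Matrix.map_mul, hHF]
        refine Matrix.ext (fun i j => ?_)
        simp only [Matrix.map_apply, Matrix.smul_apply, Matrix.one_apply, smul_eq_mul]
        split_ifs <;> simp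
      rw [sub_mul, one_mul, Matrix.smul_mul, h3]
      refine Matrix.ext (fun i j => ?_)
      simp only [Matrix.sub_apply, Matrix.smul_apply, Matrix.map_apply, Matrix.charmatrix_apply,
        Matrix.one_apply, Matrix.diagonal_apply, smul_eq_mul, Polynomial.C_mul]
      split_ifs with hij
      · linear_combination (-(Polynomial.C (F i j))) * hcc
      · linear_combination (-(Polynomial.C (F i j))) * hcc
    rw [h1, mul_comm, ← Matrix.det_mul, h2, Matrix.det_smul]
    congr 1
    rw [neg_pow, ← Polynomial.C_pow]
    simp [mul_comm]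
  have hdual : ∀ φ : W →ₗ[K] W, φ.dualMap.charpoly = φ.charpoly := by
    intro φ
    set b := Module.Free.chooseBasis K W
    rw [← LinearMap.charpoly_toMatrix φ b, ← LinearMap.charpoly_toMatrix φ.dualMap b.dualBasis]
    simp [LinearMap.dualMap_def, LinearMap.toMatrix_transpose, Matrix.charpoly_transpose]
  set h : V →ₗ[K] V := B.toPerfPair.symm.conj g.dualMap with hh
  have hcp : h.charpoly = g.charpoly := by
    rw [hh, LinearEquiv.charpoly_conj, hdual]
  have hB : ∀ v w, B (h v) w = B v (g w) := by
    intro v w
    have h1 : h v = B.toPerfPair.symm (g.dualMap (B.toPerfPair v)) := by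
      rw [hh, LinearEquiv.conj_apply]
      simp
    rw [h1, B.apply_symm_toPerfPair_self, LinearMap.dualMap_apply]
    rfl
  have hhf : h ∘ₗ f = c • LinearMap.id := by
    ext v
    apply B.toPerfPair.injective
    ext w
    simp only [LinearMap.toPerfPair_apply, LinearMap.comp_apply, LinearMap.smul_apply,
      LinearMap.id_apply, map_smul]
    rw [hB, hfg]
    simp
  set b := Module.Free.chooseBasis K V with hb
  have hr : Module.finrank K W = Fintype.card (Module.Free.ChooseBasisIndex K V) := by
    rw [← Module.finrank_eq_card_chooseBasisIndex, Module.finrank_of_isPerfPair B]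
  rw [← hcp, ← LinearMap.charpoly_toMatrix h b, ← LinearMap.charpoly_toMatrix (c⁻¹ • f) b,
    ← LinearMap.det_toMatrix b f, hr, map_smul]
  apply mat_key
  rw [← LinearMap.toMatrix_comp, hhf, map_smul, LinearMap.toMatrix_id]

theorem matrix_charpoly_comp {ι : Type*} [Fintype ι] [DecidableEq ι] (M : Matrix ι ι K) (c : K)
    (hc : c ≠ 0) :
    c ^ Fintype.card ι • (c⁻¹ • M).charpoly = M.charpoly.comp (C c * X) := by
  have hentry : (C c : K[X]) • Matrix.charmatrix (c⁻¹ • M) =
      (Polynomial.compRingHom (C c * X : K[X])).mapMatrix (Matrix.charmatrix M) := by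
    refine Matrix.ext (fun i j => ?_)
    rw [Matrix.smul_apply, RingHom.mapMatrix_apply, Matrix.map_apply, Matrix.charmatrix_apply,
      Matrix.charmatrix_apply, Matrix.smul_apply, Polynomial.coe_compRingHom_apply,
      smul_eq_mul, smul_eq_mul]
    by_cases h : i = j
    · subst h
      rw [Matrix.diagonal_apply_eq, Polynomial.sub_comp, Polynomial.X_comp, Polynomial.C_comp,
        mul_sub, ← C_mul, ← mul_assoc, mul_inv_cancel₀ hc, one_mul]
    · rw [Matrix.diagonal_apply_ne _ h, zero_sub, zero_sub, Polynomial.neg_comp,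
        Polynomial.C_comp, mul_neg, ← C_mul, ← mul_assoc, mul_inv_cancel₀ hc, one_mul]
  have h1 : M.charpoly.comp (C c * X) =
      ((Polynomial.compRingHom (C c * X : K[X])).mapMatrix (Matrix.charmatrix M)).det := by
    rw [← RingHom.map_det]
    rfl
  have h2 : c ^ Fintype.card ι • (c⁻¹ • M).charpoly =
      ((C c : K[X]) • Matrix.charmatrix (c⁻¹ • M)).det := by
    rw [Matrix.det_smul, Polynomial.smul_eq_C_mul, C_pow]
    rfl
  rw [h1, h2, hentry]

theorem charpoly_comp_of_smul (f : V →ₗ[K] V) (c : K) (hc : c ≠ 0) :
    c ^ Module.finrank K V • (c⁻¹ • f).charpoly = f.charpoly.comp (C c * X) := by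
  classical
  set b := Module.Free.chooseBasis K V
  rw [← LinearMap.charpoly_toMatrix f b, ← LinearMap.charpoly_toMatrix (c⁻¹ • f) b, map_smul,
    Module.finrank_eq_card_chooseBasisIndex]
  exact matrix_charpoly_comp _ c hc

/-- The form of the characteristic polynomial identity used for the functional equation. -/
theorem det_smul_reverse_charpoly_eq_comp (B : V →ₗ[K] W →ₗ[K] K) [B.IsPerfPair]
    (f : V →ₗ[K] V) (g : W →ₗ[K] W)
    (c : K) (hc : c ≠ 0) (hfg : ∀ (v : V) (w : W), B (f v) (g w) = c * B v w) :
    LinearMap.det f • (LinearMap.charpoly g).reverse =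
      (-1 : K[X]) ^ Module.finrank K V * (LinearMap.charpoly f).comp (C c * X) := by
  rw [det_smul_reverse_charpoly_eq_of_pairing_scaled B f g c hc hfg,
    ← Module.finrank_of_isPerfPair B, mul_smul, charpoly_comp_of_smul f c hc,
    Polynomial.smul_eq_C_mul, C_pow, C_neg, C_1]

theorem even_finrank_of_skew [NeZero (2 : K)] (B : V →ₗ[K] V →ₗ[K] K) [B.IsPerfPair]
    (hskew : ∀ a b, B a b = - B b a) : Even (Module.finrank K V) := by
  classical
  set b := Module.Free.chooseBasis K V
  set M := LinearMap.toMatrix₂ b b B with hM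
  have hsep : B.SeparatingLeft := by
    rw [LinearMap.separatingLeft_iff_ker_eq_bot]
    exact LinearMap.ker_eq_bot.mpr (LinearMap.IsPerfPair.bijective_left B).injective
  have hdet : M.det ≠ 0 := (LinearMap.separatingLeft_iff_det_ne_zero b).mp hsep
  have hT : M.transpose = -M := by
    refine Matrix.ext (fun i j => ?_)
    rw [Matrix.transpose_apply, Matrix.neg_apply, hM, LinearMap.toMatrix₂_apply,
      LinearMap.toMatrix₂_apply]
    exact hskew _ _
  have h1 : M.det = (-1) ^ Fintype.card (Module.Free.ChooseBasisIndex K V) * M.det := by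
    conv_lhs => rw [← Matrix.det_transpose, hT, Matrix.det_neg]
  have h2 : ((-1 : K)) ^ Fintype.card (Module.Free.ChooseBasisIndex K V) = 1 := by
    have h3 : ((-1 : K) ^ Fintype.card (Module.Free.ChooseBasisIndex K V) - 1) * M.det = 0 := by
      rw [sub_mul, one_mul, ← h1, sub_self]
    rcases mul_eq_zero.mp h3 with h4 | h4
    · exact sub_eq_zero.mp h4
    · exact absurd h4 hdet
  have hne : (-1 : K) ≠ 1 := by
    intro h
    have h2' : (2 : K) = 0 := by linear_combination (-1 : K) * h
    exact NeZero.ne (2 : K) h2'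
  rw [Module.finrank_eq_card_chooseBasisIndex]
  exact (neg_one_pow_eq_one_iff_even hne).mp h2

end LinAlg

end Groth.Agent.Lib.LeadWeilFE
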