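import Groth.Agent.Lib.LeadWeilFrobB
import Groth.Agent.Lib.LeadWeilFE

/-!
# Poincaré duality and Frobenius: determinants and characteristic polynomials (lead)
-/

set_option maxHeartbeats 400000
set_option autoImplicit false
set_option linter.style.haveILetI false
set_option linter.unusedSectionVars false

universe u v

open AlgebraicGeometry CategoryTheory Limits

namespace Groth.Agent.Lib.LeadWeilFrob

section Weil2

variable (k₀ : Type u) [Field k₀] [Finite k₀] (k : Type u) [Field k] [IsAlgClosed k] [Algebra k₀ k]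
  {X : Scheme.{u}} (f : X ⟶ Spec (CommRingCat.of k₀))
  (FX : X ⟶ X) (hFb : FX.base = 𝟙 _) (hle : ∀ U : X.Opens, U ≤ FX ⁻¹ᵁ U)
  (hFapp : ∀ (U : X.Opens) (s : Γ(X, U)), (FX.appLE U U (hle U)).hom s = s ^ Nat.card k₀)
  (Xb : WeilCoh.Var k) (π : Xb.obj.left ⟶ X)
  (hπ : IsPullback π Xb.obj.hom f (Spec.map (CommRingCat.ofHom (algebraMap k₀ k))))
  (F : Xb ⟶ Xb) (hF : WeilCoh.sm F ≫ π = π ≫ FX)
  {K : Type v} [Field K] [CharZero K] (T : WeilCoh.Theory k K)

lemma card_cast_ne_zero : (Nat.card k₀ : K) ≠ 0 :=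
  Nat.cast_ne_zero.mpr Nat.card_pos.ne'

include hFb hFapp hπ hF in
theorem pairing_pullDeg_frobenius (i j : ℤ) (hij : i + j = 2 * (WeilCoh.dim Xb.obj.left : ℤ))
    (a : T.gr Xb i) (b : T.gr Xb j) :
    WeilCoh.pairing K (T.gr Xb i) (T.gr Xb j) (T.tr Xb) (T.pullDeg F i a) (T.pullDeg F j b) =
      (Nat.card k₀ : K) ^ WeilCoh.dim Xb.obj.left *
        WeilCoh.pairing K (T.gr Xb i) (T.gr Xb j) (T.tr Xb) a b := by
  have hmem : (a : T.H Xb) * (b : T.H Xb) ∈ T.gr Xb (2 * (WeilCoh.dim Xb.obj.left : ℤ)) := by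
    have := SetLike.mul_mem_graded a.2 b.2
    rwa [hij] at this
  have h := tr_pull_frobenius k₀ k f FX hFb hle hFapp Xb π hπ F hF T _ hmem
  rw [map_mul] at h
  exact h

include hFb hFapp hπ hF in
theorem det_pullDeg_mul (i : ℤ) :
    LinearMap.det (T.pullDeg F (2 * (WeilCoh.dim Xb.obj.left : ℤ) - i)) *
        LinearMap.det (T.pullDeg F i) =
      (Nat.card k₀ : K) ^ (WeilCoh.dim Xb.obj.left * Module.finrank K ↥(T.gr Xb i)) := by
  haveI := T.duality Xb i (2 * (WeilCoh.dim Xb.obj.left : ℤ) - i) (by ring)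
  have h := LeadWeilFE.det_mul_det_of_pairing_scaled
    (WeilCoh.pairing K (T.gr Xb i) (T.gr Xb (2 * (WeilCoh.dim Xb.obj.left : ℤ) - i)) (T.tr Xb))
    (T.pullDeg F i) (T.pullDeg F (2 * (WeilCoh.dim Xb.obj.left : ℤ) - i))
    ((Nat.card k₀ : K) ^ WeilCoh.dim Xb.obj.left)
    (fun a b => pairing_pullDeg_frobenius k₀ k f FX hFb hle hFapp Xb π hπ F hF T i _ (by ring) a b)
  rw [mul_comm, h, ← pow_mul]

include hFb hFapp hπ hF in
theorem det_smul_charpolyRev (i : ℤ) :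
    LinearMap.det (T.pullDeg F i) •
        (LinearMap.charpoly (T.pullDeg F (2 * (WeilCoh.dim Xb.obj.left : ℤ) - i))).reverse =
      (-1 : Polynomial K) ^ Module.finrank K ↥(T.gr Xb i) *
        (LinearMap.charpoly (T.pullDeg F i)).comp
          (Polynomial.C ((Nat.card k₀ : K) ^ WeilCoh.dim Xb.obj.left) * Polynomial.X) := by
  haveI := T.duality Xb i (2 * (WeilCoh.dim Xb.obj.left : ℤ) - i) (by ring)
  exact LeadWeilFE.det_smul_reverse_charpoly_eq_comp
    (WeilCoh.pairing K (T.gr Xb i) (T.gr Xb (2 * (WeilCoh.dim Xb.obj.left : ℤ) - i)) (T.tr Xb))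
    (T.pullDeg F i) (T.pullDeg F (2 * (WeilCoh.dim Xb.obj.left : ℤ) - i))
    ((Nat.card k₀ : K) ^ WeilCoh.dim Xb.obj.left) (pow_ne_zero _ (card_cast_ne_zero k₀))
    (fun a b => pairing_pullDeg_frobenius k₀ k f FX hFb hle hFapp Xb π hπ F hF T i _ (by ring) a b)

end Weil2

end Groth.Agent.Lib.LeadWeilFrob
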