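import Mathlib

/-!
# The rational-function manipulation behind the functional equation of the zeta function (lead)
-/

set_option maxHeartbeats 400000
set_option autoImplicit false

open Polynomial

namespace Groth.Agent.Lib.LeadWeilFE

section Sums

lemma alt_sum_split (b : ℕ → ℤ) (n : ℕ) :
    ∑ i ∈ Finset.range (2 * n + 1), (-1 : ℤ) ^ i * b i =
      ∑ i ∈ Finset.range (n + 1), b (2 * i) - ∑ i ∈ Finset.range n, b (2 * i + 1) := by
  induction n with
  | zero => simp
  | succ n ih =>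
    have h1 : 2 * (n + 1) + 1 = (2 * n + 1) + 1 + 1 := by ring
    have e1 : (-1 : ℤ) ^ (2 * n + 1) = -1 := by rw [pow_succ, pow_mul]; simp
    have e2 : (-1 : ℤ) ^ (2 * n + 1 + 1) = 1 := by rw [pow_succ, e1]; simp
    have e3 : 2 * (n + 1) = 2 * n + 1 + 1 := by ring
    rw [h1, Finset.sum_range_succ, Finset.sum_range_succ, ih,
      Finset.sum_range_succ (fun i => b (2 * i)) (n + 1),
      Finset.sum_range_succ (fun i => b (2 * i + 1)) n, e1, e2, e3]
    ring

variable {M : Type*} [CommMonoid M]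

lemma prod_reflect_odd (g : ℕ → M) (n : ℕ) :
    ∏ i ∈ Finset.range n, g (2 * n - (2 * i + 1)) = ∏ i ∈ Finset.range n, g (2 * i + 1) := by
  calc ∏ i ∈ Finset.range n, g (2 * n - (2 * i + 1))
      = ∏ i ∈ Finset.range n, (fun j => g (2 * j + 1)) (n - 1 - i) :=
        Finset.prod_congr rfl (fun i hi => by
          have : i < n := Finset.mem_range.mp hi
          change g _ = g _
          congr 1
          omega)
    _ = ∏ i ∈ Finset.range n, (fun j => g (2 * j + 1)) i :=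
        Finset.prod_range_reflect (fun j => g (2 * j + 1)) n
    _ = _ := rfl

lemma prod_reflect_even (g : ℕ → M) (n : ℕ) :
    ∏ i ∈ Finset.range (n + 1), g (2 * n - 2 * i) = ∏ i ∈ Finset.range (n + 1), g (2 * i) := by
  calc ∏ i ∈ Finset.range (n + 1), g (2 * n - 2 * i)
      = ∏ i ∈ Finset.range (n + 1), (fun j => g (2 * j)) (n + 1 - 1 - i) :=
        Finset.prod_congr rfl (fun i hi => by
          have : i < n + 1 := Finset.mem_range.mp hi
          change g _ = g _
          congr 1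
          omega)
    _ = ∏ i ∈ Finset.range (n + 1), (fun j => g (2 * j)) i :=
        Finset.prod_range_reflect (fun j => g (2 * j)) (n + 1)
    _ = _ := rfl

end Sums

section Core

variable {K : Type*} [Field K]

lemma aeval_inv_X (p : K[X]) :
    Polynomial.aeval ((RatFunc.X : RatFunc K)⁻¹) p =
      algebraMap K[X] (RatFunc K) p.reverse * ((RatFunc.X : RatFunc K)⁻¹) ^ p.natDegree := by
  have hx : (RatFunc.X : RatFunc K) ≠ 0 := RatFunc.X_ne_zero
  letI : Invertible ((RatFunc.X : RatFunc K)⁻¹) := invertibleOfNonzero (inv_ne_zero hx)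
  have h := Polynomial.eval₂_reverse_mul_pow (algebraMap K (RatFunc K))
    ((RatFunc.X : RatFunc K)⁻¹) p
  rw [invOf_eq_inv, inv_inv] at h
  rw [Polynomial.aeval_def, ← h, ← Polynomial.aeval_def, RatFunc.aeval_X_left_eq_algebraMap]

lemma assemble {F : Type*} [Field F] (Nu Du Nx Dx so se a b xo xe : F) (ha : a ≠ 0) (hb : b ≠ 0)
    (hxo : xo ≠ 0) (hxe : xe ≠ 0)
    (h1 : Nu * (a * xo) = so * Nx) (h2 : Du * (b * xe) = se * Dx) :
    Nu / Du = (so / se) * (b / a) * (xe / xo) * (Nx / Dx) := by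
  have e1 : Nu = so * Nx / (a * xo) := by rw [eq_div_iff (mul_ne_zero ha hxo)]; exact h1
  have e2 : Du = se * Dx / (b * xe) := by rw [eq_div_iff (mul_ne_zero hb hxe)]; exact h2
  rw [e1, e2]
  simp only [div_eq_mul_inv, mul_inv, inv_inv]
  ring

variable (n : ℕ) (q : K) (hq : q ≠ 0) (B : ℕ → ℕ) (χ : ℕ → K[X]) (d : ℕ → K)
  (hdeg : ∀ i, (χ i).natDegree = B i)
  (H1 : ∀ i ≤ 2 * n, d i • (χ (2 * n - i)).reverse =
    (-1 : K[X]) ^ B i * (χ i).comp (Polynomial.C (q ^ n) * Polynomial.X))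
  (H2 : ∀ i ≤ 2 * n, d (2 * n - i) * d i = q ^ (n * B i))
  (H3 : ∀ i ≤ 2 * n, B (2 * n - i) = B i)

include hq hdeg H1 H3 in
lemma index_identity (i : ℕ) (hi : i ≤ 2 * n) :
    Polynomial.aeval ((RatFunc.X : RatFunc K)⁻¹ * RatFunc.C (q ^ n)⁻¹) (χ i).reverse *
        (RatFunc.C (d (2 * n - i)) * (RatFunc.X : RatFunc K) ^ B i) =
      (-1 : RatFunc K) ^ B i * algebraMap K[X] (RatFunc K) (χ (2 * n - i)).reverse := by
  have hx : (RatFunc.X : RatFunc K) ≠ 0 := RatFunc.X_ne_zero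
  have hj : 2 * n - i ≤ 2 * n := Nat.sub_le _ _
  have hji : 2 * n - (2 * n - i) = i := by omega
  have h := H1 (2 * n - i) hj
  rw [hji, H3 i hi] at h
  have h' := congrArg (Polynomial.aeval ((RatFunc.X : RatFunc K)⁻¹ * RatFunc.C (q ^ n)⁻¹)) h
  have hc : algebraMap K (RatFunc K) (q ^ n) *
      ((RatFunc.X : RatFunc K)⁻¹ * RatFunc.C (q ^ n)⁻¹) = (RatFunc.X : RatFunc K)⁻¹ := by
    rw [RatFunc.algebraMap_eq_C, mul_comm ((RatFunc.X : RatFunc K)⁻¹), ← mul_assoc, ← map_mul,
      mul_inv_cancel₀ (pow_ne_zero n hq), map_one, one_mul]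
  rw [map_smul, Algebra.smul_def, RatFunc.algebraMap_eq_C, map_mul, map_pow, map_neg, map_one,
    Polynomial.aeval_comp, map_mul, Polynomial.aeval_C, Polynomial.aeval_X, hc, aeval_inv_X,
    hdeg, H3 i hi] at h'
  calc Polynomial.aeval ((RatFunc.X : RatFunc K)⁻¹ * RatFunc.C (q ^ n)⁻¹) (χ i).reverse *
        (RatFunc.C (d (2 * n - i)) * (RatFunc.X : RatFunc K) ^ B i)
      = (RatFunc.C (d (2 * n - i)) *
          Polynomial.aeval ((RatFunc.X : RatFunc K)⁻¹ * RatFunc.C (q ^ n)⁻¹) (χ i).reverse) *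
          (RatFunc.X : RatFunc K) ^ B i := by ring
    _ = ((-1 : RatFunc K) ^ B i * (algebraMap K[X] (RatFunc K) (χ (2 * n - i)).reverse *
          ((RatFunc.X : RatFunc K)⁻¹) ^ B i)) * (RatFunc.X : RatFunc K) ^ B i := by rw [h']
    _ = (-1 : RatFunc K) ^ B i * algebraMap K[X] (RatFunc K) (χ (2 * n - i)).reverse *
          (((RatFunc.X : RatFunc K)⁻¹) ^ B i * (RatFunc.X : RatFunc K) ^ B i) := by ring
    _ = _ := by
      rw [inv_pow, inv_mul_cancel₀ (pow_ne_zero _ hx), mul_one]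

include hq hdeg H1 H2 H3 in
theorem functional_equation_core
    (H4 : Even ((n : ℤ) * ∑ i ∈ Finset.range (2 * n + 1), (-1 : ℤ) ^ i * (B i : ℤ))) :
    ∃ ε : K, (ε = 1 ∨ ε = -1) ∧
      Polynomial.aeval ((RatFunc.X : RatFunc K)⁻¹ * RatFunc.C (q ^ n)⁻¹)
          (∏ i ∈ Finset.range n, (χ (2 * i + 1)).reverse) /
        Polynomial.aeval ((RatFunc.X : RatFunc K)⁻¹ * RatFunc.C (q ^ n)⁻¹)
          (∏ i ∈ Finset.range (n + 1), (χ (2 * i)).reverse) =
      RatFunc.C ε * RatFunc.C q ^ ((n : ℤ) *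
          (∑ i ∈ Finset.range (2 * n + 1), (-1 : ℤ) ^ i * (B i : ℤ)) / 2) *
        (RatFunc.X : RatFunc K) ^ (∑ i ∈ Finset.range (2 * n + 1), (-1 : ℤ) ^ i * (B i : ℤ)) *
        (algebraMap K[X] (RatFunc K) (∏ i ∈ Finset.range n, (χ (2 * i + 1)).reverse) /
         algebraMap K[X] (RatFunc K) (∏ i ∈ Finset.range (n + 1), (χ (2 * i)).reverse)) := by
  have hx : (RatFunc.X : RatFunc K) ≠ 0 := RatFunc.X_ne_zero
  have key := index_identity n q hq B χ d hdeg H1 H3
  set u : RatFunc K := (RatFunc.X : RatFunc K)⁻¹ * RatFunc.C (q ^ n)⁻¹ with hu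
  set Pa : ℕ → RatFunc K := fun j => algebraMap K[X] (RatFunc K) (χ j).reverse with hPa
  set So : ℕ := ∑ i ∈ Finset.range n, B (2 * i + 1) with hSo
  set Se : ℕ := ∑ i ∈ Finset.range (n + 1), B (2 * i) with hSe
  set Do : K := ∏ i ∈ Finset.range n, d (2 * n - (2 * i + 1)) with hDo
  set De : K := ∏ i ∈ Finset.range (n + 1), d (2 * n - 2 * i) with hDe
  -- the exponent
  have hE : (∑ i ∈ Finset.range (2 * n + 1), (-1 : ℤ) ^ i * (B i : ℤ)) = (Se : ℤ) - (So : ℤ) := by
    rw [alt_sum_split (fun i => (B i : ℤ)) n, hSe, hSo, Nat.cast_sum, Nat.cast_sum]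
  -- nonvanishing of the determinants
  have hdne : ∀ i ≤ 2 * n, d (2 * n - i) ≠ 0 := by
    intro i hi
    have h := H2 i hi
    have h0 : d (2 * n - i) * d i ≠ 0 := by rw [h]; exact pow_ne_zero _ hq
    exact left_ne_zero_of_mul h0
  have hDo0 : Do ≠ 0 := by
    rw [hDo, Finset.prod_ne_zero_iff]
    intro i hi
    have : i < n := Finset.mem_range.mp hi
    exact hdne (2 * i + 1) (by omega)
  have hDe0 : De ≠ 0 := by
    rw [hDe, Finset.prod_ne_zero_iff]
    intro i hi
    have : i < n + 1 := Finset.mem_range.mp hi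
    exact hdne (2 * i) (by omega)
  -- the products
  have hodd : Polynomial.aeval u (∏ i ∈ Finset.range n, (χ (2 * i + 1)).reverse) *
      (RatFunc.C Do * (RatFunc.X : RatFunc K) ^ So) =
      (-1 : RatFunc K) ^ So *
        algebraMap K[X] (RatFunc K) (∏ i ∈ Finset.range n, (χ (2 * i + 1)).reverse) := by
    have h1 : (∏ i ∈ Finset.range n, Polynomial.aeval u (χ (2 * i + 1)).reverse) *
        (∏ i ∈ Finset.range n,
          (RatFunc.C (d (2 * n - (2 * i + 1))) * (RatFunc.X : RatFunc K) ^ B (2 * i + 1))) =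
        (∏ i ∈ Finset.range n, (-1 : RatFunc K) ^ B (2 * i + 1)) *
          ∏ i ∈ Finset.range n, Pa (2 * i + 1) := by
      rw [← Finset.prod_mul_distrib, ← prod_reflect_odd Pa n, ← Finset.prod_mul_distrib]
      apply Finset.prod_congr rfl
      intro i hi
      have : i < n := Finset.mem_range.mp hi
      exact key (2 * i + 1) (by omega)
    rw [Finset.prod_mul_distrib, Finset.prod_pow_eq_pow_sum, Finset.prod_pow_eq_pow_sum,
      ← map_prod, ← map_prod, ← map_prod] at h1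
    exact h1
  have heven : Polynomial.aeval u (∏ i ∈ Finset.range (n + 1), (χ (2 * i)).reverse) *
      (RatFunc.C De * (RatFunc.X : RatFunc K) ^ Se) =
      (-1 : RatFunc K) ^ Se *
        algebraMap K[X] (RatFunc K) (∏ i ∈ Finset.range (n + 1), (χ (2 * i)).reverse) := by
    have h1 : (∏ i ∈ Finset.range (n + 1), Polynomial.aeval u (χ (2 * i)).reverse) *
        (∏ i ∈ Finset.range (n + 1),
          (RatFunc.C (d (2 * n - 2 * i)) * (RatFunc.X : RatFunc K) ^ B (2 * i))) =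
        (∏ i ∈ Finset.range (n + 1), (-1 : RatFunc K) ^ B (2 * i)) *
          ∏ i ∈ Finset.range (n + 1), Pa (2 * i) := by
      rw [← Finset.prod_mul_distrib, ← prod_reflect_even Pa n, ← Finset.prod_mul_distrib]
      apply Finset.prod_congr rfl
      intro i hi
      have : i < n + 1 := Finset.mem_range.mp hi
      exact key (2 * i) (by omega)
    rw [Finset.prod_mul_distrib, Finset.prod_pow_eq_pow_sum, Finset.prod_pow_eq_pow_sum,
      ← map_prod, ← map_prod, ← map_prod] at h1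
    exact h1
  -- squares of the determinant products
  have hDe2 : De * De = q ^ (n * Se) := by
    have h1 : De = ∏ i ∈ Finset.range (n + 1), d (2 * i) := prod_reflect_even d n
    calc De * De = (∏ i ∈ Finset.range (n + 1), d (2 * n - 2 * i)) *
          (∏ i ∈ Finset.range (n + 1), d (2 * i)) := by rw [← h1]
      _ = ∏ i ∈ Finset.range (n + 1), (d (2 * n - 2 * i) * d (2 * i)) :=
          Finset.prod_mul_distrib.symm
      _ = ∏ i ∈ Finset.range (n + 1), q ^ (n * B (2 * i)) :=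
          Finset.prod_congr rfl (fun i hi => by
            have : i < n + 1 := Finset.mem_range.mp hi
            exact H2 (2 * i) (by omega))
      _ = q ^ (n * Se) := by rw [Finset.prod_pow_eq_pow_sum, hSe, Finset.mul_sum]
  have hDo2 : Do * Do = q ^ (n * So) := by
    have h1 : Do = ∏ i ∈ Finset.range n, d (2 * i + 1) := prod_reflect_odd d n
    calc Do * Do = (∏ i ∈ Finset.range n, d (2 * n - (2 * i + 1))) *
          (∏ i ∈ Finset.range n, d (2 * i + 1)) := by rw [← h1]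
      _ = ∏ i ∈ Finset.range n, (d (2 * n - (2 * i + 1)) * d (2 * i + 1)) :=
          Finset.prod_mul_distrib.symm
      _ = ∏ i ∈ Finset.range n, q ^ (n * B (2 * i + 1)) :=
          Finset.prod_congr rfl (fun i hi => by
            have : i < n := Finset.mem_range.mp hi
            exact H2 (2 * i + 1) (by omega))
      _ = q ^ (n * So) := by rw [Finset.prod_pow_eq_pow_sum, hSo, Finset.mul_sum]
  obtain ⟨m, hm⟩ := H4
  rw [hE] at hm ⊢
  have hdiv : (n : ℤ) * ((Se : ℤ) - (So : ℤ)) / 2 = m := by rw [hm]; omega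
  rw [hdiv]
  -- the square root
  have hsq : (De / Do) ^ 2 = (q ^ m) ^ 2 := by
    rw [div_pow, pow_two, pow_two, hDe2, hDo2, ← zpow_natCast, ← zpow_natCast, ← zpow_sub₀ hq,
      ← zpow_natCast (q ^ m) 2, ← zpow_mul]
    congr 1
    push_cast
    linarith
  obtain ⟨δ, hδ, hδ'⟩ : ∃ δ : K, (δ = 1 ∨ δ = -1) ∧ De / Do = δ * q ^ m := by
    rcases sq_eq_sq_iff_eq_or_eq_neg.mp hsq with h | h
    · exact ⟨1, Or.inl rfl, by rw [h, one_mul]⟩
    · exact ⟨-1, Or.inr rfl, by rw [h]; ring⟩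
  refine ⟨δ * ((-1) ^ So * (-1) ^ Se), ?_, ?_⟩
  · rcases hδ with rfl | rfl <;> rcases neg_one_pow_eq_or K So with h | h <;>
      rcases neg_one_pow_eq_or K Se with h' | h' <;> simp [h, h']
  · rw [assemble _ _ _ _ _ _ _ _ _ _ (by simpa using hDo0) (by simpa using hDe0)
      (pow_ne_zero _ hx) (pow_ne_zero _ hx) hodd heven]
    congr 1
    have e1 : (-1 : RatFunc K) ^ So / (-1 : RatFunc K) ^ Se =
        RatFunc.C ((-1 : K) ^ So * (-1 : K) ^ Se) := by
      rw [map_mul, map_pow, map_pow, map_neg, map_one, div_eq_mul_inv, ← inv_pow, inv_neg_one]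
    have e2 : RatFunc.C De / RatFunc.C Do = RatFunc.C δ * RatFunc.C q ^ m := by
      rw [← map_div₀, hδ', map_mul, map_zpow₀]
    have e3 : (RatFunc.X : RatFunc K) ^ Se / (RatFunc.X : RatFunc K) ^ So =
        (RatFunc.X : RatFunc K) ^ ((Se : ℤ) - (So : ℤ)) := by
      rw [zpow_sub₀ hx, zpow_natCast, zpow_natCast]
    rw [e1, e2, e3]
    simp only [map_mul]
    ring

end Core

end Groth.Agent.Lib.LeadWeilFE

namespace Groth.Agent.Lib.LeadWeilFE

section Parity

lemma alt_sum_eq (n : ℕ) (B : ℕ → ℕ) (H3 : ∀ i ≤ 2 * n, B (2 * n - i) = B i) :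
    ∑ i ∈ Finset.range (2 * n + 1), (-1 : ℤ) ^ i * (B i : ℤ) =
      (-1 : ℤ) ^ n * (B n : ℤ) + 2 * ∑ i ∈ Finset.range n, (-1 : ℤ) ^ i * (B i : ℤ) := by
  have h1 : 2 * n + 1 = (n + 1) + n := by ring
  have h2 : ∑ x ∈ Finset.range n, (-1 : ℤ) ^ (n + 1 + x) * (B (n + 1 + x) : ℤ) =
      ∑ x ∈ Finset.range n, (-1 : ℤ) ^ x * (B x : ℤ) := by
    calc ∑ x ∈ Finset.range n, (-1 : ℤ) ^ (n + 1 + x) * (B (n + 1 + x) : ℤ)
        = ∑ x ∈ Finset.range n,
            (fun y => (-1 : ℤ) ^ (n + 1 + y) * (B (n + 1 + y) : ℤ)) (n - 1 - x) :=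
          (Finset.sum_range_reflect (fun y => (-1 : ℤ) ^ (n + 1 + y) * (B (n + 1 + y) : ℤ)) n).symm
      _ = ∑ x ∈ Finset.range n, (-1 : ℤ) ^ x * (B x : ℤ) :=
          Finset.sum_congr rfl (fun i hi => by
            have hi' : i < n := Finset.mem_range.mp hi
            have e : n + 1 + (n - 1 - i) = 2 * n - i := by omega
            change (-1 : ℤ) ^ (n + 1 + (n - 1 - i)) * (B (n + 1 + (n - 1 - i)) : ℤ) = _
            rw [e, H3 i (by omega)]
            have e2 : (-1 : ℤ) ^ (2 * n - i) = (-1 : ℤ) ^ i := by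
              rw [neg_one_pow_eq_pow_mod_two, neg_one_pow_eq_pow_mod_two (n := i)]
              congr 1
              omega
            rw [e2])
  rw [h1, Finset.sum_range_add, Finset.sum_range_succ, h2]
  ring

lemma even_mul_alt_sum (n : ℕ) (B : ℕ → ℕ) (H3 : ∀ i ≤ 2 * n, B (2 * n - i) = B i)
    (hmid : Odd n → Even (B n)) :
    Even ((n : ℤ) * ∑ i ∈ Finset.range (2 * n + 1), (-1 : ℤ) ^ i * (B i : ℤ)) := by
  rcases Nat.even_or_odd n with hn | hn
  · exact Even.mul_right ((Int.even_coe_nat n).mpr hn) _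
  · apply Even.mul_left
    rw [alt_sum_eq n B H3]
    apply Even.add
    · exact Even.mul_left ((Int.even_coe_nat (B n)).mpr (hmid hn)) _
    · exact even_two_mul _

end Parity

end Groth.Agent.Lib.LeadWeilFE
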