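import Groth.Agent.Lib.LeadWeilFE2
import Groth.Agent.Lib.LeadWeilFE3

/-!
# The functional equation of the zeta function from a Weil cohomology theory (lead)
-/

set_option maxHeartbeats 400000
set_option autoImplicit false
set_option linter.style.haveILetI false
set_option linter.unusedSectionVars false

universe u v

open AlgebraicGeometry CategoryTheory Limits

namespace Groth.Agent.Lib.LeadWeilFrob

section Weil3

variable (k₀ : Type u) [Field k₀] [Finite k₀] (k : Type u) [Field k] [IsAlgClosed k] [Algebra k₀ k]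
  {X : Scheme.{u}} (f : X ⟶ Spec (CommRingCat.of k₀))
  (FX : X ⟶ X) (hFb : FX.base = 𝟙 _) (hle : ∀ U : X.Opens, U ≤ FX ⁻¹ᵁ U)
  (hFapp : ∀ (U : X.Opens) (s : Γ(X, U)), (FX.appLE U U (hle U)).hom s = s ^ Nat.card k₀)
  (Xb : WeilCoh.Var k) (π : Xb.obj.left ⟶ X)
  (hπ : IsPullback π Xb.obj.hom f (Spec.map (CommRingCat.ofHom (algebraMap k₀ k))))
  (F : Xb ⟶ Xb) (hF : WeilCoh.sm F ≫ π = π ≫ FX)
  {K : Type v} [Field K] [CharZero K] (T : WeilCoh.Theory k K)

theorem finrank_gr_compl (Y : WeilCoh.Var k) (i j : ℤ)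
    (hij : i + j = 2 * (WeilCoh.dim Y.obj.left : ℤ)) :
    Module.finrank K ↥(T.gr Y i) = Module.finrank K ↥(T.gr Y j) := by
  haveI := T.duality Y i j hij
  exact Module.finrank_of_isPerfPair (WeilCoh.pairing K (T.gr Y i) (T.gr Y j) (T.tr Y))

theorem even_finrank_gr_mid (Y : WeilCoh.Var k) (hodd : Odd (WeilCoh.dim Y.obj.left)) :
    Even (Module.finrank K ↥(T.gr Y (WeilCoh.dim Y.obj.left : ℤ))) := by
  haveI := T.duality Y (WeilCoh.dim Y.obj.left : ℤ) (WeilCoh.dim Y.obj.left : ℤ) (by ring)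
  haveI : NeZero (2 : K) := ⟨two_ne_zero⟩
  apply LeadWeilFE.even_finrank_of_skew
    (WeilCoh.pairing K (T.gr Y (WeilCoh.dim Y.obj.left : ℤ)) (T.gr Y (WeilCoh.dim Y.obj.left : ℤ))
      (T.tr Y))
  intro a b
  change T.tr Y ((a : T.H Y) * (b : T.H Y)) = - T.tr Y ((b : T.H Y) * (a : T.H Y))
  rw [T.gradedComm Y _ _ (a : T.H Y) (b : T.H Y) a.2 b.2, Int.natAbs_natCast,
    (hodd.mul hodd).neg_one_pow, neg_one_smul, map_neg]

include hFb hFapp hπ hF in
theorem zeta_functional_equation :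
    ∃ ε : K, (ε = 1 ∨ ε = -1) ∧
      Polynomial.aeval ((RatFunc.X : RatFunc K)⁻¹ *
            RatFunc.C ((Nat.card k₀ : K) ^ WeilCoh.dim Xb.obj.left)⁻¹)
          (∏ i ∈ Finset.range (WeilCoh.dim Xb.obj.left),
            (LinearMap.charpoly (T.pullDeg F ((2 * i + 1 : ℕ) : ℤ))).reverse) /
        Polynomial.aeval ((RatFunc.X : RatFunc K)⁻¹ *
            RatFunc.C ((Nat.card k₀ : K) ^ WeilCoh.dim Xb.obj.left)⁻¹)
          (∏ i ∈ Finset.range (WeilCoh.dim Xb.obj.left + 1),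
            (LinearMap.charpoly (T.pullDeg F ((2 * i : ℕ) : ℤ))).reverse) =
      RatFunc.C ε * RatFunc.C (Nat.card k₀ : K) ^ ((WeilCoh.dim Xb.obj.left : ℤ) *
          (∑ i ∈ Finset.range (2 * WeilCoh.dim Xb.obj.left + 1),
            (-1 : ℤ) ^ i * (Module.finrank K ↥(T.gr Xb (i : ℤ)) : ℤ)) / 2) *
        (RatFunc.X : RatFunc K) ^ (∑ i ∈ Finset.range (2 * WeilCoh.dim Xb.obj.left + 1),
            (-1 : ℤ) ^ i * (Module.finrank K ↥(T.gr Xb (i : ℤ)) : ℤ)) *
        (algebraMap (Polynomial K) (RatFunc K)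
          (∏ i ∈ Finset.range (WeilCoh.dim Xb.obj.left),
            (LinearMap.charpoly (T.pullDeg F ((2 * i + 1 : ℕ) : ℤ))).reverse) /
         algebraMap (Polynomial K) (RatFunc K)
          (∏ i ∈ Finset.range (WeilCoh.dim Xb.obj.left + 1),
            (LinearMap.charpoly (T.pullDeg F ((2 * i : ℕ) : ℤ))).reverse)) := by
  have hcast : ∀ i ≤ 2 * WeilCoh.dim Xb.obj.left,
      2 * (WeilCoh.dim Xb.obj.left : ℤ) - (i : ℤ) = ((2 * WeilCoh.dim Xb.obj.left - i : ℕ) : ℤ) := by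
    intro i hi
    omega
  have H1 : ∀ i ≤ 2 * WeilCoh.dim Xb.obj.left,
      LinearMap.det (T.pullDeg F (i : ℤ)) •
        (LinearMap.charpoly (T.pullDeg F ((2 * WeilCoh.dim Xb.obj.left - i : ℕ) : ℤ))).reverse =
      (-1 : Polynomial K) ^ Module.finrank K ↥(T.gr Xb (i : ℤ)) *
        (LinearMap.charpoly (T.pullDeg F (i : ℤ))).comp
          (Polynomial.C ((Nat.card k₀ : K) ^ WeilCoh.dim Xb.obj.left) * Polynomial.X) := by
    intro i hi
    have h := det_smul_charpolyRev k₀ k f FX hFb hle hFapp Xb π hπ F hF T (i : ℤ)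
    rw [hcast i hi] at h
    exact h
  have H2 : ∀ i ≤ 2 * WeilCoh.dim Xb.obj.left,
      LinearMap.det (T.pullDeg F ((2 * WeilCoh.dim Xb.obj.left - i : ℕ) : ℤ)) *
        LinearMap.det (T.pullDeg F (i : ℤ)) =
      (Nat.card k₀ : K) ^ (WeilCoh.dim Xb.obj.left * Module.finrank K ↥(T.gr Xb (i : ℤ))) := by
    intro i hi
    have h := det_pullDeg_mul k₀ k f FX hFb hle hFapp Xb π hπ F hF T (i : ℤ)
    rw [hcast i hi] at h
    exact h
  have H3 : ∀ i ≤ 2 * WeilCoh.dim Xb.obj.left,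
      Module.finrank K ↥(T.gr Xb ((2 * WeilCoh.dim Xb.obj.left - i : ℕ) : ℤ)) =
        Module.finrank K ↥(T.gr Xb (i : ℤ)) := by
    intro i hi
    apply finrank_gr_compl
    rw [← hcast i hi]
    ring
  have H4 := LeadWeilFE.even_mul_alt_sum (WeilCoh.dim Xb.obj.left)
    (fun i => Module.finrank K ↥(T.gr Xb (i : ℤ))) H3 (even_finrank_gr_mid k T Xb)
  exact LeadWeilFE.functional_equation_core (WeilCoh.dim Xb.obj.left) (Nat.card k₀ : K)
    (card_cast_ne_zero k₀)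
    (fun i => Module.finrank K ↥(T.gr Xb (i : ℤ)))
    (fun i => LinearMap.charpoly (T.pullDeg F (i : ℤ)))
    (fun i => LinearMap.det (T.pullDeg F (i : ℤ)))
    (fun i => LinearMap.charpoly_natDegree _)
    H1 H2 H3 H4

end Weil3

end Groth.Agent.Lib.LeadWeilFrob
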