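import Mathlib
import Groth.Agent.S11991
import Groth.Agent.Lib.Helper10WeilPush
import Groth.Agent.Lib.Helper4VarDim7

/-!
# The degree of the Frobenius endomorphism of `X ×_{k₀} k` at the generic point (lead)

For `X` of finite type over a finite field `k₀` with `q` elements, `k ⊇ k₀` algebraically closed,
`Y = X ×_{k₀} k` integral and `Φ = Frob_X × id : Y ⟶ Y`: the residue field extension of `Φ` at a
point `y` of `Y` has image `k · κ(y)^q`, hence (by `[L : k L^q] = q^trdeg`) degree `q^{trdeg κ(y)}`.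
-/

set_option maxHeartbeats 400000
set_option autoImplicit false
set_option linter.style.haveILetI false
set_option linter.unusedSectionVars false

universe u v

open AlgebraicGeometry CategoryTheory Limits

namespace Groth.Agent.Lib.LeadWeilFrob

open Groth.Agent.Lib.Helper4.VarDim

section Plain

variable {X Y : Scheme.{u}}

lemma evaluation_map {U V : X.Opens} (h : V ≤ U) (x : X) (hx : x ∈ V) (s : Γ(X, U)) :
    (X.evaluation V x hx).hom ((X.presheaf.map (homOfLE h).op).hom s) =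
      (X.evaluation U x (h hx)).hom s := by
  change (X.residue x).hom ((X.presheaf.germ V x hx).hom ((X.presheaf.map (homOfLE h).op).hom s)) =
    (X.residue x).hom ((X.presheaf.germ U x (h hx)).hom s)
  congr 1
  exact X.presheaf.germ_res_apply (homOfLE h) x hx s

lemma evaluation_appLE (f : X ⟶ Y) (U : Y.Opens) (V : X.Opens) (e : V ≤ f ⁻¹ᵁ U) (x : X)
    (hx : x ∈ V) (s : Γ(Y, U)) :
    (X.evaluation V x hx).hom ((f.appLE U V e).hom s) =
      (f.residueFieldMap x).hom ((Y.evaluation U (f x) (e hx)).hom s) := by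
  have h1 : (f.residueFieldMap x).hom ((Y.evaluation U (f x) (e hx)).hom s) =
      (X.evaluation (f ⁻¹ᵁ U) x (e hx)).hom ((f.app U).hom s) :=
    Scheme.evaluation_naturality_apply f x (e hx) s
  rw [h1]
  exact evaluation_map e x hx ((f.app U).hom s)

lemma appLE_congr_hom {f f' : X ⟶ Y} (h : f = f') (U : Y.Opens) (V : X.Opens)
    (e : V ≤ f ⁻¹ᵁ U) (e' : V ≤ f' ⁻¹ᵁ U) : f.appLE U V e = f'.appLE U V e' := by
  subst h; rfl

end Plain

section Setup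

variable (k₀ : Type u) [Field k₀] (k : Type u) [Field k] [Algebra k₀ k]
  {X Y : Scheme.{u}} (f : X ⟶ Spec (CommRingCat.of k₀)) [Y.Over (Spec (CommRingCat.of k))]
  (π : Y ⟶ X)
  (hπ : IsPullback π (Y ↘ Spec (CommRingCat.of k)) f
    (Spec.map (CommRingCat.ofHom (algebraMap k₀ k))))

attribute [local instance] sectionsAlgebra Curv2.resAlgebra

include hπ in
lemma isAffineHom_fst : IsAffineHom π :=
  MorphismProperty.of_isPullback (P := @IsAffineHom) hπ.flip inferInstance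

include hπ in
/-- A subring of `Γ(Y, π⁻¹U₀)` containing the pull-backs of sections of `U₀` and the constants is
everything. -/
lemma sections_induction (U₀ : X.Opens) (hU₀ : IsAffineOpen U₀)
    (R : Subring Γ(Y, π ⁻¹ᵁ U₀))
    (h1 : ∀ a : Γ(X, U₀), (π.appLE U₀ (π ⁻¹ᵁ U₀) le_rfl).hom a ∈ R)
    (h2 : ∀ d : k, algebraMap k Γ(Y, π ⁻¹ᵁ U₀) d ∈ R) : R = ⊤ := by
  have hUY : π ⁻¹ᵁ U₀ = π ⁻¹ᵁ U₀ ⊓ (Y ↘ Spec (CommRingCat.of k)) ⁻¹ᵁ ⊤ := by
    ext x
    simp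
  have hUST : (⊤ : (Spec (CommRingCat.of k)).Opens) ≤
      (Spec.map (CommRingCat.ofHom (algebraMap k₀ k))) ⁻¹ᵁ ⊤ := fun _ _ => trivial
  have hUSX : U₀ ≤ f ⁻¹ᵁ ⊤ := fun _ _ => trivial
  have hiso := isIso_pushoutSection_of_isAffineOpen hπ hUST hUSX hUY
    (isAffineOpen_top _) (isAffineOpen_top _) hU₀
  have hpo := (isIso_pushoutSection_iff hπ hUST hUSX hUY).mp hiso
  have hcl := CommRingCat.closure_range_union_range_eq_top_of_isPushout hpo
  rw [eq_top_iff, ← hcl]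
  apply Subring.closure_le.mpr
  rintro x (⟨a, rfl⟩ | ⟨c, rfl⟩)
  · exact h1 a
  · have hc : (Scheme.ΓSpecIso (CommRingCat.of k)).inv.hom
        ((Scheme.ΓSpecIso (CommRingCat.of k)).hom.hom c) = c := by
      have := congrArg (fun φ => φ.hom c) (Scheme.ΓSpecIso (CommRingCat.of k)).hom_inv_id
      exact this
    have h3 := h2 ((Scheme.ΓSpecIso (CommRingCat.of k)).hom.hom c)
    have h4 : algebraMap k Γ(Y, π ⁻¹ᵁ U₀) ((Scheme.ΓSpecIso (CommRingCat.of k)).hom.hom c) =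
        ((Y ↘ Spec (CommRingCat.of k)).appLE ⊤ (π ⁻¹ᵁ U₀) le_top).hom
          ((Scheme.ΓSpecIso (CommRingCat.of k)).inv.hom
            ((Scheme.ΓSpecIso (CommRingCat.of k)).hom.hom c)) := rfl
    rw [h4, hc] at h3
    exact h3

include hπ in
/-- The residue field at a point of `π⁻¹U₀` is generated over `k` by the values of the sections
of `U₀`. -/
lemma residueField_eq_adjoin (U₀ : X.Opens) (hU₀ : IsAffineOpen U₀) (y : Y) (hy : y ∈ π ⁻¹ᵁ U₀) :
    IntermediateField.adjoin k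
      (Set.range fun a : Γ(X, U₀) =>
        (Y.evaluation (π ⁻¹ᵁ U₀) y hy).hom ((π.appLE U₀ (π ⁻¹ᵁ U₀) le_rfl).hom a)) = ⊤ := by
  haveI := isAffineHom_fst k₀ k f π hπ
  have hV : IsAffineOpen (π ⁻¹ᵁ U₀) := hU₀.preimage π
  set J := IntermediateField.adjoin k
      (Set.range fun a : Γ(X, U₀) =>
        (Y.evaluation (π ⁻¹ᵁ U₀) y hy).hom ((π.appLE U₀ (π ⁻¹ᵁ U₀) le_rfl).hom a)) with hJ
  have hR : (J.toSubalgebra.comap (evₐ k Y y hy)).toSubring = ⊤ := by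
    apply sections_induction k₀ k f π hπ U₀ hU₀
    · intro a
      change evₐ k Y y hy ((π.appLE U₀ (π ⁻¹ᵁ U₀) le_rfl).hom a) ∈ J
      exact IntermediateField.subset_adjoin _ _ ⟨a, rfl⟩
    · intro d
      exact Subalgebra.algebraMap_mem (J.toSubalgebra.comap (evₐ k Y y hy)) d
  have key : ∀ b : Γ(Y, π ⁻¹ᵁ U₀), evₐ k Y y hy b ∈ J := by
    intro b
    have hb : b ∈ (J.toSubalgebra.comap (evₐ k Y y hy)).toSubring := by rw [hR]; trivial
    exact hb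
  rw [eq_top_iff]
  rintro z -
  obtain ⟨a, s, rfl⟩ := evₐ_frac k Y hV y hy z
  exact div_mem (key a) (key s)

variable (q : ℕ) (FX : X ⟶ X) (hFb : FX.base = 𝟙 _) (hle : ∀ U : X.Opens, U ≤ FX ⁻¹ᵁ U)
  (hFapp : ∀ (U : X.Opens) (s : Γ(X, U)), (FX.appLE U U (hle U)).hom s = s ^ q)
  (Φ : Y ⟶ Y)
  (hΦg : Φ ≫ (Y ↘ Spec (CommRingCat.of k)) = (Y ↘ Spec (CommRingCat.of k)))
  (hΦπ : Φ ≫ π = π ≫ FX)

include hFb hΦπ in
lemma fst_frob_apply (y : Y) : π (Φ y) = π y := by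
  have h1 : (Φ ≫ π) y = (π ≫ FX) y := by rw [hΦπ]
  have h2 : FX (π y) = π y := by
    have := congrArg (fun (h : X.toTopCat ⟶ X.toTopCat) => h (π y)) hFb
    exact this
  rw [Scheme.Hom.comp_apply, Scheme.Hom.comp_apply, h2] at h1
  exact h1

include hFb hΦπ in
lemma preimage_le_frob (U₀ : X.Opens) : π ⁻¹ᵁ U₀ ≤ Φ ⁻¹ᵁ (π ⁻¹ᵁ U₀) := by
  intro y hy
  change π (Φ y) ∈ U₀
  rw [fst_frob_apply π FX hFb Φ hΦπ y]
  exact hy

include hFb hFapp hΦπ in
lemma frob_app_fst (U₀ : X.Opens) (a : Γ(X, U₀)) :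
    (Φ.appLE (π ⁻¹ᵁ U₀) (π ⁻¹ᵁ U₀) (preimage_le_frob π FX hFb Φ hΦπ U₀)).hom
        ((π.appLE U₀ (π ⁻¹ᵁ U₀) le_rfl).hom a) =
      ((π.appLE U₀ (π ⁻¹ᵁ U₀) le_rfl).hom a) ^ q := by
  have hV := preimage_le_frob π FX hFb Φ hΦπ U₀
  have e1 : π ⁻¹ᵁ U₀ ≤ (Φ ≫ π) ⁻¹ᵁ U₀ := hV
  have e2 : π ⁻¹ᵁ U₀ ≤ (π ≫ FX) ⁻¹ᵁ U₀ := hΦπ ▸ e1
  have h1 : π.appLE U₀ (π ⁻¹ᵁ U₀) le_rfl ≫ Φ.appLE (π ⁻¹ᵁ U₀) (π ⁻¹ᵁ U₀) hV =
      (Φ ≫ π).appLE U₀ (π ⁻¹ᵁ U₀) e1 := Scheme.Hom.appLE_comp_appLE _ _ _ _ _ _ _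
  have h2 : (Φ ≫ π).appLE U₀ (π ⁻¹ᵁ U₀) e1 = (π ≫ FX).appLE U₀ (π ⁻¹ᵁ U₀) e2 :=
    appLE_congr_hom hΦπ _ _ _ _
  have h3 : FX.appLE U₀ U₀ (hle U₀) ≫ π.appLE U₀ (π ⁻¹ᵁ U₀) le_rfl =
      (π ≫ FX).appLE U₀ (π ⁻¹ᵁ U₀) e2 := Scheme.Hom.appLE_comp_appLE _ _ _ _ _ _ _
  have h4 : π.appLE U₀ (π ⁻¹ᵁ U₀) le_rfl ≫ Φ.appLE (π ⁻¹ᵁ U₀) (π ⁻¹ᵁ U₀) hV =
      FX.appLE U₀ U₀ (hle U₀) ≫ π.appLE U₀ (π ⁻¹ᵁ U₀) le_rfl := by rw [h1, h2, h3]
  have h5 : (Φ.appLE (π ⁻¹ᵁ U₀) (π ⁻¹ᵁ U₀) hV).hom ((π.appLE U₀ (π ⁻¹ᵁ U₀) le_rfl).hom a) =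
      (π.appLE U₀ (π ⁻¹ᵁ U₀) le_rfl).hom ((FX.appLE U₀ U₀ (hle U₀)).hom a) :=
    congrArg (fun φ => φ.hom a) h4
  rw [h5, hFapp U₀ a, map_pow]

include hFb hFapp hΦπ in
lemma resMap_eval_fst (U₀ : X.Opens) (a : Γ(X, U₀)) (y : Y) (hy : y ∈ π ⁻¹ᵁ U₀) :
    (Φ.residueFieldMap y).hom ((Y.evaluation (π ⁻¹ᵁ U₀) (Φ y)
        (preimage_le_frob π FX hFb Φ hΦπ U₀ hy)).hom ((π.appLE U₀ (π ⁻¹ᵁ U₀) le_rfl).hom a)) =
      ((Y.evaluation (π ⁻¹ᵁ U₀) y hy).hom ((π.appLE U₀ (π ⁻¹ᵁ U₀) le_rfl).hom a)) ^ q := by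
  rw [← evaluation_appLE Φ (π ⁻¹ᵁ U₀) (π ⁻¹ᵁ U₀) (preimage_le_frob π FX hFb Φ hΦπ U₀) y hy,
    frob_app_fst π q FX hFb hle hFapp Φ hΦπ U₀ a, map_pow]

include hπ hFb hFapp hΦπ in
/-- The image of the residue field map of `Φ` at `y` is `k · κ(y)^q`. -/
lemma fieldRange_eq (p e : ℕ) [Fact p.Prime] [CharP k p] (hq : q = p ^ e)
    (U₀ : X.Opens) (hU₀ : IsAffineOpen U₀) (y : Y) (hy : y ∈ π ⁻¹ᵁ U₀) :
    (residueFieldAlgHom k Φ hΦg y).fieldRange =
      IntermediateField.adjoin k (Set.range fun x : Y.residueField y => x ^ p ^ e) := by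
  have hΦy : Φ y ∈ π ⁻¹ᵁ U₀ := preimage_le_frob π FX hFb Φ hΦπ U₀ hy
  haveI : CharP (Y.residueField y) p :=
    charP_of_injective_algebraMap (algebraMap k (Y.residueField y)).injective p
  apply le_antisymm
  · rw [AlgHom.fieldRange_eq_map, ← residueField_eq_adjoin k₀ k f π hπ U₀ hU₀ (Φ y) hΦy,
      IntermediateField.adjoin_map]
    apply IntermediateField.adjoin_le_iff.mpr
    rintro _ ⟨_, ⟨a, rfl⟩, rfl⟩
    apply IntermediateField.subset_adjoin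
    refine ⟨(Y.evaluation (π ⁻¹ᵁ U₀) y hy).hom ((π.appLE U₀ (π ⁻¹ᵁ U₀) le_rfl).hom a), ?_⟩
    have := resMap_eval_fst π q FX hFb hle hFapp Φ hΦπ U₀ a y hy
    rw [hq] at this
    exact this.symm
  · apply IntermediateField.adjoin_le_iff.mpr
    rintro _ ⟨x, rfl⟩
    have hx : x ∈ IntermediateField.adjoin k
        (Set.range fun a : Γ(X, U₀) =>
          (Y.evaluation (π ⁻¹ᵁ U₀) y hy).hom ((π.appLE U₀ (π ⁻¹ᵁ U₀) le_rfl).hom a)) := by
      rw [residueField_eq_adjoin k₀ k f π hπ U₀ hU₀ y hy]; trivial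
    change x ^ p ^ e ∈ (residueFieldAlgHom k Φ hΦg y).fieldRange
    induction hx using IntermediateField.adjoin_induction with
    | mem x hx =>
      obtain ⟨a, rfl⟩ := hx
      refine ⟨(Y.evaluation (π ⁻¹ᵁ U₀) (Φ y) hΦy).hom ((π.appLE U₀ (π ⁻¹ᵁ U₀) le_rfl).hom a), ?_⟩
      have := resMap_eval_fst π q FX hFb hle hFapp Φ hΦπ U₀ a y hy
      rw [hq] at this
      exact this
    | algebraMap d =>
      refine ⟨algebraMap k _ (d ^ p ^ e), ?_⟩
      exact ((residueFieldAlgHom k Φ hΦg y).commutes (d ^ p ^ e)).trans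
        (map_pow (algebraMap k (Y.residueField y)) d (p ^ e))
    | add x y _ _ hx hy =>
      rw [add_pow_char_pow]
      exact add_mem hx hy
    | inv x _ hx =>
      rw [inv_pow]
      exact inv_mem hx
    | mul x y _ _ hx hy =>
      rw [mul_pow]
      exact mul_mem hx hy

lemma residueDegree_eq_finrank (y : Y) :
    Φ.residueDegree y =
      Module.finrank (residueFieldAlgHom k Φ hΦg y).fieldRange (Y.residueField y) := by
  letI alg : Algebra (Y.residueField (Φ y)) (Y.residueField y) :=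
    (Φ.residueFieldMap y).hom.toAlgebra
  change Module.finrank (Y.residueField (Φ y)) (Y.residueField y) = _
  exact Algebra.finrank_eq_of_equiv_equiv
    (AlgEquiv.ofInjectiveField (residueFieldAlgHom k Φ hΦg y)).toRingEquiv (RingEquiv.refl _)
    (by ext x; rfl)

end Setup

section FinGen

variable (k : Type u) [Field k] {Y : Scheme.{u}} [Y.Over (Spec (CommRingCat.of k))]
  [LocallyOfFiniteType (Y ↘ Spec (CommRingCat.of k))]

attribute [local instance] sectionsAlgebra Curv2.resAlgebra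

lemma exists_finset_adjoin_eq_top (y : Y) :
    ∃ t : Finset (Y.residueField y),
      IntermediateField.adjoin k (t : Set (Y.residueField y)) = ⊤ := by
  classical
  obtain ⟨V, hV, hy, -⟩ := exists_isAffineOpen_mem_and_subset (U := ⊤) (x := y) trivial
  haveI := finiteType_sections k Y hV
  obtain ⟨G, hG⟩ := (Algebra.FiniteType.out : (⊤ : Subalgebra k Γ(Y, V)).FG)
  refine ⟨G.image (evₐ k Y y hy), ?_⟩
  have key : ∀ b : Γ(Y, V), evₐ k Y y hy b ∈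
      IntermediateField.adjoin k ((G.image (evₐ k Y y hy) : Finset _) : Set (Y.residueField y)) := by
    intro b
    have hb : b ∈ Algebra.adjoin k (G : Set Γ(Y, V)) := by rw [hG]; trivial
    have h1 : evₐ k Y y hy b ∈ (Algebra.adjoin k (G : Set Γ(Y, V))).map (evₐ k Y y hy) :=
      ⟨b, hb, rfl⟩
    rw [AlgHom.map_adjoin] at h1
    have h2 := IntermediateField.algebra_adjoin_le_adjoin k _ h1
    rw [Finset.coe_image]
    exact h2
  rw [eq_top_iff]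
  rintro z -
  obtain ⟨a, s, rfl⟩ := evₐ_frac k Y hV y hy z
  exact div_mem (key a) (key s)

lemma exists_transcendenceBasis_fin (y : Y) :
    ∃ s : Fin (trdegNat k Y y) → Y.residueField y, IsTranscendenceBasis k s := by
  obtain ⟨ι, x, hx⟩ := exists_isTranscendenceBasis' k (Y.residueField y)
  have h1 := hx.cardinalMk_eq_trdeg
  rw [trdeg_eq_trdegNat k Y y] at h1
  obtain ⟨e⟩ := Cardinal.mk_eq_nat_iff.mp h1
  exact ⟨x ∘ e.symm, hx.comp_equiv e.symm⟩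

lemma finrank_adjoin_pow [IsAlgClosed k] (p e : ℕ) [Fact p.Prime] [CharP k p] (y : Y) :
    Module.finrank (IntermediateField.adjoin k (Set.range fun x : Y.residueField y => x ^ p ^ e))
      (Y.residueField y) = (p ^ e) ^ trdegNat k Y y := by
  haveI : CharP (Y.residueField y) p :=
    charP_of_injective_algebraMap (algebraMap k (Y.residueField y)).injective p
  obtain ⟨t, ht⟩ := exists_finset_adjoin_eq_top k y
  obtain ⟨s, hs⟩ := exists_transcendenceBasis_fin k y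
  refine Groth.Agent.S11991.result k (Y.residueField y) p t ht ?_ (trdegNat k Y y) s hs e
  intro x hx
  have h1 : (minpoly k x).degree = 1 :=
    IsAlgClosed.degree_eq_one_of_irreducible k (minpoly.irreducible hx.isIntegral)
  exact minpoly.mem_range_of_degree_eq_one k x h1

end FinGen

end Groth.Agent.Lib.LeadWeilFrob
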