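import Groth.Agent.Lib.LeadWeilFrobA
import Groth.Agent.S15445

/-!
# Frobenius acts on the top cohomology of a Weil cohomology theory by `q ^ dim` (lead)
-/

set_option maxHeartbeats 400000
set_option autoImplicit false
set_option linter.style.haveILetI false
set_option linter.unusedSectionVars false

universe u v

open AlgebraicGeometry CategoryTheory Limits

namespace Groth.Agent.Lib.LeadWeilFrob

open Groth.Agent.Lib.Helper4.VarDim Groth.Agent.Lib.Helper10.WeilPt

section Weil

variable (k₀ : Type u) [Field k₀] [Finite k₀] (k : Type u) [Field k] [IsAlgClosed k] [Algebra k₀ k]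
  {X : Scheme.{u}} (f : X ⟶ Spec (CommRingCat.of k₀))
  (FX : X ⟶ X) (hFb : FX.base = 𝟙 _) (hle : ∀ U : X.Opens, U ≤ FX ⁻¹ᵁ U)
  (hFapp : ∀ (U : X.Opens) (s : Γ(X, U)), (FX.appLE U U (hle U)).hom s = s ^ Nat.card k₀)
  (Xb : WeilCoh.Var k) (π : Xb.obj.left ⟶ X)
  (hπ : IsPullback π Xb.obj.hom f (Spec.map (CommRingCat.ofHom (algebraMap k₀ k))))
  (F : Xb ⟶ Xb) (hF : WeilCoh.sm F ≫ π = π ≫ FX)

attribute [local instance] overVar

include hFb hFapp hπ hF in
theorem residueDegree_frobenius (y : Xb.obj.left) :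
    (WeilCoh.sm F).residueDegree y = Nat.card k₀ ^ trdegNat k Xb.obj.left y := by
  obtain ⟨p, hp⟩ := CharP.exists k₀
  haveI := Fintype.ofFinite k₀
  obtain ⟨n, hprime, hcard⟩ := FiniteField.card k₀ p
  haveI : Fact p.Prime := ⟨hprime⟩
  haveI : CharP k p := charP_of_injective_algebraMap (algebraMap k₀ k).injective p
  have hq : Nat.card k₀ = p ^ (n : ℕ) := by rw [Nat.card_eq_fintype_card]; exact hcard
  obtain ⟨U₀, hU₀, hy, -⟩ := exists_isAffineOpen_mem_and_subset (U := ⊤) (x := π y) trivial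
  have hΦg : WeilCoh.sm F ≫ (Xb.obj.left ↘ Spec (CommRingCat.of k)) =
      (Xb.obj.left ↘ Spec (CommRingCat.of k)) := sm_w F
  rw [residueDegree_eq_finrank k (WeilCoh.sm F) hΦg y,
    fieldRange_eq k₀ k f π hπ (Nat.card k₀) FX hFb hle hFapp (WeilCoh.sm F) hΦg hF p n hq U₀ hU₀
      y hy,
    finrank_adjoin_pow k p n y, hq]

include hFb hFapp hπ hF in
theorem frobenius_genericPoint :
    WeilCoh.sm F (genericPoint Xb.obj.left) = genericPoint Xb.obj.left := by
  have hdeg := residueDegree_frobenius k₀ k f FX hFb hle hFapp Xb π hπ F hF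
    (genericPoint Xb.obj.left)
  have hne : (WeilCoh.sm F).residueDegree (genericPoint Xb.obj.left) ≠ 0 := by
    rw [hdeg]
    exact pow_ne_zero _ (Nat.card_pos.ne')
  have h1 := pdim_eq_of_residueDegree_ne_zero F (genericPoint Xb.obj.left) hne
  rw [pdim_eq_trdegNat, pdim_eq_trdegNat] at h1
  by_contra hcon
  have h2 := trdegNat_lt_of_specializes k Xb.obj.left (genericPoint Xb.obj.left)
    (WeilCoh.sm F (genericPoint Xb.obj.left)) (genericPoint_specializes _) (Ne.symm hcon)
  omega

include hFb hFapp hπ hF in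
theorem residueDegree_frobenius_generic :
    (WeilCoh.sm F).residueDegree (genericPoint Xb.obj.left) =
      Nat.card k₀ ^ WeilCoh.dim Xb.obj.left := by
  rw [residueDegree_frobenius k₀ k f FX hFb hle hFapp Xb π hπ F hF, ← pdim_eq_trdegNat,
    pdim_genericPoint]

include hFb hFapp hπ hF in
/-- Frobenius multiplies the trace by `q ^ dim` on the top cohomology. -/
theorem tr_pull_frobenius {K : Type v} [Field K] [CharZero K] (T : WeilCoh.Theory k K)
    (a : T.H Xb) (ha : a ∈ T.gr Xb (2 * (WeilCoh.dim Xb.obj.left : ℤ))) :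
    T.tr Xb (T.pull F a) = (Nat.card k₀ : K) ^ WeilCoh.dim Xb.obj.left * T.tr Xb a := by
  have h := Groth.Agent.S15445.result k K T Xb Xb F
    (frobenius_genericPoint k₀ k f FX hFb hle hFapp Xb π hπ F hF) rfl a ha
  rw [h, residueDegree_frobenius_generic k₀ k f FX hFb hle hFapp Xb π hπ F hF, Nat.cast_pow]

end Weil

end Groth.Agent.Lib.LeadWeilFrob
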