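import Mathlib

/-!
# Lifting units along `B → ∏_m (A/m) ⊗_A B` for `A` semilocal, `B` integral over `A` (lead)
-/

set_option autoImplicit false
set_option maxHeartbeats 400000
set_option linter.style.haveILetI false
set_option linter.unusedSectionVars false
set_option linter.unusedVariables false

universe u

open TensorProduct

namespace Groth.Agent.Lib.LeadWeilGm

variable {A B : Type u} [CommRing A] [CommRing B] [Algebra A B]

/-- `b ↦ 1 ⊗ b : B → (A/I) ⊗_A B` is surjective. -/
theorem includeRight_surjective (I : Ideal A) :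
    Function.Surjective
      (Algebra.TensorProduct.includeRight : B →ₐ[A] (A ⧸ I) ⊗[A] B) := by
  intro x
  induction x using TensorProduct.induction_on with
  | zero => exact ⟨0, map_zero _⟩
  | tmul a b =>
    obtain ⟨a, rfl⟩ := Ideal.Quotient.mk_surjective a
    refine ⟨a • b, ?_⟩
    rw [Algebra.TensorProduct.includeRight_apply]
    have : (Ideal.Quotient.mk I a) = a • (1 : A ⧸ I) := by
      rw [Algebra.smul_def, mul_one]; rfl
    rw [this, TensorProduct.smul_tmul]
  | add x y hx hy =>
    obtain ⟨x', rfl⟩ := hx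
    obtain ⟨y', rfl⟩ := hy
    exact ⟨x' + y', map_add _ _ _⟩

/-- elements of `I` die in `(A/I) ⊗_A B`. -/
theorem includeRight_algebraMap_of_mem (I : Ideal A) {a : A} (ha : a ∈ I) :
    (Algebra.TensorProduct.includeRight : B →ₐ[A] (A ⧸ I) ⊗[A] B) (algebraMap A B a) = 0 := by
  rw [Algebra.TensorProduct.includeRight_apply, Algebra.algebraMap_eq_smul_one,
    ← TensorProduct.smul_tmul, Algebra.smul_def, mul_one]
  have : algebraMap A (A ⧸ I) a = 0 := Ideal.Quotient.eq_zero_iff_mem.mpr ha
  rw [this, TensorProduct.zero_tmul]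

/-- the evaluation `(A/p) ⊗_A B → B/n` for `n` a prime of `B` over `p`. -/
noncomputable def toQuot (n : Ideal B) (p : Ideal A) (hp : p ≤ n.comap (algebraMap A B)) :
    (A ⧸ p) ⊗[A] B →ₐ[A] B ⧸ n :=
  Algebra.TensorProduct.productMap
    (Ideal.Quotient.liftₐ p (Algebra.ofId A (B ⧸ n)) (fun a ha => by
      have h1 : algebraMap A B a ∈ n := hp ha
      rw [Algebra.ofId_apply, IsScalarTower.algebraMap_apply A B (B ⧸ n)]
      exact Ideal.Quotient.eq_zero_iff_mem.mpr h1))
    (Ideal.Quotient.mkₐ A n)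

theorem toQuot_includeRight (n : Ideal B) (p : Ideal A) (hp : p ≤ n.comap (algebraMap A B)) (b : B) :
    toQuot n p hp (Algebra.TensorProduct.includeRight b) = Ideal.Quotient.mk n b := by
  unfold toQuot
  rw [Algebra.TensorProduct.includeRight_apply, Algebra.TensorProduct.productMap_apply_tmul,
    map_one, one_mul]
  rfl

/-- **Unit lifting.** -/
theorem exists_unit_lift [Algebra.IsIntegral A B] [Finite (MaximalSpectrum A)]
    (c : ∀ m : MaximalSpectrum A, ((A ⧸ m.asIdeal) ⊗[A] B)ˣ) :
    ∃ b : Bˣ, ∀ m : MaximalSpectrum A,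
      (Algebra.TensorProduct.includeRight : B →ₐ[A] (A ⧸ m.asIdeal) ⊗[A] B) (b : B) = (c m : _) := by
  classical
  let ψ : ∀ m : MaximalSpectrum A, B →ₐ[A] (A ⧸ m.asIdeal) ⊗[A] B :=
    fun m => Algebra.TensorProduct.includeRight
  let I : MaximalSpectrum A → Ideal B := fun m => RingHom.ker (ψ m).toRingHom
  have hcop : Pairwise (Function.onFun IsCoprime I) := by
    intro m m' hne
    have hne' : m.asIdeal ≠ m'.asIdeal := fun h => hne (MaximalSpectrum.ext h)
    have hsup : m.asIdeal ⊔ m'.asIdeal = ⊤ := m.isMaximal.coprime_of_ne m'.isMaximal hne'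
    obtain ⟨a, ha, a', ha', haa⟩ := Submodule.mem_sup.mp
      ((Ideal.eq_top_iff_one _).mp hsup)
    rw [Function.onFun, Ideal.isCoprime_iff_exists]
    refine ⟨algebraMap A B a, ?_, algebraMap A B a', ?_, ?_⟩
    · exact includeRight_algebraMap_of_mem m.asIdeal ha
    · exact includeRight_algebraMap_of_mem m'.asIdeal ha'
    · rw [← map_add, haa, map_one]
  choose x hx using fun m => includeRight_surjective (B := B) m.asIdeal (c m : _)
  obtain ⟨b, hb⟩ := Ideal.exists_forall_sub_mem_ideal hcop x
  have hbm : ∀ m, ψ m b = (c m : _) := by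
    intro m
    have h1 : ψ m (b - x m) = 0 := hb m
    rw [map_sub, sub_eq_zero] at h1
    rw [h1]; exact hx m
  have hunit : IsUnit b := by
    by_contra hnu
    obtain ⟨n, hn, hbn⟩ := exists_max_ideal_of_mem_nonunits hnu
    haveI := hn
    have hpmax : (n.comap (algebraMap A B)).IsMaximal :=
      Ideal.isMaximal_comap_of_isIntegral_of_isMaximal n
    let m : MaximalSpectrum A := ⟨n.comap (algebraMap A B), hpmax⟩
    have h1 := toQuot_includeRight n m.asIdeal le_rfl b
    have h2 : Ideal.Quotient.mk n b = 0 := Ideal.Quotient.eq_zero_iff_mem.mpr hbn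
    have h3 : IsUnit (toQuot n m.asIdeal le_rfl (ψ m b)) := by
      rw [hbm m]; exact (c m).isUnit.map _
    rw [h1, h2] at h3
    haveI : Nontrivial (B ⧸ n) := Ideal.Quotient.nontrivial_iff.mpr hn.ne_top
    exact not_isUnit_zero h3
  exact ⟨hunit.unit, fun m => hbm m⟩

end Groth.Agent.Lib.LeadWeilGm
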