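import Mathlib
import Groth.Prelude.Def_WeilRes
import Groth.Prelude.Def_GmPts
import Groth.Agent.Lib.LeadWeilGmA

/-!
# Points of the Weil restriction of `𝔾_m` along `Spec B → Spec A` over `A`-algebras (lead)
-/

set_option autoImplicit false
set_option maxHeartbeats 400000
set_option linter.style.haveILetI false
set_option linter.unusedSectionVars false
set_option linter.unusedVariables false

universe u

open CategoryTheory CategoryTheory.Limits AlgebraicGeometry TensorProduct MonObj

namespace Groth.Agent.Lib.LeadWeilGm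

variable (A B : Type u) [CommRing A] [CommRing B] [Algebra A B]

/-- the morphism `Spec B ⟶ Spec A`. -/
noncomputable abbrev fAB : Spec (CommRingCat.of B) ⟶ Spec (CommRingCat.of A) :=
  Spec.map (CommRingCat.ofHom (algebraMap A B))

/-- `Spec C` as a scheme over `Spec A`. -/
noncomputable abbrev YC (C : Type u) [CommRing C] [Algebra A C] : Over (Spec (CommRingCat.of A)) :=
  Over.mk (Spec.map (CommRingCat.ofHom (algebraMap A C)))

/-- the morphism `Spec C' ⟶ Spec C` over `Spec A` of an `A`-algebra map. -/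
noncomputable def τ {C C' : Type u} [CommRing C] [CommRing C'] [Algebra A C] [Algebra A C']
    (h : C →ₐ[A] C') : YC A C' ⟶ YC A C :=
  Over.homMk (Spec.map (CommRingCat.ofHom h.toRingHom)) (by
    change Spec.map _ ≫ Spec.map _ = Spec.map _
    rw [← Spec.map_comp, ← CommRingCat.ofHom_comp, AlgHom.toRingHom_eq_coe, h.comp_algebraMap])

theorem τ_left {C C' : Type u} [CommRing C] [CommRing C'] [Algebra A C] [Algebra A C']
    (h : C →ₐ[A] C') : (τ A h).left = Spec.map (CommRingCat.ofHom h.toRingHom) := rfl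

/-- the ring isomorphism `Γ(Spec C ×_A Spec B) ≅ C ⊗_A B`. -/
noncomputable def gamIso (C : Type u) [CommRing C] [Algebra A C] :
    Γ((Red.bc (fAB A B) (YC A C)).left, ⊤) ≅ CommRingCat.of (C ⊗[A] B) :=
  (Scheme.Γ.mapIso (pullbackSpecIso A C B).op).symm ≪≫
    Scheme.ΓSpecIso (CommRingCat.of (C ⊗[A] B))

/-- its underlying morphism. -/
noncomputable def gam (C : Type u) [CommRing C] [Algebra A C] :
    Γ((Red.bc (fAB A B) (YC A C)).left, ⊤) ⟶ CommRingCat.of (C ⊗[A] B) :=
  (gamIso A B C).hom

theorem gam_eq (C : Type u) [CommRing C] [Algebra A C] :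
    gam A B C = (pullbackSpecIso A C B).inv.appTop ≫
      (Scheme.ΓSpecIso (CommRingCat.of (C ⊗[A] B))).hom := rfl

/-- `γ` as a ring equivalence. -/
noncomputable def gamE (C : Type u) [CommRing C] [Algebra A C] :
    Γ((Red.bc (fAB A B) (YC A C)).left, ⊤) ≃+* C ⊗[A] B :=
  (gamIso A B C).commRingCatIsoToRingEquiv

theorem gamE_apply (C : Type u) [CommRing C] [Algebra A C]
    (x : Γ((Red.bc (fAB A B) (YC A C)).left, ⊤)) : gamE A B C x = (gam A B C).hom x := rfl

theorem map_left_fst {X Y : Over (Spec (CommRingCat.of A))} (g : X ⟶ Y) :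
    ((Over.pullback (fAB A B)).map g).left ≫ pullback.fst Y.hom (fAB A B) =
      pullback.fst X.hom (fAB A B) ≫ g.left := by
  dsimp only [Over.pullback]
  exact pullback.lift_fst _ _ _

theorem map_left_snd {X Y : Over (Spec (CommRingCat.of A))} (g : X ⟶ Y) :
    ((Over.pullback (fAB A B)).map g).left ≫ pullback.snd Y.hom (fAB A B) =
      pullback.snd X.hom (fAB A B) := by
  dsimp only [Over.pullback]
  exact pullback.lift_snd _ _ _

/-- the geometric square. -/
theorem pullbackSpecIso_inv_map {C C' : Type u} [CommRing C] [CommRing C'] [Algebra A C]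
    [Algebra A C'] (h : C →ₐ[A] C') :
    (pullbackSpecIso A C' B).inv ≫ ((Over.pullback (fAB A B)).map (τ A h)).left =
      Spec.map (CommRingCat.ofHom
        (Algebra.TensorProduct.map h (AlgHom.id A B)).toRingHom) ≫ (pullbackSpecIso A C B).inv := by
  apply pullback.hom_ext
  · have e1 : (pullbackSpecIso A C' B).inv ≫ pullback.fst (YC A C').hom (fAB A B) =
        Spec.map (CommRingCat.ofHom Algebra.TensorProduct.includeLeftRingHom) :=
      pullbackSpecIso_inv_fst A C' B
    have e2 : (pullbackSpecIso A C B).inv ≫ pullback.fst (YC A C).hom (fAB A B) =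
        Spec.map (CommRingCat.ofHom Algebra.TensorProduct.includeLeftRingHom) :=
      pullbackSpecIso_inv_fst A C B
    rw [Category.assoc, Category.assoc, map_left_fst, reassoc_of% e1, e2, τ_left, ← Spec.map_comp,
      ← Spec.map_comp, ← CommRingCat.ofHom_comp, ← CommRingCat.ofHom_comp]
    congr 2
  · have e1 : (pullbackSpecIso A C' B).inv ≫ pullback.snd (YC A C').hom (fAB A B) =
        Spec.map (CommRingCat.ofHom (R := B) (S := C' ⊗[A] B)
          (RingHomClass.toRingHom Algebra.TensorProduct.includeRight)) :=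
      pullbackSpecIso_inv_snd A C' B
    have e2 : (pullbackSpecIso A C B).inv ≫ pullback.snd (YC A C).hom (fAB A B) =
        Spec.map (CommRingCat.ofHom (R := B) (S := C ⊗[A] B)
          (RingHomClass.toRingHom Algebra.TensorProduct.includeRight)) :=
      pullbackSpecIso_inv_snd A C B
    rw [Category.assoc, Category.assoc, map_left_snd, e1, e2, ← Spec.map_comp,
      ← CommRingCat.ofHom_comp]
    congr 2
    ext b
    simp

/-- naturality of `γ`. -/
theorem gam_naturality {C C' : Type u} [CommRing C] [CommRing C'] [Algebra A C]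
    [Algebra A C'] (h : C →ₐ[A] C') :
    ((Over.pullback (fAB A B)).map (τ A h)).left.appTop ≫ gam A B C' =
      gam A B C ≫ CommRingCat.ofHom (Algebra.TensorProduct.map h (AlgHom.id A B)).toRingHom := by
  rw [gam_eq, gam_eq, ← Category.assoc, ← Scheme.Hom.comp_appTop, pullbackSpecIso_inv_map,
    Scheme.Hom.comp_appTop, Category.assoc, Category.assoc, Scheme.ΓSpecIso_naturality]

theorem gamE_naturality {C C' : Type u} [CommRing C] [CommRing C'] [Algebra A C]
    [Algebra A C'] (h : C →ₐ[A] C') (x : Γ((Red.bc (fAB A B) (YC A C)).left, ⊤)) :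
    gamE A B C' (((Over.pullback (fAB A B)).map (τ A h)).left.appTop x) =
      Algebra.TensorProduct.map h (AlgHom.id A B) (gamE A B C x) := by
  have := congrArg (fun k => k.hom x) (gam_naturality A B h)
  exact this

/-- points of `𝔾_m` over `Spec C ×_A Spec B` are units of `C ⊗_A B`. -/
noncomputable def E (C : Type u) [CommRing C] [Algebra A C] :
    (Red.bc (fAB A B) (YC A C) ⟶ Red.Gm (Spec (CommRingCat.of B))) ≃ (C ⊗[A] B)ˣ :=
  (GmPts.equiv (Red.bc (fAB A B) (YC A C))).toEquiv.trans
    (Units.mapEquiv (gamE A B C).toMulEquiv).toEquiv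

theorem E_apply_val (C : Type u) [CommRing C] [Algebra A C]
    (t : Red.bc (fAB A B) (YC A C) ⟶ Red.Gm (Spec (CommRingCat.of B))) :
    ((E A B C t : (C ⊗[A] B)ˣ) : C ⊗[A] B) = gamE A B C (Red.gmFn t) := rfl

theorem E_naturality {C C' : Type u} [CommRing C] [CommRing C'] [Algebra A C]
    [Algebra A C'] (h : C →ₐ[A] C')
    (t : Red.bc (fAB A B) (YC A C) ⟶ Red.Gm (Spec (CommRingCat.of B))) :
    ((E A B C' ((Over.pullback (fAB A B)).map (τ A h) ≫ t) : (C' ⊗[A] B)ˣ) : C' ⊗[A] B) =
      Algebra.TensorProduct.map h (AlgHom.id A B) (E A B C t : (C ⊗[A] B)ˣ) := by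
  rw [E_apply_val, E_apply_val, GmPts.gmFn_comp, gamE_naturality]

end Groth.Agent.Lib.LeadWeilGm
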