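import Mathlib
import Groth.Prelude.Def_WeilRes
import Groth.Prelude.Def_GmPts
import Groth.Agent.Lib.LeadWeilGmB

/-!
# Sections of `R_{B/A}(𝔾_m)` lift from the closed points of a semilocal base (lead)
-/

set_option autoImplicit false
set_option maxHeartbeats 400000
set_option linter.style.haveILetI false
set_option linter.unusedSectionVars false
set_option linter.unusedVariables false

universe u

open CategoryTheory CategoryTheory.Limits AlgebraicGeometry TensorProduct MonObj

namespace Groth.Agent.Lib.LeadWeilGm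

theorem main (A : Type u) [CommRing A] [Finite (MaximalSpectrum A)]
    (B : Type u) [CommRing B] [Algebra A B] [Algebra.IsIntegral A B]
    (P : Over (Spec (CommRingCat.of A)))
    (q : Red.bc (Spec.map (CommRingCat.ofHom (algebraMap A B))) P ⟶ Red.Gm (Spec (CommRingCat.of B)))
    (hP : WeilRes.IsWeilRes (Spec.map (CommRingCat.ofHom (algebraMap A B)))
      (Red.Gm (Spec (CommRingCat.of B))) P q)
    (u : ∀ m : MaximalSpectrum A, Spec (CommRingCat.of (A ⧸ m.asIdeal)) ⟶ P.left)
    (hu : ∀ m : MaximalSpectrum A, u m ≫ P.hom =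
      (Spec.map (CommRingCat.ofHom (Ideal.Quotient.mk m.asIdeal)))) :
    ∃ s : Spec (CommRingCat.of A) ⟶ P.left, s ≫ P.hom = 𝟙 (Spec (CommRingCat.of A)) ∧
      ∀ m : MaximalSpectrum A,
        (Spec.map (CommRingCat.ofHom (Ideal.Quotient.mk m.asIdeal))) ≫ s = u m := by
  -- the points `v m : Spec (A/m) ⟶ P` over `Spec A`
  let v : ∀ m : MaximalSpectrum A, YC A (A ⧸ m.asIdeal) ⟶ P := fun m =>
    Over.homMk (u m) (hu m)
  -- their restrictions, as units of `(A/m) ⊗ B`
  let c : ∀ m : MaximalSpectrum A, ((A ⧸ m.asIdeal) ⊗[A] B)ˣ := fun m =>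
    E A B (A ⧸ m.asIdeal) (WeilRes.restr (fAB A B) q (YC A (A ⧸ m.asIdeal)) (v m))
  obtain ⟨b, hb⟩ := exists_unit_lift (A := A) (B := B) c
  -- the point of `𝔾_m` over `Spec A ×_A Spec B` given by `1 ⊗ b`
  let z : Red.bc (fAB A B) (YC A A) ⟶ Red.Gm (Spec (CommRingCat.of B)) :=
    (E A B A).symm (Units.map
      (Algebra.TensorProduct.includeRight : B →ₐ[A] A ⊗[A] B).toRingHom.toMonoidHom b)
  obtain ⟨s', hs'⟩ := (hP (YC A A)).2 z
  refine ⟨s'.left, ?_, fun m => ?_⟩
  · have h1 := Over.w s'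
    have h2 : (YC A A).hom = 𝟙 (Spec (CommRingCat.of A)) := by
      change Spec.map (CommRingCat.ofHom (RingHom.id A)) = _
      rw [CommRingCat.ofHom_id, Spec.map_id]
    rw [h1, h2]
  · -- compare `τ ≫ s'` with `v m`
    have key : τ A (Algebra.ofId A (A ⧸ m.asIdeal)) ≫ s' = v m := by
      apply (hP (YC A (A ⧸ m.asIdeal))).1
      rw [WeilRes.restr_comp, hs']
      apply (E A B (A ⧸ m.asIdeal)).injective
      apply Units.ext
      rw [E_naturality]
      change _ = ((c m : ((A ⧸ m.asIdeal) ⊗[A] B)ˣ) : (A ⧸ m.asIdeal) ⊗[A] B)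
      rw [← hb m]
      have hz : ((E A B A z : (A ⊗[A] B)ˣ) : A ⊗[A] B) =
          (Algebra.TensorProduct.includeRight : B →ₐ[A] A ⊗[A] B) (b : B) := by
        change (((E A B A) ((E A B A).symm _) : (A ⊗[A] B)ˣ) : A ⊗[A] B) = _
        rw [Equiv.apply_symm_apply]
        rfl
      rw [hz, Algebra.TensorProduct.includeRight_apply, Algebra.TensorProduct.map_tmul,
        map_one, Algebra.TensorProduct.includeRight_apply]
      rfl
    have h3 := congrArg (fun k => k.left) key
    exact h3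

end Groth.Agent.Lib.LeadWeilGm
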