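import Groth.Agent.Lib.LeadZetaPart

/-!
# The zeta function of the affine line over `X` (lead)
-/

set_option maxHeartbeats 400000
set_option autoImplicit false
set_option linter.style.haveILetI false
set_option linter.unusedSectionVars false

universe u

open AlgebraicGeometry CategoryTheory Limits

namespace Groth.Agent.Lib.LeadZetaA1

open Groth.Agent.Lib.LeadZeta Groth.Agent.Lib.LeadZetaFp Groth.Agent.Lib.Helper27LogDeriv

section PS

open PowerSeries

lemma derivative_rescale {R : Type*} [CommRing R] (a : R) (F : R⟦X⟧) :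
    d⁄dX R (rescale a F) = C a * rescale a (d⁄dX R F) := by
  ext n
  rw [coeff_derivative, coeff_rescale, coeff_C_mul, coeff_rescale, coeff_derivative]
  ring

lemma LD.rescale {R : Type*} [CommRing R] (a : R) {F S : R⟦X⟧} (h : LD F S) :
    LD (rescale a F) (C a * rescale a S) := by
  unfold LD at *
  rw [derivative_rescale, h, map_mul]
  ring

/-- `exp ∘ (rescaled logarithm)` is the rescaled `exp ∘ log`. -/
lemma expLog_rescale (q : ℚ) (N N' : ℕ → ℕ) (h : ∀ m, (N' m : ℚ) = q ^ m * N m) :
    (PowerSeries.exp ℚ).subst (PowerSeries.mk fun m => (N' m : ℚ) / m) =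
      rescale q ((PowerSeries.exp ℚ).subst (PowerSeries.mk fun m => (N m : ℚ) / m)) := by
  have hL0 : ∀ M : ℕ → ℕ, constantCoeff (PowerSeries.mk fun m : ℕ => (M m : ℚ) / m) = 0 := by
    intro M
    rw [← coeff_zero_eq_constantCoeff_apply, coeff_mk]
    simp
  have hL : (PowerSeries.mk fun m : ℕ => (N' m : ℚ) / m) =
      rescale q (PowerSeries.mk fun m : ℕ => (N m : ℚ) / m) := by
    ext m
    rw [coeff_rescale, coeff_mk, coeff_mk, h m, mul_div_assoc]
  have h1 : LD ((PowerSeries.exp ℚ).subst (PowerSeries.mk fun m => (N' m : ℚ) / m))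
      (d⁄dX ℚ (PowerSeries.mk fun m : ℕ => (N' m : ℚ) / m)) := LD.exp_subst _ (hL0 N')
  have h2 := LD.rescale q (LD.exp_subst _ (hL0 N))
  have h3 : d⁄dX ℚ (PowerSeries.mk fun m : ℕ => (N' m : ℚ) / m) =
      C q * rescale q (d⁄dX ℚ (PowerSeries.mk fun m : ℕ => (N m : ℚ) / m)) := by
    rw [hL, derivative_rescale]
  refine LD.unique (h1.congr h3) h2 ?_
  rw [coeff_zero_exp_subst _ (hL0 N'), coeff_rescale, coeff_zero_exp_subst _ (hL0 N), pow_zero,
    mul_one]

end PS

section Ext

/-- an extension of every positive degree of a finite field, in the same universe -/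
lemma exists_ext (k : Type u) [Field k] [Finite k] (m : ℕ) (hm : m ≠ 0) :
    ∃ (k' : Type u) (_ : Field k') (_ : Algebra k k') (_ : Finite k'),
      Module.finrank k k' = m := by
  obtain ⟨p, hp⟩ := CharP.exists k
  haveI := hp
  haveI : Fact p.Prime := ⟨CharP.char_is_prime k p⟩
  haveI : NeZero m := ⟨hm⟩
  refine ⟨ULift.{u} (FiniteField.Extension k p m), inferInstance, inferInstance, inferInstance, ?_⟩
  exact (LinearEquiv.finrank_eq ULift.moduleEquiv).trans (FiniteField.finrank_extension k p m)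

end Ext

section A1

variable {k : Type u} [Field k] [Finite k] {X : Scheme.{u}}
  (f : X ⟶ Spec (CommRingCat.of k)) (K : Type u) [Field K] [Algebra k K]

/-- points of the affine line over `X` -/
noncomputable def pointsEquiv :
    {t : Spec (CommRingCat.of K) ⟶ 𝔸(PUnit.{u + 1}; X) //
        t ≫ (𝔸(PUnit.{u + 1}; X) ↘ X) ≫ f = Spec.map (CommRingCat.ofHom (algebraMap k K))} ≃
      {s : Spec (CommRingCat.of K) ⟶ X //
        s ≫ f = Spec.map (CommRingCat.ofHom (algebraMap k K))} ×
        Γ(Spec (CommRingCat.of K), ⊤) where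
  toFun t := (⟨t.1 ≫ (𝔸(PUnit.{u + 1}; X) ↘ X), by rw [Category.assoc]; exact t.2⟩,
    t.1.appTop (AffineSpace.coord X PUnit.unit))
  invFun z := ⟨AffineSpace.homOfVector z.1.1 (fun _ => z.2), by
    rw [← Category.assoc, AffineSpace.homOfVector_over]; exact z.1.2⟩
  left_inv t := by
    apply Subtype.ext
    apply AffineSpace.hom_ext
    · rw [AffineSpace.homOfVector_over]
    · intro i
      rw [AffineSpace.homOfVector_appTop_coord]
  right_inv z := by
    apply Prod.ext
    · apply Subtype.ext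
      exact AffineSpace.homOfVector_over _ _
    · exact AffineSpace.homOfVector_appTop_coord _ _ _

lemma pointCount_affineLine [Finite K] :
    SgaExt.pointCount ((𝔸(PUnit.{u + 1}; X) ↘ X) ≫ f) K = SgaExt.pointCount f K * Nat.card K := by
  unfold SgaExt.pointCount
  rw [Nat.card_congr (pointsEquiv f K), Nat.card_prod,
    Nat.card_congr (Scheme.ΓSpecIso (CommRingCat.of K)).commRingCatIsoToRingEquiv.toEquiv]

variable [LocallyOfFiniteType f] [QuasiCompact f]

lemma nPts_affineLine (m : ℕ) :
    Zeta.nPts ((𝔸(PUnit.{u + 1}; X) ↘ X) ≫ f) m = Nat.card k ^ m * Zeta.nPts f m := by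
  by_cases hm : m = 0
  · subst hm
    unfold Zeta.nPts
    simp
  · obtain ⟨K, _, _, _, hK⟩ := exists_ext k m hm
    have h1 := natCard_points k K ((𝔸(PUnit.{u + 1}; X) ↘ X) ≫ f)
    have h2 := natCard_points k K f
    rw [hK] at h1 h2
    rw [← h1, ← h2, pointCount_affineLine f K, Module.natCard_eq_pow_finrank (K := k) (V := K), hK,
      mul_comm]

theorem zetaFun_affineLine :
    Zeta.zetaFun ((𝔸(PUnit.{u + 1}; X) ↘ X) ≫ f) =
      PowerSeries.rescale (Nat.card k : ℚ) (Zeta.zetaFun f) :=
  expLog_rescale (Nat.card k : ℚ) (Zeta.nPts f) (Zeta.nPts ((𝔸(PUnit.{u + 1}; X) ↘ X) ≫ f))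
    (fun m => by rw [nPts_affineLine f m]; push_cast; ring)

end A1

end Groth.Agent.Lib.LeadZetaA1
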