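import Mathlib
import Groth.Agent.S13056
import Groth.Agent.Lib.Helper27LogDeriv3

/-!
# Power series glue for the cohomological expression of the zeta function (lead)

If `N m = ∑_j (-1)^j tr(φ_j^m)` for all `m ≥ 1`, then
`exp(∑ N_m t^m / m) · ∏_i det(1 - t φ_{2i}) = ∏_i det(1 - t φ_{2i+1})`.
-/

set_option maxHeartbeats 400000
set_option autoImplicit false

universe u v w

namespace Groth.Agent.Lib.LeadZeta

open PowerSeries Groth.Agent.Lib.Helper27LogDeriv

section Alg

lemma LD_map {R S : Type*} [CommRing R] [CommRing S] (φ : R →+* S) {F G : R⟦X⟧} (h : LD F G) :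
    LD (PowerSeries.map φ F) (PowerSeries.map φ G) := by
  unfold LD at *
  ext n
  have h1 : coeff n (d⁄dX S (PowerSeries.map φ F)) = φ (coeff (n + 1) F) * ((n : S) + 1) := by
    rw [coeff_derivative, coeff_map]
  have h2 : coeff n (PowerSeries.map φ F * PowerSeries.map φ G) =
      φ (coeff (n + 1) F * ((n : R) + 1)) := by
    rw [← map_mul, coeff_map, ← h, coeff_derivative]
  rw [h1, h2, map_mul, map_add, map_natCast, map_one]

lemma alt_sum {K : Type*} [CommRing K] (a : ℕ → K) (n : ℕ) :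
    ∑ j ∈ Finset.range (2 * n + 1), (-1 : K) ^ j * a j =
      ∑ i ∈ Finset.range (n + 1), a (2 * i) - ∑ i ∈ Finset.range n, a (2 * i + 1) := by
  induction n with
  | zero => simp
  | succ n ih =>
    rw [show 2 * (n + 1) + 1 = (2 * n + 1) + 1 + 1 by ring, Finset.sum_range_succ,
      Finset.sum_range_succ, ih, Finset.sum_range_succ (fun i => a (2 * i)) (n + 1),
      Finset.sum_range_succ (fun i => a (2 * i + 1)) n]
    have e1 : (-1 : K) ^ (2 * n + 1) = -1 := by rw [pow_succ, pow_mul]; simp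
    have e2 : (-1 : K) ^ (2 * n + 1 + 1) = 1 := by rw [pow_succ, e1]; simp
    rw [e1, e2, show 2 * (n + 1) = 2 * n + 1 + 1 by ring]
    ring

variable {K : Type u} [Field K] [CharZero K]

lemma LD_charpoly_reverse {V : Type v} [AddCommGroup V] [Module K V] [Module.Finite K V]
    (φ : V →ₗ[K] V) :
    LD ((φ.charpoly.reverse : Polynomial K) : K⟦X⟧)
        (PowerSeries.mk fun m => -(LinearMap.trace K V (φ ^ (m + 1)))) ∧
      coeff 0 ((φ.charpoly.reverse : Polynomial K) : K⟦X⟧) = 1 := by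
  classical
  have h1 : φ.charpoly.reverse =
      (LinearMap.toMatrix (Module.finBasis K V) (Module.finBasis K V) φ).charpolyRev := by
    rw [← LinearMap.charpoly_toMatrix φ (Module.finBasis K V), Matrix.reverse_charpoly]
  have h2 := Groth.Agent.S13056.result
    (LinearMap.toMatrix (Module.finBasis K V) (Module.finBasis K V) φ)
  have hL0 : constantCoeff (PowerSeries.mk fun m : ℕ =>
      -(Matrix.trace ((LinearMap.toMatrix (Module.finBasis K V) (Module.finBasis K V) φ) ^ m)) /
        (m : K)) = 0 := by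
    rw [← coeff_zero_eq_constantCoeff_apply, coeff_mk]
    simp
  have hdL : d⁄dX K (PowerSeries.mk fun m : ℕ =>
      -(Matrix.trace ((LinearMap.toMatrix (Module.finBasis K V) (Module.finBasis K V) φ) ^ m)) /
        (m : K)) = PowerSeries.mk fun m => -(LinearMap.trace K V (φ ^ (m + 1))) := by
    ext m
    rw [coeff_derivative, coeff_mk, coeff_mk]
    have h3 : ((m + 1 : ℕ) : K) ≠ 0 := by exact_mod_cast Nat.succ_ne_zero m
    rw [show ((m : K) + 1) = ((m + 1 : ℕ) : K) by push_cast; ring, div_mul_cancel₀ _ h3,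
      LinearMap.trace_eq_matrix_trace K (Module.finBasis K V), ← LinearMap.toMatrix_pow]
  rw [h1, h2]
  exact ⟨(LD.exp_subst' _ hL0).congr hdL, coeff_zero_exp_subst' _ hL0⟩

theorem zeta_glue (N : ℕ → ℕ) (n : ℕ) (V : ℕ → Type v) [∀ i, AddCommGroup (V i)]
    [∀ i, Module K (V i)] [∀ i, Module.Finite K (V i)] (φ : ∀ i, V i →ₗ[K] V i)
    (h : ∀ m : ℕ, 1 ≤ m → (N m : K) =
      ∑ j ∈ Finset.range (2 * n + 1), (-1 : K) ^ j * LinearMap.trace K (V j) ((φ j) ^ m)) :
    PowerSeries.map (algebraMap ℚ K)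
        ((PowerSeries.exp ℚ).subst (PowerSeries.mk fun m => (N m : ℚ) / m)) *
      ∏ i ∈ Finset.range (n + 1), (((φ (2 * i)).charpoly.reverse : Polynomial K) : K⟦X⟧) =
    ∏ i ∈ Finset.range n, (((φ (2 * i + 1)).charpoly.reverse : Polynomial K) : K⟦X⟧) := by
  have hL0 : constantCoeff (PowerSeries.mk fun m : ℕ => (N m : ℚ) / m) = 0 := by
    rw [← coeff_zero_eq_constantCoeff_apply, coeff_mk]
    simp
  have hdL0 : d⁄dX ℚ (PowerSeries.mk fun m : ℕ => (N m : ℚ) / m) =
      PowerSeries.mk fun m => (N (m + 1) : ℚ) := by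
    ext m
    rw [coeff_derivative, coeff_mk, coeff_mk]
    have h3 : ((m + 1 : ℕ) : ℚ) ≠ 0 := by exact_mod_cast Nat.succ_ne_zero m
    rw [show ((m : ℚ) + 1) = ((m + 1 : ℕ) : ℚ) by push_cast; ring, div_mul_cancel₀ _ h3]
  have hZ := LD_map (algebraMap ℚ K) ((LD.exp_subst' _ hL0).congr hdL0)
  have hmapS : PowerSeries.map (algebraMap ℚ K) (PowerSeries.mk fun m => (N (m + 1) : ℚ)) =
      PowerSeries.mk fun m => (N (m + 1) : K) := by
    ext m
    rw [coeff_map, coeff_mk, coeff_mk, map_natCast]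
  rw [hmapS] at hZ
  have hE := LD.prod (Finset.range (n + 1))
    (fun i => (((φ (2 * i)).charpoly.reverse : Polynomial K) : K⟦X⟧))
    (fun i => PowerSeries.mk fun m => -(LinearMap.trace K (V (2 * i)) ((φ (2 * i)) ^ (m + 1))))
    (fun i _ => (LD_charpoly_reverse (φ (2 * i))).1)
  have hO := LD.prod (Finset.range n)
    (fun i => (((φ (2 * i + 1)).charpoly.reverse : Polynomial K) : K⟦X⟧))
    (fun i => PowerSeries.mk fun m =>
      -(LinearMap.trace K (V (2 * i + 1)) ((φ (2 * i + 1)) ^ (m + 1))))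
    (fun i _ => (LD_charpoly_reverse (φ (2 * i + 1))).1)
  have key : (PowerSeries.mk fun m => (N (m + 1) : K)) +
      ∑ i ∈ Finset.range (n + 1),
        (PowerSeries.mk fun m => -(LinearMap.trace K (V (2 * i)) ((φ (2 * i)) ^ (m + 1)))) =
      ∑ i ∈ Finset.range n, (PowerSeries.mk fun m =>
        -(LinearMap.trace K (V (2 * i + 1)) ((φ (2 * i + 1)) ^ (m + 1)))) := by
    ext m
    rw [map_add, map_sum, map_sum, coeff_mk]
    simp only [coeff_mk]
    rw [h (m + 1) (Nat.succ_le_succ (Nat.zero_le m)),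
      alt_sum (fun j => LinearMap.trace K (V j) ((φ j) ^ (m + 1))) n,
      Finset.sum_neg_distrib, Finset.sum_neg_distrib]
    ring
  refine LD.unique' ((hZ.mul hE).congr key) hO ?_
  rw [coeff_zero_eq_constantCoeff_apply, coeff_zero_eq_constantCoeff_apply, map_mul, map_prod,
    map_prod]
  have hc : ∀ j, constantCoeff (((φ j).charpoly.reverse : Polynomial K) : K⟦X⟧) = 1 := by
    intro j
    rw [← coeff_zero_eq_constantCoeff_apply]
    exact (LD_charpoly_reverse (φ j)).2
  rw [Finset.prod_congr rfl (fun i _ => hc (2 * i)), Finset.prod_congr rfl (fun i _ => hc (2 * i + 1)),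
    Finset.prod_const_one, Finset.prod_const_one, mul_one, ← coeff_zero_eq_constantCoeff_apply,
    coeff_map]
  have h0 : coeff 0 ((PowerSeries.exp ℚ).subst (PowerSeries.mk fun m : ℕ => (N m : ℚ) / m)) = 1 :=
    coeff_zero_exp_subst _ hL0
  rw [h0, map_one]

end Alg

end Groth.Agent.Lib.LeadZeta
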