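import Groth.Agent.Lib.LeadZetaA1
import Groth.Agent.Lib.Helper27LogDeriv3

/-!
# The zeta function of a base change to a finite extension (lead)
-/

set_option maxHeartbeats 400000
set_option autoImplicit false
set_option linter.style.haveILetI false
set_option linter.unusedSectionVars false

universe u

open AlgebraicGeometry CategoryTheory Limits

namespace Groth.Agent.Lib.LeadZetaBC

open Groth.Agent.Lib.LeadZeta Groth.Agent.Lib.LeadZetaFp Groth.Agent.Lib.Helper27LogDeriv
  Groth.Agent.Lib.LeadZetaA1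

section PS

open PowerSeries

lemma exp_subst_sum {K : Type*} [Field K] [CharZero K] {ι : Type*} (s : Finset ι)
    (L : ι → K⟦X⟧) (hL : ∀ i ∈ s, constantCoeff (L i) = 0) :
    (PowerSeries.exp K).subst (∑ i ∈ s, L i) = ∏ i ∈ s, (PowerSeries.exp K).subst (L i) := by
  have h0 : constantCoeff (∑ i ∈ s, L i) = 0 := by
    rw [map_sum]
    exact Finset.sum_eq_zero hL
  have h1 := LD.exp_subst' (∑ i ∈ s, L i) h0
  have h2 := LD.prod s (fun i => (PowerSeries.exp K).subst (L i)) (fun i => d⁄dX K (L i))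
    (fun i hi => LD.exp_subst' _ (hL i hi))
  have h3 : d⁄dX K (∑ i ∈ s, L i) = ∑ i ∈ s, d⁄dX K (L i) := map_sum _ _ _
  refine LD.unique' (h1.congr h3) h2 ?_
  rw [coeff_zero_exp_subst' _ h0, coeff_zero_eq_constantCoeff_apply, map_prod]
  symm
  refine Finset.prod_eq_one fun i hi => ?_
  rw [← coeff_zero_eq_constantCoeff_apply]
  exact coeff_zero_exp_subst' _ (hL i hi)

lemma geom_sum_primitiveRoot (r : ℕ) (ξ : ℂ) (hξ : IsPrimitiveRoot ξ r) (n : ℕ) :
    ∑ i ∈ Finset.range r, (ξ ^ i) ^ n = if r ∣ n then (r : ℂ) else 0 := by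
  have hcomm : ∀ i : ℕ, (ξ ^ i) ^ n = (ξ ^ n) ^ i := fun i => by
    rw [← pow_mul, ← pow_mul, mul_comm]
  rw [Finset.sum_congr rfl (fun i _ => hcomm i)]
  split_ifs with h
  · have h1 : ξ ^ n = 1 := (hξ.pow_eq_one_iff_dvd n).mpr h
    rw [h1]
    simp
  · have h1 : ξ ^ n ≠ 1 := fun h1 => h ((hξ.pow_eq_one_iff_dvd n).mp h1)
    have h2 : (ξ ^ n) ^ r = 1 := by rw [← pow_mul, mul_comm, pow_mul, hξ.pow_eq_one, one_pow]
    have h3 := geom_sum_mul (ξ ^ n) r
    rw [h2, sub_self] at h3
    exact (mul_eq_zero.mp h3).resolve_right (sub_ne_zero.mpr h1)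

lemma expLog_baseChange (r : ℕ) (hr : r ≠ 0) (ξ : ℂ) (hξ : IsPrimitiveRoot ξ r) (N N' : ℕ → ℕ)
    (h : ∀ m, N' m = N (r * m)) :
    PowerSeries.subst ((PowerSeries.X : PowerSeries ℂ) ^ r)
        (PowerSeries.map (algebraMap ℚ ℂ)
          ((PowerSeries.exp ℚ).subst (PowerSeries.mk fun m => (N' m : ℚ) / m))) =
      ∏ i ∈ Finset.range r, PowerSeries.rescale (ξ ^ i)
        (PowerSeries.map (algebraMap ℚ ℂ)
          ((PowerSeries.exp ℚ).subst (PowerSeries.mk fun m => (N m : ℚ) / m))) := by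
  have hL0 : ∀ M : ℕ → ℕ, constantCoeff (PowerSeries.mk fun m : ℕ => (M m : ℚ) / m) = 0 := by
    intro M
    rw [← coeff_zero_eq_constantCoeff_apply, coeff_mk]
    simp
  have hL0' : ∀ M : ℕ → ℕ, constantCoeff
      (PowerSeries.map (algebraMap ℚ ℂ) (PowerSeries.mk fun m : ℕ => (M m : ℚ) / m)) = 0 := by
    intro M
    rw [← coeff_zero_eq_constantCoeff_apply, coeff_map, coeff_zero_eq_constantCoeff_apply, hL0 M,
      map_zero]
  have hmapexp : ∀ M : ℕ → ℕ, PowerSeries.map (algebraMap ℚ ℂ)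
      ((PowerSeries.exp ℚ).subst (PowerSeries.mk fun m => (M m : ℚ) / m)) =
      (PowerSeries.exp ℂ).subst
        (PowerSeries.map (algebraMap ℚ ℂ) (PowerSeries.mk fun m : ℕ => (M m : ℚ) / m)) := by
    intro M
    have h1 := map_subst (HasSubst.of_constantCoeff_zero' (hL0 M)) (h := algebraMap ℚ ℂ)
      (PowerSeries.exp ℚ)
    rw [map_exp] at h1
    exact h1
  have hresc : ∀ (a : ℂ) (M : ℕ → ℕ), constantCoeff (rescale a
      (PowerSeries.map (algebraMap ℚ ℂ) (PowerSeries.mk fun m : ℕ => (M m : ℚ) / m))) = 0 := by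
    intro a M
    rw [← coeff_zero_eq_constantCoeff_apply, coeff_rescale, coeff_zero_eq_constantCoeff_apply,
      hL0' M, mul_zero]
  rw [hmapexp N', hmapexp N,
    subst_comp_subst_apply (HasSubst.of_constantCoeff_zero' (hL0' N')) (HasSubst.X_pow hr)]
  have hfac : ∀ i ∈ Finset.range r, rescale (ξ ^ i) ((PowerSeries.exp ℂ).subst
      (PowerSeries.map (algebraMap ℚ ℂ) (PowerSeries.mk fun m : ℕ => (N m : ℚ) / m))) =
      (PowerSeries.exp ℂ).subst (rescale (ξ ^ i)
        (PowerSeries.map (algebraMap ℚ ℂ) (PowerSeries.mk fun m : ℕ => (N m : ℚ) / m))) := by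
    intro i _
    rw [rescale_eq_subst, subst_comp_subst_apply (HasSubst.of_constantCoeff_zero' (hL0' N))
      (HasSubst.smul_X' _), ← rescale_eq_subst]
  rw [Finset.prod_congr rfl hfac, ← exp_subst_sum _ _ (fun i _ => hresc _ N)]
  congr 1
  ext n
  rw [coeff_subst_X_pow hr, map_sum]
  simp only [coeff_rescale, coeff_map, coeff_mk]
  rw [← Finset.sum_mul, geom_sum_primitiveRoot r ξ hξ n]
  split_ifs with hd
  · obtain ⟨m, rfl⟩ := hd
    rw [Nat.mul_div_cancel_left m (Nat.pos_of_ne_zero hr), h m]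
    by_cases hm : m = 0
    · subst hm
      simp
    · have hr' : (r : ℂ) ≠ 0 := Nat.cast_ne_zero.mpr hr
      have hm' : (m : ℂ) ≠ 0 := Nat.cast_ne_zero.mpr hm
      simp only [Algebra.algebraMap_self, RingHom.id_apply, map_div₀, map_natCast, Nat.cast_mul,
        map_mul]
      field_simp
  · rw [zero_mul]

end PS

section BC

variable {k : Type u} [Field k] [Finite k] {X : Scheme.{u}}
  (f : X ⟶ Spec (CommRingCat.of k))
  (k' : Type u) [Field k'] [Algebra k k'] (K : Type u) [Field K] [Algebra k' K] [Algebra k K]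
  [IsScalarTower k k' K]

/-- points of the base change -/
noncomputable def pointsEquiv :
    {t : Spec (CommRingCat.of K) ⟶ pullback f (Spec.map (CommRingCat.ofHom (algebraMap k k'))) //
        t ≫ pullback.snd f (Spec.map (CommRingCat.ofHom (algebraMap k k'))) =
          Spec.map (CommRingCat.ofHom (algebraMap k' K))} ≃
      {s : Spec (CommRingCat.of K) ⟶ X //
        s ≫ f = Spec.map (CommRingCat.ofHom (algebraMap k K))} where
  toFun t := ⟨t.1 ≫ pullback.fst f _, by
    rw [Category.assoc, pullback.condition, ← Category.assoc, t.2, ← Spec.map_comp,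
      ← CommRingCat.ofHom_comp, ← IsScalarTower.algebraMap_eq]⟩
  invFun s := ⟨pullback.lift s.1 (Spec.map (CommRingCat.ofHom (algebraMap k' K))) (by
    rw [s.2, ← Spec.map_comp, ← CommRingCat.ofHom_comp, ← IsScalarTower.algebraMap_eq]),
    pullback.lift_snd _ _ _⟩
  left_inv t := by
    apply Subtype.ext
    apply pullback.hom_ext
    · exact pullback.lift_fst _ _ _
    · exact (pullback.lift_snd _ _ _).trans t.2.symm
  right_inv s := Subtype.ext (pullback.lift_fst _ _ _)

end BC

section Main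

variable {k : Type u} [Field k] [Finite k] {X : Scheme.{u}}
  (f : X ⟶ Spec (CommRingCat.of k)) [LocallyOfFiniteType f] [QuasiCompact f]
  (k' : Type u) [Field k'] [Algebra k k'] [Finite k']

lemma nPts_baseChange (m : ℕ) :
    Zeta.nPts (pullback.snd f (Spec.map (CommRingCat.ofHom (algebraMap k k')))) m =
      Zeta.nPts f (Module.finrank k k' * m) := by
  by_cases hm : m = 0
  · subst hm
    unfold Zeta.nPts
    simp
  · obtain ⟨K, _, _, _, hK⟩ := exists_ext k' m hm
    letI : Algebra k K := ((algebraMap k' K).comp (algebraMap k k')).toAlgebra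
    haveI : IsScalarTower k k' K := IsScalarTower.of_algebraMap_eq (fun _ => rfl)
    have h1 := natCard_points k' K (pullback.snd f (Spec.map (CommRingCat.ofHom (algebraMap k k'))))
    have h2 := natCard_points k K f
    rw [hK] at h1
    rw [← Module.finrank_mul_finrank k k' K, hK] at h2
    rw [← h1, ← h2]
    exact Nat.card_congr (pointsEquiv f k' K)

theorem zetaFun_baseChange (ξ : ℂ) (hξ : IsPrimitiveRoot ξ (Module.finrank k k')) :
    PowerSeries.subst ((PowerSeries.X : PowerSeries ℂ) ^ Module.finrank k k')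
        (PowerSeries.map (algebraMap ℚ ℂ) (Zeta.zetaFun
          (pullback.snd f (Spec.map (CommRingCat.ofHom (algebraMap k k')))))) =
      ∏ i ∈ Finset.range (Module.finrank k k'),
        PowerSeries.rescale (ξ ^ i) (PowerSeries.map (algebraMap ℚ ℂ) (Zeta.zetaFun f)) :=
  expLog_baseChange (Module.finrank k k') (finrank_ne_zero k k') ξ hξ (Zeta.nPts f)
    (Zeta.nPts (pullback.snd f (Spec.map (CommRingCat.ofHom (algebraMap k k')))))
    (nPts_baseChange f k')

end Main

end Groth.Agent.Lib.LeadZetaBC
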