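import Mathlib
import Groth.Agent.Lib.LeadWeilFrobA
import Groth.Agent.Lib.Helper4IrrFib
import Groth.Prelude.Def_WeilCoh

/-!
# Fixed points of Frobenius on `X ×_{k₀} k`: scheme-level lemmas (lead)

Sections vanishing on the diagonal, the ideal of the scheme-theoretic intersection of the graph of
`Φ = Frob × id` with the diagonal, and the fact that this ideal is the maximal ideal at every point
of the intersection (multiplicity one).
-/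

set_option maxHeartbeats 400000
set_option autoImplicit false
set_option linter.style.haveILetI false
set_option linter.unusedSectionVars false

universe u v

open AlgebraicGeometry CategoryTheory Limits TopologicalSpace

namespace Groth.Agent.Lib.LeadZeta

open Groth.Agent.Lib.Helper4.VarDim Groth.Agent.Lib.LeadWeilFrob

section Plain

variable {X Y Z : Scheme.{u}}

lemma id_appLE_apply (U : X.Opens) (e : U ≤ (𝟙 X : X ⟶ X) ⁻¹ᵁ U) (s : Γ(X, U)) :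
    ((𝟙 X : X ⟶ X).appLE U U e).hom s = s := by
  have h : (𝟙 X : X ⟶ X).appLE U U e = 𝟙 _ := by
    simp only [Scheme.Hom.appLE, Scheme.Hom.id_app]
    exact (Category.id_comp _).trans (X.presheaf.map_id _)
  rw [h]
  rfl

lemma appLE_appLE_apply (f : X ⟶ Y) (g : Y ⟶ Z) (U : Z.Opens) (V : Y.Opens) (W : X.Opens)
    (e₁ : V ≤ g ⁻¹ᵁ U) (e₂ : W ≤ f ⁻¹ᵁ V) (h : X ⟶ Z) (hh : f ≫ g = h) (e₃ : W ≤ h ⁻¹ᵁ U)
    (s : Γ(Z, U)) :
    (f.appLE V W e₂).hom ((g.appLE U V e₁).hom s) = (h.appLE U W e₃).hom s := by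
  subst hh
  exact congrArg (fun φ => φ.hom s) (Scheme.Hom.appLE_comp_appLE f g U V W e₁ e₂)

lemma apply_of_comp_eq_id (f : X ⟶ Y) (g : Y ⟶ X) (h : f ≫ g = 𝟙 X) (x : X) : g (f x) = x := by
  have h1 : (f ≫ g) x = (𝟙 X : X ⟶ X) x := by rw [h]
  rw [Scheme.Hom.comp_apply] at h1
  exact h1

lemma apply_of_comp_eq (f : X ⟶ Y) (g : Y ⟶ Z) (h : X ⟶ Z) (hh : f ≫ g = h) (x : X) :
    g (f x) = h x := by
  subst hh
  exact (Scheme.Hom.comp_apply f g x).symm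

lemma stalkMap_germ_appLE (f : X ⟶ Y) (U : Y.Opens) (V : X.Opens) (e : V ≤ f ⁻¹ᵁ U) (x : X)
    (hx : x ∈ V) (s : Γ(Y, U)) :
    (f.stalkMap x).hom ((Y.presheaf.germ U (f x) (e hx)).hom s) =
      (X.presheaf.germ V x hx).hom ((f.appLE U V e).hom s) := by
  have h1 : (f.stalkMap x).hom ((Y.presheaf.germ U (f x) (e hx)).hom s) =
      (X.presheaf.germ (f ⁻¹ᵁ U) x (e hx)).hom ((f.app U).hom s) :=
    Scheme.Hom.germ_stalkMap_apply f U x (e hx) s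
  rw [h1]
  exact (X.presheaf.germ_res_apply (homOfLE e) x hx ((f.app U).hom s)).symm

lemma germ_mem_ker_specMap (W : Y.Opens) (z ξ : Y) (hz : z ∈ W) (h : ξ ⤳ z) (σ : Γ(Y, W))
    (hσ : (Y.evaluation W ξ (h.mem_open W.isOpen hz)).hom σ = 0) :
    (Y.presheaf.germ W z hz).hom σ ∈ RingHom.ker (Cyc.specMap z ξ h) := by
  rw [RingHom.mem_ker]
  have h1 : (Y.presheaf.stalkSpecializes h).hom ((Y.presheaf.germ W z hz).hom σ) =
      (Y.presheaf.germ W ξ (h.mem_open W.isOpen hz)).hom σ :=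
    congrArg (fun φ => φ.hom σ) (TopCat.Presheaf.germ_stalkSpecializes Y.presheaf hz h)
  change (Y.residue ξ).hom ((Y.presheaf.stalkSpecializes h).hom
    ((Y.presheaf.germ W z hz).hom σ)) = 0
  rw [h1]
  exact hσ

lemma map_ker_specMap_le (f : X ⟶ Y) (w : X) (ξ : Y) (h : ξ ⤳ f w) :
    Ideal.map (f.stalkMap w).hom (RingHom.ker (Cyc.specMap (f w) ξ h)) ≤
      IsLocalRing.maximalIdeal (X.presheaf.stalk w) := by
  have hJ' : RingHom.ker (Cyc.specMap (f w) ξ h) ≤ IsLocalRing.maximalIdeal _ :=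
    IsLocalRing.le_maximalIdeal (RingHom.ker_ne_top _)
  have hloc : IsLocalHom (f.stalkMap w).hom := inferInstance
  have h2 : Ideal.map (f.stalkMap w).hom (IsLocalRing.maximalIdeal _) ≤
      IsLocalRing.maximalIdeal _ :=
    ((IsLocalRing.local_hom_TFAE (f.stalkMap w).hom).out 0 2).mp hloc
  exact (Ideal.map_mono hJ').trans h2

lemma length_quot_eq_one_of_eq_maximalIdeal (O : Type*) [CommRing O] [IsLocalRing O] (I : Ideal O)
    (hI : I = IsLocalRing.maximalIdeal O) : Module.length O (O ⧸ I) = 1 := by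
  subst hI
  rw [Module.length_eq_one_iff, isSimpleModule_iff_isCoatom]
  exact Ideal.isMaximal_def.mp (IsLocalRing.maximalIdeal.isMaximal O)

lemma preimMult_eq_one_of_eq (f : X ⟶ Y) (ξ : Y) (w : X) (h : f w ∈ closure ({ξ} : Set Y))
    (hI : Ideal.map (f.stalkMap w).hom
      (RingHom.ker (Cyc.specMap (f w) ξ (specializes_iff_mem_closure.mpr h))) =
        IsLocalRing.maximalIdeal (X.presheaf.stalk w)) :
    WeilCoh.preimMult f ξ w h = 1 := by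
  unfold WeilCoh.preimMult
  rw [length_quot_eq_one_of_eq_maximalIdeal _ _ hI]
  rfl

lemma finite_of_forall_isClosed_singleton {α : Type*} [TopologicalSpace α] [NoetherianSpace α]
    [QuasiSober α] (S : Set α) (hS : IsClosed S) (h : ∀ x ∈ S, IsClosed ({x} : Set α)) :
    S.Finite := by
  obtain ⟨𝒮, hfin, hcl, hirr, rfl⟩ := NoetherianSpace.exists_finite_set_isClosed_irreducible hS
  apply Set.Finite.sUnion hfin
  intro t ht
  obtain ⟨x, hx⟩ := QuasiSober.sober (hirr t ht) (hcl t ht)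
  have hxt : x ∈ t := hx.mem
  have h1 : closure ({x} : Set α) = {x} := (h x ⟨t, ht, hxt⟩).closure_eq
  rw [← hx.def, h1]
  exact Set.finite_singleton x

/-- A `k`-point of a `k`-scheme whose image point is fixed by a `k`-endomorphism is fixed. -/
lemma comp_eq_self_of_apply_eq {k : Type u} [Field k] [IsAlgClosed k]
    (g : Y ⟶ Spec (CommRingCat.of k)) [LocallyOfFiniteType g] (Φ : Y ⟶ Y) (hΦg : Φ ≫ g = g)
    (s : Spec (CommRingCat.of k) ⟶ Y) (hs : s ≫ g = 𝟙 _)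
    (h : Φ (s (IsLocalRing.closedPoint k)) = s (IsLocalRing.closedPoint k)) : s ≫ Φ = s := by
  apply ext_of_apply_closedPoint_eq g
  · rw [Category.assoc, hΦg, hs]
  · exact hs
  · exact h

end Plain

section Sigma

variable {Y P : Scheme.{u}} (pp qq : P ⟶ Y) (jj dd : Y ⟶ P) (Φ : Y ⟶ Y)
  (hjp : jj ≫ pp = 𝟙 Y) (hjq : jj ≫ qq = Φ) (hdp : dd ≫ pp = 𝟙 Y) (hdq : dd ≫ qq = 𝟙 Y)

/-- the section `q^* b - p^* b` on `p⁻¹V ∩ q⁻¹V`, vanishing on the diagonal -/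
noncomputable def sig (V : Y.Opens) (b : Γ(Y, V)) : Γ(P, pp ⁻¹ᵁ V ⊓ qq ⁻¹ᵁ V) :=
  (qq.appLE V (pp ⁻¹ᵁ V ⊓ qq ⁻¹ᵁ V) inf_le_right).hom b -
    (pp.appLE V (pp ⁻¹ᵁ V ⊓ qq ⁻¹ᵁ V) inf_le_left).hom b

include hdp hdq in
lemma le_preimage_diag (V : Y.Opens) : V ≤ dd ⁻¹ᵁ (pp ⁻¹ᵁ V ⊓ qq ⁻¹ᵁ V) := by
  intro y hy
  have h1 : pp (dd y) = y := apply_of_comp_eq_id dd pp hdp y
  have h2 : qq (dd y) = y := apply_of_comp_eq_id dd qq hdq y
  refine ⟨?_, ?_⟩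
  · change pp (dd y) ∈ V; rw [h1]; exact hy
  · change qq (dd y) ∈ V; rw [h2]; exact hy

include hjp hjq in
lemma le_preimage_graph (V : Y.Opens) (hV : V ≤ Φ ⁻¹ᵁ V) :
    V ≤ jj ⁻¹ᵁ (pp ⁻¹ᵁ V ⊓ qq ⁻¹ᵁ V) := by
  intro y hy
  have h1 : pp (jj y) = y := apply_of_comp_eq_id jj pp hjp y
  have h2 : qq (jj y) = Φ y := apply_of_comp_eq jj qq Φ hjq y
  refine ⟨?_, ?_⟩
  · change pp (jj y) ∈ V; rw [h1]; exact hy
  · change qq (jj y) ∈ V; rw [h2]; exact hV hy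

include hdp hdq in
lemma diag_sig (V : Y.Opens) (b : Γ(Y, V)) :
    (dd.appLE (pp ⁻¹ᵁ V ⊓ qq ⁻¹ᵁ V) V (le_preimage_diag pp qq dd hdp hdq V)).hom
      (sig pp qq V b) = 0 := by
  have e₃ : V ≤ (𝟙 Y : Y ⟶ Y) ⁻¹ᵁ V := fun _ h => h
  have h1 := appLE_appLE_apply dd qq V (pp ⁻¹ᵁ V ⊓ qq ⁻¹ᵁ V) V inf_le_right
    (le_preimage_diag pp qq dd hdp hdq V) (𝟙 Y) hdq e₃ b
  have h2 := appLE_appLE_apply dd pp V (pp ⁻¹ᵁ V ⊓ qq ⁻¹ᵁ V) V inf_le_left
    (le_preimage_diag pp qq dd hdp hdq V) (𝟙 Y) hdp e₃ b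
  unfold sig
  rw [map_sub, h1, h2, sub_self]

include hjp hjq in
lemma graph_sig (V : Y.Opens) (hV : V ≤ Φ ⁻¹ᵁ V) (b : Γ(Y, V)) :
    (jj.appLE (pp ⁻¹ᵁ V ⊓ qq ⁻¹ᵁ V) V (le_preimage_graph pp qq jj Φ hjp hjq V hV)).hom
      (sig pp qq V b) = (Φ.appLE V V hV).hom b - b := by
  have e₃ : V ≤ (𝟙 Y : Y ⟶ Y) ⁻¹ᵁ V := fun _ h => h
  have h1 := appLE_appLE_apply jj qq V (pp ⁻¹ᵁ V ⊓ qq ⁻¹ᵁ V) V inf_le_right
    (le_preimage_graph pp qq jj Φ hjp hjq V hV) Φ hjq hV b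
  have h2 := appLE_appLE_apply jj pp V (pp ⁻¹ᵁ V ⊓ qq ⁻¹ᵁ V) V inf_le_left
    (le_preimage_graph pp qq jj Φ hjp hjq V hV) (𝟙 Y) hjp e₃ b
  unfold sig
  rw [map_sub, h1, h2, id_appLE_apply]

include hjp hjq hdp hdq in
/-- For `b` a section over a `Φ`-stable open `V`, the germ of `Φ^* b - b` at a point `w` with
`j w` in the closure of `d η` lies in the ideal of `j⁻¹(closure (d η))` at `w`. -/
lemma germ_sub_mem (V : Y.Opens) (hV : V ≤ Φ ⁻¹ᵁ V) (b : Γ(Y, V)) (w η : Y) (hw : w ∈ V)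
    (hη : η ∈ V) (h : dd η ⤳ jj w) :
    (Y.presheaf.germ V w hw).hom ((Φ.appLE V V hV).hom b - b) ∈
      Ideal.map (jj.stalkMap w).hom (RingHom.ker (Cyc.specMap (jj w) (dd η) h)) := by
  have hdW := le_preimage_diag pp qq dd hdp hdq V
  have hjW := le_preimage_graph pp qq jj Φ hjp hjq V hV
  have hev : (P.evaluation (pp ⁻¹ᵁ V ⊓ qq ⁻¹ᵁ V) (dd η) (hdW hη)).hom (sig pp qq V b) = 0 := by
    have h1 := evaluation_appLE dd (pp ⁻¹ᵁ V ⊓ qq ⁻¹ᵁ V) V hdW η hη (sig pp qq V b)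
    rw [diag_sig pp qq dd hdp hdq V b, map_zero] at h1
    exact (map_eq_zero _).mp h1.symm
  have hker := germ_mem_ker_specMap (pp ⁻¹ᵁ V ⊓ qq ⁻¹ᵁ V) (jj w) (dd η) (hjW hw) h
    (sig pp qq V b) hev
  have hmap := Ideal.mem_map_of_mem (jj.stalkMap w).hom hker
  rw [stalkMap_germ_appLE jj (pp ⁻¹ᵁ V ⊓ qq ⁻¹ᵁ V) V hjW w hw (sig pp qq V b),
    graph_sig pp qq jj Φ hjp hjq V hV b] at hmap
  exact hmap

end Sigma

section Frob

variable (k₀ : Type u) [Field k₀] (k : Type u) [Field k] [IsAlgClosed k] [Algebra k₀ k]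
  {X Y : Scheme.{u}} (f : X ⟶ Spec (CommRingCat.of k₀)) [Y.Over (Spec (CommRingCat.of k))]
  [LocallyOfFiniteType (Y ↘ Spec (CommRingCat.of k))]
  (π : Y ⟶ X)
  (hπ : IsPullback π (Y ↘ Spec (CommRingCat.of k)) f
    (Spec.map (CommRingCat.ofHom (algebraMap k₀ k))))
  (Q : ℕ) (hQ2 : 2 ≤ Q) (hQk : (Q : k) = 0)
  (FX : X ⟶ X) (hFb : FX.base = 𝟙 _) (hle : ∀ U : X.Opens, U ≤ FX ⁻¹ᵁ U)
  (hFapp : ∀ (U : X.Opens) (s : Γ(X, U)), (FX.appLE U U (hle U)).hom s = s ^ Q)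
  (Φ : Y ⟶ Y)
  (hΦπ : Φ ≫ π = π ≫ FX)

attribute [local instance] sectionsAlgebra Curv2.resAlgebra

include hπ hFb hFapp hΦπ hQ2 in
/-- If `Φ^* b` and `b` take the same value at `w` for all sections `b`, then `κ(w)` is algebraic
over `k`. -/
lemma isAlgebraic_of_eval_eq (U₀ : X.Opens) (hU₀ : IsAffineOpen U₀) (w : Y) (hw : w ∈ π ⁻¹ᵁ U₀)
    (Hev : ∀ b : Γ(Y, π ⁻¹ᵁ U₀),
      (Y.evaluation (π ⁻¹ᵁ U₀) w hw).hom
        ((Φ.appLE (π ⁻¹ᵁ U₀) (π ⁻¹ᵁ U₀) (preimage_le_frob π FX hFb Φ hΦπ U₀)).hom b) =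
      (Y.evaluation (π ⁻¹ᵁ U₀) w hw).hom b) :
    Algebra.IsAlgebraic k (Y.residueField w) := by
  have hS : ∀ v ∈ Set.range (fun a : Γ(X, U₀) =>
      (Y.evaluation (π ⁻¹ᵁ U₀) w hw).hom ((π.appLE U₀ (π ⁻¹ᵁ U₀) le_rfl).hom a)),
      IsIntegral k v := by
    rintro _ ⟨a, rfl⟩
    have h1 := Hev ((π.appLE U₀ (π ⁻¹ᵁ U₀) le_rfl).hom a)
    rw [frob_app_fst π Q FX hFb hle hFapp Φ hΦπ U₀ a, map_pow] at h1
    refine ⟨Polynomial.X ^ Q - Polynomial.X, Polynomial.monic_X_pow_sub ?_, ?_⟩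
    · rw [Polynomial.degree_X]
      exact_mod_cast (show 1 < Q from hQ2)
    · rw [Polynomial.eval₂_sub, Polynomial.eval₂_pow, Polynomial.eval₂_X]
      exact sub_eq_zero.mpr h1
  have halg := IntermediateField.isAlgebraic_adjoin (K := k) hS
  have hadj := residueField_eq_adjoin k₀ k f π hπ U₀ hU₀ w hw
  refine ⟨fun z => ?_⟩
  have hz : z ∈ IntermediateField.adjoin k (Set.range (fun a : Γ(X, U₀) =>
      (Y.evaluation (π ⁻¹ᵁ U₀) w hw).hom ((π.appLE U₀ (π ⁻¹ᵁ U₀) le_rfl).hom a))) := by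
    rw [hadj]; exact IntermediateField.mem_top
  exact IntermediateField.isAlgebraic_iff.mp (halg.isAlgebraic ⟨z, hz⟩)

omit [IsAlgClosed k] in
lemma isClosed_of_isAlgebraic (w : Y) (h : Algebra.IsAlgebraic k (Y.residueField w)) :
    IsClosed ({w} : Set Y) := by
  apply Groth.Agent.Lib.Helper4.IrrFib.isClosed_singleton_of_trdegNat_eq_zero k Y w
  apply trdegNat_eq_of_trdeg_eq k Y w 0
  rw [Nat.cast_zero]
  exact trdeg_eq_zero

lemma bijective_of_isAlgebraic (w : Y) (h : Algebra.IsAlgebraic k (Y.residueField w)) :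
    Function.Bijective (algebraMap k (Y.residueField w)) := by
  haveI : Algebra.IsIntegral k (Y.residueField w) := Algebra.IsAlgebraic.isIntegral
  exact IsAlgClosed.algebraMap_bijective_of_isIntegral

include hπ hFb hFapp hΦπ hQk in
/-- The multiplicity-one core: an ideal `I` of the local ring at `w`, contained in the maximal
ideal and containing the germs of all `Φ^* b - b`, is the maximal ideal. -/
lemma maximalIdeal_le_of_germ_sub_mem (U₀ : X.Opens) (hU₀ : IsAffineOpen U₀) (w : Y)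
    (hw : w ∈ π ⁻¹ᵁ U₀) (I : Ideal (Y.presheaf.stalk w))
    (hI : I ≤ IsLocalRing.maximalIdeal (Y.presheaf.stalk w))
    (Hmem : ∀ b : Γ(Y, π ⁻¹ᵁ U₀), (Y.presheaf.germ (π ⁻¹ᵁ U₀) w hw).hom
      ((Φ.appLE (π ⁻¹ᵁ U₀) (π ⁻¹ᵁ U₀) (preimage_le_frob π FX hFb Φ hΦπ U₀)).hom b - b) ∈ I)
    (Hbij : Function.Bijective (algebraMap k (Y.residueField w))) :
    IsLocalRing.maximalIdeal (Y.presheaf.stalk w) ≤ I := by
  haveI := isAffineHom_fst k₀ k f π hπ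
  have hV : IsAffineOpen (π ⁻¹ᵁ U₀) := hU₀.preimage π
  let g : Γ(Y, π ⁻¹ᵁ U₀) →+* Y.presheaf.stalk w := (Y.presheaf.germ (π ⁻¹ᵁ U₀) w hw).hom
  let ev : Γ(Y, π ⁻¹ᵁ U₀) →ₐ[k] Y.residueField w := evₐ k Y w hw
  let J : Ideal Γ(Y, π ⁻¹ᵁ U₀) := Ideal.comap g I
  have hJev : ∀ y ∈ J, ev y = 0 := by
    intro y hy
    have h1 : g y ∈ IsLocalRing.maximalIdeal _ := hI hy
    exact (IsLocalRing.residue_eq_zero_iff _).mpr h1
  -- the subring of sections congruent to a constant modulo `J`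
  let R : Subring Γ(Y, π ⁻¹ᵁ U₀) :=
    { carrier := {b | ∃ c : k, b - algebraMap k Γ(Y, π ⁻¹ᵁ U₀) c ∈ J}
      mul_mem' := by
        rintro b b' ⟨c, hc⟩ ⟨c', hc'⟩
        refine ⟨c * c', ?_⟩
        have e : b * b' - algebraMap k Γ(Y, π ⁻¹ᵁ U₀) (c * c') =
            b * (b' - algebraMap k Γ(Y, π ⁻¹ᵁ U₀) c') +
              algebraMap k Γ(Y, π ⁻¹ᵁ U₀) c' * (b - algebraMap k Γ(Y, π ⁻¹ᵁ U₀) c) := by
          rw [map_mul]; ring
        rw [e]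
        exact J.add_mem (J.mul_mem_left _ hc') (J.mul_mem_left _ hc)
      one_mem' := ⟨1, by rw [map_one, sub_self]; exact J.zero_mem⟩
      add_mem' := by
        rintro b b' ⟨c, hc⟩ ⟨c', hc'⟩
        refine ⟨c + c', ?_⟩
        have e : b + b' - algebraMap k Γ(Y, π ⁻¹ᵁ U₀) (c + c') =
            (b - algebraMap k Γ(Y, π ⁻¹ᵁ U₀) c) + (b' - algebraMap k Γ(Y, π ⁻¹ᵁ U₀) c') := by
          rw [map_add]; ring
        rw [e]
        exact J.add_mem hc hc'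
      zero_mem' := ⟨0, by rw [map_zero, sub_self]; exact J.zero_mem⟩
      neg_mem' := by
        rintro b ⟨c, hc⟩
        refine ⟨-c, ?_⟩
        have e : -b - algebraMap k Γ(Y, π ⁻¹ᵁ U₀) (-c) =
            -(b - algebraMap k Γ(Y, π ⁻¹ᵁ U₀) c) := by
          rw [map_neg]; ring
        rw [e]
        exact J.neg_mem hc }
  have hR : R = ⊤ := by
    apply sections_induction k₀ k f π hπ U₀ hU₀ R
    · intro a
      obtain ⟨α, hα⟩ := Hbij.2 (ev ((π.appLE U₀ (π ⁻¹ᵁ U₀) le_rfl).hom a))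
      have hxQ : ((π.appLE U₀ (π ⁻¹ᵁ U₀) le_rfl).hom a) ^ Q -
          (π.appLE U₀ (π ⁻¹ᵁ U₀) le_rfl).hom a ∈ J := by
        have h1 := Hmem ((π.appLE U₀ (π ⁻¹ᵁ U₀) le_rfl).hom a)
        rw [frob_app_fst π Q FX hFb hle hFapp Φ hΦπ U₀ a] at h1
        exact h1
      have hvQ : ev ((π.appLE U₀ (π ⁻¹ᵁ U₀) le_rfl).hom a) ^ Q =
          ev ((π.appLE U₀ (π ⁻¹ᵁ U₀) le_rfl).hom a) := by
        have h1 := hJev _ hxQ
        rw [map_sub, map_pow, sub_eq_zero] at h1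
        exact h1
      have hαQ : α ^ Q = α := by
        apply Hbij.1
        rw [map_pow, hα, hvQ]
      have hcQ : (algebraMap k Γ(Y, π ⁻¹ᵁ U₀) α) ^ Q = algebraMap k Γ(Y, π ⁻¹ᵁ U₀) α := by
        rw [← map_pow, hαQ]
      have hevc : ev (algebraMap k Γ(Y, π ⁻¹ᵁ U₀) α) =
          ev ((π.appLE U₀ (π ⁻¹ᵁ U₀) le_rfl).hom a) := (ev.commutes α).trans hα
      have hgeom := geom_sum₂_mul ((π.appLE U₀ (π ⁻¹ᵁ U₀) le_rfl).hom a)
        (algebraMap k Γ(Y, π ⁻¹ᵁ U₀) α) Q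
      have hprod : ((∑ i ∈ Finset.range Q, ((π.appLE U₀ (π ⁻¹ᵁ U₀) le_rfl).hom a) ^ i *
          (algebraMap k Γ(Y, π ⁻¹ᵁ U₀) α) ^ (Q - 1 - i)) - 1) *
          ((π.appLE U₀ (π ⁻¹ᵁ U₀) le_rfl).hom a - algebraMap k Γ(Y, π ⁻¹ᵁ U₀) α) =
          ((π.appLE U₀ (π ⁻¹ᵁ U₀) le_rfl).hom a) ^ Q - (π.appLE U₀ (π ⁻¹ᵁ U₀) le_rfl).hom a := by
        rw [sub_mul, hgeom, hcQ, one_mul]; ring
      have hevg : ev (∑ i ∈ Finset.range Q, ((π.appLE U₀ (π ⁻¹ᵁ U₀) le_rfl).hom a) ^ i *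
          (algebraMap k Γ(Y, π ⁻¹ᵁ U₀) α) ^ (Q - 1 - i)) = 0 := by
        rw [map_sum]
        have hterm : ∀ i ∈ Finset.range Q, ev (((π.appLE U₀ (π ⁻¹ᵁ U₀) le_rfl).hom a) ^ i *
            (algebraMap k Γ(Y, π ⁻¹ᵁ U₀) α) ^ (Q - 1 - i)) =
            ev ((π.appLE U₀ (π ⁻¹ᵁ U₀) le_rfl).hom a) ^ (Q - 1) := by
          intro i hi
          have hi' : i + (Q - 1 - i) = Q - 1 := by
            have := Finset.mem_range.mp hi; omega
          rw [map_mul, map_pow, map_pow, hevc, ← pow_add, hi']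
        rw [Finset.sum_congr rfl hterm, Finset.sum_const, Finset.card_range, nsmul_eq_mul]
        have hQ0 : (Q : Y.residueField w) = 0 := by
          rw [← map_natCast (algebraMap k (Y.residueField w)) Q, hQk, map_zero]
        rw [hQ0, zero_mul]
      have hunit : IsUnit (g ((∑ i ∈ Finset.range Q, ((π.appLE U₀ (π ⁻¹ᵁ U₀) le_rfl).hom a) ^ i *
          (algebraMap k Γ(Y, π ⁻¹ᵁ U₀) α) ^ (Q - 1 - i)) - 1)) := by
        apply IsLocalRing.notMem_maximalIdeal.mp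
        intro hmem
        have h0 : ev ((∑ i ∈ Finset.range Q, ((π.appLE U₀ (π ⁻¹ᵁ U₀) le_rfl).hom a) ^ i *
            (algebraMap k Γ(Y, π ⁻¹ᵁ U₀) α) ^ (Q - 1 - i)) - 1) = 0 :=
          (IsLocalRing.residue_eq_zero_iff _).mpr hmem
        rw [map_sub, hevg, map_one, zero_sub] at h0
        exact one_ne_zero (neg_eq_zero.mp h0)
      have hmem : g ((π.appLE U₀ (π ⁻¹ᵁ U₀) le_rfl).hom a - algebraMap k Γ(Y, π ⁻¹ᵁ U₀) α) ∈ I := by
        have h1 : g (((∑ i ∈ Finset.range Q, ((π.appLE U₀ (π ⁻¹ᵁ U₀) le_rfl).hom a) ^ i *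
          (algebraMap k Γ(Y, π ⁻¹ᵁ U₀) α) ^ (Q - 1 - i)) - 1) *
          ((π.appLE U₀ (π ⁻¹ᵁ U₀) le_rfl).hom a - algebraMap k Γ(Y, π ⁻¹ᵁ U₀) α)) ∈ I := by
          rw [hprod]; exact hxQ
        rw [map_mul] at h1
        exact (Ideal.unit_mul_mem_iff_mem I hunit).mp h1
      exact ⟨α, hmem⟩
    · intro d
      exact ⟨d, by rw [sub_self]; exact J.zero_mem⟩
  letI := TopCat.Presheaf.algebra_section_stalk Y.presheaf ⟨w, hw⟩
  haveI := hV.isLocalization_stalk ⟨w, hw⟩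
  have hmax := IsLocalization.AtPrime.map_eq_maximalIdeal (hV.primeIdealOf ⟨w, hw⟩).asIdeal
    (Y.presheaf.stalk w)
  rw [← hmax, Ideal.map_le_iff_le_comap]
  intro b hb
  change b ∈ J
  have hb0 : ev b = 0 := (mem_primeIdealOf_iff hV w hw b).mp hb
  have hbR : b ∈ R := by rw [hR]; trivial
  obtain ⟨c, hc⟩ := hbR
  have h1 := hJev _ hc
  rw [map_sub, hb0, zero_sub, neg_eq_zero] at h1
  have h2 : algebraMap k (Y.residueField w) c = 0 := (ev.commutes c).symm.trans h1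
  have hc0 : c = 0 := (map_eq_zero _).mp h2
  rw [hc0, map_zero, sub_zero] at hc
  exact hc

end Frob

end Groth.Agent.Lib.LeadZeta
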