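import Mathlib
import Groth.Agent.Lib.LeadZetaGeomA
import Groth.Agent.Lib.Helper10GaloisOrbit
import Groth.Agent.Lib.Helper10WeilZero
import Groth.Agent.Lib.Helper4VarDim12
import Groth.Prelude.Def_W4c1zetahwZeta

/-!
# Counting the Frobenius-fixed geometric points of a scheme of finite type over a finite field
(lead)

`#{t : Spec k ⟶ X over k₀ | t ≫ Frob_Q = t} = ∑_{e ∣ m} e · #{closed points of degree e}` for
`Q = q ^ m`, and the transfer to closed fixed points of `X ×_{k₀} k`.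
-/

set_option maxHeartbeats 400000
set_option autoImplicit false
set_option linter.style.haveILetI false
set_option linter.unusedSectionVars false

universe u v

open AlgebraicGeometry CategoryTheory Limits

namespace Groth.Agent.Lib.LeadZeta

open Groth.Agent.Lib.Helper4.VarDim Groth.Agent.Lib.LeadWeilFrob
  Groth.Agent.Lib.Helper10.GaloisOrbit Groth.Agent.Lib.Helper10.WeilPt

section Field

lemma finite_of_forall_pow_eq {L : Type*} [Field L] (Q : ℕ) (hQ : 1 < Q)
    (h : ∀ v : L, v ^ Q = v) : Finite L := by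
  have hP : (Polynomial.X ^ Q - Polynomial.X : Polynomial L) ≠ 0 :=
    FiniteField.X_pow_card_sub_X_ne_zero L hQ
  have hsub : (Set.univ : Set L) ⊆ (Polynomial.X ^ Q - Polynomial.X : Polynomial L).rootSet L := by
    intro v _
    rw [Polynomial.mem_rootSet]
    refine ⟨hP, ?_⟩
    simp [h v]
  exact Set.finite_univ_iff.mp ((Polynomial.rootSet_finite _ L).subset hsub)

variable (k₀ L k : Type*) [Field k₀] [Finite k₀] [Field L] [Algebra k₀ L] [Field k] [Algebra k₀ k]

lemma finrank_dvd_of_forall_pow_eq [Finite L] (m : ℕ)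
    (h : ∀ v : L, v ^ (Nat.card k₀ ^ m) = v) : Module.finrank k₀ L ∣ m := by
  haveI := Fintype.ofFinite k₀
  rw [← FiniteField.orderOf_frobeniusAlgHom k₀ L]
  apply orderOf_dvd_of_pow_eq_one
  apply AlgHom.ext
  intro v
  rw [AlgHom.coe_pow, FiniteField.coe_frobeniusAlgHom, pow_iterate, AlgHom.one_apply,
    ← Nat.card_eq_fintype_card]
  exact h v

lemma forall_pow_eq_of_finrank_dvd [Finite L] (m : ℕ) (hd : Module.finrank k₀ L ∣ m) (v : L) :
    v ^ (Nat.card k₀ ^ m) = v := by
  haveI := Fintype.ofFinite k₀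
  have h1 : (FiniteField.frobeniusAlgHom k₀ L) ^ m = 1 := by
    apply orderOf_dvd_iff_pow_eq_one.mp
    rw [FiniteField.orderOf_frobeniusAlgHom]
    exact hd
  have h2 : ((FiniteField.frobeniusAlgHom k₀ L) ^ m) v = (1 : L →ₐ[k₀] L) v := by rw [h1]
  rw [AlgHom.coe_pow, FiniteField.coe_frobeniusAlgHom, pow_iterate, AlgHom.one_apply,
    ← Nat.card_eq_fintype_card] at h2
  exact h2

lemma finrank_dvd_of_algHom (m : ℕ) (hm : m ≠ 0) (ψ : L →ₐ[k₀] k)
    (hψ : ∀ v, ψ v ^ (Nat.card k₀ ^ m) = ψ v) : Module.finrank k₀ L ∣ m := by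
  have hv : ∀ v : L, v ^ (Nat.card k₀ ^ m) = v := by
    intro v
    apply ψ.toRingHom.injective
    change ψ (v ^ (Nat.card k₀ ^ m)) = ψ v
    rw [map_pow]
    exact hψ v
  have h1 : 1 < Nat.card k₀ ^ m := Nat.one_lt_pow hm Finite.one_lt_card
  haveI := finite_of_forall_pow_eq (Nat.card k₀ ^ m) h1 hv
  exact finrank_dvd_of_forall_pow_eq k₀ L m hv

lemma natCard_frobFixed [IsAlgClosed k] (m : ℕ) (hm : m ≠ 0) (hd : Module.finrank k₀ L ∣ m) :
    Nat.card {ψ : L →ₐ[k₀] k // ∀ v, ψ v ^ (Nat.card k₀ ^ m) = ψ v} = Module.finrank k₀ L := by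
  have hpos : 0 < Module.finrank k₀ L := Nat.pos_of_dvd_of_pos hd (Nat.pos_of_ne_zero hm)
  haveI : Module.Finite k₀ L := Module.finite_of_finrank_pos hpos
  haveI : Finite L := Module.finite_of_finite k₀
  have hall : ∀ ψ : L →ₐ[k₀] k, ∀ v, ψ v ^ (Nat.card k₀ ^ m) = ψ v := by
    intro ψ v
    rw [← map_pow, forall_pow_eq_of_finrank_dvd k₀ L m hd v]
  rw [Nat.card_congr (Equiv.subtypeUnivEquiv hall)]
  exact AlgHom.natCard_of_splits k₀ L k (fun _ => IsAlgClosed.splits _)

end Field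

section Regroup

/-- a subtype of a sigma type as a sigma type of subtypes -/
def sigmaSubtypeEquiv {α : Type*} {β : α → Type*} (C : (Σ a, β a) → Prop) :
    {σ : Σ a, β a // C σ} ≃ Σ a, {b : β a // C ⟨a, b⟩} where
  toFun σ := ⟨σ.1.1, ⟨σ.1.2, σ.2⟩⟩
  invFun τ := ⟨⟨τ.1, τ.2.1⟩, τ.2.2⟩
  left_inv := by rintro ⟨⟨a, b⟩, h⟩; rfl
  right_inv := by rintro ⟨a, ⟨b, h⟩⟩; rfl

/-- regrouping a sigma type according to the value of a function with values in a finset -/
def regroup {α : Type*} {β : α → Type*} {ι : Type*} (s : Finset ι) (g : α → ι) (cl : α → Prop)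
    (h : ∀ a, Nonempty (β a) → cl a ∧ g a ∈ s) :
    (Σ a, β a) ≃ Σ (i : ↥s), Σ (a : {a // cl a ∧ g a = i.1}), β a.1 where
  toFun σ := ⟨⟨g σ.1, (h σ.1 ⟨σ.2⟩).2⟩, ⟨⟨σ.1, (h σ.1 ⟨σ.2⟩).1, rfl⟩, σ.2⟩⟩
  invFun τ := ⟨τ.2.1.1, τ.2.2⟩
  left_inv := by rintro ⟨a, b⟩; rfl
  right_inv := by
    rintro ⟨⟨i, hi⟩, ⟨⟨a, hp⟩, b⟩⟩
    have hg : g a = i := hp.2
    subst hg
    rfl

lemma natCard_regrouped {α : Type*} {β : α → Type*} (s : Finset ℕ) (g : α → ℕ) (cl : α → Prop)
    [Finite (Σ (i : ↥s), Σ (a : {a // cl a ∧ g a = i.1}), β a.1)]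
    (hcard : ∀ a, cl a → g a ∈ s → Nat.card (β a) = g a) (hpos : ∀ i ∈ s, i ≠ 0) :
    Nat.card (Σ (i : ↥s), Σ (a : {a // cl a ∧ g a = i.1}), β a.1) =
      ∑ i ∈ s, i * Nat.card {a // cl a ∧ g a = i} := by
  haveI : ∀ i : ↥s, Finite (Σ (a : {a // cl a ∧ g a = i.1}), β a.1) := fun i =>
    Finite.of_injective _ (sigma_mk_injective
      (β := fun i : ↥s => Σ (a : {a // cl a ∧ g a = i.1}), β a.1) (i := i))
  rw [Nat.card_sigma, ← Finset.sum_coe_sort s (fun i => i * Nat.card {a // cl a ∧ g a = i})]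
  refine Finset.sum_congr rfl (fun i _ => ?_)
  have hi0 : i.1 ≠ 0 := hpos i.1 i.2
  have hc : ∀ a : {a // cl a ∧ g a = i.1}, Nat.card (β a.1) = i.1 := fun a => by
    have hmem : g a.1 ∈ s := by rw [a.2.2]; exact i.2
    rw [hcard a.1 a.2.1 hmem, a.2.2]
  have hfin : ∀ a : {a // cl a ∧ g a = i.1}, Finite (β a.1) := fun a =>
    Nat.finite_of_card_ne_zero (by rw [hc a]; exact hi0)
  have heq : ∀ a : {a // cl a ∧ g a = i.1}, β a.1 ≃ Fin i.1 := fun a =>
    haveI := hfin a
    Finite.equivFinOfCardEq (hc a)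
  rw [Nat.card_congr ((Equiv.sigmaCongrRight heq).trans (Equiv.sigmaEquivProd _ _)),
    Nat.card_prod, Nat.card_fin, mul_comm]

end Regroup

section Points

variable (k₀ : Type u) [Field k₀] (k : Type u) [Field k] [Algebra k₀ k]
  {X : Scheme.{u}} (f : X ⟶ Spec (CommRingCat.of k₀))

lemma comp_eq_iff (x : X) (φ : X.residueField x ⟶ CommRingCat.of k) :
    (Spec.map φ ≫ X.fromSpecResidueField x) ≫ f =
        Spec.map (CommRingCat.ofHom (algebraMap k₀ k)) ↔
      resHom k₀ f x ≫ φ = CommRingCat.ofHom (algebraMap k₀ k) := by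
  constructor
  · exact resHom_comp k₀ k f x φ
  · intro h
    rw [Category.assoc, ← map_resHom, ← Spec.map_comp, h]

lemma residueDegree_eq_finrank_resHom (x : X) :
    EGA4loc.residueDegree f x =
      @Module.finrank k₀ (X.residueField x) _ _ (resHom k₀ f x).hom.toAlgebra.toModule := by
  letI alg0 : Algebra k₀ (X.residueField x) := (resHom k₀ f x).hom.toAlgebra
  letI alg1 : Algebra ((Spec (CommRingCat.of k₀)).residueField (f x)) (X.residueField x) :=
    (f.residueFieldMap x).hom.toAlgebra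
  have hψs : Function.Surjective
      (Spec.preimage ((Spec (CommRingCat.of k₀)).fromSpecResidueField (f x))).hom :=
    surjective_preimage_fromSpecResidueField k₀ (f x)
  have hfac : resHom k₀ f x =
      Spec.preimage ((Spec (CommRingCat.of k₀)).fromSpecResidueField (f x)) ≫
        f.residueFieldMap x := by
    apply Spec.map_injective
    rw [map_resHom, Spec.map_comp, Spec.map_preimage,
      Scheme.Hom.SpecMap_residueFieldMap_fromSpecResidueField]
  let i : k₀ ≃+* (Spec (CommRingCat.of k₀)).residueField (f x) :=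
    RingEquiv.ofBijective
      (Spec.preimage ((Spec (CommRingCat.of k₀)).fromSpecResidueField (f x))).hom
      ⟨RingHom.injective _, hψs⟩
  symm
  refine Algebra.finrank_eq_of_equiv_equiv i (RingEquiv.refl _) ?_
  ext a
  change (f.residueFieldMap x).hom
    ((Spec.preimage ((Spec (CommRingCat.of k₀)).fromSpecResidueField (f x))).hom a) =
      (resHom k₀ f x).hom a
  rw [hfac]
  rfl

variable (Q : ℕ) (FX : X ⟶ X) (hFb : FX.base = 𝟙 _) (hle : ∀ U : X.Opens, U ≤ FX ⁻¹ᵁ U)
  (hFapp : ∀ (U : X.Opens) (s : Γ(X, U)), (FX.appLE U U (hle U)).hom s = s ^ Q)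

lemma residueFieldCongr_evaluation {x y : X} (e : x = y) (U : X.Opens) (hx : x ∈ U) (hy : y ∈ U)
    (a : Γ(X, U)) :
    (X.residueFieldCongr e).hom.hom ((X.evaluation U x hx).hom a) = (X.evaluation U y hy).hom a := by
  subst e
  rfl

include hFapp in
lemma frob_residue (x : X) (e : x = FX x) (v : X.residueField x) :
    (FX.residueFieldMap x).hom ((X.residueFieldCongr e).hom.hom v) = v ^ Q := by
  obtain ⟨U, hU, hx, -⟩ := exists_isAffineOpen_mem_and_subset (U := ⊤) (x := x) trivial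
  obtain ⟨a, s, rfl⟩ := evaluation_frac hU x hx v
  have key : ∀ a : Γ(X, U), (FX.residueFieldMap x).hom
      ((X.residueFieldCongr e).hom.hom ((X.evaluation U x hx).hom a)) =
      ((X.evaluation U x hx).hom a) ^ Q := by
    intro a
    rw [residueFieldCongr_evaluation e U hx (hle U hx) a,
      ← evaluation_appLE FX U U (hle U) x hx a, hFapp U a, map_pow]
  rw [map_div₀, map_div₀, key a, key s, div_pow]

include hFb hFapp in
lemma comp_frob_eq_iff (x : X) (φ : X.residueField x ⟶ CommRingCat.of k) :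
    (Spec.map φ ≫ X.fromSpecResidueField x) ≫ FX = Spec.map φ ≫ X.fromSpecResidueField x ↔
      ∀ v : X.residueField x, φ.hom v ^ Q = φ.hom v := by
  have e : x = FX x := by
    have := congrArg (fun (h : X.toTopCat ⟶ X.toTopCat) => h x) hFb
    exact this.symm
  have h1 : X.fromSpecResidueField x ≫ FX =
      Spec.map ((X.residueFieldCongr e).hom ≫ FX.residueFieldMap x) ≫
        X.fromSpecResidueField x := by
    rw [Spec.map_comp, Category.assoc, Scheme.residueFieldCongr_fromSpecResidueField,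
      Scheme.Hom.SpecMap_residueFieldMap_fromSpecResidueField]
  have hρv : ∀ v, ((X.residueFieldCongr e).hom ≫ FX.residueFieldMap x).hom v = v ^ Q :=
    fun v => frob_residue Q FX hle hFapp x e v
  rw [Category.assoc, h1, ← Category.assoc, ← Spec.map_comp, cancel_mono, Spec.map_inj]
  constructor
  · intro h v
    have h3 : φ.hom (((X.residueFieldCongr e).hom ≫ FX.residueFieldMap x).hom v) = φ.hom v :=
      congrArg (fun g : X.residueField x ⟶ CommRingCat.of k => g.hom v) h
    rw [hρv v, map_pow] at h3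
    exact h3
  · intro h
    ext v
    change φ.hom (((X.residueFieldCongr e).hom ≫ FX.residueFieldMap x).hom v) = φ.hom v
    rw [hρv v, map_pow]
    exact h v

end Points

section Count

variable (k₀ : Type u) [Field k₀] [Finite k₀] (k : Type u) [Field k] [IsAlgClosed k]
  [Algebra k₀ k] {X : Scheme.{u}} (f : X ⟶ Spec (CommRingCat.of k₀)) [LocallyOfFiniteType f]
  (m : ℕ) (hm : m ≠ 0)
  (FX : X ⟶ X) (hFb : FX.base = 𝟙 _) (hle : ∀ U : X.Opens, U ≤ FX ⁻¹ᵁ U)
  (hFapp : ∀ (U : X.Opens) (s : Γ(X, U)),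
    (FX.appLE U U (hle U)).hom s = s ^ (Nat.card k₀ ^ m))

/-- the fibre data at `x`: Frobenius-fixed `k₀`-embeddings of `κ(x)` into `k` -/
abbrev EFix (x : X) : Type u :=
  {φ : X.residueField x ⟶ CommRingCat.of k //
    resHom k₀ f x ≫ φ = CommRingCat.ofHom (algebraMap k₀ k) ∧
      ∀ v, φ.hom v ^ (Nat.card k₀ ^ m) = φ.hom v}

omit [IsAlgClosed k] [LocallyOfFiniteType f] in
include hm in
lemma dvd_of_nonempty_EFix (x : X) (h : Nonempty (EFix k₀ k f m x)) :
    EGA4loc.residueDegree f x ∣ m := by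
  letI alg : Algebra k₀ (X.residueField x) := (resHom k₀ f x).hom.toAlgebra
  obtain ⟨φ, h1, h2⟩ := h
  have hdeg : EGA4loc.residueDegree f x = Module.finrank k₀ (X.residueField x) :=
    residueDegree_eq_finrank_resHom k₀ f x
  rw [hdeg]
  let ψ : X.residueField x →ₐ[k₀] k :=
    { φ.hom with
      commutes' := fun a =>
        congrArg (fun g : CommRingCat.of k₀ ⟶ CommRingCat.of k => g.hom a) h1 }
  exact finrank_dvd_of_algHom k₀ (X.residueField x) k m hm ψ h2

omit [LocallyOfFiniteType f] in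
include hm in
lemma natCard_EFix (x : X) (hd : EGA4loc.residueDegree f x ∣ m) :
    Nat.card (EFix k₀ k f m x) = EGA4loc.residueDegree f x := by
  letI alg : Algebra k₀ (X.residueField x) := (resHom k₀ f x).hom.toAlgebra
  have hdeg : EGA4loc.residueDegree f x = Module.finrank k₀ (X.residueField x) :=
    residueDegree_eq_finrank_resHom k₀ f x
  rw [hdeg] at hd ⊢
  rw [← natCard_frobFixed k₀ (X.residueField x) k m hm hd]
  apply Nat.card_congr
  exact
    { toFun := fun φ =>
        ⟨{ φ.1.hom with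
            commutes' := fun a =>
              congrArg (fun g : CommRingCat.of k₀ ⟶ CommRingCat.of k => g.hom a) φ.2.1 },
          φ.2.2⟩
      invFun := fun ψ =>
        ⟨CommRingCat.ofHom ψ.1.toRingHom, by
          ext a
          exact ψ.1.commutes a, ψ.2⟩
      left_inv := fun φ => by
        apply Subtype.ext
        rfl
      right_inv := fun ψ => by
        apply Subtype.ext
        rfl }

omit [Finite k₀] in
lemma isClosed_of_residueDegree_ne_zero (x : X) (h : EGA4loc.residueDegree f x ≠ 0) :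
    IsClosed ({x} : Set X) := by
  apply isClosed_of_trdeg_eq_zero f x
  letI := (f.residueFieldMap x).hom.toAlgebra
  haveI : Module.Finite ((Spec (CommRingCat.of k₀)).residueField (f x)) (X.residueField x) :=
    Module.finite_of_finrank_pos (Nat.pos_of_ne_zero h)
  exact trdeg_eq_zero

include hm hFb hFapp in
/-- The number of Frobenius-fixed geometric points. -/
theorem natCard_fixPts
    [Finite {t : Spec (CommRingCat.of k) ⟶ X //
      t ≫ f = Spec.map (CommRingCat.ofHom (algebraMap k₀ k)) ∧ t ≫ FX = t}] :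
    Nat.card {t : Spec (CommRingCat.of k) ⟶ X //
      t ≫ f = Spec.map (CommRingCat.ofHom (algebraMap k₀ k)) ∧ t ≫ FX = t} =
      Zeta.nPts f m := by
  let C : (Σ x : X, X.residueField x ⟶ CommRingCat.of k) → Prop := fun σ =>
    resHom k₀ f σ.1 ≫ σ.2 = CommRingCat.ofHom (algebraMap k₀ k) ∧
      ∀ v, σ.2.hom v ^ (Nat.card k₀ ^ m) = σ.2.hom v
  have hPC : ∀ σ : (Σ x : X, X.residueField x ⟶ CommRingCat.of k), C σ ↔
      ((Scheme.SpecToEquivOfField k X).symm σ ≫ f =
          Spec.map (CommRingCat.ofHom (algebraMap k₀ k)) ∧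
        (Scheme.SpecToEquivOfField k X).symm σ ≫ FX =
          (Scheme.SpecToEquivOfField k X).symm σ) := by
    rintro ⟨x, φ⟩
    exact and_congr (comp_eq_iff k₀ k f x φ).symm
      (comp_frob_eq_iff k (Nat.card k₀ ^ m) FX hFb hle hFapp x φ).symm
  let E1 : {σ : (Σ x : X, X.residueField x ⟶ CommRingCat.of k) // C σ} ≃
      {t : Spec (CommRingCat.of k) ⟶ X //
        t ≫ f = Spec.map (CommRingCat.ofHom (algebraMap k₀ k)) ∧ t ≫ FX = t} :=
    Equiv.subtypeEquiv (Scheme.SpecToEquivOfField k X).symm hPC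
  let E2 : {σ : (Σ x : X, X.residueField x ⟶ CommRingCat.of k) // C σ} ≃
      Σ x : X, EFix k₀ k f m x := sigmaSubtypeEquiv C
  have hreg : ∀ x : X, Nonempty (EFix k₀ k f m x) →
      IsClosed ({x} : Set X) ∧ EGA4loc.residueDegree f x ∈ m.divisors := by
    intro x hx
    have hd := dvd_of_nonempty_EFix k₀ k f m hm x hx
    refine ⟨isClosed_of_residueDegree_ne_zero k₀ f x ?_, Nat.mem_divisors.mpr ⟨hd, hm⟩⟩
    intro h0
    rw [h0] at hd
    exact hm (Nat.eq_zero_of_zero_dvd hd)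
  let E3 := regroup (β := fun x : X => EFix k₀ k f m x) m.divisors (EGA4loc.residueDegree f)
    (fun x => IsClosed ({x} : Set X)) hreg
  let E := (E1.symm.trans E2).trans E3
  haveI : Finite (Σ (i : ↥m.divisors),
      Σ (a : {a : X // IsClosed ({a} : Set X) ∧ EGA4loc.residueDegree f a = i.1}),
        EFix k₀ k f m a.1) := Finite.of_equiv _ E
  rw [Nat.card_congr E,
    natCard_regrouped (β := fun x : X => EFix k₀ k f m x) m.divisors (EGA4loc.residueDegree f)
      (fun x => IsClosed ({x} : Set X)) ?_ ?_]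
  · rfl
  · intro x _ hx
    exact natCard_EFix k₀ k f m hm x (Nat.mem_divisors.mp hx).1
  · intro i hi
    exact (Nat.pos_of_mem_divisors hi).ne'

end Count

section FixY

variable (k₀ : Type u) [Field k₀] (k : Type u) [Field k] [IsAlgClosed k] [Algebra k₀ k]
  {X Y : Scheme.{u}} (f : X ⟶ Spec (CommRingCat.of k₀)) (g : Y ⟶ Spec (CommRingCat.of k))
  [LocallyOfFiniteType g] (π : Y ⟶ X)
  (hπ : IsPullback π g f (Spec.map (CommRingCat.ofHom (algebraMap k₀ k))))
  (FX : X ⟶ X) (Φ : Y ⟶ Y) (hΦg : Φ ≫ g = g) (hΦπ : Φ ≫ π = π ≫ FX)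

include hπ hΦg hΦπ in
/-- closed fixed points of `Φ` on `Y = X ×_{k₀} k` to Frobenius-fixed `k`-points of `X` -/
noncomputable def toFixPts (w : {w : Y // IsClosed ({w} : Set Y) ∧ Φ w = w}) :
    {t : Spec (CommRingCat.of k) ⟶ X //
      t ≫ f = Spec.map (CommRingCat.ofHom (algebraMap k₀ k)) ∧ t ≫ FX = t} :=
  ⟨pointOfClosedPoint g w.1 w.2.1 ≫ π, by
    rw [Category.assoc, hπ.w, ← Category.assoc, pointOfClosedPoint_comp, Category.id_comp], by
    have hs := comp_eq_self_of_apply_eq g Φ hΦg (pointOfClosedPoint g w.1 w.2.1)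
      (pointOfClosedPoint_comp g w.1 w.2.1)
      (by
        have hsw : pointOfClosedPoint g w.1 w.2.1 (IsLocalRing.closedPoint k) = w.1 :=
          pointOfClosedPoint_apply _ _ _ _
        rw [hsw]; exact w.2.2)
    rw [Category.assoc, ← hΦπ, ← Category.assoc, hs]⟩

lemma toFixPts_bijective :
    Function.Bijective (toFixPts k₀ k f g π hπ FX Φ hΦg hΦπ) := by
  constructor
  · intro w w' h
    have h1 : pointOfClosedPoint g w.1 w.2.1 ≫ π = pointOfClosedPoint g w'.1 w'.2.1 ≫ π :=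
      congrArg Subtype.val h
    have h2 : pointOfClosedPoint g w.1 w.2.1 = pointOfClosedPoint g w'.1 w'.2.1 := by
      apply hπ.hom_ext h1
      rw [pointOfClosedPoint_comp, pointOfClosedPoint_comp]
    apply Subtype.ext
    have h3 := congrArg (fun s : Spec (CommRingCat.of k) ⟶ Y => s (IsLocalRing.closedPoint k)) h2
    have h4 : pointOfClosedPoint g w.1 w.2.1 (IsLocalRing.closedPoint k) =
        pointOfClosedPoint g w'.1 w'.2.1 (IsLocalRing.closedPoint k) := h3
    have e1 : pointOfClosedPoint g w.1 w.2.1 (IsLocalRing.closedPoint k) = w.1 :=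
      pointOfClosedPoint_apply _ _ _ _
    have e2 : pointOfClosedPoint g w'.1 w'.2.1 (IsLocalRing.closedPoint k) = w'.1 :=
      pointOfClosedPoint_apply _ _ _ _
    rw [e1, e2] at h4
    exact h4
  · rintro ⟨t, ht1, ht2⟩
    have hlw : t ≫ f = 𝟙 _ ≫ Spec.map (CommRingCat.ofHom (algebraMap k₀ k)) := by
      rw [ht1, Category.id_comp]
    have hs1 : hπ.lift t (𝟙 _) hlw ≫ π = t := hπ.lift_fst _ _ _
    have hs2 : hπ.lift t (𝟙 _) hlw ≫ g = 𝟙 _ := hπ.lift_snd _ _ _
    have hsΦ : hπ.lift t (𝟙 _) hlw ≫ Φ = hπ.lift t (𝟙 _) hlw := by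
      apply hπ.hom_ext
      · rw [Category.assoc, hΦπ, ← Category.assoc, hs1, ht2]
      · rw [Category.assoc, hΦg]
    have hcl : IsClosed ({hπ.lift t (𝟙 _) hlw (IsLocalRing.closedPoint k)} : Set Y) :=
      (pointEquivClosedPoint g ⟨hπ.lift t (𝟙 _) hlw, hs2⟩).2
    have hfix : Φ (hπ.lift t (𝟙 _) hlw (IsLocalRing.closedPoint k)) =
        hπ.lift t (𝟙 _) hlw (IsLocalRing.closedPoint k) :=
      congrArg (fun s : Spec (CommRingCat.of k) ⟶ Y => s (IsLocalRing.closedPoint k)) hsΦ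
    refine ⟨⟨hπ.lift t (𝟙 _) hlw (IsLocalRing.closedPoint k), hcl, hfix⟩, ?_⟩
    apply Subtype.ext
    change pointOfClosedPoint g (hπ.lift t (𝟙 _) hlw (IsLocalRing.closedPoint k)) hcl ≫ π = t
    have h5 : pointOfClosedPoint g (hπ.lift t (𝟙 _) hlw (IsLocalRing.closedPoint k)) hcl =
        hπ.lift t (𝟙 _) hlw := by
      apply ext_of_apply_closedPoint_eq g (pointOfClosedPoint_comp _ _ _) hs2
      exact pointOfClosedPoint_apply _ _ _ _
    rw [h5, hs1]

end FixY

end Groth.Agent.Lib.LeadZeta
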