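import Groth.Agent.Lib.LeadZetaCount
import Groth.Agent.Lib.LeadPtCountE
import Groth.Prelude.Def_SgaExt

/-!
# `#X(k') = ∑_{e ∣ [k':k]} e · #{closed points of degree e}` for `X` of finite type over a finite
field (lead)
-/

set_option maxHeartbeats 400000
set_option autoImplicit false
set_option linter.style.haveILetI false
set_option linter.unusedSectionVars false

universe u

open AlgebraicGeometry CategoryTheory Limits

namespace Groth.Agent.Lib.LeadZetaFp

open Groth.Agent.Lib.LeadZeta Groth.Agent.Lib.Helper10.GaloisOrbit Groth.Agent.Lib.LeadPtCount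

section Fin

/-- ring homomorphisms from a finitely generated ring to a finite ring -/
lemma finite_ringHom (A F : Type*) [CommRing A] [Algebra.FiniteType ℤ A] [CommRing F] [Finite F] :
    Finite (A →+* F) := by
  obtain ⟨S, hS⟩ := (Algebra.FiniteType.out : (⊤ : Subalgebra ℤ A).FG)
  have hinj : Function.Injective (fun φ : A →+* F => fun s : (S : Set A) => φ s.1) := by
    intro φ ψ h
    have h' : φ.toIntAlgHom = ψ.toIntAlgHom :=
      AlgHom.ext_of_adjoin_eq_top hS (fun a ha => congrFun h ⟨a, ha⟩)
    ext a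
    exact congrArg (fun χ : A →ₐ[ℤ] F => χ a) h'
  exact Finite.of_injective _ hinj

/-- finitely many points with values in a finite field -/
lemma finite_hom {k₀ : Type u} [Field k₀] [Finite k₀] {X : Scheme.{u}}
    (f : X ⟶ Spec (CommRingCat.of k₀)) [LocallyOfFiniteType f] [QuasiCompact f]
    (F : Type u) [Field F] [Finite F] : Finite (Spec (CommRingCat.of F) ⟶ X) := by
  classical
  haveI : CompactSpace X := QuasiCompact.compactSpace_of_compactSpace f
  obtain ⟨s, hs⟩ := exists_finset_affineOpens_cover (X := X)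
  haveI : Algebra.FiniteType ℤ k₀ := inferInstance
  exact (card_hom_le (F := F) s hs (fun U _ => by
    haveI := finiteType_int_sections f U.2
    exact finite_ringHom _ F)).1

end Fin

section Count

variable (k₀ : Type u) [Field k₀] [Finite k₀] (k : Type u) [Field k] [Finite k] [Algebra k₀ k]
  {X : Scheme.{u}} (f : X ⟶ Spec (CommRingCat.of k₀)) [LocallyOfFiniteType f]

/-- the fibre data at `x`: `k₀`-embeddings of `κ(x)` into `k` -/
abbrev EPt (x : X) : Type u :=
  {φ : X.residueField x ⟶ CommRingCat.of k //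
    resHom k₀ f x ≫ φ = CommRingCat.ofHom (algebraMap k₀ k)}

/-- `EPt` as algebra homomorphisms -/
noncomputable def ePtEquiv (x : X) :
    letI := (resHom k₀ f x).hom.toAlgebra
    EPt k₀ k f x ≃ (X.residueField x →ₐ[k₀] k) :=
  letI := (resHom k₀ f x).hom.toAlgebra
  { toFun := fun φ =>
      { φ.1.hom with
        commutes' := fun a =>
          congrArg (fun g : CommRingCat.of k₀ ⟶ CommRingCat.of k => g.hom a) φ.2 }
    invFun := fun ψ =>
      ⟨CommRingCat.ofHom ψ.toRingHom, by
        ext a
        exact ψ.commutes a⟩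
    left_inv := fun φ => by
      apply Subtype.ext
      rfl
    right_inv := fun ψ => by
      rfl }

omit [LocallyOfFiniteType f] in
lemma dvd_of_nonempty_EPt (x : X) (h : Nonempty (EPt k₀ k f x)) :
    EGA4loc.residueDegree f x ∣ Module.finrank k₀ k := by
  letI alg : Algebra k₀ (X.residueField x) := (resHom k₀ f x).hom.toAlgebra
  have hdeg : EGA4loc.residueDegree f x = Module.finrank k₀ (X.residueField x) :=
    residueDegree_eq_finrank_resHom k₀ f x
  rw [hdeg]
  obtain ⟨φ⟩ := h
  exact FiniteField.nonempty_algHom_iff_finrank_dvd.mp ⟨ePtEquiv k₀ k f x φ⟩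

omit [LocallyOfFiniteType f] in
lemma natCard_EPt (x : X) (hd : EGA4loc.residueDegree f x ∣ Module.finrank k₀ k) :
    Nat.card (EPt k₀ k f x) = EGA4loc.residueDegree f x := by
  letI alg : Algebra k₀ (X.residueField x) := (resHom k₀ f x).hom.toAlgebra
  have hdeg : EGA4loc.residueDegree f x = Module.finrank k₀ (X.residueField x) :=
    residueDegree_eq_finrank_resHom k₀ f x
  rw [hdeg] at hd ⊢
  rw [← FiniteField.natCard_algHom_of_finrank_dvd hd]
  exact Nat.card_congr (ePtEquiv k₀ k f x)

lemma finrank_ne_zero : Module.finrank k₀ k ≠ 0 := by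
  haveI : Module.Finite k₀ k := inferInstance
  exact (Module.finrank_pos (R := k₀) (M := k)).ne'

/-- The number of points with values in a finite extension. -/
theorem natCard_points [QuasiCompact f] :
    SgaExt.pointCount f k = Zeta.nPts f (Module.finrank k₀ k) := by
  have hm : Module.finrank k₀ k ≠ 0 := finrank_ne_zero k₀ k
  haveI : Finite (Spec (CommRingCat.of k) ⟶ X) := finite_hom f k
  let C : (Σ x : X, X.residueField x ⟶ CommRingCat.of k) → Prop := fun σ =>
    resHom k₀ f σ.1 ≫ σ.2 = CommRingCat.ofHom (algebraMap k₀ k)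
  have hPC : ∀ σ : (Σ x : X, X.residueField x ⟶ CommRingCat.of k), C σ ↔
      ((Scheme.SpecToEquivOfField k X).symm σ ≫ f =
          Spec.map (CommRingCat.ofHom (algebraMap k₀ k))) := by
    rintro ⟨x, φ⟩
    exact (comp_eq_iff k₀ k f x φ).symm
  let E1 : {σ : (Σ x : X, X.residueField x ⟶ CommRingCat.of k) // C σ} ≃
      {t : Spec (CommRingCat.of k) ⟶ X //
        t ≫ f = Spec.map (CommRingCat.ofHom (algebraMap k₀ k))} :=
    Equiv.subtypeEquiv (Scheme.SpecToEquivOfField k X).symm hPC
  let E2 : {σ : (Σ x : X, X.residueField x ⟶ CommRingCat.of k) // C σ} ≃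
      Σ x : X, EPt k₀ k f x := sigmaSubtypeEquiv C
  have hreg : ∀ x : X, Nonempty (EPt k₀ k f x) →
      IsClosed ({x} : Set X) ∧ EGA4loc.residueDegree f x ∈ (Module.finrank k₀ k).divisors := by
    intro x hx
    have hd := dvd_of_nonempty_EPt k₀ k f x hx
    refine ⟨isClosed_of_residueDegree_ne_zero k₀ f x ?_, Nat.mem_divisors.mpr ⟨hd, hm⟩⟩
    intro h0
    rw [h0] at hd
    exact hm (Nat.eq_zero_of_zero_dvd hd)
  let E3 := regroup (β := fun x : X => EPt k₀ k f x) (Module.finrank k₀ k).divisors
    (EGA4loc.residueDegree f) (fun x => IsClosed ({x} : Set X)) hreg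
  let E := (E1.symm.trans E2).trans E3
  haveI : Finite (Σ (i : ↥(Module.finrank k₀ k).divisors),
      Σ (a : {a : X // IsClosed ({a} : Set X) ∧ EGA4loc.residueDegree f a = i.1}),
        EPt k₀ k f a.1) := Finite.of_equiv _ E
  change Nat.card {t : Spec (CommRingCat.of k) ⟶ X //
    t ≫ f = Spec.map (CommRingCat.ofHom (algebraMap k₀ k))} = _
  rw [Nat.card_congr E,
    natCard_regrouped (β := fun x : X => EPt k₀ k f x) (Module.finrank k₀ k).divisors
      (EGA4loc.residueDegree f) (fun x => IsClosed ({x} : Set X)) ?_ ?_]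
  · rfl
  · intro x _ hx
    exact natCard_EPt k₀ k f x (Nat.mem_divisors.mp hx).1
  · intro i hi
    exact (Nat.pos_of_mem_divisors hi).ne'

end Count

end Groth.Agent.Lib.LeadZetaFp
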