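import Groth.Agent.Lib.LeadZetaGeomA
import Groth.Agent.Lib.Helper10WeilProj

/-!
# The trace of `cl Γ_G · cl Δ` for a Frobenius-type endomorphism `G` counts fixed points (lead)
-/

set_option maxHeartbeats 400000
set_option autoImplicit false
set_option linter.style.haveILetI false
set_option linter.unusedSectionVars false

universe u v

open AlgebraicGeometry CategoryTheory Limits TopologicalSpace

namespace Groth.Agent.Lib.LeadZeta

open Groth.Agent.Lib.Helper4.VarDim Groth.Agent.Lib.LeadWeilFrob Groth.Agent.Lib.Helper10.WeilPt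

section Var

variable {k₀ : Type u} [Field k₀] {k : Type u} [Field k] [IsAlgClosed k] [Algebra k₀ k]
  {K : Type v} [Field K] [CharZero K] (T : WeilCoh.Theory k K)
  {X : Scheme.{u}} (f : X ⟶ Spec (CommRingCat.of k₀))
  (Q : ℕ) (hQ2 : 2 ≤ Q) (hQk : (Q : k) = 0)
  (FX : X ⟶ X) (hFb : FX.base = 𝟙 _) (hle : ∀ U : X.Opens, U ≤ FX ⁻¹ᵁ U)
  (hFapp : ∀ (U : X.Opens) (s : Γ(X, U)), (FX.appLE U U (hle U)).hom s = s ^ Q)
  (Xb : WeilCoh.Var k) (π : Xb.obj.left ⟶ X)
  (hπ : IsPullback π Xb.obj.hom f (Spec.map (CommRingCat.ofHom (algebraMap k₀ k))))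
  (G : Xb ⟶ Xb) (hG : WeilCoh.sm G ≫ π = π ≫ FX)
  (Pb : WeilCoh.Var k) (p q : Pb ⟶ Xb) (hP : WeilCoh.IsProd p q)
  (j d : Xb ⟶ Pb) (hjp : j ≫ p = 𝟙 Xb) (hjq : j ≫ q = G) (hdp : d ≫ p = 𝟙 Xb)
  (hdq : d ≫ q = 𝟙 Xb)

attribute [local instance] overVar sectionsAlgebra Curv2.resAlgebra

lemma closure_diag :
    closure ({WeilCoh.sm d (genericPoint Xb.obj.left)} : Set Pb.obj.left) =
      Set.range (WeilCoh.sm d) := by
  haveI : IsProper (WeilCoh.sm d ≫ Pb.obj.hom) := by rw [sm_w d]; infer_instance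
  haveI : IsProper (WeilCoh.sm d) := IsProper.of_comp (WeilCoh.sm d) Pb.obj.hom
  have hcl : IsClosedMap (WeilCoh.sm d) := (WeilCoh.sm d).isClosedMap
  have h1 := hcl.closure_image_eq_of_continuous (WeilCoh.sm d).continuous
    {genericPoint Xb.obj.left}
  rw [Set.image_singleton] at h1
  have h2 : closure ({genericPoint Xb.obj.left} : Set Xb.obj.left) = Set.univ :=
    (genericPoint_spec Xb.obj.left).def
  rw [h1, h2, Set.image_univ]

include hjp hdp in
lemma mem_preimage_iff (w : Xb.obj.left) :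
    w ∈ (WeilCoh.sm j) ⁻¹'
        closure ({WeilCoh.sm d (genericPoint Xb.obj.left)} : Set Pb.obj.left) ↔
      WeilCoh.sm j w = WeilCoh.sm d w := by
  rw [Set.mem_preimage, closure_diag Xb Pb d]
  constructor
  · rintro ⟨y, hy⟩
    have h1 : WeilCoh.sm p (WeilCoh.sm d y) = y :=
      apply_of_comp_eq_id _ _ (sm_comp_eq_id d p hdp) y
    have h2 : WeilCoh.sm p (WeilCoh.sm j w) = w :=
      apply_of_comp_eq_id _ _ (sm_comp_eq_id j p hjp) w
    have h3 : y = w := by rw [← h1, hy, h2]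
    rw [← hy, h3]
  · intro h
    exact ⟨w, h.symm⟩

include hjq hdq in
lemma fixed_of_eq (w : Xb.obj.left) (h : WeilCoh.sm j w = WeilCoh.sm d w) :
    WeilCoh.sm G w = w := by
  have h1 : WeilCoh.sm q (WeilCoh.sm j w) = WeilCoh.sm G w :=
    apply_of_comp_eq _ _ _ (congrArg (fun φ => WeilCoh.sm φ) hjq) w
  have h2 : WeilCoh.sm q (WeilCoh.sm d w) = w :=
    apply_of_comp_eq_id _ _ (sm_comp_eq_id d q hdq) w
  rw [← h1, h, h2]

include hπ hFb hFapp hG hjp hjq hdp hdq hQ2 in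
lemma isAlgebraic_of_mem (w : Xb.obj.left)
    (hmem : WeilCoh.sm j w ∈
      closure ({WeilCoh.sm d (genericPoint Xb.obj.left)} : Set Pb.obj.left)) :
    Algebra.IsAlgebraic k (Xb.obj.left.residueField w) := by
  obtain ⟨U₀, hU₀, hw, -⟩ := exists_isAffineOpen_mem_and_subset (U := ⊤) (x := π w) trivial
  have hsp : WeilCoh.sm d (genericPoint Xb.obj.left) ⤳ WeilCoh.sm j w :=
    specializes_iff_mem_closure.mpr hmem
  have hη : genericPoint Xb.obj.left ∈ π ⁻¹ᵁ U₀ :=
    (genericPoint_specializes w).mem_open (π ⁻¹ᵁ U₀).isOpen hw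
  apply isAlgebraic_of_eval_eq k₀ k f π hπ Q hQ2 FX hFb hle hFapp (WeilCoh.sm G) hG U₀ hU₀ w hw
  intro b
  have h1 := germ_sub_mem (WeilCoh.sm p) (WeilCoh.sm q) (WeilCoh.sm j) (WeilCoh.sm d)
    (WeilCoh.sm G) (sm_comp_eq_id j p hjp) (congrArg (fun φ => WeilCoh.sm φ) hjq)
    (sm_comp_eq_id d p hdp) (sm_comp_eq_id d q hdq) (π ⁻¹ᵁ U₀)
    (preimage_le_frob π FX hFb (WeilCoh.sm G) hG U₀) b w (genericPoint Xb.obj.left) hw hη hsp
  have h2 := map_ker_specMap_le (WeilCoh.sm j) w (WeilCoh.sm d (genericPoint Xb.obj.left)) hsp h1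
  have h3 : (Xb.obj.left.evaluation (π ⁻¹ᵁ U₀) w hw).hom
      (((WeilCoh.sm G).appLE (π ⁻¹ᵁ U₀) (π ⁻¹ᵁ U₀)
        (preimage_le_frob π FX hFb (WeilCoh.sm G) hG U₀)).hom b - b) = 0 :=
    (IsLocalRing.residue_eq_zero_iff _).mpr h2
  rw [map_sub, sub_eq_zero] at h3
  exact h3

include hπ hFb hFapp hG hjp hjq hdp hdq hQ2 hQk in
lemma preimMult_eq_one (w : Xb.obj.left)
    (hmem : WeilCoh.sm j w ∈
      closure ({WeilCoh.sm d (genericPoint Xb.obj.left)} : Set Pb.obj.left)) :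
    WeilCoh.preimMult (WeilCoh.sm j) (WeilCoh.sm d (genericPoint Xb.obj.left)) w hmem = 1 := by
  apply preimMult_eq_one_of_eq
  obtain ⟨U₀, hU₀, hw, -⟩ := exists_isAffineOpen_mem_and_subset (U := ⊤) (x := π w) trivial
  have hsp : WeilCoh.sm d (genericPoint Xb.obj.left) ⤳ WeilCoh.sm j w :=
    specializes_iff_mem_closure.mpr hmem
  have hη : genericPoint Xb.obj.left ∈ π ⁻¹ᵁ U₀ :=
    (genericPoint_specializes w).mem_open (π ⁻¹ᵁ U₀).isOpen hw
  have halg := isAlgebraic_of_mem f Q hQ2 FX hFb hle hFapp Xb π hπ G hG Pb p q j d hjp hjq hdp hdq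
    w hmem
  apply le_antisymm (map_ker_specMap_le (WeilCoh.sm j) w _ hsp)
  apply maximalIdeal_le_of_germ_sub_mem k₀ k f π hπ Q hQk FX hFb hle hFapp (WeilCoh.sm G) hG U₀
    hU₀ w hw _ (map_ker_specMap_le (WeilCoh.sm j) w _ hsp)
  · intro b
    exact germ_sub_mem (WeilCoh.sm p) (WeilCoh.sm q) (WeilCoh.sm j) (WeilCoh.sm d)
      (WeilCoh.sm G) (sm_comp_eq_id j p hjp) (congrArg (fun φ => WeilCoh.sm φ) hjq)
      (sm_comp_eq_id d p hdp) (sm_comp_eq_id d q hdq) (π ⁻¹ᵁ U₀)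
      (preimage_le_frob π FX hFb (WeilCoh.sm G) hG U₀) b w (genericPoint Xb.obj.left) hw hη hsp
  · exact bijective_of_isAlgebraic k w halg

include hP hjp hjq hdp hdq in
lemma eq_of_fixed (w : Xb.obj.left) (hw : IsClosed ({w} : Set Xb.obj.left))
    (hfix : WeilCoh.sm G w = w) : WeilCoh.sm j w = WeilCoh.sm d w := by
  have hs1 : pointOfClosedPoint Xb.obj.hom w hw ≫ Xb.obj.hom = 𝟙 _ :=
    pointOfClosedPoint_comp _ _ _
  have hsw : pointOfClosedPoint Xb.obj.hom w hw (IsLocalRing.closedPoint k) = w :=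
    pointOfClosedPoint_apply _ _ _ _
  have hGs : pointOfClosedPoint Xb.obj.hom w hw ≫ WeilCoh.sm G =
      pointOfClosedPoint Xb.obj.hom w hw :=
    comp_eq_self_of_apply_eq Xb.obj.hom (WeilCoh.sm G) (sm_w G) _ hs1 (by rw [hsw]; exact hfix)
  have hjd : pointOfClosedPoint Xb.obj.hom w hw ≫ WeilCoh.sm j =
      pointOfClosedPoint Xb.obj.hom w hw ≫ WeilCoh.sm d := by
    apply hP.hom_ext
    · rw [Category.assoc, Category.assoc, sm_comp_eq_id j p hjp, sm_comp_eq_id d p hdp]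
    · have hjq' : WeilCoh.sm j ≫ WeilCoh.sm q = WeilCoh.sm G :=
        congrArg (fun φ => WeilCoh.sm φ) hjq
      rw [Category.assoc, Category.assoc, sm_comp_eq_id d q hdq, Category.comp_id, hjq', hGs]
  have h2 : WeilCoh.sm j (pointOfClosedPoint Xb.obj.hom w hw (IsLocalRing.closedPoint k)) =
      WeilCoh.sm d (pointOfClosedPoint Xb.obj.hom w hw (IsLocalRing.closedPoint k)) :=
    congrArg (fun φ : Spec (CommRingCat.of k) ⟶ Pb.obj.left => φ (IsLocalRing.closedPoint k)) hjd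
  rw [hsw] at h2
  exact h2

include hπ hFb hFapp hG hP hjp hjq hdp hdq hQ2 hQk in
/-- The intersection number of the graph of `G` with the diagonal is the number of closed fixed
points of `G`. -/
theorem tr_graph_mul_diag :
    T.tr Pb (T.cl Pb (WeilCoh.sm j (genericPoint Xb.obj.left)) *
        T.cl Pb (WeilCoh.sm d (genericPoint Xb.obj.left))) =
      (Nat.card {w : Xb.obj.left // IsClosed ({w} : Set Xb.obj.left) ∧ WeilCoh.sm G w = w} : K) := by
  classical
  have hclosedpt : ∀ w ∈ (WeilCoh.sm j) ⁻¹'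
      closure ({WeilCoh.sm d (genericPoint Xb.obj.left)} : Set Pb.obj.left),
      IsClosed ({w} : Set Xb.obj.left) := fun w hw =>
    isClosed_of_isAlgebraic k w
      (isAlgebraic_of_mem f Q hQ2 FX hFb hle hFapp Xb π hπ G hG Pb p q j d hjp hjq hdp hdq w hw)
  haveI : IsNoetherian Xb.obj.left :=
    { __ := LocallyOfFiniteType.isLocallyNoetherian Xb.obj.hom }
  have hSfin : ((WeilCoh.sm j) ⁻¹'
      closure ({WeilCoh.sm d (genericPoint Xb.obj.left)} : Set Pb.obj.left)).Finite :=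
    finite_of_forall_isClosed_singleton _
      (isClosed_closure.preimage (WeilCoh.sm j).continuous) hclosedpt
  have hcomp : ∀ w, WeilCoh.IsCompPt ((WeilCoh.sm j) ⁻¹'
      closure ({WeilCoh.sm d (genericPoint Xb.obj.left)} : Set Pb.obj.left)) w ↔
      w ∈ (WeilCoh.sm j) ⁻¹'
        closure ({WeilCoh.sm d (genericPoint Xb.obj.left)} : Set Pb.obj.left) := by
    intro w
    refine ⟨fun h => h.1, fun h => ⟨h, fun w' hw' hsp => ?_⟩⟩
    have h1 : w ∈ closure ({w'} : Set Xb.obj.left) := specializes_iff_mem_closure.mp hsp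
    rw [(hclosedpt w' hw').closure_eq] at h1
    exact (Set.mem_singleton_iff.mp h1).symm
  have hdim : ∀ w, WeilCoh.IsCompPt ((WeilCoh.sm j) ⁻¹'
      closure ({WeilCoh.sm d (genericPoint Xb.obj.left)} : Set Pb.obj.left)) w →
      (WeilCoh.pdim Xb.obj.left w : ℤ) =
        WeilCoh.pdim Pb.obj.left (WeilCoh.sm d (genericPoint Xb.obj.left)) +
          WeilCoh.dim Xb.obj.left - WeilCoh.dim Pb.obj.left := by
    intro w hw
    rw [pdim_eq_zero_of_isClosed w (hclosedpt w hw.1), pdim_of_section d p hdp,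
      pdim_genericPoint, dim_prod p q hP]
    push_cast
    ring
  have hmult : ∀ (w : Xb.obj.left) (hw : WeilCoh.IsCompPt ((WeilCoh.sm j) ⁻¹'
      closure ({WeilCoh.sm d (genericPoint Xb.obj.left)} : Set Pb.obj.left)) w),
      WeilCoh.preimMult (WeilCoh.sm j) (WeilCoh.sm d (genericPoint Xb.obj.left)) w hw.1 = 1 :=
    fun w hw => preimMult_eq_one f Q hQ2 hQk FX hFb hle hFapp Xb π hπ G hG Pb p q j d hjp hjq hdp
      hdq w hw.1
  have key := T.cl_pull j (WeilCoh.sm d (genericPoint Xb.obj.left)) hdim (Or.inr hmult)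
  rw [tr_cl_section_mul' T j p hjp, cl_generic, one_mul, key]
  haveI : Finite {w : Xb.obj.left // WeilCoh.IsCompPt ((WeilCoh.sm j) ⁻¹'
      closure ({WeilCoh.sm d (genericPoint Xb.obj.left)} : Set Pb.obj.left)) w} :=
    (hSfin.subset (fun w hw => hw.1)).to_subtype
  haveI := Fintype.ofFinite {w : Xb.obj.left // WeilCoh.IsCompPt ((WeilCoh.sm j) ⁻¹'
      closure ({WeilCoh.sm d (genericPoint Xb.obj.left)} : Set Pb.obj.left)) w}
  rw [finsum_eq_sum_of_fintype, map_sum]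
  have hterm : ∀ w : {w : Xb.obj.left // WeilCoh.IsCompPt ((WeilCoh.sm j) ⁻¹'
      closure ({WeilCoh.sm d (genericPoint Xb.obj.left)} : Set Pb.obj.left)) w},
      T.tr Xb ((WeilCoh.preimMult (WeilCoh.sm j) (WeilCoh.sm d (genericPoint Xb.obj.left))
        w.1 w.2.1 : K) • T.cl Xb w.1) = 1 := by
    intro w
    rw [hmult w.1 w.2, Nat.cast_one, one_smul,
      tr_cl_closedPoint T Xb w.1 (hclosedpt w.1 w.2.1)]
  rw [Finset.sum_congr rfl (fun w _ => hterm w), Finset.sum_const, Finset.card_univ,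
    nsmul_eq_mul, mul_one, ← Nat.card_eq_fintype_card]
  congr 1
  apply Nat.card_congr
  apply Equiv.subtypeEquivRight
  intro w
  rw [hcomp w]
  constructor
  · intro hw
    exact ⟨hclosedpt w hw, fixed_of_eq Xb G Pb q j d hjq hdq w
      ((mem_preimage_iff Xb Pb p j d hjp hdp w).mp hw)⟩
  · rintro ⟨hcl, hfix⟩
    exact (mem_preimage_iff Xb Pb p j d hjp hdp w).mpr
      (eq_of_fixed Xb G Pb p q hP j d hjp hjq hdp hdq w hcl hfix)

include hπ hFb hFapp hG hP hjp hjq hdp hdq hQ2 in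
/-- There are finitely many closed fixed points. -/
lemma finite_fixed :
    Finite {w : Xb.obj.left // IsClosed ({w} : Set Xb.obj.left) ∧ WeilCoh.sm G w = w} := by
  have hclosedpt : ∀ w ∈ (WeilCoh.sm j) ⁻¹'
      closure ({WeilCoh.sm d (genericPoint Xb.obj.left)} : Set Pb.obj.left),
      IsClosed ({w} : Set Xb.obj.left) := fun w hw =>
    isClosed_of_isAlgebraic k w
      (isAlgebraic_of_mem f Q hQ2 FX hFb hle hFapp Xb π hπ G hG Pb p q j d hjp hjq hdp hdq w hw)
  haveI : IsNoetherian Xb.obj.left :=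
    { __ := LocallyOfFiniteType.isLocallyNoetherian Xb.obj.hom }
  have hSfin : ((WeilCoh.sm j) ⁻¹'
      closure ({WeilCoh.sm d (genericPoint Xb.obj.left)} : Set Pb.obj.left)).Finite :=
    finite_of_forall_isClosed_singleton _
      (isClosed_closure.preimage (WeilCoh.sm j).continuous) hclosedpt
  have hsub : {w : Xb.obj.left | IsClosed ({w} : Set Xb.obj.left) ∧ WeilCoh.sm G w = w} ⊆
      (WeilCoh.sm j) ⁻¹'
        closure ({WeilCoh.sm d (genericPoint Xb.obj.left)} : Set Pb.obj.left) := by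
    rintro w ⟨hcl, hfix⟩
    exact (mem_preimage_iff Xb Pb p j d hjp hdp w).mpr
      (eq_of_fixed Xb G Pb p q hP j d hjp hjq hdp hdq w hcl hfix)
  exact (hSfin.subset hsub).to_subtype

end Var

end Groth.Agent.Lib.LeadZeta
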