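import Groth.Agent.Lib.LeadZetaGeomB
import Groth.Agent.Lib.LeadZetaCount
import Groth.Agent.Lib.LeadZetaAlg

/-!
# The zeta function of `X / 𝔽_q` through a Weil cohomology theory (lead)

`Z(X, t) · ∏ P_{2i}(t) = ∏ P_{2i+1}(t)`: Lefschetz trace formula for the powers of Frobenius,
multiplicity one of the fixed points, count of the fixed points, and the power series glue.
-/

set_option maxHeartbeats 400000
set_option autoImplicit false
set_option linter.style.haveILetI false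
set_option linter.unusedSectionVars false

universe u v

open AlgebraicGeometry CategoryTheory Limits

namespace Groth.Agent.Lib.LeadZeta

open Groth.Agent.Lib.Helper4.VarDim Groth.Agent.Lib.LeadWeilFrob Groth.Agent.Lib.Helper10.WeilPt

section Main

variable (k₀ : Type u) [Field k₀] [Finite k₀] (k : Type u) [Field k] [IsAlgClosed k]
  [Algebra k₀ k] (K : Type v) [Field K] [CharZero K] (T : WeilCoh.Theory k K)
  {X : Scheme.{u}} (f : X ⟶ Spec (CommRingCat.of k₀)) [LocallyOfFiniteType f]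
  (FX : X ⟶ X) (hFb : FX.base = 𝟙 _) (hle : ∀ U : X.Opens, U ≤ FX ⁻¹ᵁ U)
  (hFapp : ∀ (U : X.Opens) (s : Γ(X, U)), (FX.appLE U U (hle U)).hom s = s ^ Nat.card k₀)
  (Xb : WeilCoh.Var k) (π : Xb.obj.left ⟶ X)
  (hπ : IsPullback π Xb.obj.hom f (Spec.map (CommRingCat.ofHom (algebraMap k₀ k))))
  (F : Xb ⟶ Xb) (hF : WeilCoh.sm F ≫ π = π ≫ FX)
  (Pb : WeilCoh.Var k) (p q : Pb ⟶ Xb) (hP : WeilCoh.IsProd p q)

lemma pullDeg_iter (j : ℤ) (m : ℕ) : T.pullDeg (iter F m) j = (T.pullDeg F j) ^ m :=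
  LinearMap.ext fun b => Subtype.ext (pull_iter T F j m b)

include hFb hFapp hF in
omit [Finite k₀] [IsAlgClosed k] in
lemma exists_frob_iter (m : ℕ) :
    ∃ (FXm : X ⟶ X) (_ : FXm.base = 𝟙 _) (hle' : ∀ U : X.Opens, U ≤ FXm ⁻¹ᵁ U),
      (∀ (U : X.Opens) (s : Γ(X, U)),
        (FXm.appLE U U (hle' U)).hom s = s ^ (Nat.card k₀ ^ m)) ∧
      WeilCoh.sm (iter F m) ≫ π = π ≫ FXm := by
  induction m with
  | zero =>
    refine ⟨𝟙 X, rfl, fun U x hx => hx, fun U s => ?_, ?_⟩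
    · rw [pow_zero, pow_one]
      exact id_appLE_apply U _ s
    · change 𝟙 _ ≫ π = π ≫ 𝟙 X
      rw [Category.id_comp, Category.comp_id]
  | succ m ih =>
    obtain ⟨FXm, hb, hle', happ, hc⟩ := ih
    have hle'' : ∀ U : X.Opens, U ≤ (FX ≫ FXm) ⁻¹ᵁ U := by
      intro U x hx
      have h1 : FX x ∈ U := hle U hx
      have h2 : FXm (FX x) ∈ U := hle' U h1
      exact h2
    refine ⟨FX ≫ FXm, ?_, hle'', fun U s => ?_, ?_⟩
    · rw [Scheme.Hom.comp_base, hFb, hb, Category.id_comp]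
    · have h1 := appLE_appLE_apply FX FXm U U U (hle' U) (hle U) (FX ≫ FXm) rfl (hle'' U) s
      refine h1.symm.trans ?_
      rw [happ U s, hFapp U _, ← pow_mul, pow_succ]
    · change (WeilCoh.sm F ≫ WeilCoh.sm (iter F m)) ≫ π = π ≫ FX ≫ FXm
      rw [Category.assoc, hc, ← Category.assoc, hF, Category.assoc]

include hFb hFapp hπ hF hP in
/-- The number of points of `X` in the degree `m` extension is the alternating sum of the traces of
the `m`-th power of Frobenius on the cohomology of `X ×_{k₀} k`. -/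
theorem trace_formula (m : ℕ) (hm : 1 ≤ m) :
    (Zeta.nPts f m : K) =
      ∑ i ∈ Finset.range (2 * WeilCoh.dim Xb.obj.left + 1),
        (-1 : K) ^ i * LinearMap.trace K ↥(T.gr Xb (i : ℤ)) ((T.pullDeg F (i : ℤ)) ^ m) := by
  have hm0 : m ≠ 0 := by omega
  obtain ⟨FXm, hb, hle', happ, hc⟩ := exists_frob_iter k₀ k FX hFb hle hFapp Xb π F hF m
  obtain ⟨j, hjq, hjp⟩ := exists_graph' q p hP.flip (iter F m)
  obtain ⟨d, hdq, hdp⟩ := exists_graph' q p hP.flip (𝟙 Xb)
  have hQ2 : 2 ≤ Nat.card k₀ ^ m := Nat.one_lt_pow hm0 Finite.one_lt_card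
  have hQk : ((Nat.card k₀ ^ m : ℕ) : k) = 0 := by
    haveI := Fintype.ofFinite k₀
    have h1 : ((Fintype.card k₀ : ℕ) : k₀) = 0 := FiniteField.cast_card_eq_zero k₀
    have h2 : ((Nat.card k₀ : ℕ) : k) = 0 := by
      rw [Nat.card_eq_fintype_card, ← map_natCast (algebraMap k₀ k), h1, map_zero]
    rw [Nat.cast_pow, h2, zero_pow hm0]
  have h1 := lefschetz T (iter F m) p q hP j d hjp hjq hdp hdq
  have h2 := tr_graph_mul_diag T f (Nat.card k₀ ^ m) hQ2 hQk FXm hb hle' happ Xb π hπ (iter F m) hc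
    Pb p q hP j d hjp hjq hdp hdq
  haveI hfin := finite_fixed f (Nat.card k₀ ^ m) hQ2 FXm hb hle' happ Xb π hπ (iter F m) hc
    Pb p q hP j d hjp hjq hdp hdq
  have hΦg : WeilCoh.sm (iter F m) ≫ Xb.obj.hom = Xb.obj.hom := sm_w _
  let e := Equiv.ofBijective _
    (toFixPts_bijective k₀ k f Xb.obj.hom π hπ FXm (WeilCoh.sm (iter F m)) hΦg hc)
  haveI : Finite {t : Spec (CommRingCat.of k) ⟶ X //
      t ≫ f = Spec.map (CommRingCat.ofHom (algebraMap k₀ k)) ∧ t ≫ FXm = t} :=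
    Finite.of_equiv _ e
  have h3 := natCard_fixPts k₀ k f m hm0 FXm hb hle' happ
  rw [← h3, ← Nat.card_congr e, ← h2, h1]
  refine Finset.sum_congr rfl (fun i _ => ?_)
  rw [pullDeg_iter]

include hFb hFapp hπ hF hP in
/-- S15452. -/
theorem zeta_main :
    PowerSeries.map (algebraMap ℚ K) (Zeta.zetaFun f) *
        (∏ i ∈ Finset.range (WeilCoh.dim Xb.obj.left + 1),
          ((LinearMap.charpoly (T.pullDeg F ((2 * i : ℕ) : ℤ))).reverse : PowerSeries K)) =
      ∏ i ∈ Finset.range (WeilCoh.dim Xb.obj.left),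
        ((LinearMap.charpoly (T.pullDeg F ((2 * i + 1 : ℕ) : ℤ))).reverse : PowerSeries K) :=
  zeta_glue (fun m => Zeta.nPts f m) (WeilCoh.dim Xb.obj.left) (fun j => ↥(T.gr Xb (j : ℤ)))
    (fun j => T.pullDeg F (j : ℤ))
    (fun m hm => trace_formula k₀ k K T f FX hFb hle hFapp Xb π hπ F hF Pb p q hP m hm)

end Main

end Groth.Agent.Lib.LeadZeta
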