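import Groth.Agent.Lib.LeadZetaFp
import Groth.Agent.Lib.LeadArithZeta
import Groth.Agent.Lib.Helper27LogDeriv

/-!
# The zeta function is multiplicative over partitions of the closed points (lead)
-/

set_option maxHeartbeats 400000
set_option autoImplicit false
set_option linter.style.haveILetI false
set_option linter.unusedSectionVars false

universe u

open AlgebraicGeometry CategoryTheory Limits

namespace Groth.Agent.Lib.LeadZetaPart

open Groth.Agent.Lib.LeadZeta Groth.Agent.Lib.Helper10.GaloisOrbit Groth.Agent.Lib.LeadPtCount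
  Groth.Agent.Lib.LeadZetaFp Groth.Agent.Lib.Helper27LogDeriv

section PS

open PowerSeries

/-- the exponential of a sum of logarithms -/
lemma expLog_prod {ι : Type*} (s : Finset ι) (N : ℕ → ℕ) (Ni : ι → ℕ → ℕ)
    (h : ∀ m, N m = ∑ i ∈ s, Ni i m) :
    (PowerSeries.exp ℚ).subst (PowerSeries.mk fun m => (N m : ℚ) / m) =
      ∏ i ∈ s, (PowerSeries.exp ℚ).subst (PowerSeries.mk fun m => (Ni i m : ℚ) / m) := by
  have hL0 : ∀ M : ℕ → ℕ, constantCoeff (PowerSeries.mk fun m : ℕ => (M m : ℚ) / m) = 0 := by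
    intro M
    rw [← coeff_zero_eq_constantCoeff_apply, coeff_mk]
    simp
  have hL : (PowerSeries.mk fun m : ℕ => (N m : ℚ) / m) =
      ∑ i ∈ s, PowerSeries.mk fun m : ℕ => (Ni i m : ℚ) / m := by
    ext m
    rw [map_sum, coeff_mk]
    simp only [coeff_mk]
    rw [h m, Nat.cast_sum, Finset.sum_div]
  have h1 : LD ((PowerSeries.exp ℚ).subst (PowerSeries.mk fun m => (N m : ℚ) / m))
      (d⁄dX ℚ (PowerSeries.mk fun m : ℕ => (N m : ℚ) / m)) := LD.exp_subst _ (hL0 N)
  have h2 := LD.prod s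
    (fun i => (PowerSeries.exp ℚ).subst (PowerSeries.mk fun m => (Ni i m : ℚ) / m))
    (fun i => d⁄dX ℚ (PowerSeries.mk fun m : ℕ => (Ni i m : ℚ) / m))
    (fun i _ => LD.exp_subst _ (hL0 (Ni i)))
  have h3 : d⁄dX ℚ (PowerSeries.mk fun m : ℕ => (N m : ℚ) / m) =
      ∑ i ∈ s, d⁄dX ℚ (PowerSeries.mk fun m : ℕ => (Ni i m : ℚ) / m) := by
    rw [hL, map_sum]
  refine LD.unique (h1.congr h3) h2 ?_
  rw [coeff_zero_exp_subst _ (hL0 N), coeff_zero_eq_constantCoeff_apply, map_prod]
  symm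
  refine Finset.prod_eq_one fun i _ => ?_
  rw [← coeff_zero_eq_constantCoeff_apply]
  exact coeff_zero_exp_subst _ (hL0 (Ni i))

end PS

section Deg

variable (k₀ : Type u) [Field k₀] {X Y : Scheme.{u}} (f : X ⟶ Spec (CommRingCat.of k₀))

lemma residueFieldMap_bijective (g : Y ⟶ X) [IsPreimmersion g] (y : Y) :
    Function.Bijective (g.residueFieldMap y).hom := by
  refine ⟨(g.residueFieldMap y).hom.injective, fun b => ?_⟩
  obtain ⟨b', rfl⟩ := IsLocalRing.residue_surjective b
  obtain ⟨a, ha⟩ := g.stalkMap_surjective y b'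
  refine ⟨IsLocalRing.residue _ a, ?_⟩
  change IsLocalRing.ResidueField.map (g.stalkMap y).hom (IsLocalRing.residue _ a) = _
  rw [IsLocalRing.ResidueField.map_residue, ← ha]

lemma resHom_comp_eq (g : Y ⟶ X) (y : Y) :
    resHom k₀ (g ≫ f) y = resHom k₀ f (g y) ≫ g.residueFieldMap y := by
  apply Spec.map_injective
  rw [Spec.map_comp, map_resHom, map_resHom,
    Scheme.Hom.SpecMap_residueFieldMap_fromSpecResidueField_assoc]

lemma residueDegree_comp (g : Y ⟶ X) [IsPreimmersion g] (y : Y) :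
    EGA4loc.residueDegree (g ≫ f) y = EGA4loc.residueDegree f (g y) := by
  letI a1 : Algebra k₀ (X.residueField (g y)) := (resHom k₀ f (g y)).hom.toAlgebra
  letI a2 : Algebra k₀ (Y.residueField y) := (resHom k₀ (g ≫ f) y).hom.toAlgebra
  have h1 : EGA4loc.residueDegree (g ≫ f) y = Module.finrank k₀ (Y.residueField y) :=
    residueDegree_eq_finrank_resHom k₀ (g ≫ f) y
  have h2 : EGA4loc.residueDegree f (g y) = Module.finrank k₀ (X.residueField (g y)) :=
    residueDegree_eq_finrank_resHom k₀ f (g y)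
  rw [h1, h2]
  symm
  refine Algebra.finrank_eq_of_equiv_equiv (RingEquiv.refl k₀)
    (RingEquiv.ofBijective (g.residueFieldMap y).hom (residueFieldMap_bijective g y)) ?_
  ext a
  change (resHom k₀ (g ≫ f) y).hom a = (g.residueFieldMap y).hom ((resHom k₀ f (g y)).hom a)
  rw [resHom_comp_eq k₀ f g y]
  rfl

end Deg

section Fin

variable (k₀ : Type u) [Field k₀] [Finite k₀] {X : Scheme.{u}}
  (f : X ⟶ Spec (CommRingCat.of k₀)) [LocallyOfFiniteType f]

omit [LocallyOfFiniteType f] in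
lemma natCard_residueField (x : X) (h : EGA4loc.residueDegree f x ≠ 0) :
    Nat.card (X.residueField x) = Nat.card k₀ ^ EGA4loc.residueDegree f x := by
  letI alg : Algebra k₀ (X.residueField x) := (resHom k₀ f x).hom.toAlgebra
  have hdeg : EGA4loc.residueDegree f x = Module.finrank k₀ (X.residueField x) :=
    residueDegree_eq_finrank_resHom k₀ f x
  rw [hdeg] at h ⊢
  haveI : Module.Finite k₀ (X.residueField x) :=
    Module.finite_of_finrank_pos (Nat.pos_of_ne_zero h)
  exact Module.natCard_eq_pow_finrank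

lemma finite_degree [QuasiCompact f] (e : ℕ) (he : e ≠ 0) :
    Finite {x : X // IsClosed ({x} : Set X) ∧ EGA4loc.residueDegree f x = e} := by
  by_cases hne : Nonempty {x : X // IsClosed ({x} : Set X) ∧ EGA4loc.residueDegree f x = e}
  · obtain ⟨⟨x₀, hx₀cl, hx₀⟩⟩ := hne
    have hq : Nat.card k₀ ^ e ≠ 0 := pow_ne_zero _ Nat.card_pos.ne'
    have hc₀ : Nat.card (X.residueField x₀) = Nat.card k₀ ^ e := by
      rw [natCard_residueField k₀ f x₀ (by rw [hx₀]; exact he), hx₀]
    obtain ⟨φ, hφ⟩ := Groth.Agent.Lib.LeadArithZeta.exists_injective_fiber X x₀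
      (Nat.card k₀ ^ e) hq hc₀
    haveI : Finite (X.residueField x₀) := Nat.finite_of_card_ne_zero (by rw [hc₀]; exact hq)
    haveI := finite_hom f (X.residueField x₀)
    have hψ : ∀ x : {x : X // IsClosed ({x} : Set X) ∧ EGA4loc.residueDegree f x = e},
        Groth.Agent.Lib.LeadArithZeta.Nc X x.1 = Nat.card k₀ ^ e := by
      rintro ⟨x, hcl, hx⟩
      rw [Groth.Agent.Lib.LeadArithZeta.Nc, if_pos hcl,
        natCard_residueField k₀ f x (by rw [hx]; exact he), hx]
    exact Finite.of_injective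
      (fun x : {x : X // IsClosed ({x} : Set X) ∧ EGA4loc.residueDegree f x = e} =>
        φ ⟨x.1, hψ x⟩)
      (fun a b h => Subtype.ext (Subtype.mk.inj (hφ h)))
  · haveI := not_nonempty_iff.mp hne
    infer_instance

end Fin

section Part

variable (k₀ : Type u) [Field k₀] [Finite k₀] {X : Scheme.{u}}
  (f : X ⟶ Spec (CommRingCat.of k₀)) [LocallyOfFiniteType f] [QuasiCompact f]
  {ι : Type*} [Fintype ι] (Y : ι → Scheme.{u}) (g : ∀ i, Y i ⟶ X) [∀ i, IsImmersion (g i)]
  (hpart : ∀ x : X, IsClosed ({x} : Set X) → ∃! i, x ∈ Set.range (g i).base)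

include hpart in
lemma degCount_eq_sum (e : ℕ) (he : e ≠ 0) :
    Zeta.degCount f e = ∑ i, Zeta.degCount (g i ≫ f) e := by
  classical
  haveI hfinB := finite_degree k₀ f e he
  have hdeg : ∀ (i : ι) (y : Y i), EGA4loc.residueDegree (g i ≫ f) y =
      EGA4loc.residueDegree f (g i y) := fun i y => residueDegree_comp k₀ f (g i) y
  let Φ : (Σ i, {y : Y i // IsClosed ({y} : Set (Y i)) ∧ EGA4loc.residueDegree (g i ≫ f) y = e}) →
      {x : X // IsClosed ({x} : Set X) ∧ EGA4loc.residueDegree f x = e} := fun z =>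
    ⟨g z.1 z.2.1, isClosed_of_residueDegree_ne_zero k₀ f _
      (by rw [← hdeg z.1 z.2.1, z.2.2.2]; exact he), by rw [← hdeg z.1 z.2.1, z.2.2.2]⟩
  have hinj : Function.Injective Φ := by
    rintro ⟨i, y, hy⟩ ⟨j, y', hy'⟩ h
    have hx : g i y = g j y' := congrArg Subtype.val h
    have hxcl : IsClosed ({g i y} : Set X) := (Φ ⟨i, y, hy⟩).2.1
    obtain ⟨i₀, -, huniq⟩ := hpart (g i y) hxcl
    have hi : i = i₀ := huniq i ⟨y, rfl⟩
    have hj : j = i₀ := huniq j ⟨y', hx.symm⟩
    subst hi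
    subst hj
    have hyy : y = y' := (g j).isEmbedding.injective hx
    subst hyy
    rfl
  have hsurj : Function.Surjective Φ := by
    rintro ⟨x, hcl, hx⟩
    obtain ⟨i, ⟨y, hy⟩, -⟩ := hpart x hcl
    have hy' : g i y = x := hy
    have hd : EGA4loc.residueDegree (g i ≫ f) y = e := by rw [hdeg i y, hy', hx]
    exact ⟨⟨i, y, isClosed_of_residueDegree_ne_zero k₀ (g i ≫ f) y (by rw [hd]; exact he), hd⟩,
      Subtype.ext hy'⟩
  haveI : ∀ i, Finite {y : Y i // IsClosed ({y} : Set (Y i)) ∧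
      EGA4loc.residueDegree (g i ≫ f) y = e} := fun i =>
    Finite.of_injective (fun y => Φ ⟨i, y⟩) (fun a b h => by
      have := hinj h
      exact eq_of_heq (Sigma.mk.inj this).2)
  unfold Zeta.degCount
  rw [← Nat.card_congr (Equiv.ofBijective Φ ⟨hinj, hsurj⟩), Nat.card_sigma]

include hpart in
lemma nPts_eq_sum (m : ℕ) : Zeta.nPts f m = ∑ i, Zeta.nPts (g i ≫ f) m := by
  unfold Zeta.nPts
  rw [Finset.sum_comm]
  refine Finset.sum_congr rfl fun e he => ?_
  rw [degCount_eq_sum k₀ f Y g hpart e (Nat.pos_of_mem_divisors he).ne', Finset.mul_sum]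

include hpart in
theorem zetaFun_eq_prod : Zeta.zetaFun f = ∏ i, Zeta.zetaFun (g i ≫ f) :=
  expLog_prod Finset.univ (Zeta.nPts f) (fun i => Zeta.nPts (g i ≫ f))
    (nPts_eq_sum k₀ f Y g hpart)

end Part

end Groth.Agent.Lib.LeadZetaPart
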