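import Groth.Agent.Lib.T2H6ParShC
import Groth.Agent.Lib.Helper2RelTildeExact
import Groth.Agent.Lib.Helper18OmLS15
import Groth.Agent.Lib.Helper20IdealModSec

set_option autoImplicit false
set_option linter.style.haveILetI false
set_option linter.unusedSectionVars false
universe u
open CategoryTheory CategoryTheory.Limits AlgebraicGeometry TopologicalSpace Opposite

namespace Groth.Agent.Lib.T1H3.ClSubSeq

variable {X : Scheme.{u}}

/-- sections of a morphism of modules, composition. -/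
theorem comp_app_apply {A B C : X.Modules} (φ : A ⟶ B) (ψ : B ⟶ C) (U : X.Opens) (s : Γ(A, U)) :
    (φ ≫ ψ).app U s = ψ.app U (φ.app U s) := rfl

theorem add_app_apply {A B : X.Modules} (φ ψ : A ⟶ B) (U : X.Opens) (s : Γ(A, U)) :
    (φ + ψ).app U s = φ.app U s + ψ.app U s := rfl

theorem neg_app_apply {A B : X.Modules} (φ : A ⟶ B) (U : X.Opens) (s : Γ(A, U)) :
    (-φ).app U s = -(φ.app U s) := rfl

/-- sections of a binary biproduct are determined by their components. -/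
theorem biprod_ext_app {A B : X.Modules} (U : X.Opens) (z z' : Γ(A ⊞ B, U))
    (h1 : (biprod.fst : A ⊞ B ⟶ A).app U z = (biprod.fst : A ⊞ B ⟶ A).app U z')
    (h2 : (biprod.snd : A ⊞ B ⟶ B).app U z = (biprod.snd : A ⊞ B ⟶ B).app U z') : z = z' := by
  have ht : (biprod.fst ≫ biprod.inl + biprod.snd ≫ biprod.inr : A ⊞ B ⟶ A ⊞ B) = 𝟙 _ :=
    biprod.total
  have e : ∀ w : Γ(A ⊞ B, U), w = (biprod.inl : A ⟶ A ⊞ B).app U ((biprod.fst : A ⊞ B ⟶ A).app U w) +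
      (biprod.inr : B ⟶ A ⊞ B).app U ((biprod.snd : A ⊞ B ⟶ B).app U w) := by
    intro w
    have := congrArg (fun θ : A ⊞ B ⟶ A ⊞ B => θ.app U w) ht
    exact this.symm
  rw [e z, e z', h1, h2]


section seq
variable (I₁ I₂ : X.IdealSheafData)

theorem toSubscheme_app_eq_zero_iff (I : X.IdealSheafData) {W : X.Opens} (hW : IsAffineOpen W)
    (a : Γ(X, W)) :
    (ClSub.toSubscheme I).app W (a : Γ(Coh.structureModule X, W)) = 0 ↔ a ∈ I.ideal ⟨W, hW⟩ := by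
  rw [← Scheme.IdealSheafData.ker_subschemeι_app I ⟨W, hW⟩, RingHom.mem_ker]
  rfl

theorem toSubscheme_app_surjective (I : X.IdealSheafData) {W : X.Opens} (hW : IsAffineOpen W)
    (s : Γ(ClSub.quotMod I, W)) :
    ∃ a : Γ(X, W), (ClSub.toSubscheme I).app W (a : Γ(Coh.structureModule X, W)) = s :=
  I.subschemeι_app_surjective ⟨W, hW⟩ s

variable (h : I₁ ⊓ I₂ = ⊥)

include h in
theorem mono_lift : Mono (biprod.lift (ClSub.toSubscheme I₁) (ClSub.toSubscheme I₂)) := by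
  refine Groth.Agent.Helper18OmLS.mono_of_injective_app_basis _ {U : X.Opens | IsAffineOpen U}
    X.isBasis_affineOpens ?_
  intro W hW
  rw [injective_iff_map_eq_zero]
  intro a ha
  have h1 : (ClSub.toSubscheme I₁).app W a = 0 := by
    have := congrArg ((biprod.fst : ClSub.quotMod I₁ ⊞ ClSub.quotMod I₂ ⟶ _).app W) ha
    rw [← comp_app_apply, biprod.lift_fst, map_zero] at this
    exact this
  have h2 : (ClSub.toSubscheme I₂).app W a = 0 := by
    have := congrArg ((biprod.snd : ClSub.quotMod I₁ ⊞ ClSub.quotMod I₂ ⟶ _).app W) ha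
    rw [← comp_app_apply, biprod.lift_snd, map_zero] at this
    exact this
  have h3 : (a : Γ(X, W)) ∈ (I₁ ⊓ I₂).ideal ⟨W, hW⟩ := by
    rw [Scheme.IdealSheafData.ideal_inf]
    exact ⟨(toSubscheme_app_eq_zero_iff I₁ hW a).1 h1, (toSubscheme_app_eq_zero_iff I₂ hW a).1 h2⟩
  rw [h, Scheme.IdealSheafData.ideal_bot] at h3
  exact h3


variable (q₁ : ClSub.quotMod I₁ ⟶ ClSub.quotMod (I₁ ⊔ I₂))
  (q₂ : ClSub.quotMod I₂ ⟶ ClSub.quotMod (I₁ ⊔ I₂))
  (hq₁ : ClSub.toSubscheme I₁ ≫ q₁ = ClSub.toSubscheme (I₁ ⊔ I₂))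
  (hq₂ : ClSub.toSubscheme I₂ ≫ q₂ = ClSub.toSubscheme (I₁ ⊔ I₂))

include hq₁ hq₂ in
theorem w_eq : biprod.lift (ClSub.toSubscheme I₁) (ClSub.toSubscheme I₂) ≫
    biprod.desc q₁ (-q₂) = 0 := by
  rw [biprod.lift_desc, Preadditive.comp_neg, hq₁, hq₂, add_neg_cancel]

include hq₁ in
theorem epi_desc : Epi (biprod.desc q₁ (-q₂)) := by
  haveI : Epi (ClSub.toSubscheme I₁ ≫ q₁) := by
    rw [hq₁]
    exact Groth.Agent.Lib.T2H6.ParShC.epi_toSubscheme _
  haveI : Epi q₁ := epi_of_epi (ClSub.toSubscheme I₁) q₁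
  haveI : Epi (biprod.inl ≫ biprod.desc q₁ (-q₂)) := by
    rw [biprod.inl_desc]
    infer_instance
  exact epi_of_epi biprod.inl _

include hq₁ hq₂ in
theorem exact_seq : (ShortComplex.mk _ _ (w_eq I₁ I₂ q₁ q₂ hq₁ hq₂)).Exact := by
  apply Groth.Agent.Lib.Helper2.RelTildeExact.exact_of_locally_exact
  intro V s hs x hx
  obtain ⟨W, hW, hxW, hWV⟩ := exists_isAffineOpen_mem_and_subset (x := x) (U := V) hx
  refine ⟨W, hWV, hxW, ?_⟩
  let s' : Γ(ClSub.quotMod I₁ ⊞ ClSub.quotMod I₂, W) :=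
    (ClSub.quotMod I₁ ⊞ ClSub.quotMod I₂).presheaf.map (homOfLE hWV).op s
  have hs' : (biprod.desc q₁ (-q₂)).app W s' = 0 := by
    have h1 := (biprod.desc q₁ (-q₂)).mapPresheaf.naturality (homOfLE hWV).op
    have h2 := congr($h1 s)
    refine h2.trans ?_
    change (ClSub.quotMod (I₁ ⊔ I₂)).presheaf.map (homOfLE hWV).op
      ((biprod.desc q₁ (-q₂)).app V s) = 0
    rw [show (biprod.desc q₁ (-q₂)).app V s = 0 from hs, map_zero]
  obtain ⟨a₁, ha₁⟩ := toSubscheme_app_surjective I₁ hW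
    ((biprod.fst : ClSub.quotMod I₁ ⊞ ClSub.quotMod I₂ ⟶ _).app W s')
  obtain ⟨a₂, ha₂⟩ := toSubscheme_app_surjective I₂ hW
    ((biprod.snd : ClSub.quotMod I₁ ⊞ ClSub.quotMod I₂ ⟶ _).app W s')
  have hd : biprod.desc q₁ (-q₂) = biprod.fst ≫ q₁ + biprod.snd ≫ (-q₂) := biprod.desc_eq
  have h3 : q₁.app W ((biprod.fst : ClSub.quotMod I₁ ⊞ ClSub.quotMod I₂ ⟶ _).app W s') -
      q₂.app W ((biprod.snd : ClSub.quotMod I₁ ⊞ ClSub.quotMod I₂ ⟶ _).app W s') = 0 := by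
    rw [hd] at hs'
    rw [add_app_apply, comp_app_apply, comp_app_apply, neg_app_apply] at hs'
    rw [sub_eq_add_neg]
    exact hs'
  have h4 : (ClSub.toSubscheme (I₁ ⊔ I₂)).app W
      ((a₁ - a₂ : Γ(X, W)) : Γ(Coh.structureModule X, W)) = 0 := by
    have e1 : (ClSub.toSubscheme (I₁ ⊔ I₂)).app W (a₁ : Γ(Coh.structureModule X, W)) =
        q₁.app W ((ClSub.toSubscheme I₁).app W (a₁ : Γ(Coh.structureModule X, W))) := by
      rw [← hq₁]; rfl
    have e2 : (ClSub.toSubscheme (I₁ ⊔ I₂)).app W (a₂ : Γ(Coh.structureModule X, W)) =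
        q₂.app W ((ClSub.toSubscheme I₂).app W (a₂ : Γ(Coh.structureModule X, W))) := by
      rw [← hq₂]; rfl
    have e3 := map_sub ((ClSub.toSubscheme (I₁ ⊔ I₂)).app W).hom
      (a₁ : Γ(Coh.structureModule X, W)) (a₂ : Γ(Coh.structureModule X, W))
    refine e3.trans ?_
    change (ClSub.toSubscheme (I₁ ⊔ I₂)).app W (a₁ : Γ(Coh.structureModule X, W)) -
      (ClSub.toSubscheme (I₁ ⊔ I₂)).app W (a₂ : Γ(Coh.structureModule X, W)) = 0
    rw [e1, e2, ha₁, ha₂]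
    exact h3
  have h5 : a₁ - a₂ ∈ (I₁ ⊔ I₂).ideal ⟨W, hW⟩ :=
    (toSubscheme_app_eq_zero_iff (I₁ ⊔ I₂) hW (a₁ - a₂)).1 h4
  rw [Scheme.IdealSheafData.ideal_sup] at h5
  obtain ⟨c₁, hc₁, c₂, hc₂, hc⟩ := Submodule.mem_sup.1 h5
  have hc₁' := (toSubscheme_app_eq_zero_iff I₁ hW c₁).2 hc₁
  have hc₂' := (toSubscheme_app_eq_zero_iff I₂ hW c₂).2 hc₂
  refine ⟨((a₁ - c₁ : Γ(X, W)) : Γ(Coh.structureModule X, W)), ?_⟩
  apply biprod_ext_app
  · change (biprod.fst : ClSub.quotMod I₁ ⊞ ClSub.quotMod I₂ ⟶ _).app W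
      ((biprod.lift (ClSub.toSubscheme I₁) (ClSub.toSubscheme I₂)).app W _) = _
    rw [← comp_app_apply, biprod.lift_fst]
    have e3 := map_sub ((ClSub.toSubscheme I₁).app W).hom
      (a₁ : Γ(Coh.structureModule X, W)) (c₁ : Γ(Coh.structureModule X, W))
    refine e3.trans ?_
    change (ClSub.toSubscheme I₁).app W (a₁ : Γ(Coh.structureModule X, W)) -
      (ClSub.toSubscheme I₁).app W (c₁ : Γ(Coh.structureModule X, W)) = _
    rw [hc₁', sub_zero, ha₁]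
    rfl
  · change (biprod.snd : ClSub.quotMod I₁ ⊞ ClSub.quotMod I₂ ⟶ _).app W
      ((biprod.lift (ClSub.toSubscheme I₁) (ClSub.toSubscheme I₂)).app W _) = _
    rw [← comp_app_apply, biprod.lift_snd]
    have e0 : a₁ - c₁ = a₂ + c₂ := by
      have : a₁ = a₂ + (c₁ + c₂) := by rw [hc]; ring
      rw [this]; ring
    rw [e0]
    have e3 := map_add ((ClSub.toSubscheme I₂).app W).hom
      (a₂ : Γ(Coh.structureModule X, W)) (c₂ : Γ(Coh.structureModule X, W))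
    refine e3.trans ?_
    change (ClSub.toSubscheme I₂).app W (a₂ : Γ(Coh.structureModule X, W)) +
      (ClSub.toSubscheme I₂).app W (c₂ : Γ(Coh.structureModule X, W)) = _
    rw [hc₂', add_zero, ha₂]
    rfl

include h hq₁ hq₂ in
/-- **S19606** -/
theorem main_S19606 :
    Epi (biprod.desc q₁ (-q₂)) ∧
      ∃ w : biprod.lift (ClSub.toSubscheme I₁) (ClSub.toSubscheme I₂) ≫ biprod.desc q₁ (-q₂) = 0,
        Nonempty (IsLimit (KernelFork.ofι
          (biprod.lift (ClSub.toSubscheme I₁) (ClSub.toSubscheme I₂)) w)) := by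
  refine ⟨epi_desc I₁ I₂ q₁ q₂ hq₁, w_eq I₁ I₂ q₁ q₂ hq₁ hq₂, ?_⟩
  haveI := mono_lift I₁ I₂ h
  exact ⟨(exact_seq I₁ I₂ q₁ q₂ hq₁ hq₂).fIsKernel⟩

end seq

end Groth.Agent.Lib.T1H3.ClSubSeq
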