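import Mathlib

/-!
# Orders of vanishing on a finite-dimensional space of elements of a discrete valuation ring (helper3)

Namespace `Groth.Agent.Lib.T1H3.DVRValues`.

Let `O` be a discrete valuation ring which is an algebra over a field `k` such that every element
of `O` is congruent to a constant modulo the maximal ideal.  If `V` is a finite-dimensional
`k`-vector space and `φ : V →ₗ[k] O` is injective, then `v ↦ ord (φ v)` takes exactly `dim V`
distinct values on `V ∖ {0}`.
-/

set_option autoImplicit false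
set_option linter.style.haveILetI false
universe u v w

namespace Groth.Agent.Lib.T1H3.DVRValues

variable {O : Type u} [CommRing O] [IsDomain O] [IsDiscreteValuationRing O]

lemma ord_unit_mul_pow {ϖ : O} (hϖ : Irreducible ϖ) (u : Oˣ) (j : ℕ) :
    Ring.ord O ((u : O) * ϖ ^ j) = j := by
  rw [Ring.ord_mul_of_isUnit_left u.isUnit, Ring.ord_pow (mem_nonZeroDivisors_of_ne_zero hϖ.ne_zero),
    Ring.ord_of_irreducible hϖ]
  simp

lemma ord_pow_mul {ϖ : O} (hϖ : Irreducible ϖ) (j : ℕ) {y : O} (hy : y ≠ 0) :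
    Ring.ord O (ϖ ^ j * y) = j + Ring.ord O y := by
  rw [Ring.ord_mul O (mem_nonZeroDivisors_of_ne_zero hy),
    Ring.ord_pow (mem_nonZeroDivisors_of_ne_zero hϖ.ne_zero), Ring.ord_of_irreducible hϖ]
  simp

lemma pow_dvd_of_le_ord {ϖ : O} (hϖ : Irreducible ϖ) {x : O} (hx : x ≠ 0) {j : ℕ}
    (h : (j : ℕ∞) ≤ Ring.ord O x) : ϖ ^ j ∣ x := by
  obtain ⟨i, u, rfl⟩ := IsDiscreteValuationRing.eq_unit_mul_pow_irreducible hx hϖ
  rw [ord_unit_mul_pow hϖ] at h
  have hij : j ≤ i := by exact_mod_cast h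
  exact Dvd.dvd.mul_left (pow_dvd_pow ϖ hij) _

lemma ord_ne_top' {x : O} (hx : x ≠ 0) : Ring.ord O x ≠ ⊤ :=
  Ring.ord_ne_top (mem_nonZeroDivisors_of_ne_zero hx)

lemma isUnit_of_not_dvd {ϖ : O} (hϖ : Irreducible ϖ) {y : O} (h : ¬ ϖ ∣ y) : IsUnit y := by
  by_contra hu
  apply h
  have : y ∈ IsLocalRing.maximalIdeal O := (IsLocalRing.mem_maximalIdeal y).mpr hu
  rw [hϖ.maximalIdeal_eq] at this
  exact Ideal.mem_span_singleton.mp this

variable {k : Type v} [Field k] [Algebra k O]

/-- The main counting statement, in terms of `Set.encard`. -/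
theorem encard_ord_image (hres : ∀ r : O, ∃ a : k, r - algebraMap k O a ∈ IsLocalRing.maximalIdeal O)
    (n : ℕ) : ∀ (V : Type w) [AddCommGroup V] [Module k V] [FiniteDimensional k V]
      (φ : V →ₗ[k] O), Function.Injective φ → Module.finrank k V = n →
      ((fun v : V => Ring.ord O (φ v)) '' {v | v ≠ 0}).encard = n := by
  induction n with
  | zero =>
    intro V _ _ _ φ _ hV
    haveI : Subsingleton V := Module.finrank_zero_iff.mp hV
    have : {v : V | v ≠ 0} = ∅ := by
      ext v; simp [Subsingleton.elim v 0]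
    rw [this, Set.image_empty, Set.encard_empty]; rfl
  | succ n ih =>
    intro V _ _ _ φ hφ hV
    obtain ⟨ϖ, hϖ⟩ := IsDiscreteValuationRing.exists_irreducible O
    set N : V → ℕ∞ := fun v => Ring.ord O (φ v) with hN
    set S : Set ℕ∞ := N '' {v | v ≠ 0} with hS
    haveI : Nontrivial V := Module.nontrivial_of_finrank_pos (R := k) (by omega)
    have hSne : S.Nonempty := by
      obtain ⟨v, hv⟩ := exists_ne (0 : V)
      exact ⟨N v, v, hv, rfl⟩
    obtain ⟨v₀, hv₀, hmin⟩ : ∃ v₀ : V, v₀ ≠ 0 ∧ ∀ v : V, v ≠ 0 → N v₀ ≤ N v := by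
      obtain ⟨v₀, hv₀, hv₀S⟩ := csInf_mem hSne
      exact ⟨v₀, hv₀, fun v hv => hv₀S ▸ csInf_le' ⟨v, hv, rfl⟩⟩
    have hφne : ∀ v : V, v ≠ 0 → φ v ≠ 0 := fun v hv h0 => hv (hφ (by rw [h0, map_zero]))
    obtain ⟨a, ha⟩ : ∃ a : ℕ, N v₀ = a := by
      have := ord_ne_top' (hφne v₀ hv₀)
      exact ⟨(N v₀).toNat, (ENat.natCast_toNat this).symm⟩
    -- factor out ϖ ^ a
    have hq : ∀ v : V, ∃ y : O, φ v = ϖ ^ a * y := fun v => by
      by_cases hv : v = 0
      · exact ⟨0, by rw [hv, map_zero, mul_zero]⟩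
      · exact pow_dvd_of_le_ord hϖ (hφne v hv) (ha ▸ hmin v hv)
    obtain ⟨u₀, hu₀⟩ := hq v₀
    have hu₀ne : u₀ ≠ 0 := by
      rintro rfl
      rw [mul_zero] at hu₀
      exact hφne v₀ hv₀ hu₀
    have hu₀unit : IsUnit u₀ := by
      apply isUnit_of_not_dvd hϖ
      rintro ⟨z, rfl⟩
      have hz : z ≠ 0 := by rintro rfl; exact hu₀ne (mul_zero _)
      have h1 : N v₀ = (a + 1 : ℕ) + Ring.ord O z := by
        show Ring.ord O (φ v₀) = _
        rw [hu₀, ← mul_assoc, ← pow_succ, ord_pow_mul hϖ _ hz]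
      rw [ha] at h1
      have h2 : ((a + 1 : ℕ) : ℕ∞) ≤ a := by
        rw [h1]; exact le_self_add
      have : a + 1 ≤ a := by exact_mod_cast h2
      omega
    -- the subspace of elements of higher order
    let W : Submodule k V :=
      ((Ideal.span {ϖ ^ (a + 1)} : Ideal O).restrictScalars k).comap φ
    have hW : ∀ v : V, v ∈ W ↔ ϖ ^ (a + 1) ∣ φ v := fun v => by
      show φ v ∈ (Ideal.span {ϖ ^ (a + 1)} : Ideal O) ↔ _
      exact Ideal.mem_span_singleton
    have hv₀W : v₀ ∉ W := by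
      rw [hW]
      rintro ⟨z, hz⟩
      rw [hu₀, pow_succ, mul_assoc] at hz
      have := mul_left_cancel₀ (pow_ne_zero a hϖ.ne_zero) hz
      have hnu : ¬ IsUnit u₀ := by
        rw [this]
        intro hu
        exact hϖ.not_isUnit (isUnit_of_mul_isUnit_left hu)
      exact hnu hu₀unit
    have hNW : ∀ v : V, v ∈ W → v ≠ 0 → (a : ℕ∞) < N v := fun v hvW hv => by
      obtain ⟨z, hz⟩ := (hW v).mp hvW
      have hz0 : z ≠ 0 := by
        rintro rfl
        rw [mul_zero] at hz
        exact hφne v hv hz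
      show (a : ℕ∞) < Ring.ord O (φ v)
      rw [hz, ord_pow_mul hϖ _ hz0]
      have : (a : ℕ∞) < ((a + 1 : ℕ) : ℕ∞) := by exact_mod_cast Nat.lt_succ_self a
      exact lt_of_lt_of_le this le_self_add
    have hNnW : ∀ v : V, v ∉ W → N v = a := fun v hvW => by
      obtain ⟨y, hy⟩ := hq v
      have hyu : IsUnit y := by
        apply isUnit_of_not_dvd hϖ
        rintro ⟨z, rfl⟩
        apply hvW
        rw [hW, hy, pow_succ, ← mul_assoc]
        exact Dvd.intro z rfl
      show Ring.ord O (φ v) = a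
      rw [hy, mul_comm]
      exact ord_unit_mul_pow hϖ hyu.unit a
    -- decomposition
    have hdec : ∀ v : V, ∃ l : k, v - l • v₀ ∈ W := fun v => by
      obtain ⟨y, hy⟩ := hq v
      obtain ⟨w₀, hw₀⟩ := hu₀unit
      obtain ⟨l, hl⟩ := hres (y * ((w₀⁻¹ : Oˣ) : O))
      rw [hϖ.maximalIdeal_eq, Ideal.mem_span_singleton] at hl
      obtain ⟨z, hz⟩ := hl
      refine ⟨l, ?_⟩
      rw [hW, map_sub, map_smul, hy, hu₀, ← hw₀, Algebra.smul_def]
      refine ⟨(w₀ : O) * z, ?_⟩
      have : y = (y * ((w₀⁻¹ : Oˣ) : O)) * (w₀ : O) := by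
        rw [mul_assoc, Units.inv_mul, mul_one]
      have hz' : y * ((w₀⁻¹ : Oˣ) : O) = ϖ * z + algebraMap k O l := by
        rw [← hz]; ring
      rw [this, hz', pow_succ]
      ring
    have hsup : W ⊔ Submodule.span k {v₀} = ⊤ := by
      rw [eq_top_iff]
      intro v _
      obtain ⟨l, hl⟩ := hdec v
      have : v = (v - l • v₀) + l • v₀ := by abel
      rw [this]
      exact Submodule.add_mem_sup hl (Submodule.smul_mem _ _ (Submodule.mem_span_singleton_self v₀))
    have hinf : W ⊓ Submodule.span k {v₀} = ⊥ := by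
      rw [eq_bot_iff]
      rintro v ⟨hvW, hvs⟩
      obtain ⟨l, rfl⟩ := Submodule.mem_span_singleton.mp hvs
      by_cases hl : l = 0
      · rw [hl, zero_smul]; exact Submodule.zero_mem _
      · exfalso
        apply hv₀W
        have := W.smul_mem l⁻¹ hvW
        rwa [smul_smul, inv_mul_cancel₀ hl, one_smul] at this
    have hfinW : Module.finrank k W = n := by
      have h1 := Submodule.finrank_sup_add_finrank_inf_eq W (Submodule.span k {v₀})
      rw [hsup, hinf, finrank_top, finrank_bot, add_zero, finrank_span_singleton hv₀, hV] at h1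
      omega
    have hIH := ih W (φ.comp W.subtype) (hφ.comp W.injective_subtype) hfinW
    have hSeq : S = insert (a : ℕ∞)
        ((fun w : W => Ring.ord O ((φ.comp W.subtype) w)) '' {w | w ≠ 0}) := by
      ext t
      constructor
      · rintro ⟨v, hv, rfl⟩
        by_cases hvW : v ∈ W
        · right
          exact ⟨⟨v, hvW⟩, fun h => hv (congrArg Subtype.val h), rfl⟩
        · left
          exact hNnW v hvW
      · rintro (rfl | ⟨w, hw, rfl⟩)
        · exact ⟨v₀, hv₀, ha⟩
        · exact ⟨w.1, fun h => hw (Subtype.ext h), rfl⟩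
    have hnotin : (a : ℕ∞) ∉
        ((fun w : W => Ring.ord O ((φ.comp W.subtype) w)) '' {w | w ≠ 0}) := by
      rintro ⟨w, hw, hwa⟩
      have := hNW w.1 w.2 (fun h => hw (Subtype.ext h))
      have hwa' : N w.1 = a := hwa
      rw [hwa'] at this
      exact lt_irrefl _ this
    show S.encard = _
    rw [hSeq, Set.encard_insert_of_notMem hnotin, hIH]
    rfl

/-- The main counting statement, in terms of `Set.ncard`. -/
theorem ncard_ord_image (hres : ∀ r : O, ∃ a : k, r - algebraMap k O a ∈ IsLocalRing.maximalIdeal O)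
    {V : Type w} [AddCommGroup V] [Module k V] [FiniteDimensional k V]
    (φ : V →ₗ[k] O) (hφ : Function.Injective φ) :
    ((fun v : V => Ring.ord O (φ v)) '' {v | v ≠ 0}).ncard = Module.finrank k V := by
  have := encard_ord_image hres (Module.finrank k V) V φ hφ rfl
  rw [Set.ncard, this]
  rfl

end Groth.Agent.Lib.T1H3.DVRValues
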