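import Mathlib
import Groth.Prelude.Def_Magnet3
import Groth.Agent.Lib.Helper2FormalEt

/-!
# Formally unramified morphisms and functors of maps out of `B ⊗ T`

`ext_of_thickening`: two morphisms `B ⊗ T' ⟶ X` over `S` which agree on `B ⊗ T₀` for a nilpotent
thickening `T₀ ⟶ T'` and agree after composing with a formally unramified `f : X ⟶ Y` are equal.
-/

set_option autoImplicit false
set_option linter.style.haveILetI false
universe u

open CategoryTheory CategoryTheory.Limits MonoidalCategory CartesianMonoidalCategory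
  AlgebraicGeometry Opposite

namespace Groth.Agent.Lib.T2H3.MagnetUnram

variable {S : Scheme.{u}}

/-- the square `B ×_S T₀ ⟶ B ×_S T'` over `u : T₀ ⟶ T'` is cartesian. -/
theorem isPullback_whiskerLeft (B : Over S) {T₀ T' : Over S} (u : T₀ ⟶ T') :
    IsPullback (B ◁ u).left (pullback.snd B.hom T₀.hom) (pullback.snd B.hom T'.hom) u.left := by
  refine IsPullback.of_right (h₁₂ := pullback.fst B.hom T'.hom) (v₁₃ := B.hom) (h₂₂ := T'.hom)
    ?_ ?_ (IsPullback.of_hasPullback B.hom T'.hom)
  · have h1 : (B ◁ u).left ≫ pullback.fst B.hom T'.hom = pullback.fst B.hom T₀.hom :=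
      Over.whiskerLeft_left_fst u
    rw [h1, Over.w u]
    exact IsPullback.of_hasPullback B.hom T₀.hom
  · exact Over.whiskerLeft_left_snd u

/-- morphisms out of `B ⊗ T'` into the source of a formally unramified morphism are determined by
their restriction to a nilpotent thickening and their composite with it. -/
theorem ext_of_thickening (B : Over S) {T₀ T' : Over S} (u : T₀ ⟶ T') [IsClosedImmersion u.left]
    [Surjective u.left] (hu : IsNilpotent u.left.ker) {X Y : Over S} (f : X ⟶ Y)
    [FormallyUnramified f.left] (φ₁ φ₂ : B ⊗ T' ⟶ X) (h1 : (B ◁ u) ≫ φ₁ = (B ◁ u) ≫ φ₂)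
    (h2 : φ₁ ≫ f = φ₂ ≫ f) : φ₁ = φ₂ := by
  have hsq := isPullback_whiskerLeft B u
  haveI : IsClosedImmersion (B ◁ u).left := MorphismProperty.of_isPullback hsq.flip ‹_›
  have hnil : IsNilpotent (B ◁ u).left.ker := by
    have e : (B ◁ u).left = hsq.isoPullback.hom ≫ pullback.fst (pullback.snd B.hom T'.hom) u.left :=
      (IsPullback.isoPullback_hom_fst hsq).symm
    rw [e, Scheme.Hom.ker_comp_of_isIso]
    exact Groth.Agent.Lib.Helper2.FormalEt.isNilpotent_ker_fst u.left hu _
  apply Over.OverMorphism.ext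
  refine FormallyUnramified.hom_ext (B ◁ u).left hnil f.left ?_ ?_
  · rw [← Over.comp_left, ← Over.comp_left, h1]
  · rw [← Over.comp_left, ← Over.comp_left, h2]

/-- `Spec` of a surjection with square-zero kernel is a nilpotent thickening. -/
theorem spec_nilpotent_of_surjective {R R₀ : CommRingCat.{u}} (φ : R ⟶ R₀)
    (hφ : Function.Surjective φ.hom) (hker : RingHom.ker φ.hom ^ 2 = ⊥) :
    IsNilpotent (Spec.map φ).ker ∧ Surjective (Spec.map φ) := by
  let e : (R ⧸ RingHom.ker φ.hom) ≃+* R₀ := RingHom.quotientKerEquivOfSurjective hφ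
  have hfac : φ = CommRingCat.ofHom (Ideal.Quotient.mk (RingHom.ker φ.hom)) ≫
      CommRingCat.ofHom e.toRingHom := by
    ext x
    rfl
  have hiso : IsIso (CommRingCat.ofHom e.toRingHom) :=
    (e.toCommRingCatIso).isIso_hom
  constructor
  · rw [hfac, Spec.map_comp, Scheme.Hom.ker_comp_of_isIso]
    exact Groth.Agent.Lib.Helper2.FormalEt.spec_nilpotent _ _ hker
  · rw [hfac, Spec.map_comp]
    haveI : Surjective (Spec.map (CommRingCat.ofHom (Ideal.Quotient.mk (RingHom.ker φ.hom)))) :=
      ⟨fun y => Groth.Agent.Lib.Helper2.FormalEt.surj_specMap_mk _ _ hker y⟩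
    infer_instance

end Groth.Agent.Lib.T2H3.MagnetUnram
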