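import Mathlib
import Groth.Agent.Lib.T2H3MagnetUnram

set_option autoImplicit false
set_option linter.style.haveILetI false
universe u
open TrivSqZeroExt KaehlerDifferential

namespace Groth.Agent.Lib.T1H3.DualNumUnram

section alg
variable {k B : Type u} [Field k] [CommRing B] [Algebra k B]

/-- a nontrivial finite module has a simple quotient `B ⧸ m`. -/
theorem exists_surjective_quotient_maximal (M : Type u) [AddCommGroup M] [Module B M]
    [Module.Finite B M] [Nontrivial M] :
    ∃ (m : Ideal B) (_ : m.IsMaximal) (l : M →ₗ[B] B ⧸ m), Function.Surjective l := by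
  obtain h | ⟨N, hN, -⟩ := IsCoatomic.eq_top_or_exists_le_coatom (⊥ : Submodule B M)
  · exact absurd h bot_ne_top
  · have hs : IsSimpleModule B (M ⧸ N) := isSimpleModule_iff_isCoatom.mpr hN
    obtain ⟨m, hm, ⟨e⟩⟩ := isSimpleModule_iff_quot_maximal.mp hs
    exact ⟨m, hm, e.toLinearMap.comp N.mkQ, e.surjective.comp N.mkQ_surjective⟩

/-- the algebra map `B → k[ε]`, `b ↦ ev b + δ b ε`, attached to a point `ev` and an `ev`-derivation `δ`. -/
noncomputable def dualHom (ev : B →ₐ[k] k) (δ : B →ₗ[k] k)
    (hδ : ∀ a b, δ (a * b) = ev a * δ b + ev b * δ a) : B →ₐ[k] DualNumber k :=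
  AlgHom.ofLinearMap ((inlAlgHom k k k).toLinearMap ∘ₗ ev.toLinearMap + (inrHom k k).restrictScalars k ∘ₗ δ)
    (by
      have h1 : δ 1 = 0 := by
        have := hδ 1 1
        simp only [mul_one, map_one, one_mul] at this
        have h2 : δ 1 + δ 1 - δ 1 = δ 1 - δ 1 := by rw [← this]
        simpa using h2
      ext <;> simp [h1])
    (by
      intro a b
      ext
      · simp
      · simp [hδ]
        ring)

theorem fst_dualHom (ev : B →ₐ[k] k) (δ : B →ₗ[k] k)
    (hδ : ∀ a b, δ (a * b) = ev a * δ b + ev b * δ a) (b : B) :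
    (dualHom ev δ hδ b).fst = ev b := by
  simp [dualHom]

theorem snd_dualHom (ev : B →ₐ[k] k) (δ : B →ₗ[k] k)
    (hδ : ∀ a b, δ (a * b) = ev a * δ b + ev b * δ a) (b : B) :
    (dualHom ev δ hδ b).snd = δ b := by
  simp [dualHom]

theorem formallyUnramified_of_dualNumber [IsAlgClosed k] [Algebra.FiniteType k B]
    (H : ∀ φ₁ φ₂ : B →ₐ[k] DualNumber k,
      (fstHom k k k).comp φ₁ = (fstHom k k k).comp φ₂ → φ₁ = φ₂) :
    Algebra.FormallyUnramified k B := by
  constructor
  by_contra hne
  rw [not_subsingleton_iff_nontrivial] at hne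
  obtain ⟨m, hm, l, hl⟩ := exists_surjective_quotient_maximal (B := B) Ω[B⁄k]
  letI := Ideal.Quotient.field m
  haveI : Algebra.FiniteType k (B ⧸ m) :=
    Algebra.FiniteType.of_surjective (Ideal.Quotient.mkₐ k m) Ideal.Quotient.mk_surjective
  haveI : Module.Finite k (B ⧸ m) := finite_of_finite_type_of_isJacobsonRing k (B ⧸ m)
  have hbij : Function.Bijective (algebraMap k (B ⧸ m)) :=
    IsAlgClosed.algebraMap_bijective_of_isIntegral
  let e : k ≃ₐ[k] (B ⧸ m) := AlgEquiv.ofBijective (Algebra.ofId k (B ⧸ m)) hbij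
  let ev : B →ₐ[k] k := (e.symm : (B ⧸ m) →ₐ[k] k).comp (Ideal.Quotient.mkₐ k m)
  let δ : B →ₗ[k] k :=
    e.symm.toLinearMap ∘ₗ (l.restrictScalars k) ∘ₗ (KaehlerDifferential.D k B).toLinearMap
  have hδ : ∀ a b, δ (a * b) = ev a * δ b + ev b * δ a := by
    intro a b
    change e.symm (l (KaehlerDifferential.D k B (a * b))) =
      e.symm (Ideal.Quotient.mk m a) * e.symm (l (KaehlerDifferential.D k B b)) +
        e.symm (Ideal.Quotient.mk m b) * e.symm (l (KaehlerDifferential.D k B a))
    rw [Derivation.leibniz, map_add, map_smul, map_smul, ← map_mul, ← map_mul, ← map_add]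
    rfl
  have h0 := H ((inlAlgHom k k k).comp ev) (dualHom ev δ hδ) (by
    ext b
    simp [fst_dualHom])
  have hδ0 : ∀ b, l (KaehlerDifferential.D k B b) = 0 := by
    intro b
    have h1 := congrArg (fun φ : B →ₐ[k] DualNumber k => (φ b).snd) h0
    simp only [snd_dualHom] at h1
    have h2 : δ b = 0 := by
      rw [← h1]
      simp
    exact (EmbeddingLike.map_eq_zero_iff (f := e.symm)).mp h2
  have hl0 : l = 0 := by
    apply LinearMap.ext_on_range (KaehlerDifferential.span_range_derivation k B)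
    intro b
    rw [hδ0, LinearMap.zero_apply]
  obtain ⟨x, hx⟩ := hl 1
  rw [hl0, LinearMap.zero_apply] at hx
  exact zero_ne_one hx

end alg


section scheme
open CategoryTheory AlgebraicGeometry

theorem main_S18905 (k : Type u) [Field k] [IsAlgClosed k]
    {X : Scheme.{u}} (p : X ⟶ Spec (CommRingCat.of k)) [LocallyOfFiniteType p] :
    FormallyUnramified p ↔
      ∀ v₁ v₂ : Spec (CommRingCat.of (DualNumber k)) ⟶ X,
        v₁ ≫ p = Spec.map (CommRingCat.ofHom (algebraMap k (DualNumber k))) →
        v₂ ≫ p = Spec.map (CommRingCat.ofHom (algebraMap k (DualNumber k))) →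
        Spec.map (CommRingCat.ofHom (TrivSqZeroExt.fstHom k k k).toRingHom) ≫ v₁ =
          Spec.map (CommRingCat.ofHom (TrivSqZeroExt.fstHom k k k).toRingHom) ≫ v₂ →
        v₁ = v₂ := by
  constructor
  · intro hp v₁ v₂ h1 h2 h12
    have hsurj : Function.Surjective
        (CommRingCat.ofHom (TrivSqZeroExt.fstHom k k k).toRingHom).hom :=
      fun x => ⟨TrivSqZeroExt.inl x, rfl⟩
    have hker : RingHom.ker (CommRingCat.ofHom (TrivSqZeroExt.fstHom k k k).toRingHom).hom ^ 2 = ⊥ :=
      TrivSqZeroExt.kerIdeal_sq k k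
    obtain ⟨hnil, -⟩ := Groth.Agent.Lib.T2H3.MagnetUnram.spec_nilpotent_of_surjective _ hsurj hker
    haveI : IsClosedImmersion (Spec.map (CommRingCat.ofHom (TrivSqZeroExt.fstHom k k k).toRingHom)) :=
      IsClosedImmersion.spec_of_surjective _ hsurj
    exact FormallyUnramified.hom_ext _ hnil p h12 (h1.trans h2.symm)
  · intro H
    rw [IsZariskiLocalAtSource.iff_of_openCover (P := @FormallyUnramified) X.affineOpenCover.openCover]
    intro i
    obtain ⟨ψ, hψ⟩ : ∃ ψ : CommRingCat.of k ⟶ X.affineOpenCover.X i,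
        Spec.map ψ = X.affineOpenCover.f i ≫ p := ⟨Spec.preimage _, Spec.map_preimage _⟩
    have hft : LocallyOfFiniteType (Spec.map ψ) := by rw [hψ]; infer_instance
    rw [HasRingHomProperty.Spec_iff (P := @LocallyOfFiniteType)] at hft
    change FormallyUnramified (X.affineOpenCover.f i ≫ p)
    rw [← hψ, HasRingHomProperty.Spec_iff (P := @FormallyUnramified)]
    letI : Algebra k (X.affineOpenCover.X i) := ψ.hom.toAlgebra
    haveI : Algebra.FiniteType k (X.affineOpenCover.X i) := hft
    change Algebra.FormallyUnramified k (X.affineOpenCover.X i)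
    apply formallyUnramified_of_dualNumber
    intro φ₁ φ₂ h12
    have key : ∀ φ : X.affineOpenCover.X i →ₐ[k] DualNumber k,
        (Spec.map (CommRingCat.ofHom φ.toRingHom) ≫ X.affineOpenCover.f i) ≫ p =
          Spec.map (CommRingCat.ofHom (algebraMap k (DualNumber k))) := by
      intro φ
      rw [Category.assoc, ← hψ, ← Spec.map_comp]
      congr 1
      exact CommRingCat.hom_ext (RingHom.ext fun x => φ.commutes x)
    have h := H _ _ (key φ₁) (key φ₂) (by
      rw [← Category.assoc, ← Category.assoc, ← Spec.map_comp, ← Spec.map_comp]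
      congr 2
      exact CommRingCat.hom_ext (RingHom.ext fun x => congr($h12 x)))
    rw [cancel_mono] at h
    have h' := Spec.map_injective h
    exact AlgHom.ext fun x => congr($h' x)

end scheme

end Groth.Agent.Lib.T1H3.DualNumUnram
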