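import Mathlib
import Groth.Prelude.Def_W4c5flasquetoriphsGLat
import Groth.Agent.S18675

/-!
# Lattices over a finite group: extensions and coflasque resolutions of the second kind (helper3)

Namespace `Groth.Agent.Lib.T1H3.GLatRes`.
-/

set_option autoImplicit false
set_option linter.style.haveILetI false

namespace Groth.Agent.Lib.T1H3.GLatRes

open GLat Groth.Agent.S18675

variable {G : Type} [Group G]

section Ext

variable {M N E : Type*} [AddCommGroup M] [AddCommGroup N] [AddCommGroup E]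
  {ρM : Representation ℤ G M} {ρE : Representation ℤ G E} {ρN : Representation ℤ G N}
  {i : M →ₗ[ℤ] E} {π : E →ₗ[ℤ] N}

/-- An extension of a coflasque module by a coflasque module is coflasque. -/
theorem isCoflasque_of_exact (hi : IsEquivariant ρM ρE i) (hπ : IsEquivariant ρE ρN π)
    (hinj : Function.Injective i) (hsurj : Function.Surjective π)
    (hex : LinearMap.range i = LinearMap.ker π)
    (hM : IsCoflasque ρM) (hN : IsCoflasque ρN) : IsCoflasque ρE := by
  intro H f hf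
  obtain ⟨n, hn⟩ := hN H (fun a => π (f a)) (fun a b => by
    show π (f (a * b)) = π (f a) + ρN (a : G) (π (f b))
    rw [hf, map_add, hπ])
  obtain ⟨e, rfl⟩ := hsurj n
  have hker : ∀ a : H, f a - (ρE (a : G) e - e) ∈ LinearMap.range i := by
    intro a
    rw [hex, LinearMap.mem_ker, map_sub, map_sub, hn a, hπ]
    abel
  choose m hm using hker
  obtain ⟨m₀, hm₀⟩ := hM H m (by
    intro a b
    apply hinj
    rw [map_add, hi, hm, hm, hm, hf]
    have h1 : ρE ((a * b : H) : G) e = ρE (a : G) (ρE (b : G) e) := by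
      rw [Subgroup.coe_mul, map_mul]; rfl
    rw [h1, map_sub, map_sub]
    abel)
  refine ⟨e + i m₀, fun a => ?_⟩
  have h1 := hm a
  rw [hm₀ a, map_sub, hi] at h1
  rw [map_add]
  have h2 : f a = (ρE (a : G) (i m₀) - i m₀) + (ρE (a : G) e - e) := by
    rw [h1]; abel
  rw [h2]; abel

end Ext

section Perm

variable {X : Type} [MulAction G X]

theorem isPermutation_permRep : IsPermutation (permRep G X) := by
  refine ⟨X, Finsupp.basisSingleOne, fun g x => ⟨g • x, ?_⟩⟩
  rw [Finsupp.coe_basisSingleOne]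
  exact permRep_single g x 1

theorem isCoflasque_permRep [Finite G] : IsCoflasque (permRep G X) := by
  intro H f hf
  exact h1_perm (X := X) H f hf

end Perm

section Coind

/-- The `G`-set `G × J` with `G` acting on the first factor. -/
def GJ (G : Type) (J : Type) : Type := G × J

instance (J : Type) : MulAction G (GJ G J) where
  smul g x := (g * x.1, x.2)
  one_smul x := by
    show ((1 : G) * x.1, x.2) = x
    rw [one_mul]
    rfl
  mul_smul g h x := by
    show ((g * h) * x.1, x.2) = (g * (h * x.1), x.2)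
    rw [mul_assoc]

lemma GJ_smul_def (J : Type) (g : G) (x : GJ G J) : g • x = ((g * x.1, x.2) : G × J) := rfl

instance (J : Type) [Finite G] [Finite J] : Finite (GJ G J) := inferInstanceAs (Finite (G × J))

variable [Finite G] {A : Type} [AddCommGroup A] [Module.Finite ℤ A] [Module.Free ℤ A]
  (ρ : Representation ℤ G A)

/-- The embedding of a lattice into a permutation lattice (the coinduced module). -/
noncomputable def coindEmb :
    A →ₗ[ℤ] (GJ G (Module.Free.ChooseBasisIndex ℤ A) →₀ ℤ) :=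
  (Finsupp.linearEquivFunOnFinite ℤ ℤ (GJ G (Module.Free.ChooseBasisIndex ℤ A))).symm.toLinearMap ∘ₗ
    LinearMap.pi (fun x : GJ G (Module.Free.ChooseBasisIndex ℤ A) =>
      ((Module.Free.chooseBasis ℤ A).coord x.2) ∘ₗ (ρ x.1⁻¹))

lemma coindEmb_apply (a : A) (x : GJ G (Module.Free.ChooseBasisIndex ℤ A)) :
    coindEmb ρ a x = (Module.Free.chooseBasis ℤ A).coord x.2 (ρ x.1⁻¹ a) := rfl

lemma coindEmb_equivariant :
    IsEquivariant ρ (permRep G (GJ G (Module.Free.ChooseBasisIndex ℤ A))) (coindEmb ρ) := by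
  intro g a
  ext x
  rw [permRep_apply, mapDomain_smul_apply, coindEmb_apply, coindEmb_apply, GJ_smul_def]
  show _ = (Module.Free.chooseBasis ℤ A).coord x.2 (ρ (g⁻¹ * x.1)⁻¹ a)
  rw [mul_inv_rev, inv_inv, map_mul]
  rfl

lemma coindEmb_injective : Function.Injective (coindEmb ρ) := by
  rw [injective_iff_map_eq_zero]
  intro a ha
  apply (Module.Free.chooseBasis ℤ A).ext_elem
  intro j
  have h1 : coindEmb ρ a ((1, j) : G × _) = 0 := by rw [ha]; rfl
  have h2 : coindEmb ρ a ((1, j) : G × _) = (Module.Free.chooseBasis ℤ A).coord j (ρ (1 : G)⁻¹ a) :=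
    rfl
  rw [h2, inv_one, map_one] at h1
  rw [map_zero, Finsupp.zero_apply]
  exact h1

end Coind

section Pullback

variable {P₁ P₂ F : Type} [AddCommGroup P₁] [AddCommGroup P₂] [AddCommGroup F]
  (τ₁ : Representation ℤ G P₁) (τ₂ : Representation ℤ G P₂) (ρF : Representation ℤ G F)
  (π₁ : P₁ →ₗ[ℤ] F) (π₂ : P₂ →ₗ[ℤ] F)

/-- The fibre product of two modules over a third, as a submodule of the product. -/
def pb : Submodule ℤ (P₁ × P₂) := LinearMap.ker (π₁.coprod (-π₂))

lemma mem_pb (x : P₁ × P₂) : x ∈ pb π₁ π₂ ↔ π₁ x.1 = π₂ x.2 := by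
  unfold pb
  rw [LinearMap.mem_ker, LinearMap.coprod_apply, LinearMap.neg_apply, ← sub_eq_add_neg, sub_eq_zero]

variable {τ₁ τ₂ ρF π₁ π₂}

lemma pb_le_comap (h₁ : IsEquivariant τ₁ ρF π₁) (h₂ : IsEquivariant τ₂ ρF π₂) (g : G) :
    pb π₁ π₂ ≤ (pb π₁ π₂).comap ((τ₁.prod τ₂) g) := by
  intro x hx
  rw [Submodule.mem_comap, mem_pb]
  rw [mem_pb] at hx
  show π₁ (τ₁ g x.1) = π₂ (τ₂ g x.2)
  rw [h₁, h₂, hx]

/-- The representation on the fibre product. -/
noncomputable def pbRep (h₁ : IsEquivariant τ₁ ρF π₁) (h₂ : IsEquivariant τ₂ ρF π₂) :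
    Representation ℤ G (pb π₁ π₂) :=
  (τ₁.prod τ₂).subrepresentation (pb π₁ π₂) (pb_le_comap h₁ h₂)

lemma pbRep_coe (h₁ : IsEquivariant τ₁ ρF π₁) (h₂ : IsEquivariant τ₂ ρF π₂) (g : G)
    (x : pb π₁ π₂) : ((pbRep h₁ h₂ g x : pb π₁ π₂) : P₁ × P₂) = (τ₁ g x.1.1, τ₂ g x.1.2) := rfl

end Pullback

section Main87

variable [Finite G] {A : Type} [AddCommGroup A] [Module.Finite ℤ A] [Module.Free ℤ A]
  (ρ : Representation ℤ G A)

/-- Statement S18687: a coflasque resolution of the second kind. -/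
theorem main_S18687 :
    ∃ (Q : Type) (_ : AddCommGroup Q) (P : Type) (_ : AddCommGroup P)
      (_ : Module.Finite ℤ Q) (_ : Module.Free ℤ Q) (_ : Module.Finite ℤ P) (_ : Module.Free ℤ P)
      (σ : Representation ℤ G Q) (τ : Representation ℤ G P) (i : A →ₗ[ℤ] Q) (π : Q →ₗ[ℤ] P),
      GLat.IsEquivariant ρ σ i ∧ GLat.IsEquivariant σ τ π ∧ Function.Injective i ∧
      Function.Surjective π ∧
      LinearMap.range i = LinearMap.ker π ∧ GLat.IsCoflasque σ ∧ GLat.IsPermutation τ := by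
  classical
  have hι := coindEmb_equivariant ρ
  have hιinj := coindEmb_injective ρ
  have hinv : ∀ g, LinearMap.range (coindEmb ρ) ≤
      (LinearMap.range (coindEmb ρ)).comap
        ((permRep G (GJ G (Module.Free.ChooseBasisIndex ℤ A))) g) := by
    rintro g _ ⟨a, rfl⟩
    exact ⟨ρ g a, hι g a⟩
  obtain ⟨ρF, hρF⟩ : ∃ ρF : Representation ℤ G
      ((GJ G (Module.Free.ChooseBasisIndex ℤ A) →₀ ℤ) ⧸ LinearMap.range (coindEmb ρ)),
      ρF = (permRep G (GJ G (Module.Free.ChooseBasisIndex ℤ A))).quotient _ hinv := ⟨_, rfl⟩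
  have hπ₁ : IsEquivariant (permRep G (GJ G (Module.Free.ChooseBasisIndex ℤ A))) ρF
      (LinearMap.range (coindEmb ρ)).mkQ := by
    intro g p
    rw [hρF]
    rfl
  have hπ₁surj : Function.Surjective (LinearMap.range (coindEmb ρ)).mkQ :=
    Submodule.mkQ_surjective _
  obtain ⟨Q₂, _, P₂, _, _, _, _, _, σ₂, τ₂, i₂, π₂, hi₂, hπ₂, hinj₂, hsurj₂, hex₂, hperm₂, hcof₂⟩ :=
    Groth.Agent.S18675.result G _ ρF
  refine ⟨pb (LinearMap.range (coindEmb ρ)).mkQ π₂, inferInstance, P₂, inferInstance,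
    inferInstance, inferInstance, inferInstance, inferInstance, pbRep hπ₁ hπ₂, τ₂,
    LinearMap.codRestrict _ ((coindEmb ρ).prod 0) ?_,
    (LinearMap.snd ℤ _ _).comp (pb (LinearMap.range (coindEmb ρ)).mkQ π₂).subtype,
    ?_, ?_, ?_, ?_, ?_, ?_, hperm₂⟩
  · intro a
    rw [mem_pb]
    show (LinearMap.range (coindEmb ρ)).mkQ (coindEmb ρ a) = π₂ 0
    rw [map_zero, Submodule.mkQ_apply, Submodule.Quotient.mk_eq_zero]
    exact ⟨a, rfl⟩
  · intro g a
    apply Subtype.ext
    rw [pbRep_coe]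
    apply Prod.ext
    · exact hι g a
    · show (0 : P₂) = τ₂ g 0
      rw [map_zero]
  · intro g x
    rfl
  · intro a b hab
    apply hιinj
    have := congrArg (fun z : pb (LinearMap.range (coindEmb ρ)).mkQ π₂ => z.1.1) hab
    exact this
  · intro p₂
    obtain ⟨p₁, hp₁⟩ := hπ₁surj (π₂ p₂)
    exact ⟨⟨(p₁, p₂), (mem_pb _ _ _).mpr hp₁⟩, rfl⟩
  · ext x
    constructor
    · rintro ⟨a, rfl⟩
      rw [LinearMap.mem_ker]
      rfl
    · intro hx
      rw [LinearMap.mem_ker] at hx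
      have hx2 : x.1.2 = 0 := hx
      have hx1 := (mem_pb _ _ _).mp x.2
      rw [hx2, map_zero, Submodule.mkQ_apply, Submodule.Quotient.mk_eq_zero] at hx1
      obtain ⟨a, ha⟩ := hx1
      refine ⟨a, ?_⟩
      apply Subtype.ext
      apply Prod.ext
      · exact ha
      · exact hx2.symm
  · -- coflasque, via 0 → Q₂ → E → P₁ → 0
    have hj : ∀ q : Q₂, ((0 : GJ G (Module.Free.ChooseBasisIndex ℤ A) →₀ ℤ), i₂ q) ∈
        pb (LinearMap.range (coindEmb ρ)).mkQ π₂ := by
      intro q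
      rw [mem_pb]
      show (LinearMap.range (coindEmb ρ)).mkQ 0 = π₂ (i₂ q)
      have : i₂ q ∈ LinearMap.ker π₂ := hex₂ ▸ ⟨q, rfl⟩
      rw [map_zero, LinearMap.mem_ker.mp this]
    refine isCoflasque_of_exact (ρM := σ₂) (ρN := permRep G (GJ G (Module.Free.ChooseBasisIndex ℤ A)))
      (i := LinearMap.codRestrict _ ((0 : Q₂ →ₗ[ℤ] _).prod i₂) hj)
      (π := (LinearMap.fst ℤ _ _).comp (pb (LinearMap.range (coindEmb ρ)).mkQ π₂).subtype)
      ?_ ?_ ?_ ?_ ?_ hcof₂ isCoflasque_permRep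
    · intro g q
      apply Subtype.ext
      rw [pbRep_coe]
      apply Prod.ext
      · show (0 : GJ G (Module.Free.ChooseBasisIndex ℤ A) →₀ ℤ) =
          (permRep G (GJ G (Module.Free.ChooseBasisIndex ℤ A))) g 0
        rw [map_zero]
      · exact hi₂ g q
    · intro g x
      rfl
    · intro a b hab
      apply hinj₂
      have := congrArg (fun z : pb (LinearMap.range (coindEmb ρ)).mkQ π₂ => z.1.2) hab
      exact this
    · intro p₁
      obtain ⟨p₂, hp₂⟩ := hsurj₂ ((LinearMap.range (coindEmb ρ)).mkQ p₁)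
      exact ⟨⟨(p₁, p₂), (mem_pb _ _ _).mpr hp₂.symm⟩, rfl⟩
    · ext x
      constructor
      · rintro ⟨q, rfl⟩
        rw [LinearMap.mem_ker]
        rfl
      · intro hx
        rw [LinearMap.mem_ker] at hx
        have hx1 : x.1.1 = 0 := hx
        have hx2 := (mem_pb _ _ _).mp x.2
        rw [hx1, map_zero] at hx2
        have : x.1.2 ∈ LinearMap.range i₂ := by
          rw [hex₂, LinearMap.mem_ker, ← hx2]
        obtain ⟨q, hq⟩ := this
        refine ⟨q, ?_⟩
        apply Subtype.ext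
        apply Prod.ext
        · exact hx1.symm
        · exact hq

end Main87

end Groth.Agent.Lib.T1H3.GLatRes
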