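import Mathlib
import Groth.Prelude.Def_W4c5flasquetoriphsGLat
import Groth.Agent.Lib.T1H3GLatA

/-!
# Lattices over a finite group: duality (helper3)

Namespace `Groth.Agent.Lib.T1H3.GLatRes`.

* `isFlasque_dual`: the dual of a coflasque lattice is flasque.
* `isPermutation_dual`: the dual of a permutation lattice is a permutation lattice.
* dual of a short exact sequence of lattices.
-/

set_option autoImplicit false
set_option linter.style.haveILetI false

namespace Groth.Agent.Lib.T1H3.GLatRes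

open GLat Groth.Agent.S18675

variable {G : Type} [Group G]

section DualRep

variable {M : Type} [AddCommGroup M] (ρ : Representation ℤ G M)

lemma dual_apply_apply (g : G) (f : Module.Dual ℤ M) (m : M) :
    (ρ.dual g f) m = f (ρ g⁻¹ m) := rfl

lemma dual_inv_apply_apply (g : G) (f : Module.Dual ℤ M) (m : M) :
    (ρ.dual g⁻¹ f) m = f (ρ g m) := by
  rw [dual_apply_apply, inv_inv]

lemma rep_mul_apply (g h : G) (m : M) : ρ (g * h) m = ρ g (ρ h m) := by
  rw [map_mul]; rfl

lemma rep_inv_apply_self (g : G) (m : M) : ρ g⁻¹ (ρ g m) = m := by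
  rw [← rep_mul_apply, inv_mul_cancel, map_one]; rfl

lemma rep_apply_inv_self (g : G) (m : M) : ρ g (ρ g⁻¹ m) = m := by
  rw [← rep_mul_apply, mul_inv_cancel, map_one]; rfl

end DualRep

section Flasque

variable [Finite G] {Q : Type} [AddCommGroup Q] [Module.Finite ℤ Q] [Module.Free ℤ Q]
  (σ : Representation ℤ G Q)

/-- The dual of a coflasque lattice is flasque. -/
theorem isFlasque_dual (hσ : IsCoflasque σ) : IsFlasque σ.dual := by
  classical
  intro H n hn
  by_contra hnot
  set I : Submodule ℤ (Module.Dual ℤ Q) :=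
    Submodule.span ℤ {x | ∃ (h : H) (y : Module.Dual ℤ Q), x = σ.dual (h : G) y - y} with hI
  have hne : I.mkQ n ≠ 0 := by
    rw [Submodule.mkQ_apply, Ne, Submodule.Quotient.mk_eq_zero]
    exact hnot
  obtain ⟨c, hc⟩ := CharacterModule.exists_character_apply_ne_zero_of_ne_zero hne
  -- the character as an additive map on the dual
  let χ : Module.Dual ℤ Q →+ AddCircle (1 : ℚ) :=
    (show (Module.Dual ℤ Q ⧸ I) →+ AddCircle (1 : ℚ) from c).comp I.mkQ.toAddMonoidHom
  have hχn : χ n ≠ 0 := hc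
  have hχI : ∀ x ∈ I, χ x = 0 := by
    intro x hx
    show c (I.mkQ x) = 0
    rw [Submodule.mkQ_apply, (Submodule.Quotient.mk_eq_zero I).mpr hx]
    exact map_zero (show (Module.Dual ℤ Q ⧸ I) →+ AddCircle (1 : ℚ) from c)
  -- lift to a rational valued functional
  let b := Module.Free.chooseBasis ℤ (Module.Dual ℤ Q)
  have hr : ∀ j, ∃ r : ℚ, (r : AddCircle (1 : ℚ)) = χ (b j) := fun j =>
    QuotientAddGroup.mk_surjective (χ (b j))
  choose r hr using hr
  let χt : Module.Dual ℤ Q →ₗ[ℤ] ℚ := b.constr ℤ r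
  have hχt : ∀ x, ((χt x : ℚ) : AddCircle (1 : ℚ)) = χ x := by
    intro x
    have h1 : ((QuotientAddGroup.mk' (AddSubgroup.zmultiples (1 : ℚ))).comp
        χt.toAddMonoidHom).toIntLinearMap = χ.toIntLinearMap := by
      apply b.ext
      intro j
      show ((χt (b j) : ℚ) : AddCircle (1 : ℚ)) = χ (b j)
      rw [show χt (b j) = r j from b.constr_basis ℤ r j, hr]
    exact LinearMap.congr_fun h1 x
  -- integrality on differences
  have hint : ∀ (h : H) (x : Module.Dual ℤ Q), ∃ k : ℤ,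
      (k : ℚ) = χt (σ.dual ((h : G)⁻¹) x) - χt x := by
    intro h x
    have hmem : σ.dual ((h : G)⁻¹) x - x ∈ I :=
      Submodule.subset_span ⟨h⁻¹, x, by rw [Subgroup.coe_inv]⟩
    have h0 := hχI _ hmem
    rw [← hχt, map_sub] at h0
    obtain ⟨k, hk⟩ := (AddCircle.coe_eq_zero_iff (1 : ℚ)).mp h0
    exact ⟨k, by rw [← hk]; simp⟩
  -- integer valued functionals
  have hψ : ∀ h : H, ∃ ψ : Module.Dual ℤ Q →ₗ[ℤ] ℤ, ∀ x,
      ((ψ x : ℤ) : ℚ) = χt (σ.dual ((h : G)⁻¹) x) - χt x := by
    intro h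
    choose k hk using fun j => hint h (b j)
    refine ⟨b.constr ℤ k, fun x => ?_⟩
    have h1 : (Int.castAddHom ℚ).toIntLinearMap ∘ₗ (b.constr ℤ k) =
        χt ∘ₗ (σ.dual ((h : G)⁻¹)) - χt := by
      apply b.ext
      intro j
      show (((b.constr ℤ k) (b j) : ℤ) : ℚ) = χt (σ.dual ((h : G)⁻¹) (b j)) - χt (b j)
      rw [b.constr_basis ℤ k j, hk]
    exact LinearMap.congr_fun h1 x
  choose ψ hψ using hψ
  -- the cocycle with values in `Q`
  let f : H → Q := fun h => (Module.evalEquiv ℤ Q).symm (ψ h)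
  have hf : ∀ (h : H) (x : Module.Dual ℤ Q), x (f h) = ψ h x := fun h x =>
    Module.apply_evalEquiv_symm_apply ℤ Q x (ψ h)
  have hcast : Function.Injective (Int.cast : ℤ → ℚ) := Int.cast_injective
  have hcoc : ∀ a b' : H, f (a * b') = f a + σ (a : G) (f b') := by
    intro a b'
    apply (Module.evalEquiv ℤ Q).injective
    apply LinearMap.ext
    intro x
    show x (f (a * b')) = x (f a + σ (a : G) (f b'))
    rw [map_add, hf, hf]
    have h2 : x (σ (a : G) (f b')) = ψ b' (σ.dual ((a : G)⁻¹) x) := by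
      rw [← hf, dual_inv_apply_apply]
    rw [h2]
    apply hcast
    push_cast
    rw [hψ, hψ, hψ]
    have h3 : σ.dual (((a * b' : H) : G)⁻¹) x = σ.dual ((b' : G)⁻¹) (σ.dual ((a : G)⁻¹) x) := by
      rw [Subgroup.coe_mul, mul_inv_rev, rep_mul_apply]
    rw [h3]
    ring
  obtain ⟨q, hq⟩ := hσ H f hcoc
  -- the invariant functional
  let θ : Module.Dual ℤ Q →ₗ[ℤ] ℚ :=
    χt - (Int.castAddHom ℚ).toIntLinearMap ∘ₗ (Module.Dual.eval ℤ Q q)
  have hθ : ∀ x, θ x = χt x - ((x q : ℤ) : ℚ) := fun x => rfl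
  have hθinv : ∀ (h : H) (x : Module.Dual ℤ Q), θ (σ.dual ((h : G)⁻¹) x) = θ x := by
    intro h x
    rw [hθ, hθ]
    have h1 := hψ h x
    have h2 : ψ h x = (σ.dual ((h : G)⁻¹) x) q - x q := by
      rw [← hf, hq h, map_sub, dual_inv_apply_apply]
    rw [h2] at h1
    push_cast at h1
    linarith
  have hθinv' : ∀ (h : H) (x : Module.Dual ℤ Q), θ (σ.dual (h : G) x) = θ x := by
    intro h x
    have := hθinv h⁻¹ x
    rwa [Subgroup.coe_inv, inv_inv] at this
  haveI : Fintype H := Fintype.ofFinite H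
  rw [finsum_eq_sum_of_fintype] at hn
  have hsum : (Fintype.card H : ℚ) * θ n = 0 := by
    have h1 := congrArg θ hn
    rw [map_sum, map_zero] at h1
    rw [← h1, Finset.sum_congr rfl (fun h _ => hθinv' h n), Finset.sum_const, Finset.card_univ,
      nsmul_eq_mul]
  have hcard : (Fintype.card H : ℚ) ≠ 0 := by exact_mod_cast Fintype.card_ne_zero
  have hθn : θ n = 0 := (mul_eq_zero.mp hsum).resolve_left hcard
  rw [hθ, sub_eq_zero] at hθn
  apply hχn
  rw [← hχt, hθn]
  exact (AddCircle.coe_eq_zero_iff (1 : ℚ)).mpr ⟨n q, by simp⟩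

end Flasque

end Groth.Agent.Lib.T1H3.GLatRes
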