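import Mathlib
import Groth.Prelude.Def_W4c5flasquetoriphsGLat
import Groth.Agent.Lib.T1H3GLatB

/-!
# Lattices over a finite group: dual sequences and flasque resolutions (helper3)

Namespace `Groth.Agent.Lib.T1H3.GLatRes`.
-/

set_option autoImplicit false
set_option linter.style.haveILetI false

namespace Groth.Agent.Lib.T1H3.GLatRes

open GLat Groth.Agent.S18675

variable {G : Type} [Group G]

section DualPerm

variable {P : Type} [AddCommGroup P] [Module.Finite ℤ P] (τ : Representation ℤ G P)

/-- The dual of a permutation lattice is a permutation lattice. -/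
theorem isPermutation_dual (hτ : IsPermutation τ) : IsPermutation τ.dual := by
  classical
  obtain ⟨ι, b, hb⟩ := hτ
  haveI : Finite ι := Module.Finite.finite_basis b
  choose s hs using hb
  have hss : ∀ (g : G) (k : ι), s g (s g⁻¹ k) = k := by
    intro g k
    apply b.injective
    rw [← hs, ← hs, rep_apply_inv_self]
  refine ⟨ι, b.dualBasis, fun g i => ⟨s g i, ?_⟩⟩
  apply b.ext
  intro k
  rw [dual_apply_apply, hs, Module.Basis.dualBasis_apply_self, Module.Basis.dualBasis_apply_self]
  by_cases h : s g⁻¹ k = i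
  · rw [if_pos h, if_pos]
    rw [← h, hss]
  · rw [if_neg h, if_neg]
    intro h2
    apply h
    rw [h2]
    have := hss g⁻¹ i
    rwa [inv_inv] at this

end DualPerm

section DualSeq

variable {Q P B : Type} [AddCommGroup Q] [AddCommGroup P] [AddCommGroup B]
  [Module.Free ℤ B]
  {σ : Representation ℤ G Q} {τ : Representation ℤ G P} {ρB : Representation ℤ G B}
  {i : Q →ₗ[ℤ] P} {π : P →ₗ[ℤ] B}

lemma transpose_equivariant {M N : Type} [AddCommGroup M] [AddCommGroup N]
    {ρM : Representation ℤ G M} {ρN : Representation ℤ G N} {f : M →ₗ[ℤ] N}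
    (hf : IsEquivariant ρM ρN f) :
    IsEquivariant ρN.dual ρM.dual (Module.Dual.transpose (R := ℤ) f) := by
  intro g φ
  apply LinearMap.ext
  intro m
  show φ (ρN g⁻¹ (f m)) = φ (f (ρM g⁻¹ m))
  rw [hf]

omit [Module.Free ℤ B] in
lemma transpose_injective_of_surjective (hπ : Function.Surjective π) :
    Function.Injective (Module.Dual.transpose (R := ℤ) π) := by
  intro φ ψ h
  apply LinearMap.ext
  intro x
  obtain ⟨p, rfl⟩ := hπ x
  exact LinearMap.congr_fun h p

include B in
lemma exists_section (hπ : Function.Surjective π) : ∃ s : B →ₗ[ℤ] P, π ∘ₗ s = LinearMap.id :=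
  Module.projective_lifting_property π LinearMap.id hπ

lemma transpose_surjective_of_exact (hinj : Function.Injective i) (hπ : Function.Surjective π)
    (hex : LinearMap.range i = LinearMap.ker π) :
    Function.Surjective (Module.Dual.transpose (R := ℤ) i) := by
  obtain ⟨s, hs⟩ := exists_section (π := π) hπ
  have hmem : ∀ p : P, p - s (π p) ∈ LinearMap.range i := by
    intro p
    rw [hex, LinearMap.mem_ker, map_sub]
    have := LinearMap.congr_fun hs (π p)
    rw [LinearMap.comp_apply, LinearMap.id_apply] at this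
    rw [this, sub_self]
  let e := LinearEquiv.ofInjective i hinj
  let r : P →ₗ[ℤ] Q := e.symm.toLinearMap ∘ₗ
    LinearMap.codRestrict (LinearMap.range i) (LinearMap.id - s ∘ₗ π) hmem
  have hr : ∀ q : Q, r (i q) = q := by
    intro q
    apply hinj
    have h1 : i (r (i q)) = i q - s (π (i q)) := by
      show ((e (e.symm _) : LinearMap.range i) : P) = _
      rw [LinearEquiv.apply_symm_apply]
      rfl
    rw [h1]
    have : π (i q) = 0 := by
      have : i q ∈ LinearMap.ker π := hex ▸ ⟨q, rfl⟩
      exact this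
    rw [this, map_zero, sub_zero]
  intro φ
  refine ⟨φ ∘ₗ r, ?_⟩
  apply LinearMap.ext
  intro q
  show φ (r (i q)) = φ q
  rw [hr]

lemma transpose_exact (hπ : Function.Surjective π) (hex : LinearMap.range i = LinearMap.ker π) :
    LinearMap.range (Module.Dual.transpose (R := ℤ) π) =
      LinearMap.ker (Module.Dual.transpose (R := ℤ) i) := by
  obtain ⟨s, hs⟩ := exists_section (π := π) hπ
  ext φ
  constructor
  · rintro ⟨ψ, rfl⟩
    rw [LinearMap.mem_ker]
    apply LinearMap.ext
    intro q
    show ψ (π (i q)) = 0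
    have : i q ∈ LinearMap.ker π := hex ▸ ⟨q, rfl⟩
    rw [LinearMap.mem_ker.mp this, map_zero]
  · intro hφ
    rw [LinearMap.mem_ker] at hφ
    refine ⟨φ ∘ₗ s, ?_⟩
    apply LinearMap.ext
    intro p
    show φ (s (π p)) = φ p
    have hmem : p - s (π p) ∈ LinearMap.range i := by
      rw [hex, LinearMap.mem_ker, map_sub]
      have := LinearMap.congr_fun hs (π p)
      rw [LinearMap.comp_apply, LinearMap.id_apply] at this
      rw [this, sub_self]
    obtain ⟨q, hq⟩ := hmem
    have h0 : φ (i q) = 0 := LinearMap.congr_fun hφ q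
    rw [hq, map_sub] at h0
    exact (sub_eq_zero.mp h0).symm

end DualSeq

section Eval

variable {A : Type} [AddCommGroup A] [Module.Finite ℤ A] [Module.Free ℤ A]
  (ρ : Representation ℤ G A)

lemma evalEquiv_equivariant :
    IsEquivariant ρ ρ.dual.dual (Module.evalEquiv ℤ A).toLinearMap := by
  intro g a
  apply LinearMap.ext
  intro f
  show f (ρ g a) = (ρ.dual g⁻¹ f) a
  rw [dual_inv_apply_apply]

end Eval

section Main86

variable [Finite G] {A : Type} [AddCommGroup A] [Module.Finite ℤ A] [Module.Free ℤ A]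
  (ρ : Representation ℤ G A)

/-- Statement S18686: a flasque resolution of a lattice. -/
theorem main_S18686 :
    ∃ (P : Type) (_ : AddCommGroup P) (F : Type) (_ : AddCommGroup F)
      (_ : Module.Finite ℤ P) (_ : Module.Free ℤ P) (_ : Module.Finite ℤ F) (_ : Module.Free ℤ F)
      (σ : Representation ℤ G P) (τ : Representation ℤ G F) (i : A →ₗ[ℤ] P) (π : P →ₗ[ℤ] F),
      GLat.IsEquivariant ρ σ i ∧ GLat.IsEquivariant σ τ π ∧ Function.Injective i ∧
      Function.Surjective π ∧
      LinearMap.range i = LinearMap.ker π ∧ GLat.IsPermutation σ ∧ GLat.IsFlasque τ := by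
  obtain ⟨Q, _, P, _, _, _, _, _, σ₀, τ₀, i₀, π₀, hi₀, hπ₀, hinj₀, hsurj₀, hex₀, hperm₀, hcof₀⟩ :=
    Groth.Agent.S18675.result G (Module.Dual ℤ A) ρ.dual
  refine ⟨Module.Dual ℤ P, inferInstance, Module.Dual ℤ Q, inferInstance, inferInstance,
    inferInstance, inferInstance, inferInstance, τ₀.dual, σ₀.dual,
    (Module.Dual.transpose (R := ℤ) π₀) ∘ₗ (Module.evalEquiv ℤ A).toLinearMap,
    Module.Dual.transpose (R := ℤ) i₀, ?_, transpose_equivariant hi₀, ?_,
    transpose_surjective_of_exact hinj₀ hsurj₀ hex₀, ?_, isPermutation_dual τ₀ hperm₀,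
    isFlasque_dual σ₀ hcof₀⟩
  · intro g a
    rw [LinearMap.comp_apply, LinearMap.comp_apply, evalEquiv_equivariant ρ g a]
    exact transpose_equivariant hπ₀ g _
  · exact (transpose_injective_of_surjective hsurj₀).comp (Module.evalEquiv ℤ A).injective
  · rw [← transpose_exact hsurj₀ hex₀, LinearMap.range_comp]
    have : LinearMap.range (Module.evalEquiv ℤ A).toLinearMap = ⊤ :=
      LinearMap.range_eq_top.mpr (Module.evalEquiv ℤ A).surjective
    rw [this, Submodule.map_top]

end Main86

end Groth.Agent.Lib.T1H3.GLatRes
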