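import Mathlib
import Groth.Prelude.Def_W4c5flasquetoriphsGLat
import Groth.Agent.Lib.T1H3GLatC

/-!
# Lattices over a finite group: flasque covers (helper3)

Namespace `Groth.Agent.Lib.T1H3.GLatRes`.
-/

set_option autoImplicit false
set_option linter.style.haveILetI false

namespace Groth.Agent.Lib.T1H3.GLatRes

open GLat Groth.Agent.S18675

variable {G : Type} [Group G]

section Transport

variable {M N : Type} [AddCommGroup M] [AddCommGroup N]
  {ρM : Representation ℤ G M} {ρN : Representation ℤ G N}

lemma symm_equivariant (e : M ≃ₗ[ℤ] N) (he : IsEquivariant ρM ρN e.toLinearMap) :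
    IsEquivariant ρN ρM e.symm.toLinearMap := by
  intro g n
  apply e.injective
  show e (e.symm (ρN g n)) = e (ρM g (e.symm n))
  rw [e.apply_symm_apply]
  have := he g (e.symm n)
  rw [LinearEquiv.coe_coe, e.apply_symm_apply] at this
  exact this.symm

/-- Coflasque modules transport along equivariant isomorphisms. -/
theorem isCoflasque_of_equiv (e : M ≃ₗ[ℤ] N) (he : IsEquivariant ρM ρN e.toLinearMap)
    (hN : IsCoflasque ρN) : IsCoflasque ρM := by
  intro H f hf
  obtain ⟨n, hn⟩ := hN H (fun a => e (f a)) (fun a b => by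
    show e (f (a * b)) = e (f a) + ρN (a : G) (e (f b))
    rw [hf, map_add]
    congr 1
    exact he (a : G) (f b))
  refine ⟨e.symm n, fun a => ?_⟩
  apply e.injective
  rw [map_sub, e.apply_symm_apply]
  have h1 : e (ρM (a : G) (e.symm n)) = ρN (a : G) n := by
    have := he (a : G) (e.symm n)
    rw [LinearEquiv.coe_coe, e.apply_symm_apply] at this
    exact this
  rw [h1]
  exact hn a

/-- Flasque modules transport along equivariant isomorphisms. -/
theorem isFlasque_of_equiv [Finite G] (e : M ≃ₗ[ℤ] N) (he : IsEquivariant ρM ρN e.toLinearMap)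
    (hN : IsFlasque ρN) : IsFlasque ρM := by
  classical
  intro H m hm
  haveI : Fintype H := Fintype.ofFinite H
  rw [finsum_eq_sum_of_fintype] at hm
  have hsum : (∑ᶠ h : H, ρN (h : G) (e m)) = 0 := by
    rw [finsum_eq_sum_of_fintype]
    have h1 := congrArg e hm
    rw [map_sum, map_zero] at h1
    rw [← h1]
    refine Finset.sum_congr rfl fun h _ => ?_
    exact (he (h : G) m).symm
  have h2 := hN H (e m) hsum
  have hes := symm_equivariant e he
  have h3 : e.symm (e m) ∈ Submodule.map e.symm.toLinearMap
      (Submodule.span ℤ {x : N | ∃ (h : H) (y : N), x = ρN (h : G) y - y}) :=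
    Submodule.mem_map_of_mem h2
  rw [e.symm_apply_apply, Submodule.map_span] at h3
  refine Submodule.span_mono ?_ h3
  rintro _ ⟨_, ⟨h, y, rfl⟩, rfl⟩
  refine ⟨h, e.symm y, ?_⟩
  rw [LinearEquiv.coe_coe, map_sub]
  congr 1
  exact hes (h : G) y

end Transport

section PermAbstract

variable [Finite G] {P : Type} [AddCommGroup P] (τ : Representation ℤ G P)

/-- An abstract permutation lattice is coflasque. -/
theorem isCoflasque_of_isPermutation (hτ : IsPermutation τ) : IsCoflasque τ := by
  classical
  obtain ⟨ι, b, hb⟩ := hτ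
  choose s hs using hb
  letI : MulAction G ι :=
    { smul := fun g i => s g i
      one_smul := fun i => by
        apply b.injective
        show b (s 1 i) = b i
        rw [← hs, map_one]; rfl
      mul_smul := fun g h i => by
        apply b.injective
        show b (s (g * h) i) = b (s g (s h i))
        rw [← hs, ← hs, ← hs, rep_mul_apply] }
  have hsm : ∀ (g : G) (i : ι), g • i = s g i := fun g i => rfl
  refine isCoflasque_of_equiv (ρN := permRep G ι) b.repr ?_ isCoflasque_permRep
  intro g p
  have h1 : b.repr.toLinearMap ∘ₗ (τ g) = (permRep G ι g) ∘ₗ b.repr.toLinearMap := by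
    apply b.ext
    intro i
    show b.repr (τ g (b i)) = permRep G ι g (b.repr (b i))
    rw [hs, b.repr_self, b.repr_self, permRep_single, hsm]
  exact LinearMap.congr_fun h1 p

variable [Module.Finite ℤ P] [Module.Free ℤ P]

/-- An abstract permutation lattice is flasque. -/
theorem isFlasque_of_isPermutation (hτ : IsPermutation τ) : IsFlasque τ := by
  have h1 : IsPermutation τ.dual := isPermutation_dual τ hτ
  have h2 : IsCoflasque τ.dual := isCoflasque_of_isPermutation τ.dual h1
  have h3 : IsFlasque τ.dual.dual := isFlasque_dual τ.dual h2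
  exact isFlasque_of_equiv (Module.evalEquiv ℤ P) (evalEquiv_equivariant τ) h3

end PermAbstract

section FlasqueExt

variable [Finite G] {M N E : Type} [AddCommGroup M] [AddCommGroup N] [AddCommGroup E]
  {ρM : Representation ℤ G M} {ρE : Representation ℤ G E} {ρN : Representation ℤ G N}
  {i : M →ₗ[ℤ] E} {π : E →ₗ[ℤ] N}

/-- The augmentation submodule of a representation restricted to a subgroup. -/
def augSub (ρ : Representation ℤ G E) (H : Subgroup G) : Submodule ℤ E :=
  Submodule.span ℤ {x : E | ∃ (h : H) (y : E), x = ρ (h : G) y - y}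

omit [Finite G] in
lemma norm_augSub (ρ : Representation ℤ G E) (H : Subgroup G) [Fintype H] {x : E}
    (hx : x ∈ augSub ρ H) : ∑ h : H, ρ (h : G) x = 0 := by
  have hle : augSub ρ H ≤ LinearMap.ker (∑ h : H, ρ (h : G)) := by
    unfold augSub
    rw [Submodule.span_le]
    rintro _ ⟨h₀, y, rfl⟩
    rw [SetLike.mem_coe, LinearMap.mem_ker, LinearMap.sum_apply]
    have h1 : ∀ h : H, ρ (h : G) (ρ (h₀ : G) y - y) = ρ ((h * h₀ : H) : G) y - ρ (h : G) y := by
      intro h
      rw [map_sub, Subgroup.coe_mul, rep_mul_apply]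
    rw [Finset.sum_congr rfl (fun h _ => h1 h), Finset.sum_sub_distrib, sub_eq_zero]
    exact Equiv.sum_comp (Equiv.mulRight h₀) (fun h : H => ρ (h : G) y)
  have := hle hx
  rw [LinearMap.mem_ker, LinearMap.sum_apply] at this
  exact this

/-- An extension of a flasque module by a flasque module is flasque. -/
theorem isFlasque_of_exact (hi : IsEquivariant ρM ρE i) (hπ : IsEquivariant ρE ρN π)
    (hinj : Function.Injective i) (hsurj : Function.Surjective π)
    (hex : LinearMap.range i = LinearMap.ker π)
    (hM : IsFlasque ρM) (hN : IsFlasque ρN) : IsFlasque ρE := by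
  classical
  intro H e he
  haveI : Fintype H := Fintype.ofFinite H
  rw [finsum_eq_sum_of_fintype] at he
  show e ∈ augSub ρE H
  -- the image in `N`
  have hπe : π e ∈ augSub ρN H := by
    apply hN H
    rw [finsum_eq_sum_of_fintype]
    have h1 := congrArg π he
    rw [map_sum, map_zero] at h1
    rw [← h1]
    exact Finset.sum_congr rfl fun h _ => (hπ (h : G) e).symm
  -- lift it
  have hlift : ∀ n ∈ augSub ρN H, ∃ e' ∈ augSub ρE H, π e' = n := by
    intro n hn
    unfold augSub at hn
    refine Submodule.span_induction (p := fun n _ => ∃ e' ∈ augSub ρE H, π e' = n)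
      ?_ ?_ ?_ ?_ hn
    · rintro _ ⟨h, y, rfl⟩
      obtain ⟨y', rfl⟩ := hsurj y
      refine ⟨ρE (h : G) y' - y', Submodule.subset_span ⟨h, y', rfl⟩, ?_⟩
      rw [map_sub, hπ]
    · exact ⟨0, Submodule.zero_mem _, map_zero _⟩
    · rintro x y _ _ ⟨x', hx', rfl⟩ ⟨y', hy', rfl⟩
      exact ⟨x' + y', Submodule.add_mem _ hx' hy', map_add _ _ _⟩
    · rintro c x _ ⟨x', hx', rfl⟩
      exact ⟨c • x', Submodule.smul_mem _ _ hx', map_smul _ _ _⟩
  obtain ⟨e', he', hπe'⟩ := hlift _ hπe
  have hker : e - e' ∈ LinearMap.range i := by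
    rw [hex, LinearMap.mem_ker, map_sub, hπe', sub_self]
  obtain ⟨m, hm⟩ := hker
  have hnm : (∑ᶠ h : H, ρM (h : G) m) = 0 := by
    rw [finsum_eq_sum_of_fintype]
    apply hinj
    rw [map_sum, map_zero]
    have h1 : ∀ h : H, i (ρM (h : G) m) = ρE (h : G) e - ρE (h : G) e' := by
      intro h
      rw [hi, hm, map_sub]
    rw [Finset.sum_congr rfl (fun h _ => h1 h), Finset.sum_sub_distrib, he,
      norm_augSub ρE H he', sub_zero]
  have hmI := hM H m hnm
  have himI : i m ∈ augSub ρE H := by
    have h3 : i m ∈ Submodule.map i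
        (Submodule.span ℤ {x : M | ∃ (h : H) (y : M), x = ρM (h : G) y - y}) :=
      Submodule.mem_map_of_mem hmI
    rw [Submodule.map_span] at h3
    refine Submodule.span_mono ?_ h3
    rintro _ ⟨_, ⟨h, y, rfl⟩, rfl⟩
    refine ⟨h, i y, ?_⟩
    rw [map_sub, hi]
  have : e = e' + i m := by rw [hm]; abel
  rw [this]
  exact Submodule.add_mem _ he' himI

end FlasqueExt

end Groth.Agent.Lib.T1H3.GLatRes
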