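import Mathlib
import Groth.Prelude.Def_W4c5flasquetoriphsGLat
import Groth.Agent.Lib.T1H3GLatD

/-!
# Lattices over a finite group: flasque covers of arbitrary f.g. modules (helper3)

Namespace `Groth.Agent.Lib.T1H3.GLatRes`.  Pushout construction.
-/

set_option autoImplicit false
set_option linter.style.haveILetI false

namespace Groth.Agent.Lib.T1H3.GLatRes

open GLat Groth.Agent.S18675

variable {G : Type} [Group G]

section Pushout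

variable {Q P₁ P₂ A F : Type} [AddCommGroup Q] [AddCommGroup P₁] [AddCommGroup P₂]
  [AddCommGroup A] [AddCommGroup F]
  {σ : Representation ℤ G Q} {τ₁ : Representation ℤ G P₁} {τ₂ : Representation ℤ G P₂}
  {ρ : Representation ℤ G A} {φ : Representation ℤ G F}
  (i₁ : Q →ₗ[ℤ] P₁) (π₁ : P₁ →ₗ[ℤ] A) (i₂ : Q →ₗ[ℤ] P₂) (π₂ : P₂ →ₗ[ℤ] F)

/-- The antidiagonal submodule `{(i₁ q, - i₂ q)}`. -/
def poK : Submodule ℤ (P₁ × P₂) := LinearMap.range (i₁.prod (-i₂))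

lemma mem_poK {x : P₁ × P₂} : x ∈ poK i₁ i₂ ↔ ∃ q : Q, i₁ q = x.1 ∧ -i₂ q = x.2 := by
  unfold poK
  rw [LinearMap.mem_range]
  constructor
  · rintro ⟨q, rfl⟩
    exact ⟨q, rfl, rfl⟩
  · rintro ⟨q, h1, h2⟩
    exact ⟨q, Prod.ext h1 h2⟩

variable {i₁ i₂}

lemma poK_le (hi₁ : IsEquivariant σ τ₁ i₁) (hi₂ : IsEquivariant σ τ₂ i₂) (g : G) :
    poK i₁ i₂ ≤ (poK i₁ i₂).comap ((τ₁.prod τ₂) g) := by
  intro x hx
  rw [mem_poK] at hx
  obtain ⟨q, h1, h2⟩ := hx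
  rw [Submodule.mem_comap, mem_poK]
  refine ⟨σ g q, ?_, ?_⟩
  · show i₁ (σ g q) = τ₁ g x.1
    rw [hi₁, h1]
  · show -i₂ (σ g q) = τ₂ g x.2
    rw [hi₂, ← h2, map_neg]

/-- The pushout representation. -/
noncomputable def poRep (hi₁ : IsEquivariant σ τ₁ i₁) (hi₂ : IsEquivariant σ τ₂ i₂) :
    Representation ℤ G ((P₁ × P₂) ⧸ poK i₁ i₂) :=
  (τ₁.prod τ₂).quotient (poK i₁ i₂) (poK_le hi₁ hi₂)

lemma poRep_mk (hi₁ : IsEquivariant σ τ₁ i₁) (hi₂ : IsEquivariant σ τ₂ i₂) (g : G)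
    (x : P₁ × P₂) :
    poRep hi₁ hi₂ g ((poK i₁ i₂).mkQ x) = (poK i₁ i₂).mkQ (τ₁ g x.1, τ₂ g x.2) := rfl

variable (i₁ i₂)

/-- `P₁ → E`. -/
def poInl : P₁ →ₗ[ℤ] (P₁ × P₂) ⧸ poK i₁ i₂ := (poK i₁ i₂).mkQ ∘ₗ LinearMap.inl ℤ P₁ P₂

/-- `P₂ → E`. -/
def poInr : P₂ →ₗ[ℤ] (P₁ × P₂) ⧸ poK i₁ i₂ := (poK i₁ i₂).mkQ ∘ₗ LinearMap.inr ℤ P₁ P₂

variable {i₁ i₂} {π₁ π₂}

/-- `E → A`. -/
def poFst (h : ∀ q, π₁ (i₁ q) = 0) : ((P₁ × P₂) ⧸ poK i₁ i₂) →ₗ[ℤ] A :=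
  (poK i₁ i₂).liftQ (π₁ ∘ₗ LinearMap.fst ℤ P₁ P₂) (by
    intro x hx
    rw [mem_poK] at hx
    obtain ⟨q, h1, _⟩ := hx
    rw [LinearMap.mem_ker, LinearMap.comp_apply]
    show π₁ x.1 = 0
    rw [← h1, h])

/-- `E → F`. -/
def poSnd (h : ∀ q, π₂ (i₂ q) = 0) : ((P₁ × P₂) ⧸ poK i₁ i₂) →ₗ[ℤ] F :=
  (poK i₁ i₂).liftQ (π₂ ∘ₗ LinearMap.snd ℤ P₁ P₂) (by
    intro x hx
    rw [mem_poK] at hx
    obtain ⟨q, _, h2⟩ := hx
    rw [LinearMap.mem_ker, LinearMap.comp_apply]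
    show π₂ x.2 = 0
    rw [← h2, map_neg, h, neg_zero])

lemma poFst_mk (h : ∀ q, π₁ (i₁ q) = 0) (x : P₁ × P₂) :
    poFst (i₂ := i₂) h ((poK i₁ i₂).mkQ x) = π₁ x.1 := rfl

lemma poSnd_mk (h : ∀ q, π₂ (i₂ q) = 0) (x : P₁ × P₂) :
    poSnd (i₁ := i₁) h ((poK i₁ i₂).mkQ x) = π₂ x.2 := rfl

lemma poInl_equivariant (hi₁ : IsEquivariant σ τ₁ i₁) (hi₂ : IsEquivariant σ τ₂ i₂) :
    IsEquivariant τ₁ (poRep hi₁ hi₂) (poInl i₁ i₂) := by
  intro g p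
  show (poK i₁ i₂).mkQ (τ₁ g p, 0) = poRep hi₁ hi₂ g ((poK i₁ i₂).mkQ (p, 0))
  rw [poRep_mk, map_zero]

lemma poInr_equivariant (hi₁ : IsEquivariant σ τ₁ i₁) (hi₂ : IsEquivariant σ τ₂ i₂) :
    IsEquivariant τ₂ (poRep hi₁ hi₂) (poInr i₁ i₂) := by
  intro g p
  show (poK i₁ i₂).mkQ (0, τ₂ g p) = poRep hi₁ hi₂ g ((poK i₁ i₂).mkQ (0, p))
  rw [poRep_mk, map_zero]

lemma poFst_equivariant (hi₁ : IsEquivariant σ τ₁ i₁) (hi₂ : IsEquivariant σ τ₂ i₂)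
    (hπ₁ : IsEquivariant τ₁ ρ π₁) (h : ∀ q, π₁ (i₁ q) = 0) :
    IsEquivariant (poRep hi₁ hi₂) ρ (poFst (i₂ := i₂) h) := by
  intro g e
  obtain ⟨x, rfl⟩ := (poK i₁ i₂).mkQ_surjective e
  rw [poRep_mk, poFst_mk, poFst_mk]
  exact hπ₁ g x.1

lemma poSnd_equivariant (hi₁ : IsEquivariant σ τ₁ i₁) (hi₂ : IsEquivariant σ τ₂ i₂)
    (hπ₂ : IsEquivariant τ₂ φ π₂) (h : ∀ q, π₂ (i₂ q) = 0) :
    IsEquivariant (poRep hi₁ hi₂) φ (poSnd (i₁ := i₁) h) := by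
  intro g e
  obtain ⟨x, rfl⟩ := (poK i₁ i₂).mkQ_surjective e
  rw [poRep_mk, poSnd_mk, poSnd_mk]
  exact hπ₂ g x.2

lemma poInl_injective (hinj₂ : Function.Injective i₂) : Function.Injective (poInl i₁ i₂) := by
  rw [← LinearMap.ker_eq_bot, LinearMap.ker_eq_bot']
  intro p hp
  have h1 : ((p, 0) : P₁ × P₂) ∈ poK i₁ i₂ := by
    rw [← Submodule.Quotient.mk_eq_zero]
    exact hp
  rw [mem_poK] at h1
  obtain ⟨q, h1, h2⟩ := h1
  have hq : q = 0 := by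
    apply hinj₂
    rw [map_zero]
    exact neg_eq_zero.mp h2
  have h1' : i₁ q = p := h1
  rw [← h1', hq, map_zero]

lemma poInr_injective (hinj₁ : Function.Injective i₁) : Function.Injective (poInr i₁ i₂) := by
  rw [← LinearMap.ker_eq_bot, LinearMap.ker_eq_bot']
  intro p hp
  have h1 : ((0, p) : P₁ × P₂) ∈ poK i₁ i₂ := by
    rw [← Submodule.Quotient.mk_eq_zero]
    exact hp
  rw [mem_poK] at h1
  obtain ⟨q, h1, h2⟩ := h1
  have hq : q = 0 := by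
    apply hinj₁
    rw [map_zero]
    exact h1
  have h2' : -i₂ q = p := h2
  rw [← h2', hq, map_zero, neg_zero]

lemma poFst_surjective (hsurj : Function.Surjective π₁) (h : ∀ q, π₁ (i₁ q) = 0) :
    Function.Surjective (poFst (i₂ := i₂) h) := by
  intro a
  obtain ⟨p, rfl⟩ := hsurj a
  exact ⟨(poK i₁ i₂).mkQ (p, 0), rfl⟩

lemma poSnd_surjective (hsurj : Function.Surjective π₂) (h : ∀ q, π₂ (i₂ q) = 0) :
    Function.Surjective (poSnd (i₁ := i₁) h) := by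
  intro a
  obtain ⟨p, rfl⟩ := hsurj a
  exact ⟨(poK i₁ i₂).mkQ (0, p), rfl⟩

lemma poInr_exact (hex : LinearMap.range i₁ = LinearMap.ker π₁) (h : ∀ q, π₁ (i₁ q) = 0) :
    LinearMap.range (poInr i₁ i₂) = LinearMap.ker (poFst (i₂ := i₂) h) := by
  apply le_antisymm
  · rintro _ ⟨p, rfl⟩
    rw [LinearMap.mem_ker]
    show π₁ 0 = 0
    exact map_zero _
  · intro e he
    obtain ⟨x, rfl⟩ := (poK i₁ i₂).mkQ_surjective e
    rw [LinearMap.mem_ker, poFst_mk] at he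
    have h1 : x.1 ∈ LinearMap.range i₁ := by rw [hex]; exact he
    obtain ⟨q, hq⟩ := h1
    refine ⟨x.2 + i₂ q, ?_⟩
    show (poK i₁ i₂).mkQ (0, x.2 + i₂ q) = (poK i₁ i₂).mkQ x
    rw [← sub_eq_zero, ← map_sub, Submodule.mkQ_apply, Submodule.Quotient.mk_eq_zero,
      ← neg_mem_iff, mem_poK]
    refine ⟨q, ?_, ?_⟩
    · show i₁ q = -(0 - x.1)
      rw [hq]; abel
    · show -i₂ q = -(x.2 + i₂ q - x.2)
      abel

lemma poInl_exact (hex : LinearMap.range i₂ = LinearMap.ker π₂) (h : ∀ q, π₂ (i₂ q) = 0) :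
    LinearMap.range (poInl i₁ i₂) = LinearMap.ker (poSnd (i₁ := i₁) h) := by
  apply le_antisymm
  · rintro _ ⟨p, rfl⟩
    rw [LinearMap.mem_ker]
    show π₂ 0 = 0
    exact map_zero _
  · intro e he
    obtain ⟨x, rfl⟩ := (poK i₁ i₂).mkQ_surjective e
    rw [LinearMap.mem_ker, poSnd_mk] at he
    have h1 : x.2 ∈ LinearMap.range i₂ := by rw [hex]; exact he
    obtain ⟨q, hq⟩ := h1
    refine ⟨x.1 + i₁ q, ?_⟩
    show (poK i₁ i₂).mkQ (x.1 + i₁ q, 0) = (poK i₁ i₂).mkQ x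
    rw [← sub_eq_zero, ← map_sub, Submodule.mkQ_apply, Submodule.Quotient.mk_eq_zero, mem_poK]
    refine ⟨q, ?_, ?_⟩
    · show i₁ q = x.1 + i₁ q - x.1
      abel
    · show -i₂ q = 0 - x.2
      rw [hq]; abel

end Pushout

section Main85

variable [Finite G] {A : Type} [AddCommGroup A] [Module.Finite ℤ A] (ρ : Representation ℤ G A)

/-- Statement S18685: a flasque cover of an arbitrary finitely generated module. -/
theorem main_S18685 :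
    ∃ (P : Type) (_ : AddCommGroup P) (F : Type) (_ : AddCommGroup F)
      (_ : Module.Finite ℤ P) (_ : Module.Free ℤ P) (_ : Module.Finite ℤ F) (_ : Module.Free ℤ F)
      (σ : Representation ℤ G P) (τ : Representation ℤ G F) (i : P →ₗ[ℤ] F) (π : F →ₗ[ℤ] A),
      GLat.IsEquivariant σ τ i ∧ GLat.IsEquivariant τ ρ π ∧ Function.Injective i ∧
      Function.Surjective π ∧
      LinearMap.range i = LinearMap.ker π ∧ GLat.IsPermutation σ ∧ GLat.IsFlasque τ := by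
  obtain ⟨Q, _, P₁, _, _, _, _, _, σQ, τ₁, i₁, π₁, hi₁, hπ₁, hinj₁, hsurj₁, hex₁, hperm₁, hcof⟩ :=
    Groth.Agent.S18675.result G A ρ
  obtain ⟨P₂, _, F₂, _, _, _, _, _, τ₂, φ, i₂, π₂, hi₂, hπ₂, hinj₂, hsurj₂, hex₂, hperm₂, hfl₂⟩ :=
    main_S18686 σQ
  have hz₁ : ∀ q, π₁ (i₁ q) = 0 := fun q => by
    have : i₁ q ∈ LinearMap.ker π₁ := by rw [← hex₁]; exact ⟨q, rfl⟩
    exact this
  have hz₂ : ∀ q, π₂ (i₂ q) = 0 := fun q => by
    have : i₂ q ∈ LinearMap.ker π₂ := by rw [← hex₂]; exact ⟨q, rfl⟩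
    exact this
  have hflE : IsFlasque (poRep hi₁ hi₂) :=
    isFlasque_of_exact (poInl_equivariant hi₁ hi₂) (poSnd_equivariant hi₁ hi₂ hπ₂ hz₂)
      (poInl_injective hinj₂) (poSnd_surjective hsurj₂ hz₂) (poInl_exact hex₂ hz₂)
      (isFlasque_of_isPermutation τ₁ hperm₁) hfl₂
  haveI : Module.IsTorsionFree ℤ ((P₁ × P₂) ⧸ poK i₁ i₂) := by
    apply Module.IsTorsionFree.of_smul_eq_zero
    intro z e hze
    by_cases hz : z = 0
    · exact Or.inl hz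
    right
    have h1 : poSnd (i₁ := i₁) hz₂ e = 0 := by
      have h2 := congrArg (poSnd (i₁ := i₁) hz₂) hze
      rw [map_smul, map_zero] at h2
      exact (smul_eq_zero.mp h2).resolve_left hz
    have h3 : e ∈ LinearMap.range (poInl i₁ i₂) := by
      rw [poInl_exact hex₂ hz₂]; exact h1
    obtain ⟨p, rfl⟩ := h3
    rw [← map_smul] at hze
    have h4 : z • p = 0 := poInl_injective hinj₂ (by rw [hze, map_zero])
    rw [(smul_eq_zero.mp h4).resolve_left hz, map_zero]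
  refine ⟨P₂, inferInstance, (P₁ × P₂) ⧸ poK i₁ i₂, inferInstance, inferInstance, inferInstance,
    inferInstance, inferInstance, τ₂, poRep hi₁ hi₂, poInr i₁ i₂, poFst (i₂ := i₂) hz₁,
    poInr_equivariant hi₁ hi₂, poFst_equivariant hi₁ hi₂ hπ₁ hz₁, poInr_injective hinj₁,
    poFst_surjective hsurj₁ hz₁, poInr_exact hex₁ hz₁, hperm₂, hflE⟩

end Main85

end Groth.Agent.Lib.T1H3.GLatRes
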