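import Mathlib

/-!
# Graded modules over polynomial rings: components (helper3)

Namespace `Groth.Agent.Lib.T1H3.GrFree`.
-/

set_option autoImplicit false
set_option linter.style.haveILetI false

universe u

namespace Groth.Agent.Lib.T1H3.GrFree

open MvPolynomial DirectSum

section Comp

variable {k : Type u} [Field k] {σ : Type*}
  {M : Type u} [AddCommGroup M] [Module (MvPolynomial σ k) M]
  (ℳ : ℕ → AddSubgroup M)
  [SetLike.GradedSMul (MvPolynomial.homogeneousSubmodule σ k) ℳ]
  [DirectSum.Decomposition ℳ]

/-- The degree `e` component. -/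
noncomputable def comp (e : ℕ) (x : M) : M := ((DirectSum.decompose ℳ x) e : M)

lemma comp_mem (e : ℕ) (x : M) : comp ℳ e x ∈ ℳ e := (DirectSum.decompose ℳ x e).2

lemma comp_add (e : ℕ) (x y : M) : comp ℳ e (x + y) = comp ℳ e x + comp ℳ e y := by
  unfold comp
  rw [DirectSum.decompose_add, DirectSum.add_apply]
  rfl

lemma comp_zero (e : ℕ) : comp ℳ e (0 : M) = 0 := by
  unfold comp
  rw [DirectSum.decompose_zero, DirectSum.zero_apply]
  rfl

lemma comp_sum {ι : Type*} (s : Finset ι) (f : ι → M) (e : ℕ) :
    comp ℳ e (∑ i ∈ s, f i) = ∑ i ∈ s, comp ℳ e (f i) := by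
  classical
  induction s using Finset.induction_on with
  | empty => simp [comp_zero]
  | insert a s ha ih => rw [Finset.sum_insert ha, Finset.sum_insert ha, comp_add, ih]

lemma comp_of_mem {x : M} {d : ℕ} (hx : x ∈ ℳ d) (e : ℕ) :
    comp ℳ e x = if e = d then x else 0 := by
  unfold comp
  split_ifs with h
  · subst h
    exact DirectSum.decompose_of_mem_same ℳ hx
  · exact DirectSum.decompose_of_mem_ne ℳ hx (Ne.symm h)

lemma exists_sum_comp (x : M) : ∃ s : Finset ℕ, x = ∑ e ∈ s, comp ℳ e x := by
  classical
  exact ⟨(DirectSum.decompose ℳ x).support, (DirectSum.sum_support_decompose ℳ x).symm⟩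

/-- Component of a scalar multiple of a homogeneous element. -/
lemma comp_smul {x : M} {d : ℕ} (hx : x ∈ ℳ d) (s : MvPolynomial σ k) (e : ℕ) :
    comp ℳ e (s • x) = if d ≤ e then homogeneousComponent (e - d) s • x else 0 := by
  classical
  have hs : s • x = ∑ c ∈ Finset.range (s.totalDegree + 1), homogeneousComponent c s • x := by
    rw [← Finset.sum_smul, sum_homogeneousComponent]
  have hmem : ∀ c, homogeneousComponent c s • x ∈ ℳ (c + d) := by
    intro c
    have := SetLike.GradedSMul.smul_mem (A := MvPolynomial.homogeneousSubmodule σ k) (B := ℳ)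
      (homogeneousComponent_mem c s) hx
    exact this
  rw [hs, comp_sum]
  simp_rw [comp_of_mem ℳ (hmem _)]
  split_ifs with hde
  · by_cases hc : e - d < s.totalDegree + 1
    · rw [Finset.sum_eq_single (e - d)]
      · rw [if_pos (by omega)]
      · intro c _ hc'
        rw [if_neg (by omega)]
      · intro h
        exact absurd (Finset.mem_range.mpr hc) h
    · rw [Finset.sum_eq_zero]
      · rw [homogeneousComponent_eq_zero _ _ (by omega), zero_smul]
      · intro c hc'
        rw [Finset.mem_range] at hc'
        rw [if_neg (by omega)]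
  · rw [Finset.sum_eq_zero]
    intro c _
    rw [if_neg (by omega)]

end Comp

variable {k : Type u} [Field k] {σ : Type*}

/-- Vanishing of a homogeneous component of a product. -/
lemma homogeneousComponent_mul_eq_zero (a p : MvPolynomial σ k) (N : ℕ)
    (ha : constantCoeff a = 0) (hp : ∀ c, c < N → homogeneousComponent c p = 0) :
    homogeneousComponent N (a * p) = 0 := by
  classical
  ext D
  rw [coeff_homogeneousComponent, coeff_zero]
  split_ifs with hD
  · rw [coeff_mul]
    apply Finset.sum_eq_zero
    rintro ⟨D₁, D₂⟩ hmem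
    rw [Finset.HasAntidiagonal.mem_antidiagonal] at hmem
    dsimp only at hmem ⊢
    by_cases h1 : D₁ = 0
    · rw [h1]
      have : coeff 0 a = 0 := ha
      rw [this, zero_mul]
    · have hdeg : D₂.degree < N := by
        have h2 : D₁.degree + D₂.degree = N := by
          rw [← hD, ← hmem, map_add]
        have h3 : D₁.degree ≠ 0 := by
          intro h0
          apply h1
          exact (Finsupp.degree_eq_zero_iff D₁).mp h0
        omega
      have h4 := congrArg (coeff D₂) (hp _ hdeg)
      rw [coeff_homogeneousComponent, if_pos rfl, coeff_zero] at h4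
      rw [h4, mul_zero]
  · rfl

section Rel

variable {M : Type u} [AddCommGroup M] [Module (MvPolynomial σ k) M]
  (ℳ : ℕ → AddSubgroup M)
  [SetLike.GradedSMul (MvPolynomial.homogeneousSubmodule σ k) ℳ]
  [DirectSum.Decomposition ℳ]
  {r : ℕ} (g : Fin r → M) (d : Fin r → ℕ)

/-- The degree `e` part of a relation vector. -/
noncomputable def T (e : ℕ) : (Fin r → MvPolynomial σ k) →ₗ[k] (Fin r → MvPolynomial σ k) :=
  LinearMap.pi fun i =>
    if d i ≤ e then (homogeneousComponent (e - d i)) ∘ₗ LinearMap.proj i else 0

lemma T_apply (e : ℕ) (z : Fin r → MvPolynomial σ k) (i : Fin r) :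
    T d e z i = if d i ≤ e then homogeneousComponent (e - d i) (z i) else 0 := by
  unfold T
  rw [LinearMap.pi_apply]
  split_ifs <;> rfl

lemma T_T (e : ℕ) (z : Fin r → MvPolynomial σ k) : T d e (T d e z) = T d e z := by
  ext1 i
  rw [T_apply, T_apply]
  split_ifs with h
  · rw [homogeneousComponent_of_mem (homogeneousComponent_mem _ _), if_pos rfl]
  · rfl

variable {g d}

lemma lc_T (hg : ∀ i, g i ∈ ℳ (d i)) (e : ℕ) (z : Fin r → MvPolynomial σ k) :
    Fintype.linearCombination (MvPolynomial σ k) g (T d e z) =
      comp ℳ e (Fintype.linearCombination (MvPolynomial σ k) g z) := by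
  rw [Fintype.linearCombination_apply, Fintype.linearCombination_apply, comp_sum]
  refine Finset.sum_congr rfl fun i _ => ?_
  rw [comp_smul ℳ (hg i), T_apply]
  split_ifs
  · rfl
  · rw [zero_smul]

/-- Graded Nakayama for relations. -/
theorem ker_eq_bot_of_le_smul (hg : ∀ i, g i ∈ ℳ (d i))
    (hK : LinearMap.ker (Fintype.linearCombination (MvPolynomial σ k) g) ≤
      (RingHom.ker (constantCoeff : MvPolynomial σ k →+* k)) •
        LinearMap.ker (Fintype.linearCombination (MvPolynomial σ k) g)) :
    LinearMap.ker (Fintype.linearCombination (MvPolynomial σ k) g) = ⊥ := by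
  set K := LinearMap.ker (Fintype.linearCombination (MvPolynomial σ k) g) with hKdef
  have hTK : ∀ e, ∀ z ∈ K, T d e z ∈ K := by
    intro e z hz
    rw [hKdef, LinearMap.mem_ker] at hz ⊢
    rw [lc_T ℳ hg, hz, comp_zero]
  have key : ∀ e, ∀ z ∈ K, T d e z = 0 := by
    intro e
    induction e using Nat.strong_induction_on with
    | _ e ih =>
      intro z hz
      have hw : T d e z ∈ (RingHom.ker (constantCoeff : MvPolynomial σ k →+* k)) • K :=
        hK (hTK e z hz)
      have hQ : T d e (T d e z) = 0 := by
        refine Submodule.smul_induction_on (p := fun x => T d e x = 0) hw ?_ ?_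
        · intro a ha y hy
          ext1 i
          rw [T_apply, Pi.zero_apply]
          split_ifs with hde
          · rw [Pi.smul_apply, smul_eq_mul]
            apply homogeneousComponent_mul_eq_zero _ _ _ ha
            intro c hc
            have h1 := congrFun (ih (c + d i) (by omega) y hy) i
            rw [T_apply, if_pos (by omega), Pi.zero_apply, Nat.add_sub_cancel] at h1
            exact h1
          · rfl
        · intro x y hx hy
          rw [map_add, hx, hy, add_zero]
      rw [T_T] at hQ
      exact hQ
  rw [eq_bot_iff]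
  intro z hz
  rw [Submodule.mem_bot]
  ext1 i
  rw [Pi.zero_apply, ← sum_homogeneousComponent (z i)]
  apply Finset.sum_eq_zero
  intro c _
  have h1 := congrFun (key (c + d i) z hz) i
  rw [T_apply, if_pos (by omega), Pi.zero_apply, Nat.add_sub_cancel] at h1
  exact h1

end Rel

end Groth.Agent.Lib.T1H3.GrFree
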