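import Groth.Agent.Lib.T1H3GrFreeA
import Groth.Agent.Lib.Helper13ABLocal

/-!
# Graded freeness criterion via Tor_1 (helper3)

Namespace `Groth.Agent.Lib.T1H3.GrFree`.
-/

set_option autoImplicit false
set_option linter.style.haveILetI false

universe u

namespace Groth.Agent.Lib.T1H3.GrFree

open MvPolynomial DirectSum TensorProduct

section TensorStep

variable {R : Type*} [CommRing R] (I : Ideal R) {r : ℕ} (K : Submodule R (Fin r → R))

/-- From injectivity after tensoring with `R/I` to `K ≤ I • K`, when `K ⊆ I • R^r`. -/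
theorem le_smul_of_rTensor_injective
    (hinj : Function.Injective (LinearMap.rTensor (R ⧸ I) K.subtype))
    (hKI : ∀ z ∈ K, ∀ i, z i ∈ I) : K ≤ I • K := by
  classical
  intro z hz
  have h0 : z ⊗ₜ[R] (1 : R ⧸ I) = 0 := by
    conv_lhs => rw [pi_eq_sum_univ z]
    rw [TensorProduct.sum_tmul]
    apply Finset.sum_eq_zero
    intro i _
    rw [TensorProduct.smul_tmul]
    have : z i • (1 : R ⧸ I) = 0 := by
      have h : z i • (1 : R ⧸ I) = Ideal.Quotient.mk I (z i) := by
        rw [Algebra.smul_def, mul_one]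
        rfl
      rw [h, Ideal.Quotient.eq_zero_iff_mem]
      exact hKI z hz i
    rw [this, TensorProduct.tmul_zero]
  have h1 : (⟨z, hz⟩ : K) ⊗ₜ[R] (1 : R ⧸ I) = 0 := by
    apply hinj
    rw [LinearMap.rTensor_tmul, map_zero]
    exact h0
  have h2 := congrArg (TensorProduct.tensorQuotEquivQuotSMul K I) h1
  rw [map_zero, ← map_one (Ideal.Quotient.mk I), TensorProduct.tensorQuotEquivQuotSMul_tmul_mk,
    one_smul, Submodule.Quotient.mk_eq_zero] at h2
  have h3 : K.subtype ⟨z, hz⟩ ∈ Submodule.map K.subtype (I • (⊤ : Submodule R K)) :=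
    Submodule.mem_map_of_mem h2
  rw [Submodule.map_smul'', Submodule.map_subtype_top] at h3
  exact h3

end TensorStep

section Minimal

variable {k : Type u} [Field k] {σ : Type*}
  {M : Type u} [AddCommGroup M] [Module (MvPolynomial σ k) M]
  (ℳ : ℕ → AddSubgroup M)
  [SetLike.GradedSMul (MvPolynomial.homogeneousSubmodule σ k) ℳ]
  [DirectSum.Decomposition ℳ]

omit [SetLike.GradedSMul (MvPolynomial.homogeneousSubmodule σ k) ℳ] in
/-- Existence of a finite homogeneous generating family. -/
theorem exists_homogeneous_generators [Module.Finite (MvPolynomial σ k) M] :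
    ∃ (r : ℕ) (g : Fin r → M), (∀ i, ∃ d, g i ∈ ℳ d) ∧
      Submodule.span (MvPolynomial σ k) (Set.range g) = ⊤ := by
  classical
  obtain ⟨T0, hT0⟩ := (Module.Finite.fg_top : (⊤ : Submodule (MvPolynomial σ k) M).FG)
  choose s hs using exists_sum_comp ℳ
  let T' : Finset M := T0.biUnion fun t => (s t).image fun e => comp ℳ e t
  have hT'hom : ∀ x ∈ T', ∃ d, x ∈ ℳ d := by
    intro x hx
    rw [Finset.mem_biUnion] at hx
    obtain ⟨t, _, hx⟩ := hx
    rw [Finset.mem_image] at hx
    obtain ⟨e, _, rfl⟩ := hx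
    exact ⟨e, comp_mem ℳ e t⟩
  have hT'span : Submodule.span (MvPolynomial σ k) (T' : Set M) = ⊤ := by
    rw [eq_top_iff, ← hT0, Submodule.span_le]
    intro t ht
    rw [SetLike.mem_coe, hs t]
    refine Submodule.sum_mem _ fun e he => Submodule.subset_span ?_
    rw [Finset.mem_coe, Finset.mem_biUnion]
    exact ⟨t, ht, Finset.mem_image.mpr ⟨e, he, rfl⟩⟩
  refine ⟨T'.card, fun i => (T'.equivFin.symm i : M), fun i => hT'hom _ (T'.equivFin.symm i).2, ?_⟩
  have hrange : Set.range (fun i => (T'.equivFin.symm i : M)) = (T' : Set M) := by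
    ext x
    constructor
    · rintro ⟨i, rfl⟩
      exact (T'.equivFin.symm i).2
    · intro hx
      exact ⟨T'.equivFin ⟨x, hx⟩, by simp⟩
  rw [hrange, hT'span]

variable {r : ℕ} {g : Fin r → M} {d : Fin r → ℕ}

/-- For a minimal homogeneous generating family, relations have coefficients in the irrelevant
ideal. -/
theorem constantCoeff_eq_zero_of_minimal (hg : ∀ i, g i ∈ ℳ (d i))
    (hmin : ∀ r' < r, ∀ g' : Fin r' → M, (∀ i, ∃ d, g' i ∈ ℳ d) →
      Submodule.span (MvPolynomial σ k) (Set.range g') ≠ ⊤)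
    (hspan : Submodule.span (MvPolynomial σ k) (Set.range g) = ⊤)
    (z : Fin r → MvPolynomial σ k)
    (hz : z ∈ LinearMap.ker (Fintype.linearCombination (MvPolynomial σ k) g)) (j : Fin r) :
    constantCoeff (z j) = 0 := by
  by_contra hc
  obtain ⟨r', rfl⟩ : ∃ r', r = r' + 1 := ⟨r - 1, by have := j.2; omega⟩
  have hw : Fintype.linearCombination (MvPolynomial σ k) g (T d (d j) z) = 0 := by
    rw [LinearMap.mem_ker] at hz
    rw [lc_T ℳ hg, hz, comp_zero]
  have hwj : T d (d j) z j = C (constantCoeff (z j)) := by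
    rw [T_apply, if_pos le_rfl, Nat.sub_self, homogeneousComponent_zero]
    rfl
  rw [Fintype.linearCombination_apply, Fin.sum_univ_succAbove _ j, hwj] at hw
  set N := Submodule.span (MvPolynomial σ k) (Set.range (g ∘ j.succAbove)) with hN
  have h1 : (C (constantCoeff (z j)) : MvPolynomial σ k) • g j ∈ N := by
    rw [eq_neg_of_add_eq_zero_left hw]
    refine Submodule.neg_mem _ (Submodule.sum_mem _ fun i _ => Submodule.smul_mem _ _ ?_)
    exact Submodule.subset_span ⟨i, rfl⟩
  have h2 : g j ∈ N := by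
    have := Submodule.smul_mem N (C (constantCoeff (z j))⁻¹ : MvPolynomial σ k) h1
    rw [smul_smul, ← C_mul, inv_mul_cancel₀ hc, C_1, one_smul] at this
    exact this
  refine hmin r' (Nat.lt_succ_self r') (g ∘ j.succAbove) (fun i => ⟨_, hg _⟩) ?_
  rw [← hN, eq_top_iff, ← hspan, Submodule.span_le]
  rintro _ ⟨i, rfl⟩
  by_cases hij : i = j
  · rw [hij]; exact h2
  · obtain ⟨i', rfl⟩ := Fin.exists_succAbove_eq hij
    exact Submodule.subset_span ⟨i', rfl⟩

end Minimal

section TorStep

open CategoryTheory Groth.Agent.Helper13Tor Groth.Agent.Helper13Ses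

variable {R : Type u} [CommRing R]

/-- `Tor_1(M, N) = 0` gives injectivity of `ker π ⊗ N → R^r ⊗ N`. -/
theorem rTensor_injective_of_isZero_tor_one (M N : Type u) [AddCommGroup M] [Module R M]
    [AddCommGroup N] [Module R N] {r : ℕ} (π : (Fin r → R) →ₗ[R] M) (hπ : Function.Surjective π)
    (h : Limits.IsZero (((Tor (ModuleCat.{u} R) 1).obj (ModuleCat.of R M)).obj
      (ModuleCat.of R N))) :
    Function.Injective (LinearMap.rTensor N (LinearMap.ker π).subtype) := by
  obtain ⟨Q⟩ : Nonempty (ProjectiveResolution (ModuleCat.of R N)) :=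
    ⟨projectiveResolution (ModuleCat.of R N)⟩
  have hS := sesKer_shortExact π hπ
  have hδ : δQ (sesKer π) hS Q 0 = 0 := h.eq_of_src _ _
  have hmono : Mono (((Tor (ModuleCat.{u} R) 0).map (sesKer π).f).app (ModuleCat.of R N)) :=
    (δQ_exact₁ (sesKer π) hS Q 0).mono_g hδ
  rw [mono_tor_zero_map₁_iff] at hmono
  exact hmono

end TorStep

section Main

open CategoryTheory

/-- Statement S14423. -/
theorem main_S14423 (k : Type u) [Field k] (n : ℕ)
    (M : Type u) [AddCommGroup M] [Module (MvPolynomial (Fin (n + 1)) k) M]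
    [Module.Finite (MvPolynomial (Fin (n + 1)) k) M]
    (ℳ : ℕ → AddSubgroup M)
    [SetLike.GradedSMul (MvPolynomial.homogeneousSubmodule (Fin (n + 1)) k) ℳ]
    [DirectSum.Decomposition ℳ]
    (h : Limits.IsZero (((Tor (ModuleCat.{u} (MvPolynomial (Fin (n + 1)) k)) 1).obj
      (ModuleCat.of (MvPolynomial (Fin (n + 1)) k) M)).obj
      (ModuleCat.of (MvPolynomial (Fin (n + 1)) k)
        (MvPolynomial (Fin (n + 1)) k ⧸
          RingHom.ker (MvPolynomial.constantCoeff : MvPolynomial (Fin (n + 1)) k →+* k))))) :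
    ∃ (ι : Type u) (b : Module.Basis ι (MvPolynomial (Fin (n + 1)) k) M),
      ∀ i, SetLike.IsHomogeneousElem ℳ (b i) := by
  classical
  have hP := exists_homogeneous_generators (σ := Fin (n + 1)) (k := k) ℳ
  obtain ⟨g, hghom, hspan⟩ := Nat.find_spec hP
  choose d hd using hghom
  have hmin : ∀ r' < Nat.find hP, ∀ g' : Fin r' → M, (∀ i, ∃ d, g' i ∈ ℳ d) →
      Submodule.span (MvPolynomial (Fin (n + 1)) k) (Set.range g') ≠ ⊤ :=
    fun r' hr' g' hg' hs => Nat.find_min hP hr' ⟨g', hg', hs⟩
  set π := Fintype.linearCombination (MvPolynomial (Fin (n + 1)) k) g with hπdef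
  have hπ : Function.Surjective π := by
    rw [← LinearMap.range_eq_top, hπdef, Fintype.range_linearCombination, hspan]
  have hinj := rTensor_injective_of_isZero_tor_one M _ π hπ h
  have hK : LinearMap.ker π ≤
      (RingHom.ker (MvPolynomial.constantCoeff : MvPolynomial (Fin (n + 1)) k →+* k)) •
        LinearMap.ker π :=
    le_smul_of_rTensor_injective _ (LinearMap.ker π) hinj (fun z hz i => by
      rw [RingHom.mem_ker]
      exact constantCoeff_eq_zero_of_minimal ℳ hd hmin hspan z hz i)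
  have hker : LinearMap.ker π = ⊥ := ker_eq_bot_of_le_smul ℳ hd hK
  let e : (Fin (Nat.find hP) → MvPolynomial (Fin (n + 1)) k) ≃ₗ[MvPolynomial (Fin (n + 1)) k] M :=
    LinearEquiv.ofBijective π ⟨LinearMap.ker_eq_bot.mp hker, hπ⟩
  let b0 : Module.Basis (Fin (Nat.find hP)) (MvPolynomial (Fin (n + 1)) k) M :=
    (Pi.basisFun (MvPolynomial (Fin (n + 1)) k) (Fin (Nat.find hP))).map e
  refine ⟨ULift.{u} (Fin (Nat.find hP)), b0.reindex Equiv.ulift.symm, fun i => ⟨d i.down, ?_⟩⟩
  have h1 : b0.reindex Equiv.ulift.symm i = g i.down := by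
    rw [Module.Basis.reindex_apply, Module.Basis.map_apply, Pi.basisFun_apply]
    show π (Pi.single _ 1) = _
    rw [hπdef, Fintype.linearCombination_apply_single, one_smul]
    rfl
  rw [h1]
  exact hd _

end Main

end Groth.Agent.Lib.T1H3.GrFree
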