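import Mathlib
import Groth.Agent.Lib.Helper10ML

/-! Lifting sections along a morphism of towers of modules with Artinian source (for S14353). -/

set_option autoImplicit false
universe u
open CategoryTheory CategoryTheory.Limits Opposite

namespace Groth.Agent.Lib.T1H3.LimTensor

open Groth.Agent.Lib.Helper10

variable {R : Type u} [CommRing R]

section Lift

variable {A B : ℕᵒᵖ ⥤ ModuleCat.{u} R} (a : A ⟶ B)
  (η : (B ⋙ forget (ModuleCat.{u} R)).sections)

/-- the tower of fibres over `η`. -/
def fibre : ℕᵒᵖ ⥤ Type u where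
  obj j := {x : A.obj j // a.app j x = η.1 j}
  map {i j} f := TypeCat.ofHom fun x => ⟨A.map f x.1, by
    rw [NatTrans.naturality_apply a f x.1, x.2]
    exact η.2 f⟩
  map_id i := by
    ext x
    change A.map (𝟙 i) x.1 = x.1
    rw [A.map_id]; rfl
  map_comp f g := by
    ext x
    change A.map (f ≫ g) x.1 = A.map g (A.map f x.1)
    rw [A.map_comp]; rfl

theorem fibre_map_val {i j : ℕᵒᵖ} (f : i ⟶ j) (x : (fibre a η).obj i) :
    ((fibre a η).map f x).1 = A.map f x.1 := rfl

theorem map_trans_apply (F : ℕᵒᵖ ⥤ ModuleCat.{u} R) {n m l : ℕ} (h1 : n ≤ m)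
    (h2 : m ≤ l) (x : F.obj (op l)) :
    F.map (homOfLE (h1.trans h2)).op x = F.map (homOfLE h1).op (F.map (homOfLE h2).op x) := by
  have e : (homOfLE (h1.trans h2)).op = (homOfLE h2).op ≫ (homOfLE h1).op :=
    Subsingleton.elim _ _
  rw [e, F.map_comp]; rfl

/-- the descending chain of images of the kernels. -/
def kerChain (n : ℕ) : ℕ →o (Submodule R (A.obj (op n)))ᵒᵈ where
  toFun k := OrderDual.toDual (Submodule.map (A.map (homOfLE (Nat.le_add_right n k)).op).hom
    (LinearMap.ker (a.app (op (n + k))).hom))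
  monotone' := by
    intro k k' hk
    change Submodule.map _ _ ≤ Submodule.map _ _
    rintro _ ⟨c, hc, rfl⟩
    have hle : n + k ≤ n + k' := Nat.add_le_add_left hk n
    refine ⟨A.map (homOfLE hle).op c, ?_, ?_⟩
    · change a.app _ (A.map (homOfLE hle).op c) = 0
      rw [NatTrans.naturality_apply a (homOfLE hle).op c]
      have : a.app (op (n + k')) c = 0 := hc
      rw [this, map_zero]
    · exact (map_trans_apply A (Nat.le_add_right n k) hle c).symm

theorem fibre_isMittagLeffler (hA : ∀ n : ℕ, IsArtinian R (A.obj (op n)))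
    (hne : ∀ j, Nonempty ((fibre a η).obj j)) : (fibre a η).IsMittagLeffler := by
  intro j
  obtain ⟨n⟩ := j
  obtain ⟨k0, hk0⟩ := IsArtinian.monotone_stabilizes (kerChain a n)
  refine ⟨op (n + k0), (homOfLE (Nat.le_add_right n k0)).op, ?_⟩
  intro k' g
  rintro _ ⟨y, rfl⟩
  obtain ⟨m⟩ := k'
  have hnm : n ≤ m := leOfHom g.unop
  have eg : g = (homOfLE hnm).op := Subsingleton.elim _ _
  -- a common index `l = n + k''`
  set k'' := max k0 (m - n) with hk''
  have hk0k'' : k0 ≤ k'' := le_max_left _ _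
  have hml : m ≤ n + k'' := by
    have : m - n ≤ k'' := le_max_right _ _
    omega
  have hl0 : n + k0 ≤ n + k'' := Nat.add_le_add_left hk0k'' n
  obtain ⟨w⟩ := hne (op (n + k''))
  -- difference lies in the kernel
  have hker : y.1 - A.map (homOfLE hl0).op w.1 ∈ LinearMap.ker (a.app (op (n + k0))).hom := by
    change a.app _ (y.1 - A.map (homOfLE hl0).op w.1) = 0
    rw [map_sub, NatTrans.naturality_apply a (homOfLE hl0).op w.1, y.2, w.2]
    have := η.2 (homOfLE hl0).op
    change B.map (homOfLE hl0).op (η.1 (op (n + k''))) = η.1 (op (n + k0)) at this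
    rw [this, sub_self]
  have hmem : A.map (homOfLE (Nat.le_add_right n k0)).op (y.1 - A.map (homOfLE hl0).op w.1) ∈
      Submodule.map (A.map (homOfLE (Nat.le_add_right n k'')).op).hom
        (LinearMap.ker (a.app (op (n + k''))).hom) := by
    have h1 : A.map (homOfLE (Nat.le_add_right n k0)).op (y.1 - A.map (homOfLE hl0).op w.1) ∈
        Submodule.map (A.map (homOfLE (Nat.le_add_right n k0)).op).hom
          (LinearMap.ker (a.app (op (n + k0))).hom) := ⟨_, hker, rfl⟩
    have h2 := hk0 k'' hk0k''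
    have h3 : Submodule.map (A.map (homOfLE (Nat.le_add_right n k0)).op).hom
          (LinearMap.ker (a.app (op (n + k0))).hom) =
        Submodule.map (A.map (homOfLE (Nat.le_add_right n k'')).op).hom
          (LinearMap.ker (a.app (op (n + k''))).hom) := congrArg OrderDual.ofDual h2
    rw [← h3]
    exact h1
  obtain ⟨c, hc, hcx⟩ := hmem
  have hc' : a.app (op (n + k'')) c = 0 := hc
  let z : (fibre a η).obj (op (n + k'')) := ⟨w.1 + c, by rw [map_add, hc', add_zero, w.2]⟩
  refine ⟨(fibre a η).map (homOfLE hml).op z, ?_⟩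
  apply Subtype.ext
  rw [eg]
  change A.map (homOfLE hnm).op (A.map (homOfLE hml).op (w.1 + c)) =
    A.map (homOfLE (Nat.le_add_right n k0)).op y.1
  rw [← map_trans_apply A hnm hml, map_add]
  have hcx' : A.map (homOfLE (Nat.le_add_right n k'')).op c =
      A.map (homOfLE (Nat.le_add_right n k0)).op (y.1 - A.map (homOfLE hl0).op w.1) := hcx
  have e1 : A.map (homOfLE (hnm.trans hml)).op c =
      A.map (homOfLE (Nat.le_add_right n k'')).op c := rfl
  rw [e1, hcx', map_sub, ← map_trans_apply A (Nat.le_add_right n k0) hl0]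
  have e2 : A.map (homOfLE ((Nat.le_add_right n k0).trans hl0)).op w.1 =
      A.map (homOfLE (hnm.trans hml)).op w.1 := rfl
  rw [e2]
  abel

/-- Lifting compatible families along a morphism of towers with Artinian source. -/
theorem exists_section_lift (hA : ∀ n : ℕ, IsArtinian R (A.obj (op n)))
    (hη : ∀ j, ∃ x : A.obj j, a.app j x = η.1 j) :
    ∃ ζ : (A ⋙ forget (ModuleCat.{u} R)).sections, ∀ j, a.app j (ζ.1 j) = η.1 j := by
  have hne : ∀ j, Nonempty ((fibre a η).obj j) := fun j => by
    obtain ⟨x, hx⟩ := hη j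
    exact ⟨⟨x, hx⟩⟩
  obtain ⟨s, hs⟩ := nonempty_sections_of_isMittagLeffler nat_hcof (fibre a η)
    (fibre_isMittagLeffler a η hA hne)
  refine ⟨⟨fun j => (s j).1, ?_⟩, fun j => (s j).2⟩
  intro i j f
  exact congrArg Subtype.val (hs f)

end Lift

end Groth.Agent.Lib.T1H3.LimTensor
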