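import Mathlib
import Groth.Agent.Lib.T1H3LimTensorA

/-! `(lim Mₙ) ⊗ N ≅ lim (Mₙ ⊗ N)` for towers of finite length modules and finitely presented `N`
(S14353). -/

set_option autoImplicit false
universe u
open CategoryTheory CategoryTheory.Limits Opposite MonoidalCategory TensorProduct

namespace Groth.Agent.Lib.T1H3.LimTensor

variable {R : Type u} [CommRing R]

section Sections

variable (F : ℕᵒᵖ ⥤ ModuleCat.{u} R)

theorem mlimit_ext (x y : (limit F : ModuleCat.{u} R))
    (h : ∀ j, limit.π F j x = limit.π F j y) : x = y :=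
  Concrete.limit_ext F x y h

theorem exists_of_section (s : (F ⋙ forget (ModuleCat.{u} R)).sections) :
    ∃ x : (limit F : ModuleCat.{u} R), ∀ j, limit.π F j x = s.1 j := by
  let e := Types.isLimitEquivSections
    (isLimitOfPreserves (forget (ModuleCat.{u} R)) (limit.isLimit F))
  refine ⟨e.symm s, fun j => ?_⟩
  have h1 : ∀ x j, (e x).1 j = limit.π F j x := fun x j => rfl
  have := h1 (e.symm s) j
  rw [Equiv.apply_symm_apply] at this
  exact this.symm

theorem section_of_limit (x : (limit F : ModuleCat.{u} R)) :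
    (fun j => limit.π F j x) ∈ (F ⋙ forget (ModuleCat.{u} R)).sections := by
  intro i j f
  change F.map f (limit.π F i x) = limit.π F j x
  rw [← limit.w F f]
  rfl

end Sections

variable (M : ℕᵒᵖ ⥤ ModuleCat.{u} R)

/-- the functor `- ⊗ X`. -/
noncomputable abbrev FX (X : Type u) [AddCommGroup X] [Module R X] :
    ModuleCat.{u} R ⥤ ModuleCat.{u} R :=
  tensorRight (ModuleCat.of R X)

theorem post_π_apply (X : Type u) [AddCommGroup X] [Module R X] (j : ℕᵒᵖ)
    (z : ((FX X).obj (limit M) : ModuleCat.{u} R)) :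
    limit.π (M ⋙ FX X) j ((limit.post M (FX X)) z) =
      (LinearMap.rTensor X (limit.π M j).hom) z := by
  have := limit.post_π M (FX (R := R) X) j
  exact congrArg (fun φ => φ.hom z) this

/-- the morphism of towers induced by a linear map. -/
noncomputable def αh {X Y : Type u} [AddCommGroup X] [Module R X] [AddCommGroup Y] [Module R Y]
    (h : X →ₗ[R] Y) : (M ⋙ FX X) ⟶ (M ⋙ FX Y) where
  app j := M.obj j ◁ ModuleCat.ofHom h
  naturality i j f := by
    change (M.map f ▷ ModuleCat.of R X) ≫ (M.obj j ◁ ModuleCat.ofHom h) =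
      (M.obj i ◁ ModuleCat.ofHom h) ≫ (M.map f ▷ ModuleCat.of R Y)
    exact (whisker_exchange (M.map f) (ModuleCat.ofHom h)).symm

theorem αh_app_apply {X Y : Type u} [AddCommGroup X] [Module R X] [AddCommGroup Y] [Module R Y]
    (h : X →ₗ[R] Y) (j : ℕᵒᵖ) (x : (M.obj j : Type u) ⊗[R] X) :
    (αh M h).app j x = LinearMap.lTensor (M.obj j) h x := rfl

theorem rTensor_lTensor_comm {V W X Y : Type u} [AddCommGroup V] [Module R V] [AddCommGroup W]
    [Module R W] [AddCommGroup X] [Module R X] [AddCommGroup Y] [Module R Y]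
    (φ : V →ₗ[R] W) (h : X →ₗ[R] Y) (z : V ⊗[R] X) :
    LinearMap.rTensor Y φ (LinearMap.lTensor V h z) = LinearMap.lTensor W h (LinearMap.rTensor X φ z) := by
  rw [← LinearMap.comp_apply, ← LinearMap.comp_apply, LinearMap.rTensor_comp_lTensor,
    LinearMap.lTensor_comp_rTensor]

section Free

variable (k : ℕ)

/-- `V ⊗ R^k ≃ V^k`. -/
noncomputable abbrev eV (V : Type u) [AddCommGroup V] [Module R V] :
    V ⊗[R] (Fin k → R) ≃ₗ[R] (Fin k → V) :=
  TensorProduct.piScalarRight R R V (Fin k)

theorem eV_rTensor {V W : Type u} [AddCommGroup V] [Module R V] [AddCommGroup W] [Module R W]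
    (φ : V →ₗ[R] W) (z : V ⊗[R] (Fin k → R)) (i : Fin k) :
    eV k W (LinearMap.rTensor (Fin k → R) φ z) i = φ (eV k V z i) := by
  induction z using TensorProduct.induction_on with
  | zero => simp
  | tmul x f =>
    simp [TensorProduct.piScalarRight_apply, TensorProduct.piScalarRightHom_tmul]
  | add x y hx hy =>
    rw [map_add, map_add, map_add, Pi.add_apply, Pi.add_apply, hx, hy, map_add]

theorem post_free_bijective :
    Function.Bijective (limit.post M (FX (R := R) (Fin k → R))).hom := by
  constructor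
  · rw [injective_iff_map_eq_zero]
    intro z hz
    have h1 : ∀ j, LinearMap.rTensor (Fin k → R) (limit.π M j).hom z = 0 := by
      intro j
      rw [← post_π_apply]
      change limit.π (M ⋙ FX (Fin k → R)) j ((limit.post M (FX (R := R) (Fin k → R))).hom z) = 0
      rw [hz, map_zero]
    apply (eV k _).injective
    rw [map_zero]
    funext i
    apply mlimit_ext M
    intro j
    have := eV_rTensor k (limit.π M j).hom z i
    rw [h1 j, map_zero] at this
    rw [Pi.zero_apply, map_zero]
    exact this.symm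
  · intro ξ
    have hτ : ∀ i : Fin k, ∃ τ : (limit M : ModuleCat.{u} R), ∀ j,
        limit.π M j τ = eV k (M.obj j) (limit.π (M ⋙ FX (Fin k → R)) j ξ) i := by
      intro i
      apply exists_of_section M ⟨fun j => eV k (M.obj j) (limit.π (M ⋙ FX (Fin k → R)) j ξ) i, ?_⟩
      intro j j' f
      change M.map f (eV k (M.obj j) (limit.π (M ⋙ FX (Fin k → R)) j ξ) i) =
        eV k (M.obj j') (limit.π (M ⋙ FX (Fin k → R)) j' ξ) i
      have h2 := eV_rTensor k (M.map f).hom (limit.π (M ⋙ FX (Fin k → R)) j ξ) i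
      have h3 : LinearMap.rTensor (Fin k → R) (M.map f).hom (limit.π (M ⋙ FX (Fin k → R)) j ξ) =
          limit.π (M ⋙ FX (Fin k → R)) j' ξ :=
        section_of_limit (M ⋙ FX (Fin k → R)) ξ f
      rw [h3] at h2
      exact h2.symm
    choose τ hτ using hτ
    refine ⟨(eV k _).symm τ, ?_⟩
    apply mlimit_ext
    intro j
    change limit.π (M ⋙ FX (Fin k → R)) j ((limit.post M (FX (R := R) (Fin k → R)))
      ((eV k _).symm τ)) = _
    rw [post_π_apply]
    apply (eV k (M.obj j)).injective
    funext i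
    rw [eV_rTensor, LinearEquiv.apply_symm_apply, hτ]

end Free

section Main

variable (hM : ∀ n : ℕᵒᵖ, IsFiniteLength R (M.obj n))
include hM

theorem isArtinian_tensor_free (k : ℕ) (n : ℕ) :
    IsArtinian R ((M ⋙ FX (R := R) (Fin k → R)).obj (op n)) := by
  have h1 : IsArtinian R (M.obj (op n)) :=
    (isFiniteLength_iff_isNoetherian_isArtinian.1 (hM (op n))).2
  have h2 : IsArtinian R (Fin k → (M.obj (op n) : Type u)) := inferInstance
  exact isArtinian_of_linearEquiv (eV k (M.obj (op n))).symm

theorem post_surjective {N : Type u} [AddCommGroup N] [Module R N] (b : ℕ)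
    (g : (Fin b → R) →ₗ[R] N) (hg : Function.Surjective g) :
    Function.Surjective (limit.post M (FX (R := R) N)).hom := by
  intro ξ
  obtain ⟨ζ, hζ⟩ := exists_section_lift (αh M g)
    ⟨fun j => limit.π (M ⋙ FX N) j ξ, section_of_limit (M ⋙ FX N) ξ⟩
    (isArtinian_tensor_free M hM b) (fun j => by
      obtain ⟨x, hx⟩ := LinearMap.lTensor_surjective (M.obj j) hg (limit.π (M ⋙ FX N) j ξ)
      exact ⟨x, hx⟩)
  obtain ⟨ζ', hζ'⟩ := exists_of_section (M ⋙ FX (Fin b → R)) ζ
  obtain ⟨z', hz'⟩ := (post_free_bijective M b).2 ζ'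
  refine ⟨LinearMap.lTensor (limit M : ModuleCat.{u} R) g z', ?_⟩
  apply mlimit_ext
  intro j
  change limit.π (M ⋙ FX N) j ((limit.post M (FX (R := R) N))
    (LinearMap.lTensor (limit M : ModuleCat.{u} R) g z')) = _
  rw [post_π_apply, rTensor_lTensor_comm, ← post_π_apply]
  change LinearMap.lTensor (M.obj j) g (limit.π (M ⋙ FX (Fin b → R)) j
    ((limit.post M (FX (R := R) (Fin b → R))).hom z')) = _
  rw [hz', hζ' j]
  exact hζ j

theorem post_injective {N : Type u} [AddCommGroup N] [Module R N] (a b : ℕ)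
    (f : (Fin a → R) →ₗ[R] (Fin b → R)) (g : (Fin b → R) →ₗ[R] N)
    (hfg : Function.Exact f g) (hg : Function.Surjective g) :
    Function.Injective (limit.post M (FX (R := R) N)).hom := by
  rw [injective_iff_map_eq_zero]
  intro z hz
  obtain ⟨z', rfl⟩ := LinearMap.lTensor_surjective (limit M : ModuleCat.{u} R) hg z
  set η := (limit.post M (FX (R := R) (Fin b → R))).hom z' with hη
  have hηj : ∀ j, limit.π (M ⋙ FX (Fin b → R)) j η =
      LinearMap.rTensor (Fin b → R) (limit.π M j).hom z' := fun j => post_π_apply M _ j z'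
  have hker : ∀ j, LinearMap.lTensor (M.obj j) g (limit.π (M ⋙ FX (Fin b → R)) j η) = 0 := by
    intro j
    rw [hηj, ← rTensor_lTensor_comm, ← post_π_apply]
    change limit.π (M ⋙ FX N) j ((limit.post M (FX (R := R) N)).hom
      (LinearMap.lTensor (limit M : ModuleCat.{u} R) g z')) = 0
    rw [hz, map_zero]
  obtain ⟨ζ, hζ⟩ := exists_section_lift (αh M f)
    ⟨fun j => limit.π (M ⋙ FX (Fin b → R)) j η, section_of_limit (M ⋙ FX (Fin b → R)) η⟩
    (isArtinian_tensor_free M hM a) (fun j => by
      have hex := lTensor_exact (M.obj j) hfg hg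
      obtain ⟨x, hx⟩ := (hex _).1 (hker j)
      exact ⟨x, hx⟩)
  obtain ⟨ζ', hζ'⟩ := exists_of_section (M ⋙ FX (Fin a → R)) ζ
  obtain ⟨z'', hz''⟩ := (post_free_bijective M a).2 ζ'
  have hz' : z' = LinearMap.lTensor (limit M : ModuleCat.{u} R) f z'' := by
    apply (post_free_bijective M b).1
    apply mlimit_ext
    intro j
    change limit.π (M ⋙ FX (Fin b → R)) j η = limit.π (M ⋙ FX (Fin b → R)) j
      ((limit.post M (FX (R := R) (Fin b → R)))
        (LinearMap.lTensor (limit M : ModuleCat.{u} R) f z''))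
    have e1 : limit.π (M ⋙ FX (Fin b → R)) j ((limit.post M (FX (R := R) (Fin b → R)))
        (LinearMap.lTensor (limit M : ModuleCat.{u} R) f z'')) =
        LinearMap.lTensor (M.obj j) f (LinearMap.rTensor (Fin a → R) (limit.π M j).hom z'') := by
      rw [post_π_apply, rTensor_lTensor_comm]
    have e2 : LinearMap.rTensor (Fin a → R) (limit.π M j).hom z'' =
        limit.π (M ⋙ FX (Fin a → R)) j ζ' := by
      rw [← hz'']
      exact (post_π_apply M _ j z'').symm
    rw [e1, e2, hζ' j]
    exact (hζ j).symm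
  rw [hz', ← LinearMap.comp_apply, ← LinearMap.lTensor_comp]
  have : g ∘ₗ f = 0 := hfg.linearMap_comp_eq_zero
  rw [this, LinearMap.lTensor_zero, LinearMap.zero_apply]

theorem main_S14353 (N : Type u) [AddCommGroup N] [Module R N] [Module.FinitePresentation R N] :
    IsIso (limit.post M (tensorRight (ModuleCat.of R N))) := by
  obtain ⟨b, K, e, hK⟩ := Module.FinitePresentation.exists_fin R N
  have : Module.Finite R K := Module.Finite.iff_fg.2 hK
  obtain ⟨a, f0, hf0⟩ := Module.Finite.exists_fin' R K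
  let f : (Fin a → R) →ₗ[R] (Fin b → R) := K.subtype ∘ₗ f0
  let g : (Fin b → R) →ₗ[R] N := e.symm.toLinearMap ∘ₗ K.mkQ
  have hg : Function.Surjective g := e.symm.surjective.comp K.mkQ_surjective
  have hfg : Function.Exact f g := by
    intro y
    constructor
    · intro hy
      have h1 : K.mkQ y = 0 := by
        have : e.symm (K.mkQ y) = 0 := hy
        exact (LinearEquiv.map_eq_zero_iff e.symm).1 this
      have h2 : y ∈ K := (Submodule.Quotient.mk_eq_zero K).1 h1
      obtain ⟨x, hx⟩ := hf0 ⟨y, h2⟩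
      exact ⟨x, by change (K.subtype (f0 x)) = y; rw [hx]; rfl⟩
    · rintro ⟨x, rfl⟩
      change e.symm (K.mkQ (K.subtype (f0 x))) = 0
      have : K.mkQ (K.subtype (f0 x)) = 0 :=
        (Submodule.Quotient.mk_eq_zero K).2 (f0 x).2
      rw [this, map_zero]
  rw [ConcreteCategory.isIso_iff_bijective]
  exact ⟨post_injective M hM a b f g hfg hg, post_surjective M hM b g hg⟩

end Main

end Groth.Agent.Lib.T1H3.LimTensor
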