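import Groth.Agent.Lib.T2H2RatFun2
import Groth.Agent.Lib.Helper2QcPush
import Groth.Agent.S5084

/-!
# Embedding torsion-free modules of rank one into the sheaf of rational functions (helper2, team 2)

Namespace `Groth.Agent.Lib.T2H2.RatFun`.

* `germ_genericPoint_injective`: sections of a torsion-free quasi-coherent module on an integral scheme inject into the
  generic stalk.
* `embFun`, `emb`: the morphism `F ⟶ KX X` attached to a linear form `θ` on the generic stalk; `emb_app`.
* `mono_emb`: it is a monomorphism when `θ` is injective and `F` is quasi-coherent and torsion-free.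
-/

set_option autoImplicit false
universe u
open TorSh
open AlgebraicGeometry CategoryTheory TopologicalSpace Opposite

namespace Groth.Agent.Lib.T2H2.RatFun
open Groth.Agent.Lib.Helper4.NormDelta Groth.Agent.Lib.Helper23.StalkLin Groth.Agent.Lib.Helper2.QCoh

variable {X : Scheme.{u}} [IsIntegral X]

/-- sections of a torsion-free quasi-coherent module on an integral scheme inject into the generic stalk. -/
theorem germ_genericPoint_injective (F : X.Modules) [F.IsQuasicoherent]
    (hF : TorSh.IsTorsionFree F) {V : X.Opens} (hV : genericPoint X ∈ V) :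
    Function.Injective (F.presheaf.germ V (genericPoint X) hV) := by
  rw [injective_iff_map_eq_zero]
  intro s hs
  apply Groth.Agent.Lib.Helper2.QcPush.section_eq_zero_of_germ
  intro x hx
  have h0 : F.presheaf.germ V (genericPoint X) hV s = F.presheaf.germ V (genericPoint X) hV 0 := by
    rw [hs, map_zero]
  obtain ⟨W, hW, i₁, i₂, hres⟩ := F.presheaf.germ_eq _ hV hV s 0 h0
  rw [map_zero] at hres
  obtain ⟨V', hV', hxV', hV'V0⟩ := exists_isAffineOpen_mem_and_subset (x := x) (U := V) hx
  have hV'V : V' ≤ V := hV'V0
  have hηV' : genericPoint X ∈ V' :=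
    ((genericPoint_spec X).mem_open_set_iff V'.2).2 ⟨x, trivial, hxV'⟩
  obtain ⟨f, hfle, hηf⟩ := hV'.exists_basicOpen_le (V := W) ⟨genericPoint X, hW⟩ hηV'
  have hcomp : ∀ {A B C : X.Opens} (h1 : A ≤ B) (h2 : B ≤ C) (t : Γ(F, C)),
      F.presheaf.map (homOfLE h1).op (F.presheaf.map (homOfLE h2).op t) =
        F.presheaf.map (homOfLE (h1.trans h2)).op t := by
    intro A B C h1 h2 t
    rw [← ConcreteCategory.comp_apply, ← Functor.map_comp]
    rfl
  set s' : Γ(F, V') := F.presheaf.map (homOfLE hV'V).op s with hs'
  have hi₁ : i₁ = homOfLE (leOfHom i₁) := Subsingleton.elim _ _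
  rw [hi₁] at hres
  have hs'0 : F.presheaf.map (homOfLE (X.basicOpen_le f)).op s' = 0 := by
    rw [hs', hcomp, ← hcomp hfle (leOfHom i₁), hres, map_zero]
  obtain ⟨n, hn⟩ := exists_pow_smul_eq_zero hV' F f s' hs'0
  have hgs : F.presheaf.germ V x hx s = F.presheaf.germ V' x hxV' s' :=
    (TopCat.Presheaf.germ_res_apply F.presheaf (homOfLE hV'V) x hxV' s).symm
  rw [hgs]
  have h1 : X.presheaf.germ V' x hxV' (f ^ n) • F.presheaf.germ V' x hxV' s' = 0 := by
    rw [← germ_smul, hn, map_zero]
  have hf0 : f ≠ 0 := by
    rintro rfl
    rw [Scheme.basicOpen_zero] at hηf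
    exact hηf
  have hne : X.presheaf.germ V' x hxV' (f ^ n) ≠ 0 := by
    rw [map_pow]
    exact pow_ne_zero n (fun h => hf0 (germ_injective_of_isIntegral X x hxV'
      (h.trans (map_zero _).symm)))
  have := hF x
  exact (smul_eq_zero.1 h1).resolve_left hne


section embed
variable (F : X.Modules)
  (θ : F.presheaf.stalk (genericPoint X) →ₗ[X.presheaf.stalk (genericPoint X)]
    X.presheaf.stalk (genericPoint X))

open Classical in
/-- the components of the map to the sheaf of rational functions attached to a linear form on the generic stalk. -/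
noncomputable def embFun (U : X.Opens) : Γ(F, U) →+ Γ(KX X, U) where
  toFun s := if h : genericPoint X ∈ U then kap U (θ (F.presheaf.germ U (genericPoint X) h s)) else 0
  map_zero' := by
    split_ifs with h
    · rw [map_zero, map_zero]
      have := kap_add U (0 : X.presheaf.stalk (genericPoint X)) 0
      rw [add_zero] at this
      exact left_eq_add.1 this
    · rfl
  map_add' a b := by
    split_ifs with h
    · rw [map_add, map_add, kap_add]
    · rw [add_zero]

open Classical in
theorem embFun_apply {U : X.Opens} (h : genericPoint X ∈ U) (s : Γ(F, U)) :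
    embFun F θ U s = kap U (θ (F.presheaf.germ U (genericPoint X) h s)) := by
  change (if h : genericPoint X ∈ U then kap U (θ (F.presheaf.germ U (genericPoint X) h s)) else 0) = _
  rw [dif_pos h]

/-- the morphism to the sheaf of rational functions attached to a linear form on the generic stalk. -/
noncomputable def emb : F ⟶ KX X :=
  ⟨PresheafOfModules.homMk
    { app := fun U => AddCommGrpCat.ofHom (embFun F θ U.unop)
      naturality := fun {U V} i => by
        ext s
        change embFun F θ V.unop (F.presheaf.map i s) = (KX X).presheaf.map i (embFun F θ U.unop s)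
        by_cases hV : genericPoint X ∈ V.unop
        · have hU : genericPoint X ∈ U.unop := leOfHom i.unop hV
          rw [embFun_apply F θ hV, embFun_apply F θ hU]
          have hi : i = (homOfLE (leOfHom i.unop)).op := Subsingleton.elim _ _
          rw [hi, kap_res]
          congr 2
          exact TopCat.Presheaf.germ_res_apply F.presheaf (homOfLE (leOfHom i.unop)) _ hV s
        · have := subsingleton_of_notMem hV
          exact Subsingleton.elim _ _ }
    (fun U r s => by
      change embFun F θ U.unop ((show Γ(X, U.unop) from r) • (show Γ(F, U.unop) from s)) =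
        (show Γ(X, U.unop) from r) • embFun F θ U.unop s
      by_cases hU : genericPoint X ∈ U.unop
      · rw [embFun_apply F θ hU, embFun_apply F θ hU, smul_kap hU, germ_smul, map_smul, smul_eq_mul]
      · have := subsingleton_of_notMem hU
        exact Subsingleton.elim _ _)⟩

theorem emb_app (U : X.Opens) (s : Γ(F, U)) :
    Scheme.Modules.Hom.app (emb F θ) U s = embFun F θ U s := rfl

theorem mono_emb [F.IsQuasicoherent] (hF : TorSh.IsTorsionFree F) (hθ : Function.Injective θ) :
    Mono (emb F θ) := by
  refine Groth.Agent.S5084.mono_of_injective_app _ (fun V => ?_)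
  rw [injective_iff_map_eq_zero]
  intro s hs
  rw [emb_app] at hs
  by_cases hV : genericPoint X ∈ V
  · rw [embFun_apply F θ hV] at hs
    have h0 : kap V (θ (F.presheaf.germ V (genericPoint X) hV s)) = kap V 0 := by
      rw [hs]
      have := kap_add V (0 : X.presheaf.stalk (genericPoint X)) 0
      rw [add_zero] at this
      exact (left_eq_add.1 this).symm
    have h1 := (kap_bijective hV).1 h0
    have h2 : F.presheaf.germ V (genericPoint X) hV s = 0 := hθ (h1.trans (map_zero θ).symm)
    exact germ_genericPoint_injective F hF hV (h2.trans (map_zero _).symm)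
  · apply Groth.Agent.Lib.Helper2.QcPush.section_eq_zero_of_germ
    intro x hx
    exact absurd (((genericPoint_spec X).mem_open_set_iff V.2).2 ⟨x, trivial, hx⟩) hV

end embed

end Groth.Agent.Lib.T2H2.RatFun
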