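import Mathlib

/-!
# Over a PID, a finite module surjects onto its double dual (helper4)
-/

set_option autoImplicit false
set_option linter.style.haveILetI false
universe u

namespace Groth.Agent.Lib.T2H4.PIDEval

open Module

variable {R : Type u} [CommRing R] [IsDomain R] [IsPrincipalIdealRing R]

theorem surjective_dual_eval (M : Type u) [AddCommGroup M] [Module R M] [Module.Finite R M] :
    Function.Surjective (Dual.eval R M) := by
  let T : Submodule R M := Submodule.torsion R M
  haveI : Module.IsTorsionFree R (M ⧸ T) := Submodule.QuotientTorsion.instIsTorsionFree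
  haveI : Module.Finite R (M ⧸ T) := inferInstance
  haveI : Module.Free R (M ⧸ T) := Module.free_of_finite_type_torsion_free'
  intro ξ
  let ξ' : Dual R (Dual R (M ⧸ T)) := ξ.comp (T.mkQ.dualMap)
  obtain ⟨m', hm'⟩ := (Module.bijective_dual_eval R (M ⧸ T)).2 ξ'
  obtain ⟨m, rfl⟩ := T.mkQ_surjective m'
  refine ⟨m, ?_⟩
  apply LinearMap.ext
  intro φ
  have hφ : T ≤ LinearMap.ker φ := by
    intro t ht
    obtain ⟨a, ha⟩ := (Submodule.mem_torsion_iff t).1 ht
    rw [LinearMap.mem_ker]
    have h1 : (a : R) * φ t = 0 := by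
      rw [← smul_eq_mul, ← map_smul]
      have : (a : R) • t = 0 := ha
      rw [this, map_zero]
    exact (mul_eq_zero.1 h1).resolve_left (nonZeroDivisors.coe_ne_zero a)
  let φ' : Dual R (M ⧸ T) := T.liftQ φ hφ
  have h2 : T.mkQ.dualMap φ' = φ := by
    apply LinearMap.ext
    intro y
    change φ' (T.mkQ y) = φ y
    exact Submodule.liftQ_apply T φ y
  have h3 := congrArg (fun ζ : Dual R (Dual R (M ⧸ T)) => ζ φ') hm'
  change φ' (T.mkQ m) = ξ (T.mkQ.dualMap φ') at h3
  rw [h2] at h3
  change φ m = ξ φ
  rw [← h3]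
  exact (Submodule.liftQ_apply T φ m).symm

end Groth.Agent.Lib.T2H4.PIDEval
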