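import Groth.Agent.Lib.Helper2LocFree
import Groth.Agent.Lib.Helper23FinPres
import Groth.Agent.Lib.Helper23FinTypeLocal

/-!
# Flat stalks and restriction to opens (helper2, team 2)

Namespace `Groth.Agent.Lib.T2H2.FlatRestrict`.

* `isFlatAt_restrict`: if a quasi-coherent module `M` has flat stalks at all points of an open `U`, then
  `M.restrict U.ι` has flat stalks.
* `isOpen_setOf_isFlatAt`: the flat locus of a finitely presented quasi-coherent module is open.
* `isFinLocFree_restrict_of_isFlatAt`: a coherent module on a locally Noetherian scheme is finite locally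
  free on any open where its stalks are flat.
-/

set_option autoImplicit false
universe u
open CategoryTheory CategoryTheory.Limits AlgebraicGeometry TopologicalSpace

namespace Groth.Agent.Lib.T2H2.FlatRestrict
open Groth.Agent.Lib.Helper2.LocFree Groth.Agent.Lib.Helper2.FlatOver

/-- the restriction of a quasi-coherent module to an open on which all stalks are flat has flat
stalks. -/
theorem isFlatAt_restrict {X : Scheme.{u}} (M : X.Modules) [M.IsQuasicoherent] (U : X.Opens)
    (h : ∀ x : X, x ∈ U → FlatMod.IsFlatAt M x) (x' : (U : Scheme.{u})) :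
    FlatMod.IsFlatAt (M.restrict U.ι) x' := by
  obtain ⟨V, hV, hxV, -⟩ := exists_isAffineOpen_mem_and_subset (x := x') (U := ⊤) trivial
  have hW : IsAffineOpen (U.ι ''ᵁ V) := hV.image_of_isOpenImmersion U.ι
  have hWU : ∀ x : X, x ∈ U.ι ''ᵁ V → x ∈ U := by
    rintro x ⟨y, -, rfl⟩
    exact y.2
  have hflat : Module.Flat Γ(X, U.ι ''ᵁ V) Γ(M, U.ι ''ᵁ V) :=
    flat_sections_of_isFlatAt M hW (fun x hx => h x (hWU x hx))
  have hflat' : Module.Flat Γ((U : Scheme.{u}), V) Γ(M.restrict U.ι, V) := by
    refine (flat_iff_of_semilinear_equiv (R := Γ((U : Scheme.{u}), V)) (M := Γ(M.restrict U.ι, V))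
      (σ := (U.ι.appIso V).symm.commRingCatIsoToRingEquiv)
      (e := (M.restrictAppIso U.ι V).addCommGroupIsoToAddEquiv) (he := fun r m => ?_)).2 hflat
    exact Scheme.Modules.smul_restrictAppIso_hom_apply U.ι M V r m
  exact isFlatAt_of_flat_sections (M.restrict U.ι) hV hflat' x' hxV

/-- the flat locus of a finitely presented quasi-coherent module is open. -/
theorem isOpen_setOf_isFlatAt {X : Scheme.{u}} (M : X.Modules) [M.IsQuasicoherent]
    [SheafOfModules.IsFinitePresentation (R := X.ringCatSheaf) M] :
    IsOpen {x : X | FlatMod.IsFlatAt M x} := by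
  rw [isOpen_iff_forall_mem_open]
  intro x hx
  obtain ⟨D, m, hxD, ⟨e⟩⟩ := exists_restrict_iso_freeMod_of_isFlatAt M x hx
  exact ⟨D, fun y hy => isFlatAt_of_restrict_iso_freeMod D.ι M e ⟨y, hy⟩, D.2, hxD⟩

/-- a coherent module on a locally Noetherian scheme is finite locally free on any open where its
stalks are flat. -/
theorem isFinLocFree_restrict_of_isFlatAt {X : Scheme.{u}} [IsLocallyNoetherian X] (M : X.Modules)
    [M.IsQuasicoherent] [SheafOfModules.IsFiniteType (R := X.ringCatSheaf) M] (U : X.Opens)
    (h : ∀ x : X, x ∈ U → FlatMod.IsFlatAt M x) : FlatMod.IsFinLocFree (M.restrict U.ι) := by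
  have : SheafOfModules.IsFiniteType (R := (U : Scheme.{u}).ringCatSheaf) (M.restrict U.ι) :=
    Groth.Agent.Lib.Helper23.FinType.isFiniteType_restrict U.ι M
  have := Groth.Agent.Lib.Helper23.FinType.isFinitePresentation_of_isFiniteType (M.restrict U.ι)
  intro x'
  obtain ⟨D, m, hxD, e⟩ := exists_restrict_iso_freeMod_of_isFlatAt (M.restrict U.ι) x'
    (isFlatAt_restrict M U h x')
  exact ⟨D, m, hxD, e⟩

end Groth.Agent.Lib.T2H2.FlatRestrict
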