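import Mathlib
import Groth.Prelude.Def_LocCohZ
import Groth.Agent.Lib.Helper23AffOpen2

/-!
# Cohomology with supports on an affine open: the long exact sequence degenerates (helper4)
-/

set_option autoImplicit false

namespace Groth.Agent.Lib.T2H4.AffLES

universe u
open CategoryTheory CategoryTheory.Limits TopologicalSpace Opposite AlgebraicGeometry LocCohZ
open Groth.Agent.Lib.Helper23.AffVanish Groth.Agent.Lib.Helper6

variable {X : Scheme.{u}} (M : X.Modules) [M.IsQuasicoherent] {V W : X.Opens}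
  (hV : IsAffineOpen V) (h : W ≤ V)

include hV in
theorem delta_surjective (i : ℕ) :
    Function.Surjective (LocCohZ.delta (X := X.carrier) (Coh.toAb M) i h) := by
  intro x₃
  have hS := LocCohZ.zqSeq_shortExact (X := X.carrier) h
  have : Subsingleton (HE (ab' M) (i + 1) V) := subsingleton_HE_of_isAffineOpen hV M i
  obtain ⟨x₁, hx₁⟩ := Abelian.Ext.contravariant_sequence_exact₃ hS (Coh.toAb M) x₃
    (Subsingleton.elim (α := HE (ab' M) (i + 1) V) _ _) (add_comm 1 i)
  exact ⟨x₁, hx₁⟩

include hV in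
theorem delta_injective (i : ℕ) :
    Function.Injective (LocCohZ.delta (X := X.carrier) (Coh.toAb M) (i + 1) h) := by
  rw [injective_iff_map_eq_zero]
  intro x₁ hx₁
  have hS := LocCohZ.zqSeq_shortExact (X := X.carrier) h
  have : Subsingleton (HE (ab' M) (i + 1) V) := subsingleton_HE_of_isAffineOpen hV M i
  obtain ⟨x₂, hx₂⟩ := Abelian.Ext.contravariant_sequence_exact₁ hS (Coh.toAb M) x₁
    (add_comm 1 (i + 1)) hx₁
  have : x₂ = 0 := Subsingleton.elim (α := HE (ab' M) (i + 1) V) _ _
  rw [← hx₂, this, Abelian.Ext.comp_zero]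
  rfl

include hV in
theorem subsingleton_HZ_succ_succ_iff (i : ℕ) :
    Subsingleton (LocCohZ.HZ (X := X.carrier) (Coh.toAb M) (i + 2) h) ↔
      Subsingleton (HE (ab' M) (i + 1) W) := by
  have e : HE (ab' M) (i + 1) W ≃ LocCohZ.HZ (X := X.carrier) (Coh.toAb M) (i + 2) h :=
    Equiv.ofBijective _ ⟨delta_injective M hV h i, delta_surjective M hV h (i + 1)⟩
  exact e.subsingleton_congr.symm

omit [M.IsQuasicoherent] in
theorem subsingleton_HZ_zero_iff :
    Subsingleton (LocCohZ.HZ (X := X.carrier) (Coh.toAb M) 0 h) ↔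
      Function.Injective (res M h) := by
  rw [(LocCohZ.sect0Equiv (X := X.carrier) (Coh.toAb M) h).toEquiv.subsingleton_congr]
  constructor
  · intro hs
    rw [injective_iff_map_eq_zero]
    intro s hs0
    have hmem : s ∈ LocCohZ.sectZ (X := X.carrier) (Coh.toAb M) h := hs0
    exact congrArg Subtype.val (Subsingleton.elim
      (⟨s, hmem⟩ : LocCohZ.sectZ (X := X.carrier) (Coh.toAb M) h) 0)
  · intro hinj
    refine ⟨fun a b => ?_⟩
    have h0 : ∀ c : LocCohZ.sectZ (X := X.carrier) (Coh.toAb M) h, c = 0 := by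
      intro c
      apply Subtype.ext
      apply hinj
      have hz : res M h (0 : Γ(M, V)) = 0 := map_zero _
      exact c.2.trans hz.symm
    rw [h0 a, h0 b]

include hV in
theorem subsingleton_HZ_one_iff :
    Subsingleton (LocCohZ.HZ (X := X.carrier) (Coh.toAb M) 1 h) ↔
      Function.Surjective (res M h) := by
  have hS := LocCohZ.zqSeq_shortExact (X := X.carrier) h
  constructor
  · intro hs t
    -- lift `t` to a class over `W`
    let x₁ : HE (ab' M) 0 W := (h0F' M W).symm t
    have hx₁ : hS.extClass.comp x₁ (add_comm 1 0) = 0 :=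
      Subsingleton.elim (α := LocCohZ.HZ (X := X.carrier) (Coh.toAb M) 1 h) _ _
    obtain ⟨x₂, hx₂⟩ := Abelian.Ext.contravariant_sequence_exact₁ hS (Coh.toAb M) x₁
      (add_comm 1 0) hx₁
    refine ⟨h0F' M V x₂, ?_⟩
    have h1 := h0F'_res M h x₂
    rw [← h1]
    have h2 : resE (ab' M) 0 h x₂ = x₁ := hx₂
    rw [h2]
    exact (h0F' M W).apply_symm_apply t
  · intro hsurj
    refine ⟨fun a b => ?_⟩
    have h0 : ∀ c : LocCohZ.HZ (X := X.carrier) (Coh.toAb M) 1 h, c = 0 := by
      intro c
      obtain ⟨x₁, rfl⟩ := delta_surjective M hV h 0 c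
      obtain ⟨s, hs⟩ := hsurj (h0F' M W x₁)
      have h1 := h0F'_res M h ((h0F' M V).symm s)
      rw [AddEquiv.apply_symm_apply, hs] at h1
      have h2 : resE (ab' M) 0 h ((h0F' M V).symm s) = x₁ := (h0F' M W).injective h1
      rw [← h2]
      exact ShortComplex.ShortExact.extClass_comp_assoc hS _ (h := add_comm 1 0)
    rw [h0 a, h0 b]

end Groth.Agent.Lib.T2H4.AffLES
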