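import Mathlib
import Groth.Agent.Lib.Helper21ConeLES2

set_option autoImplicit false

namespace Groth.Agent.Lib.T2H2.ConeNat

open CategoryTheory CategoryTheory.Limits CochainComplex HomComplex HomotopyCategory
open Groth.Agent.Lib.Helper21

universe v u

variable {C : Type u} [Category.{v} C] [Abelian C]

variable {K₁ L₁ K₂ L₂ : CochainComplex C ℤ} (φ₁ : K₁ ⟶ L₁) (φ₂ : K₂ ⟶ L₂)
  (a : K₁ ⟶ K₂) (b : L₁ ⟶ L₂) (comm : φ₁ ≫ b = a ≫ φ₂)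

lemma inr_map : mappingCone.inr φ₁ ≫ mappingCone.map φ₁ φ₂ a b comm = b ≫ mappingCone.inr φ₂ := by
  simp [mappingCone.map]

lemma homologyMap_inr_map (n : ℤ) :
    HomologicalComplex.homologyMap (mappingCone.inr φ₁) n ≫
      HomologicalComplex.homologyMap (mappingCone.map φ₁ φ₂ a b comm) n =
    HomologicalComplex.homologyMap b n ≫ HomologicalComplex.homologyMap (mappingCone.inr φ₂) n := by
  rw [← HomologicalComplex.homologyMap_comp, ← HomologicalComplex.homologyMap_comp, inr_map]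

lemma aux_nat {D : Type*} [Category D] {X1 X2 Y1 Y2 Z1 Z2 W1 W2 : D}
    (p : X1 ⟶ X2) (i2 : X2 ⟶ Y2) (d2 : Y2 ⟶ Z2) (h2 : Z2 ⟶ W2) (i1 : X1 ⟶ Y1) (q : Y1 ⟶ Y2)
    (d1 : Y1 ⟶ Z1) (r : Z1 ⟶ Z2) (h1 : Z1 ⟶ W1) (s : W1 ⟶ W2)
    (e1 : p ≫ i2 = i1 ≫ q) (e2 : q ≫ d2 = d1 ≫ r) (e3 : r ≫ h2 = h1 ≫ s) :
    p ≫ i2 ≫ d2 ≫ h2 = (i1 ≫ d1 ≫ h1) ≫ s := by
  rw [reassoc_of% e1, reassoc_of% e2, e3]
  simp

lemma coneδ_naturality (n₀ n₁ : ℤ) (h : n₀ + 1 = n₁) :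
    HomologicalComplex.homologyMap (mappingCone.map φ₁ φ₂ a b comm) n₀ ≫ coneδ φ₂ n₀ n₁ h =
      coneδ φ₁ n₀ n₁ h ≫ HomologicalComplex.homologyMap a n₁ := by
  let F := HomotopyCategory.homologyFunctor C (ComplexShape.up ℤ) 0
  let ψ : mappingCone.triangleh φ₁ ⟶ mappingCone.triangleh φ₂ :=
    (HomotopyCategory.quotient C (ComplexShape.up ℤ)).mapTriangle.map
      (mappingCone.triangleMap φ₁ φ₂ a b comm)
  have hnat := F.homologySequenceδ_naturality _ _ ψ n₀ n₁ h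
  have n1 := (homologyFunctorFactors C (ComplexShape.up ℤ) n₀).inv.naturality
    (mappingCone.map φ₁ φ₂ a b comm)
  have n2 := (homologyFunctorFactors C (ComplexShape.up ℤ) n₁).hom.naturality a
  exact aux_nat _ _ _ _ _ _ _ _ _ _ n1 hnat n2

end Groth.Agent.Lib.T2H2.ConeNat
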