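import Mathlib

/-!
# A five lemma for `ℕ`-indexed direct systems mapping to a fixed exact sequence (helper2)

For a direct system `(X n, t)` of modules with compatible maps `θ n : X n → Y`, say that the system
"computes" `Y` if (surj) every `y : Y` is some `θ n x` and (inj) `θ n x = 0` implies `t n m x = 0` for
some `m ≥ n` (i.e. `colim X n → Y` is bijective).  We prove the five lemma in this setting
(`five_surj`, `five_inj`) and the passage to a localisation at the powers of `f` (`loc_surj`,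
`loc_inj`), everything elementwise.
-/

set_option autoImplicit false

namespace Groth.Agent.Lib.T2H2.IndFive

variable {A : Type*} [CommRing A]

section Five

variable {X1 X2 X3 X4 X5 : ℕ → Type*}
  [∀ n, AddCommGroup (X1 n)] [∀ n, Module A (X1 n)]
  [∀ n, AddCommGroup (X2 n)] [∀ n, Module A (X2 n)]
  [∀ n, AddCommGroup (X3 n)] [∀ n, Module A (X3 n)]
  [∀ n, AddCommGroup (X4 n)] [∀ n, Module A (X4 n)]
  [∀ n, AddCommGroup (X5 n)] [∀ n, Module A (X5 n)]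
  {Y1 Y2 Y3 Y4 Y5 : Type*}
  [AddCommGroup Y1] [Module A Y1] [AddCommGroup Y2] [Module A Y2] [AddCommGroup Y3] [Module A Y3]
  [AddCommGroup Y4] [Module A Y4] [AddCommGroup Y5] [Module A Y5]

theorem five_surj
    (t2 : ∀ n m, n ≤ m → X2 n →ₗ[A] X2 m) (t3 : ∀ n m, n ≤ m → X3 n →ₗ[A] X3 m)
    (t4 : ∀ n m, n ≤ m → X4 n →ₗ[A] X4 m) (t5 : ∀ n m, n ≤ m → X5 n →ₗ[A] X5 m)
    (θ2 : ∀ n, X2 n →ₗ[A] Y2) (θ3 : ∀ n, X3 n →ₗ[A] Y3) (θ4 : ∀ n, X4 n →ₗ[A] Y4)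
    (θ5 : ∀ n, X5 n →ₗ[A] Y5)
    (a2 : ∀ n, X2 n →ₗ[A] X3 n) (a3 : ∀ n, X3 n →ₗ[A] X4 n) (a4 : ∀ n, X4 n →ₗ[A] X5 n)
    (b2 : Y2 →ₗ[A] Y3) (b3 : Y3 →ₗ[A] Y4) (b4 : Y4 →ₗ[A] Y5)
    (hθ2 : ∀ n m h x, θ2 m (t2 n m h x) = θ2 n x)
    (hθ3 : ∀ n m h x, θ3 m (t3 n m h x) = θ3 n x)
    (hθ4 : ∀ n m h x, θ4 m (t4 n m h x) = θ4 n x)
    (sq2 : ∀ n x, θ3 n (a2 n x) = b2 (θ2 n x))
    (sq3 : ∀ n x, θ4 n (a3 n x) = b3 (θ3 n x))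
    (sq4 : ∀ n x, θ5 n (a4 n x) = b4 (θ4 n x))
    (ht4 : ∀ n m h x, a4 m (t4 n m h x) = t5 n m h (a4 n x))
    (hb : ∀ y, b4 (b3 y) = 0)
    (exX4 : ∀ n x, a4 n x = 0 → ∃ c, a3 n c = x)
    (exY3 : ∀ y, b3 y = 0 → ∃ b, b2 b = y)
    (s2 : ∀ y, ∃ n x, θ2 n x = y) (s4 : ∀ y, ∃ n x, θ4 n x = y)
    (i5 : ∀ n x, θ5 n x = 0 → ∃ m, ∃ h : n ≤ m, t5 n m h x = 0) :
    ∀ y, ∃ n x, θ3 n x = y := by
  intro c
  obtain ⟨n, dn, hdn⟩ := s4 (b3 c)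
  have h1 : θ5 n (a4 n dn) = 0 := by rw [sq4, hdn, hb]
  obtain ⟨m, hnm, h2⟩ := i5 n _ h1
  have h3 : a4 m (t4 n m hnm dn) = 0 := by rw [ht4, h2]
  obtain ⟨cm, hcm⟩ := exX4 m _ h3
  have h4 : b3 (c - θ3 m cm) = 0 := by
    rw [map_sub, ← sq3, hcm, hθ4, hdn, sub_self]
  obtain ⟨b, hb2⟩ := exY3 _ h4
  obtain ⟨k, bk, hbk⟩ := s2 b
  refine ⟨max m k, t3 m (max m k) (le_max_left _ _) cm + a2 _ (t2 k (max m k) (le_max_right _ _) bk),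
    ?_⟩
  rw [map_add, hθ3, sq2, hθ2, hbk, hb2]
  abel

theorem five_inj
    (t1 : ∀ n m, n ≤ m → X1 n →ₗ[A] X1 m) (t2 : ∀ n m, n ≤ m → X2 n →ₗ[A] X2 m)
    (t3 : ∀ n m, n ≤ m → X3 n →ₗ[A] X3 m) (t4 : ∀ n m, n ≤ m → X4 n →ₗ[A] X4 m)
    (θ1 : ∀ n, X1 n →ₗ[A] Y1) (θ2 : ∀ n, X2 n →ₗ[A] Y2) (θ3 : ∀ n, X3 n →ₗ[A] Y3)
    (θ4 : ∀ n, X4 n →ₗ[A] Y4)
    (a1 : ∀ n, X1 n →ₗ[A] X2 n) (a2 : ∀ n, X2 n →ₗ[A] X3 n) (a3 : ∀ n, X3 n →ₗ[A] X4 n)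
    (b1 : Y1 →ₗ[A] Y2) (b2 : Y2 →ₗ[A] Y3) (b3 : Y3 →ₗ[A] Y4)
    (hθ1 : ∀ n m h x, θ1 m (t1 n m h x) = θ1 n x)
    (hθ2 : ∀ n m h x, θ2 m (t2 n m h x) = θ2 n x)
    (hθ3 : ∀ n m h x, θ3 m (t3 n m h x) = θ3 n x)
    (sq1 : ∀ n x, θ2 n (a1 n x) = b1 (θ1 n x))
    (sq2 : ∀ n x, θ3 n (a2 n x) = b2 (θ2 n x))
    (sq3 : ∀ n x, θ4 n (a3 n x) = b3 (θ3 n x))
    (ht1 : ∀ n m h x, a1 m (t1 n m h x) = t2 n m h (a1 n x))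
    (ht2 : ∀ n m h x, a2 m (t2 n m h x) = t3 n m h (a2 n x))
    (ht3 : ∀ n m h x, a3 m (t3 n m h x) = t4 n m h (a3 n x))
    (tt3 : ∀ n m k h h' x, t3 m k h' (t3 n m h x) = t3 n k (le_trans h h') x)
    (ha : ∀ n x, a2 n (a1 n x) = 0)
    (exX3 : ∀ n x, a3 n x = 0 → ∃ b, a2 n b = x)
    (exY2 : ∀ y, b2 y = 0 → ∃ a, b1 a = y)
    (s1 : ∀ y, ∃ n x, θ1 n x = y)
    (i2 : ∀ n x, θ2 n x = 0 → ∃ m, ∃ h : n ≤ m, t2 n m h x = 0)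
    (i4 : ∀ n x, θ4 n x = 0 → ∃ m, ∃ h : n ≤ m, t4 n m h x = 0) :
    ∀ n x, θ3 n x = 0 → ∃ m, ∃ h : n ≤ m, t3 n m h x = 0 := by
  intro n cn hcn
  have h1 : θ4 n (a3 n cn) = 0 := by rw [sq3, hcn, map_zero]
  obtain ⟨m, hnm, h2⟩ := i4 n _ h1
  have h3 : a3 m (t3 n m hnm cn) = 0 := by rw [ht3, h2]
  obtain ⟨bm, hbm⟩ := exX3 m _ h3
  have h4 : b2 (θ2 m bm) = 0 := by rw [← sq2, hbm, hθ3, hcn]
  obtain ⟨a, ha1⟩ := exY2 _ h4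
  obtain ⟨k, ak, hak⟩ := s1 a
  have hmN : m ≤ max m k := le_max_left _ _
  have hkN : k ≤ max m k := le_max_right _ _
  have h5 : θ2 (max m k) (t2 m _ hmN bm - a1 _ (t1 k _ hkN ak)) = 0 := by
    rw [map_sub, sq1, hθ1, hak, ha1, hθ2, sub_self]
  obtain ⟨N', hN', h6⟩ := i2 _ _ h5
  refine ⟨N', hnm.trans (hmN.trans hN'), ?_⟩
  rw [← tt3 n m N' hnm (hmN.trans hN'), ← hbm, ← tt3 m (max m k) N' hmN hN', ← ht2, ← ht2]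
  have h7 : t2 m _ hmN bm = (t2 m _ hmN bm - a1 _ (t1 k _ hkN ak)) + a1 _ (t1 k _ hkN ak) := by
    abel
  rw [h7, map_add, map_add, h6, map_zero, zero_add, ← ht1, ha]

end Five

section Loc

variable {X : ℕ → Type*} [∀ n, AddCommGroup (X n)] [∀ n, Module A (X n)]
  {Y YF : Type*} [AddCommGroup Y] [Module A Y] [AddCommGroup YF] [Module A YF]

lemma smul_injective_of_isLocalizedModule (f : A) (u : Y →ₗ[A] YF)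
    [IsLocalizedModule (Submonoid.powers f) u] (N : ℕ) {y z : YF} (h : f ^ N • y = f ^ N • z) :
    y = z := by
  have h1 := IsLocalizedModule.map_units (S := Submonoid.powers f) u ⟨f ^ N, N, rfl⟩
  rw [Module.End.isUnit_iff] at h1
  exact h1.1 h

theorem loc_surj (f : A) (t : ∀ n m, n ≤ m → X n →ₗ[A] X m) (θ : ∀ n, X n →ₗ[A] Y)
    (u : Y →ₗ[A] YF) [IsLocalizedModule (Submonoid.powers f) u]
    (θ' : ∀ n, X n →ₗ[A] YF) (hθ' : ∀ n x, f ^ n • θ' n x = u (θ n x))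
    (hθ : ∀ n m h x, θ m (t n m h x) = θ n x)
    (s : ∀ y, ∃ n x, θ n x = y) : ∀ y : YF, ∃ n x, θ' n x = y := by
  intro y
  obtain ⟨⟨y0, ⟨_, k, rfl⟩⟩, hy⟩ := IsLocalizedModule.surj (Submonoid.powers f) u y
  obtain ⟨n, x, hx⟩ := s y0
  refine ⟨max n k, f ^ (max n k - k) • t n _ (le_max_left _ _) x, ?_⟩
  apply smul_injective_of_isLocalizedModule f u (max n k)
  rw [hθ', map_smul, hθ, hx, map_smul]
  have hy' : f ^ k • y = u y0 := hy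
  rw [← hy', smul_smul, ← pow_add, Nat.sub_add_cancel (le_max_right _ _)]

theorem loc_inj (f : A) (t : ∀ n m, n ≤ m → X n →ₗ[A] X m) (θ : ∀ n, X n →ₗ[A] Y)
    (u : Y →ₗ[A] YF) [IsLocalizedModule (Submonoid.powers f) u]
    (θ' : ∀ n, X n →ₗ[A] YF) (hθ' : ∀ n x, f ^ n • θ' n x = u (θ n x))
    (tt : ∀ n m k h h' x, t m k h' (t n m h x) = t n k (le_trans h h') x)
    (i : ∀ n x, θ n x = 0 → ∃ m, ∃ h : n ≤ m, t n m h x = 0) :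
    ∀ n x, θ' n x = 0 → ∃ m, ∃ h : n ≤ m, f ^ (m - n) • t n m h x = 0 := by
  intro n x hx
  have h1 : u (θ n x) = 0 := by rw [← hθ', hx, smul_zero]
  obtain ⟨⟨_, k, rfl⟩, hk⟩ := (IsLocalizedModule.eq_zero_iff (Submonoid.powers f) u).mp h1
  have hk' : θ n (f ^ k • x) = 0 := by rw [map_smul]; exact hk
  obtain ⟨m, hnm, h2⟩ := i n _ hk'
  refine ⟨m + k, hnm.trans (Nat.le_add_right _ _), ?_⟩
  rw [← tt n m (m + k) hnm (Nat.le_add_right _ _)]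
  have e : m + k - n = (m - n) + k := by omega
  rw [e, pow_add, mul_smul, ← map_smul, ← map_smul (t n m hnm), h2, map_zero, smul_zero]

end Loc

end Groth.Agent.Lib.T2H2.IndFive
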