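import Mathlib
import Groth.Prelude.Def_ega3
import Groth.Prelude.Def_DerCA

/-!
# Koszul complexes of powers versus a cone model of the extended Čech complex (helper2, part A)

* `ecCone M fs` : the iterated mapping cone of the localisation maps (a cone model of the extended
  alternating Čech complex, shifted by the length of `fs`);
* `invPow f n K` : the inverse of multiplication by `f ^ n` on the termwise localisation `K_f`;
* `θ M n fs : koszulCx M (fs.map (· ^ n)) ⟶ ecCone M fs` and its compatibility with `koszulTrans`.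
-/

set_option autoImplicit false

namespace Groth.Agent.Lib.T2H2.KzCech

open CategoryTheory CategoryTheory.Limits CochainComplex DerCA CohIII

universe u

variable {A : Type u} [CommRing A]

section MapCongr

variable {C : Type*} [Category C] [Preadditive C] [HasBinaryBiproducts C]
variable {K₁ L₁ K₂ L₂ : CochainComplex C ℤ} (φ₁ : K₁ ⟶ L₁) (φ₂ : K₂ ⟶ L₂)

lemma map_congr {a a' : K₁ ⟶ K₂} {b b' : L₁ ⟶ L₂} (comm : φ₁ ≫ b = a ≫ φ₂) (ha : a = a')
    (hb : b = b') :
    mappingCone.map φ₁ φ₂ a b comm = mappingCone.map φ₁ φ₂ a' b' (by rw [← ha, ← hb]; exact comm) := by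
  subst ha hb
  rfl

end MapCongr

/-- cone model of the extended Čech complex -/
noncomputable def ecCone (M : ModuleCat.{u} A) : List A → DRing.Cx A
  | [] => (HomologicalComplex.single (ModuleCat.{u} A) (ComplexShape.up ℤ) 0).obj M
  | f :: fs => mappingCone (locCxUnit (Submonoid.powers f) (ecCone M fs))

lemma ecCone_cons (M : ModuleCat.{u} A) (f : A) (fs : List A) :
    ecCone M (f :: fs) = mappingCone (locCxUnit (Submonoid.powers f) (ecCone M fs)) := rfl

lemma isIso_pow_smul_id_loc (f : A) (n : ℕ) (K : DRing.Cx A) :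
    IsIso (f ^ n • 𝟙 ((locCx (Submonoid.powers f)).obj K)) := by
  have : ∀ i, IsIso ((f ^ n • 𝟙 ((locCx (Submonoid.powers f)).obj K)).f i) := by
    intro i
    rw [ConcreteCategory.isIso_iff_bijective]
    have h := IsLocalizedModule.map_units (S := Submonoid.powers f)
      (LocalizedModule.mkLinearMap (Submonoid.powers f) (K.X i)) ⟨f ^ n, n, rfl⟩
    rw [Module.End.isUnit_iff] at h
    exact h
  exact HomologicalComplex.Hom.isIso_of_components _

/-- the inverse of multiplication by `f ^ n` on `K_f` -/
noncomputable def invPow (f : A) (n : ℕ) (K : DRing.Cx A) :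
    (locCx (Submonoid.powers f)).obj K ⟶ (locCx (Submonoid.powers f)).obj K :=
  have := isIso_pow_smul_id_loc f n K
  inv (f ^ n • 𝟙 ((locCx (Submonoid.powers f)).obj K))

lemma smul_invPow (f : A) (n : ℕ) (K : DRing.Cx A) :
    f ^ n • invPow f n K = 𝟙 _ := by
  have := isIso_pow_smul_id_loc f n K
  have h := IsIso.hom_inv_id (f ^ n • 𝟙 ((locCx (Submonoid.powers f)).obj K))
  rw [Linear.smul_comp, Category.id_comp] at h
  exact h

lemma smul_invPow_of_le (f : A) (n m : ℕ) (h : n ≤ m) (K : DRing.Cx A) :
    f ^ (m - n) • invPow f m K = invPow f n K := by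
  have := isIso_pow_smul_id_loc f n K
  unfold invPow
  apply IsIso.eq_inv_of_hom_inv_id
  rw [Linear.smul_comp, Category.id_comp, smul_smul, ← pow_add, Nat.add_sub_cancel' h]
  exact smul_invPow f m K

/-- the comparison map from the Koszul complex of the `n`-th powers to the cone model -/
noncomputable def θ (M : ModuleCat.{u} A) (n : ℕ) :
    ∀ fs : List A, koszulCx M (fs.map (· ^ n)) ⟶ ecCone M fs
  | [] => 𝟙 _
  | f :: fs => mappingCone.map (f ^ n • 𝟙 (koszulCx M (fs.map (· ^ n))))
      (locCxUnit (Submonoid.powers f) (ecCone M fs)) (θ M n fs)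
      (θ M n fs ≫ locCxUnit (Submonoid.powers f) (ecCone M fs) ≫ invPow f n (ecCone M fs)) (by
        rw [Linear.smul_comp, Category.id_comp, ← Linear.comp_smul, ← Linear.comp_smul,
          smul_invPow, Category.comp_id])

/-- the second component of `θ` on a cons -/
noncomputable def θ' (M : ModuleCat.{u} A) (n : ℕ) (f : A) (fs : List A) :
    koszulCx M (fs.map (· ^ n)) ⟶ (locCx (Submonoid.powers f)).obj (ecCone M fs) :=
  θ M n fs ≫ locCxUnit (Submonoid.powers f) (ecCone M fs) ≫ invPow f n (ecCone M fs)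

lemma smul_θ' (M : ModuleCat.{u} A) (n : ℕ) (f : A) (fs : List A) :
    f ^ n • θ' M n f fs = θ M n fs ≫ locCxUnit (Submonoid.powers f) (ecCone M fs) := by
  unfold θ'
  rw [← Linear.comp_smul, ← Linear.comp_smul, smul_invPow, Category.comp_id]

lemma θ_cons (M : ModuleCat.{u} A) (n : ℕ) (f : A) (fs : List A) :
    θ M n (f :: fs) = mappingCone.map (f ^ n • 𝟙 (koszulCx M (fs.map (· ^ n))))
      (locCxUnit (Submonoid.powers f) (ecCone M fs)) (θ M n fs) (θ' M n f fs) (by
        rw [Linear.smul_comp, Category.id_comp, smul_θ']) := rfl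

lemma koszulTrans_cons (M : ModuleCat.{u} A) (n m : ℕ) (h : n ≤ m) (f : A) (fs : List A) :
    koszulTrans M n m h (f :: fs) =
      mappingCone.map (f ^ n • 𝟙 (koszulCx M (fs.map (· ^ n))))
      (f ^ m • 𝟙 (koszulCx M (fs.map (· ^ m)))) (koszulTrans M n m h fs)
      (f ^ (m - n) • koszulTrans M n m h fs) (by
        simp only [Linear.smul_comp, Linear.comp_smul, Category.id_comp, Category.comp_id, smul_smul,
          ← pow_add, Nat.sub_add_cancel h]) := rfl

lemma koszulTrans_θ (M : ModuleCat.{u} A) (n m : ℕ) (h : n ≤ m) :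
    ∀ fs : List A, koszulTrans M n m h fs ≫ θ M m fs = θ M n fs
  | [] => Category.id_comp (𝟙 ((HomologicalComplex.single (ModuleCat.{u} A) (ComplexShape.up ℤ) 0).obj M))
  | f :: fs => by
    have e := mappingCone.map_comp (f ^ n • 𝟙 (koszulCx M (fs.map (· ^ n))))
      (f ^ m • 𝟙 (koszulCx M (fs.map (· ^ m)))) (locCxUnit (Submonoid.powers f) (ecCone M fs))
      (koszulTrans M n m h fs) (f ^ (m - n) • koszulTrans M n m h fs) (by
        simp only [Linear.smul_comp, Linear.comp_smul, Category.id_comp, Category.comp_id, smul_smul,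
          ← pow_add, Nat.sub_add_cancel h]) (θ M m fs) (θ' M m f fs) (by
        rw [Linear.smul_comp, Category.id_comp, smul_θ'])
    refine e.symm.trans (map_congr _ _ _ (koszulTrans_θ M n m h fs) ?_)
    unfold θ'
    rw [Linear.smul_comp, ← Category.assoc (koszulTrans M n m h fs), koszulTrans_θ M n m h fs,
      ← smul_invPow_of_le f n m h, Linear.comp_smul, Linear.comp_smul]

lemma koszulTrans_self (M : ModuleCat.{u} A) (n : ℕ) :
    ∀ fs : List A, koszulTrans M n n le_rfl fs = 𝟙 _
  | [] => rfl
  | f :: fs => by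
    have h1 := koszulTrans_self M n fs
    have h2 : f ^ (n - n) • koszulTrans M n n le_rfl fs = 𝟙 _ := by
      rw [h1, Nat.sub_self, pow_zero, one_smul]
    exact (map_congr _ _ _ h1 h2).trans (mappingCone.map_id _)

lemma koszulTrans_trans (M : ModuleCat.{u} A) (n m k : ℕ) (h : n ≤ m) (h' : m ≤ k) :
    ∀ fs : List A, koszulTrans M n m h fs ≫ koszulTrans M m k h' fs = koszulTrans M n k (h.trans h') fs
  | [] => Category.id_comp (𝟙 ((HomologicalComplex.single (ModuleCat.{u} A) (ComplexShape.up ℤ) 0).obj M))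
  | f :: fs => by
    have e := mappingCone.map_comp (f ^ n • 𝟙 (koszulCx M (fs.map (· ^ n))))
      (f ^ m • 𝟙 (koszulCx M (fs.map (· ^ m)))) (f ^ k • 𝟙 (koszulCx M (fs.map (· ^ k))))
      (koszulTrans M n m h fs) (f ^ (m - n) • koszulTrans M n m h fs) (by
        simp only [Linear.smul_comp, Linear.comp_smul, Category.id_comp, Category.comp_id, smul_smul,
          ← pow_add, Nat.sub_add_cancel h])
      (koszulTrans M m k h' fs) (f ^ (k - m) • koszulTrans M m k h' fs) (by
        simp only [Linear.smul_comp, Linear.comp_smul, Category.id_comp, Category.comp_id, smul_smul,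
          ← pow_add, Nat.sub_add_cancel h'])
    refine e.symm.trans (map_congr _ _ _ (koszulTrans_trans M n m k h h' fs) ?_)
    rw [Linear.smul_comp, Linear.comp_smul, smul_smul, koszulTrans_trans M n m k h h' fs, ← pow_add]
    congr 2
    omega

end Groth.Agent.Lib.T2H2.KzCech
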