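import Mathlib
import Groth.Prelude.Def_ega3
import Groth.Prelude.Def_DerCA
import Groth.Agent.Lib.T2H2KzCechA
import Groth.Agent.Lib.T2H2IndFive
import Groth.Agent.Lib.T2H2ConeNat
import Groth.Agent.Lib.Helper21KoszulDepth
import Groth.Agent.Lib.Helper1ExtCech

/-!
# Koszul complexes of powers versus a cone model of the extended Čech complex (helper2, part B)

The inductive step: if a direct system of complexes `K n` computes (on homology) a complex `E`, then the
cones of `f ^ n` on `K n` compute the cone of the localisation map `E ⟶ E_f`.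
-/

set_option autoImplicit false

namespace Groth.Agent.Lib.T2H2.KzCech

open CategoryTheory CategoryTheory.Limits CochainComplex DerCA CohIII
open Groth.Agent.Lib.Helper21 Groth.Agent.Lib.T2H2.ConeNat Groth.Agent.Lib.T2H2.IndFive

universe u

variable {A : Type u} [CommRing A]

lemma elem_of_comp_eq {X Y Z W : ModuleCat.{u} A} {f : X ⟶ Y} {g : Y ⟶ Z} {f' : X ⟶ W} {g' : W ⟶ Z}
    (h : f ≫ g = f' ≫ g') (x : X) : g.hom (f.hom x) = g'.hom (f'.hom x) := by
  have := congrArg (fun φ => φ.hom x) h
  simpa using this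

lemma elem_of_comp_eq' {X Y Z : ModuleCat.{u} A} {f : X ⟶ Y} {g : Y ⟶ Z} {k : X ⟶ Z}
    (h : f ≫ g = k) (x : X) : g.hom (f.hom x) = k.hom x := by
  have := congrArg (fun φ => φ.hom x) h
  simpa using this

lemma elem_of_comp_zero {X Y Z : ModuleCat.{u} A} {f : X ⟶ Y} {g : Y ⟶ Z}
    (h : f ≫ g = 0) (x : X) : g.hom (f.hom x) = 0 := by
  have := congrArg (fun φ => φ.hom x) h
  simpa using this

lemma exists_of_exact {X Y Z : ModuleCat.{u} A} {f : X ⟶ Y} {g : Y ⟶ Z} (w : f ≫ g = 0)
    (h : (ShortComplex.mk f g w).Exact) (y : Y) (hy : g.hom y = 0) : ∃ x, f.hom x = y := by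
  rw [ShortComplex.ShortExact.moduleCat_exact_iff_function_exact] at h
  exact (h y).mp hy

lemma homologyMap_smul_id_apply (K : DRing.Cx A) (a : A) (j : ℤ) (x : K.homology j) :
    (HomologicalComplex.homologyMap (a • 𝟙 K) j).hom x = a • x := by
  rw [homologyMap_smul', HomologicalComplex.homologyMap_id]
  rfl

lemma homologyMap_smul_apply {K L : DRing.Cx A} (a : A) (φ : K ⟶ L) (j : ℤ) (x : K.homology j) :
    (HomologicalComplex.homologyMap (a • φ) j).hom x =
      a • (HomologicalComplex.homologyMap φ j).hom x := by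
  rw [homologyMap_smul']
  rfl

/-- the direct system `(K n, t)` with the compatible maps `θ n : K n ⟶ E` computes `E` on `H^j` -/
def Computes {K : ℕ → DRing.Cx A} {E : DRing.Cx A} (t : ∀ n m, n ≤ m → (K n ⟶ K m))
    (θ : ∀ n, K n ⟶ E) (j : ℤ) : Prop :=
  (∀ y : E.homology j, ∃ n, ∃ x : (K n).homology j,
    (HomologicalComplex.homologyMap (θ n) j).hom x = y) ∧
  (∀ n (x : (K n).homology j), (HomologicalComplex.homologyMap (θ n) j).hom x = 0 →
    ∃ m, ∃ h : n ≤ m, (HomologicalComplex.homologyMap (t n m h) j).hom x = 0)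

section Step

variable (K : ℕ → DRing.Cx A) (E : DRing.Cx A) (f : A)
  (t : ∀ n m, n ≤ m → (K n ⟶ K m)) (θ : ∀ n, K n ⟶ E)
  (θ' : ∀ n, K n ⟶ (locCx (Submonoid.powers f)).obj E)

lemma comm1 (n m : ℕ) (h : n ≤ m) :
    (f ^ n • 𝟙 (K n)) ≫ (f ^ (m - n) • t n m h) = t n m h ≫ (f ^ m • 𝟙 (K m)) := by
  simp only [Linear.smul_comp, Linear.comp_smul, Category.id_comp, Category.comp_id, smul_smul,
    ← pow_add, Nat.sub_add_cancel h]

lemma comm2 (hθ' : ∀ n, f ^ n • θ' n = θ n ≫ locCxUnit (Submonoid.powers f) E) (n : ℕ) :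
    (f ^ n • 𝟙 (K n)) ≫ θ' n = θ n ≫ locCxUnit (Submonoid.powers f) E := by
  rw [Linear.smul_comp, Category.id_comp, hθ']

/-- the inductive step -/
theorem step (hθ' : ∀ n, f ^ n • θ' n = θ n ≫ locCxUnit (Submonoid.powers f) E)
    (ht : ∀ n m h, t n m h ≫ θ m = θ n)
    (ht' : ∀ n m h, (f ^ (m - n) • t n m h) ≫ θ' m = θ' n)
    (tt : ∀ n m k h h', t n m h ≫ t m k h' = t n k (le_trans h h'))
    (IH : ∀ j, Computes t θ j) (j : ℤ) :
    Computes (K := fun n => mappingCone (f ^ n • 𝟙 (K n)))
      (fun n m h => mappingCone.map (f ^ n • 𝟙 (K n)) (f ^ m • 𝟙 (K m)) (t n m h)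
        (f ^ (m - n) • t n m h) (comm1 K f t n m h))
      (fun n => mappingCone.map (f ^ n • 𝟙 (K n)) (locCxUnit (Submonoid.powers f) E) (θ n) (θ' n)
        (comm2 K E f θ θ' hθ' n)) j := by
  -- abbreviations
  let u := locCxUnit (Submonoid.powers f) E
  let T : ∀ n m, n ≤ m → (mappingCone (f ^ n • 𝟙 (K n)) ⟶ mappingCone (f ^ m • 𝟙 (K m))) :=
    fun n m h => mappingCone.map (f ^ n • 𝟙 (K n)) (f ^ m • 𝟙 (K m)) (t n m h)
        (f ^ (m - n) • t n m h) (comm1 K f t n m h)
  let Θ : ∀ n, mappingCone (f ^ n • 𝟙 (K n)) ⟶ mappingCone u :=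
    fun n => mappingCone.map (f ^ n • 𝟙 (K n)) u (θ n) (θ' n) (comm2 K E f θ θ' hθ' n)
  have TT : ∀ n m k (h : n ≤ m) (h' : m ≤ k), T n m h ≫ T m k h' = T n k (le_trans h h') := by
    intro n m k h h'
    refine (mappingCone.map_comp _ _ _ _ _ (comm1 K f t n m h) _ _ (comm1 K f t m k h')).symm.trans
      (map_congr _ _ _ (tt n m k h h') ?_)
    rw [Linear.smul_comp, Linear.comp_smul, smul_smul, tt n m k h h', ← pow_add]
    congr 2
    omega
  have TΘ : ∀ n m (h : n ≤ m), T n m h ≫ Θ m = Θ n := by
    intro n m h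
    exact (mappingCone.map_comp _ _ _ _ _ (comm1 K f t n m h) _ _
      (comm2 K E f θ θ' hθ' m)).symm.trans (map_congr _ _ _ (ht n m h) (ht' n m h))
  have loc : ∀ i : ℤ, IsLocalizedModule (Submonoid.powers f)
      (HomologicalComplex.homologyMap u i).hom :=
    fun i => Groth.Agent.Lib.Helper1.ExtCech.isLocalizedModule_homologyMap _ E i
  -- the localised systems
  have hθ'el : ∀ (i : ℤ) n (x : (K n).homology i),
      f ^ n • (HomologicalComplex.homologyMap (θ' n) i).hom x =
        (HomologicalComplex.homologyMap u i).hom ((HomologicalComplex.homologyMap (θ n) i).hom x) := by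
    intro i n x
    rw [← homologyMap_smul_apply, hθ' n, HomologicalComplex.homologyMap_comp]
    rfl
  have hθel : ∀ (i : ℤ) n m (h : n ≤ m) (x : (K n).homology i),
      (HomologicalComplex.homologyMap (θ m) i).hom
        ((HomologicalComplex.homologyMap (t n m h) i).hom x) =
      (HomologicalComplex.homologyMap (θ n) i).hom x := by
    intro i n m h x
    exact elem_of_comp_eq' (by rw [← HomologicalComplex.homologyMap_comp, ht n m h]) x
  have ttel : ∀ (i : ℤ) n m k (h : n ≤ m) (h' : m ≤ k) (x : (K n).homology i),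
      (HomologicalComplex.homologyMap (t m k h') i).hom
        ((HomologicalComplex.homologyMap (t n m h) i).hom x) =
      (HomologicalComplex.homologyMap (t n k (le_trans h h')) i).hom x := by
    intro i n m k h h' x
    exact elem_of_comp_eq' (by rw [← HomologicalComplex.homologyMap_comp, tt n m k h h']) x
  have hθ'compat : ∀ (i : ℤ) n m (h : n ≤ m) (x : (K n).homology i),
      (HomologicalComplex.homologyMap (θ' m) i).hom
        (f ^ (m - n) • (HomologicalComplex.homologyMap (t n m h) i).hom x) =
      (HomologicalComplex.homologyMap (θ' n) i).hom x := by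
    intro i n m h x
    rw [← homologyMap_smul_apply]
    exact elem_of_comp_eq' (by rw [← HomologicalComplex.homologyMap_comp, ht' n m h]) x
  have s' : ∀ i : ℤ, ∀ y : ((locCx (Submonoid.powers f)).obj E).homology i, ∃ n,
      ∃ x : (K n).homology i, (HomologicalComplex.homologyMap (θ' n) i).hom x = y := by
    intro i
    have := loc i
    exact loc_surj f (fun n m h => (HomologicalComplex.homologyMap (t n m h) i).hom)
      (fun n => (HomologicalComplex.homologyMap (θ n) i).hom)
      (HomologicalComplex.homologyMap u i).hom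
      (fun n => (HomologicalComplex.homologyMap (θ' n) i).hom) (hθ'el i) (hθel i) (IH i).1
  have i' : ∀ i : ℤ, ∀ n (x : (K n).homology i),
      (HomologicalComplex.homologyMap (θ' n) i).hom x = 0 → ∃ m, ∃ h : n ≤ m,
        f ^ (m - n) • (HomologicalComplex.homologyMap (t n m h) i).hom x = 0 := by
    intro i
    have := loc i
    exact loc_inj f (fun n m h => (HomologicalComplex.homologyMap (t n m h) i).hom)
      (fun n => (HomologicalComplex.homologyMap (θ n) i).hom)
      (HomologicalComplex.homologyMap u i).hom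
      (fun n => (HomologicalComplex.homologyMap (θ' n) i).hom) (hθ'el i) (ttel i) (IH i).2
  -- common facts
  have hθ3 : ∀ n m (h : n ≤ m) (x : (mappingCone (f ^ n • 𝟙 (K n))).homology j),
      (HomologicalComplex.homologyMap (Θ m) j).hom
        ((HomologicalComplex.homologyMap (T n m h) j).hom x) =
      (HomologicalComplex.homologyMap (Θ n) j).hom x := by
    intro n m h x
    exact elem_of_comp_eq' (by rw [← HomologicalComplex.homologyMap_comp, TΘ n m h]) x
  have sq2 : ∀ n (x : (K n).homology j),
      (HomologicalComplex.homologyMap (Θ n) j).hom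
        ((HomologicalComplex.homologyMap (mappingCone.inr (f ^ n • 𝟙 (K n))) j).hom x) =
      (HomologicalComplex.homologyMap (mappingCone.inr u) j).hom
        ((HomologicalComplex.homologyMap (θ' n) j).hom x) := by
    intro n x
    exact elem_of_comp_eq (homologyMap_inr_map (f ^ n • 𝟙 (K n)) u (θ n) (θ' n)
      (comm2 K E f θ θ' hθ' n) j) x
  have sq3 : ∀ n (x : (mappingCone (f ^ n • 𝟙 (K n))).homology j),
      (HomologicalComplex.homologyMap (θ n) (j + 1)).hom
        ((coneδ (f ^ n • 𝟙 (K n)) j (j + 1) rfl).hom x) =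
      (coneδ u j (j + 1) rfl).hom ((HomologicalComplex.homologyMap (Θ n) j).hom x) := by
    intro n x
    exact (elem_of_comp_eq (coneδ_naturality (f ^ n • 𝟙 (K n)) u (θ n) (θ' n)
      (comm2 K E f θ θ' hθ' n) j (j + 1) rfl) x).symm
  constructor
  · refine five_surj (A := A)
      (X2 := fun n => (K n).homology j) (X3 := fun n => (mappingCone (f ^ n • 𝟙 (K n))).homology j)
      (X4 := fun n => (K n).homology (j + 1)) (X5 := fun n => (K n).homology (j + 1))
      (fun n m h => f ^ (m - n) • (HomologicalComplex.homologyMap (t n m h) j).hom)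
      (fun n m h => (HomologicalComplex.homologyMap (T n m h) j).hom)
      (fun n m h => (HomologicalComplex.homologyMap (t n m h) (j + 1)).hom)
      (fun n m h => f ^ (m - n) • (HomologicalComplex.homologyMap (t n m h) (j + 1)).hom)
      (fun n => (HomologicalComplex.homologyMap (θ' n) j).hom)
      (fun n => (HomologicalComplex.homologyMap (Θ n) j).hom)
      (fun n => (HomologicalComplex.homologyMap (θ n) (j + 1)).hom)
      (fun n => (HomologicalComplex.homologyMap (θ' n) (j + 1)).hom)
      (fun n => (HomologicalComplex.homologyMap (mappingCone.inr (f ^ n • 𝟙 (K n))) j).hom)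
      (fun n => (coneδ (f ^ n • 𝟙 (K n)) j (j + 1) rfl).hom)
      (fun n => f ^ n • LinearMap.id)
      (HomologicalComplex.homologyMap (mappingCone.inr u) j).hom
      (coneδ u j (j + 1) rfl).hom
      (HomologicalComplex.homologyMap u (j + 1)).hom
      ?_ hθ3 (hθel (j + 1)) sq2 sq3 ?_ ?_ ?_ ?_ ?_ (s' j) (IH (j + 1)).1 ?_
    · intro n m h x
      exact hθ'compat j n m h x
    · intro n x
      change (HomologicalComplex.homologyMap (θ' n) (j + 1)).hom (f ^ n • x) = _
      rw [map_smul]
      exact hθ'el (j + 1) n x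
    · intro n m h x
      change f ^ m • (HomologicalComplex.homologyMap (t n m h) (j + 1)).hom x =
        f ^ (m - n) • (HomologicalComplex.homologyMap (t n m h) (j + 1)).hom (f ^ n • x)
      rw [map_smul, smul_smul, ← pow_add, Nat.sub_add_cancel h]
    · intro y
      exact elem_of_comp_zero (coneδ_comp u j (j + 1) rfl) y
    · intro n x hx
      refine exists_of_exact _ (cone_homology_exact₁ (f ^ n • 𝟙 (K n)) j (j + 1) rfl) x ?_
      change (HomologicalComplex.homologyMap (f ^ n • 𝟙 (K n)) (j + 1)).hom x = 0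
      rw [homologyMap_smul_id_apply]
      exact hx
    · intro y hy
      exact exists_of_exact _ (cone_homology_exact₃ u j (j + 1) rfl) y hy
    · intro n x hx
      exact i' (j + 1) n x hx
  · refine five_inj (A := A)
      (X1 := fun n => (K n).homology j)
      (X2 := fun n => (K n).homology j) (X3 := fun n => (mappingCone (f ^ n • 𝟙 (K n))).homology j)
      (X4 := fun n => (K n).homology (j + 1))
      (fun n m h => (HomologicalComplex.homologyMap (t n m h) j).hom)
      (fun n m h => f ^ (m - n) • (HomologicalComplex.homologyMap (t n m h) j).hom)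
      (fun n m h => (HomologicalComplex.homologyMap (T n m h) j).hom)
      (fun n m h => (HomologicalComplex.homologyMap (t n m h) (j + 1)).hom)
      (fun n => (HomologicalComplex.homologyMap (θ n) j).hom)
      (fun n => (HomologicalComplex.homologyMap (θ' n) j).hom)
      (fun n => (HomologicalComplex.homologyMap (Θ n) j).hom)
      (fun n => (HomologicalComplex.homologyMap (θ n) (j + 1)).hom)
      (fun n => f ^ n • LinearMap.id)
      (fun n => (HomologicalComplex.homologyMap (mappingCone.inr (f ^ n • 𝟙 (K n))) j).hom)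
      (fun n => (coneδ (f ^ n • 𝟙 (K n)) j (j + 1) rfl).hom)
      (HomologicalComplex.homologyMap u j).hom
      (HomologicalComplex.homologyMap (mappingCone.inr u) j).hom
      (coneδ u j (j + 1) rfl).hom
      (hθel j) ?_ hθ3 ?_ sq2 sq3 ?_ ?_ ?_ ?_ ?_ ?_ ?_ (IH j).1 ?_ (IH (j + 1)).2
    · intro n m h x
      exact hθ'compat j n m h x
    · intro n x
      change (HomologicalComplex.homologyMap (θ' n) j).hom (f ^ n • x) = _
      rw [map_smul]
      exact hθ'el j n x
    · intro n m h x
      change f ^ m • (HomologicalComplex.homologyMap (t n m h) j).hom x =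
        f ^ (m - n) • (HomologicalComplex.homologyMap (t n m h) j).hom (f ^ n • x)
      rw [map_smul, smul_smul, ← pow_add, Nat.sub_add_cancel h]
    · intro n m h x
      change (HomologicalComplex.homologyMap (mappingCone.inr (f ^ m • 𝟙 (K m))) j).hom
        (f ^ (m - n) • (HomologicalComplex.homologyMap (t n m h) j).hom x) = _
      rw [← homologyMap_smul_apply]
      exact (elem_of_comp_eq (homologyMap_inr_map (f ^ n • 𝟙 (K n)) (f ^ m • 𝟙 (K m)) (t n m h)
        (f ^ (m - n) • t n m h) (comm1 K f t n m h) j) x).symm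
    · intro n m h x
      exact elem_of_comp_eq (coneδ_naturality (f ^ n • 𝟙 (K n)) (f ^ m • 𝟙 (K m)) (t n m h)
        (f ^ (m - n) • t n m h) (comm1 K f t n m h) j (j + 1) rfl) x
    · intro n m k h h' x
      exact elem_of_comp_eq' (by rw [← HomologicalComplex.homologyMap_comp, TT n m k h h']) x
    · intro n x
      change (HomologicalComplex.homologyMap (mappingCone.inr (f ^ n • 𝟙 (K n))) j).hom (f ^ n • x) = 0
      rw [← homologyMap_smul_id_apply]
      exact elem_of_comp_zero (cone_homologyMap_comp (f ^ n • 𝟙 (K n)) j) x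
    · intro n x hx
      exact exists_of_exact _ (cone_homology_exact₃ (f ^ n • 𝟙 (K n)) j (j + 1) rfl) x hx
    · intro y hy
      exact exists_of_exact _ (cone_homology_exact₂ u j) y hy
    · intro n x hx
      exact i' j n x hx

end Step

end Groth.Agent.Lib.T2H2.KzCech
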