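import Mathlib
import Groth.Prelude.Def_ega3
import Groth.Prelude.Def_DerCA
import Groth.Agent.Lib.T2H2KzCechB

/-!
# Koszul complexes of powers versus a cone model of the extended Čech complex (helper2, part C)

`colim_n H^j(K(f^n; M)) ≃ H^j(ecCone M fs)`.
-/

set_option autoImplicit false

namespace Groth.Agent.Lib.T2H2.KzCech

open CategoryTheory CategoryTheory.Limits CochainComplex DerCA CohIII

universe u

variable {A : Type u} [CommRing A]

lemma smul_koszulTrans_θ' (M : ModuleCat.{u} A) (n m : ℕ) (h : n ≤ m) (f : A) (fs : List A) :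
    (f ^ (m - n) • koszulTrans M n m h fs) ≫ θ' M m f fs = θ' M n f fs := by
  unfold θ'
  rw [Linear.smul_comp, ← Category.assoc (koszulTrans M n m h fs), koszulTrans_θ M n m h fs,
    ← smul_invPow_of_le f n m h, Linear.comp_smul, Linear.comp_smul]

theorem computes (M : ModuleCat.{u} A) : ∀ (fs : List A) (j : ℤ),
    Computes (K := fun n => koszulCx M (fs.map (· ^ n))) (fun n m h => koszulTrans M n m h fs)
      (fun n => θ M n fs) j
  | [], j => by
    constructor
    · intro y
      refine ⟨0, y, ?_⟩
      change (HomologicalComplex.homologyMap (𝟙 ((HomologicalComplex.single (ModuleCat.{u} A)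
        (ComplexShape.up ℤ) 0).obj M)) j).hom y = y
      rw [HomologicalComplex.homologyMap_id]
      rfl
    · intro n x hx
      refine ⟨n, le_rfl, ?_⟩
      change (HomologicalComplex.homologyMap (𝟙 ((HomologicalComplex.single (ModuleCat.{u} A)
        (ComplexShape.up ℤ) 0).obj M)) j).hom x = 0 at hx
      rw [HomologicalComplex.homologyMap_id] at hx
      change (HomologicalComplex.homologyMap (𝟙 ((HomologicalComplex.single (ModuleCat.{u} A)
        (ComplexShape.up ℤ) 0).obj M)) j).hom x = 0
      rw [HomologicalComplex.homologyMap_id]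
      exact hx
  | f :: fs, j =>
    step (fun n => koszulCx M (fs.map (· ^ n))) (ecCone M fs) f
      (fun n m h => koszulTrans M n m h fs) (fun n => θ M n fs) (fun n => θ' M n f fs)
      (fun n => smul_θ' M n f fs) (fun n m h => koszulTrans_θ M n m h fs)
      (fun n m h => smul_koszulTrans_θ' M n m h f fs)
      (fun n m k h h' => koszulTrans_trans M n m k h h' fs)
      (fun j => computes M fs j) j

theorem nonempty_koszulHLim_equiv (fs : List A) (M : ModuleCat.{u} A) (p : ℕ) :
    Nonempty (koszulHLim fs M p ≃ₗ[A] (ecCone M fs).homology ((p : ℤ) - fs.length)) := by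
  obtain ⟨hs, hi⟩ := computes M fs ((p : ℤ) - fs.length)
  let g : ∀ n, (koszulHPow fs M p n) →ₗ[A] (ecCone M fs).homology ((p : ℤ) - fs.length) :=
    fun n => (HomologicalComplex.homologyMap (θ M n fs) ((p : ℤ) - fs.length)).hom
  have hg : ∀ n m (h : n ≤ m) (x : koszulHPow fs M p n),
      g m ((HomologicalComplex.homologyMap (koszulTrans M n m h fs) ((p : ℤ) - fs.length)).hom x) =
        g n x := by
    intro n m h x
    exact elem_of_comp_eq' (by rw [← HomologicalComplex.homologyMap_comp, koszulTrans_θ]) x
  let L : koszulHLim fs M p →ₗ[A] (ecCone M fs).homology ((p : ℤ) - fs.length) :=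
    Module.DirectLimit.lift A ℕ (fun n : ℕ => (koszulHPow fs M p n : Type u))
      (fun n m h => (HomologicalComplex.homologyMap (koszulTrans M n m h fs)
        ((p : ℤ) - fs.length)).hom) g hg
  refine ⟨LinearEquiv.ofBijective L ⟨?_, ?_⟩⟩
  · rw [← LinearMap.ker_eq_bot, LinearMap.ker_eq_bot']
    intro z hz
    obtain ⟨n, x, rfl⟩ := Module.DirectLimit.exists_of z
    have h1 : g n x = 0 := by
      rw [← hz]
      exact (Module.DirectLimit.lift_of _ _ _).symm
    obtain ⟨m, hnm, h2⟩ := hi n x h1
    have h3 := Module.DirectLimit.of_f (R := A) (ι := ℕ)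
      (G := fun n : ℕ => (koszulHPow fs M p n : Type u))
      (f := fun n m h => (HomologicalComplex.homologyMap (koszulTrans M n m h fs)
        ((p : ℤ) - fs.length)).hom) (hij := hnm) (x := x)
    rw [← h3]
    change Module.DirectLimit.of A ℕ (fun n : ℕ => (koszulHPow fs M p n : Type u))
      (fun n m h => (HomologicalComplex.homologyMap (koszulTrans M n m h fs)
        ((p : ℤ) - fs.length)).hom) m ((HomologicalComplex.homologyMap
      (koszulTrans M n m hnm fs) ((p : ℤ) - fs.length)).hom x) = 0
    rw [h2, map_zero]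
  · intro y
    obtain ⟨n, x, rfl⟩ := hs y
    exact ⟨Module.DirectLimit.of A ℕ _ _ n x, Module.DirectLimit.lift_of _ _ _⟩

end Groth.Agent.Lib.T2H2.KzCech
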