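import Mathlib

/-!
# Swapping two iterated mapping cones of multiplications (helper2)

`cone (f • 𝟙 (cone (g • 𝟙 C))) ≅ cone (g • 𝟙 (cone (f • 𝟙 C)))` for a cochain complex `C` of modules.
-/

set_option autoImplicit false

universe u

open CategoryTheory CochainComplex HomComplex Limits

namespace Groth.Agent.Lib.T2H2.KzSwap

variable {A : Type u} [CommRing A]

section Cone

variable {K L : CochainComplex (ModuleCat.{u} A) ℤ} (φ : K ⟶ L)

noncomputable def pfst (i j : ℤ) (hij : i + 1 = j) : (mappingCone φ).X i →ₗ[A] K.X j :=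
  ((mappingCone.fst φ).1.v i j hij).hom

noncomputable def psnd (i : ℤ) : (mappingCone φ).X i →ₗ[A] L.X i :=
  ((mappingCone.snd φ).v i i (add_zero i)).hom

noncomputable def qinl (i j : ℤ) (hij : i + 1 = j) : K.X j →ₗ[A] (mappingCone φ).X i :=
  ((mappingCone.inl φ).v j i (by omega)).hom

noncomputable def qinr (i : ℤ) : L.X i →ₗ[A] (mappingCone φ).X i :=
  ((mappingCone.inr φ).f i).hom

@[simp]
lemma pfst_qinl (i j : ℤ) (hij : i + 1 = j) (u : K.X j) : pfst φ i j hij (qinl φ i j hij u) = u := by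
  have := mappingCone.inl_v_fst_v φ j i (by omega)
  exact congr($(this).hom u)

@[simp]
lemma pfst_qinr (i j : ℤ) (hij : i + 1 = j) (v : L.X i) : pfst φ i j hij (qinr φ i v) = 0 := by
  have := mappingCone.inr_f_fst_v φ i j hij
  exact congr($(this).hom v)

@[simp]
lemma psnd_qinl (i j : ℤ) (hij : i + 1 = j) (u : K.X j) : psnd φ i (qinl φ i j hij u) = 0 := by
  have := mappingCone.inl_v_snd_v φ j i (by omega)
  exact congr($(this).hom u)

@[simp]
lemma psnd_qinr (i : ℤ) (v : L.X i) : psnd φ i (qinr φ i v) = v := by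
  have := mappingCone.inr_f_snd_v φ i
  exact congr($(this).hom v)

lemma decomp (i j : ℤ) (hij : i + 1 = j) (x : (mappingCone φ).X i) :
    x = qinl φ i j hij (pfst φ i j hij x) + qinr φ i (psnd φ i x) := by
  have := mappingCone.id_X φ i j hij
  exact congr($(this).hom x).symm

lemma cone_ext (i j : ℤ) (hij : i + 1 = j) {x y : (mappingCone φ).X i}
    (h1 : pfst φ i j hij x = pfst φ i j hij y) (h2 : psnd φ i x = psnd φ i y) : x = y := by
  rw [decomp φ i j hij x, decomp φ i j hij y, h1, h2]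

lemma pfst_d (i j k : ℤ) (hij : i + 1 = j) (hjk : j + 1 = k) (x : (mappingCone φ).X i) :
    pfst φ j k hjk (((mappingCone φ).d i j).hom x) = - (K.d j k).hom (pfst φ i j hij x) := by
  have := mappingCone.d_fst_v φ i j k hij hjk
  exact congr($(this).hom x)

lemma psnd_d (i j : ℤ) (hij : i + 1 = j) (x : (mappingCone φ).X i) :
    psnd φ j (((mappingCone φ).d i j).hom x) =
      (φ.f j).hom (pfst φ i j hij x) + (L.d i j).hom (psnd φ i x) := by
  have := mappingCone.d_snd_v φ i j hij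
  exact congr($(this).hom x)

end Cone

lemma smul_id_f_hom (K : CochainComplex (ModuleCat.{u} A) ℤ) (f : A) (j : ℤ) (u : K.X j) :
    ((f • 𝟙 K).f j).hom u = f • u := rfl

section Double

variable (C : CochainComplex (ModuleCat.{u} A) ℤ) (f g : A)

/-- the double cone -/
noncomputable abbrev DC : CochainComplex (ModuleCat.{u} A) ℤ :=
  mappingCone (f • 𝟙 (mappingCone (g • 𝟙 C)))

variable (n n1 n2 : ℤ) (h1 : n + 1 = n1) (h2 : n1 + 1 = n2)

noncomputable def cA : (DC C f g).X n →ₗ[A] C.X n2 :=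
  pfst (g • 𝟙 C) n1 n2 h2 ∘ₗ pfst (f • 𝟙 (mappingCone (g • 𝟙 C))) n n1 h1

noncomputable def cB : (DC C f g).X n →ₗ[A] C.X n1 :=
  psnd (g • 𝟙 C) n1 ∘ₗ pfst (f • 𝟙 (mappingCone (g • 𝟙 C))) n n1 h1

noncomputable def cC : (DC C f g).X n →ₗ[A] C.X n1 :=
  pfst (g • 𝟙 C) n n1 h1 ∘ₗ psnd (f • 𝟙 (mappingCone (g • 𝟙 C))) n

noncomputable def cD : (DC C f g).X n →ₗ[A] C.X n :=
  psnd (g • 𝟙 C) n ∘ₗ psnd (f • 𝟙 (mappingCone (g • 𝟙 C))) n

noncomputable def iA : C.X n2 →ₗ[A] (DC C f g).X n :=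
  qinl (f • 𝟙 (mappingCone (g • 𝟙 C))) n n1 h1 ∘ₗ qinl (g • 𝟙 C) n1 n2 h2

noncomputable def iB : C.X n1 →ₗ[A] (DC C f g).X n :=
  qinl (f • 𝟙 (mappingCone (g • 𝟙 C))) n n1 h1 ∘ₗ qinr (g • 𝟙 C) n1

noncomputable def iC : C.X n1 →ₗ[A] (DC C f g).X n :=
  qinr (f • 𝟙 (mappingCone (g • 𝟙 C))) n ∘ₗ qinl (g • 𝟙 C) n n1 h1

noncomputable def iD : C.X n →ₗ[A] (DC C f g).X n :=
  qinr (f • 𝟙 (mappingCone (g • 𝟙 C))) n ∘ₗ qinr (g • 𝟙 C) n

@[simp] lemma cA_iA (a : C.X n2) : cA C f g n n1 n2 h1 h2 (iA C f g n n1 n2 h1 h2 a) = a := by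
  simp [cA, iA]
@[simp] lemma cA_iB (b : C.X n1) : cA C f g n n1 n2 h1 h2 (iB C f g n n1 h1 b) = 0 := by
  simp [cA, iB]
@[simp] lemma cA_iC (c : C.X n1) : cA C f g n n1 n2 h1 h2 (iC C f g n n1 h1 c) = 0 := by
  simp [cA, iC]
@[simp] lemma cA_iD (d : C.X n) : cA C f g n n1 n2 h1 h2 (iD C f g n d) = 0 := by
  simp [cA, iD]
@[simp] lemma cB_iA (a : C.X n2) : cB C f g n n1 h1 (iA C f g n n1 n2 h1 h2 a) = 0 := by
  simp [cB, iA]
@[simp] lemma cB_iB (b : C.X n1) : cB C f g n n1 h1 (iB C f g n n1 h1 b) = b := by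
  simp [cB, iB]
@[simp] lemma cB_iC (c : C.X n1) : cB C f g n n1 h1 (iC C f g n n1 h1 c) = 0 := by
  simp [cB, iC]
@[simp] lemma cB_iD (d : C.X n) : cB C f g n n1 h1 (iD C f g n d) = 0 := by
  simp [cB, iD]
@[simp] lemma cC_iA (a : C.X n2) : cC C f g n n1 h1 (iA C f g n n1 n2 h1 h2 a) = 0 := by
  simp [cC, iA]
@[simp] lemma cC_iB (b : C.X n1) : cC C f g n n1 h1 (iB C f g n n1 h1 b) = 0 := by
  simp [cC, iB]
@[simp] lemma cC_iC (c : C.X n1) : cC C f g n n1 h1 (iC C f g n n1 h1 c) = c := by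
  simp [cC, iC]
@[simp] lemma cC_iD (d : C.X n) : cC C f g n n1 h1 (iD C f g n d) = 0 := by
  simp [cC, iD]
@[simp] lemma cD_iA (a : C.X n2) : cD C f g n (iA C f g n n1 n2 h1 h2 a) = 0 := by
  simp [cD, iA]
@[simp] lemma cD_iB (b : C.X n1) : cD C f g n (iB C f g n n1 h1 b) = 0 := by
  simp [cD, iB]
@[simp] lemma cD_iC (c : C.X n1) : cD C f g n (iC C f g n n1 h1 c) = 0 := by
  simp [cD, iC]
@[simp] lemma cD_iD (d : C.X n) : cD C f g n (iD C f g n d) = d := by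
  simp [cD, iD]

lemma dc_decomp (x : (DC C f g).X n) :
    x = iA C f g n n1 n2 h1 h2 (cA C f g n n1 n2 h1 h2 x) + iB C f g n n1 h1 (cB C f g n n1 h1 x) +
      iC C f g n n1 h1 (cC C f g n n1 h1 x) + iD C f g n (cD C f g n x) := by
  have e1 := decomp (f • 𝟙 (mappingCone (g • 𝟙 C))) n n1 h1 x
  have e2 := decomp (g • 𝟙 C) n1 n2 h2 (pfst (f • 𝟙 (mappingCone (g • 𝟙 C))) n n1 h1 x)
  have e3 := decomp (g • 𝟙 C) n n1 h1 (psnd (f • 𝟙 (mappingCone (g • 𝟙 C))) n x)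
  conv_lhs => rw [e1, e2, e3]
  simp only [map_add, iA, iB, iC, iD, cA, cB, cC, cD, LinearMap.comp_apply]
  abel

lemma dc_ext {x y : (DC C f g).X n}
    (hA : cA C f g n n1 n2 h1 h2 x = cA C f g n n1 n2 h1 h2 y)
    (hB : cB C f g n n1 h1 x = cB C f g n n1 h1 y)
    (hC : cC C f g n n1 h1 x = cC C f g n n1 h1 y)
    (hD : cD C f g n x = cD C f g n y) : x = y := by
  rw [dc_decomp C f g n n1 n2 h1 h2 x, dc_decomp C f g n n1 n2 h1 h2 y, hA, hB, hC, hD]

end Double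

section DoubleD

variable (C : CochainComplex (ModuleCat.{u} A) ℤ) (f g : A)
variable (n n1 n2 n3 : ℤ) (h1 : n + 1 = n1) (h2 : n1 + 1 = n2) (h3 : n2 + 1 = n3)

lemma cA_d (x : (DC C f g).X n) :
    cA C f g n1 n2 n3 h2 h3 (((DC C f g).d n n1).hom x) =
      (C.d n2 n3).hom (cA C f g n n1 n2 h1 h2 x) := by
  simp only [cA, LinearMap.comp_apply]
  rw [pfst_d _ n n1 n2 h1 h2, map_neg, pfst_d _ n1 n2 n3 h2 h3, neg_neg]

lemma cB_d (x : (DC C f g).X n) :
    cB C f g n1 n2 h2 (((DC C f g).d n n1).hom x) =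
      -(g • cA C f g n n1 n2 h1 h2 x + (C.d n1 n2).hom (cB C f g n n1 h1 x)) := by
  simp only [cA, cB, LinearMap.comp_apply]
  rw [pfst_d _ n n1 n2 h1 h2, map_neg, psnd_d _ n1 n2 h2, smul_id_f_hom]

lemma cC_d (x : (DC C f g).X n) :
    cC C f g n1 n2 h2 (((DC C f g).d n n1).hom x) =
      f • cA C f g n n1 n2 h1 h2 x - (C.d n1 n2).hom (cC C f g n n1 h1 x) := by
  simp only [cA, cC, LinearMap.comp_apply]
  rw [psnd_d _ n n1 h1, map_add, smul_id_f_hom, map_smul, pfst_d _ n n1 n2 h1 h2, sub_eq_add_neg]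

lemma cD_d (x : (DC C f g).X n) :
    cD C f g n1 (((DC C f g).d n n1).hom x) =
      f • cB C f g n n1 h1 x + g • cC C f g n n1 h1 x + (C.d n n1).hom (cD C f g n x) := by
  simp only [cB, cC, cD, LinearMap.comp_apply]
  rw [psnd_d _ n n1 h1, map_add, smul_id_f_hom, map_smul, psnd_d _ n n1 h1, smul_id_f_hom, add_assoc]

end DoubleD

section Swap

variable (C : CochainComplex (ModuleCat.{u} A) ℤ) (f g : A)

/-- the swap in degree `n` -/
noncomputable def swapL (n : ℤ) : (DC C f g).X n →ₗ[A] (DC C g f).X n :=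
  - (iA C g f n (n + 1) (n + 1 + 1) rfl rfl ∘ₗ cA C f g n (n + 1) (n + 1 + 1) rfl rfl) +
    iB C g f n (n + 1) rfl ∘ₗ cC C f g n (n + 1) rfl +
    iC C g f n (n + 1) rfl ∘ₗ cB C f g n (n + 1) rfl +
    iD C g f n ∘ₗ cD C f g n

variable (n n1 n2 : ℤ) (h1 : n + 1 = n1) (h2 : n1 + 1 = n2)

lemma cA_swapL (x : (DC C f g).X n) :
    cA C g f n n1 n2 h1 h2 (swapL C f g n x) = - cA C f g n n1 n2 h1 h2 x := by
  subst h1 h2
  simp [swapL]

lemma cB_swapL (x : (DC C f g).X n) :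
    cB C g f n n1 h1 (swapL C f g n x) = cC C f g n n1 h1 x := by
  subst h1
  simp [swapL]

lemma cC_swapL (x : (DC C f g).X n) :
    cC C g f n n1 h1 (swapL C f g n x) = cB C f g n n1 h1 x := by
  subst h1
  simp [swapL]

lemma cD_swapL (x : (DC C f g).X n) :
    cD C g f n (swapL C f g n x) = cD C f g n x := by
  simp [swapL]

lemma swapL_swapL (x : (DC C f g).X n) : swapL C g f n (swapL C f g n x) = x := by
  apply dc_ext C f g n (n + 1) (n + 1 + 1) rfl rfl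
  · rw [cA_swapL, cA_swapL, neg_neg]
  · rw [cB_swapL, cC_swapL]
  · rw [cC_swapL, cB_swapL]
  · rw [cD_swapL, cD_swapL]

lemma swapL_d (n n1 : ℤ) (h1 : n + 1 = n1) (x : (DC C f g).X n) :
    swapL C f g n1 (((DC C f g).d n n1).hom x) = ((DC C g f).d n n1).hom (swapL C f g n x) := by
  subst h1
  apply dc_ext C g f (n + 1) (n + 1 + 1) (n + 1 + 1 + 1) rfl rfl
  · rw [cA_swapL, cA_d C f g n (n + 1) (n + 1 + 1) (n + 1 + 1 + 1) rfl rfl rfl,
      cA_d C g f n (n + 1) (n + 1 + 1) (n + 1 + 1 + 1) rfl rfl rfl, cA_swapL, map_neg]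
  · rw [cB_swapL, cC_d C f g n (n + 1) (n + 1 + 1) rfl rfl,
      cB_d C g f n (n + 1) (n + 1 + 1) rfl rfl, cA_swapL, cB_swapL]
    simp only [smul_neg]
    abel
  · rw [cC_swapL, cB_d C f g n (n + 1) (n + 1 + 1) rfl rfl,
      cC_d C g f n (n + 1) (n + 1 + 1) rfl rfl, cA_swapL, cC_swapL]
    simp only [smul_neg]
    abel
  · rw [cD_swapL, cD_d C f g n (n + 1) rfl, cD_d C g f n (n + 1) rfl, cB_swapL, cC_swapL, cD_swapL]
    abel

/-- the swap as a linear equivalence -/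
noncomputable def swapE (n : ℤ) : (DC C f g).X n ≃ₗ[A] (DC C g f).X n :=
  LinearEquiv.ofLinearMap (swapL C f g n) (swapL C g f n)
    (LinearMap.ext fun x => swapL_swapL C g f n x) (LinearMap.ext fun x => swapL_swapL C f g n x)

/-- **the swap isomorphism** -/
noncomputable def swapIso :
    mappingCone (f • 𝟙 (mappingCone (g • 𝟙 C))) ≅ mappingCone (g • 𝟙 (mappingCone (f • 𝟙 C))) :=
  HomologicalComplex.Hom.isoOfComponents (fun n => (swapE C f g n).toModuleIso) (by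
    intro i j hij
    ext x
    have hij' : i + 1 = j := hij
    exact (swapL_d C f g i j hij' x).symm)

end Swap

end Groth.Agent.Lib.T2H2.KzSwap
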