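import Mathlib
import Groth.Prelude.Def_DerCA
import Groth.Agent.Lib.T2H2KzSwap
import Groth.Agent.Lib.T2H2KzCechA

/-!
# The two lowest cohomology groups of the cone model of the extended Čech complex (helper2, part A)

`LowModel E k ρ`: the complex `E` vanishes below degree `k`, its degree `k` term is `M`, its cycles in
degree `k + 1` are `N`, and the differential `E^k → Z^{k+1}` is `ρ : M → N`.  Then
`H^k(E) ≃ ker ρ` and `H^{k+1}(E) ≃ N / range ρ`.
-/

set_option autoImplicit false

universe u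

open CategoryTheory CategoryTheory.Limits CochainComplex DerCA

namespace Groth.Agent.Lib.T2H2.LowCech

open Groth.Agent.Lib.T2H2.KzSwap Groth.Agent.Lib.T2H2.KzCech

variable {A : Type u} [CommRing A]

/-- a description of the two lowest degrees of a complex -/
structure LowModel (E : DRing.Cx A) (k k1 k2 : ℤ) {M N : Type u} [AddCommGroup M] [Module A M]
    [AddCommGroup N] [Module A N] (ρ : M →ₗ[A] N) where
  zero : ∀ j : ℤ, j < k → Subsingleton (E.X j)
  b : M →ₗ[A] E.X k
  hb : Function.Bijective b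
  z : N →ₗ[A] E.X k1
  hz : Function.Injective z
  range_z : ∀ x : E.X k1, (E.d k1 k2).hom x = 0 ↔ ∃ n, z n = x
  comm : ∀ m, z (ρ m) = (E.d k k1).hom (b m)

section Elem

variable (K : DRing.Cx A) (i j : ℤ)

lemma exists_cycle' (hij : i + 1 = j) (x : K.X i) (hx : (K.d i j).hom x = 0) :
    ∃ z : K.cycles i, (K.iCycles i).hom z = x := by
  have h : (ShortComplex.mk (K.iCycles i) (K.d i j) (K.iCycles_d i j)).Exact :=
    ShortComplex.exact_of_f_is_kernel _ (K.cyclesIsKernel i j (by simp [← hij]))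
  rw [ShortComplex.moduleCat_exact_iff] at h
  exact h x hx

lemma iCycles_injective' : Function.Injective (K.iCycles i).hom :=
  (ModuleCat.mono_iff_injective (K.iCycles i)).1 inferInstance

lemma homologyπ_surjective' : Function.Surjective (K.homologyπ i).hom :=
  (ModuleCat.epi_iff_surjective (K.homologyπ i)).1 inferInstance

lemma exists_of_homologyπ_eq_zero' (hij : i + 1 = j) (z : K.cycles j) (hz : (K.homologyπ j).hom z = 0) :
    ∃ w : K.X i, (K.toCycles i j).hom w = z := by
  have h : (ShortComplex.mk (K.toCycles i j) (K.homologyπ j)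
      (K.toCycles_comp_homologyπ i j)).Exact :=
    ShortComplex.exact_of_g_is_cokernel _ (K.homologyIsCokernel i j (by simp [← hij]))
  rw [ShortComplex.moduleCat_exact_iff] at h
  exact h z hz

lemma iCycles_toCycles' (w : K.X i) :
    (K.iCycles j).hom ((K.toCycles i j).hom w) = (K.d i j).hom w :=
  congrArg (fun t => t.hom w) (K.toCycles_i i j)

lemma homologyπ_toCycles' (w : K.X i) :
    (K.homologyπ j).hom ((K.toCycles i j).hom w) = 0 :=
  congrArg (fun t => t.hom w) (K.toCycles_comp_homologyπ i j)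

lemma d_iCycles' (z : K.cycles i) : (K.d i j).hom ((K.iCycles i).hom z) = 0 :=
  congrArg (fun t => t.hom z) (K.iCycles_d i j)

end Elem

section Homology

variable {E : DRing.Cx A} {k : ℤ} {M N : Type u} [AddCommGroup M] [Module A M]
  [AddCommGroup N] [Module A N] {ρ : M →ₗ[A] N} (L : LowModel E k (k + 1) (k + 1 + 1) ρ)

/-- `N → Z^{k+1}(E)` -/
noncomputable def LowModel.toZ1 : ModuleCat.of A N ⟶ E.cycles (k + 1) :=
  E.liftCycles (ModuleCat.ofHom L.z) (k + 1 + 1) (by simp) (by
    ext n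
    exact (L.range_z _).mpr ⟨n, rfl⟩)

lemma LowModel.iCycles_toZ1 (n : N) : (E.iCycles (k + 1)).hom (L.toZ1.hom n) = L.z n :=
  congrArg (fun t => t.hom n) (E.liftCycles_i (ModuleCat.ofHom L.z) (k + 1 + 1) (by simp) _)

/-- `N → H^{k+1}(E)` -/
noncomputable def LowModel.toH1 : N →ₗ[A] E.homology (k + 1) :=
  (L.toZ1 ≫ E.homologyπ (k + 1)).hom

lemma LowModel.toH1_surjective : Function.Surjective L.toH1 := by
  intro y
  obtain ⟨c, rfl⟩ := homologyπ_surjective' E (k + 1) y
  obtain ⟨n, hn⟩ := (L.range_z ((E.iCycles (k + 1)).hom c)).mp (d_iCycles' E (k + 1) (k + 1 + 1) c)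
  refine ⟨n, ?_⟩
  have : L.toZ1.hom n = c := by
    apply iCycles_injective' E (k + 1)
    rw [L.iCycles_toZ1, hn]
  change (E.homologyπ (k + 1)).hom (L.toZ1.hom n) = _
  rw [this]

lemma LowModel.ker_toH1 : LinearMap.ker L.toH1 = LinearMap.range ρ := by
  ext n
  rw [LinearMap.mem_ker, LinearMap.mem_range]
  constructor
  · intro hn
    obtain ⟨w, hw⟩ := exists_of_homologyπ_eq_zero' E k (k + 1) rfl (L.toZ1.hom n) hn
    obtain ⟨m, rfl⟩ := L.hb.2 w
    refine ⟨m, ?_⟩
    apply L.hz
    rw [L.comm, ← iCycles_toCycles' E k (k + 1), hw, L.iCycles_toZ1]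
  · rintro ⟨m, rfl⟩
    have : L.toZ1.hom (ρ m) = (E.toCycles k (k + 1)).hom (L.b m) := by
      apply iCycles_injective' E (k + 1)
      rw [L.iCycles_toZ1, iCycles_toCycles', L.comm]
    change (E.homologyπ (k + 1)).hom (L.toZ1.hom (ρ m)) = 0
    rw [this, homologyπ_toCycles']

/-- `H^{k+1}(E) ≃ N / range ρ` -/
noncomputable def LowModel.h1Equiv : (N ⧸ LinearMap.range ρ) ≃ₗ[A] E.homology (k + 1) :=
  (Submodule.quotEquivOfEq _ _ L.ker_toH1.symm).trans
    (LinearMap.quotKerEquivOfSurjective L.toH1 L.toH1_surjective)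

/-- `ker ρ → Z^k(E)` -/
noncomputable def LowModel.toZ0 : ModuleCat.of A (LinearMap.ker ρ) ⟶ E.cycles k :=
  E.liftCycles (ModuleCat.ofHom (L.b ∘ₗ (LinearMap.ker ρ).subtype)) (k + 1) (by simp) (by
    ext m
    change (E.d k (k + 1)).hom (L.b m.1) = 0
    rw [← L.comm, LinearMap.mem_ker.mp m.2, map_zero])

lemma LowModel.iCycles_toZ0 (m : LinearMap.ker ρ) :
    (E.iCycles k).hom (L.toZ0.hom m) = L.b m.1 :=
  congrArg (fun t => t.hom m)
    (E.liftCycles_i (ModuleCat.ofHom (L.b ∘ₗ (LinearMap.ker ρ).subtype)) (k + 1) (by simp) _)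

/-- `ker ρ → H^k(E)` -/
noncomputable def LowModel.toH0 : LinearMap.ker ρ →ₗ[A] E.homology k :=
  (L.toZ0 ≫ E.homologyπ k).hom

lemma LowModel.toH0_bijective : Function.Bijective L.toH0 := by
  constructor
  · rw [← LinearMap.ker_eq_bot, LinearMap.ker_eq_bot']
    intro m hm
    obtain ⟨w, hw⟩ := exists_of_homologyπ_eq_zero' E (k - 1) k (by ring) (L.toZ0.hom m) hm
    have := L.zero (k - 1) (by omega)
    have h0 : (E.iCycles k).hom (L.toZ0.hom m) = 0 := by
      rw [← hw, iCycles_toCycles', Subsingleton.elim w 0, map_zero]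
    rw [L.iCycles_toZ0] at h0
    have h1 : m.1 = 0 := L.hb.1 (by rw [h0, map_zero])
    exact Subtype.ext h1
  · intro y
    obtain ⟨c, rfl⟩ := homologyπ_surjective' E k y
    obtain ⟨m, hm⟩ := L.hb.2 ((E.iCycles k).hom c)
    have hm0 : ρ m = 0 := by
      apply L.hz
      rw [L.comm, hm, map_zero, d_iCycles']
    refine ⟨⟨m, LinearMap.mem_ker.mpr hm0⟩, ?_⟩
    have : L.toZ0.hom ⟨m, LinearMap.mem_ker.mpr hm0⟩ = c := by
      apply iCycles_injective' E k
      rw [L.iCycles_toZ0, hm]
    change (E.homologyπ k).hom (L.toZ0.hom _) = _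
    rw [this]

/-- `H^k(E) ≃ ker ρ` -/
noncomputable def LowModel.h0Equiv : LinearMap.ker ρ ≃ₗ[A] E.homology k :=
  LinearEquiv.ofBijective L.toH0 L.toH0_bijective

/-- re-indexing -/
def LowModel.cast {k1 k2 : ℤ} (h1 : k + 1 = k1) (h2 : k1 + 1 = k2) (L' : LowModel E k k1 k2 ρ) :
    LowModel E k (k + 1) (k + 1 + 1) ρ := by
  subst h1
  subst h2
  exact L'

end Homology

section ConeL

variable (S : Submonoid A) (E : DRing.Cx A)

/-- the cone of the localisation map -/
noncomputable abbrev LC : DRing.Cx A := mappingCone (locCxUnit S E)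

/-- the localisation of a linear map -/
noncomputable abbrev lmap {P Q : Type u} [AddCommGroup P] [Module A P] [AddCommGroup Q] [Module A Q]
    (g : P →ₗ[A] Q) : LocalizedModule S P →ₗ[A] LocalizedModule S Q :=
  IsLocalizedModule.map S (LocalizedModule.mkLinearMap S P) (LocalizedModule.mkLinearMap S Q) g

noncomputable def pfstL (i j : ℤ) (hij : i + 1 = j) : (LC S E).X i →ₗ[A] E.X j :=
  pfst (locCxUnit S E) i j hij

noncomputable def psndL (i : ℤ) : (LC S E).X i →ₗ[A] LocalizedModule S (E.X i) :=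
  psnd (locCxUnit S E) i

noncomputable def qinlL (i j : ℤ) (hij : i + 1 = j) : E.X j →ₗ[A] (LC S E).X i :=
  qinl (locCxUnit S E) i j hij

noncomputable def qinrL (i : ℤ) : LocalizedModule S (E.X i) →ₗ[A] (LC S E).X i :=
  qinr (locCxUnit S E) i

@[simp] lemma pfstL_qinlL (i j : ℤ) (hij : i + 1 = j) (a : E.X j) :
    pfstL S E i j hij (qinlL S E i j hij a) = a := pfst_qinl _ i j hij a

@[simp] lemma pfstL_qinrL (i j : ℤ) (hij : i + 1 = j) (c : LocalizedModule S (E.X i)) :
    pfstL S E i j hij (qinrL S E i c) = 0 := pfst_qinr (locCxUnit S E) i j hij c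

@[simp] lemma psndL_qinlL (i j : ℤ) (hij : i + 1 = j) (a : E.X j) :
    psndL S E i (qinlL S E i j hij a) = 0 := psnd_qinl (locCxUnit S E) i j hij a

@[simp] lemma psndL_qinrL (i : ℤ) (c : LocalizedModule S (E.X i)) :
    psndL S E i (qinrL S E i c) = c := psnd_qinr (locCxUnit S E) i c

lemma decompL (i j : ℤ) (hij : i + 1 = j) (x : (LC S E).X i) :
    x = qinlL S E i j hij (pfstL S E i j hij x) + qinrL S E i (psndL S E i x) :=
  decomp (locCxUnit S E) i j hij x

lemma cone_extL (i j : ℤ) (hij : i + 1 = j) {x y : (LC S E).X i}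
    (h1 : pfstL S E i j hij x = pfstL S E i j hij y) (h2 : psndL S E i x = psndL S E i y) : x = y :=
  cone_ext (locCxUnit S E) i j hij h1 h2

lemma pfstL_d (i j k : ℤ) (hij : i + 1 = j) (hjk : j + 1 = k) (x : (LC S E).X i) :
    pfstL S E j k hjk (((LC S E).d i j).hom x) = - (E.d j k).hom (pfstL S E i j hij x) :=
  pfst_d (locCxUnit S E) i j k hij hjk x

lemma psndL_d (i j : ℤ) (hij : i + 1 = j) (x : (LC S E).X i) :
    psndL S E j (((LC S E).d i j).hom x) =
      LocalizedModule.mkLinearMap S (E.X j) (pfstL S E i j hij x) +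
        lmap S (E.d i j).hom (psndL S E i x) :=
  psnd_d (locCxUnit S E) i j hij x

end ConeL

section Step

variable (S : Submonoid A) {E : DRing.Cx A}

variable {km k k1 k2 : ℤ} (hkm : km + 1 = k) (h1 : k + 1 = k1) (h2 : k1 + 1 = k2)
  {M N N' Mf Nf : Type u} [AddCommGroup M] [Module A M] [AddCommGroup N] [Module A N]
  [AddCommGroup N'] [Module A N'] [AddCommGroup Mf] [Module A Mf] [AddCommGroup Nf] [Module A Nf]
  {ρ : M →ₗ[A] N} (ρ' : M →ₗ[A] N') (L : LowModel E k k1 k2 ρ)
  (lM : M →ₗ[A] Mf) [IsLocalizedModule S lM]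
  (lN : N →ₗ[A] Nf) [IsLocalizedModule S lN]
  (ρf : Mf →ₗ[A] Nf) (hρf : ∀ m, ρf (lM m) = lN (ρ m))
  (p : N' →ₗ[A] N) (q : N' →ₗ[A] Mf)
  (hp : ∀ m, p (ρ' m) = ρ m) (hq : ∀ m, q (ρ' m) = lM m)
  (g1 : ∀ n', lN (p n') = ρf (q n'))
  (g2 : ∀ n', p n' = 0 → q n' = 0 → n' = 0)
  (g3 : ∀ n y, lN n = ρf y → ∃ n', p n' = n ∧ q n' = y)

/-- the localisation of `b` -/
noncomputable def LowModel.bS : Mf →ₗ[A] LocalizedModule S (E.X k) :=
  IsLocalizedModule.map S lM (LocalizedModule.mkLinearMap S (E.X k)) L.b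

/-- the localisation of `z` -/
noncomputable def LowModel.zS : Nf →ₗ[A] LocalizedModule S (E.X k1) :=
  IsLocalizedModule.map S lN (LocalizedModule.mkLinearMap S (E.X k1)) L.z

lemma LowModel.bS_lM (m : M) : L.bS S lM (lM m) = LocalizedModule.mkLinearMap S (E.X k) (L.b m) :=
  IsLocalizedModule.map_apply S lM _ L.b m

lemma LowModel.zS_lN (n : N) : L.zS S lN (lN n) = LocalizedModule.mkLinearMap S (E.X k1) (L.z n) :=
  IsLocalizedModule.map_apply S lN _ L.z n

lemma LowModel.bS_bijective : Function.Bijective (L.bS S lM) :=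
  ⟨IsLocalizedModule.map_injective S lM _ L.b L.hb.1,
    IsLocalizedModule.map_surjective S lM _ L.b L.hb.2⟩

lemma LowModel.zS_injective : Function.Injective (L.zS S lN) :=
  IsLocalizedModule.map_injective S lN _ L.z L.hz

include hρf in
lemma LowModel.d_bS (y : Mf) :
    lmap S (E.d k k1).hom (L.bS S lM y) = L.zS S lN (ρf y) := by
  have key : lmap S (E.d k k1).hom ∘ₗ L.bS S lM = L.zS S lN ∘ₗ ρf := by
    apply IsLocalizedModule.ext S lM
      (IsLocalizedModule.map_units (LocalizedModule.mkLinearMap S (E.X k1)))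
    ext m
    simp only [LinearMap.comp_apply]
    rw [L.bS_lM S, hρf, L.zS_lN S, IsLocalizedModule.map_apply, L.comm]
  exact congrArg (fun t => t y) key

/-- the new `z` -/
noncomputable def LowModel.z' : N' →ₗ[A] (LC S E).X k :=
  qinlL S E k k1 h1 ∘ₗ (-(L.z ∘ₗ p)) + qinrL S E k ∘ₗ (L.bS S lM ∘ₗ q)

lemma LowModel.pfstL_z' (n' : N') : pfstL S E k k1 h1 (L.z' S h1 lM p q n') = - L.z (p n') := by
  simp [LowModel.z']

lemma LowModel.psndL_z' (n' : N') : psndL S E k (L.z' S h1 lM p q n') = L.bS S lM (q n') := by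
  simp [LowModel.z']

include hkm hρf hp hq g1 g2 g3 in
/-- the inductive step -/
noncomputable def LowModel.step : LowModel (LC S E) km k k1 ρ' where
  zero j hj := by
    have := L.zero j (by omega)
    have := L.zero (j + 1) (by omega)
    exact ⟨fun x y => cone_extL S E j (j + 1) rfl (Subsingleton.elim _ _) (Subsingleton.elim _ _)⟩
  b := qinlL S E km k hkm ∘ₗ L.b
  hb := by
    constructor
    · intro m m' h
      apply L.hb.1
      have := congrArg (pfstL S E km k hkm) h
      simpa using this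
    · intro x
      have := L.zero km (by omega)
      obtain ⟨m, hm⟩ := L.hb.2 (pfstL S E km k hkm x)
      refine ⟨m, ?_⟩
      apply cone_extL S E km k hkm
      · simp [hm]
      · exact Subsingleton.elim _ _
  z := L.z' S h1 lM p q
  hz := by
    rw [← LinearMap.ker_eq_bot, LinearMap.ker_eq_bot']
    intro n' hn'
    have e1 := L.pfstL_z' S h1 lM p q n'
    have e2 := L.psndL_z' S h1 lM p q n'
    rw [hn', map_zero] at e1 e2
    apply g2
    · apply L.hz
      rw [map_zero]
      exact neg_eq_zero.mp e1.symm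
    · apply (L.bS_bijective S lM).1
      rw [map_zero]
      exact e2.symm
  range_z x := by
    constructor
    · intro hx
      have e1 := pfstL_d S E k k1 k2 h1 h2 x
      have e2 := psndL_d S E k k1 h1 x
      rw [hx, map_zero] at e1 e2
      obtain ⟨n0, hn0⟩ := (L.range_z (pfstL S E k k1 h1 x)).mp (neg_eq_zero.mp e1.symm)
      obtain ⟨y, hy⟩ := (L.bS_bijective S lM).2 (psndL S E k x)
      have e3 : lN (-n0) = ρf y := by
        apply L.zS_injective S lN
        rw [← L.d_bS S lM lN ρf hρf, hy, map_neg, map_neg, L.zS_lN S, hn0]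
        exact neg_eq_of_add_eq_zero_right e2.symm
      obtain ⟨n', hn1, hn2⟩ := g3 _ _ e3
      refine ⟨n', ?_⟩
      apply cone_extL S E k k1 h1
      · rw [L.pfstL_z' S, hn1, map_neg, neg_neg, hn0]
      · rw [L.psndL_z' S, hn2, hy]
    · rintro ⟨n', rfl⟩
      apply cone_extL S E k1 k2 h2
      · rw [pfstL_d S E k k1 k2 h1 h2, L.pfstL_z' S, map_zero, map_neg, neg_neg]
        exact (L.range_z _).mpr ⟨_, rfl⟩
      · rw [psndL_d S E k k1 h1, L.pfstL_z' S, L.psndL_z' S, map_zero, L.d_bS S lM lN ρf hρf, ← g1,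
          L.zS_lN S, map_neg, neg_add_cancel]
  comm m := by
    apply cone_extL S E k k1 h1
    · rw [L.pfstL_z' S, pfstL_d S E km k k1 hkm h1, hp, L.comm]
      simp
    · rw [L.psndL_z' S, psndL_d S E km k hkm, hq, L.bS_lM S]
      simp

end Step

section Base

variable (M : ModuleCat.{u} A) {N : Type u} [AddCommGroup N] [Module A N] [Subsingleton N]
  (ρ : M →ₗ[A] N)

lemma subsingleton_single_X (j : ℤ) (hj : j ≠ 0) :
    Subsingleton (((HomologicalComplex.single (ModuleCat.{u} A) (ComplexShape.up ℤ) 0).obj M).X j) :=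
  ModuleCat.subsingleton_of_isZero (HomologicalComplex.isZero_single_obj_X _ _ _ _ hj)

/-- the base case -/
noncomputable def LowModel.base : LowModel (ecCone M []) 0 1 2 ρ := by
  have s1 : Subsingleton ((ecCone M []).X 1) := subsingleton_single_X M 1 (by omega)
  exact
  { zero := fun j hj => subsingleton_single_X M j (by omega)
    b := (HomologicalComplex.singleObjXSelf (ComplexShape.up ℤ) 0 M).inv.hom
    hb := (ConcreteCategory.bijective_of_isIso
      (HomologicalComplex.singleObjXSelf (ComplexShape.up ℤ) 0 M).inv)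
    z := 0
    hz := fun _ _ _ => Subsingleton.elim _ _
    range_z := fun x => ⟨fun _ => ⟨0, Subsingleton.elim _ _⟩, fun _ => by
      rw [Subsingleton.elim x 0, map_zero]⟩
    comm := fun m => Subsingleton.elim _ _ }

end Base

end Groth.Agent.Lib.T2H2.LowCech
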