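import Mathlib
import Groth.Agent.Lib.Helper6QCohQcqs
import Groth.Agent.Lib.T2H2LowCechA

/-!
# The two lowest cohomology groups of the extended Čech complex of `Γ(X, F)` (helper2, part B)

For a quasi-compact quasi-separated scheme `X`, global functions `fs` and a quasi-coherent module `F`, the
cone model `ecCone Γ(X, F) fs` has a `LowModel` whose `ρ` is the restriction `Γ(X, F) → Γ(U, F)`,
`U = ⋃ X_{f_i}`.
-/

set_option autoImplicit false

universe u

open CategoryTheory Limits AlgebraicGeometry TopologicalSpace Opposite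

namespace Groth.Agent.Lib.T2H2.LowCechGeo

open Groth.Agent.Lib.Helper6 Groth.Agent.Lib.T2H2.LowCech Groth.Agent.Lib.T2H2.KzCech

variable {X : Scheme.{u}} (F : X.Modules)

/-- sections over `U`, as a module over the global functions -/
def SecA (U : X.Opens) : Type u := Γ(F, U)

noncomputable instance (U : X.Opens) : AddCommGroup (SecA F U) :=
  inferInstanceAs (AddCommGroup Γ(F, U))

noncomputable instance (U : X.Opens) : Module Γ(X, ⊤) (SecA F U) :=
  Module.compHom Γ(F, U) (X.presheaf.map (homOfLE (le_top : U ≤ ⊤)).op).hom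

variable {F}

/-- forget the module structure -/
def toSec {U : X.Opens} (s : SecA F U) : Γ(F, U) := s

/-- remember the module structure -/
def ofSec {U : X.Opens} (s : Γ(F, U)) : SecA F U := s

@[simp] lemma toSec_ofSec {U : X.Opens} (s : Γ(F, U)) : toSec (ofSec s) = s := rfl
@[simp] lemma ofSec_toSec {U : X.Opens} (s : SecA F U) : ofSec (toSec s) = s := rfl
@[simp] lemma toSec_add {U : X.Opens} (s t : SecA F U) : toSec (s + t) = toSec s + toSec t := rfl
@[simp] lemma toSec_sub {U : X.Opens} (s t : SecA F U) : toSec (s - t) = toSec s - toSec t := rfl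
@[simp] lemma toSec_zero {U : X.Opens} : toSec (0 : SecA F U) = 0 := rfl
lemma toSec_smul {U : X.Opens} (a : Γ(X, ⊤)) (s : SecA F U) :
    toSec (a • s) = resf (le_top : U ≤ ⊤) a • toSec s := rfl
lemma toSec_injective {U : X.Opens} : Function.Injective (toSec (F := F) (U := U)) := fun _ _ h => h

variable (F)

/-- restriction, as a linear map over the global functions -/
noncomputable def resA {U V : X.Opens} (h : V ≤ U) : SecA F U →ₗ[Γ(X, ⊤)] SecA F V where
  toFun s := ofSec (res F h (toSec s))
  map_add' s t := by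
    apply toSec_injective
    simp [map_add]
  map_smul' a s := by
    apply toSec_injective
    rw [toSec_ofSec, toSec_smul, res_smul, resf_resf]
    rfl

@[simp] lemma toSec_resA {U V : X.Opens} (h : V ≤ U) (s : SecA F U) :
    toSec (resA F h s) = res F h (toSec s) := rfl

lemma resA_resA {U V W : X.Opens} (h₁ : V ≤ U) (h₂ : W ≤ V) (s : SecA F U) :
    resA F h₂ (resA F h₁ s) = resA F (h₂.trans h₁) s := res_res F h₁ h₂ s

lemma resf_top_self (a : Γ(X, ⊤)) : resf (le_top : (⊤ : X.Opens) ≤ ⊤) a = a := by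
  change X.presheaf.map (𝟙 _) a = a
  rw [X.presheaf.map_id]
  rfl

/-- the identity `Γ(F, ⊤) ≃ SecA F ⊤` -/
noncomputable def topEquiv : Γ(F, ⊤) ≃ₗ[Γ(X, ⊤)] SecA F ⊤ where
  toFun s := ofSec s
  invFun s := toSec s
  left_inv _ := rfl
  right_inv _ := rfl
  map_add' _ _ := rfl
  map_smul' a s := by
    apply toSec_injective
    rw [toSec_ofSec, RingHom.id_apply, toSec_smul, toSec_ofSec, resf_top_self]

/-- restriction from global sections -/
noncomputable def ρA (U : X.Opens) : Γ(F, ⊤) →ₗ[Γ(X, ⊤)] SecA F U :=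
  resA F le_top ∘ₗ (topEquiv F).toLinearMap

@[simp] lemma toSec_ρA (U : X.Opens) (s : Γ(F, ⊤)) : toSec (ρA F U s) = res F le_top s := rfl

lemma resA_ρA {U V : X.Opens} (h : V ≤ U) (s : Γ(F, ⊤)) : resA F h (ρA F U s) = ρA F V s :=
  res_res F le_top h s

section Loc

variable [F.IsQuasicoherent]

theorem isLocalizedModule_resA {U W : X.Opens} (hU : IsCompact U.1) (hU' : IsQuasiSeparated U.1)
    (f : Γ(X, ⊤)) (hW : W = X.basicOpen (resf (le_top : U ≤ ⊤) f)) (hWU : W ≤ U) :
    IsLocalizedModule (Submonoid.powers f) (resA F hWU) := by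
  subst hW
  set fU := resf (le_top : U ≤ ⊤) f with hfU
  have hu : IsUnit (resf (le_top : X.basicOpen fU ≤ ⊤) f) := by
    have := X.toRingedSpace.isUnit_res_basicOpen fU
    rw [← resf_resf (le_top : U ≤ ⊤) (X.basicOpen_le fU)]
    exact this
  have key : ∀ (n : ℕ) (s : SecA F (X.basicOpen fU)),
      toSec (f ^ n • s) = (resf (le_top : X.basicOpen fU ≤ ⊤) f) ^ n • toSec s := by
    intro n s
    rw [toSec_smul, resf_pow]
  have keyU : ∀ (n : ℕ) (s : SecA F U), toSec (f ^ n • s) = fU ^ n • toSec s := by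
    intro n s
    rw [toSec_smul, resf_pow]
  refine ⟨?_, ?_, ?_⟩
  · rintro ⟨_, n, rfl⟩
    rw [Module.End.isUnit_iff]
    constructor
    · intro s t h
      apply toSec_injective
      have h' := congrArg toSec h
      rw [Module.algebraMap_end_apply, Module.algebraMap_end_apply] at h'
      rw [key, key] at h'
      exact (hu.pow n).smul_left_cancel.mp h'
    · intro t
      refine ⟨ofSec ((↑((hu.pow n).unit⁻¹) : Γ(X, X.basicOpen fU)) • toSec t), ?_⟩
      apply toSec_injective
      rw [Module.algebraMap_end_apply]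
      rw [key, toSec_ofSec, ← mul_smul, IsUnit.mul_val_inv, one_smul]
  · intro y
    obtain ⟨n, s, hs⟩ := exists_extension_of_isCompact_of_isQuasiSeparated F hU hU' fU (toSec y)
    refine ⟨(ofSec s, ⟨f ^ n, n, rfl⟩), ?_⟩
    apply toSec_injective
    change toSec (f ^ n • y) = _
    rw [key, toSec_resA, toSec_ofSec, hs, resf_resf]
  · intro x₁ x₂ h
    have h' : res F (X.basicOpen_le fU) (toSec (x₁ - x₂)) = 0 := by
      have := congrArg toSec h
      rw [toSec_resA, toSec_resA] at this
      rw [toSec_sub, res_sub, this, sub_self]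
    obtain ⟨n, hn⟩ := exists_pow_smul_eq_zero_of_isCompact F hU fU (toSec (x₁ - x₂)) h'
    refine ⟨⟨f ^ n, n, rfl⟩, ?_⟩
    apply toSec_injective
    change toSec (f ^ n • x₁) = toSec (f ^ n • x₂)
    rw [keyU, keyU, ← sub_eq_zero, ← smul_sub]
    exact hn

end Loc

/-- the union of the basic opens -/
noncomputable def Ufs : List Γ(X, ⊤) → X.Opens
  | [] => ⊥
  | f :: fs => X.basicOpen f ⊔ Ufs fs

lemma Ufs_eq (fs : List Γ(X, ⊤)) : Ufs fs = ⨆ i : Fin fs.length, X.basicOpen (fs.get i) := by
  induction fs with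
  | nil =>
    apply le_antisymm bot_le
    exact iSup_le fun i => i.elim0
  | cons f fs ih =>
    change X.basicOpen f ⊔ Ufs fs = _
    rw [ih]
    apply le_antisymm
    · apply sup_le
      · exact le_iSup (fun i : Fin (f :: fs).length => X.basicOpen ((f :: fs).get i)) ⟨0, by simp⟩
      · apply iSup_le
        intro i
        exact le_iSup (fun i : Fin (f :: fs).length => X.basicOpen ((f :: fs).get i)) i.succ
    · apply iSup_le
      intro i
      refine Fin.cases ?_ ?_ i
      · exact le_sup_left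
      · intro j
        exact le_trans (le_iSup (fun i : Fin fs.length => X.basicOpen (fs.get i)) j) le_sup_right

lemma isCompact_Ufs [CompactSpace X] (fs : List Γ(X, ⊤)) : IsCompact (Ufs fs).1 := by
  induction fs with
  | nil => exact isCompact_empty
  | cons f fs ih =>
    exact (isCompact_basicOpen X (U := ⊤) CompactSpace.isCompact_univ f).union ih

/-- re-indexing -/
def _root_.Groth.Agent.Lib.T2H2.LowCech.LowModel.ofEq {A : Type u} [CommRing A] {E : _root_.DRing.Cx A}
    {k k1 k2 k' k1' k2' : ℤ} {M N : Type u} [AddCommGroup M] [Module A M] [AddCommGroup N] [Module A N]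
    {ρ : M →ₗ[A] N} (L : LowModel E k k1 k2 ρ) (e : k = k') (e1 : k1 = k1') (e2 : k2 = k2') :
    LowModel E k' k1' k2' ρ := by
  subst e
  subst e1
  subst e2
  exact L

instance : Subsingleton (SecA F (⊥ : X.Opens)) :=
  ⟨fun s t => (eq_zero_of_le_bot F le_rfl (toSec s)).trans (eq_zero_of_le_bot F le_rfl (toSec t)).symm⟩

section Main

variable [F.IsQuasicoherent] [CompactSpace X] [QuasiSeparatedSpace X]

lemma isLocalizedModule_ρA (f : Γ(X, ⊤)) :
    IsLocalizedModule (Submonoid.powers f) (ρA F (X.basicOpen f)) := by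
  have : IsLocalizedModule (Submonoid.powers f) (resA F (le_top : X.basicOpen f ≤ ⊤)) :=
    isLocalizedModule_resA F CompactSpace.isCompact_univ isQuasiSeparated_univ f
      (by rw [resf_top_self]) le_top
  exact IsLocalizedModule.of_linearEquiv_right (Submonoid.powers f) (resA F le_top) (topEquiv F)

omit [CompactSpace X] in
lemma isLocalizedModule_resA_inf (f : Γ(X, ⊤)) (U : X.Opens) (hU : IsCompact U.1) :
    IsLocalizedModule (Submonoid.powers f) (resA F (inf_le_left : U ⊓ X.basicOpen f ≤ U)) :=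
  isLocalizedModule_resA F hU (isQuasiSeparated_univ.of_subset (Set.subset_univ _)) f
    (Scheme.basicOpen_res X f _).symm inf_le_left

theorem nonempty_lowModel (fs : List Γ(X, ⊤)) : ∀ (k k1 k2 : ℤ), k = -(fs.length : ℤ) → k + 1 = k1 →
    k1 + 1 = k2 →
    Nonempty (LowModel (ecCone (ModuleCat.of Γ(X, ⊤) Γ(F, ⊤)) fs) k k1 k2 (ρA F (Ufs fs))) := by
  induction fs with
  | nil =>
    intro k k1 k2 hk h1 h2
    have : Subsingleton (SecA F (Ufs ([] : List Γ(X, ⊤)))) :=
      inferInstanceAs (Subsingleton (SecA F (⊥ : X.Opens)))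
    exact ⟨(LowModel.base (ModuleCat.of Γ(X, ⊤) Γ(F, ⊤)) (ρA F (Ufs []))).ofEq
      (by simp [hk]) (by simp [hk] at h1; omega) (by simp [hk] at h1; omega)⟩
  | cons f fs ih =>
    intro km k k1 hkm hk hk1
    obtain ⟨L⟩ := ih k k1 (k1 + 1) (by simp [List.length_cons] at hkm; omega) hk1 rfl
    have i1 := isLocalizedModule_ρA F f
    have i2 := isLocalizedModule_resA_inf F f (Ufs fs) (isCompact_Ufs fs)
    refine ⟨L.step (Submonoid.powers f) hk hk1 rfl (ρA F (X.basicOpen f ⊔ Ufs fs))
      (ρA F (X.basicOpen f)) (resA F (inf_le_left : Ufs fs ⊓ X.basicOpen f ≤ Ufs fs))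
      (resA F (inf_le_right : Ufs fs ⊓ X.basicOpen f ≤ X.basicOpen f)) ?_
      (resA F (le_sup_right : Ufs fs ≤ X.basicOpen f ⊔ Ufs fs))
      (resA F (le_sup_left : X.basicOpen f ≤ X.basicOpen f ⊔ Ufs fs)) ?_ ?_ ?_ ?_ ?_⟩
    · intro m
      rw [resA_ρA, resA_ρA]
    · intro m
      rw [resA_ρA]
    · intro m
      rw [resA_ρA]
    · intro n'
      rw [resA_resA, resA_resA]
    · intro n' h1 h2
      apply toSec_injective
      exact eq_of_res_eq₂ F (le_sup_left : X.basicOpen f ≤ X.basicOpen f ⊔ Ufs fs)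
        (le_sup_right : Ufs fs ≤ X.basicOpen f ⊔ Ufs fs) le_rfl (toSec n') 0
        ((congrArg toSec h2).trans (res_zero F _).symm)
        ((congrArg toSec h1).trans (res_zero F _).symm)
    · intro n y h
      obtain ⟨s, hs1, hs2⟩ := exists_res_eq₂ F
        (le_sup_left : X.basicOpen f ≤ X.basicOpen f ⊔ Ufs fs)
        (le_sup_right : Ufs fs ≤ X.basicOpen f ⊔ Ufs fs) le_rfl
        (inf_le_right : Ufs fs ⊓ X.basicOpen f ≤ X.basicOpen f)
        (inf_le_left : Ufs fs ⊓ X.basicOpen f ≤ Ufs fs) (le_of_eq (inf_comm _ _))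
        (toSec y) (toSec n) (congrArg toSec h).symm
      exact ⟨ofSec s, toSec_injective hs2, toSec_injective hs1⟩

end Main

section Bridge

variable {G H : Type*} [AddCommGroup G] [AddCommGroup H] (φ : G →+ H)
  {A M N : Type*} [CommRing A] [AddCommGroup M] [Module A M] [AddCommGroup N] [Module A N]
  (ρ : M →ₗ[A] N) (eG : G ≃+ M) (eH : H ≃+ N) (h : ∀ g, eH (φ g) = ρ (eG g))

include h in
/-- kernels of an additive map and of a linear map with the same underlying function -/
theorem nonempty_ker_addEquiv : Nonempty (φ.ker ≃+ LinearMap.ker ρ) := by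
  refine ⟨{
    toFun := fun x => ⟨eG x.1, by
      rw [LinearMap.mem_ker, ← h, (AddMonoidHom.mem_ker).mp x.2, map_zero]⟩
    invFun := fun y => ⟨eG.symm y.1, by
      rw [AddMonoidHom.mem_ker]
      apply eH.injective
      rw [h, AddEquiv.apply_symm_apply, LinearMap.mem_ker.mp y.2, map_zero]⟩
    left_inv := fun x => Subtype.ext (eG.symm_apply_apply x.1)
    right_inv := fun y => Subtype.ext (eG.apply_symm_apply y.1)
    map_add' := fun x y => Subtype.ext (map_add eG x.1 y.1) }⟩

include h in
/-- cokernels of an additive map and of a linear map with the same underlying function -/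
theorem nonempty_coker_addEquiv : Nonempty (H ⧸ φ.range ≃+ N ⧸ LinearMap.range ρ) := by
  have he : AddSubgroup.map (eH : H →+ N) φ.range = (LinearMap.range ρ).toAddSubgroup := by
    ext n
    simp only [AddSubgroup.mem_map, AddMonoidHom.mem_range, Submodule.mem_toAddSubgroup,
      LinearMap.mem_range]
    constructor
    · rintro ⟨_, ⟨g, rfl⟩, rfl⟩
      exact ⟨eG g, (h g).symm⟩
    · rintro ⟨m, rfl⟩
      refine ⟨φ (eG.symm m), ⟨_, rfl⟩, ?_⟩
      change eH (φ (eG.symm m)) = _
      rw [h, AddEquiv.apply_symm_apply]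
  exact ⟨QuotientAddGroup.congr φ.range (LinearMap.range ρ).toAddSubgroup eH he⟩

end Bridge

end Groth.Agent.Lib.T2H2.LowCechGeo
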