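import Mathlib
import Groth.Agent.Lib.Helper6QCohQcqs
import Groth.Agent.Lib.T2H2LowCechA
import Groth.Agent.Lib.T2H2LowCechB
import Groth.Agent.Lib.T2H2KzCechC

/-!
# The two lowest cohomology groups of the extended Čech complex, over a base ring (helper2, part C)

Generalisation of part B: `R` is any commutative ring with a ring map `φ : R →+* Γ(X, ⊤)`; sections of `F`
are `R`-modules through `φ`.  For a quasi-compact quasi-separated `X`, a quasi-coherent `F`, a list `fs` of
elements of `R` and an `R`-module `M₀` with an `R`-linear identification `e : M₀ ≃ Γ(X, F)`, the cone model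
`ecCone M₀ fs` has a `LowModel` whose `ρ` is `M₀ ≃ Γ(X, F) → Γ(U, F)`, `U = ⋃ X_{φ f_i}`.
-/

set_option autoImplicit false

universe u

open CategoryTheory Limits AlgebraicGeometry TopologicalSpace Opposite

namespace Groth.Agent.Lib.T2H2.LowCechR

open Groth.Agent.Lib.Helper6 Groth.Agent.Lib.T2H2.LowCech Groth.Agent.Lib.T2H2.KzCech

variable {X : Scheme.{u}} (F : X.Modules) {R : Type u} [CommRing R] (φ : R →+* Γ(X, ⊤))

/-- sections over `U`, as a module over `R` -/
def SecR (_φ : R →+* Γ(X, ⊤)) (U : X.Opens) : Type u := Γ(F, U)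

noncomputable instance (U : X.Opens) : AddCommGroup (SecR F φ U) :=
  inferInstanceAs (AddCommGroup Γ(F, U))

noncomputable instance (U : X.Opens) : Module R (SecR F φ U) :=
  Module.compHom Γ(F, U) ((X.presheaf.map (homOfLE (le_top : U ≤ ⊤)).op).hom.comp φ)

variable {F φ}

/-- forget the module structure -/
def toSec {U : X.Opens} (s : SecR F φ U) : Γ(F, U) := s

/-- remember the module structure -/
def ofSec {U : X.Opens} (s : Γ(F, U)) : SecR F φ U := s

@[simp] lemma toSec_ofSec {U : X.Opens} (s : Γ(F, U)) : toSec (ofSec (φ := φ) s) = s := rfl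
@[simp] lemma ofSec_toSec {U : X.Opens} (s : SecR F φ U) : ofSec (toSec s) = s := rfl
@[simp] lemma toSec_add {U : X.Opens} (s t : SecR F φ U) : toSec (s + t) = toSec s + toSec t := rfl
@[simp] lemma toSec_sub {U : X.Opens} (s t : SecR F φ U) : toSec (s - t) = toSec s - toSec t := rfl
@[simp] lemma toSec_zero {U : X.Opens} : toSec (0 : SecR F φ U) = 0 := rfl
lemma toSec_smul {U : X.Opens} (a : R) (s : SecR F φ U) :
    toSec (a • s) = resf (le_top : U ≤ ⊤) (φ a) • toSec s := rfl
lemma toSec_injective {U : X.Opens} : Function.Injective (toSec (F := F) (φ := φ) (U := U)) :=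
  fun _ _ h => h

variable (F φ)

/-- restriction, as a linear map over `R` -/
noncomputable def resR {U V : X.Opens} (h : V ≤ U) : SecR F φ U →ₗ[R] SecR F φ V where
  toFun s := ofSec (res F h (toSec s))
  map_add' s t := by
    apply toSec_injective
    simp [map_add]
  map_smul' a s := by
    apply toSec_injective
    rw [toSec_ofSec, toSec_smul, res_smul, resf_resf]
    rfl

@[simp] lemma toSec_resR {U V : X.Opens} (h : V ≤ U) (s : SecR F φ U) :
    toSec (resR F φ h s) = res F h (toSec s) := rfl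

lemma resR_resR {U V W : X.Opens} (h₁ : V ≤ U) (h₂ : W ≤ V) (s : SecR F φ U) :
    resR F φ h₂ (resR F φ h₁ s) = resR F φ (h₂.trans h₁) s := res_res F h₁ h₂ s

instance : Subsingleton (SecR F φ (⊥ : X.Opens)) :=
  ⟨fun s t => (eq_zero_of_le_bot F le_rfl (toSec s)).trans (eq_zero_of_le_bot F le_rfl (toSec t)).symm⟩

section Loc

variable [F.IsQuasicoherent]

theorem isLocalizedModule_resR {U W : X.Opens} (hU : IsCompact U.1) (hU' : IsQuasiSeparated U.1)
    (f : R) (hW : W = X.basicOpen (resf (le_top : U ≤ ⊤) (φ f))) (hWU : W ≤ U) :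
    IsLocalizedModule (Submonoid.powers f) (resR F φ hWU) := by
  subst hW
  set fU := resf (le_top : U ≤ ⊤) (φ f) with hfU
  have hu : IsUnit (resf (le_top : X.basicOpen fU ≤ ⊤) (φ f)) := by
    have := X.toRingedSpace.isUnit_res_basicOpen fU
    rw [← resf_resf (le_top : U ≤ ⊤) (X.basicOpen_le fU)]
    exact this
  have key : ∀ (n : ℕ) (s : SecR F φ (X.basicOpen fU)),
      toSec (f ^ n • s) = (resf (le_top : X.basicOpen fU ≤ ⊤) (φ f)) ^ n • toSec s := by
    intro n s
    rw [toSec_smul, map_pow, resf_pow]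
  have keyU : ∀ (n : ℕ) (s : SecR F φ U), toSec (f ^ n • s) = fU ^ n • toSec s := by
    intro n s
    rw [toSec_smul, map_pow, resf_pow]
  refine ⟨?_, ?_, ?_⟩
  · rintro ⟨_, n, rfl⟩
    rw [Module.End.isUnit_iff]
    constructor
    · intro s t h
      apply toSec_injective
      have h' := congrArg toSec h
      rw [Module.algebraMap_end_apply, Module.algebraMap_end_apply] at h'
      rw [key, key] at h'
      exact (hu.pow n).smul_left_cancel.mp h'
    · intro t
      refine ⟨ofSec ((↑((hu.pow n).unit⁻¹) : Γ(X, X.basicOpen fU)) • toSec t), ?_⟩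
      apply toSec_injective
      rw [Module.algebraMap_end_apply]
      rw [key, toSec_ofSec, ← mul_smul, IsUnit.mul_val_inv, one_smul]
  · intro y
    obtain ⟨n, s, hs⟩ := exists_extension_of_isCompact_of_isQuasiSeparated F hU hU' fU (toSec y)
    refine ⟨(ofSec s, ⟨f ^ n, n, rfl⟩), ?_⟩
    apply toSec_injective
    change toSec (f ^ n • y) = _
    rw [key, toSec_resR, toSec_ofSec, hs, resf_resf]
  · intro x₁ x₂ h
    have h' : res F (X.basicOpen_le fU) (toSec (x₁ - x₂)) = 0 := by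
      have := congrArg toSec h
      rw [toSec_resR, toSec_resR] at this
      rw [toSec_sub, res_sub, this, sub_self]
    obtain ⟨n, hn⟩ := exists_pow_smul_eq_zero_of_isCompact F hU fU (toSec (x₁ - x₂)) h'
    refine ⟨⟨f ^ n, n, rfl⟩, ?_⟩
    apply toSec_injective
    change toSec (f ^ n • x₁) = toSec (f ^ n • x₂)
    rw [keyU, keyU, ← sub_eq_zero, ← smul_sub]
    exact hn

end Loc

/-- the union of the basic opens -/
noncomputable def Ufs : List R → X.Opens
  | [] => ⊥
  | f :: fs => X.basicOpen (φ f) ⊔ Ufs fs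

lemma Ufs_eq (fs : List R) : Ufs φ fs = ⨆ i : Fin fs.length, X.basicOpen (φ (fs.get i)) := by
  induction fs with
  | nil =>
    apply le_antisymm bot_le
    exact iSup_le fun i => i.elim0
  | cons f fs ih =>
    change X.basicOpen (φ f) ⊔ Ufs φ fs = _
    rw [ih]
    apply le_antisymm
    · apply sup_le
      · exact le_iSup (fun i : Fin (f :: fs).length => X.basicOpen (φ ((f :: fs).get i))) ⟨0, by simp⟩
      · apply iSup_le
        intro i
        exact le_iSup (fun i : Fin (f :: fs).length => X.basicOpen (φ ((f :: fs).get i))) i.succ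
    · apply iSup_le
      intro i
      refine Fin.cases ?_ ?_ i
      · exact le_sup_left
      · intro j
        exact le_trans (le_iSup (fun i : Fin fs.length => X.basicOpen (φ (fs.get i))) j) le_sup_right

lemma isCompact_Ufs [CompactSpace X] (fs : List R) : IsCompact (Ufs φ fs).1 := by
  induction fs with
  | nil => exact isCompact_empty
  | cons f fs ih =>
    exact (isCompact_basicOpen X (U := ⊤) CompactSpace.isCompact_univ (φ f)).union ih

section Main

variable [F.IsQuasicoherent] [CompactSpace X] [QuasiSeparatedSpace X]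

omit [CompactSpace X] in
lemma isLocalizedModule_resR_inf (f : R) (U : X.Opens) (hU : IsCompact U.1) :
    IsLocalizedModule (Submonoid.powers f) (resR F φ (inf_le_left : U ⊓ X.basicOpen (φ f) ≤ U)) :=
  isLocalizedModule_resR F φ hU (isQuasiSeparated_univ.of_subset (Set.subset_univ _)) f
    (Scheme.basicOpen_res X (φ f) _).symm inf_le_left

lemma isLocalizedModule_resR_top (f : R) :
    IsLocalizedModule (Submonoid.powers f) (resR F φ (le_top : X.basicOpen (φ f) ≤ ⊤)) :=
  isLocalizedModule_resR F φ CompactSpace.isCompact_univ isQuasiSeparated_univ f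
    (by rw [Groth.Agent.Lib.T2H2.LowCechGeo.resf_top_self]) le_top

variable (M₀ : ModuleCat.{u} R) (e : M₀ ≃ₗ[R] SecR F φ ⊤)

/-- restriction from `M₀ ≃ Γ(X, F)` -/
noncomputable def ρR (U : X.Opens) : M₀ →ₗ[R] SecR F φ U := resR F φ le_top ∘ₗ e.toLinearMap

omit [F.IsQuasicoherent] [CompactSpace X] [QuasiSeparatedSpace X] in
lemma resR_ρR {U V : X.Opens} (h : V ≤ U) (m : M₀) :
    resR F φ h (ρR F φ M₀ e U m) = ρR F φ M₀ e V m :=
  resR_resR F φ le_top h (e m)

theorem nonempty_lowModel (fs : List R) : ∀ (k k1 k2 : ℤ), k = -(fs.length : ℤ) → k + 1 = k1 →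
    k1 + 1 = k2 →
    Nonempty (LowModel (ecCone M₀ fs) k k1 k2 (ρR F φ M₀ e (Ufs φ fs))) := by
  induction fs with
  | nil =>
    intro k k1 k2 hk h1 h2
    have : Subsingleton (SecR F φ (Ufs φ ([] : List R))) :=
      inferInstanceAs (Subsingleton (SecR F φ (⊥ : X.Opens)))
    exact ⟨(LowModel.base M₀ (ρR F φ M₀ e (Ufs φ []))).ofEq
      (by simp [hk]) (by simp [hk] at h1; omega) (by simp [hk] at h1; omega)⟩
  | cons f fs ih =>
    intro km k k1 hkm hk hk1
    obtain ⟨L⟩ := ih k k1 (k1 + 1) (by simp [List.length_cons] at hkm; omega) hk1 rfl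
    have i0 := isLocalizedModule_resR_top F φ f
    have i1 : IsLocalizedModule (Submonoid.powers f) (ρR F φ M₀ e (X.basicOpen (φ f))) :=
      IsLocalizedModule.of_linearEquiv_right (Submonoid.powers f) (resR F φ le_top) e
    have i2 := isLocalizedModule_resR_inf F φ f (Ufs φ fs) (isCompact_Ufs φ fs)
    refine ⟨L.step (Submonoid.powers f) hk hk1 rfl (ρR F φ M₀ e (X.basicOpen (φ f) ⊔ Ufs φ fs))
      (ρR F φ M₀ e (X.basicOpen (φ f)))
      (resR F φ (inf_le_left : Ufs φ fs ⊓ X.basicOpen (φ f) ≤ Ufs φ fs))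
      (resR F φ (inf_le_right : Ufs φ fs ⊓ X.basicOpen (φ f) ≤ X.basicOpen (φ f))) ?_
      (resR F φ (le_sup_right : Ufs φ fs ≤ X.basicOpen (φ f) ⊔ Ufs φ fs))
      (resR F φ (le_sup_left : X.basicOpen (φ f) ≤ X.basicOpen (φ f) ⊔ Ufs φ fs)) ?_ ?_ ?_ ?_ ?_⟩
    · intro m
      rw [resR_ρR, resR_ρR]
    · intro m
      rw [resR_ρR]
    · intro m
      rw [resR_ρR]
    · intro n'
      rw [resR_resR, resR_resR]
    · intro n' h1 h2
      apply toSec_injective
      exact eq_of_res_eq₂ F (le_sup_left : X.basicOpen (φ f) ≤ X.basicOpen (φ f) ⊔ Ufs φ fs)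
        (le_sup_right : Ufs φ fs ≤ X.basicOpen (φ f) ⊔ Ufs φ fs) le_rfl (toSec n') 0
        ((congrArg toSec h2).trans (res_zero F _).symm)
        ((congrArg toSec h1).trans (res_zero F _).symm)
    · intro n y h
      obtain ⟨s, hs1, hs2⟩ := exists_res_eq₂ F
        (le_sup_left : X.basicOpen (φ f) ≤ X.basicOpen (φ f) ⊔ Ufs φ fs)
        (le_sup_right : Ufs φ fs ≤ X.basicOpen (φ f) ⊔ Ufs φ fs) le_rfl
        (inf_le_right : Ufs φ fs ⊓ X.basicOpen (φ f) ≤ X.basicOpen (φ f))
        (inf_le_left : Ufs φ fs ⊓ X.basicOpen (φ f) ≤ Ufs φ fs) (le_of_eq (inf_comm _ _))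
        (toSec y) (toSec n) (congrArg toSec h).symm
      exact ⟨ofSec s, toSec_injective hs2, toSec_injective hs1⟩

/-- the cokernel of the restriction to `⋃ X_{φ f_i}` is `H^1((f), M₀)` -/
theorem nonempty_coker_equiv (fs : List R) :
    Nonempty ((SecR F φ (Ufs φ fs) ⧸ LinearMap.range (ρR F φ M₀ e (Ufs φ fs))) ≃ₗ[R]
      CohIII.koszulHLim fs M₀ 1) := by
  obtain ⟨L⟩ := nonempty_lowModel F φ M₀ e fs (-(fs.length : ℤ))
    (-(fs.length : ℤ) + 1) (-(fs.length : ℤ) + 1 + 1) rfl rfl rfl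
  obtain ⟨e1⟩ := Groth.Agent.Lib.T2H2.KzCech.nonempty_koszulHLim_equiv fs M₀ 1
  have hc1 : ∀ j : ℤ, j = -(fs.length : ℤ) + 1 →
      Nonempty ((SecR F φ (Ufs φ fs) ⧸ LinearMap.range (ρR F φ M₀ e (Ufs φ fs))) ≃ₗ[R]
        (ecCone M₀ fs).homology j) := by
    intro j hj
    subst hj
    exact ⟨L.h1Equiv⟩
  obtain ⟨c1⟩ := hc1 (((1 : ℕ) : ℤ) - fs.length) (by push_cast; ring)
  exact ⟨c1.trans e1.symm⟩

/-- the kernel of the restriction to `⋃ X_{φ f_i}` is `H^0((f), M₀)` -/
theorem nonempty_ker_equiv (fs : List R) :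
    Nonempty (LinearMap.ker (ρR F φ M₀ e (Ufs φ fs)) ≃ₗ[R] CohIII.koszulHLim fs M₀ 0) := by
  obtain ⟨L⟩ := nonempty_lowModel F φ M₀ e fs (-(fs.length : ℤ))
    (-(fs.length : ℤ) + 1) (-(fs.length : ℤ) + 1 + 1) rfl rfl rfl
  obtain ⟨e0⟩ := Groth.Agent.Lib.T2H2.KzCech.nonempty_koszulHLim_equiv fs M₀ 0
  have hc0 : ∀ j : ℤ, j = -(fs.length : ℤ) →
      Nonempty (LinearMap.ker (ρR F φ M₀ e (Ufs φ fs)) ≃ₗ[R] (ecCone M₀ fs).homology j) := by
    intro j hj
    subst hj
    exact ⟨L.h0Equiv⟩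
  obtain ⟨c0⟩ := hc0 (((0 : ℕ) : ℤ) - fs.length) (by simp)
  exact ⟨c0.trans e0.symm⟩

end Main

end Groth.Agent.Lib.T2H2.LowCechR
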