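import Mathlib
import Groth.Agent.Lib.Helper16CechLow
import Groth.Agent.Lib.Helper16CechH1
import Groth.Agent.S0885

/-!
# Isomorphic Čech complexes from termwise compatible isomorphisms (helper4)

`cechIso`: for two presheaves of abelian groups `P` on `C`, `P'` on `C'` and two families `U`, `U'` with the
same index type, additive equivalences `P(U_σ) ≃+ P'(U'_σ)` for all tuples `σ` that commute with the face
restrictions induce an isomorphism of Čech complexes.
-/

set_option autoImplicit false

namespace Groth.Agent.Lib.T2H4.CechIso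

universe v v' u₁ u₁' u
open CategoryTheory CategoryTheory.Limits Opposite
open Groth.Agent.Lib.Helper16.CechLow

variable {C : Type u₁} [Category.{v} C] [HasFiniteProducts C]
  {C' : Type u₁'} [Category.{v'} C'] [HasFiniteProducts C']
  {ι : Type u} (U : ι → C) (U' : ι → C')
  (P : Cᵒᵖ ⥤ AddCommGrpCat.{u}) (P' : C'ᵒᵖ ⥤ AddCommGrpCat.{u})
  (e : ∀ (n : ℕ) (σ : Fin (n + 1) → ι), P.obj (op (Ux U σ)) ≃+ P'.obj (op (Ux U' σ)))

/-- the termwise map -/
noncomputable def compFun (n : ℕ) (c : (CK U P).X n) : (CK U' P').X n :=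
  mkElt U' P' n (fun σ => e n σ (pr U P n σ c))

lemma pr_compFun (n : ℕ) (c : (CK U P).X n) (σ : Fin (n + 1) → ι) :
    pr U' P' n σ (compFun U U' P P' e n c) = e n σ (pr U P n σ c) :=
  pr_mkElt U' P' n _ σ

/-- the termwise equivalence -/
noncomputable def compEquiv (n : ℕ) : (CK U P).X n ≃+ (CK U' P').X n where
  toFun := compFun U U' P P' e n
  invFun := compFun U' U P' P (fun n σ => (e n σ).symm) n
  left_inv c := by
    apply elt_ext
    intro σ
    rw [pr_compFun, pr_compFun, AddEquiv.symm_apply_apply]
  right_inv c := by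
    apply elt_ext
    intro σ
    rw [pr_compFun, pr_compFun, AddEquiv.apply_symm_apply]
  map_add' c c' := by
    apply elt_ext
    intro σ
    rw [pr_compFun, map_add, map_add, map_add, pr_compFun, pr_compFun]

variable (he : ∀ (n : ℕ) (σ : Fin (n + 2) → ι) (i : Fin (n + 2))
    (y : P.obj (op (Ux U (σ ∘ Fin.succAbove i)))),
    e (n + 1) σ (P.map (face U σ i).op y) = P'.map (face U' σ i).op (e n (σ ∘ Fin.succAbove i) y))

include he in
lemma compFun_d (n : ℕ) (c : (CK U P).X n) :
    compFun U U' P P' e (n + 1) ((CK U P).d n (n + 1) c) =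
      (CK U' P').d n (n + 1) (compFun U U' P P' e n c) := by
  apply elt_ext
  intro σ
  rw [pr_compFun, d_pr_apply, d_pr_apply, map_sum]
  refine Finset.sum_congr rfl (fun i _ => ?_)
  rw [map_zsmul, he, pr_compFun]

/-- the isomorphism of Čech complexes -/
noncomputable def cechIso : CK U P ≅ CK U' P' :=
  HomologicalComplex.Hom.isoOfComponents
    (fun n => (compEquiv U U' P P' e n).toAddCommGrpIso) (by
      intro i j hij
      have hij' : i + 1 = j := hij
      subst hij'
      ext c
      exact (compFun_d U U' P P' e he i c).symm)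

include e he in
/-- the induced equivalence in cohomology -/
theorem nonempty_homology_equiv (p : ℕ) :
    Nonempty ((CK U P).homology p ≃+ (CK U' P').homology p) :=
  ⟨((HomologicalComplex.homologyFunctor AddCommGrpCat.{u} (ComplexShape.up ℕ) p).mapIso
    (cechIso U U' P P' e he)).addCommGroupIsoToAddEquiv⟩

end Groth.Agent.Lib.T2H4.CechIso

namespace Groth.Agent.Lib.T2H4.CechIso

universe u
open CategoryTheory CategoryTheory.Limits Opposite TopologicalSpace
open Groth.Agent.Lib.Helper16.CechLow Groth.Agent.Lib.Helper16.CechH1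

section Refine

variable {X : TopCat.{u}} (P : (Opens X)ᵒᵖ ⥤ AddCommGrpCat.{u}) {ι : Type u} (V V' : ι → Opens X)
  (hV : ∀ i, V' i ≤ V i)

include hV in
lemma Ux_mono {n : ℕ} (σ : Fin (n + 1) → ι) : Ux V' σ ≤ Ux V σ :=
  le_Ux V σ _ (fun a => (Ux_le V' σ a).trans (hV (σ a)))

/-- refining a family by opens to which the restriction maps are bijective does not change Čech cohomology -/
theorem nonempty_homology_equiv_of_refine
    (hbij : ∀ (n : ℕ) (σ : Fin (n + 1) → ι),
      Function.Bijective (P.map (homOfLE (Ux_mono V V' hV σ)).op))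
    (p : ℕ) : Nonempty ((CK V P).homology p ≃+ (CK V' P).homology p) := by
  refine nonempty_homology_equiv V V' P P
    (fun n σ => AddEquiv.ofBijective (P.map (homOfLE (Ux_mono V V' hV σ)).op).hom (hbij n σ)) ?_ p
  intro n σ i y
  change P.map (homOfLE _).op (P.map (face V σ i).op y) =
    P.map (face V' σ i).op (P.map (homOfLE _).op y)
  rw [map_hom_eq P (face V σ i).op (face V σ i).le, map_hom_eq P (face V' σ i).op (face V' σ i).le,
    map_map, map_map]

/-- if moreover one member of the refined family is their union, Čech cohomology vanishes in positive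
degrees -/
theorem isZero_homology_of_refine
    (hbij : ∀ (n : ℕ) (σ : Fin (n + 1) → ι),
      Function.Bijective (P.map (homOfLE (Ux_mono V V' hV σ)).op))
    (i₀ : ι) (hi₀ : V' i₀ = iSup V') (p : ℕ) : IsZero ((CK V P).homology (p + 1)) := by
  obtain ⟨e⟩ := nonempty_homology_equiv_of_refine P V V' hV hbij (p + 1)
  obtain ⟨h⟩ := Groth.Agent.S0885.result P V' i₀ hi₀
  have hz : IsZero ((CK V' P).homology (p + 1)) :=
    (HomologicalComplex.isZero_single_obj_homology (ComplexShape.up ℕ) 0 _ (p + 1)
      (Nat.succ_ne_zero p)).of_iso (h.toHomologyIso (p + 1)).symm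
  have := AddCommGrpCat.subsingleton_of_isZero hz
  have : Subsingleton ((CK V P).homology (p + 1)) := e.toEquiv.subsingleton
  exact AddCommGrpCat.isZero_of_subsingleton _

end Refine

section Zero

variable {X : TopCat.{u}} (P : (Opens X)ᵒᵖ ⥤ AddCommGrpCat.{u}) {ι : Type u} (V : ι → Opens X)

/-- if the presheaf vanishes on all finite intersections, so does Čech cohomology -/
theorem isZero_homology_of_subsingleton
    (h : ∀ (n : ℕ) (σ : Fin (n + 1) → ι), Subsingleton (P.obj (op (Ux V σ)))) (p : ℕ) :
    IsZero ((CK V P).homology p) := by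
  have hs : Subsingleton ((CK V P).X p) := by
    refine ⟨fun c c' => ?_⟩
    apply elt_ext
    intro σ
    have := h p σ
    exact Subsingleton.elim _ _
  have hz : IsZero ((CK V P).X p) := AddCommGrpCat.isZero_of_subsingleton _
  exact ShortComplex.isZero_homology_of_isZero_X₂ _ hz

end Zero

end Groth.Agent.Lib.T2H4.CechIso
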