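import Mathlib

/-!
# Abstract dimension shifting for cohomological functors on modules killed by localisations (helper4)

Two systems of additive functors `H^n : ModuleCat A ⥤ Ab` with long exact sequences, which both vanish
(in all degrees) on modules on which some `f ∈ fs` acts bijectively, vanish in positive degrees on
modules that are `f`-power torsion for all `f ∈ fs`, and which agree in degree `0`, agree in all degrees.
-/

set_option autoImplicit false

namespace Groth.Agent.Lib.T2H4.DimShift

universe u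
open CategoryTheory

variable (A : Type u) [CommRing A]

/-- a cohomological system on `A`-modules: additive functors with connecting maps and the three
exactness properties (elementwise) -/
structure Sys where
  H : ℕ → ModuleCat.{u} A ⥤ AddCommGrpCat.{u}
  add : ∀ n, (H n).Additive
  δ : ∀ (S : ShortComplex (ModuleCat.{u} A)), S.ShortExact → ∀ n : ℕ,
    (H n).obj S.X₃ ⟶ (H (n + 1)).obj S.X₁
  ex1 : ∀ (S : ShortComplex (ModuleCat.{u} A)) (hS : S.ShortExact) (n : ℕ)
    (x : (H (n + 1)).obj S.X₁), (H (n + 1)).map S.f x = 0 → ∃ y, δ S hS n y = x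
  ex2 : ∀ (S : ShortComplex (ModuleCat.{u} A)) (_ : S.ShortExact) (n : ℕ)
    (x : (H n).obj S.X₂), (H n).map S.g x = 0 → ∃ y, (H n).map S.f y = x
  ex3 : ∀ (S : ShortComplex (ModuleCat.{u} A)) (hS : S.ShortExact) (n : ℕ)
    (x : (H n).obj S.X₃), δ S hS n x = 0 → ∃ y, (H n).map S.g y = x

variable {A}

section Pi

variable {ι : Type} [Fintype ι] [DecidableEq ι] (N : ι → Type u) [∀ i, AddCommGroup (N i)]
  [∀ i, Module A (N i)]

lemma ab_sum_apply {α : Type*} {M N : AddCommGrpCat.{u}} (s : Finset α) (f : α → (M ⟶ N)) (x : M) :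
    (∑ i ∈ s, f i) x = ∑ i ∈ s, f i x := by
  classical
  induction s using Finset.induction_on with
  | empty => rfl
  | insert a s ha ih =>
    rw [Finset.sum_insert ha, Finset.sum_insert ha, ← ih]
    rfl

lemma sum_proj_single :
    ∑ i : ι, (ModuleCat.ofHom (LinearMap.proj (R := A) (φ := N) i) ≫
      ModuleCat.ofHom (LinearMap.single A N i)) = 𝟙 (ModuleCat.of A (∀ i, N i)) := by
  apply ModuleCat.hom_ext
  rw [ModuleCat.hom_sum]
  apply LinearMap.ext
  intro x
  rw [LinearMap.sum_apply]
  simp only [ModuleCat.hom_comp, ModuleCat.hom_ofHom, ModuleCat.hom_id, LinearMap.id_coe, id_eq,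
    LinearMap.coe_comp, Function.comp_apply, LinearMap.coe_proj, Function.eval,
    LinearMap.coe_single]
  exact Finset.univ_sum_single x

lemma subsingleton_pi (G : ModuleCat.{u} A ⥤ AddCommGrpCat.{u}) [G.Additive]
    (h : ∀ i, Subsingleton (G.obj (ModuleCat.of A (N i)))) :
    Subsingleton (G.obj (ModuleCat.of A (∀ i, N i))) := by
  have hz : ∀ x : G.obj (ModuleCat.of A (∀ i, N i)), x = 0 := by
    intro x
    have h1 : G.map (𝟙 (ModuleCat.of A (∀ i, N i))) x = x := by
      rw [G.map_id]; rfl
    rw [← sum_proj_single N, G.map_sum] at h1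
    rw [← h1, ab_sum_apply]
    refine Finset.sum_eq_zero fun i _ => ?_
    rw [G.map_comp]
    change (G.map (ModuleCat.ofHom (LinearMap.single A N i)))
      ((G.map (ModuleCat.ofHom (LinearMap.proj (R := A) (φ := N) i))) x) = 0
    have := h i
    rw [Subsingleton.elim ((G.map (ModuleCat.ofHom (LinearMap.proj (R := A) (φ := N) i))) x) 0,
      map_zero]
  exact ⟨fun x y => (hz x).trans (hz y).symm⟩

end Pi

section Main

variable (fs : List A) (M : Type u) [AddCommGroup M] [Module A M]

/-- the product of the localisations of `M` at the elements of the list -/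
abbrev PP : Type u := ∀ i : Fin fs.length, LocalizedModule (Submonoid.powers (fs.get i)) M

/-- the diagonal localisation map -/
noncomputable def gg : M →ₗ[A] PP fs M :=
  LinearMap.pi fun i => LocalizedModule.mkLinearMap (Submonoid.powers (fs.get i)) M

/-- `ker → M → range` -/
noncomputable def S1 : ShortComplex (ModuleCat.{u} A) :=
  ShortComplex.mk (ModuleCat.ofHom (LinearMap.ker (gg fs M)).subtype)
    (ModuleCat.ofHom (gg fs M).rangeRestrict) (by
      apply ModuleCat.hom_ext
      apply LinearMap.ext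
      intro x
      apply Subtype.ext
      exact x.2)

lemma S1_shortExact : (S1 fs M).ShortExact where
  exact := by
    rw [ShortComplex.moduleCat_exact_iff]
    intro x hx
    have hx' : (gg fs M) x = 0 := congrArg Subtype.val hx
    exact ⟨⟨x, hx'⟩, rfl⟩
  mono_f := by
    rw [ModuleCat.mono_iff_injective]
    exact Subtype.val_injective
  epi_g := by
    rw [ModuleCat.epi_iff_surjective]
    exact (gg fs M).surjective_rangeRestrict

/-- `range → P → P / range` -/
noncomputable def S2 : ShortComplex (ModuleCat.{u} A) :=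
  ShortComplex.mk (ModuleCat.ofHom (LinearMap.range (gg fs M)).subtype)
    (ModuleCat.ofHom (LinearMap.range (gg fs M)).mkQ) (by
      apply ModuleCat.hom_ext
      apply LinearMap.ext
      intro x
      exact (Submodule.Quotient.mk_eq_zero _).2 x.2)

lemma S2_shortExact : (S2 fs M).ShortExact where
  exact := by
    rw [ShortComplex.moduleCat_exact_iff]
    intro x hx
    have hx' : x ∈ LinearMap.range (gg fs M) := (Submodule.Quotient.mk_eq_zero _).1 hx
    exact ⟨⟨x, hx'⟩, rfl⟩
  mono_f := by
    rw [ModuleCat.mono_iff_injective]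
    exact Subtype.val_injective
  epi_g := by
    rw [ModuleCat.epi_iff_surjective]
    exact Submodule.mkQ_surjective _

lemma ker_torsion (f : A) (hf : f ∈ fs) (x : LinearMap.ker (gg fs M)) : ∃ k : ℕ, f ^ k • x = 0 := by
  obtain ⟨i, rfl⟩ := List.mem_iff_get.1 hf
  have h1 : LocalizedModule.mkLinearMap (Submonoid.powers (fs.get i)) M x.1 = 0 :=
    congrFun x.2 i
  obtain ⟨⟨s, ⟨k, rfl⟩⟩, hs⟩ := (IsLocalizedModule.eq_zero_iff (Submonoid.powers (fs.get i))
    (LocalizedModule.mkLinearMap (Submonoid.powers (fs.get i)) M)).1 h1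
  exact ⟨k, Subtype.ext hs⟩

lemma loc_bijective (i : Fin fs.length) :
    Function.Bijective
      (fun x : LocalizedModule (Submonoid.powers (fs.get i)) M => fs.get i • x) := by
  have h := IsLocalizedModule.map_units (S := Submonoid.powers (fs.get i))
    (LocalizedModule.mkLinearMap (Submonoid.powers (fs.get i)) M)
    ⟨fs.get i, Submonoid.mem_powers _⟩
  exact (Module.End.isUnit_iff _).1 h

variable (E : Sys A)

lemma subsingleton_PP
    (hloc : ∀ (N : Type u) [AddCommGroup N] [Module A N] (f : A), f ∈ fs →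
      Function.Bijective (fun x : N => f • x) → ∀ n, Subsingleton ((E.H n).obj (ModuleCat.of A N)))
    (n : ℕ) : Subsingleton ((E.H n).obj (ModuleCat.of A (PP fs M))) := by
  have := E.add n
  classical
  exact subsingleton_pi (fun i : Fin fs.length => LocalizedModule (Submonoid.powers (fs.get i)) M)
    (E.H n) (fun i => hloc _ (fs.get i) (List.get_mem fs i) (loc_bijective fs M i) n)

/-- dimension shifting: `H^{n+1}(M) ≃ H^n(P / range)` -/
theorem nonempty_shift
    (hloc : ∀ (N : Type u) [AddCommGroup N] [Module A N] (f : A), f ∈ fs →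
      Function.Bijective (fun x : N => f • x) → ∀ n, Subsingleton ((E.H n).obj (ModuleCat.of A N)))
    (htor : ∀ (T : Type u) [AddCommGroup T] [Module A T], (∀ f ∈ fs, ∀ x : T, ∃ k : ℕ, f ^ k • x = 0) →
      ∀ n, Subsingleton ((E.H (n + 1)).obj (ModuleCat.of A T)))
    (n : ℕ) :
    Nonempty ((E.H (n + 1)).obj (ModuleCat.of A M) ≃+
      (E.H n).obj (ModuleCat.of A (PP fs M ⧸ LinearMap.range (gg fs M)))) := by
  have hT : ∀ k, Subsingleton ((E.H (k + 1)).obj (S1 fs M).X₁) :=
    fun k => htor (LinearMap.ker (gg fs M)) (fun f hf x => ker_torsion fs M f hf x) k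
  have hP : ∀ k, Subsingleton ((E.H k).obj (S2 fs M).X₂) := fun k => subsingleton_PP fs M E hloc k
  -- step (a)
  have ha : Function.Bijective ((E.H (n + 1)).map (S1 fs M).g) := by
    constructor
    · rw [injective_iff_map_eq_zero]
      intro x hx
      obtain ⟨y, rfl⟩ := E.ex2 (S1 fs M) (S1_shortExact fs M) (n + 1) x hx
      have := hT n
      rw [Subsingleton.elim y 0, map_zero]
    · intro z
      have := hT (n + 1)
      exact E.ex3 (S1 fs M) (S1_shortExact fs M) (n + 1) z (Subsingleton.elim _ _)
  -- step (b)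
  have hb : Function.Bijective (E.δ (S2 fs M) (S2_shortExact fs M) n) := by
    constructor
    · rw [injective_iff_map_eq_zero]
      intro y hy
      obtain ⟨p, rfl⟩ := E.ex3 (S2 fs M) (S2_shortExact fs M) n y hy
      have := hP n
      rw [Subsingleton.elim p 0, map_zero]
    · intro z
      have := hP (n + 1)
      exact E.ex1 (S2 fs M) (S2_shortExact fs M) n z (Subsingleton.elim _ _)
  let ea : (E.H (n + 1)).obj (ModuleCat.of A M) ≃+ (E.H (n + 1)).obj (S1 fs M).X₃ :=
    AddEquiv.ofBijective ((E.H (n + 1)).map (S1 fs M).g).hom ha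
  let eb : (E.H n).obj (S2 fs M).X₃ ≃+ (E.H (n + 1)).obj (S2 fs M).X₁ :=
    AddEquiv.ofBijective (E.δ (S2 fs M) (S2_shortExact fs M) n).hom hb
  exact ⟨ea.trans eb.symm⟩

end Main

/-- **Dimension shifting comparison**. -/
theorem nonempty_equiv (E Y : Sys A) (fs : List A)
    (hlocE : ∀ (N : Type u) [AddCommGroup N] [Module A N] (f : A), f ∈ fs →
      Function.Bijective (fun x : N => f • x) → ∀ n, Subsingleton ((E.H n).obj (ModuleCat.of A N)))
    (hlocY : ∀ (N : Type u) [AddCommGroup N] [Module A N] (f : A), f ∈ fs →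
      Function.Bijective (fun x : N => f • x) → ∀ n, Subsingleton ((Y.H n).obj (ModuleCat.of A N)))
    (htorE : ∀ (T : Type u) [AddCommGroup T] [Module A T], (∀ f ∈ fs, ∀ x : T, ∃ k : ℕ, f ^ k • x = 0) →
      ∀ n, Subsingleton ((E.H (n + 1)).obj (ModuleCat.of A T)))
    (htorY : ∀ (T : Type u) [AddCommGroup T] [Module A T], (∀ f ∈ fs, ∀ x : T, ∃ k : ℕ, f ^ k • x = 0) →
      ∀ n, Subsingleton ((Y.H (n + 1)).obj (ModuleCat.of A T)))
    (h0 : ∀ (M : Type u) [AddCommGroup M] [Module A M],
      Nonempty ((E.H 0).obj (ModuleCat.of A M) ≃+ (Y.H 0).obj (ModuleCat.of A M))) :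
    ∀ (n : ℕ) (M : Type u) [AddCommGroup M] [Module A M],
      Nonempty ((E.H n).obj (ModuleCat.of A M) ≃+ (Y.H n).obj (ModuleCat.of A M)) := by
  intro n
  induction n with
  | zero => exact h0
  | succ n ih =>
    intro M _ _
    obtain ⟨e1⟩ := nonempty_shift fs M E hlocE htorE n
    obtain ⟨e2⟩ := nonempty_shift fs M Y hlocY htorY n
    obtain ⟨e3⟩ := ih (PP fs M ⧸ LinearMap.range (gg fs M))
    exact ⟨e1.trans (e3.trans e2.symm)⟩

end Groth.Agent.Lib.T2H4.DimShift
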