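import Mathlib
import Groth.Prelude.Def_DerCA
import Groth.Agent.Lib.Helper1ExtCech4
import Groth.Agent.Lib.T2H4DimShift

/-!
# The extended Čech complex as a cohomological system (helper4)

`ESys fs : Sys A` with `H^n(M) = H^n(extCech M fs)`, its vanishing on modules on which some `f ∈ fs`
acts bijectively and (in positive degrees) on modules that are `f`-power torsion for all `f ∈ fs`.
-/

set_option autoImplicit false

namespace Groth.Agent.Lib.T2H4.EcSys

universe u
open CategoryTheory CategoryTheory.Limits DerCA CochainComplex HomologicalComplex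
open Groth.Agent.Lib.Helper1.ExtCech Groth.Agent.Lib.Helper1.ExtCech4
open Groth.Agent.Lib.T2H4.DimShift

variable {A : Type u} [CommRing A]

/-- the cohomology functors, with values in abelian groups -/
noncomputable def HE (fs : List A) (n : ℕ) : ModuleCat.{u} A ⥤ AddCommGrpCat.{u} :=
  EC fs ⋙ HomologicalComplex.homologyFunctor (ModuleCat.{u} A) (ComplexShape.up ℤ) (n : ℤ) ⋙
    forget₂ (ModuleCat.{u} A) AddCommGrpCat.{u}

instance (fs : List A) (n : ℕ) : (HE fs n).Additive := by
  unfold HE
  infer_instance

/-- the system -/
noncomputable def ESys (fs : List A) : Sys A where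
  H := HE fs
  add n := inferInstance
  δ S hS n := (forget₂ (ModuleCat.{u} A) AddCommGrpCat.{u}).map
    ((ec_shortExact S hS fs).δ (n : ℤ) ((n + 1 : ℕ) : ℤ) (rel_succ n))
  ex1 S hS n x hx := by
    have h := (ec_shortExact S hS fs).homology_exact₁ (n : ℤ) ((n + 1 : ℕ) : ℤ) (rel_succ n)
    rw [ShortComplex.moduleCat_exact_iff] at h
    exact h x hx
  ex2 S hS n x hx := by
    have h := (ec_shortExact S hS fs).homology_exact₂ (n : ℤ)
    rw [ShortComplex.moduleCat_exact_iff] at h
    exact h x hx
  ex3 S hS n x hx := by
    have h := (ec_shortExact S hS fs).homology_exact₃ (n : ℤ) ((n + 1 : ℕ) : ℤ) (rel_succ n)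
    rw [ShortComplex.moduleCat_exact_iff] at h
    exact h x hx

/-- vanishing when some element of the list acts bijectively -/
theorem subsingleton_of_bij (fs : List A) (N : Type u) [AddCommGroup N] [Module A N] (f : A)
    (hf : f ∈ fs) (hb : Function.Bijective (fun x : N => f • x)) (n : ℕ) :
    Subsingleton (((ESys fs).H n).obj (ModuleCat.of A N)) := by
  have h := isZero_extCechH_of_bij fs (ModuleCat.of A N) f (Ideal.subset_span hf) hb (n : ℤ)
  exact ModuleCat.subsingleton_of_isZero h

/-- a localisation at the powers of `g` of a `g`-power torsion module is zero -/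
lemma subsingleton_of_pt (g : A) {N N' : Type*} [AddCommGroup N] [AddCommGroup N'] [Module A N]
    [Module A N'] (l : N →ₗ[A] N') [IsLocalizedModule (Submonoid.powers g) l] (h : PT g N) :
    Subsingleton N' := by
  have hz : ∀ w : N', w = 0 := by
    intro w
    obtain ⟨⟨m, s⟩, hs⟩ := IsLocalizedModule.surj (Submonoid.powers g) l w
    obtain ⟨k, hk⟩ := h m
    have h1 : l m = 0 := by
      apply IsLocalizedModule.smul_injective l (⟨g ^ k, ⟨k, rfl⟩⟩ : Submonoid.powers g)
      change g ^ k • l m = g ^ k • 0
      rw [← map_smul, hk, map_zero, smul_zero]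
    apply IsLocalizedModule.smul_injective l s
    change s • w = s • 0
    rw [smul_zero]
    exact hs.trans h1
  exact ⟨fun x y => (hz x).trans (hz y).symm⟩

/-- `g`-power torsion passes to the cohomology of the extended Čech complex -/
theorem pt_of_pt (fs : List A) (M : ModuleCat.{u} A) (g : A) (hg : PT g M) (q : ℤ) :
    PT g (extCechH fs M q) := by
  induction fs generalizing q with
  | nil =>
    by_cases hq : q = 0
    · subst hq
      intro x
      let e := (HomologicalComplex.singleObjHomologySelfIso (ComplexShape.up ℤ) 0 M).toLinearEquiv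
      obtain ⟨k, hk⟩ := hg (e x)
      refine ⟨k, e.injective ?_⟩
      exact (e.map_smul (g ^ k) x).trans (hk.trans (map_zero e).symm)
    · have hz : IsZero (extCechH [] M q) := isZero_extCechH [] M q (by
        simp only [List.length_nil, Nat.cast_zero]
        omega)
      have := ModuleCat.subsingleton_of_isZero hz
      intro x
      exact ⟨0, Subsingleton.elim _ _⟩
  | cons f fs ih =>
    set K := extCech M fs with hK
    set φ := locCxUnit (Submonoid.powers f) K with hφ
    have hloc := fun n : ℤ => isLocalizedModule_homologyMap (Submonoid.powers f) K n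
    suffices key : ∀ x : ↑((mappingCocone φ).homology q), ∃ n : ℕ, g ^ n • x = 0 from key
    intro x
    obtain ⟨n, hn⟩ := ih q (ha φ q x)
    have h1 : ha φ q (g ^ n • x) = 0 := by rw [map_smul, hn]
    obtain ⟨z, hz⟩ := exists_hδ φ (q - 1) q (by omega) _ h1
    have := hloc (q - 1)
    have hpt : PT g (((locCx (Submonoid.powers f)).obj K).homology (q - 1)) :=
      PT.of_isLocalizedModule (Submonoid.powers f)
        (HomologicalComplex.homologyMap φ (q - 1)).hom g (ih (q - 1))
    obtain ⟨m, hm⟩ := hpt z
    refine ⟨m + n, ?_⟩
    rw [pow_add, mul_smul, ← hz, ← map_smul, hm, map_zero]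

/-- vanishing in nonzero degrees on modules that are power torsion for every element of the list -/
theorem isZero_of_pt (fs : List A) (M : ModuleCat.{u} A) (h : ∀ f ∈ fs, PT f M) (q : ℤ)
    (hq : q ≠ 0) : IsZero (extCechH fs M q) := by
  induction fs generalizing q with
  | nil =>
    exact isZero_extCechH [] M q (by
      simp only [List.length_nil, Nat.cast_zero]
      omega)
  | cons f fs ih =>
    set K := extCech M fs with hK
    set φ := locCxUnit (Submonoid.powers f) K with hφ
    have hloc := fun n : ℤ => isLocalizedModule_homologyMap (Submonoid.powers f) K n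
    rw [ModuleCat.isZero_iff_subsingleton]
    have h' : ∀ g ∈ fs, PT g M := fun g hg => h g (List.mem_cons_of_mem _ hg)
    have hz : ∀ x : ↑((mappingCocone φ).homology q), x = 0 := by
      intro x
      have h0 := ModuleCat.subsingleton_of_isZero (ih h' q hq)
      obtain ⟨z, rfl⟩ := exists_hδ φ (q - 1) q (by omega) x (Subsingleton.elim _ _)
      have := hloc (q - 1)
      have hpt : PT f (K.homology (q - 1)) := pt_of_pt fs M f (h f List.mem_cons_self) (q - 1)
      have hs : Subsingleton (((locCx (Submonoid.powers f)).obj K).homology (q - 1)) :=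
        subsingleton_of_pt f (HomologicalComplex.homologyMap φ (q - 1)).hom hpt
      rw [Subsingleton.elim z 0, map_zero]
    exact ⟨fun x y => (hz x).trans (hz y).symm⟩

theorem subsingleton_of_torsion (fs : List A) (T : Type u) [AddCommGroup T] [Module A T]
    (h : ∀ f ∈ fs, ∀ x : T, ∃ k : ℕ, f ^ k • x = 0) (n : ℕ) :
    Subsingleton (((ESys fs).H (n + 1)).obj (ModuleCat.of A T)) := by
  have h1 := isZero_of_pt fs (ModuleCat.of A T) h ((n + 1 : ℕ) : ℤ) (by push_cast; omega)
  exact ModuleCat.subsingleton_of_isZero h1

end Groth.Agent.Lib.T2H4.EcSys
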