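import Mathlib
import Groth.Agent.Lib.T2H2LowCechC
import Groth.Agent.Lib.Helper16CechH1
import Groth.Agent.Lib.Helper1ExtCech
import Groth.Agent.S0493
import Groth.Agent.Lib.T2H4CechIso
import Groth.Agent.Lib.T2H4EcSys

/-!
# Sections over finite intersections of basic opens as localisations; Čech vanishing (helper4)
-/

set_option autoImplicit false

namespace Groth.Agent.Lib.T2H4.SecLoc

universe u
open CategoryTheory CategoryTheory.Limits AlgebraicGeometry TopologicalSpace Opposite
open Groth.Agent.Lib.Helper6 Groth.Agent.Lib.T2H2.LowCechR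
open Groth.Agent.Lib.Helper16.CechLow Groth.Agent.Lib.Helper16.CechH1
open Groth.Agent.Lib.Helper1.ExtCech

lemma iInf_fin_succ {α : Type*} [CompleteLattice α] {m : ℕ} (f : Fin (m + 1) → α) :
    ⨅ k, f k = f 0 ⊓ ⨅ k : Fin m, f k.succ := by
  apply le_antisymm
  · exact le_inf (iInf_le _ 0) (le_iInf fun k => iInf_le _ k.succ)
  · exact le_iInf fun k => Fin.cases inf_le_left (fun j => inf_le_right.trans (iInf_le _ j)) k

section Alg

variable {R : Type*} [CommRing R]

lemma bij_pow {N : Type*} [AddCommGroup N] [Module R N] (h : R) (hb : Bij h N) (j : ℕ) :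
    Bij (h ^ j) N := by
  induction j with
  | zero =>
    simp only [pow_zero, Bij, one_smul]
    exact Function.bijective_id
  | succ j ih =>
    have : (fun x : N => h ^ (j + 1) • x) = (fun x : N => h ^ j • x) ∘ (fun x : N => h • x) := by
      funext x
      simp only [Function.comp_apply, pow_succ, mul_smul]
    unfold Bij
    rw [this]
    exact ih.comp hb

/-- a map between localisations at `g` and at `g * h` of a module on which `h` acts bijectively is
bijective -/
lemma alg_bij {N L₁ L₂ : Type*} [AddCommGroup N] [AddCommGroup L₁] [AddCommGroup L₂] [Module R N]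
    [Module R L₁] [Module R L₂] (g h : R) (l₁ : N →ₗ[R] L₁) (l₂ : N →ₗ[R] L₂)
    [IsLocalizedModule (Submonoid.powers g) l₁] [IsLocalizedModule (Submonoid.powers (g * h)) l₂]
    (ρ : L₁ →ₗ[R] L₂) (hρ : ∀ m, ρ (l₁ m) = l₂ m) (hb : Bij h N) : Function.Bijective ρ := by
  constructor
  · rw [injective_iff_map_eq_zero]
    intro y hy
    obtain ⟨⟨m, ⟨_, k, rfl⟩⟩, hs⟩ := IsLocalizedModule.surj (Submonoid.powers g) l₁ y
    have hs' : g ^ k • y = l₁ m := hs
    have h1 : l₂ m = 0 := by rw [← hρ, ← hs', map_smul, hy, smul_zero]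
    obtain ⟨⟨_, j, rfl⟩, hj⟩ := (IsLocalizedModule.eq_zero_iff (Submonoid.powers (g * h)) l₂).1 h1
    have hj' : h ^ j • (g ^ j • m) = 0 := by
      rw [← mul_smul, mul_comm, ← mul_pow]
      exact hj
    have h2 : g ^ j • m = 0 := (bij_pow h hb j).1 (hj'.trans (smul_zero _).symm)
    have h3 : l₁ m = 0 := by
      apply IsLocalizedModule.smul_injective l₁ (⟨g ^ j, ⟨j, rfl⟩⟩ : Submonoid.powers g)
      change g ^ j • l₁ m = g ^ j • 0
      rw [← map_smul, h2, map_zero, smul_zero]
    apply IsLocalizedModule.smul_injective l₁ (⟨g ^ k, ⟨k, rfl⟩⟩ : Submonoid.powers g)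
    change g ^ k • y = g ^ k • 0
    rw [hs', h3, smul_zero]
  · intro z
    obtain ⟨⟨m, ⟨_, k, rfl⟩⟩, hs⟩ := IsLocalizedModule.surj (Submonoid.powers (g * h)) l₂ z
    have hs' : (g * h) ^ k • z = l₂ m := hs
    obtain ⟨m', hm'⟩ := (bij_pow h hb k).2 m
    have hm'' : h ^ k • m' = m := hm'
    have hu := IsLocalizedModule.map_units (S := Submonoid.powers g) l₁ ⟨g ^ k, ⟨k, rfl⟩⟩
    obtain ⟨y, hy⟩ := ((Module.End.isUnit_iff _).1 hu).2 (l₁ m')
    have hy' : g ^ k • y = l₁ m' := hy
    refine ⟨y, ?_⟩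
    apply IsLocalizedModule.smul_injective l₂ (⟨(g * h) ^ k, ⟨k, rfl⟩⟩ : Submonoid.powers (g * h))
    change (g * h) ^ k • ρ y = (g * h) ^ k • z
    rw [hs', ← hm'', map_smul, ← hρ, ← hy', map_smul, ← mul_smul, mul_pow, mul_comm]

lemma pt_mul {N : Type*} [AddCommGroup N] [Module R N] (g h : R) (hg : PT g N) : PT (g * h) N := by
  intro x
  obtain ⟨k, hk⟩ := hg x
  exact ⟨k, by rw [mul_pow, mul_comm, mul_smul, hk, smul_zero]⟩

end Alg

variable {X : Scheme.{u}}

lemma basicOpen_prod {m : ℕ} (s : Fin m → Γ(X, ⊤)) :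
    X.basicOpen (∏ k, s k) = ⨅ k, X.basicOpen (s k) := by
  induction m with
  | zero =>
    rw [Finset.univ_eq_empty, Finset.prod_empty, Scheme.basicOpen_one, iInf_of_empty]
  | succ m ih =>
    rw [Fin.prod_univ_succ, Scheme.basicOpen_mul, ih, iInf_fin_succ]

variable (F : X.Modules) {R : Type u} [CommRing R] (φ : R →+* Γ(X, ⊤)) {ι : Type u} (a : ι → R)

/-- the family of basic opens -/
def fam (i : ι) : X.Opens := X.basicOpen (φ (a i))

/-- the product of the functions of a tuple -/
def gprod {n : ℕ} (σ : Fin (n + 1) → ι) : R := ∏ k, a (σ k)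

lemma iInf_fam {n : ℕ} (σ : Fin (n + 1) → ι) :
    (iInf fun k => fam φ a (σ k)) = X.basicOpen (φ (gprod a σ)) := by
  rw [gprod, map_prod, basicOpen_prod]
  rfl

lemma Ux_fam {n : ℕ} (σ : Fin (n + 1) → ι) :
    Ux (fam φ a) σ = X.basicOpen (φ (gprod a σ)) :=
  (Groth.Agent.S0493.prod_eq_iInf (fam φ a) σ).trans (iInf_fam φ a σ)

section Loc

variable [F.IsQuasicoherent] [CompactSpace X] [QuasiSeparatedSpace X]

lemma isLocalizedModule_resR_Ux {n : ℕ} (σ : Fin (n + 1) → ι) :
    IsLocalizedModule (Submonoid.powers (gprod a σ))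
      (resR F φ (le_top : Ux (fam φ a) σ ≤ ⊤)) :=
  isLocalizedModule_resR F φ CompactSpace.isCompact_univ isQuasiSeparated_univ (gprod a σ)
    (by rw [Groth.Agent.Lib.T2H2.LowCechGeo.resf_top_self]; exact Ux_fam φ a σ) le_top

end Loc

section Cech

open Groth.Agent.Lib.T2H4.CechIso

variable [F.IsQuasicoherent] [CompactSpace X] [QuasiSeparatedSpace X]

omit [F.IsQuasicoherent] [CompactSpace X] [QuasiSeparatedSpace X] in
lemma gprod_mul (f : R) {n : ℕ} (σ : Fin (n + 1) → ι) :
    gprod (fun i => a i * f) σ = gprod a σ * f ^ (n + 1) := by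
  simp [gprod, Finset.prod_mul_distrib]

omit [F.IsQuasicoherent] [CompactSpace X] [QuasiSeparatedSpace X] in
lemma fam_mul_le (f : R) (i : ι) : fam φ (fun i => a i * f) i ≤ fam φ a i := by
  change X.basicOpen (φ (a i * f)) ≤ X.basicOpen (φ (a i))
  rw [map_mul, Scheme.basicOpen_mul]
  exact inf_le_left

/-- Čech cohomology in positive degrees vanishes when a member of the family acts bijectively on
global sections -/
theorem isZero_cech_of_bij (f : R) (i₀ : ι) (hi₀ : a i₀ = f) (hb : Bij f (SecR F φ ⊤)) (p : ℕ) :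
    IsZero ((CK (fam φ a) F.presheaf).homology (p + 1)) := by
  refine isZero_homology_of_refine F.presheaf (fam φ a) (fam φ (fun i => a i * f))
    (fam_mul_le φ a f) ?_ i₀ ?_ p
  · intro n σ
    have h1 := isLocalizedModule_resR_Ux F φ a σ
    have h2 := isLocalizedModule_resR_Ux F φ (fun i => a i * f) σ
    rw [gprod_mul] at h2
    exact alg_bij (gprod a σ) (f ^ (n + 1)) (resR F φ le_top) (resR F φ le_top)
      (resR F φ (Ux_mono (fam φ a) (fam φ (fun i => a i * f)) (fam_mul_le φ a f) σ))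
      (fun m => resR_resR F φ _ _ m) (bij_pow f hb (n + 1))
  · apply le_antisymm
    · exact le_iSup (fam φ (fun i => a i * f)) i₀
    · refine iSup_le fun i => ?_
      change X.basicOpen (φ (a i * f)) ≤ X.basicOpen (φ (a i₀ * f))
      rw [hi₀, map_mul, map_mul, Scheme.basicOpen_mul, Scheme.basicOpen_mul, inf_idem]
      exact inf_le_right

/-- Čech cohomology vanishes when the global sections are power torsion for all members of the family -/
theorem isZero_cech_of_pt (h : ∀ i, PT (a i) (SecR F φ ⊤)) (p : ℕ) :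
    IsZero ((CK (fam φ a) F.presheaf).homology p) := by
  refine isZero_homology_of_subsingleton F.presheaf (fam φ a) (fun n σ => ?_) p
  have h1 := isLocalizedModule_resR_Ux F φ a σ
  have hpt : PT (gprod a σ) (SecR F φ ⊤) := by
    have : gprod a σ = a (σ 0) * ∏ k : Fin n, a (σ k.succ) := Fin.prod_univ_succ _
    rw [this]
    exact pt_mul _ _ (h (σ 0))
  change Subsingleton (SecR F φ (Ux (fam φ a) σ))
  exact Groth.Agent.Lib.T2H4.EcSys.subsingleton_of_pt (gprod a σ)
    (resR F φ (le_top : Ux (fam φ a) σ ≤ ⊤)) hpt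

end Cech

end Groth.Agent.Lib.T2H4.SecLoc
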