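import Mathlib
import Groth.Agent.Lib.T2H4SecLoc

/-!
# Čech complexes of quasi-coherent modules for basic opens only depend on the global sections (helper4)

For two qcqs schemes `X`, `Y`, quasi-coherent modules `F`, `G` with `Γ(X, F) ≃ M₀ ≃ Γ(Y, G)` over a ring `R`
mapping to the global functions of both, and functions `a i : R`, the Čech complexes of `F` for `(X_{a i})` and
of `G` for `(Y_{a i})` are isomorphic.
-/

set_option autoImplicit false

namespace Groth.Agent.Lib.T2H4.CechX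

universe u
open CategoryTheory CategoryTheory.Limits AlgebraicGeometry TopologicalSpace Opposite
open Groth.Agent.Lib.Helper6 Groth.Agent.Lib.T2H2.LowCechR
open Groth.Agent.Lib.Helper16.CechLow Groth.Agent.Lib.Helper16.CechH1
open Groth.Agent.Lib.T2H4.SecLoc Groth.Agent.Lib.T2H4.CechIso

variable {X Y : Scheme.{u}} (F : X.Modules) (G : Y.Modules) {R : Type u} [CommRing R]
  (φ : R →+* Γ(X, ⊤)) (ψ : R →+* Γ(Y, ⊤)) (M₀ : ModuleCat.{u} R)
  (eX : M₀ ≃ₗ[R] SecR F φ ⊤) (eY : M₀ ≃ₗ[R] SecR G ψ ⊤) {ι : Type u} (a : ι → R)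
  [F.IsQuasicoherent] [CompactSpace X] [QuasiSeparatedSpace X]
  [G.IsQuasicoherent] [CompactSpace Y] [QuasiSeparatedSpace Y]

/-- the localisation map to the sections over `U_σ` -/
noncomputable def lX {n : ℕ} (σ : Fin (n + 1) → ι) : M₀ →ₗ[R] SecR F φ (Ux (fam φ a) σ) :=
  resR F φ (le_top : Ux (fam φ a) σ ≤ ⊤) ∘ₗ eX.toLinearMap

instance {n : ℕ} (σ : Fin (n + 1) → ι) :
    IsLocalizedModule (Submonoid.powers (gprod a σ)) (lX F φ M₀ eX a σ) := by
  have := isLocalizedModule_resR_Ux F φ a σ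
  exact IsLocalizedModule.of_linearEquiv_right (Submonoid.powers (gprod a σ))
    (resR F φ (le_top : Ux (fam φ a) σ ≤ ⊤)) eX

omit [F.IsQuasicoherent] [CompactSpace X] [QuasiSeparatedSpace X] in
lemma resR_lX {n : ℕ} (σ : Fin (n + 2) → ι) (i : Fin (n + 2))
    (h : Ux (fam φ a) σ ≤ Ux (fam φ a) (σ ∘ Fin.succAbove i)) (m : M₀) :
    resR F φ h (lX F φ M₀ eX a (σ ∘ Fin.succAbove i) m) = lX F φ M₀ eX a σ m :=
  resR_resR F φ le_top h (eX m)

/-- the comparison of sections -/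
noncomputable def eσ {n : ℕ} (σ : Fin (n + 1) → ι) :
    SecR F φ (Ux (fam φ a) σ) ≃ₗ[R] SecR G ψ (Ux (fam ψ a) σ) :=
  IsLocalizedModule.linearEquiv (Submonoid.powers (gprod a σ)) (lX F φ M₀ eX a σ)
    (lX G ψ M₀ eY a σ)

lemma eσ_lX {n : ℕ} (σ : Fin (n + 1) → ι) (m : M₀) :
    eσ F G φ ψ M₀ eX eY a σ (lX F φ M₀ eX a σ m) = lX G ψ M₀ eY a σ m :=
  IsLocalizedModule.linearEquiv_apply _ _ _ m

omit [F.IsQuasicoherent] [CompactSpace X] [QuasiSeparatedSpace X]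
  [G.IsQuasicoherent] [CompactSpace Y] [QuasiSeparatedSpace Y] in
lemma gprod_succAbove {n : ℕ} (σ : Fin (n + 2) → ι) (i : Fin (n + 2)) :
    gprod a σ = a (σ i) * gprod a (σ ∘ Fin.succAbove i) :=
  Fin.prod_univ_succAbove (fun k => a (σ k)) i

lemma eσ_res {n : ℕ} (σ : Fin (n + 2) → ι) (i : Fin (n + 2))
    (h : Ux (fam φ a) σ ≤ Ux (fam φ a) (σ ∘ Fin.succAbove i))
    (h' : Ux (fam ψ a) σ ≤ Ux (fam ψ a) (σ ∘ Fin.succAbove i))
    (y : SecR F φ (Ux (fam φ a) (σ ∘ Fin.succAbove i))) :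
    eσ F G φ ψ M₀ eX eY a σ (resR F φ h y) =
      resR G ψ h' (eσ F G φ ψ M₀ eX eY a (σ ∘ Fin.succAbove i) y) := by
  obtain ⟨⟨m, ⟨_, k, rfl⟩⟩, hs⟩ := IsLocalizedModule.surj
    (Submonoid.powers (gprod a (σ ∘ Fin.succAbove i))) (lX F φ M₀ eX a (σ ∘ Fin.succAbove i)) y
  have hs' : gprod a (σ ∘ Fin.succAbove i) ^ k • y = lX F φ M₀ eX a (σ ∘ Fin.succAbove i) m := hs
  -- `g_σ ^ k` acts injectively on the target
  apply IsLocalizedModule.smul_injective (lX G ψ M₀ eY a σ)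
    (⟨gprod a σ ^ k, ⟨k, rfl⟩⟩ : Submonoid.powers (gprod a σ))
  change gprod a σ ^ k • eσ F G φ ψ M₀ eX eY a σ (resR F φ h y) =
    gprod a σ ^ k • resR G ψ h' (eσ F G φ ψ M₀ eX eY a (σ ∘ Fin.succAbove i) y)
  rw [gprod_succAbove a σ i, mul_pow, mul_smul, mul_smul]
  congr 1
  rw [← map_smul, ← map_smul, hs', resR_lX, eσ_lX, ← map_smul, ← map_smul, hs', eσ_lX, resR_lX]

include eX eY in
/-- the Čech complexes are isomorphic -/
theorem nonempty_homology_equiv (p : ℕ) :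
    Nonempty ((CK (fam φ a) F.presheaf).homology p ≃+ (CK (fam ψ a) G.presheaf).homology p) := by
  refine CechIso.nonempty_homology_equiv (fam φ a) (fam ψ a) F.presheaf G.presheaf
    (fun n σ => (eσ F G φ ψ M₀ eX eY a σ).toAddEquiv) ?_ p
  intro n σ i y
  rw [map_hom_eq F.presheaf (face (fam φ a) σ i).op (face (fam φ a) σ i).le,
    map_hom_eq G.presheaf (face (fam ψ a) σ i).op (face (fam ψ a) σ i).le]
  exact eσ_res F G φ ψ M₀ eX eY a σ i (face (fam φ a) σ i).le (face (fam ψ a) σ i).le y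

end Groth.Agent.Lib.T2H4.CechX
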