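import Mathlib
import Groth.Prelude.Def_ega3
import Groth.Prelude.Def_DerCA
import Groth.Agent.Lib.T2H2KzCechC
import Groth.Agent.Lib.Helper1ExtCech4

/-!
# Koszul complexes of powers versus the extended Čech complex (helper2, part D)

The cone model `ecCone M fs` is isomorphic to `(extCech M fs)⟦fs.length⟧`, hence
`koszulHLim fs M p ≃ₗ extCechH fs M p`.
-/

set_option autoImplicit false

namespace Groth.Agent.Lib.T2H2.KzCech

open CategoryTheory CategoryTheory.Limits CochainComplex DerCA CohIII

universe u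

variable {A : Type u} [CommRing A]

section MapIso

variable {C : Type*} [Category C] [Preadditive C] [HasBinaryBiproducts C]
variable {K₁ L₁ K₂ L₂ : CochainComplex C ℤ} (φ₁ : K₁ ⟶ L₁) (φ₂ : K₂ ⟶ L₂)

/-- isomorphic squares have isomorphic cones -/
noncomputable def coneMapIso (a : K₁ ≅ K₂) (b : L₁ ≅ L₂) (comm : φ₁ ≫ b.hom = a.hom ≫ φ₂) :
    mappingCone φ₁ ≅ mappingCone φ₂ where
  hom := mappingCone.map φ₁ φ₂ a.hom b.hom comm
  inv := mappingCone.map φ₂ φ₁ a.inv b.inv (by
    rw [← cancel_mono b.hom, Category.assoc, Iso.inv_hom_id, Category.comp_id, Category.assoc, comm,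
      Iso.inv_hom_id_assoc])
  hom_inv_id := by
    rw [← mappingCone.map_comp]
    exact (map_congr _ _ _ a.hom_inv_id b.hom_inv_id).trans (mappingCone.map_id _)
  inv_hom_id := by
    rw [← mappingCone.map_comp]
    exact (map_congr _ _ _ a.inv_hom_id b.inv_hom_id).trans (mappingCone.map_id _)

end MapIso

open Groth.Agent.Lib.Helper1.ExtCech4 in
/-- one step of the comparison: the cone of the localisation map of `E ≅ X⟦r⟧` is the
`(r+1)`-fold shift of the mapping cocone of the localisation map of `X` -/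
noncomputable def stepIso (f : A) (E X : DRing.Cx A) (r r' : ℤ) (hr : 1 + r = r') (σ : E ≅ X⟦r⟧) :
    mappingCone (locCxUnit (Submonoid.powers f) E) ≅
      (mappingCocone (locCxUnit (Submonoid.powers f) X))⟦r'⟧ :=
  coneMapIso (locCxUnit (Submonoid.powers f) E) (locCxUnit (Submonoid.powers f) (X⟦r⟧)) σ
      ((locCx (Submonoid.powers f)).mapIso σ) (locCxUnit_naturality (Submonoid.powers f) σ.hom) ≪≫
    coneMapIso (locCxUnit (Submonoid.powers f) (X⟦r⟧)) ((locCxUnit (Submonoid.powers f) X)⟦r⟧')
      (Iso.refl _) (((locFunctor (Submonoid.powers f)).mapCochainComplexShiftIso r).app X) (by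
        ext i x
        rfl) ≪≫
    (mappingCone.shiftIso (locCxUnit (Submonoid.powers f) X) r).symm ≪≫
    (CategoryTheory.shiftFunctor (DRing.Cx A) r).mapIso
      ((shiftFunctorCompIsoId (DRing.Cx A) (-1 : ℤ) 1 (by simp)).app
        (mappingCone (locCxUnit (Submonoid.powers f) X))).symm ≪≫
    ((CategoryTheory.shiftFunctorAdd' (DRing.Cx A) (1 : ℤ) r r' hr).app
      (mappingCocone (locCxUnit (Submonoid.powers f) X))).symm

/-- the cone model is the shifted extended Čech complex -/
noncomputable def ecConeIso (M : ModuleCat.{u} A) :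
    ∀ fs : List A, ecCone M fs ≅ (extCech M fs)⟦(fs.length : ℤ)⟧
  | [] => ((CategoryTheory.shiftFunctorZero' (DRing.Cx A) ((([] : List A).length : ℕ) : ℤ)
      (by simp)).app _).symm
  | f :: fs => stepIso f (ecCone M fs) (extCech M fs) (fs.length : ℤ) (((f :: fs).length : ℕ) : ℤ)
      (by simp [add_comm]) (ecConeIso M fs)

/-- **Key comparison**: the direct limit of the Koszul cohomologies of the powers is the cohomology of the
extended alternating Čech complex. -/
theorem nonempty_koszulHLim_equiv_extCechH (fs : List A) (M : ModuleCat.{u} A) (p : ℕ) :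
    Nonempty (koszulHLim fs M p ≃ₗ[A] extCechH fs M (p : ℤ)) := by
  obtain ⟨e⟩ := nonempty_koszulHLim_equiv fs M p
  let e1 : (ecCone M fs).homology ((p : ℤ) - fs.length) ≅
      ((extCech M fs)⟦(fs.length : ℤ)⟧).homology ((p : ℤ) - fs.length) :=
    (HomologicalComplex.homologyFunctor (ModuleCat.{u} A) (ComplexShape.up ℤ)
      ((p : ℤ) - fs.length)).mapIso (ecConeIso M fs)
  let e2 : ((extCech M fs)⟦(fs.length : ℤ)⟧).homology ((p : ℤ) - fs.length) ≅
      (extCech M fs).homology (p : ℤ) :=
    (CochainComplex.ShiftSequence.shiftIso (ModuleCat.{u} A) (fs.length : ℤ)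
      ((p : ℤ) - fs.length) (p : ℤ) (by ring)).app (extCech M fs)
  exact ⟨e.trans (e1 ≪≫ e2).toLinearEquiv⟩

end Groth.Agent.Lib.T2H2.KzCech
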