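import Mathlib
import Groth.Agent.Lib.T2H2LowCechC
import Groth.Prelude.Def_LocCohZ
import Groth.Agent.Lib.Helper1ExtCech
import Groth.Agent.Lib.T2H2KzCechD

/-!
# Flasqueness of `M~` on `Spec A` and the Koszul colimit `H^1` (helper2)

`M~` is flasque iff `colim_n H^1(f^n, M) = 0` for all finite families (Noetherian spectrum), and vanishing of
all `H^1` implies vanishing of all higher `H^i`.
-/

set_option autoImplicit false

universe u

open CategoryTheory Limits AlgebraicGeometry TopologicalSpace Opposite DerCA CochainComplex HomologicalComplex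

namespace Groth.Agent.Lib.T2H2.FlasqueKz

open Groth.Agent.Lib.Helper6 Groth.Agent.Lib.T2H2.LowCech Groth.Agent.Lib.T2H2.KzCech
  Groth.Agent.Lib.T2H2.LowCechR

section General

variable {X : Scheme.{u}} (F : X.Modules)

theorem isFlasque_of_surjective
    (h : ∀ V : X.Opens, Function.Surjective ((Coh.toAb F).obj.map (homOfLE (le_top : V ≤ ⊤)).op)) :
    TopCat.Sheaf.IsFlasque (Coh.toAb F) := by
  constructor
  intro U V i
  rw [AddCommGrpCat.epi_iff_surjective]
  intro t
  obtain ⟨s, hs⟩ := h V.unop t
  refine ⟨(Coh.toAb F).obj.map (homOfLE (le_top : U.unop ≤ ⊤)).op s, ?_⟩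
  rw [← hs, ← ConcreteCategory.comp_apply, ← Functor.map_comp]
  rfl

theorem surjective_of_isFlasque (hF : TopCat.Sheaf.IsFlasque (Coh.toAb F)) (V : X.Opens) :
    Function.Surjective ((Coh.toAb F).obj.map (homOfLE (le_top : V ≤ ⊤)).op) := by
  have := hF.epi (homOfLE (le_top : V ≤ ⊤)).op
  rwa [AddCommGrpCat.epi_iff_surjective] at this

variable {R : Type u} [CommRing R] (φ : R →+* Γ(X, ⊤))

lemma coe_Ufs (fs : List R) :
    ((Ufs φ fs : X.Opens) : Set X) = ⋃ f ∈ fs, (X.basicOpen (φ f) : Set X) := by
  induction fs with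
  | nil => simp [Ufs]
  | cons f fs ih =>
    change ((X.basicOpen (φ f) ⊔ Ufs φ fs : X.Opens) : Set X) = _
    rw [Opens.coe_sup, ih]
    ext x
    simp

end General

section SpecA

variable (A : Type u) [CommRing A] (M : Type u) [AddCommGroup M] [Module A M]

/-- the ring map `A → Γ(Spec A, ⊤)` -/
noncomputable abbrev φA : A →+* Γ(Spec (CommRingCat.of A), ⊤) :=
  (Scheme.ΓSpecIso (CommRingCat.of A)).inv.hom

/-- the tilde of `M` -/
noncomputable abbrev FM : (Spec (CommRingCat.of A)).Modules :=
  AlgebraicGeometry.tilde (R := CommRingCat.of A) (ModuleCat.of A M)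

/-- `M ≃ Γ(Spec A, M~)` -/
noncomputable def eM : (ModuleCat.of A M) ≃ₗ[A] SecR (FM A M) (φA A) ⊤ :=
  (tilde.isoTop (R := CommRingCat.of A) (ModuleCat.of A M)).toLinearEquiv.trans
    { toFun := fun s => ofSec s
      invFun := fun s => toSec s
      left_inv := fun _ => rfl
      right_inv := fun _ => rfl
      map_add' := fun _ _ => rfl
      map_smul' := fun _ _ => rfl }

/-- surjectivity of the restriction map, in terms of `ρR` -/
lemma range_ρR_eq_top_iff (V : (Spec (CommRingCat.of A)).Opens) :
    LinearMap.range (ρR (FM A M) (φA A) (ModuleCat.of A M) (eM A M) V) = ⊤ ↔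
      Function.Surjective ((Coh.toAb (FM A M)).obj.map (homOfLE (le_top : V ≤ ⊤)).op) := by
  rw [LinearMap.range_eq_top]
  constructor
  · intro h t
    obtain ⟨m, hm⟩ := h (ofSec t)
    exact ⟨toSec (eM A M m), congrArg toSec hm⟩
  · intro h n
    obtain ⟨s, hs⟩ := h (toSec n)
    refine ⟨(eM A M).symm (ofSec s), ?_⟩
    apply toSec_injective
    change res (FM A M) le_top (toSec ((eM A M) ((eM A M).symm (ofSec s)))) = toSec n
    rw [LinearEquiv.apply_symm_apply]
    exact hs

theorem subsingleton_koszulHLim_one_of_isFlasque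
    (hF : TopCat.Sheaf.IsFlasque (Coh.toAb (FM A M))) (fs : List A) :
    Subsingleton (CohIII.koszulHLim fs (ModuleCat.of A M) 1) := by
  obtain ⟨c⟩ := nonempty_coker_equiv (FM A M) (φA A) (ModuleCat.of A M) (eM A M) fs
  have h := (range_ρR_eq_top_iff A M (Ufs (φA A) fs)).mpr (surjective_of_isFlasque _ hF _)
  have : Subsingleton (SecR (FM A M) (φA A) (Ufs (φA A) fs) ⧸
      LinearMap.range (ρR (FM A M) (φA A) (ModuleCat.of A M) (eM A M) (Ufs (φA A) fs))) :=
    Submodule.Quotient.subsingleton_iff.mpr h
  exact c.symm.toEquiv.subsingleton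

theorem isFlasque_of_subsingleton_koszulHLim_one [NoetherianSpace (PrimeSpectrum A)]
    (h : ∀ fs : List A, Subsingleton (CohIII.koszulHLim fs (ModuleCat.of A M) 1)) :
    TopCat.Sheaf.IsFlasque (Coh.toAb (FM A M)) := by
  apply isFlasque_of_surjective
  intro V
  obtain ⟨s, hs, hV⟩ := eq_finite_iUnion_of_isTopologicalBasis_of_isCompact_open
    (fun r : A => (PrimeSpectrum.basicOpen r : Set (PrimeSpectrum A)))
    PrimeSpectrum.isTopologicalBasis_basic_opens V.1
    (NoetherianSpace.isCompact (α := PrimeSpectrum A) V.1) V.2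
  have hV' : (V : Set (Spec (CommRingCat.of A))) = ⋃ i ∈ s,
      ((Spec (CommRingCat.of A)).basicOpen (φA A i) : Set (Spec (CommRingCat.of A))) := by
    refine Eq.trans (show (V : Set (Spec (CommRingCat.of A))) = V.carrier from rfl) ?_
    rw [hV]
    exact Set.iUnion₂_congr (fun i _ =>
      (congrArg (fun O : (Spec (CommRingCat.of A)).Opens => (O : Set (Spec (CommRingCat.of A))))
        (basicOpen_eq_of_affine (R := CommRingCat.of A) i)).symm)
  have hVeq : V = Ufs (φA A) hs.toFinset.toList := by
    apply Opens.ext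
    rw [coe_Ufs, hV']
    ext x
    simp only [Set.mem_iUnion, Finset.mem_toList, Set.Finite.mem_toFinset, exists_prop]
  subst hVeq
  rw [← range_ρR_eq_top_iff]
  obtain ⟨c⟩ := nonempty_coker_equiv (FM A M) (φA A) (ModuleCat.of A M) (eM A M) hs.toFinset.toList
  have := h hs.toFinset.toList
  have : Subsingleton (SecR (FM A M) (φA A) (Ufs (φA A) hs.toFinset.toList) ⧸
      LinearMap.range (ρR (FM A M) (φA A) (ModuleCat.of A M) (eM A M)
        (Ufs (φA A) hs.toFinset.toList))) := c.toEquiv.subsingleton
  exact Submodule.Quotient.subsingleton_iff.mp this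

end SpecA

section Alg

open Groth.Agent.Lib.Helper1.ExtCech

variable {A : Type u} [CommRing A]

theorem subsingleton_extCechH_pos (M : ModuleCat.{u} A)
    (h1 : ∀ fs : List A, Subsingleton (extCechH fs M 1)) :
    ∀ (fs : List A) (q : ℤ), 1 ≤ q → Subsingleton (extCechH fs M q) := by
  intro fs
  induction fs with
  | nil =>
    intro q hq
    have hz : IsZero ((extCech M []).X q) := isZero_single_obj_X _ _ _ _ (by omega)
    have hex : (extCech M []).ExactAt q := ShortComplex.exact_of_isZero_X₂ _ hz
    exact ModuleCat.subsingleton_of_isZero ((HomologicalComplex.exactAt_iff_isZero_homology _ _).1 hex)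
  | cons f fs ih =>
    intro q hq
    rcases eq_or_lt_of_le hq with rfl | hq2
    · exact h1 (f :: fs)
    · set K := extCech M fs with hK
      set φ := locCxUnit (Submonoid.powers f) K with hφ
      have s2 : Subsingleton (K.homology (q - 1)) := ih (q - 1) (by omega)
      have := isLocalizedModule_homologyMap (Submonoid.powers f) K (q - 1)
      have s3 : Subsingleton (((locCx (Submonoid.powers f)).obj K).homology (q - 1)) :=
        subsingleton_of_isLocalizedModule (Submonoid.powers f)
          (HomologicalComplex.homologyMap (locCxUnit (Submonoid.powers f) K) (q - 1)).hom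
      have s1 : Subsingleton (K.homology q) := ih q hq
      refine ⟨fun x y => ?_⟩
      have hz : ∀ w : (mappingCocone φ).homology q, w = 0 := by
        intro w
        obtain ⟨z, rfl⟩ := exists_hδ φ (q - 1) q (by omega) w (Subsingleton.elim _ _)
        rw [Subsingleton.elim z 0, map_zero]
      exact (hz x).trans (hz y).symm

theorem subsingleton_koszulHLim_pos (M : ModuleCat.{u} A)
    (h1 : ∀ fs : List A, Subsingleton (CohIII.koszulHLim fs M 1)) (fs : List A) (i : ℕ) (hi : 0 < i) :
    Subsingleton (CohIII.koszulHLim fs M i) := by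
  have h1' : ∀ fs : List A, Subsingleton (extCechH fs M 1) := by
    intro fs
    obtain ⟨e⟩ := Groth.Agent.Lib.T2H2.KzCech.nonempty_koszulHLim_equiv_extCechH fs M 1
    have := h1 fs
    exact e.symm.toEquiv.subsingleton
  obtain ⟨e⟩ := Groth.Agent.Lib.T2H2.KzCech.nonempty_koszulHLim_equiv_extCechH fs M i
  have := subsingleton_extCechH_pos M h1' fs (i : ℤ) (by omega)
  exact e.toEquiv.subsingleton

end Alg

end Groth.Agent.Lib.T2H2.FlasqueKz
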