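import Mathlib
import Groth.Prelude.Def_LocCohZ
import Groth.Prelude.Def_Wider
import Groth.Agent.S9498
import Groth.Agent.Lib.Helper23QCohExt
import Groth.Agent.Lib.T2H4DimShift

/-!
# Local cohomology of `M~` on `Spec R` as a cohomological system in `M` (helper4)
-/

set_option autoImplicit false

namespace Groth.Agent.Lib.T2H4.YSys

universe u
open CategoryTheory CategoryTheory.Limits AlgebraicGeometry TopologicalSpace Opposite Abelian
open Groth.Agent.Lib.T2H4.DimShift Groth.Agent.Lib.Helper23.QCohLocal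

variable (R : CommRingCat.{u})

/-- the scheme -/
noncomputable abbrev SA : Scheme.{u} := Spec (CommRingCat.of R)

/-- `M ↦` the abelian sheaf underlying `M~` -/
noncomputable def tAb : ModuleCat.{u} R ⥤ CohTop.Ab (SA R).carrier :=
  tilde.functor R ⋙ toAbF (SA R)

instance : (tAb R).Additive := by
  unfold tAb
  infer_instance

variable {R}

lemma tAb_shortExact (S : ShortComplex (ModuleCat.{u} R)) (hS : S.ShortExact) :
    (S.map (tAb R)).ShortExact := by
  have := (Groth.Agent.S9498.aux R).1
  have := (Groth.Agent.S9498.aux R).2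
  have h1 : (S.map (tilde.functor R)).ShortExact := hS.map_of_exact (tilde.functor R)
  exact shortExact_toAbF _ h1

variable (U : (SA R).Opens)

/-- the functors `M ↦ H^n_Z(Spec R, M~)` -/
noncomputable def HY (n : ℕ) : ModuleCat.{u} R ⥤ AddCommGrpCat.{u} :=
  tAb R ⋙ extFunctorObj (LocCohZ.zq (X := (SA R).carrier) (le_top : U ≤ ⊤)) n

instance (n : ℕ) : (HY U n).Additive := by
  unfold HY
  infer_instance

/-- the system -/
noncomputable def ySys : Sys R where
  H := HY U
  add n := inferInstance
  δ S hS n := AddCommGrpCat.ofHom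
    ((tAb_shortExact S hS).extClass.postcomp (LocCohZ.zq (X := (SA R).carrier) (le_top : U ≤ ⊤))
      (rfl : n + 1 = n + 1))
  ex1 S hS _ x hx :=
    Ext.covariant_sequence_exact₁ (LocCohZ.zq (X := (SA R).carrier) (le_top : U ≤ ⊤))
      (tAb_shortExact S hS) x hx rfl
  ex2 S hS _ x hx :=
    Ext.covariant_sequence_exact₂ (LocCohZ.zq (X := (SA R).carrier) (le_top : U ≤ ⊤))
      (tAb_shortExact S hS) x hx
  ex3 S hS _ x hx :=
    Ext.covariant_sequence_exact₃ (LocCohZ.zq (X := (SA R).carrier) (le_top : U ≤ ⊤))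
      (tAb_shortExact S hS) x rfl hx

lemma ySys_obj (n : ℕ) (M : ModuleCat.{u} R) :
    (((ySys U).H n).obj M : Type u) = LocCohZ.HZM (SA R) (tilde M) n U := rfl

end Groth.Agent.Lib.T2H4.YSys
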