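import Mathlib
import Groth.Agent.Lib.T2H2FlasqueKz
import Groth.Agent.Lib.Helper23AffVanish7
import Groth.Agent.S0464
import Groth.Agent.S6031
import Groth.Agent.Lib.T2H4SecLoc
import Groth.Agent.Lib.T2H4YSys

/-!
# Vanishing and degree zero for local cohomology of `M~` on `Spec A` (helper4)
-/

set_option autoImplicit false

namespace Groth.Agent.Lib.T2H4.YVan

universe u
open CategoryTheory CategoryTheory.Limits AlgebraicGeometry TopologicalSpace Opposite Abelian
open Groth.Agent.Lib.Helper6 Groth.Agent.Lib.T2H2.LowCechR Groth.Agent.Lib.T2H2.FlasqueKz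
open Groth.Agent.Lib.Helper16.CechLow Groth.Agent.Lib.Helper1.ExtCech
open Groth.Agent.Lib.T2H4.SecLoc Groth.Agent.Lib.T2H4.YSys Groth.Agent.Lib.T2H4.EcSys
open Groth.Agent.Lib.Helper23.AffVanish

variable {A : Type u} [CommRing A] (fs : List A)

/-- index type of the family -/
abbrev II : Type u := ULift.{u} (Fin fs.length)

/-- the functions of the family -/
def aa (i : II fs) : A := fs.get i.down

/-- the union of the basic opens -/
noncomputable def UU : (Spec (CommRingCat.of A)).Opens := ⨆ i : II fs, fam (φA A) (aa fs) i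

lemma UU_eq_Ufs : UU fs = Ufs (φA A) fs := by
  rw [Ufs_eq]
  apply le_antisymm
  · exact iSup_le fun i => le_iSup (fun j : Fin fs.length =>
      (Spec (CommRingCat.of A)).basicOpen ((φA A) (fs.get j))) i.down
  · exact iSup_le fun j => le_iSup (fam (φA A) (aa fs)) (ULift.up j)

variable (M : Type u) [AddCommGroup M] [Module A M]

/-- sections supported off `U` are the kernel of `ρR` -/
noncomputable def sectZEquiv (U : (Spec (CommRingCat.of A)).Opens) :
    LocCohZ.sectZ (X := (Spec (CommRingCat.of A)).carrier) (Coh.toAb (FM A M)) (le_top : U ≤ ⊤) ≃+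
      LinearMap.ker (ρR (FM A M) (φA A) (ModuleCat.of A M) (eM A M) U) where
  toFun s := ⟨(eM A M).symm (ofSec s.1), by
    rw [LinearMap.mem_ker]
    apply toSec_injective
    change res (FM A M) le_top (toSec ((eM A M) ((eM A M).symm (ofSec s.1)))) = 0
    rw [LinearEquiv.apply_symm_apply]
    exact s.2⟩
  invFun m := ⟨toSec ((eM A M) m.1), by
    have h := m.2
    rw [LinearMap.mem_ker] at h
    exact congrArg toSec h⟩
  left_inv s := by
    apply Subtype.ext
    change toSec ((eM A M) ((eM A M).symm (ofSec s.1))) = s.1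
    rw [LinearEquiv.apply_symm_apply]
    rfl
  right_inv m := by
    apply Subtype.ext
    change (eM A M).symm (ofSec (toSec ((eM A M) m.1))) = m.1
    rw [ofSec_toSec, LinearEquiv.symm_apply_apply]
  map_add' s t := by
    apply Subtype.ext
    change (eM A M).symm (ofSec (s.1 + t.1)) = (eM A M).symm (ofSec s.1) + (eM A M).symm (ofSec t.1)
    rw [← map_add]
    rfl

/-- degree zero: `H^0_Z(Spec A, M~) ≃ H^0` of the extended Čech complex -/
theorem nonempty_zero_equiv :
    Nonempty (((ESys fs).H 0).obj (ModuleCat.of A M) ≃+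
      ((ySys (R := CommRingCat.of A) (UU fs)).H 0).obj (ModuleCat.of A M)) := by
  obtain ⟨e1⟩ := Groth.Agent.Lib.T2H2.KzCech.nonempty_koszulHLim_equiv_extCechH fs (ModuleCat.of A M) 0
  obtain ⟨e2⟩ := nonempty_ker_equiv (FM A M) (φA A) (ModuleCat.of A M) (eM A M) fs
  rw [← UU_eq_Ufs] at e2
  let e3 := sectZEquiv M (UU fs)
  let e4 := LocCohZ.sect0Equiv (X := (Spec (CommRingCat.of A)).carrier) (Coh.toAb (FM A M))
    (le_top : UU fs ≤ ⊤)
  exact ⟨(e1.symm.toAddEquiv.trans (e2.symm.toAddEquiv.trans (e3.symm.trans e4.symm)))⟩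

section Van

variable (N : Type u) [AddCommGroup N] [Module A N]

/-- Čech cohomology of the basic opens computes the cohomology of their union -/
theorem nonempty_cech_equiv (p : ℕ) :
    Nonempty ((CK (fam (φA A) (aa fs)) (FM A N).presheaf).homology p ≃+
      CohTop.HU (ab (FM A N)) p (UU fs)) := by
  refine Groth.Agent.S0464.result (ab (FM A N)) (fam (φA A) (aa fs)) ?_ p
  intro p σ q
  rw [iInf_fam]
  exact subsingleton_HE_basicOpen (FM A N) q _

lemma delta_surjective (n : ℕ) :
    Function.Surjective (LocCohZ.delta (X := (Spec (CommRingCat.of A)).carrier)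
      (Coh.toAb (FM A N)) n (le_top : UU fs ≤ ⊤)) := by
  have h := Groth.Agent.S6031.result (Spec (CommRingCat.of A)) (FM A N) inferInstance (UU fs)
  cases n with
  | zero => exact h.1
  | succ n => exact (h.2 (n + 1) (Nat.succ_le_succ (Nat.zero_le n))).2

/-- vanishing in positive degrees on power torsion modules -/
theorem subsingleton_of_torsion (h : ∀ f ∈ fs, ∀ x : N, ∃ k : ℕ, f ^ k • x = 0) (n : ℕ) :
    Subsingleton (((ySys (R := CommRingCat.of A) (UU fs)).H (n + 1)).obj (ModuleCat.of A N)) := by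
  have hpt : ∀ i : II fs, PT (aa fs i) (SecR (FM A N) (φA A) ⊤) := by
    intro i x
    obtain ⟨k, hk⟩ := h (aa fs i) (List.get_mem fs i.down) ((eM A N).symm x)
    refine ⟨k, ?_⟩
    rw [← (eM A N).apply_symm_apply x, ← map_smul, hk, map_zero]
  have hz := isZero_cech_of_pt (FM A N) (φA A) (aa fs) hpt n
  have hs := AddCommGrpCat.subsingleton_of_isZero hz
  obtain ⟨e⟩ := nonempty_cech_equiv fs N n
  have : Subsingleton (CohTop.HU (ab (FM A N)) n (UU fs)) := e.symm.toEquiv.subsingleton
  exact (delta_surjective fs N n).subsingleton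

/-- vanishing in all degrees on modules on which a member of the list acts bijectively -/
theorem subsingleton_of_bij (f : A) (hf : f ∈ fs) (hb : Function.Bijective (fun x : N => f • x))
    (n : ℕ) :
    Subsingleton (((ySys (R := CommRingCat.of A) (UU fs)).H n).obj (ModuleCat.of A N)) := by
  obtain ⟨i₀, hi₀⟩ := List.mem_iff_get.1 hf
  have hbS : Bij f (SecR (FM A N) (φA A) ⊤) := Bij.of_linearEquiv (eM A N) f hb
  have hE : ∀ q : ℕ, Subsingleton (DerCA.extCechH fs (ModuleCat.of A N) (q : ℤ)) := fun q =>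
    ModuleCat.subsingleton_of_isZero
      (isZero_extCechH_of_bij fs (ModuleCat.of A N) f (Ideal.subset_span hf) hb (q : ℤ))
  match n with
  | 0 =>
    obtain ⟨e⟩ := nonempty_zero_equiv fs N
    have := Groth.Agent.Lib.T2H4.EcSys.subsingleton_of_bij fs N f hf hb 0
    exact e.symm.toEquiv.subsingleton
  | 1 =>
    -- the restriction of sections to `U` is surjective
    have hsurj : Function.Surjective
        ((Coh.toAb (FM A N)).obj.map (homOfLE (le_top : UU fs ≤ ⊤)).op) := by
      rw [← range_ρR_eq_top_iff A N (UU fs)]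
      obtain ⟨c⟩ := nonempty_coker_equiv (FM A N) (φA A) (ModuleCat.of A N) (eM A N) fs
      rw [← UU_eq_Ufs] at c
      obtain ⟨e1⟩ := Groth.Agent.Lib.T2H2.KzCech.nonempty_koszulHLim_equiv_extCechH fs
        (ModuleCat.of A N) 1
      have := hE 1
      have : Subsingleton (CohIII.koszulHLim fs (ModuleCat.of A N) 1) := e1.toEquiv.subsingleton
      have hq : Subsingleton (SecR (FM A N) (φA A) (UU fs) ⧸
          LinearMap.range (ρR (FM A N) (φA A) (ModuleCat.of A N) (eM A N) (UU fs))) :=
        c.toEquiv.subsingleton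
      exact Submodule.Quotient.subsingleton_iff.1 hq
    refine ⟨fun x y => ?_⟩
    have hz : ∀ x : LocCohZ.HZc (X := (Spec (CommRingCat.of A)).carrier) (Coh.toAb (FM A N)) 1
        (UU fs), x = 0 := by
      intro x
      obtain ⟨y, rfl⟩ := delta_surjective fs N 0 x
      obtain ⟨s, hs⟩ := hsurj (h0F (FM A N) (UU fs) y)
      have hy : y = resE (ab (FM A N)) 0 (le_top : UU fs ≤ ⊤) ((h0F (FM A N) ⊤).symm s) := by
        apply (h0F (FM A N) (UU fs)).injective
        refine Eq.trans ?_ (h0F_res (FM A N) (le_top : UU fs ≤ ⊤) ((h0F (FM A N) ⊤).symm s)).symm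
        refine hs.symm.trans ?_
        exact congrArg (res (FM A N) (le_top : UU fs ≤ ⊤))
          ((h0F (FM A N) ⊤).apply_symm_apply s).symm
      rw [hy]
      exact (LocCohZ.zqSeq_shortExact (X := (Spec (CommRingCat.of A)).carrier)
        (le_top : UU fs ≤ ⊤)).extClass_comp_assoc (h := by omega) _
    exact (hz x).trans (hz y).symm
  | (n + 2) =>
    have hz := isZero_cech_of_bij (FM A N) (φA A) (aa fs) f (ULift.up i₀) hi₀ hbS n
    have hs := AddCommGrpCat.subsingleton_of_isZero hz
    obtain ⟨e⟩ := nonempty_cech_equiv fs N (n + 1)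
    have : Subsingleton (CohTop.HU (ab (FM A N)) (n + 1) (UU fs)) := e.symm.toEquiv.subsingleton
    exact (delta_surjective fs N (n + 1)).subsingleton

end Van

lemma puncturedOpen_eq :
    LocCoh.puncturedOpen A (Ideal.span {a | a ∈ fs}) = UU fs := by
  rw [UU_eq_Ufs]
  apply Opens.ext
  rw [coe_Ufs]
  refine Set.ext fun (x : PrimeSpectrum A) => ?_
  change x ∉ PrimeSpectrum.zeroLocus (R := A) ((Ideal.span {a | a ∈ fs} : Ideal A) : Set A) ↔ _
  rw [PrimeSpectrum.zeroLocus_span, PrimeSpectrum.mem_zeroLocus, Set.not_subset]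
  have e : ∀ f : A, (Spec (CommRingCat.of A)).basicOpen ((φA A) f) = PrimeSpectrum.basicOpen f :=
    fun f => basicOpen_eq_of_affine (R := CommRingCat.of A) f
  constructor
  · rintro ⟨f, hf, hfx⟩
    refine Set.mem_iUnion₂.2 ⟨f, hf, ?_⟩
    rw [e f]
    exact hfx
  · intro h
    obtain ⟨f, hf, hx⟩ := Set.mem_iUnion₂.1 h
    rw [e f] at hx
    exact ⟨f, hf, hx⟩

/-- **S6032**: the Koszul colimit computes local cohomology of `M~` on `Spec A` -/
theorem nonempty_koszulHLim_equiv_HZM (M : Type u) [AddCommGroup M] [Module A M] (i : ℕ) :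
    Nonempty (CohIII.koszulHLim fs (ModuleCat.of A M) i ≃+
      LocCohZ.HZM (Spec (CommRingCat.of A))
        (AlgebraicGeometry.tilde (R := CommRingCat.of A) (ModuleCat.of A M)) i
        (LocCoh.puncturedOpen A (Ideal.span {a | a ∈ fs}))) := by
  rw [puncturedOpen_eq]
  obtain ⟨e1⟩ := Groth.Agent.Lib.T2H2.KzCech.nonempty_koszulHLim_equiv_extCechH fs
    (ModuleCat.of A M) i
  obtain ⟨e2⟩ := Groth.Agent.Lib.T2H4.DimShift.nonempty_equiv (A := A) (ESys fs)
    (ySys (R := CommRingCat.of A) (UU fs)) fs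
    (fun N _ _ f hf hb n => Groth.Agent.Lib.T2H4.EcSys.subsingleton_of_bij fs N f hf hb n)
    (fun N _ _ f hf hb n => subsingleton_of_bij fs N f hf hb n)
    (fun T _ _ h n => Groth.Agent.Lib.T2H4.EcSys.subsingleton_of_torsion fs T h n)
    (fun T _ _ h n => subsingleton_of_torsion fs T h n)
    (fun M _ _ => nonempty_zero_equiv fs M) i M
  exact ⟨e1.toAddEquiv.trans e2⟩

end Groth.Agent.Lib.T2H4.YVan
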