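import Mathlib
import Groth.Prelude.Def_CohB1
import Groth.Agent.Lib.T2H4CechX
import Groth.Agent.Lib.T2H4YVan

/-!
# Čech cohomology of basic opens on a qcqs scheme and the Koszul colimit (helper4)
-/

set_option autoImplicit false

namespace Groth.Agent.Lib.T2H4.CechKz

universe u
open CategoryTheory CategoryTheory.Limits AlgebraicGeometry TopologicalSpace Opposite
open Groth.Agent.Lib.Helper6 Groth.Agent.Lib.T2H2.LowCechR Groth.Agent.Lib.T2H2.FlasqueKz
open Groth.Agent.Lib.Helper16.CechLow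
open Groth.Agent.Lib.T2H4.SecLoc Groth.Agent.Lib.T2H4.YVan Groth.Agent.Lib.Helper23.AffVanish

variable {X : Scheme.{u}} (F : X.Modules)

/-- the identity `Γ(X, F) ≃ SecR F id ⊤` -/
noncomputable def eX : (ModuleCat.of Γ(X, ⊤) (F.val.obj (op ⊤))) ≃ₗ[Γ(X, ⊤)]
    SecR F (RingHom.id Γ(X, ⊤)) ⊤ where
  toFun s := ofSec s
  invFun s := toSec s
  left_inv _ := rfl
  right_inv _ := rfl
  map_add' _ _ := rfl
  map_smul' a s := by
    apply toSec_injective
    refine Eq.trans ?_ (toSec_smul (F := F) (φ := RingHom.id Γ(X, ⊤)) a (ofSec s)).symm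
    rw [RingHom.id_apply, Groth.Agent.Lib.T2H2.LowCechGeo.resf_top_self]
    rfl

variable [F.IsQuasicoherent] [CompactSpace X] [QuasiSeparatedSpace X] (fs : List Γ(X, ⊤))

/-- Čech cohomology of the basic opens versus local cohomology on `Spec Γ(X, O_X)` -/
theorem nonempty_cech_equiv_koszulHLim (p : ℕ) (hp : 1 ≤ p) :
    Nonempty ((CK (fun i : ULift.{u} (Fin fs.length) => X.basicOpen (fs.get i.down))
        F.presheaf).homology p ≃+
      CohIII.koszulHLim fs (ModuleCat.of Γ(X, ⊤) (F.val.obj (op ⊤))) (p + 1)) := by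
  obtain ⟨e1⟩ := Groth.Agent.Lib.T2H4.CechX.nonempty_homology_equiv F
    (FM Γ(X, ⊤) (F.val.obj (op ⊤))) (RingHom.id Γ(X, ⊤)) (φA Γ(X, ⊤))
    (ModuleCat.of Γ(X, ⊤) (F.val.obj (op ⊤))) (eX F) (eM Γ(X, ⊤) (F.val.obj (op ⊤))) (aa fs) p
  obtain ⟨e2⟩ := nonempty_cech_equiv fs (F.val.obj (op ⊤)) p
  have h3 := (Groth.Agent.S6031.result (Spec (CommRingCat.of Γ(X, ⊤)))
    (FM Γ(X, ⊤) (F.val.obj (op ⊤))) inferInstance (UU fs)).2 p hp
  let e3 := AddEquiv.ofBijective _ h3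
  obtain ⟨e4⟩ := nonempty_koszulHLim_equiv_HZM fs (F.val.obj (op ⊤)) (p + 1)
  rw [puncturedOpen_eq] at e4
  exact ⟨e1.trans (e2.trans (e3.trans e4.symm))⟩

end Groth.Agent.Lib.T2H4.CechKz
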