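import Mathlib
import Groth.Prelude.Def_LocCohZ
import Groth.Agent.Lib.T2H4AffLES
import Groth.Agent.Lib.T2H4CechKz

/-!
# Cohomology on opens of an affine open of a scheme and the Koszul colimit (helper4)
-/

set_option autoImplicit false

namespace Groth.Agent.Lib.T2H4.AffKz

universe u
open CategoryTheory CategoryTheory.Limits TopologicalSpace Opposite AlgebraicGeometry
open Groth.Agent.Lib.Helper6 Groth.Agent.Lib.T2H2.LowCechR Groth.Agent.Lib.T2H2.FlasqueKz
open Groth.Agent.Lib.Helper16.CechLow Groth.Agent.Lib.Helper16.CechH1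
open Groth.Agent.Lib.T2H4.SecLoc Groth.Agent.Lib.T2H4.YVan Groth.Agent.Lib.Helper23.AffVanish
open Groth.Agent.Lib.T2H4.CechKz

section Image

variable {X : Scheme.{u}} (V : X.Opens) {ι : Type u} (famY : ι → V.toScheme.Opens)

/-- the image family -/
abbrev famX (i : ι) : X.Opens := V.ι ''ᵁ famY i

lemma Ux_eq_iInf {Z : TopCat.{u}} (W : ι → Opens Z) {n : ℕ} (σ : Fin (n + 1) → ι) :
    Ux W σ = ⨅ a, W (σ a) :=
  le_antisymm (le_iInf (Ux_le W σ)) (le_Ux W σ _ (fun a => iInf_le _ a))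

lemma mem_Ux {Z : TopCat.{u}} (W : ι → Opens Z) {n : ℕ} (σ : Fin (n + 1) → ι) (z : Z) :
    z ∈ Ux W σ ↔ ∀ a, z ∈ W (σ a) := by
  rw [Ux_eq_iInf, ← SetLike.mem_coe, Opens.coe_iInf, Set.mem_iInter]
  rfl

lemma map_comm {Z : TopCat.{u}} (P : (Opens Z)ᵒᵖ ⥤ AddCommGrpCat.{u}) {A B C D : Opens Z}
    (m1 : op A ⟶ op B) (m2 : op B ⟶ op D) (m3 : op A ⟶ op C) (m4 : op C ⟶ op D) (y : P.obj (op A)) :
    P.map m2 (P.map m1 y) = P.map m4 (P.map m3 y) := by
  rw [← ConcreteCategory.comp_apply, ← ConcreteCategory.comp_apply, ← P.map_comp, ← P.map_comp]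
  exact congrArg (fun m => (P.map m) y) (Subsingleton.elim _ _)

lemma mem_image_iff (V' : V.toScheme.Opens) (v : V.toScheme) :
    V.ι v ∈ V.ι ''ᵁ V' ↔ v ∈ V' := by
  constructor
  · rintro ⟨v', hv', hvv'⟩
    have : v' = v := V.ι.isOpenEmbedding.injective hvv'
    rwa [← this]
  · intro hv
    exact ⟨v, hv, rfl⟩

lemma image_le (V' : V.toScheme.Opens) : V.ι ''ᵁ V' ≤ V := by
  rintro _ ⟨v, -, rfl⟩
  exact v.2

lemma image_Ux {m : ℕ} (σ : Fin (m + 1) → ι) :
    V.ι ''ᵁ (Ux famY σ) = Ux (famX V famY) σ := by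
  apply le_antisymm
  · refine le_Ux (famX V famY) σ _ (fun k => ?_)
    exact V.ι.image_mono (Ux_le famY σ k)
  · intro x hx
    have hx' := (mem_Ux (famX V famY) σ x).1 hx
    have hxV : x ∈ V := image_le V _ (hx' 0)
    let v : V.toScheme := ⟨x, hxV⟩
    have hv : v ∈ Ux famY σ := (mem_Ux famY σ v).2 (fun k => by
      rw [← mem_image_iff]
      exact hx' k)
    exact ⟨v, hv, rfl⟩

variable (M : X.Modules)

/-- sections over the finite intersections agree -/
noncomputable def eσ (m : ℕ) (σ : Fin (m + 1) → ι) :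
    M.presheaf.obj (op (Ux (famX V famY) σ)) ≃+
      (M.restrict V.ι).presheaf.obj (op (Ux famY σ)) :=
  (M.presheaf.mapIso (eqToIso (congrArg op (image_Ux V famY σ).symm))).addCommGroupIsoToAddEquiv

lemma eσ_face (m : ℕ) (σ : Fin (m + 2) → ι) (i : Fin (m + 2))
    (y : M.presheaf.obj (op (Ux (famX V famY) (σ ∘ Fin.succAbove i)))) :
    eσ V famY M (m + 1) σ (M.presheaf.map (face (famX V famY) σ i).op y) =
      (M.restrict V.ι).presheaf.map (face famY σ i).op
        (eσ V famY M m (σ ∘ Fin.succAbove i) y) :=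
  map_comm M.presheaf (face (famX V famY) σ i).op (eqToHom (congrArg op (image_Ux V famY σ).symm))
    (eqToHom (congrArg op (image_Ux V famY (σ ∘ Fin.succAbove i)).symm))
    (V.ι.opensFunctor.map (face famY σ i)).op y

theorem cech_equiv (p : ℕ) :
    Nonempty ((CK (famX V famY) M.presheaf).homology p ≃+
      (CK famY (M.restrict V.ι).presheaf).homology p) :=
  Groth.Agent.Lib.T2H4.CechIso.nonempty_homology_equiv (famX V famY) famY
    M.presheaf (M.restrict V.ι).presheaf (eσ V famY M) (eσ_face V famY M) p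

end Image

section Main

variable {X : Scheme.{u}} (M : X.Modules) [M.IsQuasicoherent] (V : X.Opens) (hV : IsAffineOpen V)
  (fs : List Γ(V.toScheme, ⊤))

/-- the basic opens of the affine open subscheme -/
noncomputable abbrev famB : II fs → V.toScheme.Opens :=
  fam (RingHom.id Γ(V.toScheme, ⊤)) (aa fs)

include hV in
theorem nonempty_HE_equiv_koszulHLim (i : ℕ) :
    Nonempty (HE (ab' M) (i + 1) (V.ι ''ᵁ (⨆ j : II fs, famB V fs j)) ≃+
      CohIII.koszulHLim fs (ModuleCat.of Γ(V.toScheme, ⊤) ((M.restrict V.ι).val.obj (op ⊤)))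
        (i + 2)) := by
  haveI : IsAffine V.toScheme := hV
  haveI : (M.restrict V.ι).IsQuasicoherent :=
    Scheme.Modules.isQuasicoherent_restrictFunctor V.ι M
  have hsup : V.ι ''ᵁ (⨆ j : II fs, famB V fs j) = iSup (famX V (famB V fs)) :=
    Scheme.Hom.image_iSup V.ι _
  rw [hsup]
  have h : ∀ (p : ℕ) (σ : Fin (p + 1) → II fs) (r : ℕ),
      Subsingleton (CohTop.HU (ab' M) (r + 1) (iInf fun k => famX V (famB V fs) (σ k))) := by
    intro p σ r
    have haff : IsAffineOpen (iInf fun k => famX V (famB V fs) (σ k)) := by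
      rw [← Groth.Agent.S0493.prod_eq_iInf (famX V (famB V fs)) σ, ← image_Ux, Ux_fam]
      exact ((isAffineOpen_top V.toScheme).basicOpen _).image_of_isOpenImmersion V.ι
    exact subsingleton_HE_of_isAffineOpen haff M r
  obtain ⟨e2⟩ := Groth.Agent.S0464.result (ab' M) (famX V (famB V fs)) h (i + 1)
  obtain ⟨e3⟩ := cech_equiv V (famB V fs) M (i + 1)
  obtain ⟨e4⟩ := nonempty_cech_equiv_koszulHLim (M.restrict V.ι) fs (i + 1) (by omega)
  exact ⟨e2.symm.trans (e3.trans e4)⟩

end Main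


section Low

variable {X : Scheme.{u}} (M : X.Modules) [M.IsQuasicoherent] (V : X.Opens) (hV : IsAffineOpen V)
  (fs : List Γ(V.toScheme, ⊤))

lemma Ufs_eq_iSup : Ufs (RingHom.id Γ(V.toScheme, ⊤)) fs = ⨆ j : II fs, famB V fs j := by
  rw [Ufs_eq]
  apply le_antisymm
  · exact iSup_le fun j => le_iSup (famB V fs) (ULift.up j)
  · exact iSup_le fun i => le_iSup
      (fun j : Fin fs.length => V.toScheme.basicOpen ((RingHom.id Γ(V.toScheme, ⊤)) (fs.get j))) i.down

/-- the open of `X` covered by the basic opens -/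
noncomputable abbrev WX : X.Opens := V.ι ''ᵁ (Ufs (RingHom.id Γ(V.toScheme, ⊤)) fs)

/-- the affine open, as an image -/
noncomputable abbrev V₁ : X.Opens := V.ι ''ᵁ ⊤

lemma WX_le : WX V fs ≤ V₁ V := V.ι.image_mono le_top

include hV in
theorem nonempty_HE_equiv_koszulHLim' (i : ℕ) :
    Nonempty (HE (ab' M) (i + 1) (WX V fs) ≃+
      CohIII.koszulHLim fs (ModuleCat.of Γ(V.toScheme, ⊤) ((M.restrict V.ι).val.obj (op ⊤)))
        (i + 2)) := by
  unfold WX
  rw [Ufs_eq_iSup]
  exact nonempty_HE_equiv_koszulHLim M V hV fs i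

include hV in
theorem subsingleton_koszul_zero_iff :
    Subsingleton (CohIII.koszulHLim fs
        (ModuleCat.of Γ(V.toScheme, ⊤) ((M.restrict V.ι).val.obj (op ⊤))) 0) ↔
      Function.Injective (res M (WX_le V fs)) := by
  haveI : IsAffine V.toScheme := hV
  haveI : (M.restrict V.ι).IsQuasicoherent :=
    Scheme.Modules.isQuasicoherent_restrictFunctor V.ι M
  obtain ⟨e⟩ := nonempty_ker_equiv (M.restrict V.ι) (RingHom.id Γ(V.toScheme, ⊤))
    (ModuleCat.of Γ(V.toScheme, ⊤) ((M.restrict V.ι).val.obj (op ⊤))) (eX (M.restrict V.ι)) fs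
  rw [← e.toEquiv.subsingleton_congr]
  refine ((Submodule.subsingleton_iff_eq_bot).trans LinearMap.ker_eq_bot).trans ?_
  constructor
  · intro hinj s t hst
    have h1 := @hinj s t (by
      apply toSec_injective
      exact hst)
    exact h1
  · intro hinj s t hst
    apply hinj
    exact congrArg (toSec (F := M.restrict V.ι) (φ := RingHom.id Γ(V.toScheme, ⊤))) hst

include hV in
theorem subsingleton_koszul_one_iff :
    Subsingleton (CohIII.koszulHLim fs
        (ModuleCat.of Γ(V.toScheme, ⊤) ((M.restrict V.ι).val.obj (op ⊤))) 1) ↔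
      Function.Surjective (res M (WX_le V fs)) := by
  haveI : IsAffine V.toScheme := hV
  haveI : (M.restrict V.ι).IsQuasicoherent :=
    Scheme.Modules.isQuasicoherent_restrictFunctor V.ι M
  obtain ⟨e⟩ := nonempty_coker_equiv (M.restrict V.ι) (RingHom.id Γ(V.toScheme, ⊤))
    (ModuleCat.of Γ(V.toScheme, ⊤) ((M.restrict V.ι).val.obj (op ⊤))) (eX (M.restrict V.ι)) fs
  rw [← e.toEquiv.subsingleton_congr]
  refine ((Submodule.Quotient.subsingleton_iff).trans LinearMap.range_eq_top).trans ?_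
  constructor
  · intro hsurj t
    obtain ⟨s, hs⟩ := hsurj (ofSec t)
    exact ⟨s, congrArg (toSec (F := M.restrict V.ι) (φ := RingHom.id Γ(V.toScheme, ⊤))) hs⟩
  · intro hsurj t
    obtain ⟨s, hs⟩ := hsurj
      (toSec (F := M.restrict V.ι) (φ := RingHom.id Γ(V.toScheme, ⊤)) t)
    refine ⟨s, ?_⟩
    apply toSec_injective
    exact hs

end Low

end Groth.Agent.Lib.T2H4.AffKz
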