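import Mathlib
import Groth.Agent.Lib.Helper16LocCohShift

/-!
# Vanishing of the local cohomology sheaves can be tested on a basis (helper4)
-/

set_option autoImplicit false
set_option linter.unusedSectionVars false

namespace Groth.Agent.Lib.T2H4.HZshBasis

universe u
open CategoryTheory CategoryTheory.Limits TopologicalSpace Opposite LocCohZ
open Groth.Agent.Lib.Helper16.LocCohShift Groth.Agent.Lib.Helper16.ClosedEmb

variable {X : TopCat.{u}} (U : Opens X) (F : CohTop.Ab X) (𝔅 : Set (Opens X))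
  (hB : ∀ (V : Opens X) (x : X), x ∈ V → ∃ V' ∈ 𝔅, x ∈ V' ∧ V' ≤ V)

include hB in
theorem HZ_zero_of_basis
    (h0 : ∀ V' ∈ 𝔅, Subsingleton (LocCohZ.HZ F 0 (inf_le_left : V' ⊓ U ≤ V'))) (V : Opens X) :
    Subsingleton (LocCohZ.HZ F 0 (inf_le_left : V ⊓ U ≤ V)) := by
  rw [(LocCohZ.sect0Equiv F (inf_le_left : V ⊓ U ≤ V)).toEquiv.subsingleton_congr]
  have key : ∀ c : LocCohZ.sectZ F (inf_le_left : V ⊓ U ≤ V), c = 0 := by
    intro c
    apply Subtype.ext
    change c.1 = 0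
    let Fs : TopCat.Sheaf AddCommGrpCat.{u} X := F
    choose W hW hxW hWV using fun x : V => hB V x.1 x.2
    refine TopCat.Sheaf.eq_of_locally_eq' Fs W V (fun x => homOfLE (hWV x)) ?_ c.1 0 ?_
    · intro x hx
      exact Opens.mem_iSup.2 ⟨⟨x, hx⟩, hxW ⟨x, hx⟩⟩
    · intro x
      rw [map_zero]
      have := h0 (W x) (hW x)
      have hs : F.obj.map (homOfLE (hWV x)).op c.1 ∈
          LocCohZ.sectZ F (inf_le_left : W x ⊓ U ≤ W x) := by
        rw [AddMonoidHom.mem_ker]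
        have hc : F.obj.map (homOfLE (inf_le_left : V ⊓ U ≤ V)).op c.1 = 0 := c.2
        have hle : W x ⊓ U ≤ V ⊓ U := inf_le_inf_right U (hWV x)
        have e1 : F.obj.map (homOfLE (inf_le_left : W x ⊓ U ≤ W x)).op
            (F.obj.map (homOfLE (hWV x)).op c.1) =
            F.obj.map (homOfLE hle).op (F.obj.map (homOfLE (inf_le_left : V ⊓ U ≤ V)).op c.1) := by
          rw [← ConcreteCategory.comp_apply, ← ConcreteCategory.comp_apply, ← F.obj.map_comp,
            ← F.obj.map_comp]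
          rfl
        change F.obj.map (homOfLE (inf_le_left : W x ⊓ U ≤ W x)).op
            (F.obj.map (homOfLE (hWV x)).op c.1) = 0
        rw [e1, hc, map_zero]
      have hsub : Subsingleton (LocCohZ.sectZ F (inf_le_left : W x ⊓ U ≤ W x)) :=
        (LocCohZ.sect0Equiv F (inf_le_left : W x ⊓ U ≤ W x)).toEquiv.symm.subsingleton
      exact congrArg Subtype.val (Subsingleton.elim
        (⟨_, hs⟩ : LocCohZ.sectZ F (inf_le_left : W x ⊓ U ≤ W x)) 0)
  exact ⟨fun a b => (key a).trans (key b).symm⟩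

include hB in
theorem HZsh_isZero_of_basis (n : ℕ)
    (h : ∀ V' ∈ 𝔅, ∀ i : ℕ, i < n → Subsingleton (LocCohZ.HZ F i (inf_le_left : V' ⊓ U ≤ V'))) :
    ∀ i : ℕ, i < n → IsZero ((LocCohZ.HZsh U i).obj F) := by
  intro i hi
  cases i with
  | zero =>
    exact (HZsh_zero_iff U F).2 (HZ_zero_of_basis U F 𝔅 hB (fun V' hV' => h V' hV' 0 hi))
  | succ k =>
    rw [HZsh_succ_iff, locSurj_iff]
    intro V t x hx
    obtain ⟨V', hV', hxV', hle⟩ := hB V x hx
    have hsurj := (secSurj_iff U ((DD F).g k) V').2 ((homSurj_iff U _ V').1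
      ((HZ_succ_iff U F k V').1 (h V' hV' (k + 1) hi)))
    obtain ⟨s, hs⟩ := hsurj (((LocCohZ.sectSuppF U).obj ((DD F).Z (k + 1))).obj.map (homOfLE hle).op t)
    exact ⟨V', hle, ⟨s, hs⟩, hxV'⟩

end Groth.Agent.Lib.T2H4.HZshBasis
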