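import Mathlib
import Groth.Prelude.Def_Wider
import Groth.Prelude.Def_CAlg
import Groth.Prelude.Def_ega3
import Groth.Agent.S0318
import Groth.Agent.Lib.Helper8LCAdd
import Groth.Agent.Lib.T2H2KzCechD
import Groth.Agent.Lib.Helper1ExtCech4
import Groth.Agent.Lib.Helper28DepthLoc
import Groth.Agent.Lib.Helper28DepthBC

/-!
# Koszul colimit cohomology and depth (helper4)

* `forall_subsingleton_H_iff`: `H^i_I(M) = 0` for `i < n` iff `n ≤ depth_I M` (Noetherian, finite).
* `forall_subsingleton_koszulHLim_iff`: the same for the colimit of Koszul cohomologies.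
* `depth_eq_of_isLocalizedModule`: two localizations at a prime have the same depth.
-/

set_option autoImplicit false

namespace Groth.Agent.Lib.T2H4.KzDepth

universe u
open CategoryTheory CategoryTheory.Limits
open Groth.Agent.Lib.Helper28

section LC

variable {R : Type u} [CommRing R] [IsNoetherianRing R] (I : Ideal R) (M : Type u)
  [AddCommGroup M] [Module R M] [Module.Finite R M]

omit [IsNoetherianRing R] in
theorem subsingleton_H_of_smul_top_eq_top (hIM : I • (⊤ : Submodule R M) = ⊤) (i : ℕ) :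
    Subsingleton (LocCoh.H I i M) := by
  obtain ⟨r, hr1, hr0⟩ := Submodule.exists_sub_one_mem_and_smul_eq_zero_of_fg_of_le_smul I
    (⊤ : Submodule R M) Module.Finite.fg_top hIM.ge
  have key : ∀ y : LocCoh.H I i M, y = 0 := by
    intro y
    have h1 : r • y = 0 :=
      Groth.Agent.Lib.Helper8.LC.smul_H_eq_zero_of_smul_eq_zero I i r M
        (fun m => hr0 m trivial) y
    obtain ⟨k, hk⟩ := Groth.Agent.Lib.Helper8.LC.isPowerTorsion_H I i (ModuleCat.of R M) y
    have h2 : (r - 1) ^ k • y = 0 := hk _ (Ideal.pow_mem_pow hr1 k)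
    have hcop : IsCoprime r ((r - 1) ^ k) := by
      apply IsCoprime.pow_right
      exact ⟨1, -1, by ring⟩
    obtain ⟨a, b, hab⟩ := hcop
    calc y = (1 : R) • y := (one_smul _ _).symm
      _ = (a * r + b * (r - 1) ^ k) • y := by rw [hab]
      _ = a • (r • y) + b • ((r - 1) ^ k • y) := by rw [add_smul, mul_smul, mul_smul]
      _ = 0 := by rw [h1, h2, smul_zero, smul_zero, add_zero]
  exact ⟨fun a b => by rw [key a, key b]⟩

theorem forall_subsingleton_H_iff (n : ℕ) :
    (∀ i : ℕ, i < n → Subsingleton (LocCoh.H I i M)) ↔ (n : ℕ∞) ≤ LocCoh.idealDepth I M := by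
  by_cases hIM : I • (⊤ : Submodule R M) = ⊤
  · rw [idealDepth_eq_top_of_smul_top_eq_top I M hIM]
    simp only [le_top, iff_true]
    intro i _
    exact subsingleton_H_of_smul_top_eq_top I M hIM i
  · obtain ⟨d, hd⟩ := ENat.ne_top_iff_exists.mp (idealDepth_ne_top hIM)
    have key := (Groth.Agent.S0318.result R I M hIM d).1 hd.symm
    rw [← hd]
    constructor
    · intro h
      by_contra hlt
      have hdn : d < n := by
        rw [not_le] at hlt
        exact_mod_cast hlt
      have := key.2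
      exact absurd (h d hdn) (not_subsingleton _)
    · intro hle i hi
      have hnd : n ≤ d := by exact_mod_cast hle
      exact key.1 i (lt_of_lt_of_le hi hnd)

theorem forall_subsingleton_koszulHLim_iff (fs : List R) (n : ℕ) :
    (∀ i : ℕ, i < n → Subsingleton (CohIII.koszulHLim fs (ModuleCat.of R M) i)) ↔
      (n : ℕ∞) ≤ LocCoh.idealDepth (Ideal.span {x : R | x ∈ fs}) M := by
  rw [← forall_subsingleton_H_iff]
  refine forall₂_congr fun i _ => ?_
  obtain ⟨e4⟩ := Groth.Agent.Lib.T2H2.KzCech.nonempty_koszulHLim_equiv_extCechH fs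
    (ModuleCat.of R M) i
  obtain ⟨e5⟩ := Groth.Agent.Lib.Helper1.ExtCech4.nonempty_iso fs (ModuleCat.of R M) i
  exact (e4.toEquiv.trans e5.toLinearEquiv.toEquiv).subsingleton_congr

end LC

section Transfer

variable {A : Type u} [CommRing A] (p : Ideal A) [p.IsPrime] {N : Type u} [AddCommGroup N]
  [Module A N]
  {B₁ B₂ : Type u} [CommRing B₁] [CommRing B₂] [Algebra A B₁] [Algebra A B₂]
  [IsLocalization.AtPrime B₁ p] [IsLocalization.AtPrime B₂ p] [IsLocalRing B₁] [IsLocalRing B₂]
  [IsNoetherianRing B₁] [IsNoetherianRing B₂]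
  {N₁ N₂ : Type u} [AddCommGroup N₁] [AddCommGroup N₂] [Module A N₁] [Module A N₂]
  [Module B₁ N₁] [Module B₂ N₂] [IsScalarTower A B₁ N₁] [IsScalarTower A B₂ N₂]
  (f₁ : N →ₗ[A] N₁) (f₂ : N →ₗ[A] N₂) [IsLocalizedModule p.primeCompl f₁]
  [IsLocalizedModule p.primeCompl f₂] [Module.Finite B₁ N₁]

include p f₁ f₂ in
theorem depth_eq_of_isLocalizedModule : LocCoh.depth B₁ N₁ = LocCoh.depth B₂ N₂ := by
  let σ : B₁ ≃ₐ[A] B₂ := IsLocalization.algEquiv p.primeCompl B₁ B₂
  letI : Algebra B₁ B₂ := σ.toRingEquiv.toRingHom.toAlgebra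
  letI : Module B₁ N₂ := Module.compHom N₂ σ.toRingEquiv.toRingHom
  haveI : IsScalarTower B₁ B₂ N₂ := ⟨fun a b y => by
    change (σ a * b) • y = σ a • (b • y)
    rw [mul_smul]⟩
  haveI : IsScalarTower A B₁ N₂ := ⟨fun a b y => by
    change σ (a • b) • y = a • (σ b • y)
    rw [map_smul, smul_assoc]⟩
  haveI : IsLocalHom (algebraMap B₁ B₂) := by
    refine ⟨fun a ha => ?_⟩
    have h2 : IsUnit (σ.symm (σ a)) := ha.map σ.symm
    rwa [AlgEquiv.symm_apply_apply] at h2
  let τ : N₁ ≃ₗ[A] N₂ := IsLocalizedModule.linearEquiv p.primeCompl f₁ f₂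
  let τ' : N₁ ≃ₗ[B₁] N₂ := LinearEquiv.extendScalarsOfIsLocalization p.primeCompl B₁ τ
  haveI : Module.Finite B₁ N₂ := Module.Finite.equiv τ'
  have h1 : LocCoh.depth B₁ N₁ = LocCoh.depth B₁ N₂ := idealDepth_congr τ' _
  rw [h1]
  exact depth_eq_depth_of_isLocalHom_of_finite (A := B₁) (B := B₂) (M := N₂)

end Transfer
end Groth.Agent.Lib.T2H4.KzDepth
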