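import Mathlib
import Groth.Prelude.Def_LocCohZ
import Groth.Prelude.Def_CAlg
import Groth.Prelude.Def_FlatMod2
import Groth.Agent.Lib.T2H4KzDepth
import Groth.Agent.Lib.Helper2LocFree
import Groth.Agent.Lib.Helper23FinType2
import Groth.Agent.Lib.T2H4AffKz
import Groth.Agent.Lib.T2H4HZshBasis

/-!
# Local cohomology sheaves and depth of stalks (helper4)

`main`: on a locally Noetherian scheme, for a coherent module `M` and an open `U`, the sheaves
`ℋ^i_Y(M)` (`Y` the complement of `U`) vanish for `i < n` iff `depth M_x ≥ n` for all `x ∉ U`.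
-/

set_option autoImplicit false

namespace Groth.Agent.Lib.T2H4.HZshDepth

universe u
open CategoryTheory CategoryTheory.Limits TopologicalSpace Opposite AlgebraicGeometry
open Groth.Agent.Lib.Helper28 Groth.Agent.Lib.Helper2.FlatOver Groth.Agent.Lib.Helper2.QCoh
open Groth.Agent.Lib.Helper23.FinType

section Stalk

variable {X : Scheme.{u}} [IsLocallyNoetherian X] (M : X.Modules) [M.IsQuasicoherent]
  [hM : SheafOfModules.IsFiniteType (R := X.ringCatSheaf) M]
  {V : X.Opens} (hV : IsAffineOpen V)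

theorem depth_stalk_eq (x : X) (hx : x ∈ V) :
    LocCoh.depth (X.presheaf.stalk x) (M.presheaf.stalk x) =
      LocCoh.depth (Localization.AtPrime (hV.primeIdealOf ⟨x, hx⟩).asIdeal)
        (LocalizedModule (hV.primeIdealOf ⟨x, hx⟩).asIdeal.primeCompl Γ(M, V)) := by
  letI := X.presheaf.algebra_section_stalk ⟨x, hx⟩
  haveI := hV.isLocalization_stalk ⟨x, hx⟩
  letI := moduleStalkSections M V x hx
  haveI : IsScalarTower Γ(X, V) (X.presheaf.stalk x) (M.presheaf.stalk x) := by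
    refine ⟨fun a b y => ?_⟩
    change (X.presheaf.germ V x hx a * b) • y = X.presheaf.germ V x hx a • (b • y)
    rw [mul_smul]
  haveI := isLocalizedModule_germ hV M x hx
  haveI : IsNoetherianRing Γ(X, V) := IsLocallyNoetherian.component_noetherian ⟨V, hV⟩
  haveI : Module.Finite Γ(X, V) Γ(M, V) := finite_of_isFiniteType M hV
  exact (Groth.Agent.Lib.T2H4.KzDepth.depth_eq_of_isLocalizedModule
    (hV.primeIdealOf ⟨x, hx⟩).asIdeal
    (LocalizedModule.mkLinearMap (hV.primeIdealOf ⟨x, hx⟩).asIdeal.primeCompl Γ(M, V))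
    (germₗ M V x hx)).symm

theorem le_idealDepth_iff (I : Ideal Γ(X, V)) (n : ℕ) :
    (n : ℕ∞) ≤ LocCoh.idealDepth I Γ(M, V) ↔
      ∀ (x : X) (hx : x ∈ V), I ≤ (hV.primeIdealOf ⟨x, hx⟩).asIdeal →
        (n : ℕ∞) ≤ LocCoh.depth (X.presheaf.stalk x) (M.presheaf.stalk x) := by
  haveI : IsNoetherianRing Γ(X, V) := IsLocallyNoetherian.component_noetherian ⟨V, hV⟩
  haveI : Module.Finite Γ(X, V) Γ(M, V) := finite_of_isFiniteType M hV
  rw [idealDepth_eq_iInf_depth_localization I Γ(M, V)]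
  simp only [le_iInf_iff]
  constructor
  · intro h x hx hI
    rw [depth_stalk_eq M hV x hx]
    exact h (hV.primeIdealOf ⟨x, hx⟩) hI
  · intro h p hp
    have key : ∀ q : PrimeSpectrum Γ(X, V), q = p →
        (n : ℕ∞) ≤ LocCoh.depth (Localization.AtPrime q.asIdeal)
          (LocalizedModule q.asIdeal.primeCompl Γ(M, V)) →
        (n : ℕ∞) ≤ LocCoh.depth (Localization.AtPrime p.asIdeal)
          (LocalizedModule p.asIdeal.primeCompl Γ(M, V)) := by
      rintro q rfl hq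
      exact hq
    apply key _ (primeIdealOf_fromSpec hV p)
    rw [← depth_stalk_eq M hV (hV.fromSpec p) (fromSpec_mem hV p)]
    apply h _ (fromSpec_mem hV p)
    rw [primeIdealOf_fromSpec hV p]
    exact hp

omit [IsLocallyNoetherian X] in
theorem span_le_primeIdealOf_iff (fs : List Γ(X, V)) (x : X) (hx : x ∈ V) :
    Ideal.span {f : Γ(X, V) | f ∈ fs} ≤ (hV.primeIdealOf ⟨x, hx⟩).asIdeal ↔
      ∀ f ∈ fs, x ∉ X.basicOpen f := by
  rw [Ideal.span_le]
  constructor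
  · intro h f hf
    rw [Groth.Agent.Lib.Helper2.mem_basicOpen_iff_notMem_primeIdealOf hV x hx, not_not]
    exact h hf
  · intro h f hf
    have := h f hf
    rw [Groth.Agent.Lib.Helper2.mem_basicOpen_iff_notMem_primeIdealOf hV x hx, not_not] at this
    exact this

end Stalk


section Affine

open Groth.Agent.Lib.T2H2.LowCechR Groth.Agent.Lib.T2H4.AffKz Groth.Agent.Lib.T2H4.AffLES
open Groth.Agent.Lib.Helper23.AffVanish Groth.Agent.Lib.Helper6 LocCohZ

variable {X : Scheme.{u}}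

lemma mem_Ufs_iff {Y : Scheme.{u}} (fs : List Γ(Y, ⊤)) (y : Y) :
    y ∈ Ufs (RingHom.id Γ(Y, ⊤)) fs ↔ ∃ f ∈ fs, y ∈ Y.basicOpen f := by
  induction fs with
  | nil =>
    constructor
    · intro h
      exact (h : y ∈ (⊥ : Y.Opens)).elim
    · rintro ⟨f, hf, -⟩
      simp at hf
  | cons g gs ih =>
    change y ∈ Y.basicOpen ((RingHom.id Γ(Y, ⊤)) g) ⊔ Ufs (RingHom.id Γ(Y, ⊤)) gs ↔ _
    rw [← SetLike.mem_coe, Opens.coe_sup, Set.mem_union, SetLike.mem_coe, SetLike.mem_coe, ih]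
    constructor
    · rintro (h | ⟨f, hf, h⟩)
      · exact ⟨g, List.mem_cons_self, h⟩
      · exact ⟨f, List.mem_cons_of_mem _ hf, h⟩
    · rintro ⟨f, hf, h⟩
      rcases List.mem_cons.1 hf with rfl | hf'
      · exact Or.inl h
      · exact Or.inr ⟨f, hf', h⟩

lemma mem_WX_iff (V : X.Opens) (fs : List Γ(V.toScheme, ⊤)) (x : X) :
    x ∈ WX V fs ↔ ∃ f ∈ fs, x ∈ X.basicOpen (U := V.ι ''ᵁ ⊤) f := by
  constructor
  · rintro ⟨v, hv, rfl⟩
    obtain ⟨f, hf, hvf⟩ := (mem_Ufs_iff fs v).1 hv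
    refine ⟨f, hf, ?_⟩
    exact Scheme.Opens.mem_basicOpen_toScheme.1 hvf
  · rintro ⟨f, hf, hxf⟩
    have hxV : x ∈ V := by
      have h1 : x ∈ V.ι ''ᵁ ⊤ := X.basicOpen_le f hxf
      rwa [Scheme.Opens.ι_image_top] at h1
    refine ⟨⟨x, hxV⟩, ?_, rfl⟩
    exact (mem_Ufs_iff fs _).2 ⟨f, hf, Scheme.Opens.mem_basicOpen_toScheme.2 hxf⟩

lemma exists_list [IsLocallyNoetherian X] (V : X.Opens) (hV : IsAffineOpen V) (U : X.Opens) :
    ∃ fs : List Γ(V.toScheme, ⊤), WX V fs = V ⊓ U := by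
  haveI : IsAffine V.toScheme := hV
  haveI : IsNoetherian V.toScheme := {}
  have hc : IsCompact ((V.ι ⁻¹ᵁ U : V.toScheme.Opens) : Set V.toScheme) :=
    NoetherianSpace.isCompact _
  obtain ⟨s, hs, hU⟩ := (isCompact_and_isOpen_iff_finite_and_eq_biUnion_basicOpen
    (X := V.toScheme)).1 ⟨hc, (V.ι ⁻¹ᵁ U).isOpen⟩
  refine ⟨hs.toFinset.toList, ?_⟩
  have h1 : Ufs (RingHom.id Γ(V.toScheme, ⊤)) hs.toFinset.toList = V.ι ⁻¹ᵁ U := by
    ext v
    rw [SetLike.mem_coe, mem_Ufs_iff, hU]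
    simp only [Finset.mem_toList, Set.Finite.mem_toFinset, Set.mem_iUnion, SetLike.mem_coe,
      exists_prop]
  unfold WX
  rw [h1, Scheme.Hom.image_preimage_eq_opensRange_inf, Scheme.Opens.opensRange_ι]

end Affine

section Main

open Groth.Agent.Lib.T2H2.LowCechR Groth.Agent.Lib.T2H4.AffKz Groth.Agent.Lib.T2H4.AffLES
open Groth.Agent.Lib.Helper23.AffVanish Groth.Agent.Lib.Helper6 LocCohZ

variable {X : Scheme.{u}} (M : X.Modules) [M.IsQuasicoherent]

lemma isAffineOpen_V₁ (V : X.Opens) (hV : IsAffineOpen V) : IsAffineOpen (V₁ V) := by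
  unfold V₁
  rw [Scheme.Opens.ι_image_top]
  exact hV

/-- Koszul colimit vs cohomology with supports on the pair `WX ≤ V₁` -/
theorem subsingleton_HZ_iff_koszul (V : X.Opens) (hV : IsAffineOpen V)
    (fs : List Γ(V.toScheme, ⊤)) (i : ℕ) :
    Subsingleton (LocCohZ.HZ (X := X.carrier) (Coh.toAb M) i (WX_le V fs)) ↔
      Subsingleton (CohIII.koszulHLim fs
        (ModuleCat.of Γ(V.toScheme, ⊤) ((M.restrict V.ι).val.obj (op ⊤))) i) := by
  have hV₁ : IsAffineOpen (V₁ V) := isAffineOpen_V₁ V hV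
  match i with
  | 0 => rw [subsingleton_HZ_zero_iff, subsingleton_koszul_zero_iff M V hV fs]
  | 1 => rw [subsingleton_HZ_one_iff M hV₁, subsingleton_koszul_one_iff M V hV fs]
  | (i + 2) =>
    rw [subsingleton_HZ_succ_succ_iff M hV₁ (WX_le V fs) i]
    obtain ⟨e⟩ := nonempty_HE_equiv_koszulHLim' M V hV fs i
    exact e.toEquiv.subsingleton_congr

omit [M.IsQuasicoherent] in
theorem secTopModule_eq (V : X.Opens) :
    (CohIII.secTopModule V.toScheme (M.restrict V.ι) :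
      Module Γ(V.toScheme, ⊤) ((M.restrict V.ι).val.obj (op ⊤))) =
    (inferInstance : Module Γ(X, V.ι ''ᵁ ⊤) Γ(M, V.ι ''ᵁ ⊤)) := by
  apply Module.ext'
  intro r m
  have := Scheme.Modules.smul_restrictAppIso_hom_apply V.ι M ⊤ r m
  rw [Scheme.Opens.ι_appIso] at this
  exact this

variable [IsLocallyNoetherian X] [hM : SheafOfModules.IsFiniteType (R := X.ringCatSheaf) M]

theorem forall_koszul_iff_depth (V : X.Opens) (hV : IsAffineOpen V)
    (fs : List Γ(V.toScheme, ⊤)) (n : ℕ) :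
    (∀ i : ℕ, i < n → Subsingleton (CohIII.koszulHLim fs
        (ModuleCat.of Γ(V.toScheme, ⊤) ((M.restrict V.ι).val.obj (op ⊤))) i)) ↔
      ∀ x : X, x ∈ V₁ V → x ∉ WX V fs →
        (n : ℕ∞) ≤ LocCoh.depth (X.presheaf.stalk x) (M.presheaf.stalk x) := by
  have hV₁ : IsAffineOpen (V₁ V) := isAffineOpen_V₁ V hV
  haveI hN : IsNoetherianRing Γ(X, V₁ V) := IsLocallyNoetherian.component_noetherian ⟨V₁ V, hV₁⟩
  haveI : IsNoetherianRing Γ(V.toScheme, ⊤) := hN
  haveI hfin : Module.Finite Γ(X, V₁ V) Γ(M, V₁ V) := finite_of_isFiniteType M hV₁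
  haveI : Module.Finite Γ(V.toScheme, ⊤) ((M.restrict V.ι).val.obj (op ⊤)) := by
    change @Module.Finite Γ(X, V₁ V) Γ(M, V₁ V) _ _ (CohIII.secTopModule V.toScheme (M.restrict V.ι))
    rw [secTopModule_eq]
    exact hfin
  rw [Groth.Agent.Lib.T2H4.KzDepth.forall_subsingleton_koszulHLim_iff
    (R := Γ(V.toScheme, ⊤)) ((M.restrict V.ι).val.obj (op ⊤)) fs n]
  have h2 : LocCoh.idealDepth (Ideal.span {x : Γ(V.toScheme, ⊤) | x ∈ fs})
        ((M.restrict V.ι).val.obj (op ⊤)) =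
      LocCoh.idealDepth (R := Γ(X, V₁ V)) (Ideal.span {x : Γ(X, V₁ V) | x ∈ fs}) Γ(M, V₁ V) := by
    change @LocCoh.idealDepth Γ(X, V₁ V) _ (Ideal.span {x : Γ(X, V₁ V) | x ∈ fs}) Γ(M, V₁ V) _
      (CohIII.secTopModule V.toScheme (M.restrict V.ι)) = _
    rw [secTopModule_eq]
  rw [h2, le_idealDepth_iff M hV₁]
  constructor
  · intro h x hx hxW
    apply h x hx
    apply (span_le_primeIdealOf_iff hV₁ fs x hx).2
    intro f hf hxf
    exact hxW ((mem_WX_iff V fs x).2 ⟨f, hf, hxf⟩)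
  · intro h x hx hI
    apply h x hx
    rw [mem_WX_iff]
    rintro ⟨f, hf, hxf⟩
    exact (span_le_primeIdealOf_iff hV₁ fs x hx).1 hI f hf hxf

omit [M.IsQuasicoherent] [IsLocallyNoetherian X] hM in
lemma HZ_congr {Z : TopCat.{u}} (F : CohTop.Ab Z) (i : ℕ) {W V W' V' : Opens Z} (h : W ≤ V)
    (h' : W' ≤ V') (hW : W = W') (hV : V = V') :
    Subsingleton (LocCohZ.HZ F i h) ↔ Subsingleton (LocCohZ.HZ F i h') := by
  subst hW hV
  rfl

theorem HZ_affine_iff (U V : X.Opens) (hV : IsAffineOpen V) (n : ℕ) :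
    (∀ i : ℕ, i < n → Subsingleton (LocCohZ.HZ (X := X.carrier) (Coh.toAb M) i
        (inf_le_left : V ⊓ U ≤ V))) ↔
      ∀ x : X, x ∈ V → x ∉ U →
        (n : ℕ∞) ≤ LocCoh.depth (X.presheaf.stalk x) (M.presheaf.stalk x) := by
  obtain ⟨fs, hfs⟩ := exists_list V hV U
  have hV1 : V₁ V = V := Scheme.Opens.ι_image_top V
  have key : ∀ i : ℕ, Subsingleton (LocCohZ.HZ (X := X.carrier) (Coh.toAb M) i
        (inf_le_left : V ⊓ U ≤ V)) ↔
      Subsingleton (CohIII.koszulHLim fs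
        (ModuleCat.of Γ(V.toScheme, ⊤) ((M.restrict V.ι).val.obj (op ⊤))) i) := by
    intro i
    rw [← subsingleton_HZ_iff_koszul M V hV fs i]
    exact HZ_congr _ i _ _ hfs.symm hV1.symm
  have key2 : (∀ i : ℕ, i < n → Subsingleton (LocCohZ.HZ (X := X.carrier) (Coh.toAb M) i
        (inf_le_left : V ⊓ U ≤ V))) ↔
      (∀ i : ℕ, i < n → Subsingleton (CohIII.koszulHLim fs
        (ModuleCat.of Γ(V.toScheme, ⊤) ((M.restrict V.ι).val.obj (op ⊤))) i)) :=
    forall₂_congr fun i _ => key i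
  rw [key2, forall_koszul_iff_depth M V hV fs n]
  constructor
  · intro h x hx hxU
    apply h x (by rw [hV1]; exact hx)
    intro hxW
    rw [hfs] at hxW
    exact hxU hxW.2
  · intro h x hx hxW
    rw [hV1] at hx
    apply h x hx
    intro hxU
    apply hxW
    rw [hfs]
    exact ⟨hx, hxU⟩

theorem main (U : X.Opens) (n : ℕ) :
    (∀ i : ℕ, i < n → IsZero ((LocCohZ.HZsh (X := X.carrier) U i).obj (Coh.toAb M))) ↔
      ∀ x : X, x ∉ (U : Set X) →
        (n : ℕ∞) ≤ LocCoh.depth (X.presheaf.stalk x) (M.presheaf.stalk x) := by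
  constructor
  · intro h x hxU
    obtain ⟨V, hV, hxV, -⟩ := exists_isAffineOpen_mem_and_subset (x := x) (U := ⊤) trivial
    have h1 := (Groth.Agent.Lib.Helper16.LocCohShift.HZsh_isZero_iff_HZ (Coh.toAb M) U n).1 h V
    exact (HZ_affine_iff M U V hV n).1 h1 x hxV hxU
  · intro h
    apply Groth.Agent.Lib.T2H4.HZshBasis.HZsh_isZero_of_basis U (Coh.toAb M)
      {V : X.Opens | IsAffineOpen V}
    · intro V x hx
      obtain ⟨V', hV', hxV', hle⟩ := exists_isAffineOpen_mem_and_subset (x := x) (U := V) hx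
      exact ⟨V', hV', hxV', hle⟩
    · intro V hV i hi
      exact (HZ_affine_iff M U V hV n).2 (fun x _ hxU => h x hxU) i hi

end Main

end Groth.Agent.Lib.T2H4.HZshDepth
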