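import Mathlib
import Groth.Prelude.Def_LocCohZ
import Groth.Agent.Lib.Helper16LocCohShift

/-!
# Global sections of the top local cohomology sheaf (helper4)
-/

set_option autoImplicit false

namespace Groth.Agent.Lib.T2H4.HZshSec

universe u
open CategoryTheory CategoryTheory.Limits TopologicalSpace Opposite LocCohZ
open Groth.Agent.Lib.Helper16.SectSupp Groth.Agent.Lib.Helper16.ClosedEmb
  Groth.Agent.Lib.Helper16.DimShift Groth.Agent.Lib.Helper16.Flasque Groth.Agent.Lib.Helper23LocSS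
  Groth.Agent.Lib.Helper16.LocCohShift

variable {X : TopCat.{u}}

section Coker

variable (S : ShortComplex (CohTop.Ab X))

/-- `X₁ → X₂ → image g` -/
noncomputable def T1 : ShortComplex (CohTop.Ab X) :=
  ShortComplex.mk S.f (Abelian.factorThruImage S.g) (by
    apply (cancel_mono (Abelian.image.ι S.g)).1
    rw [Category.assoc, Abelian.image.fac, S.zero, zero_comp])

/-- `image g → X₃ → coker g` -/
noncomputable def T2 : ShortComplex (CohTop.Ab X) :=
  ShortComplex.mk (Abelian.image.ι S.g) (cokernel.π S.g) (kernel.condition _)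

lemma T2_shortExact : (T2 S).ShortExact where
  exact := ShortComplex.exact_of_f_is_kernel _ (kernelIsKernel _)
  mono_f := inferInstanceAs (Mono (Abelian.image.ι S.g))
  epi_g := inferInstanceAs (Epi (cokernel.π S.g))

variable (hS : S.Exact) [Mono S.f]

include hS in
lemma T1_shortExact : (T1 S).ShortExact := by
  have hex : (T1 S).Exact := by
    let φ : T1 S ⟶ S :=
      { τ₁ := 𝟙 _
        τ₂ := 𝟙 _
        τ₃ := Abelian.image.ι S.g
        comm₁₂ := by simp [T1]
        comm₂₃ := by simp [T1] }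
    haveI : Epi φ.τ₁ := inferInstanceAs (Epi (𝟙 _))
    haveI : IsIso φ.τ₂ := inferInstanceAs (IsIso (𝟙 _))
    haveI : Mono φ.τ₃ := inferInstanceAs (Mono (Abelian.image.ι S.g))
    exact (ShortComplex.exact_iff_of_epi_of_isIso_of_mono φ).2 hS
  exact
    { exact := hex
      mono_f := inferInstanceAs (Mono S.f)
      epi_g := inferInstanceAs (Epi (Abelian.factorThruImage S.g)) }

variable [TopCat.Sheaf.IsFlasque S.X₁] [TopCat.Sheaf.IsFlasque S.X₂] (V : Opens X)

include hS in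
theorem surjective_cokernel_π : Function.Surjective ((cokernel.π S.g).hom.app (op V)) := by
  have hT1 := T1_shortExact S hS
  haveI : TopCat.Sheaf.IsFlasque (T1 S).X₁ := inferInstanceAs (TopCat.Sheaf.IsFlasque S.X₁)
  haveI : TopCat.Sheaf.IsFlasque (T1 S).X₂ := inferInstanceAs (TopCat.Sheaf.IsFlasque S.X₂)
  haveI hI : TopCat.Sheaf.IsFlasque (T1 S).X₃ :=
    TopCat.Sheaf.IsFlasque.of_shortExact_of_isFlasque₁₂ hT1
  haveI : TopCat.Sheaf.IsFlasque (T2 S).X₁ := hI
  have hepi : Epi ((T2 S).g.1.app (op V)) :=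
    TopCat.Sheaf.IsFlasque.epi_of_shortExact (T2_shortExact S)
  rw [AddCommGrpCat.epi_iff_surjective] at hepi
  exact hepi

omit [TopCat.Sheaf.IsFlasque S.X₂] in
include hS in
theorem cokernel_π_eq_zero_iff (a : S.X₃.obj.obj (op V)) :
    (cokernel.π S.g).hom.app (op V) a = 0 ↔ ∃ c, S.g.hom.app (op V) c = a := by
  constructor
  · intro ha
    obtain ⟨b, hb⟩ := exists_of_isKernel (T2 S) (T2_shortExact S) V a ha
    haveI : TopCat.Sheaf.IsFlasque (T1 S).X₁ := inferInstanceAs (TopCat.Sheaf.IsFlasque S.X₁)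
    have hepi : Epi ((T1 S).g.1.app (op V)) :=
      TopCat.Sheaf.IsFlasque.epi_of_shortExact (T1_shortExact S hS)
    rw [AddCommGrpCat.epi_iff_surjective] at hepi
    obtain ⟨c, hc⟩ := hepi b
    refine ⟨c, ?_⟩
    have h1 : S.g.hom.app (op V) c =
        (Abelian.image.ι S.g).hom.app (op V) ((Abelian.factorThruImage S.g).hom.app (op V) c) :=
      congrArg (fun m => m.hom.app (op V) c) (Abelian.image.fac S.g).symm
    rw [h1]
    exact (congrArg _ hc).trans hb
  · rintro ⟨c, rfl⟩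
    exact congrArg (fun m => m.hom.app (op V) c) (cokernel.condition S.g)

end Coker


section Main

variable (U : Opens X) (F : CohTop.Ab X)

/-- sections of `Γ_Z G` over `V` are the sections of `G` over `V` vanishing on `V ⊓ U` -/
noncomputable def eΓ (G : CohTop.Ab X) (V : Opens X) :
    ((LocCohZ.sectSuppF U).obj G).obj.obj (op V) ≃+
      LocCohZ.sectZ G (inf_le_left : V ⊓ U ≤ V) :=
  AddEquiv.ofBijective
    (AddMonoidHom.codRestrict ((ιΓ U G).hom.app (op V)).hom _
      (fun t => (exists_sectSupp_iff U G V _).1 ⟨t, rfl⟩))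
    ⟨fun a b hab => ιΓ_injective U G V (congrArg Subtype.val hab),
     fun s => by
      obtain ⟨t, ht⟩ := (exists_sectSupp_iff U G V s.1).2 s.2
      exact ⟨t, Subtype.ext ht⟩⟩

lemma eΓ_coe (G : CohTop.Ab X) (V : Opens X)
    (t : ((LocCohZ.sectSuppF U).obj G).obj.obj (op V)) :
    ((eΓ U G V t : LocCohZ.sectZ G (inf_le_left : V ⊓ U ≤ V)) : G.obj.obj (op V)) =
      (ιΓ U G).hom.app (op V) t := rfl

lemma eΓ_nat {G G' : CohTop.Ab X} (g : G ⟶ G') (V : Opens X)
    (t : ((LocCohZ.sectSuppF U).obj G).obj.obj (op V)) :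
    ((eΓ U G' V (((LocCohZ.sectSuppF U).map g).hom.app (op V) t) :
        LocCohZ.sectZ G' (inf_le_left : V ⊓ U ≤ V)) : G'.obj.obj (op V)) =
      g.hom.app (op V) ((eΓ U G V t : LocCohZ.sectZ G (inf_le_left : V ⊓ U ≤ V)) :
        G.obj.obj (op V)) := by
  rw [eΓ_coe, eΓ_coe]
  exact congrArg (fun m => m.hom.app (op V) t) (ιΓ_nat U g)

variable (k : ℕ)

lemma SΓ_exact : (SΓ U F k).Exact := by
  haveI := sectSuppF_preservesFiniteLimits U
  haveI := ((DD F).hS k).mono_f
  exact ((DD F).hS k).exact.map_of_mono_of_preservesKernel (LocCohZ.sectSuppF U)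
    ((DD F).hS k).mono_f inferInstance

instance SΓ_mono : Mono (SΓ U F k).f := by
  haveI := sectSuppF_preservesFiniteLimits U
  haveI := ((DD F).hS k).mono_f
  exact inferInstanceAs (Mono ((LocCohZ.sectSuppF U).map ((DD F).f k)))

/-- the comparison map -/
noncomputable def Ψ (V : Opens X) :
    (zq (inf_le_left : V ⊓ U ≤ V) ⟶ (DD F).Z (k + 1)) →+
      (cokernel ((LocCohZ.sectSuppF U).map ((DD F).g k))).obj.obj (op V) :=
  ((cokernel.π ((LocCohZ.sectSuppF U).map ((DD F).g k))).hom.app (op V)).hom.comp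
    ((eΓ U ((DD F).Z (k + 1)) V).symm.toAddMonoidHom.comp
      (homZqEquiv ((DD F).Z (k + 1)) (inf_le_left : V ⊓ U ≤ V)).toAddMonoidHom)

variable [hfl : TopCat.Sheaf.IsFlasque ((LocCohZ.sectSuppF U).obj ((DD F).Z k))]

lemma Ψ_surjective (V : Opens X) : Function.Surjective (Ψ U F k V) := by
  haveI : TopCat.Sheaf.IsFlasque (SΓ U F k).X₁ := hfl
  haveI : TopCat.Sheaf.IsFlasque (SΓ U F k).X₂ := isFlasque_sectSupp_J U F k
  have h1 : Function.Surjective
      ((cokernel.π ((LocCohZ.sectSuppF U).map ((DD F).g k))).hom.app (op V)) :=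
    surjective_cokernel_π (SΓ U F k) (SΓ_exact U F k) V
  intro c
  obtain ⟨(t : ((LocCohZ.sectSuppF U).obj ((DD F).Z (k + 1))).obj.obj (op V)), ht⟩ := h1 c
  refine ⟨(homZqEquiv ((DD F).Z (k + 1)) (inf_le_left : V ⊓ U ≤ V)).symm
    (eΓ U ((DD F).Z (k + 1)) V t), ?_⟩
  change (cokernel.π ((LocCohZ.sectSuppF U).map ((DD F).g k))).hom.app (op V)
    ((eΓ U ((DD F).Z (k + 1)) V).symm
      (homZqEquiv ((DD F).Z (k + 1)) (inf_le_left : V ⊓ U ≤ V)
        ((homZqEquiv ((DD F).Z (k + 1)) (inf_le_left : V ⊓ U ≤ V)).symm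
          (eΓ U ((DD F).Z (k + 1)) V t)))) = c
  rw [AddEquiv.apply_symm_apply, AddEquiv.symm_apply_apply]
  exact ht

lemma Ψ_ker (V : Opens X) :
    (Ψ U F k V).ker =
      (Preadditive.rightComp (zq (inf_le_left : V ⊓ U ≤ V)) ((DD F).g k)).range := by
  haveI : TopCat.Sheaf.IsFlasque (SΓ U F k).X₁ := hfl
  haveI : TopCat.Sheaf.IsFlasque (SΓ U F k).X₂ := isFlasque_sectSupp_J U F k
  ext φ
  rw [AddMonoidHom.mem_ker, AddMonoidHom.mem_range]
  change (cokernel.π ((LocCohZ.sectSuppF U).map ((DD F).g k))).hom.app (op V)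
    ((eΓ U ((DD F).Z (k + 1)) V).symm
      (homZqEquiv ((DD F).Z (k + 1)) (inf_le_left : V ⊓ U ≤ V) φ)) = 0 ↔ _
  have key : ∀ a : ((LocCohZ.sectSuppF U).obj ((DD F).Z (k + 1))).obj.obj (op V),
      (cokernel.π ((LocCohZ.sectSuppF U).map ((DD F).g k))).hom.app (op V) a = 0 ↔
        ∃ c : ((LocCohZ.sectSuppF U).obj ((DD F).J k)).obj.obj (op V),
          ((LocCohZ.sectSuppF U).map ((DD F).g k)).hom.app (op V) c = a :=
    cokernel_π_eq_zero_iff (SΓ U F k) (SΓ_exact U F k) V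
  rw [key]
  constructor
  · rintro ⟨c, hc⟩
    refine ⟨(homZqEquiv ((DD F).J k) (inf_le_left : V ⊓ U ≤ V)).symm (eΓ U ((DD F).J k) V c), ?_⟩
    apply (homZqEquiv ((DD F).Z (k + 1)) (inf_le_left : V ⊓ U ≤ V)).injective
    apply Subtype.ext
    change ((homZqEquiv ((DD F).Z (k + 1)) (inf_le_left : V ⊓ U ≤ V)
      ((homZqEquiv ((DD F).J k) (inf_le_left : V ⊓ U ≤ V)).symm (eΓ U ((DD F).J k) V c) ≫
        (DD F).g k) : LocCohZ.sectZ ((DD F).Z (k + 1)) (inf_le_left : V ⊓ U ≤ V)) :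
          ((DD F).Z (k + 1)).obj.obj (op V)) = _
    rw [homZqEquiv_comp, AddEquiv.apply_symm_apply]
    have h2 := eΓ_nat U ((DD F).g k) V c
    have hc' : ((LocCohZ.sectSuppF U).map ((DD F).g k)).hom.app (op V) c =
        (eΓ U ((DD F).Z (k + 1)) V).symm
          (homZqEquiv ((DD F).Z (k + 1)) (inf_le_left : V ⊓ U ≤ V) φ) := hc
    rw [hc', AddEquiv.apply_symm_apply] at h2
    exact h2.symm
  · rintro ⟨ψ, hψ⟩
    refine ⟨(eΓ U ((DD F).J k) V).symm (homZqEquiv ((DD F).J k) (inf_le_left : V ⊓ U ≤ V) ψ), ?_⟩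
    apply (eΓ U ((DD F).Z (k + 1)) V).injective
    apply Subtype.ext
    rw [eΓ_nat, AddEquiv.apply_symm_apply, AddEquiv.apply_symm_apply, ← homZqEquiv_comp]
    have hψ' : ψ ≫ (DD F).g k = φ := hψ
    rw [hψ']

/-- sections of the cokernel sheaf are the dimension-shifting quotient -/
noncomputable def secCokerEquiv (V : Opens X) :
    (DD F).Q (zq (inf_le_left : V ⊓ U ≤ V)) k ≃+
      (cokernel ((LocCohZ.sectSuppF U).map ((DD F).g k))).obj.obj (op V) :=
  (QuotientAddGroup.quotientAddEquivOfEq (Ψ_ker U F k V).symm).trans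
    (QuotientAddGroup.quotientKerEquivOfSurjective (Ψ U F k V) (Ψ_surjective U F k V))

end Main


section Final

variable (U : Opens X) (F : CohTop.Ab X)

/-- sections of isomorphic sheaves -/
noncomputable def secEquiv {P Q : CohTop.Ab X} (e : P ≅ Q) (V : Opens X) :
    P.obj.obj (op V) ≃+ Q.obj.obj (op V) where
  toFun := e.hom.hom.app (op V)
  invFun := e.inv.hom.app (op V)
  left_inv t := congrArg (fun m : P ⟶ P => m.hom.app (op V) t) e.hom_inv_id
  right_inv t := congrArg (fun m : Q ⟶ Q => m.hom.app (op V) t) e.inv_hom_id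
  map_add' := map_add _

/-- transport of `HZ` along equalities of opens -/
noncomputable def hzCongr (i : ℕ) {W V W' V' : Opens X} (h : W ≤ V) (h' : W' ≤ V')
    (hW : W = W') (hV : V = V') : LocCohZ.HZ F i h ≃+ LocCohZ.HZ F i h' := by
  subst hW hV
  exact AddEquiv.refl _

attribute [local instance] Abelian.Ext.subsingleton_of_injective in
theorem nonempty_sections_equiv (d : ℕ)
    (h : ∀ i : ℕ, i < d → IsZero ((LocCohZ.HZsh U i).obj F)) :
    Nonempty (((LocCohZ.HZsh U d).obj F).obj.obj (op ⊤) ≃+ LocCohZ.HZc F d U) := by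
  haveI := sectSuppF_preservesFiniteLimits U
  have htop : (⊤ : Opens X) ⊓ U = U := top_inf_eq U
  cases d with
  | zero =>
    let e1 := secEquiv ((LocCohZ.sectSuppF U).rightDerivedZeroIsoSelf.app F) ⊤
    let e2 := eΓ U F ⊤
    let e3 := (LocCohZ.sect0Equiv F (inf_le_left : (⊤ : Opens X) ⊓ U ≤ ⊤)).symm
    let e4 := hzCongr F 0 (inf_le_left : (⊤ : Opens X) ⊓ U ≤ ⊤) (le_top : U ≤ ⊤) htop rfl
    exact ⟨e1.trans (e2.trans (e3.trans e4))⟩
  | succ k =>
    haveI hfl : TopCat.Sheaf.IsFlasque ((LocCohZ.sectSuppF U).obj ((DD F).Z k)) :=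
      flasque_Z U F (k + 1) h k (Nat.lt_succ_self k)
    let e1 := secEquiv (rightDerivedSuccIso (LocCohZ.sectSuppF U) (injectiveResolution F) k) ⊤
    let e2 := (secCokerEquiv U F k ⊤).symm
    obtain ⟨e3⟩ := ds.{u} (zq (inf_le_left : (⊤ : Opens X) ⊓ U ≤ ⊤)) k (DD F) (fun j q => by
      haveI : Injective ((DD F).J j) := (injectiveResolution F).injective j
      infer_instance)
    let e4 := hzCongr F (k + 1) (inf_le_left : (⊤ : Opens X) ⊓ U ≤ ⊤) (le_top : U ≤ ⊤) htop rfl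
    exact ⟨e1.trans (e2.trans (e3.symm.trans e4))⟩

end Final

end Groth.Agent.Lib.T2H4.HZshSec
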