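import Mathlib
import Groth.Agent.Lib.T2H4HZshSec
import Groth.Agent.Lib.T2H4HZshDepth

/-!
# Global sections of the top local cohomology sheaf of a locally free module (helper4)
-/

set_option autoImplicit false

namespace Groth.Agent.Lib.T2H4.HZshLF

universe u
open CategoryTheory CategoryTheory.Limits TopologicalSpace Opposite AlgebraicGeometry
open Groth.Agent.Lib.Helper28 Groth.Agent.Lib.Helper2.FlatOver Groth.Agent.Lib.Helper2.QCoh
open Groth.Agent.Lib.Helper23.FinType Groth.Agent.Lib.Helper2.LocFree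

variable {X : Scheme.{u}}

theorem isCoh_of_isFinLocFree (E : X.Modules) (hE : FlatMod.IsFinLocFree E) : Coh.IsCoh E := by
  have hfp := isFP_of_isFinLocFree E hE
  exact ⟨SheafOfModules.instIsQuasicoherentOfIsFinitePresentation E,
    SheafOfModules.instIsFiniteTypeOfIsFinitePresentation E⟩

variable [IsLocallyNoetherian X]

theorem depth_le_depth_stalk_of_isFinLocFree (M : X.Modules) (hM : FlatMod.IsFinLocFree M)
    (x : X) :
    LocCoh.depth (X.presheaf.stalk x) (X.presheaf.stalk x) ≤
      LocCoh.depth (X.presheaf.stalk x) (M.presheaf.stalk x) := by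
  have hcoh : Coh.IsCoh M := isCoh_of_isFinLocFree M hM
  haveI : M.IsQuasicoherent := hcoh.1
  haveI : SheafOfModules.IsFiniteType (R := X.ringCatSheaf) M := hcoh.2
  haveI hflat : Module.Flat (X.presheaf.stalk x) (M.presheaf.stalk x) :=
    isFlat_of_isFinLocFree M hM x
  obtain ⟨V, hV, hxV, -⟩ := exists_isAffineOpen_mem_and_subset (x := x) (U := ⊤) trivial
  haveI hfin : Module.Finite (X.presheaf.stalk x) (M.presheaf.stalk x) := by
    letI := X.presheaf.algebra_section_stalk ⟨x, hxV⟩
    haveI := hV.isLocalization_stalk ⟨x, hxV⟩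
    letI := moduleStalkSections M V x hxV
    haveI : IsScalarTower Γ(X, V) (X.presheaf.stalk x) (M.presheaf.stalk x) := by
      refine ⟨fun a b y => ?_⟩
      change (X.presheaf.germ V x hxV a * b) • y = X.presheaf.germ V x hxV a • (b • y)
      rw [mul_smul]
    haveI := isLocalizedModule_germ hV M x hxV
    haveI : Module.Finite Γ(X, V) Γ(M, V) := finite_of_isFiniteType M hV
    exact Module.Finite.of_isLocalizedModule (hV.primeIdealOf ⟨x, hxV⟩).asIdeal.primeCompl
      (germₗ M V x hxV)
  haveI : Module.Free (X.presheaf.stalk x) (M.presheaf.stalk x) :=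
    Module.free_of_flat_of_isLocalRing
  let b := Module.finBasis (X.presheaf.stalk x) (M.presheaf.stalk x)
  unfold LocCoh.depth
  rw [idealDepth_congr b.equivFun]
  exact idealDepth_le_idealDepth_pi_fin _ _ _

theorem main (U : X.Opens) (d : ℕ)
    (hdepth : ∀ x : ↥X, x ∉ (U : Set ↥X) →
      (d : ℕ∞) ≤ LocCoh.depth ↑(X.presheaf.stalk x) ↑(X.presheaf.stalk x))
    (M : X.Modules) (hM : FlatMod.IsFinLocFree M) :
    Nonempty (↑(((LocCohZ.HZsh (X := X.carrier) U d).obj (Coh.toAb M)).obj.obj (op ⊤)) ≃+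
      LocCohZ.HZM X M d U) := by
  have hcoh : Coh.IsCoh M := isCoh_of_isFinLocFree M hM
  haveI : M.IsQuasicoherent := hcoh.1
  haveI : SheafOfModules.IsFiniteType (R := X.ringCatSheaf) M := hcoh.2
  apply Groth.Agent.Lib.T2H4.HZshSec.nonempty_sections_equiv (X := X.carrier) U (Coh.toAb M) d
  apply (Groth.Agent.Lib.T2H4.HZshDepth.main M U d).2
  intro x hx
  exact (hdepth x hx).trans (depth_le_depth_stalk_of_isFinLocFree M hM x)

end Groth.Agent.Lib.T2H4.HZshLF
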