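import Groth.Agent.Lib.T2H4ReflExt
import Groth.Agent.Lib.T2H2FlatRestrict
import Groth.Agent.Lib.Helper28NormalLift
import Groth.Agent.Lib.Helper28Normal
import Groth.Agent.Lib.T2H4HZshLF

/-!
# Reflexive coherent modules on a normal integral scheme: extension from a big open (helper4)
-/

set_option autoImplicit false
set_option linter.style.haveILetI false
universe u
open CategoryTheory Limits AlgebraicGeometry TopologicalSpace Opposite

namespace Groth.Agent.Lib.T2H4.ReflBigOpen

open Groth.Agent.Lib.T2H4.ReflExt Groth.Agent.Lib.T2H4.ReflExtAlg Groth.Agent.Lib.T2H8.StalkRestrict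
  Groth.Agent.Lib.T2H3.Reflexive Groth.Agent.Lib.T2H3.ReflexiveHom
  Groth.Agent.Lib.Helper2.LocFree Groth.Agent.Lib.Helper28

variable {X : Scheme.{u}}

theorem le_one_of_not_two_le (d : WithBot ℕ∞) (h : ¬ (2 : WithBot ℕ∞) ≤ d) : d ≤ 1 := by
  induction d with
  | bot => exact bot_le
  | coe c =>
    induction c with
    | top => exact absurd le_top h
    | coe k =>
      have : ¬ (2 : ℕ) ≤ k := fun hk =>
        h (WithBot.coe_le_coe.2 (by exact_mod_cast hk : (2 : ℕ∞) ≤ (k : ℕ∞)))
      have hk : k ≤ 1 := by omega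
      exact WithBot.coe_le_coe.2 (by exact_mod_cast hk : (k : ℕ∞) ≤ 1)

variable [IsLocallyNoetherian X]

/-- the stalks of a finite locally free module are reflexive -/
theorem isReflexive_stalk_of_isFinLocFree (M : X.Modules) (hM : FlatMod.IsFinLocFree M) (x : X) :
    Module.IsReflexive (X.presheaf.stalk x) (M.presheaf.stalk x) := by
  have hcoh : Coh.IsCoh M := Groth.Agent.Lib.T2H4.HZshLF.isCoh_of_isFinLocFree M hM
  haveI : M.IsQuasicoherent := hcoh.1
  haveI hflat : Module.Flat (X.presheaf.stalk x) (M.presheaf.stalk x) := isFlat_of_isFinLocFree M hM x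
  haveI := finite_stalk_of_isCoh M hcoh x
  haveI : Module.Free (X.presheaf.stalk x) (M.presheaf.stalk x) := Module.free_of_flat_of_isLocalRing
  infer_instance

variable [IsIntegral X]

theorem main (hX : Pi1.IsNormalScheme X) (F : X.Modules) (hF : Coh.IsCoh F) :
    (∀ x : X, Module.IsReflexive (X.presheaf.stalk x) (F.presheaf.stalk x)) ↔
      ∃ U : X.Opens, (∀ x : X, x ∉ U → (2 : WithBot ℕ∞) ≤ ringKrullDim (X.presheaf.stalk x)) ∧
        FlatMod.IsFinLocFree (F.restrict U.ι) ∧
        IsIso ((Scheme.Modules.restrictAdjunction U.ι).unit.app F) := by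
  haveI : F.IsQuasicoherent := hF.1
  haveI : SheafOfModules.IsFiniteType (R := X.ringCatSheaf) F := hF.2
  haveI : SheafOfModules.IsFinitePresentation (R := X.ringCatSheaf) F :=
    Groth.Agent.Lib.Helper23.FinType.isFinitePresentation_of_isFiniteType F
  have hdepth : ∀ (U : X.Opens), (∀ x : X, x ∉ U → (2 : WithBot ℕ∞) ≤ ringKrullDim (X.presheaf.stalk x)) →
      ∀ x : X, x ∉ U → (2 : ℕ∞) ≤ LocCoh.depth (X.presheaf.stalk x) (X.presheaf.stalk x) := by
    intro U hdim x hx
    haveI := (hX x).1
    haveI := (hX x).2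
    exact two_le_depth_of_isIntegrallyClosed_of_two_le_dim (hdim x hx)
  constructor
  · intro hr
    let U : X.Opens := ⟨{x : X | FlatMod.IsFlatAt F x},
      Groth.Agent.Lib.T2H2.FlatRestrict.isOpen_setOf_isFlatAt F⟩
    have hdim : ∀ x : X, x ∉ U → (2 : WithBot ℕ∞) ≤ ringKrullDim (X.presheaf.stalk x) := by
      intro x hx
      by_contra hlt
      have hle := le_one_of_not_two_le _ hlt
      haveI := (hX x).1
      haveI := (hX x).2
      haveI : IsPrincipalIdealRing (X.presheaf.stalk x) :=
        isPrincipalIdealRing_of_isIntegrallyClosed_of_dim_le_one hle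
      haveI := hr x
      haveI := finite_stalk_of_isCoh F hF x
      haveI : Module.Free (X.presheaf.stalk x) (F.presheaf.stalk x) :=
        Module.free_of_finite_type_torsion_free'
      exact hx (show Module.Flat (X.presheaf.stalk x) (F.presheaf.stalk x) from inferInstance)
    refine ⟨U, hdim, ?_, ?_⟩
    · exact Groth.Agent.Lib.T2H2.FlatRestrict.isFinLocFree_restrict_of_isFlatAt F U (fun x hx => hx)
    · exact isIso_unit_of_isReflexive U (hdepth U hdim) F hF hr
  · rintro ⟨U, hdim, hfree, hiso⟩
    have hreflU : ∀ x : X, x ∈ U → Module.IsReflexive (X.presheaf.stalk x) (F.presheaf.stalk x) := by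
      intro x hx
      exact (isReflexive_stalk_restrict_iff U.ι F (⟨x, hx⟩ : ↥(U : Scheme.{u}))).1
        (isReflexive_stalk_of_isFinLocFree (F.restrict U.ι) hfree ⟨x, hx⟩)
    haveI hβ : IsIso ((Scheme.Modules.restrictFunctor U.ι).map (RefHull.bidualMap F)) := by
      refine isIso_restrict_map_of_stalk U _ (fun x hx => ?_)
      exact (bijective_stalkMap_bidualMap_iff F hF x).2 (hreflU x hx)
    have hF₂ : Coh.IsCoh (RefHull.ddual F) := isCoh_ddual F hF
    haveI hη : IsIso ((Scheme.Modules.restrictAdjunction U.ι).unit.app (RefHull.ddual F)) :=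
      isIso_unit_of_isReflexive U (hdepth U hdim) _ hF₂ (fun x => isReflexiveAt_ddual F hF x)
    haveI := hiso
    have hnat := (Scheme.Modules.restrictAdjunction U.ι).unit.naturality (RefHull.bidualMap F)
    have hbid : IsIso (RefHull.bidualMap F) := by
      have h1 : RefHull.bidualMap F =
          ((Scheme.Modules.restrictAdjunction U.ι).unit.app F ≫
            (Scheme.Modules.pushforward U.ι).map
              ((Scheme.Modules.restrictFunctor U.ι).map (RefHull.bidualMap F))) ≫
            inv ((Scheme.Modules.restrictAdjunction U.ι).unit.app (RefHull.ddual F)) := by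
        rw [IsIso.eq_comp_inv]
        exact hnat
      rw [h1]
      infer_instance
    exact (isReflexive_iff_forall_isReflexiveAt F hF).1 hbid

end Groth.Agent.Lib.T2H4.ReflBigOpen
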