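import Groth.Agent.Lib.T2H4HomShGlobal
import Groth.Agent.Lib.T2H4PIDEval
import Groth.Agent.Lib.T2H4ReflBigOpen
import Groth.Agent.Lib.T2H2RatFun3

/-!
# Extending a generic map to a morphism into the reflexive hull (helper4)

Namespace `Groth.Agent.Lib.T2H4.ExtDdual`.  On a normal integral locally Noetherian scheme, a linear map of generic stalks
`T : G_η → F_η` extends to a morphism `G ⟶ F^**` iff it respects the images of the stalks at the points of codimension one.
-/

set_option autoImplicit false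
set_option linter.style.haveILetI false
universe u
open CategoryTheory Limits AlgebraicGeometry TopologicalSpace Opposite

namespace Groth.Agent.Lib.T2H4.ExtDdual

open Groth.Agent.Lib.T2H4.ReflExt Groth.Agent.Lib.T2H4.ReflExtAlg
  Groth.Agent.Lib.T2H3.Reflexive Groth.Agent.Lib.T2H3.ReflexiveHom Groth.Agent.Lib.T2H3.ReflexiveAlg
  Groth.Agent.Lib.T2H3.HomShStalk Groth.Agent.Lib.T2H3.HomShQCoh
  Groth.Agent.Lib.Helper28 Groth.Agent.Lib.T2H4.ReflBigOpen Groth.Agent.Lib.T2H4.HomShGlobal
  Groth.Agent.Lib.Helper2 Groth.Agent.Lib.Helper2.FlatOver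

variable {X : Scheme.{u}}

section PID

variable [IsLocallyNoetherian X]

/-- at a point whose local ring is a PID, the stalk of the biduality map is surjective -/
theorem surjective_stalkMap_bidualMap (F : X.Modules) (hF : Coh.IsCoh F) (x : X)
    [IsDomain (X.presheaf.stalk x)] [IsPrincipalIdealRing (X.presheaf.stalk x)] :
    Function.Surjective (RefHull.stalkMapₗ (RefHull.bidualMap F) x) := by
  have hO : Coh.IsCoh (Coh.structureModule X) := Groth.Agent.Lib.T2H5.GenIsoF.isCoh_structureModule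
  have hFP : CohB1.IsFP F := isFP_of_isCoh F hF
  have hdFP : CohB1.IsFP (RefHull.dual F) := isFP_homSh F _ hF hO
  have h₁ := evalStalk_bijective F (Coh.structureModule X) hFP x
  have h₂ := evalStalk_bijective (RefHull.dual F) (Coh.structureModule X) hdFP x
  haveI := finite_stalk_of_isCoh F hF x
  let E₁ := LinearEquiv.ofBijective (RefHull.evalStalk F (Coh.structureModule X) x) h₁
  let u := Groth.Agent.Lib.Helper23.UnitStalk.unitStalkEquiv x
  let A : (F.presheaf.stalk x →ₗ[X.presheaf.stalk x] X.presheaf.stalk x) ≃ₗ[X.presheaf.stalk x]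
      (F.presheaf.stalk x →ₗ[X.presheaf.stalk x] (Coh.structureModule X).presheaf.stalk x) :=
    LinearEquiv.arrowCongr (LinearEquiv.refl _ _) u
  intro w
  let ζ := RefHull.evalStalk (RefHull.dual F) (Coh.structureModule X) x w
  let ξ : Module.Dual (X.presheaf.stalk x) (Module.Dual (X.presheaf.stalk x) (F.presheaf.stalk x)) :=
    u.symm.toLinearMap ∘ₗ ζ ∘ₗ E₁.symm.toLinearMap ∘ₗ A.toLinearMap
  obtain ⟨v, hv⟩ := Groth.Agent.Lib.T2H4.PIDEval.surjective_dual_eval (R := X.presheaf.stalk x)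
    (F.presheaf.stalk x) ξ
  refine ⟨v, ?_⟩
  apply h₂.1
  rw [evalStalk_stalkMap_bidualMap]
  apply LinearMap.ext
  intro θ
  change RefHull.evalStalk F (Coh.structureModule X) x θ v = ζ θ
  let φ : Module.Dual (X.presheaf.stalk x) (F.presheaf.stalk x) := A.symm (E₁ θ)
  have hA : A φ = E₁ θ := A.apply_symm_apply _
  have h3 : φ v = ξ φ := by
    rw [← hv]
    rfl
  have h4 : ξ φ = u.symm (ζ (E₁.symm (A φ))) := rfl
  rw [hA, LinearEquiv.symm_apply_apply] at h4
  have h5 : (A φ) v = u (φ v) := rfl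
  rw [hA, h3, h4, LinearEquiv.apply_symm_apply] at h5
  exact h5

end PID

section Spec

/-- specialization maps of stalks of a module are semilinear. -/
theorem stalkSpecializes_smul (L : X.Modules) {x ξ : X} (h : ξ ⤳ x) (c : X.presheaf.stalk x)
    (m : L.presheaf.stalk x) :
    (L.presheaf.stalkSpecializes h).hom (c • m) =
      ((X.presheaf.stalkSpecializes h).hom c) • ((L.presheaf.stalkSpecializes h).hom m) := by
  obtain ⟨W₁, hx₁, r, rfl⟩ := X.presheaf.exists_germ_eq c
  obtain ⟨W₂, hx₂, m₀, rfl⟩ := L.presheaf.exists_germ_eq m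
  have hx : x ∈ W₁ ⊓ W₂ := ⟨hx₁, hx₂⟩
  have hξ : ξ ∈ W₁ ⊓ W₂ := h.mem_open (W₁ ⊓ W₂).isOpen hx
  rw [← TopCat.Presheaf.germ_res_apply X.presheaf (homOfLE (inf_le_left : W₁ ⊓ W₂ ≤ W₁)) x hx r,
    ← TopCat.Presheaf.germ_res_apply L.presheaf (homOfLE (inf_le_right : W₁ ⊓ W₂ ≤ W₂)) x hx m₀,
    ← QCoh.germ_smul]
  have e2 : ∀ z : Γ(X, W₁ ⊓ W₂), (X.presheaf.stalkSpecializes h).hom (X.presheaf.germ _ x hx z) =
      X.presheaf.germ _ ξ hξ z := fun z =>
    ConcreteCategory.congr_hom (TopCat.Presheaf.germ_stalkSpecializes X.presheaf hx h) z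
  rw [stalkSpecializes_germ, stalkSpecializes_germ, e2, QCoh.germ_smul]

variable [IsIntegral X]

/-- the specialization map to the generic stalk is injective for a torsion-free quasi-coherent module -/
theorem stalkSpecializes_injective (L : X.Modules) [L.IsQuasicoherent] (hL : TorSh.IsTorsionFree L) (x : X)
    (h : genericPoint X ⤳ x) :
    Function.Injective (L.presheaf.stalkSpecializes h).hom := by
  rw [injective_iff_map_eq_zero]
  intro v hv
  obtain ⟨W, hxW, s, rfl⟩ := L.presheaf.exists_germ_eq v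
  rw [stalkSpecializes_germ] at hv
  have hs : s = 0 := by
    apply Groth.Agent.Lib.T2H2.RatFun.germ_genericPoint_injective L hL (h.mem_open W.isOpen hxW)
    rw [hv, map_zero]
  rw [hs, map_zero]

/-- every element of the generic stalk is, up to a unit, the specialization image of an element of the stalk at `x` -/
theorem exists_isUnit_smul_eq_stalkSpecializes (L : X.Modules) [L.IsQuasicoherent] (x : X)
    (h : genericPoint X ⤳ x) (g' : L.presheaf.stalk (genericPoint X)) :
    ∃ (c : X.presheaf.stalk (genericPoint X)) (g : L.presheaf.stalk x), IsUnit c ∧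
      c • g' = (L.presheaf.stalkSpecializes h).hom g := by
  obtain ⟨_, ⟨V, hV, rfl⟩, hxV, -⟩ :=
    X.isBasis_affineOpens.exists_subset_of_mem_open (Set.mem_univ x) isOpen_univ
  have hηV : genericPoint X ∈ V := h.mem_open V.isOpen hxV
  letI := moduleStalkSections L V (genericPoint X) hηV
  haveI := isLocalizedModule_germ hV L (genericPoint X) hηV
  obtain ⟨⟨m, s⟩, hms⟩ := IsLocalizedModule.surj (hV.primeIdealOf ⟨genericPoint X, hηV⟩).asIdeal.primeCompl
    (germₗ L V (genericPoint X) hηV) g'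
  refine ⟨X.presheaf.germ V (genericPoint X) hηV s.1, L.presheaf.germ V x hxV m, ?_, ?_⟩
  · have hs : s.1 ∉ (hV.primeIdealOf ⟨genericPoint X, hηV⟩).asIdeal := s.2
    rw [← QCoh.germ_mem_maximalIdeal_iff hV (genericPoint X) hηV s.1] at hs
    exact IsLocalRing.notMem_maximalIdeal.1 hs
  · rw [stalkSpecializes_germ]
    exact hms

end Spec

section Main

variable [IsIntegral X] [IsLocallyNoetherian X]

theorem eq_genericPoint_of_dim_lt_one (x : X) (h : ringKrullDim (X.presheaf.stalk x) < 1) :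
    x = genericPoint X := by
  rw [ringKrullDim_stalk_eq_coheight] at h
  have h1 : Order.coheight x < 1 := by exact_mod_cast h
  have h2 : Order.coheight x = 0 := ENat.lt_one_iff_eq_zero.1 h1
  have h3 : IsMax x := Order.coheight_eq_zero.1 h2
  have h4 : x ≤ genericPoint X := Scheme.le_iff_specializes.2 (genericPoint_specializes x)
  have h5 : genericPoint X ≤ x := h3 h4
  exact ((Scheme.le_iff_specializes.1 h5).antisymm (genericPoint_specializes x)).eq

/-- the generic stalk of a coherent module is reflexive -/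
theorem isReflexiveAt_genericPoint (F : X.Modules) (hF : Coh.IsCoh F) :
    RefHull.IsReflexiveAt F (genericPoint X) := by
  haveI := finite_stalk_of_isCoh F hF (genericPoint X)
  haveI : Module.Free (X.presheaf.stalk (genericPoint X)) (F.presheaf.stalk (genericPoint X)) :=
    Module.Free.of_divisionRing (K := X.functionField) _
  exact (inferInstance : Module.IsReflexive (X.presheaf.stalk (genericPoint X))
    (F.presheaf.stalk (genericPoint X)))

/-- **(⇒)** -/
theorem mapsTo_of_exists (hX : Pi1.IsNormalScheme X) (F G : X.Modules) (hF : Coh.IsCoh F)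
    (T : ↑(G.presheaf.stalk (genericPoint ↥X)) →ₗ[↑(X.presheaf.stalk (genericPoint ↥X))]
      ↑(F.presheaf.stalk (genericPoint ↥X)))
    (ψ : G ⟶ RefHull.ddual F)
    (hψ : RefHull.stalkMapₗ ψ (genericPoint ↥X) =
        (RefHull.stalkMapₗ (RefHull.bidualMap F) (genericPoint ↥X)).comp T)
    (x : X) (hx : ringKrullDim ↑(X.presheaf.stalk x) = 1) (h : genericPoint X ⤳ x) :
    Set.MapsTo ⇑T (Set.range ⇑(G.presheaf.stalkSpecializes h).hom)
      (Set.range ⇑(F.presheaf.stalkSpecializes h).hom) := by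
  rintro _ ⟨g, rfl⟩
  haveI := (hX x).1
  haveI := (hX x).2
  haveI : IsPrincipalIdealRing (X.presheaf.stalk x) :=
    isPrincipalIdealRing_of_isIntegrallyClosed_of_dim_le_one hx.le
  obtain ⟨f, hf⟩ := surjective_stalkMap_bidualMap F hF x (RefHull.stalkMapₗ ψ x g)
  refine ⟨f, ?_⟩
  have hinj := ((bijective_stalkMap_bidualMap_iff F hF (genericPoint X)).2
    (isReflexiveAt_genericPoint F hF)).1
  apply hinj
  rw [← stalkSpecializes_stalkMapₗ, hf, stalkSpecializes_stalkMapₗ, hψ]
  rfl

/-- uniqueness: sections of a torsion-free sheaf Hom are determined by their member at the generic point -/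
theorem sec_ext_generic (G L : X.Modules) (hG : Coh.IsCoh G) [(RefHull.homSh G L).IsQuasicoherent]
    (hH : TorSh.IsTorsionFree (RefHull.homSh G L)) {W : X.Opens} (hη : genericPoint X ∈ W)
    (θ θ' : Γ(RefHull.homSh G L, W)) (h : θ.1 ⟨genericPoint X, hη⟩ = θ'.1 ⟨genericPoint X, hη⟩) :
    θ = θ' := by
  apply Groth.Agent.Lib.T2H2.RatFun.germ_genericPoint_injective (RefHull.homSh G L) hH hη
  apply (evalStalk_bijective G L (isFP_of_isCoh G hG) (genericPoint X)).1
  rw [RefHull.evalStalk_germ, RefHull.evalStalk_germ]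
  exact h

/-- local existence at a point of codimension one -/
theorem exists_local_sec (F G : X.Modules) (hF : Coh.IsCoh F) (hG : Coh.IsCoh G)
    (hDtf : TorSh.IsTorsionFree (RefHull.ddual F))
    (T : ↑(G.presheaf.stalk (genericPoint ↥X)) →ₗ[↑(X.presheaf.stalk (genericPoint ↥X))]
      ↑(F.presheaf.stalk (genericPoint ↥X)))
    (x : X) (h : genericPoint X ⤳ x)
    (hmaps : Set.MapsTo ⇑T (Set.range ⇑(G.presheaf.stalkSpecializes h).hom)
      (Set.range ⇑(F.presheaf.stalkSpecializes h).hom)) :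
    ∃ (W : X.Opens) (hxW : x ∈ W) (θ : Γ(RefHull.homSh G (RefHull.ddual F), W)),
      θ.1 ⟨genericPoint X, h.mem_open W.isOpen hxW⟩ =
        (RefHull.stalkMapₗ (RefHull.bidualMap F) (genericPoint ↥X)).comp T := by
  haveI : G.IsQuasicoherent := hG.1
  haveI : (RefHull.ddual F).IsQuasicoherent := (isCoh_ddual F hF).1
  set t₀ := (RefHull.stalkMapₗ (RefHull.bidualMap F) (genericPoint ↥X)).comp T with ht₀
  have hinjD := stalkSpecializes_injective (RefHull.ddual F) hDtf x h
  -- the map on stalks at `x`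
  have hex : ∀ g : G.presheaf.stalk x, ∃ f : F.presheaf.stalk x,
      (F.presheaf.stalkSpecializes h).hom f = T ((G.presheaf.stalkSpecializes h).hom g) :=
    fun g => hmaps ⟨g, rfl⟩
  choose f₀ hf₀ using hex
  have hu₀ : ∀ g : G.presheaf.stalk x,
      ((RefHull.ddual F).presheaf.stalkSpecializes h).hom (RefHull.stalkMapₗ (RefHull.bidualMap F) x (f₀ g)) =
        t₀ ((G.presheaf.stalkSpecializes h).hom g) := by
    intro g
    rw [stalkSpecializes_stalkMapₗ, hf₀]
    rfl
  let u : RefHull.StalkHom G (RefHull.ddual F) x :=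
    { toFun := fun g => RefHull.stalkMapₗ (RefHull.bidualMap F) x (f₀ g)
      map_add' := fun a b => by
        apply hinjD
        rw [map_add, hu₀, hu₀, hu₀, map_add, map_add]
      map_smul' := fun r a => by
        apply hinjD
        rw [RingHom.id_apply, stalkSpecializes_smul, hu₀, hu₀, stalkSpecializes_smul, map_smul] }
  have hu : ∀ g, ((RefHull.ddual F).presheaf.stalkSpecializes h).hom (u g) =
      t₀ ((G.presheaf.stalkSpecializes h).hom g) := hu₀
  obtain ⟨hgerm, hhg⟩ := (evalStalk_bijective G (RefHull.ddual F) (isFP_of_isCoh G hG) x).2 u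
  obtain ⟨W, hxW, θ, rfl⟩ := TopCat.Presheaf.exists_germ_eq (RefHull.homSh G (RefHull.ddual F)).presheaf hgerm
  rw [RefHull.evalStalk_germ] at hhg
  refine ⟨W, hxW, θ, ?_⟩
  apply LinearMap.ext
  intro g'
  obtain ⟨c, g, hc, hcg⟩ := exists_isUnit_smul_eq_stalkSpecializes G x h g'
  have h1 : θ.1 ⟨genericPoint X, h.mem_open W.isOpen hxW⟩ ((G.presheaf.stalkSpecializes h).hom g) =
      t₀ ((G.presheaf.stalkSpecializes h).hom g) := by
    rw [← stalkSpecializes_sec θ h hxW g, hhg, hu]
  rw [← hcg, map_smul, map_smul] at h1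
  exact hc.smul_left_cancel.1 h1

/-- **(⇐)** -/
theorem exists_of_mapsTo (hX : Pi1.IsNormalScheme X) (F G : X.Modules) (hF : Coh.IsCoh F) (hG : Coh.IsCoh G)
    (T : ↑(G.presheaf.stalk (genericPoint ↥X)) →ₗ[↑(X.presheaf.stalk (genericPoint ↥X))]
      ↑(F.presheaf.stalk (genericPoint ↥X)))
    (hmaps : ∀ x : ↥X, ringKrullDim ↑(X.presheaf.stalk x) = 1 →
        Set.MapsTo ⇑T
          (Set.range ⇑(G.presheaf.stalkSpecializes (genericPoint_specializes x)).hom)
          (Set.range ⇑(F.presheaf.stalkSpecializes (genericPoint_specializes x)).hom)) :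
    ∃ ψ : G ⟶ RefHull.ddual F, RefHull.stalkMapₗ ψ (genericPoint ↥X) =
        (RefHull.stalkMapₗ (RefHull.bidualMap F) (genericPoint ↥X)).comp T := by
  have hD : Coh.IsCoh (RefHull.ddual F) := isCoh_ddual F hF
  have hDr : ∀ x : X, Module.IsReflexive (X.presheaf.stalk x) ((RefHull.ddual F).presheaf.stalk x) :=
    fun x => isReflexiveAt_ddual F hF x
  have hDtf : TorSh.IsTorsionFree (RefHull.ddual F) := fun x => by
    haveI := hDr x
    infer_instance
  have hDrefl : RefHull.IsReflexive (RefHull.ddual F) :=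
    (isReflexive_iff_forall_isReflexiveAt _ hD).2 hDr
  have hH : Coh.IsCoh (RefHull.homSh G (RefHull.ddual F)) := isCoh_homSh G _ hG hD
  have hHr : ∀ x : X, Module.IsReflexive (X.presheaf.stalk x)
      ((RefHull.homSh G (RefHull.ddual F)).presheaf.stalk x) :=
    (isReflexive_iff_forall_isReflexiveAt _ hH).1 (isReflexive_homSh G _ hG hD hDrefl)
  have hHtf : TorSh.IsTorsionFree (RefHull.homSh G (RefHull.ddual F)) := fun x => by
    haveI := hHr x
    infer_instance
  haveI : (RefHull.homSh G (RefHull.ddual F)).IsQuasicoherent := hH.1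
  set t₀ := (RefHull.stalkMapₗ (RefHull.bidualMap F) (genericPoint ↥X)).comp T with ht₀
  -- local sections at the points of codimension at most one
  have hloc : ∀ x : X, ringKrullDim (X.presheaf.stalk x) ≤ 1 →
      ∃ (W : X.Opens) (hxW : x ∈ W) (θ : Γ(RefHull.homSh G (RefHull.ddual F), W)),
        θ.1 ⟨genericPoint X, (genericPoint_specializes x).mem_open W.isOpen hxW⟩ = t₀ := by
    intro x hx
    rcases hx.lt_or_eq with hlt | heq
    · obtain rfl := eq_genericPoint_of_dim_lt_one x hlt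
      obtain ⟨hgerm, hhg⟩ := (evalStalk_bijective G (RefHull.ddual F) (isFP_of_isCoh G hG)
        (genericPoint X)).2 t₀
      obtain ⟨W, hxW, θ, rfl⟩ :=
        TopCat.Presheaf.exists_germ_eq (RefHull.homSh G (RefHull.ddual F)).presheaf hgerm
      rw [RefHull.evalStalk_germ] at hhg
      exact ⟨W, hxW, θ, hhg⟩
    · exact exists_local_sec F G hF hG hDtf T x (genericPoint_specializes x) (hmaps x heq)
  let I : Type u := {x : X // ringKrullDim (X.presheaf.stalk x) ≤ 1}
  choose W hxW θ hθ using fun i : I => hloc i.1 i.2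
  have hηW : ∀ i : I, genericPoint X ∈ W i := fun i =>
    (genericPoint_specializes i.1).mem_open (W i).isOpen (hxW i)
  let U : X.Opens := iSup W
  have hcompat : TopCat.Presheaf.IsCompatible (RefHull.homSh G (RefHull.ddual F)).presheaf W θ := by
    intro i j
    apply sec_ext_generic G (RefHull.ddual F) hG hHtf (⟨hηW i, hηW j⟩ : genericPoint X ∈ W i ⊓ W j)
    change (θ i).1 ⟨genericPoint X, hηW i⟩ = (θ j).1 ⟨genericPoint X, hηW j⟩
    rw [hθ i, hθ j]
  obtain ⟨sU, hsU, -⟩ := (shf (RefHull.homSh G (RefHull.ddual F))).existsUnique_gluing' W U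
    (fun i => homOfLE (le_iSup W i)) (le_refl _) θ hcompat
  -- the generic point lies in `U`
  have hdimη : ringKrullDim (X.presheaf.stalk (genericPoint X)) ≤ 1 := by
    have h0 : ringKrullDim (X.presheaf.stalk (genericPoint X)) = 0 :=
      ringKrullDim_eq_zero_of_field X.functionField
    rw [h0]
    exact zero_le_one
  let iη : I := ⟨genericPoint X, hdimη⟩
  have hηU : genericPoint X ∈ U := Opens.mem_iSup.2 ⟨iη, hηW iη⟩
  have hsUη : sU.1 ⟨genericPoint X, hηU⟩ = t₀ := by
    have h1 := congrArg (fun τ : Γ(RefHull.homSh G (RefHull.ddual F), W iη) =>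
      τ.1 ⟨genericPoint X, hηW iη⟩) (hsU iη)
    exact h1.trans (hθ iη)
  -- Hartogs extension
  have hdim : ∀ x : X, x ∉ U → (2 : WithBot ℕ∞) ≤ ringKrullDim (X.presheaf.stalk x) := by
    intro x hx
    by_contra hlt
    have hle := le_one_of_not_two_le _ hlt
    exact hx (Opens.mem_iSup.2 ⟨⟨x, hle⟩, hxW ⟨x, hle⟩⟩)
  have hdepth : ∀ x : X, x ∉ U → (2 : ℕ∞) ≤ LocCoh.depth (X.presheaf.stalk x) (X.presheaf.stalk x) := by
    intro x hx
    haveI := (hX x).1
    haveI := (hX x).2
    exact two_le_depth_of_isIntegrallyClosed_of_two_le_dim (hdim x hx)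
  have hiso := isIso_unit_of_isReflexive U hdepth _ hH hHr
  have hbij : Function.Bijective ((RefHull.homSh G (RefHull.ddual F)).presheaf.map
      (homOfLE (U.ι.image_preimage_le ⊤)).op) := by
    rw [← ConcreteCategory.isIso_iff_bijective, ← ZClos.resPushUnit_app_app]
    exact Scheme.Modules.Hom.isIso_iff_isIso_app.mp hiso ⊤
  have hle : U.ι ''ᵁ U.ι ⁻¹ᵁ ⊤ ≤ U := by
    rw [ZClos.ι_image_preimage]
    exact inf_le_left
  have hηU' : genericPoint X ∈ U.ι ''ᵁ U.ι ⁻¹ᵁ ⊤ := by
    rw [ZClos.ι_image_preimage]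
    exact ⟨hηU, trivial⟩
  obtain ⟨θtop, hθtop⟩ := hbij.2 ((RefHull.homSh G (RefHull.ddual F)).presheaf.map (homOfLE hle).op sU)
  refine ⟨homOfSec θtop, ?_⟩
  rw [stalkMapₗ_homOfSec]
  have h2 := congrArg (fun τ : Γ(RefHull.homSh G (RefHull.ddual F), U.ι ''ᵁ U.ι ⁻¹ᵁ ⊤) =>
    τ.1 ⟨genericPoint X, hηU'⟩) hθtop
  exact h2.trans hsUη

end Main

end Groth.Agent.Lib.T2H4.ExtDdual
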