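import Mathlib
import Groth.Agent.Lib.Helper1Sky3
import Groth.Agent.Lib.Helper1KBC4
import Groth.Agent.S2380

/-!
# Stalks of restrictions of `O_X`-modules to opens (helper8)

For an open immersion `j : U ⟶ X` and an `O_X`-module `M`, the stalk of `M.restrict j` at `y` is
the base change of the stalk of `M` at `j y` along the (bijective) stalk map.  Consequently
freeness and finiteness of stalks can be transferred between `M` and its restrictions.
-/

set_option autoImplicit false
universe u
open CategoryTheory CategoryTheory.Limits AlgebraicGeometry TensorProduct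

namespace Groth.Agent.Lib.T2H8.StalkRestrict

open Groth.Agent.Lib.Helper1.Sky Groth.Agent.Lib.Helper1.StalkTensor

section Alg

variable {R S : Type u} [CommRing R] [CommRing S] [Algebra R S]
  (N : Type u) [AddCommGroup N] [Module R N]

attribute [local instance] RingHomInvPair.of_ringEquiv RingHomInvPair.of_ringEquiv_symm

/-- for a bijective algebra map, `n ↦ 1 ⊗ n` is a semilinear equivalence -/
noncomputable def tensorEquivOfBijective (h : Function.Bijective (algebraMap R S)) :
    N ≃ₛₗ[((RingEquiv.ofBijective (algebraMap R S) h : R ≃+* S) : R →+* S)] (S ⊗[R] N) :=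
  let ψ : N ≃ₗ[R] S ⊗[R] N := (TensorProduct.lid R N).symm ≪≫ₗ
    TensorProduct.congr (LinearEquiv.ofBijective (Algebra.linearMap R S) h) (LinearEquiv.refl R N)
  { ψ.toAddEquiv with
    map_smul' := fun r n => by
      change ψ (r • n) = algebraMap R S r • ψ n
      rw [map_smul, algebraMap_smul] }

theorem free_tensor_iff_of_bijective (h : Function.Bijective (algebraMap R S)) :
    Module.Free S (S ⊗[R] N) ↔ Module.Free R N :=
  (Module.Free.iff_of_equiv (tensorEquivOfBijective N h)).symm

theorem finite_tensor_iff_of_bijective (h : Function.Bijective (algebraMap R S)) :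
    Module.Finite S (S ⊗[R] N) ↔ Module.Finite R N := by
  constructor
  · intro hf
    exact Module.Finite.of_surjective (tensorEquivOfBijective N h).symm.toLinearMap
      (tensorEquivOfBijective N h).symm.surjective
  · intro hf
    exact Module.Finite.of_surjective (tensorEquivOfBijective N h).toLinearMap
      (tensorEquivOfBijective N h).surjective

end Alg

section Ext

variable {R S : Type u} [CommRing R] [CommRing S] (σ : R →+* S) (N : ModuleCat.{u} R)

theorem free_extendScalars_iff (h : Function.Bijective σ) :
    Module.Free S ((ModuleCat.extendScalars σ).obj N) ↔ Module.Free R N := by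
  letI := σ.toAlgebra
  have hb : Function.Bijective (algebraMap R S) := h
  rw [← free_tensor_iff_of_bijective N hb]
  exact ⟨fun _ => Module.Free.of_equiv (Groth.Agent.S2380.bridge R S N),
    fun _ => Module.Free.of_equiv (Groth.Agent.S2380.bridge R S N).symm⟩

theorem finite_extendScalars_iff (h : Function.Bijective σ) :
    Module.Finite S ((ModuleCat.extendScalars σ).obj N) ↔ Module.Finite R N := by
  letI := σ.toAlgebra
  have hb : Function.Bijective (algebraMap R S) := h
  rw [← finite_tensor_iff_of_bijective N hb]
  exact ⟨fun _ => Module.Finite.equiv (Groth.Agent.S2380.bridge R S N),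
    fun _ => Module.Finite.equiv (Groth.Agent.S2380.bridge R S N).symm⟩

end Ext

section Stalk

variable {X U : Scheme.{u}} (j : U ⟶ X) [IsOpenImmersion j]

/-- the stalk of a restriction to an open is the base change of the stalk -/
noncomputable def stalkRestrictIso (M : X.Modules) (y : U) :
    (stalkFun y).obj (M.restrict j) ≅
      (ModuleCat.extendScalars.{u, u, u} (j.stalkMap y).hom).obj ((stalkFun (j y)).obj M) :=
  (stalkFun y).mapIso ((Scheme.Modules.restrictFunctorIsoPullback j).app M) ≪≫
    (stalkPullbackIso j y).app M

lemma bijective_stalkMap (y : U) : Function.Bijective (j.stalkMap y).hom :=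
  ConcreteCategory.bijective_of_isIso (j.stalkMap y)

theorem free_stalk_restrict_iff (M : X.Modules) (y : U) :
    Module.Free (U.presheaf.stalk y) ((M.restrict j).presheaf.stalk y) ↔
      Module.Free (X.presheaf.stalk (j y)) (M.presheaf.stalk (j y)) := by
  have h1 : Module.Free (U.presheaf.stalk y) ((stalkFun y).obj (M.restrict j)) ↔
      Module.Free (U.presheaf.stalk y) ((ModuleCat.extendScalars.{u, u, u}
        (j.stalkMap y).hom).obj ((stalkFun (j y)).obj M)) :=
    ⟨fun _ => Module.Free.of_equiv (stalkRestrictIso j M y).toLinearEquiv,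
      fun _ => Module.Free.of_equiv (stalkRestrictIso j M y).symm.toLinearEquiv⟩
  exact h1.trans
    (free_extendScalars_iff (j.stalkMap y).hom ((stalkFun (j y)).obj M) (bijective_stalkMap j y))

theorem finite_stalk_restrict_iff (M : X.Modules) (y : U) :
    Module.Finite (U.presheaf.stalk y) ((M.restrict j).presheaf.stalk y) ↔
      Module.Finite (X.presheaf.stalk (j y)) (M.presheaf.stalk (j y)) := by
  have h1 : Module.Finite (U.presheaf.stalk y) ((stalkFun y).obj (M.restrict j)) ↔
      Module.Finite (U.presheaf.stalk y) ((ModuleCat.extendScalars.{u, u, u}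
        (j.stalkMap y).hom).obj ((stalkFun (j y)).obj M)) :=
    ⟨fun _ => Module.Finite.equiv (stalkRestrictIso j M y).toLinearEquiv,
      fun _ => Module.Finite.equiv (stalkRestrictIso j M y).symm.toLinearEquiv⟩
  exact h1.trans
    (finite_extendScalars_iff (j.stalkMap y).hom ((stalkFun (j y)).obj M) (bijective_stalkMap j y))

end Stalk

section Iso

variable {X : Scheme.{u}}

/-- isomorphic modules have linearly equivalent stalks -/
noncomputable def stalkEquivOfIso {M N : X.Modules} (e : M ≅ N) (x : X) :
    M.presheaf.stalk x ≃ₗ[X.presheaf.stalk x] N.presheaf.stalk x :=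
  ((stalkFun x).mapIso e).toLinearEquiv

theorem free_stalk_of_iso {M N : X.Modules} (e : M ≅ N) (x : X)
    (h : Module.Free (X.presheaf.stalk x) (M.presheaf.stalk x)) :
    Module.Free (X.presheaf.stalk x) (N.presheaf.stalk x) :=
  Module.Free.of_equiv (stalkEquivOfIso e x)

theorem finite_stalk_of_iso {M N : X.Modules} (e : M ≅ N) (x : X)
    (h : Module.Finite (X.presheaf.stalk x) (M.presheaf.stalk x)) :
    Module.Finite (X.presheaf.stalk x) (N.presheaf.stalk x) :=
  Module.Finite.equiv (stalkEquivOfIso e x)

theorem subsingleton_stalk_of_isZero {M : X.Modules} (h : IsZero M) (x : X) :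
    Subsingleton (M.presheaf.stalk x) :=
  ModuleCat.subsingleton_of_isZero ((stalkFun x).map_isZero h)

end Iso

end Groth.Agent.Lib.T2H8.StalkRestrict
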