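import Mathlib
import Groth.Agent.Lib.T2H8StalkRestrict
import Groth.Agent.Lib.Helper20RegMero
import Groth.Prelude.Def_RefHull
set_option backward.isDefEq.respectTransparency.types false

/-!
# A generically invertible module has a one-dimensional generic stalk (helper4)
-/

set_option autoImplicit false
set_option linter.style.haveILetI false
set_option linter.unusedSectionVars false
universe u

open AlgebraicGeometry CategoryTheory Limits TopologicalSpace Opposite TensorProduct

namespace Groth.Agent.Lib.T2H4.GenRank

open Groth.Agent.Lib.T2H8.StalkRestrict Groth.Agent.Lib.Helper1.Sky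

section Stalk

variable {X U : Scheme.{u}} (j : U ⟶ X) [IsOpenImmersion j]

/-- finrank of the stalk of a restriction to an open -/
theorem finrank_stalk_restrict (M : X.Modules) (y : U)
    [Module.Free (X.presheaf.stalk (j y)) (M.presheaf.stalk (j y))] :
    Module.finrank (U.presheaf.stalk y) ((M.restrict j).presheaf.stalk y) =
      Module.finrank (X.presheaf.stalk (j y)) (M.presheaf.stalk (j y)) := by
  have h1 : Module.finrank (U.presheaf.stalk y) ((stalkFun y).obj (M.restrict j)) =
      Module.finrank (U.presheaf.stalk y) ((ModuleCat.extendScalars.{u, u, u}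
        (j.stalkMap y).hom).obj ((stalkFun (j y)).obj M)) :=
    LinearEquiv.finrank_eq (stalkRestrictIso j M y).toLinearEquiv
  refine h1.trans ?_
  letI := (j.stalkMap y).hom.toAlgebra
  haveI : Module.Free (X.presheaf.stalk (j y)) ((stalkFun (j y)).obj M) :=
    inferInstanceAs (Module.Free (X.presheaf.stalk (j y)) (M.presheaf.stalk (j y)))
  have h2 : Module.finrank (U.presheaf.stalk y) ((ModuleCat.extendScalars.{u, u, u}
        (j.stalkMap y).hom).obj ((stalkFun (j y)).obj M)) =
      Module.finrank (U.presheaf.stalk y)
        ((U.presheaf.stalk y) ⊗[X.presheaf.stalk (j y)] ((stalkFun (j y)).obj M)) :=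
    LinearEquiv.finrank_eq (Groth.Agent.S2380.bridge (X.presheaf.stalk (j y)) (U.presheaf.stalk y)
      ((stalkFun (j y)).obj M))
  refine h2.trans ?_
  exact Module.finrank_baseChange

end Stalk

section Generic

variable {X : Scheme.{u}} [IsIntegral X]

/-- a generically invertible module on an integral scheme has a one-dimensional generic stalk -/
theorem finrank_generic_stalk (F : X.Modules) (hgen : RefHull.GenInvertible F) :
    Module.finrank (X.presheaf.stalk (genericPoint X)) (F.presheaf.stalk (genericPoint X)) = 1 := by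
  obtain ⟨U₀, hdense, hL⟩ := hgen
  obtain ⟨x, hx⟩ := hdense.nonempty
  have hη : genericPoint X ∈ U₀ :=
    ((genericPoint_spec X).mem_open_set_iff U₀.2).2 ⟨x, Set.mem_univ x, hx⟩
  obtain ⟨g, hg⟩ := Groth.Agent.Lib.Helper20.RegMero.exists_isGen (F.restrict U₀.ι) hL
    (⟨genericPoint X, hη⟩ : U₀)
  have h1 : Module.finrank ((U₀ : Scheme.{u}).presheaf.stalk (⟨genericPoint X, hη⟩ : U₀))
      ((F.restrict U₀.ι).presheaf.stalk (⟨genericPoint X, hη⟩ : U₀)) = 1 := by
    have e : ((U₀ : Scheme.{u}).presheaf.stalk (⟨genericPoint X, hη⟩ : U₀)) ≃ₗ[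
        (U₀ : Scheme.{u}).presheaf.stalk (⟨genericPoint X, hη⟩ : U₀)]
        ((F.restrict U₀.ι).presheaf.stalk (⟨genericPoint X, hη⟩ : U₀)) :=
      LinearEquiv.ofBijective (LinearMap.toSpanSingleton _ _ g) hg
    rw [← LinearEquiv.finrank_eq e, Module.finrank_self]
  have hfree : Module.Free (X.presheaf.stalk (U₀.ι (⟨genericPoint X, hη⟩ : U₀)))
      (F.presheaf.stalk (U₀.ι (⟨genericPoint X, hη⟩ : U₀))) := by
    change Module.Free (X.presheaf.stalk (genericPoint X)) (F.presheaf.stalk (genericPoint X))
    infer_instance
  have h2 := @finrank_stalk_restrict _ _ U₀.ι _ F (⟨genericPoint X, hη⟩ : U₀) hfree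
  rw [h1] at h2
  exact h2.symm

/-- a nonzero element of the generic stalk of a generically invertible module generates it -/
theorem surjective_smul_generic (F : X.Modules) (hgen : RefHull.GenInvertible F)
    (v : F.presheaf.stalk (genericPoint X)) (hv : v ≠ 0) :
    Function.Surjective (fun a : X.presheaf.stalk (genericPoint X) => a • v) :=
  (finrank_eq_one_iff_of_nonzero' v hv).1 (finrank_generic_stalk F hgen)

end Generic

end Groth.Agent.Lib.T2H4.GenRank
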