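import Groth.Agent.Lib.T2H4Ref1AlgMod
import Groth.Agent.Lib.T2H4ExtDdual
import Groth.Agent.Lib.T2H4GenRank
import Groth.Prelude.Def_C1

/-!
# Rank one reflexive modules at the points of codimension one (helper4)

Namespace `Groth.Agent.Lib.T2H4.Ref1Local`.
-/

set_option autoImplicit false
set_option linter.style.haveILetI false
universe u
open CategoryTheory Limits AlgebraicGeometry TopologicalSpace Opposite

namespace Groth.Agent.Lib.T2H4.Ref1Local

open Groth.Agent.Lib.T2H4.Ref1Alg Groth.Agent.Lib.T2H4.ExtDdual Groth.Agent.Lib.T2H4.HomShGlobal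
  Groth.Agent.Lib.Helper28

variable {X : Scheme.{u}} [IsIntegral X] [IsLocallyNoetherian X]

theorem ringKrullDim_eq_one (x : X) (hx : Order.coheight x = 1) :
    ringKrullDim (X.presheaf.stalk x) = 1 := by
  rw [ringKrullDim_stalk_eq_coheight, hx]
  rfl

theorem isDVR (hX : Pi1.IsNormalScheme X) (x : X) (hx : Order.coheight x = 1) :
    IsDiscreteValuationRing (X.presheaf.stalk x) := by
  haveI := (hX x).2
  haveI : IsPrincipalIdealRing (X.presheaf.stalk x) :=
    isPrincipalIdealRing_of_isIntegrallyClosed_of_dim_le_one (ringKrullDim_eq_one x hx).le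
  refine { not_a_field' := fun hbot => ?_ }
  have hf : IsField (X.presheaf.stalk x) := IsLocalRing.isField_iff_maximalIdeal_eq.2 hbot
  have h0 := ringKrullDim_eq_zero_of_isField hf
  rw [ringKrullDim_eq_one x hx] at h0
  exact one_ne_zero h0

theorem isOrd_schemeOrd (hX : Pi1.IsNormalScheme X) (x : X) (hx : Order.coheight x = 1) :
    haveI := isDVR hX x hx
    IsOrd (X.presheaf.stalk x) X.functionField (fun f => Scheme.ord f x) := by
  haveI := isDVR hX x hx
  haveI : Ring.KrullDimLE 1 (X.presheaf.stalk x) := krullDimLE_of_coheight_le hx.le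
  refine ⟨fun a b ha hb => Scheme.ord_mul ha hb, fun u hu => ?_, fun π hπ => ?_⟩
  · have hne : algebraMap (X.presheaf.stalk x) X.functionField u ≠ 0 :=
      IsOrd.map_ne_zero hu.ne_zero
    rw [Scheme.ord_eq_iff hx hne]
    change Ring.ordFrac (X.presheaf.stalk x) (algebraMap (X.presheaf.stalk x) X.functionField u) = _
    rw [Ring.ordFrac_of_isUnit hu]
    rfl
  · have hne : algebraMap (X.presheaf.stalk x) X.functionField π ≠ 0 :=
      IsOrd.map_ne_zero hπ.ne_zero
    rw [Scheme.ord_eq_iff hx hne]
    change Ring.ordFrac (X.presheaf.stalk x) (algebraMap (X.presheaf.stalk x) X.functionField π) = _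
    rw [Ring.ordFrac_irreducible hπ]
    rfl

theorem specMap_injective (x : X) (h : genericPoint X ⤳ x) :
    Function.Injective (Cyc.specMap x (genericPoint X) h) := by
  have h1 : Function.Injective (X.presheaf.stalkSpecializes h).hom :=
    IsFractionRing.injective (X.presheaf.stalk x) X.functionField
  have h2 : Function.Injective (X.residue (genericPoint X)).hom :=
    RingHom.injective (X.residue (genericPoint X)).hom
  exact h2.comp h1

/-- `O_{X,x} ≃ O_{X,x}/𝔭_η` -/
noncomputable def locQuotEquiv (x : X) (h : genericPoint X ⤳ x) :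
    X.presheaf.stalk x ≃+* Cyc.LocQuot x (genericPoint X) h :=
  RingEquiv.ofBijective (Ideal.Quotient.mk (RingHom.ker (Cyc.specMap x (genericPoint X) h)))
    ⟨by
      rw [RingHom.injective_iff_ker_eq_bot, Ideal.mk_ker]
      exact (RingHom.injective_iff_ker_eq_bot _).1 (specMap_injective x h),
     Ideal.Quotient.mk_surjective⟩

theorem isOrd_cycOrd (hX : Pi1.IsNormalScheme X) (x : X) (hx : Order.coheight x = 1)
    (h : genericPoint X ⤳ x) :
    haveI := isDVR hX x hx
    IsOrd (X.presheaf.stalk x) X.functionField
      (fun α => Cyc.ordAt x (genericPoint X) h (X.residue (genericPoint X) α)) := by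
  haveI := isDVR hX x hx
  refine isOrd_cycOrdFrac (R' := Cyc.LocQuot x (genericPoint X) h) (K' := X.residueField (genericPoint X))
    (locQuotEquiv x h) (X.residue (genericPoint X)).hom ?_ ?_
  · exact Ideal.Quotient.mk_surjective
  · intro r
    change algebraMap (Cyc.LocQuot x (genericPoint X) h) (X.residueField (genericPoint X))
      (Ideal.Quotient.mk (RingHom.ker (Cyc.specMap x (genericPoint X) h)) r) = _
    rw [RingHom.algebraMap_toAlgebra, Ideal.Quotient.lift_mk]
    rfl

/-- the two order functions agree -/
theorem ord_eq_ordAt (hX : Pi1.IsNormalScheme X) (x : X) (hx : Order.coheight x = 1)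
    (h : genericPoint X ⤳ x) (f : X.functionField) (hf : f ≠ 0) :
    Scheme.ord f x = Cyc.ordAt x (genericPoint X) h (X.residue (genericPoint X) f) := by
  haveI := isDVR hX x hx
  exact (isOrd_schemeOrd hX x hx).eq (isOrd_cycOrd hX x hx h) f hf

section Mod

variable (L : X.Modules)

/-- the specialization map to the generic stalk, as a function -/
noncomputable abbrev spec (x : X) (h : genericPoint X ⤳ x) :
    L.presheaf.stalk x → L.presheaf.stalk (genericPoint X) :=
  (L.presheaf.stalkSpecializes h).hom

omit [IsLocallyNoetherian X] in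
theorem spec_smul (x : X) (h : genericPoint X ⤳ x) (r : X.presheaf.stalk x) (m : L.presheaf.stalk x) :
    spec L x h (r • m) = algebraMap (X.presheaf.stalk x) X.functionField r • spec L x h m :=
  stalkSpecializes_smul L h r m

/-- the stalk of a torsion-free coherent module of generic rank one at a point of codimension one is generated by one
element -/
theorem exists_generator_stalk (hX : Pi1.IsNormalScheme X) (hL : Coh.IsCoh L) (htf : TorSh.IsTorsionFree L)
    (hrk : Module.finrank X.functionField (L.presheaf.stalk (genericPoint X)) = 1)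
    (x : X) (hx : Order.coheight x = 1) (h : genericPoint X ⤳ x) :
    ∃ a : L.presheaf.stalk x, Submodule.span (X.presheaf.stalk x) {a} = ⊤ := by
  haveI := isDVR hX x hx
  haveI : L.IsQuasicoherent := hL.1
  haveI := Groth.Agent.Lib.T2H3.ReflexiveHom.finite_stalk_of_isCoh L hL x
  exact exists_generator (isOrd_schemeOrd hX x hx) (spec L x h) (spec_smul L x h)
    (map_zero (L.presheaf.stalkSpecializes h).hom) (stalkSpecializes_injective L htf x h) hrk

omit [IsLocallyNoetherian X] in
/-- the image of a generator in the generic stalk is nonzero -/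
theorem spec_generator_ne_zero [L.IsQuasicoherent]
    (hrk : Module.finrank X.functionField (L.presheaf.stalk (genericPoint X)) = 1)
    (x : X) (h : genericPoint X ⤳ x) (a : L.presheaf.stalk x)
    (ha : Submodule.span (X.presheaf.stalk x) {a} = ⊤) : spec L x h a ≠ 0 := by
  intro h0
  obtain ⟨e, he0, -⟩ := finrank_eq_one_iff'.1 hrk
  obtain ⟨c, g, hc, hcg⟩ := exists_isUnit_smul_eq_stalkSpecializes L x h e
  have hmem : g ∈ Submodule.span (X.presheaf.stalk x) {a} := by rw [ha]; trivial
  obtain ⟨r, rfl⟩ := Submodule.mem_span_singleton.1 hmem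
  have h1 : c • e = 0 := by
    rw [hcg]
    change spec L x h (r • a) = 0
    rw [spec_smul, h0, smul_zero]
  exact he0 ((hc.smul_eq_zero).1 h1)

omit [IsLocallyNoetherian X] in
/-- the quotient map to the fibre at the generic point is injective -/
theorem mk_secFibre_injective :
    Function.Injective (Submodule.Quotient.mk : L.presheaf.stalk (genericPoint X) →
      Cyc.secFibre L (genericPoint X)) := by
  intro a b hab
  have hmax : IsLocalRing.maximalIdeal (X.presheaf.stalk (genericPoint X)) = ⊥ :=
    IsLocalRing.maximalIdeal_eq_bot (R := X.functionField)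
  rw [Submodule.Quotient.eq, hmax, Submodule.bot_smul, Submodule.mem_bot, sub_eq_zero] at hab
  exact hab

/-- **the order of a rational section with respect to any generator** -/
theorem secOrdAt_eq (hX : Pi1.IsNormalScheme X) [L.IsQuasicoherent]
    (hrk : Module.finrank X.functionField (L.presheaf.stalk (genericPoint X)) = 1)
    (x : X) (hx : Order.coheight x = 1) (h : genericPoint X ⤳ x) (a : L.presheaf.stalk x)
    (ha : Submodule.span (X.presheaf.stalk x) {a} = ⊤) (α : X.functionField) :
    Cyc.secOrdAt L (genericPoint X) x h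
        (Submodule.Quotient.mk (α • spec L x h a) : Cyc.secFibre L (genericPoint X)) =
      Cyc.ordAt x (genericPoint X) h (X.residue (genericPoint X) α) := by
  haveI := isDVR hX x hx
  have hsa : spec L x h a ≠ 0 := spec_generator_ne_zero L hrk x h a ha
  have hσinj : Function.Injective (algebraMap (X.presheaf.stalk x) X.functionField) :=
    IsFractionRing.injective _ _
  unfold Cyc.secOrdAt
  have ht : ∃ t : L.presheaf.stalk x, Submodule.span (X.presheaf.stalk x) {t} = ⊤ := ⟨a, ha⟩
  rw [dif_pos ht]
  have ht' := Classical.choose_spec ht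
  set t' := Classical.choose ht with ht'def
  -- `t' = u • a`, `a = v • t'`, `v * u = 1`
  have hmem1 : t' ∈ Submodule.span (X.presheaf.stalk x) {a} := by rw [ha]; trivial
  obtain ⟨u, hu⟩ := Submodule.mem_span_singleton.1 hmem1
  have hmem2 : a ∈ Submodule.span (X.presheaf.stalk x) {t'} := by rw [ht']; trivial
  obtain ⟨v, hv⟩ := Submodule.mem_span_singleton.1 hmem2
  have hvu : v * u = 1 := by
    apply hσinj
    have h1 : spec L x h ((v * u) • a) = spec L x h a := by
      rw [mul_smul, hu, hv]
    rw [spec_smul] at h1
    have h2 : algebraMap (X.presheaf.stalk x) X.functionField (v * u) • spec L x h a =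
        (1 : X.functionField) • spec L x h a := by rw [h1, one_smul]
    rw [map_one]
    exact smul_left_injective _ hsa h2
  have hspt : spec L x h t' = algebraMap (X.presheaf.stalk x) X.functionField u • spec L x h a := by
    rw [← hu, spec_smul]
  have hσu : algebraMap (X.presheaf.stalk x) X.functionField u ≠ 0 := by
    intro h0
    have : algebraMap (X.presheaf.stalk x) X.functionField (v * u) = 0 := by
      rw [map_mul, h0, mul_zero]
    rw [hvu, map_one] at this
    exact one_ne_zero this
  have hφ : ∃ φ : X.presheaf.stalk (genericPoint X),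
      (Submodule.Quotient.mk (α • spec L x h a) : Cyc.secFibre L (genericPoint X)) =
        φ • (Submodule.Quotient.mk ((L.presheaf.stalkSpecializes h) t') :
          Cyc.secFibre L (genericPoint X)) := by
    refine ⟨α * algebraMap (X.presheaf.stalk x) X.functionField v, ?_⟩
    rw [← Submodule.Quotient.mk_smul]
    congr 1
    change α • spec L x h a = (α * algebraMap (X.presheaf.stalk x) X.functionField v) • spec L x h t'
    rw [hspt, smul_smul, mul_assoc, ← map_mul, hvu, map_one, mul_one]
  rw [dif_pos hφ]
  have hφ' := Classical.choose_spec hφ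
  set φ' := Classical.choose hφ with hφ'def
  rw [← Submodule.Quotient.mk_smul] at hφ'
  have h3 : α • spec L x h a = φ' • spec L x h t' := mk_secFibre_injective L hφ'
  rw [hspt, smul_smul] at h3
  have h4 : α = φ' * algebraMap (X.presheaf.stalk x) X.functionField u :=
    smul_left_injective _ hsa h3
  by_cases hα : α = 0
  · have : φ' = 0 := by
      rw [hα] at h4
      exact (mul_eq_zero.1 h4.symm).resolve_right hσu
    rw [hα, this]
  · have hφ0 : φ' ≠ 0 := by
      rintro h0
      rw [h0, zero_mul] at h4
      exact hα h4
    have ho := isOrd_cycOrd hX x hx h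
    have hu' : IsUnit u := IsUnit.of_mul_eq_one_right v hvu
    have h5 := ho.mul φ' _ hφ0 hσu
    rw [← h4, ho.unit u hu', add_zero] at h5
    exact h5.symm

end Mod

end Groth.Agent.Lib.T2H4.Ref1Local
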