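import Groth.Agent.Lib.T2H3HomShQCoh

/-!
# Global sections of the sheaf Hom are morphisms; compatibility with specialization (helper4)

Namespace `Groth.Agent.Lib.T2H4.HomShGlobal`.
* `homOfSec θ : F ⟶ G` for a global section `θ` of `𝓗om(F, G)`, with `stalkMapₗ_homOfSec`.
* `stalkSpecializes_stalkMapₗ`, `stalkSpecializes_sec`: stalk maps commute with specialization maps.
-/

set_option autoImplicit false
set_option linter.style.haveILetI false
universe u
open CategoryTheory AlgebraicGeometry TopologicalSpace Opposite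

namespace Groth.Agent.Lib.T2H4.HomShGlobal

open Groth.Agent.Lib.T2H3.HomShQCoh Groth.Agent.Lib.Helper2

variable {X : Scheme.{u}} {F G : X.Modules}

/-- the restriction of a global section of the sheaf Hom -/
noncomputable abbrev resTop (θ : Γ(RefHull.homSh F G, ⊤)) (U : X.Opens) : Γ(RefHull.homSh F G, U) :=
  (RefHull.homSh F G).presheaf.map (homOfLE (le_top : U ≤ ⊤)).op θ

theorem resTop_apply (θ : Γ(RefHull.homSh F G, ⊤)) (U : X.Opens) (y : U) :
    (resTop θ U).1 y = θ.1 ⟨y.1, trivial⟩ := rfl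

theorem germ_val_resTop (θ : Γ(RefHull.homSh F G, ⊤)) (U : X.Opens) (m : Γ(F, U)) (y : X) (hy : y ∈ U) :
    G.presheaf.germ U y hy (val (resTop θ U) m) = θ.1 ⟨y, trivial⟩ (F.presheaf.germ U y hy m) :=
  germ_val (resTop θ U) m y hy

/-- the action of a global section of the sheaf Hom on sections over `U` -/
noncomputable def secFun (θ : Γ(RefHull.homSh F G, ⊤)) (U : X.Opens) : Γ(F, U) →+ Γ(G, U) where
  toFun m := val (resTop θ U) m
  map_zero' := by
    apply sec_ext
    intro y hy
    rw [germ_val_resTop, map_zero, map_zero, map_zero]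
  map_add' a b := by
    apply sec_ext
    intro y hy
    rw [germ_val_resTop, map_add, map_add, map_add, germ_val_resTop, germ_val_resTop]

theorem germ_secFun (θ : Γ(RefHull.homSh F G, ⊤)) (U : X.Opens) (m : Γ(F, U)) (y : X) (hy : y ∈ U) :
    G.presheaf.germ U y hy (secFun θ U m) = θ.1 ⟨y, trivial⟩ (F.presheaf.germ U y hy m) :=
  germ_val_resTop θ U m y hy

theorem secFun_smul (θ : Γ(RefHull.homSh F G, ⊤)) (U : X.Opens) (r : Γ(X, U)) (s : Γ(F, U)) :
    secFun θ U (r • s) = r • secFun θ U s := by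
  apply sec_ext
  intro y hy
  rw [germ_secFun, QCoh.germ_smul, QCoh.germ_smul, map_smul, germ_secFun]

theorem secFun_res (θ : Γ(RefHull.homSh F G, ⊤)) {U V : X.Opens} (i : V ⟶ U) (s : Γ(F, U)) :
    secFun θ V (F.presheaf.map i.op s) = G.presheaf.map i.op (secFun θ U s) := by
  apply sec_ext
  intro y hy
  rw [germ_secFun, TopCat.Presheaf.germ_res_apply G.presheaf i y hy,
    TopCat.Presheaf.germ_res_apply F.presheaf i y hy, germ_secFun]

/-- the morphism defined by a global section of the sheaf Hom -/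
noncomputable def homOfSec (θ : Γ(RefHull.homSh F G, ⊤)) : F ⟶ G :=
  ⟨PresheafOfModules.homMk
    { app := fun U => AddCommGrpCat.ofHom (secFun θ U.unop)
      naturality := fun {U V} i => by
        ext s
        exact secFun_res θ i.unop s }
    (fun U r s => secFun_smul θ U.unop r s)⟩

theorem homOfSec_app (θ : Γ(RefHull.homSh F G, ⊤)) (U : X.Opens) (m : Γ(F, U)) :
    (homOfSec θ).app U m = secFun θ U m := rfl

theorem stalkMapₗ_homOfSec (θ : Γ(RefHull.homSh F G, ⊤)) (x : X) :
    RefHull.stalkMapₗ (homOfSec θ) x = θ.1 ⟨x, trivial⟩ := by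
  apply LinearMap.ext
  intro v
  obtain ⟨U, hxU, m, rfl⟩ := TopCat.Presheaf.exists_germ_eq F.presheaf v
  rw [RefHull.stalkMapₗ_germ, homOfSec_app, germ_secFun]

/-- the specialization maps on stalks applied to germs -/
theorem stalkSpecializes_germ (H : X.Modules) {x y : X} (h : y ⤳ x) {U : X.Opens} (hx : x ∈ U)
    (m : Γ(H, U)) :
    (H.presheaf.stalkSpecializes h).hom (H.presheaf.germ U x hx m) =
      H.presheaf.germ U y (h.mem_open U.isOpen hx) m :=
  ConcreteCategory.congr_hom (TopCat.Presheaf.germ_stalkSpecializes H.presheaf hx h) m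

/-- stalk maps of a morphism commute with specialization -/
theorem stalkSpecializes_stalkMapₗ (φ : F ⟶ G) {x y : X} (h : y ⤳ x) (v : F.presheaf.stalk x) :
    (G.presheaf.stalkSpecializes h).hom (RefHull.stalkMapₗ φ x v) =
      RefHull.stalkMapₗ φ y ((F.presheaf.stalkSpecializes h).hom v) := by
  obtain ⟨U, hxU, m, rfl⟩ := TopCat.Presheaf.exists_germ_eq F.presheaf v
  rw [RefHull.stalkMapₗ_germ, stalkSpecializes_germ, stalkSpecializes_germ, RefHull.stalkMapₗ_germ]

/-- the members of a section of the sheaf Hom commute with specialization -/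
theorem stalkSpecializes_sec {W : X.Opens} (θ : Γ(RefHull.homSh F G, W)) {x y : X} (h : y ⤳ x)
    (hx : x ∈ W) (v : F.presheaf.stalk x) :
    (G.presheaf.stalkSpecializes h).hom (θ.1 ⟨x, hx⟩ v) =
      θ.1 ⟨y, h.mem_open W.isOpen hx⟩ ((F.presheaf.stalkSpecializes h).hom v) := by
  obtain ⟨U, hxU, m, rfl⟩ := TopCat.Presheaf.exists_germ_eq F.presheaf v
  have hxV : x ∈ W ⊓ U := ⟨hx, hxU⟩
  have hyV : y ∈ W ⊓ U := h.mem_open (W ⊓ U).isOpen hxV
  let i₁ : W ⊓ U ⟶ W := homOfLE inf_le_left
  let i₂ : W ⊓ U ⟶ U := homOfLE inf_le_right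
  let θ' : Γ(RefHull.homSh F G, W ⊓ U) := (RefHull.homSh F G).presheaf.map i₁.op θ
  let m' : Γ(F, W ⊓ U) := F.presheaf.map i₂.op m
  have e1 : F.presheaf.germ U x hxU m = F.presheaf.germ (W ⊓ U) x hxV m' :=
    (TopCat.Presheaf.germ_res_apply F.presheaf i₂ x hxV m).symm
  have e2 : θ.1 ⟨x, hx⟩ (F.presheaf.germ (W ⊓ U) x hxV m') =
      G.presheaf.germ (W ⊓ U) x hxV (val θ' m') := (germ_val θ' m' x hxV).symm
  have e3 : θ.1 ⟨y, h.mem_open W.isOpen hx⟩ (F.presheaf.germ (W ⊓ U) y hyV m') =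
      G.presheaf.germ (W ⊓ U) y hyV (val θ' m') := (germ_val θ' m' y hyV).symm
  rw [e1, e2, stalkSpecializes_germ, stalkSpecializes_germ, e3]

end Groth.Agent.Lib.T2H4.HomShGlobal
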