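import Mathlib
import Groth.Prelude.Def_SecTwist
import Groth.Prelude.Def_FlatMod2
import Groth.Agent.Lib.Helper1StalkTensorB
import Groth.Agent.Lib.Helper23SecTw
import Groth.Agent.Lib.T2H4HomShGlobal
set_option backward.isDefEq.respectTransparency.types false

/-!
# Stalks of `CohB1.tensorMod M N` (helper4)

* `τ M N x : M_x ⊗ N_x ≃ₗ (M ⊗ N)_x`, linear over `O_{X,x}`;
* `τ_germ` : `τ (germ m ⊗ germ n) = germ (tm m n)`;
* `stalkSpecializes_τ` : compatibility with specialization maps.
-/

set_option autoImplicit false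
universe u
open CategoryTheory TopCat TopologicalSpace Opposite TensorProduct MonoidalCategory AlgebraicGeometry

namespace Groth.Agent.Lib.T2H4.StalkTensorMod

open Groth.Agent.Lib.Helper1.StalkTensor

variable {X : Scheme.{u}} (M N : X.Modules)

/-- the unit of sheafification `M(U) ⊗ N(U) → (M ⊗ N)(U)` as a morphism of presheaves of modules -/
noncomputable def tt : toPM M ⊗ toPM N ⟶ toPM (CohB1.tensorMod M N) := SecTwist.toTensor M N

lemma tt_app_tm (U : X.Opens) (m : Γ(M, U)) (n : Γ(N, U)) :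
    ((tt M N).app (op U)).hom (tm (toPM M) (toPM N) m n) =
      Groth.Agent.Lib.Helper23.SecTw.tm M N U m n := rfl

lemma W_tt : (Opens.grothendieckTopology X.toTopCat).W
    ((PresheafOfModules.toPresheaf _).map (tt M N)) := by
  have : (PresheafOfModules.toPresheaf _).map (tt M N) = CategoryTheory.toSheafify _ _ :=
    PresheafOfModules.toPresheaf_map_sheafificationAdjunction_unit_app.{u}
      (J := Opens.grothendieckTopology X.toTopCat) (R₀ := X.ringCatSheaf.obj) (R := X.ringCatSheaf)
      (𝟙 X.ringCatSheaf.obj) (CohB1.tensorPre M N)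
  rw [this]
  exact GrothendieckTopology.W_toSheafify _ _

lemma sm_tt_bijective (x : X) : Function.Bijective (sm (tt M N) x) :=
  stalk_bijective_of_W _ (W_tt M N) x

/-- the stalk of the tensor product is the tensor product of the stalks -/
noncomputable def τ (x : X) :
    (M.presheaf.stalk x) ⊗[X.presheaf.stalk x] (N.presheaf.stalk x) ≃ₗ[X.presheaf.stalk x]
      (CohB1.tensorMod M N).presheaf.stalk x :=
  (αLin (toPM M) (toPM N) x).symm.trans
    (LinearEquiv.ofBijective (smₗ (tt M N) x) (sm_tt_bijective M N x))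

lemma τ_tmul (x : X) (a : M.presheaf.stalk x) (b : N.presheaf.stalk x) :
    τ M N x (a ⊗ₜ b) = sm (tt M N) x (β₀ (toPM M) (toPM N) x a b) := rfl

/-- `τ` on germs of sections -/
lemma τ_germ (x : X) (U : X.Opens) (hx : x ∈ U) (m : Γ(M, U)) (n : Γ(N, U)) :
    τ M N x ((M.presheaf.germ U x hx m) ⊗ₜ (N.presheaf.germ U x hx n)) =
      (CohB1.tensorMod M N).presheaf.germ U x hx (Groth.Agent.Lib.Helper23.SecTw.tm M N U m n) := by
  rw [τ_tmul]
  have h1 := β₀_gm (P := toPM M) (Q := toPM N) (x := x) hx m n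
  change β₀ (toPM M) (toPM N) x (M.presheaf.germ U x hx m) (N.presheaf.germ U x hx n) = _ at h1
  rw [h1, sm_gm]
  rfl

open Groth.Agent.Lib.T2H4.HomShGlobal in
/-- `τ` is compatible with specialization -/
lemma stalkSpecializes_τ {x y : X} (h : y ⤳ x) (a : M.presheaf.stalk x) (b : N.presheaf.stalk x) :
    (CohB1.tensorMod M N).presheaf.stalkSpecializes h (τ M N x (a ⊗ₜ b)) =
      τ M N y ((M.presheaf.stalkSpecializes h a) ⊗ₜ (N.presheaf.stalkSpecializes h b)) := by
  obtain ⟨U, hU, m, n, rfl, rfl⟩ := exists_rep₂ (P := toPM M) (Q := toPM N) a b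
  change (CohB1.tensorMod M N).presheaf.stalkSpecializes h
      (τ M N x ((M.presheaf.germ U x hU m) ⊗ₜ (N.presheaf.germ U x hU n))) =
    τ M N y ((M.presheaf.stalkSpecializes h (M.presheaf.germ U x hU m)) ⊗ₜ
      (N.presheaf.stalkSpecializes h (N.presheaf.germ U x hU n)))
  have hy : y ∈ U := h.mem_open U.2 hU
  rw [τ_germ, TopCat.Presheaf.germ_stalkSpecializes_apply, TopCat.Presheaf.germ_stalkSpecializes_apply,
    TopCat.Presheaf.germ_stalkSpecializes_apply, τ_germ]

end Groth.Agent.Lib.T2H4.StalkTensorMod
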