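import Mathlib
import Groth.Prelude.Def_C1
import Groth.Prelude.Def_Cyc
import Groth.Agent.Lib.T2H4Ref1Local
import Groth.Agent.Lib.T2H4StalkTensorMod
import Groth.Agent.S8923
set_option backward.isDefEq.respectTransparency.types false

/-!
# Additivity of the order of rational sections (helper4)
-/

set_option autoImplicit false
set_option linter.style.haveILetI false
universe u
open CategoryTheory AlgebraicGeometry TopologicalSpace TensorProduct

namespace Groth.Agent.Lib.T2H4.SecOrdAdd

section Alg

variable {R : Type u} [CommRing R] {A B : Type u} [AddCommGroup A] [Module R A] [AddCommGroup B]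
  [Module R B]

theorem bijective_smul_tmul (a : A) (b : B) (ha : Function.Bijective (fun c : R => c • a))
    (hb : Function.Bijective (fun c : R => c • b)) :
    Function.Bijective (fun c : R => c • (a ⊗ₜ[R] b)) := by
  let eA : R ≃ₗ[R] A := LinearEquiv.ofBijective (LinearMap.toSpanSingleton R A a) ha
  let eB : R ≃ₗ[R] B := LinearEquiv.ofBijective (LinearMap.toSpanSingleton R B b) hb
  let e : R ≃ₗ[R] A ⊗[R] B := (TensorProduct.lid R R).symm ≪≫ₗ TensorProduct.congr eA eB
  have he : ∀ c : R, e c = c • (a ⊗ₜ[R] b) := by
    intro c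
    change TensorProduct.congr eA eB ((TensorProduct.lid R R).symm c) = _
    rw [TensorProduct.lid_symm_apply, TensorProduct.congr_tmul]
    change ((1 : R) • a) ⊗ₜ[R] (c • b) = _
    rw [one_smul, TensorProduct.tmul_smul]
  have : (fun c : R => c • (a ⊗ₜ[R] b)) = e := funext fun c => (he c).symm
  rw [this]
  exact e.bijective

theorem span_tmul_eq_top (a : A) (b : B) (ha : Submodule.span R {a} = ⊤)
    (hb : Submodule.span R {b} = ⊤) : Submodule.span R {a ⊗ₜ[R] b} = ⊤ := by
  rw [eq_top_iff]
  rintro z -
  induction z using TensorProduct.induction_on with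
  | zero => exact Submodule.zero_mem _
  | tmul x y =>
    have hx : x ∈ Submodule.span R {a} := by rw [ha]; trivial
    have hy : y ∈ Submodule.span R {b} := by rw [hb]; trivial
    obtain ⟨r, rfl⟩ := Submodule.mem_span_singleton.1 hx
    obtain ⟨s, rfl⟩ := Submodule.mem_span_singleton.1 hy
    rw [TensorProduct.smul_tmul_smul]
    exact Submodule.smul_mem _ _ (Submodule.mem_span_singleton_self _)
  | add x y hx hy => exact Submodule.add_mem _ hx hy

theorem ne_zero_of_bijective_smul [Nontrivial R] (a : A) (ha : Function.Bijective (fun c : R => c • a)) :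
    a ≠ 0 := by
  rintro rfl
  have : (1 : R) = 0 := ha.1 (by simp)
  exact one_ne_zero this

theorem span_eq_top_of_bijective_smul (a : A) (ha : Function.Bijective (fun c : R => c • a)) :
    Submodule.span R {a} = ⊤ := by
  rw [eq_top_iff]
  rintro z -
  obtain ⟨c, rfl⟩ := ha.2 z
  exact Submodule.smul_mem _ _ (Submodule.mem_span_singleton_self _)

end Alg

theorem ordFrac_mul (R : Type u) [CommRing R] (K : Type u) [Field K] [Algebra R K] (f g : K)
    (hf : f ≠ 0) (hg : g ≠ 0) :
    CycAlg.ordFrac R K (f * g) = CycAlg.ordFrac R K f + CycAlg.ordFrac R K g := by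
  unfold CycAlg.ordFrac
  split_ifs with h
  · haveI := h.1; haveI := h.2.1; haveI := h.2.2.1; haveI := h.2.2.2
    rw [map_mul]
    have h1 : Ring.ordFrac R f ≠ 0 := (map_ne_zero _).2 hf
    have h2 : Ring.ordFrac R g ≠ 0 := (map_ne_zero _).2 hg
    obtain ⟨a, ha⟩ := WithZero.ne_zero_iff_exists.1 h1
    obtain ⟨b, hb⟩ := WithZero.ne_zero_iff_exists.1 h2
    rw [← ha, ← hb, ← WithZero.coe_mul]
    simp only [WithZero.recZeroCoe_coe, toAdd_mul]
  · simp

variable {X : Scheme.{u}} [IsIntegral X]

open Groth.Agent.Lib.T2H4.Ref1Local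

theorem ordAt_mul (x : X) (h : genericPoint X ⤳ x) (f g : X.functionField) (hf : f ≠ 0) (hg : g ≠ 0) :
    Cyc.ordAt x (genericPoint X) h (X.residue (genericPoint X) (f * g)) =
      Cyc.ordAt x (genericPoint X) h (X.residue (genericPoint X) f) +
        Cyc.ordAt x (genericPoint X) h (X.residue (genericPoint X) g) := by
  unfold Cyc.ordAt
  rw [map_mul]
  have hinj : Function.Injective (X.residue (genericPoint X)).hom :=
    RingHom.injective (X.residue (genericPoint X)).hom
  exact ordFrac_mul _ _ _ _ ((map_ne_zero_iff _ hinj).2 hf) ((map_ne_zero_iff _ hinj).2 hg)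

/-- **the order of a rational section with respect to any generator**, at an arbitrary point -/
theorem secOrdAt_eq' (L : X.Modules)
    (x : X) (h : genericPoint X ⤳ x) (a : L.presheaf.stalk x)
    (ha : Submodule.span (X.presheaf.stalk x) {a} = ⊤) (hsa : spec L x h a ≠ 0) (α : X.functionField) :
    Cyc.secOrdAt L (genericPoint X) x h
        (Submodule.Quotient.mk (α • spec L x h a) : Cyc.secFibre L (genericPoint X)) =
      Cyc.ordAt x (genericPoint X) h (X.residue (genericPoint X) α) := by
  have hσinj : Function.Injective (algebraMap (X.presheaf.stalk x) X.functionField) :=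
    IsFractionRing.injective _ _
  unfold Cyc.secOrdAt
  have ht : ∃ t : L.presheaf.stalk x, Submodule.span (X.presheaf.stalk x) {t} = ⊤ := ⟨a, ha⟩
  rw [dif_pos ht]
  have ht' := Classical.choose_spec ht
  set t' := Classical.choose ht with ht'def
  have hmem1 : t' ∈ Submodule.span (X.presheaf.stalk x) {a} := by rw [ha]; trivial
  obtain ⟨u, hu⟩ := Submodule.mem_span_singleton.1 hmem1
  have hmem2 : a ∈ Submodule.span (X.presheaf.stalk x) {t'} := by rw [ht']; trivial
  obtain ⟨v, hv⟩ := Submodule.mem_span_singleton.1 hmem2
  have hvu : v * u = 1 := by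
    apply hσinj
    have h1 : spec L x h ((v * u) • a) = spec L x h a := by
      rw [mul_smul, hu, hv]
    rw [spec_smul] at h1
    have h2 : algebraMap (X.presheaf.stalk x) X.functionField (v * u) • spec L x h a =
        (1 : X.functionField) • spec L x h a := by rw [h1, one_smul]
    rw [map_one]
    exact smul_left_injective _ hsa h2
  have hspt : spec L x h t' = algebraMap (X.presheaf.stalk x) X.functionField u • spec L x h a := by
    rw [← hu, spec_smul]
  have hσu : algebraMap (X.presheaf.stalk x) X.functionField u ≠ 0 := by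
    intro h0
    have : algebraMap (X.presheaf.stalk x) X.functionField (v * u) = 0 := by
      rw [map_mul, h0, mul_zero]
    rw [hvu, map_one] at this
    exact one_ne_zero this
  have hφ : ∃ φ : X.presheaf.stalk (genericPoint X),
      (Submodule.Quotient.mk (α • spec L x h a) : Cyc.secFibre L (genericPoint X)) =
        φ • (Submodule.Quotient.mk ((L.presheaf.stalkSpecializes h) t') :
          Cyc.secFibre L (genericPoint X)) := by
    refine ⟨α * algebraMap (X.presheaf.stalk x) X.functionField v, ?_⟩
    rw [← Submodule.Quotient.mk_smul]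
    congr 1
    change α • spec L x h a = (α * algebraMap (X.presheaf.stalk x) X.functionField v) • spec L x h t'
    rw [hspt, smul_smul, mul_assoc, ← map_mul, hvu, map_one, mul_one]
  rw [dif_pos hφ]
  have hφ' := Classical.choose_spec hφ
  set φ' := Classical.choose hφ with hφ'def
  rw [← Submodule.Quotient.mk_smul] at hφ'
  have h3 : α • spec L x h a = φ' • spec L x h t' := mk_secFibre_injective L hφ'
  rw [hspt, smul_smul] at h3
  have h4 : α = φ' * algebraMap (X.presheaf.stalk x) X.functionField u :=
    smul_left_injective _ hsa h3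
  by_cases hα : α = 0
  · have : φ' = 0 := by
      rw [hα] at h4
      exact (mul_eq_zero.1 h4.symm).resolve_right hσu
    rw [hα, this]
  · have hφ0 : φ' ≠ 0 := by
      rintro h0
      rw [h0, zero_mul] at h4
      exact hα h4
    have hu' : IsUnit u := IsUnit.of_mul_eq_one_right v hvu
    have h5 := ordAt_mul x h φ' _ hφ0 hσu
    have h6 : Cyc.ordAt x (genericPoint X) h
        (X.residue (genericPoint X) (algebraMap (X.presheaf.stalk x) X.functionField u)) = 0 :=
      Groth.Agent.S8923.ordAt_unit x (genericPoint X) h u hu'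
    rw [← h4, h6, add_zero] at h5
    exact h5.symm

end Groth.Agent.Lib.T2H4.SecOrdAdd
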