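import Mathlib
import Groth.Prelude.Def_C1
import Groth.Prelude.Def_Cyc
import Groth.Agent.Lib.T2H4SecOrdAdd
import Groth.Agent.Lib.Helper20InvGen
import Groth.Agent.S8923
set_option backward.isDefEq.respectTransparency.types false

/-!
# The order of a rational section of an invertible module on the closure of an arbitrary point
(helper4)

Namespace `Groth.Agent.Lib.T2H4.SecOrdGen`.
-/

set_option autoImplicit false
set_option linter.style.haveILetI false
universe u
open CategoryTheory AlgebraicGeometry TopologicalSpace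

namespace Groth.Agent.Lib.T2H4.SecOrdGen

open Groth.Agent.Lib.T2H4.SecOrdAdd

section Alg

variable {K : Type u} [Field K] (o : K → ℤ)

theorem o_one (ho : ∀ f g : K, f ≠ 0 → g ≠ 0 → o (f * g) = o f + o g) : o 1 = 0 := by
  have := ho 1 1 one_ne_zero one_ne_zero
  rw [one_mul] at this
  omega

theorem o_inv (ho : ∀ f g : K, f ≠ 0 → g ≠ 0 → o (f * g) = o f + o g) (f : K) (hf : f ≠ 0) :
    o f⁻¹ = - o f := by
  have := ho f f⁻¹ hf (inv_ne_zero hf)
  rw [mul_inv_cancel₀ hf, o_one o ho] at this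
  omega

theorem o_div (ho : ∀ f g : K, f ≠ 0 → g ≠ 0 → o (f * g) = o f + o g) (f g : K) (hf : f ≠ 0)
    (hg : g ≠ 0) : o (f / g) = o f - o g := by
  rw [div_eq_mul_inv, ho f g⁻¹ hf (inv_ne_zero hg), o_inv o ho g hg]
  ring

theorem o_npow (ho : ∀ f g : K, f ≠ 0 → g ≠ 0 → o (f * g) = o f + o g) (f : K) (hf : f ≠ 0)
    (n : ℕ) : o (f ^ n) = n * o f := by
  induction n with
  | zero => simp [o_one o ho]
  | succ n ih =>
    rw [pow_succ, ho _ _ (pow_ne_zero n hf) hf, ih]
    push_cast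
    ring

theorem o_zpow (ho : ∀ f g : K, f ≠ 0 → g ≠ 0 → o (f * g) = o f + o g) (f : K) (hf : f ≠ 0)
    (n : ℤ) : o (f ^ n) = n * o f := by
  obtain ⟨m, rfl | rfl⟩ := Int.eq_nat_or_neg n
  · rw [zpow_natCast, o_npow o ho f hf]
  · rw [zpow_neg, zpow_natCast, o_inv o ho _ (pow_ne_zero m hf), o_npow o ho f hf]
    ring

variable {R : Type u} [CommRing R] {M : Type u} [AddCommGroup M] [Module R M]

theorem mem_smul_top_iff (I : Ideal R) (b : M) (hb : Function.Bijective (fun c : R => c • b)) (l : M) :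
    l ∈ I • (⊤ : Submodule R M) ↔ ∃ m ∈ I, l = m • b := by
  constructor
  · intro hl
    refine Submodule.smul_induction_on hl ?_ ?_
    · intro r hr n _
      obtain ⟨c, rfl⟩ := hb.2 n
      exact ⟨r * c, I.mul_mem_right c hr, by rw [mul_smul]⟩
    · rintro x y ⟨m, hm, rfl⟩ ⟨m', hm', rfl⟩
      exact ⟨m + m', I.add_mem hm hm', by rw [add_smul]⟩
  · rintro ⟨m, hm, rfl⟩
    exact Submodule.smul_mem_smul hm trivial

end Alg

variable {X : Scheme.{u}}

/-- multiplicativity of the order along an arbitrary specialization -/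
theorem ordAt_mul (x ξ : X) (h : ξ ⤳ x) (f g : X.residueField ξ) (hf : f ≠ 0) (hg : g ≠ 0) :
    Cyc.ordAt x ξ h (f * g) = Cyc.ordAt x ξ h f + Cyc.ordAt x ξ h g :=
  ordFrac_mul _ _ f g hf hg

theorem ordAt_one (x ξ : X) (h : ξ ⤳ x) : Cyc.ordAt x ξ h 1 = 0 :=
  o_one _ (ordAt_mul x ξ h)

theorem ordAt_div (x ξ : X) (h : ξ ⤳ x) (f g : X.residueField ξ) (hf : f ≠ 0) (hg : g ≠ 0) :
    Cyc.ordAt x ξ h (f / g) = Cyc.ordAt x ξ h f - Cyc.ordAt x ξ h g :=
  o_div _ (ordAt_mul x ξ h) f g hf hg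

theorem ordAt_zpow (x ξ : X) (h : ξ ⤳ x) (f : X.residueField ξ) (hf : f ≠ 0) (n : ℤ) :
    Cyc.ordAt x ξ h (f ^ n) = n * Cyc.ordAt x ξ h f :=
  o_zpow _ (ordAt_mul x ξ h) f hf n

theorem divFun_zpow (δ : X → ℤ) (ξ : X) (f : X.residueField ξ) (hf : f ≠ 0) (n : ℤ) (x : X) :
    Cyc.divFun δ ξ (f ^ n) x = n * Cyc.divFun δ ξ f x := by
  unfold Cyc.divFun
  split_ifs with h
  · exact ordAt_zpow x ξ h.1 f hf n
  · simp

variable (L : X.Modules)

/-- the specialization map on stalks of a module -/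
noncomputable abbrev sp {ξ x : X} (h : ξ ⤳ x) : L.presheaf.stalk x → L.presheaf.stalk ξ :=
  (L.presheaf.stalkSpecializes h).hom

/-- the specialization map on local rings -/
noncomputable abbrev spO {ξ x : X} (h : ξ ⤳ x) : X.presheaf.stalk x →+* X.presheaf.stalk ξ :=
  (X.presheaf.stalkSpecializes h).hom

theorem sp_smul {ξ x : X} (h : ξ ⤳ x) (c : X.presheaf.stalk x) (m : L.presheaf.stalk x) :
    sp L h (c • m) = spO h c • sp L h m :=
  Groth.Agent.S8923.stalkSpecializes_smul L h c m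

theorem residue_eq_zero_iff (ξ : X) (φ : X.presheaf.stalk ξ) :
    X.residue ξ φ = 0 ↔ φ ∈ IsLocalRing.maximalIdeal (X.presheaf.stalk ξ) :=
  IsLocalRing.residue_eq_zero_iff φ

/-- for a free generator `b` of the stalk at `ξ`, `φ b` vanishes in the fibre iff `φ` vanishes in the
residue field -/
theorem mk_smul_eq_zero_iff {ξ : X} (b : L.presheaf.stalk ξ)
    (hb : Function.Bijective (fun c : X.presheaf.stalk ξ => c • b)) (φ : X.presheaf.stalk ξ) :
    (Submodule.Quotient.mk (φ • b) : Cyc.secFibre L ξ) = 0 ↔ X.residue ξ φ = 0 := by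
  rw [Submodule.Quotient.mk_eq_zero, mem_smul_top_iff _ b hb, residue_eq_zero_iff]
  constructor
  · rintro ⟨m, hm, h⟩
    have : φ = m := hb.1 h
    rw [this]
    exact hm
  · intro h
    exact ⟨φ, h, rfl⟩

theorem mk_smul_eq_iff {ξ : X} (b : L.presheaf.stalk ξ)
    (hb : Function.Bijective (fun c : X.presheaf.stalk ξ => c • b)) (φ ψ : X.presheaf.stalk ξ) :
    (Submodule.Quotient.mk (φ • b) : Cyc.secFibre L ξ) = Submodule.Quotient.mk (ψ • b) ↔
      X.residue ξ φ = X.residue ξ ψ := by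
  rw [← sub_eq_zero, ← Submodule.Quotient.mk_sub, ← sub_smul, mk_smul_eq_zero_iff L b hb, map_sub,
    sub_eq_zero]

/-- two free generators differ by a unit -/
theorem exists_unit_of_bijective {R : Type u} [CommRing R] {M : Type u} [AddCommGroup M] [Module R M]
    (a b : M) (ha : Function.Bijective (fun c : R => c • a))
    (hb : Function.Bijective (fun c : R => c • b)) :
    ∃ u v : R, b = u • a ∧ a = v • b ∧ u * v = 1 := by
  obtain ⟨u, hu⟩ := ha.2 b
  obtain ⟨v, hv⟩ := hb.2 a
  have hu' : u • a = b := hu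
  have hv' : v • b = a := hv
  refine ⟨u, v, hu'.symm, hv'.symm, ?_⟩
  apply hb.1
  change (u * v) • b = (1 : R) • b
  rw [mul_smul, hv', hu', one_smul]

theorem bijective_smul_of_unit {R : Type u} [CommRing R] {M : Type u} [AddCommGroup M] [Module R M]
    (a : M) (ha : Function.Bijective (fun c : R => c • a)) (u : R) (hu : IsUnit u) :
    Function.Bijective (fun c : R => c • (u • a)) := by
  obtain ⟨u, rfl⟩ := hu
  have : (fun c : R => c • ((u : R) • a)) = (fun c : R => c • a) ∘ (fun c : R => c * u) := by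
    funext c
    simp [mul_smul]
  rw [this]
  refine ha.comp ⟨fun c d h => ?_, fun c => ⟨c * ((u⁻¹ : Rˣ) : R), ?_⟩⟩
  · exact (Units.mul_left_inj u).1 h
  · simp

/-- **the order of a rational section with respect to a generator**, along an arbitrary
specialization `ξ ⤳ x`: `a` freely generates `L_x` and its image freely generates `L_ξ` -/
theorem secOrdAt_eq {ξ x : X} (h : ξ ⤳ x) (a : L.presheaf.stalk x)
    (ha : Function.Bijective (fun c : X.presheaf.stalk x => c • a))
    (haξ : Function.Bijective (fun c : X.presheaf.stalk ξ => c • sp L h a))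
    (φ : X.presheaf.stalk ξ) :
    Cyc.secOrdAt L ξ x h (Submodule.Quotient.mk (φ • sp L h a) : Cyc.secFibre L ξ) =
      Cyc.ordAt x ξ h (X.residue ξ φ) := by
  unfold Cyc.secOrdAt
  have ht : ∃ t : L.presheaf.stalk x, Submodule.span (X.presheaf.stalk x) {t} = ⊤ :=
    ⟨a, span_eq_top_of_bijective_smul a ha⟩
  rw [dif_pos ht]
  have ht' := Classical.choose_spec ht
  set t' := Classical.choose ht with ht'def
  have hmem1 : t' ∈ Submodule.span (X.presheaf.stalk x) {a} := by
    rw [span_eq_top_of_bijective_smul a ha]; trivial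
  obtain ⟨u, hu⟩ := Submodule.mem_span_singleton.1 hmem1
  have hmem2 : a ∈ Submodule.span (X.presheaf.stalk x) {t'} := by rw [ht']; trivial
  obtain ⟨v, hv⟩ := Submodule.mem_span_singleton.1 hmem2
  have hvu : v * u = 1 := by
    apply ha.1
    change (v * u) • a = (1 : X.presheaf.stalk x) • a
    rw [mul_smul, hu, hv, one_smul]
  have hu' : IsUnit u := IsUnit.of_mul_eq_one_right v hvu
  have hspt : sp L h t' = spO h u • sp L h a := by
    rw [← hu, sp_smul]
  have hspvu : spO h v * spO h u = 1 := by rw [← map_mul, hvu, map_one]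
  have hφ : ∃ φ' : X.presheaf.stalk ξ,
      (Submodule.Quotient.mk (φ • sp L h a) : Cyc.secFibre L ξ) =
        φ' • (Submodule.Quotient.mk ((L.presheaf.stalkSpecializes h) t') : Cyc.secFibre L ξ) := by
    refine ⟨φ * spO h v, ?_⟩
    rw [← Submodule.Quotient.mk_smul]
    congr 1
    change φ • sp L h a = (φ * spO h v) • sp L h t'
    rw [hspt, smul_smul, mul_assoc, hspvu, mul_one]
  rw [dif_pos hφ]
  have hφ' := Classical.choose_spec hφ
  set φ' := Classical.choose hφ with hφ'def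
  rw [← Submodule.Quotient.mk_smul] at hφ'
  have h3 : (Submodule.Quotient.mk (φ • sp L h a) : Cyc.secFibre L ξ) =
      Submodule.Quotient.mk ((φ' * spO h u) • sp L h a) := by
    rw [hφ']
    congr 1
    change φ' • sp L h t' = _
    rw [hspt, smul_smul]
  rw [mk_smul_eq_iff L _ haξ, map_mul] at h3
  have hres_u : X.residue ξ (spO h u) ≠ 0 := by
    intro h0
    have : X.residue ξ (spO h v * spO h u) = 0 := by
      rw [map_mul, h0, mul_zero]
    rw [hspvu, map_one] at this
    exact one_ne_zero this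
  have h6 : Cyc.ordAt x ξ h (X.residue ξ (spO h u)) = 0 :=
    Groth.Agent.S8923.ordAt_unit x ξ h u hu'
  by_cases hφ0 : X.residue ξ φ' = 0
  · rw [h3, hφ0, zero_mul]
  · rw [h3, ordAt_mul x ξ h _ _ hφ0 hres_u, h6, add_zero]

open Groth.Agent.Lib.Helper20.InvGen in
/-- an invertible module has a free generator at `x` whose image freely generates the stalk at any
generization `ξ` -/
theorem exists_gen (hL : PicF.IsInvertible L) {ξ x : X} (h : ξ ⤳ x) :
    ∃ a : L.presheaf.stalk x, Function.Bijective (fun c : X.presheaf.stalk x => c • a) ∧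
      Function.Bijective (fun c : X.presheaf.stalk ξ => c • sp L h a) := by
  obtain ⟨W, t, hxW, ht⟩ := exists_local_generator L hL x
  have hξW : ξ ∈ W := h.mem_open W.isOpen hxW
  have hsp : sp L h (L.presheaf.germ W x hxW t) = L.presheaf.germ W ξ hξW t :=
    TopCat.Presheaf.germ_stalkSpecializes_apply L.presheaf hxW h t
  refine ⟨L.presheaf.germ W x hxW t, ht x hxW, ?_⟩
  rw [hsp]
  exact ht ξ hξW

theorem exists_free_gen (hL : PicF.IsInvertible L) (ξ : X) :
    ∃ b : L.presheaf.stalk ξ, Function.Bijective (fun c : X.presheaf.stalk ξ => c • b) := by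
  obtain ⟨a, ha, -⟩ := exists_gen L hL (specializes_rfl : ξ ⤳ ξ)
  exact ⟨a, ha⟩

/-- the order of `φ b`, `b` a free generator at `ξ`, in terms of a generator `a` at `x`:
if `b = w • sp a` then the order is `ord φ + ord w` -/
theorem secOrdAt_of_gen {ξ x : X} (h : ξ ⤳ x) (a : L.presheaf.stalk x)
    (ha : Function.Bijective (fun c : X.presheaf.stalk x => c • a))
    (haξ : Function.Bijective (fun c : X.presheaf.stalk ξ => c • sp L h a))
    (w : X.presheaf.stalk ξ) (hw : X.residue ξ w ≠ 0)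
    (φ : X.presheaf.stalk ξ) (hφ : X.residue ξ φ ≠ 0) :
    Cyc.secOrdAt L ξ x h (Submodule.Quotient.mk (φ • (w • sp L h a)) : Cyc.secFibre L ξ) =
      Cyc.ordAt x ξ h (X.residue ξ φ) + Cyc.ordAt x ξ h (X.residue ξ w) := by
  rw [smul_smul, secOrdAt_eq L h a ha haξ, map_mul, ordAt_mul x ξ h _ _ hφ hw]

/-- **difference of the orders of two nonzero rational sections**: it is the order of their ratio -/
theorem secOrdAt_sub (hL : PicF.IsInvertible L) {ξ x : X} (h : ξ ⤳ x) (b : L.presheaf.stalk ξ)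
    (hb : Function.Bijective (fun c : X.presheaf.stalk ξ => c • b))
    (φ ψ : X.presheaf.stalk ξ) (hφ : X.residue ξ φ ≠ 0) (hψ : X.residue ξ ψ ≠ 0) :
    Cyc.secOrdAt L ξ x h (Submodule.Quotient.mk (φ • b) : Cyc.secFibre L ξ) -
        Cyc.secOrdAt L ξ x h (Submodule.Quotient.mk (ψ • b) : Cyc.secFibre L ξ) =
      Cyc.ordAt x ξ h (X.residue ξ φ / X.residue ξ ψ) := by
  obtain ⟨a, ha, haξ⟩ := exists_gen L hL h
  obtain ⟨w, w', hw, -, hww'⟩ := exists_unit_of_bijective (sp L h a) b haξ hb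
  have hw0 : X.residue ξ w ≠ 0 := by
    intro h0
    have : X.residue ξ (w * w') = 0 := by rw [map_mul, h0, zero_mul]
    rw [hww', map_one] at this
    exact one_ne_zero this
  rw [hw, secOrdAt_of_gen L h a ha haξ w hw0 φ hφ, secOrdAt_of_gen L h a ha haξ w hw0 ψ hψ,
    ordAt_div x ξ h _ _ hφ hψ]
  ring

/-- every element of the fibre is a multiple of the class of a free generator -/
theorem exists_eq_mk_smul {ξ : X} (b : L.presheaf.stalk ξ)
    (hb : Function.Bijective (fun c : X.presheaf.stalk ξ => c • b)) (s : Cyc.secFibre L ξ) :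
    ∃ φ : X.presheaf.stalk ξ, s = Submodule.Quotient.mk (φ • b) := by
  obtain ⟨l, rfl⟩ := Submodule.Quotient.mk_surjective _ s
  obtain ⟨φ, rfl⟩ := hb.2 l
  exact ⟨φ, rfl⟩

/-- **the difference of the divisors of two nonzero rational sections is a principal divisor** -/
theorem exists_secDivFun_sub (hL : PicF.IsInvertible L) (δ : X → ℤ) (ξ : X)
    (s t : Cyc.secFibre L ξ) (hs : s ≠ 0) (ht : t ≠ 0) :
    ∃ f : X.residueField ξ, f ≠ 0 ∧
      ∀ x : X, Cyc.secDivFun δ L ξ s x - Cyc.secDivFun δ L ξ t x = Cyc.divFun δ ξ f x := by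
  obtain ⟨b, hb⟩ := exists_free_gen L hL ξ
  obtain ⟨φ, rfl⟩ := exists_eq_mk_smul L b hb s
  obtain ⟨ψ, rfl⟩ := exists_eq_mk_smul L b hb t
  have hφ : X.residue ξ φ ≠ 0 := fun h0 => hs ((mk_smul_eq_zero_iff L b hb φ).2 h0)
  have hψ : X.residue ξ ψ ≠ 0 := fun h0 => ht ((mk_smul_eq_zero_iff L b hb ψ).2 h0)
  refine ⟨X.residue ξ φ / X.residue ξ ψ, div_ne_zero hφ hψ, fun x => ?_⟩
  unfold Cyc.secDivFun Cyc.divFun
  split_ifs with h
  · exact secOrdAt_sub L hL h.1 b hb φ ψ hφ hψ
  · simp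

end Groth.Agent.Lib.T2H4.SecOrdGen
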