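import Mathlib
import Groth.Prelude.Def_C1
import Groth.Prelude.Def_Cyc
import Groth.Prelude.Def_Bivar
import Groth.Agent.Lib.T2H4SecOrdGen
set_option backward.isDefEq.respectTransparency.types false

/-!
# Rational equivalence of first Chern class caps computed with different sections (helper4)

Namespace `Groth.Agent.Lib.T2H4.C1CapRat`.
-/

set_option autoImplicit false
set_option linter.style.haveILetI false
universe u
open CategoryTheory AlgebraicGeometry TopologicalSpace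

namespace Groth.Agent.Lib.T2H4.C1CapRat

open Groth.Agent.Lib.T2H4.SecOrdGen

variable {X : Scheme.{u}} (δ : X → ℤ)

/-- **a cycle `Σ_ξ α(ξ) · div(f_ξ)` is rationally equivalent to zero**: general principle, with the
divisors `div(f_ξ)` given as a function `E ξ` -/
theorem ratEquivZero_of_forall (k : ℤ) (α : AlgebraicCycle X ℤ) (hα : α ∈ Cyc.Zk X δ (k + 1))
    (E : X → X → ℤ)
    (hE : ∀ ξ, ∃ f : X.residueField ξ, f ≠ 0 ∧ ∀ x, E ξ x = Cyc.divFun δ ξ f x)
    (γ : AlgebraicCycle X ℤ) (hγ : ∀ x, γ x = ∑ᶠ ξ, α ξ * E ξ x) : Cyc.RatEquivZero δ k γ := by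
  choose f hf0 hfE using hE
  refine ⟨{ξ : X // α ξ ≠ 0}, Subtype.val, fun i => (f i.1) ^ (α i.1), ?_, ?_, ?_, ?_⟩
  · intro i
    by_contra h
    exact i.2 (hα i.1 h)
  · intro i
    exact zpow_ne_zero _ (hf0 i.1)
  · intro x
    obtain ⟨t, ht, hfin⟩ := α.supportLocallyFiniteWithinDomain' x (Set.mem_univ x)
    obtain ⟨U, hUt, hUo, hxU⟩ := mem_nhds_iff.1 ht
    refine ⟨U, hUo, hxU, ?_⟩
    refine Set.Finite.of_finite_image (f := Subtype.val) (hfin.subset ?_) Subtype.val_injective.injOn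
    rintro _ ⟨i, ⟨y, hy1, hy2⟩, rfl⟩
    have hsp : i.1 ⤳ y := specializes_iff_mem_closure.2 hy1
    exact ⟨hUt (hsp.mem_open hUo hy2), i.2⟩
  · intro x
    rw [hγ x]
    have h1 : ∀ i : {ξ : X // α ξ ≠ 0}, Cyc.divFun δ i.1 ((f i.1) ^ (α i.1)) x =
        (fun ξ => α ξ * E ξ x) i.1 := by
      intro i
      rw [divFun_zpow δ i.1 (f i.1) (hf0 i.1)]
      change _ = α i.1 * E i.1 x
      rw [hfE]
    rw [finsum_congr h1, finsum_subtype_eq_finsum_cond (f := fun ξ => α ξ * E ξ x) (fun ξ => α ξ ≠ 0)]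
    refine finsum_congr fun ξ => ?_
    by_cases h : α ξ ≠ 0
    · rw [finsum_eq_if, if_pos h]
    · rw [finsum_eq_if, if_neg h]
      push Not at h
      rw [h, zero_mul]

theorem support_subset (L : X.Modules) (α : AlgebraicCycle X ℤ) (s : (ξ : X) → Cyc.secFibre L ξ)
    (x : X) :
    (Function.support fun ξ => α ξ * Cyc.secDivFun δ L ξ (s ξ) x) ⊆ {ξ : X | ξ ⤳ x ∧ α ξ ≠ 0} := by
  intro ξ hξ
  rw [Function.mem_support] at hξ
  refine ⟨?_, left_ne_zero_of_mul hξ⟩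
  have h2 := right_ne_zero_of_mul hξ
  by_contra hc
  apply h2
  simp [Cyc.secDivFun, hc]

theorem finite_support (L : X.Modules) (α : AlgebraicCycle X ℤ) (s : (ξ : X) → Cyc.secFibre L ξ)
    (x : X) :
    (Function.support fun ξ => α ξ * Cyc.secDivFun δ L ξ (s ξ) x).Finite :=
  (Bivar.finite_support_specializes α x).subset (support_subset δ L α s x)

/-- **independence of the chosen rational sections**: `c_1(L) ∩ α` computed with two families of
nonzero rational sections gives rationally equivalent cycles -/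
theorem ratEquiv_of_sections (L : X.Modules) (hL : PicF.IsInvertible L) (k : ℤ)
    (α : AlgebraicCycle X ℤ) (hα : α ∈ Cyc.Zk X δ (k + 1))
    (s t : (ξ : X) → Cyc.secFibre L ξ) (hs : ∀ ξ, s ξ ≠ 0) (ht : ∀ ξ, t ξ ≠ 0)
    (γ₁ γ₂ : AlgebraicCycle X ℤ) (h₁ : ⇑γ₁ = Cyc.c1CapFun δ L ⇑α s)
    (h₂ : ⇑γ₂ = Cyc.c1CapFun δ L ⇑α t) : Cyc.RatEquiv δ k γ₁ γ₂ := by
  unfold Cyc.RatEquiv
  refine ratEquivZero_of_forall δ k α hα
    (fun ξ x => Cyc.secDivFun δ L ξ (s ξ) x - Cyc.secDivFun δ L ξ (t ξ) x)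
    (fun ξ => exists_secDivFun_sub L hL δ ξ (s ξ) (t ξ) (hs ξ) (ht ξ)) _ (fun x => ?_)
  have e1 : (γ₁ - γ₂) x = γ₁ x - γ₂ x := rfl
  rw [e1, h₁, h₂]
  unfold Cyc.c1CapFun
  rw [← finsum_sub_distrib (finite_support δ L α s x) (finite_support δ L α t x)]
  exact finsum_congr fun ξ => (mul_sub _ _ _).symm

end Groth.Agent.Lib.T2H4.C1CapRat
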