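import Mathlib
import Groth.Prelude.Def_Cyc
import Groth.Agent.Lib.T2H4SecOrdGen
import Groth.Agent.Lib.Helper4VarDim2
set_option backward.isDefEq.respectTransparency.types false

/-!
# Principal divisors on the closure of a point have locally finite support (helper4)

Namespace `Groth.Agent.Lib.T2H4.DivFin`.
-/

set_option autoImplicit false
set_option linter.style.haveILetI false
universe u
open CategoryTheory AlgebraicGeometry TopologicalSpace

namespace Groth.Agent.Lib.T2H4.DivFin

open Groth.Agent.Lib.T2H4.SecOrdGen Groth.Agent.Lib.Helper4.VarDim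

variable {X : Scheme.{u}}

theorem mem_primeIdealOf_iff {V : X.Opens} (hV : IsAffineOpen V) (x : X) (hx : x ∈ V)
    (b : Γ(X, V)) :
    b ∈ (hV.primeIdealOf ⟨x, hx⟩).asIdeal ↔ ¬ IsUnit (X.presheaf.germ V x hx b) := by
  rw [hV.primeIdealOf_eq_map_closedPoint ⟨x, hx⟩]
  change X.presheaf.germ V x hx b ∈ IsLocalRing.maximalIdeal (X.presheaf.stalk x) ↔ _
  rw [IsLocalRing.mem_maximalIdeal, mem_nonunits_iff]

/-- the order of the image of a section which is invertible at `x` vanishes -/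
theorem ordAt_germ_eq_zero {V : X.Opens} (ξ x : X) (h : ξ ⤳ x) (hx : x ∈ V) (b : Γ(X, V))
    (hb : IsUnit (X.presheaf.germ V x hx b)) :
    Cyc.ordAt x ξ h (X.residue ξ (X.presheaf.germ V ξ (h.mem_open V.isOpen hx) b)) = 0 := by
  have h1 := Groth.Agent.S8923.ordAt_unit x ξ h _ hb
  have h2 : X.presheaf.stalkSpecializes h (X.presheaf.germ V x hx b) =
      X.presheaf.germ V ξ (h.mem_open V.isOpen hx) b :=
    TopCat.Presheaf.germ_stalkSpecializes_apply X.presheaf hx h b
  rw [h2] at h1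
  exact h1

/-- finiteness of the set of codimension one points of the closure of `ξ` in an affine open where
a function `b`, invertible at `ξ`, is not invertible -/
theorem finite_nonunit (δ : X → ℤ) (hδ : Cyc.IsDimFun X δ) {V : X.Opens} (hV : IsAffineOpen V)
    [IsNoetherianRing Γ(X, V)] (ξ : X) (hξ : ξ ∈ V) (b : Γ(X, V))
    (hb : IsUnit (X.presheaf.germ V ξ hξ b)) :
    {x : X | ∃ hx : x ∈ V, ξ ⤳ x ∧ δ x + 1 = δ ξ ∧ ¬ IsUnit (X.presheaf.germ V x hx b)}.Finite := by
  classical
  set p := (hV.primeIdealOf ⟨ξ, hξ⟩).asIdeal with hp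
  have hbp : b ∉ p := fun hmem => (mem_primeIdealOf_iff hV ξ hξ b).1 hmem hb
  have hfin := Ideal.finite_minimalPrimes_of_isNoetherianRing Γ(X, V) (p ⊔ Ideal.span {b})
  -- the map to prime ideals
  let φ : X → Ideal Γ(X, V) := fun x =>
    if hx : x ∈ V then (hV.primeIdealOf ⟨x, hx⟩).asIdeal else ⊥
  refine Set.Finite.of_finite_image (f := φ) (hfin.subset ?_) ?_
  · rintro _ ⟨x, ⟨hx, hsp, hdim, hnu⟩, rfl⟩
    have hφ : φ x = (hV.primeIdealOf ⟨x, hx⟩).asIdeal := dif_pos hx
    rw [hφ]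
    have hle : p ⊔ Ideal.span {b} ≤ (hV.primeIdealOf ⟨x, hx⟩).asIdeal := by
      refine sup_le ((primeIdealOf_le_iff hV ξ x hξ hx).2 hsp) ?_
      rw [Ideal.span_le, Set.singleton_subset_iff]
      exact (mem_primeIdealOf_iff hV x hx b).2 hnu
    refine ⟨⟨(hV.primeIdealOf ⟨x, hx⟩).2, hle⟩, ?_⟩
    rintro q' ⟨hq'prime, hq'le⟩ hq'x
    -- the point of `q'`
    set Q' : PrimeSpectrum Γ(X, V) := ⟨q', hq'prime⟩ with hQ'
    have hx'V := fromSpec_mem hV Q'
    have hQ'eq : hV.primeIdealOf ⟨hV.fromSpec Q', hx'V⟩ = Q' := primeIdealOf_fromSpec hV Q' hx'V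
    have h1 : ξ ⤳ hV.fromSpec Q' := by
      rw [← primeIdealOf_le_iff hV ξ _ hξ hx'V, hQ'eq]
      exact le_sup_left.trans hq'le
    have h2 : hV.fromSpec Q' ⤳ x := by
      rw [← primeIdealOf_le_iff hV _ x hx'V hx, hQ'eq]
      exact hq'x
    have hne : ξ ≠ hV.fromSpec Q' := by
      intro heq
      apply hbp
      have hbq' : b ∈ q' := hq'le (Ideal.mem_sup_right (Ideal.subset_span rfl))
      have : hV.primeIdealOf ⟨ξ, hξ⟩ = Q' := by
        rw [← hQ'eq]
        congr 1
        exact Subtype.ext heq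
      rw [hp, this]
      exact hbq'
    have h3 := (hδ _ _ h1 hne).1
    by_cases hxx : hV.fromSpec Q' = x
    · have : hV.primeIdealOf ⟨x, hx⟩ = Q' := by
        rw [← hQ'eq]
        congr 1
        exact Subtype.ext hxx.symm
      rw [this]
    · have h4 := (hδ _ _ h2 hxx).1
      omega
  · rintro x ⟨hx, -⟩ y ⟨hy, -⟩ hxy
    have hφx : φ x = (hV.primeIdealOf ⟨x, hx⟩).asIdeal := dif_pos hx
    have hφy : φ y = (hV.primeIdealOf ⟨y, hy⟩).asIdeal := dif_pos hy
    rw [hφx, hφy] at hxy
    exact primeIdealOf_injective hV x y hx hy (PrimeSpectrum.ext hxy)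

/-- **local finiteness of principal divisors**: in an affine open with Noetherian coordinate ring
only finitely many points have a nonzero coefficient in `div(f)` -/
theorem finite_divFun_support (δ : X → ℤ) (hδ : Cyc.IsDimFun X δ) {V : X.Opens}
    (hV : IsAffineOpen V) [IsNoetherianRing Γ(X, V)] (ξ : X) (f : X.residueField ξ) (hf : f ≠ 0) :
    {x : X | x ∈ V ∧ Cyc.divFun δ ξ f x ≠ 0}.Finite := by
  by_cases hξ : ξ ∈ V
  · -- write `f = a / s`
    letI := TopCat.Presheaf.algebra_section_stalk X.presheaf ⟨ξ, hξ⟩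
    haveI := hV.isLocalization_stalk ⟨ξ, hξ⟩
    obtain ⟨φ, rfl⟩ : ∃ φ : X.presheaf.stalk ξ, X.residue ξ φ = f := Ideal.Quotient.mk_surjective f
    obtain ⟨⟨a, s⟩, has⟩ := IsLocalization.surj (hV.primeIdealOf ⟨ξ, hξ⟩).asIdeal.primeCompl φ
    have has' : φ * X.presheaf.germ V ξ hξ s.1 = X.presheaf.germ V ξ hξ a := has
    have hsu : IsUnit (X.presheaf.germ V ξ hξ s.1) := by
      by_contra hns
      exact s.2 ((mem_primeIdealOf_iff hV ξ hξ s.1).2 hns)
    have hφu : IsUnit φ := by
      by_contra hnu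
      apply hf
      exact (residue_eq_zero_iff ξ φ).2 ((IsLocalRing.mem_maximalIdeal φ).2 hnu)
    have hau : IsUnit (X.presheaf.germ V ξ hξ a) := by
      rw [← has']
      exact hφu.mul hsu
    refine ((finite_nonunit δ hδ hV ξ hξ a hau).union
      (finite_nonunit δ hδ hV ξ hξ s.1 hsu)).subset ?_
    rintro x ⟨hx, hne⟩
    unfold Cyc.divFun at hne
    split_ifs at hne with h
    · by_contra hcon
      rw [Set.mem_union, not_or] at hcon
      have hua : IsUnit (X.presheaf.germ V x hx a) := by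
        by_contra hnu
        exact hcon.1 ⟨hx, h.1, h.2, hnu⟩
      have hus : IsUnit (X.presheaf.germ V x hx s.1) := by
        by_contra hnu
        exact hcon.2 ⟨hx, h.1, h.2, hnu⟩
      apply hne
      have h1 := ordAt_germ_eq_zero ξ x h.1 hx a hua
      have h2 := ordAt_germ_eq_zero ξ x h.1 hx s.1 hus
      have hres : X.residue ξ φ * X.residue ξ (X.presheaf.germ V ξ hξ s.1) =
          X.residue ξ (X.presheaf.germ V ξ hξ a) := by
        rw [← map_mul, has']
      have hs0 : X.residue ξ (X.presheaf.germ V ξ hξ s.1) ≠ 0 := by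
        intro h0
        exact (IsLocalRing.mem_maximalIdeal _).1 ((residue_eq_zero_iff ξ _).1 h0) hsu
      have h3 := ordAt_mul x ξ h.1 _ _ hf hs0
      rw [hres] at h3
      omega
    · exact absurd rfl hne
  · convert Set.finite_empty
    ext x
    simp only [Set.mem_ofPred_eq, Set.mem_empty_iff_false, iff_false, not_and, not_not]
    intro hx
    unfold Cyc.divFun
    rw [dif_neg]
    rintro ⟨h1, -⟩
    exact hξ (h1.mem_open V.isOpen hx)

end Groth.Agent.Lib.T2H4.DivFin
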