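import Mathlib
import Groth.Prelude.Def_Cyc
import Groth.Prelude.Def_W4stkchowintpicEnv
set_option backward.isDefEq.respectTransparency.types false

/-!
# Pushforward of cycles along a completely decomposed morphism is surjective (helper4)

Namespace `Groth.Agent.Lib.T2H4.Envelope`.
-/

set_option autoImplicit false
set_option linter.style.haveILetI false
universe u
open CategoryTheory AlgebraicGeometry TopologicalSpace

namespace Groth.Agent.Lib.T2H4.Envelope

section Alg

variable {K L : Type u} [Field K] [Field L] [Algebra K L]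

theorem finrank_eq_one_of_surjective (h : Function.Surjective (algebraMap K L)) :
    Module.finrank K L = 1 := by
  have hbij : Function.Bijective (Algebra.linearMap K L) :=
    ⟨(algebraMap K L).injective, h⟩
  rw [← (LinearEquiv.ofBijective (Algebra.linearMap K L) hbij).finrank_eq]
  exact Module.finrank_self K

theorem trdeg_eq_zero_of_surjective (h : Function.Surjective (algebraMap K L)) :
    Algebra.trdeg K L = 0 := by
  haveI : Algebra.IsIntegral K L := Algebra.isIntegral_of_surjective h
  haveI : Algebra.IsAlgebraic K L := Algebra.IsIntegral.isAlgebraic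
  exact trdeg_eq_zero

end Alg

variable {X Y : Scheme.{u}} (f : Y ⟶ X)

theorem residueDegree_eq_one (y : Y) (h : Function.Surjective (f.residueFieldMap y).hom) :
    f.residueDegree y = 1 := by
  unfold Scheme.Hom.residueDegree
  letI := (f.residueFieldMap y).hom.toAlgebra
  exact finrank_eq_one_of_surjective h

theorem delta_eq (δ : X → ℤ) (δY : Y → ℤ) (hδ : Cyc.DeltaCompat f δY δ) (y : Y)
    (h : Function.Surjective (f.residueFieldMap y).hom) : δY y = δ (f y) := by
  obtain ⟨n, hn, hy⟩ := hδ y
  letI := (f.residueFieldMap y).hom.toAlgebra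
  have h0 : Algebra.trdeg (X.residueField (f y)) (Y.residueField y) = 0 :=
    trdeg_eq_zero_of_surjective h
  rw [h0] at hn
  have : n = 0 := by exact_mod_cast hn.symm
  rw [hy, this]
  simp

/-- **surjectivity of the pushforward of cycles** -/
theorem main [QuasiCompact f] (δ : X → ℤ) (δY : Y → ℤ) (hcd : Cyc.IsCompletelyDecomposed f)
    (hδ : Cyc.DeltaCompat f δY δ) (k : ℤ) (α : AlgebraicCycle X ℤ) (hα : α ∈ Cyc.Zk X δ k) :
    ∃ β : AlgebraicCycle Y ℤ, β ∈ Cyc.Zk Y δY k ∧ AlgebraicCycle.map f δY δ β = α := by
  classical
  choose y hy hsurj using hcd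
  let β : AlgebraicCycle Y ℤ :=
    { toFun := fun y' => if y (f y') = y' then α (f y') else 0
      supportWithinDomain' := by simp
      supportLocallyFiniteWithinDomain' := by
        intro y₀ _
        obtain ⟨t, ht, hfin⟩ := α.supportLocallyFiniteWithinDomain' (f y₀) (Set.mem_univ _)
        refine ⟨f ⁻¹' t, f.continuous.continuousAt.preimage_mem_nhds ht, ?_⟩
        refine (hfin.image y).subset ?_
        rintro y' ⟨hy't, hy'⟩
        rw [Function.mem_support] at hy'
        by_cases hc : y (f y') = y'
        · rw [if_pos hc] at hy'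
          exact ⟨f y', ⟨hy't, hy'⟩, hc⟩
        · rw [if_neg hc] at hy'
          exact absurd rfl hy' }
  have hβ : ∀ y', β y' = if y (f y') = y' then α (f y') else 0 := fun _ => rfl
  refine ⟨β, ?_, ?_⟩
  · intro y' hy'
    rw [hβ]
    split_ifs with hc
    · by_contra hne
      have h1 : δ (f y') = k := by
        by_contra h2
        exact hne (hα _ h2)
      have h2 : Function.Surjective (f.residueFieldMap y').hom := hc ▸ hsurj (f y')
      exact hy' ((delta_eq f δ δY hδ y' h2).trans h1)
    · rfl
  · ext x
    change ∑ᶠ y' ∈ f ⁻¹' {x}, β y' * ((AlgebraicCycle.mapCoeff f δY δ y' : ℕ) : ℤ) = α x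
    rw [finsum_eq_single _ (y x)]
    · have hmem : y x ∈ f ⁻¹' {x} := hy x
      rw [finsum_eq_if, if_pos hmem, hβ, hy x, if_pos rfl]
      by_cases h0 : α x = 0
      · rw [h0, zero_mul]
      · have h1 : δ x = k := by
          by_contra h2
          exact h0 (hα _ h2)
        have h2 := delta_eq f δ δY hδ (y x) (hsurj x)
        unfold AlgebraicCycle.mapCoeff
        rw [if_pos h2, residueDegree_eq_one f (y x) (hsurj x)]
        simp
    · intro y' hne
      by_cases hmem : y' ∈ f ⁻¹' {x}
      · rw [finsum_eq_if, if_pos hmem, hβ]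
        have hfx : f y' = x := hmem
        rw [hfx, if_neg (fun h => hne h.symm), zero_mul]
      · rw [finsum_eq_if, if_neg hmem]

end Groth.Agent.Lib.T2H4.Envelope
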