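import Mathlib
import Groth.Prelude.Def_C1
import Groth.Prelude.Def_Cyc
import Groth.Agent.Lib.T2H4SecOrdAdd
import Groth.Agent.Lib.Helper20InvGen
set_option backward.isDefEq.respectTransparency.types false

/-!
# The order of a regular function as a length, and div_L(s) = [Z(s)] (helper4)

Namespace `Groth.Agent.Lib.T2H4.OrdLen`.
-/

set_option autoImplicit false
set_option linter.style.haveILetI false
universe u
open CategoryTheory AlgebraicGeometry TopologicalSpace

namespace Groth.Agent.Lib.T2H4.OrdLen

section Alg

variable {R R' : Type u} [CommRing R] [CommRing R']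

/-- the length of `R/(f)` is invariant under ring isomorphisms -/
theorem length_quotient_span_ringEquiv (q : R ≃+* R') (f : R) :
    Module.length R' (R' ⧸ Ideal.span {q f}) = Module.length R (R ⧸ Ideal.span {f}) := by
  have h1 : Module.length R' (R' ⧸ Ideal.span {q f}) = Order.coheight (Ideal.span {q f} : Ideal R') :=
    Module.length_quotient
  have h2 : Module.length R (R ⧸ Ideal.span {f}) = Order.coheight (Ideal.span {f} : Ideal R) :=
    Module.length_quotient
  rw [h1, h2]
  have h3 : (RingEquiv.idealComapOrderIso q) (Ideal.span {q f}) = Ideal.span {f} := by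
    ext y
    change q y ∈ Ideal.span {q f} ↔ _
    rw [Ideal.mem_span_singleton, Ideal.mem_span_singleton]
    exact map_dvd_iff q
  rw [← h3, Order.coheight_orderIso]

variable [IsDomain R] [IsNoetherianRing R] [Ring.KrullDimLE 1 R]
  {K' : Type u} [Field K'] [Algebra R' K']

/-- the prelude's order function on a ring isomorphic to `R`, on regular elements: it is the length
of `R/(f)` -/
theorem ordFrac_eq_length (q : R ≃+* R') (hinj : Function.Injective (algebraMap R' K'))
    (hfr : ∀ z : K', ∃ a b : R', z = algebraMap R' K' a / algebraMap R' K' b)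
    (f : R) (hf : f ≠ 0) :
    CycAlg.ordFrac R' K' (algebraMap R' K' (q f)) =
      ((Module.length R (R ⧸ Ideal.span {f})).toNat : ℤ) := by
  haveI : IsDomain R' := q.symm.injective.isDomain q.symm.toRingHom
  haveI : IsNoetherianRing R' := isNoetherianRing_of_ringEquiv R q
  haveI : Ring.KrullDimLE 1 R' := by
    rw [Ring.krullDimLE_iff, ← ringKrullDim_eq_of_ringEquiv q]
    exact (Ring.krullDimLE_iff.1 (inferInstance : Ring.KrullDimLE 1 R))
  haveI : Nontrivial R' := inferInstance
  haveI : FaithfulSMul R' K' := (faithfulSMul_iff_algebraMap_injective R' K').2 hinj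
  haveI hfr' : IsFractionRing R' K' := by
    refine IsFractionRing.of_field R' K' (fun z => ?_)
    obtain ⟨a, b, h⟩ := hfr z
    exact ⟨a, b, h⟩
  have hcond : IsNoetherianRing R' ∧ Ring.KrullDimLE 1 R' ∧ Nontrivial R' ∧ IsFractionRing R' K' :=
    ⟨inferInstance, inferInstance, inferInstance, hfr'⟩
  have hqf : q f ≠ 0 := fun h0 => hf (by simpa using h0)
  have hmem : q f ∈ nonZeroDivisors R' := mem_nonZeroDivisors_of_ne_zero hqf
  have hlen := length_quotient_span_ringEquiv q f
  have hnt : Ring.ord R' (q f) ≠ ⊤ := Ring.ord_ne_top hmem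
  have hn : Ring.ord R' (q f) = ((Module.length R (R ⧸ Ideal.span {f})).toNat : ℕ∞) := by
    change Module.length R' (R' ⧸ Ideal.span {q f}) = _
    rw [hlen]
    have : Module.length R (R ⧸ Ideal.span {f}) ≠ ⊤ := by
      rw [← hlen]
      exact hnt
    exact (ENat.natCast_toNat this).symm
  unfold CycAlg.ordFrac
  rw [dif_pos hcond, Ring.ordFrac_eq_ord R' hqf, Ring.ordMonoidWithZeroHom_eq_coe R' hmem hn]
  rfl

end Alg

section Geom

open Groth.Agent.Lib.T2H4.Ref1Local Groth.Agent.Lib.T2H4.SecOrdAdd

variable {X : Scheme.{u}}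

/-- at a point `x` whose value of a dimension function is one less than that of `ξ ⤳ x`, with `ξ` of
maximal dimension among the generizations of `x`, the coheight of `x` is at most one -/
theorem coheight_le_one_of_isDimFun (δ : X → ℤ) (hδ : Cyc.IsDimFun X δ) (ξ x : X)
    (hmax : ∀ y : X, y ⤳ x → δ y ≤ δ ξ) (hx : δ x + 1 = δ ξ) : Order.coheight x ≤ 1 := by
  refine Order.coheight_le fun p hp => ?_
  have hstep : ∀ (i : ℕ) (hi : i < p.length + 1), δ x + i ≤ δ (p ⟨i, hi⟩) ∧ p ⟨i, hi⟩ ⤳ x := by
    intro i
    induction i with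
    | zero =>
      intro hi
      have : p ⟨0, hi⟩ = x := hp
      rw [this]
      exact ⟨by simp, specializes_rfl⟩
    | succ i ih =>
      intro hi
      have hi' : i < p.length + 1 := by omega
      obtain ⟨h1, h2⟩ := ih hi'
      have hlt : p ⟨i, hi'⟩ < p ⟨i + 1, hi⟩ := p.strictMono (by simp [Fin.lt_def])
      have hsp : p ⟨i + 1, hi⟩ ⤳ p ⟨i, hi'⟩ := hlt.le
      have hne : p ⟨i + 1, hi⟩ ≠ p ⟨i, hi'⟩ := fun h => (ne_of_lt hlt) h.symm
      have := (hδ _ _ hsp hne).1
      refine ⟨?_, hsp.trans h2⟩
      push_cast
      omega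
  obtain ⟨h1, h2⟩ := hstep p.length (by omega)
  have h3 := hmax _ h2
  have : (p.length : ℤ) ≤ 1 := by omega
  exact_mod_cast this

variable [IsIntegral X] [IsLocallyNoetherian X]

/-- **the order of a regular function along `η ⤳ x` is the length of `O_x/(f)`** when `O_x` has
dimension at most one -/
theorem ordAt_eq_length (x : X) (h : genericPoint X ⤳ x) [Ring.KrullDimLE 1 (X.presheaf.stalk x)]
    (f : X.presheaf.stalk x) (hf : f ≠ 0) :
    Cyc.ordAt x (genericPoint X) h
        (X.residue (genericPoint X) (algebraMap (X.presheaf.stalk x) X.functionField f)) =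
      ((Module.length (X.presheaf.stalk x) (X.presheaf.stalk x ⧸ Ideal.span {f})).toNat : ℤ) := by
  have hcomm : ∀ r : X.presheaf.stalk x,
      algebraMap (Cyc.LocQuot x (genericPoint X) h) (X.residueField (genericPoint X))
        (locQuotEquiv x h r) =
      X.residue (genericPoint X) (algebraMap (X.presheaf.stalk x) X.functionField r) := by
    intro r
    change algebraMap (Cyc.LocQuot x (genericPoint X) h) (X.residueField (genericPoint X))
      (Ideal.Quotient.mk (RingHom.ker (Cyc.specMap x (genericPoint X) h)) r) = _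
    rw [RingHom.algebraMap_toAlgebra, Ideal.Quotient.lift_mk]
    rfl
  have hρinj : Function.Injective (X.residue (genericPoint X)).hom :=
    RingHom.injective (X.residue (genericPoint X)).hom
  have hρsurj : Function.Surjective (X.residue (genericPoint X)).hom :=
    Ideal.Quotient.mk_surjective
  have hinj : Function.Injective
      (algebraMap (Cyc.LocQuot x (genericPoint X) h) (X.residueField (genericPoint X))) := by
    intro a b hab
    obtain ⟨a, rfl⟩ := (locQuotEquiv x h).surjective a
    obtain ⟨b, rfl⟩ := (locQuotEquiv x h).surjective b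
    rw [hcomm, hcomm] at hab
    rw [IsFractionRing.injective (X.presheaf.stalk x) X.functionField (hρinj hab)]
  have hfr : ∀ z : X.residueField (genericPoint X), ∃ a b : Cyc.LocQuot x (genericPoint X) h,
      z = algebraMap _ (X.residueField (genericPoint X)) a /
        algebraMap _ (X.residueField (genericPoint X)) b := by
    intro z
    obtain ⟨w, rfl⟩ := hρsurj z
    obtain ⟨a, b, -, rfl⟩ := IsFractionRing.div_surjective (A := X.presheaf.stalk x) w
    refine ⟨locQuotEquiv x h a, locQuotEquiv x h b, ?_⟩
    rw [hcomm, hcomm]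
    exact map_div₀ (X.residue (genericPoint X)).hom _ _
  unfold Cyc.ordAt
  rw [← hcomm]
  exact ordFrac_eq_length (locQuotEquiv x h) hinj hfr f hf

/-- **div_L(s) = [Z(s)]_{n-1}** for a global section `s` of an invertible module on an integral
scheme, nonzero at the generic point -/
theorem main (δ : X → ℤ) (hδ : Cyc.IsDimFun X δ) (n : ℤ)
    (hn : δ (genericPoint X) = n) (L : X.Modules) (hL : PicF.IsInvertible L)
    (s : L.presheaf.obj (Opposite.op ⊤))
    (hs : (L.presheaf.germ ⊤ (genericPoint X) trivial) s ≠ 0) :
    Cyc.secDivFun δ L (genericPoint X)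
        (Submodule.Quotient.mk ((L.presheaf.germ ⊤ (genericPoint X) trivial) s)) =
      Cyc.zeroSectionFun δ (n - 1) L s := by
  funext x
  have hηx : genericPoint X ⤳ x := genericPoint_specializes x
  unfold Cyc.secDivFun Cyc.zeroSectionFun
  by_cases hk : δ x = n - 1
  · have h : genericPoint X ⤳ x ∧ δ x + 1 = δ (genericPoint X) := ⟨hηx, by omega⟩
    rw [dif_pos h, if_pos hk]
    -- a generator of the stalk
    obtain ⟨W, t₀, hxW, ht₀⟩ := Groth.Agent.Lib.Helper20.InvGen.exists_local_generator L hL x
    have ht : ∃ t : L.presheaf.stalk x, Submodule.span (X.presheaf.stalk x) {t} = ⊤ :=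
      ⟨_, span_eq_top_of_bijective_smul _ (ht₀ x hxW)⟩
    rw [dif_pos ht]
    have ht' := Classical.choose_spec ht
    set t := Classical.choose ht with htdef
    have hf : ∃ f : X.presheaf.stalk x, (L.presheaf.germ ⊤ x trivial) s = f • t := by
      have hmem : (L.presheaf.germ ⊤ x trivial) s ∈ Submodule.span (X.presheaf.stalk x) {t} := by
        rw [ht']; trivial
      obtain ⟨f, hf⟩ := Submodule.mem_span_singleton.1 hmem
      exact ⟨f, hf.symm⟩
    rw [dif_pos hf]
    have hf' := Classical.choose_spec hf
    set f := Classical.choose hf with hfdef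
    -- the germ at the generic point
    have hgerm : (L.presheaf.germ ⊤ (genericPoint X) trivial) s =
        algebraMap (X.presheaf.stalk x) X.functionField f • spec L x hηx t := by
      rw [← spec_smul, ← hf']
      exact (Groth.Agent.Lib.T2H4.HomShGlobal.stalkSpecializes_germ L hηx
        (show x ∈ (⊤ : X.Opens) from trivial) s).symm
    have hf0 : f ≠ 0 := by
      rintro h0
      rw [h0, map_zero, zero_smul] at hgerm
      exact hs hgerm
    have hst : spec L x hηx t ≠ 0 := by
      intro h0
      rw [h0, smul_zero] at hgerm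
      exact hs hgerm
    haveI : Ring.KrullDimLE 1 (X.presheaf.stalk x) := by
      refine krullDimLE_of_coheight_le (n := 1) ?_
      refine coheight_le_one_of_isDimFun δ hδ (genericPoint X) x (fun y _ => ?_) h.2
      by_cases hy : genericPoint X = y
      · rw [hy]
      · exact (hδ _ _ (genericPoint_specializes y) hy).1.le
    rw [hgerm, secOrdAt_eq' L x hηx t ht' hst]
    exact ordAt_eq_length x hηx f hf0
  · rw [dif_neg (by rintro ⟨_, h2⟩; omega), if_neg hk]

end Geom

end Groth.Agent.Lib.T2H4.OrdLen
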