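import Mathlib
import Groth.Prelude.Def_Cyc
import Groth.Agent.Lib.T2H4OrdLen
set_option backward.isDefEq.respectTransparency.types false

/-!
# Invariance of the order function under isomorphisms; open immersions (helper4)

Namespace `Groth.Agent.Lib.T2H4.OrdCongr`.
-/

set_option autoImplicit false
set_option linter.style.haveILetI false
universe u
open CategoryTheory AlgebraicGeometry TopologicalSpace

namespace Groth.Agent.Lib.T2H4.OrdCongr

open Groth.Agent.Lib.T2H4.OrdLen

section Alg

variable {R R' K K' : Type u} [CommRing R] [CommRing R'] [Field K] [Field K'] [Algebra R K]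
  [Algebra R' K']

theorem cond_transfer (q : R ≃+* R') (ρ : K ≃+* K')
    (hcomm : ∀ r, algebraMap R' K' (q r) = ρ (algebraMap R K r))
    (h : IsNoetherianRing R ∧ Ring.KrullDimLE 1 R ∧ Nontrivial R ∧ IsFractionRing R K) :
    IsNoetherianRing R' ∧ Ring.KrullDimLE 1 R' ∧ Nontrivial R' ∧ IsFractionRing R' K' := by
  haveI := h.1; haveI := h.2.1; haveI := h.2.2.1; haveI := h.2.2.2
  haveI : IsDomain R := (IsFractionRing.injective R K).isDomain _
  haveI : IsDomain R' := q.symm.injective.isDomain q.symm.toRingHom
  haveI : IsNoetherianRing R' := isNoetherianRing_of_ringEquiv R q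
  haveI : Ring.KrullDimLE 1 R' := by
    rw [Ring.krullDimLE_iff, ← ringKrullDim_eq_of_ringEquiv q]
    exact (Ring.krullDimLE_iff.1 (inferInstance : Ring.KrullDimLE 1 R))
  have hinj : Function.Injective (algebraMap R' K') := by
    intro a b hab
    obtain ⟨a, rfl⟩ := q.surjective a
    obtain ⟨b, rfl⟩ := q.surjective b
    rw [hcomm, hcomm] at hab
    rw [IsFractionRing.injective R K (ρ.injective hab)]
  haveI : FaithfulSMul R' K' := (faithfulSMul_iff_algebraMap_injective R' K').2 hinj
  haveI hfr' : IsFractionRing R' K' := by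
    refine IsFractionRing.of_field R' K' (fun z => ?_)
    obtain ⟨w, rfl⟩ := ρ.surjective z
    obtain ⟨a, b, -, rfl⟩ := IsFractionRing.div_surjective (A := R) w
    exact ⟨q a, q b, by rw [hcomm, hcomm, map_div₀]⟩
  exact ⟨inferInstance, inferInstance, inferInstance, hfr'⟩

/-- the prelude's order function is invariant under isomorphisms of the pair (ring, field) -/
theorem ordFrac_congr (q : R ≃+* R') (ρ : K ≃+* K')
    (hcomm : ∀ r, algebraMap R' K' (q r) = ρ (algebraMap R K r)) (z : K) :
    CycAlg.ordFrac R' K' (ρ z) = CycAlg.ordFrac R K z := by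
  by_cases h : IsNoetherianRing R ∧ Ring.KrullDimLE 1 R ∧ Nontrivial R ∧ IsFractionRing R K
  · have h' := cond_transfer q ρ hcomm h
    haveI := h.1; haveI := h.2.1; haveI := h.2.2.1; haveI := h.2.2.2
    haveI := h'.1; haveI := h'.2.1; haveI := h'.2.2.1; haveI := h'.2.2.2
    haveI : IsDomain R := (IsFractionRing.injective R K).isDomain _
    haveI : IsDomain R' := q.symm.injective.isDomain q.symm.toRingHom
    have key : Ring.ordFrac R' (ρ z) = Ring.ordFrac R z := by
      have hbase : ∀ a : R, a ≠ 0 →
          Ring.ordFrac R' (ρ (algebraMap R K a)) = Ring.ordFrac R (algebraMap R K a) := by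
        intro a ha
        have hqa : q a ≠ 0 := fun h0 => ha (by simpa using h0)
        rw [← hcomm, Ring.ordFrac_eq_ord R' hqa, Ring.ordFrac_eq_ord R ha,
          Ring.ordMonoidWithZeroHom_eq_ord (mem_nonZeroDivisors_of_ne_zero hqa),
          Ring.ordMonoidWithZeroHom_eq_ord (mem_nonZeroDivisors_of_ne_zero ha)]
        congr 1
        exact length_quotient_span_ringEquiv q a
      obtain ⟨a, b, hb, rfl⟩ := IsFractionRing.div_surjective (A := R) z
      have hb0 : b ≠ 0 := nonZeroDivisors.ne_zero hb
      by_cases ha : a = 0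
      · rw [ha, map_zero, zero_div, map_zero, map_zero, map_zero]
      · rw [map_div₀, map_div₀, map_div₀, hbase a ha, hbase b hb0]
    unfold CycAlg.ordFrac
    rw [dif_pos h, dif_pos h', key]
  · have h' : ¬ (IsNoetherianRing R' ∧ Ring.KrullDimLE 1 R' ∧ Nontrivial R' ∧
        IsFractionRing R' K') := by
      intro h'
      apply h
      refine cond_transfer q.symm ρ.symm (fun r => ?_) h'
      apply ρ.injective
      rw [RingEquiv.apply_symm_apply, ← hcomm, RingEquiv.apply_symm_apply]
    unfold CycAlg.ordFrac
    rw [dif_neg h, dif_neg h']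

end Alg

section Geom

variable {V X : Scheme.{u}} (j : V ⟶ X) [IsOpenImmersion j]

omit [IsOpenImmersion j] in
/-- compatibility of the maps `O_x → κ(ξ)` with an open immersion -/
theorem specMap_comm (u v : V) (h : v ⤳ u) (r : X.presheaf.stalk (j u)) :
    (j.residueFieldMap v).hom (Cyc.specMap (j u) (j v) (h.map j.continuous) r) =
      Cyc.specMap u v h ((j.stalkMap u).hom r) := by
  unfold Cyc.specMap
  have h1 := Scheme.Hom.stalkSpecializes_stalkMap_apply j v u h r
  have h2 : ∀ w : X.presheaf.stalk (j v),
      (j.residueFieldMap v).hom ((X.residue (j v)).hom w) =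
        (V.residue v).hom ((j.stalkMap v).hom w) := fun w =>
    ConcreteCategory.congr_hom (Scheme.residue_residueFieldMap j v) w
  change (j.residueFieldMap v).hom ((X.residue (j v)).hom
    ((X.presheaf.stalkSpecializes (h.map j.continuous)).hom r)) =
    (V.residue v).hom ((V.presheaf.stalkSpecializes h).hom ((j.stalkMap u).hom r))
  rw [h2]
  congr 1

/-- **orders are compatible with open immersions** -/
theorem ordAt_openImmersion (u v : V) (h : v ⤳ u) (g : X.residueField (j v)) :
    Cyc.ordAt u v h ((j.residueFieldMap v).hom g) =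
      Cyc.ordAt (j u) (j v) (h.map j.continuous) g := by
  have hsm : Function.Bijective (j.stalkMap u).hom :=
    ConcreteCategory.bijective_of_isIso (j.stalkMap u)
  have hrm : Function.Bijective (j.residueFieldMap v).hom :=
    ConcreteCategory.bijective_of_isIso (j.residueFieldMap v)
  let sm : X.presheaf.stalk (j u) ≃+* V.presheaf.stalk u := RingEquiv.ofBijective _ hsm
  let ρ : X.residueField (j v) ≃+* V.residueField v := RingEquiv.ofBijective _ hrm
  have hker : RingHom.ker (Cyc.specMap u v h) =
      Ideal.map (sm : X.presheaf.stalk (j u) →+* V.presheaf.stalk u)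
        (RingHom.ker (Cyc.specMap (j u) (j v) (h.map j.continuous))) := by
    have hcomap : RingHom.ker (Cyc.specMap (j u) (j v) (h.map j.continuous)) =
        Ideal.comap (sm : X.presheaf.stalk (j u) →+* V.presheaf.stalk u)
          (RingHom.ker (Cyc.specMap u v h)) := by
      ext r
      rw [Ideal.mem_comap, RingHom.mem_ker, RingHom.mem_ker]
      change _ ↔ Cyc.specMap u v h ((j.stalkMap u).hom r) = 0
      rw [← specMap_comm j u v h r]
      exact (map_eq_zero_iff _ hrm.1).symm
    rw [hcomap]
    exact (Ideal.map_comap_of_surjective (sm : X.presheaf.stalk (j u) →+* V.presheaf.stalk u)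
      sm.surjective _).symm
  let q : Cyc.LocQuot (j u) (j v) (h.map j.continuous) ≃+* Cyc.LocQuot u v h :=
    Ideal.quotientEquiv _ _ sm hker
  have hcomm : ∀ r, algebraMap (Cyc.LocQuot u v h) (V.residueField v) (q r) =
      ρ (algebraMap (Cyc.LocQuot (j u) (j v) (h.map j.continuous)) (X.residueField (j v)) r) := by
    intro r
    obtain ⟨r, rfl⟩ := Ideal.Quotient.mk_surjective r
    change algebraMap (Cyc.LocQuot u v h) (V.residueField v)
      (Ideal.Quotient.mk _ ((j.stalkMap u).hom r)) = (j.residueFieldMap v).hom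
        (algebraMap (Cyc.LocQuot (j u) (j v) (h.map j.continuous)) (X.residueField (j v))
          (Ideal.Quotient.mk _ r))
    rw [RingHom.algebraMap_toAlgebra, RingHom.algebraMap_toAlgebra, Ideal.Quotient.lift_mk,
      Ideal.Quotient.lift_mk]
    exact (specMap_comm j u v h r).symm
  exact ordFrac_congr q ρ hcomm g

/-- principal divisors are compatible with open immersions -/
theorem divFun_openImmersion (δ : X → ℤ) (v : V) (g : X.residueField (j v)) (u : V) :
    Cyc.divFun (fun w : V => δ (j w)) v ((j.residueFieldMap v).hom g) u =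
      Cyc.divFun δ (j v) g (j u) := by
  unfold Cyc.divFun
  by_cases h : v ⤳ u ∧ δ (j u) + 1 = δ (j v)
  · have h' : j v ⤳ j u ∧ δ (j u) + 1 = δ (j v) := ⟨h.1.map j.continuous, h.2⟩
    rw [dif_pos h, dif_pos h']
    exact ordAt_openImmersion j u v h.1 g
  · have h' : ¬ (j v ⤳ j u ∧ δ (j u) + 1 = δ (j v)) := by
      rintro ⟨h1, h2⟩
      exact h ⟨j.isOpenEmbedding.isInducing.specializes_iff.1 h1, h2⟩
    rw [dif_neg h, dif_neg h']

end Geom

end Groth.Agent.Lib.T2H4.OrdCongr
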