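import Mathlib
import Groth.Prelude.Def_Cyc
import Groth.Agent.Lib.T2H4OrdCongr
set_option backward.isDefEq.respectTransparency.types false

/-!
# Orders and principal divisors along preimmersions (open or closed immersions) (helper4)

Namespace `Groth.Agent.Lib.T2H4.OrdPreimm`.
-/

set_option autoImplicit false
set_option linter.style.haveILetI false
universe u
open CategoryTheory AlgebraicGeometry TopologicalSpace

namespace Groth.Agent.Lib.T2H4.OrdPreimm

open Groth.Agent.Lib.T2H4.OrdCongr

variable {V X : Scheme.{u}} (j : V ⟶ X) [IsPreimmersion j]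

/-- the residue field maps of a preimmersion are bijective -/
theorem residueFieldMap_bijective (v : V) : Function.Bijective (j.residueFieldMap v).hom := by
  refine ⟨RingHom.injective _, fun c => ?_⟩
  obtain ⟨b, rfl⟩ : ∃ b : V.presheaf.stalk v, (V.residue v).hom b = c :=
    Ideal.Quotient.mk_surjective c
  obtain ⟨a, rfl⟩ := j.stalkMap_surjective v b
  refine ⟨(X.residue (j v)).hom a, ?_⟩
  exact ConcreteCategory.congr_hom (Scheme.residue_residueFieldMap j v) a

/-- **orders are compatible with preimmersions** -/
theorem ordAt_preimmersion (u v : V) (h : v ⤳ u) (g : X.residueField (j v)) :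
    Cyc.ordAt u v h ((j.residueFieldMap v).hom g) =
      Cyc.ordAt (j u) (j v) (h.map j.continuous) g := by
  have hsm : Function.Surjective (j.stalkMap u).hom := j.stalkMap_surjective u
  have hrm := residueFieldMap_bijective j v
  let ρ : X.residueField (j v) ≃+* V.residueField v := RingEquiv.ofBijective _ hrm
  have hcomap : RingHom.ker (Cyc.specMap (j u) (j v) (h.map j.continuous)) =
      Ideal.comap (j.stalkMap u).hom (RingHom.ker (Cyc.specMap u v h)) := by
    ext r
    rw [Ideal.mem_comap, RingHom.mem_ker, RingHom.mem_ker]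
    rw [← specMap_comm j u v h r]
    exact (map_eq_zero_iff _ hrm.1).symm
  let q₀ : Cyc.LocQuot (j u) (j v) (h.map j.continuous) →+* Cyc.LocQuot u v h :=
    Ideal.quotientMap _ (j.stalkMap u).hom hcomap.le
  have hq₀ : Function.Bijective q₀ :=
    ⟨Ideal.quotientMap_injective' hcomap.ge, Ideal.quotientMap_surjective hsm⟩
  let q : Cyc.LocQuot (j u) (j v) (h.map j.continuous) ≃+* Cyc.LocQuot u v h :=
    RingEquiv.ofBijective q₀ hq₀
  have hcomm : ∀ r, algebraMap (Cyc.LocQuot u v h) (V.residueField v) (q r) =
      ρ (algebraMap (Cyc.LocQuot (j u) (j v) (h.map j.continuous)) (X.residueField (j v)) r) := by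
    intro r
    obtain ⟨r, rfl⟩ := Ideal.Quotient.mk_surjective r
    change algebraMap (Cyc.LocQuot u v h) (V.residueField v)
      (Ideal.quotientMap _ (j.stalkMap u).hom hcomap.le (Ideal.Quotient.mk _ r)) =
        (j.residueFieldMap v).hom
        (algebraMap (Cyc.LocQuot (j u) (j v) (h.map j.continuous)) (X.residueField (j v))
          (Ideal.Quotient.mk _ r))
    rw [Ideal.quotientMap_mk, RingHom.algebraMap_toAlgebra, RingHom.algebraMap_toAlgebra,
      Ideal.Quotient.lift_mk, Ideal.Quotient.lift_mk]
    exact (specMap_comm j u v h r).symm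
  exact ordFrac_congr q ρ hcomm g

/-- principal divisors are compatible with preimmersions -/
theorem divFun_preimmersion (δ : X → ℤ) (v : V) (g : X.residueField (j v)) (u : V) :
    Cyc.divFun (fun w : V => δ (j w)) v ((j.residueFieldMap v).hom g) u =
      Cyc.divFun δ (j v) g (j u) := by
  unfold Cyc.divFun
  by_cases h : v ⤳ u ∧ δ (j u) + 1 = δ (j v)
  · have h' : j v ⤳ j u ∧ δ (j u) + 1 = δ (j v) := ⟨h.1.map j.continuous, h.2⟩
    rw [dif_pos h, dif_pos h']
    exact ordAt_preimmersion j u v h.1 g
  · have h' : ¬ (j v ⤳ j u ∧ δ (j u) + 1 = δ (j v)) := by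
      rintro ⟨h1, h2⟩
      exact h ⟨j.isEmbedding.isInducing.specializes_iff.1 h1, h2⟩
    rw [dif_neg h, dif_neg h']

omit [IsPreimmersion j] in
/-- a principal divisor on the closure of a point of a closed subset vanishes outside it -/
theorem divFun_eq_zero_of_notMem_range (hcl : IsClosed (Set.range j)) (δ : X → ℤ) (v : V)
    (g : X.residueField (j v)) (x : X) (hx : x ∉ Set.range j) :
    Cyc.divFun δ (j v) g x = 0 := by
  unfold Cyc.divFun
  rw [dif_neg]
  rintro ⟨h1, -⟩
  apply hx
  have : x ∈ closure {j v} := specializes_iff_mem_closure.1 h1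
  exact (hcl.closure_subset_iff.2 (Set.singleton_subset_iff.2 ⟨v, rfl⟩)) this

end Groth.Agent.Lib.T2H4.OrdPreimm
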