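import Mathlib
import Groth.Prelude.Def_Cyc
import Groth.Prelude.Def_Bivar
import Groth.Agent.Lib.T2H4Envelope
import Groth.Agent.Lib.T2H4OrdPreimm
import Groth.Agent.Lib.T2H4DivFin
set_option backward.isDefEq.respectTransparency.types false

/-!
# Cycles and closed immersions (helper4)

Namespace `Groth.Agent.Lib.T2H4.ClosedImmCyc`.
-/

set_option autoImplicit false
set_option linter.style.haveILetI false
universe u
open CategoryTheory AlgebraicGeometry TopologicalSpace

namespace Groth.Agent.Lib.T2H4.ClosedImmCyc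

open Groth.Agent.Lib.T2H4.Envelope Groth.Agent.Lib.T2H4.OrdPreimm Groth.Agent.Lib.T2H4.DivFin

variable {Z X : Scheme.{u}} (i : Z ⟶ X) [IsClosedImmersion i] (δ : X → ℤ)

theorem injective : Function.Injective i := i.isEmbedding.injective

theorem isClosed_range : IsClosed (Set.range i) := i.isClosedEmbedding.isClosed_range

theorem mapCoeff_eq_one (z : Z) :
    AlgebraicCycle.mapCoeff i (fun z => δ (i z)) δ z = 1 := by
  unfold AlgebraicCycle.mapCoeff
  rw [if_pos rfl]
  exact residueDegree_eq_one i z (residueFieldMap_bijective i z).2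

/-- the pushforward along a closed immersion, at a point of the image -/
theorem map_apply_self (α : AlgebraicCycle Z ℤ) (z : Z) :
    AlgebraicCycle.map i (fun z => δ (i z)) δ α (i z) = α z := by
  classical
  change ∑ᶠ z' ∈ i ⁻¹' {i z}, α z' * ((AlgebraicCycle.mapCoeff i (fun z => δ (i z)) δ z' : ℕ) : ℤ)
    = α z
  rw [finsum_eq_single _ z]
  · have hmem : z ∈ i ⁻¹' {i z} := rfl
    rw [finsum_eq_if, if_pos hmem, mapCoeff_eq_one]
    simp
  · intro z' hne
    have hmem : z' ∉ i ⁻¹' {i z} := fun h => hne (injective i h)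
    rw [finsum_eq_if, if_neg hmem]

/-- the pushforward along a closed immersion vanishes outside the image -/
theorem map_apply_of_notMem (α : AlgebraicCycle Z ℤ) (x : X) (hx : x ∉ Set.range i) :
    AlgebraicCycle.map i (fun z => δ (i z)) δ α x = 0 := by
  classical
  change ∑ᶠ z' ∈ i ⁻¹' {x}, α z' * ((AlgebraicCycle.mapCoeff i (fun z => δ (i z)) δ z' : ℕ) : ℤ)
    = 0
  refine finsum_eq_zero_of_forall_eq_zero fun z' => ?_
  have hmem : z' ∉ i ⁻¹' {x} := fun h => hx ⟨z', h⟩
  rw [finsum_eq_if, if_neg hmem]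

/-- a function on `Z` dominated by the restriction of a cycle of `X` is a cycle -/
noncomputable def ofLe (α : AlgebraicCycle X ℤ) (g : Z → ℤ) (hg : ∀ z, g z ≠ 0 → α (i z) ≠ 0) :
    AlgebraicCycle Z ℤ where
  toFun := g
  supportWithinDomain' := by simp
  supportLocallyFiniteWithinDomain' := by
    intro z₀ _
    obtain ⟨t, ht, hfin⟩ := α.supportLocallyFiniteWithinDomain' (i z₀) (Set.mem_univ _)
    refine ⟨i ⁻¹' t, i.continuous.continuousAt.preimage_mem_nhds ht, ?_⟩
    refine Set.Finite.of_finite_image (f := i) (hfin.subset ?_) (injective i).injOn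
    rintro _ ⟨z, ⟨hzt, hz⟩, rfl⟩
    exact ⟨hzt, hg z hz⟩

theorem ofLe_apply (α : AlgebraicCycle X ℤ) (g : Z → ℤ) (hg : ∀ z, g z ≠ 0 → α (i z) ≠ 0) (z : Z) :
    ofLe i α g hg z = g z := rfl

/-- a cycle of `X` supported in the image of `i` is the pushforward of its restriction -/
theorem map_ofLe (α : AlgebraicCycle X ℤ) (hα : ∀ x, α x ≠ 0 → x ∈ Set.range i) :
    AlgebraicCycle.map i (fun z => δ (i z)) δ (ofLe i α (fun z => α (i z)) (fun _ h => h)) = α := by
  ext x
  by_cases hx : x ∈ Set.range i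
  · obtain ⟨z, rfl⟩ := hx
    rw [map_apply_self]
    rfl
  · rw [map_apply_of_notMem i δ _ x hx]
    by_contra hne
    exact hx (hα x (Ne.symm hne))

/-- the restriction of a dimension function to a closed subscheme is a dimension function -/
theorem isDimFun_comp (hδ : Cyc.IsDimFun X δ) : Cyc.IsDimFun Z (fun z => δ (i z)) := by
  intro z z' hsp hne
  have hsp' : i z ⤳ i z' := hsp.map i.continuous
  have hne' : i z ≠ i z' := fun h => hne (injective i h)
  refine ⟨(hδ _ _ hsp' hne').1, fun himm => (hδ _ _ hsp' hne').2 fun x hx1 hx2 => ?_⟩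
  have hxr : x ∈ Set.range i := by
    have : x ∈ closure {i z} := specializes_iff_mem_closure.1 hx1
    exact ((isClosed_range i).closure_subset_iff.2 (Set.singleton_subset_iff.2 ⟨z, rfl⟩)) this
  obtain ⟨w, rfl⟩ := hxr
  have h1 : z ⤳ w := i.isEmbedding.isInducing.specializes_iff.1 hx1
  have h2 : w ⤳ z' := i.isEmbedding.isInducing.specializes_iff.1 hx2
  rcases himm w h1 h2 with h | h
  · left; rw [h]
  · right; rw [h]

include i in
theorem isLocallyNoetherian [IsLocallyNoetherian X] : IsLocallyNoetherian Z :=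
  LocallyOfFiniteType.isLocallyNoetherian i

/-- a family of principal divisors on `Z`, locally finite, as a cycle -/
theorem exists_cycle_of_family [IsLocallyNoetherian Z] (δZ : Z → ℤ) (hδZ : Cyc.IsDimFun Z δZ)
    {ι : Type u} (ζ : ι → Z) (g : (a : ι) → Z.residueField (ζ a)) (hg : ∀ a, g a ≠ 0)
    (hloc : ∀ z : Z, ∃ U : Set Z, IsOpen U ∧ z ∈ U ∧ {a | (closure {ζ a} ∩ U).Nonempty}.Finite) :
    ∃ D : AlgebraicCycle Z ℤ, ∀ z, D z = ∑ᶠ a, Cyc.divFun δZ (ζ a) (g a) z := by
  let D₀ : Z → ℤ := fun z => ∑ᶠ a, Cyc.divFun δZ (ζ a) (g a) z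
  refine ⟨{ toFun := D₀
            supportWithinDomain' := by simp
            supportLocallyFiniteWithinDomain' := ?_ }, fun _ => rfl⟩
  intro z₀ _
  obtain ⟨U, hUo, hzU, hfin⟩ := hloc z₀
  obtain ⟨V, hV, hzV, hVU⟩ :=
    (TopologicalSpace.Opens.isBasis_iff_nbhd.mp Z.isBasis_affineOpens)
      (show z₀ ∈ (⟨U, hUo⟩ : Z.Opens) from hzU)
  haveI : IsNoetherianRing Γ(Z, V) := IsLocallyNoetherian.component_noetherian ⟨V, hV⟩
  refine ⟨V, V.isOpen.mem_nhds hzV, ?_⟩
  have hfin2 : (⋃ a ∈ {a | (closure {ζ a} ∩ U).Nonempty},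
      {z : Z | z ∈ V ∧ Cyc.divFun δZ (ζ a) (g a) z ≠ 0}).Finite :=
    Set.Finite.biUnion hfin (fun a _ => finite_divFun_support δZ hδZ hV _ (g a) (hg a))
  refine hfin2.subset ?_
  rintro z ⟨hzV', hz⟩
  rw [Function.mem_support] at hz
  obtain ⟨a, ha⟩ : ∃ a, Cyc.divFun δZ (ζ a) (g a) z ≠ 0 := by
    by_contra hcon
    push Not at hcon
    exact hz (finsum_eq_zero_of_forall_eq_zero hcon)
  have ha' := ha
  unfold Cyc.divFun at ha'
  split_ifs at ha' with hc
  · refine Set.mem_iUnion₂.2 ⟨a, ⟨z, specializes_iff_mem_closure.1 hc.1, hVU hzV'⟩, hzV', ha⟩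
  · exact absurd rfl ha'

end Groth.Agent.Lib.T2H4.ClosedImmCyc
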