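import Mathlib
import Groth.Agent.Lib.Helper23PB
import Groth.Agent.Lib.Helper2QCoh
import Groth.Agent.Lib.T2H4SecOrdGen
set_option backward.isDefEq.respectTransparency.types false

/-!
# The map on stalks `F_{f y} → (f^* F)_y` (helper4)

Namespace `Groth.Agent.Lib.T2H4.PullStalk`.
-/

set_option autoImplicit false
set_option linter.style.haveILetI false
universe u
open CategoryTheory CategoryTheory.Limits AlgebraicGeometry TopologicalSpace Opposite

namespace Groth.Agent.Lib.T2H4.PullStalk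

open Groth.Agent.Helper13PullbackUnit Groth.Agent.Lib.Helper6 Groth.Agent.Lib.Helper23.SecTw
  Groth.Agent.Lib.Helper2.QCoh Groth.Agent.Lib.T2H4.SecOrdGen

variable {X Y : Scheme.{u}} (f : Y ⟶ X) (F : X.Modules)

/-- the unit of the adjunction on presheaves -/
noncomputable def unitPre :
    F.presheaf ⟶ ((Scheme.Modules.pushforward f).obj ((Scheme.Modules.pullback f).obj F)).presheaf :=
  ((Scheme.Modules.pullbackPushforwardAdjunction f).unit.app F).mapPresheaf

/-- the canonical map on stalks `F_{f y} → (f^* F)_y` (additive) -/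
noncomputable def pullStalk (y : Y) :
    F.presheaf.stalk (f y) ⟶ ((Scheme.Modules.pullback f).obj F).presheaf.stalk y :=
  (TopCat.Presheaf.stalkFunctor Ab (f y)).map (unitPre f F) ≫
    TopCat.Presheaf.stalkPushforward Ab f.base ((Scheme.Modules.pullback f).obj F).presheaf y

theorem pullStalk_germ (y : Y) (V : X.Opens) (hy : f y ∈ V) (a : Γ(F, V)) :
    (pullStalk f F y).hom (F.presheaf.germ V (f y) hy a) =
      ((Scheme.Modules.pullback f).obj F).presheaf.germ (f ⁻¹ᵁ V) y hy
        (unitSec f F (le_refl (f ⁻¹ᵁ V)) a) := by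
  unfold pullStalk
  rw [ConcreteCategory.comp_apply]
  have h1 := TopCat.Presheaf.stalkFunctor_map_germ_apply V (f y) hy (unitPre f F) a
  have h1' := congrArg (TopCat.Presheaf.stalkPushforward Ab f.base
    ((Scheme.Modules.pullback f).obj F).presheaf y).hom h1
  refine h1'.trans ?_
  have h2 := TopCat.Presheaf.stalkPushforward_germ_apply Ab f.base
    ((Scheme.Modules.pullback f).obj F).presheaf V y hy (((unitPre f F).app (op V)) a)
  refine h2.trans ?_
  rw [unitSec_apply]
  have h3 : ∀ t : Γ((Scheme.Modules.pullback f).obj F, f ⁻¹ᵁ V),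
      ((Scheme.Modules.pullback f).obj F).presheaf.map (homOfLE (le_refl (f ⁻¹ᵁ V))).op t = t := by
    intro t
    change ((Scheme.Modules.pullback f).obj F).presheaf.map (𝟙 _) t = t
    rw [((Scheme.Modules.pullback f).obj F).presheaf.map_id]
    rfl
  rw [h3]
  rfl


/-- the germ of a generating section freely generates the stalk -/
theorem bijective_smul_germ_of_isGen (L : X.Modules) (W : X.Opens) (e : Γ(L, W)) (he : IsGen L W e)
    (y : X) (hy : y ∈ W) :
    Function.Bijective (fun c : X.presheaf.stalk y => c • L.presheaf.germ W y hy e) := by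
  set g := L.presheaf.germ W y hy e with hg
  have hgerm : ∀ (V : X.Opens) (hV : V ≤ W) (hyV : y ∈ V),
      L.presheaf.germ V y hyV (res L hV e) = g :=
    fun V hV hyV => TopCat.Presheaf.germ_res_apply L.presheaf (homOfLE hV) y hyV e
  have hinj : ∀ c : X.presheaf.stalk y, c • g = 0 → c = 0 := by
    intro c hc
    obtain ⟨W₀, hyW₀, r₀, rfl⟩ := X.presheaf.exists_germ_eq c
    have hyV : y ∈ W₀ ⊓ W := ⟨hyW₀, hy⟩
    set r := resf (inf_le_left : W₀ ⊓ W ≤ W₀) r₀ with hr
    have hgr : X.presheaf.germ (W₀ ⊓ W) y hyV r = X.presheaf.germ W₀ y hyW₀ r₀ :=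
      TopCat.Presheaf.germ_res_apply X.presheaf (homOfLE inf_le_left) y hyV r₀
    rw [← hgr] at hc ⊢
    have h1 : L.presheaf.germ (W₀ ⊓ W) y hyV (r • res L inf_le_right e) = 0 := by
      rw [germ_smul, hgerm]; exact hc
    rw [← map_zero (L.presheaf.germ (W₀ ⊓ W) y hyV).hom] at h1
    obtain ⟨W₁, hyW₁, i₁, i₂, h2⟩ := TopCat.Presheaf.germ_eq L.presheaf y hyV hyV _ _ h1
    have hle1 : W₁ ≤ W₀ ⊓ W := leOfHom i₁
    have h3 : resf hle1 r • res L (hle1.trans inf_le_right) e =
        (0 : Γ(X, W₁)) • res L (hle1.trans inf_le_right) e := by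
      rw [zero_smul]
      have h4 : L.presheaf.map i₁.op (r • res L inf_le_right e) = 0 := by
        rw [h2]; exact map_zero _
      have h5 := res_smul L hle1 r (res L inf_le_right e)
      rw [res_res] at h5
      rw [← h5]
      exact h4
    have h5 := (he W₁ (hle1.trans inf_le_right)).1 h3
    rw [← TopCat.Presheaf.germ_res_apply X.presheaf (homOfLE hle1) y hyW₁ r]
    change X.presheaf.germ W₁ y hyW₁ (resf hle1 r) = 0
    rw [h5, map_zero]
  constructor
  · intro c c' h
    have : (c - c') • g = 0 := by rw [sub_smul]; exact sub_eq_zero.2 h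
    exact sub_eq_zero.1 (hinj _ this)
  · intro m
    obtain ⟨W₀, hyW₀, m₀, rfl⟩ := L.presheaf.exists_germ_eq m
    have hyV : y ∈ W₀ ⊓ W := ⟨hyW₀, hy⟩
    obtain ⟨r, hr⟩ := (he (W₀ ⊓ W) inf_le_right).2 (res L (inf_le_left : W₀ ⊓ W ≤ W₀) m₀)
    refine ⟨X.presheaf.germ (W₀ ⊓ W) y hyV r, ?_⟩
    change X.presheaf.germ (W₀ ⊓ W) y hyV r • g = _
    rw [← hgerm (W₀ ⊓ W) inf_le_right hyV, ← germ_smul]
    have hr' : r • res L inf_le_right e = res L (inf_le_left : W₀ ⊓ W ≤ W₀) m₀ := hr
    rw [hr']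
    exact TopCat.Presheaf.germ_res_apply L.presheaf (homOfLE inf_le_left) y hyV m₀

/-- `pullStalk` is semilinear over the map of local rings -/
theorem pullStalk_smul (y : Y) (c : X.presheaf.stalk (f y)) (m : F.presheaf.stalk (f y)) :
    (pullStalk f F y).hom (c • m) = (f.stalkMap y).hom c • (pullStalk f F y).hom m := by
  obtain ⟨W₁, hx₁, a, rfl⟩ := X.presheaf.exists_germ_eq (x := f y) c
  obtain ⟨W₂, hx₂, b, rfl⟩ := F.presheaf.exists_germ_eq m
  have hx : f y ∈ W₁ ⊓ W₂ := ⟨hx₁, hx₂⟩
  rw [← TopCat.Presheaf.germ_res_apply X.presheaf (homOfLE (inf_le_left : W₁ ⊓ W₂ ≤ W₁)) (f y) hx a,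
    ← TopCat.Presheaf.germ_res_apply F.presheaf (homOfLE (inf_le_right : W₁ ⊓ W₂ ≤ W₂)) (f y) hx b,
    ← germ_smul, pullStalk_germ, pullStalk_germ, unitSec_smul]
  have h1 := Scheme.Hom.germ_stalkMap_apply f (W₁ ⊓ W₂) y hx
    (X.presheaf.map (homOfLE (inf_le_left : W₁ ⊓ W₂ ≤ W₁)).op a)
  rw [h1, ← germ_smul, Scheme.Hom.appLE_eq_app]


/-- `pullStalk` is compatible with specialization maps -/
theorem pullStalk_sp {y' y : Y} (h : y' ⤳ y) (m : F.presheaf.stalk (f y)) :
    (pullStalk f F y').hom (sp F (h.map f.continuous) m) =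
      sp ((Scheme.Modules.pullback f).obj F) h ((pullStalk f F y).hom m) := by
  obtain ⟨V, hy, a, rfl⟩ := F.presheaf.exists_germ_eq m
  have hy' : f y' ∈ V := (h.map f.continuous).mem_open V.isOpen hy
  have h1 : sp F (h.map f.continuous) (F.presheaf.germ V (f y) hy a) = F.presheaf.germ V (f y') hy' a :=
    TopCat.Presheaf.germ_stalkSpecializes_apply F.presheaf hy (h.map f.continuous) a
  rw [h1, pullStalk_germ, pullStalk_germ]
  exact (TopCat.Presheaf.germ_stalkSpecializes_apply
    ((Scheme.Modules.pullback f).obj F).presheaf (U := f ⁻¹ᵁ V) hy h _).symm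

/-- for an invertible module, `pullStalk` maps free generators to free generators -/
theorem bijective_smul_pullStalk (L : X.Modules) (hL : PicF.IsInvertible L) (y : Y)
    (b : L.presheaf.stalk (f y))
    (hb : Function.Bijective (fun c : X.presheaf.stalk (f y) => c • b)) :
    Function.Bijective (fun c : Y.presheaf.stalk y => c • (pullStalk f L y).hom b) := by
  haveI : L.IsQuasicoherent := Groth.Agent.Lib.Helper23.SecTw.isQuasicoherent_of_isInvertible L hL
  obtain ⟨W, e, hyW, hW, he⟩ := Groth.Agent.Lib.Helper23.PB.exists_affine_gen L hL (f y)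
  have hg := bijective_smul_germ_of_isGen L W e he (f y) hyW
  have hg' := bijective_smul_germ_of_isGen ((Scheme.Modules.pullback f).obj L) (f ⁻¹ᵁ W)
    (unitSec f L le_rfl e) (Groth.Agent.Lib.Helper23.PB.isGen_unitSec f L hW e he) y hyW
  rw [← pullStalk_germ] at hg'
  obtain ⟨u, v, hbu, -, huv⟩ := exists_unit_of_bijective _ b hg hb
  rw [hbu, pullStalk_smul]
  refine bijective_smul_of_unit _ hg' _ ?_
  exact (IsUnit.of_mul_eq_one _ huv).map (f.stalkMap y).hom

end Groth.Agent.Lib.T2H4.PullStalk
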