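import Mathlib
import Groth.Agent.Lib.T2H4PullStalk
import Groth.Agent.Lib.T2H4OrdPreimm
import Groth.Agent.Lib.T2H4ClosedImmCyc
import Groth.Agent.Lib.T2H4C1CapRat
set_option backward.isDefEq.respectTransparency.types false

/-!
# `i^* i_* α = c_1(i^* L) ∩ α` for the Gysin map of a closed immersion (helper4)

Namespace `Groth.Agent.Lib.T2H4.GysinSelf`.
-/

set_option autoImplicit false
set_option linter.style.haveILetI false
universe u
open CategoryTheory CategoryTheory.Limits AlgebraicGeometry TopologicalSpace Opposite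

namespace Groth.Agent.Lib.T2H4.GysinSelf

open Groth.Agent.Lib.T2H4.PullStalk Groth.Agent.Lib.T2H4.SecOrdGen

variable {X Y : Scheme.{u}} (f : Y ⟶ X) (L : X.Modules)

/-- residues are compatible with the maps on local rings -/
theorem residue_stalkMap (y : Y) (φ : X.presheaf.stalk (f y)) :
    Y.residue y ((f.stalkMap y).hom φ) = (f.residueFieldMap y).hom (X.residue (f y) φ) :=
  (ConcreteCategory.congr_hom (Scheme.residue_residueFieldMap f y) φ).symm

/-- nonvanishing in the fibre is preserved by pullback -/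
theorem mk_pullStalk_ne_zero (hL : PicF.IsInvertible L) (y : Y) (l : L.presheaf.stalk (f y))
    (hl : (Submodule.Quotient.mk l : Cyc.secFibre L (f y)) ≠ 0) :
    (Submodule.Quotient.mk ((pullStalk f L y).hom l) :
      Cyc.secFibre ((Scheme.Modules.pullback f).obj L) y) ≠ 0 := by
  obtain ⟨b, hb⟩ := exists_free_gen L hL (f y)
  obtain ⟨φ, rfl⟩ := hb.2 l
  have hb' := bijective_smul_pullStalk f L hL y b hb
  change (Submodule.Quotient.mk (φ • b) : Cyc.secFibre L (f y)) ≠ 0 at hl
  change (Submodule.Quotient.mk ((pullStalk f L y).hom (φ • b)) :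
      Cyc.secFibre ((Scheme.Modules.pullback f).obj L) y) ≠ 0
  rw [pullStalk_smul]
  intro h0
  rw [mk_smul_eq_zero_iff _ _ hb', residue_stalkMap] at h0
  apply hl
  rw [mk_smul_eq_zero_iff L b hb]
  exact (map_eq_zero_iff _ (RingHom.injective _)).1 h0

/-- **orders of rational sections are compatible with pullback along a preimmersion** -/
theorem secOrdAt_pullStalk [IsPreimmersion f] (hL : PicF.IsInvertible L) {y' y : Y} (h : y' ⤳ y)
    (l : L.presheaf.stalk (f y')) :
    Cyc.secOrdAt ((Scheme.Modules.pullback f).obj L) y' y h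
        (Submodule.Quotient.mk ((pullStalk f L y').hom l)) =
      Cyc.secOrdAt L (f y') (f y) (h.map f.continuous) (Submodule.Quotient.mk l) := by
  obtain ⟨a, ha, haξ⟩ := exists_gen L hL (h.map f.continuous)
  obtain ⟨φ, rfl⟩ := haξ.2 l
  change Cyc.secOrdAt ((Scheme.Modules.pullback f).obj L) y' y h
        (Submodule.Quotient.mk ((pullStalk f L y').hom (φ • sp L (h.map f.continuous) a))) =
      Cyc.secOrdAt L (f y') (f y) (h.map f.continuous)
        (Submodule.Quotient.mk (φ • sp L (h.map f.continuous) a))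
  rw [secOrdAt_eq L (h.map f.continuous) a ha haξ, pullStalk_smul, pullStalk_sp f L h]
  have ha' := bijective_smul_pullStalk f L hL y a ha
  have haξ' := bijective_smul_pullStalk f L hL y' _ haξ
  rw [pullStalk_sp f L h] at haξ'
  rw [secOrdAt_eq _ h _ ha' haξ', residue_stalkMap]
  exact Groth.Agent.Lib.T2H4.OrdPreimm.ordAt_preimmersion f y y' h _

/-- divisors of rational sections are compatible with pullback along a preimmersion -/
theorem secDivFun_pullStalk [IsPreimmersion f] (hL : PicF.IsInvertible L) (δ : X → ℤ) (y' y : Y)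
    (l : L.presheaf.stalk (f y')) :
    Cyc.secDivFun (fun y => δ (f y)) ((Scheme.Modules.pullback f).obj L) y'
        (Submodule.Quotient.mk ((pullStalk f L y').hom l)) y =
      Cyc.secDivFun δ L (f y') (Submodule.Quotient.mk l) (f y) := by
  unfold Cyc.secDivFun
  have hiff : y' ⤳ y ↔ f y' ⤳ f y := (f.isEmbedding.isInducing.specializes_iff).symm
  by_cases h : y' ⤳ y ∧ δ (f y) + 1 = δ (f y')
  · have h' : f y' ⤳ f y ∧ δ (f y) + 1 = δ (f y') := ⟨hiff.1 h.1, h.2⟩
    rw [dif_pos h, dif_pos h']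
    exact secOrdAt_pullStalk f L hL h.1 l
  · have h' : ¬ (f y' ⤳ f y ∧ δ (f y) + 1 = δ (f y')) := fun h' => h ⟨hiff.2 h'.1, h'.2⟩
    rw [dif_neg h, dif_neg h']

/-- reindexing a finite sum along an injective map containing the support -/
theorem finsum_comp_of_injective {A B M : Type*} [AddCommMonoid M] (g : A → B)
    (hg : Function.Injective g) (F : B → M) (hF : ∀ b, b ∉ Set.range g → F b = 0) :
    ∑ᶠ b, F b = ∑ᶠ a, F (g a) := by
  rw [← finsum_mem_range hg, ← finsum_mem_univ F]
  apply finsum_mem_inter_support_eq'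
  intro x hx
  constructor
  · intro _
    by_contra h
    exact hx (hF x h)
  · intro _
    trivial

open Groth.Agent.Lib.T2H4.ClosedImmCyc in
/-- **`i^* i_* α = c_1(i^* L) ∩ α`** for a closed immersion `i : D → X`, where `i^*` is computed as
`c_1(L) ∩ -` with nowhere vanishing rational sections, restricted to `D` -/
theorem main {D : Scheme.{u}} (i : D ⟶ X) [IsClosedImmersion i] (δ : X → ℤ)
    (hL : PicF.IsInvertible L) (k : ℤ) (α : AlgebraicCycle D ℤ)
    (hα : α ∈ Cyc.Zk D (fun d => δ (i d)) k)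
    (σ : (ξ : X) → Cyc.secFibre L ξ) (hσ : ∀ ξ, σ ξ ≠ 0)
    (t : (d : D) → Cyc.secFibre ((Scheme.Modules.pullback i).obj L) d) (ht : ∀ d, t d ≠ 0)
    (ζ₁ ζ₂ : AlgebraicCycle D ℤ)
    (h₁ : ∀ d, ζ₁ d = Cyc.c1CapFun δ L ⇑(AlgebraicCycle.map i (fun d => δ (i d)) δ α) σ (i d))
    (h₂ : ⇑ζ₂ = Cyc.c1CapFun (fun d => δ (i d)) ((Scheme.Modules.pullback i).obj L) ⇑α t) :
    Cyc.RatEquiv (fun d => δ (i d)) (k - 1) ζ₁ ζ₂ := by
  -- lifts of the sections to the stalks
  have hlift : ∀ d' : D, ∃ l : L.presheaf.stalk (i d'),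
      (Submodule.Quotient.mk l : Cyc.secFibre L (i d')) = σ (i d') :=
    fun d' => Submodule.Quotient.mk_surjective _ (σ (i d'))
  choose l hl using hlift
  set t₀ : (d : D) → Cyc.secFibre ((Scheme.Modules.pullback i).obj L) d :=
    fun d' => Submodule.Quotient.mk ((pullStalk i L d').hom (l d')) with ht₀
  have ht₀ne : ∀ d, t₀ d ≠ 0 := by
    intro d'
    apply mk_pullStalk_ne_zero i L hL d' (l d')
    rw [hl]
    exact hσ _
  have hα' : α ∈ Cyc.Zk D (fun d => δ (i d)) (k - 1 + 1) := by
    rw [sub_add_cancel]; exact hα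
  refine Groth.Agent.Lib.T2H4.C1CapRat.ratEquiv_of_sections (fun d => δ (i d))
    ((Scheme.Modules.pullback i).obj L) (Groth.Agent.Lib.Helper23.PB.isInvertible_pullback i L hL)
    (k - 1) α hα' t₀ t ht₀ne ht ζ₁ ζ₂ ?_ h₂
  funext d
  rw [h₁ d]
  unfold Cyc.c1CapFun
  rw [finsum_comp_of_injective i (injective i)]
  · refine finsum_congr (fun d' => ?_)
    rw [map_apply_self, ht₀]
    change _ = α d' * Cyc.secDivFun (fun d => δ (i d)) ((Scheme.Modules.pullback i).obj L) d'
      (Submodule.Quotient.mk ((pullStalk i L d').hom (l d'))) d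
    rw [secDivFun_pullStalk i L hL δ d' d (l d'), hl]
  · intro b hb
    rw [map_apply_of_notMem i δ α b hb, zero_mul]

end Groth.Agent.Lib.T2H4.GysinSelf
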