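import Mathlib
import Groth.Agent.S1833
import Groth.Agent.Lib.Helper5SuppDim
set_option backward.isDefEq.respectTransparency.types false

/-!
# The length of `R/(b)` as a sum over the non-maximal primes (helper4)

For a Noetherian local ring `R` of dimension at most one and a nonzerodivisor `b`:
`length R (R/(b)) = Σ_{p ≠ m} length (R_p) · ord_{R/p}(b)` as integers (algebraic core, from `S1833`).

Namespace `Groth.Agent.Lib.T2H4.LenMinPrimes`.
-/

set_option autoImplicit false
set_option linter.style.haveILetI false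
universe u
open Pointwise

namespace Groth.Agent.Lib.T2H4.LenMinPrimes

variable (R : Type u) [CommRing R]

theorem smul_top_eq_span (x : R) : x • (⊤ : Submodule R R) = Ideal.span {x} := by
  ext y
  rw [Submodule.mem_smul_pointwise_iff_exists, Ideal.mem_span_singleton']
  constructor
  · rintro ⟨z, -, rfl⟩
    exact ⟨z, by rw [smul_eq_mul, mul_comm]⟩
  · rintro ⟨z, rfl⟩
    exact ⟨z, trivial, by rw [smul_eq_mul, mul_comm]⟩

variable [IsNoetherianRing R] [IsLocalRing R] [Ring.KrullDimLE 1 R]

variable {R}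

omit [IsNoetherianRing R] in
theorem mem_minimalPrimes_of_ne_maximalIdeal (p : Ideal R) [hp : p.IsPrime]
    (hpm : p ≠ IsLocalRing.maximalIdeal R) : p ∈ minimalPrimes R := by
  rcases (Ring.krullDimLE_one_iff.1 ‹Ring.KrullDimLE 1 R›) p hp with h | h
  · exact h
  · exact absurd (IsLocalRing.eq_maximalIdeal h) hpm

omit [IsNoetherianRing R] in
theorem notMem_of_ne_maximalIdeal (p : Ideal R) [hp : p.IsPrime]
    (hpm : p ≠ IsLocalRing.maximalIdeal R) (b : R) (hb : b ∈ nonZeroDivisors R) : b ∉ p :=
  fun h => notMem_nonZeroDivisors_of_mem_mem_minimalPrimes h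
    (mem_minimalPrimes_of_ne_maximalIdeal p hpm) hb

theorem finite_ne_maximalIdeal :
    {p : PrimeSpectrum R | p.asIdeal ≠ IsLocalRing.maximalIdeal R}.Finite := by
  have hfin : {p : PrimeSpectrum R | p.asIdeal ∈ minimalPrimes R}.Finite := by
    refine Set.Finite.preimage ?_ (minimalPrimes.finite_of_isNoetherianRing R)
    intro p _ q _ h
    exact PrimeSpectrum.ext h
  refine hfin.subset fun p hp => ?_
  exact mem_minimalPrimes_of_ne_maximalIdeal p.asIdeal hp

omit [IsLocalRing R] [Ring.KrullDimLE 1 R] in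
theorem length_localization_ne_top (p : Ideal R) [p.IsPrime] (hp : p ∈ minimalPrimes R) :
    Module.length (Localization.AtPrime p) (Localization.AtPrime p) ≠ ⊤ := by
  have h1 : ringKrullDim (Localization.AtPrime p) = p.height :=
    IsLocalization.AtPrime.ringKrullDim_eq_height p _
  rw [Ideal.height_eq_zero_iff.mpr hp] at h1
  have h2 : Ring.KrullDimLE 0 (Localization.AtPrime p) :=
    Ring.krullDimLE_iff.mpr (le_of_eq (by rw [h1]; rfl))
  have h3 : IsArtinianRing (Localization.AtPrime p) := isArtinianRing_iff_krullDimLE_zero.mpr h2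
  exact Module.length_ne_top

theorem ord_ne_top_of_ne_maximalIdeal (p : Ideal R) [hp : p.IsPrime]
    (hpm : p ≠ IsLocalRing.maximalIdeal R) (b : R) (hb : b ∈ nonZeroDivisors R) :
    Ring.ord (R ⧸ p) (Ideal.Quotient.mk p b) ≠ ⊤ := by
  have hdimq : ringKrullDim (R ⧸ p) ≤ 1 :=
    (ringKrullDim_quotient_le _).trans (Ring.krullDimLE_iff.1 ‹Ring.KrullDimLE 1 R›)
  have : Ring.KrullDimLE 1 (R ⧸ p) := Ring.krullDimLE_iff.mpr hdimq
  have hb' : Ideal.Quotient.mk p b ≠ 0 := by
    rw [Ne, Ideal.Quotient.eq_zero_iff_mem]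
    exact notMem_of_ne_maximalIdeal p hpm b hb
  exact Ring.ord_ne_top (mem_nonZeroDivisors_of_ne_zero hb')

/-- **the length of `R/(b)` as a sum over the non-maximal primes** -/
theorem length_quot_span_eq_finsum (b : R) (hb : b ∈ nonZeroDivisors R) :
    Module.length R (R ⧸ Ideal.span {b}) ≠ ⊤ ∧
    ((Module.length R (R ⧸ Ideal.span {b})).toNat : ℤ) =
      ∑ᶠ p : PrimeSpectrum R, if p.asIdeal ≠ IsLocalRing.maximalIdeal R then
        ((Module.length (Localization.AtPrime p.asIdeal)
          (Localization.AtPrime p.asIdeal)).toNat : ℤ) *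
          ((Ring.ord (R ⧸ p.asIdeal) (Ideal.Quotient.mk p.asIdeal b)).toNat : ℤ) else 0 := by
  classical
  have h1 : Module.supportDim R R ≤ 1 := by
    rw [Module.supportDim_self_eq_ringKrullDim]
    exact Ring.krullDimLE_iff.1 ‹Ring.KrullDimLE 1 R›
  have h0 : Module.supportDim R (R ⧸ b • (⊤ : Submodule R R)) ≤ 0 := by
    apply Groth.Agent.Lib.Helper5.supportDim_le_zero_of_forall_isMaximal
    intro p hp
    have hbp : b ∈ p.asIdeal := by
      apply Module.annihilator_le_of_mem_support hp
      rw [Module.mem_annihilator]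
      intro x
      obtain ⟨y, rfl⟩ := Submodule.Quotient.mk_surjective _ x
      rw [← Submodule.Quotient.mk_smul, Submodule.Quotient.mk_eq_zero]
      exact Submodule.smul_mem_pointwise_smul y b ⊤ trivial
    have hpm : p.asIdeal = IsLocalRing.maximalIdeal R := by
      by_contra hne
      exact notMem_of_ne_maximalIdeal p.asIdeal hne b hb hbp
    rw [hpm]
    infer_instance
  have res := Groth.Agent.S1833.result R R b h1 h0
  have hreg : IsSMulRegular R b := by
    intro x y hxy
    have hxy' : b * x = b * y := hxy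
    exact (mem_nonZeroDivisors_iff.1 hb).1 _ (by rw [mul_sub, hxy', sub_self]) |> sub_eq_zero.1
  have hker : LinearMap.ker (LinearMap.lsmul R R b) = ⊥ := LinearMap.ker_eq_bot.mpr hreg
  rw [hker, Module.length_bot, zero_add] at res
  have hsupp : Module.support R R = Set.univ := by
    rw [Module.support_eq_zeroLocus, Module.annihilator_eq_bot.2 inferInstance]
    simp
  obtain ⟨F, hF⟩ : ∃ F : Finset (PrimeSpectrum R),
      ∀ p, p ∈ F ↔ p.asIdeal ≠ IsLocalRing.maximalIdeal R :=
    ⟨(finite_ne_maximalIdeal (R := R)).toFinset, fun p => by simp⟩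
  have hset : {p : PrimeSpectrum R | p ∈ Module.support R R ∧
      p.asIdeal ≠ IsLocalRing.maximalIdeal R} = (F : Set (PrimeSpectrum R)) := by
    ext p
    rw [Set.mem_ofPred_eq, hsupp, Finset.mem_coe, hF]
    simp
  have hsum : (∑ᶠ (p : PrimeSpectrum R) (_ : p ∈ Module.support R R ∧
      p.asIdeal ≠ IsLocalRing.maximalIdeal R),
        Ring.ord (R ⧸ p.asIdeal) (Ideal.Quotient.mk p.asIdeal b) *
          Module.length (Localization.AtPrime p.asIdeal)
            (LocalizedModule p.asIdeal.primeCompl R)) =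
      ∑ p ∈ F, Ring.ord (R ⧸ p.asIdeal) (Ideal.Quotient.mk p.asIdeal b) *
          Module.length (Localization.AtPrime p.asIdeal)
            (LocalizedModule p.asIdeal.primeCompl R) := by
    have h2 : (∑ᶠ (p : PrimeSpectrum R) (_ : p ∈ Module.support R R ∧
        p.asIdeal ≠ IsLocalRing.maximalIdeal R),
          Ring.ord (R ⧸ p.asIdeal) (Ideal.Quotient.mk p.asIdeal b) *
            Module.length (Localization.AtPrime p.asIdeal)
              (LocalizedModule p.asIdeal.primeCompl R)) =
        ∑ᶠ p ∈ {p : PrimeSpectrum R | p ∈ Module.support R R ∧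
          p.asIdeal ≠ IsLocalRing.maximalIdeal R},
            Ring.ord (R ⧸ p.asIdeal) (Ideal.Quotient.mk p.asIdeal b) *
              Module.length (Localization.AtPrime p.asIdeal)
                (LocalizedModule p.asIdeal.primeCompl R) := rfl
    rw [h2, hset, finsum_mem_coe_finset]
  rw [hsum, smul_top_eq_span] at res
  have hμ : ∀ p ∈ F, Module.length (Localization.AtPrime p.asIdeal)
      (LocalizedModule p.asIdeal.primeCompl R) ≠ ⊤ := fun p hp =>
    length_localization_ne_top p.asIdeal
      (mem_minimalPrimes_of_ne_maximalIdeal p.asIdeal ((hF p).1 hp))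
  have ho : ∀ p ∈ F, Ring.ord (R ⧸ p.asIdeal) (Ideal.Quotient.mk p.asIdeal b) ≠ ⊤ := fun p hp =>
    ord_ne_top_of_ne_maximalIdeal p.asIdeal ((hF p).1 hp) b hb
  have hterm : ∀ p ∈ F, Ring.ord (R ⧸ p.asIdeal) (Ideal.Quotient.mk p.asIdeal b) *
      Module.length (Localization.AtPrime p.asIdeal)
        (LocalizedModule p.asIdeal.primeCompl R) ≠ ⊤ := fun p hp =>
    WithTop.mul_ne_top (ho p hp) (hμ p hp)
  refine ⟨by rw [res]; exact ENat.sum_ne_top.mpr hterm, ?_⟩
  rw [res, ENat.toNat_sum hterm]
  push_cast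
  have hfs : (∑ᶠ p : PrimeSpectrum R, if p.asIdeal ≠ IsLocalRing.maximalIdeal R then
        ((Module.length (Localization.AtPrime p.asIdeal)
          (Localization.AtPrime p.asIdeal)).toNat : ℤ) *
          ((Ring.ord (R ⧸ p.asIdeal) (Ideal.Quotient.mk p.asIdeal b)).toNat : ℤ) else 0) =
      ∑ p ∈ F, ((Module.length (Localization.AtPrime p.asIdeal)
          (Localization.AtPrime p.asIdeal)).toNat : ℤ) *
          ((Ring.ord (R ⧸ p.asIdeal) (Ideal.Quotient.mk p.asIdeal b)).toNat : ℤ) := by
    rw [finsum_eq_sum_of_support_subset (s := F)]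
    · refine Finset.sum_congr rfl fun p hp => ?_
      rw [if_pos ((hF p).1 hp)]
    · intro p hp
      rw [Function.mem_support] at hp
      rw [Finset.mem_coe, hF]
      intro h
      rw [if_neg (not_not.2 h)] at hp
      exact hp rfl
  rw [hfs]
  refine Finset.sum_congr rfl fun p _ => ?_
  rw [ENat.toNat_mul]
  push_cast
  rw [mul_comm]

end Groth.Agent.Lib.T2H4.LenMinPrimes
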