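import Mathlib
import Groth.Prelude.Def_Cyc
import Groth.Agent.Lib.T2H4OrdLen
import Groth.Agent.Lib.T2H4GysinSelf
import Groth.Agent.Lib.T2H4LenMinPrimesA
set_option backward.isDefEq.respectTransparency.types false

/-!
# Generizations of a point and primes of its local ring; the length formula on a scheme (helper4)

Namespace `Groth.Agent.Lib.T2H4.LenMinPrimes`.

* `primeOf x ξ h`: the prime `ker (O_x → κ(ξ))` of `O_{X,x}` of a generization `ξ ⤳ x`;
* `fromSpecStalk_primeOf`, `primeOf_bijective`: generizations of `x` ↔ primes of `O_{X,x}`;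
* `isLocalization_stalk`: `O_{X,ξ}` is the localization of `O_{X,x}` at `primeOf x ξ h`;
* `length_stalk_eq`: `length O_ξ = length (O_x)_𝔮`;
* `ordAt_specMap_eq`: `ordAt x ξ (b|_ξ) = ord_{O_x/𝔮}(b)` for `b ∉ 𝔮`, `O_x/𝔮` of dimension ≤ 1;
* `length_quot_span_eq_finsum_specializes`: **`length O_x/(b) = Σ_{ξ ⤳ x, ξ ≠ x} length(O_ξ) · ord_{ξ⤳x}(b)`**
  for `x` with `dim O_x ≤ 1` and `b` a nonzerodivisor.
-/

set_option autoImplicit false
set_option linter.style.haveILetI false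
universe u
open CategoryTheory AlgebraicGeometry TopologicalSpace

namespace Groth.Agent.Lib.T2H4.LenMinPrimes

variable {X : Scheme.{u}}

/-- the prime of `O_{X,x}` of a generization `ξ` of `x` -/
noncomputable def primeOf (x ξ : X) (h : ξ ⤳ x) : PrimeSpectrum (X.presheaf.stalk x) :=
  ⟨RingHom.ker (Cyc.specMap x ξ h), RingHom.ker_isPrime _⟩

theorem mem_primeOf_iff (x ξ : X) (h : ξ ⤳ x) (a : X.presheaf.stalk x) :
    a ∈ (primeOf x ξ h).asIdeal ↔ Cyc.specMap x ξ h a = 0 := RingHom.mem_ker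

theorem mem_primeOf_iff' (x ξ : X) (h : ξ ⤳ x) (a : X.presheaf.stalk x) :
    a ∈ (primeOf x ξ h).asIdeal ↔
      (X.presheaf.stalkSpecializes h).hom a ∈ IsLocalRing.maximalIdeal (X.presheaf.stalk ξ) := by
  rw [mem_primeOf_iff]
  exact IsLocalRing.residue_eq_zero_iff _

theorem primeOf_eq_comap (x ξ : X) (h : ξ ⤳ x) :
    primeOf x ξ h = PrimeSpectrum.comap (X.presheaf.stalkSpecializes h).hom
      (IsLocalRing.closedPoint (X.presheaf.stalk ξ)) := by
  apply PrimeSpectrum.ext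
  ext a
  rw [mem_primeOf_iff']
  rfl

theorem fromSpecStalk_primeOf (x ξ : X) (h : ξ ⤳ x) :
    X.fromSpecStalk x (primeOf x ξ h) = ξ := by
  have h1 := Scheme.fromSpecStalk_closedPoint (X := X) (x := ξ)
  rw [← Scheme.SpecMap_stalkSpecializes_fromSpecStalk h] at h1
  rw [primeOf_eq_comap]
  exact h1

theorem fromSpecStalk_injective (x : X) : Function.Injective (X.fromSpecStalk x) :=
  (X.fromSpecStalk x).isEmbedding.injective

theorem fromSpecStalk_specializes (x : X) (p : PrimeSpectrum (X.presheaf.stalk x)) :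
    X.fromSpecStalk x p ⤳ x := by
  have : X.fromSpecStalk x p ∈ Set.range (X.fromSpecStalk x) := ⟨p, rfl⟩
  rw [Scheme.range_fromSpecStalk] at this
  exact this

theorem primeOf_fromSpecStalk (x : X) (p : PrimeSpectrum (X.presheaf.stalk x)) :
    primeOf x (X.fromSpecStalk x p) (fromSpecStalk_specializes x p) = p :=
  fromSpecStalk_injective x (fromSpecStalk_primeOf x _ _)

theorem primeOf_bijective (x : X) :
    Function.Bijective (fun ξ : {ξ : X // ξ ⤳ x} => primeOf x ξ.1 ξ.2) := by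
  constructor
  · intro ξ ξ' hξ
    apply Subtype.ext
    rw [← fromSpecStalk_primeOf x ξ.1 ξ.2, ← fromSpecStalk_primeOf x ξ'.1 ξ'.2]
    exact congrArg _ hξ
  · intro p
    exact ⟨⟨X.fromSpecStalk x p, fromSpecStalk_specializes x p⟩, primeOf_fromSpecStalk x p⟩

theorem primeOf_self (x : X) (h : x ⤳ x) :
    (primeOf x x h).asIdeal = IsLocalRing.maximalIdeal (X.presheaf.stalk x) := by
  ext a
  rw [mem_primeOf_iff']
  have : (X.presheaf.stalkSpecializes h).hom a = a := by
    rw [TopCat.Presheaf.stalkSpecializes_refl]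
    rfl
  rw [this]

theorem primeOf_eq_maximalIdeal_iff (x ξ : X) (h : ξ ⤳ x) :
    (primeOf x ξ h).asIdeal = IsLocalRing.maximalIdeal (X.presheaf.stalk x) ↔ ξ = x := by
  constructor
  · intro hm
    have h1 : primeOf x ξ h = primeOf x x specializes_rfl := by
      apply PrimeSpectrum.ext
      rw [hm, primeOf_self]
    have h2 := congrArg (X.fromSpecStalk x) h1
    rw [fromSpecStalk_primeOf, fromSpecStalk_primeOf] at h2
    exact h2
  · rintro rfl
    exact primeOf_self ξ h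

end Groth.Agent.Lib.T2H4.LenMinPrimes

namespace Groth.Agent.Lib.T2H4.LenMinPrimes

variable {X : Scheme.{u}}

/-- `O_{X,ξ}` is the localization of `O_{X,x}` at the prime of `ξ`, for a generization `ξ ⤳ x` -/
theorem isLocalization_stalk (x ξ : X) (h : ξ ⤳ x) :
    letI := (X.presheaf.stalkSpecializes h).hom.toAlgebra
    IsLocalization.AtPrime (X.presheaf.stalk ξ) (primeOf x ξ h).asIdeal := by
  letI algS := (X.presheaf.stalkSpecializes h).hom.toAlgebra
  obtain ⟨_, ⟨U, hU', rfl⟩, hxU, -⟩ :=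
    X.isBasis_affineOpens.exists_subset_of_mem_open (Set.mem_univ x) isOpen_univ
  have hU : IsAffineOpen U := hU'
  have hξU : ξ ∈ U := h.mem_open U.isOpen hxU
  letI := X.presheaf.algebra_section_stalk (U := U) ⟨x, hxU⟩
  letI := X.presheaf.algebra_section_stalk (U := U) ⟨ξ, hξU⟩
  haveI := hU.isLocalization_stalk ⟨x, hxU⟩
  haveI := hU.isLocalization_stalk ⟨ξ, hξU⟩
  have e2 : ∀ z : Γ(X, U), (X.presheaf.stalkSpecializes h).hom (X.presheaf.germ _ x hxU z) =
      X.presheaf.germ _ ξ hξU z := fun z =>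
    ConcreteCategory.congr_hom (TopCat.Presheaf.germ_stalkSpecializes X.presheaf hxU h) z
  haveI : IsScalarTower Γ(X, U) (X.presheaf.stalk x) (X.presheaf.stalk ξ) :=
    IsScalarTower.of_algebraMap_eq fun z => (e2 z).symm
  have hle' : (hU.primeIdealOf ⟨ξ, hξU⟩).asIdeal ≤ (hU.primeIdealOf ⟨x, hxU⟩).asIdeal :=
    (Groth.Agent.Lib.Helper4.VarDim.primeIdealOf_le_iff hU ξ x hξU hxU).mpr h
  have hle : (hU.primeIdealOf ⟨x, hxU⟩).asIdeal.primeCompl ≤
      (hU.primeIdealOf ⟨ξ, hξU⟩).asIdeal.primeCompl := fun a ha hmem => ha (hle' hmem)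
  have h1 := IsLocalization.isLocalization_of_submonoid_le (X.presheaf.stalk x)
    (X.presheaf.stalk ξ) _ _ hle
  refine IsLocalization.of_le (M := Submonoid.map (algebraMap Γ(X, U) (X.presheaf.stalk x))
    (hU.primeIdealOf ⟨ξ, hξU⟩).asIdeal.primeCompl) _ ?_ ?_
  · rintro _ ⟨a, ha, rfl⟩
    intro hmem
    apply ha
    have hmem' := (mem_primeOf_iff' x ξ h _).1 hmem
    change a ∈ (hU.primeIdealOf ⟨ξ, hξU⟩).asIdeal
    rw [hU.primeIdealOf_eq_map_closedPoint ⟨ξ, hξU⟩]
    change (X.presheaf.germ U ξ hξU).hom a ∈ IsLocalRing.maximalIdeal _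
    rw [← e2]
    exact hmem'
  · intro r hr
    have hr' : (X.presheaf.stalkSpecializes h).hom r ∉
        IsLocalRing.maximalIdeal (X.presheaf.stalk ξ) := fun hmem =>
      hr ((mem_primeOf_iff' x ξ h r).2 hmem)
    exact IsLocalRing.notMem_maximalIdeal.1 hr'

end Groth.Agent.Lib.T2H4.LenMinPrimes

namespace Groth.Agent.Lib.T2H4.LenMinPrimes

/-- the length of a ring over itself is invariant under ring isomorphisms -/
theorem length_self_eq_of_ringEquiv {R S : Type*} [CommRing R] [CommRing S] (e : R ≃+* S) :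
    Module.length R R = Module.length S S := by
  have : RingHomSurjective (e : R →+* S) := ⟨e.surjective⟩
  let f : R →ₛₗ[(e : R →+* S)] S :=
    { toFun := e
      map_add' := map_add e
      map_smul' := fun a b => by simp }
  rw [Module.length, Module.length, WithBot.unbot_inj,
    Order.krullDim_eq_of_orderIso (Submodule.orderIsoMapComapOfBijective f e.bijective)]

variable {X : Scheme.{u}}

theorem length_stalk_eq (x ξ : X) (h : ξ ⤳ x) :
    Module.length (X.presheaf.stalk ξ) (X.presheaf.stalk ξ) =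
      Module.length (Localization.AtPrime (primeOf x ξ h).asIdeal)
        (Localization.AtPrime (primeOf x ξ h).asIdeal) := by
  letI algS := (X.presheaf.stalkSpecializes h).hom.toAlgebra
  haveI := isLocalization_stalk x ξ h
  exact length_self_eq_of_ringEquiv
    (IsLocalization.algEquiv (primeOf x ξ h).asIdeal.primeCompl (X.presheaf.stalk ξ)
      (Localization.AtPrime (primeOf x ξ h).asIdeal)).toRingEquiv

theorem algebraMap_locQuot_mk (x ξ : X) (h : ξ ⤳ x) (a : X.presheaf.stalk x) :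
    algebraMap (Cyc.LocQuot x ξ h) (X.residueField ξ)
      (Ideal.Quotient.mk (RingHom.ker (Cyc.specMap x ξ h)) a) = Cyc.specMap x ξ h a := by
  rw [RingHom.algebraMap_toAlgebra, Ideal.Quotient.lift_mk]

theorem algebraMap_locQuot_injective (x ξ : X) (h : ξ ⤳ x) :
    Function.Injective (algebraMap (Cyc.LocQuot x ξ h) (X.residueField ξ)) := by
  rw [injective_iff_map_eq_zero]
  intro a ha
  obtain ⟨a, rfl⟩ := Ideal.Quotient.mk_surjective a
  rw [algebraMap_locQuot_mk] at ha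
  exact Ideal.Quotient.eq_zero_iff_mem.2 (RingHom.mem_ker.2 ha)

/-- every element of `κ(ξ)` is a quotient of elements of `O_x` -/
theorem exists_frac (x ξ : X) (h : ξ ⤳ x) (z : X.residueField ξ) :
    ∃ a b : X.presheaf.stalk x, Cyc.specMap x ξ h b ≠ 0 ∧
      z = Cyc.specMap x ξ h a / Cyc.specMap x ξ h b := by
  letI algS := (X.presheaf.stalkSpecializes h).hom.toAlgebra
  haveI := isLocalization_stalk x ξ h
  obtain ⟨w, rfl⟩ : ∃ w, (X.residue ξ).hom w = z := Ideal.Quotient.mk_surjective z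
  obtain ⟨⟨a, s⟩, hs⟩ := IsLocalization.surj (primeOf x ξ h).asIdeal.primeCompl w
  have hs0 : Cyc.specMap x ξ h s.1 ≠ 0 := fun h0 => s.2 ((mem_primeOf_iff x ξ h _).2 h0)
  refine ⟨a, s.1, hs0, ?_⟩
  rw [eq_div_iff hs0]
  have := congrArg (X.residue ξ).hom hs
  rw [map_mul] at this
  exact this

variable [IsLocallyNoetherian X]

/-- **the order of the restriction of a function `b ∈ O_x` to a generization `ξ`** is the order of
its class in the one-dimensional domain `O_x/𝔮_ξ` -/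
theorem ordAt_specMap_eq (x ξ : X) (h : ξ ⤳ x)
    [Ring.KrullDimLE 1 (X.presheaf.stalk x ⧸ (primeOf x ξ h).asIdeal)]
    (b : X.presheaf.stalk x) (hb : b ∉ (primeOf x ξ h).asIdeal) :
    Cyc.ordAt x ξ h (Cyc.specMap x ξ h b) =
      ((Ring.ord (X.presheaf.stalk x ⧸ (primeOf x ξ h).asIdeal)
        (Ideal.Quotient.mk (primeOf x ξ h).asIdeal b)).toNat : ℤ) := by
  haveI : (RingHom.ker (Cyc.specMap x ξ h)).IsPrime := RingHom.ker_isPrime _
  haveI : IsDomain (Cyc.LocQuot x ξ h) := Ideal.Quotient.isDomain _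
  haveI : IsNoetherianRing (Cyc.LocQuot x ξ h) := inferInstance
  haveI : Ring.KrullDimLE 1 (Cyc.LocQuot x ξ h) :=
    ‹Ring.KrullDimLE 1 (X.presheaf.stalk x ⧸ (primeOf x ξ h).asIdeal)›
  have hfr : ∀ z : X.residueField ξ, ∃ a b : Cyc.LocQuot x ξ h,
      z = algebraMap _ (X.residueField ξ) a / algebraMap _ (X.residueField ξ) b := by
    intro z
    obtain ⟨a, b, -, hz⟩ := exists_frac x ξ h z
    exact ⟨Ideal.Quotient.mk _ a, Ideal.Quotient.mk _ b, by
      rw [algebraMap_locQuot_mk, algebraMap_locQuot_mk]; exact hz⟩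
  have hb0 : (Ideal.Quotient.mk (RingHom.ker (Cyc.specMap x ξ h)) b : Cyc.LocQuot x ξ h) ≠ 0 :=
    fun h0 => hb (Ideal.Quotient.eq_zero_iff_mem.1 h0)
  have key := Groth.Agent.Lib.T2H4.OrdLen.ordFrac_eq_length (RingEquiv.refl (Cyc.LocQuot x ξ h))
    (algebraMap_locQuot_injective x ξ h) hfr _ hb0
  rw [RingEquiv.refl_apply, algebraMap_locQuot_mk] at key
  exact key

end Groth.Agent.Lib.T2H4.LenMinPrimes

namespace Groth.Agent.Lib.T2H4.LenMinPrimes

variable {X : Scheme.{u}} [IsLocallyNoetherian X]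

open Classical in
/-- **`length O_x/(b) = Σ_{ξ ⤳ x, ξ ≠ x} length(O_ξ) · ord_{ξ ⤳ x}(b|_ξ)`** at a point `x` whose local
ring has dimension at most one, for a nonzerodivisor `b` -/
theorem length_quot_span_eq_finsum_specializes (x : X) [Ring.KrullDimLE 1 (X.presheaf.stalk x)]
    (b : X.presheaf.stalk x) (hb : b ∈ nonZeroDivisors (X.presheaf.stalk x)) :
    Module.length (X.presheaf.stalk x) (X.presheaf.stalk x ⧸ Ideal.span {b}) ≠ ⊤ ∧
    ((Module.length (X.presheaf.stalk x) (X.presheaf.stalk x ⧸ Ideal.span {b})).toNat : ℤ) =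
      ∑ᶠ ξ : X, if h : ξ ⤳ x ∧ ξ ≠ x then
        ((Module.length (X.presheaf.stalk ξ) (X.presheaf.stalk ξ)).toNat : ℤ) *
          Cyc.ordAt x ξ h.1 (Cyc.specMap x ξ h.1 b) else 0 := by
  obtain ⟨hfin, hA⟩ := length_quot_span_eq_finsum (R := X.presheaf.stalk x) b hb
  refine ⟨hfin, ?_⟩
  rw [hA]
  set H : X → ℤ := fun ξ => if h : ξ ⤳ x ∧ ξ ≠ x then
        ((Module.length (X.presheaf.stalk ξ) (X.presheaf.stalk ξ)).toNat : ℤ) *
          Cyc.ordAt x ξ h.1 (Cyc.specMap x ξ h.1 b) else 0 with hH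
  have h1 : ∑ᶠ ξ : X, H ξ = ∑ᶠ ξ : {ξ : X // ξ ⤳ x}, H ξ.1 := by
    refine Groth.Agent.Lib.T2H4.GysinSelf.finsum_comp_of_injective Subtype.val
      Subtype.val_injective H (fun ξ hξ => ?_)
    have hns : ¬ (ξ ⤳ x ∧ ξ ≠ x) := fun hc => hξ ⟨⟨ξ, hc.1⟩, rfl⟩
    simp only [hH, dif_neg hns]
  rw [h1]
  symm
  refine finsum_eq_of_bijective _ (primeOf_bijective x) (fun ξ => ?_)
  obtain ⟨ξ, h⟩ := ξ
  by_cases hξx : ξ = x
  · have hns : ¬ (ξ ⤳ x ∧ ξ ≠ x) := fun hc => hc.2 hξx
    simp only [hH, dif_neg hns]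
    rw [if_neg (not_not.2 ((primeOf_eq_maximalIdeal_iff x ξ h).2 hξx))]
  · have hc : ξ ⤳ x ∧ ξ ≠ x := ⟨h, hξx⟩
    have hne : (primeOf x ξ h).asIdeal ≠ IsLocalRing.maximalIdeal (X.presheaf.stalk x) :=
      fun hm => hξx ((primeOf_eq_maximalIdeal_iff x ξ h).1 hm)
    simp only [hH, dif_pos hc]
    rw [if_pos hne, length_stalk_eq x ξ h]
    haveI : Ring.KrullDimLE 1 (X.presheaf.stalk x ⧸ (primeOf x ξ h).asIdeal) :=
      Ring.krullDimLE_iff.mpr ((ringKrullDim_quotient_le _).trans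
        (Ring.krullDimLE_iff.1 ‹Ring.KrullDimLE 1 (X.presheaf.stalk x)›))
    rw [ordAt_specMap_eq x ξ h b (notMem_of_ne_maximalIdeal _ hne b hb)]

end Groth.Agent.Lib.T2H4.LenMinPrimes
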