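import Mathlib
import Groth.Agent.Lib.T2H4LenMinPrimesB
set_option backward.isDefEq.respectTransparency.types false

/-!
# Integral schemes of dimension one (helper4)

For an integral scheme `X` of (topological Krull) dimension one: closed points are not generic,
non-generic points are closed, and the local ring at a closed point has Krull dimension one.

Namespace `Groth.Agent.Lib.T3H4.CurveGeo`.
-/

set_option autoImplicit false
set_option linter.style.haveILetI false
universe u

open AlgebraicGeometry CategoryTheory TopologicalSpace Groth.Agent.Lib.T2H4.LenMinPrimes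

namespace Groth.Agent.Lib.T3H4.CurveGeo

theorem withBot_enat_eq_zero_of_lt_one (x : WithBot ℕ∞) (h0 : 0 ≤ x) (h1 : x < 1) : x = 0 := by
  induction x using WithBot.recBotCoe with
  | bot => exact absurd h0 (by simp)
  | coe a =>
    have h2 : a < 1 := by exact_mod_cast h1
    have h3 : a = 0 := Order.lt_one_iff.mp h2
    rw [h3]; rfl

variable {X : Scheme.{u}} [IsIntegral X]

theorem ne_genericPoint_of_isClosed (hdim : topologicalKrullDim X = 1) {x : X}
    (hx : IsClosed ({x} : Set X)) : x ≠ genericPoint X := by
  rintro rfl
  have h1 : (Set.univ : Set X) = {genericPoint X} := by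
    rw [← hx.closure_eq]
    exact ((genericPoint_spec X).def).symm
  haveI : Subsingleton X := ⟨fun a b => by
    have ha : a ∈ ({genericPoint X} : Set X) := h1 ▸ Set.mem_univ a
    have hb : b ∈ ({genericPoint X} : Set X) := h1 ▸ Set.mem_univ b
    rw [Set.mem_singleton_iff] at ha hb
    rw [ha, hb]⟩
  have := topologicalKrullDim_zero_of_discreteTopology X
  rw [hdim] at this
  exact absurd this (by decide)

theorem isClosed_of_ne_genericPoint (hdim : topologicalKrullDim X = 1) {x : X}
    (hx : x ≠ genericPoint X) : IsClosed ({x} : Set X) := by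
  have h1 : Order.krullDim (IrreducibleCloseds X) ≤ 1 := hdim.le
  rw [Order.krullDim_le_one_iff] at h1
  let Z : IrreducibleCloseds X := ⟨closure {x}, isIrreducible_singleton.closure, isClosed_closure⟩
  let W : IrreducibleCloseds X := ⟨Set.univ, IrreducibleSpace.isIrreducible_univ X, isClosed_univ⟩
  rcases h1 Z with hmin | hmax
  · have hsub : closure ({x} : Set X) ⊆ {x} := by
      intro y hy
      let Zy : IrreducibleCloseds X :=
        ⟨closure {y}, isIrreducible_singleton.closure, isClosed_closure⟩
      have hle : Zy ≤ Z := by
        change closure ({y} : Set X) ⊆ closure {x}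
        exact closure_minimal (Set.singleton_subset_iff.mpr hy) isClosed_closure
      have hge : Z ≤ Zy := hmin hle
      have hx' : x ∈ closure ({y} : Set X) := hge (subset_closure rfl)
      have s1 : x ⤳ y := specializes_iff_mem_closure.mpr hy
      have s2 : y ⤳ x := specializes_iff_mem_closure.mpr hx'
      exact (s1.antisymm s2).eq.symm
    have : closure ({x} : Set X) = {x} := Set.Subset.antisymm hsub subset_closure
    rw [← this]
    exact isClosed_closure
  · exfalso
    apply hx
    have hle : Z ≤ W := fun y _ => Set.mem_univ y
    have hge : W ≤ Z := hmax hle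
    have hgen : IsGenericPoint x (Set.univ : Set X) := by
      change closure {x} = Set.univ
      exact Set.Subset.antisymm (Set.subset_univ _) hge
    exact hgen.eq (genericPoint_spec X)

/-- a prime of the local ring at a closed point is zero or maximal -/
theorem ringKrullDim_stalk_eq_one (hdim : topologicalKrullDim X = 1) {x : X}
    (hx : IsClosed ({x} : Set X)) : ringKrullDim (X.presheaf.stalk x) = 1 := by
  have hxη : x ≠ genericPoint X := ne_genericPoint_of_isClosed hdim hx
  have hη : genericPoint X ⤳ x := genericPoint_specializes x
  have hbot : (primeOf x (genericPoint X) hη).asIdeal = ⊥ := by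
    ext a
    rw [mem_primeOf_iff', IsLocalRing.maximalIdeal_eq_bot (R := X.functionField), Ideal.mem_bot,
      Ideal.mem_bot]
    constructor
    · intro h
      exact IsFractionRing.injective (X.presheaf.stalk x) X.functionField (by rw [map_zero]; exact h)
    · rintro rfl
      exact map_zero _
  have hprime : ∀ p : Ideal (X.presheaf.stalk x), p.IsPrime →
      p = ⊥ ∨ p = IsLocalRing.maximalIdeal (X.presheaf.stalk x) := by
    intro p hp
    let ξ := X.fromSpecStalk x ⟨p, hp⟩
    have hξ : ξ ⤳ x := fromSpecStalk_specializes x ⟨p, hp⟩
    have hpξ : primeOf x ξ hξ = ⟨p, hp⟩ := primeOf_fromSpecStalk x ⟨p, hp⟩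
    by_cases h : ξ = genericPoint X
    · left
      have h2 : primeOf x ξ hξ = primeOf x (genericPoint X) hη := by
        congr 1
      rw [hpξ] at h2
      rw [← hbot, ← h2]
    · right
      have hcl : IsClosed ({ξ} : Set X) := isClosed_of_ne_genericPoint hdim h
      have hmem : x ∈ closure ({ξ} : Set X) := specializes_iff_mem_closure.mp hξ
      rw [hcl.closure_eq, Set.mem_singleton_iff] at hmem
      have h2 := (primeOf_eq_maximalIdeal_iff x ξ hξ).mpr hmem.symm
      rw [hpξ] at h2
      exact h2
  apply le_antisymm
  · haveI : Ring.KrullDimLE 1 (X.presheaf.stalk x) := by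
      refine Ring.krullDimLE_one_iff_of_noZeroDivisors.mpr (fun p hp hpp => ?_)
      rcases hprime p hpp with h | h
      · exact absurd h hp
      · rw [h]
        infer_instance
    exact Ring.krullDimLE_iff.mp inferInstance
  · have hnf : ¬ IsField (X.presheaf.stalk x) := by
      intro hf
      have h1 : IsLocalRing.maximalIdeal (X.presheaf.stalk x) = ⊥ :=
        IsLocalRing.isField_iff_maximalIdeal_eq.mp hf
      have h2 : primeOf x (genericPoint X) hη = primeOf x x specializes_rfl := by
        apply PrimeSpectrum.ext
        rw [hbot, primeOf_self, h1]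
      have h3 := congrArg (X.fromSpecStalk x) h2
      rw [fromSpecStalk_primeOf, fromSpecStalk_primeOf] at h3
      exact hxη h3.symm
    have h1 : 0 ≤ ringKrullDim (X.presheaf.stalk x) := ringKrullDim_nonneg_of_nontrivial
    by_contra hlt
    push Not at hlt
    have h0 : ringKrullDim (X.presheaf.stalk x) = 0 := withBot_enat_eq_zero_of_lt_one _ h1 hlt
    haveI : Ring.KrullDimLE 0 (X.presheaf.stalk x) :=
      ringKrullDimZero_iff_ringKrullDim_eq_zero.mpr h0
    exact hnf Ring.KrullDimLE.isField_of_isDomain

end Groth.Agent.Lib.T3H4.CurveGeo
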