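import Mathlib
import Groth.Agent.S7383
import Groth.Agent.S9199
import Groth.Agent.S9200

/-!
# Factoring a morphism of qcqs schemes as affine followed by finite presentation (helper6, team 2)
-/

set_option autoImplicit false
universe u

namespace Groth.Agent.Lib.T2H6.AffFP

open AlgebraicGeometry CategoryTheory TopologicalSpace Limits

/-- the data extracted from `S7383`, in `Scheme`-valued form. -/
theorem exists_system {X Y : Scheme.{u}} (f : Y ⟶ X)
    [CompactSpace X] [QuasiSeparatedSpace X] [CompactSpace Y] [QuasiSeparatedSpace Y] :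
    ∃ (I : Type u) (_ : Preorder I) (_ : IsDirected I (fun a b => a ≤ b)) (_ : Nonempty I)
      (D : Iᵒᵖ ⥤ Over X) (c : Limits.Cone D) (_ : Limits.IsLimit c)
      (_ : Limits.IsLimit ((Over.forget X).mapCone c)) (e : c.pt ≅ Over.mk f),
      (∀ i, LocallyOfFinitePresentation (D.obj i).hom ∧ QuasiCompact (D.obj i).hom ∧
        QuasiSeparated (D.obj i).hom ∧ CompactSpace (D.obj i).left ∧
        QuasiSeparatedSpace (D.obj i).left) ∧
      (∀ (i j : Iᵒᵖ) (a : i ⟶ j), IsAffineHom (D.map a).left) := by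
  obtain ⟨I, iP, iD, iN, D, c, hc, hobj, haff, ⟨e⟩⟩ := Groth.Agent.S7383.result f
  haveI : IsCofiltered Iᵒᵖ := inferInstance
  have hconn : IsConnected Iᵒᵖ := IsCofiltered.isConnected _
  refine ⟨I, iP, iD, iN, D, c, hc, isLimitOfPreserves (Over.forget X) hc, e, fun i => ?_, haff⟩
  obtain ⟨h1, h2, h3⟩ := hobj i
  haveI := h2; haveI := h3
  exact ⟨h1, h2, h3, QuasiCompact.compactSpace_of_compactSpace (D.obj i).hom,
    quasiSeparatedSpace_of_quasiSeparated (D.obj i).hom⟩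

theorem exists_affine_comp_fp {X Y : Scheme.{u}} (f : Y ⟶ X)
    [CompactSpace X] [QuasiSeparatedSpace X] [CompactSpace Y] [QuasiSeparatedSpace Y] :
    ∃ (Z : Scheme.{u}) (g : Y ⟶ Z) (h : Z ⟶ X), IsAffineHom g ∧ LocallyOfFinitePresentation h ∧
      QuasiCompact h ∧ QuasiSeparated h ∧ (IsSeparated f → IsSeparated h) ∧ g ≫ h = f := by
  classical
  obtain ⟨I, iP, iD, iN, D, c, hc, hc₀, e, hobj, haff⟩ := exists_system f
  haveI : IsCofiltered Iᵒᵖ := inferInstance
  let D₀ : Iᵒᵖ ⥤ Scheme.{u} := D ⋙ Over.forget X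
  let c₀ : Cone D₀ := (Over.forget X).mapCone c
  haveI : ∀ (i j : Iᵒᵖ) (a : i ⟶ j), IsAffineHom (D₀.map a) := haff
  have inst' : ∀ {i j : Iᵒᵖ} (a : i ⟶ j), IsAffineHom (D₀.map a) := fun a => haff _ _ a
  haveI : ∀ i, CompactSpace (D₀.obj i) := fun i => (hobj i).2.2.2.1
  haveI : ∀ i, QuasiSeparatedSpace (D₀.obj i) := fun i => (hobj i).2.2.2.2
  let t : D₀ ⟶ (Functor.const Iᵒᵖ).obj X :=
    { app := fun i => (D.obj i).hom
      naturality := by
        intro i j a
        simp only [Functor.const_obj_obj, Functor.const_obj_map, Category.comp_id]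
        exact Over.w (D.map a) }
  have hw : ∀ i : Iᵒᵖ, (c.π.app i).left ≫ (D.obj i).hom = c.pt.hom := fun i => Over.w (c.π.app i)
  have he : e.inv.left ≫ c.pt.hom = f := Over.w e.inv
  have he' : e.hom.left ≫ f = c.pt.hom := Over.w e.hom
  -- choice of the index
  have hi : ∃ i : Iᵒᵖ, IsSeparated f → IsSeparated (D.obj i).hom := by
    by_cases hsep : IsSeparated f
    · have i₀ : Iᵒᵖ := Opposite.op (Classical.arbitrary I)
      have h1 : IsSeparated ((c.π.app i₀).left ≫ (D.obj i₀).hom) := by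
        rw [hw, ← he']; infer_instance
      letI : IsSeparated (c₀.π.app i₀ ≫ t.app i₀) := h1
      obtain ⟨i₁, hi₁⟩ := Groth.Agent.S9199.result X D₀ t c₀ hc₀ i₀
      exact ⟨i₁, fun _ => hi₁ i₁ (𝟙 _)⟩
    · exact ⟨Opposite.op (Classical.arbitrary I), fun h => absurd h hsep⟩
  obtain ⟨i, hsep⟩ := hi
  have h2 : IsAffineHom ((c.π.app i).left) := isAffineHom_π_app D₀ c₀ hc₀ i
  haveI := h2
  refine ⟨(D.obj i).left, e.inv.left ≫ (c.π.app i).left, (D.obj i).hom, inferInstance, (hobj i).1,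
    (hobj i).2.1, (hobj i).2.2.1, hsep, ?_⟩
  rw [Category.assoc, hw, he]

theorem isAffineHom_of_system {X Y : Scheme.{u}} (f : Y ⟶ X) {I : Type u} [SmallCategory I]
    [IsFiltered I] (D : Iᵒᵖ ⥤ Over X) (c : Limits.Cone D) (hc : Limits.IsLimit c)
    (hD : ∀ i, IsAffineHom (D.obj i).hom) (e : c.pt ≅ Over.mk f) : IsAffineHom f := by
  haveI : IsCofiltered Iᵒᵖ := inferInstance
  have hconn : IsConnected Iᵒᵖ := IsCofiltered.isConnected _
  let D₀ : Iᵒᵖ ⥤ Scheme.{u} := D ⋙ Over.forget X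
  let c₀ : Cone D₀ := (Over.forget X).mapCone c
  have hc₀ : IsLimit c₀ := isLimitOfPreserves (Over.forget X) hc
  have inst' : ∀ {i j : Iᵒᵖ} (a : i ⟶ j), IsAffineHom (D₀.map a) := by
    intro i j a
    show IsAffineHom (D.map a).left
    haveI := hD j
    haveI : IsAffineHom ((D.map a).left ≫ (D.obj j).hom) := by
      rw [Over.w (D.map a)]; exact hD i
    exact IsAffineHom.of_comp (D.map a).left (D.obj j).hom
  obtain ⟨i₀⟩ := IsFiltered.nonempty (C := I)
  let i : Iᵒᵖ := Opposite.op i₀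
  have h2 : IsAffineHom ((c.π.app i).left) := isAffineHom_π_app D₀ c₀ hc₀ i
  haveI := h2
  haveI := hD i
  have hw : (c.π.app i).left ≫ (D.obj i).hom = c.pt.hom := Over.w (c.π.app i)
  have he : e.inv.left ≫ c.pt.hom = f := Over.w e.inv
  rw [← he, ← hw]
  infer_instance

theorem isAffineHom_iff {X Y : Scheme.{u}} (f : Y ⟶ X)
    [CompactSpace X] [QuasiSeparatedSpace X] [CompactSpace Y] [QuasiSeparatedSpace Y] :
    IsAffineHom f ↔
      ∃ (I : Type u) (_ : SmallCategory I) (_ : IsFiltered I) (D : Iᵒᵖ ⥤ Over X)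
        (c : Limits.Cone D) (_ : Limits.IsLimit c),
        (∀ i, IsAffineHom (D.obj i).hom ∧ LocallyOfFinitePresentation (D.obj i).hom) ∧
        Nonempty (c.pt ≅ Over.mk f) := by
  classical
  constructor
  · intro hf
    obtain ⟨I, iP, iD, iN, D, c, hc, hc₀, e, hobj, haff⟩ := exists_system f
    haveI : IsCofiltered Iᵒᵖ := inferInstance
    let D₀ : Iᵒᵖ ⥤ Scheme.{u} := D ⋙ Over.forget X
    let c₀ : Cone D₀ := (Over.forget X).mapCone c
    haveI : ∀ (i j : Iᵒᵖ) (a : i ⟶ j), IsAffineHom (D₀.map a) := haff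
    haveI : ∀ i, CompactSpace (D₀.obj i) := fun i => (hobj i).2.2.2.1
    haveI : ∀ i, QuasiSeparatedSpace (D₀.obj i) := fun i => (hobj i).2.2.2.2
    let t : D₀ ⟶ (Functor.const Iᵒᵖ).obj X :=
      { app := fun i => (D.obj i).hom
        naturality := by
          intro i j a
          simp only [Functor.const_obj_obj, Functor.const_obj_map, Category.comp_id]
          exact Over.w (D.map a) }
    have hw : ∀ i : Iᵒᵖ, (c.π.app i).left ≫ (D.obj i).hom = c.pt.hom := fun i => Over.w (c.π.app i)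
    have he' : e.hom.left ≫ f = c.pt.hom := Over.w e.hom
    have i₀ : Iᵒᵖ := Opposite.op (Classical.arbitrary I)
    have h1 : IsAffineHom ((c.π.app i₀).left ≫ (D.obj i₀).hom) := by
      rw [hw, ← he']; infer_instance
    letI : IsAffineHom (c₀.π.app i₀ ≫ t.app i₀) := h1
    obtain ⟨i₁, hi₁⟩ := Groth.Agent.S9200.result X D₀ t c₀ hc₀ i₀
    -- the cofinal subsystem
    let J := {j : I // i₁.unop ≤ j}
    haveI : Nonempty J := ⟨⟨i₁.unop, le_rfl⟩⟩
    haveI : IsDirectedOrder J :=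
      ⟨fun a b => by
        obtain ⟨k, hak, hbk⟩ := directed_of (· ≤ ·) a.1 b.1
        exact ⟨⟨k, a.2.trans hak⟩, hak, hbk⟩⟩
    have hmono : Monotone (fun j : J => j.1) := fun a b h => h
    haveI : hmono.functor.Final := by
      rw [Monotone.final_functor_iff]
      intro j₂
      obtain ⟨k, h1, h2⟩ := directed_of (· ≤ ·) j₂ i₁.unop
      exact ⟨⟨k, h2⟩, h1⟩
    let F : Jᵒᵖ ⥤ Iᵒᵖ := hmono.functor.op
    haveI : F.Initial := inferInstance
    refine ⟨J, inferInstance, inferInstance, F ⋙ D, c.whisker F,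
      (Functor.Initial.isLimitWhiskerEquiv F c).symm hc, fun j => ⟨?_, (hobj _).1⟩, ⟨e⟩⟩
    exact hi₁ (F.obj j) (homOfLE j.unop.2).op
  · rintro ⟨I, iC, iF, D, c, hc, hD, ⟨e⟩⟩
    exact isAffineHom_of_system f D c hc (fun i => (hD i).1) e

end Groth.Agent.Lib.T2H6.AffFP
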