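import Groth.Agent.Lib.T2H6HProjComp
import Groth.Agent.Lib.Helper27ProjSpaceZero

/-!
# helper6 (team 2): Chow's lemma — finite products of projective spaces over `S` embed in a projective space
-/

set_option autoImplicit false
set_option linter.unusedSectionVars false
universe u

open CategoryTheory CategoryTheory.Limits AlgebraicGeometry TopologicalSpace Opposite

namespace Groth.Agent.Lib.T2H6.ChowProd

open CohB1

theorem isIso_toBase_zero (S : Scheme.{u}) : IsIso (ProjSpaceOver.toBase 0 S) := by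
  haveI := Groth.Agent.Lib.Helper27ProjSpaceSurj.isIso_toSpec (ULift.{u} ℤ)
  unfold ProjSpaceOver.toBase
  exact pullback_snd_iso_of_left_iso _ _

/-- a "product" of finitely many projective spaces over `S`, closed in a projective space over `S`. -/
theorem exists_prod (S : Scheme.{u}) : ∀ (k : ℕ) (n : Fin k → ℕ),
    ∃ (P : Scheme.{u}) (p : P ⟶ S) (pr : ∀ i, P ⟶ ProjSpaceOver (n i) S) (N : ℕ)
      (φ : P ⟶ ProjSpaceOver N S), IsClosedImmersion φ ∧ φ ≫ ProjSpaceOver.toBase N S = p ∧
      (∀ i, pr i ≫ ProjSpaceOver.toBase (n i) S = p) ∧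
      ∀ (T : Scheme.{u}) (t : T ⟶ S) (g : ∀ i, T ⟶ ProjSpaceOver (n i) S),
        (∀ i, g i ≫ ProjSpaceOver.toBase (n i) S = t) → ∃ l : T ⟶ P, l ≫ p = t ∧ ∀ i, l ≫ pr i = g i
  | 0, n => by
    haveI := isIso_toBase_zero S
    refine ⟨ProjSpaceOver 0 S, ProjSpaceOver.toBase 0 S, fun i => i.elim0, 0, 𝟙 _, inferInstance,
      Category.id_comp _, fun i => i.elim0, fun T t g _ => ⟨t ≫ inv (ProjSpaceOver.toBase 0 S), ?_,
        fun i => i.elim0⟩⟩
    rw [Category.assoc, IsIso.inv_hom_id, Category.comp_id]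
  | k + 1, n => by
    obtain ⟨P', p', pr', N', φ', hφ', hφp', hpr', hlift'⟩ := exists_prod S k (fun i => n i.succ)
    obtain ⟨σ, hσ, hσb⟩ := Groth.Agent.Lib.T2H6.SegreC.segre_over S N' (n 0)
    let P := pullback p' (ProjSpaceOver.toBase (n 0) S)
    let p : P ⟶ S := pullback.fst _ _ ≫ p'
    let pr : ∀ i, P ⟶ ProjSpaceOver (n i) S :=
      Fin.cases (pullback.snd _ _) (fun i => pullback.fst _ _ ≫ pr' i)
    let μ : P ⟶ pullback (ProjSpaceOver.toBase N' S) (ProjSpaceOver.toBase (n 0) S) :=
      pullback.map p' (ProjSpaceOver.toBase (n 0) S) (ProjSpaceOver.toBase N' S)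
        (ProjSpaceOver.toBase (n 0) S) φ' (𝟙 _) (𝟙 _)
        ((Category.comp_id _).trans hφp'.symm) ((Category.comp_id _).trans (Category.id_comp _).symm)
    haveI : IsClosedImmersion μ :=
      MorphismProperty.pullbackMap (P := @IsClosedImmersion) hφ' (inferInstance : IsClosedImmersion (𝟙 _))
        hφp'.symm (Category.id_comp _).symm
    refine ⟨P, p, pr, N' * n 0 + N' + n 0, μ ≫ σ, inferInstance, ?_, ?_, ?_⟩
    · rw [Category.assoc, hσb, ← Category.assoc, pullback.lift_fst, Category.assoc, hφp']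
    · intro i
      refine Fin.cases ?_ (fun j => ?_) i
      · exact pullback.condition.symm
      · change (pullback.fst _ _ ≫ pr' j) ≫ _ = _
        rw [Category.assoc, hpr' j]
    · intro T t g hg
      obtain ⟨l', hl', hl'pr⟩ := hlift' T t (fun i => g i.succ) (fun i => hg i.succ)
      refine ⟨pullback.lift l' (g 0) (by rw [hl', hg 0]), ?_, fun i => ?_⟩
      · change pullback.lift l' (g 0) _ ≫ pullback.fst _ _ ≫ p' = t
        rw [pullback.lift_fst_assoc, hl']
      · refine Fin.cases ?_ (fun j => ?_) i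
        · exact pullback.lift_snd _ _ _
        · change pullback.lift l' (g 0) _ ≫ pullback.fst _ _ ≫ pr' j = _
          rw [pullback.lift_fst_assoc, hl'pr j]

end Groth.Agent.Lib.T2H6.ChowProd
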