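import Mathlib

/-!
# helper6 (team 2): Chow's lemma, topological part — a quasi-compact scheme with finitely many irreducible
components is covered by finitely many dense affine opens
-/

set_option autoImplicit false
set_option linter.unusedSectionVars false
universe u

open CategoryTheory CategoryTheory.Limits AlgebraicGeometry TopologicalSpace Opposite

namespace Groth.Agent.Lib.T2H6.ChowTop

variable {X : Scheme.{u}}

/-- through every point there is a dense affine open, if there are finitely many irreducible components. -/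
theorem exists_dense_affine_mem (hfin : (irreducibleComponents X).Finite) (x : X) :
    ∃ W : X.Opens, IsAffineOpen W ∧ x ∈ W ∧ Dense (W : Set X) := by
  classical
  obtain ⟨U₀, hU₀, hxU₀, -⟩ := exists_isAffineOpen_mem_and_subset (X := X) (x := x) (U := ⊤) trivial
  -- the components missing `U₀`
  let 𝒞 : Set (Set X) := irreducibleComponents X
  let 𝒞' : Set (Set X) := {Z | Z ∈ 𝒞 ∧ Disjoint Z (U₀ : Set X)}
  have h𝒞'fin : 𝒞'.Finite := hfin.subset (fun Z hZ => hZ.1)
  -- for `Z`, the union of the other components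
  let F : Set X → Set X := fun Z => ⋃₀ (𝒞 \ {Z})
  have hFclosed : ∀ Z, IsClosed (F Z) := fun Z =>
by
    change IsClosed (⋃₀ (𝒞 \ {Z}))
    rw [Set.sUnion_eq_biUnion]
    exact (hfin.subset Set.sdiff_subset).isClosed_biUnion
      (fun Z' hZ' => isClosed_of_mem_irreducibleComponents Z' hZ'.1)
  have hcover : ∀ y : X, ∃ Z ∈ 𝒞, y ∈ Z := fun y => by
    have : y ∈ ⋃₀ irreducibleComponents X := by rw [sUnion_irreducibleComponents]; trivial
    exact this
  have hFcompl_sub : ∀ Z, (F Z)ᶜ ⊆ Z := by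
    intro Z y hy
    obtain ⟨Z', hZ', hyZ'⟩ := hcover y
    by_cases h : Z' = Z
    · exact h ▸ hyZ'
    · exact (hy ⟨Z', ⟨hZ', h⟩, hyZ'⟩).elim
  have hFne : ∀ Z ∈ 𝒞, ((F Z)ᶜ).Nonempty := by
    intro Z hZ
    by_contra hemp
    rw [Set.not_nonempty_iff_eq_empty, Set.compl_empty_iff] at hemp
    have hsub : Z ⊆ ⋃₀ ((hfin.subset (Set.sdiff_subset (t := {Z}))).toFinset : Set (Set X)) := by
      rw [Set.Finite.coe_toFinset]
      intro y _
      have : y ∈ F Z := by rw [hemp]; trivial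
      exact this
    obtain ⟨Z', hZ', hZZ'⟩ := (isIrreducible_iff_sUnion_isClosed.1 hZ.1) _
      (fun z hz => by
        rw [Set.Finite.mem_toFinset] at hz
        exact isClosed_of_mem_irreducibleComponents z hz.1) hsub
    rw [Set.Finite.mem_toFinset] at hZ'
    have : Z' ≤ Z := hZ.2 hZ'.1.1 hZZ'
    exact hZ'.2 (le_antisymm this hZZ')
  have hU₀F : ∀ Z ∈ 𝒞', (U₀ : Set X) ⊆ F Z := by
    intro Z hZ y hy
    obtain ⟨Z', hZ', hyZ'⟩ := hcover y
    refine ⟨Z', ⟨hZ', ?_⟩, hyZ'⟩
    rintro rfl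
    exact Set.disjoint_left.1 hZ.2 hyZ' hy
  -- choose affine opens inside the complements
  have hV : ∀ Z : 𝒞', ∃ V : X.Opens, IsAffineOpen V ∧ (V : Set X) ⊆ (F Z.1)ᶜ ∧ (V : Set X).Nonempty := by
    intro Z
    obtain ⟨y, hy⟩ := hFne Z.1 Z.2.1
    obtain ⟨V, hV, hyV, hVle⟩ := exists_isAffineOpen_mem_and_subset (X := X) (x := y)
      (U := ⟨(F Z.1)ᶜ, (hFclosed Z.1).isOpen_compl⟩) hy
    exact ⟨V, hV, hVle, ⟨y, hyV⟩⟩
  choose V hVaff hVsub hVne using hV
  haveI : Finite 𝒞' := h𝒞'fin.to_subtype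
  let Wf : Option 𝒞' → X.Opens := fun i => i.elim U₀ V
  have hWaff : ∀ i, IsAffineOpen (Wf i) := by
    intro i
    cases i with
    | none => exact hU₀
    | some Z => exact hVaff Z
  have hUV : ∀ Z : 𝒞', Disjoint U₀ (V Z) := by
    intro Z
    rw [← Opens.coe_disjoint]
    exact Set.disjoint_left.2 (fun y hy hyV => hVsub Z hyV (hU₀F Z.1 Z.2 hy))
  have hVV : ∀ Z Z' : 𝒞', Z ≠ Z' → Disjoint (V Z) (V Z') := by
    intro Z Z' hne
    rw [← Opens.coe_disjoint]
    refine Set.disjoint_left.2 (fun y hy hy' => ?_)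
    have h1 : y ∈ Z.1 := hFcompl_sub Z.1 (hVsub Z hy)
    exact hVsub Z' hy' ⟨Z.1, ⟨Z.2.1, fun h => hne (Subtype.ext h)⟩, h1⟩
  have hdisj : Pairwise (Function.onFun Disjoint Wf) := by
    intro i j hij
    cases i with
    | none =>
      cases j with
      | none => exact (hij rfl).elim
      | some Z' => exact hUV Z'
    | some Z =>
      cases j with
      | none => exact (hUV Z).symm
      | some Z' => exact hVV Z Z' (fun h => hij (by rw [h]))
  refine ⟨iSup Wf, IsAffineOpen.iSup_of_disjoint hWaff hdisj, ?_, ?_⟩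
  · exact Opens.mem_iSup.2 ⟨none, hxU₀⟩
  · rw [dense_iff_closure_eq, Set.eq_univ_iff_forall]
    intro y
    obtain ⟨Z, hZ, hyZ⟩ := hcover y
    -- `iSup Wf ∩ Z` is a nonempty open of `Z`
    have hne : (Z ∩ ((iSup Wf : X.Opens) : Set X)).Nonempty := by
      by_cases hd : Disjoint Z (U₀ : Set X)
      · obtain ⟨z, hz⟩ := hVne ⟨Z, hZ, hd⟩
        exact ⟨z, hFcompl_sub Z (hVsub ⟨Z, hZ, hd⟩ hz), Opens.mem_iSup.2 ⟨some ⟨Z, hZ, hd⟩, hz⟩⟩
      · obtain ⟨z, hz1, hz2⟩ := Set.not_disjoint_iff.1 hd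
        exact ⟨z, hz1, Opens.mem_iSup.2 ⟨none, hz2⟩⟩
    have := subset_closure_inter_of_isPreirreducible_of_isOpen hZ.1.isPreirreducible
      (iSup Wf).isOpen hne hyZ
    exact closure_mono Set.inter_subset_right this

/-- a quasi-compact scheme with finitely many irreducible components is covered by finitely many dense affine
opens. -/
theorem exists_finite_dense_affine_cover [CompactSpace X] (hfin : (irreducibleComponents X).Finite) :
    ∃ (n : ℕ) (U : Fin n → X.Opens), (⨆ i, U i) = ⊤ ∧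
      ∀ i, IsAffineOpen (U i) ∧ Dense ((U i : X.Opens) : Set X) := by
  classical
  choose W hWaff hxW hWd using exists_dense_affine_mem hfin
  obtain ⟨T, hT⟩ := isCompact_univ.elim_finite_subcover (fun x => ((W x : X.Opens) : Set X))
    (fun x => (W x).2) (fun x _ => Set.mem_iUnion.2 ⟨x, hxW x⟩)
  let e := T.equivFin
  refine ⟨T.card, fun i => W (e.symm i).1, ?_, fun i => ⟨hWaff _, hWd _⟩⟩
  rw [eq_top_iff]
  intro y _
  obtain ⟨x, hx⟩ := Set.mem_iUnion.1 (hT (Set.mem_univ y))
  obtain ⟨hxT, hy⟩ := Set.mem_iUnion.1 hx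
  refine Opens.mem_iSup.2 ⟨e ⟨x, hxT⟩, ?_⟩
  change y ∈ W (e.symm (e ⟨x, hxT⟩)).1
  rw [Equiv.symm_apply_apply]
  exact hy

/-- a finite intersection of dense opens is dense. -/
theorem dense_iInf_of_dense {ι : Type*} [Finite ι] (U : ι → X.Opens)
    (h : ∀ i, Dense ((U i : X.Opens) : Set X)) :
    Dense (((⨅ i, U i : X.Opens)) : Set X) := by
  classical
  rw [Opens.coe_iInf]
  haveI := Fintype.ofFinite ι
  have key : ∀ s : Finset ι, Dense (⋂ i ∈ s, ((U i : X.Opens) : Set X)) ∧
      IsOpen (⋂ i ∈ s, ((U i : X.Opens) : Set X)) := by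
    intro s
    induction s using Finset.induction_on with
    | empty => simp
    | insert a s ha ih =>
      rw [Finset.set_biInter_insert]
      exact ⟨(h a).inter_of_isOpen_left ih.1 (U a).2, (U a).2.inter ih.2⟩
  have := (key Finset.univ).1
  simpa using this

end Groth.Agent.Lib.T2H6.ChowTop
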