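import Groth.Agent.Lib.T2H6VAmpleF
import Groth.Agent.S2331
import Groth.Agent.S2332
import Groth.Agent.S4381

/-!
# helper6 (team 2): schemes over a base with an ample module — immersions into `P^n_S` versus ample modules
-/

set_option autoImplicit false
set_option linter.unusedSectionVars false
universe u

open CategoryTheory CategoryTheory.Limits AlgebraicGeometry TopologicalSpace Opposite

namespace Groth.Agent.Lib.T2H6.VAmpleG

variable {X S : Scheme.{u}}

/-- `O(1)` on `P^n_S` is ample relative to the projection to `S`. -/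
theorem isRelAmple_twistOver (n : ℕ) (S : Scheme.{u}) :
    RelAmple.IsRelAmple (pullback.snd (CohB1.ProjSpace.toSpec n (ULift.{u} ℤ)) (specULiftZIsTerminal.from S))
      (Twist.twistOver n S 1) := by
  have h1 : CohB1.IsAmple (Twist.twistProjSpace n (ULift.{u} ℤ) 1) := by
    have := Groth.Agent.Lib.T2H5.AmplePn.isAmple_twist_of_pos n (ULift.{u} ℤ) 1 Nat.one_pos
    simpa using this
  haveI : CompactSpace (CohB1.ProjSpace n (ULift.{u} ℤ)) := h1.2.1
  haveI : QuasiCompact (CohB1.ProjSpace.toSpec n (ULift.{u} ℤ)) :=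
    (HasAffineProperty.iff_of_isAffine (P := @QuasiCompact)).mpr inferInstance
  have h2 : RelAmple.IsRelAmple (CohB1.ProjSpace.toSpec n (ULift.{u} ℤ))
      (Twist.twistProjSpace n (ULift.{u} ℤ) 1) :=
    (Groth.Agent.S4381.result _ _).mpr h1
  exact Groth.Agent.S2332.result _ (specULiftZIsTerminal.from S) _ h2

/-- over a base with an ample module: a relatively ample module twisted by a high power of the pullback of the ample
module of the base is ample. -/
theorem exists_isAmple_of_isRelAmple (N : S.Modules) (hN : CohB1.IsAmple N) (f : X ⟶ S) [QuasiCompact f]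
    (L : X.Modules) (hL : RelAmple.IsRelAmple f L) :
    ∃ k : ℕ, CohB1.IsAmple
      (CohB1.tensorMod L ((Scheme.Modules.pullback f).obj (CohB1.tensorPow N k))) := by
  haveI : CompactSpace S := hN.2.1
  haveI : QuasiCompact (specULiftZIsTerminal.from S) := (HasAffineProperty.iff_of_isAffine (P := @QuasiCompact)).mpr inferInstance
  have hN' : RelAmple.IsRelAmple (specULiftZIsTerminal.from S) N :=
    (Groth.Agent.S4381.result _ _).mpr hN
  obtain ⟨n₀, -, h⟩ := Groth.Agent.S2331.result f (specULiftZIsTerminal.from S) L N hL hN'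
  exact ⟨n₀, (Groth.Agent.S4381.result _ _).mp (h n₀ le_rfl)⟩

/-- an ample module is relatively ample for any quasi-compact morphism. -/
theorem isRelAmple_of_isAmple (f : X ⟶ S) [QuasiCompact f] (L : X.Modules) (hL : CohB1.IsAmple L) :
    RelAmple.IsRelAmple f L := by
  refine ⟨inferInstance, fun V => ?_⟩
  refine Groth.Agent.Lib.Helper23.SecTw.isAmple_restrict L hL _ ?_
  exact QuasiCompact.isCompact_preimage (f := f) _ V.1.isOpen V.2.isCompact

/-- a scheme with a quasi-compact immersion into `P^n_S`, where `S` has an ample module, has an ample module. -/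
theorem exists_isAmple_of_immersion (N : S.Modules) (hN : CohB1.IsAmple N) (n : ℕ)
    (i : X ⟶ CohB1.ProjSpaceOver n S) [IsImmersion i] [QuasiCompact i] :
    ∃ L : X.Modules, CohB1.IsAmple L := by
  haveI : QuasiCompact (pullback.snd (CohB1.ProjSpace.toSpec n (ULift.{u} ℤ))
      (specULiftZIsTerminal.from S)) := (isRelAmple_twistOver n S).1
  obtain ⟨k, hk⟩ := exists_isAmple_of_isRelAmple N hN _ _ (isRelAmple_twistOver n S)
  haveI : CompactSpace (CohB1.ProjSpaceOver n S) := hk.2.1
  haveI : CompactSpace X := by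
    have h1 : IsCompact (i ⁻¹' (Set.univ : Set (CohB1.ProjSpaceOver n S))) :=
      QuasiCompact.isCompact_preimage (f := i) _ isOpen_univ isCompact_univ
    rw [Set.preimage_univ] at h1
    exact isCompact_univ_iff.1 h1
  exact ⟨_, Groth.Agent.Lib.Helper23.PB.isAmple_pullback_of_isEmbedding i
    (Scheme.Hom.isEmbedding i) _ hk⟩

/-- a scheme locally of finite type over `S` with an ample module admits an immersion into some `P^n_S`. -/
theorem exists_immersion_of_isAmple (f : X ⟶ S) [LocallyOfFiniteType f] (L : X.Modules)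
    (hL : CohB1.IsAmple L) :
    ∃ (n : ℕ) (i : X ⟶ CohB1.ProjSpaceOver n S), IsImmersion i ∧
      i ≫ pullback.snd (CohB1.ProjSpace.toSpec n (ULift.{u} ℤ)) (specULiftZIsTerminal.from S) = f := by
  obtain ⟨n₀, h⟩ := Groth.Agent.Lib.T2H6.VAmpleE.eventually_veryAmple_pow f L hL
  obtain ⟨n, i, hi, hf, -⟩ := h n₀ le_rfl
  exact ⟨n, i, hi, hf⟩

end Groth.Agent.Lib.T2H6.VAmpleG
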