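import Groth.Agent.Lib.T2H6ChowCore
import Groth.Agent.Lib.T2H6ChowTop
import Groth.Agent.Lib.T2H6ChowProd
import Groth.Agent.Lib.T2H6VAmpleG
import Groth.Agent.S9705

/-!
# helper6 (team 2): Chow's lemma (immersion into `P^n_S` form)
-/

set_option autoImplicit false
set_option linter.unusedSectionVars false
universe u

open CategoryTheory CategoryTheory.Limits AlgebraicGeometry TopologicalSpace Opposite

namespace Groth.Agent.Lib.T2H6.Chow

/-- a finite intersection of quasi-compact opens in a quasi-compact quasi-separated space is quasi-compact. -/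
theorem isCompact_iInf {X : Scheme.{u}} [CompactSpace X] [QuasiSeparatedSpace X] {ι : Type*} [Finite ι]
    (U : ι → X.Opens) (h : ∀ i, IsCompact ((U i : X.Opens) : Set X)) :
    IsCompact (((⨅ i, U i : X.Opens)) : Set X) := by
  classical
  rw [Opens.coe_iInf]
  haveI := Fintype.ofFinite ι
  have key : ∀ s : Finset ι, IsCompact (⋂ i ∈ s, ((U i : X.Opens) : Set X)) ∧
      IsOpen (⋂ i ∈ s, ((U i : X.Opens) : Set X)) := by
    intro s
    induction s using Finset.induction_on with
    | empty => simpa using isCompact_univ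
    | insert a s ha ih =>
      rw [Finset.set_biInter_insert]
      exact ⟨QuasiSeparatedSpace.inter_isCompact _ _ (U a).2 (h a) ih.2 ih.1, (U a).2.inter ih.2⟩
  have := (key Finset.univ).1
  simpa using this

/-- **Chow's lemma**: over a quasi-compact quasi-separated base, a separated scheme of finite type with finitely
many irreducible components is dominated by a scheme `X'` immersed in some `P^n_S`, via a proper surjective morphism
which is an isomorphism over a dense open. -/
theorem chow {X S : Scheme.{u}} (f : X ⟶ S) [CompactSpace S] [QuasiSeparatedSpace S]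
    [IsSeparated f] [LocallyOfFiniteType f] [QuasiCompact f]
    (hirr : (irreducibleComponents X).Finite) :
    ∃ (n : ℕ) (X' : Scheme.{u}) (π : X' ⟶ X) (j : X' ⟶ CohB1.ProjSpaceOver n S),
      IsImmersion j ∧ j ≫ CohB1.ProjSpaceOver.toBase n S = π ≫ f ∧ IsProper π ∧ Surjective π ∧
      ∃ U : X.Opens, Dense (U : Set X) ∧ IsIso (π ∣_ U) := by
  haveI : CompactSpace X := QuasiCompact.compactSpace_of_compactSpace f
  haveI : QuasiSeparatedSpace X := quasiSeparatedSpace_of_quasiSeparated f
  obtain ⟨k, Uo, hcov, hUo⟩ := Groth.Agent.Lib.T2H6.ChowTop.exists_finite_dense_affine_cover hirr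
  -- the dense open `U`
  let U : X.Opens := ⨅ i, Uo i
  have hUd : Dense (U : Set X) := Groth.Agent.Lib.T2H6.ChowTop.dense_iInf_of_dense Uo (fun i => (hUo i).2)
  have hU : ∀ i, U ≤ Uo i := fun i => iInf_le Uo i
  have hUc : IsCompact (U : Set X) := isCompact_iInf Uo (fun i => (hUo i).1.isCompact)
  haveI : CompactSpace (U : Scheme.{u}) := isCompact_iff_compactSpace.1 hUc
  haveI : QuasiCompact U.ι := inferInstance
  -- the immersions of the `Uo i`
  have himm : ∀ i, ∃ (n : ℕ) (j : ((Uo i : X.Opens) : Scheme.{u}) ⟶ CohB1.ProjSpaceOver n S), IsImmersion j ∧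
      j ≫ CohB1.ProjSpaceOver.toBase n S = (Uo i).ι ≫ f := by
    intro i
    haveI : IsAffine ((Uo i : X.Opens) : Scheme.{u}) := (hUo i).1
    exact Groth.Agent.Lib.T2H6.VAmpleG.exists_immersion_of_isAmple ((Uo i).ι ≫ f) (Coh.structureModule _)
      ((Groth.Agent.Lib.Helper23.AmpleIso.isQuasiAffine_iff_isAmple_structureModule _).1 inferInstance)
  choose n j hjimm hjcomp using himm
  haveI : ∀ i, IsImmersion (j i) := hjimm
  obtain ⟨P, p, pr, N, φ, hφ, hφp, hpr, hlift⟩ := Groth.Agent.Lib.T2H6.ChowProd.exists_prod S k n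
  obtain ⟨jU, hjUp, hjU⟩ := hlift (U : Scheme.{u}) (U.ι ≫ f) (fun i => X.homOfLE (hU i) ≫ j i)
    (fun i => by rw [Category.assoc, hjcomp i, Scheme.homOfLE_ι_assoc])
  haveI : ∀ i, IsSeparated (CohB1.ProjSpaceOver.toBase (n i) S) := fun i => by
    have := Groth.Agent.S9705.isProper_toBase (n i) S
    infer_instance
  haveI : IsProper p := by
    have := Groth.Agent.S9705.isProper_toBase N S
    rw [← hφp]
    infer_instance
  obtain ⟨X', π, ψ, hψ, hψp, hπ, hπs, hπi⟩ := Groth.Agent.Lib.T2H6.ChowCore.core f p Uo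
    (fun x => by
      have : x ∈ (⨆ i, Uo i : X.Opens) := by rw [hcov]; trivial
      exact Opens.mem_iSup.1 this)
    U hU hUd (fun i => CohB1.ProjSpaceOver (n i) S) (fun i => CohB1.ProjSpaceOver.toBase (n i) S)
    pr hpr (fun i => (j i).coborderRange) (fun i => (j i).liftCoborder)
    (fun i => by rw [Scheme.Hom.liftCoborder_ι, hjcomp i])
    jU hjUp (fun i => by rw [Scheme.Hom.liftCoborder_ι, hjU i])
  refine ⟨N, X', π, ψ ≫ φ, inferInstance, ?_, hπ, hπs, U, hUd, hπi⟩
  rw [Category.assoc, hφp, hψp]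

end Groth.Agent.Lib.T2H6.Chow
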