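import Mathlib
import Groth.Agent.Lib.Helper13ProjUPa
import Groth.Agent.Lib.Helper13SymGr
import Groth.Prelude.Def_CohB1

set_option autoImplicit false
universe u
open CategoryTheory CategoryTheory.Limits AlgebraicGeometry TopologicalSpace Opposite

namespace Groth.Agent.Lib.T2H6.Segre

open Groth.Agent.Helper13ProjUP Groth.Agent.Helper13Dehom Groth.Agent.Helper13AffMor

section Charts

variable {R A : Type u} [CommRing R] [CommRing A] [Algebra R A] (𝒜 : ℕ → Submodule R A)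
  [GradedAlgebra 𝒜]

/-- restriction of functions -/
noncomputable abbrev rs {X : Scheme.{u}} {U V : X.Opens} (h : V ≤ U) : Γ(X, U) →+* Γ(X, V) :=
  (X.presheaf.map (homOfLE h).op).hom

/-- a morphism into `Proj 𝒜` from compatible chart data. -/
theorem exists_mor_of_charts {κ : Type*} (ι : κ → A) (hι : ∀ k, ι k ∈ 𝒜 1)
    {X : Scheme.{u}} (V : κ → X.Opens) (hcov : ∀ x : X, ∃ k, x ∈ V k)
    (ψ : ∀ k, A →+* Γ(X, V k)) (h1 : ∀ k, ψ k (ι k) = 1)
    (hsc : ∀ (k k' : κ) (d : ℕ) (a : A), a ∈ 𝒜 d →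
      rs (inf_le_right : V k ⊓ V k' ≤ V k') (ψ k' a) =
        rs (inf_le_right : V k ⊓ V k' ≤ V k') (ψ k' (ι k)) ^ d *
          rs (inf_le_left : V k ⊓ V k' ≤ V k) (ψ k a)) :
    ∃ r : X ⟶ Proj 𝒜, ∀ k, ∃ hle : V k ≤ r ⁻¹ᵁ Proj.basicOpen 𝒜 (ι k),
      ∀ a, (r.appLE (Proj.basicOpen 𝒜 (ι k)) (V k) hle).hom (dehom (hι k) a) = ψ k a := by
  have hφ : ∀ k, ∃ φ : Γ(Proj 𝒜, Proj.basicOpen 𝒜 (ι k)) →+* Γ(X, V k),
      ∀ a, φ (dehom (hι k) a) = ψ k a := fun k => exists_dehomLift (hι k) (ψ k) (h1 k)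
  choose φ hφ using hφ
  let rm : ∀ k, (V k : Scheme.{u}) ⟶ Proj 𝒜 :=
    fun k => toAff (isAffineOpen_basicOpen (hι k)) (CommRingCat.ofHom (φ k))
  obtain ⟨r, hr⟩ := glue_opens V hcov rm (by
    intro k k'
    change X.homOfLE _ ≫ toAff _ _ = X.homOfLE _ ≫ toAff _ _
    rw [toAff_homOfLE, toAff_homOfLE]
    refine toAff_eq_toAff (hι k) (hι k') _ _
      (rs (inf_le_left : V k ⊓ V k' ≤ V k) (ψ k (ι k')))
      (rs (inf_le_right : V k ⊓ V k' ≤ V k') (ψ k' (ι k))) ?_ ?_ ?_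
    · have := hsc k k' 1 (ι k') (hι k')
      rw [h1, map_one, pow_one] at this
      rw [mul_comm]
      exact this.symm
    · change rs _ (φ k (dehom (hι k) (ι k'))) = _
      rw [hφ]
    · intro d a ha
      change rs _ (φ k' (dehom (hι k') a)) = _ * rs _ (φ k (dehom (hι k) a))
      rw [hφ, hφ]
      exact hsc k k' d a ha)
  refine ⟨r, fun k => ?_⟩
  have hle : V k ≤ r ⁻¹ᵁ Proj.basicOpen 𝒜 (ι k) :=
    le_preimage_of_ι_comp_eq (isAffineOpen_basicOpen (hι k)) r _ (hr k)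
  refine ⟨hle, fun a => ?_⟩
  have h2 : r.appLE (Proj.basicOpen 𝒜 (ι k)) (V k) hle = CommRingCat.ofHom (φ k) :=
    appLE_of_ι_comp_eq (isAffineOpen_basicOpen (hι k)) r _ (hr k)
  rw [h2]
  exact hφ k a

end Charts

section PB

variable {X Y : Scheme.{u}} (f : X ⟶ Y)

/-- pullback of functions along `f` to an open inside the preimage. -/
noncomputable abbrev pb (U : Y.Opens) (O : X.Opens) (h : O ≤ f ⁻¹ᵁ U) : Γ(Y, U) →+* Γ(X, O) :=
  (f.appLE U O h).hom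

theorem rs_pb {U : Y.Opens} {O O' : X.Opens} (h : O ≤ f ⁻¹ᵁ U) (hO : O' ≤ O) (s : Γ(Y, U)) :
    rs hO (pb f U O h s) = pb f U O' (hO.trans h) s := by
  have := f.appLE_map h (homOfLE hO).op
  exact congrArg (fun φ => φ.hom s) this

theorem pb_rs {U U' : Y.Opens} {O : X.Opens} (h : O ≤ f ⁻¹ᵁ U') (hU : U' ≤ U) (s : Γ(Y, U)) :
    pb f U' O h (rs hU s) = pb f U O (h.trans (f.preimage_mono hU)) s := by
  have := f.map_appLE h (homOfLE hU).op
  exact congrArg (fun φ => φ.hom s) this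

end PB

section Data

variable (R : Type u) [CommRing R] (n m : ℕ)

open MvPolynomial

theorem hX (n : ℕ) (i : Fin (n + 1)) :
    (X i : MvPolynomial (Fin (n + 1)) R) ∈ CohB1.polyGrading n R 1 :=
  (MvPolynomial.mem_homogeneousSubmodule _ _).2 (MvPolynomial.isHomogeneous_X R i)

theorem hC (n : ℕ) (c : R) :
    (C c : MvPolynomial (Fin (n + 1)) R) ∈ CohB1.polyGrading n R 0 :=
  (MvPolynomial.mem_homogeneousSubmodule _ _).2 (MvPolynomial.isHomogeneous_C _ c)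

/-- the chart `D₊(X i)` of `P^n_R`. -/
noncomputable abbrev D (n : ℕ) (i : Fin (n + 1)) : (Proj (CohB1.polyGrading n R)).Opens :=
  Proj.basicOpen (CohB1.polyGrading n R) (X i)

/-- the product `P^n_R ×_R P^m_R`. -/
noncomputable abbrev PP : Scheme.{u} :=
  pullback (CohB1.ProjSpace.toSpec n R) (CohB1.ProjSpace.toSpec m R)

noncomputable abbrev p₁ : PP R n m ⟶ Proj (CohB1.polyGrading n R) :=
  pullback.fst (CohB1.ProjSpace.toSpec n R) (CohB1.ProjSpace.toSpec m R)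

noncomputable abbrev p₂ : PP R n m ⟶ Proj (CohB1.polyGrading m R) :=
  pullback.snd (CohB1.ProjSpace.toSpec n R) (CohB1.ProjSpace.toSpec m R)

/-- the chart `U_{ij}` of the product. -/
noncomputable def W (κ : Fin (n + 1) × Fin (m + 1)) : (PP R n m).Opens :=
  p₁ R n m ⁻¹ᵁ D R n κ.1 ⊓ p₂ R n m ⁻¹ᵁ D R m κ.2

theorem W_le₁ (κ : Fin (n + 1) × Fin (m + 1)) : W R n m κ ≤ p₁ R n m ⁻¹ᵁ D R n κ.1 := inf_le_left
theorem W_le₂ (κ : Fin (n + 1) × Fin (m + 1)) : W R n m κ ≤ p₂ R n m ⁻¹ᵁ D R m κ.2 := inf_le_right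

/-- `x_k / x_i` pulled back to `U_{ij}`. -/
noncomputable def xr (κ : Fin (n + 1) × Fin (m + 1)) :
    MvPolynomial (Fin (n + 1)) R →+* Γ(PP R n m, W R n m κ) :=
  (pb (p₁ R n m) (D R n κ.1) (W R n m κ) (W_le₁ R n m κ)).comp (dehom (hX R n κ.1))

/-- `y_l / y_j` pulled back to `U_{ij}`. -/
noncomputable def yr (κ : Fin (n + 1) × Fin (m + 1)) :
    MvPolynomial (Fin (m + 1)) R →+* Γ(PP R n m, W R n m κ) :=
  (pb (p₂ R n m) (D R m κ.2) (W R n m κ) (W_le₂ R n m κ)).comp (dehom (hX R m κ.2))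

variable {N : ℕ} (e : Fin (n + 1) × Fin (m + 1) ≃ Fin (N + 1))

/-- the chart ring maps of the Segre morphism. -/
noncomputable def ψ (κ : Fin (n + 1) × Fin (m + 1)) :
    MvPolynomial (Fin (N + 1)) R →+* Γ(PP R n m, W R n m κ) :=
  MvPolynomial.eval₂Hom ((xr R n m κ).comp MvPolynomial.C)
    (fun t => xr R n m κ (X (e.symm t).1) * yr R n m κ (X (e.symm t).2))

theorem ψ_C (κ : Fin (n + 1) × Fin (m + 1)) (c : R) :
    ψ R n m e κ (C c) = xr R n m κ (C c) := by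
  unfold ψ
  rw [MvPolynomial.coe_eval₂Hom, MvPolynomial.eval₂_C]
  rfl

theorem ψ_X (κ : Fin (n + 1) × Fin (m + 1)) (t : Fin (N + 1)) :
    ψ R n m e κ (X t) = xr R n m κ (X (e.symm t).1) * yr R n m κ (X (e.symm t).2) := by
  unfold ψ
  rw [MvPolynomial.coe_eval₂Hom, MvPolynomial.eval₂_X]

theorem ψ_X' (κ κ' : Fin (n + 1) × Fin (m + 1)) :
    ψ R n m e κ (X (e κ')) = xr R n m κ (X κ'.1) * yr R n m κ (X κ'.2) := by
  rw [ψ_X, Equiv.symm_apply_apply]

theorem xr_self (κ : Fin (n + 1) × Fin (m + 1)) : xr R n m κ (X κ.1) = 1 := by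
  unfold xr
  rw [RingHom.comp_apply, dehom_self, map_one]

theorem yr_self (κ : Fin (n + 1) × Fin (m + 1)) : yr R n m κ (X κ.2) = 1 := by
  unfold yr
  rw [RingHom.comp_apply, dehom_self, map_one]

theorem ψ_self (κ : Fin (n + 1) × Fin (m + 1)) : ψ R n m e κ (X (e κ)) = 1 := by
  rw [ψ_X', xr_self, yr_self, one_mul]

end Data

section Overlap

variable (R : Type u) [CommRing R] (n m : ℕ)

open MvPolynomial

theorem xr_overlap (κ κ' : Fin (n + 1) × Fin (m + 1)) {d : ℕ} {a : MvPolynomial (Fin (n + 1)) R}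
    (ha : a ∈ CohB1.polyGrading n R d) :
    rs (inf_le_right : W R n m κ ⊓ W R n m κ' ≤ W R n m κ') (xr R n m κ' a) =
      rs (inf_le_right : W R n m κ ⊓ W R n m κ' ≤ W R n m κ') (xr R n m κ' (X κ.1)) ^ d *
        rs (inf_le_left : W R n m κ ⊓ W R n m κ' ≤ W R n m κ) (xr R n m κ a) := by
  have hDf : D R n κ.1 ⊓ D R n κ'.1 ≤ D R n κ.1 := inf_le_left
  have hDg : D R n κ.1 ⊓ D R n κ'.1 ≤ D R n κ'.1 := inf_le_right
  have hO : W R n m κ ⊓ W R n m κ' ≤ p₁ R n m ⁻¹ᵁ (D R n κ.1 ⊓ D R n κ'.1) := by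
    intro x hx
    exact ⟨hx.1.1, hx.2.1⟩
  have key := dehom_overlap (hX R n κ.1) (hX R n κ'.1) ha hDf hDg
  have e1 : ∀ b, rs (inf_le_right : W R n m κ ⊓ W R n m κ' ≤ W R n m κ') (xr R n m κ' b) =
      pb (p₁ R n m) _ _ hO (resO hDg (dehom (hX R n κ'.1) b)) := by
    intro b
    unfold xr
    rw [RingHom.comp_apply, rs_pb]
    exact (pb_rs (p₁ R n m) hO hDg _).symm
  have e2 : ∀ b, rs (inf_le_left : W R n m κ ⊓ W R n m κ' ≤ W R n m κ) (xr R n m κ b) =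
      pb (p₁ R n m) _ _ hO (resO hDf (dehom (hX R n κ.1) b)) := by
    intro b
    unfold xr
    rw [RingHom.comp_apply, rs_pb]
    exact (pb_rs (p₁ R n m) hO hDf _).symm
  rw [e1, e1, e2, key, map_mul, map_pow]

theorem yr_overlap (κ κ' : Fin (n + 1) × Fin (m + 1)) {d : ℕ} {a : MvPolynomial (Fin (m + 1)) R}
    (ha : a ∈ CohB1.polyGrading m R d) :
    rs (inf_le_right : W R n m κ ⊓ W R n m κ' ≤ W R n m κ') (yr R n m κ' a) =
      rs (inf_le_right : W R n m κ ⊓ W R n m κ' ≤ W R n m κ') (yr R n m κ' (X κ.2)) ^ d *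
        rs (inf_le_left : W R n m κ ⊓ W R n m κ' ≤ W R n m κ) (yr R n m κ a) := by
  have hDf : D R m κ.2 ⊓ D R m κ'.2 ≤ D R m κ.2 := inf_le_left
  have hDg : D R m κ.2 ⊓ D R m κ'.2 ≤ D R m κ'.2 := inf_le_right
  have hO : W R n m κ ⊓ W R n m κ' ≤ p₂ R n m ⁻¹ᵁ (D R m κ.2 ⊓ D R m κ'.2) := by
    intro x hx
    exact ⟨hx.1.2, hx.2.2⟩
  have key := dehom_overlap (hX R m κ.2) (hX R m κ'.2) ha hDf hDg
  have e1 : ∀ b, rs (inf_le_right : W R n m κ ⊓ W R n m κ' ≤ W R n m κ') (yr R n m κ' b) =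
      pb (p₂ R n m) _ _ hO (resO hDg (dehom (hX R m κ'.2) b)) := by
    intro b
    unfold yr
    rw [RingHom.comp_apply, rs_pb]
    exact (pb_rs (p₂ R n m) hO hDg _).symm
  have e2 : ∀ b, rs (inf_le_left : W R n m κ ⊓ W R n m κ' ≤ W R n m κ) (yr R n m κ b) =
      pb (p₂ R n m) _ _ hO (resO hDf (dehom (hX R m κ.2) b)) := by
    intro b
    unfold yr
    rw [RingHom.comp_apply, rs_pb]
    exact (pb_rs (p₂ R n m) hO hDf _).symm
  rw [e1, e1, e2, key, map_mul, map_pow]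

variable {N : ℕ} (e : Fin (n + 1) × Fin (m + 1) ≃ Fin (N + 1))

open Groth.Agent.Helper13SymGr in
theorem ψ_overlap (κ κ' : Fin (n + 1) × Fin (m + 1)) (d : ℕ) (a : MvPolynomial (Fin (N + 1)) R)
    (ha : a ∈ CohB1.polyGrading N R d) :
    rs (inf_le_right : W R n m κ ⊓ W R n m κ' ≤ W R n m κ') (ψ R n m e κ' a) =
      rs (inf_le_right : W R n m κ ⊓ W R n m κ' ≤ W R n m κ') (ψ R n m e κ' (X (e κ))) ^ d *
        rs (inf_le_left : W R n m κ ⊓ W R n m κ' ≤ W R n m κ) (ψ R n m e κ a) := by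
  set v := rs (inf_le_right : W R n m κ ⊓ W R n m κ' ≤ W R n m κ') (ψ R n m e κ' (X (e κ))) with hv
  have hv' : v = rs (inf_le_right : W R n m κ ⊓ W R n m κ' ≤ W R n m κ') (xr R n m κ' (X κ.1)) *
      rs (inf_le_right : W R n m κ ⊓ W R n m κ' ≤ W R n m κ') (yr R n m κ' (X κ.2)) := by
    rw [hv, ψ_X', map_mul]
  have hhom : (rs (inf_le_right : W R n m κ ⊓ W R n m κ' ≤ W R n m κ')).comp (ψ R n m e κ') =
      scaleHom (CohB1.polyGrading N R)
        ((rs (inf_le_left : W R n m κ ⊓ W R n m κ' ≤ W R n m κ)).comp (ψ R n m e κ)) v := by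
    apply MvPolynomial.ringHom_ext
    · intro c
      rw [scaleHom_of_mem _ _ _ (hC R N c), pow_zero, one_mul, RingHom.comp_apply, RingHom.comp_apply,
        ψ_C, ψ_C]
      have := xr_overlap R n m κ κ' (hC R n c)
      rw [pow_zero, one_mul] at this
      exact this
    · intro t
      rw [scaleHom_of_mem _ _ _ (hX R N t), pow_one, RingHom.comp_apply, RingHom.comp_apply,
        ψ_X, ψ_X, map_mul, map_mul, hv']
      have h1 := xr_overlap R n m κ κ' (hX R n (e.symm t).1)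
      have h2 := yr_overlap R n m κ κ' (hX R m (e.symm t).2)
      rw [pow_one] at h1 h2
      rw [h1, h2]
      ring
  have := congrArg (fun φ => φ a) hhom
  simp only [RingHom.comp_apply] at this
  rw [this, scaleHom_of_mem _ _ _ ha]
  rfl

end Overlap

end Groth.Agent.Lib.T2H6.Segre
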