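import Mathlib
import Groth.Agent.Lib.T2H6Segre

set_option autoImplicit false
universe u
open CategoryTheory CategoryTheory.Limits AlgebraicGeometry TopologicalSpace Opposite

namespace Groth.Agent.Lib.T2H6.SegreB

open Groth.Agent.Lib.T2H6.Segre

theorem hom_ext_opens {X Z : Scheme.{u}} {κ : Type*} (V : κ → X.Opens) (hV : ∀ x : X, ∃ i, x ∈ V i)
    (a b : X ⟶ Z) (h : ∀ i, (V i).ι ≫ a = (V i).ι ≫ b) : a = b := by
  have hcov : IsOpenCover V := by
    rw [IsOpenCover, eq_top_iff]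
    intro x _
    obtain ⟨i, hi⟩ := hV x
    exact Opens.mem_iSup.2 ⟨i, hi⟩
  exact (X.openCoverOfIsOpenCover V hcov).hom_ext _ _ h

theorem isClosedImmersion_of_cover {X Y : Scheme.{u}} (f : X ⟶ Y) {ι : Type*} (U : ι → Y.Opens)
    (hU : ∀ y : Y, ∃ i, y ∈ U i) (hUa : ∀ i, IsAffineOpen (U i))
    (hfa : ∀ i, IsAffineOpen (f ⁻¹ᵁ U i)) (hs : ∀ i, Function.Surjective (f.app (U i)).hom) :
    IsClosedImmersion f := by
  have hsup : ⨆ i, (((⟨U i, hUa i⟩ : Y.affineOpens) : Y.Opens)) = ⊤ := by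
    rw [eq_top_iff]
    intro y _
    obtain ⟨i, hi⟩ := hU y
    exact Opens.mem_iSup.2 ⟨i, hi⟩
  rw [HasAffineProperty.iff_of_iSup_eq_top (P := @IsClosedImmersion)
    (fun i => (⟨U i, hUa i⟩ : Y.affineOpens)) hsup]
  intro i
  refine ⟨hfa i, ?_⟩
  rw [morphismRestrict_appTop]
  have key : ∀ V : Y.Opens, V = U i → Function.Surjective (f.app V).hom := by
    rintro V rfl; exact hs i
  have h1 := key _ (U i).ι_image_top
  have h2 : Function.Bijective
      (X.presheaf.map (eqToHom (image_morphismRestrict_preimage f (U i) ⊤)).op).hom :=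
    ConcreteCategory.bijective_of_isIso _
  exact h2.2.comp h1

section Push

/-- the vertex of a pushout of commutative rings is generated by the two images. -/
theorem pushout_gen {A B C D : CommRingCat.{u}} {a : A ⟶ B} {b : A ⟶ C} {inl : B ⟶ D} {inr : C ⟶ D}
    (h : IsPushout a b inl inr) (T : Subring D) (h1 : ∀ x, inl.hom x ∈ T) (h2 : ∀ y, inr.hom y ∈ T) :
    T = ⊤ := by
  let i : CommRingCat.of T ⟶ D := CommRingCat.ofHom T.subtype
  let l : B ⟶ CommRingCat.of T := CommRingCat.ofHom (inl.hom.codRestrict T h1)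
  let r : C ⟶ CommRingCat.of T := CommRingCat.ofHom (inr.hom.codRestrict T h2)
  have hl : l ≫ i = inl := by ext x; rfl
  have hr : r ≫ i = inr := by ext x; rfl
  have hlr : a ≫ l = b ≫ r := by
    ext x
    have := congrArg (fun φ => φ.hom x) h.w
    exact this
  have hu : h.desc l r hlr ≫ i = 𝟙 D := by
    apply h.hom_ext
    · rw [← Category.assoc, h.inl_desc, hl, Category.comp_id]
    · rw [← Category.assoc, h.inr_desc, hr, Category.comp_id]
  rw [eq_top_iff]
  intro d _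
  have := congrArg (fun φ => φ.hom d) hu
  change (((h.desc l r hlr).hom d : T) : D) = d at this
  rw [← this]
  exact ((h.desc l r hlr).hom d).2

end Push

section OI

theorem isIso_appLE_top {X Y : Scheme.{u}} (j : X ⟶ Y) [IsOpenImmersion j] (O : Y.Opens)
    (hO : O ≤ j.opensRange) (hle : (⊤ : X.Opens) ≤ j ⁻¹ᵁ O) : IsIso (j.appLE O ⊤ hle) := by
  have h0 : j ⁻¹ᵁ O = ⊤ := top_le_iff.1 hle
  have h1 : j.appLE O ⊤ hle = j.app O ≫ X.presheaf.map (eqToHom h0.symm).op := rfl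
  rw [h1]
  haveI := j.isIso_app O hO
  infer_instance

theorem appLE_congr_hom {X Y : Scheme.{u}} {a b : X ⟶ Y} (hab : a = b) (A : Y.Opens) (O : X.Opens)
    (e : O ≤ a ⁻¹ᵁ A) : a.appLE A O e = b.appLE A O (hab ▸ e) := by
  subst hab; rfl

theorem appLE_comm {P' P X U' : Scheme.{u}} (j : P' ⟶ P) (p : P ⟶ X) (q : P' ⟶ U') (i : U' ⟶ X)
    (h : j ≫ p = q ≫ i) (A : X.Opens) (O : P.Opens) (hO : O ≤ p ⁻¹ᵁ A)
    (hle : (⊤ : P'.Opens) ≤ j ⁻¹ᵁ O) (hi : (⊤ : U'.Opens) ≤ i ⁻¹ᵁ A) :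
    p.appLE A O hO ≫ j.appLE O ⊤ hle = i.appLE A ⊤ hi ≫ q.appTop := by
  have e1 := Scheme.Hom.appLE_comp_appLE j p A O ⊤ hO hle
  have e2 := Scheme.Hom.appLE_comp_appLE q i A ⊤ ⊤ hi le_top
  have e3 : q.appLE ⊤ ⊤ le_top = q.appTop := by
    simp [Scheme.Hom.appTop, Scheme.Hom.app_eq_appLE]
  rw [e1, ← e3, e2]
  exact appLE_congr_hom h A ⊤ _

end OI

section Gen

variable {X Y Z : Scheme.{u}} (f : X ⟶ Z) (g : Y ⟶ Z) (U : X.Opens) (V : Y.Opens)

/-- the open `fst⁻¹ U ∩ snd⁻¹ V` of the fibre product. -/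
noncomputable abbrev OO : (pullback f g).Opens :=
  pullback.fst f g ⁻¹ᵁ U ⊓ pullback.snd f g ⁻¹ᵁ V

/-- the open immersion `U ×_Z V ⟶ X ×_Z Y`. -/
noncomputable def jmap : pullback (U.ι ≫ f) (V.ι ≫ g) ⟶ pullback f g :=
  pullback.map _ _ _ _ U.ι V.ι (𝟙 Z) (by simp) (by simp)

instance : IsOpenImmersion (jmap f g U V) := by
  unfold jmap; infer_instance

theorem jmap_fst : jmap f g U V ≫ pullback.fst f g = pullback.fst _ _ ≫ U.ι := by
  unfold jmap; exact pullback.lift_fst _ _ _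

theorem jmap_snd : jmap f g U V ≫ pullback.snd f g = pullback.snd _ _ ≫ V.ι := by
  unfold jmap; exact pullback.lift_snd _ _ _

theorem opensRange_jmap : (jmap f g U V).opensRange = OO f g U V := by
  ext x
  change x ∈ Set.range (jmap f g U V) ↔ _
  unfold jmap
  rw [Scheme.Pullback.range_map]
  simp

variable {U V}

theorem isAffineOpen_OO [IsAffine Z] (hU : IsAffineOpen U) (hV : IsAffineOpen V) :
    IsAffineOpen (OO f g U V) := by
  haveI : IsAffine U := hU
  haveI : IsAffine V := hV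
  rw [← opensRange_jmap]
  exact isAffineOpen_opensRange _

theorem gen_top [IsAffine Z] (hU : IsAffineOpen U) (hV : IsAffineOpen V)
    (T : Subring Γ(pullback f g, OO f g U V))
    (h1 : ∀ b, pb (pullback.fst f g) U (OO f g U V) inf_le_left b ∈ T)
    (h2 : ∀ c, pb (pullback.snd f g) V (OO f g U V) inf_le_right c ∈ T) : T = ⊤ := by
  haveI : IsAffine U := hU
  haveI : IsAffine V := hV
  set j := jmap f g U V with hj
  have hle : (⊤ : (pullback (U.ι ≫ f) (V.ι ≫ g)).Opens) ≤ j ⁻¹ᵁ OO f g U V := by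
    intro x _
    change j x ∈ OO f g U V
    rw [← opensRange_jmap]
    exact ⟨x, rfl⟩
  haveI hφ : IsIso (j.appLE (OO f g U V) ⊤ hle) :=
    isIso_appLE_top j _ (opensRange_jmap f g U V).ge hle
  set φ := j.appLE (OO f g U V) ⊤ hle with hφd
  have hφbij : Function.Bijective φ.hom := ConcreteCategory.bijective_of_isIso φ
  have hUle : (⊤ : U.toScheme.Opens) ≤ U.ι ⁻¹ᵁ U := fun x _ => x.2
  have hVle : (⊤ : V.toScheme.Opens) ≤ V.ι ⁻¹ᵁ V := fun x _ => x.2
  haveI hUi : IsIso (U.ι.appLE U ⊤ hUle) := isIso_appLE_top U.ι U (by simp) hUle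
  haveI hVi : IsIso (V.ι.appLE V ⊤ hVle) := isIso_appLE_top V.ι V (by simp) hVle
  have hpo := isPushout_appTop_of_isPullback (IsPullback.of_hasPullback (U.ι ≫ f) (V.ι ≫ g))
  have key := pushout_gen hpo (T.map φ.hom) ?_ ?_
  · rw [eq_top_iff]
    intro s _
    have : φ.hom s ∈ T.map φ.hom := by rw [key]; trivial
    obtain ⟨t, ht, hts⟩ := this
    rw [← hφbij.1 hts]
    exact ht
  · intro x
    obtain ⟨b, rfl⟩ := (ConcreteCategory.bijective_of_isIso (U.ι.appLE U ⊤ hUle)).2 x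
    refine ⟨pb (pullback.fst f g) U (OO f g U V) inf_le_left b, h1 b, ?_⟩
    have := appLE_comm j (pullback.fst f g) (pullback.fst _ _) U.ι (jmap_fst f g U V) U
      (OO f g U V) inf_le_left hle hUle
    exact congrArg (fun ψ => ψ.hom b) this
  · intro x
    obtain ⟨c, rfl⟩ := (ConcreteCategory.bijective_of_isIso (V.ι.appLE V ⊤ hVle)).2 x
    refine ⟨pb (pullback.snd f g) V (OO f g U V) inf_le_right c, h2 c, ?_⟩
    have := appLE_comm j (pullback.snd f g) (pullback.snd _ _) V.ι (jmap_snd f g U V) V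
      (OO f g U V) inf_le_right hle hVle
    exact congrArg (fun ψ => ψ.hom c) this

end Gen

section Mor

open MvPolynomial Groth.Agent.Helper13ProjUP Groth.Agent.Helper13Dehom Groth.Agent.Helper13AffMor

theorem irrelevant_le (n : ℕ) (R : Type u) [CommRing R] :
    (HomogeneousIdeal.irrelevant (CohB1.polyGrading n R)).toIdeal ≤
      Ideal.span (Set.range (fun k : Fin (n + 1) => (MvPolynomial.X k : MvPolynomial (Fin (n + 1)) R))) := by
  intro x hx
  have h0 : GradedRing.proj (CohB1.polyGrading n R) 0 x = 0 :=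
    (HomogeneousIdeal.mem_irrelevant_iff _ _).1 hx
  have : Set.range (fun k : Fin (n + 1) => (MvPolynomial.X k : MvPolynomial (Fin (n + 1)) R)) =
      MvPolynomial.X '' (Set.univ : Set (Fin (n + 1))) := by
    rw [Set.image_univ]
  rw [this, MvPolynomial.mem_ideal_span_X_image]
  intro m hm
  by_contra hcon
  push Not at hcon
  have hm0 : m = 0 := by
    ext i
    simpa using hcon i (Set.mem_univ i)
  subst hm0
  have hc : MvPolynomial.coeff 0 x = 0 := by
    have h1 : MvPolynomial.coeff 0 (GradedRing.proj (CohB1.polyGrading n R) 0 x) = MvPolynomial.coeff 0 x := by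
      rw [GradedRing.proj_apply]
      have h2 : ((DirectSum.decompose (CohB1.polyGrading n R) x) 0 : MvPolynomial (Fin (n + 1)) R) =
          MvPolynomial.homogeneousComponent 0 x := MvPolynomial.decomposition.decompose'_apply x 0
      rw [h2, MvPolynomial.coeff_homogeneousComponent]
      simp
    rw [← h1, h0]
    simp
  exact (MvPolynomial.mem_support_iff.1 hm) hc

variable (R : Type u) [CommRing R] (n m : ℕ)

theorem D_cover (n : ℕ) (x : Proj (CohB1.polyGrading n R)) : ∃ i, x ∈ D R n i := by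
  have h := Proj.iSup_basicOpen_eq_top (CohB1.polyGrading n R)
    (fun k : Fin (n + 1) => (MvPolynomial.X k : MvPolynomial (Fin (n + 1)) R)) (irrelevant_le n R)
  have hx : x ∈ (⨆ i, Proj.basicOpen (CohB1.polyGrading n R)
      ((fun k : Fin (n + 1) => (MvPolynomial.X k : MvPolynomial (Fin (n + 1)) R)) i)) := by
    rw [h]; trivial
  exact Opens.mem_iSup.1 hx

theorem W_cover (x : PP R n m) : ∃ κ, x ∈ W R n m κ := by
  obtain ⟨i, hi⟩ := D_cover R n (p₁ R n m x)
  obtain ⟨j, hj⟩ := D_cover R m (p₂ R n m x)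
  exact ⟨(i, j), hi, hj⟩

theorem ι_comp_toBase {R A : Type u} [CommRing R] [CommRing A] [Algebra R A] {𝒜 : ℕ → Submodule R A}
    [GradedAlgebra 𝒜] {f : A} (hf : f ∈ 𝒜 1) {X : Scheme.{u}} {V : X.Opens} (g : X ⟶ Proj 𝒜)
    (hle : V ≤ g ⁻¹ᵁ Proj.basicOpen 𝒜 f) :
    V.ι ≫ g ≫ toBase 𝒜 = V.toSpecΓ ≫ Spec.map (strMap hf ≫ g.appLE _ V hle) := by
  rw [← Category.assoc, ι_comp_eq_toAff (isAffineOpen_basicOpen hf) g hle]
  unfold toAff
  rw [Category.assoc, Category.assoc, fromSpec_toBase, ← Spec.map_comp]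

variable {N : ℕ} (e : Fin (n + 1) × Fin (m + 1) ≃ Fin (N + 1))

theorem exists_segre : ∃ r : PP R n m ⟶ Proj (CohB1.polyGrading N R),
    (∀ κ, ∃ hle : W R n m κ ≤ r ⁻¹ᵁ D R N (e κ),
      ∀ a, pb r (D R N (e κ)) (W R n m κ) hle (dehom (hX R N (e κ)) a) = ψ R n m e κ a) ∧
    r ≫ toBase (CohB1.polyGrading N R) = p₁ R n m ≫ toBase (CohB1.polyGrading n R) := by
  obtain ⟨r, hr⟩ := exists_mor_of_charts (CohB1.polyGrading N R)
    (fun κ : Fin (n + 1) × Fin (m + 1) => (X (e κ) : MvPolynomial (Fin (N + 1)) R))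
    (fun κ => hX R N (e κ)) (W R n m) (W_cover R n m) (ψ R n m e) (ψ_self R n m e)
    (fun κ κ' d a ha => ψ_overlap R n m e κ κ' d a ha)
  refine ⟨r, hr, ?_⟩
  refine Groth.Agent.Lib.T2H6.SegreB.hom_ext_opens (W R n m) (W_cover R n m) _ _ (fun κ => ?_)
  obtain ⟨hle, hκ⟩ := hr κ
  rw [ι_comp_toBase (hX R N (e κ)) r hle, ι_comp_toBase (hX R n κ.1) (p₁ R n m) (W_le₁ R n m κ)]
  congr 2
  ext c
  change pb r _ _ hle (dehom (hX R N (e κ)) (algebraMap R _ c)) =
    pb (p₁ R n m) _ _ (W_le₁ R n m κ) (dehom (hX R n κ.1) (algebraMap R _ c))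
  rw [hκ]
  exact ψ_C R n m e κ c

theorem toBase_eq (n : ℕ) : CohB1.ProjSpace.toSpec n R = toBase (CohB1.polyGrading n R) := rfl

theorem xr_C_eq_yr_C (κ : Fin (n + 1) × Fin (m + 1)) (c : R) :
    xr R n m κ (C c) = yr R n m κ (C c) := by
  have h1 := ι_comp_toBase (hX R n κ.1) (p₁ R n m) (W_le₁ R n m κ)
  have h2 := ι_comp_toBase (hX R m κ.2) (p₂ R n m) (W_le₂ R n m κ)
  have hc : p₁ R n m ≫ toBase (CohB1.polyGrading n R) = p₂ R n m ≫ toBase (CohB1.polyGrading m R) :=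
    pullback.condition
  rw [hc, h2] at h1
  have h3 := toSpecΓ_SpecMap_injective _ _ h1
  have h4 := congrArg (fun φ => φ.hom c) h3
  exact h4.symm

variable {R n m e}

theorem preimage_eq (r : PP R n m ⟶ Proj (CohB1.polyGrading N R))
    (hr : ∀ κ, ∃ hle : W R n m κ ≤ r ⁻¹ᵁ D R N (e κ),
      ∀ a, pb r (D R N (e κ)) (W R n m κ) hle (dehom (hX R N (e κ)) a) = ψ R n m e κ a)
    (κ : Fin (n + 1) × Fin (m + 1)) : r ⁻¹ᵁ D R N (e κ) = W R n m κ := by
  apply le_antisymm
  · intro x hx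
    obtain ⟨κ', hx'⟩ := W_cover R n m x
    obtain ⟨hle', h'⟩ := hr κ'
    have h1 : (PP R n m).basicOpen (ψ R n m e κ' (X (e κ))) =
        W R n m κ' ⊓ r ⁻¹ᵁ (D R N (e κ) ⊓ D R N (e κ')) := by
      rw [← h' (X (e κ))]
      have := basicOpen_appLE r hle' (dehom (hX R N (e κ')) (X (e κ)))
      rw [basicOpen_dehom (hX R N (e κ)) (hX R N (e κ'))] at this
      exact this
    have h2 : (PP R n m).basicOpen (xr R n m κ' (X κ.1)) =
        W R n m κ' ⊓ p₁ R n m ⁻¹ᵁ (D R n κ.1 ⊓ D R n κ'.1) := by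
      have := basicOpen_appLE (p₁ R n m) (W_le₁ R n m κ') (dehom (hX R n κ'.1) (X κ.1))
      rw [basicOpen_dehom (hX R n κ.1) (hX R n κ'.1)] at this
      exact this
    have h3 : (PP R n m).basicOpen (yr R n m κ' (X κ.2)) =
        W R n m κ' ⊓ p₂ R n m ⁻¹ᵁ (D R m κ.2 ⊓ D R m κ'.2) := by
      have := basicOpen_appLE (p₂ R n m) (W_le₂ R n m κ') (dehom (hX R m κ'.2) (X κ.2))
      rw [basicOpen_dehom (hX R m κ.2) (hX R m κ'.2)] at this
      exact this
    have hx1 : x ∈ (PP R n m).basicOpen (ψ R n m e κ' (X (e κ))) := by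
      rw [h1]; exact ⟨hx', hx, hle' hx'⟩
    rw [ψ_X', Scheme.basicOpen_mul, h2, h3] at hx1
    exact ⟨hx1.1.2.1, hx1.2.2.1⟩
  · exact (hr κ).1

theorem isAffineOpen_W (κ : Fin (n + 1) × Fin (m + 1)) : IsAffineOpen (W R n m κ) :=
  isAffineOpen_OO (CohB1.ProjSpace.toSpec n R) (CohB1.ProjSpace.toSpec m R)
    (isAffineOpen_basicOpen (hX R n κ.1)) (isAffineOpen_basicOpen (hX R m κ.2))

theorem surjective_pb (r : PP R n m ⟶ Proj (CohB1.polyGrading N R))
    (κ : Fin (n + 1) × Fin (m + 1)) (hle : W R n m κ ≤ r ⁻¹ᵁ D R N (e κ))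
    (hκ : ∀ a, pb r (D R N (e κ)) (W R n m κ) hle (dehom (hX R N (e κ)) a) = ψ R n m e κ a) :
    Function.Surjective (pb r (D R N (e κ)) (W R n m κ) hle) := by
  set T : Subring Γ(PP R n m, W R n m κ) := (pb r (D R N (e κ)) (W R n m κ) hle).range with hT
  have hψ : ∀ a, ψ R n m e κ a ∈ T := fun a => ⟨_, hκ a⟩
  have hx : ∀ a, xr R n m κ a ∈ T := by
    intro a
    induction a using MvPolynomial.induction_on with
    | C c => rw [← ψ_C R n m e]; exact hψ _
    | add p q hp hq => rw [map_add]; exact add_mem hp hq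
    | mul_X p k hp =>
      rw [map_mul]
      refine mul_mem hp ?_
      have := ψ_X' R n m e κ (k, κ.2)
      rw [yr_self, mul_one] at this
      rw [← this]; exact hψ _
  have hy : ∀ a, yr R n m κ a ∈ T := by
    intro a
    induction a using MvPolynomial.induction_on with
    | C c => rw [← xr_C_eq_yr_C]; exact hx _
    | add p q hp hq => rw [map_add]; exact add_mem hp hq
    | mul_X p k hp =>
      rw [map_mul]
      refine mul_mem hp ?_
      have := ψ_X' R n m e κ (κ.1, k)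
      rw [xr_self, one_mul] at this
      rw [← this]; exact hψ _
  have htop : T = ⊤ := by
    refine gen_top (CohB1.ProjSpace.toSpec n R) (CohB1.ProjSpace.toSpec m R)
      (isAffineOpen_basicOpen (hX R n κ.1)) (isAffineOpen_basicOpen (hX R m κ.2)) T ?_ ?_
    · intro b
      obtain ⟨d, a, ha, rfl⟩ := exists_dehom_eq (hX R n κ.1) b
      exact hx a
    · intro b
      obtain ⟨d, a, ha, rfl⟩ := exists_dehom_eq (hX R m κ.2) b
      exact hy a
  intro s
  have : s ∈ T := by rw [htop]; trivial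
  exact this

theorem isClosedImmersion_of_charts (r : PP R n m ⟶ Proj (CohB1.polyGrading N R))
    (hr : ∀ κ, ∃ hle : W R n m κ ≤ r ⁻¹ᵁ D R N (e κ),
      ∀ a, pb r (D R N (e κ)) (W R n m κ) hle (dehom (hX R N (e κ)) a) = ψ R n m e κ a) :
    IsClosedImmersion r := by
  refine isClosedImmersion_of_cover r (fun t : Fin (N + 1) => D R N t) (D_cover R N)
    (fun t => isAffineOpen_basicOpen (hX R N t)) ?_ ?_
  · intro t
    obtain ⟨κ, rfl⟩ := e.surjective t
    change IsAffineOpen (r ⁻¹ᵁ D R N (e κ))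
    rw [preimage_eq r hr κ]
    exact isAffineOpen_W κ
  · intro t
    obtain ⟨κ, rfl⟩ := e.surjective t
    obtain ⟨hle, hκ⟩ := hr κ
    have hs := surjective_pb r κ hle hκ
    have heq := preimage_eq r hr κ
    have key : ∀ (O : (PP R n m).Opens) (h : O = r ⁻¹ᵁ D R N (e κ)),
        Function.Surjective (pb r (D R N (e κ)) O h.le) →
        Function.Surjective (r.app (D R N (e κ))).hom := by
      rintro O rfl hs
      rw [Scheme.Hom.app_eq_appLE]
      exact hs
    exact key _ heq.symm hs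

variable (R n m e)

include e in
/-- the Segre embedding over a ring. -/
theorem exists_segre_closed : ∃ r : PP R n m ⟶ Proj (CohB1.polyGrading N R),
    IsClosedImmersion r ∧
    r ≫ CohB1.ProjSpace.toSpec N R = p₁ R n m ≫ CohB1.ProjSpace.toSpec n R := by
  obtain ⟨r, hr, hb⟩ := exists_segre R n m e
  exact ⟨r, isClosedImmersion_of_charts r hr, hb⟩

end Mor

end Groth.Agent.Lib.T2H6.SegreB
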