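import Mathlib
import Groth.Prelude.Def_CohB1
import Groth.Agent.Lib.T2H6SegreB

set_option autoImplicit false
universe u
open CategoryTheory CategoryTheory.Limits AlgebraicGeometry TopologicalSpace Opposite

namespace Groth.Agent.Lib.T2H6.SegreC

section BC

variable {Z Pn Pm PN S : Scheme.{u}} (hZ : IsTerminal Z) (πn : Pn ⟶ Z) (πm : Pm ⟶ Z) (πN : PN ⟶ Z)
  (t : S ⟶ Z)

/-- `P_n,S ×_S P_m,S ⟶ P_n × P_m`. -/
noncomputable def amap : pullback (pullback.snd πn t) (pullback.snd πm t) ⟶ pullback πn πm :=
  pullback.lift (pullback.fst _ _ ≫ pullback.fst _ _) (pullback.snd _ _ ≫ pullback.fst _ _)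
    (hZ.hom_ext _ _)

theorem isPullback_amap :
    IsPullback (amap hZ πn πm t) (pullback.fst (pullback.snd πn t) (pullback.snd πm t) ≫ pullback.snd πn t)
      (pullback.fst πn πm ≫ πn) t := by
  refine IsPullback.of_isLimit' ⟨hZ.hom_ext _ _⟩ ?_
  refine PullbackCone.IsLimit.mk _
    (fun s => pullback.lift
      (pullback.lift (s.fst ≫ pullback.fst _ _) s.snd (hZ.hom_ext _ _))
      (pullback.lift (s.fst ≫ pullback.snd _ _) s.snd (hZ.hom_ext _ _))
      (by rw [pullback.lift_snd, pullback.lift_snd])) ?_ ?_ ?_
  · intro s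
    unfold amap
    apply pullback.hom_ext <;>
      simp only [pullback.lift_fst, pullback.lift_snd, pullback.lift_fst_assoc,
        pullback.lift_snd_assoc, Category.assoc]
  · intro s
    simp only [pullback.lift_fst, pullback.lift_snd, pullback.lift_fst_assoc,
        pullback.lift_snd_assoc, Category.assoc]
  · intro s w h1 h2
    unfold amap at h1
    apply pullback.hom_ext
    · apply pullback.hom_ext
      · have := congrArg (fun φ => φ ≫ pullback.fst _ _) h1
        simp only [pullback.lift_fst, pullback.lift_snd, pullback.lift_fst_assoc,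
          pullback.lift_snd_assoc, Category.assoc] at this ⊢
        exact this
      · simp only [pullback.lift_fst, pullback.lift_snd, pullback.lift_fst_assoc,
          pullback.lift_snd_assoc, Category.assoc] at h2 ⊢
        exact h2
    · apply pullback.hom_ext
      · have := congrArg (fun φ => φ ≫ pullback.snd _ _) h1
        simp only [pullback.lift_fst, pullback.lift_snd, pullback.lift_fst_assoc,
          pullback.lift_snd_assoc, Category.assoc] at this ⊢
        exact this
      · have h3 : w ≫ pullback.snd _ _ ≫ pullback.snd πm t = w ≫ pullback.fst _ _ ≫ pullback.snd πn t :=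
          congrArg (w ≫ ·) (pullback.condition (f := pullback.snd πn t) (g := pullback.snd πm t)).symm
        simp only [pullback.lift_fst, pullback.lift_snd, pullback.lift_fst_assoc,
          pullback.lift_snd_assoc, Category.assoc] at h2 ⊢
        rw [h3]
        exact h2

include hZ in
theorem baseChange_segre (r : pullback πn πm ⟶ PN) (hr : IsClosedImmersion r) :
    ∃ φ : pullback (pullback.snd πn t) (pullback.snd πm t) ⟶ pullback πN t,
      IsClosedImmersion φ ∧ φ ≫ pullback.snd πN t = pullback.fst _ _ ≫ pullback.snd πn t := by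
  let a := amap hZ πn πm t
  let q := pullback.fst (pullback.snd πn t) (pullback.snd πm t) ≫ pullback.snd πn t
  let φ : pullback (pullback.snd πn t) (pullback.snd πm t) ⟶ pullback πN t :=
    pullback.lift (a ≫ r) q (hZ.hom_ext _ _)
  have e1 : φ ≫ pullback.snd πN t = q := pullback.lift_snd _ _ _
  have e0 : φ ≫ pullback.fst πN t = a ≫ r := pullback.lift_fst _ _ _
  refine ⟨φ, ?_, e1⟩
  have e2 : r ≫ πN = pullback.fst πn πm ≫ πn := hZ.hom_ext _ _
  have hout : IsPullback (φ ≫ pullback.snd πN t) a t (r ≫ πN) := by
    rw [e1, e2]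
    exact (isPullback_amap hZ πn πm t).flip
  have hleft : IsPullback φ a (pullback.fst πN t) r :=
    IsPullback.of_right hout e0 (IsPullback.of_hasPullback πN t).flip
  exact MorphismProperty.of_isPullback (P := @IsClosedImmersion) hleft.flip hr

end BC

section Final

/-- the index bijection of the Segre embedding. -/
def segreEquiv (n m : ℕ) : Fin (n + 1) × Fin (m + 1) ≃ Fin (n * m + n + m + 1) :=
  finProdFinEquiv.trans (finCongr (by ring))

/-- Segre embedding over a general base. -/
theorem segre_over (S : Scheme.{u}) (n m : ℕ) :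
    ∃ φ : pullback (CohB1.ProjSpaceOver.toBase n S) (CohB1.ProjSpaceOver.toBase m S) ⟶
        CohB1.ProjSpaceOver (n * m + n + m) S,
      IsClosedImmersion φ ∧ φ ≫ CohB1.ProjSpaceOver.toBase (n * m + n + m) S =
        pullback.fst (CohB1.ProjSpaceOver.toBase n S) (CohB1.ProjSpaceOver.toBase m S) ≫
          CohB1.ProjSpaceOver.toBase n S := by
  obtain ⟨r, hr, -⟩ := Groth.Agent.Lib.T2H6.SegreB.exists_segre_closed (ULift.{u} ℤ) n m
    (segreEquiv n m)
  exact baseChange_segre specULiftZIsTerminal (CohB1.ProjSpace.toSpec n (ULift.{u} ℤ))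
    (CohB1.ProjSpace.toSpec m (ULift.{u} ℤ)) (CohB1.ProjSpace.toSpec (n * m + n + m) (ULift.{u} ℤ))
    (specULiftZIsTerminal.from S) r hr

end Final

end Groth.Agent.Lib.T2H6.SegreC
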