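import Mathlib
import Groth.Prelude.Def_RelProj
import Groth.Agent.Lib.T2H6SegreC

set_option autoImplicit false
universe u
open CategoryTheory CategoryTheory.Limits AlgebraicGeometry TopologicalSpace Opposite

namespace Groth.Agent.Lib.T2H6.HProjComp

open CohB1

/-- `P^n_Y ⟶ P^n_Z` induced by `g : Y ⟶ Z`. -/
noncomputable def pm (n : ℕ) {Y Z : Scheme.{u}} (g : Y ⟶ Z) : ProjSpaceOver n Y ⟶ ProjSpaceOver n Z :=
  pullback.lift (pullback.fst _ _) (ProjSpaceOver.toBase n Y ≫ g) (specULiftZIsTerminal.hom_ext _ _)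

theorem pm_toBase (n : ℕ) {Y Z : Scheme.{u}} (g : Y ⟶ Z) :
    pm n g ≫ ProjSpaceOver.toBase n Z = ProjSpaceOver.toBase n Y ≫ g :=
  pullback.lift_snd _ _ _

theorem pm_fst (n : ℕ) {Y Z : Scheme.{u}} (g : Y ⟶ Z) :
    pm n g ≫ pullback.fst (ProjSpace.toSpec n (ULift.{u} ℤ)) (specULiftZIsTerminal.from Z) =
      pullback.fst (ProjSpace.toSpec n (ULift.{u} ℤ)) (specULiftZIsTerminal.from Y) :=
  pullback.lift_fst _ _ _

theorem isPullback_pm (n : ℕ) {Y Z : Scheme.{u}} (g : Y ⟶ Z) :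
    IsPullback (pm n g) (ProjSpaceOver.toBase n Y) (ProjSpaceOver.toBase n Z) g := by
  have hright : IsPullback (pullback.fst (ProjSpace.toSpec n (ULift.{u} ℤ)) (specULiftZIsTerminal.from Z))
      (ProjSpaceOver.toBase n Z) (ProjSpace.toSpec n (ULift.{u} ℤ)) (specULiftZIsTerminal.from Z) :=
    IsPullback.of_hasPullback _ _
  have hout : IsPullback (pm n g ≫ pullback.fst (ProjSpace.toSpec n (ULift.{u} ℤ)) (specULiftZIsTerminal.from Z))
      (ProjSpaceOver.toBase n Y) (ProjSpace.toSpec n (ULift.{u} ℤ)) (g ≫ specULiftZIsTerminal.from Z) := by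
    rw [pm_fst]
    have : g ≫ specULiftZIsTerminal.from Z = specULiftZIsTerminal.from Y :=
      specULiftZIsTerminal.hom_ext _ _
    rw [this]
    exact IsPullback.of_hasPullback _ _
  exact IsPullback.of_right hout (pm_toBase n g) hright

variable {Y Z : Scheme.{u}} (n m : ℕ) (g : Y ⟶ Z) (j : Y ⟶ ProjSpaceOver m Z)
  (hj : j ≫ ProjSpaceOver.toBase m Z = g)

/-- `P^n_Y ⟶ P^n_Z ×_Z P^m_Z`. -/
noncomputable def kmap : ProjSpaceOver n Y ⟶ pullback (ProjSpaceOver.toBase n Z) (ProjSpaceOver.toBase m Z) :=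
  pullback.lift (pm n g) (ProjSpaceOver.toBase n Y ≫ j) (by rw [pm_toBase, Category.assoc, hj])

theorem kmap_fst : kmap n m g j hj ≫ pullback.fst _ _ = pm n g := pullback.lift_fst _ _ _

theorem kmap_snd : kmap n m g j hj ≫ pullback.snd _ _ = ProjSpaceOver.toBase n Y ≫ j :=
  pullback.lift_snd _ _ _

theorem isPullback_kmap :
    IsPullback (kmap n m g j hj) (ProjSpaceOver.toBase n Y)
      (pullback.snd (ProjSpaceOver.toBase n Z) (ProjSpaceOver.toBase m Z)) j := by
  have hright : IsPullback (pullback.fst (ProjSpaceOver.toBase n Z) (ProjSpaceOver.toBase m Z))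
      (pullback.snd (ProjSpaceOver.toBase n Z) (ProjSpaceOver.toBase m Z))
      (ProjSpaceOver.toBase n Z) (ProjSpaceOver.toBase m Z) := IsPullback.of_hasPullback _ _
  have hout : IsPullback (kmap n m g j hj ≫ pullback.fst (ProjSpaceOver.toBase n Z) (ProjSpaceOver.toBase m Z))
      (ProjSpaceOver.toBase n Y) (ProjSpaceOver.toBase n Z) (j ≫ ProjSpaceOver.toBase m Z) := by
    rw [kmap_fst, hj]
    exact isPullback_pm n g
  exact IsPullback.of_right hout (kmap_snd n m g j hj) hright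

theorem isClosedImmersion_kmap (hjc : IsClosedImmersion j) : IsClosedImmersion (kmap n m g j hj) :=
  MorphismProperty.of_isPullback (P := @IsClosedImmersion) (isPullback_kmap n m g j hj).flip hjc

theorem comp {X Y Z : Scheme.{u}} (f : X ⟶ Y) (g : Y ⟶ Z)
    (hf : RelProj.IsHProjective f) (hg : RelProj.IsHProjective g) :
    RelProj.IsHProjective (f ≫ g) := by
  obtain ⟨n, i, hi, hif⟩ := hf
  obtain ⟨m, j, hjc, hj⟩ := hg
  obtain ⟨φ, hφ, hφb⟩ := Groth.Agent.Lib.T2H6.SegreC.segre_over Z n m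
  haveI := isClosedImmersion_kmap n m g j hj hjc
  refine ⟨n * m + n + m, i ≫ kmap n m g j hj ≫ φ, inferInstance, ?_⟩
  rw [Category.assoc, Category.assoc, hφb, ← Category.assoc (kmap n m g j hj), kmap_fst, pm_toBase,
    ← Category.assoc, hif]

end Groth.Agent.Lib.T2H6.HProjComp
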