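import Mathlib
import Groth.Agent.Lib.Helper22FTLimit
import Groth.Agent.Lib.Helper22LimClosed

/-!
# Separatedness descends to a finitely presented closed neighbourhood (helper6, team 2)

`exists_ft_isSeparated`: `f₀ : X₀ ⟶ S` quasi-compact quasi-separated with `X₀` qcqs, `I` an ideal
sheaf on `X₀` with `V(I) ⟶ S` separated; then some finite type `J ≤ I` has `V(J) ⟶ S` separated.
-/

set_option autoImplicit false
universe u

namespace Groth.Agent.Lib.T2H6.SepFP

open AlgebraicGeometry CategoryTheory TopologicalSpace Limits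
open Groth.Agent.Lib.Helper22.FTIdeal

variable {X₀ S : Scheme.{u}} (f₀ : X₀ ⟶ S)

/-- the map `V(K) ×_S V(K) ⟶ X₀ ×_S X₀`. -/
noncomputable abbrev m (K : X₀.IdealSheafData) :
    pullback (K.subschemeι ≫ f₀) (K.subschemeι ≫ f₀) ⟶ pullback f₀ f₀ :=
  pullback.map (K.subschemeι ≫ f₀) (K.subschemeι ≫ f₀) f₀ f₀ K.subschemeι K.subschemeι (𝟙 S)
    ((Category.comp_id _).trans rfl) ((Category.comp_id _).trans rfl)

instance (K : X₀.IdealSheafData) : IsClosedImmersion (m f₀ K) :=
  MorphismProperty.pullbackMap (P := @IsClosedImmersion) inferInstance inferInstance rfl rfl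

theorem range_m (K : X₀.IdealSheafData) :
    Set.range (m f₀ K) =
      pullback.fst f₀ f₀ ⁻¹' (K.support : Set X₀) ∩ pullback.snd f₀ f₀ ⁻¹' (K.support : Set X₀) := by
  rw [m, Scheme.Pullback.range_map, K.range_subschemeι]

theorem diagonal_m (K : X₀.IdealSheafData) :
    pullback.diagonal (K.subschemeι ≫ f₀) ≫ m f₀ K = K.subschemeι ≫ pullback.diagonal f₀ := by
  apply pullback.hom_ext
  · rw [Category.assoc, Category.assoc, pullback.lift_fst, ← Category.assoc, pullback.diagonal_fst,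
      Category.id_comp, pullback.diagonal_fst, Category.comp_id]
  · rw [Category.assoc, Category.assoc, pullback.lift_snd, ← Category.assoc, pullback.diagonal_snd,
      Category.id_comp, pullback.diagonal_snd, Category.comp_id]

theorem range_diagonal (K : X₀.IdealSheafData) :
    Set.range (pullback.diagonal (K.subschemeι ≫ f₀)) =
      m f₀ K ⁻¹' Set.range (pullback.diagonal f₀) := by
  ext w
  constructor
  · rintro ⟨v, rfl⟩
    refine ⟨K.subschemeι v, ?_⟩
    rw [← Scheme.Hom.comp_apply, ← Scheme.Hom.comp_apply, diagonal_m]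
  · rintro ⟨x, hx⟩
    have h1 : pullback.fst f₀ f₀ (m f₀ K w) = x := by
      rw [← hx, ← Scheme.Hom.comp_apply, pullback.diagonal_fst]; rfl
    have h1' : K.subschemeι (pullback.fst (K.subschemeι ≫ f₀) (K.subschemeι ≫ f₀) w) = x := by
      rw [← h1, ← Scheme.Hom.comp_apply, ← Scheme.Hom.comp_apply, pullback.lift_fst]
    refine ⟨pullback.fst (K.subschemeι ≫ f₀) (K.subschemeι ≫ f₀) w, ?_⟩
    apply (m f₀ K).isClosedEmbedding.injective
    rw [← Scheme.Hom.comp_apply, diagonal_m, Scheme.Hom.comp_apply, h1', hx]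

theorem isSeparated_iff (K : X₀.IdealSheafData) :
    IsSeparated (K.subschemeι ≫ f₀) ↔
      IsClosed (Set.range (pullback.diagonal f₀) ∩ Set.range (m f₀ K)) := by
  have hemb := (m f₀ K).isClosedEmbedding
  have hset : Set.range (pullback.diagonal f₀) ∩ Set.range (m f₀ K) =
      m f₀ K '' Set.range (pullback.diagonal (K.subschemeι ≫ f₀)) := by
    rw [range_diagonal, Set.image_preimage_eq_inter_range]
  rw [hset, ← hemb.isClosed_iff_image_isClosed]
  constructor
  · intro h
    exact (pullback.diagonal (K.subschemeι ≫ f₀)).isClosedEmbedding.isClosed_range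
  · intro h
    exact ⟨IsClosedImmersion.of_isPreimmersion _ h⟩

theorem mem_range_m_of_le {K K' : X₀.IdealSheafData} (h : K ≤ K') :
    Set.range (m f₀ K') ⊆ Set.range (m f₀ K) := by
  rw [range_m, range_m]
  have := Scheme.IdealSheafData.support_antitone h
  exact Set.inter_subset_inter (Set.preimage_mono this) (Set.preimage_mono this)

theorem exists_ft_isSeparated [QuasiCompact f₀] [QuasiSeparated f₀] [CompactSpace X₀]
    [QuasiSeparatedSpace X₀] (I : X₀.IdealSheafData) [IsSeparated (I.subschemeι ≫ f₀)] :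
    ∃ J ∈ ftSub I, IsSeparated (J.subschemeι ≫ f₀) := by
  classical
  let W := pullback f₀ f₀
  let Δ₀ := pullback.diagonal f₀
  let D : Set W := Set.range Δ₀
  let E : Set W := closure D \ D
  have hE : IsClosed E := by
    have := (Δ₀.isLocallyClosed_range).isOpen_coborder
    rw [coborder] at this
    exact isOpen_compl_iff.mp this
  haveI : CompactSpace W := QuasiCompact.compactSpace_of_compactSpace (pullback.fst f₀ f₀)
  -- index set
  let ι := {J : X₀.IdealSheafData // J ∈ ftSub I}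
  haveI : Nonempty ι := ⟨⟨⊥, bot_mem_ftSub I⟩⟩
  let Wr : X₀.IdealSheafData → Set W := fun K => Set.range (m f₀ K)
  have hWrc : ∀ K, IsClosed (Wr K) := fun K => (m f₀ K).isClosedEmbedding.isClosed_range
  have hsupp : (I.support : Set X₀) = ⋂ J : ι, (J.1.support : Set X₀) := by
    conv_lhs => rw [← sSup_ftSub I, Scheme.IdealSheafData.support_sSup]
    ext x
    simp [ι]
  have hWI : Wr I = ⋂ J : ι, Wr J.1 := by
    show Set.range (m f₀ I) = ⋂ J : ι, Set.range (m f₀ J.1)
    ext w
    rw [range_m, hsupp, Set.mem_iInter]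
    constructor
    · intro hw J
      rw [range_m]
      simp only [Set.preimage_iInter, Set.mem_inter_iff, Set.mem_iInter] at hw
      exact ⟨hw.1 J, hw.2 J⟩
    · intro hw
      simp only [Set.preimage_iInter, Set.mem_inter_iff, Set.mem_iInter]
      refine ⟨fun J => ?_, fun J => ?_⟩
      · have := hw J
        rw [range_m] at this
        exact this.1
      · have := hw J
        rw [range_m] at this
        exact this.2
  have hA : IsClosed (D ∩ Wr I) := (isSeparated_iff f₀ I).mp inferInstance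
  -- compact open V'
  have hTc : IsCompact (E ∩ Wr I) := (hE.inter (hWrc I)).isCompact
  have hTsub : E ∩ Wr I ⊆ (D ∩ Wr I)ᶜ := fun w hw hw' => hw.1.2 hw'.1
  obtain ⟨V', hV'c, hTV', hV'A⟩ :=
    Groth.Agent.Lib.Helper22.LimClosed.exists_compact_open_between W _ _ hTc hA.isOpen_compl hTsub
  have hdir : Directed (· ⊇ ·) (fun J : ι => Wr J.1) := by
    intro a b
    refine ⟨⟨a.1 ⊔ b.1, sup_mem_ftSub a.2 b.2⟩, ?_, ?_⟩
    · exact mem_range_m_of_le f₀ (le_sup_left)
    · exact mem_range_m_of_le f₀ (le_sup_right)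
  -- (a)
  have hEV : IsCompact (E \ (V' : Set W)) := (hE.sdiff V'.2).isCompact
  obtain ⟨J₁, hJ₁⟩ := hEV.elim_directed_family_closed (fun J : ι => Wr J.1) (fun J => hWrc _)
    (by
      rw [← hWI]
      ext w
      simp only [Set.mem_inter_iff, Set.mem_sdiff, Set.mem_empty_iff_false, iff_false, not_and]
      rintro ⟨hwE, hwV⟩ hwI
      exact hwV (hTV' ⟨hwE, hwI⟩)) hdir
  -- (b)
  have hQ : IsCompact (Δ₀ ⁻¹' (V' : Set W)) :=
    QuasiCompact.isCompact_preimage (f := Δ₀) _ V'.2 hV'c
  have hdir' : Directed (· ⊇ ·) (fun J : ι => (J.1.support : Set X₀)) := by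
    intro a b
    refine ⟨⟨a.1 ⊔ b.1, sup_mem_ftSub a.2 b.2⟩, ?_, ?_⟩
    · exact Scheme.IdealSheafData.support_antitone (le_sup_left : a.1 ≤ a.1 ⊔ b.1)
    · exact Scheme.IdealSheafData.support_antitone (le_sup_right : b.1 ≤ a.1 ⊔ b.1)
  have hΔfst : ∀ x, pullback.fst f₀ f₀ (Δ₀ x) = x := by
    intro x
    rw [← Scheme.Hom.comp_apply, pullback.diagonal_fst]; rfl
  have hΔsnd : ∀ x, pullback.snd f₀ f₀ (Δ₀ x) = x := by
    intro x
    rw [← Scheme.Hom.comp_apply, pullback.diagonal_snd]; rfl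
  obtain ⟨J₂, hJ₂⟩ := hQ.elim_directed_family_closed (fun J : ι => (J.1.support : Set X₀))
    (fun J => J.1.support.isClosed)
    (by
      rw [← hsupp]
      ext x
      simp only [Set.mem_inter_iff, Set.mem_preimage, Set.mem_empty_iff_false, iff_false, not_and]
      intro hxV hxI
      refine hV'A hxV ⟨⟨x, rfl⟩, ?_⟩
      show Δ₀ x ∈ Set.range (m f₀ I)
      rw [range_m]
      exact ⟨by rw [Set.mem_preimage, hΔfst]; exact hxI, by rw [Set.mem_preimage, hΔsnd]; exact hxI⟩) hdir'
  -- (c)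
  refine ⟨J₁.1 ⊔ J₂.1, sup_mem_ftSub J₁.2 J₂.2, ?_⟩
  rw [isSeparated_iff]
  set J := J₁.1 ⊔ J₂.1 with hJ
  apply isClosed_of_closure_subset
  intro w hw
  have hwW : w ∈ Wr J := by
    have : closure (D ∩ Wr J) ⊆ Wr J := closure_minimal Set.inter_subset_right (hWrc J)
    exact this hw
  have hwD : w ∈ closure D := closure_mono Set.inter_subset_left hw
  by_contra hcon
  have hwnD : w ∉ D := fun h => hcon ⟨h, hwW⟩
  have hwE : w ∈ E := ⟨hwD, hwnD⟩
  have hwV : w ∈ (V' : Set W) := by
    by_contra hnV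
    have : w ∈ (E \ (V' : Set W)) ∩ Wr J₁.1 :=
      ⟨⟨hwE, hnV⟩, mem_range_m_of_le f₀ (le_sup_left : J₁.1 ≤ J) hwW⟩
    rw [hJ₁] at this
    exact this
  obtain ⟨w', hw'V, hw'D, hw'W⟩ := mem_closure_iff.mp hw V' V'.2 hwV
  obtain ⟨x, rfl⟩ := hw'D
  have hxJ : x ∈ (J.support : Set X₀) := by
    have := hw'W
    simp only [Wr, range_m] at this
    have h1 := this.1
    rwa [Set.mem_preimage, hΔfst] at h1
  have : x ∈ Δ₀ ⁻¹' (V' : Set W) ∩ (J₂.1.support : Set X₀) :=
    ⟨hw'V, Scheme.IdealSheafData.support_antitone (le_sup_right : J₂.1 ≤ J) hxJ⟩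
  rw [hJ₂] at this
  exact this

end Groth.Agent.Lib.T2H6.SepFP
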