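import Mathlib
import Groth.Agent.Lib.T2H6Chow
import Groth.Agent.Lib.T2H6HProjComp
import Groth.Agent.S7395
import Groth.Agent.S0590
import Groth.Agent.S0591
import Groth.Agent.S9190

/-!
# Chow's lemma over a qcqs base without hypotheses on irreducible components (helper6, team 2)

By absolute Noetherian approximation: `chow_bc` (Chow data pull back along base change),
`chow_closed` (and restrict to closed subschemes), `exists_stage` (a separated morphism of finite
presentation over a qcqs base is the base change of a separated morphism of finite type over a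
Noetherian scheme), `chow_qcqs`.
-/

set_option autoImplicit false
universe u

namespace Groth.Agent.Lib.T2H6.ChowLim

open AlgebraicGeometry CategoryTheory TopologicalSpace Limits CohB1
open Groth.Agent.Lib.T2H6.HProjComp

/-- the conclusion of Chow's lemma (weak form). -/
def HasChow {X S : Scheme.{u}} (f : X ⟶ S) : Prop :=
  ∃ (n : ℕ) (X' : Scheme.{u}) (π : X' ⟶ X) (j : X' ⟶ CohB1.ProjSpaceOver n S),
    IsImmersion j ∧ j ≫ CohB1.ProjSpaceOver.toBase n S = π ≫ f ∧ IsProper π ∧ Surjective π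

theorem chow_bc {X S Y T : Scheme.{u}} {f : X ⟶ S} {h : Y ⟶ T} {g : S ⟶ T} {q : X ⟶ Y}
    (hpb : IsPullback q f h g) (hY : HasChow h) : HasChow f := by
  obtain ⟨n, Y', π, jY, hjY, hcomp, hπ, hπs⟩ := hY
  haveI := hjY; haveI := hπ; haveI := hπs
  let X' := pullback π q
  let π' : X' ⟶ X := pullback.snd π q
  have hpbP := isPullback_pm n g
  have hc : (pullback.fst π q ≫ jY) ≫ ProjSpaceOver.toBase n T = (π' ≫ f) ≫ g := by
    rw [Category.assoc, hcomp, ← Category.assoc, pullback.condition, Category.assoc, hpb.w,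
      Category.assoc]
  let j : X' ⟶ ProjSpaceOver n S := hpbP.lift (pullback.fst π q ≫ jY) (π' ≫ f) hc
  have hj1 : j ≫ pm n g = pullback.fst π q ≫ jY := hpbP.lift_fst _ _ _
  have hj2 : j ≫ ProjSpaceOver.toBase n S = π' ≫ f := hpbP.lift_snd _ _ _
  -- the square `X' → P^n_S` over `Y' → P^n_T` is a pullback
  have hleft : IsPullback (pullback.fst π q) π' π q := IsPullback.of_hasPullback π q
  have hout : IsPullback (pullback.fst π q) (π' ≫ f) (π ≫ h) g := hleft.paste_vert hpb
  have hout' : IsPullback (pullback.fst π q) (j ≫ ProjSpaceOver.toBase n S)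
      (jY ≫ ProjSpaceOver.toBase n T) g := by
    rw [hj2, hcomp]; exact hout
  have hsq : IsPullback (pullback.fst π q) j jY (pm n g) :=
    IsPullback.of_bot hout' hj1.symm hpbP
  refine ⟨n, X', π', j, ?_, hj2, ?_, ?_⟩
  · exact MorphismProperty.of_isPullback (P := @IsImmersion) hsq hjY
  · exact MorphismProperty.pullback_snd (P := @IsProper) _ _ hπ
  · exact MorphismProperty.pullback_snd (P := @Surjective) _ _ hπs

theorem chow_closed {X X₁ S : Scheme.{u}} {f : X ⟶ S} {f₁ : X₁ ⟶ S} (j₀ : X ⟶ X₁)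
    [IsClosedImmersion j₀] (hj₀ : j₀ ≫ f₁ = f) (h₁ : HasChow f₁) : HasChow f := by
  obtain ⟨n, X₁', π₁, j₁, hj₁, hcomp, hπ, hπs⟩ := h₁
  haveI := hj₁; haveI := hπ; haveI := hπs
  refine ⟨n, pullback π₁ j₀, pullback.snd π₁ j₀, pullback.fst π₁ j₀ ≫ j₁, inferInstance, ?_, ?_, ?_⟩
  · rw [Category.assoc, hcomp, ← Category.assoc, pullback.condition, Category.assoc, hj₀]
  · exact MorphismProperty.pullback_snd (P := @IsProper) _ _ hπ
  · exact MorphismProperty.pullback_snd (P := @Surjective) _ _ hπs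

instance : IsNoetherianRing (ULift.{u} ℤ) :=
  isNoetherianRing_of_ringEquiv ℤ ULift.ringEquiv.symm

theorem exists_stage {X₁ S : Scheme.{u}} (f₁ : X₁ ⟶ S) [CompactSpace S] [QuasiSeparatedSpace S]
    [IsSeparated f₁] [LocallyOfFinitePresentation f₁] [QuasiCompact f₁] :
    ∃ (T Y : Scheme.{u}) (h : Y ⟶ T) (g : S ⟶ T) (q : X₁ ⟶ Y), IsNoetherian T ∧ IsSeparated h ∧
      LocallyOfFiniteType h ∧ QuasiCompact h ∧ IsPullback q f₁ h g := by
  obtain ⟨I, instP, instD, instN, D, c, hc, haff, hst, ⟨e⟩⟩ := Groth.Agent.S0590.result S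
  haveI : IsCofiltered Iᵒᵖ := inferInstance
  haveI : ∀ (i j : Iᵒᵖ) (f : i ⟶ j), IsAffineHom (D.map f) := haff
  haveI : ∀ i, CompactSpace (D.obj i) := fun i => (hst i).1
  have hnoeth : ∀ i, IsNoetherian (D.obj i) := fun i => by
    haveI := (hst i).2
    haveI : IsLocallyNoetherian (D.obj i) :=
      LocallyOfFiniteType.isLocallyNoetherian (Limits.IsTerminal.from specULiftZIsTerminal (D.obj i))
    exact {}
  haveI : ∀ i, QuasiSeparatedSpace (D.obj i) := fun i => by
    haveI := hnoeth i; infer_instance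
  let f' : X₁ ⟶ c.pt := f₁ ≫ e.inv
  obtain ⟨i, Xi, fi, g₁, hfi1, hfi2, hfi3, hpb⟩ := Groth.Agent.S0591.result D c hc X₁ f'
  haveI := hfi1; haveI := hfi2; haveI := hfi3
  haveI : CompactSpace Xi := QuasiCompact.compactSpace_of_compactSpace fi
  haveI : QuasiSeparatedSpace Xi := quasiSeparatedSpace_of_quasiSeparated fi
  have hY : IsPullback (c.π.app i) (𝟙 c.pt) (𝟙 (D.obj i)) (c.π.app i) :=
    IsPullback.id_vert _
  obtain ⟨i', φ, Xi', Yi', fi', gi, pY, pX, hpbY, hpbX, hsep⟩ :=
    Groth.Agent.S9190.result D c hc i fi (𝟙 _) f' (𝟙 _) (c.π.app i) g₁ hY hpb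
  haveI : IsIso gi := hpbY.isIso_snd_of_isIso
  have hpY : pY = gi ≫ D.map φ := by
    have := hpbY.w
    rwa [Category.comp_id] at this
  let k : c.pt ⟶ Yi' := c.π.app i' ≫ inv gi
  have hk : k ≫ pY = c.π.app i := by
    rw [hpY, Category.assoc, IsIso.inv_hom_id_assoc]
    exact c.w φ
  let q : X₁ ⟶ Xi' := hpbX.lift g₁ (f' ≫ k) (by rw [Category.assoc, hk]; exact hpb.w)
  have hq1 : q ≫ pX = g₁ := hpbX.lift_fst _ _ _
  have hq2 : q ≫ fi' = f' ≫ k := hpbX.lift_snd _ _ _
  have hbig : IsPullback (q ≫ pX) f' fi (k ≫ pY) := by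
    rw [hq1, hk]; exact hpb
  have hsq : IsPullback q f' fi' k := IsPullback.of_right hbig hq2 hpbX
  let g : S ⟶ D.obj i' := e.inv ≫ c.π.app i'
  have hiso : IsPullback k e.hom gi g :=
    IsPullback.of_vert_isIso ⟨by simp [k, g]⟩
  have hfin := hsq.paste_vert hiso
  have hf' : f' ≫ e.hom = f₁ := by simp [f']
  rw [hf'] at hfin
  haveI := hsep
  haveI : LocallyOfFiniteType fi' :=
    MorphismProperty.of_isPullback (P := @LocallyOfFiniteType) hpbX inferInstance
  haveI : QuasiCompact fi' :=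
    MorphismProperty.of_isPullback (P := @QuasiCompact) hpbX inferInstance
  exact ⟨D.obj i', Xi', fi' ≫ gi, g, q, hnoeth i', inferInstance, inferInstance, inferInstance, hfin⟩

theorem chow_qcqs {X S : Scheme.{u}} (f : X ⟶ S) [CompactSpace S] [QuasiSeparatedSpace S]
    [IsSeparated f] [LocallyOfFiniteType f] [QuasiCompact f] : HasChow f := by
  obtain ⟨X₁, f₁, j₀, h1, h2, h3, h4, h5⟩ := Groth.Agent.S7395.result f
  haveI := h1; haveI := h2; haveI := h3; haveI := h4
  refine chow_closed j₀ h5 ?_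
  obtain ⟨T, Y, h, g, q, hT, hs, hft, hqc, hpb⟩ := exists_stage f₁
  haveI := hT; haveI := hs; haveI := hft; haveI := hqc
  refine chow_bc hpb ?_
  haveI : IsLocallyNoetherian Y := LocallyOfFiniteType.isLocallyNoetherian h
  haveI : CompactSpace Y := QuasiCompact.compactSpace_of_compactSpace h
  haveI : IsNoetherian Y := {}
  obtain ⟨n, X', π, j, hj, hc, hπ, hπs, -⟩ :=
    Groth.Agent.Lib.T2H6.Chow.chow h finite_irreducibleComponents_of_isNoetherian
  exact ⟨n, X', π, j, hj, hc, hπ, hπs⟩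

end Groth.Agent.Lib.T2H6.ChowLim
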