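import Mathlib
import Groth.Agent.Lib.T2H6ChowLim
import Groth.Agent.Lib.T2H6SepFP

/-!
# Properness descends to a finitely presented closed neighbourhood (helper6, team 2)

`exists_isClosed_image` (topological core), `exists_ft_isProper`: `f₁ : X₁ ⟶ S` separated of finite
type over a qcqs base, `I` an ideal sheaf with `V(I) ⟶ S` proper; then some finite type `J ≤ I` has
`V(J) ⟶ S` proper (Stacks 09ZR), via Chow's lemma over a qcqs base.
-/

set_option autoImplicit false
universe u

namespace Groth.Agent.Lib.T2H6.PropFP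

open AlgebraicGeometry CategoryTheory TopologicalSpace Limits CohB1
open Groth.Agent.Lib.Helper22.FTIdeal Groth.Agent.Lib.T2H6.ChowLim

theorem exists_isClosed_image {Y P : Scheme.{u}} (ι : Y ⟶ P) [IsImmersion ι] [QuasiCompact ι]
    [CompactSpace P] {κ : Type*} [Nonempty κ] (F : κ → Set Y) (hFc : ∀ k, IsClosed (F k))
    (hdir : Directed (· ⊇ ·) F) (hcl : IsClosed (ι '' ⋂ k, F k)) : ∃ k, IsClosed (ι '' F k) := by
  classical
  let D : Set P := Set.range ι
  let E : Set P := closure D \ D
  have hE : IsClosed E := by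
    have := (ι.isLocallyClosed_range).isOpen_coborder
    rw [coborder] at this
    exact isOpen_compl_iff.mp this
  have hEsub : E ⊆ (ι '' ⋂ k, F k)ᶜ := by
    rintro w hw ⟨y, -, rfl⟩
    exact hw.2 ⟨y, rfl⟩
  obtain ⟨V', hV'c, hEV', hV'A⟩ :=
    Groth.Agent.Lib.Helper22.LimClosed.exists_compact_open_between P _ _ hE.isCompact
      hcl.isOpen_compl hEsub
  have hQ : IsCompact (ι ⁻¹' (V' : Set P)) :=
    QuasiCompact.isCompact_preimage (f := ι) _ V'.2 hV'c
  obtain ⟨k, hk⟩ := hQ.elim_directed_family_closed F hFc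
    (by
      ext y
      simp only [Set.mem_inter_iff, Set.mem_preimage, Set.mem_empty_iff_false, iff_false, not_and]
      intro hyV hyF
      exact hV'A hyV ⟨y, hyF, rfl⟩) hdir
  refine ⟨k, isClosed_of_closure_subset ?_⟩
  intro w hw
  have hwD : w ∈ closure D := closure_mono (Set.image_subset_range _ _) hw
  by_cases hwD' : w ∈ D
  · obtain ⟨y, rfl⟩ := hwD'
    refine ⟨y, ?_, rfl⟩
    have := ι.isEmbedding.isInducing.closure_eq_preimage_closure_image (F k)
    rw [← (hFc k).closure_eq, this]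
    exact hw
  · exfalso
    have hwV : w ∈ (V' : Set P) := hEV' ⟨hwD, hwD'⟩
    obtain ⟨w', hw'V, y, hyF, rfl⟩ := mem_closure_iff.mp hw V' V'.2 hwV
    have : y ∈ ι ⁻¹' (V' : Set P) ∩ F k := ⟨hw'V, hyF⟩
    rw [hk] at this
    exact this

theorem exists_ft_isProper {X₁ S : Scheme.{u}} (f₁ : X₁ ⟶ S) [CompactSpace S]
    [QuasiSeparatedSpace S] [IsSeparated f₁] [LocallyOfFiniteType f₁] [QuasiCompact f₁]
    (I : X₁.IdealSheafData) [IsProper (I.subschemeι ≫ f₁)] :
    ∃ J ∈ ftSub I, IsProper (J.subschemeι ≫ f₁) := by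
  classical
  haveI : CompactSpace X₁ := QuasiCompact.compactSpace_of_compactSpace f₁
  haveI : QuasiSeparatedSpace X₁ := quasiSeparatedSpace_of_quasiSeparated f₁
  obtain ⟨n, Y', π, ι, hι, hcomp, hπ, hπs⟩ := chow_qcqs f₁
  haveI := hι; haveI := hπ; haveI := hπs
  let p := ProjSpaceOver.toBase n S
  haveI : IsProper p := Groth.Agent.S9705.isProper_toBase n S
  have hcomp' : ι ≫ p = π ≫ f₁ := hcomp
  haveI : QuasiCompact (ι ≫ p) := by rw [hcomp']; infer_instance
  haveI : QuasiCompact ι :=
    MorphismProperty.of_postcomp (W := @QuasiCompact) (W' := @QuasiSeparated) ι p inferInstance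
      inferInstance
  haveI : CompactSpace (ProjSpaceOver n S) := QuasiCompact.compactSpace_of_compactSpace p
  let κ := {J : X₁.IdealSheafData // J ∈ ftSub I}
  haveI : Nonempty κ := ⟨⟨⊥, bot_mem_ftSub I⟩⟩
  let F : X₁.IdealSheafData → Set Y' := fun K => π ⁻¹' (K.support : Set X₁)
  have hFc : ∀ K, IsClosed (F K) := fun K => K.support.isClosed.preimage π.continuous
  have hsupp : (I.support : Set X₁) = ⋂ J : κ, (J.1.support : Set X₁) := by
    conv_lhs => rw [← sSup_ftSub I, Scheme.IdealSheafData.support_sSup]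
    ext x
    simp [κ]
  have hFI : F I = ⋂ J : κ, F J.1 := by
    simp only [F]
    rw [hsupp, Set.preimage_iInter]
  have hdir : Directed (· ⊇ ·) (fun J : κ => F J.1) := by
    intro a b
    refine ⟨⟨a.1 ⊔ b.1, sup_mem_ftSub a.2 b.2⟩, ?_, ?_⟩
    · exact Set.preimage_mono
        (Scheme.IdealSheafData.support_antitone (le_sup_left : a.1 ≤ a.1 ⊔ b.1))
    · exact Set.preimage_mono
        (Scheme.IdealSheafData.support_antitone (le_sup_right : b.1 ≤ a.1 ⊔ b.1))
  -- the preimage of `V(K)` in `Y'`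
  have key : ∀ K : X₁.IdealSheafData,
      Set.range (pullback.fst π K.subschemeι ≫ ι) = ι '' F K := by
    intro K
    rw [Scheme.Hom.comp_base, TopCat.coe_comp, Set.range_comp, Scheme.Pullback.range_fst,
      K.range_subschemeι]
  have hcond : ∀ K : X₁.IdealSheafData, (pullback.fst π K.subschemeι ≫ ι) ≫ p =
      pullback.snd π K.subschemeι ≫ K.subschemeι ≫ f₁ := by
    intro K
    rw [Category.assoc, hcomp', ← Category.assoc, pullback.condition, Category.assoc]
  have hclI : IsClosed (ι '' ⋂ J : κ, F J.1) := by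
    rw [← hFI, ← key I]
    haveI : IsProper ((pullback.fst π I.subschemeι ≫ ι) ≫ p) := by
      rw [hcond I]; infer_instance
    haveI : IsProper (pullback.fst π I.subschemeι ≫ ι) :=
      MorphismProperty.of_postcomp (W := @IsProper) (W' := @IsSeparated) _ p inferInstance
        inferInstance
    exact (pullback.fst π I.subschemeι ≫ ι).isClosedMap.isClosed_range
  obtain ⟨J, hJ⟩ := exists_isClosed_image ι (fun J : κ => F J.1) (fun J => hFc _) hdir hclI
  refine ⟨J.1, J.2, ?_⟩
  rw [← key J.1] at hJ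
  haveI : IsClosedImmersion (pullback.fst π J.1.subschemeι ≫ ι) :=
    IsClosedImmersion.of_isPreimmersion _ hJ
  haveI : IsProper (pullback.snd π J.1.subschemeι ≫ J.1.subschemeι ≫ f₁) := by
    rw [← hcond J.1]; infer_instance
  haveI : Surjective (pullback.snd π J.1.subschemeι) :=
    MorphismProperty.pullback_snd (P := @Surjective) _ _ hπs
  haveI : UniversallyClosed (J.1.subschemeι ≫ f₁) :=
    UniversallyClosed.of_comp_surjective (pullback.snd π J.1.subschemeι) (J.1.subschemeι ≫ f₁)
  exact {}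

end Groth.Agent.Lib.T2H6.PropFP
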