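import Mathlib
import Groth.Agent.Lib.T2H6PropFP

/-!
# A proper scheme over a qcqs base is a limit of proper finitely presented ones (helper6, team 2)

`SubSys`: the inverse system of the closed subschemes `V(J)` for `J` ranging over a directed set
`𝒥` of ideal sheaves with supremum `I`, with its limit cone `V(I)` (in `Over Y`, and pushed to
`Over S`).  `exists_proper_system` (Stacks 09ZR).
-/

set_option autoImplicit false
universe u

namespace Groth.Agent.Lib.T2H6.PropLim

open AlgebraicGeometry CategoryTheory TopologicalSpace Limits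
open Groth.Agent.Lib.Helper22.FTIdeal

variable {Y : Scheme.{u}}

section SubSys

variable (𝒥 : Set Y.IdealSheafData)

/-- the inverse system of closed subschemes `V(J)`, `J ∈ 𝒥`. -/
noncomputable def diag : (𝒥 : Type u)ᵒᵖ ⥤ Over Y :=
  (Subtype.mono_coe (· ∈ 𝒥)).functor.op ⋙ Scheme.IdealSheafData.subschemeFunctor Y

@[simp] theorem diag_obj_left (J : (𝒥 : Type u)ᵒᵖ) :
    ((diag 𝒥).obj J).left = J.unop.1.subscheme := rfl

@[simp] theorem diag_obj_hom (J : (𝒥 : Type u)ᵒᵖ) :
    ((diag 𝒥).obj J).hom = J.unop.1.subschemeι := rfl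

theorem diag_map_left {J K : (𝒥 : Type u)ᵒᵖ} (f : J ⟶ K) :
    ((diag 𝒥).map f).left =
      Scheme.IdealSheafData.inclusion (show K.unop.1 ≤ J.unop.1 from f.unop.le) :=
  rfl

variable {𝒥} (I : Y.IdealSheafData) (hle : ∀ J ∈ 𝒥, J ≤ I)

/-- the cone with apex `V(I)`. -/
noncomputable def cone : Cone (diag 𝒥) where
  pt := Over.mk I.subschemeι
  π :=
    { app := fun J => Over.homMk (Scheme.IdealSheafData.inclusion (hle J.unop.1 J.unop.2))
        (Scheme.IdealSheafData.inclusion_subschemeι _)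
      naturality := by
        intro J K f
        ext
        simp only [Functor.const_obj_obj, Functor.const_obj_map, Category.id_comp, Over.comp_left,
          diag_map_left]
        exact (Scheme.IdealSheafData.inclusion_comp _ _).symm }

variable (hsup : I ≤ sSup 𝒥)

include hsup in
theorem le_ker_of_cone (s : Cone (diag 𝒥)) :
    I ≤ Scheme.Hom.ker (s.pt.hom : s.pt.left ⟶ Y) := by
  refine hsup.trans (sSup_le fun J hJ => ?_)
  have h1 : (s.π.app (Opposite.op ⟨J, hJ⟩)).left ≫ J.subschemeι = s.pt.hom :=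
    Over.w (s.π.app (Opposite.op ⟨J, hJ⟩))
  rw [← h1]
  conv_lhs => rw [← J.ker_subschemeι]
  exact Scheme.Hom.le_ker_comp _ _

/-- the lift of a cone -/
noncomputable def coneLift (s : Cone (diag 𝒥)) : s.pt.left ⟶ I.subscheme :=
  IsClosedImmersion.lift I.subschemeι (s.pt.hom : s.pt.left ⟶ Y)
    (by rw [I.ker_subschemeι]; exact le_ker_of_cone I hsup s)

theorem coneLift_fac (s : Cone (diag 𝒥)) : coneLift I hsup s ≫ I.subschemeι = s.pt.hom :=
  IsClosedImmersion.lift_fac _ _ _

noncomputable def coneIsLimit : IsLimit (cone I hle) where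
  lift s := Over.homMk (coneLift I hsup s) (coneLift_fac I hsup s)
  fac s J := by
    ext
    have h1 : (s.π.app J).left ≫ J.unop.1.subschemeι = s.pt.hom := Over.w (s.π.app J)
    change coneLift I hsup s ≫ Scheme.IdealSheafData.inclusion (hle J.unop.1 J.unop.2) =
      (s.π.app J).left
    apply (cancel_mono (J.unop.1.subschemeι)).mp
    rw [Category.assoc, Scheme.IdealSheafData.inclusion_subschemeι, coneLift_fac]
    exact h1.symm
  uniq s m hm := by
    ext
    have h1 : m.left ≫ I.subschemeι = s.pt.hom := Over.w m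
    change m.left = coneLift I hsup s
    apply (cancel_mono I.subschemeι).mp
    rw [coneLift_fac]
    exact h1

end SubSys

theorem isClosedImmersion_inclusion {I J : Y.IdealSheafData} (h : I ≤ J) :
    IsClosedImmersion (Scheme.IdealSheafData.inclusion h) := by
  have : IsClosedImmersion (Scheme.IdealSheafData.inclusion h ≫ I.subschemeι) := by
    rw [Scheme.IdealSheafData.inclusion_subschemeι]; infer_instance
  exact IsClosedImmersion.of_comp (Scheme.IdealSheafData.inclusion h) I.subschemeι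

theorem exists_proper_system {X S : Scheme.{u}} (f : X ⟶ S) [IsProper f] [CompactSpace S]
    [QuasiSeparatedSpace S] :
    ∃ (I : Type u) (_ : SmallCategory I) (_ : IsCofiltered I) (D : I ⥤ Over S) (c : Limits.Cone D)
      (_ : Limits.IsLimit c) (e : c.pt ≅ Over.mk f),
      (∀ (i j : I) (a : i ⟶ j), IsClosedImmersion (D.map a).left) ∧
      (∀ i, IsClosedImmersion (c.π.app i).left ∧ IsProper (D.obj i).hom ∧
        LocallyOfFinitePresentation (D.obj i).hom) := by
  classical
  obtain ⟨X₁, f₁, j₀, h1, h2, h3, h4, h5⟩ := Groth.Agent.S7395.result f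
  haveI := h1; haveI := h2; haveI := h3; haveI := h4
  haveI : CompactSpace X₁ := QuasiCompact.compactSpace_of_compactSpace f₁
  haveI : QuasiSeparatedSpace X₁ := quasiSeparatedSpace_of_quasiSeparated f₁
  let I : X₁.IdealSheafData := j₀.ker
  let e : X ≅ I.subscheme := asIso j₀.toImage
  have he : e.hom ≫ I.subschemeι = j₀ := j₀.toImage_imageι
  have hI : I.subschemeι ≫ f₁ = e.inv ≫ f := by
    rw [Iso.eq_inv_comp, ← h5, ← Category.assoc, he]
  haveI : IsProper (I.subschemeι ≫ f₁) := by rw [hI]; infer_instance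
  obtain ⟨J₀, hJ₀, hJ₀p⟩ := Groth.Agent.Lib.T2H6.PropFP.exists_ft_isProper f₁ I
  let 𝒥 : Set X₁.IdealSheafData := {J | J ∈ ftSub I ∧ J₀ ≤ J}
  have hle : ∀ J ∈ 𝒥, J ≤ I := fun J hJ => hJ.1.1
  have hsup : I ≤ sSup 𝒥 := by
    conv_lhs => rw [← sSup_ftSub I]
    refine sSup_le fun J hJ => ?_
    exact le_trans le_sup_left (le_sSup (show J ⊔ J₀ ∈ 𝒥 from ⟨sup_mem_ftSub hJ hJ₀, le_sup_right⟩))
  haveI : Nonempty 𝒥 := ⟨⟨J₀, hJ₀, le_rfl⟩⟩
  haveI : IsDirected 𝒥 (· ≤ ·) :=
    ⟨fun a b => ⟨⟨a.1 ⊔ b.1, sup_mem_ftSub a.2.1 b.2.1, a.2.2.trans le_sup_left⟩,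
      show a.1 ≤ a.1 ⊔ b.1 from le_sup_left, show b.1 ≤ a.1 ⊔ b.1 from le_sup_right⟩⟩
  haveI : IsCofiltered (𝒥 : Type u)ᵒᵖ := inferInstance
  have hconn : IsConnected (𝒥 : Type u)ᵒᵖ := IsCofiltered.isConnected _
  have hlim : IsLimit ((Over.map f₁).mapCone (cone I hle)) := by
    refine isLimitOfReflects (Over.forget S) ?_
    exact isLimitOfPreserves (Over.forget X₁) (coneIsLimit I hle hsup)
  refine ⟨(𝒥 : Type u)ᵒᵖ, inferInstance, inferInstance, diag 𝒥 ⋙ Over.map f₁,
    (Over.map f₁).mapCone (cone I hle), hlim, ?_, fun i j a => ?_, fun i => ⟨?_, ?_, ?_⟩⟩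
  · refine (Over.isoMk (f := Over.mk f) (g := Over.mk (I.subschemeι ≫ f₁)) e ?_).symm
    change e.hom ≫ I.subschemeι ≫ f₁ = f
    rw [reassoc_of% he, h5]
  · change IsClosedImmersion ((diag 𝒥).map a).left
    rw [diag_map_left]
    exact isClosedImmersion_inclusion _
  · change IsClosedImmersion (Scheme.IdealSheafData.inclusion (hle i.unop.1 i.unop.2))
    exact isClosedImmersion_inclusion _
  · change IsProper (i.unop.1.subschemeι ≫ f₁)
    have hle₀ : J₀ ≤ i.unop.1 := i.unop.2.2
    haveI := isClosedImmersion_inclusion hle₀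
    have : i.unop.1.subschemeι ≫ f₁ =
        Scheme.IdealSheafData.inclusion hle₀ ≫ J₀.subschemeι ≫ f₁ := by
      rw [← Category.assoc, Scheme.IdealSheafData.inclusion_subschemeι]
    rw [this]
    infer_instance
  · change LocallyOfFinitePresentation (i.unop.1.subschemeι ≫ f₁)
    haveI : LocallyOfFinitePresentation i.unop.1.subschemeι :=
      Groth.Agent.Lib.Helper22.FTLimit.locallyOfFinitePresentation_subschemeι _ i.unop.2.1.2
    infer_instance

end Groth.Agent.Lib.T2H6.PropLim
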