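import Mathlib
import Groth.Agent.Lib.T2H6PropLim

/-!
# Finiteness descends to a finitely presented closed neighbourhood (helper6, team 2)

`exists_ft_isFinite`: `f₁ : X₁ ⟶ S` separated of finite type over a qcqs base, `I` an ideal sheaf
with `V(I) ⟶ S` finite; then some finite type `J ≤ I` has `V(J) ⟶ S` finite.  `exists_finite_fp`
and `exists_finite_system` (Stacks 09YY/09YZ for finite morphisms).
-/

set_option autoImplicit false
universe u

namespace Groth.Agent.Lib.T2H6.FinFP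

open AlgebraicGeometry CategoryTheory TopologicalSpace Limits
open Groth.Agent.Lib.Helper22.FTIdeal Groth.Agent.Lib.T2H6.PropLim

/-- every subset of a fibre of a morphism of finite type is compact. -/
theorem isCompact_of_subset_fiber {X S : Scheme.{u}} (f : X ⟶ S) [LocallyOfFiniteType f]
    [QuasiCompact f] (s : S) (A : Set X) (hA : A ⊆ f ⁻¹' {s}) : IsCompact A := by
  haveI : LocallyOfFiniteType (f.fiberToSpecResidueField s) :=
    MorphismProperty.pullback_snd (P := @LocallyOfFiniteType) _ _ inferInstance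
  haveI : IsLocallyNoetherian (f.fiber s) :=
    LocallyOfFiniteType.isLocallyNoetherian (f.fiberToSpecResidueField s)
  haveI : IsNoetherian (f.fiber s) := {}
  have h1 : IsCompact ((f.fiberι s) ⁻¹' A) := NoetherianSpace.isCompact _
  have h2 : A = f.fiberι s '' ((f.fiberι s) ⁻¹' A) := by
    rw [Set.image_preimage_eq_inter_range, f.range_fiberι, Set.inter_eq_left.mpr hA]
  rw [h2]
  exact h1.image (f.fiberι s).continuous

theorem finite_preimage_of_isFinite_restrict {X S : Scheme.{u}} (g : X ⟶ S) (W : S.Opens)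
    [IsFinite (g ∣_ W)] (s : S) (hs : s ∈ W) : (g ⁻¹' {s}).Finite := by
  have h1 : ((g ∣_ W) ⁻¹' {⟨s, hs⟩}).Finite := (g ∣_ W).finite_preimage_singleton _
  refine (h1.image (g ⁻¹ᵁ W).ι).subset ?_
  intro x hx
  have hxW : x ∈ g ⁻¹ᵁ W := by
    show g x ∈ W
    rw [show g x = s from hx]; exact hs
  refine ⟨⟨x, hxW⟩, ?_, rfl⟩
  show (g ∣_ W) ⟨x, hxW⟩ = ⟨s, hs⟩
  apply Subtype.ext
  rw [morphismRestrict_base_coe]
  exact hx

theorem exists_ft_isFinite {X₁ S : Scheme.{u}} (f₁ : X₁ ⟶ S) [CompactSpace S]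
    [QuasiSeparatedSpace S] [IsSeparated f₁] [LocallyOfFiniteType f₁] [QuasiCompact f₁]
    (I : X₁.IdealSheafData) [IsFinite (I.subschemeι ≫ f₁)] :
    ∃ J ∈ ftSub I, IsFinite (J.subschemeι ≫ f₁) := by
  classical
  haveI : CompactSpace X₁ := QuasiCompact.compactSpace_of_compactSpace f₁
  haveI : QuasiSeparatedSpace X₁ := quasiSeparatedSpace_of_quasiSeparated f₁
  obtain ⟨J₀, hJ₀, hJ₀p⟩ := Groth.Agent.Lib.T2H6.PropFP.exists_ft_isProper f₁ I
  let κ := {J : X₁.IdealSheafData // J ∈ ftSub I ∧ J₀ ≤ J}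
  haveI : Nonempty κ := ⟨⟨J₀, hJ₀, le_rfl⟩⟩
  have hsupκ : (I.support : Set X₁) = ⋂ J : κ, (J.1.support : Set X₁) := by
    apply Set.Subset.antisymm
    · exact Set.subset_iInter fun J => Scheme.IdealSheafData.support_antitone J.2.1.1
    · conv_rhs => rw [← sSup_ftSub I, Scheme.IdealSheafData.support_sSup]
      intro x hx
      simp only [Closeds.coe_iInf, Set.mem_iInter]
      intro J hJ
      have := Set.mem_iInter.mp hx ⟨J ⊔ J₀, sup_mem_ftSub hJ hJ₀, le_sup_right⟩
      exact Scheme.IdealSheafData.support_antitone (le_sup_left : J ≤ J ⊔ J₀) this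
  have hdir : Directed (· ⊇ ·) (fun J : κ => (J.1.support : Set X₁)) := by
    intro a b
    refine ⟨⟨a.1 ⊔ b.1, sup_mem_ftSub a.2.1 b.2.1, a.2.2.trans le_sup_left⟩, ?_, ?_⟩
    · exact Scheme.IdealSheafData.support_antitone (le_sup_left : a.1 ≤ a.1 ⊔ b.1)
    · exact Scheme.IdealSheafData.support_antitone (le_sup_right : b.1 ≤ a.1 ⊔ b.1)
  -- properness for `J ∈ κ`
  have hprop : ∀ J : κ, IsProper (J.1.subschemeι ≫ f₁) := by
    intro J
    haveI := isClosedImmersion_inclusion J.2.2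
    have : J.1.subschemeι ≫ f₁ =
        Scheme.IdealSheafData.inclusion J.2.2 ≫ J₀.subschemeι ≫ f₁ := by
      rw [← Category.assoc, Scheme.IdealSheafData.inclusion_subschemeι]
    rw [this]
    infer_instance
  -- fibres of `V(K)`
  have hfib : ∀ (K : X₁.IdealSheafData) (s : S), ((K.subschemeι ≫ f₁) ⁻¹' {s}).Finite ↔
      (f₁ ⁻¹' {s} ∩ (K.support : Set X₁)).Finite := by
    intro K s
    have himg : K.subschemeι '' ((K.subschemeι ≫ f₁) ⁻¹' {s}) =
        f₁ ⁻¹' {s} ∩ (K.support : Set X₁) := by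
      rw [← K.range_subschemeι]
      ext x
      constructor
      · rintro ⟨v, hv, rfl⟩
        exact ⟨hv, v, rfl⟩
      · rintro ⟨hx, v, rfl⟩
        exact ⟨v, hx, rfl⟩
    rw [← himg]
    exact (Set.finite_image_iff K.subschemeι.isClosedEmbedding.injective.injOn).symm
  -- bad loci
  let B : κ → Set S := fun J => {s | ¬ (f₁ ⁻¹' {s} ∩ (J.1.support : Set X₁)).Finite}
  have hBc : ∀ J, IsClosed (B J) := by
    intro J
    rw [← isOpen_compl_iff, isOpen_iff_forall_mem_open]
    intro s hs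
    have hs' : (f₁ ⁻¹' {s} ∩ (J.1.support : Set X₁)).Finite := not_not.mp hs
    haveI := hprop J
    obtain ⟨W, hsW, hW⟩ := exists_isFinite_morphismRestrict_of_finite_preimage_singleton
      (J.1.subschemeι ≫ f₁) s ((hfib J.1 s).mpr hs')
    refine ⟨W, ?_, W.2, hsW⟩
    intro s' hs'W
    show ¬ ¬ _
    rw [not_not, ← hfib]
    exact finite_preimage_of_isFinite_restrict _ W s' hs'W
  have hBdir : Directed (· ⊇ ·) B := by
    intro a b
    obtain ⟨c, hca, hcb⟩ := hdir a b
    refine ⟨c, ?_, ?_⟩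
    · intro s hs hfin
      exact hs (hfin.subset (Set.inter_subset_inter_right _ hca))
    · intro s hs hfin
      exact hs (hfin.subset (Set.inter_subset_inter_right _ hcb))
  have hBempty : ⋂ J, B J = ∅ := by
    rw [Set.eq_empty_iff_forall_notMem]
    intro s hs
    have hO : IsCompact (f₁ ⁻¹' {s} \ (I.support : Set X₁)) :=
      isCompact_of_subset_fiber f₁ s _ Set.sdiff_subset
    obtain ⟨J, hJ⟩ := hO.elim_directed_family_closed (fun J : κ => (J.1.support : Set X₁))
      (fun J => J.1.support.isClosed)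
      (by rw [← hsupκ]; exact Set.sdiff_inter_self) hdir
    have hsub : f₁ ⁻¹' {s} ∩ (J.1.support : Set X₁) ⊆ f₁ ⁻¹' {s} ∩ (I.support : Set X₁) := by
      rintro x ⟨hx1, hx2⟩
      refine ⟨hx1, ?_⟩
      by_contra hxI
      have : x ∈ (f₁ ⁻¹' {s} \ (I.support : Set X₁)) ∩ (J.1.support : Set X₁) := ⟨⟨hx1, hxI⟩, hx2⟩
      rw [hJ] at this
      exact this
    have hIfin : (f₁ ⁻¹' {s} ∩ (I.support : Set X₁)).Finite :=
      (hfib I s).mp ((I.subschemeι ≫ f₁).finite_preimage_singleton s)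
    exact (Set.mem_iInter.mp hs J) (hIfin.subset hsub)
  obtain ⟨J, hJ⟩ := (isCompact_univ (X := S)).elim_directed_family_closed B hBc
    (by rw [hBempty, Set.inter_empty]) hBdir
  rw [Set.univ_inter] at hJ
  refine ⟨J.1, J.2.1, ?_⟩
  haveI := hprop J
  haveI : LocallyQuasiFinite (J.1.subschemeι ≫ f₁) := by
    rw [locallyQuasiFinite_iff_finite_preimage_singleton]
    intro s
    rw [hfib]
    by_contra hcon
    have : s ∈ B J := hcon
    rw [hJ] at this
    exact this
  exact IsFinite.of_isProper_of_locallyQuasiFinite _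

theorem exists_finite_fp {X S : Scheme.{u}} (f : X ⟶ S) [IsFinite f]
    [CompactSpace S] [QuasiSeparatedSpace S] :
    ∃ (X' : Scheme.{u}) (f' : X' ⟶ S) (j : X ⟶ X'), IsFinite f' ∧ LocallyOfFinitePresentation f' ∧
      IsClosedImmersion j ∧ j ≫ f' = f := by
  obtain ⟨X₁, f₁, j₀, h1, h2, h3, h4, h5⟩ := Groth.Agent.S7395.result f
  haveI := h1; haveI := h2; haveI := h3; haveI := h4
  haveI : CompactSpace X₁ := QuasiCompact.compactSpace_of_compactSpace f₁
  haveI : QuasiSeparatedSpace X₁ := quasiSeparatedSpace_of_quasiSeparated f₁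
  let I : X₁.IdealSheafData := j₀.ker
  let e : X ≅ I.subscheme := asIso j₀.toImage
  have he : e.hom ≫ I.subschemeι = j₀ := j₀.toImage_imageι
  have hI : I.subschemeι ≫ f₁ = e.inv ≫ f := by
    rw [Iso.eq_inv_comp, ← h5, ← Category.assoc, he]
  haveI : IsFinite (I.subschemeι ≫ f₁) := by rw [hI]; infer_instance
  obtain ⟨J, hJ, hJf⟩ := exists_ft_isFinite f₁ I
  haveI : LocallyOfFinitePresentation J.subschemeι :=
    Groth.Agent.Lib.Helper22.FTLimit.locallyOfFinitePresentation_subschemeι J hJ.2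
  haveI := isClosedImmersion_inclusion hJ.1
  refine ⟨J.subscheme, J.subschemeι ≫ f₁, e.hom ≫ Scheme.IdealSheafData.inclusion hJ.1,
    hJf, inferInstance, inferInstance, ?_⟩
  rw [Category.assoc, ← Category.assoc (Scheme.IdealSheafData.inclusion hJ.1),
    Scheme.IdealSheafData.inclusion_subschemeι, ← Category.assoc, he, h5]

theorem exists_finite_system {X S : Scheme.{u}} (f : X ⟶ S) [IsFinite f]
    [CompactSpace S] [QuasiSeparatedSpace S] :
    ∃ (I : Type u) (_ : Preorder I) (_ : IsDirected I (fun a b => a ≤ b)) (_ : Nonempty I)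
      (D : Iᵒᵖ ⥤ Over S) (c : Limits.Cone D) (_ : Limits.IsLimit c),
      (∀ i, IsFinite (D.obj i).hom ∧ LocallyOfFinitePresentation (D.obj i).hom) ∧
      (∀ (i j : Iᵒᵖ) (a : i ⟶ j), IsClosedImmersion (D.map a).left) ∧
      Nonempty (c.pt ≅ Over.mk f) := by
  classical
  obtain ⟨X₁, f₁, j₀, h1, h2, h3, h4, h5⟩ := Groth.Agent.S7395.result f
  haveI := h1; haveI := h2; haveI := h3; haveI := h4
  haveI : CompactSpace X₁ := QuasiCompact.compactSpace_of_compactSpace f₁
  haveI : QuasiSeparatedSpace X₁ := quasiSeparatedSpace_of_quasiSeparated f₁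
  let I : X₁.IdealSheafData := j₀.ker
  let e : X ≅ I.subscheme := asIso j₀.toImage
  have he : e.hom ≫ I.subschemeι = j₀ := j₀.toImage_imageι
  have hI : I.subschemeι ≫ f₁ = e.inv ≫ f := by
    rw [Iso.eq_inv_comp, ← h5, ← Category.assoc, he]
  haveI : IsFinite (I.subschemeι ≫ f₁) := by rw [hI]; infer_instance
  obtain ⟨J₀, hJ₀, hJ₀p⟩ := exists_ft_isFinite f₁ I
  let 𝒥 : Set X₁.IdealSheafData := {J | J ∈ ftSub I ∧ J₀ ≤ J}
  have hle : ∀ J ∈ 𝒥, J ≤ I := fun J hJ => hJ.1.1
  have hsup : I ≤ sSup 𝒥 := by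
    conv_lhs => rw [← sSup_ftSub I]
    refine sSup_le fun J hJ => ?_
    exact le_trans le_sup_left (le_sSup (show J ⊔ J₀ ∈ 𝒥 from ⟨sup_mem_ftSub hJ hJ₀, le_sup_right⟩))
  haveI : Nonempty 𝒥 := ⟨⟨J₀, hJ₀, le_rfl⟩⟩
  haveI : IsDirected 𝒥 (· ≤ ·) :=
    ⟨fun a b => ⟨⟨a.1 ⊔ b.1, sup_mem_ftSub a.2.1 b.2.1, a.2.2.trans le_sup_left⟩,
      show a.1 ≤ a.1 ⊔ b.1 from le_sup_left, show b.1 ≤ a.1 ⊔ b.1 from le_sup_right⟩⟩
  haveI : IsCofiltered (𝒥 : Type u)ᵒᵖ := inferInstance
  have hconn : IsConnected (𝒥 : Type u)ᵒᵖ := IsCofiltered.isConnected _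
  have hlim : IsLimit ((Over.map f₁).mapCone (cone I hle)) := by
    refine isLimitOfReflects (Over.forget S) ?_
    exact isLimitOfPreserves (Over.forget X₁) (coneIsLimit I hle hsup)
  refine ⟨(𝒥 : Type u), inferInstance, inferInstance, inferInstance, PropLim.diag 𝒥 ⋙ Over.map f₁,
    (Over.map f₁).mapCone (cone I hle), hlim, fun i => ⟨?_, ?_⟩, fun i j a => ?_, ⟨?_⟩⟩
  · change IsFinite (i.unop.1.subschemeι ≫ f₁)
    have hle₀ : J₀ ≤ i.unop.1 := i.unop.2.2
    haveI := isClosedImmersion_inclusion hle₀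
    have : i.unop.1.subschemeι ≫ f₁ =
        Scheme.IdealSheafData.inclusion hle₀ ≫ J₀.subschemeι ≫ f₁ := by
      rw [← Category.assoc, Scheme.IdealSheafData.inclusion_subschemeι]
    rw [this]
    infer_instance
  · change LocallyOfFinitePresentation (i.unop.1.subschemeι ≫ f₁)
    haveI : LocallyOfFinitePresentation i.unop.1.subschemeι :=
      Groth.Agent.Lib.Helper22.FTLimit.locallyOfFinitePresentation_subschemeι _ i.unop.2.1.2
    infer_instance
  · change IsClosedImmersion ((PropLim.diag 𝒥).map a).left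
    rw [PropLim.diag_map_left]
    exact isClosedImmersion_inclusion _
  · refine (Over.isoMk (f := Over.mk f) (g := Over.mk (I.subschemeι ≫ f₁)) e ?_).symm
    change e.hom ≫ I.subschemeι ≫ f₁ = f
    rw [reassoc_of% he, h5]

end Groth.Agent.Lib.T2H6.FinFP
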