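import Mathlib
import Groth.Agent.Lib.Helper16ClosedEmb
import Groth.Prelude.Def_Coh
import Groth.Agent.Lib.Helper21ModCoh

/-!
# T2H5ClosedLin: the natural comparison `H^p(Z, F) ≃ H^p(X, i_* F)` for a closed embedding (helper5)
-/

set_option autoImplicit false
set_option linter.style.haveILetI false
universe u
open CategoryTheory CategoryTheory.Limits Opposite TopologicalSpace Abelian

namespace Groth.Agent.Lib.T2H5.ClosedLin

open Groth.Agent.Lib.Helper16.ClosedEmb

section Top

variable {Z X : TopCat.{u}} (i : Z ⟶ X) (hi : Topology.IsClosedEmbedding i)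

include hi in
/-- a bijective comparison on cohomology, natural in the sheaf -/
theorem exists_theta (p : ℕ) :
    ∃ θ : ∀ F : CohTop.Ab Z, CohTop.H F p →+ CohTop.H ((CohTop.push i).obj F) p,
      (∀ F, Function.Bijective (θ F)) ∧
      ∀ (F F' : CohTop.Ab Z) (φ : F ⟶ F') (x : CohTop.H F p),
        θ F' (Sheaf.H.map φ p x) = Sheaf.H.map ((CohTop.push i).map φ) p (θ F x) := by
  haveI := push_full i hi
  haveI := push_faithful i hi
  haveI := push_preservesFiniteColimits i hi
  haveI := push_preservesFiniteLimits i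
  haveI := push_preservesInjectiveObjects i
  refine ⟨fun F => ((Ext.mk₀ (uZ i)).precomp ((CohTop.push i).obj F) (zero_add p)).comp
    ((CohTop.push i).mapExtAddHom (constZ Z) F p), fun F => ?_, fun F F' φ x => ?_⟩
  · have h1 := Functor.mapExt_bijective_of_preservesInjectiveObjects.{u, u} (CohTop.push i)
      (constZ Z) F p
    have h2 := Groth.Agent.Lib.Helper16.ExtPrecomp.precomp_bijective.{u} (CohTop.push i) (uZ i)
      (uZ_precomp_bijective i hi) p F
    exact h2.comp h1
  · change (Ext.mk₀ (uZ i)).comp ((x.comp (Ext.mk₀ φ) (add_zero p)).mapExactFunctor (CohTop.push i))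
        (zero_add p) =
      ((Ext.mk₀ (uZ i)).comp (x.mapExactFunctor (CohTop.push i)) (zero_add p)).comp
        (Ext.mk₀ ((CohTop.push i).map φ)) (add_zero p)
    rw [Ext.mapExactFunctor_comp, Ext.mapExactFunctor_mk₀]
    exact (Ext.comp_assoc _ _ _ (zero_add p) (add_zero p) (by omega)).symm

end Top

section Sch

open AlgebraicGeometry

variable {X Y : Scheme.{u}} (i : X ⟶ Y)

/-- multiplication by a global function on a direct image -/
theorem smulAb_pushforward (M : X.Modules) (r : Coh.Γtop Y) :
    Coh.smulAb ((Scheme.Modules.pushforward i).obj M) r =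
    (CohTop.push i.base).map (Coh.smulAb M (i.appTop.hom r)) := by
  ext U m
  rw [Coh.smulAb_app]
  change _ = (Coh.smulAb M (i.appTop.hom r)).hom.app (op (i ⁻¹ᵁ U.unop)) m
  rw [Coh.smulAb_app]
  change @HSMul.hSMul (X.ringCatSheaf.obj.obj (op (i ⁻¹ᵁ U.unop)))
    (M.val.obj (op (i ⁻¹ᵁ U.unop))) (M.val.obj (op (i ⁻¹ᵁ U.unop))) _
    ((i.app U.unop).hom (Coh.resTop Y U r)) m = _
  congr 1
  exact ConcreteCategory.congr_hom (i.naturality (homOfLE (le_top : U.unop ≤ ⊤)).op) r

/-- for a closed immersion of schemes over `Spec A`, the cohomology of `M` and of `i_* M` are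
isomorphic as `A`-modules -/
theorem nonempty_linearEquiv (A : Type u) [CommRing A] [X.Over (Spec (CommRingCat.of A))]
    [Y.Over (Spec (CommRingCat.of A))] [IsClosedImmersion i]
    (hi : i ≫ (Y ↘ Spec (CommRingCat.of A)) = X ↘ Spec (CommRingCat.of A))
    (M : X.Modules) (p : ℕ) :
    Nonempty (Coh.HH X M p ≃ₗ[A] Coh.HH Y ((Scheme.Modules.pushforward i).obj M) p) := by
  obtain ⟨θ, hθ, hnat⟩ := exists_theta i.base i.isClosedEmbedding p
  let t : Coh.HH X M p → Coh.HH Y ((Scheme.Modules.pushforward i).obj M) p := θ (Coh.toAb M)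
  suffices hs : ∀ (c : A) (x : Coh.HH X M p), t (c • x) = c • t x from
    ⟨LinearEquiv.ofBijective
      ({ toFun := t
         map_add' := map_add (θ (Coh.toAb M))
         map_smul' := hs } : Coh.HH X M p →ₗ[A] Coh.HH Y ((Scheme.Modules.pushforward i).obj M) p)
      (hθ (Coh.toAb M))⟩
  intro c x
  have hr : Coh.toGlobal (X ↘ Spec (CommRingCat.of A)) c =
      i.appTop.hom (Coh.toGlobal (Y ↘ Spec (CommRingCat.of A)) c) := by
    rw [← hi]
    rfl
  change θ (Coh.toAb M) (Sheaf.H.map (Coh.smulAb M (Coh.toGlobal (X ↘ Spec (CommRingCat.of A)) c)) p x) =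
    Sheaf.H.map (Coh.smulAb ((Scheme.Modules.pushforward i).obj M)
      (Coh.toGlobal (Y ↘ Spec (CommRingCat.of A)) c)) p (θ (Coh.toAb M) x)
  rw [hnat, hr, smulAb_pushforward]
  rfl

/-- the direct image along a closed immersion preserves epimorphisms of modules -/
theorem epi_pushforward_map [IsClosedImmersion i] {M N : X.Modules} (g : M ⟶ N) [Epi g] :
    Epi ((Scheme.Modules.pushforward i).map g) := by
  have h0 : (SheafOfModules.toSheaf.{u} X.ringCatSheaf).PreservesEpimorphisms :=
    preservesEpimorphisms_of_preservesColimitsOfShape _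
  haveI h1 : Epi ((SheafOfModules.toSheaf X.ringCatSheaf).map g) :=
    @Functor.map_epi _ _ _ _ (SheafOfModules.toSheaf.{u} X.ringCatSheaf) h0 _ _ g ‹Epi g›
  have h2 : Epi ((CohTop.push i.base).map ((SheafOfModules.toSheaf X.ringCatSheaf).map g)) :=
    push_map_epi i.base i.isClosedEmbedding _
  have h3 : Epi ((SheafOfModules.toSheaf Y.ringCatSheaf).map
      ((Scheme.Modules.pushforward i).map g)) := h2
  exact (SheafOfModules.toSheaf Y.ringCatSheaf).epi_of_epi_map h3

/-- the direct image along a closed immersion is exact -/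
theorem shortExact_map_pushforward [IsClosedImmersion i] (S : ShortComplex X.Modules)
    (hS : S.ShortExact) : (S.map (Scheme.Modules.pushforward i)).ShortExact := by
  haveI : (Scheme.Modules.pushforward i).Additive :=
    (Scheme.Modules.pullbackPushforwardAdjunction i).right_adjoint_additive
  haveI : PreservesLimitsOfSize.{0, 0} (Scheme.Modules.pushforward i) :=
    (Scheme.Modules.pullbackPushforwardAdjunction i).rightAdjoint_preservesLimits
  haveI : PreservesFiniteLimits (Scheme.Modules.pushforward i) :=
    PreservesLimitsOfSize.preservesFiniteLimits _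
  haveI : (Scheme.Modules.pushforward i).PreservesEpimorphisms :=
    ⟨fun g _ => epi_pushforward_map i g⟩
  haveI : (Scheme.Modules.pushforward i).PreservesHomology :=
    Functor.preservesHomology_of_preservesEpis_and_kernels _
  haveI : PreservesFiniteColimits (Scheme.Modules.pushforward i) :=
    Functor.preservesFiniteColimits_of_preservesHomology _
  exact hS.map_of_exact _

end Sch

end Groth.Agent.Lib.T2H5.ClosedLin
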