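import Groth.Agent.Lib.Helper23QCohSum
import Groth.Agent.Lib.Helper23FinType2

/-!
# Finite coproducts of quasi-coherent modules of finite type (T2H5)
-/

set_option autoImplicit false
universe u

namespace Groth.Agent.Lib.T2H5.CohSigma

open CategoryTheory CategoryTheory.Limits AlgebraicGeometry
open Groth.Agent.Lib.Helper23.QCohLocal Groth.Agent.Lib.Helper23.FinType

attribute [local instance] Abelian.hasFiniteBiproducts

variable {X : Scheme.{u}}

/-- finite coproducts of quasi-coherent modules are quasi-coherent. -/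
theorem isQuasicoherent_sigma {r : ℕ} (E : Fin r → X.Modules) (hE : ∀ j, (E j).IsQuasicoherent) :
    (∐ E).IsQuasicoherent :=
  (SheafOfModules.isQuasicoherent X.ringCatSheaf).prop_of_iso (biproduct.isoCoproduct E)
    (isQuasicoherent_biproduct E hE)

/-- the map on sections over `U`, as a linear map. -/
noncomputable def appLin {M N : X.Modules} (φ : M ⟶ N) (U : X.Opens) :
    Γ(M, U) →ₗ[Γ(X, U)] Γ(N, U) where
  toFun := φ.app U
  map_add' := map_add _
  map_smul' r x := Scheme.Modules.Hom.app_smul φ r x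

/-- the map on sections over `U`, additively in the morphism. -/
noncomputable def appAdd (M N : X.Modules) (U : X.Opens) : (M ⟶ N) →+ (Γ(M, U) →+ Γ(N, U)) :=
  AddMonoidHom.mk' (fun φ => (φ.app U).hom) (fun _ _ => rfl)

/-- finite coproducts of quasi-coherent modules of finite type are of finite type. -/
theorem isFiniteType_sigma {r : ℕ} (E : Fin r → X.Modules) (hE : ∀ j, (E j).IsQuasicoherent)
    (h : ∀ j, SheafOfModules.IsFiniteType (R := X.ringCatSheaf) (E j)) :
    SheafOfModules.IsFiniteType (R := X.ringCatSheaf) (∐ E) := by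
  classical
  refine (@isFiniteType_iff_forall_affine X (∐ E) (isQuasicoherent_sigma E hE)).2 ?_
  intro U hU
  have hfin : ∀ j, Module.Finite Γ(X, U) Γ(E j, U) := fun j =>
    (@isFiniteType_iff_forall_affine X (E j) (hE j)).1 (h j) U hU
  have hsum : ∑ j, Sigma.π E j ≫ Sigma.ι E j = 𝟙 (∐ E) := by
    apply Sigma.hom_ext
    intro b
    rw [Preadditive.comp_sum, Category.comp_id]
    rw [Finset.sum_eq_single b]
    · rw [← Category.assoc, Sigma.ι_π_eq_id, Category.id_comp]
    · intro c _ hc
      rw [← Category.assoc, Sigma.ι_π_of_ne E (Ne.symm hc), zero_comp]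
    · intro hb
      exact absurd (Finset.mem_univ b) hb
  have key : ∀ x : Γ(∐ E, U), x = ∑ j, appLin (Sigma.ι E j) U (appLin (Sigma.π E j) U x) := by
    intro x
    have h1 : ∀ j, appLin (Sigma.ι E j) U (appLin (Sigma.π E j) U x) =
        appAdd (∐ E) (∐ E) U (Sigma.π E j ≫ Sigma.ι E j) x := fun j => rfl
    simp only [h1]
    rw [← AddMonoidHom.finsetSum_apply, ← map_sum, hsum]
    rfl
  refine ⟨?_⟩
  have hle : (⊤ : Submodule Γ(X, U) Γ(∐ E, U)) ≤ ⨆ j, LinearMap.range (appLin (Sigma.ι E j) U) := by
    intro x _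
    rw [key x]
    refine Submodule.sum_mem _ fun j _ => ?_
    exact Submodule.mem_iSup_of_mem j ⟨_, rfl⟩
  rw [← top_le_iff.mp hle]
  refine Submodule.fg_iSup _ fun j => ?_
  rw [LinearMap.range_eq_map]
  exact Submodule.FG.map _ (hfin j).1

end Groth.Agent.Lib.T2H5.CohSigma
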