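import Mathlib
import Groth.Prelude.Def_Dual3
import Groth.Prelude.Def_ClSub2
import Groth.Agent.Lib.Helper13PullbackUnit
import Groth.Agent.Lib.Helper20StalkExact
import Groth.Agent.Lib.Helper7ConormalP
import Groth.Agent.Lib.Helper20PullbackAff
import Groth.Agent.Lib.Helper23QCohAbelian
import Groth.Agent.Lib.Helper23ModLocal
import Groth.Agent.Lib.Helper23FinTypeLocal
import Groth.Agent.Lib.Helper23FinType2
import Groth.Agent.Lib.Helper20FittSheaf
import Groth.Agent.Lib.Helper20OmegaUnr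
import Groth.Agent.Lib.Helper20ZClos4

/-!
# The submodule sheaf `I · F` (`Dual3.idealMul`) on affine opens (helper5)

Namespace `Groth.Agent.Lib.T2H5.IdealMul`.
-/

set_option autoImplicit false
set_option linter.style.haveILetI false
set_option linter.unusedSectionVars false
universe u
open CategoryTheory CategoryTheory.Limits AlgebraicGeometry Opposite TopologicalSpace TensorProduct

namespace Groth.Agent.Lib.T2H5.IdealMul

open Groth.Agent.Helper13PullbackUnit Groth.Agent.Lib.Helper20.StalkExact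
open Groth.Agent.Lib.Helper23.ModLocal Groth.Agent.Lib.Helper23.QCohLocal Groth.Agent.Lib.Helper23.FinType

variable {X : Scheme.{u}}

/-- sections of a kernel -/
theorem exists_kernel_app_eq {M N : X.Modules} (f : M ⟶ N) (V : X.Opens) (t : Γ(M, V))
    (ht : f.app V t = 0) : ∃ r : Γ(kernel f, V), (kernel.ι f).app V r = t := by
  haveI : (secF (X := X) V).PreservesZeroMorphisms := ⟨fun _ _ => rfl⟩
  have h0 : (ShortComplex.mk (kernel.ι f) f (kernel.condition f)).Exact := ShortComplex.exact_kernel f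
  have h1 := h0.map_of_mono_of_preservesKernel (secF V) inferInstance inferInstance
  rw [ShortComplex.ab_exact_iff] at h1
  exact h1 t ht

variable (I : X.IdealSheafData)

/-- the unit `F ⟶ i_* i^* F` for the closed subscheme cut out by `I` -/
noncomputable abbrev unit (F : X.Modules) :
    F ⟶ (Scheme.Modules.pushforward I.subschemeι).obj ((Scheme.Modules.pullback I.subschemeι).obj F) :=
  (Scheme.Modules.pullbackPushforwardAdjunction I.subschemeι).unit.app F

theorem idealMulι_unit (F : X.Modules) : Dual3.idealMulι I F ≫ unit I F = 0 :=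
  kernel.condition _

theorem unit_app_smul_eq_zero (F : X.Modules) (U : X.affineOpens) (a : Γ(X, U.1)) (ha : a ∈ I.ideal U)
    (m : Γ(F, U.1)) : (unit I F).app U.1 (a • m) = 0 := by
  rw [Scheme.Modules.Hom.app_smul, pushforward_smul]
  have h0 : I.subschemeι.app U.1 a = 0 := by
    have : a ∈ RingHom.ker (I.subschemeι.app U.1).hom := by rw [I.ker_subschemeι_app U]; exact ha
    exact this
  rw [h0]
  exact zero_smul Γ(I.subscheme, I.subschemeι ⁻¹ᵁ U.1)
    (show Γ((Scheme.Modules.pullback I.subschemeι).obj F, I.subschemeι ⁻¹ᵁ U.1) from (unit I F).app U.1 m)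

theorem unit_app_eq_zero_of_mem (F : X.Modules) (U : X.affineOpens) (s : Γ(F, U.1))
    (hs : s ∈ (I.ideal U • ⊤ : Submodule Γ(X, U.1) Γ(F, U.1))) : (unit I F).app U.1 s = 0 := by
  refine Submodule.smul_induction_on hs (fun a ha m _ => unit_app_smul_eq_zero I F U a ha m)
    (fun x y hx hy => ?_)
  rw [map_add, hx, hy, add_zero]

theorem mem_of_unit_app_eq_zero (F : X.Modules) [F.IsQuasicoherent] (U : X.affineOpens) (s : Γ(F, U.1))
    (hs : (unit I F).app U.1 s = 0) : s ∈ (I.ideal U • ⊤ : Submodule Γ(X, U.1) Γ(F, U.1)) := by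
  have hU₀ : IsAffineOpen (I.subschemeι ⁻¹ᵁ U.1) := U.2.preimage I.subschemeι
  have hle : I.subschemeι ⁻¹ᵁ U.1 ≤ I.subschemeι ⁻¹ᵁ U.1 := le_rfl
  letI : Algebra Γ(X, U.1) Γ(I.subscheme, I.subschemeι ⁻¹ᵁ U.1) :=
    (I.subschemeι.appLE U.1 (I.subschemeι ⁻¹ᵁ U.1) hle).hom.toAlgebra
  let l : Γ(F, U.1) →+ (Γ(I.subscheme, I.subschemeι ⁻¹ᵁ U.1) ⊗[Γ(X, U.1)] Γ(F, U.1)) :=
    (TensorProduct.mk Γ(X, U.1) Γ(I.subscheme, I.subschemeι ⁻¹ᵁ U.1) Γ(F, U.1) 1).toAddMonoidHom
  have hl : ∀ (r : Γ(X, U.1)) (x : Γ(F, U.1)),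
      l (r • x) = (I.subschemeι.appLE U.1 (I.subschemeι ⁻¹ᵁ U.1) hle r :
        Γ(I.subscheme, I.subschemeι ⁻¹ᵁ U.1)) • l x := by
    intro r x
    change (1 : Γ(I.subscheme, I.subschemeι ⁻¹ᵁ U.1)) ⊗ₜ[Γ(X, U.1)] (r • x) =
      (algebraMap Γ(X, U.1) Γ(I.subscheme, I.subschemeι ⁻¹ᵁ U.1) r) • ((1 : Γ(I.subscheme, I.subschemeι ⁻¹ᵁ U.1)) ⊗ₜ[Γ(X, U.1)] x)
    rw [TensorProduct.tmul_smul, TensorProduct.smul_tmul', TensorProduct.smul_tmul', Algebra.smul_def,
      smul_eq_mul]
  obtain ⟨l', hl', -⟩ := existsUnique_lift I.subschemeι F U.2 hU₀ hle _ l hl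
  have h1 : unitSec I.subschemeι F hle s = 0 := by
    rw [unitSec_apply]
    have : (homOfLE hle).op = 𝟙 (op (I.subschemeι ⁻¹ᵁ U.1)) := rfl
    rw [this, CategoryTheory.Functor.map_id]
    exact hs
  have h2 : (1 : Γ(I.subscheme, I.subschemeι ⁻¹ᵁ U.1)) ⊗ₜ[Γ(X, U.1)] s = 0 := by
    have := hl' s
    rw [h1, map_zero] at this
    exact this.symm
  have hsurj : Function.Surjective (algebraMap Γ(X, U.1) Γ(I.subscheme, I.subschemeι ⁻¹ᵁ U.1)) := by
    have := I.subschemeι_app_surjective U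
    rw [Scheme.Hom.app_eq_appLE] at this
    exact this
  have h3 := Groth.Agent.Lib.Helper7.ConormalP.mem_smul_top_of_one_tmul_eq_zero hsurj s h2
  have hker : RingHom.ker (algebraMap Γ(X, U.1) Γ(I.subscheme, I.subschemeι ⁻¹ᵁ U.1)) = I.ideal U := by
    rw [← I.ker_subschemeι_app U]
    congr 1
    rw [Scheme.Hom.app_eq_appLE]
    rfl
  rw [hker] at h3
  exact h3

theorem unit_app_eq_zero_iff (F : X.Modules) [F.IsQuasicoherent] (U : X.affineOpens) (s : Γ(F, U.1)) :
    (unit I F).app U.1 s = 0 ↔ s ∈ (I.ideal U • ⊤ : Submodule Γ(X, U.1) Γ(F, U.1)) :=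
  ⟨mem_of_unit_app_eq_zero I F U s, unit_app_eq_zero_of_mem I F U s⟩

/-- sections of `I · F` over an affine open: the image in `Γ(F, U)` is `I(U) · Γ(F, U)`. -/
theorem exists_idealMulι_app_eq_iff (F : X.Modules) [F.IsQuasicoherent] (U : X.affineOpens) (s : Γ(F, U.1)) :
    (∃ t : Γ((Dual3.idealMul I).obj F, U.1), (Dual3.idealMulι I F).app U.1 t = s) ↔
      s ∈ (I.ideal U • ⊤ : Submodule Γ(X, U.1) Γ(F, U.1)) := by
  constructor
  · rintro ⟨t, rfl⟩
    refine mem_of_unit_app_eq_zero I F U _ ?_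
    have h := idealMulι_unit I F
    have h2 : (Dual3.idealMulι I F ≫ unit I F).app U.1 t = 0 := by rw [h]; rfl
    exact h2
  · intro hs
    exact exists_kernel_app_eq (unit I F) U.1 s (unit_app_eq_zero_of_mem I F U s hs)

instance isQuasicoherent_pushPull (F : X.Modules) [F.IsQuasicoherent] :
    ((Scheme.Modules.pushforward I.subschemeι).obj
      ((Scheme.Modules.pullback I.subschemeι).obj F)).IsQuasicoherent :=
  isQuasicoherent_pushforward I.subschemeι _

instance isQuasicoherent_idealMul (F : X.Modules) [F.IsQuasicoherent] :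
    ((Dual3.idealMul I).obj F).IsQuasicoherent :=
  isQuasicoherent_kernel (unit I F)

/-- a morphism of quasi-coherent modules which is surjective on sections over all affine opens is an epimorphism -/
theorem epi_of_surjective_app {M N : X.Modules} [M.IsQuasicoherent] [N.IsQuasicoherent]
    (φ : M ⟶ N) (h : ∀ U : X.affineOpens, Function.Surjective (φ.app U.1)) : Epi φ := by
  refine epi_of_surjective_ΓU φ (fun V : X.affineOpens => (V : X.Opens))
    (iSup_affineOpens_eq_top X) (fun V => V.2) fun V => ?_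
  have h1 : V.2.fromSpec ''ᵁ ⊤ = V.1 :=
    (Scheme.Hom.image_top_eq_opensRange _).trans V.2.opensRange_fromSpec
  have : ∀ {A B : X.Opens} (_ : A = B), Function.Surjective (φ.app B) → Function.Surjective (φ.app A) := by
    intro A B e hb; subst e; exact hb
  exact this h1 (h V)

/-- a morphism of quasi-coherent modules which is bijective on sections over all affine opens is an isomorphism -/
theorem isIso_of_bijective_app {M N : X.Modules} [M.IsQuasicoherent] [N.IsQuasicoherent]
    (φ : M ⟶ N) (h : ∀ U : X.affineOpens, Function.Bijective (φ.app U.1)) : IsIso φ := by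
  refine isIso_of_bijective_ΓU φ (fun V : X.affineOpens => (V : X.Opens))
    (iSup_affineOpens_eq_top X) (fun V => V.2) fun V => ?_
  have h1 : V.2.fromSpec ''ᵁ ⊤ = V.1 :=
    (Scheme.Hom.image_top_eq_opensRange _).trans V.2.opensRange_fromSpec
  have : ∀ {A B : X.Opens} (_ : A = B), Function.Bijective (φ.app B) → Function.Bijective (φ.app A) := by
    intro A B e hb; subst e; exact hb
  exact this h1 (h V)

/-- the unit `F ⟶ i_* i^* F` is surjective on sections over affine opens -/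
theorem unit_app_surjective (F : X.Modules) [F.IsQuasicoherent] (U : X.affineOpens) :
    Function.Surjective ((unit I F).app U.1) := by
  have hU₀ : IsAffineOpen (I.subschemeι ⁻¹ᵁ U.1) := U.2.preimage I.subschemeι
  have hle : I.subschemeι ⁻¹ᵁ U.1 ≤ I.subschemeι ⁻¹ᵁ U.1 := le_rfl
  set P := (Scheme.Modules.pullback I.subschemeι).obj F with hP
  have hus : ∀ s : Γ(F, U.1), unitSec I.subschemeι F hle s = (unit I F).app U.1 s := by
    intro s
    rw [unitSec_apply]
    have : (homOfLE hle).op = 𝟙 (op (I.subschemeι ⁻¹ᵁ U.1)) := rfl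
    rw [this, CategoryTheory.Functor.map_id]
    rfl
  -- the image of the unit as a submodule
  let N' : Submodule Γ(I.subscheme, I.subschemeι ⁻¹ᵁ U.1) Γ(P, I.subschemeι ⁻¹ᵁ U.1) :=
    { carrier := Set.range (unitSec I.subschemeι F hle)
      add_mem' := by
        rintro _ _ ⟨a, rfl⟩ ⟨b, rfl⟩
        exact ⟨a + b, map_add _ a b⟩
      zero_mem' := ⟨0, map_zero _⟩
      smul_mem' := by
        rintro c _ ⟨a, rfl⟩
        obtain ⟨r, rfl⟩ := I.subschemeι_app_surjective U c
        refine ⟨r • a, ?_⟩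
        rw [unitSec_smul, Scheme.Hom.app_eq_appLE] }
  let l : Γ(F, U.1) →+ (Γ(P, I.subschemeι ⁻¹ᵁ U.1) ⧸ N') := 0
  have hl : ∀ (r : Γ(X, U.1)) (x : Γ(F, U.1)),
      l (r • x) = (I.subschemeι.appLE U.1 (I.subschemeι ⁻¹ᵁ U.1) hle r :
        Γ(I.subscheme, I.subschemeι ⁻¹ᵁ U.1)) • l x := by
    intro r x
    change (0 : Γ(P, I.subschemeι ⁻¹ᵁ U.1) ⧸ N') = _ • (0 : Γ(P, I.subschemeι ⁻¹ᵁ U.1) ⧸ N')
    rw [smul_zero]
  obtain ⟨l', -, huniq⟩ := existsUnique_lift I.subschemeι F U.2 hU₀ hle _ l hl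
  have e1 : N'.mkQ = l' := huniq N'.mkQ (fun x => by
    change N'.mkQ (unitSec I.subschemeι F hle x) = 0
    rw [Submodule.mkQ_apply, Submodule.Quotient.mk_eq_zero]
    exact ⟨x, rfl⟩)
  have e2 : (0 : Γ(P, I.subschemeι ⁻¹ᵁ U.1) →ₗ[Γ(I.subscheme, I.subschemeι ⁻¹ᵁ U.1)] _) = l' :=
    huniq 0 (fun x => rfl)
  intro y
  have hy : N'.mkQ y = 0 := by rw [e1, ← e2]; rfl
  rw [Submodule.mkQ_apply, Submodule.Quotient.mk_eq_zero] at hy
  obtain ⟨s, hs⟩ := hy
  exact ⟨s, (hus s).symm.trans hs⟩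

instance epi_unit (F : X.Modules) [F.IsQuasicoherent] : Epi (unit I F) :=
  epi_of_surjective_app (unit I F) (unit_app_surjective I F)

/-- the short exact sequence `0 → I·F → F → i_* i^* F → 0`. -/
theorem shortExact_idealMul (F : X.Modules) [F.IsQuasicoherent] :
    (ShortComplex.mk (Dual3.idealMulι I F) (unit I F) (idealMulι_unit I F)).ShortExact :=
  { exact := ShortComplex.exact_kernel (unit I F)
    mono_f := inferInstanceAs (Mono (kernel.ι (unit I F)))
    epi_g := epi_unit I F }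

/-! ### modules killed by `I` -/

theorem killed_pushforward (G : I.subscheme.Modules) :
    ClSub.KilledByIdeal I ((Scheme.Modules.pushforward I.subschemeι).obj G) := by
  intro U a ha m
  have h0 : I.subschemeι.app U.1 a = 0 := by
    have : a ∈ RingHom.ker (I.subschemeι.app U.1).hom := by rw [I.ker_subschemeι_app U]; exact ha
    exact this
  have h1 : (a • (show Γ((Scheme.Modules.pushforward I.subschemeι).obj G, U.1) from m)) =
      ((I.subschemeι.app U.1 a) • (show Γ(G, I.subschemeι ⁻¹ᵁ U.1) from m) : Γ(G, I.subschemeι ⁻¹ᵁ U.1)) :=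
    pushforward_smul I.subschemeι U.1 a m
  refine h1.trans ?_
  rw [h0]
  exact zero_smul Γ(I.subscheme, I.subschemeι ⁻¹ᵁ U.1) (show Γ(G, I.subschemeι ⁻¹ᵁ U.1) from m)

theorem killed_iff (M : X.Modules) :
    ClSub.KilledByIdeal I M ↔ ∀ (U : X.affineOpens) (a : Γ(X, U.1)), a ∈ I.ideal U → ∀ m : Γ(M, U.1), a • m = 0 :=
  Iff.rfl

theorem killed_of_mono {M N : X.Modules} (f : M ⟶ N) [Mono f] (hN : ClSub.KilledByIdeal I N) :
    ClSub.KilledByIdeal I M := by
  rw [killed_iff] at hN ⊢
  intro U a ha m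
  apply injective_app_of_mono f U.1
  rw [Scheme.Modules.Hom.app_smul, hN U a ha, map_zero]

theorem killed_of_epi {M N : X.Modules} [M.IsQuasicoherent] [N.IsQuasicoherent] (f : M ⟶ N) [Epi f]
    (hM : ClSub.KilledByIdeal I M) : ClSub.KilledByIdeal I N := by
  rw [killed_iff] at hM ⊢
  intro U a ha m
  obtain ⟨m', rfl⟩ := surjective_app_of_epi f U.2 m
  rw [← Scheme.Modules.Hom.app_smul, hM U a ha, map_zero]

theorem killed_of_iso {M N : X.Modules} (e : M ≅ N) (hM : ClSub.KilledByIdeal I M) :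
    ClSub.KilledByIdeal I N :=
  killed_of_mono I e.inv hM

/-- a module all of whose sections over affine opens vanish is zero -/
theorem isZero_of_forall_affine (K : X.Modules) (h : ∀ (U : X.affineOpens) (s : Γ(K, U.1)), s = 0) :
    IsZero K := by
  refine Groth.Agent.Lib.Helper20.OmegaUnr.isZero_of_basis K X.affineOpens X.isBasis_affineOpens
    (fun U hU => ⟨fun a b => ?_⟩)
  rw [h ⟨U, hU⟩ a, h ⟨U, hU⟩ b]

theorem isZero_idealMul_of_killed (M : X.Modules) [M.IsQuasicoherent] (hM : ClSub.KilledByIdeal I M) :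
    IsZero ((Dual3.idealMul I).obj M) := by
  refine isZero_of_forall_affine _ fun U t => ?_
  apply injective_app_of_mono (Dual3.idealMulι I M) U.1
  rw [map_zero]
  have hmem := (exists_idealMulι_app_eq_iff I M U _).1 ⟨t, rfl⟩
  have hbot : (I.ideal U • ⊤ : Submodule Γ(X, U.1) Γ(M, U.1)) = ⊥ := by
    rw [eq_bot_iff, Submodule.smul_le]
    intro a ha m _
    rw [Submodule.mem_bot]
    exact hM U a ha m
  rw [hbot] at hmem
  exact hmem

theorem killed_pushPull (F : X.Modules) :
    ClSub.KilledByIdeal I ((Scheme.Modules.pushforward I.subschemeι).obj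
      ((Scheme.Modules.pullback I.subschemeι).obj F)) :=
  killed_pushforward I _

theorem isIso_unit_of_killed (M : X.Modules) [M.IsQuasicoherent] (hM : ClSub.KilledByIdeal I M) :
    IsIso (unit I M) := by
  haveI : Mono (unit I M) := Preadditive.mono_of_isZero_kernel _ (isZero_idealMul_of_killed I M hM)
  exact isIso_of_mono_of_epi _

/-! ### nilpotency -/

open Groth.Agent.Lib.Helper20.FittSheaf in
theorem mem_support_of_mem_moduleSupport (F : X.Modules) [F.IsQuasicoherent] (U : X.affineOpens)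
    [Module.Finite Γ(X, U.1) Γ(F, U.1)] (p : PrimeSpectrum Γ(X, U.1))
    (hp : p ∈ Module.support Γ(X, U.1) Γ(F, U.1)) : U.2.fromSpec p ∈ CohB1.support F := by
  have hxU : U.2.fromSpec p ∈ U.1 := by
    have := Set.mem_range_self (f := U.2.fromSpec) p
    rw [U.2.range_fromSpec] at this
    exact this
  have hq : U.2.primeIdealOf ⟨U.2.fromSpec p, hxU⟩ = p := by
    apply U.2.fromSpec.isOpenEmbedding.injective
    exact U.2.fromSpec_primeIdealOf ⟨U.2.fromSpec p, hxU⟩
  intro hsub
  rw [subsingleton_stalk_iff_notMem_support F U.2 _ hxU, hq] at hsub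
  exact hsub hp

theorem exists_pow_smul_top_eq_bot [IsLocallyNoetherian X] (F : X.Modules) [F.IsQuasicoherent]
    [SheafOfModules.IsFiniteType (R := X.ringCatSheaf) F]
    (hsupp : CohB1.support F ⊆ (I.support : Set X)) (U : X.affineOpens) :
    ∃ n : ℕ, ((I.ideal U) ^ n • ⊤ : Submodule Γ(X, U.1) Γ(F, U.1)) = ⊥ := by
  haveI : Module.Finite Γ(X, U.1) Γ(F, U.1) := finite_of_isFiniteType F U.2
  haveI : IsNoetherianRing Γ(X, U.1) := IsLocallyNoetherian.component_noetherian U
  have h1 : Module.support Γ(X, U.1) Γ(F, U.1) ⊆ PrimeSpectrum.zeroLocus (I.ideal U : Set Γ(X, U.1)) := by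
    intro p hp
    have hx := hsupp (mem_support_of_mem_moduleSupport F U p hp)
    have hxU : U.2.fromSpec p ∈ U.1 := by
      have := Set.mem_range_self (f := U.2.fromSpec) p
      rw [U.2.range_fromSpec] at this
      exact this
    have h2 := (Scheme.IdealSheafData.mem_support_iff_of_mem (I := I) (U := U) hxU).1 hx
    rw [← U.2.fromSpec_preimage_zeroLocus]
    exact h2
  rw [Module.support_eq_zeroLocus, PrimeSpectrum.zeroLocus_subset_zeroLocus_iff] at h1
  obtain ⟨n, hn⟩ := Ideal.exists_pow_le_of_le_radical_of_fg h1 (IsNoetherian.noetherian _)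
  refine ⟨n, ?_⟩
  rw [eq_bot_iff, Submodule.smul_le]
  intro a ha m _
  rw [Submodule.mem_bot]
  exact Module.mem_annihilator.1 (hn ha) m

theorem subsingleton_sections_idealMul_of_eq_bot (J : X.IdealSheafData) (F : X.Modules) [F.IsQuasicoherent]
    (U : X.affineOpens) (h : (J.ideal U • ⊤ : Submodule Γ(X, U.1) Γ(F, U.1)) = ⊥) :
    ∀ t : Γ((Dual3.idealMul J).obj F, U.1), t = 0 := by
  intro t
  apply injective_app_of_mono (Dual3.idealMulι J F) U.1
  rw [map_zero]
  have hmem := (exists_idealMulι_app_eq_iff J F U _).1 ⟨t, rfl⟩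
  rw [h] at hmem
  exact hmem

open Groth.Agent.Lib.Helper20.FittSheaf in
/-- a quasi-coherent module whose sections vanish over the members of an affine open cover is zero -/
theorem isZero_of_affine_cover (K : X.Modules) [K.IsQuasicoherent] (S : Set X.affineOpens)
    (hS : ∀ x : X, ∃ U ∈ S, x ∈ U.1) (h : ∀ U ∈ S, ∀ t : Γ(K, U.1), t = 0) : IsZero K := by
  refine Groth.Agent.Lib.Helper20.ZClosLib.isZero_of_stalk_subsingleton K fun x => ?_
  obtain ⟨U, hU, hxU⟩ := hS x
  haveI : Subsingleton Γ(K, U.1) := ⟨fun a b => by rw [h U hU a, h U hU b]⟩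
  haveI : Module.Finite Γ(X, U.1) Γ(K, U.1) := Module.Finite.of_surjective
    (0 : Γ(X, U.1) →ₗ[Γ(X, U.1)] Γ(K, U.1)) (fun y => ⟨0, Subsingleton.elim _ _⟩)
  rw [subsingleton_stalk_iff_notMem_support K U.2 x hxU, Module.support_eq_empty_iff.2 inferInstance]
  exact Set.notMem_empty _

/-- **Nilpotency**: a coherent module supported on `V(I)` is killed by a power of `I` (in the form `I^n · F = 0`). -/
theorem exists_isZero_idealMul_pow [IsNoetherian X] (F : X.Modules) [F.IsQuasicoherent]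
    [SheafOfModules.IsFiniteType (R := X.ringCatSheaf) F]
    (hsupp : CohB1.support F ⊆ (I.support : Set X)) :
    ∃ n : ℕ, IsZero ((Dual3.idealMul (I ^ n)).obj F) := by
  classical
  obtain ⟨t, ht⟩ := isCompact_univ.elim_finite_subcover (fun U : X.affineOpens => (U.1 : Set X))
    (fun U => U.1.2) (by
      intro x _
      obtain ⟨_, ⟨U, hU, rfl⟩, hxU, -⟩ := X.isBasis_affineOpens.exists_subset_of_mem_open
        (Set.mem_univ x) isOpen_univ
      exact Set.mem_iUnion.2 ⟨⟨U, hU⟩, hxU⟩)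
  choose n hn using fun U : X.affineOpens => exists_pow_smul_top_eq_bot I F hsupp U
  refine ⟨t.sup n, ?_⟩
  refine isZero_of_affine_cover _ (t : Set X.affineOpens) (fun x => ?_) (fun U hU => ?_)
  · have := ht (Set.mem_univ x)
    simp only [Set.mem_iUnion] at this
    obtain ⟨U, hUt, hxU⟩ := this
    exact ⟨U, hUt, hxU⟩
  · refine subsingleton_sections_idealMul_of_eq_bot (I ^ t.sup n) F U ?_
    rw [eq_bot_iff, ← hn U, Scheme.IdealSheafData.ideal_pow, Pi.pow_apply]
    exact Submodule.smul_mono_left (Ideal.pow_le_pow_right (Finset.le_sup (f := n) hU))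

end Groth.Agent.Lib.T2H5.IdealMul
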