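import Mathlib
import Groth.Agent.Lib.T2H5IdealMul
import Groth.Agent.Lib.Helper23FinType
import Groth.Agent.S0049
import Groth.Agent.S0020

/-!
# Dévissage of coherent modules: the core Noetherian induction (helper5)

Namespace `Groth.Agent.Lib.T2H5.Devissage`.
-/

set_option autoImplicit false
set_option linter.style.haveILetI false
set_option linter.unusedSectionVars false
universe u
open CategoryTheory CategoryTheory.Limits AlgebraicGeometry Opposite TopologicalSpace

namespace Groth.Agent.Lib.T2H5.Devissage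

open Groth.Agent.Lib.T2H5.IdealMul Groth.Agent.Lib.Helper20.StalkExact
open Groth.Agent.Lib.Helper23.ModLocal Groth.Agent.Lib.Helper23.QCohLocal Groth.Agent.Lib.Helper23.FinType

variable {X : Scheme.{u}}

theorem isCoh_of_iso {M N : X.Modules} (e : M ≅ N) (hM : Coh.IsCoh M) : Coh.IsCoh N := by
  obtain ⟨h1, h2⟩ := hM
  haveI : SheafOfModules.IsFiniteType (R := X.ringCatSheaf) M := h2
  exact ⟨(SheafOfModules.isQuasicoherent X.ringCatSheaf).prop_of_iso e h1, isFiniteType_of_iso e⟩

theorem isCoh_of_mono [IsLocallyNoetherian X] {N M : X.Modules} (i : N ⟶ M) [Mono i] (hM : Coh.IsCoh M)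
    (hN : N.IsQuasicoherent) : Coh.IsCoh N := by
  obtain ⟨h1, h2⟩ := hM
  haveI : M.IsQuasicoherent := h1
  haveI : SheafOfModules.IsFiniteType (R := X.ringCatSheaf) M := h2
  exact ⟨hN, isFiniteType_of_mono i⟩

theorem isCoh_of_epi {M N : X.Modules} (p : M ⟶ N) [Epi p] (hM : Coh.IsCoh M)
    (hN : N.IsQuasicoherent) : Coh.IsCoh N := by
  obtain ⟨h1, h2⟩ := hM
  haveI : M.IsQuasicoherent := h1
  haveI : SheafOfModules.IsFiniteType (R := X.ringCatSheaf) M := h2
  exact ⟨hN, isFiniteType_of_epi p⟩

variable (I : X.IdealSheafData)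

theorem isCoh_idealMul [IsLocallyNoetherian X] (F : X.Modules) (hF : Coh.IsCoh F) :
    Coh.IsCoh ((Dual3.idealMul I).obj F) := by
  haveI : F.IsQuasicoherent := hF.1
  haveI : Mono (Dual3.idealMulι I F) := Dual3.mono_idealMulι I F
  exact isCoh_of_mono (Dual3.idealMulι I F) hF (isQuasicoherent_idealMul I F)

theorem isCoh_pushPull (F : X.Modules) (hF : Coh.IsCoh F) :
    Coh.IsCoh ((Scheme.Modules.pushforward I.subschemeι).obj
      ((Scheme.Modules.pullback I.subschemeι).obj F)) := by
  haveI : F.IsQuasicoherent := hF.1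
  exact isCoh_of_epi (unit I F) hF (isQuasicoherent_pushPull I F)

/-- the inclusion `I F ⟶ F` maps `J · Γ(I F, U)` into `(J * I(U)) · Γ(F, U)`. -/
theorem idealMulι_app_mem (F : X.Modules) [F.IsQuasicoherent] (U : X.affineOpens) (J : Ideal Γ(X, U.1))
    (s : Γ((Dual3.idealMul I).obj F, U.1))
    (hs : s ∈ (J • ⊤ : Submodule Γ(X, U.1) Γ((Dual3.idealMul I).obj F, U.1))) :
    (Dual3.idealMulι I F).app U.1 s ∈ ((J * I.ideal U) • ⊤ : Submodule Γ(X, U.1) Γ(F, U.1)) := by
  refine Submodule.smul_induction_on hs (fun a ha m _ => ?_) (fun x y hx hy => ?_)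
  · rw [Scheme.Modules.Hom.app_smul, Submodule.mul_smul]
    exact Submodule.smul_mem_smul ha ((exists_idealMulι_app_eq_iff I F U _).1 ⟨m, rfl⟩)
  · rw [map_add]
    exact Submodule.add_mem _ hx hy

/-- if `I^(n+1) F = 0` then `I^n (I F) = 0`. -/
theorem isZero_idealMul_pow_idealMul (F : X.Modules) [F.IsQuasicoherent] (n : ℕ)
    (h : IsZero ((Dual3.idealMul (I ^ (n + 1))).obj F)) :
    IsZero ((Dual3.idealMul (I ^ n)).obj ((Dual3.idealMul I).obj F)) := by
  refine isZero_of_forall_affine _ fun U t => ?_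
  apply injective_app_of_mono (Dual3.idealMulι (I ^ n) ((Dual3.idealMul I).obj F)) U.1
  apply injective_app_of_mono (Dual3.idealMulι I F) U.1
  rw [map_zero, map_zero]
  have h1 := (exists_idealMulι_app_eq_iff (I ^ n) ((Dual3.idealMul I).obj F) U _).1 ⟨t, rfl⟩
  have h2 := idealMulι_app_mem I F U _ _ h1
  have h3 : ((I ^ n).ideal U * I.ideal U) = (I ^ (n + 1)).ideal U := by
    rw [Scheme.IdealSheafData.ideal_pow, Scheme.IdealSheafData.ideal_pow, Pi.pow_apply, Pi.pow_apply, pow_succ]
  rw [h3] at h2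
  obtain ⟨r, hr⟩ := (exists_idealMulι_app_eq_iff (I ^ (n + 1)) F U _).2 h2
  rw [← hr, Groth.Agent.Lib.Helper23.ModLocal.eq_zero_of_isZero h U.1 r, map_zero]

/-- if `I^0 F = 0` then `F = 0`. -/
theorem isZero_of_isZero_idealMul_pow_zero (F : X.Modules) [F.IsQuasicoherent]
    (h : IsZero ((Dual3.idealMul (I ^ 0)).obj F)) : IsZero F := by
  refine isZero_of_forall_affine _ fun U s => ?_
  have h1 : s ∈ ((I ^ 0).ideal U • ⊤ : Submodule Γ(X, U.1) Γ(F, U.1)) := by
    rw [Scheme.IdealSheafData.ideal_pow, Pi.pow_apply, pow_zero, Ideal.one_eq_top, Submodule.top_smul]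
    trivial
  obtain ⟨r, hr⟩ := (exists_idealMulι_app_eq_iff (I ^ 0) F U _).2 h1
  rw [← hr, Groth.Agent.Lib.Helper23.ModLocal.eq_zero_of_isZero h U.1 r, map_zero]

/-- **Nilpotent filtration step**: for an extension-closed property `P` holding for all coherent modules killed by `I`,
`P` holds for every coherent module killed by a power of `I`. -/
theorem of_isZero_idealMul_pow [IsLocallyNoetherian X] (P : X.Modules → Prop)
    (h0 : ∀ M : X.Modules, IsZero M → P M)
    (hext : ∀ S : ShortComplex X.Modules, S.ShortExact → Coh.IsCoh S.X₁ → Coh.IsCoh S.X₂ → Coh.IsCoh S.X₃ →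
      P S.X₁ → P S.X₃ → P S.X₂)
    (hkill : ∀ M : X.Modules, Coh.IsCoh M → ClSub.KilledByIdeal I M → P M) :
    ∀ (n : ℕ) (F : X.Modules), Coh.IsCoh F → IsZero ((Dual3.idealMul (I ^ n)).obj F) → P F := by
  intro n
  induction n with
  | zero =>
    intro F hF hz
    haveI : F.IsQuasicoherent := hF.1
    exact h0 F (isZero_of_isZero_idealMul_pow_zero I F hz)
  | succ n ih =>
    intro F hF hz
    haveI : F.IsQuasicoherent := hF.1
    have hS := shortExact_idealMul I F
    exact hext _ hS (isCoh_idealMul I F hF) hF (isCoh_pushPull I F hF)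
      (ih _ (isCoh_idealMul I F hF) (isZero_idealMul_pow_idealMul I F n hz))
      (hkill _ (isCoh_pushPull I F hF) (killed_pushPull I F))

theorem isClosed_support (F : X.Modules) (hF : Coh.IsCoh F) : IsClosed (CohB1.support F) :=
  Groth.Agent.S0020.result X F hF.2

theorem isZero_of_support_eq_empty (F : X.Modules) (h : CohB1.support F = ∅) : IsZero F := by
  refine Groth.Agent.Lib.Helper20.ZClosLib.isZero_of_stalk_subsingleton F fun x => ?_
  by_contra hx
  have : x ∈ CohB1.support F := hx
  rw [h] at this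
  exact this

/-- **Core dévissage**: Noetherian induction on closed subsets, splitting reducible supports and filtering by powers of
the ideal of an irreducible closed subset. -/
theorem core [IsNoetherian X] (P : X.Modules → Prop)
    (hP : ∀ M N : X.Modules, Nonempty (M ≅ N) → P M → P N)
    (h0 : ∀ M : X.Modules, IsZero M → P M)
    (hext : ∀ S : ShortComplex X.Modules, S.ShortExact → Coh.IsCoh S.X₁ → Coh.IsCoh S.X₂ → Coh.IsCoh S.X₃ →
      P S.X₁ → P S.X₃ → P S.X₂)
    (X' : Set X)
    (hirr : ∀ (Z : Set X) (hZ : IsClosed Z), IsIrreducible Z → Z ⊆ X' →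
      (∀ N : X.Modules, Coh.IsCoh N → CohB1.support N ⊆ Z → CohB1.support N ≠ Z → P N) →
      ∀ M : X.Modules, Coh.IsCoh M →
        ClSub.KilledByIdeal (Scheme.IdealSheafData.vanishingIdeal ⟨Z, hZ⟩) M → P M)
    (F : X.Modules) (hF : Coh.IsCoh F) (hsupp : CohB1.support F ⊆ X') : P F := by
  have key : ∀ Y : Closeds X, (Y : Set X) ⊆ X' → ∀ F : X.Modules, Coh.IsCoh F →
      CohB1.support F ⊆ (Y : Set X) → P F := by
    intro Y
    induction Y using WellFoundedLT.induction with
    | ind Y ih =>
      intro hYX' F hF hFY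
      have ihN : ∀ N : X.Modules, Coh.IsCoh N → CohB1.support N ⊆ (Y : Set X) →
          CohB1.support N ≠ (Y : Set X) → P N := by
        intro N hN hNY hne
        refine ih ⟨CohB1.support N, isClosed_support N hN⟩ ?_ (hNY.trans hYX') N hN le_rfl
        refine lt_of_le_of_ne hNY fun h => hne ?_
        exact congrArg (fun Z : Closeds X => (Z : Set X)) h
      by_cases hirrY : IsIrreducible (Y : Set X)
      · -- irreducible case
        haveI : F.IsQuasicoherent := hF.1
        haveI : SheafOfModules.IsFiniteType (R := X.ringCatSheaf) F := hF.2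
        set I := Scheme.IdealSheafData.vanishingIdeal ⟨(Y : Set X), Y.2⟩ with hI
        have hIs : (I.support : Set X) = (Y : Set X) := Scheme.IdealSheafData.coe_support_vanishingIdeal _
        obtain ⟨n, hn⟩ := exists_isZero_idealMul_pow I F (by rw [hIs]; exact hFY)
        exact of_isZero_idealMul_pow I P h0 hext (hirr (Y : Set X) Y.2 hirrY hYX' ihN) n F hF hn
      · -- reducible or empty
        by_cases hne : (Y : Set X) = ∅
        · refine h0 F (isZero_of_support_eq_empty F ?_)
          rw [hne] at hFY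
          exact Set.subset_empty_iff.1 hFY
        · have hnp : ¬ IsPreirreducible (Y : Set X) := fun h =>
            hirrY ⟨Set.nonempty_iff_ne_empty.2 hne, h⟩
          simp only [isPreirreducible_iff_isClosed_union_isClosed, not_forall, not_or] at hnp
          obtain ⟨z₁, z₂, hz₁, hz₂, hcov, hn₁, hn₂⟩ := hnp
          have hSc := isClosed_support F hF
          obtain ⟨S, hS, ⟨e⟩, hS₁, hS₃, hs₁, hs₃⟩ := Groth.Agent.S0049.result X F hF
            (z₁ ∩ CohB1.support F) (z₂ ∩ CohB1.support F) (hz₁.inter hSc) (hz₂.inter hSc) (by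
              rw [← Set.union_inter_distrib_right]
              exact (Set.inter_eq_right.2 (hFY.trans hcov)).symm)
          have hlt : ∀ z : Set X, (hz : IsClosed z) → ¬ (Y : Set X) ⊆ z → (Y ⊓ ⟨z, hz⟩ : Closeds X) < Y := by
            intro z hz hnz
            refine lt_of_le_of_ne inf_le_left fun h => hnz ?_
            have : ((Y ⊓ ⟨z, hz⟩ : Closeds X) : Set X) = (Y : Set X) :=
              congrArg (fun Z : Closeds X => (Z : Set X)) h
            intro x hx
            rw [← this] at hx
            exact hx.2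
          have hP₁ : P S.X₁ := ih _ (hlt z₂ hz₂ hn₂) (Set.inter_subset_left.trans hYX') S.X₁ hS₁
            (fun x hx => ⟨hFY (hs₁ hx).2, (hs₁ hx).1⟩)
          have hP₃ : P S.X₃ := ih _ (hlt z₁ hz₁ hn₁) (Set.inter_subset_left.trans hYX') S.X₃ hS₃
            (fun x hx => ⟨hFY (hs₃ hx).2, (hs₃ hx).1⟩)
          exact hP _ _ ⟨e⟩ (hext S hS hS₁ (isCoh_of_iso e.symm hF) hS₃ hP₁ hP₃)
  exact key ⟨CohB1.support F, isClosed_support F hF⟩ hsupp F hF le_rfl

end Groth.Agent.Lib.T2H5.Devissage
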