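import Mathlib
import Groth.Agent.Lib.T2H5Devissage
import Groth.Agent.Lib.Helper23QCohExt
import Groth.Agent.Lib.Helper23QCohSum
import Groth.Agent.Lib.Helper2ModExact
import Groth.Agent.Lib.T2H5CohSigma
import Groth.Agent.Lib.Helper23StalkLin

/-!
# Generic isomorphism step of dévissage, part A: powers, extensions, stalk length (helper5)
-/

set_option autoImplicit false
set_option linter.style.haveILetI false
set_option linter.unusedSectionVars false
universe u
open CategoryTheory CategoryTheory.Limits AlgebraicGeometry Opposite TopologicalSpace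

namespace Groth.Agent.Lib.T2H5.GenIsoA

open Groth.Agent.Lib.T2H5.IdealMul Groth.Agent.Lib.T2H5.Devissage
open Groth.Agent.Lib.Helper23.ModLocal Groth.Agent.Lib.Helper23.QCohLocal Groth.Agent.Lib.Helper23.FinType
open Groth.Agent.Lib.Helper2.ModExact Groth.Agent.Lib.T2H5.CohSigma
open Groth.Agent.Lib.Helper4.NormDelta Groth.Agent.Lib.Helper23.StalkLin

attribute [local instance] Abelian.hasFiniteBiproducts

section abstract

variable {𝒜 : Type*} [Category 𝒜] [Abelian 𝒜]
variable (A : 𝒜) (n : ℕ)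

noncomputable abbrev bsG : (⨁ fun _ : Fin (n + 1) => A) ⟶ ⨁ fun _ : Fin n => A :=
  biproduct.lift fun j : Fin n => biproduct.π (fun _ : Fin (n + 1) => A) j.succ

noncomputable abbrev bsS : (⨁ fun _ : Fin n => A) ⟶ ⨁ fun _ : Fin (n + 1) => A :=
  biproduct.desc fun j : Fin n => biproduct.ι (fun _ : Fin (n + 1) => A) j.succ

theorem bs_zero : biproduct.ι (fun _ : Fin (n + 1) => A) 0 ≫ bsG A n = 0 := by
  refine biproduct.hom_ext _ _ fun j => ?_
  rw [Category.assoc, biproduct.lift_π, zero_comp, biproduct.ι_π_ne]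
  exact (Fin.succ_ne_zero j).symm

theorem bs_ι_succ (j : Fin n) : biproduct.ι (fun _ : Fin (n + 1) => A) j.succ ≫ bsG A n =
    biproduct.ι (fun _ : Fin n => A) j := by
  refine biproduct.hom_ext _ _ fun j' => ?_
  rw [Category.assoc, biproduct.lift_π]
  by_cases h : j = j'
  · subst h
    rw [biproduct.ι_π_self, biproduct.ι_π_self]
  · rw [biproduct.ι_π_ne _ h, biproduct.ι_π_ne _ (fun h' => h (Fin.succ_injective _ h'))]

theorem bs_s_g : bsS A n ≫ bsG A n = 𝟙 _ := by
  refine biproduct.hom_ext' _ _ fun j => ?_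
  rw [biproduct.ι_desc_assoc, bs_ι_succ, Category.comp_id]

theorem bs_id : biproduct.π (fun _ : Fin (n + 1) => A) 0 ≫ biproduct.ι (fun _ : Fin (n + 1) => A) 0 +
    bsG A n ≫ bsS A n = 𝟙 _ := by
  refine biproduct.hom_ext' _ _ fun j => ?_
  refine Fin.cases ?_ (fun j => ?_) j
  · rw [Preadditive.comp_add, biproduct.ι_π_self_assoc, reassoc_of% (bs_zero A n), zero_comp, add_zero,
      Category.comp_id]
  · rw [Preadditive.comp_add, biproduct.ι_π_ne_assoc _ (Fin.succ_ne_zero j), zero_comp, zero_add,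
      Category.comp_id, reassoc_of% (bs_ι_succ A n j), biproduct.ι_desc]

/-- the split short complex `A ⟶ A^{n+1} ⟶ A^n`. -/
noncomputable def biprodSuccSC : ShortComplex 𝒜 :=
  ShortComplex.mk (biproduct.ι (fun _ : Fin (n + 1) => A) 0) (bsG A n) (bs_zero A n)

noncomputable def biprodSuccSplitting : (biprodSuccSC A n).Splitting where
  r := biproduct.π (fun _ : Fin (n + 1) => A) 0
  s := bsS A n
  f_r := biproduct.ι_π_self _ _
  s_g := bs_s_g A n
  id := bs_id A n

theorem biprodSuccSC_shortExact : (biprodSuccSC A n).ShortExact :=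
  (biprodSuccSplitting A n).shortExact

theorem isZero_biproduct_fin_zero : IsZero (⨁ fun _ : Fin 0 => A) :=
  (IsZero.iff_id_eq_zero _).2 (biproduct.hom_ext _ _ fun j => j.elim0)

end abstract

variable {X : Scheme.{u}}

theorem isCoh_of_shortExact [IsLocallyNoetherian X] (S : ShortComplex X.Modules) (hS : S.ShortExact)
    (h1 : Coh.IsCoh S.X₁) (h3 : Coh.IsCoh S.X₃) : Coh.IsCoh S.X₂ := by
  haveI : S.X₁.IsQuasicoherent := h1.1
  haveI : S.X₃.IsQuasicoherent := h3.1
  haveI : SheafOfModules.IsFiniteType (R := X.ringCatSheaf) S.X₁ := h1.2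
  haveI : SheafOfModules.IsFiniteType (R := X.ringCatSheaf) S.X₃ := h3.2
  haveI hq : S.X₂.IsQuasicoherent := isQuasicoherent_of_shortExact S hS h1.1 h3.1
  refine ⟨hq, (isFiniteType_iff_forall_affine S.X₂).2 fun U hU => ?_⟩
  haveI : IsNoetherianRing Γ(X, U) := IsLocallyNoetherian.component_noetherian ⟨U, hU⟩
  haveI : Module.Finite Γ(X, U) Γ(S.X₁, U) := finite_of_isFiniteType S.X₁ hU
  haveI : Module.Finite Γ(X, U) Γ(S.X₃, U) := finite_of_isFiniteType S.X₃ hU
  haveI : IsNoetherian Γ(X, U) Γ(S.X₁, U) := isNoetherian_of_isNoetherianRing_of_finite _ _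
  haveI : IsNoetherian Γ(X, U) Γ(S.X₃, U) := isNoetherian_of_isNoetherianRing_of_finite _ _
  haveI : IsNoetherian Γ(X, U) Γ(S.X₂, U) := by
    refine isNoetherian_of_range_eq_ker (appLin S.f U) (appLin S.g U) ?_
    ext t
    constructor
    · rintro ⟨s, rfl⟩
      have h0 : (S.f ≫ S.g).app U s = 0 := by rw [S.zero]; rfl
      exact h0
    · intro ht
      obtain ⟨s, hs⟩ := exists_app_eq_of_shortExact S hS U t ht
      exact ⟨s, hs⟩
  infer_instance

theorem isCoh_sigma {r : ℕ} (E : Fin r → X.Modules) (hE : ∀ j, Coh.IsCoh (E j)) : Coh.IsCoh (∐ E) :=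
  ⟨isQuasicoherent_sigma E fun j => (hE j).1, isFiniteType_sigma E (fun j => (hE j).1) fun j => (hE j).2⟩

theorem isCoh_biproduct {r : ℕ} (E : Fin r → X.Modules) (hE : ∀ j, Coh.IsCoh (E j)) : Coh.IsCoh (⨁ E) :=
  isCoh_of_iso (biproduct.isoCoproduct E).symm (isCoh_sigma E hE)

/-- an extension-closed property containing the zero modules is closed under finite powers. -/
theorem prop_biproduct (P : X.Modules → Prop) (h0 : ∀ M : X.Modules, IsZero M → P M)
    (hext : ∀ S : ShortComplex X.Modules, S.ShortExact → Coh.IsCoh S.X₁ → Coh.IsCoh S.X₂ → Coh.IsCoh S.X₃ →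
      P S.X₁ → P S.X₃ → P S.X₂)
    (G : X.Modules) (hG : Coh.IsCoh G) (hPG : P G) (r : ℕ) : P (⨁ fun _ : Fin r => G) := by
  induction r with
  | zero => exact h0 _ (isZero_biproduct_fin_zero G)
  | succ r ih =>
    exact hext (biprodSuccSC G r) (biprodSuccSC_shortExact G r) hG (isCoh_biproduct _ fun _ => hG)
      (isCoh_biproduct _ fun _ => hG) hPG ih

theorem prop_sigma (P : X.Modules → Prop) (hP : ∀ M N : X.Modules, Nonempty (M ≅ N) → P M → P N)
    (h0 : ∀ M : X.Modules, IsZero M → P M)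
    (hext : ∀ S : ShortComplex X.Modules, S.ShortExact → Coh.IsCoh S.X₁ → Coh.IsCoh S.X₂ → Coh.IsCoh S.X₃ →
      P S.X₁ → P S.X₃ → P S.X₂)
    (G : X.Modules) (hG : Coh.IsCoh G) (hPG : P G) (r : ℕ) : P (∐ fun _ : Fin r => G) :=
  hP _ _ ⟨biproduct.isoCoproduct _⟩ (prop_biproduct P h0 hext G hG hPG r)

/-! ### the length of the stalk at a point as an additive function -/

/-- the length of the stalk of `M` at `y` over the local ring. -/
noncomputable def lenAt (y : X) (M : X.Modules) : ℕ∞ :=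
  Module.length (X.presheaf.stalk y) (M.presheaf.stalk y)

theorem lenAt_shortExact (y : X) (S : ShortComplex X.Modules) (hS : S.ShortExact) :
    lenAt y S.X₂ = lenAt y S.X₁ + lenAt y S.X₃ := by
  haveI := hS.mono_f
  haveI := hS.epi_g
  exact Module.length_eq_add_of_exact (stalkLin S.f y) (stalkLin S.g y) (stalkLin_injective S.f y)
    (stalkLin_surjective S.g y) (stalkLin_exact S hS y)

theorem lenAt_iso (y : X) {M N : X.Modules} (e : M ≅ N) : lenAt y M = lenAt y N :=
  (LinearEquiv.ofBijective (stalkLin e.hom y)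
    ⟨stalkLin_injective e.hom y, stalkLin_surjective e.hom y⟩).length_eq

theorem subsingleton_stalk_of_isZero (y : X) {M : X.Modules} (hM : IsZero M) :
    Subsingleton (M.presheaf.stalk y) := by
  refine ⟨fun a b => ?_⟩
  have h : ∀ t : M.presheaf.stalk y, t = 0 := by
    intro t
    obtain ⟨U, hyU, s, rfl⟩ := M.presheaf.exists_germ_eq t
    have h1 : (𝟙 M : M ⟶ M) = 0 := hM.eq_of_src _ _
    have h2 : Scheme.Modules.Hom.app (𝟙 M) U s = Scheme.Modules.Hom.app (0 : M ⟶ M) U s := by rw [h1]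
    have h3 : s = 0 := h2
    rw [h3, map_zero]
  rw [h a, h b]

theorem lenAt_of_isZero (y : X) {M : X.Modules} (hM : IsZero M) : lenAt y M = 0 := by
  haveI := subsingleton_stalk_of_isZero y hM
  exact Module.length_eq_zero

theorem lenAt_eq_zero_iff (y : X) (M : X.Modules) : lenAt y M = 0 ↔ y ∉ CohB1.support M := by
  unfold lenAt
  rw [Module.length_eq_zero_iff]
  exact not_not.symm

theorem lenAt_biproduct (y : X) (Q : X.Modules) (m : ℕ) :
    lenAt y (⨁ fun _ : Fin m => Q) = m * lenAt y Q := by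
  induction m with
  | zero => rw [lenAt_of_isZero y (isZero_biproduct_fin_zero Q)]; simp
  | succ m ih =>
    have h := lenAt_shortExact y (biprodSuccSC Q m) (biprodSuccSC_shortExact Q m)
    have h' : lenAt y (⨁ fun _ : Fin (m + 1) => Q) = lenAt y Q + lenAt y (⨁ fun _ : Fin m => Q) := h
    rw [h', ih, Nat.cast_succ, add_mul, one_mul, add_comm]

theorem lenAt_sigma (y : X) (Q : X.Modules) (m : ℕ) :
    lenAt y (∐ fun _ : Fin m => Q) = m * lenAt y Q := by
  rw [← lenAt_biproduct, lenAt_iso y (biproduct.isoCoproduct _)]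

end Groth.Agent.Lib.T2H5.GenIsoA
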