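import Mathlib
import Groth.Agent.Lib.T2H5GenIsoA
import Groth.Agent.Lib.Helper23Extend2
import Groth.Agent.Lib.Helper23QCohAbelian

/-!
# Generic isomorphism step of dévissage, part B: supports of kernels and cokernels, transfer (helper5)
-/

set_option autoImplicit false
set_option linter.style.haveILetI false
set_option linter.unusedSectionVars false
universe u
open CategoryTheory CategoryTheory.Limits AlgebraicGeometry Opposite TopologicalSpace

namespace Groth.Agent.Lib.T2H5.GenIsoB

open Groth.Agent.Lib.T2H5.IdealMul Groth.Agent.Lib.T2H5.Devissage Groth.Agent.Lib.T2H5.GenIsoA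
open Groth.Agent.Lib.Helper23.ModLocal Groth.Agent.Lib.Helper23.QCohLocal Groth.Agent.Lib.Helper23.FinType
open Groth.Agent.Lib.Helper2.ModExact Groth.Agent.Lib.T2H5.CohSigma
open Groth.Agent.Lib.Helper4.NormDelta Groth.Agent.Lib.Helper23.StalkLin
open Groth.Agent.Lib.Helper20.StalkExact Groth.Agent.Lib.Helper23.Extend

variable {X : Scheme.{u}}

/-- every germ at a point of `W` is represented on an open inside `W`. -/
theorem exists_germ_eq_le (M : X.Modules) (W : X.Opens) (y : X) (hy : y ∈ W) (t : M.presheaf.stalk y) :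
    ∃ (U : X.Opens) (_ : U ≤ W) (hyU : y ∈ U) (s : Γ(M, U)), M.presheaf.germ U y hyU s = t := by
  obtain ⟨U, hyU, s, rfl⟩ := M.presheaf.exists_germ_eq t
  refine ⟨U ⊓ W, inf_le_right, ⟨hyU, hy⟩, M.presheaf.map (homOfLE inf_le_left).op s, ?_⟩
  exact TopCat.Presheaf.germ_res_apply M.presheaf (homOfLE inf_le_left) y ⟨hyU, hy⟩ s

theorem support_subset_of_mono {A B : X.Modules} (f : A ⟶ B) [Mono f] : CohB1.support A ⊆ CohB1.support B := by
  intro x hx hB
  haveI : Subsingleton (B.presheaf.stalk x) := hB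
  exact hx (stalkLin_injective f x).subsingleton

theorem support_subset_of_epi {A B : X.Modules} (f : A ⟶ B) [Epi f] : CohB1.support B ⊆ CohB1.support A := by
  intro x hx hA
  haveI : Subsingleton (A.presheaf.stalk x) := hA
  exact hx (stalkLin_surjective f x).subsingleton

theorem support_eq_of_iso {A B : X.Modules} (e : A ≅ B) : CohB1.support A = CohB1.support B :=
  Set.Subset.antisymm (support_subset_of_mono e.hom) (support_subset_of_epi e.hom)

theorem notMem_support_kernel_of_isoOn {A B : X.Modules} (φ : A ⟶ B) (W : X.Opens) (hφ : IsoOn φ W)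
    (y : X) (hy : y ∈ W) : y ∉ CohB1.support (kernel φ) := by
  intro h
  apply h
  refine ⟨fun a b => ?_⟩
  have key : ∀ t : (kernel φ).presheaf.stalk y, t = 0 := by
    intro t
    obtain ⟨U, hUW, hyU, s, rfl⟩ := exists_germ_eq_le (kernel φ) W y hy t
    have h1 : Scheme.Modules.Hom.app φ U (Scheme.Modules.Hom.app (kernel.ι φ) U s) = 0 := by
      have h2 : (kernel.ι φ ≫ φ).app U s = 0 := by rw [kernel.condition]; rfl
      exact h2
    haveI := hφ U hUW
    have hinj : Function.Injective (Scheme.Modules.Hom.app φ U) :=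
      (ConcreteCategory.bijective_of_isIso (Scheme.Modules.Hom.app φ U)).1
    have h3 : Scheme.Modules.Hom.app (kernel.ι φ) U s = 0 := hinj (h1.trans (map_zero _).symm)
    have h4 : s = 0 := Groth.Agent.Lib.Helper20.StalkExact.injective_app_of_mono (kernel.ι φ) U (h3.trans (map_zero _).symm)
    rw [h4, map_zero]
  rw [key a, key b]

theorem notMem_support_cokernel_of_isoOn {A B : X.Modules} (φ : A ⟶ B) (W : X.Opens) (hφ : IsoOn φ W)
    (y : X) (hy : y ∈ W) : y ∉ CohB1.support (cokernel φ) := by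
  intro h
  apply h
  refine ⟨fun a b => ?_⟩
  have key : ∀ t : (cokernel φ).presheaf.stalk y, t = 0 := by
    intro t
    obtain ⟨b, rfl⟩ := stalkLin_surjective (cokernel.π φ) y t
    obtain ⟨U, hUW, hyU, s, rfl⟩ := exists_germ_eq_le B W y hy b
    haveI := hφ U hUW
    obtain ⟨a, rfl⟩ := (ConcreteCategory.bijective_of_isIso (Scheme.Modules.Hom.app φ U)).2 s
    rw [stalkLin_germ]
    have h2 : (φ ≫ cokernel.π φ).app U a = 0 := by rw [cokernel.condition]; rfl
    have h3 : Scheme.Modules.Hom.app (cokernel.π φ) U (Scheme.Modules.Hom.app φ U a) = 0 := h2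
    rw [h3, map_zero]
  rw [key a, key b]

section transfer

variable {A B : X.Modules} (φ : A ⟶ B)

/-- `0 → ker φ → A → coim φ → 0`. -/
noncomputable def kerSC : ShortComplex X.Modules :=
  ShortComplex.mk (kernel.ι φ) (cokernel.π (kernel.ι φ)) (cokernel.condition _)

theorem kerSC_shortExact : (kerSC φ).ShortExact :=
  haveI : Mono (kerSC φ).f := inferInstanceAs (Mono (kernel.ι φ))
  haveI : Epi (kerSC φ).g := inferInstanceAs (Epi (cokernel.π (kernel.ι φ)))
  ShortComplex.ShortExact.mk (ShortComplex.exact_cokernel (kernel.ι φ))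

/-- `0 → im φ → B → coker φ → 0`. -/
noncomputable def cokerSC : ShortComplex X.Modules :=
  ShortComplex.mk (kernel.ι (cokernel.π φ)) (cokernel.π φ) (kernel.condition _)

theorem cokerSC_shortExact : (cokerSC φ).ShortExact :=
  haveI : Mono (cokerSC φ).f := inferInstanceAs (Mono (kernel.ι (cokernel.π φ)))
  haveI : Epi (cokerSC φ).g := inferInstanceAs (Epi (cokernel.π φ))
  ShortComplex.ShortExact.mk (ShortComplex.exact_kernel (cokernel.π φ))

theorem isCoh_kernel [IsLocallyNoetherian X] (hA : Coh.IsCoh A) (hB : Coh.IsCoh B) : Coh.IsCoh (kernel φ) := by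
  haveI := hA.1
  haveI := hB.1
  exact isCoh_of_mono (kernel.ι φ) hA (isQuasicoherent_kernel φ)

theorem isCoh_cokernel (hA : Coh.IsCoh A) (hB : Coh.IsCoh B) : Coh.IsCoh (cokernel φ) := by
  haveI := hA.1
  haveI := hB.1
  exact isCoh_of_epi (cokernel.π φ) hB (isQuasicoherent_cokernel φ)

theorem lenAt_eq_of_isoOn (W : X.Opens) (hφ : IsoOn φ W) (y : X) (hy : y ∈ W) : lenAt y A = lenAt y B := by
  have h1 := lenAt_shortExact y (kerSC φ) (kerSC_shortExact φ)
  have h2 := lenAt_shortExact y (cokerSC φ) (cokerSC_shortExact φ)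
  have h3 : lenAt y (kernel φ) = 0 := (lenAt_eq_zero_iff y _).2 (notMem_support_kernel_of_isoOn φ W hφ y hy)
  have h4 : lenAt y (cokernel φ) = 0 := (lenAt_eq_zero_iff y _).2 (notMem_support_cokernel_of_isoOn φ W hφ y hy)
  have h5 : lenAt y (cokernel (kernel.ι φ)) = lenAt y (kernel (cokernel.π φ)) :=
    lenAt_iso y (Abelian.coimageIsoImage φ)
  change lenAt y A = lenAt y (kernel φ) + lenAt y (cokernel (kernel.ι φ)) at h1
  change lenAt y B = lenAt y (kernel (cokernel.π φ)) + lenAt y (cokernel φ) at h2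
  rw [h1, h2, h3, h4, h5, zero_add, add_zero]

/-- **Transfer**: a morphism of coherent modules supported in `Y = closure {y}` which is an isomorphism near `y`
transports a two-out-of-three property which holds for modules with smaller support. -/
theorem prop_iff_of_isoOn [IsNoetherian X] (P : X.Modules → Prop)
    (hP : ∀ M N : X.Modules, Nonempty (M ≅ N) → P M → P N)
    (Y : Set X) (y : X) (hy : closure {y} = Y)
    (hex : ∀ S : ShortComplex X.Modules, S.ShortExact → Coh.IsCoh S.X₁ → Coh.IsCoh S.X₂ → Coh.IsCoh S.X₃ →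
      CohB1.support S.X₂ ⊆ Y →
      (P S.X₁ → P S.X₂ → P S.X₃) ∧ (P S.X₁ → P S.X₃ → P S.X₂) ∧ (P S.X₂ → P S.X₃ → P S.X₁))
    (ihN : ∀ N : X.Modules, Coh.IsCoh N → CohB1.support N ⊆ Y → CohB1.support N ≠ Y → P N)
    (hA : Coh.IsCoh A) (hB : Coh.IsCoh B) (hAY : CohB1.support A ⊆ Y) (hBY : CohB1.support B ⊆ Y)
    (W : X.Opens) (hφ : IsoOn φ W) (hyW : y ∈ W) : P A ↔ P B := by
  have hyY : y ∈ Y := hy ▸ subset_closure (Set.mem_singleton y)
  have hK : Coh.IsCoh (kernel φ) := isCoh_kernel φ hA hB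
  have hC : Coh.IsCoh (cokernel φ) := isCoh_cokernel φ hA hB
  have hIm : Coh.IsCoh (kernel (cokernel.π φ)) := isCoh_kernel _ hB hC
  have hCoim : Coh.IsCoh (cokernel (kernel.ι φ)) := isCoh_cokernel _ hK hA
  have hPK : P (kernel φ) := by
    refine ihN _ hK ((support_subset_of_mono (kernel.ι φ)).trans hAY) fun h => ?_
    exact notMem_support_kernel_of_isoOn φ W hφ y hyW (h ▸ hyY)
  have hPC : P (cokernel φ) := by
    refine ihN _ hC ((support_subset_of_epi (cokernel.π φ)).trans hBY) fun h => ?_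
    exact notMem_support_cokernel_of_isoOn φ W hφ y hyW (h ▸ hyY)
  obtain ⟨a1, a2, a3⟩ := hex (kerSC φ) (kerSC_shortExact φ) hK hA hCoim hAY
  obtain ⟨b1, b2, b3⟩ := hex (cokerSC φ) (cokerSC_shortExact φ) hIm hB hC hBY
  constructor
  · intro hPA
    exact b2 (hP _ _ ⟨Abelian.coimageIsoImage φ⟩ (a1 hPK hPA)) hPC
  · intro hPB
    exact a2 hPK (hP _ _ ⟨(Abelian.coimageIsoImage φ).symm⟩ (b3 hPB hPC))

end transfer

end Groth.Agent.Lib.T2H5.GenIsoB
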