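import Mathlib
import Groth.Agent.Lib.T2H5GenIsoB
import Groth.Agent.Lib.Helper26ModSec
import Groth.Agent.Lib.Helper2LocFree
import Groth.Agent.Lib.Helper20LocFree
import Groth.Agent.Lib.Helper23FinPres

/-!
# Generic isomorphism step of dévissage, part C: graph extension, generic freeness, direct images (helper5)
-/

set_option autoImplicit false
set_option linter.style.haveILetI false
set_option linter.unusedSectionVars false
universe u
open CategoryTheory CategoryTheory.Limits AlgebraicGeometry Opposite TopologicalSpace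

namespace Groth.Agent.Lib.T2H5.GenIsoC

open Groth.Agent.Lib.T2H5.IdealMul Groth.Agent.Lib.T2H5.Devissage Groth.Agent.Lib.T2H5.GenIsoA
open Groth.Agent.Lib.T2H5.GenIsoB
open Groth.Agent.Lib.Helper23.ModLocal Groth.Agent.Lib.Helper23.QCohLocal Groth.Agent.Lib.Helper23.FinType
open Groth.Agent.Lib.Helper2.ModExact Groth.Agent.Lib.T2H5.CohSigma
open Groth.Agent.Lib.Helper4.NormDelta Groth.Agent.Lib.Helper23.StalkLin
open Groth.Agent.Lib.Helper20.StalkExact Groth.Agent.Lib.Helper23.Extend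

attribute [local instance] Abelian.hasFiniteBiproducts

section graph

variable {X : Scheme.{u}}


/-- **Graph extension**: an isomorphism of two quasi-coherent modules over a (quasi-compact) open `D` is induced by a
correspondence `A ← H → B` of quasi-coherent modules, both of whose legs are isomorphisms over `D`. -/
theorem exists_graph (D : X.Opens) [QuasiCompact D.ι] (A B : X.Modules) [A.IsQuasicoherent] [B.IsQuasicoherent]
    (e : A.restrict D.ι ≅ B.restrict D.ι) :
    ∃ (H : X.Modules) (ψ : H ⟶ A ⊞ B), H.IsQuasicoherent ∧ Mono ψ ∧ IsoOn (ψ ≫ biprod.fst) D ∧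
      IsoOn (ψ ≫ biprod.snd) D := by
  let Rj := Scheme.Modules.restrictFunctor D.ι
  haveI : Rj.Additive := inferInstance
  haveI : (A ⊞ B).IsQuasicoherent := isQuasicoherent_biprod A B
  haveI : (Rj.obj A).IsQuasicoherent := Scheme.Modules.isQuasicoherent_restrictFunctor D.ι A
  let φ : Rj.obj A ⟶ Rj.obj (A ⊞ B) := Rj.map biprod.inl + e.hom ≫ Rj.map biprod.inr
  have h1 : φ ≫ Rj.map biprod.fst = 𝟙 _ := by
    simp only [φ, Preadditive.add_comp, Category.assoc, ← Rj.map_comp, biprod.inl_fst, biprod.inr_fst,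
      Rj.map_id, Rj.map_zero, comp_zero, add_zero]
  have h2 : φ ≫ Rj.map biprod.snd = e.hom := by
    simp only [φ, Preadditive.add_comp, Category.assoc, ← Rj.map_comp, biprod.inl_snd, biprod.inr_snd,
      Rj.map_id, Rj.map_zero, zero_add]
    exact Category.comp_id _
  haveI : Mono φ := mono_of_mono_fac h1
  obtain ⟨H, ψ, e', hH, hcomm, hmono, -⟩ := exists_extension' D.ι (A ⊞ B) (Rj.obj A) φ
  refine ⟨H, ψ, hH, hmono inferInstance, ?_, ?_⟩
  · have h3 : Rj.map (ψ ≫ biprod.fst) = e'.hom := by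
      rw [Rj.map_comp, ← hcomm, Category.assoc, h1, Category.comp_id]
    have h4 : IsIso (Rj.map (ψ ≫ biprod.fst)) := by rw [h3]; infer_instance
    have h5 := (isIso_restrict_iff D.ι (ψ ≫ biprod.fst)).1 h4
    rwa [Scheme.Opens.opensRange_ι] at h5
  · have h3 : Rj.map (ψ ≫ biprod.snd) = e'.hom ≫ e.hom := by
      rw [Rj.map_comp, ← hcomm, Category.assoc, h2]
    have h4 : IsIso (Rj.map (ψ ≫ biprod.snd)) := by rw [h3]; infer_instance
    have h5 := (isIso_restrict_iff D.ι (ψ ≫ biprod.snd)).1 h4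
    rwa [Scheme.Opens.opensRange_ι] at h5

end graph

section cat
variable {C : Type*} [Category C] [HasCoproducts.{0} C]

/-- `(O^m)^r ≅ (O^r)^m`. -/
noncomputable def swapIso (O : C) (r m : ℕ) :
    (∐ fun _ : Fin r => ∐ fun _ : Fin m => O) ≅ ∐ fun _ : Fin m => ∐ fun _ : Fin r => O :=
  sigmaSigmaIso (fun _ : Fin r => Fin m) (fun _ _ => O) ≪≫
    Sigma.whiskerEquiv (f := fun _ : (Σ _ : Fin r, Fin m) => O) (g := fun _ : (Σ _ : Fin m, Fin r) => O)
      ((Equiv.sigmaEquivProd _ _).trans ((Equiv.prodComm _ _).trans (Equiv.sigmaEquivProd _ _).symm))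
      (fun _ => Iso.refl _) ≪≫
    (sigmaSigmaIso (fun _ : Fin m => Fin r) (fun _ _ => O)).symm

end cat

section free

variable {Z : Scheme.{u}}

theorem isFlatAt_genericPoint [IsIntegral Z] (M : Z.Modules) : FlatMod.IsFlatAt M (genericPoint Z) := by
  unfold FlatMod.IsFlatAt
  letI : Field (Z.presheaf.stalk (genericPoint Z)) := inferInstanceAs (Field Z.functionField)
  infer_instance

/-- a module free over `U` is free over every smaller open -/
theorem nonempty_restrict_iso_freeMod_of_le (M : Z.Modules) {U U' : Z.Opens} (h : U' ≤ U) {n : ℕ}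
    (e : M.restrict U.ι ≅ FlatMod.freeMod (↑U) n) :
    Nonempty (M.restrict U'.ι ≅ FlatMod.freeMod (↑U') n) := by
  let j : (U' : Scheme.{u}) ⟶ U := Z.homOfLE h
  have hj : j ≫ U.ι = U'.ι := Z.homOfLE_ι h
  exact ⟨(Scheme.Modules.restrictFunctorCongr hj.symm).app M ≪≫
    (Scheme.Modules.restrictFunctorComp j U.ι).app M ≪≫
    (Scheme.Modules.restrictFunctor j).mapIso e ≪≫ Groth.Agent.Lib.Helper20.LocFree.restrictFreeMod j n⟩

/-- **Generic freeness** on an integral locally Noetherian scheme. -/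
theorem exists_generic_free [IsIntegral Z] [IsLocallyNoetherian Z] (A : Z.Modules) (hA : Coh.IsCoh A) :
    ∃ (D : Z.Opens) (m : ℕ), genericPoint Z ∈ D ∧
      Nonempty (A.restrict D.ι ≅ FlatMod.freeMod (D : Scheme.{u}) m) := by
  haveI : A.IsQuasicoherent := hA.1
  haveI : SheafOfModules.IsFiniteType (R := Z.ringCatSheaf) A := hA.2
  haveI : SheafOfModules.IsFinitePresentation (R := Z.ringCatSheaf) A :=
    isFinitePresentation_of_isFiniteType A
  exact Groth.Agent.Lib.Helper2.LocFree.exists_restrict_iso_freeMod_of_isFlatAt A (genericPoint Z)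
    (isFlatAt_genericPoint A)

open Groth.Agent.Lib.Helper26.ModSec in
/-- restriction to an open commutes with finite powers. -/
noncomputable def restrictSigmaIso (D : Z.Opens) (A : Z.Modules) (r : ℕ) :
    (∐ fun _ : Fin r => A).restrict D.ι ≅ ∐ fun _ : Fin r => A.restrict D.ι :=
  PreservesCoproduct.iso (Scheme.Modules.restrictFunctor D.ι) (fun _ : Fin r => A)

/-- two coherent modules on an integral locally Noetherian scheme have isomorphic powers near the generic point. -/
theorem exists_common_iso [IsIntegral Z] [IsLocallyNoetherian Z] (G M : Z.Modules) (hM : Coh.IsCoh M)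
    (D₁ : Z.Opens) (m : ℕ) (h₁ : genericPoint Z ∈ D₁)
    (e₁ : G.restrict D₁.ι ≅ FlatMod.freeMod (D₁ : Scheme.{u}) m) :
    ∃ (D : Z.Opens) (r : ℕ), genericPoint Z ∈ D ∧
      Nonempty ((∐ fun _ : Fin r => G).restrict D.ι ≅ (∐ fun _ : Fin m => M).restrict D.ι) := by
  obtain ⟨D₂, r, h₂, ⟨e₂⟩⟩ := exists_generic_free M hM
  obtain ⟨a⟩ := nonempty_restrict_iso_freeMod_of_le G (inf_le_left : D₁ ⊓ D₂ ≤ D₁) e₁
  obtain ⟨b⟩ := nonempty_restrict_iso_freeMod_of_le M (inf_le_right : D₁ ⊓ D₂ ≤ D₂) e₂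
  refine ⟨D₁ ⊓ D₂, r, ⟨h₁, h₂⟩, ⟨?_⟩⟩
  exact restrictSigmaIso _ G r ≪≫ Sigma.mapIso (fun _ => a) ≪≫
    swapIso (Coh.structureModule ((D₁ ⊓ D₂ : Z.Opens) : Scheme.{u})) r m ≪≫
    (Sigma.mapIso (fun _ => b)).symm ≪≫ (restrictSigmaIso _ M m).symm

end free

section push

variable {X Z : Scheme.{u}} (i : Z ⟶ X)

theorem isoOn_pushforward {A B : Z.Modules} (p : A ⟶ B) (D : Z.Opens) (hp : IsoOn p D) (W : X.Opens)
    (hW : i ⁻¹ᵁ W ≤ D) : IsoOn ((Scheme.Modules.pushforward i).map p) W := by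
  intro W' hW'
  have h1 : i ⁻¹ᵁ W' ≤ D := le_trans (fun x hx => hW' hx) hW
  exact hp (i ⁻¹ᵁ W') h1

theorem exists_opens_preimage_eq [IsClosedImmersion i] (D : Z.Opens) : ∃ W : X.Opens, i ⁻¹ᵁ W = D := by
  obtain ⟨t, ht, htD⟩ := i.isClosedEmbedding.isEmbedding.isInducing.isOpen_iff.1 D.2
  refine ⟨⟨t, ht⟩, ?_⟩
  ext x
  exact Set.ext_iff.1 htD x

theorem support_pushforward_subset (N : Z.Modules) (hcl : IsClosed (Set.range i)) :
    CohB1.support ((Scheme.Modules.pushforward i).obj N) ⊆ Set.range i := by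
  intro x hx
  by_contra hxr
  apply hx
  let W : X.Opens := ⟨(Set.range i)ᶜ, hcl.isOpen_compl⟩
  refine ⟨fun a b => ?_⟩
  have key : ∀ t : ((Scheme.Modules.pushforward i).obj N).presheaf.stalk x, t = 0 := by
    intro t
    obtain ⟨U, hUW, hxU, s, rfl⟩ := exists_germ_eq_le ((Scheme.Modules.pushforward i).obj N) W x hxr t
    have hbot : i ⁻¹ᵁ U = ⊥ := by
      ext z
      simp only [Opens.coe_bot, Set.mem_empty_iff_false, iff_false]
      intro hz
      exact hUW hz ⟨z, rfl⟩
    haveI : Subsingleton Γ(Z, i ⁻¹ᵁ U) := by rw [hbot]; infer_instance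
    haveI : Subsingleton Γ(N, i ⁻¹ᵁ U) := Module.subsingleton Γ(Z, i ⁻¹ᵁ U) Γ(N, i ⁻¹ᵁ U)
    have hs : s = 0 := Subsingleton.elim (α := Γ(N, i ⁻¹ᵁ U)) s 0
    rw [hs, map_zero]
  rw [key a, key b]

/-- the direct image commutes with finite powers. -/
noncomputable def pushSigmaIso (A : Z.Modules) (r : ℕ) :
    (Scheme.Modules.pushforward i).obj (∐ fun _ : Fin r => A) ≅
      ∐ fun _ : Fin r => (Scheme.Modules.pushforward i).obj A :=
  (Scheme.Modules.pushforward i).mapIso (biproduct.isoCoproduct _).symm ≪≫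
    (Scheme.Modules.pushforward i).mapBiproduct (fun _ : Fin r => A) ≪≫ biproduct.isoCoproduct _

end push

end Groth.Agent.Lib.T2H5.GenIsoC
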