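import Mathlib
import Groth.Agent.Lib.T2H5GenIsoC
import Groth.Agent.Lib.Helper10RedInd
import Groth.Agent.Lib.Helper20FormalPull
import Groth.Agent.Lib.Helper2FinPushFP

/-!
# Generic isomorphism step of dévissage, part D: the irreducible step (helper5)
-/

set_option autoImplicit false
set_option linter.style.haveILetI false
set_option linter.unusedSectionVars false
universe u
open CategoryTheory CategoryTheory.Limits AlgebraicGeometry Opposite TopologicalSpace

namespace Groth.Agent.Lib.T2H5.GenIsoD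

open Groth.Agent.Lib.T2H5.IdealMul Groth.Agent.Lib.T2H5.Devissage Groth.Agent.Lib.T2H5.GenIsoA
open Groth.Agent.Lib.T2H5.GenIsoB Groth.Agent.Lib.T2H5.GenIsoC
open Groth.Agent.Lib.Helper23.ModLocal Groth.Agent.Lib.Helper23.QCohLocal Groth.Agent.Lib.Helper23.FinType
open Groth.Agent.Lib.Helper2.ModExact Groth.Agent.Lib.T2H5.CohSigma
open Groth.Agent.Lib.Helper4.NormDelta Groth.Agent.Lib.Helper23.StalkLin
open Groth.Agent.Lib.Helper20.StalkExact Groth.Agent.Lib.Helper23.Extend

attribute [local instance] Abelian.hasFiniteBiproducts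

variable {X : Scheme.{u}}

section closedImm

variable {Z : Scheme.{u}} (i : Z ⟶ X) [IsClosedImmersion i]

theorem isCoh_pushforward (F : Z.Modules) (hF : Coh.IsCoh F) :
    Coh.IsCoh ((Scheme.Modules.pushforward i).obj F) := by
  haveI := hF.1
  haveI := hF.2
  exact ⟨isQuasicoherent_pushforward i F,
    (Groth.Agent.Lib.Helper2.FinPushFP.isFiniteType_pushforward_iff i F).1 hF.2⟩

theorem isCoh_pullback {Y : Scheme.{u}} (f : Y ⟶ X) (F : X.Modules) (hF : Coh.IsCoh F) :
    Coh.IsCoh ((Scheme.Modules.pullback f).obj F) := by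
  haveI := hF.1
  haveI := hF.2
  exact ⟨Groth.Agent.Lib.Helper20.PullbackAff.isQuasicoherent_pullback f F,
    Groth.Agent.Lib.Helper20.FormalPull.isFiniteType_pullback f F⟩

theorem irreducibleSpace_of_range (h : IsIrreducible (Set.range i)) : IrreducibleSpace Z := by
  haveI : IrreducibleSpace (Set.range i) := Subtype.irreducibleSpace h
  exact (i.isClosedEmbedding.isEmbedding.toHomeomorph).irreducibleSpace_iff.2 inferInstance

theorem closure_genericPoint_image [IrreducibleSpace Z] :
    closure {i (genericPoint Z)} = Set.range i := by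
  have h1 : closure ({genericPoint Z} : Set Z) = Set.univ := genericPoint_closure Z
  have h2 := i.isClosedEmbedding.closure_image_eq ({genericPoint Z} : Set Z)
  rw [Set.image_singleton] at h2
  rw [h2, h1, Set.image_univ]

end closedImm


section main

open Scheme.IdealSheafData

theorem support_biproduct_subset (G : X.Modules) (r : ℕ) :
    CohB1.support (⨁ fun _ : Fin r => G) ⊆ CohB1.support G := by
  intro x hx
  by_contra hG
  have h1 : lenAt x G = 0 := (lenAt_eq_zero_iff x G).2 hG
  have h2 : lenAt x (⨁ fun _ : Fin r => G) = 0 := by rw [lenAt_biproduct, h1, mul_zero]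
  exact (lenAt_eq_zero_iff x _).1 h2 hx

theorem support_sigma_subset (G : X.Modules) (r : ℕ) :
    CohB1.support (∐ fun _ : Fin r => G) ⊆ CohB1.support G := by
  rw [← support_eq_of_iso (biproduct.isoCoproduct fun _ : Fin r => G)]
  exact support_biproduct_subset G r

/-- powers of a module in a class closed under extensions of modules supported in `Y`. -/
theorem prop_sigma_of_support [IsLocallyNoetherian X] (P : X.Modules → Prop)
    (hP : ∀ M N : X.Modules, Nonempty (M ≅ N) → P M → P N)
    (h0 : ∀ M : X.Modules, IsZero M → P M) (Y : Set X)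
    (hext : ∀ S : ShortComplex X.Modules, S.ShortExact → Coh.IsCoh S.X₁ → Coh.IsCoh S.X₂ → Coh.IsCoh S.X₃ →
      CohB1.support S.X₂ ⊆ Y → P S.X₁ → P S.X₃ → P S.X₂)
    (G : X.Modules) (hG : Coh.IsCoh G) (hGY : CohB1.support G ⊆ Y) (hPG : P G) (r : ℕ) :
    P (∐ fun _ : Fin r => G) := by
  have h := prop_sigma (fun M => CohB1.support M ⊆ Y → P M)
    (fun M N ⟨e⟩ hM hN => hP M N ⟨e⟩ (hM (by rw [support_eq_of_iso e]; exact hN)))
    (fun M hM _ => h0 M hM)
    (fun S hS h1 h2 h3 hP1 hP3 hS2 => by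
      haveI := hS.mono_f
      haveI := hS.epi_g
      exact hext S hS h1 h2 h3 hS2 (hP1 ((support_subset_of_mono S.f).trans hS2))
        (hP3 ((support_subset_of_epi S.g).trans hS2)))
    G hG (fun _ => hPG) r
  exact h ((support_sigma_subset G r).trans hGY)

theorem isCoh_biprod [IsLocallyNoetherian X] (A B : X.Modules) (hA : Coh.IsCoh A) (hB : Coh.IsCoh B) :
    Coh.IsCoh (A ⊞ B) := by
  have hS : (ShortComplex.mk (biprod.inl : A ⟶ A ⊞ B) (biprod.snd : A ⊞ B ⟶ B) (by simp)).ShortExact :=
    (ShortComplex.Splitting.ofHasBinaryBiproduct A B).shortExact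
  exact isCoh_of_shortExact _ hS hA hB

/-- **The irreducible step of dévissage.** -/
theorem irr_step [IsNoetherian X] (P : X.Modules → Prop)
    (hP : ∀ M N : X.Modules, Nonempty (M ≅ N) → P M → P N)
    (h0 : ∀ M : X.Modules, IsZero M → P M)
    (Y : Set X) (hY : IsClosed Y) (hirr : IsIrreducible Y)
    (hex : ∀ S : ShortComplex X.Modules, S.ShortExact → Coh.IsCoh S.X₁ → Coh.IsCoh S.X₂ → Coh.IsCoh S.X₃ →
      CohB1.support S.X₂ ⊆ Y →
      (P S.X₁ → P S.X₂ → P S.X₃) ∧ (P S.X₁ → P S.X₃ → P S.X₂) ∧ (P S.X₂ → P S.X₃ → P S.X₁))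
    (ihN : ∀ N : X.Modules, Coh.IsCoh N → CohB1.support N ⊆ Y → CohB1.support N ≠ Y → P N)
    (y : X) (hy : closure {y} = Y)
    (G : X.Modules) (hG : Coh.IsCoh G) (hGk : ClSub.KilledByIdeal (vanishingIdeal ⟨Y, hY⟩) G) (hPG : P G) :
    ∃ (m : ℕ) (c : ℕ∞), lenAt y G = m * c ∧
      ∀ M : X.Modules, Coh.IsCoh M → ClSub.KilledByIdeal (vanishingIdeal ⟨Y, hY⟩) M →
        P (∐ fun _ : Fin m => M) := by
  set I := vanishingIdeal ⟨Y, hY⟩ with hI
  let i := I.subschemeι
  have hr : Set.range i = Y := by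
    rw [range_subschemeι, hI, coe_support_vanishingIdeal]; rfl
  haveI : IsReduced I.subscheme := Groth.Agent.Lib.Helper10.RedInd.isReduced_subscheme_vanishingIdeal ⟨Y, hY⟩
  haveI : IrreducibleSpace I.subscheme := irreducibleSpace_of_range i (by rw [hr]; exact hirr)
  haveI : IsIntegral I.subscheme := isIntegral_of_irreducibleSpace_of_isReduced _
  haveI : IsLocallyNoetherian I.subscheme := LocallyOfFiniteType.isLocallyNoetherian i
  have hcl : IsClosed (Set.range i) := by rw [hr]; exact hY
  -- the generic point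
  have hyξ : i (genericPoint I.subscheme) = y := by
    have h1 : IsGenericPoint (i (genericPoint I.subscheme)) Y := by
      rw [← hr]; exact closure_genericPoint_image i
    exact h1.eq hy
  -- supports of direct images
  have hsuppPush : ∀ N : I.subscheme.Modules, CohB1.support ((Scheme.Modules.pushforward i).obj N) ⊆ Y :=
    fun N => hr ▸ support_pushforward_subset i N hcl
  -- the module `G` on the subscheme
  have hG' : Coh.IsCoh ((Scheme.Modules.pullback i).obj G) := isCoh_pullback i G hG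
  haveI : G.IsQuasicoherent := hG.1
  haveI := isIso_unit_of_killed I G hGk
  let eG : G ≅ (Scheme.Modules.pushforward i).obj ((Scheme.Modules.pullback i).obj G) := asIso (unit I G)
  have hGY : CohB1.support G ⊆ Y := by rw [support_eq_of_iso eG]; exact hsuppPush _
  obtain ⟨D₁, m, hξ₁, ⟨e₁⟩⟩ := exists_generic_free ((Scheme.Modules.pullback i).obj G) hG'
  refine ⟨m, lenAt y ((Scheme.Modules.pushforward i).obj (Coh.structureModule I.subscheme)), ?_, ?_⟩
  · -- the length of the stalk
    haveI : ((Scheme.Modules.pullback i).obj G).IsQuasicoherent := hG'.1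
    haveI : (FlatMod.freeMod I.subscheme m).IsQuasicoherent :=
      isQuasicoherent_sigma _ fun _ => Groth.Agent.Lib.Helper20.OmegaAff.isQuasicoherent_structureModule
    obtain ⟨H, ψ, hH, hψ, hp, hq⟩ := exists_graph D₁ ((Scheme.Modules.pullback i).obj G)
      (FlatMod.freeMod I.subscheme m)
      (e₁ ≪≫ (Groth.Agent.Lib.Helper20.LocFree.restrictFreeMod D₁.ι m).symm)
    obtain ⟨W, hW⟩ := exists_opens_preimage_eq i D₁
    have hyW : y ∈ W := by
      rw [← hyξ]
      have : genericPoint I.subscheme ∈ i ⁻¹ᵁ W := by rw [hW]; exact hξ₁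
      exact this
    have l1 := lenAt_eq_of_isoOn _ W (isoOn_pushforward i _ D₁ hp W hW.le) y hyW
    have l2 := lenAt_eq_of_isoOn _ W (isoOn_pushforward i _ D₁ hq W hW.le) y hyW
    rw [lenAt_iso y eG, ← l1, l2, lenAt_iso y (pushSigmaIso i (Coh.structureModule I.subscheme) m), lenAt_sigma]
  · intro M hM hMk
    haveI : M.IsQuasicoherent := hM.1
    haveI := isIso_unit_of_killed I M hMk
    let eM : M ≅ (Scheme.Modules.pushforward i).obj ((Scheme.Modules.pullback i).obj M) := asIso (unit I M)
    have hM' : Coh.IsCoh ((Scheme.Modules.pullback i).obj M) := isCoh_pullback i M hM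
    obtain ⟨D, r, hξ, ⟨e⟩⟩ := exists_common_iso ((Scheme.Modules.pullback i).obj G)
      ((Scheme.Modules.pullback i).obj M) hM' D₁ m hξ₁ e₁
    have hA : Coh.IsCoh (∐ fun _ : Fin r => (Scheme.Modules.pullback i).obj G) := isCoh_sigma _ fun _ => hG'
    have hB : Coh.IsCoh (∐ fun _ : Fin m => (Scheme.Modules.pullback i).obj M) := isCoh_sigma _ fun _ => hM'
    haveI := hA.1
    haveI := hB.1
    obtain ⟨H, ψ, hH, hψ, hp, hq⟩ := exists_graph D _ _ e
    have hHc : Coh.IsCoh H := isCoh_of_mono ψ (isCoh_biprod _ _ hA hB) hH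
    obtain ⟨W, hW⟩ := exists_opens_preimage_eq i D
    have hyW : y ∈ W := by
      rw [← hyξ]
      have : genericPoint I.subscheme ∈ i ⁻¹ᵁ W := by rw [hW]; exact hξ
      exact this
    have t1 := prop_iff_of_isoOn _ P hP Y y hy hex ihN (isCoh_pushforward i H hHc) (isCoh_pushforward i _ hA)
      (hsuppPush _) (hsuppPush _) W (isoOn_pushforward i _ D hp W hW.le) hyW
    have t2 := prop_iff_of_isoOn _ P hP Y y hy hex ihN (isCoh_pushforward i H hHc) (isCoh_pushforward i _ hB)
      (hsuppPush _) (hsuppPush _) W (isoOn_pushforward i _ D hq W hW.le) hyW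
    have hPr : P (∐ fun _ : Fin r => G) :=
      prop_sigma_of_support P hP h0 Y (fun S hS h1 h2 h3 hS2 => (hex S hS h1 h2 h3 hS2).2.1) G hG hGY hPG r
    have hP1 : P ((Scheme.Modules.pushforward i).obj (∐ fun _ : Fin r => (Scheme.Modules.pullback i).obj G)) :=
      hP _ _ ⟨Sigma.mapIso (fun _ => eG) ≪≫ (pushSigmaIso i _ r).symm⟩ hPr
    have hP2 := t2.1 (t1.2 hP1)
    exact hP _ _ ⟨pushSigmaIso i _ m ≪≫ (Sigma.mapIso (fun _ => eM)).symm⟩ hP2

end main

end Groth.Agent.Lib.T2H5.GenIsoD
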