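import Mathlib
import Groth.Agent.Lib.T2H5GenIsoD

/-!
# Generic isomorphism step of dévissage, part E: residue field form of the irreducible step (helper5)
-/

set_option autoImplicit false
set_option linter.style.haveILetI false
set_option linter.unusedSectionVars false
universe u
open CategoryTheory CategoryTheory.Limits AlgebraicGeometry Opposite TopologicalSpace

namespace Groth.Agent.Lib.T2H5.GenIsoE

open Groth.Agent.Lib.T2H5.IdealMul Groth.Agent.Lib.T2H5.Devissage Groth.Agent.Lib.T2H5.GenIsoA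
open Groth.Agent.Lib.T2H5.GenIsoB Groth.Agent.Lib.T2H5.GenIsoC Groth.Agent.Lib.T2H5.GenIsoD
open Groth.Agent.Lib.Helper23.ModLocal Groth.Agent.Lib.Helper23.QCohLocal Groth.Agent.Lib.Helper23.FinType
open Groth.Agent.Lib.Helper2.ModExact Groth.Agent.Lib.T2H5.CohSigma
open Groth.Agent.Lib.Helper4.NormDelta Groth.Agent.Lib.Helper23.StalkLin
open Groth.Agent.Lib.Helper20.StalkExact Groth.Agent.Lib.Helper23.Extend
open Scheme.IdealSheafData

variable {X : Scheme.{u}}

theorem eq_one_of_one_eq_mul {m : ℕ} {c : ℕ∞} (h : (1 : ℕ∞) = m * c) : m = 1 := by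
  induction c using ENat.recTopCoe with
  | top =>
    rcases Nat.eq_zero_or_pos m with h' | h'
    · subst h'
      simp at h
    · rw [ENat.mul_top (by exact_mod_cast h'.ne')] at h
      simp at h
  | coe c =>
    have h1 : m * c = 1 := by exact_mod_cast h.symm
    exact Nat.eq_one_of_mul_eq_one_right h1

section subscheme

variable (Y : Set X) (hY : IsClosed Y)

theorem range_subschemeι_vanishingIdeal :
    Set.range (vanishingIdeal ⟨Y, hY⟩).subschemeι = Y := by
  rw [range_subschemeι, coe_support_vanishingIdeal]; rfl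

theorem isIntegral_subscheme_vanishingIdeal (hirr : IsIrreducible Y) :
    IsIntegral (vanishingIdeal ⟨Y, hY⟩).subscheme := by
  haveI : IsReduced (vanishingIdeal ⟨Y, hY⟩).subscheme :=
    Groth.Agent.Lib.Helper10.RedInd.isReduced_subscheme_vanishingIdeal ⟨Y, hY⟩
  haveI : IrreducibleSpace (vanishingIdeal ⟨Y, hY⟩).subscheme :=
    irreducibleSpace_of_range (vanishingIdeal ⟨Y, hY⟩).subschemeι
      (by rw [range_subschemeι_vanishingIdeal]; exact hirr)
  exact isIntegral_of_irreducibleSpace_of_isReduced _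

end subscheme

/-- sections of an ideal have germs in the maximal ideal at points of its support. -/
theorem germ_mem_maximalIdeal (I : X.IdealSheafData) (U : X.affineOpens) (y : X) (hyU : y ∈ U.1)
    (hy : y ∈ I.support) (a : Γ(X, U.1)) (ha : a ∈ I.ideal U) :
    X.presheaf.germ U.1 y hyU a ∈ IsLocalRing.maximalIdeal (X.presheaf.stalk y) := by
  rw [IsLocalRing.mem_maximalIdeal, mem_nonunits_iff]
  intro hu
  have h1 : y ∈ X.zeroLocus (U := U.1) (I.ideal U) := (mem_support_iff_of_mem hyU).1 hy
  rw [Scheme.mem_zeroLocus_iff] at h1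
  exact h1 a ha ((Scheme.mem_basicOpen X a y hyU).2 hu)

/-- if the maximal ideal kills the stalk of `G` at a point `y` of the support of `I`, then `(I G)_y = 0`. -/
theorem notMem_support_idealMul (I : X.IdealSheafData) (G : X.Modules) [G.IsQuasicoherent] (y : X)
    (hy : y ∈ I.support)
    (hk : ∀ a ∈ IsLocalRing.maximalIdeal (X.presheaf.stalk y), ∀ t : G.presheaf.stalk y, a • t = 0) :
    y ∉ CohB1.support ((Dual3.idealMul I).obj G) := by
  intro h
  apply h
  refine ⟨fun a b => ?_⟩
  have key : ∀ t : ((Dual3.idealMul I).obj G).presheaf.stalk y, t = 0 := by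
    intro t
    obtain ⟨U, hU, hyU, -⟩ := exists_isAffineOpen_mem_and_subset (x := y) (U := ⊤) trivial
    obtain ⟨V, hVU, hyV, s, rfl⟩ := exists_germ_eq_le ((Dual3.idealMul I).obj G) U y hyU t
    obtain ⟨V', hV', hyV', hV'V⟩ := exists_isAffineOpen_mem_and_subset (x := y) (U := V) hyV
    have hres : ((Dual3.idealMul I).obj G).presheaf.germ V y hyV s =
        ((Dual3.idealMul I).obj G).presheaf.germ V' y hyV'
          (((Dual3.idealMul I).obj G).presheaf.map (homOfLE hV'V).op s) :=
      (TopCat.Presheaf.germ_res_apply _ (homOfLE hV'V) y hyV' s).symm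
    rw [hres]
    set s' := ((Dual3.idealMul I).obj G).presheaf.map (homOfLE hV'V).op s with hs'
    haveI : Mono (Dual3.idealMulι I G) := Dual3.mono_idealMulι I G
    apply stalkLin_injective (Dual3.idealMulι I G) y
    rw [stalkLin_germ, map_zero]
    have hmem : (Dual3.idealMulι I G).app V' s' ∈
        (I.ideal ⟨V', hV'⟩ • ⊤ : Submodule Γ(X, V') Γ(G, V')) :=
      (exists_idealMulι_app_eq_iff I G ⟨V', hV'⟩ _).1 ⟨s', rfl⟩
    refine Submodule.smul_induction_on hmem ?_ ?_
    · intro a ha g _
      rw [Groth.Agent.Lib.Helper2.QCoh.germ_smul]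
      exact hk _ (germ_mem_maximalIdeal I ⟨V', hV'⟩ y hyV' hy a ha) _
    · intro g₁ g₂ h₁ h₂
      rw [map_add, h₁, h₂, add_zero]
  rw [key a, key b]

theorem smul_eq_zero_of_equiv_residueField {R M : Type*} [CommRing R] [IsLocalRing R] [AddCommGroup M]
    [Module R M] (e : M ≃ₗ[R] IsLocalRing.ResidueField R) (a : R) (ha : a ∈ IsLocalRing.maximalIdeal R)
    (t : M) : a • t = 0 := by
  apply e.injective
  rw [map_smul, map_zero, Algebra.smul_def]
  have : algebraMap R (IsLocalRing.ResidueField R) a = 0 :=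
    (IsLocalRing.residue_eq_zero_iff a).2 ha
  rw [this, zero_mul]

theorem length_eq_one_of_equiv_residueField {R M : Type*} [CommRing R] [IsLocalRing R] [AddCommGroup M]
    [Module R M] (e : M ≃ₗ[R] IsLocalRing.ResidueField R) : Module.length R M = 1 := by
  haveI : IsSimpleModule R M :=
    isSimpleModule_iff_quot_maximal.2 ⟨IsLocalRing.maximalIdeal R, inferInstance, ⟨e⟩⟩
  exact Module.length_eq_one R M


/-- **The irreducible step, residue field form**: if `G` is coherent, supported in the irreducible closed set `Y` with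
generic point `y`, with stalk at `y` the residue field, and `P G`, then `P` holds for all coherent modules killed by the
ideal of `Y`. -/
theorem irr_step_residue [IsNoetherian X] (P : X.Modules → Prop)
    (hP : ∀ M N : X.Modules, Nonempty (M ≅ N) → P M → P N)
    (h0 : ∀ M : X.Modules, IsZero M → P M)
    (Y : Set X) (hY : IsClosed Y) (hirr : IsIrreducible Y)
    (hex : ∀ S : ShortComplex X.Modules, S.ShortExact → Coh.IsCoh S.X₁ → Coh.IsCoh S.X₂ → Coh.IsCoh S.X₃ →
      CohB1.support S.X₂ ⊆ Y →
      (P S.X₁ → P S.X₂ → P S.X₃) ∧ (P S.X₁ → P S.X₃ → P S.X₂) ∧ (P S.X₂ → P S.X₃ → P S.X₁))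
    (ihN : ∀ N : X.Modules, Coh.IsCoh N → CohB1.support N ⊆ Y → CohB1.support N ≠ Y → P N)
    (y : X) (hy : closure {y} = Y)
    (G : X.Modules) (hG : Coh.IsCoh G) (hGY : CohB1.support G ⊆ Y)
    (e : ↑(G.presheaf.stalk y) ≃ₗ[X.presheaf.stalk y] IsLocalRing.ResidueField (X.presheaf.stalk y))
    (hPG : P G) (M : X.Modules) (hM : Coh.IsCoh M)
    (hMk : ClSub.KilledByIdeal (vanishingIdeal ⟨Y, hY⟩) M) : P M := by
  set I := vanishingIdeal ⟨Y, hY⟩ with hI
  haveI : G.IsQuasicoherent := hG.1
  have hyY : y ∈ Y := hy ▸ subset_closure (Set.mem_singleton y)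
  have hyI : y ∈ I.support := by
    have h1 : (I.support : Set X) = Y := by rw [hI, coe_support_vanishingIdeal]; rfl
    have h2 : y ∈ (I.support : Set X) := by rw [h1]; exact hyY
    exact h2
  have hS := shortExact_idealMul I G
  have hIG : Coh.IsCoh ((Dual3.idealMul I).obj G) := isCoh_idealMul I G hG
  have hG₁ : Coh.IsCoh ((Scheme.Modules.pushforward I.subschemeι).obj
      ((Scheme.Modules.pullback I.subschemeι).obj G)) := isCoh_pushPull I G hG
  have hnot : y ∉ CohB1.support ((Dual3.idealMul I).obj G) :=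
    notMem_support_idealMul I G y hyI fun a ha t => smul_eq_zero_of_equiv_residueField e a ha t
  haveI : Mono (Dual3.idealMulι I G) := Dual3.mono_idealMulι I G
  have hPIG : P ((Dual3.idealMul I).obj G) := by
    refine ihN _ hIG ((support_subset_of_mono (Dual3.idealMulι I G)).trans hGY) fun h => ?_
    exact hnot (h ▸ hyY)
  have hPG₁ := (hex _ hS hIG hG hG₁ hGY).1 hPIG hPG
  obtain ⟨m, c, hmc, hall⟩ := irr_step P hP h0 Y hY hirr hex ihN y hy _ hG₁ (killed_pushPull I G) hPG₁
  have hl : lenAt y ((Scheme.Modules.pushforward I.subschemeι).obj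
      ((Scheme.Modules.pullback I.subschemeι).obj G)) = 1 := by
    have h1 := lenAt_shortExact y _ hS
    have h2 : lenAt y ((Dual3.idealMul I).obj G) = 0 := (lenAt_eq_zero_iff y _).2 hnot
    have h3 : lenAt y G = 1 := length_eq_one_of_equiv_residueField e
    change lenAt y G = lenAt y ((Dual3.idealMul I).obj G) + _ at h1
    rw [h2, zero_add, h3] at h1
    exact h1.symm
  rw [hl] at hmc
  have hm := eq_one_of_one_eq_mul hmc
  subst hm
  exact hP _ _ ⟨coproductUniqueIso (fun _ : Fin 1 => M)⟩ (hall M hM hMk)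

end Groth.Agent.Lib.T2H5.GenIsoE
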