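import Mathlib
import Groth.Agent.Lib.T2H5GenIsoE
import Groth.Agent.Lib.T2H5ClosedLin

/-!
# Generic isomorphism step of dévissage, part F: sections supported off an open, ideal form of the irreducible step (helper5)
-/

set_option autoImplicit false
set_option linter.style.haveILetI false
set_option linter.unusedSectionVars false
universe u
open CategoryTheory CategoryTheory.Limits AlgebraicGeometry Opposite TopologicalSpace

namespace Groth.Agent.Lib.T2H5.GenIsoF

open Groth.Agent.Lib.T2H5.IdealMul Groth.Agent.Lib.T2H5.Devissage Groth.Agent.Lib.T2H5.GenIsoA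
open Groth.Agent.Lib.T2H5.GenIsoB Groth.Agent.Lib.T2H5.GenIsoC Groth.Agent.Lib.T2H5.GenIsoD
open Groth.Agent.Lib.T2H5.GenIsoE
open Groth.Agent.Lib.Helper23.ModLocal Groth.Agent.Lib.Helper23.QCohLocal Groth.Agent.Lib.Helper23.FinType
open Groth.Agent.Lib.Helper2.ModExact Groth.Agent.Lib.T2H5.CohSigma
open Groth.Agent.Lib.Helper4.NormDelta Groth.Agent.Lib.Helper23.StalkLin
open Groth.Agent.Lib.Helper20.StalkExact Groth.Agent.Lib.Helper23.Extend

attribute [local instance] Abelian.hasFiniteBiproducts

theorem mono_of_app_injective {Y : Scheme.{u}} {M N : Y.Modules} (φ : M ⟶ N)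
    (h : ∀ U : Y.Opens, Function.Injective (φ.app U)) : Mono φ := by
  apply Functor.mono_of_mono_map (Scheme.Modules.toPresheaf Y)
  apply (config := { allowSynthFailures := true }) NatTrans.mono_of_mono_app
  intro U
  rw [AddCommGrpCat.mono_iff_injective]
  exact h U.unop

section TF

variable {Z : Scheme.{u}} (D : Z.Opens)

/-- the unit `A ⟶ j_* j^* A` for the inclusion `j` of the open `D`. -/
noncomputable abbrev η (A : Z.Modules) :
    A ⟶ (Scheme.Modules.pushforward D.ι).obj ((Scheme.Modules.restrictFunctor D.ι).obj A) :=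
  (Scheme.Modules.restrictAdjunction D.ι).unit.app A

/-- `A` has no nonzero sections supported off `D`. -/
def TF (A : Z.Modules) : Prop := Mono (η D A)

theorem isIso_restrict_η (A : Z.Modules) : IsIso ((Scheme.Modules.restrictFunctor D.ι).map (η D A)) := by
  have htri : (Scheme.Modules.restrictFunctor D.ι).map (η D A) ≫
      (Scheme.Modules.restrictAdjunction D.ι).counit.app ((Scheme.Modules.restrictFunctor D.ι).obj A) = 𝟙 _ :=
    (Scheme.Modules.restrictAdjunction D.ι).left_triangle_components A
  have : IsIso ((Scheme.Modules.restrictAdjunction D.ι).counit.app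
      ((Scheme.Modules.restrictFunctor D.ι).obj A)) := inferInstance
  have h : (Scheme.Modules.restrictFunctor D.ι).map (η D A) =
      inv ((Scheme.Modules.restrictAdjunction D.ι).counit.app ((Scheme.Modules.restrictFunctor D.ι).obj A)) :=
    IsIso.eq_inv_of_inv_hom_id htri
  rw [h]; infer_instance

theorem isoOn_η (A : Z.Modules) : IsoOn (η D A) D := by
  have h := (isIso_restrict_iff D.ι (η D A)).1 (isIso_restrict_η D A)
  rwa [Scheme.Opens.opensRange_ι] at h

theorem tf_pushforward (N : (D : Scheme.{u}).Modules) : TF D ((Scheme.Modules.pushforward D.ι).obj N) := by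
  have h : η D ((Scheme.Modules.pushforward D.ι).obj N) ≫
      (Scheme.Modules.pushforward D.ι).map ((Scheme.Modules.restrictAdjunction D.ι).counit.app N) = 𝟙 _ :=
    (Scheme.Modules.restrictAdjunction D.ι).right_triangle_components N
  exact mono_of_mono_fac h

theorem tf_of_mono {A B : Z.Modules} (m : A ⟶ B) [Mono m] (hB : TF D B) : TF D A := by
  have hnat : η D A ≫ (Scheme.Modules.pushforward D.ι).map ((Scheme.Modules.restrictFunctor D.ι).map m) =
      m ≫ η D B := ((Scheme.Modules.restrictAdjunction D.ι).unit.naturality m).symm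
  haveI : Mono (η D B) := hB
  haveI : Mono (η D A ≫ (Scheme.Modules.pushforward D.ι).map ((Scheme.Modules.restrictFunctor D.ι).map m)) := by
    rw [hnat]; infer_instance
  exact mono_of_mono (η D A) ((Scheme.Modules.pushforward D.ι).map ((Scheme.Modules.restrictFunctor D.ι).map m))

theorem tf_coimage (G : Z.Modules) : TF D (cokernel (kernel.ι (η D G))) := by
  haveI : Mono (Abelian.factorThruCoimage (η D G)) := inferInstance
  exact tf_of_mono D (Abelian.factorThruCoimage (η D G)) (tf_pushforward D _)

theorem eq_zero_of_restrict_eq_zero {W B : Z.Modules} (hB : TF D B) (g : W ⟶ B)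
    (h : (Scheme.Modules.restrictFunctor D.ι).map g = 0) : g = 0 := by
  haveI : Mono (η D B) := hB
  have hnat : η D W ≫ (Scheme.Modules.pushforward D.ι).map ((Scheme.Modules.restrictFunctor D.ι).map g) =
      g ≫ η D B := ((Scheme.Modules.restrictAdjunction D.ι).unit.naturality g).symm
  rw [h, Functor.map_zero, comp_zero] at hnat
  exact (cancel_mono (η D B)).1 (hnat.symm.trans zero_comp.symm)

theorem tf_biproduct {r : ℕ} (A : Fin r → Z.Modules) (h : ∀ k, TF D (A k)) : TF D (⨁ A) := by
  unfold TF
  refine Preadditive.mono_of_cancel_zero _ fun {W} f hf => ?_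
  refine biproduct.hom_ext _ _ fun k => ?_
  rw [zero_comp]
  haveI : Mono (η D (A k)) := h k
  have hnat : η D (⨁ A) ≫ (Scheme.Modules.pushforward D.ι).map
      ((Scheme.Modules.restrictFunctor D.ι).map (biproduct.π A k)) = biproduct.π A k ≫ η D (A k) :=
    ((Scheme.Modules.restrictAdjunction D.ι).unit.naturality (biproduct.π A k)).symm
  have h1 : (f ≫ biproduct.π A k) ≫ η D (A k) = 0 := by
    rw [Category.assoc, ← hnat, reassoc_of% hf, zero_comp]
  exact (cancel_mono (η D (A k))).1 (h1.trans zero_comp.symm)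

theorem tf_structureModule [IsIntegral Z] (hD : (D : Set Z).Nonempty) : TF D (Coh.structureModule Z) := by
  unfold TF
  refine mono_of_app_injective _ fun U => ?_
  rw [Scheme.Modules.restrictAdjunction_unit_app_app]
  by_cases hU : (U : Set Z).Nonempty
  · haveI hne : Nonempty ↥((D.ι ''ᵁ (D.ι ⁻¹ᵁ U) : Z.Opens) : Scheme.{u}) := by
      have hirr : IsPreirreducible (Set.univ : Set Z) := (IrreducibleSpace.isIrreducible_univ Z).2
      obtain ⟨z, -, hzU, hzD⟩ := hirr U D U.2 D.2 (by simpa using hU) (by simpa using hD)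
      refine ⟨⟨z, ?_⟩⟩
      rw [Scheme.Hom.image_preimage_eq_opensRange_inf, Scheme.Opens.opensRange_ι]
      exact ⟨hzD, hzU⟩
    exact map_injective_of_isIntegral Z (homOfLE (D.ι.image_preimage_le U))
  · have hU0 : U = ⊥ := by
      ext x
      simp only [Opens.coe_bot, Set.mem_empty_iff_false, iff_false]
      exact fun hx => hU ⟨x, hx⟩
    subst hU0
    intro a b _
    haveI : Subsingleton Γ(Z, (⊥ : Z.Opens)) := inferInstance
    exact Subsingleton.elim (α := Γ(Z, (⊥ : Z.Opens))) a b

theorem mono_fst_of_tf {H A B : Z.Modules} (ψ : H ⟶ A ⊞ B) [Mono ψ] (hp : IsoOn (ψ ≫ biprod.fst) D)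
    (hB : TF D B) : Mono (ψ ≫ biprod.fst) := by
  refine Preadditive.mono_of_cancel_zero _ fun {W} f hf => ?_
  have hiso : IsIso ((Scheme.Modules.restrictFunctor D.ι).map (ψ ≫ biprod.fst)) := by
    rw [isIso_restrict_iff, Scheme.Opens.opensRange_ι]; exact hp
  have h1 : (Scheme.Modules.restrictFunctor D.ι).map f = 0 := by
    have h2 : (Scheme.Modules.restrictFunctor D.ι).map f ≫
        (Scheme.Modules.restrictFunctor D.ι).map (ψ ≫ biprod.fst) = 0 := by
      rw [← Functor.map_comp, hf, Functor.map_zero]
    exact (cancel_mono ((Scheme.Modules.restrictFunctor D.ι).map (ψ ≫ biprod.fst))).1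
      (h2.trans zero_comp.symm)
  have h3 : f ≫ ψ ≫ biprod.snd = 0 := by
    refine eq_zero_of_restrict_eq_zero D hB _ ?_
    rw [Functor.map_comp, h1, zero_comp]
  have h4 : f ≫ ψ = 0 := by
    refine biprod.hom_ext _ _ ?_ ?_
    · rw [Category.assoc, hf, zero_comp]
    · rw [Category.assoc, h3, zero_comp]
  exact (cancel_mono ψ).1 (h4.trans zero_comp.symm)

theorem mono_snd_of_tf {H A B : Z.Modules} (ψ : H ⟶ A ⊞ B) [Mono ψ] (hq : IsoOn (ψ ≫ biprod.snd) D)
    (hA : TF D A) : Mono (ψ ≫ biprod.snd) := by
  refine Preadditive.mono_of_cancel_zero _ fun {W} f hf => ?_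
  have hiso : IsIso ((Scheme.Modules.restrictFunctor D.ι).map (ψ ≫ biprod.snd)) := by
    rw [isIso_restrict_iff, Scheme.Opens.opensRange_ι]; exact hq
  have h1 : (Scheme.Modules.restrictFunctor D.ι).map f = 0 := by
    have h2 : (Scheme.Modules.restrictFunctor D.ι).map f ≫
        (Scheme.Modules.restrictFunctor D.ι).map (ψ ≫ biprod.snd) = 0 := by
      rw [← Functor.map_comp, hf, Functor.map_zero]
    exact (cancel_mono ((Scheme.Modules.restrictFunctor D.ι).map (ψ ≫ biprod.snd))).1
      (h2.trans zero_comp.symm)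
  have h3 : f ≫ ψ ≫ biprod.fst = 0 := by
    refine eq_zero_of_restrict_eq_zero D hA _ ?_
    rw [Functor.map_comp, h1, zero_comp]
  have h4 : f ≫ ψ = 0 := by
    refine biprod.hom_ext _ _ ?_ ?_
    · rw [Category.assoc, h3, zero_comp]
    · rw [Category.assoc, hf, zero_comp]
  exact (cancel_mono ψ).1 (h4.trans zero_comp.symm)

end TF


section structureThm

variable {Z : Scheme.{u}}

theorem isCoh_structureModule : Coh.IsCoh (Coh.structureModule Z) := by
  haveI : (Coh.structureModule Z).IsQuasicoherent :=
    Groth.Agent.Lib.Helper20.OmegaAff.isQuasicoherent_structureModule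
  refine ⟨inferInstance, (isFiniteType_iff_forall_affine _).2 fun U _ => ?_⟩
  exact inferInstanceAs (Module.Finite Γ(Z, U) Γ(Z, U))

theorem isCoh_kernel_η [IsLocallyNoetherian Z] (D : Z.Opens) (G : Z.Modules) (hG : Coh.IsCoh G) :
    Coh.IsCoh (kernel (η D G)) := by
  haveI := hG.1
  haveI : ((Scheme.Modules.restrictFunctor D.ι).obj G).IsQuasicoherent :=
    Scheme.Modules.isQuasicoherent_restrictFunctor D.ι G
  haveI : ((Scheme.Modules.pushforward D.ι).obj ((Scheme.Modules.restrictFunctor D.ι).obj G)).IsQuasicoherent :=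
    isQuasicoherent_pushforward D.ι _
  exact isCoh_of_mono (kernel.ι (η D G)) hG (isQuasicoherent_kernel (η D G))

theorem isCoh_coimage_η [IsLocallyNoetherian Z] (D : Z.Opens) (G : Z.Modules) (hG : Coh.IsCoh G) :
    Coh.IsCoh (cokernel (kernel.ι (η D G))) :=
  isCoh_cokernel _ (isCoh_kernel_η D G hG) hG

theorem isIso_restrict_coimage_π (D : Z.Opens) (G : Z.Modules) :
    IsIso ((Scheme.Modules.restrictFunctor D.ι).map (cokernel.π (kernel.ι (η D G)))) := by
  have hfac : cokernel.π (kernel.ι (η D G)) ≫ Abelian.factorThruCoimage (η D G) = η D G :=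
    Abelian.coimage.fac (η D G)
  haveI := isIso_restrict_η D G
  set Rj := Scheme.Modules.restrictFunctor D.ι
  have h1 : Rj.map (cokernel.π (kernel.ι (η D G))) ≫ Rj.map (Abelian.factorThruCoimage (η D G)) =
      Rj.map (η D G) := by rw [← Functor.map_comp, hfac]
  haveI : Epi (Rj.map (cokernel.π (kernel.ι (η D G)))) := inferInstance
  haveI : IsSplitMono (Rj.map (cokernel.π (kernel.ι (η D G)))) :=
    IsSplitMono.mk' ⟨Rj.map (Abelian.factorThruCoimage (η D G)) ≫ inv (Rj.map (η D G)), by
      rw [← Category.assoc, h1, IsIso.hom_inv_id]⟩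
  exact isIso_of_epi_of_isSplitMono _

/-- **Structure of a coherent module on an integral scheme near the generic point**: modulo the sections supported off
a nonempty open `D`, it contains a submodule of a free module, with quotient supported off `D`. -/
theorem exists_structure [IsIntegral Z] [IsLocallyNoetherian Z] (G : Z.Modules) (hG : Coh.IsCoh G) :
    ∃ (D : Z.Opens) (r : ℕ) (H : Z.Modules) (p : H ⟶ ⨁ fun _ : Fin r => Coh.structureModule Z)
      (q : H ⟶ cokernel (kernel.ι (η D G))),
      genericPoint Z ∈ D ∧ Coh.IsCoh H ∧ Mono p ∧ Mono q ∧ IsoOn q D := by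
  obtain ⟨D, r, hξ, ⟨a⟩⟩ := exists_generic_free G hG
  have hG'' := isCoh_coimage_η D G hG
  have hA : Coh.IsCoh (⨁ fun _ : Fin r => Coh.structureModule Z) :=
    isCoh_biproduct _ fun _ => isCoh_structureModule
  haveI := hG''.1
  haveI := hA.1
  haveI := isIso_restrict_coimage_π D G
  let e : (⨁ fun _ : Fin r => Coh.structureModule Z).restrict D.ι ≅
      (cokernel (kernel.ι (η D G))).restrict D.ι :=
    (Scheme.Modules.restrictFunctor D.ι).mapIso (biproduct.isoCoproduct _) ≪≫
      Groth.Agent.Lib.Helper20.LocFree.restrictFreeMod D.ι r ≪≫ a.symm ≪≫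
      asIso ((Scheme.Modules.restrictFunctor D.ι).map (cokernel.π (kernel.ι (η D G))))
  obtain ⟨H, ψ, hH, hψ, hp, hq⟩ := exists_graph D _ _ e
  have hne : (D : Set Z).Nonempty := ⟨_, hξ⟩
  refine ⟨D, r, H, ψ ≫ biprod.fst, ψ ≫ biprod.snd, hξ, isCoh_of_mono ψ (isCoh_biprod _ _ hA hG'') hH,
    mono_fst_of_tf D ψ hp (tf_coimage D G),
    mono_snd_of_tf D ψ hq (tf_biproduct D _ fun _ => tf_structureModule D hne), hq⟩

end structureThm


section pushStep

variable {X Z : Scheme.{u}} (i : Z ⟶ X) [IsClosedImmersion i]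

/-- stalks of the third term of a short exact sequence vanish where the first map is an isomorphism. -/
theorem notMem_support_X₃_of_isoOn (S : ShortComplex X.Modules) (hS : S.ShortExact) (W : X.Opens)
    (hf : IsoOn S.f W) (y : X) (hy : y ∈ W) : y ∉ CohB1.support S.X₃ := by
  haveI := hS.epi_g
  intro h
  apply h
  refine ⟨fun a b => ?_⟩
  have key : ∀ t : S.X₃.presheaf.stalk y, t = 0 := by
    intro t
    obtain ⟨b, rfl⟩ := stalkLin_surjective S.g y t
    obtain ⟨U, hUW, hyU, s, rfl⟩ := exists_germ_eq_le S.X₂ W y hy b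
    haveI := hf U hUW
    obtain ⟨a, rfl⟩ := (ConcreteCategory.bijective_of_isIso (Scheme.Modules.Hom.app S.f U)).2 s
    rw [stalkLin_germ]
    have h2 : (S.f ≫ S.g).app U a = 0 := by rw [S.zero]; rfl
    have h3 : Scheme.Modules.Hom.app S.g U (Scheme.Modules.Hom.app S.f U a) = 0 := h2
    rw [h3, map_zero]
  rw [key a, key b]

/-- stalks of the first term of a short exact sequence vanish where the second map is an isomorphism. -/
theorem notMem_support_X₁_of_isoOn (S : ShortComplex X.Modules) (hS : S.ShortExact) (W : X.Opens)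
    (hg : IsoOn S.g W) (y : X) (hy : y ∈ W) : y ∉ CohB1.support S.X₁ := by
  haveI := hS.mono_f
  intro h
  apply h
  refine ⟨fun a b => ?_⟩
  have key : ∀ t : S.X₁.presheaf.stalk y, t = 0 := by
    intro t
    obtain ⟨U, hUW, hyU, s, rfl⟩ := exists_germ_eq_le S.X₁ W y hy t
    have h2 : (S.f ≫ S.g).app U s = 0 := by rw [S.zero]; rfl
    have h1 : Scheme.Modules.Hom.app S.g U (Scheme.Modules.Hom.app S.f U s) = 0 := h2
    haveI := hg U hUW
    have hinj : Function.Injective (Scheme.Modules.Hom.app S.g U) :=
      (ConcreteCategory.bijective_of_isIso (Scheme.Modules.Hom.app S.g U)).1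
    have h3 : Scheme.Modules.Hom.app S.f U s = 0 := hinj (h1.trans (map_zero _).symm)
    have h4 : s = 0 := Groth.Agent.Lib.Helper20.StalkExact.injective_app_of_mono S.f U
      (h3.trans (map_zero _).symm)
    rw [h4, map_zero]
  rw [key a, key b]

/-- direct images of coherent submodules of free modules belong to an extension-closed class containing the direct
images of ideals. -/
theorem prop_push_of_mono_free [IsLocallyNoetherian X] (P : X.Modules → Prop)
    (h0 : ∀ M : X.Modules, IsZero M → P M)
    (hext : ∀ S : ShortComplex X.Modules, S.ShortExact → Coh.IsCoh S.X₁ → Coh.IsCoh S.X₂ → Coh.IsCoh S.X₃ →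
      P S.X₁ → P S.X₃ → P S.X₂)
    (hI : ∀ (I : Z.Modules) (ι : I ⟶ Coh.structureModule Z), Mono ι → Coh.IsQCoh I →
      P ((Coh.push i).obj I)) :
    ∀ (r : ℕ) (H : Z.Modules) (p : H ⟶ ⨁ fun _ : Fin r => Coh.structureModule Z), Mono p → Coh.IsCoh H →
      P ((Scheme.Modules.pushforward i).obj H) := by
  haveI : IsLocallyNoetherian Z := LocallyOfFiniteType.isLocallyNoetherian i
  intro r
  induction r with
  | zero =>
    intro H p hp hH
    have hz : IsZero H := IsZero.of_mono p (isZero_biproduct_fin_zero _)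
    exact h0 _ ((Scheme.Modules.pushforward i).map_isZero hz)
  | succ r ih =>
    intro H p hp hH
    let O := Coh.structureModule Z
    let u : H ⟶ O := p ≫ biproduct.π (fun _ : Fin (r + 1) => O) 0
    have hO : Coh.IsCoh O := isCoh_structureModule
    have hK : Coh.IsCoh (kernel u) := isCoh_kernel u hH hO
    have hC : Coh.IsCoh (cokernel (kernel.ι u)) := isCoh_cokernel _ hK hH
    -- the kernel embeds in a smaller free module
    have hmono : Mono (kernel.ι u ≫ p ≫ bsG O r) := by
      refine Preadditive.mono_of_cancel_zero _ fun {W} f hf => ?_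
      have h1 : f ≫ kernel.ι u ≫ p ≫ biproduct.π (fun _ : Fin (r + 1) => O) 0 = 0 := by
        have : kernel.ι u ≫ p ≫ biproduct.π (fun _ : Fin (r + 1) => O) 0 = 0 := kernel.condition u
        rw [this, comp_zero]
      have h2 : f ≫ kernel.ι u ≫ p = 0 := by
        have h3 : f ≫ kernel.ι u ≫ p = (f ≫ kernel.ι u ≫ p) ≫
            (biproduct.π (fun _ : Fin (r + 1) => O) 0 ≫ biproduct.ι (fun _ : Fin (r + 1) => O) 0 +
              bsG O r ≫ bsS O r) := by rw [bs_id, Category.comp_id]
        rw [h3, Preadditive.comp_add]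
        simp only [Category.assoc] at h1 hf ⊢
        rw [reassoc_of% h1, reassoc_of% hf, zero_comp, zero_comp, add_zero]
      have h4 : (f ≫ kernel.ι u) ≫ p = 0 := by rw [Category.assoc]; exact h2
      have h5 : f ≫ kernel.ι u = 0 := (cancel_mono p).1 (h4.trans zero_comp.symm)
      exact (cancel_mono (kernel.ι u)).1 (h5.trans zero_comp.symm)
    have hPK : P ((Scheme.Modules.pushforward i).obj (kernel u)) := ih _ _ hmono hK
    have hPC : P ((Scheme.Modules.pushforward i).obj (cokernel (kernel.ι u))) :=
      hI _ (Abelian.factorThruCoimage u) inferInstance hC.1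
    have hS := Groth.Agent.Lib.T2H5.ClosedLin.shortExact_map_pushforward i (kerSC u) (kerSC_shortExact u)
    exact hext _ hS (isCoh_pushforward i _ hK) (isCoh_pushforward i _ hH) (isCoh_pushforward i _ hC) hPK hPC

end pushStep


section idealStep

open Scheme.IdealSheafData

variable {X : Scheme.{u}}

/-- **The irreducible step of dévissage, ideal form**: an extension-closed property which holds for the direct images
of the ideals of the reduced subscheme `Y`, and for all coherent modules with smaller support, holds for every coherent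
module killed by the ideal of `Y`. -/
theorem irr_step_ideal [IsNoetherian X] (P : X.Modules → Prop)
    (hP : ∀ M N : X.Modules, Nonempty (M ≅ N) → P M → P N)
    (h0 : ∀ M : X.Modules, IsZero M → P M)
    (hext : ∀ S : ShortComplex X.Modules, S.ShortExact → Coh.IsCoh S.X₁ → Coh.IsCoh S.X₂ → Coh.IsCoh S.X₃ →
      P S.X₁ → P S.X₃ → P S.X₂)
    (Y : Set X) (hY : IsClosed Y) (hirr : IsIrreducible Y)
    (ihN : ∀ N : X.Modules, Coh.IsCoh N → CohB1.support N ⊆ Y → CohB1.support N ≠ Y → P N)
    (hI : ∀ (I : (vanishingIdeal ⟨Y, hY⟩).subscheme.Modules)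
      (ι : I ⟶ Coh.structureModule (vanishingIdeal ⟨Y, hY⟩).subscheme), Mono ι → Coh.IsQCoh I →
      P ((Coh.push (vanishingIdeal ⟨Y, hY⟩).subschemeι).obj I))
    (M : X.Modules) (hM : Coh.IsCoh M) (hMk : ClSub.KilledByIdeal (vanishingIdeal ⟨Y, hY⟩) M) : P M := by
  set I := vanishingIdeal ⟨Y, hY⟩ with hIdef
  let i := I.subschemeι
  have hr : Set.range i = Y := range_subschemeι_vanishingIdeal Y hY
  haveI : IsIntegral I.subscheme := isIntegral_subscheme_vanishingIdeal Y hY hirr
  haveI : IsLocallyNoetherian I.subscheme := LocallyOfFiniteType.isLocallyNoetherian i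
  have hcl : IsClosed (Set.range i) := by rw [hr]; exact hY
  have hy : closure {i (genericPoint I.subscheme)} = Y := by
    rw [closure_genericPoint_image, hr]
  set y := i (genericPoint I.subscheme) with hydef
  have hyY : y ∈ Y := hy ▸ subset_closure (Set.mem_singleton y)
  have hsuppPush : ∀ N : I.subscheme.Modules, CohB1.support ((Scheme.Modules.pushforward i).obj N) ⊆ Y :=
    fun N => hr ▸ support_pushforward_subset i N hcl
  haveI : M.IsQuasicoherent := hM.1
  haveI := isIso_unit_of_killed I M hMk
  let eM : M ≅ (Scheme.Modules.pushforward i).obj ((Scheme.Modules.pullback i).obj M) := asIso (unit I M)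
  set G := (Scheme.Modules.pullback i).obj M with hGdef
  have hG : Coh.IsCoh G := isCoh_pullback i M hM
  obtain ⟨D, r, H, p, q, hξ, hH, hp, hq, hqD⟩ := exists_structure G hG
  obtain ⟨W, hW⟩ := exists_opens_preimage_eq i D
  have hyW : y ∈ W := by
    have : genericPoint I.subscheme ∈ i ⁻¹ᵁ W := by rw [hW]; exact hξ
    exact this
  have small : ∀ N : X.Modules, Coh.IsCoh N → CohB1.support N ⊆ Y → y ∉ CohB1.support N → P N :=
    fun N hN hNY hyN => ihN N hN hNY fun h => hyN (h ▸ hyY)
  have hT : Coh.IsCoh (kernel (η D G)) := isCoh_kernel_η D G hG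
  have hG'' : Coh.IsCoh (cokernel (kernel.ι (η D G))) := isCoh_coimage_η D G hG
  have hC : Coh.IsCoh (cokernel q) := isCoh_cokernel q hH hG''
  -- the two exact sequences, pushed forward
  have hS₁ := Groth.Agent.Lib.T2H5.ClosedLin.shortExact_map_pushforward i (kerSC (η D G))
    (kerSC_shortExact (η D G))
  haveI := hq
  have hS₂' : (ShortComplex.mk q (cokernel.π q) (cokernel.condition q)).ShortExact :=
    haveI : Mono (ShortComplex.mk q (cokernel.π q) (cokernel.condition q)).f := hq
    haveI : Epi (ShortComplex.mk q (cokernel.π q) (cokernel.condition q)).g :=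
      inferInstanceAs (Epi (cokernel.π q))
    ShortComplex.ShortExact.mk (ShortComplex.exact_cokernel q)
  have hS₂ := Groth.Agent.Lib.T2H5.ClosedLin.shortExact_map_pushforward i _ hS₂'
  -- the coimage projection is an isomorphism over `D`
  have hπD : IsoOn (cokernel.π (kernel.ι (η D G))) D := by
    have h := (isIso_restrict_iff D.ι (cokernel.π (kernel.ι (η D G)))).1 (isIso_restrict_coimage_π D G)
    rwa [Scheme.Opens.opensRange_ι] at h
  have hPT : P ((Scheme.Modules.pushforward i).obj (kernel (η D G))) :=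
    small _ (isCoh_pushforward i _ hT) (hsuppPush _)
      (notMem_support_X₁_of_isoOn _ hS₁ W (isoOn_pushforward i _ D hπD W hW.le) y hyW)
  have hPC : P ((Scheme.Modules.pushforward i).obj (cokernel q)) :=
    small _ (isCoh_pushforward i _ hC) (hsuppPush _)
      (notMem_support_X₃_of_isoOn _ hS₂ W (isoOn_pushforward i _ D hqD W hW.le) y hyW)
  have hPH : P ((Scheme.Modules.pushforward i).obj H) :=
    prop_push_of_mono_free i P h0 hext hI r H p hp hH
  have hPG'' : P ((Scheme.Modules.pushforward i).obj (cokernel (kernel.ι (η D G)))) :=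
    hext _ hS₂ (isCoh_pushforward i _ hH) (isCoh_pushforward i _ hG'') (isCoh_pushforward i _ hC) hPH hPC
  have hPG : P ((Scheme.Modules.pushforward i).obj G) :=
    hext _ hS₁ (isCoh_pushforward i _ hT) (isCoh_pushforward i _ hG) (isCoh_pushforward i _ hG'') hPT hPG''
  exact hP _ _ ⟨eM.symm⟩ hPG

end idealStep

end Groth.Agent.Lib.T2H5.GenIsoF
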