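import Mathlib
import Groth.Agent.Lib.T2H5GenIsoF

/-!
# Artin–Rees for sheaves and the dévissage step for classes closed under kernels, extensions and roots (helper5)
-/

set_option autoImplicit false
set_option linter.style.haveILetI false
set_option linter.unusedSectionVars false
universe u
open CategoryTheory CategoryTheory.Limits AlgebraicGeometry Opposite TopologicalSpace

namespace Groth.Agent.Lib.T2H5.ArtinRees

open Groth.Agent.Lib.T2H5.IdealMul Groth.Agent.Lib.T2H5.Devissage Groth.Agent.Lib.T2H5.GenIsoA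
open Groth.Agent.Lib.T2H5.GenIsoB Groth.Agent.Lib.T2H5.GenIsoC Groth.Agent.Lib.T2H5.GenIsoD
open Groth.Agent.Lib.T2H5.GenIsoE Groth.Agent.Lib.T2H5.GenIsoF
open Groth.Agent.Lib.Helper23.ModLocal Groth.Agent.Lib.Helper23.QCohLocal Groth.Agent.Lib.Helper23.FinType
open Groth.Agent.Lib.Helper2.ModExact Groth.Agent.Lib.T2H5.CohSigma

section alg

variable {R M : Type*} [CommRing R] [AddCommGroup M] [Module R M]

/-- a submodule killed by a power of `I` meets `I^n M` trivially for large `n` (Artin–Rees). -/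
theorem exists_pow_smul_top_inf_eq_bot [IsNoetherianRing R] [Module.Finite R M] (I : Ideal R)
    (N : Submodule R M) (c : ℕ) (hc : I ^ c • N = ⊥) :
    ∃ n₀ : ℕ, ∀ n ≥ n₀, (I ^ n • ⊤ ⊓ N : Submodule R M) = ⊥ := by
  obtain ⟨k, hk⟩ := Ideal.exists_pow_inf_eq_pow_smul I N
  refine ⟨k + c, fun n hn => ?_⟩
  rw [hk n (by omega), eq_bot_iff, ← hc]
  have h1 : I ^ (n - k) ≤ I ^ c := Ideal.pow_le_pow_right (by omega)
  exact Submodule.smul_mono h1 inf_le_right

end alg

variable {X : Scheme.{u}}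

/-- **Artin–Rees for sheaves**: a coherent submodule `T ⊆ G` supported on `V(J)` meets `J^n G` trivially for large `n`. -/
theorem exists_pow_mono [IsNoetherian X] (S : ShortComplex X.Modules) (hS : S.ShortExact)
    (h₁ : Coh.IsCoh S.X₁) (h₂ : Coh.IsCoh S.X₂) (h₃ : S.X₃.IsQuasicoherent) (J : X.IdealSheafData)
    (hsupp : CohB1.support S.X₁ ⊆ (J.support : Set X)) :
    ∃ n : ℕ, Mono (Dual3.idealMulι (J ^ n) S.X₂ ≫ S.g) := by
  classical
  haveI := h₁.1
  haveI := h₂.1
  haveI : SheafOfModules.IsFiniteType (R := X.ringCatSheaf) S.X₁ := h₁.2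
  haveI : SheafOfModules.IsFiniteType (R := X.ringCatSheaf) S.X₂ := h₂.2
  haveI := hS.mono_f
  obtain ⟨t, ht⟩ := isCompact_univ.elim_finite_subcover (fun U : X.affineOpens => (U.1 : Set X))
    (fun U => U.1.2) (by
      intro x _
      obtain ⟨_, ⟨U, hU, rfl⟩, hxU, -⟩ := X.isBasis_affineOpens.exists_subset_of_mem_open
        (Set.mem_univ x) isOpen_univ
      exact Set.mem_iUnion.2 ⟨⟨U, hU⟩, hxU⟩)
  -- the local constants
  have hloc : ∀ U : X.affineOpens, ∃ n₀ : ℕ, ∀ n ≥ n₀,
      ((J.ideal U) ^ n • ⊤ ⊓ LinearMap.range (appLin S.f U.1) : Submodule Γ(X, U.1) Γ(S.X₂, U.1)) = ⊥ := by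
    intro U
    haveI : Module.Finite Γ(X, U.1) Γ(S.X₂, U.1) := finite_of_isFiniteType S.X₂ U.2
    haveI : IsNoetherianRing Γ(X, U.1) := IsLocallyNoetherian.component_noetherian U
    obtain ⟨c, hc⟩ := exists_pow_smul_top_eq_bot J S.X₁ hsupp U
    refine exists_pow_smul_top_inf_eq_bot (J.ideal U) _ c ?_
    rw [LinearMap.range_eq_map, ← Submodule.map_smul'', hc, Submodule.map_bot]
  choose n₀ hn₀ using hloc
  refine ⟨t.sup n₀, ?_⟩
  haveI : ((Dual3.idealMul (J ^ t.sup n₀)).obj S.X₂).IsQuasicoherent := isQuasicoherent_idealMul _ _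
  haveI := h₃
  set u := Dual3.idealMulι (J ^ t.sup n₀) S.X₂ ≫ S.g with hu
  haveI : (kernel u).IsQuasicoherent := isQuasicoherent_kernel u
  refine Preadditive.mono_of_isZero_kernel u ?_
  refine isZero_of_affine_cover _ (t : Set X.affineOpens) (fun x => ?_) (fun U hU s => ?_)
  · have := ht (Set.mem_univ x)
    simp only [Set.mem_iUnion] at this
    obtain ⟨U, hUt, hxU⟩ := this
    exact ⟨U, hUt, hxU⟩
  · apply Groth.Agent.Lib.Helper20.StalkExact.injective_app_of_mono (kernel.ι u) U.1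
    rw [map_zero]
    set s' := (kernel.ι u).app U.1 s with hs'
    haveI : Mono (Dual3.idealMulι (J ^ t.sup n₀) S.X₂) := Dual3.mono_idealMulι _ _
    apply Groth.Agent.Lib.Helper20.StalkExact.injective_app_of_mono (Dual3.idealMulι (J ^ t.sup n₀) S.X₂) U.1
    rw [map_zero]
    have h1 : S.g.app U.1 ((Dual3.idealMulι (J ^ t.sup n₀) S.X₂).app U.1 s') = 0 := by
      have h2 : (kernel.ι u ≫ u).app U.1 s = 0 := by rw [kernel.condition]; rfl
      exact h2
    obtain ⟨t', ht'⟩ := exists_app_eq_of_shortExact S hS U.1 _ h1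
    have hmem1 : (Dual3.idealMulι (J ^ t.sup n₀) S.X₂).app U.1 s' ∈
        ((J ^ t.sup n₀).ideal U • ⊤ : Submodule Γ(X, U.1) Γ(S.X₂, U.1)) :=
      (exists_idealMulι_app_eq_iff _ S.X₂ U _).1 ⟨s', rfl⟩
    rw [Scheme.IdealSheafData.ideal_pow, Pi.pow_apply] at hmem1
    have hmem2 : (Dual3.idealMulι (J ^ t.sup n₀) S.X₂).app U.1 s' ∈ LinearMap.range (appLin S.f U.1) :=
      ⟨t', ht'⟩
    have hbot := hn₀ U (t.sup n₀) (Finset.le_sup (f := n₀) hU)
    have hmem : (Dual3.idealMulι (J ^ t.sup n₀) S.X₂).app U.1 s' ∈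
        ((J.ideal U) ^ t.sup n₀ • ⊤ ⊓ LinearMap.range (appLin S.f U.1) :
          Submodule Γ(X, U.1) Γ(S.X₂, U.1)) := ⟨hmem1, hmem2⟩
    rw [hbot] at hmem
    exact hmem


section restrictIdealMul

open Groth.Agent.Lib.Helper23.Extend

variable {Z : Scheme.{u}}

/-- the ideal of an ideal sheaf on an affine open disjoint from its support is the unit ideal. -/
theorem ideal_eq_top_of_disjoint (J : Z.IdealSheafData) (U : Z.affineOpens)
    (h : (J.support : Set Z) ∩ U.1 = ∅) : J.ideal U = ⊤ := by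
  have hU : IsAffineOpen U.1 := U.2
  by_contra hne
  obtain ⟨m, hm, hle⟩ := Ideal.exists_le_maximal _ hne
  let p : PrimeSpectrum Γ(Z, U.1) := ⟨m, hm.isPrime⟩
  have hp : p ∈ PrimeSpectrum.zeroLocus (J.ideal U : Set Γ(Z, U.1)) := hle
  have hpU : hU.fromSpec p ∈ U.1 := by
    have := Set.mem_range_self (f := hU.fromSpec) p
    rw [hU.range_fromSpec] at this
    exact this
  have hp' : hU.fromSpec p ∈ Z.zeroLocus (U := U.1) (J.ideal U : Set Γ(Z, U.1)) := by
    have h2 : p ∈ hU.fromSpec ⁻¹' Z.zeroLocus (U := U.1) (J.ideal U : Set Γ(Z, U.1)) := by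
      rw [hU.fromSpec_preimage_zeroLocus]; exact hp
    exact h2
  have h1 : hU.fromSpec p ∈ (J.support : Set Z) ∩ U.1 := by
    rw [Scheme.IdealSheafData.coe_support_inter]
    exact ⟨hp', hpU⟩
  rw [h] at h1
  exact h1

/-- `J G ⟶ G` is an isomorphism over an open on whose affine opens `J` is the unit ideal. -/
theorem isoOn_idealMulι_of_ideal_eq_top (J : Z.IdealSheafData) (G : Z.Modules) [G.IsQuasicoherent] (D : Z.Opens)
    (h : ∀ U : Z.affineOpens, U.1 ≤ D → J.ideal U = ⊤) : IsoOn (Dual3.idealMulι J G) D := by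
  have hiso : IsIso ((Scheme.Modules.restrictFunctor D.ι).map (Dual3.idealMulι J G)) := by
    haveI : ((Scheme.Modules.restrictFunctor D.ι).obj ((Dual3.idealMul J).obj G)).IsQuasicoherent :=
      Scheme.Modules.isQuasicoherent_restrictFunctor D.ι _
    haveI : ((Scheme.Modules.restrictFunctor D.ι).obj G).IsQuasicoherent :=
      Scheme.Modules.isQuasicoherent_restrictFunctor D.ι _
    refine isIso_of_bijective_app _ fun V => ?_
    have hV : IsAffineOpen (D.ι ''ᵁ V.1) := V.2.image_of_isOpenImmersion D.ι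
    have hVD : (D.ι ''ᵁ V.1 : Z.Opens) ≤ D := by
      have := Scheme.Hom.image_le_opensRange D.ι V.1
      rwa [Scheme.Opens.opensRange_ι] at this
    haveI : Mono (Dual3.idealMulι J G) := Dual3.mono_idealMulι J G
    change Function.Bijective ((Dual3.idealMulι J G).app (D.ι ''ᵁ V.1))
    refine ⟨Groth.Agent.Lib.Helper20.StalkExact.injective_app_of_mono _ _, fun s => ?_⟩
    have htop : J.ideal ⟨D.ι ''ᵁ V.1, hV⟩ = ⊤ := h ⟨D.ι ''ᵁ V.1, hV⟩ hVD
    refine (exists_idealMulι_app_eq_iff J G ⟨D.ι ''ᵁ V.1, hV⟩ s).2 ?_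
    rw [htop, Submodule.top_smul]
    trivial
  have h5 := (isIso_restrict_iff D.ι (Dual3.idealMulι J G)).1 hiso
  rwa [Scheme.Opens.opensRange_ι] at h5

theorem isoOn_idealMulι_pow (J : Z.IdealSheafData) (G : Z.Modules) [G.IsQuasicoherent] (D : Z.Opens)
    (h : (J.support : Set Z) ∩ D = ∅) (n : ℕ) : IsoOn (Dual3.idealMulι (J ^ n) G) D := by
  refine isoOn_idealMulι_of_ideal_eq_top (J ^ n) G D fun U hU => ?_
  have htop : J.ideal U = ⊤ := by
    refine ideal_eq_top_of_disjoint J U ?_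
    rw [Set.eq_empty_iff_forall_notMem]
    rintro x ⟨hx1, hx2⟩
    have : x ∈ (J.support : Set Z) ∩ D := ⟨hx1, hU hx2⟩
    rw [h] at this
    exact this
  rw [Scheme.IdealSheafData.ideal_pow, Pi.pow_apply, htop, Ideal.top_pow]

end restrictIdealMul


section comparison

open Groth.Agent.Lib.Helper23.Extend Groth.Agent.Lib.Helper4.NormDelta

attribute [local instance] Abelian.hasFiniteBiproducts

variable {Z : Scheme.{u}}

/-- powers of two modules free over `D` are isomorphic over `D`. -/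
noncomputable def sigmaRestrictIso (D : Z.Opens) (G M : Z.Modules) (m r : ℕ)
    (a : G.restrict D.ι ≅ FlatMod.freeMod (D : Scheme.{u}) m)
    (b : M.restrict D.ι ≅ FlatMod.freeMod (D : Scheme.{u}) r) :
    (∐ fun _ : Fin r => G).restrict D.ι ≅ (∐ fun _ : Fin m => M).restrict D.ι :=
  restrictSigmaIso _ G r ≪≫ Sigma.mapIso (fun _ => a) ≪≫
    swapIso (Coh.structureModule (D : Scheme.{u})) r m ≪≫
    (Sigma.mapIso (fun _ => b)).symm ≪≫ (restrictSigmaIso _ M m).symm

theorem tf_sigma (D : Z.Opens) (A : Z.Modules) (h : TF D A) (r : ℕ) : TF D (∐ fun _ : Fin r => A) :=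
  tf_of_mono D (biproduct.isoCoproduct fun _ : Fin r => A).inv (tf_biproduct D _ fun _ => h)

theorem support_kernel_η_subset (D : Z.Opens) (G : Z.Modules) :
    CohB1.support (kernel (η D G)) ⊆ (D : Set Z)ᶜ := fun x hx hxD =>
  notMem_support_kernel_of_isoOn (η D G) D (isoOn_η D G) x hxD hx

/-- a module which is free of rank zero over `D` has zero stalks at the points of `D`. -/
theorem subsingleton_stalk_of_iso_freeMod_zero (D : Z.Opens) (G : Z.Modules)
    (e : G.restrict D.ι ≅ FlatMod.freeMod (D : Scheme.{u}) 0) (x : Z) (hx : x ∈ D) :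
    Subsingleton (G.presheaf.stalk x) := by
  have hz0 : IsZero (FlatMod.freeMod (D : Scheme.{u}) 0) :=
    (isZero_biproduct_fin_zero (Coh.structureModule (D : Scheme.{u}))).of_iso
      (biproduct.isoCoproduct _).symm
  have hz : IsZero ((Scheme.Modules.restrictFunctor D.ι).obj G) := hz0.of_iso e
  have hiso : IsIso ((Scheme.Modules.restrictFunctor D.ι).map (0 : G ⟶ G)) :=
    ⟨0, hz.eq_of_src _ _, hz.eq_of_src _ _⟩
  have hD := (isIso_restrict_iff D.ι (0 : G ⟶ G)).1 hiso
  rw [Scheme.Opens.opensRange_ι] at hD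
  refine ⟨fun a b => ?_⟩
  have key : ∀ t : G.presheaf.stalk x, t = 0 := by
    intro t
    obtain ⟨U, hUD, hxU, s, rfl⟩ := exists_germ_eq_le G D x hx t
    haveI := hD U hUD
    have hinj : Function.Injective (Scheme.Modules.Hom.app (0 : G ⟶ G) U) :=
      (ConcreteCategory.bijective_of_isIso (Scheme.Modules.Hom.app (0 : G ⟶ G) U)).1
    have hs : s = 0 := hinj (by
      show Scheme.Modules.Hom.app (0 : G ⟶ G) U s = Scheme.Modules.Hom.app (0 : G ⟶ G) U 0
      rw [map_zero]; rfl)
    rw [hs, map_zero]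
  rw [key a, key b]

end comparison


section comparison2

open Groth.Agent.Lib.Helper23.Extend Groth.Agent.Lib.Helper4.NormDelta

attribute [local instance] Abelian.hasFiniteBiproducts

variable {Z : Scheme.{u}}

/-- **Comparison of two coherent modules on an integral Noetherian scheme by monomorphisms**: after replacing the first
by `J^n G` (no sections supported off `D`) and the second by its quotient by the sections supported off `D`, suitable
powers of the two receive monomorphisms from a common coherent module which are isomorphisms over `D`. -/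
theorem exists_tf_comparison [IsIntegral Z] [IsNoetherian Z] (G M : Z.Modules) (hG : Coh.IsCoh G)
    (hM : Coh.IsCoh M) (hGξ : Nontrivial (G.presheaf.stalk (genericPoint Z))) :
    ∃ (D : Z.Opens) (J : Z.IdealSheafData) (n m r : ℕ) (H : Z.Modules)
      (p : H ⟶ ∐ fun _ : Fin r => (Dual3.idealMul (J ^ n)).obj G)
      (q : H ⟶ ∐ fun _ : Fin m => cokernel (kernel.ι (η D M))),
      genericPoint Z ∈ D ∧ 1 ≤ m ∧ IsoOn (Dual3.idealMulι (J ^ n) G) D ∧ Coh.IsCoh H ∧ Mono p ∧ Mono q ∧
        IsoOn p D ∧ IsoOn q D := by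
  haveI := hG.1
  haveI := hM.1
  obtain ⟨D₁, m, h₁, ⟨a₁⟩⟩ := exists_generic_free G hG
  obtain ⟨D₂, r, h₂, ⟨a₂⟩⟩ := exists_generic_free M hM
  obtain ⟨a⟩ := nonempty_restrict_iso_freeMod_of_le G (inf_le_left : D₁ ⊓ D₂ ≤ D₁) a₁
  obtain ⟨b⟩ := nonempty_restrict_iso_freeMod_of_le M (inf_le_right : D₁ ⊓ D₂ ≤ D₂) a₂
  set D : Z.Opens := D₁ ⊓ D₂ with hD
  have hξ : genericPoint Z ∈ D := ⟨h₁, h₂⟩
  have hm : 1 ≤ m := by
    by_contra hm0
    have hm0' : m = 0 := by omega
    subst hm0'
    haveI := subsingleton_stalk_of_iso_freeMod_zero D G a (genericPoint Z) hξ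
    exact not_nontrivial _ hGξ
  -- the ideal of the complement of `D`
  let J : Z.IdealSheafData := Scheme.IdealSheafData.vanishingIdeal ⟨(D : Set Z)ᶜ, D.2.isClosed_compl⟩
  have hJ : (J.support : Set Z) = (D : Set Z)ᶜ := Scheme.IdealSheafData.coe_support_vanishingIdeal _
  have hJD : (J.support : Set Z) ∩ D = ∅ := by rw [hJ]; exact Set.compl_inter_self _
  -- Artin–Rees
  have hT : Coh.IsCoh (kernel (η D G)) := isCoh_kernel_η D G hG
  have hG'' : Coh.IsCoh (cokernel (kernel.ι (η D G))) := isCoh_coimage_η D G hG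
  obtain ⟨n, hn⟩ := exists_pow_mono (kerSC (η D G)) (kerSC_shortExact (η D G)) hT hG hG''.1 J
    (by rw [hJ]; exact support_kernel_η_subset D G)
  have hn' : Mono (Dual3.idealMulι (J ^ n) G ≫ cokernel.π (kernel.ι (η D G))) := hn
  have hNtf : TF D ((Dual3.idealMul (J ^ n)).obj G) :=
    tf_of_mono D (Dual3.idealMulι (J ^ n) G ≫ cokernel.π (kernel.ι (η D G))) (tf_coimage D G)
  have hN : Coh.IsCoh ((Dual3.idealMul (J ^ n)).obj G) := isCoh_idealMul (J ^ n) G hG
  have hιD : IsoOn (Dual3.idealMulι (J ^ n) G) D := isoOn_idealMulι_pow J G D hJD n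
  have hM'' : Coh.IsCoh (cokernel (kernel.ι (η D M))) := isCoh_coimage_η D M hM
  -- the two modules are free over `D`
  haveI : IsIso ((Scheme.Modules.restrictFunctor D.ι).map (Dual3.idealMulι (J ^ n) G)) := by
    rw [isIso_restrict_iff, Scheme.Opens.opensRange_ι]; exact hιD
  haveI := isIso_restrict_coimage_π D M
  let a' : ((Dual3.idealMul (J ^ n)).obj G).restrict D.ι ≅ FlatMod.freeMod (D : Scheme.{u}) m :=
    asIso ((Scheme.Modules.restrictFunctor D.ι).map (Dual3.idealMulι (J ^ n) G)) ≪≫ a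
  let b' : (cokernel (kernel.ι (η D M))).restrict D.ι ≅ FlatMod.freeMod (D : Scheme.{u}) r :=
    (asIso ((Scheme.Modules.restrictFunctor D.ι).map (cokernel.π (kernel.ι (η D M))))).symm ≪≫ b
  have hA : Coh.IsCoh (∐ fun _ : Fin r => (Dual3.idealMul (J ^ n)).obj G) := isCoh_sigma _ fun _ => hN
  have hB : Coh.IsCoh (∐ fun _ : Fin m => cokernel (kernel.ι (η D M))) := isCoh_sigma _ fun _ => hM''
  haveI := hA.1
  haveI := hB.1
  obtain ⟨H, ψ, hH, hψ, hp, hq⟩ := exists_graph D _ _ (sigmaRestrictIso D _ _ m r a' b')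
  exact ⟨D, J, n, m, r, H, ψ ≫ biprod.fst, ψ ≫ biprod.snd, hξ, hm, hιD,
    isCoh_of_mono ψ (isCoh_biprod _ _ hA hB) hH,
    mono_fst_of_tf D ψ hp (tf_sigma D _ (tf_coimage D M) m),
    mono_snd_of_tf D ψ hq (tf_sigma D _ hNtf r), hp, hq⟩

end comparison2


section kernelExtStep

open Groth.Agent.Lib.Helper23.Extend Scheme.IdealSheafData

variable {X : Scheme.{u}}

theorem shortExact_cokernel_of_mono {A B : X.Modules} (q : A ⟶ B) [Mono q] :
    (ShortComplex.mk q (cokernel.π q) (cokernel.condition q)).ShortExact :=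
  haveI : Mono (ShortComplex.mk q (cokernel.π q) (cokernel.condition q)).f := ‹Mono q›
  haveI : Epi (ShortComplex.mk q (cokernel.π q) (cokernel.condition q)).g :=
    inferInstanceAs (Epi (cokernel.π q))
  ShortComplex.ShortExact.mk (ShortComplex.exact_cokernel q)

/-- **The irreducible step of dévissage for classes closed under kernels of epimorphisms, extensions and roots of
powers.** -/
theorem irr_step_kernel_ext [IsNoetherian X] (K : X.Modules → Prop)
    (hK : ∀ M N : X.Modules, Nonempty (M ≅ N) → K M → K N)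
    (h0 : ∀ M : X.Modules, IsZero M → K M)
    (ha : ∀ S : ShortComplex X.Modules, S.ShortExact → Coh.IsCoh S.X₁ → Coh.IsCoh S.X₂ → Coh.IsCoh S.X₃ →
      (K S.X₂ → K S.X₃ → K S.X₁) ∧ (K S.X₁ → K S.X₃ → K S.X₂))
    (hb : ∀ (F : X.Modules) (d : ℕ), 1 ≤ d → Coh.IsCoh F → K (∐ fun _ : Fin d => F) → K F)
    (Y : Set X) (hY : IsClosed Y) (I : X.IdealSheafData) [IsIntegral I.subscheme]
    (hr : Set.range I.subschemeι = Y)
    (ihN : ∀ N : X.Modules, Coh.IsCoh N → CohB1.support N ⊆ Y → CohB1.support N ≠ Y → K N)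
    (G : I.subscheme.Modules) (hG : Coh.IsCoh G)
    (hGξ : Nontrivial (G.presheaf.stalk (genericPoint I.subscheme)))
    (hKG : K ((Scheme.Modules.pushforward I.subschemeι).obj G))
    (M : X.Modules) (hM : Coh.IsCoh M) (hMk : ClSub.KilledByIdeal I M) : K M := by
  let i := I.subschemeι
  haveI : IsLocallyNoetherian I.subscheme := LocallyOfFiniteType.isLocallyNoetherian i
  haveI : CompactSpace I.subscheme := i.isClosedEmbedding.compactSpace
  haveI : IsNoetherian I.subscheme := {}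
  have hcl : IsClosed (Set.range i) := by rw [hr]; exact hY
  have hy : closure {i (genericPoint I.subscheme)} = Y := by
    rw [closure_genericPoint_image, hr]
  set y := i (genericPoint I.subscheme) with hydef
  have hyY : y ∈ Y := hy ▸ subset_closure (Set.mem_singleton y)
  have hsuppPush : ∀ N : I.subscheme.Modules, CohB1.support ((Scheme.Modules.pushforward i).obj N) ⊆ Y :=
    fun N => hr ▸ support_pushforward_subset i N hcl
  haveI : M.IsQuasicoherent := hM.1
  haveI := isIso_unit_of_killed I M hMk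
  let eM : M ≅ (Scheme.Modules.pushforward i).obj ((Scheme.Modules.pullback i).obj M) := asIso (unit I M)
  set M' := (Scheme.Modules.pullback i).obj M with hM'def
  have hM' : Coh.IsCoh M' := isCoh_pullback i M hM
  haveI := hG.1
  obtain ⟨D, J, n, m, r, H, p, q, hξ, hm, hιD, hH, hp, hq, hpD, hqD⟩ :=
    exists_tf_comparison G M' hG hM' hGξ
  obtain ⟨W, hW⟩ := exists_opens_preimage_eq i D
  have hyW : y ∈ W := by
    have : genericPoint I.subscheme ∈ i ⁻¹ᵁ W := by rw [hW]; exact hξ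
    exact this
  have small : ∀ N : X.Modules, Coh.IsCoh N → CohB1.support N ⊆ Y → y ∉ CohB1.support N → K N :=
    fun N hN hNY hyN => ihN N hN hNY fun h => hyN (h ▸ hyY)
  have push := fun (S : ShortComplex I.subscheme.Modules) (hS : S.ShortExact) =>
    Groth.Agent.Lib.T2H5.ClosedLin.shortExact_map_pushforward i S hS
  have hext : ∀ S : ShortComplex X.Modules, S.ShortExact → Coh.IsCoh S.X₁ → Coh.IsCoh S.X₂ → Coh.IsCoh S.X₃ →
      K S.X₁ → K S.X₃ → K S.X₂ := fun S hS h1 h2 h3 => (ha S hS h1 h2 h3).2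
  -- coherence
  have hN : Coh.IsCoh ((Dual3.idealMul (J ^ n)).obj G) := isCoh_idealMul (J ^ n) G hG
  have hQN : Coh.IsCoh ((Scheme.Modules.pushforward (J ^ n).subschemeι).obj
      ((Scheme.Modules.pullback (J ^ n).subschemeι).obj G)) := isCoh_pushPull (J ^ n) G hG
  have hT : Coh.IsCoh (kernel (η D M')) := isCoh_kernel_η D M' hM'
  have hM'' : Coh.IsCoh (cokernel (kernel.ι (η D M'))) := isCoh_coimage_η D M' hM'
  have hA : Coh.IsCoh (∐ fun _ : Fin r => (Dual3.idealMul (J ^ n)).obj G) := isCoh_sigma _ fun _ => hN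
  have hB : Coh.IsCoh (∐ fun _ : Fin m => cokernel (kernel.ι (η D M'))) := isCoh_sigma _ fun _ => hM''
  haveI := hp
  haveI := hq
  have hCp : Coh.IsCoh (cokernel p) := isCoh_cokernel p hH hA
  have hCq : Coh.IsCoh (cokernel q) := isCoh_cokernel q hH hB
  -- (α) `i_* (J^n G)` lies in `K`
  have hSN := push _ (shortExact_idealMul (J ^ n) G)
  have hKN : K ((Scheme.Modules.pushforward i).obj ((Dual3.idealMul (J ^ n)).obj G)) :=
    (ha _ hSN (isCoh_pushforward i _ hN) (isCoh_pushforward i _ hG) (isCoh_pushforward i _ hQN)).1 hKG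
      (small _ (isCoh_pushforward i _ hQN) (hsuppPush _)
        (notMem_support_X₃_of_isoOn _ hSN W (isoOn_pushforward i _ D hιD W hW.le) y hyW))
  -- (β) powers
  have hKA : K ((Scheme.Modules.pushforward i).obj (∐ fun _ : Fin r => (Dual3.idealMul (J ^ n)).obj G)) :=
    hK _ _ ⟨(pushSigmaIso i _ r).symm⟩
      (prop_sigma K hK h0 hext _ (isCoh_pushforward i _ hN) hKN r)
  -- (γ) `i_* H`
  have hSp := push _ (shortExact_cokernel_of_mono p)
  have hKH : K ((Scheme.Modules.pushforward i).obj H) :=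
    (ha _ hSp (isCoh_pushforward i _ hH) (isCoh_pushforward i _ hA) (isCoh_pushforward i _ hCp)).1 hKA
      (small _ (isCoh_pushforward i _ hCp) (hsuppPush _)
        (notMem_support_X₃_of_isoOn _ hSp W (isoOn_pushforward i _ D hpD W hW.le) y hyW))
  -- (δ) `i_* (M''^m)`
  have hSq := push _ (shortExact_cokernel_of_mono q)
  have hKB : K ((Scheme.Modules.pushforward i).obj (∐ fun _ : Fin m => cokernel (kernel.ι (η D M')))) :=
    hext _ hSq (isCoh_pushforward i _ hH) (isCoh_pushforward i _ hB) (isCoh_pushforward i _ hCq) hKH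
      (small _ (isCoh_pushforward i _ hCq) (hsuppPush _)
        (notMem_support_X₃_of_isoOn _ hSq W (isoOn_pushforward i _ D hqD W hW.le) y hyW))
  -- (ε) roots
  have hKM'' : K ((Scheme.Modules.pushforward i).obj (cokernel (kernel.ι (η D M')))) :=
    hb _ m hm (isCoh_pushforward i _ hM'') (hK _ _ ⟨pushSigmaIso i _ m⟩ hKB)
  -- (ζ) the sections supported off `D`
  have hSM := push _ (kerSC_shortExact (η D M'))
  have hπD : IsoOn (cokernel.π (kernel.ι (η D M'))) D := by
    have h := (isIso_restrict_iff D.ι (cokernel.π (kernel.ι (η D M')))).1 (isIso_restrict_coimage_π D M')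
    rwa [Scheme.Opens.opensRange_ι] at h
  have hKT : K ((Scheme.Modules.pushforward i).obj (kernel (η D M'))) :=
    small _ (isCoh_pushforward i _ hT) (hsuppPush _)
      (notMem_support_X₁_of_isoOn _ hSM W (isoOn_pushforward i _ D hπD W hW.le) y hyW)
  have hKM' : K ((Scheme.Modules.pushforward i).obj M') :=
    hext _ hSM (isCoh_pushforward i _ hT) (isCoh_pushforward i _ hM') (isCoh_pushforward i _ hM'') hKT hKM''
  exact hK _ _ ⟨eM.symm⟩ hKM'

end kernelExtStep

end Groth.Agent.Lib.T2H5.ArtinRees
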