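import Mathlib
import Groth.Agent.Lib.T2H5ArtinRees

/-!
# Comparing submodule sheaves through their sections over affine opens (helper5)

Namespace `Groth.Agent.Lib.T2H5.SubSec`.
-/

set_option autoImplicit false
set_option linter.style.haveILetI false
set_option linter.unusedSectionVars false
universe u
open CategoryTheory CategoryTheory.Limits AlgebraicGeometry Opposite TopologicalSpace

namespace Groth.Agent.Lib.T2H5.SubSec

open Groth.Agent.Lib.T2H5.IdealMul Groth.Agent.Lib.T2H5.Devissage Groth.Agent.Lib.T2H5.GenIsoA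
open Groth.Agent.Lib.T2H5.GenIsoB Groth.Agent.Lib.T2H5.GenIsoC
open Groth.Agent.Lib.Helper23.ModLocal Groth.Agent.Lib.Helper23.QCohLocal Groth.Agent.Lib.Helper23.FinType
open Groth.Agent.Lib.Helper2.ModExact Groth.Agent.Lib.T2H5.CohSigma
open Groth.Agent.Lib.Helper23.Extend

variable {X : Scheme.{u}}

theorem app_eq_of_eq {A B : X.Modules} (m m' : A ⟶ B) {W W' : X.Opens} (h : W = W')
    (hb : m.app W = m'.app W) : m.app W' = m'.app W' := by
  subst h; exact hb

/-- two morphisms agree after restriction to an open subscheme iff they agree on sections over opens inside it -/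
theorem restrict_map_eq_iff {Z : Scheme.{u}} (k : Z ⟶ X) [IsOpenImmersion k] {A B : X.Modules} (m m' : A ⟶ B) :
    (Scheme.Modules.restrictFunctor k).map m = (Scheme.Modules.restrictFunctor k).map m' ↔
      ∀ W' : X.Opens, W' ≤ k.opensRange → m.app W' = m'.app W' := by
  constructor
  · intro h W' hW'
    have h1 : k ''ᵁ (k ⁻¹ᵁ W') = W' := by
      rw [Scheme.Hom.image_preimage_eq_opensRange_inf]
      exact inf_eq_right.2 hW'
    have h2 : ((Scheme.Modules.restrictFunctor k).map m).app (k ⁻¹ᵁ W') =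
        ((Scheme.Modules.restrictFunctor k).map m').app (k ⁻¹ᵁ W') := by rw [h]
    exact app_eq_of_eq m m' h1 h2
  · intro h
    ext U : 1
    exact h (k ''ᵁ U) (Scheme.Hom.image_le_opensRange k U)

/-- a morphism of quasi-coherent modules vanishing on sections over the members of an affine open cover is zero -/
theorem hom_eq_zero_of_affine_cover {A Q : X.Modules} [A.IsQuasicoherent] [Q.IsQuasicoherent] (u : A ⟶ Q)
    (S : Set X.affineOpens) (hS : ∀ x : X, ∃ U ∈ S, x ∈ U.1)
    (h : ∀ U ∈ S, ∀ t : Γ(A, U.1), u.app U.1 t = 0) : u = 0 := by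
  haveI : (cokernel u).IsQuasicoherent := isQuasicoherent_cokernel u
  haveI : (Abelian.image u).IsQuasicoherent := isQuasicoherent_kernel (cokernel.π u)
  have hz : IsZero (Abelian.image u) := by
    refine isZero_of_affine_cover _ S hS fun U hU t => ?_
    obtain ⟨a, rfl⟩ := surjective_app_of_epi (Abelian.factorThruImage u) U.2 t
    apply Groth.Agent.Lib.Helper20.StalkExact.injective_app_of_mono (Abelian.image.ι u) U.1
    rw [map_zero]
    have h1 : (Abelian.factorThruImage u ≫ Abelian.image.ι u).app U.1 a = 0 := by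
      rw [Abelian.image.fac]; exact h U hU a
    exact h1
  rw [← Abelian.image.fac u, hz.eq_of_tgt (Abelian.factorThruImage u) 0, zero_comp]

/-- lifting through a subobject can be checked on sections over an affine open cover -/
theorem exists_lift_of_range_le {A B G : X.Modules} [A.IsQuasicoherent] [B.IsQuasicoherent]
    [G.IsQuasicoherent] (a : A ⟶ G) (b : B ⟶ G) [Mono b]
    (S : Set X.affineOpens) (hS : ∀ x : X, ∃ U ∈ S, x ∈ U.1)
    (h : ∀ U ∈ S, ∀ t : Γ(A, U.1), ∃ s : Γ(B, U.1), b.app U.1 s = a.app U.1 t) :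
    ∃ l : A ⟶ B, l ≫ b = a := by
  haveI : (cokernel b).IsQuasicoherent := isQuasicoherent_cokernel b
  have h0 : a ≫ cokernel.π b = 0 := by
    refine hom_eq_zero_of_affine_cover _ S hS fun U hU t => ?_
    obtain ⟨s, hs⟩ := h U hU t
    have h1 : (a ≫ cokernel.π b).app U.1 t = (cokernel.π b).app U.1 (a.app U.1 t) := rfl
    rw [h1, ← hs]
    have h2 : (b ≫ cokernel.π b).app U.1 s = 0 := by rw [cokernel.condition]; rfl
    exact h2
  exact ⟨Abelian.monoLift b a h0, Abelian.monoLift_comp b a h0⟩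

variable (I J : X.IdealSheafData)

/-- sections of `(J * I)(U) · Γ(F, U)` come from `J · (I · F)`. -/
theorem exists_comp_app_eq_of_mem (F : X.Modules) [F.IsQuasicoherent] (U : X.affineOpens) (s : Γ(F, U.1))
    (hs : s ∈ ((J.ideal U * I.ideal U) • ⊤ : Submodule Γ(X, U.1) Γ(F, U.1))) :
    ∃ t : Γ((Dual3.idealMul J).obj ((Dual3.idealMul I).obj F), U.1),
      (Dual3.idealMulι J ((Dual3.idealMul I).obj F) ≫ Dual3.idealMulι I F).app U.1 t = s := by
  rw [Submodule.mul_smul] at hs
  refine Submodule.smul_induction_on hs (fun a ha m hm => ?_) (fun x y hx hy => ?_)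
  · obtain ⟨m', rfl⟩ := (exists_idealMulι_app_eq_iff I F U m).2 hm
    have h1 : a • m' ∈ (J.ideal U • ⊤ : Submodule Γ(X, U.1) Γ((Dual3.idealMul I).obj F, U.1)) :=
      Submodule.smul_mem_smul ha Submodule.mem_top
    obtain ⟨t, ht⟩ := (exists_idealMulι_app_eq_iff J ((Dual3.idealMul I).obj F) U _).2 h1
    refine ⟨t, ?_⟩
    have h2 : (Dual3.idealMulι J ((Dual3.idealMul I).obj F) ≫ Dual3.idealMulι I F).app U.1 t =
        (Dual3.idealMulι I F).app U.1 ((Dual3.idealMulι J ((Dual3.idealMul I).obj F)).app U.1 t) := rfl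
    rw [h2, ht, Scheme.Modules.Hom.app_smul]
  · obtain ⟨t₁, ht₁⟩ := hx
    obtain ⟨t₂, ht₂⟩ := hy
    exact ⟨t₁ + t₂, by rw [map_add, ht₁, ht₂]⟩

theorem ideal_pow_add (c n : ℕ) (U : X.affineOpens) :
    (I ^ (c + n)).ideal U = (I ^ c).ideal U * (I ^ n).ideal U := by
  rw [Scheme.IdealSheafData.ideal_pow, Scheme.IdealSheafData.ideal_pow, Scheme.IdealSheafData.ideal_pow,
    Pi.pow_apply, Pi.pow_apply, Pi.pow_apply, pow_add]

/-- `I^(c+n) G ⊆ I^c (I^n G)` as submodules of `G`. -/
theorem exists_pow_add_lift (G : X.Modules) [G.IsQuasicoherent] (c n : ℕ) :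
    ∃ l : (Dual3.idealMul (I ^ (c + n))).obj G ⟶
        (Dual3.idealMul (I ^ c)).obj ((Dual3.idealMul (I ^ n)).obj G),
      l ≫ Dual3.idealMulι (I ^ c) ((Dual3.idealMul (I ^ n)).obj G) ≫ Dual3.idealMulι (I ^ n) G =
        Dual3.idealMulι (I ^ (c + n)) G := by
  haveI : Mono (Dual3.idealMulι (I ^ c) ((Dual3.idealMul (I ^ n)).obj G)) := Dual3.mono_idealMulι _ _
  haveI : Mono (Dual3.idealMulι (I ^ n) G) := Dual3.mono_idealMulι _ _
  haveI : Mono (Dual3.idealMulι (I ^ c) ((Dual3.idealMul (I ^ n)).obj G) ≫ Dual3.idealMulι (I ^ n) G) :=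
    mono_comp _ _
  refine exists_lift_of_range_le (Dual3.idealMulι (I ^ (c + n)) G)
    (Dual3.idealMulι (I ^ c) ((Dual3.idealMul (I ^ n)).obj G) ≫ Dual3.idealMulι (I ^ n) G)
    Set.univ (fun x => ?_) (fun U _ t => ?_)
  · obtain ⟨_, ⟨U, hU, rfl⟩, hxU, -⟩ := X.isBasis_affineOpens.exists_subset_of_mem_open
      (Set.mem_univ x) isOpen_univ
    exact ⟨⟨U, hU⟩, Set.mem_univ _, hxU⟩
  · have h1 := (exists_idealMulι_app_eq_iff (I ^ (c + n)) G U _).1 ⟨t, rfl⟩
    rw [ideal_pow_add] at h1
    exact exists_comp_app_eq_of_mem (I ^ n) (I ^ c) G U _ h1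

/-- a morphism to a module killed by `J` vanishes on `J · A`. -/
theorem idealMulι_comp_eq_zero_of_isZero {A Q : X.Modules} (p : A ⟶ Q)
    (hQ : IsZero ((Dual3.idealMul J).obj Q)) : Dual3.idealMulι J A ≫ p = 0 := by
  rw [← Dual3.idealMul_map_ι, hQ.eq_of_tgt ((Dual3.idealMul J).map p) 0, zero_comp]

/-- a morphism vanishing over an open `W` has image supported off `W`. -/
theorem support_image_subset_of_restrict_eq_zero {A F : X.Modules} (ψ : A ⟶ F) (W : X.Opens)
    (hψ : (Scheme.Modules.restrictFunctor W.ι).map ψ = 0) :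
    CohB1.support (Abelian.image ψ) ⊆ (W : Set X)ᶜ := by
  intro y hy hyW
  apply hy
  have h0 : ∀ W' : X.Opens, W' ≤ W → ψ.app W' = (0 : A ⟶ F).app W' := by
    have := (restrict_map_eq_iff W.ι ψ 0).1 (by rw [hψ, Functor.map_zero])
    rwa [Scheme.Opens.opensRange_ι] at this
  refine ⟨fun a b => ?_⟩
  have key : ∀ t : (Abelian.image ψ).presheaf.stalk y, t = 0 := by
    intro t
    obtain ⟨b, rfl⟩ := Groth.Agent.Lib.Helper4.NormDelta.stalkLin_surjective (Abelian.factorThruImage ψ) y t
    obtain ⟨U, hUW, hyU, s, rfl⟩ := exists_germ_eq_le A W y hyW b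
    rw [Groth.Agent.Lib.Helper4.NormDelta.stalkLin_germ]
    have h3 : (Abelian.factorThruImage ψ).app U s = 0 := by
      apply Groth.Agent.Lib.Helper20.StalkExact.injective_app_of_mono (Abelian.image.ι ψ) U
      rw [map_zero]
      have h4 : (Abelian.factorThruImage ψ ≫ Abelian.image.ι ψ).app U s = 0 := by
        rw [Abelian.image.fac, h0 U hUW]; rfl
      exact h4
    rw [h3, map_zero]
  rw [key a, key b]

/-- **Vanishing on a power**: a morphism from a coherent module to a quasi-coherent one which vanishes off `V(I)` vanishes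
on `I^c A` for some `c`. -/
theorem exists_pow_comp_eq_zero [IsNoetherian X] {A F : X.Modules} (hA : Coh.IsCoh A) [F.IsQuasicoherent]
    (ψ : A ⟶ F) (W : X.Opens) (hW : (W : Set X) = (I.support : Set X)ᶜ)
    (hψ : (Scheme.Modules.restrictFunctor W.ι).map ψ = 0) :
    ∃ c : ℕ, Dual3.idealMulι (I ^ c) A ≫ ψ = 0 := by
  haveI := hA.1
  haveI : (cokernel ψ).IsQuasicoherent := isQuasicoherent_cokernel ψ
  haveI : (Abelian.image ψ).IsQuasicoherent := isQuasicoherent_kernel (cokernel.π ψ)
  have hQ : Coh.IsCoh (Abelian.image ψ) := isCoh_of_epi (Abelian.factorThruImage ψ) hA inferInstance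
  haveI : SheafOfModules.IsFiniteType (R := X.ringCatSheaf) (Abelian.image ψ) := hQ.2
  have hsupp : CohB1.support (Abelian.image ψ) ⊆ (I.support : Set X) := by
    have := support_image_subset_of_restrict_eq_zero ψ W hψ
    rwa [hW, compl_compl] at this
  obtain ⟨c, hc⟩ := @exists_isZero_idealMul_pow X I _ (Abelian.image ψ) inferInstance hQ.2 hsupp
  refine ⟨c, ?_⟩
  rw [← Abelian.image.fac ψ, ← Category.assoc, idealMulι_comp_eq_zero_of_isZero (I ^ c) _ hc, zero_comp]

end Groth.Agent.Lib.T2H5.SubSec
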