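import Mathlib
import Groth.Agent.Lib.T2H5SubSec

/-!
# Extending morphisms from the complement of `V(I)` to `I^n G` (helper5)

Namespace `Groth.Agent.Lib.T2H5.ExtendHom`.
-/

set_option autoImplicit false
set_option linter.style.haveILetI false
set_option linter.unusedSectionVars false
universe u
open CategoryTheory CategoryTheory.Limits AlgebraicGeometry Opposite TopologicalSpace

namespace Groth.Agent.Lib.T2H5.ExtendHom

open Groth.Agent.Lib.T2H5.IdealMul Groth.Agent.Lib.T2H5.Devissage Groth.Agent.Lib.T2H5.GenIsoA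
open Groth.Agent.Lib.T2H5.GenIsoB Groth.Agent.Lib.T2H5.GenIsoC Groth.Agent.Lib.T2H5.SubSec
open Groth.Agent.Lib.T2H5.ArtinRees
open Groth.Agent.Lib.Helper23.ModLocal Groth.Agent.Lib.Helper23.QCohLocal Groth.Agent.Lib.Helper23.FinType
open Groth.Agent.Lib.Helper2.ModExact Groth.Agent.Lib.T2H5.CohSigma
open Groth.Agent.Lib.Helper23.Extend

attribute [local instance] Abelian.hasFiniteBiproducts

variable {X : Scheme.{u}}

/-- **Graph extension** of a morphism over a (quasi-compact) open `D`: a correspondence `A ← H → B` of quasi-coherent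
modules whose first leg is an isomorphism over `D` and which induces the given morphism over `D`. -/
theorem exists_graph_hom (D : X.Opens) [QuasiCompact D.ι] (A B : X.Modules) [A.IsQuasicoherent]
    [B.IsQuasicoherent] (e : A.restrict D.ι ⟶ B.restrict D.ι) :
    ∃ (H : X.Modules) (ψ : H ⟶ A ⊞ B), H.IsQuasicoherent ∧ Mono ψ ∧ IsoOn (ψ ≫ biprod.fst) D ∧
      (Scheme.Modules.restrictFunctor D.ι).map (ψ ≫ biprod.snd) =
        (Scheme.Modules.restrictFunctor D.ι).map (ψ ≫ biprod.fst) ≫ e := by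
  let Rj := Scheme.Modules.restrictFunctor D.ι
  haveI : Rj.Additive := inferInstance
  haveI : (A ⊞ B).IsQuasicoherent := isQuasicoherent_biprod A B
  haveI : (Rj.obj A).IsQuasicoherent := Scheme.Modules.isQuasicoherent_restrictFunctor D.ι A
  let φ : Rj.obj A ⟶ Rj.obj (A ⊞ B) := Rj.map biprod.inl + e ≫ Rj.map biprod.inr
  have h1 : φ ≫ Rj.map biprod.fst = 𝟙 _ := by
    simp only [φ, Preadditive.add_comp, Category.assoc, ← Rj.map_comp, biprod.inl_fst, biprod.inr_fst,
      Rj.map_id, Rj.map_zero, comp_zero, add_zero]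
  have h2 : φ ≫ Rj.map biprod.snd = e := by
    simp only [φ, Preadditive.add_comp, Category.assoc, ← Rj.map_comp, biprod.inl_snd, biprod.inr_snd,
      Rj.map_id, Rj.map_zero, zero_add]
    exact Category.comp_id _
  haveI : Mono φ := mono_of_mono_fac h1
  obtain ⟨H, ψ, e', hH, hcomm, hmono, -⟩ := exists_extension' D.ι (A ⊞ B) (Rj.obj A) φ
  have h3 : Rj.map (ψ ≫ biprod.fst) = e'.hom := by
    rw [Rj.map_comp, ← hcomm, Category.assoc, h1, Category.comp_id]
  refine ⟨H, ψ, hH, hmono inferInstance, ?_, ?_⟩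
  · have h4 : IsIso (Rj.map (ψ ≫ biprod.fst)) := by rw [h3]; infer_instance
    have h5 := (isIso_restrict_iff D.ι (ψ ≫ biprod.fst)).1 h4
    rwa [Scheme.Opens.opensRange_ι] at h5
  · change Rj.map (ψ ≫ biprod.snd) = Rj.map (ψ ≫ biprod.fst) ≫ e
    rw [h3, Rj.map_comp, ← hcomm, Category.assoc, h2]

/-- a coherent correspondence -/
theorem exists_coh_graph_hom [IsNoetherian X] (D : X.Opens) (A B : X.Modules) (hA : Coh.IsCoh A)
    [B.IsQuasicoherent] (e : A.restrict D.ι ⟶ B.restrict D.ι) :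
    ∃ (H : X.Modules) (p : H ⟶ A) (q : H ⟶ B), Coh.IsCoh H ∧ IsoOn p D ∧
      (Scheme.Modules.restrictFunctor D.ι).map q = (Scheme.Modules.restrictFunctor D.ι).map p ≫ e := by
  haveI := hA.1
  haveI : SheafOfModules.IsFiniteType (R := X.ringCatSheaf) A := hA.2
  obtain ⟨H, ψ, hH, -, hp, hq⟩ := exists_graph_hom D A B e
  have hAft : FTOn A D := fun W' hW' _ => finite_of_isFiniteType A hW'
  have hHft : FTOn H D := FTOn.of_isoOn (ψ ≫ biprod.fst) hp hAft
  have hDc : IsCompact (D : Set X) := NoetherianSpace.isCompact _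
  obtain ⟨H₀, κ, -, hq₀, hft₀, hκ⟩ := exists_sub_isFiniteType H D hDc hHft
  refine ⟨H₀, κ ≫ ψ ≫ biprod.fst, κ ≫ ψ ≫ biprod.snd, ⟨hq₀, hft₀⟩, hκ.comp hp, ?_⟩
  have h1 : (Scheme.Modules.restrictFunctor D.ι).map (κ ≫ ψ ≫ biprod.snd) =
      (Scheme.Modules.restrictFunctor D.ι).map κ ≫ (Scheme.Modules.restrictFunctor D.ι).map (ψ ≫ biprod.snd) :=
    Functor.map_comp _ _ _
  have h2 : (Scheme.Modules.restrictFunctor D.ι).map (κ ≫ ψ ≫ biprod.fst) =
      (Scheme.Modules.restrictFunctor D.ι).map κ ≫ (Scheme.Modules.restrictFunctor D.ι).map (ψ ≫ biprod.fst) :=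
    Functor.map_comp _ _ _
  rw [h1, h2, hq, Category.assoc]

/-- if `J · coker p = 0` then `J(W) · Γ(G, W)` lies in the image of `p` on sections over an affine open `W`. -/
theorem exists_app_eq_of_isZero_idealMul_cokernel {H G : X.Modules} [H.IsQuasicoherent] [G.IsQuasicoherent]
    (p : H ⟶ G) (J : X.IdealSheafData) (hC : IsZero ((Dual3.idealMul J).obj (cokernel p)))
    (W : X.affineOpens) (m : Γ(G, W.1)) (hm : m ∈ (J.ideal W • ⊤ : Submodule Γ(X, W.1) Γ(G, W.1))) :
    ∃ h : Γ(H, W.1), p.app W.1 h = m := by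
  haveI : (cokernel p).IsQuasicoherent := isQuasicoherent_cokernel p
  have h1 : (cokernel.π p).app W.1 m = 0 := by
    have h2 : (cokernel.π p).app W.1 m ∈ (J.ideal W • ⊤ : Submodule Γ(X, W.1) Γ(cokernel p, W.1)) := by
      refine Submodule.smul_induction_on hm (fun a ha x _ => ?_) (fun x y hx hy => ?_)
      · rw [Scheme.Modules.Hom.app_smul]; exact Submodule.smul_mem_smul ha Submodule.mem_top
      · rw [map_add]; exact Submodule.add_mem _ hx hy
    obtain ⟨r, hr⟩ := (exists_idealMulι_app_eq_iff J (cokernel p) W _).2 h2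
    rw [← hr, Groth.Agent.Lib.Helper23.ModLocal.eq_zero_of_isZero hC W.1 r, map_zero]
  obtain ⟨r, hr⟩ := exists_app_eq_of_shortExact (cokerSC p) (cokerSC_shortExact p) W.1 m h1
  haveI : (Abelian.image p).IsQuasicoherent := isQuasicoherent_kernel (cokernel.π p)
  obtain ⟨h, rfl⟩ := surjective_app_of_epi (Abelian.factorThruImage p) W.2 r
  refine ⟨h, ?_⟩
  rw [← hr]
  have h3 : (Abelian.factorThruImage p ≫ Abelian.image.ι p).app W.1 h = p.app W.1 h := by
    rw [Abelian.image.fac]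
  exact h3.symm

/-- **Extension from the complement of `V(I)`**: a morphism `G|_U ⟶ F|_U`, `G` coherent and `F` quasi-coherent,
extends to `I^n G ⟶ F` for some `n`. -/
theorem exists_pow_extension [IsNoetherian X] (F G : X.Modules) [F.IsQuasicoherent] (hG : Coh.IsCoh G)
    (I : X.IdealSheafData) (U : X.Opens) (hU : (U : Set X) = (I.support : Set X)ᶜ)
    (φ : (Scheme.Modules.restrictFunctor U.ι).obj G ⟶ (Scheme.Modules.restrictFunctor U.ι).obj F) :
    ∃ (n : ℕ) (ψ : (Dual3.idealMul (I ^ n)).obj G ⟶ F),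
      (Scheme.Modules.restrictFunctor U.ι).map ψ =
        (Scheme.Modules.restrictFunctor U.ι).map (Dual3.idealMulι (I ^ n) G) ≫ φ := by
  haveI := hG.1
  obtain ⟨H, p, q, hH, hp, hq⟩ := exists_coh_graph_hom U G F hG φ
  haveI := hH.1
  have hmemU : ∀ y : X, y ∉ (I.support : Set X) → y ∈ U := by
    intro y hy
    have : y ∈ (U : Set X) := by rw [hU]; exact hy
    exact this
  -- the kernel
  have hK : Coh.IsCoh (kernel p) := isCoh_kernel p hH hG
  have hKs : CohB1.support (kernel p) ⊆ (I.support : Set X) := by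
    intro y hy
    by_contra hyI
    exact notMem_support_kernel_of_isoOn p U hp y (hmemU y hyI) hy
  haveI := hK.1
  haveI : (cokernel (kernel.ι p)).IsQuasicoherent := isQuasicoherent_cokernel _
  obtain ⟨N, hN⟩ := exists_pow_mono (kerSC p) (kerSC_shortExact p) hK hH
    (inferInstanceAs (cokernel (kernel.ι p)).IsQuasicoherent) I hKs
  -- the cokernel
  have hC : Coh.IsCoh (cokernel p) := isCoh_cokernel p hH hG
  have hCs : CohB1.support (cokernel p) ⊆ (I.support : Set X) := by
    intro y hy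
    by_contra hyI
    exact notMem_support_cokernel_of_isoOn p U hp y (hmemU y hyI) hy
  obtain ⟨k, hk⟩ := @exists_isZero_idealMul_pow X I _ (cokernel p) hC.1 hC.2 hCs
  -- `I^N H ⟶ G` is a monomorphism
  have hfac : Dual3.idealMulι (I ^ N) H ≫ p =
      (Dual3.idealMulι (I ^ N) H ≫ (kerSC p).g) ≫ Abelian.factorThruCoimage p := by
    rw [Category.assoc]
    congr 1
    exact (Abelian.coimage.fac p).symm
  haveI : Mono (Dual3.idealMulι (I ^ N) H ≫ p) := by
    rw [hfac]
    haveI h1 : Mono (Dual3.idealMulι (I ^ N) H ≫ (kerSC p).g) := hN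
    haveI h2 : Mono (Abelian.factorThruCoimage p) := inferInstance
    exact @mono_comp _ _ _ _ _ _ h1 _ h2
  obtain ⟨l, hl⟩ := exists_lift_of_range_le (Dual3.idealMulι (I ^ (N + k)) G)
    (Dual3.idealMulι (I ^ N) H ≫ p) Set.univ (fun x => by
      obtain ⟨_, ⟨W, hW, rfl⟩, hxW, -⟩ := X.isBasis_affineOpens.exists_subset_of_mem_open
        (Set.mem_univ x) isOpen_univ
      exact ⟨⟨W, hW⟩, Set.mem_univ _, hxW⟩) (fun W _ t => by
      have h1 := (exists_idealMulι_app_eq_iff (I ^ (N + k)) G W _).1 ⟨t, rfl⟩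
      rw [ideal_pow_add, Submodule.mul_smul] at h1
      refine Submodule.smul_induction_on h1 (fun a ha m hm => ?_) (fun x y hx hy => ?_)
      · obtain ⟨h, rfl⟩ := exists_app_eq_of_isZero_idealMul_cokernel p (I ^ k) hk W m hm
        have h2 : a • h ∈ ((I ^ N).ideal W • ⊤ : Submodule Γ(X, W.1) Γ(H, W.1)) :=
          Submodule.smul_mem_smul ha Submodule.mem_top
        obtain ⟨s, hs⟩ := (exists_idealMulι_app_eq_iff (I ^ N) H W _).2 h2
        refine ⟨s, ?_⟩
        have h3 : (Dual3.idealMulι (I ^ N) H ≫ p).app W.1 s =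
            p.app W.1 ((Dual3.idealMulι (I ^ N) H).app W.1 s) := rfl
        rw [h3, hs, Scheme.Modules.Hom.app_smul]
      · obtain ⟨s₁, hs₁⟩ := hx
        obtain ⟨s₂, hs₂⟩ := hy
        exact ⟨s₁ + s₂, by rw [map_add, hs₁, hs₂]⟩)
  refine ⟨N + k, l ≫ Dual3.idealMulι (I ^ N) H ≫ q, ?_⟩
  have e1 : (Scheme.Modules.restrictFunctor U.ι).map (l ≫ Dual3.idealMulι (I ^ N) H ≫ q) =
      (Scheme.Modules.restrictFunctor U.ι).map (l ≫ Dual3.idealMulι (I ^ N) H) ≫
        (Scheme.Modules.restrictFunctor U.ι).map q := by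
    rw [← Functor.map_comp, Category.assoc]
  have e2 : (Scheme.Modules.restrictFunctor U.ι).map (Dual3.idealMulι (I ^ (N + k)) G) =
      (Scheme.Modules.restrictFunctor U.ι).map (l ≫ Dual3.idealMulι (I ^ N) H) ≫
        (Scheme.Modules.restrictFunctor U.ι).map p := by
    rw [← Functor.map_comp, Category.assoc, hl]
  rw [e1, e2, hq, Category.assoc]

end Groth.Agent.Lib.T2H5.ExtendHom
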