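import Mathlib
import Groth.Agent.Lib.T2H5ExtendHom

/-!
# A power of an ideal inside a coherent module near a generic point (helper5)

Namespace `Groth.Agent.Lib.T2H5.GenSub`.
-/

set_option autoImplicit false
set_option linter.style.haveILetI false
set_option linter.unusedSectionVars false
universe u
open CategoryTheory CategoryTheory.Limits AlgebraicGeometry Opposite TopologicalSpace

namespace Groth.Agent.Lib.T2H5.GenSub

open Groth.Agent.Lib.T2H5.IdealMul Groth.Agent.Lib.T2H5.Devissage Groth.Agent.Lib.T2H5.GenIsoA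
open Groth.Agent.Lib.T2H5.GenIsoB Groth.Agent.Lib.T2H5.GenIsoC Groth.Agent.Lib.T2H5.GenIsoD
open Groth.Agent.Lib.T2H5.GenIsoE Groth.Agent.Lib.T2H5.GenIsoF Groth.Agent.Lib.T2H5.SubSec
open Groth.Agent.Lib.T2H5.ArtinRees Groth.Agent.Lib.T2H5.ExtendHom
open Groth.Agent.Lib.Helper23.ModLocal Groth.Agent.Lib.Helper23.QCohLocal Groth.Agent.Lib.Helper23.FinType
open Groth.Agent.Lib.Helper2.ModExact Groth.Agent.Lib.T2H5.CohSigma
open Groth.Agent.Lib.Helper23.Extend Scheme.IdealSheafData

attribute [local instance] Abelian.hasFiniteBiproducts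

section onZ

variable {Z : Scheme.{u}}

/-- a morphism out of a module without sections supported off `D` which is an isomorphism over `D` is a monomorphism. -/
theorem mono_of_isoOn_of_tf (D : Z.Opens) {A B : Z.Modules} (g : A ⟶ B) (hg : IsoOn g D) (hA : TF D A) :
    Mono g := by
  refine Preadditive.mono_of_cancel_zero _ fun {W} f hf => ?_
  have hiso : IsIso ((Scheme.Modules.restrictFunctor D.ι).map g) := by
    rw [isIso_restrict_iff, Scheme.Opens.opensRange_ι]; exact hg
  refine eq_zero_of_restrict_eq_zero D hA f ?_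
  have h2 : (Scheme.Modules.restrictFunctor D.ι).map f ≫ (Scheme.Modules.restrictFunctor D.ι).map g = 0 := by
    rw [← Functor.map_comp, hf, Functor.map_zero]
  exact (cancel_mono ((Scheme.Modules.restrictFunctor D.ι).map g)).1 (h2.trans zero_comp.symm)

/-- `J · (A^r) ≅ (J · A)^r`. -/
noncomputable def idealMulSigmaIso (J : Z.IdealSheafData) (A : Z.Modules) (r : ℕ) :
    (Dual3.idealMul J).obj (∐ fun _ : Fin r => A) ≅ ∐ fun _ : Fin r => (Dual3.idealMul J).obj A :=
  (Dual3.idealMul J).mapIso (biproduct.isoCoproduct _).symm ≪≫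
    (Dual3.idealMul J).mapBiproduct (fun _ : Fin r => A) ≪≫ biproduct.isoCoproduct _

theorem IsoOn.of_iso_comp {A A' B : Z.Modules} (e : A' ≅ A) (g : A ⟶ B) (D : Z.Opens) (hg : IsoOn g D) :
    IsoOn (e.hom ≫ g) D := by
  intro W hW
  haveI := hg W hW
  rw [Scheme.Modules.Hom.comp_app]
  infer_instance

open Groth.Agent.Lib.Helper26.ModSec in
/-- finite powers of a morphism which is an isomorphism over `D` are isomorphisms over `D`. -/
theorem isoOn_sigma_map (D : Z.Opens) {A B : Z.Modules} (f : A ⟶ B) (hf : IsoOn f D) (r : ℕ) :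
    IsoOn (Limits.Sigma.map fun _ : Fin r => f) D := by
  set Rj := Scheme.Modules.restrictFunctor D.ι with hRj
  have hiso : IsIso (Rj.map f) := by
    rw [isIso_restrict_iff, Scheme.Opens.opensRange_ι]; exact hf
  have key : sigmaComparison Rj (fun _ : Fin r => A) ≫ Rj.map (Limits.Sigma.map fun _ : Fin r => f) =
      Limits.Sigma.map (fun _ : Fin r => Rj.map f) ≫ sigmaComparison Rj (fun _ : Fin r => B) := by
    apply Sigma.hom_ext
    intro j
    rw [ι_comp_sigmaComparison_assoc, ← Rj.map_comp, Limits.Sigma.ι_map, Rj.map_comp, Limits.Sigma.ι_map_assoc,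
      ι_comp_sigmaComparison]
  have h2 : Rj.map (Limits.Sigma.map fun _ : Fin r => f) =
      inv (sigmaComparison Rj (fun _ : Fin r => A)) ≫ Limits.Sigma.map (fun _ : Fin r => Rj.map f) ≫
        sigmaComparison Rj (fun _ : Fin r => B) := by
    rw [IsIso.eq_inv_comp]; exact key
  have h3 : IsIso (Rj.map (Limits.Sigma.map fun _ : Fin r => f)) := by
    rw [h2]; infer_instance
  have h4 := (isIso_restrict_iff D.ι (Limits.Sigma.map fun _ : Fin r => f)).1 h3
  rwa [Scheme.Opens.opensRange_ι] at h4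

/-- **Ideal powers inside a coherent module on an integral scheme**: near the generic point a coherent module contains
a finite power of an ideal, isomorphically over an open; the ideal can be taken inside any given ideal `B` which is the
unit ideal near the generic point. -/
theorem exists_ideal_sigma_mono [IsIntegral Z] [IsNoetherian Z] (G : Z.Modules) (hG : Coh.IsCoh G)
    (B : Z.Modules) (hB : Coh.IsCoh B) (ιB : B ⟶ Coh.structureModule Z) [Mono ιB] (D_B : Z.Opens)
    (hηB : genericPoint Z ∈ D_B) (hιB : IsoOn ιB D_B) :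
    ∃ (r : ℕ) (I : Z.Modules) (p : I ⟶ B) (Φ : (∐ fun _ : Fin r => I) ⟶ G) (D : Z.Opens),
      Mono p ∧ Coh.IsCoh I ∧ Mono Φ ∧ genericPoint Z ∈ D ∧ IsoOn Φ D ∧ IsoOn p D := by
  haveI := hG.1
  haveI := hB.1
  obtain ⟨D₁, r, hξ₁, ⟨a₁⟩⟩ := exists_generic_free G hG
  set D := D₁ ⊓ D_B with hDdef
  have hξ : genericPoint Z ∈ D := ⟨hξ₁, hηB⟩
  obtain ⟨a⟩ := nonempty_restrict_iso_freeMod_of_le G (inf_le_left : D ≤ D₁) a₁
  have hne : (D : Set Z).Nonempty := ⟨_, hξ⟩
  have hA : Coh.IsCoh (∐ fun _ : Fin r => B) := isCoh_sigma _ fun _ => hB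
  haveI := hA.1
  have hs : IsoOn (Limits.Sigma.map fun _ : Fin r => ιB) D := isoOn_sigma_map D ιB (hιB.mono inf_le_right) r
  haveI hsiso : IsIso ((Scheme.Modules.restrictFunctor D.ι).map (Limits.Sigma.map fun _ : Fin r => ιB)) := by
    rw [isIso_restrict_iff, Scheme.Opens.opensRange_ι]; exact hs
  let e₀ : (∐ fun _ : Fin r => B).restrict D.ι ≅ G.restrict D.ι :=
    asIso ((Scheme.Modules.restrictFunctor D.ι).map (Limits.Sigma.map fun _ : Fin r => ιB)) ≪≫
      Groth.Agent.Lib.Helper20.LocFree.restrictFreeMod D.ι r ≪≫ a.symm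
  set I₀ := vanishingIdeal ⟨(D : Set Z)ᶜ, D.2.isClosed_compl⟩ with hI₀
  have hsupp : (I₀.support : Set Z) = (D : Set Z)ᶜ := coe_support_vanishingIdeal _
  have hD : (D : Set Z) = (I₀.support : Set Z)ᶜ := by rw [hsupp, compl_compl]
  have hdisj : (I₀.support : Set Z) ∩ D = ∅ := by rw [hsupp]; exact Set.compl_inter_self _
  obtain ⟨n, ψ, hψ⟩ := exists_pow_extension G (∐ fun _ : Fin r => B) hA I₀ D hD e₀.hom
  have hinc : IsoOn (Dual3.idealMulι (I₀ ^ n) (∐ fun _ : Fin r => B)) D :=
    isoOn_idealMulι_pow I₀ _ D hdisj n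
  have hψD : IsoOn ψ D := by
    have h1 : IsIso ((Scheme.Modules.restrictFunctor D.ι).map
        (Dual3.idealMulι (I₀ ^ n) (∐ fun _ : Fin r => B))) := by
      rw [isIso_restrict_iff, Scheme.Opens.opensRange_ι]; exact hinc
    have h2 : IsIso ((Scheme.Modules.restrictFunctor D.ι).map ψ) := by rw [hψ]; infer_instance
    have h3 := (isIso_restrict_iff D.ι ψ).1 h2
    rwa [Scheme.Opens.opensRange_ι] at h3
  have hTFB : TF D B := tf_of_mono D ιB (tf_structureModule D hne)
  have hTF : TF D ((Dual3.idealMul (I₀ ^ n)).obj (∐ fun _ : Fin r => B)) :=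
    tf_of_mono D (Dual3.idealMulι (I₀ ^ n) _) (tf_sigma D _ hTFB r)
  haveI hψm : Mono ψ := mono_of_isoOn_of_tf D ψ hψD hTF
  refine ⟨r, (Dual3.idealMul (I₀ ^ n)).obj B, Dual3.idealMulι (I₀ ^ n) _,
    (idealMulSigmaIso (I₀ ^ n) B r).inv ≫ ψ, D, inferInstance,
    isCoh_idealMul _ _ hB, mono_comp _ _, hξ, ?_, isoOn_idealMulι_pow I₀ _ D hdisj n⟩
  exact IsoOn.of_iso_comp (idealMulSigmaIso (I₀ ^ n) B r).symm ψ D hψD

end onZ

section onX

variable {X Z : Scheme.{u}} (i : Z ⟶ X) [IsClosedImmersion i]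

/-- a coherent module killed by the ideal of a closed immersion `i : Z ⟶ X` is the direct image of a coherent module
on `Z`. -/
theorem exists_iso_push_of_killed (M : X.Modules) (hM : Coh.IsCoh M) (hk : ClSub.KilledByIdeal i.ker M) :
    ∃ N : Z.Modules, Coh.IsCoh N ∧ Nonempty (M ≅ (Scheme.Modules.pushforward i).obj N) := by
  haveI := hM.1
  haveI := isIso_unit_of_killed i.ker M hk
  let eM : M ≅ (Scheme.Modules.pushforward i.ker.subschemeι).obj
      ((Scheme.Modules.pullback i.ker.subschemeι).obj M) := asIso (unit i.ker M)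
  have h : inv i.toImage ≫ i = i.ker.subschemeι := by
    rw [IsIso.inv_comp_eq]; exact i.toImage_imageι.symm
  refine ⟨(Scheme.Modules.pushforward (inv i.toImage)).obj ((Scheme.Modules.pullback i.ker.subschemeι).obj M),
    isCoh_pushforward (inv i.toImage) _ (isCoh_pullback i.ker.subschemeι M hM), ⟨?_⟩⟩
  exact eM ≪≫ (Scheme.Modules.pushforwardCongr h.symm).app _ ≪≫
    ((Scheme.Modules.pushforwardComp (inv i.toImage) i).symm.app _)

theorem IsoOn.of_isIso {A B : X.Modules} (g : A ⟶ B) [IsIso g] (W : X.Opens) : IsoOn g W :=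
  fun _ _ => inferInstance

/-- **A power of an ideal of an integral closed subscheme inside a coherent module** whose stalk at the generic point
of the subscheme is killed by the maximal ideal. -/
theorem exists_push_ideal_mono [IsNoetherian X] [IsIntegral Z] (F : X.Modules) (hF : Coh.IsCoh F)
    (hann : ∀ a ∈ IsLocalRing.maximalIdeal (X.presheaf.stalk (i (genericPoint Z))),
      ∀ m : ↑(F.presheaf.stalk (i (genericPoint Z))), a • m = 0)
    (B : Z.Modules) (hB : Coh.IsCoh B) (ιB : B ⟶ Coh.structureModule Z) [Mono ιB] (D_B : Z.Opens)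
    (hηB : genericPoint Z ∈ D_B) (hιB : IsoOn ιB D_B) :
    ∃ (r : ℕ) (I : Z.Modules) (ι : I ⟶ B)
      (φ : (Scheme.Modules.pushforward i).obj (∐ fun _ : Fin r => I) ⟶ F) (D : Z.Opens) (U : X.Opens),
      Mono ι ∧ Coh.IsCoh I ∧ Mono φ ∧ i (genericPoint Z) ∈ U ∧ IsoOn φ U ∧ genericPoint Z ∈ D ∧
        IsoOn ι D := by
  haveI := hF.1
  haveI : IsLocallyNoetherian Z := LocallyOfFiniteType.isLocallyNoetherian i
  haveI : CompactSpace Z := i.isClosedEmbedding.compactSpace
  haveI : IsNoetherian Z := {}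
  set ξ := i (genericPoint Z) with hξdef
  set J := i.ker with hJ
  have hξJ : ξ ∈ J.support := i.range_subset_ker_support ⟨genericPoint Z, rfl⟩
  have hJF : Coh.IsCoh ((Dual3.idealMul J).obj F) := isCoh_idealMul J F hF
  have hξ1 : ξ ∉ CohB1.support ((Dual3.idealMul J).obj F) := notMem_support_idealMul J F ξ hξJ hann
  have hcl : IsClosed (CohB1.support ((Dual3.idealMul J).obj F)) := isClosed_support _ hJF
  set I₁ := vanishingIdeal ⟨CohB1.support ((Dual3.idealMul J).obj F), hcl⟩ with hI₁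
  have hsupp₁ : (I₁.support : Set X) = CohB1.support ((Dual3.idealMul J).obj F) :=
    coe_support_vanishingIdeal _
  let U₁ : X.Opens := ⟨(CohB1.support ((Dual3.idealMul J).obj F))ᶜ, hcl.isOpen_compl⟩
  obtain ⟨n, hn⟩ := exists_pow_mono _ (shortExact_idealMul J F) hJF hF (isQuasicoherent_pushPull J F) I₁
    (by rw [hsupp₁])
  have hF' : Coh.IsCoh ((Dual3.idealMul (I₁ ^ n)).obj F) := isCoh_idealMul _ F hF
  have hk : ClSub.KilledByIdeal J ((Dual3.idealMul (I₁ ^ n)).obj F) :=
    @killed_of_mono _ J _ _ (Dual3.idealMulι (I₁ ^ n) F ≫ unit J F) hn (killed_pushPull J F)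
  obtain ⟨G, hG, ⟨eG⟩⟩ := exists_iso_push_of_killed i _ hF' hk
  obtain ⟨r, I, ι, Φ, D, hι, hI, hΦ, hηD, hΦD, hιD⟩ := exists_ideal_sigma_mono G hG B hB ιB D_B hηB hιB
  obtain ⟨W, hW⟩ := exists_opens_preimage_eq i D
  have hdisj : (I₁.support : Set X) ∩ U₁ = ∅ := by rw [hsupp₁]; exact Set.inter_compl_self _
  refine ⟨r, I, ι, (Scheme.Modules.pushforward i).map Φ ≫ eG.inv ≫ Dual3.idealMulι (I₁ ^ n) F, D, W ⊓ U₁,
    hι, hI, ?_, ⟨?_, hξ1⟩, ?_, hηD, hιD⟩
  · haveI := hΦ
    haveI : Mono ((Scheme.Modules.pushforward i).map Φ) := inferInstance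
    haveI : Mono (Dual3.idealMulι (I₁ ^ n) F) := Dual3.mono_idealMulι _ _
    haveI : Mono (eG.inv ≫ Dual3.idealMulι (I₁ ^ n) F) := mono_comp _ _
    exact mono_comp _ _
  · have : genericPoint Z ∈ i ⁻¹ᵁ W := by rw [hW]; exact hηD
    exact this
  · refine IsoOn.comp ((isoOn_pushforward i Φ D hΦD W hW.le).mono inf_le_left) (IsoOn.comp ?_ ?_)
    · exact IsoOn.of_isIso _ _
    · exact (isoOn_idealMulι_pow I₁ F U₁ hdisj n).mono inf_le_right

end onX

end Groth.Agent.Lib.T2H5.GenSub
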