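import Mathlib
import Groth.Agent.Lib.T2H5GenSub
import Groth.Agent.Lib.Helper23UnitStalk

/-!
# Dévissage with a generically good module (helper5)

Namespace `Groth.Agent.Lib.T2H5.Dev2`.
-/

set_option autoImplicit false
set_option linter.style.haveILetI false
set_option linter.unusedSectionVars false
universe u
open CategoryTheory CategoryTheory.Limits AlgebraicGeometry Opposite TopologicalSpace

namespace Groth.Agent.Lib.T2H5.Dev2

open Groth.Agent.Lib.T2H5.IdealMul Groth.Agent.Lib.T2H5.Devissage Groth.Agent.Lib.T2H5.GenIsoA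
open Groth.Agent.Lib.T2H5.GenIsoB Groth.Agent.Lib.T2H5.GenIsoC Groth.Agent.Lib.T2H5.GenIsoD
open Groth.Agent.Lib.T2H5.GenIsoE Groth.Agent.Lib.T2H5.GenIsoF Groth.Agent.Lib.T2H5.SubSec
open Groth.Agent.Lib.T2H5.ArtinRees Groth.Agent.Lib.T2H5.ExtendHom Groth.Agent.Lib.T2H5.GenSub
open Groth.Agent.Lib.Helper23.ModLocal Groth.Agent.Lib.Helper23.QCohLocal Groth.Agent.Lib.Helper23.FinType
open Groth.Agent.Lib.Helper2.ModExact Groth.Agent.Lib.T2H5.CohSigma
open Groth.Agent.Lib.Helper4.NormDelta Groth.Agent.Lib.Helper23.StalkLin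
open Groth.Agent.Lib.Helper23.Extend Scheme.IdealSheafData

attribute [local instance] Abelian.hasFiniteBiproducts

section stalks

variable {X : Scheme.{u}}

theorem stalkLin_comp {A B C : X.Modules} (f : A ⟶ B) (g : B ⟶ C) (x : X) (a : A.presheaf.stalk x) :
    stalkLin (f ≫ g) x a = stalkLin g x (stalkLin f x a) := by
  obtain ⟨U, hxU, s, rfl⟩ := A.presheaf.exists_germ_eq a
  rw [stalkLin_germ, stalkLin_germ, stalkLin_germ]
  rfl

theorem bijective_stalkLin_of_isIso_stalkHom {A B : X.Modules} (f : A ⟶ B) (x : X)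
    (h : IsIso ((TopCat.Presheaf.stalkFunctor _ x).map f.mapPresheaf)) :
    Function.Bijective (stalkLin f x) :=
  (ConcreteCategory.isIso_iff_bijective _).1 h

theorem bijective_stalkLin_of_isoOn {A B : X.Modules} (m : A ⟶ B) (W : X.Opens) (h : IsoOn m W) (x : X)
    (hx : x ∈ W) : Function.Bijective (stalkLin m x) := by
  constructor
  · rw [injective_iff_map_eq_zero]
    intro a ha
    obtain ⟨U, hUW, hxU, s, rfl⟩ := exists_germ_eq_le A W x hx a
    rw [stalkLin_germ] at ha
    have h0 : B.presheaf.germ U x hxU (Scheme.Modules.Hom.app m U s) = B.presheaf.germ U x hxU 0 := by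
      rw [ha, map_zero]
    obtain ⟨V, hxV, i₁, i₂, hV⟩ := B.presheaf.germ_eq x hxU hxU _ 0 h0
    rw [map_zero, ← Groth.Agent.Lib.Helper2.ModExact.app_map] at hV
    haveI := h V (i₁.le.trans hUW)
    have hinj : Function.Injective (Scheme.Modules.Hom.app m V) :=
      (ConcreteCategory.bijective_of_isIso (Scheme.Modules.Hom.app m V)).1
    have h3 : A.presheaf.map i₁.op s = 0 := hinj (hV.trans (map_zero _).symm)
    rw [← TopCat.Presheaf.germ_res_apply A.presheaf i₁ x hxV s, h3, map_zero]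
  · intro b
    obtain ⟨U, hUW, hxU, t, rfl⟩ := exists_germ_eq_le B W x hx b
    haveI := h U hUW
    obtain ⟨s, rfl⟩ := (ConcreteCategory.bijective_of_isIso (Scheme.Modules.Hom.app m U)).2 t
    exact ⟨A.presheaf.germ U x hxU s, stalkLin_germ m x U hxU s⟩

theorem notMem_support_cokernel_of_surjective {A B : X.Modules} (γ : A ⟶ B) (x : X)
    (h : Function.Surjective (stalkLin γ x)) : x ∉ CohB1.support (cokernel γ) := by
  intro hx
  apply hx
  refine ⟨fun a b => ?_⟩
  have key : ∀ t : (cokernel γ).presheaf.stalk x, t = 0 := by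
    intro t
    obtain ⟨b, rfl⟩ := stalkLin_surjective (cokernel.π γ) x t
    obtain ⟨a, rfl⟩ := h b
    rw [← stalkLin_comp, cokernel.condition]
    obtain ⟨U, hxU, s, rfl⟩ := A.presheaf.exists_germ_eq a
    rw [stalkLin_germ]
    exact map_zero _
  rw [key a, key b]

/-- sections over an open all of whose points are outside the support vanish. -/
theorem section_eq_zero_of_support {M : X.Modules} (W : X.Opens) (h : ∀ x ∈ W, x ∉ CohB1.support M)
    (s : Γ(M, W)) : s = 0 := by
  refine Groth.Agent.Lib.Helper20.ZClosLib.eq_zero_of_germ_eq_zero M s fun y hy => ?_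
  have h1 : Subsingleton (M.presheaf.stalk y) := by
    by_contra hns
    exact h y hy hns
  exact Subsingleton.elim _ _

/-- a monomorphism whose cokernel has no support on `W` is an isomorphism over `W`. -/
theorem isoOn_of_mono_of_support_cokernel {A B : X.Modules} (f : A ⟶ B) [Mono f] (W : X.Opens)
    (h : ∀ x ∈ W, x ∉ CohB1.support (cokernel f)) : IsoOn f W := by
  intro W' hW'
  rw [ConcreteCategory.isIso_iff_bijective]
  refine ⟨Groth.Agent.Lib.Helper20.StalkExact.injective_app_of_mono f W', fun s => ?_⟩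
  have h1 : (cokernel.π f).app W' s = 0 :=
    section_eq_zero_of_support W' (fun x hx => h x (hW' hx)) _
  exact exists_app_eq_of_shortExact _ (shortExact_cokernel_of_mono f) W' s h1

end stalks

section integral

variable {Z : Scheme.{u}}

theorem lenAt_structureModule_genericPoint [IsIntegral Z] :
    lenAt (genericPoint Z) (Coh.structureModule Z) = 1 := by
  unfold lenAt
  rw [← (Groth.Agent.Lib.Helper23.UnitStalk.unitStalkEquiv (genericPoint Z)).length_eq]
  letI : Field (Z.presheaf.stalk (genericPoint Z)) := inferInstanceAs (Field Z.functionField)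
  exact Module.length_eq_one _ _

/-- a module without sections supported off `D` and without support on `D` is zero. -/
theorem isZero_of_tf_of_support (D : Z.Opens) (A : Z.Modules) (hTF : TF D A)
    (h : ∀ x ∈ D, x ∉ CohB1.support A) : IsZero A := by
  rw [IsZero.iff_id_eq_zero]
  refine eq_zero_of_restrict_eq_zero D hTF (𝟙 A) ?_
  have h1 : (Scheme.Modules.restrictFunctor D.ι).map (𝟙 A) =
      (Scheme.Modules.restrictFunctor D.ι).map (0 : A ⟶ A) := by
    rw [restrict_map_eq_iff, Scheme.Opens.opensRange_ι]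
    intro W' hW'
    ext s
    have h2 : s = 0 := section_eq_zero_of_support W' (fun x hx => h x (hW' hx)) s
    rw [h2, map_zero, map_zero]
  rw [h1, Functor.map_zero]

/-- **Dichotomy for ideals on an integral scheme**: a coherent ideal is zero or is the unit ideal near the generic
point. -/
theorem isZero_or_isoOn_of_mono_structureModule [IsIntegral Z] [IsLocallyNoetherian Z] (B : Z.Modules)
    (hB : Coh.IsCoh B) (ιB : B ⟶ Coh.structureModule Z) [Mono ιB] :
    IsZero B ∨ ∃ D : Z.Opens, genericPoint Z ∈ D ∧ IsoOn ιB D := by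
  have hO : Coh.IsCoh (Coh.structureModule Z) := isCoh_structureModule
  have hC : Coh.IsCoh (cokernel ιB) := isCoh_cokernel ιB hB hO
  have hlen := lenAt_shortExact (genericPoint Z) _ (shortExact_cokernel_of_mono ιB)
  change lenAt (genericPoint Z) (Coh.structureModule Z) =
    lenAt (genericPoint Z) B + lenAt (genericPoint Z) (cokernel ιB) at hlen
  rw [lenAt_structureModule_genericPoint] at hlen
  have hdich : lenAt (genericPoint Z) B = 0 ∨ lenAt (genericPoint Z) (cokernel ιB) = 0 := by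
    by_contra hcon
    rw [not_or] at hcon
    have h1 : 1 ≤ lenAt (genericPoint Z) B := Order.one_le_iff_ne_zero.2 hcon.1
    have h2 : 1 ≤ lenAt (genericPoint Z) (cokernel ιB) := Order.one_le_iff_ne_zero.2 hcon.2
    have h3 : (1 : ℕ∞) + 1 ≤ 1 := by
      calc (1 : ℕ∞) + 1 ≤ lenAt (genericPoint Z) B + lenAt (genericPoint Z) (cokernel ιB) :=
            add_le_add h1 h2
        _ = 1 := hlen.symm
    exact absurd h3 (by decide)
  rcases hdich with h | h
  · left
    rw [lenAt_eq_zero_iff] at h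
    let D : Z.Opens := ⟨(CohB1.support B)ᶜ, (isClosed_support B hB).isOpen_compl⟩
    have hne : (D : Set Z).Nonempty := ⟨genericPoint Z, h⟩
    exact isZero_of_tf_of_support D B (tf_of_mono D ιB (tf_structureModule D hne)) fun x hx => hx
  · right
    rw [lenAt_eq_zero_iff] at h
    let D : Z.Opens := ⟨(CohB1.support (cokernel ιB))ᶜ, (isClosed_support _ hC).isOpen_compl⟩
    exact ⟨D, h, isoOn_of_mono_of_support_cokernel ιB D fun x hx => hx⟩

end integral

section main

variable {X : Scheme.{u}}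

theorem notMem_support_pow_vanishingIdeal (Y : Set X) (hY : IsClosed Y) (k : ℕ) (x : X) (hx : x ∉ Y) :
    x ∉ (((vanishingIdeal ⟨Y, hY⟩) ^ k).support : Set X) := by
  cases k with
  | zero =>
    rw [pow_zero, one_eq_top, support_top]
    exact fun h => h
  | succ k =>
    rw [support_pow_succ, coe_support_vanishingIdeal]
    exact hx

/-- **The generic step**: if `G` is coherent, with the generic point `ξ` of the integral closed subscheme `i : Zs ⟶ X`
in its support and stalk at `ξ` killed by the maximal ideal, and if arbitrarily small submodules of `G` which agree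
with `G` at `ξ` satisfy the extension-closed, root-closed property `P`, then `P` holds for the direct images of all
ideals of `Zs`. -/
theorem prop_push_ideal [IsNoetherian X] {Zs : Scheme.{u}} (i : Zs ⟶ X) [IsClosedImmersion i] [IsIntegral Zs]
    (P : X.Modules → Prop) (hP : ∀ M N : X.Modules, Nonempty (M ≅ N) → P M → P N)
    (h₀ : ∀ M : X.Modules, IsZero M → P M)
    (h₁ : ∀ S : ShortComplex X.Modules, S.ShortExact → Coh.IsCoh S.X₁ → Coh.IsCoh S.X₂ → Coh.IsCoh S.X₃ →
      P S.X₁ → P S.X₃ → P S.X₂)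
    (h₂ : ∀ (F : X.Modules) (r : ℕ), Coh.IsCoh F → 1 ≤ r → P (∐ fun _ : Fin r => F) → P F)
    (Y : Set X) (hr : Set.range i = Y)
    (ihN : ∀ N : X.Modules, Coh.IsCoh N → CohB1.support N ⊆ Y → CohB1.support N ≠ Y → P N)
    (G : X.Modules) (hG : Coh.IsCoh G) (hGξ : i (genericPoint Zs) ∈ CohB1.support G)
    (hann : ∀ a ∈ IsLocalRing.maximalIdeal (X.presheaf.stalk (i (genericPoint Zs))),
      ∀ m : ↑(G.presheaf.stalk (i (genericPoint Zs))), a • m = 0)
    (h4 : ∀ J : X.IdealSheafData, i (genericPoint Zs) ∉ (J.support : Set X) →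
      ∃ (G' : X.Modules) (ι' : G' ⟶ (Dual3.idealMul J).obj G), Mono ι' ∧ Coh.IsQCoh G' ∧
        IsIso ((TopCat.Presheaf.stalkFunctor _ (i (genericPoint Zs))).map
          (ι' ≫ Dual3.idealMulι J G).mapPresheaf) ∧ P G')
    (Ia : Zs.Modules) (ιa : Ia ⟶ Coh.structureModule Zs) [Mono ιa] (hIa : Coh.IsQCoh Ia) :
    P ((Scheme.Modules.pushforward i).obj Ia) := by
  haveI : IsLocallyNoetherian Zs := LocallyOfFiniteType.isLocallyNoetherian i
  haveI := hG.1
  set ξ := i (genericPoint Zs) with hξdef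
  have hcl : IsClosed (Set.range i) := i.isClosedEmbedding.isClosed_range
  have hIaC : Coh.IsCoh Ia := isCoh_of_mono ιa isCoh_structureModule hIa
  rcases isZero_or_isoOn_of_mono_structureModule Ia hIaC ιa with hz | ⟨D_a, hηa, hιa⟩
  · exact h₀ _ ((Scheme.Modules.pushforward i).map_isZero hz)
  obtain ⟨r, I', p, φ', D', U', hp, hI', hφ', hξU', hφ'U', hηD', hpD'⟩ :=
    exists_push_ideal_mono i G hG hann Ia hIaC ιa D_a hηa hιa
  haveI := hp
  haveI := hφ'
  have hsrc : Coh.IsCoh ((Scheme.Modules.pushforward i).obj (∐ fun _ : Fin r => I')) :=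
    isCoh_pushforward i _ (isCoh_sigma _ fun _ => hI')
  haveI := hsrc.1
  -- `r ≥ 1`
  have hr1 : 1 ≤ r := by
    by_contra hcon
    have hr0 : r = 0 := by omega
    subst hr0
    have hz : IsZero (∐ fun _ : Fin 0 => I') :=
      (isZero_biproduct_fin_zero I').of_iso (biproduct.isoCoproduct _).symm
    have h1 : lenAt ξ ((Scheme.Modules.pushforward i).obj (∐ fun _ : Fin 0 => I')) = 0 :=
      lenAt_of_isZero ξ ((Scheme.Modules.pushforward i).map_isZero hz)
    have h2 := lenAt_eq_of_isoOn φ' U' hφ'U' ξ hξU'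
    rw [h1] at h2
    exact (lenAt_eq_zero_iff ξ G).1 h2.symm hGξ
  -- the cokernel of `φ'` is killed by a power of the ideal of its support
  have hC : Coh.IsCoh (cokernel φ') := isCoh_cokernel φ' hsrc hG
  have hξC : ξ ∉ CohB1.support (cokernel φ') := notMem_support_cokernel_of_isoOn φ' U' hφ'U' ξ hξU'
  have hCcl : IsClosed (CohB1.support (cokernel φ')) := isClosed_support _ hC
  obtain ⟨k, hk⟩ := @exists_isZero_idealMul_pow X (vanishingIdeal ⟨CohB1.support (cokernel φ'), hCcl⟩) _
    (cokernel φ') hC.1 hC.2 (by rw [coe_support_vanishingIdeal]; rfl)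
  set J := (vanishingIdeal ⟨CohB1.support (cokernel φ'), hCcl⟩) ^ k with hJ
  have hξJ : ξ ∉ (J.support : Set X) := notMem_support_pow_vanishingIdeal _ hCcl k ξ hξC
  -- `J G` lies in the image of `φ'`
  obtain ⟨l, hl⟩ := exists_lift_of_range_le (Dual3.idealMulι J G) φ' Set.univ (fun x => by
      obtain ⟨_, ⟨W, hW, rfl⟩, hxW, -⟩ := X.isBasis_affineOpens.exists_subset_of_mem_open
        (Set.mem_univ x) isOpen_univ
      exact ⟨⟨W, hW⟩, Set.mem_univ _, hxW⟩) (fun W _ t =>
      exists_app_eq_of_isZero_idealMul_cokernel φ' J hk W _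
        ((exists_idealMulι_app_eq_iff J G W _).1 ⟨t, rfl⟩))
  haveI : Mono (Dual3.idealMulι J G) := Dual3.mono_idealMulι J G
  haveI hlm : Mono l := mono_of_mono_fac hl
  obtain ⟨G', ι', hι', hG'q, hstalk, hPG'⟩ := h4 J hξJ
  haveI := hι'
  -- the comparison with the power of `Ia`
  obtain ⟨W', hW'⟩ := exists_opens_preimage_eq i D'
  have hξW' : ξ ∈ W' := by
    have : genericPoint Zs ∈ i ⁻¹ᵁ W' := by rw [hW']; exact hηD'
    exact this
  set q := (Scheme.Modules.pushforward i).map (Limits.Sigma.map fun _ : Fin r => p) with hq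
  haveI : Mono (Limits.Sigma.map fun _ : Fin r => p) := inferInstance
  haveI hqm : Mono q := inferInstance
  have hqW' : IsoOn q W' := isoOn_pushforward i _ D' (isoOn_sigma_map D' p hpD' r) W' hW'.le
  have hT : Coh.IsCoh ((Scheme.Modules.pushforward i).obj (∐ fun _ : Fin r => Ia)) :=
    isCoh_pushforward i _ (isCoh_sigma _ fun _ => hIaC)
  set γ := ι' ≫ l ≫ q with hγ
  haveI hγm : Mono γ := by
    haveI : Mono (l ≫ q) := mono_comp _ _
    exact mono_comp _ _
  have hG' : Coh.IsCoh G' := isCoh_of_mono γ hT hG'q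
  have hQ : Coh.IsCoh (cokernel γ) := isCoh_cokernel γ hG' hT
  have hQY : CohB1.support (cokernel γ) ⊆ Y := by
    refine (support_subset_of_epi (cokernel.π γ)).trans ?_
    rw [← hr]
    exact support_pushforward_subset i _ hcl
  have hξQ : ξ ∉ CohB1.support (cokernel γ) := by
    refine notMem_support_cokernel_of_surjective γ ξ fun t => ?_
    have hb1 := bijective_stalkLin_of_isIso_stalkHom _ _ hstalk
    have hb2 := bijective_stalkLin_of_isoOn φ' U' hφ'U' ξ hξU'
    have hb3 := bijective_stalkLin_of_isoOn q W' hqW' ξ hξW'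
    obtain ⟨s, rfl⟩ := hb3.2 t
    obtain ⟨g', hg'⟩ := hb1.2 (stalkLin φ' ξ s)
    have e1 : ι' ≫ Dual3.idealMulι J G = (ι' ≫ l) ≫ φ' := by rw [Category.assoc, hl]
    rw [e1, stalkLin_comp] at hg'
    have e2 : stalkLin (ι' ≫ l) ξ g' = s := hb2.1 hg'
    refine ⟨g', ?_⟩
    have e3 : γ = (ι' ≫ l) ≫ q := by rw [hγ, Category.assoc]
    rw [e3, stalkLin_comp, e2]
  have hξY : ξ ∈ Y := hr ▸ Set.mem_range_self _
  have hPQ : P (cokernel γ) := ihN _ hQ hQY fun h => hξQ (h ▸ hξY)
  have hPT : P ((Scheme.Modules.pushforward i).obj (∐ fun _ : Fin r => Ia)) :=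
    h₁ _ (shortExact_cokernel_of_mono γ) hG' hT hQ hPG' hPQ
  exact h₂ _ r (isCoh_pushforward i Ia hIaC) hr1 (hP _ _ ⟨pushSigmaIso i Ia r⟩ hPT)

/-- **Dévissage with a generically good module.** -/
theorem devissage_generic [IsNoetherian X]
    (Z₀ : Set X) (hZ₀ : IsClosed Z₀) (hirr : IsIrreducible Z₀) (ξ : X) (hξ : ξ ∈ Z₀ ∧ closure {ξ} = Z₀)
    (P : X.Modules → Prop) (hP : ∀ M N : X.Modules, Nonempty (M ≅ N) → P M → P N)
    (h₀ : ∀ M : X.Modules, IsZero M → P M)
    (h₁ : ∀ S : ShortComplex X.Modules, S.ShortExact → Coh.IsCoh S.X₁ → Coh.IsCoh S.X₂ → Coh.IsCoh S.X₃ →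
      P S.X₁ → P S.X₃ → P S.X₂)
    (h₂ : ∀ (F : X.Modules) (r : ℕ), Coh.IsCoh F → 1 ≤ r → P (∐ fun _ : Fin r => F) → P F)
    (h₃ : ∀ (Z : Scheme.{u}) (i : Z ⟶ X), IsClosedImmersion i → IsIntegral Z →
      Set.range ⇑i ⊆ Z₀ → Set.range ⇑i ≠ Z₀ →
      ∀ (I : Z.Modules) (ι : I ⟶ Coh.structureModule Z), Mono ι → Coh.IsQCoh I → P ((Coh.push i).obj I))
    (h₄ : ∃ G : X.Modules, Coh.IsCoh G ∧ CohB1.support G = Z₀ ∧
      (∀ a ∈ IsLocalRing.maximalIdeal (X.presheaf.stalk ξ), ∀ m : ↑(G.presheaf.stalk ξ), a • m = 0) ∧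
      ∀ J : X.IdealSheafData, ξ ∉ (J.support : Set X) →
        ∃ (G' : X.Modules) (ι' : G' ⟶ (Dual3.idealMul J).obj G), Mono ι' ∧ Coh.IsQCoh G' ∧
          IsIso ((TopCat.Presheaf.stalkFunctor _ ξ).map (ι' ≫ Dual3.idealMulι J G).mapPresheaf) ∧ P G')
    (F : X.Modules) (hF : Coh.IsCoh F) (hsupp : CohB1.support F ⊆ Z₀) : P F := by
  refine core P hP h₀ h₁ Z₀ ?_ F hF hsupp
  intro Z hZ hirrZ hZsub ihN M hM hMk
  refine irr_step_ideal P hP h₀ h₁ Z hZ hirrZ ihN ?_ M hM hMk
  intro I ι hι hIq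
  have hrange : Set.range (vanishingIdeal ⟨Z, hZ⟩).subschemeι = Z := range_subschemeι_vanishingIdeal Z hZ
  haveI : IsIntegral (vanishingIdeal ⟨Z, hZ⟩).subscheme := isIntegral_subscheme_vanishingIdeal Z hZ hirrZ
  by_cases hZeq : Z = Z₀
  · subst hZeq
    obtain ⟨G, hG, hGs, hGann, hG4⟩ := h₄
    have hgen : (vanishingIdeal ⟨Z, hZ⟩).subschemeι (genericPoint (vanishingIdeal ⟨Z, hZ⟩).subscheme) = ξ := by
      have h1 : IsGenericPoint
          ((vanishingIdeal ⟨Z, hZ⟩).subschemeι (genericPoint (vanishingIdeal ⟨Z, hZ⟩).subscheme)) Z := by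
        unfold IsGenericPoint
        rw [closure_genericPoint_image, hrange]
      have h2 : IsGenericPoint ξ Z := hξ.2
      exact h1.eq h2
    subst hgen
    haveI := hι
    exact prop_push_ideal (vanishingIdeal ⟨Z, hZ⟩).subschemeι P hP h₀ h₁ h₂ Z hrange ihN G hG
      (by rw [hGs]; exact hξ.1) hGann hG4 I ι hIq
  · exact h₃ _ (vanishingIdeal ⟨Z, hZ⟩).subschemeι inferInstance inferInstance
      (by rw [hrange]; exact hZsub) (by rw [hrange]; exact hZeq) I ι hι hIq

end main

end Groth.Agent.Lib.T2H5.Dev2
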