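import Mathlib
import Groth.Agent.Lib.T2H5GenIsoF
import Groth.Agent.Lib.Helper23UnitStalk

/-!
# Finite surjective morphisms: a coherent module upstairs with prescribed irreducible support downstairs (helper5)

Namespace `Groth.Agent.Lib.T2H5.FinSurj`.
-/

set_option autoImplicit false
set_option linter.style.haveILetI false
set_option linter.unusedSectionVars false
universe u
open CategoryTheory CategoryTheory.Limits AlgebraicGeometry Opposite TopologicalSpace

namespace Groth.Agent.Lib.T2H5.FinSurj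

open Groth.Agent.Lib.T2H5.IdealMul Groth.Agent.Lib.T2H5.Devissage Groth.Agent.Lib.T2H5.GenIsoA
open Groth.Agent.Lib.T2H5.GenIsoB Groth.Agent.Lib.T2H5.GenIsoC Groth.Agent.Lib.T2H5.GenIsoD
open Groth.Agent.Lib.T2H5.GenIsoE Groth.Agent.Lib.T2H5.GenIsoF
open Groth.Agent.Lib.Helper23.GenLocus Scheme.IdealSheafData

variable {X : Scheme.{u}}

/-- the direct image of the structure sheaf has full support on the image -/
theorem mem_support_pushforward_structureModule {Z' : Scheme.{u}} (h : Z' ⟶ X) (z : Z') :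
    h z ∈ CohB1.support ((Scheme.Modules.pushforward h).obj (Coh.structureModule Z')) := by
  intro hsub
  set M := (Scheme.Modules.pushforward h).obj (Coh.structureModule Z') with hM
  let one : Γ(M, ⊤) := toS (h ⁻¹ᵁ ⊤) 1
  have h0 : M.presheaf.germ ⊤ (h z) trivial one = M.presheaf.germ ⊤ (h z) trivial 0 :=
    Subsingleton.elim _ _
  obtain ⟨W, hzW, i₁, i₂, hW⟩ := M.presheaf.germ_eq (U := ⊤) (V := ⊤) (h z) trivial trivial _ _ h0
  rw [map_zero] at hW
  have h1 : Z'.presheaf.map (homOfLE (h.preimage_mono i₁.le)).op (1 : Γ(Z', h ⁻¹ᵁ ⊤)) = 0 := hW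
  rw [map_one] at h1
  have h2 : h ⁻¹ᵁ W = ⊥ := by
    rw [← Scheme.basicOpen_of_isUnit (X := Z') (U := h ⁻¹ᵁ W) (f := 1) isUnit_one, h1,
      Scheme.basicOpen_zero]
  have h3 : z ∈ h ⁻¹ᵁ W := hzW
  rw [h2] at h3
  exact h3

/-- **A coherent module upstairs with support a given integral closed subscheme downstairs.** -/
theorem exists_coh_push_support {Y : Scheme.{u}} (f : Y ⟶ X) [IsFinite f] [Surjective f]
    (Z : Scheme.{u}) (i : Z ⟶ X) [IsClosedImmersion i] [IsIntegral Z] :
    ∃ F : Y.Modules, Coh.IsCoh F ∧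
      CohB1.support ((Scheme.Modules.pushforward f).obj F) = Set.range ⇑i ∧
      ∀ a ∈ IsLocalRing.maximalIdeal (X.presheaf.stalk (i (genericPoint Z))),
        ∀ m : ↑(((Scheme.Modules.pushforward f).obj F).presheaf.stalk (i (genericPoint Z))), a • m = 0 := by
  set ξ := i (genericPoint Z) with hξdef
  obtain ⟨y, hy⟩ := f.surjective ξ
  have hT : IsClosed (closure ({y} : Set Y)) := isClosed_closure
  have hTirr : IsIrreducible (closure ({y} : Set Y)) := isIrreducible_singleton.closure
  set I := vanishingIdeal ⟨closure ({y} : Set Y), hT⟩ with hI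
  haveI : IsIntegral I.subscheme := isIntegral_subscheme_vanishingIdeal _ hT hTirr
  have hk : Set.range I.subschemeι = closure ({y} : Set Y) := range_subschemeι_vanishingIdeal _ hT
  have hF : Coh.IsCoh ((Scheme.Modules.pushforward I.subschemeι).obj (Coh.structureModule I.subscheme)) :=
    isCoh_pushforward I.subschemeι _ isCoh_structureModule
  have hrange : Set.range (I.subschemeι ≫ f) = Set.range i := by
    have h1 : Set.range (I.subschemeι ≫ f) = f '' Set.range I.subschemeι := by
      ext x
      constructor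
      · rintro ⟨z, rfl⟩
        exact ⟨I.subschemeι z, ⟨z, rfl⟩, rfl⟩
      · rintro ⟨_, ⟨z, rfl⟩, rfl⟩
        exact ⟨z, rfl⟩
    rw [h1, hk, ← f.isClosedMap.closure_image_eq_of_continuous f.continuous, Set.image_singleton, hy,
      closure_genericPoint_image]
  refine ⟨_, hF, ?_, ?_⟩
  · have e : (Scheme.Modules.pushforward f).obj
        ((Scheme.Modules.pushforward I.subschemeι).obj (Coh.structureModule I.subscheme)) ≅
        (Scheme.Modules.pushforward (I.subschemeι ≫ f)).obj (Coh.structureModule I.subscheme) :=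
      (Scheme.Modules.pushforwardComp I.subschemeι f).app _
    rw [support_eq_of_iso e]
    apply Set.Subset.antisymm
    · rw [← hrange]
      exact support_pushforward_subset (I.subschemeι ≫ f) _
        (by rw [hrange]; exact i.isClosedEmbedding.isClosed_range)
    · rw [← hrange]
      rintro _ ⟨z, rfl⟩
      exact mem_support_pushforward_structureModule (I.subschemeι ≫ f) z
  · set M := (Scheme.Modules.pushforward f).obj
      ((Scheme.Modules.pushforward I.subschemeι).obj (Coh.structureModule I.subscheme)) with hM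
    intro a ha m
    obtain ⟨W₀, hξW₀, s₀, rfl⟩ := M.presheaf.exists_germ_eq m
    obtain ⟨W₁, hξW₁, a₁, rfl⟩ := X.presheaf.exists_germ_eq a
    have hξW : ξ ∈ W₀ ⊓ W₁ := ⟨hξW₀, hξW₁⟩
    rw [← TopCat.Presheaf.germ_res_apply M.presheaf (homOfLE inf_le_left) ξ hξW s₀,
      ← TopCat.Presheaf.germ_res_apply X.presheaf (homOfLE inf_le_right) ξ hξW a₁,
      ← Groth.Agent.Lib.Helper2.QCoh.germ_smul]
    rw [← TopCat.Presheaf.germ_res_apply X.presheaf (homOfLE inf_le_right) ξ hξW a₁] at ha
    set W := W₀ ⊓ W₁ with hW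
    set a' := X.presheaf.map (homOfLE (inf_le_right : W₀ ⊓ W₁ ≤ W₁)).op a₁ with ha'
    set s := M.presheaf.map (homOfLE (inf_le_left : W₀ ⊓ W₁ ≤ W₀)).op s₀ with hs
    -- the function `a'` vanishes on the preimage
    have hzero : I.subschemeι.app (f ⁻¹ᵁ W) (f.app W a') = 0 := by
      haveI : IsReduced I.subscheme := inferInstance
      rw [← basicOpen_eq_bot_iff, ← Scheme.preimage_basicOpen, ← Scheme.preimage_basicOpen]
      ext z
      simp only [Opens.coe_bot, Set.mem_empty_iff_false, iff_false]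
      intro hz
      have hz' : f (I.subschemeι z) ∈ X.basicOpen a' := hz
      have hzT : I.subschemeι z ∈ closure ({y} : Set Y) := hk ▸ Set.mem_range_self z
      have hspec : y ⤳ I.subschemeι z := specializes_iff_mem_closure.2 hzT
      have hspec' : ξ ⤳ f (I.subschemeι z) := hy ▸ hspec.map f.continuous
      have hξb : ξ ∈ X.basicOpen a' := hspec'.mem_open (X.basicOpen a').2 hz'
      rw [Scheme.mem_basicOpen X a' ξ hξW] at hξb
      exact (IsLocalRing.mem_maximalIdeal _).1 ha hξb
    have hsm : a' • s = 0 := by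
      have h1 : a' • s = ((I.subschemeι.app (f ⁻¹ᵁ W) (f.app W a')) •
          (show Γ(Coh.structureModule I.subscheme, I.subschemeι ⁻¹ᵁ (f ⁻¹ᵁ W)) from s) :
            Γ(Coh.structureModule I.subscheme, I.subschemeι ⁻¹ᵁ (f ⁻¹ᵁ W))) := rfl
      rw [h1, hzero]
      exact zero_smul Γ(I.subscheme, I.subschemeι ⁻¹ᵁ (f ⁻¹ᵁ W))
        (show Γ(Coh.structureModule I.subscheme, I.subschemeι ⁻¹ᵁ (f ⁻¹ᵁ W)) from s)
    rw [hsm, map_zero]

end Groth.Agent.Lib.T2H5.FinSurj
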