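import Mathlib
import Groth.Agent.Lib.T2H5SubSec
import Groth.Agent.Lib.Helper22IdealComap

/-!
# `I · f_* F = f_* ((f⁻¹ I) · F)` for affine morphisms (helper5)

Namespace `Groth.Agent.Lib.T2H5.PushIdeal`.
-/

set_option autoImplicit false
set_option linter.style.haveILetI false
set_option linter.unusedSectionVars false
universe u
open CategoryTheory CategoryTheory.Limits AlgebraicGeometry Opposite TopologicalSpace

namespace Groth.Agent.Lib.T2H5.PushIdeal

open Groth.Agent.Lib.T2H5.IdealMul Groth.Agent.Lib.T2H5.SubSec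
open Groth.Agent.Lib.Helper23.ModLocal Groth.Agent.Lib.Helper23.QCohLocal Groth.Agent.Lib.Helper23.FinType

variable {X : Scheme.{u}}

/-- two subobjects of a quasi-coherent module with the same sections over an affine open cover are isomorphic. -/
theorem exists_iso_of_range_eq {A B G : X.Modules} [A.IsQuasicoherent] [B.IsQuasicoherent]
    [G.IsQuasicoherent] (a : A ⟶ G) (b : B ⟶ G) [Mono a] [Mono b]
    (S : Set X.affineOpens) (hS : ∀ x : X, ∃ U ∈ S, x ∈ U.1)
    (h : ∀ U ∈ S, ∀ s : Γ(G, U.1), (∃ t : Γ(A, U.1), a.app U.1 t = s) ↔ (∃ t : Γ(B, U.1), b.app U.1 t = s)) :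
    ∃ e : A ≅ B, e.hom ≫ b = a := by
  obtain ⟨l, hl⟩ := exists_lift_of_range_le a b S hS fun U hU t => (h U hU _).1 ⟨t, rfl⟩
  obtain ⟨l', hl'⟩ := exists_lift_of_range_le b a S hS fun U hU t => (h U hU _).2 ⟨t, rfl⟩
  refine ⟨⟨l, l', ?_, ?_⟩, hl⟩
  · rw [← cancel_mono a, Category.assoc, hl', hl, Category.id_comp]
  · rw [← cancel_mono b, Category.assoc, hl, hl', Category.id_comp]

section alg

/-- `I · M = (I S) · M` for an `S`-module `M` viewed as a module over `R` along `φ : R → S`. -/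
theorem mem_smul_top_iff {R S M M' : Type*} [CommRing R] [CommRing S] [AddCommGroup M] [Module S M]
    [AddCommGroup M'] [Module R M'] (φ : R →+* S) (c : M →+ M')
    (h : ∀ (r : R) (m : M), r • c m = c (φ r • m)) (I : Ideal R) :
    (∀ s' ∈ (I • ⊤ : Submodule R M'), (∀ m' : M', ∃ m, c m = m') → ∃ s ∈ (I.map φ • ⊤ : Submodule S M), c s = s') ∧
    (∀ s ∈ (I.map φ • ⊤ : Submodule S M), (∀ m' : M', ∃ m, c m = m') → c s ∈ (I • ⊤ : Submodule R M')) := by
  constructor
  · intro s' hs hc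
    refine Submodule.smul_induction_on hs (fun a ha m' _ => ?_) (fun x y hx hy => ?_)
    · obtain ⟨m, rfl⟩ := hc m'
      refine ⟨φ a • m, Submodule.smul_mem_smul (Ideal.mem_map_of_mem _ ha) Submodule.mem_top, ?_⟩
      rw [h]
    · obtain ⟨x', hx', rfl⟩ := hx
      obtain ⟨y', hy', rfl⟩ := hy
      exact ⟨x' + y', Submodule.add_mem _ hx' hy', map_add _ _ _⟩
  · intro s hs _
    have key : ∀ b ∈ I.map φ, ∀ m : M, c (b • m) ∈ (I • ⊤ : Submodule R M') := by
      intro b hb
      refine Submodule.span_induction (p := fun b _ => ∀ m : M, c (b • m) ∈ (I • ⊤ : Submodule R M'))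
        ?_ ?_ ?_ ?_ hb
      · rintro _ ⟨a, ha, rfl⟩ m
        rw [← h]
        exact Submodule.smul_mem_smul ha Submodule.mem_top
      · intro m
        rw [zero_smul, map_zero]
        exact Submodule.zero_mem _
      · intro x y _ _ hx hy m
        rw [add_smul, map_add]
        exact Submodule.add_mem _ (hx m) (hy m)
      · intro r x _ hx m
        rw [smul_eq_mul, mul_comm, mul_smul]
        exact hx (r • m)
    refine Submodule.smul_induction_on hs (fun b hb m _ => key b hb m) (fun x y hx hy => ?_)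
    rw [map_add]
    exact Submodule.add_mem _ hx hy

end alg

variable {Y : Scheme.{u}} (f : Y ⟶ X)

/-- the identity `Γ(F, f⁻¹ U) → Γ(f_* F, U)`. -/
noncomputable def pushSec (F : Y.Modules) (U : X.Opens) :
    Γ(F, f ⁻¹ᵁ U) →+ Γ((Scheme.Modules.pushforward f).obj F, U) := AddMonoidHom.id _

theorem pushSec_apply (F : Y.Modules) (U : X.Opens) (s : Γ(F, f ⁻¹ᵁ U)) : pushSec f F U s = s := rfl

theorem pushSec_smul (F : Y.Modules) (U : X.Opens) (r : Γ(X, U)) (m : Γ(F, f ⁻¹ᵁ U)) :
    r • pushSec f F U m = pushSec f F U ((f.app U).hom r • m) := rfl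

/-- over an affine open `U` of the target of an affine morphism, `I(U) · Γ(f_* F, U) = (f⁻¹ I)(f⁻¹ U) · Γ(F, f⁻¹ U)`. -/
theorem mem_smul_top_pushforward_iff [IsAffineHom f] (F : Y.Modules) (I : X.IdealSheafData) (U : X.affineOpens)
    (s : Γ(F, f ⁻¹ᵁ U.1)) :
    pushSec f F U.1 s ∈
        (I.ideal U • ⊤ : Submodule Γ(X, U.1) Γ((Scheme.Modules.pushforward f).obj F, U.1)) ↔
      s ∈ ((I.comap f).ideal ⟨f ⁻¹ᵁ U.1, U.2.preimage f⟩ • ⊤ :
        Submodule Γ(Y, f ⁻¹ᵁ U.1) Γ(F, f ⁻¹ᵁ U.1)) := by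
  have hcomap : (I.comap f).ideal ⟨f ⁻¹ᵁ U.1, U.2.preimage f⟩ = (I.ideal U).map (f.app U.1).hom := by
    rw [Groth.Agent.Lib.Helper22.IdealComap.ideal_comap_eq_map f I ⟨f ⁻¹ᵁ U.1, U.2.preimage f⟩ U le_rfl,
      Scheme.Hom.app_eq_appLE]
  rw [hcomap]
  have hsurj : ∀ m' : Γ((Scheme.Modules.pushforward f).obj F, U.1), ∃ m, pushSec f F U.1 m = m' :=
    fun m' => ⟨m', rfl⟩
  have := mem_smul_top_iff (f.app U.1).hom (pushSec f F U.1) (pushSec_smul f F U.1) (I.ideal U)
  constructor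
  · intro hs
    obtain ⟨s₀, hs₀, hs₁⟩ := this.1 _ hs hsurj
    have : s₀ = s := hs₁
    rw [← this]
    exact hs₀
  · intro hs
    exact this.2 s hs hsurj

/-- **`I · f_* F = f_* ((f⁻¹ I) · F)`** for an affine morphism `f` and quasi-coherent `F`. -/
theorem exists_iso_idealMul_pushforward [IsAffineHom f] (F : Y.Modules) [F.IsQuasicoherent]
    (I : X.IdealSheafData) :
    ∃ e : (Dual3.idealMul I).obj ((Scheme.Modules.pushforward f).obj F) ≅
        (Scheme.Modules.pushforward f).obj ((Dual3.idealMul (I.comap f)).obj F),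
      e.hom ≫ (Scheme.Modules.pushforward f).map (Dual3.idealMulι (I.comap f) F) =
        Dual3.idealMulι I ((Scheme.Modules.pushforward f).obj F) := by
  haveI : ((Scheme.Modules.pushforward f).obj F).IsQuasicoherent := isQuasicoherent_pushforward f F
  haveI : ((Scheme.Modules.pushforward f).obj ((Dual3.idealMul (I.comap f)).obj F)).IsQuasicoherent :=
    isQuasicoherent_pushforward f _
  haveI : Mono (Dual3.idealMulι (I.comap f) F) := Dual3.mono_idealMulι _ _
  haveI : Mono (Dual3.idealMulι I ((Scheme.Modules.pushforward f).obj F)) := Dual3.mono_idealMulι _ _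
  haveI : Mono ((Scheme.Modules.pushforward f).map (Dual3.idealMulι (I.comap f) F)) := inferInstance
  refine exists_iso_of_range_eq _ _ Set.univ (fun x => ?_) (fun U _ s => ?_)
  · obtain ⟨_, ⟨U, hU, rfl⟩, hxU, -⟩ := X.isBasis_affineOpens.exists_subset_of_mem_open
      (Set.mem_univ x) isOpen_univ
    exact ⟨⟨U, hU⟩, Set.mem_univ _, hxU⟩
  · rw [exists_idealMulι_app_eq_iff I ((Scheme.Modules.pushforward f).obj F) U s]
    have h1 := exists_idealMulι_app_eq_iff (I.comap f) F ⟨f ⁻¹ᵁ U.1, U.2.preimage f⟩ s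
    have h2 := mem_smul_top_pushforward_iff f F I U s
    rw [pushSec_apply] at h2
    rw [h2, ← h1]
    rfl

end Groth.Agent.Lib.T2H5.PushIdeal
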