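import Mathlib
import Groth.Agent.Lib.T2H5Dev2
import Groth.Agent.Lib.T2H5PushIdeal
import Groth.Agent.Lib.T2H5FinSurj

/-!
# Finite surjective morphisms of integral schemes: generic comparison of direct images (helper5)

Namespace `Groth.Agent.Lib.T2H5.FinGen`.
-/

set_option autoImplicit false
set_option linter.style.haveILetI false
set_option linter.unusedSectionVars false
universe u
open CategoryTheory CategoryTheory.Limits AlgebraicGeometry Opposite TopologicalSpace

namespace Groth.Agent.Lib.T2H5.FinGen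

open Groth.Agent.Lib.T2H5.IdealMul Groth.Agent.Lib.T2H5.Devissage Groth.Agent.Lib.T2H5.GenIsoA
open Groth.Agent.Lib.T2H5.GenIsoB Groth.Agent.Lib.T2H5.GenIsoC Groth.Agent.Lib.T2H5.GenIsoD
open Groth.Agent.Lib.T2H5.GenIsoE Groth.Agent.Lib.T2H5.GenIsoF Groth.Agent.Lib.T2H5.SubSec
open Groth.Agent.Lib.T2H5.ArtinRees Groth.Agent.Lib.T2H5.ExtendHom Groth.Agent.Lib.T2H5.GenSub
open Groth.Agent.Lib.T2H5.Dev2 Groth.Agent.Lib.T2H5.PushIdeal Groth.Agent.Lib.T2H5.FinSurj
open Groth.Agent.Lib.Helper23.ModLocal Groth.Agent.Lib.Helper23.QCohLocal Groth.Agent.Lib.Helper23.FinType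
open Groth.Agent.Lib.Helper2.ModExact Groth.Agent.Lib.T2H5.CohSigma
open Groth.Agent.Lib.Helper4.NormDelta Groth.Agent.Lib.Helper23.StalkLin
open Groth.Agent.Lib.Helper23.Extend Scheme.IdealSheafData

attribute [local instance] Abelian.hasFiniteBiproducts

variable {X Y : Scheme.{u}}

theorem isCoh_pushforward_finite (f : X ⟶ Y) [IsFinite f] (F : X.Modules) (hF : Coh.IsCoh F) :
    Coh.IsCoh ((Scheme.Modules.pushforward f).obj F) := by
  haveI := hF.1
  haveI := hF.2
  exact ⟨isQuasicoherent_pushforward f F,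
    (Groth.Agent.Lib.Helper2.FinPushFP.isFiniteType_pushforward_iff f F).1 hF.2⟩

theorem isIso_stalk_of_bijective {A B : Y.Modules} (β : A ⟶ B) (x : Y)
    (h : Function.Bijective (stalkLin β x)) :
    IsIso ((TopCat.Presheaf.stalkFunctor AddCommGrpCat.{u} x).map
        ((SheafOfModules.toSheaf Y.ringCatSheaf).map β).hom) := by
  rw [ConcreteCategory.isIso_iff_bijective]
  exact h

/-- **Generic comparison, contravariant form**: for a finite surjective morphism `f : X ⟶ Y` of integral Noetherian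
schemes and a coherent `F` on `Y` there are `r ≥ 1`, a coherent `G` on `X` and `f_* G ⟶ F^r`, an isomorphism near the
generic point. -/
theorem exists_push_to_sigma [IsIntegral X] [IsNoetherian X] [IsIntegral Y] [IsNoetherian Y]
    (f : X ⟶ Y) [IsFinite f] [Surjective f] (F : Y.Modules) (hF : Coh.IsCoh F) :
    ∃ (r : ℕ) (G : X.Modules) (β : (Scheme.Modules.pushforward f).obj G ⟶ ∐ fun _ : Fin r => F)
      (D : Y.Opens), 0 < r ∧ Coh.IsCoh G ∧ genericPoint Y ∈ D ∧ IsoOn β D := by
  haveI := hF.1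
  have hOX : Coh.IsCoh (Coh.structureModule X) := isCoh_structureModule
  have hA : Coh.IsCoh ((Scheme.Modules.pushforward f).obj (Coh.structureModule X)) :=
    isCoh_pushforward_finite f _ hOX
  obtain ⟨D₁, r, hη₁, ⟨b₁⟩⟩ := exists_generic_free _ hA
  obtain ⟨D₂, m, hη₂, ⟨a₂⟩⟩ := exists_generic_free F hF
  set D := D₁ ⊓ D₂ with hDdef
  have hη : genericPoint Y ∈ D := ⟨hη₁, hη₂⟩
  obtain ⟨b⟩ := nonempty_restrict_iso_freeMod_of_le _ (inf_le_left : D ≤ D₁) b₁
  obtain ⟨a⟩ := nonempty_restrict_iso_freeMod_of_le F (inf_le_right : D ≤ D₂) a₂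
  -- the rank is positive
  have hr : 0 < r := by
    rcases Nat.eq_zero_or_pos r with h0 | h0
    · exfalso
      subst h0
      obtain ⟨x, hx⟩ := f.surjective (genericPoint Y)
      have h1 := subsingleton_stalk_of_iso_freeMod_zero D _ b (genericPoint Y) hη
      have h2 := mem_support_pushforward_structureModule f x
      rw [hx] at h2
      exact h2 h1
    · exact h0
  have hG₀ : Coh.IsCoh (∐ fun _ : Fin m => Coh.structureModule X) := isCoh_sigma _ fun _ => hOX
  haveI := hG₀.1
  have hfG₀ : Coh.IsCoh ((Scheme.Modules.pushforward f).obj (∐ fun _ : Fin m => Coh.structureModule X)) :=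
    isCoh_pushforward_finite f _ hG₀
  have hFr : Coh.IsCoh (∐ fun _ : Fin r => F) := isCoh_sigma _ fun _ => hF
  haveI := hFr.1
  let φ : ((Scheme.Modules.pushforward f).obj (∐ fun _ : Fin m => Coh.structureModule X)).restrict D.ι ≅
      (∐ fun _ : Fin r => F).restrict D.ι :=
    (Scheme.Modules.restrictFunctor D.ι).mapIso (pushSigmaIso f (Coh.structureModule X) m) ≪≫
      (sigmaRestrictIso D F _ m r a b).symm
  set I₀ := vanishingIdeal ⟨(D : Set Y)ᶜ, D.2.isClosed_compl⟩ with hI₀
  have hsupp : (I₀.support : Set Y) = (D : Set Y)ᶜ := coe_support_vanishingIdeal _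
  have hD : (D : Set Y) = (I₀.support : Set Y)ᶜ := by rw [hsupp, compl_compl]
  have hdisj : (I₀.support : Set Y) ∩ D = ∅ := by rw [hsupp]; exact Set.compl_inter_self _
  obtain ⟨n, ψ, hψ⟩ := exists_pow_extension (∐ fun _ : Fin r => F) _ hfG₀ I₀ D hD φ.hom
  haveI := hfG₀.1
  have hinc : IsoOn (Dual3.idealMulι (I₀ ^ n)
      ((Scheme.Modules.pushforward f).obj (∐ fun _ : Fin m => Coh.structureModule X))) D :=
    isoOn_idealMulι_pow I₀ _ D hdisj n
  have hψD : IsoOn ψ D := by
    have h1 : IsIso ((Scheme.Modules.restrictFunctor D.ι).map (Dual3.idealMulι (I₀ ^ n)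
        ((Scheme.Modules.pushforward f).obj (∐ fun _ : Fin m => Coh.structureModule X)))) := by
      rw [isIso_restrict_iff, Scheme.Opens.opensRange_ι]; exact hinc
    have h2 : IsIso ((Scheme.Modules.restrictFunctor D.ι).map ψ) := by rw [hψ]; infer_instance
    have h3 := (isIso_restrict_iff D.ι ψ).1 h2
    rwa [Scheme.Opens.opensRange_ι] at h3
  obtain ⟨e, -⟩ := exists_iso_idealMul_pushforward f (∐ fun _ : Fin m => Coh.structureModule X) (I₀ ^ n)
  refine ⟨r, (Dual3.idealMul ((I₀ ^ n).comap f)).obj (∐ fun _ : Fin m => Coh.structureModule X),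
    e.inv ≫ ψ, D, hr, isCoh_idealMul _ _ hG₀, hη, ?_⟩
  exact IsoOn.of_iso_comp e.symm ψ D hψD

end Groth.Agent.Lib.T2H5.FinGen
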