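import Groth.Agent.Lib.T2H5HHLes

/-!
# T2H5HHSub: vanishing consequences of the long exact cohomology sequence (helper5)
-/

set_option autoImplicit false
universe u

namespace Groth.Agent.Lib.T2H5.HHSub

open CategoryTheory CategoryTheory.Limits AlgebraicGeometry Abelian
open Groth.Agent.Lib.Helper23.QCohLocal

variable {X : Scheme.{u}}

/-- `H^i(X₁) = 0` and `H^i(X₃) = 0` imply `H^i(X₂) = 0`. -/
theorem subsingleton_X₂ (S : ShortComplex X.Modules) (hS : S.ShortExact) (i : ℕ)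
    (h1 : Subsingleton (Coh.HH X S.X₁ i)) (h3 : Subsingleton (Coh.HH X S.X₃ i)) :
    Subsingleton (Coh.HH X S.X₂ i) := by
  have key : ∀ x : Coh.HH X S.X₂ i, x = 0 := by
    intro x
    obtain ⟨y, hy⟩ := Ext.covariant_sequence_exact₂ _ (shortExact_toAbF S hS) x
      (@Subsingleton.elim _ h3 _ _)
    have hy0 : y = 0 := @Subsingleton.elim _ h1 _ _
    rw [← hy, hy0, Ext.zero_comp]
    rfl
  exact ⟨fun a b => (key a).trans (key b).symm⟩

/-- `H^i(X₂) = 0` and `H^{i+1}(X₁) = 0` imply `H^i(X₃) = 0`. -/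
theorem subsingleton_X₃ (S : ShortComplex X.Modules) (hS : S.ShortExact) (i : ℕ)
    (h2 : Subsingleton (Coh.HH X S.X₂ i)) (h1 : Subsingleton (Coh.HH X S.X₁ (i + 1))) :
    Subsingleton (Coh.HH X S.X₃ i) := by
  have key : ∀ x : Coh.HH X S.X₃ i, x = 0 := by
    intro x
    obtain ⟨y, hy⟩ := Ext.covariant_sequence_exact₃ _ (shortExact_toAbF S hS) x rfl
      (@Subsingleton.elim _ h1 _ _)
    have hy0 : y = 0 := @Subsingleton.elim _ h2 _ _
    rw [← hy, hy0, Ext.zero_comp]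
    rfl
  exact ⟨fun a b => (key a).trans (key b).symm⟩

/-- `H^i(X₃) = 0` and `H^{i+1}(X₂) = 0` imply `H^{i+1}(X₁) = 0`. -/
theorem subsingleton_X₁ (S : ShortComplex X.Modules) (hS : S.ShortExact) (i : ℕ)
    (h3 : Subsingleton (Coh.HH X S.X₃ i)) (h2 : Subsingleton (Coh.HH X S.X₂ (i + 1))) :
    Subsingleton (Coh.HH X S.X₁ (i + 1)) := by
  have key : ∀ x : Coh.HH X S.X₁ (i + 1), x = 0 := by
    intro x
    obtain ⟨y, hy⟩ := Ext.covariant_sequence_exact₁ _ (shortExact_toAbF S hS) x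
      (@Subsingleton.elim _ h2 _ _) rfl
    have hy0 : y = 0 := @Subsingleton.elim _ h3 _ _
    rw [← hy, hy0, Ext.zero_comp]
    rfl
  exact ⟨fun a b => (key a).trans (key b).symm⟩

/-- `H^0(X₂) = 0` implies `H^0(X₁) = 0`. -/
theorem subsingleton_X₁_zero (S : ShortComplex X.Modules) (hS : S.ShortExact)
    (h2 : Subsingleton (Coh.HH X S.X₂ 0)) : Subsingleton (Coh.HH X S.X₁ 0) := by
  haveI := (shortExact_toAbF S hS).mono_f
  refine ⟨fun a b => ?_⟩
  apply Ext.postcomp_mk₀_injective_of_mono _ (S.map (toAbF X)).f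
  exact @Subsingleton.elim _ h2 _ _

end Groth.Agent.Lib.T2H5.HHSub
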