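import Mathlib
import Groth.Agent.Lib.T2H5Dev2
import Groth.Agent.Lib.T2H5PushIdeal
import Groth.Agent.Lib.T2H5FinSurj
import Groth.Agent.Lib.T2H5FinGen
import Groth.Agent.Lib.T2H5HHSub
import Groth.Agent.S0007
import Groth.Agent.S0012

/-!
# Chevalley's affineness theorem: vanishing of `H¹` of coherent modules (helper5)

Namespace `Groth.Agent.Lib.T2H5.Chevalley`.
-/

set_option autoImplicit false
set_option linter.style.haveILetI false
set_option linter.unusedSectionVars false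
universe u
open CategoryTheory CategoryTheory.Limits AlgebraicGeometry Opposite TopologicalSpace

namespace Groth.Agent.Lib.T2H5.Chevalley

open Groth.Agent.Lib.T2H5.IdealMul Groth.Agent.Lib.T2H5.Devissage Groth.Agent.Lib.T2H5.GenIsoA
open Groth.Agent.Lib.T2H5.GenIsoB Groth.Agent.Lib.T2H5.GenIsoC Groth.Agent.Lib.T2H5.GenIsoD
open Groth.Agent.Lib.T2H5.GenIsoE Groth.Agent.Lib.T2H5.GenIsoF Groth.Agent.Lib.T2H5.SubSec
open Groth.Agent.Lib.T2H5.ArtinRees Groth.Agent.Lib.T2H5.ExtendHom Groth.Agent.Lib.T2H5.GenSub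
open Groth.Agent.Lib.T2H5.Dev2 Groth.Agent.Lib.T2H5.PushIdeal Groth.Agent.Lib.T2H5.FinSurj
open Groth.Agent.Lib.T2H5.FinGen Groth.Agent.Lib.T2H5.HHSub
open Groth.Agent.Lib.Helper23.ModLocal Groth.Agent.Lib.Helper23.QCohLocal Groth.Agent.Lib.Helper23.FinType
open Groth.Agent.Lib.Helper2.ModExact Groth.Agent.Lib.T2H5.CohSigma
open Groth.Agent.Lib.Helper4.NormDelta Groth.Agent.Lib.Helper23.StalkLin
open Groth.Agent.Lib.Helper23.Extend Scheme.IdealSheafData

attribute [local instance] Abelian.hasFiniteBiproducts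

variable {X : Scheme.{u}}

section functoriality

/-- the map on cohomology induced by a morphism of modules -/
noncomputable def HHmap {M N : X.Modules} (φ : M ⟶ N) (p : ℕ) : Coh.HH X M p →+ Coh.HH X N p :=
  Sheaf.H.map ((toAbF X).map φ) p

theorem HHmap_id (M : X.Modules) (p : ℕ) (x : Coh.HH X M p) : HHmap (𝟙 M) p x = x := by
  unfold HHmap
  rw [(toAbF X).map_id]
  exact Sheaf.H.map_id_apply x

theorem HHmap_comp {M N K : X.Modules} (φ : M ⟶ N) (ψ : N ⟶ K) (p : ℕ) (x : Coh.HH X M p) :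
    HHmap (φ ≫ ψ) p x = HHmap ψ p (HHmap φ p x) := by
  unfold HHmap
  rw [(toAbF X).map_comp]
  exact Sheaf.H.map_comp_apply _ _ x

theorem HHmap_zero {M N : X.Modules} (p : ℕ) (x : Coh.HH X M p) : HHmap (0 : M ⟶ N) p x = 0 := by
  have h : (toAbF X).map (0 : M ⟶ N) = 0 := (toAbF X).map_zero _ _
  change Sheaf.H.map ((toAbF X).map (0 : M ⟶ N)) p x = 0
  rw [h]
  change Abelian.Ext.comp x (Abelian.Ext.mk₀ 0) (add_zero p) = 0
  rw [Abelian.Ext.mk₀_zero, Abelian.Ext.comp_zero]

theorem subsingleton_HH_of_retract {M N : X.Modules} (i : M ⟶ N) (r : N ⟶ M) (h : i ≫ r = 𝟙 M) (p : ℕ)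
    (hN : Subsingleton (Coh.HH X N p)) : Subsingleton (Coh.HH X M p) := by
  have key : ∀ x : Coh.HH X M p, x = 0 := by
    intro x
    have h1 : HHmap i p x = 0 := @Subsingleton.elim _ hN _ _
    have h2 : HHmap (i ≫ r) p x = x := by rw [h, HHmap_id]
    rw [← h2, HHmap_comp, h1, map_zero]
  exact ⟨fun a b => (key a).trans (key b).symm⟩

theorem subsingleton_HH_of_iso {M N : X.Modules} (e : M ≅ N) (p : ℕ)
    (hM : Subsingleton (Coh.HH X M p)) : Subsingleton (Coh.HH X N p) :=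
  subsingleton_HH_of_retract e.inv e.hom e.inv_hom_id p hM

theorem subsingleton_HH_of_isZero {M : X.Modules} (hM : IsZero M) (p : ℕ) : Subsingleton (Coh.HH X M p) := by
  have key : ∀ x : Coh.HH X M p, x = 0 := by
    intro x
    have h1 : (𝟙 M) = 0 := hM.eq_of_src _ _
    have h2 : HHmap (𝟙 M) p x = x := HHmap_id M p x
    rw [← h2, h1, HHmap_zero]
  exact ⟨fun a b => (key a).trans (key b).symm⟩

theorem subsingleton_HH_of_sigma (F : X.Modules) (r : ℕ) (hr : 1 ≤ r) (p : ℕ)
    (h : Subsingleton (Coh.HH X (∐ fun _ : Fin r => F) p)) : Subsingleton (Coh.HH X F p) := by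
  refine subsingleton_HH_of_retract (Sigma.ι (fun _ : Fin r => F) ⟨0, hr⟩) (Sigma.desc fun _ => 𝟙 F) ?_ p h
  simp

end functoriality

/-- **`H¹` of every coherent module vanishes on the target of a finite surjective morphism from an affine scheme.** -/
theorem subsingleton_HH_one {Y : Scheme.{u}} (f : Y ⟶ X) [IsFinite f] [Surjective f] [IsAffine Y] [IsNoetherian X]
    (F : X.Modules) (hF : Coh.IsCoh F) : Subsingleton (Coh.HH X F 1) := by
  haveI : IsLocallyNoetherian Y := LocallyOfFiniteType.isLocallyNoetherian f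
  set P : X.Modules → Prop := fun M => Subsingleton (Coh.HH X M 1) with hPdef
  have hP : ∀ M N : X.Modules, Nonempty (M ≅ N) → P M → P N := fun M N ⟨e⟩ hM => subsingleton_HH_of_iso e 1 hM
  have h₀ : ∀ M : X.Modules, IsZero M → P M := fun M hM => subsingleton_HH_of_isZero hM 1
  have h₁ : ∀ S : ShortComplex X.Modules, S.ShortExact → Coh.IsCoh S.X₁ → Coh.IsCoh S.X₂ → Coh.IsCoh S.X₃ →
      P S.X₁ → P S.X₃ → P S.X₂ := fun S hS _ _ _ h1 h3 => subsingleton_X₂ S hS 1 h1 h3
  have h₂ : ∀ (F : X.Modules) (r : ℕ), Coh.IsCoh F → 1 ≤ r → P (∐ fun _ : Fin r => F) → P F :=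
    fun F r _ hr h => subsingleton_HH_of_sigma F r hr 1 h
  refine core P hP h₀ h₁ Set.univ ?_ F hF (Set.subset_univ _)
  intro Z hZ hirrZ hZsub ihN M hM hMk
  refine irr_step_ideal P hP h₀ h₁ Z hZ hirrZ ihN ?_ M hM hMk
  intro I ι hι hIq
  have hrange : Set.range (vanishingIdeal ⟨Z, hZ⟩).subschemeι = Z := range_subschemeι_vanishingIdeal Z hZ
  haveI : IsIntegral (vanishingIdeal ⟨Z, hZ⟩).subscheme := isIntegral_subscheme_vanishingIdeal Z hZ hirrZ
  obtain ⟨F₀, hF₀, hsupp, hann⟩ := exists_coh_push_support f _ (vanishingIdeal ⟨Z, hZ⟩).subschemeι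
  haveI := hι
  haveI : F₀.IsQuasicoherent := hF₀.1
  have hG : Coh.IsCoh ((Scheme.Modules.pushforward f).obj F₀) := isCoh_pushforward_finite f F₀ hF₀
  haveI : ((Scheme.Modules.pushforward f).obj F₀).IsQuasicoherent := hG.1
  refine prop_push_ideal (vanishingIdeal ⟨Z, hZ⟩).subschemeι P hP h₀ h₁ h₂ Z hrange ihN
    ((Scheme.Modules.pushforward f).obj F₀) hG ?_ hann ?_ I ι hIq
  · rw [hsupp]
    exact ⟨_, rfl⟩
  · intro J hJ
    refine ⟨(Dual3.idealMul J).obj ((Scheme.Modules.pushforward f).obj F₀), 𝟙 _, inferInstance,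
      isQuasicoherent_idealMul J _, ?_, ?_⟩
    · rw [Category.id_comp]
      have hD : IsoOn (Dual3.idealMulι J ((Scheme.Modules.pushforward f).obj F₀)) (J.support : Closeds X).compl := by
        have := isoOn_idealMulι_pow J ((Scheme.Modules.pushforward f).obj F₀) (J.support : Closeds X).compl
          (by
            rw [Set.eq_empty_iff_forall_notMem]
            rintro x ⟨hx1, hx2⟩
            exact hx2 hx1) 1
        rwa [pow_one] at this
      rw [ConcreteCategory.isIso_iff_bijective]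
      exact bijective_stalkLin_of_isoOn _ _ hD _ hJ
    · obtain ⟨e, -⟩ := exists_iso_idealMul_pushforward f F₀ J
      refine hP _ _ ⟨e.symm⟩ ?_
      haveI : ((Dual3.idealMul (J.comap f)).obj F₀).IsQuasicoherent := isQuasicoherent_idealMul _ _
      obtain ⟨eq⟩ := Groth.Agent.S0012.result f ((Dual3.idealMul (J.comap f)).obj F₀) 1
      haveI : Subsingleton (Coh.HH Y ((Dual3.idealMul (J.comap f)).obj F₀) 1) :=
        Groth.Agent.S0007.result Y _ 1 one_pos
      exact eq.symm.toEquiv.subsingleton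

end Groth.Agent.Lib.T2H5.Chevalley
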