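import Mathlib
import Groth.Agent.Lib.T2H6AffFP
import Groth.Agent.Lib.T2H6FinFP
import Groth.Agent.Lib.T2H6ChowLim
import Groth.Agent.Lib.Helper22LimBC
import Groth.Agent.S0021
import Groth.Agent.S9187
import Groth.Agent.S9207

/-!
# Chevalley's theorem without Noetherian hypotheses (helper6, team 2)

If `f : X ⟶ S` is surjective and universally closed with `X` affine, then `S` is affine
(Stacks 01ZT / 05YU), by Noetherian approximation from the Noetherian case `S0021`.
-/

set_option autoImplicit false
universe u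

namespace Groth.Agent.Lib.T2H6.Chevalley

open AlgebraicGeometry CategoryTheory TopologicalSpace Limits

/-- Stacks 09MQ: separatedness descends along surjective universally closed morphisms. -/
theorem isSeparated_of_comp_surjective {X Y Z : Scheme.{u}} (f : X ⟶ Y) (g : Y ⟶ Z)
    [Surjective f] [UniversallyClosed f] [IsSeparated (f ≫ g)] : IsSeparated g := by
  constructor
  apply IsClosedImmersion.of_isPreimmersion
  have h1 := pullback.comp_diagonal f g
  let h : pullback (f ≫ g) (f ≫ g) ⟶ pullback g g :=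
    pullback.map (f ≫ g) (f ≫ g) g g f f (𝟙 Z) (by simp) (by simp)
  have hh : UniversallyClosed h :=
    MorphismProperty.pullbackMap (P := @UniversallyClosed) (f := f ≫ g) (g := f ≫ g)
      (f' := g) (g' := g) (i₁ := f) (i₂ := f) inferInstance inferInstance rfl rfl
  have h2 : Set.range (pullback.diagonal g) = Set.range (f ≫ pullback.diagonal g) := by
    rw [Scheme.Hom.comp_base, TopCat.coe_comp, Set.range_comp, Set.range_eq_univ.mpr f.surjective,
      Set.image_univ]
  rw [h2, h1, Scheme.Hom.comp_base, TopCat.coe_comp, Set.range_comp]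
  exact h.isClosedMap _ (pullback.diagonal (f ≫ g)).isClosedEmbedding.isClosed_range

open Groth.Agent.Lib.Helper22.LimBC in
/-- Chevalley's theorem for finite, finitely presented surjections onto a qcqs scheme. -/
theorem isAffine_of_finite_fp {Y S : Scheme.{u}} (h : Y ⟶ S) [CompactSpace S]
    [QuasiSeparatedSpace S] [IsFinite h] [LocallyOfFinitePresentation h] [Surjective h]
    [IsAffine Y] : IsAffine S := by
  classical
  obtain ⟨I, instP, instD, instN, D, c, hc, haff, hst, ⟨e⟩⟩ := Groth.Agent.S0590.result S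
  haveI : IsCofiltered Iᵒᵖ := inferInstance
  haveI : ∀ (i j : Iᵒᵖ) (f : i ⟶ j), IsAffineHom (D.map f) := haff
  have inst' : ∀ {i j : Iᵒᵖ} (f : i ⟶ j), IsAffineHom (D.map f) := fun f => haff _ _ f
  haveI : ∀ i, CompactSpace (D.obj i) := fun i => (hst i).1
  have hnoeth : ∀ i, IsNoetherian (D.obj i) := fun i => by
    haveI := (hst i).2
    haveI : IsLocallyNoetherian (D.obj i) :=
      LocallyOfFiniteType.isLocallyNoetherian (Limits.IsTerminal.from specULiftZIsTerminal (D.obj i))
    exact {}
  haveI : ∀ i, QuasiSeparatedSpace (D.obj i) := fun i => by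
    haveI := hnoeth i; infer_instance
  let h' : Y ⟶ c.pt := h ≫ e.inv
  haveI : Surjective h' := inferInstance
  obtain ⟨i, Yi, hi, g₁, hfi1, hfi2, hfi3, hpb⟩ := Groth.Agent.S0591.result D c hc Y h'
  haveI := hfi1; haveI := hfi2; haveI := hfi3
  haveI : CompactSpace Yi := QuasiCompact.compactSpace_of_compactSpace hi
  haveI : QuasiSeparatedSpace Yi := quasiSeparatedSpace_of_quasiSeparated hi
  -- the base change system
  have hcY := isLimitBcCone i hpb hc
  -- (a) affine stage
  haveI : IsAffine (bcCone i hpb).pt := ‹IsAffine Y›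
  obtain ⟨ja, hja⟩ := Scheme.exists_isAffine_of_isLimit (bcDiagram D i hi) (bcCone i hpb) hcY
  -- (b) finite stage
  have hY : IsPullback (c.π.app i) (𝟙 c.pt) (𝟙 (D.obj i)) (c.π.app i) := IsPullback.id_vert _
  haveI : IsFinite h' := inferInstance
  obtain ⟨ib, φb, Xb, Yb, fb, gb, pY, pX, hpbY, hpbX, hfin⟩ :=
    Groth.Agent.S9187.result D c hc i hi (𝟙 _) h' (𝟙 _) (c.π.app i) g₁ hY hpb
  haveI : IsIso gb := hpbY.isIso_snd_of_isIso
  have hpY : pY = gb ≫ D.map φb := by
    have := hpbY.w
    rwa [Category.comp_id] at this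
  let jb : Over i := Over.mk φb
  have hfinb : IsFinite (dSnd D i hi jb) := by
    have hsq : IsPullback pX (fb ≫ gb) hi (D.map φb) := by
      have := hpbX.paste_vert hpbY
      rwa [Category.comp_id] at this
    have e1 : pullback.snd hi (D.map φb) = hsq.isoPullback.inv ≫ (fb ≫ gb) := by
      rw [Iso.eq_inv_comp]
      exact hsq.isoPullback_hom_snd
    show IsFinite (pullback.snd hi (D.map φb))
    rw [e1]
    haveI : IsFinite (fb ≫ gb) := inferInstance
    infer_instance
  -- base change squares between stages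
  have hsqst : ∀ {j k : Over i} (a : j ⟶ k), IsPullback ((bcDiagram D i hi).map a)
      (dSnd D i hi j) (dSnd D i hi k) (D.map a.left) := by
    intro j k a
    have hbig : IsPullback ((bcDiagram D i hi).map a ≫ dFst D i hi k) (dSnd D i hi j) hi
        (D.map a.left ≫ D.map k.hom) := by
      rw [map_dFst, ← D.map_comp, Over.w a]
      exact isPullback_d D i hi j
    exact IsPullback.of_right hbig (map_dSnd D i hi a) (isPullback_d D i hi k)
  -- a common stage
  obtain ⟨j₁, a₁, b₁, -⟩ := IsCofilteredOrEmpty.cone_objs ja jb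
  haveI hfin₁ : IsFinite (dSnd D i hi j₁) :=
    MorphismProperty.of_isPullback (P := @IsFinite) (hsqst b₁) hfinb
  -- (c) surjective stage
  have hclosed : IsClosed (Set.range (dSnd D i hi j₁)) := (dSnd D i hi j₁).isClosedMap.isClosed_range
  let U : (D.obj j₁.left).Opens := ⟨(Set.range (dSnd D i hi j₁))ᶜ, hclosed.isOpen_compl⟩
  haveI := hnoeth j₁.left
  haveI : CompactSpace (U : Scheme.{u}) :=
    isCompact_iff_compactSpace.mp (NoetherianSpace.isCompact (U : Set (D.obj j₁.left)))
  have hempty : IsEmpty ↥(pullback U.ι (c.π.app j₁.left)) := by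
    rw [Scheme.isEmpty_pullback_iff, Set.disjoint_iff_forall_ne]
    rintro _ ⟨u, rfl⟩ _ ⟨s, rfl⟩ heq
    obtain ⟨y, rfl⟩ := h'.surjective s
    have hu : U.ι u ∈ (U : Set (D.obj j₁.left)) := by
      rw [← Scheme.Opens.range_ι]; exact ⟨u, rfl⟩
    apply hu
    rw [heq, ← Scheme.Hom.comp_apply, ← bcπ_snd i hpb j₁, Scheme.Hom.comp_apply]
    exact ⟨_, rfl⟩
  obtain ⟨i', φ, hemp'⟩ := Groth.Agent.S9207.result D c hc j₁.left U.ι hempty
  let j₂ : Over i := Over.mk (φ ≫ j₁.hom)
  let a₂ : j₂ ⟶ j₁ := Over.homMk φ rfl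
  have hsq₂ := hsqst a₂
  haveI : IsFinite (dSnd D i hi j₂) :=
    MorphismProperty.of_isPullback (P := @IsFinite) hsq₂ hfin₁
  haveI : Surjective (dSnd D i hi j₂) := by
    constructor
    intro s'
    rw [Scheme.isEmpty_pullback_iff, Set.disjoint_iff_forall_ne] at hemp'
    have ht : D.map φ s' ∈ Set.range (dSnd D i hi j₁) := by
      by_contra hcon
      have hU : D.map φ s' ∈ (U : Set (D.obj j₁.left)) := hcon
      rw [← Scheme.Opens.range_ι] at hU
      exact hemp' hU ⟨s', rfl⟩ rfl
    obtain ⟨y₁, hy₁⟩ := ht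
    obtain ⟨z, -, hz⟩ := Scheme.Pullback.exists_preimage_pullback (f := dSnd D i hi j₁)
      (g := D.map φ) y₁ s' hy₁
    refine ⟨hsq₂.isoPullback.inv z, ?_⟩
    rw [← Scheme.Hom.comp_apply, hsq₂.isoPullback_inv_snd]
    exact hz
  haveI : IsAffine ((bcDiagram D i hi).obj j₂) := by
    haveI := hja
    exact isAffine_of_isAffineHom ((bcDiagram D i hi).map (a₂ ≫ a₁))
  haveI := hnoeth i'
  haveI : IsAffine (D.obj i') := Groth.Agent.S0021.result (dSnd D i hi j₂)
  haveI : IsAffineHom (c.π.app i') := isAffineHom_π_app D c hc i'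
  haveI : IsAffine c.pt := isAffine_of_isAffineHom (c.π.app i')
  exact .of_isIso e.inv

/-- Chevalley's theorem for finite surjections onto a qcqs scheme (Stacks 01ZT). -/
theorem isAffine_of_finite {Y S : Scheme.{u}} (h : Y ⟶ S) [CompactSpace S]
    [QuasiSeparatedSpace S] [IsFinite h] [Surjective h] [IsAffine Y] : IsAffine S := by
  classical
  obtain ⟨I, iP, iD, iN, D, c, hc, hobj, hcl, ⟨e⟩⟩ :=
    Groth.Agent.Lib.T2H6.FinFP.exists_finite_system h
  haveI : IsCofiltered Iᵒᵖ := inferInstance
  let D₀ : Iᵒᵖ ⥤ Scheme.{u} := D ⋙ Over.forget S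
  let c₀ : Cone D₀ := (Over.forget S).mapCone c
  have hc₀ : IsLimit c₀ := isLimitOfPreserves (Over.forget S) hc
  let s : ∀ i, D₀.obj i ⟶ S := fun i => (D.obj i).hom
  have hsfin : ∀ i, IsFinite (s i) := fun i => (hobj i).1
  have hsfp : ∀ i, LocallyOfFinitePresentation (s i) := fun i => (hobj i).2
  have inst' : ∀ {i j : Iᵒᵖ} (a : i ⟶ j), IsAffineHom (D₀.map a) := by
    intro i j a
    haveI : IsClosedImmersion (D₀.map a) := hcl i j a
    infer_instance
  haveI : ∀ i, CompactSpace (D₀.obj i) := fun i => by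
    haveI := hsfin i
    exact QuasiCompact.compactSpace_of_compactSpace (s i)
  haveI : ∀ i, QuasiSeparatedSpace (D₀.obj i) := fun i => by
    haveI := hsfin i
    exact quasiSeparatedSpace_of_quasiSeparated (s i)
  let e' : c₀.pt ≅ Y := (Over.forget S).mapIso e
  haveI : IsAffine c₀.pt := .of_isIso e'.hom
  obtain ⟨i, hi⟩ := Scheme.exists_isAffine_of_isLimit D₀ c₀ hc₀
  haveI := hsfin i
  haveI := hsfp i
  haveI : Surjective (s i) := by
    have e1 : c₀.π.app i ≫ s i = e'.hom ≫ h := by
      have h1 : c₀.π.app i ≫ s i = c.pt.hom := Over.w (c.π.app i)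
      have h2 : e'.hom ≫ h = c.pt.hom := Over.w e.hom
      rw [h1, h2]
    haveI : Surjective (c₀.π.app i ≫ s i) := by rw [e1]; infer_instance
    exact Surjective.of_comp (c₀.π.app i) (s i)
  exact isAffine_of_finite_fp (s i)

/-- **Chevalley's theorem** in general: the target of a surjective universally closed morphism
from an affine scheme is affine (Stacks 05YU). -/
theorem isAffine_of_surjective_universallyClosed {X S : Scheme.{u}} (f : X ⟶ S) [IsAffine X]
    [Surjective f] [UniversallyClosed f] : IsAffine S := by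
  classical
  -- `S` is quasi-compact and separated
  haveI : CompactSpace S := by
    constructor
    rw [← Set.range_eq_univ.mpr f.surjective]
    exact isCompact_range f.continuous
  haveI : S.IsSeparated := by
    constructor
    haveI : IsSeparated (f ≫ terminal.from S) := by
      rw [terminal.comp_from]; infer_instance
    exact isSeparated_of_comp_surjective f (terminal.from S)
  haveI : IsAffineHom f := by
    haveI : IsAffineHom (f ≫ terminal.from S) := by
      rw [terminal.comp_from]; infer_instance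
    exact IsAffineHom.of_comp f (terminal.from S)
  -- approximate `f` by affine morphisms of finite presentation
  obtain ⟨I, iC, iF, D, c, hc, hD, ⟨e⟩⟩ := (Groth.Agent.Lib.T2H6.AffFP.isAffineHom_iff f).mp inferInstance
  haveI : IsCofiltered Iᵒᵖ := inferInstance
  let D₀ : Iᵒᵖ ⥤ Scheme.{u} := D ⋙ Over.forget S
  let c₀ : Cone D₀ := (Over.forget S).mapCone c
  have hc₀ : IsLimit c₀ := isLimitOfPreserves (Over.forget S) hc
  let s : ∀ i, D₀.obj i ⟶ S := fun i => (D.obj i).hom
  have hsaff : ∀ i, IsAffineHom (s i) := fun i => (hD i).1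
  have hsfp : ∀ i, LocallyOfFinitePresentation (s i) := fun i => (hD i).2
  have hs : ∀ {i j : Iᵒᵖ} (a : i ⟶ j), D₀.map a ≫ s j = s i := fun a => Over.w (D.map a)
  have inst' : ∀ {i j : Iᵒᵖ} (a : i ⟶ j), IsAffineHom (D₀.map a) := by
    intro i j a
    haveI : IsAffineHom (s j) := hsaff j
    have : IsAffineHom (D₀.map a ≫ s j) := by
      rw [hs]; exact hsaff i
    exact IsAffineHom.of_comp (D₀.map a) (s j)
  haveI : ∀ i, CompactSpace (D₀.obj i) := fun i => by
    haveI := hsaff i
    exact QuasiCompact.compactSpace_of_compactSpace (s i)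
  haveI : ∀ i, QuasiSeparatedSpace (D₀.obj i) := fun i => by
    haveI := hsaff i
    exact quasiSeparatedSpace_of_quasiSeparated (s i)
  let e' : c₀.pt ≅ X := (Over.forget S).mapIso e
  haveI : IsAffine c₀.pt := .of_isIso e'.hom
  obtain ⟨i, hi⟩ := Scheme.exists_isAffine_of_isLimit D₀ c₀ hc₀
  haveI := hsaff i
  haveI := hsfp i
  -- the scheme-theoretic image of `X` in `X_i`
  let u : X ⟶ D₀.obj i := e'.inv ≫ c₀.π.app i
  have hu : u ≫ s i = f := by
    have h1 : c₀.π.app i ≫ s i = c.pt.hom := Over.w (c.π.app i)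
    have h2 : e'.inv ≫ c.pt.hom = f := Over.w e.inv
    show (e'.inv ≫ c₀.π.app i) ≫ s i = f
    rw [Category.assoc, h1, h2]
  haveI : UniversallyClosed (u ≫ s i) := by rw [hu]; infer_instance
  haveI : UniversallyClosed u := UniversallyClosed.of_comp_of_isSeparated u (s i)
  haveI : QuasiCompact u := inferInstance
  let Y := u.image
  haveI : IsAffine Y := isAffine_of_isAffineHom u.imageι
  let h : Y ⟶ S := u.imageι ≫ s i
  have hh : u.toImage ≫ h = f := by
    show u.toImage ≫ u.imageι ≫ s i = f
    rw [Scheme.Hom.toImage_imageι_assoc, hu]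
  haveI : Surjective u.toImage := by
    constructor
    have hd : DenseRange u.toImage := u.toImage.denseRange
    have hcl : IsClosed (Set.range u.toImage) := u.toImage.isClosedMap.isClosed_range
    intro y
    have := hd.closure_range
    rw [hcl.closure_eq] at this
    rw [← Set.mem_range, this]; trivial
  haveI : Surjective h := by
    haveI : Surjective (u.toImage ≫ h) := by rw [hh]; infer_instance
    exact Surjective.of_comp u.toImage h
  haveI : UniversallyClosed h := by
    haveI : UniversallyClosed (u.toImage ≫ h) := by rw [hh]; infer_instance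
    exact UniversallyClosed.of_comp_surjective u.toImage h
  haveI : IsAffineHom h := inferInstance
  haveI : LocallyOfFiniteType h := inferInstance
  haveI : IsIntegralHom h := IsIntegralHom.iff_universallyClosed_and_isAffineHom.mpr ⟨inferInstance, inferInstance⟩
  haveI : IsFinite h := (IsFinite.iff_isIntegralHom_and_locallyOfFiniteType h).mpr ⟨inferInstance, inferInstance⟩
  exact isAffine_of_finite h

end Groth.Agent.Lib.T2H6.Chevalley
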