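import Mathlib
import Groth.Agent.Lib.T2H6Chevalley
import Groth.Agent.S7661

/-!
# helper6 (team 2): finding affine opens containing finite sets of points — glueing along closed subschemes
-/

set_option autoImplicit false
set_option linter.unusedSectionVars false
universe u

open CategoryTheory CategoryTheory.Limits AlgebraicGeometry TopologicalSpace Opposite

namespace Groth.Agent.Lib.T2H6.AffGlue

/-- prime avoidance in an affine open: a finite set of points of an affine open `A` lying in an open `G` is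
contained in a basic open of `A` inside `G`. -/
theorem exists_basicOpen_le_of_finset {X : Scheme.{u}} (A : X.Opens) (hA : IsAffineOpen A) (G : X.Opens)
    (T : Finset X) (hT : ∀ t ∈ T, t ∈ A ∧ t ∈ G) :
    ∃ f : Γ(X, A), (∀ t ∈ T, t ∈ X.basicOpen f) ∧ X.basicOpen f ≤ G := by
  classical
  let Gs : Set (PrimeSpectrum Γ(X, A)) := {q | hA.fromSpec q ∈ G}
  have hGs : IsOpen Gs := G.2.preimage hA.fromSpec.continuous
  let J : Ideal Γ(X, A) := PrimeSpectrum.vanishingIdeal Gsᶜ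
  have hZ : PrimeSpectrum.zeroLocus (J : Set Γ(X, A)) = Gsᶜ := by
    rw [PrimeSpectrum.zeroLocus_vanishingIdeal_eq_closure]
    exact (hGs.isClosed_compl).closure_eq
  let s : Finset (Ideal Γ(X, A)) :=
    T.attach.image (fun t => (hA.primeIdealOf ⟨t.1, (hT t.1 t.2).1⟩).asIdeal)
  have hs : ∀ p ∈ s, p.IsPrime := by
    intro p hp
    obtain ⟨t, -, rfl⟩ := Finset.mem_image.1 hp
    exact (hA.primeIdealOf ⟨t.1, (hT t.1 t.2).1⟩).isPrime
  have hJ : ∀ p ∈ s, ¬ J ≤ p := by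
    intro p hp hle
    obtain ⟨t, -, rfl⟩ := Finset.mem_image.1 hp
    have h1 : hA.primeIdealOf ⟨t.1, (hT t.1 t.2).1⟩ ∈ PrimeSpectrum.zeroLocus (J : Set Γ(X, A)) := hle
    rw [hZ] at h1
    apply h1
    change hA.fromSpec (hA.primeIdealOf ⟨t.1, (hT t.1 t.2).1⟩) ∈ G
    rw [hA.fromSpec_primeIdealOf]
    exact (hT t.1 t.2).2
  obtain ⟨f, hf0, hf⟩ := Groth.Agent.S7661.result Γ(X, A) J s hs hJ 0
  have hfJ : f ∈ J := Ideal.Quotient.eq_zero_iff_mem.1 hf0
  have hpre : hA.fromSpec ⁻¹ᵁ X.basicOpen f = PrimeSpectrum.basicOpen f := hA.fromSpec_preimage_basicOpen f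
  have key : ∀ (x : X) (hx : x ∈ A), x ∈ X.basicOpen f ↔ f ∉ (hA.primeIdealOf ⟨x, hx⟩).asIdeal := by
    intro x hx
    have h1 : hA.primeIdealOf ⟨x, hx⟩ ∈ hA.fromSpec ⁻¹ᵁ X.basicOpen f ↔ x ∈ X.basicOpen f := by
      change hA.fromSpec (hA.primeIdealOf ⟨x, hx⟩) ∈ X.basicOpen f ↔ _
      rw [hA.fromSpec_primeIdealOf]
    rw [← h1, hpre]
    rfl
  refine ⟨f, fun t ht => ?_, fun x hx => ?_⟩
  · rw [key t (hT t ht).1]
    exact hf _ (Finset.mem_image.2 ⟨⟨t, ht⟩, Finset.mem_attach _ _, rfl⟩)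
  · have hxA : x ∈ A := X.basicOpen_le f hx
    have h1 := (key x hxA).1 hx
    by_contra hxG
    have h2 : hA.primeIdealOf ⟨x, hxA⟩ ∈ Gsᶜ := by
      intro h3
      apply hxG
      have h4 : hA.fromSpec (hA.primeIdealOf ⟨x, hxA⟩) ∈ G := h3
      rwa [hA.fromSpec_primeIdealOf] at h4
    rw [← hZ] at h2
    exact h1 (h2 hfJ)

theorem mem_basicOpen_iff_primeIdealOf {X : Scheme.{u}} (A : X.Opens) (hA : IsAffineOpen A) (f : Γ(X, A))
    (x : X) (hx : x ∈ A) : x ∈ X.basicOpen f ↔ f ∉ (hA.primeIdealOf ⟨x, hx⟩).asIdeal := by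
  have hpre : hA.fromSpec ⁻¹ᵁ X.basicOpen f = PrimeSpectrum.basicOpen f := hA.fromSpec_preimage_basicOpen f
  have h1 : hA.primeIdealOf ⟨x, hx⟩ ∈ hA.fromSpec ⁻¹ᵁ X.basicOpen f ↔ x ∈ X.basicOpen f := by
    change hA.fromSpec (hA.primeIdealOf ⟨x, hx⟩) ∈ X.basicOpen f ↔ _
    rw [hA.fromSpec_primeIdealOf]
  rw [← h1, hpre]
  rfl

/-- lifting a function along a closed immersion into an affine open, avoiding finitely many points. -/
theorem exists_lift_of_closedImmersion {F Y : Scheme.{u}} (i : F ⟶ Y) [IsClosedImmersion i]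
    (A : Y.Opens) (hA : IsAffineOpen A) (α : Γ(F, i ⁻¹ᵁ A)) (T : Finset Y)
    (hT : ∀ t ∈ T, t ∈ A) (hTF : ∀ z : F, i.base z ∈ T → z ∈ F.basicOpen α) :
    ∃ a : Γ(Y, A), i.app A a = α ∧ ∀ t ∈ T, t ∈ Y.basicOpen a := by
  classical
  let I : Ideal Γ(Y, A) := RingHom.ker (i.app A).hom
  let T' : Finset Y := T.filter (fun t => t ∉ Set.range i.base)
  have hT' : ∀ t ∈ T', t ∈ A := fun t ht => hT t (Finset.mem_filter.1 ht).1
  let s : Finset (Ideal Γ(Y, A)) :=
    T'.attach.image (fun t => (hA.primeIdealOf ⟨t.1, hT' t.1 t.2⟩).asIdeal)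
  have hs : ∀ p ∈ s, p.IsPrime := by
    intro p hp
    obtain ⟨t, -, rfl⟩ := Finset.mem_image.1 hp
    exact (hA.primeIdealOf ⟨t.1, hT' t.1 t.2⟩).isPrime
  have hI : ∀ p ∈ s, ¬ I ≤ p := by
    intro p hp hle
    obtain ⟨t, -, rfl⟩ := Finset.mem_image.1 hp
    have htr : t.1 ∉ Set.range i.base := (Finset.mem_filter.1 t.2).2
    have hsupp : (i.ker.support : Set Y) = Set.range i.base := by
      rw [Scheme.Hom.support_ker]
      exact i.isClosedEmbedding.isClosed_range.closure_eq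
    have h1 : t.1 ∉ i.ker.support := fun h => htr (hsupp ▸ h)
    rw [Scheme.IdealSheafData.mem_support_iff_of_mem (U := ⟨A, hA⟩) (hT' t.1 t.2),
      Scheme.mem_zeroLocus_iff] at h1
    push Not at h1
    obtain ⟨g, hg, hgt⟩ := h1
    rw [SetLike.mem_coe, Scheme.Hom.ker_apply] at hg
    have h2 := (mem_basicOpen_iff_primeIdealOf A hA g t.1 (hT' t.1 t.2)).1 hgt
    exact h2 (hle hg)
  obtain ⟨a₀, ha₀⟩ := i.app_surjective A hA α
  obtain ⟨a, ha, hav⟩ := Groth.Agent.S7661.result Γ(Y, A) I s hs hI (Ideal.Quotient.mk I a₀)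
  have happ : i.app A a = α := by
    have h1 : a - a₀ ∈ I := Ideal.Quotient.eq.1 ha
    have h2 : (i.app A).hom (a - a₀) = 0 := h1
    rw [map_sub, sub_eq_zero] at h2
    exact h2.trans ha₀
  refine ⟨a, happ, fun t ht => ?_⟩
  by_cases htr : t ∈ Set.range i.base
  · obtain ⟨z, rfl⟩ := htr
    have hz := hTF z ht
    have h3 : z ∈ i ⁻¹ᵁ Y.basicOpen a := by
      rw [Scheme.preimage_basicOpen, happ]
      exact hz
    exact h3
  · have htT' : t ∈ T' := Finset.mem_filter.2 ⟨ht, htr⟩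
    rw [mem_basicOpen_iff_primeIdealOf A hA a t (hT t ht)]
    exact hav _ (Finset.mem_image.2 ⟨⟨t, htT'⟩, Finset.mem_attach _ _, rfl⟩)

/-- two affine closed subschemes covering a scheme: the scheme is affine. -/
theorem isAffine_of_two_closed {U U₁ U₂ : Scheme.{u}} (u₁ : U₁ ⟶ U) (u₂ : U₂ ⟶ U)
    [IsClosedImmersion u₁] [IsClosedImmersion u₂] [IsAffine U₁] [IsAffine U₂]
    (hsurj : ∀ y : U, y ∈ Set.range u₁.base ∨ y ∈ Set.range u₂.base) : IsAffine U := by
  haveI : Surjective (coprod.desc u₁ u₂) := by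
    refine ⟨fun y => ?_⟩
    rcases hsurj y with ⟨x, rfl⟩ | ⟨x, rfl⟩
    · refine ⟨(coprod.inl : U₁ ⟶ U₁ ⨿ U₂).base x, ?_⟩
      rw [← Scheme.Hom.comp_apply, coprod.inl_desc]
    · refine ⟨(coprod.inr : U₂ ⟶ U₁ ⨿ U₂).base x, ?_⟩
      rw [← Scheme.Hom.comp_apply, coprod.inr_desc]
  exact Groth.Agent.Lib.T2H6.Chevalley.isAffine_of_surjective_universallyClosed (coprod.desc u₁ u₂)

/-- **glueing lemma**: `Y` covered by two closed subschemes `Y₁`, `Y₂`, each with an affine open containing the points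
of a finite set `T` lying on it; then some affine open of `Y` contains `T`. -/
theorem exists_affine_of_two_closed {Y Y₁ Y₂ : Scheme.{u}} (y₁ : Y₁ ⟶ Y) (y₂ : Y₂ ⟶ Y)
    [IsClosedImmersion y₁] [IsClosedImmersion y₂]
    (hsurj : ∀ y : Y, y ∈ Set.range y₁.base ∨ y ∈ Set.range y₂.base)
    (T : Finset Y) (A : Y₁.Opens) (hA : IsAffineOpen A) (B : Y₂.Opens) (hB : IsAffineOpen B)
    (hTA : ∀ x : Y₁, y₁.base x ∈ T → x ∈ A) (hTB : ∀ x : Y₂, y₂.base x ∈ T → x ∈ B) :
    ∃ U : Y.Opens, IsAffineOpen U ∧ ∀ t ∈ T, t ∈ U := by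
  classical
  let F : Scheme.{u} := pullback y₁ y₂
  let p₁ : F ⟶ Y₁ := pullback.fst y₁ y₂
  let p₂ : F ⟶ Y₂ := pullback.snd y₁ y₂
  have hcond : p₁ ≫ y₁ = p₂ ≫ y₂ := pullback.condition
  let FA : F.Opens := p₁ ⁻¹ᵁ A
  let FB : F.Opens := p₂ ⁻¹ᵁ B
  have hFA : IsAffineOpen FA := hA.preimage p₁
  have hFB : IsAffineOpen FB := hB.preimage p₂
  -- the points of `F` over `T`
  have hinj : Function.Injective (p₁ ≫ y₁).base := (p₁ ≫ y₁).isClosedEmbedding.injective
  let TF : Finset F := T.preimage (p₁ ≫ y₁).base hinj.injOn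
  have hTF : ∀ z : F, z ∈ TF ↔ y₁.base (p₁.base z) ∈ T := by
    intro z
    rw [Finset.mem_preimage, Scheme.Hom.comp_base, TopCat.comp_app]
  have hTF' : ∀ z : F, z ∈ TF ↔ y₂.base (p₂.base z) ∈ T := by
    intro z
    rw [hTF]
    have := congr($(hcond).base z)
    rw [Scheme.Hom.comp_base, TopCat.comp_app, Scheme.Hom.comp_base, TopCat.comp_app] at this
    rw [this]
  have hTFA : ∀ z ∈ TF, z ∈ FA := fun z hz => hTA _ ((hTF z).1 hz)
  have hTFB : ∀ z ∈ TF, z ∈ FB := fun z hz => hTB _ ((hTF' z).1 hz)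
  -- a common basic open of `FA` and `FB` containing `TF`
  obtain ⟨α₀, hα₀T, hα₀⟩ := exists_basicOpen_le_of_finset FA hFA (FA ⊓ FB) TF
    (fun z hz => ⟨hTFA z hz, hTFA z hz, hTFB z hz⟩)
  obtain ⟨β, hβT, hβ⟩ := exists_basicOpen_le_of_finset FB hFB (F.basicOpen α₀) TF
    (fun z hz => ⟨hTFB z hz, hα₀T z hz⟩)
  obtain ⟨α, hα⟩ := hFA.basicOpen_basicOpen_is_basicOpen α₀
    (F.presheaf.map (homOfLE (hα₀.trans inf_le_right)).op β)
  have hαβ : F.basicOpen α = F.basicOpen β := by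
    rw [hα, Scheme.basicOpen_res]
    exact inf_eq_right.2 hβ
  -- lift to `A` and `B`
  have hinj₁ : Function.Injective y₁.base := y₁.isClosedEmbedding.injective
  have hinj₂ : Function.Injective y₂.base := y₂.isClosedEmbedding.injective
  let T₁ : Finset Y₁ := T.preimage y₁.base hinj₁.injOn
  let T₂ : Finset Y₂ := T.preimage y₂.base hinj₂.injOn
  obtain ⟨a, haα, haT⟩ := exists_lift_of_closedImmersion p₁ A hA α T₁
    (fun x hx => hTA x (Finset.mem_preimage.1 hx))
    (fun z hz => by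
      rw [hαβ]
      exact hβT z ((hTF z).2 (Finset.mem_preimage.1 hz)))
  obtain ⟨b, hbβ, hbT⟩ := exists_lift_of_closedImmersion p₂ B hB β T₂
    (fun x hx => hTB x (Finset.mem_preimage.1 hx))
    (fun z hz => hβT z ((hTF' z).2 (Finset.mem_preimage.1 hz)))
  -- the open `U`
  let K : Set Y := y₁.base '' ((Y₁.basicOpen a : Set Y₁)ᶜ) ∪ y₂.base '' ((Y₂.basicOpen b : Set Y₂)ᶜ)
  have hK : IsClosed K :=
    (y₁.isClosedEmbedding.isClosedMap _ (Y₁.basicOpen a).2.isClosed_compl).union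
      (y₂.isClosedEmbedding.isClosedMap _ (Y₂.basicOpen b).2.isClosed_compl)
  let U : Y.Opens := ⟨Kᶜ, hK.isOpen_compl⟩
  have hpre₁ : p₁ ⁻¹ᵁ Y₁.basicOpen a = F.basicOpen α := by
    rw [Scheme.preimage_basicOpen, haα]
  have hpre₂ : p₂ ⁻¹ᵁ Y₂.basicOpen b = F.basicOpen β := by
    rw [Scheme.preimage_basicOpen, hbβ]
  have hU₁ : y₁ ⁻¹ᵁ U = Y₁.basicOpen a := by
    ext x
    constructor
    · intro hx
      by_contra hxa
      exact hx (Or.inl ⟨x, hxa, rfl⟩)
    · intro hxa hxK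
      rcases hxK with ⟨x', hx', hxx'⟩ | ⟨x', hx', hxx'⟩
      · exact hx' ((hinj₁ hxx') ▸ hxa)
      · obtain ⟨z, hz1, hz2⟩ := Scheme.Pullback.exists_preimage_pullback (f := y₁) (g := y₂) x x' hxx'.symm
        have h1 : z ∈ p₁ ⁻¹ᵁ Y₁.basicOpen a := by
          change p₁.base z ∈ Y₁.basicOpen a
          rw [show p₁.base z = x from hz1]; exact hxa
        rw [hpre₁, hαβ, ← hpre₂] at h1
        have h2 : p₂.base z ∈ Y₂.basicOpen b := h1
        rw [show p₂.base z = x' from hz2] at h2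
        exact hx' h2
  have hU₂ : y₂ ⁻¹ᵁ U = Y₂.basicOpen b := by
    ext x
    constructor
    · intro hx
      by_contra hxb
      exact hx (Or.inr ⟨x, hxb, rfl⟩)
    · intro hxb hxK
      rcases hxK with ⟨x', hx', hxx'⟩ | ⟨x', hx', hxx'⟩
      · obtain ⟨z, hz1, hz2⟩ := Scheme.Pullback.exists_preimage_pullback (f := y₁) (g := y₂) x' x hxx'
        have h1 : z ∈ p₂ ⁻¹ᵁ Y₂.basicOpen b := by
          change p₂.base z ∈ Y₂.basicOpen b
          rw [show p₂.base z = x from hz2]; exact hxb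
        rw [hpre₂, ← hαβ, ← hpre₁] at h1
        have h2 : p₁.base z ∈ Y₁.basicOpen a := h1
        rw [show p₁.base z = x' from hz1] at h2
        exact hx' h2
      · exact hx' ((hinj₂ hxx') ▸ hxb)
  refine ⟨U, ?_, fun t ht hK => ?_⟩
  · -- affineness
    haveI : IsAffine ((y₁ ⁻¹ᵁ U : Y₁.Opens) : Scheme.{u}) := by
      have : IsAffineOpen (y₁ ⁻¹ᵁ U) := by rw [hU₁]; exact hA.basicOpen a
      exact this
    haveI : IsAffine ((y₂ ⁻¹ᵁ U : Y₂.Opens) : Scheme.{u}) := by
      have : IsAffineOpen (y₂ ⁻¹ᵁ U) := by rw [hU₂]; exact hB.basicOpen b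
      exact this
    refine isAffine_of_two_closed (y₁ ∣_ U) (y₂ ∣_ U) (fun u => ?_)
    rcases hsurj u.1 with ⟨x, hx⟩ | ⟨x, hx⟩
    · left
      have hxU : x ∈ y₁ ⁻¹ᵁ U := by
        change y₁.base x ∈ U
        rw [hx]; exact u.2
      refine ⟨⟨x, hxU⟩, Subtype.ext ?_⟩
      rw [morphismRestrict_base_coe]
      exact hx
    · right
      have hxU : x ∈ y₂ ⁻¹ᵁ U := by
        change y₂.base x ∈ U
        rw [hx]; exact u.2
      refine ⟨⟨x, hxU⟩, Subtype.ext ?_⟩
      rw [morphismRestrict_base_coe]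
      exact hx
  · rcases hK with ⟨x, hx, rfl⟩ | ⟨x, hx, rfl⟩
    · exact hx (haT x (Finset.mem_preimage.2 ht))
    · exact hx (hbT x (Finset.mem_preimage.2 ht))

open Scheme.IdealSheafData in
theorem range_subschemeι_vanishingIdeal {X : Scheme.{u}} (C : Closeds X) :
    Set.range (vanishingIdeal C).subschemeι.base = (C : Set X) := by
  have h1 : Set.range (vanishingIdeal C).subschemeι.base = ((vanishingIdeal C).support : Set X) :=
    Scheme.IdealSheafData.range_subschemeι _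
  rw [h1, coe_support_vanishingIdeal]

open Scheme.IdealSheafData in
/-- glueing for the reduced induced structures on two closed subsets. -/
theorem exists_affine_sup {X : Scheme.{u}} (C₁ C₂ : Closeds X) (T : Finset X)
    (V₁ : (vanishingIdeal C₁).subscheme.Opens) (hV₁ : IsAffineOpen V₁)
    (hT₁ : ∀ t ∈ T, t ∈ C₁ → t ∈ (vanishingIdeal C₁).subschemeι.base '' (V₁ : Set _))
    (V₂ : (vanishingIdeal C₂).subscheme.Opens) (hV₂ : IsAffineOpen V₂)
    (hT₂ : ∀ t ∈ T, t ∈ C₂ → t ∈ (vanishingIdeal C₂).subschemeι.base '' (V₂ : Set _)) :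
    ∃ V : (vanishingIdeal (C₁ ⊔ C₂)).subscheme.Opens, IsAffineOpen V ∧
      ∀ t ∈ T, t ∈ C₁ ⊔ C₂ → t ∈ (vanishingIdeal (C₁ ⊔ C₂)).subschemeι.base '' (V : Set _) := by
  classical
  have h₁ : vanishingIdeal (C₁ ⊔ C₂) ≤ vanishingIdeal C₁ := vanishingIdeal_antimono le_sup_left
  have h₂ : vanishingIdeal (C₁ ⊔ C₂) ≤ vanishingIdeal C₂ := vanishingIdeal_antimono le_sup_right
  let ι := (vanishingIdeal (C₁ ⊔ C₂)).subschemeι
  let ι₁ := (vanishingIdeal C₁).subschemeι
  let ι₂ := (vanishingIdeal C₂).subschemeι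
  let y₁ := inclusion h₁
  let y₂ := inclusion h₂
  have hy₁ : y₁ ≫ ι = ι₁ := inclusion_subschemeι h₁
  have hy₂ : y₂ ≫ ι = ι₂ := inclusion_subschemeι h₂
  haveI : IsClosedImmersion (y₁ ≫ ι) := by rw [hy₁]; infer_instance
  haveI : IsClosedImmersion (y₂ ≫ ι) := by rw [hy₂]; infer_instance
  haveI : IsClosedImmersion y₁ := IsClosedImmersion.of_comp y₁ ι
  haveI : IsClosedImmersion y₂ := IsClosedImmersion.of_comp y₂ ι
  have hinj : Function.Injective ι.base := ι.isClosedEmbedding.injective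
  have hinj₁ : Function.Injective ι₁.base := ι₁.isClosedEmbedding.injective
  have hinj₂ : Function.Injective ι₂.base := ι₂.isClosedEmbedding.injective
  have hb₁ : ∀ x, ι.base (y₁.base x) = ι₁.base x := fun x => by
    have := congr($(hy₁).base x)
    rwa [Scheme.Hom.comp_base, TopCat.comp_app] at this
  have hb₂ : ∀ x, ι.base (y₂.base x) = ι₂.base x := fun x => by
    have := congr($(hy₂).base x)
    rwa [Scheme.Hom.comp_base, TopCat.comp_app] at this
  let TY : Finset (vanishingIdeal (C₁ ⊔ C₂)).subscheme := T.preimage ι.base hinj.injOn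
  have hsurj : ∀ y, y ∈ Set.range y₁.base ∨ y ∈ Set.range y₂.base := by
    intro y
    have hy : ι.base y ∈ ((C₁ ⊔ C₂ : Closeds X) : Set X) := by
      rw [← range_subschemeι_vanishingIdeal]; exact ⟨y, rfl⟩
    rcases hy with hy | hy
    · left
      rw [← range_subschemeι_vanishingIdeal] at hy
      obtain ⟨x, hx⟩ := hy
      exact ⟨x, hinj ((hb₁ x).trans hx)⟩
    · right
      rw [← range_subschemeι_vanishingIdeal] at hy
      obtain ⟨x, hx⟩ := hy
      exact ⟨x, hinj ((hb₂ x).trans hx)⟩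
  obtain ⟨U, hU, hTU⟩ := exists_affine_of_two_closed y₁ y₂ hsurj TY V₁ hV₁ V₂ hV₂
    (fun x hx => by
      have h1 : ι₁.base x ∈ T := by
        rw [← hb₁]; exact Finset.mem_preimage.1 hx
      have h2 : ι₁.base x ∈ C₁ := by
        rw [← SetLike.mem_coe, ← range_subschemeι_vanishingIdeal]; exact ⟨x, rfl⟩
      obtain ⟨x', hx', hxx'⟩ := hT₁ _ h1 h2
      exact (hinj₁ hxx') ▸ hx')
    (fun x hx => by
      have h1 : ι₂.base x ∈ T := by
        rw [← hb₂]; exact Finset.mem_preimage.1 hx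
      have h2 : ι₂.base x ∈ C₂ := by
        rw [← SetLike.mem_coe, ← range_subschemeι_vanishingIdeal]; exact ⟨x, rfl⟩
      obtain ⟨x', hx', hxx'⟩ := hT₂ _ h1 h2
      exact (hinj₂ hxx') ▸ hx')
  refine ⟨U, hU, fun t ht htC => ?_⟩
  rw [← SetLike.mem_coe, ← range_subschemeι_vanishingIdeal] at htC
  obtain ⟨y, rfl⟩ := htC
  exact ⟨y, hTU y (Finset.mem_preimage.2 ht), rfl⟩

open Scheme.IdealSheafData in
/-- glueing over a finite family of closed subsets. -/
theorem exists_affine_finsetSup {X : Scheme.{u}} (T : Finset X) (s : Finset (Closeds X))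
    (hs : ∀ C ∈ s, ∃ V : (vanishingIdeal C).subscheme.Opens, IsAffineOpen V ∧
      ∀ t ∈ T, t ∈ C → t ∈ (vanishingIdeal C).subschemeι.base '' (V : Set _)) :
    ∃ V : (vanishingIdeal (s.sup id)).subscheme.Opens, IsAffineOpen V ∧
      ∀ t ∈ T, t ∈ s.sup id → t ∈ (vanishingIdeal (s.sup id)).subschemeι.base '' (V : Set _) := by
  classical
  induction s using Finset.induction_on with
  | empty =>
    refine ⟨⊥, isAffineOpen_bot _, fun t _ ht => ?_⟩
    rw [Finset.sup_empty] at ht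
    exact absurd ht (Set.notMem_empty t)
  | insert a s ha ih =>
    obtain ⟨V₂, hV₂, hT₂⟩ := ih (fun C hC => hs C (Finset.mem_insert_of_mem hC))
    obtain ⟨V₁, hV₁, hT₁⟩ := hs a (Finset.mem_insert_self a s)
    rw [Finset.sup_insert]
    exact exists_affine_sup a (s.sup id) T V₁ hV₁ hT₁ V₂ hV₂ hT₂

open Scheme.IdealSheafData in
/-- an affine open of the reduced induced structure on the whole space gives an affine open of the scheme. -/
theorem exists_affine_of_forall_mem {X : Scheme.{u}} (T : Finset X) (C : Closeds X) (hC : ∀ x : X, x ∈ C)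
    (V : (vanishingIdeal C).subscheme.Opens) (hV : IsAffineOpen V)
    (hT : ∀ t ∈ T, t ∈ (vanishingIdeal C).subschemeι.base '' (V : Set _)) :
    ∃ U : X.Opens, IsAffineOpen U ∧ ∀ t ∈ T, t ∈ U := by
  let ι := (vanishingIdeal C).subschemeι
  have hinj : Function.Injective ι.base := ι.isClosedEmbedding.injective
  have hsurj : Function.Surjective ι.base := by
    intro x
    have : x ∈ Set.range ι.base := by
      rw [range_subschemeι_vanishingIdeal]; exact hC x
    exact this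
  have hUo : IsOpen (ι.base '' (V : Set _)) := by
    have h1 : ι.base '' (V : Set _) = (ι.base '' ((V : Set _)ᶜ))ᶜ := by
      rw [Set.image_compl_eq ⟨hinj, hsurj⟩, compl_compl]
    rw [h1]
    exact (ι.isClosedEmbedding.isClosedMap _ V.2.isClosed_compl).isOpen_compl
  let U : X.Opens := ⟨ι.base '' (V : Set _), hUo⟩
  have hpre : ι ⁻¹ᵁ U = V := by
    ext z
    change ι.base z ∈ ι.base '' (V : Set _) ↔ z ∈ V
    exact hinj.mem_set_image
  refine ⟨U, ?_, fun t ht => hT t ht⟩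
  haveI : IsAffine ((ι ⁻¹ᵁ U : (vanishingIdeal C).subscheme.Opens) : Scheme.{u}) := by
    have : IsAffineOpen (ι ⁻¹ᵁ U) := by rw [hpre]; exact hV
    exact this
  haveI : Surjective (ι ∣_ U) := by
    refine ⟨fun u => ?_⟩
    obtain ⟨z, hz⟩ := hsurj u.1
    have hzU : z ∈ ι ⁻¹ᵁ U := by
      change ι.base z ∈ U
      rw [hz]; exact u.2
    refine ⟨⟨z, hzU⟩, Subtype.ext ?_⟩
    rw [morphismRestrict_base_coe]
    exact hz
  exact Groth.Agent.Lib.T2H6.Chevalley.isAffine_of_surjective_universallyClosed (ι ∣_ U)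

open Scheme.IdealSheafData in
/-- **finding affine opens**: a finite set of points of a scheme with finitely many irreducible components, whose
trace on every component lies in an affine open of the component, lies in an affine open. -/
theorem exists_affine_of_components (X : Scheme.{u})
    (hX : (irreducibleComponents (X : Type u)).Finite) (T : Finset X)
    (h : ∀ (Z : Set X) (hZ : Z ∈ irreducibleComponents (X : Type u)),
      ∃ V : (vanishingIdeal (⟨Z, isClosed_of_mem_irreducibleComponents Z hZ⟩ : Closeds X)).subscheme.Opens,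
        IsAffineOpen V ∧ ∀ t ∈ T, t ∈ Z → t ∈ (vanishingIdeal
          (⟨Z, isClosed_of_mem_irreducibleComponents Z hZ⟩ : Closeds X)).subschemeι.base '' (V : Set _)) :
    ∃ U : X.Opens, IsAffineOpen U ∧ ∀ t ∈ T, t ∈ U := by
  classical
  let s : Finset (Closeds X) := hX.toFinset.attach.image
    (fun Z => (⟨Z.1, isClosed_of_mem_irreducibleComponents Z.1 (hX.mem_toFinset.1 Z.2)⟩ : Closeds X))
  have hs : ∀ C ∈ s, ∃ V : (vanishingIdeal C).subscheme.Opens, IsAffineOpen V ∧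
      ∀ t ∈ T, t ∈ C → t ∈ (vanishingIdeal C).subschemeι.base '' (V : Set _) := by
    intro C hC
    obtain ⟨Z, -, rfl⟩ := Finset.mem_image.1 hC
    exact h Z.1 (hX.mem_toFinset.1 Z.2)
  obtain ⟨V, hV, hTV⟩ := exists_affine_finsetSup T s hs
  have hall : ∀ x : X, x ∈ s.sup id := by
    intro x
    have hZ : irreducibleComponent x ∈ irreducibleComponents (X : Type u) :=
      irreducibleComponent_mem_irreducibleComponents x
    have hCs : (⟨irreducibleComponent x, isClosed_of_mem_irreducibleComponents _ hZ⟩ : Closeds X) ∈ s :=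
      Finset.mem_image.2 ⟨⟨_, hX.mem_toFinset.2 hZ⟩, Finset.mem_attach _ _, rfl⟩
    have hle := Finset.le_sup (f := id) hCs
    exact hle (mem_irreducibleComponent (x := x))
  exact exists_affine_of_forall_mem T (s.sup id) hall V hV (fun t ht => hTV t ht (hall t))

end Groth.Agent.Lib.T2H6.AffGlue
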