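import Mathlib

/-!
# Prime avoidance for affine opens (helper6)

A finite set of points of an affine open `U` contained in an open `O` lies in a basic open of `U`
contained in `O`.
-/

set_option autoImplicit false
universe u
open CategoryTheory AlgebraicGeometry

namespace Groth.Agent.Lib.T2H6.HilbRep.Avoid

/-- prime avoidance in the prime spectrum. -/
theorem exists_basicOpen_subset_spec {A : Type u} [CommRing A] (O : Set (PrimeSpectrum A))
    (hO : IsOpen O) (P : Set (PrimeSpectrum A)) (hP : P.Finite) (hPO : P ⊆ O) :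
    ∃ g : A, P ⊆ (PrimeSpectrum.basicOpen g : Set (PrimeSpectrum A)) ∧
      (PrimeSpectrum.basicOpen g : Set (PrimeSpectrum A)) ⊆ O := by
  rcases P.eq_empty_or_nonempty with rfl | ⟨a, ha⟩
  · refine ⟨0, Set.empty_subset _, ?_⟩
    intro q hq
    exfalso
    exact hq (Ideal.zero_mem _)
  obtain ⟨s, hs⟩ := (PrimeSpectrum.isOpen_iff O).1 hO
  set I : Ideal A := Ideal.span s with hI
  have hnot : ∀ p ∈ P, ¬ I ≤ p.asIdeal := by
    intro p hp hle
    have : p ∈ Oᶜ := by
      rw [hs, PrimeSpectrum.mem_zeroLocus]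
      exact Ideal.subset_span.trans hle
    exact this (hPO hp)
  have hpa := Ideal.subset_union_prime_finite (R := A) hP (f := fun p => p.asIdeal) a a
    (fun p _ _ _ => p.isPrime) (I := I)
  have hnsub : ¬ ((I : Set A) ⊆ ⋃ p ∈ P, (p.asIdeal : Set A)) := by
    rw [hpa]
    rintro ⟨p, hp, hle⟩
    exact hnot p hp hle
  rw [Set.not_subset] at hnsub
  obtain ⟨g, hgI, hg⟩ := hnsub
  refine ⟨g, ?_, ?_⟩
  · intro p hp
    change g ∉ p.asIdeal
    intro hgp
    apply hg
    simp only [Set.mem_iUnion]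
    exact ⟨p, hp, hgp⟩
  · intro q hq
    by_contra hqO
    have hq' : q ∈ Oᶜ := hqO
    rw [hs, PrimeSpectrum.mem_zeroLocus] at hq'
    have hle : I ≤ q.asIdeal := Ideal.span_le.2 hq'
    exact hq (hle hgI)

/-- prime avoidance for affine opens of a scheme. -/
theorem exists_basicOpen_subset {X : Scheme.{u}} {U : X.Opens} (hU : IsAffineOpen U)
    (O : X.Opens) (G : Set X) (hG : G.Finite) (hGU : G ⊆ U) (hGO : G ⊆ O) :
    ∃ g : Γ(X, U), G ⊆ X.basicOpen g ∧ X.basicOpen g ≤ O := by
  set φ := hU.fromSpec with hφ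
  have hφinj : Function.Injective φ := φ.isOpenEmbedding.injective
  obtain ⟨g, hg1, hg2⟩ := exists_basicOpen_subset_spec (A := Γ(X, U)) (φ ⁻¹' (O : Set X))
    (O.2.preimage φ.continuous) (φ ⁻¹' G) (hG.preimage hφinj.injOn)
    (Set.preimage_mono hGO)
  have hpre : (φ ⁻¹' (X.basicOpen g : Set X)) =
      (PrimeSpectrum.basicOpen g : Set (PrimeSpectrum Γ(X, U))) := by
    have := hU.fromSpec_preimage_basicOpen g
    exact congrArg (fun V : (Spec Γ(X, U)).Opens => (V : Set (Spec Γ(X, U)))) this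
  refine ⟨g, ?_, ?_⟩
  · intro x hx
    have hxU : x ∈ Set.range φ := by
      rw [hφ, hU.range_fromSpec]
      exact hGU hx
    obtain ⟨p, rfl⟩ := hxU
    have hp : p ∈ φ ⁻¹' (X.basicOpen g : Set X) := by
      rw [hpre]
      exact hg1 hx
    exact hp
  · intro x hx
    have hxU : x ∈ Set.range φ := by
      rw [hφ, hU.range_fromSpec]
      exact X.basicOpen_le g hx
    obtain ⟨p, rfl⟩ := hxU
    have hp : p ∈ (PrimeSpectrum.basicOpen g : Set (PrimeSpectrum Γ(X, U))) := by
      rw [← hpre]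
      exact hx
    exact hg2 hp

end Groth.Agent.Lib.T2H6.HilbRep.Avoid
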