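import Mathlib
import Groth.Agent.S7658
import Groth.Agent.S7659
import Groth.Agent.Lib.T2H6HilbRepL

/-!
# Affine opens containing the image of finitely many points of an affine scheme (helper6)

Core of Stacks 09NM: generic points, specialisations and stalk maps.
-/

set_option autoImplicit false
set_option linter.style.haveILetI false
universe u
open CategoryTheory AlgebraicGeometry TopologicalSpace

namespace Groth.Agent.Lib.T2H6.AffImg

/-- `x` is the generic point of an irreducible component. -/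
abbrev IsGen {X : Type*} [TopologicalSpace X] (x : X) : Prop :=
  closure ({x} : Set X) ∈ irreducibleComponents X

/-- generic points of irreducible components are the points without proper generisations. -/
theorem isGen_iff {X : Type*} [TopologicalSpace X] [QuasiSober X] [T0Space X] (x : X) :
    IsGen x ↔ ∀ y : X, y ⤳ x → y = x := by
  constructor
  · intro h y hy
    have h1 : closure ({x} : Set X) ⊆ closure {y} := specializes_iff_closure_subset.1 hy
    have h2 : closure ({y} : Set X) ⊆ closure {x} := h.2 isIrreducible_singleton.closure h1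
    exact ((specializes_iff_closure_subset.2 h2).antisymm hy).eq.symm
  · intro h
    refine ⟨isIrreducible_singleton.closure, fun Z hZ hle => ?_⟩
    obtain ⟨z, hz⟩ := QuasiSober.sober hZ.closure isClosed_closure
    have hx : x ∈ closure ({z} : Set X) := by
      rw [hz.def]
      exact subset_closure (hle (subset_closure rfl))
    have hzx : z = x := h z (specializes_iff_mem_closure.2 hx)
    subst hzx
    intro w hw
    rw [hz.def]
    exact subset_closure hw

/-- a generic point of an open subspace is generic in the ambient space. -/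
theorem isGen_of_isOpenEmbedding {Y Z : Type*} [TopologicalSpace Y] [TopologicalSpace Z]
    [QuasiSober Y] [T0Space Y] [QuasiSober Z] [T0Space Z] (j : Y → Z)
    (hj : Topology.IsOpenEmbedding j) (y : Y) (hy : IsGen y) : IsGen (j y) := by
  rw [isGen_iff] at hy ⊢
  intro z hz
  obtain ⟨y', rfl⟩ : z ∈ Set.range j := hz.mem_open hj.isOpen_range ⟨y, rfl⟩
  rw [hy y' (hj.isInducing.specializes_iff.1 hz)]

/-- a generic point of the ambient space lying in an open subspace is generic there. -/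
theorem isGen_of_isOpenEmbedding' {Y Z : Type*} [TopologicalSpace Y] [TopologicalSpace Z]
    [QuasiSober Y] [T0Space Y] [QuasiSober Z] [T0Space Z] (j : Y → Z)
    (hj : Topology.IsOpenEmbedding j) (y : Y) (hy : IsGen (j y)) : IsGen y := by
  rw [isGen_iff] at hy ⊢
  intro z hz
  exact hj.injective (hy (j z) (hz.map hj.continuous))

/-- generic points correspond under homeomorphisms. -/
theorem isGen_homeomorph {Y Z : Type*} [TopologicalSpace Y] [TopologicalSpace Z]
    [QuasiSober Y] [T0Space Y] [QuasiSober Z] [T0Space Z] (e : Y ≃ₜ Z) (y : Y) :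
    IsGen (e y) ↔ IsGen y :=
  ⟨isGen_of_isOpenEmbedding' e e.isOpenEmbedding y, isGen_of_isOpenEmbedding e e.isOpenEmbedding y⟩

section schemes

variable {T T' X : Scheme.{u}}

theorem comp_fromSpecStalk_apply (f : T ⟶ X) (t : T) (w : Spec (T.presheaf.stalk t)) :
    f (T.fromSpecStalk t w) = X.fromSpecStalk (f t) (Spec.map (f.stalkMap t) w) := by
  have := Scheme.SpecMap_stalkMap_fromSpecStalk (f := f) (x := t)
  calc f (T.fromSpecStalk t w) = (T.fromSpecStalk t ≫ f) w := rfl
    _ = (Spec.map (f.stalkMap t) ≫ X.fromSpecStalk (f t)) w := by rw [this]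
    _ = _ := rfl

theorem exists_fromSpecStalk_eq (t y : T) (h : y ⤳ t) : ∃ w, T.fromSpecStalk t w = y := by
  have : y ∈ Set.range (T.fromSpecStalk t) := by rw [Scheme.range_fromSpecStalk]; exact h
  exact this

theorem fromSpecStalk_specializes (t : T) (w : Spec (T.presheaf.stalk t)) :
    T.fromSpecStalk t w ⤳ t := by
  have : T.fromSpecStalk t w ∈ Set.range (T.fromSpecStalk t) := ⟨w, rfl⟩
  rwa [Scheme.range_fromSpecStalk] at this

theorem fromSpecStalk_injective (t : T) : Function.Injective (T.fromSpecStalk t) :=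
  (T.fromSpecStalk t).isEmbedding.injective

/-- **lifting generic points through a stalk isomorphism**. -/
theorem specializes_of_isGen (f : T ⟶ X)
    (hgen : ∀ η : T, IsGen η → IsGen (f η))
    (hinj : ∀ η η' : T, IsGen η → IsGen η' → f η = f η' → η = η')
    (t : T) (ht : IsIso (f.stalkMap t)) (η : T) (hη : IsGen η) (h : f η ⤳ f t) : η ⤳ t := by
  obtain ⟨z, hz⟩ := exists_fromSpecStalk_eq (f t) (f η) h
  have hbij : Function.Bijective (Spec.map (f.stalkMap t)) :=
    (Spec.map (f.stalkMap t)).homeomorph.bijective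
  obtain ⟨w, hw⟩ := hbij.2 z
  set η' := T.fromSpecStalk t w with hη'
  have hfη' : f η' = f η := by
    rw [hη', comp_fromSpecStalk_apply, hw, hz]
  have hη't : η' ⤳ t := fromSpecStalk_specializes t w
  have hη'gen : IsGen η' := by
    rw [isGen_iff]
    intro y hy
    obtain ⟨w'', rfl⟩ := exists_fromSpecStalk_eq t y (hy.trans hη't)
    have h1 : f (T.fromSpecStalk t w'') ⤳ f η' := hy.map f.continuous
    have h2 : f (T.fromSpecStalk t w'') = f η' :=
      (isGen_iff _).1 (hfη' ▸ hgen η hη) _ h1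
    rw [hη', comp_fromSpecStalk_apply, comp_fromSpecStalk_apply] at h2
    rw [hη', hbij.1 (fromSpecStalk_injective _ h2)]
  rw [hinj η η' hη hη'gen hfη'.symm]
  exact hη't

/-- **injectivity of a stalk map from lifting of generic points**. -/
theorem stalkMap_injective_of_gen (h : T ⟶ T') [IsReduced T'] (t : T)
    (H : ∀ ξ : T', IsGen ξ → ξ ⤳ h t → ∃ η : T, η ⤳ t ∧ h η = ξ) :
    Function.Injective (h.stalkMap t) := by
  rw [injective_iff_map_eq_zero]
  intro a ha
  apply IsNilpotent.eq_zero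
  rw [nilpotent_iff_mem_prime]
  intro 𝔮 h𝔮
  obtain ⟨𝔮₀, h𝔮₀, hle⟩ := Ideal.exists_minimalPrimes_le (I := ⊥) (J := 𝔮) bot_le
  apply hle
  let z₀ : Spec (T'.presheaf.stalk (h t)) := ⟨𝔮₀, h𝔮₀.1.1⟩
  set ξ₀ := T'.fromSpecStalk (h t) z₀ with hξ₀
  have hξ₀sp : ξ₀ ⤳ h t := fromSpecStalk_specializes _ _
  have hξ₀gen : IsGen ξ₀ := by
    rw [isGen_iff]
    intro y hy
    obtain ⟨zy, rfl⟩ := exists_fromSpecStalk_eq (h t) y (hy.trans hξ₀sp)
    have h1 : zy ⤳ z₀ := (T'.fromSpecStalk (h t)).isEmbedding.isInducing.specializes_iff.1 hy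
    have h2 : zy.asIdeal ≤ 𝔮₀ := (PrimeSpectrum.le_iff_specializes
      (zy : PrimeSpectrum (T'.presheaf.stalk (h t))) z₀).2 h1
    have h3 : 𝔮₀ ≤ zy.asIdeal := h𝔮₀.2 ⟨zy.2, bot_le⟩ h2
    have h4 : zy = z₀ := PrimeSpectrum.ext (le_antisymm h2 h3)
    rw [hξ₀, h4]
  obtain ⟨η, hηt, hη⟩ := H ξ₀ hξ₀gen hξ₀sp
  obtain ⟨w, rfl⟩ := exists_fromSpecStalk_eq t η hηt
  rw [comp_fromSpecStalk_apply] at hη
  have h4 : Spec.map (h.stalkMap t) w = z₀ := fromSpecStalk_injective _ hη
  have h5 : a ∈ (Spec.map (h.stalkMap t) w).asIdeal := by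
    change (h.stalkMap t) a ∈ w.asIdeal
    rw [ha]
    exact Ideal.zero_mem _
  rw [h4] at h5
  exact h5

/-- kernel elements of a stalk map lie in every prime whose point lifts to a generisation. -/
theorem mem_of_stalkMap_eq_zero (h : T ⟶ T') (t : T) (a : T'.presheaf.stalk (h t))
    (ha : h.stalkMap t a = 0) (z₀ : Spec (T'.presheaf.stalk (h t))) (η : T) (hηt : η ⤳ t)
    (hη : h η = T'.fromSpecStalk (h t) z₀) : a ∈ z₀.asIdeal := by
  obtain ⟨w, rfl⟩ := exists_fromSpecStalk_eq t η hηt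
  rw [comp_fromSpecStalk_apply] at hη
  have h4 : Spec.map (h.stalkMap t) w = z₀ := fromSpecStalk_injective _ hη
  have h5 : a ∈ (Spec.map (h.stalkMap t) w).asIdeal := by
    change (h.stalkMap t) a ∈ w.asIdeal
    rw [ha]
    exact Ideal.zero_mem _
  rw [h4] at h5
  exact h5

/-- **core of Stacks 09NM**: `T → T' → X` with `T'` affine reduced of finite type over the reduced `X`,
generic points of `T'` lifting to generic points of `T`. -/
theorem exists_affine_core (h : T ⟶ T') (g : T' ⟶ X) [IsAffine T'] [IsReduced T']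
    [LocallyOfFiniteType g] [IsReduced X] (hX : (irreducibleComponents X).Finite)
    (hdom : ∀ ξ : T', IsGen ξ → ∃ η : T, IsGen η ∧ h η = ξ)
    (hgen : ∀ η : T, IsGen η → IsGen ((h ≫ g) η))
    (hinj : ∀ η η' : T, IsGen η → IsGen η' → (h ≫ g) η = (h ≫ g) η' → η = η')
    (s : Finset T) (hs : ∀ t ∈ s, IsIso ((h ≫ g).stalkMap t)) :
    ∃ U : X.Opens, IsAffineOpen U ∧ ∀ t ∈ s, (h ≫ g) t ∈ U := by
  classical
  -- (1) the stalk maps of `g` at the image points are isomorphisms
  have h1 : ∀ t ∈ s, IsIso (g.stalkMap (h t)) := by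
    intro t ht
    have hσ : Function.Injective (h.stalkMap t) := by
      refine stalkMap_injective_of_gen h t (fun ξ hξ hsp => ?_)
      obtain ⟨η, hη, rfl⟩ := hdom ξ hξ
      exact ⟨η, specializes_of_isGen (h ≫ g) hgen hinj t (hs t ht) η hη (hsp.map g.continuous), rfl⟩
    have hc := Scheme.Hom.stalkMap_comp h g t
    haveI : IsIso (g.stalkMap (h t) ≫ h.stalkMap t) := hc ▸ hs t ht
    haveI : Mono (h.stalkMap t) := ConcreteCategory.mono_of_injective _ hσ
    haveI : IsSplitEpi (h.stalkMap t) :=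
      IsSplitEpi.mk' ⟨inv (g.stalkMap (h t) ≫ h.stalkMap t) ≫ g.stalkMap (h t), by simp⟩
    haveI : IsIso (h.stalkMap t) := isIso_of_mono_of_isSplitEpi _
    exact IsIso.of_isIso_comp_right (g.stalkMap (h t)) (h.stalkMap t)
  -- (2) the locus where `g` is a local isomorphism
  let 𝒩 : Set T'.Opens := {N | IsOpenImmersion (N.ι ≫ g)}
  let O : T'.Opens := sSup 𝒩
  have hO : ∀ x : T', x ∈ O → ∃ N ∈ 𝒩, x ∈ N := by
    intro x hx
    simpa [O, Opens.mem_sSup] using hx
  have hsO : ∀ t ∈ s, h t ∈ O := by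
    intro t ht
    obtain ⟨N, hxN, hN⟩ := Groth.Agent.S7659.result g hX (h t) (h1 t ht)
    exact Opens.mem_sSup.2 ⟨N, hN, hxN⟩
  -- (3) prime avoidance
  obtain ⟨r, hr1, hr2⟩ := Groth.Agent.Lib.T2H6.HilbRep.Avoid.exists_basicOpen_subset
    (isAffineOpen_top T') O (h '' (s : Set T)) (s.finite_toSet.image _) (fun _ _ => trivial)
    (by rintro _ ⟨t, ht, rfl⟩; exact hsO t ht)
  set D : T'.Opens := T'.basicOpen r with hD
  have hDaff : IsAffineOpen D := (isAffineOpen_top T').basicOpen r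
  haveI : IsAffine D.toScheme := hDaff
  -- (4) `D → X` is an open immersion
  have hloc : ∀ x : D.toScheme, ∃ U : D.toScheme.Opens, x ∈ U ∧ IsOpenImmersion (U.ι ≫ D.ι ≫ g) := by
    intro x
    obtain ⟨N, hN, hxN⟩ := hO x.1 (hr2 x.2)
    refine ⟨D.ι ⁻¹ᵁ N, hxN, ?_⟩
    have hrange : Set.range (Scheme.Opens.ι (D.ι ⁻¹ᵁ N) ≫ D.ι) ⊆ Set.range N.ι := by
      rintro _ ⟨y, rfl⟩
      rw [Scheme.Opens.range_ι]
      exact y.2
    let l := IsOpenImmersion.lift N.ι (Scheme.Opens.ι (D.ι ⁻¹ᵁ N) ≫ D.ι) hrange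
    have hl : l ≫ N.ι = Scheme.Opens.ι (D.ι ⁻¹ᵁ N) ≫ D.ι := IsOpenImmersion.lift_fac _ _ _
    haveI : IsOpenImmersion (l ≫ N.ι) := hl ▸ inferInstance
    haveI : IsOpenImmersion l := IsOpenImmersion.of_comp l N.ι
    haveI : IsOpenImmersion (N.ι ≫ g) := hN
    have : Scheme.Opens.ι (D.ι ⁻¹ᵁ N) ≫ D.ι ≫ g = l ≫ (N.ι ≫ g) := by
      rw [← Category.assoc, ← hl, Category.assoc]
    rw [this]
    infer_instance
  have hinjD : ∀ ξ ξ' : D.toScheme, IsGen ξ → IsGen ξ' → (D.ι ≫ g) ξ = (D.ι ≫ g) ξ' → ξ = ξ' := by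
    intro ξ ξ' hξ hξ' he
    have e1 := isGen_of_isOpenEmbedding D.ι D.ι.isOpenEmbedding ξ hξ
    have e2 := isGen_of_isOpenEmbedding D.ι D.ι.isOpenEmbedding ξ' hξ'
    obtain ⟨η, hη, hηξ⟩ := hdom _ e1
    obtain ⟨η', hη', hηξ'⟩ := hdom _ e2
    have e3 : (h ≫ g) η = (h ≫ g) η' := by
      change g (h η) = g (h η')
      rw [hηξ, hηξ']
      exact he
    have e4 := hinj η η' hη hη' e3
    subst e4
    exact D.ι.isOpenEmbedding.injective (hηξ.symm.trans hηξ')
  haveI : IsOpenImmersion (D.ι ≫ g) := Groth.Agent.S7658.result (D.ι ≫ g) hloc hinjD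
  -- (5) conclusion
  refine ⟨(D.ι ≫ g).opensRange, isAffineOpen_opensRange _, fun t ht => ?_⟩
  have htD : h t ∈ D := hr1 ⟨t, ht, rfl⟩
  exact ⟨⟨h t, htD⟩, rfl⟩

end schemes

end Groth.Agent.Lib.T2H6.AffImg
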