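import Mathlib
import Groth.Agent.Lib.T2H6AffImgA
import Groth.Agent.S7383

/-!
# Affine opens containing images of points of an affine scheme: the reduced case (helper6)

Stacks 09NM for `T = Spec R` with `R` and `X` reduced, by the limit argument.
-/

set_option autoImplicit false
set_option linter.style.haveILetI false
universe u
open CategoryTheory CategoryTheory.Limits AlgebraicGeometry TopologicalSpace

namespace Groth.Agent.Lib.T2H6.AffImg

/-- generic points of `Spec R` are the minimal primes. -/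
theorem isGen_spec_iff {R : CommRingCat.{u}} (p : Spec R) :
    IsGen p ↔ p.asIdeal ∈ minimalPrimes R := by
  rw [isGen_iff]
  constructor
  · intro h
    refine ⟨⟨p.2, bot_le⟩, fun q hq hqp => ?_⟩
    let y : Spec R := ⟨q, hq.1⟩
    have hy : y ⤳ p := (PrimeSpectrum.le_iff_specializes (y : PrimeSpectrum R) p).1 hqp
    have := h y hy
    rw [← this]
  · intro h y hy
    have h1 : y.asIdeal ≤ p.asIdeal := (PrimeSpectrum.le_iff_specializes (y : PrimeSpectrum R) p).2 hy
    have h2 : p.asIdeal ≤ y.asIdeal := h.2 ⟨y.2, bot_le⟩ h1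
    exact PrimeSpectrum.ext (le_antisymm h1 h2)

/-- generic points lift along `Spec` of an injective ring map. -/
theorem exists_isGen_of_injective {R R' : CommRingCat.{u}} (ψ : R' ⟶ R)
    (hψ : Function.Injective ψ.hom) (ξ : Spec R') (hξ : IsGen ξ) :
    ∃ η : Spec R, IsGen η ∧ (Spec.map ψ) η = ξ := by
  rw [isGen_spec_iff] at hξ
  have hker : Ideal.comap ψ.hom (⊥ : Ideal R) = ⊥ := by
    rw [← RingHom.ker_eq_comap_bot]
    exact (RingHom.injective_iff_ker_eq_bot _).1 hψ
  have hξ' : ξ.asIdeal ∈ (Ideal.comap ψ.hom (⊥ : Ideal R)).minimalPrimes := by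
    rw [hker]; exact hξ
  obtain ⟨q, hq, hqξ⟩ := Ideal.exists_minimalPrimes_comap_eq ψ.hom ξ.asIdeal hξ'
  refine ⟨⟨q, hq.1.1⟩, (isGen_spec_iff _).2 hq, ?_⟩
  exact PrimeSpectrum.ext hqξ

/-- the case where `Spec R → X` factors through a scheme `Spec B` locally of finite type over `X`. -/
theorem exists_affine_of_factor {R B : CommRingCat.{u}} [_root_.IsReduced R] {X : Scheme.{u}}
    [IsReduced X] (hX : (irreducibleComponents X).Finite) (f : Spec R ⟶ X)
    (φ : B ⟶ R) (g : Spec B ⟶ X) [LocallyOfFiniteType g] (hfac : f = Spec.map φ ≫ g)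
    (hgen : ∀ η : Spec R, IsGen η → IsGen (f η))
    (hinj : ∀ η η' : Spec R, IsGen η → IsGen η' → f η = f η' → η = η')
    (s : Finset (Spec R)) (hs : ∀ t ∈ s, IsIso (f.stalkMap t)) :
    ∃ U : X.Opens, IsAffineOpen U ∧ ∀ t ∈ s, f t ∈ U := by
  let R' : CommRingCat.{u} := CommRingCat.of φ.hom.range
  let φ' : B ⟶ R' := CommRingCat.ofHom φ.hom.rangeRestrict
  let ψ : R' ⟶ R := CommRingCat.ofHom φ.hom.range.subtype
  have hφ : φ = φ' ≫ ψ := by
    ext x; rfl
  have e : f = Spec.map ψ ≫ (Spec.map φ' ≫ g) := by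
    rw [hfac, hφ, Spec.map_comp, Category.assoc]
  subst e
  haveI : _root_.IsReduced R' :=
    isReduced_of_injective φ.hom.range.subtype Subtype.val_injective
  haveI : IsClosedImmersion (Spec.map φ') :=
    IsClosedImmersion.spec_of_surjective φ' φ.hom.rangeRestrict_surjective
  exact exists_affine_core (Spec.map ψ) (Spec.map φ' ≫ g) hX
    (fun ξ hξ => exists_isGen_of_injective ψ Subtype.val_injective ξ hξ) hgen hinj s hs

/-- **Stacks 09NM, reduced case, `T = Spec R`**. -/
theorem exists_affine_spec {R : CommRingCat.{u}} [_root_.IsReduced R] {X : Scheme.{u}}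
    [IsReduced X] [QuasiSeparatedSpace X] (hX : (irreducibleComponents X).Finite)
    (f : Spec R ⟶ X)
    (hgen : ∀ η : Spec R, IsGen η → IsGen (f η))
    (hinj : ∀ η η' : Spec R, IsGen η → IsGen η' → f η = f η' → η = η')
    (s : Finset (Spec R)) (hs : ∀ t ∈ s, IsIso (f.stalkMap t)) :
    ∃ U : X.Opens, IsAffineOpen U ∧ ∀ t ∈ s, f t ∈ U := by
  obtain ⟨X₀, hX₀c, hrange⟩ := Groth.Agent.S7383.exists_compact_open_of_range f
  let f₀ : Spec R ⟶ X₀ := IsOpenImmersion.lift X₀.ι f (by rw [Scheme.Opens.range_ι]; exact hrange)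
  have hf₀ : f₀ ≫ X₀.ι = f := IsOpenImmersion.lift_fac _ _ _
  haveI : CompactSpace X₀ := isCompact_iff_compactSpace.1 hX₀c
  haveI : QuasiSeparatedSpace X₀ := quasiSeparatedSpace_of_quasiSeparated X₀.ι
  obtain ⟨I, _, hdir, hne, D, c, hc, hprops, haff, ⟨e⟩⟩ := Groth.Agent.S7383.result f₀
  haveI := hdir
  haveI := hne
  haveI : IsConnected Iᵒᵖ := IsCofiltered.isConnected Iᵒᵖ
  let D' : Iᵒᵖ ⥤ Scheme.{u} := D ⋙ Over.forget (X₀ : Scheme.{u})
  let c' : Cone D' := (Over.forget (X₀ : Scheme.{u})).mapCone c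
  have hc' : IsLimit c' := isLimitOfPreserves (Over.forget (X₀ : Scheme.{u})) hc
  haveI : ∀ {i j : Iᵒᵖ} (a : i ⟶ j), IsAffineHom (D'.map a) := fun a => haff _ _ a
  haveI : ∀ i, CompactSpace (D'.obj i) := by
    intro i
    haveI : QuasiCompact (D.obj i).hom := (hprops i).2.1
    have h := QuasiCompact.compactSpace_of_compactSpace (D.obj i).hom
    exact h
  haveI : ∀ i, QuasiSeparatedSpace (D'.obj i) := by
    intro i
    haveI : QuasiSeparated (D.obj i).hom := (hprops i).2.2
    have h := quasiSeparatedSpace_of_quasiSeparated (D.obj i).hom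
    exact h
  haveI : IsAffine c'.pt := by
    have h : IsAffine (Spec R) := inferInstance
    exact @IsAffine.of_isIso _ _ ((Over.forget (X₀ : Scheme.{u})).mapIso e).hom _ h
  obtain ⟨i, hi⟩ := Scheme.exists_isAffine_of_isLimit D' c' hc'
  haveI : IsAffine (D.obj i).left := hi
  let B : CommRingCat.{u} := Γ((D.obj i).left, ⊤)
  let iso : (D.obj i).left ≅ Spec B := (D.obj i).left.isoSpec
  haveI := (hprops i).1
  let g : Spec B ⟶ X := iso.inv ≫ (D.obj i).hom ≫ X₀.ι
  let k : Spec R ⟶ (D.obj i).left := e.inv.left ≫ (c.π.app i).left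
  have hk : k ≫ (D.obj i).hom = f₀ := by
    have h1 : (c.π.app i).left ≫ (D.obj i).hom = c.pt.hom := Over.w (c.π.app i)
    have h2 : e.inv.left ≫ c.pt.hom = f₀ := Over.w e.inv
    rw [Category.assoc, h1, h2]
  let φ : B ⟶ R := Spec.preimage (k ≫ iso.hom)
  have hφ : Spec.map φ = k ≫ iso.hom := Spec.map_preimage _
  have hfac : f = Spec.map φ ≫ g := by
    rw [hφ, ← hf₀, ← hk]
    simp only [g, Category.assoc, Iso.hom_inv_id_assoc]
  exact exists_affine_of_factor hX f φ g hfac hgen hinj s hs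

end Groth.Agent.Lib.T2H6.AffImg
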