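import Mathlib
import Groth.Agent.Lib.T2H6AffImgB
import Groth.Agent.Lib.T2H6AffGlue
import Groth.Agent.Lib.Helper10RedInd

/-!
# Affine opens containing images of points of an affine scheme: reduction to the reduced case (helper6)
-/

set_option autoImplicit false
set_option linter.style.haveILetI false
universe u
open CategoryTheory CategoryTheory.Limits AlgebraicGeometry TopologicalSpace

namespace Groth.Agent.Lib.T2H6.AffImg

/-- finiteness of the set of irreducible components passes to open subspaces. -/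
theorem finite_irreducibleComponents_of_isOpenEmbedding {Y Z : Type*} [TopologicalSpace Y]
    [TopologicalSpace Z] [QuasiSober Y] [T0Space Y] [QuasiSober Z] [T0Space Z] (j : Y → Z)
    (hj : Topology.IsOpenEmbedding j) (h : (irreducibleComponents Z).Finite) :
    (irreducibleComponents Y).Finite := by
  have hZ : (genericPoints Z).Finite := genericPoints.finite h
  have hY : (genericPoints Y).Finite :=
    (hZ.preimage hj.injective.injOn).subset (fun y hy => isGen_of_isOpenEmbedding j hj y hy)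
  haveI : Finite (genericPoints Y) := Set.finite_coe_iff.2 hY
  exact Set.finite_coe_iff.1 (Finite.of_equiv _ genericPoints.equiv)

/-- kernel elements of the stalk map of a surjective embedding are nilpotent. -/
theorem isNilpotent_of_stalkMap_eq_zero {Z Y : Scheme.{u}} (i : Z ⟶ Y)
    (hemb : Topology.IsEmbedding i) (hsurj : Function.Surjective i) (z : Z)
    (a : Y.presheaf.stalk (i z)) (ha : i.stalkMap z a = 0) : IsNilpotent a := by
  rw [nilpotent_iff_mem_prime]
  intro 𝔮 h𝔮
  let z₀ : Spec (Y.presheaf.stalk (i z)) := ⟨𝔮, h𝔮⟩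
  obtain ⟨z', hz'⟩ := hsurj (Y.fromSpecStalk (i z) z₀)
  have hsp : z' ⤳ z := hemb.isInducing.specializes_iff.1 (hz' ▸ fromSpecStalk_specializes _ _)
  exact mem_of_stalkMap_eq_zero i z a ha z₀ z' hsp hz'

/-- algebra: an isomorphism descends to reduced quotients. -/
theorem isIso_of_reduced_quotients {A A₀ Bt B₀ : CommRingCat.{u}} (a : A ⟶ A₀) (b : A₀ ⟶ B₀)
    (m : A ⟶ Bt) (d : Bt ⟶ B₀) (hcomm : a ≫ b = m ≫ d) (ha : Function.Surjective a)
    (hm : Function.Bijective m) (hd : Function.Surjective d)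
    (hker : ∀ x, d x = 0 → IsNilpotent x) [_root_.IsReduced A₀] : IsIso b := by
  rw [ConcreteCategory.isIso_iff_bijective]
  have hc : ∀ x, b (a x) = d (m x) := fun x => by
    have := congrArg (fun k => k x) hcomm
    simpa using this
  constructor
  · rw [injective_iff_map_eq_zero]
    intro y hy
    obtain ⟨x, rfl⟩ := ha y
    rw [hc] at hy
    obtain ⟨n, hn⟩ := hker _ hy
    rw [← map_pow] at hn
    have hx : x ^ n = 0 := hm.1 (hn.trans (map_zero _).symm)
    apply IsNilpotent.eq_zero
    exact ⟨n, by rw [← map_pow, hx, map_zero]⟩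
  · intro y
    obtain ⟨y', rfl⟩ := hd y
    obtain ⟨x, rfl⟩ := hm.2 y'
    exact ⟨a x, hc x⟩

/-- stalk isomorphisms descend to reduced closed subschemes with full support. -/
theorem isIso_stalkMap_red {T T₀ X X₀ : Scheme.{u}} (f : T ⟶ X) (iT : T₀ ⟶ T) (iX : X₀ ⟶ X)
    (f₀ : T₀ ⟶ X₀) (hcomm : f₀ ≫ iX = iT ≫ f) [IsClosedImmersion iT] [IsClosedImmersion iX]
    (hT : Function.Surjective iT) [IsReduced X₀] (t₀ : T₀) (h : IsIso (f.stalkMap (iT t₀))) :
    IsIso (f₀.stalkMap t₀) := by
  have e1 := Scheme.Hom.stalkMap_comp f₀ iX t₀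
  have e2 := Scheme.Hom.stalkMap_comp iT f t₀
  have e3 := Scheme.Hom.stalkMap_congr_hom (f₀ ≫ iX) (iT ≫ f) hcomm t₀
  have hpt : iX (f₀ t₀) = f (iT t₀) := by
    have := congrArg (fun k : T₀ ⟶ X => k t₀) hcomm
    exact this
  have e4 : iX.stalkMap (f₀ t₀) ≫ f₀.stalkMap t₀ =
      ((X.presheaf.stalkCongr (.of_eq hpt)).hom ≫ f.stalkMap (iT t₀)) ≫
        iT.stalkMap t₀ :=
    e1.symm.trans (e3.trans ((congrArg
      (fun k => (X.presheaf.stalkCongr (.of_eq hpt)).hom ≫ k) e2).trans
      (Category.assoc _ _ _).symm))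
  refine isIso_of_reduced_quotients _ _ _ _ e4 (iX.stalkMap_surjective _) ?_
    (iT.stalkMap_surjective _) ?_
  · have : IsIso ((X.presheaf.stalkCongr (.of_eq hpt)).hom ≫ f.stalkMap (iT t₀)) :=
      inferInstance
    exact (ConcreteCategory.isIso_iff_bijective _).1 this
  · intro x hx
    exact isNilpotent_of_stalkMap_eq_zero iT iT.isClosedEmbedding.isEmbedding hT t₀ x hx

open Scheme.IdealSheafData in
/-- **Stacks 09NM**: for `f : T → X` with `T` affine, `X` quasi-separated with finitely many irreducible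
components, `f` injective on generic points and mapping them to generic points, any finite set of points
of `T` at which `f` induces isomorphisms on local rings has image contained in an affine open of `X`. -/
theorem exists_affine {T X : Scheme.{u}} (f : T ⟶ X) [IsAffine T] [QuasiSeparatedSpace X]
    (hX : (irreducibleComponents X).Finite)
    (hgen : ∀ η : T, IsGen η → IsGen (f η))
    (hinj : ∀ η η' : T, IsGen η → IsGen η' → f η = f η' → η = η')
    (s : Finset T) (hs : ∀ t ∈ s, IsIso (f.stalkMap t)) :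
    ∃ U : X.Opens, IsAffineOpen U ∧ ∀ t ∈ s, f t ∈ U := by
  classical
  let R : CommRingCat.{u} := CommRingCat.of (Γ(T, ⊤) ⧸ nilradical Γ(T, ⊤))
  let q : Γ(T, ⊤) ⟶ R := CommRingCat.ofHom (Ideal.Quotient.mk _)
  let iT : Spec R ⟶ T := Spec.map q ≫ T.isoSpec.inv
  haveI : IsClosedImmersion (Spec.map q) :=
    IsClosedImmersion.spec_of_surjective q Ideal.Quotient.mk_surjective
  haveI : IsClosedImmersion iT := inferInstance
  have hqsurj : Function.Surjective (Spec.map q) := by
    intro p
    have h0 : ∀ p' : PrimeSpectrum Γ(T, ⊤),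
        p' ∈ Set.range (PrimeSpectrum.comap (Ideal.Quotient.mk (nilradical Γ(T, ⊤)))) := by
      intro p'
      rw [range_comap_of_surjective _ _ Ideal.Quotient.mk_surjective, Ideal.mk_ker,
        PrimeSpectrum.zeroLocus_nilradical]
      trivial
    obtain ⟨p₀, hp₀⟩ := h0 p
    exact ⟨p₀, hp₀⟩
  have hTsurj : Function.Surjective iT := by
    intro t
    obtain ⟨p, hp⟩ := hqsurj (T.isoSpec.hom t)
    refine ⟨p, ?_⟩
    change T.isoSpec.inv (Spec.map q p) = t
    rw [hp]
    change (T.isoSpec.hom ≫ T.isoSpec.inv) t = t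
    rw [Iso.hom_inv_id]
    rfl
  haveI : _root_.IsReduced R :=
    (Ideal.isRadical_iff_quotient_reduced _).1 (Ideal.radical_isRadical _)
  let C : Closeds X := ⊤
  let X₀ : Scheme.{u} := (vanishingIdeal C).subscheme
  let iX : X₀ ⟶ X := (vanishingIdeal C).subschemeι
  haveI : IsReduced X₀ := Groth.Agent.Lib.Helper10.RedInd.isReduced_subscheme_vanishingIdeal C
  have hXsurj : Function.Surjective iX := by
    intro x
    have : x ∈ Set.range iX := by
      rw [Groth.Agent.Lib.T2H6.AffGlue.range_subschemeι_vanishingIdeal]; trivial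
    exact this
  have hker : iX.ker ≤ (iT ≫ f).ker := by
    rw [ker_subschemeι, Groth.Agent.Lib.Helper10.RedInd.ker_eq_vanishingIdeal_of_isReduced]
    exact vanishingIdeal_antimono le_top
  let f₀ : Spec R ⟶ X₀ := IsClosedImmersion.lift iX (iT ≫ f) hker
  have hcomm : f₀ ≫ iX = iT ≫ f := IsClosedImmersion.lift_fac _ _ _
  let eT : Spec R ≃ₜ T := iT.isClosedEmbedding.isEmbedding.toHomeomorphOfSurjective hTsurj
  let eX : X₀ ≃ₜ X := iX.isClosedEmbedding.isEmbedding.toHomeomorphOfSurjective hXsurj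
  have hgenT : ∀ η : Spec R, IsGen (iT η) ↔ IsGen η := fun η => isGen_homeomorph eT η
  have hgenX : ∀ η : X₀, IsGen (iX η) ↔ IsGen η := fun η => isGen_homeomorph eX η
  have hpt : ∀ η : Spec R, iX (f₀ η) = f (iT η) := fun η =>
    congrArg (fun k : Spec R ⟶ X => k η) hcomm
  haveI : QuasiSeparatedSpace X₀ := quasiSeparatedSpace_of_quasiSeparated iX
  have hX₀ : (irreducibleComponents X₀).Finite :=
    finite_irreducibleComponents_of_isOpenEmbedding eX eX.isOpenEmbedding hX
  obtain ⟨U₀, hU₀, hsU₀⟩ := exists_affine_spec hX₀ f₀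
    (fun η hη => (hgenX _).1 (hpt η ▸ hgen _ ((hgenT η).2 hη)))
    (fun η η' hη hη' he => by
      have h1 : iT η = iT η' := hinj (iT η) (iT η') ((hgenT η).2 hη) ((hgenT η').2 hη')
        (by rw [← hpt, ← hpt, he])
      exact eT.injective h1)
    (s.preimage iT eT.injective.injOn)
    (fun t₀ ht₀ => isIso_stalkMap_red f iT iX f₀ hcomm hTsurj t₀ (hs _ (Finset.mem_preimage.1 ht₀)))
  obtain ⟨U, hU, hsU⟩ := Groth.Agent.Lib.T2H6.AffGlue.exists_affine_of_forall_mem (s.image f) C
    (fun _ => trivial) U₀ hU₀ (by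
      intro x hx
      obtain ⟨t, ht, rfl⟩ := Finset.mem_image.1 hx
      obtain ⟨t₀, rfl⟩ := hTsurj t
      exact ⟨f₀ t₀, hsU₀ t₀ (Finset.mem_preimage.2 ht), hpt t₀⟩)
  exact ⟨U, hU, fun t ht => hsU _ (Finset.mem_image_of_mem _ ht)⟩

end Groth.Agent.Lib.T2H6.AffImg
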