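import Mathlib
import Groth.Agent.Lib.T2H6AffImgC
import Groth.Agent.S7665

/-!
# Finite sets of points of codimension ≤ 1 lie in an affine open: the integral case (helper6)

Stacks 09NN for integral separated schemes.
-/

set_option autoImplicit false
set_option linter.style.haveILetI false
universe u
open CategoryTheory CategoryTheory.Limits AlgebraicGeometry TopologicalSpace IsLocalRing

namespace Groth.Agent.Lib.T2H6.AffPts

open Groth.Agent.Lib.T2H6.AffImg

section general

variable {X : Scheme.{u}}

/-- a morphism `Spec R → X` (with `R` local) given by an isomorphism `𝒪_{X,x} ≅ R` maps the closed point to `x`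
and induces an isomorphism on stalks there. -/
theorem closedPoint_and_isIso_stalkMap {R : CommRingCat.{u}} [IsLocalRing R] (x : X)
    (φ : X.presheaf.stalk x ⟶ R) [IsIso φ] :
    (Spec.map φ ≫ X.fromSpecStalk x) (closedPoint R) = x ∧
      IsIso ((Spec.map φ ≫ X.fromSpecStalk x).stalkMap (closedPoint R)) := by
  haveI : IsLocalHom φ.hom := isLocalHom_of_isIso φ
  have h := (SpecToEquivOfLocalRing X R).right_inv ⟨x, ⟨φ, inferInstance⟩⟩
  obtain ⟨h1, h2⟩ := SpecToEquivOfLocalRing_eq_iff.mp h
  have h1' : (Spec.map φ ≫ X.fromSpecStalk x) (closedPoint R) = x := h1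
  refine ⟨h1', ?_⟩
  have h3 : Scheme.stalkClosedPointTo (Spec.map φ ≫ X.fromSpecStalk x) =
      (X.presheaf.stalkCongr (.of_eq h1')).hom ≫ φ := h2
  have h4 : IsIso (Scheme.stalkClosedPointTo (Spec.map φ ≫ X.fromSpecStalk x)) := by
    rw [h3]; infer_instance
  have h5 : (Spec.map φ ≫ X.fromSpecStalk x).stalkMap (closedPoint R) =
      Scheme.stalkClosedPointTo (Spec.map φ ≫ X.fromSpecStalk x) ≫ (stalkClosedPointIso R).inv := by
    rw [Scheme.stalkClosedPointTo, Category.assoc, Iso.hom_inv_id, Category.comp_id]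
  rw [h5]
  infer_instance

end general

section integral

variable {Z : Scheme.{u}} [IsIntegral Z]

/-- a point of `Spec 𝒪_{Z,x}` with zero ideal maps to the generic point. -/
theorem fromSpecStalk_eq_genericPoint (x : Z) (p : Spec (Z.presheaf.stalk x))
    (hp : p.asIdeal = ⊥) : Z.fromSpecStalk x p = genericPoint Z := by
  have hgx : genericPoint Z ⤳ x := (genericPoint_spec Z).specializes trivial
  obtain ⟨w, hw⟩ := exists_fromSpecStalk_eq x (genericPoint Z) hgx
  have h1 : Z.fromSpecStalk x w ⤳ Z.fromSpecStalk x p := by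
    rw [hw]; exact (genericPoint_spec Z).specializes trivial
  have h2 : w ⤳ p := (Z.fromSpecStalk x).isEmbedding.isInducing.specializes_iff.1 h1
  have h3 : w.asIdeal ≤ p.asIdeal := (PrimeSpectrum.le_iff_specializes
    (w : PrimeSpectrum (Z.presheaf.stalk x)) p).2 h2
  have h4 : w = p := PrimeSpectrum.ext (le_antisymm h3 (hp ▸ bot_le))
  rw [← h4, hw]

/-- the local ring at `x` as a subring of the function field. -/
noncomputable def stalkSubring (x : Z) : Subring Z.functionField :=
  (algebraMap (Z.presheaf.stalk x) Z.functionField).range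

/-- the isomorphism from the stalk to its image in the function field. -/
noncomputable def toStalkSubring (x : Z) :
    Z.presheaf.stalk x ⟶ CommRingCat.of (stalkSubring x) :=
  CommRingCat.ofHom (algebraMap (Z.presheaf.stalk x) Z.functionField).rangeRestrict

theorem toStalkSubring_bijective (x : Z) : Function.Bijective (toStalkSubring x) := by
  constructor
  · intro a b hab
    apply IsFractionRing.injective (Z.presheaf.stalk x) Z.functionField
    exact congrArg Subtype.val hab
  · exact (algebraMap (Z.presheaf.stalk x) Z.functionField).rangeRestrict_surjective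

instance (x : Z) : IsIso (toStalkSubring x) :=
  (ConcreteCategory.isIso_iff_bijective _).2 (toStalkSubring_bijective x)

/-- the ring isomorphism from the stalk to its image in the function field. -/
noncomputable def stalkEquiv (x : Z) : Z.presheaf.stalk x ≃+* stalkSubring x :=
  RingEquiv.ofBijective (toStalkSubring x).hom (toStalkSubring_bijective x)

instance (x : Z) : IsLocalRing (stalkSubring x) := (stalkEquiv x).isLocalRing

instance (x : Z) : IsLocalRing (CommRingCat.of (stalkSubring x)) :=
  inferInstanceAs (IsLocalRing (stalkSubring x))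

instance (x : Z) : IsFractionRing (stalkSubring x) Z.functionField := by
  refine IsFractionRing.of_field (R := stalkSubring x) (K := Z.functionField) (fun z => ?_)
  obtain ⟨a, b, _, hab⟩ := IsFractionRing.div_surjective (A := Z.presheaf.stalk x) z
  exact ⟨⟨_, a, rfl⟩, ⟨_, b, rfl⟩, hab.symm⟩

instance (x : Z) [h : Ring.KrullDimLE 1 (Z.presheaf.stalk x)] :
    Ring.KrullDimLE 1 (stalkSubring x) := by
  rw [Ring.krullDimLE_iff] at h ⊢
  rwa [← ringKrullDim_eq_of_ringEquiv (stalkEquiv x)]

/-- the canonical morphism from the spectrum of the local ring (as a subring of the function field). -/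
noncomputable def fromStalkSubring (x : Z) : Spec (CommRingCat.of (stalkSubring x)) ⟶ Z :=
  Spec.map (toStalkSubring x) ≫ Z.fromSpecStalk x

theorem fromStalkSubring_closedPoint (x : Z) :
    fromStalkSubring x (closedPoint (stalkSubring x)) = x :=
  (closedPoint_and_isIso_stalkMap x (toStalkSubring x)).1

theorem isIso_stalkMap_fromStalkSubring (x : Z) :
    IsIso ((fromStalkSubring x).stalkMap (closedPoint (stalkSubring x))) :=
  (closedPoint_and_isIso_stalkMap x (toStalkSubring x)).2

theorem subtype_fromStalkSubring (x : Z) :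
    Spec.map (CommRingCat.ofHom (stalkSubring x).subtype :
      CommRingCat.of (stalkSubring x) ⟶ Z.functionField) ≫ fromStalkSubring x =
      Z.fromSpecStalk (genericPoint Z) := by
  rw [fromStalkSubring, ← Category.assoc, ← Spec.map_comp]
  have : toStalkSubring x ≫ (CommRingCat.ofHom (stalkSubring x).subtype :
      CommRingCat.of (stalkSubring x) ⟶ Z.functionField) =
      Z.presheaf.stalkSpecializes ((genericPoint_spec Z).specializes (Set.mem_univ x)) := by
    ext a; rfl
  rw [this]
  exact Scheme.SpecMap_stalkSpecializes_fromSpecStalk _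

theorem fromStalkSubring_of_eq_bot (x : Z) (p : Spec (CommRingCat.of (stalkSubring x)))
    (hp : p.asIdeal = ⊥) : fromStalkSubring x p = genericPoint Z := by
  rw [fromStalkSubring, Scheme.Hom.comp_apply]
  apply fromSpecStalk_eq_genericPoint
  change Ideal.comap (toStalkSubring x).hom p.asIdeal = ⊥
  rw [hp, ← RingHom.ker_eq_comap_bot]
  exact (RingHom.injective_iff_ker_eq_bot _).1 (toStalkSubring_bijective x).1

theorem fromStalkSubring_of_ne_bot (x : Z) [Ring.KrullDimLE 1 (Z.presheaf.stalk x)]
    (p : Spec (CommRingCat.of (stalkSubring x))) (hp : p.asIdeal ≠ ⊥) :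
    fromStalkSubring x p = x := by
  have h1 : p.asIdeal.IsMaximal := Ideal.IsPrime.isMaximal_of_ne_bot p.2 hp
  have h2 : p = closedPoint (stalkSubring x) :=
    PrimeSpectrum.ext (IsLocalRing.eq_maximalIdeal h1)
  rw [h2, fromStalkSubring_closedPoint]

theorem isDominant_SpecMap_of_injective {R S : CommRingCat.{u}} (φ : R ⟶ S)
    (h : Function.Injective φ) : IsDominant (Spec.map φ) := by
  rw [isDominant_iff]
  have : DenseRange (PrimeSpectrum.comap φ.hom) := by
    rw [PrimeSpectrum.denseRange_comap_iff_ker_le_nilRadical,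
      (RingHom.injective_iff_ker_eq_bot _).1 h]
    exact bot_le
  exact this

/-- a nonzero prime of an overring of the local ring `𝒪_{Z,w}` (of dimension ≤ 1) lies over the closed point. -/
theorem fromStalkSubring_comp_apply (w : Z) [Ring.KrullDimLE 1 (Z.presheaf.stalk w)]
    (B : Subring Z.functionField) (hw : stalkSubring w ≤ B) (pt : Spec (CommRingCat.of B))
    (hpt : pt.asIdeal ≠ ⊥) :
    (Spec.map (CommRingCat.ofHom (Subring.inclusion hw)) ≫ fromStalkSubring w) pt = w := by
  rw [Scheme.Hom.comp_apply]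
  apply fromStalkSubring_of_ne_bot
  change Ideal.comap (Subring.inclusion hw) pt.asIdeal ≠ ⊥
  obtain ⟨b, hb, hb0⟩ := Submodule.exists_mem_ne_zero_of_ne_bot hpt
  obtain ⟨a, a', ha', hab⟩ := IsFractionRing.div_surjective (A := stalkSubring w) (b : Z.functionField)
  have ha'0 : (a' : Z.functionField) ≠ 0 := by
    have := nonZeroDivisors.ne_zero ha'
    exact fun h => this (Subtype.ext h)
  have hb0' : (b : Z.functionField) ≠ 0 := fun h => hb0 (Subtype.ext h)
  have e1 : (a : Z.functionField) = b * a' := by
    have : (a : Z.functionField) / a' = b := hab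
    rw [← this, div_mul_cancel₀ _ ha'0]
  have e2 : Subring.inclusion hw a = b * Subring.inclusion hw a' := Subtype.ext e1
  intro hbot
  have hmem : a ∈ Ideal.comap (Subring.inclusion hw) pt.asIdeal := by
    rw [Ideal.mem_comap, e2]
    exact Ideal.mul_mem_right _ _ hb
  rw [hbot, Ideal.mem_bot] at hmem
  rw [hmem] at e1
  have : (b : Z.functionField) * a' = 0 := e1.symm.trans (by simp)
  rcases mul_eq_zero.1 this with h | h
  · exact hb0' h
  · exact ha'0 h

/-- **separatedness**: the local rings at two distinct points of codimension ≤ 1 generate the function field. -/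
theorem stalkSubring_sup_eq_top [Z.IsSeparated] (x y : Z) (hxy : x ≠ y)
    [Ring.KrullDimLE 1 (Z.presheaf.stalk x)] [Ring.KrullDimLE 1 (Z.presheaf.stalk y)] :
    stalkSubring x ⊔ stalkSubring y = ⊤ := by
  by_contra hB
  set B := stalkSubring x ⊔ stalkSubring y with hBdef
  have hxB : stalkSubring x ≤ B := le_sup_left
  have hyB : stalkSubring y ≤ B := le_sup_right
  let ι : Spec Z.functionField ⟶ Spec (CommRingCat.of B) :=
    Spec.map (CommRingCat.ofHom B.subtype : CommRingCat.of B ⟶ Z.functionField)
  let gx := Spec.map (CommRingCat.ofHom (Subring.inclusion hxB)) ≫ fromStalkSubring x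
  let gy := Spec.map (CommRingCat.ofHom (Subring.inclusion hyB)) ≫ fromStalkSubring y
  have hι : ∀ (w : Z) (hw : stalkSubring w ≤ B),
      ι ≫ Spec.map (CommRingCat.ofHom (Subring.inclusion hw)) ≫ fromStalkSubring w =
        Z.fromSpecStalk (genericPoint Z) := by
    intro w hw
    rw [← subtype_fromStalkSubring w, ← Category.assoc, ← Spec.map_comp]
    rfl
  haveI : IsDominant ι := isDominant_SpecMap_of_injective _ Subtype.val_injective
  have heq : gx = gy := ext_of_isDominant_of_isSeparated (terminal.from Z)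
    (terminal.hom_ext _ _) ι ((hι x hxB).trans (hι y hyB).symm)
  have hBf : ¬ IsField B := by
    intro hf
    apply hB
    rw [eq_top_iff]
    intro z _
    obtain ⟨a, b, hb, hab⟩ := IsFractionRing.div_surjective (A := stalkSubring x) z
    have hb0 : (b : Z.functionField) ≠ 0 := by
      have := nonZeroDivisors.ne_zero hb
      exact fun h => this (Subtype.ext h)
    have hb0' : Subring.inclusion hxB b ≠ 0 := fun h => hb0 (congrArg Subtype.val h)
    obtain ⟨c, hc⟩ := hf.mul_inv_cancel hb0'
    have hc' : (b : Z.functionField) * c = 1 := congrArg Subtype.val hc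
    have hz : z = (Subring.inclusion hxB a * c : B) := by
      have : (a : Z.functionField) / b = z := hab
      rw [← this]
      push_cast
      rw [div_eq_iff hb0, mul_assoc, mul_comm (c : Z.functionField), hc', mul_one]
      rfl
    rw [hz]
    exact (Subring.inclusion hxB a * c).2
  obtain ⟨𝔫, h𝔫0, h𝔫p⟩ := Ring.not_isField_iff_exists_prime.1 hBf
  let pt : Spec (CommRingCat.of B) := ⟨𝔫, h𝔫p⟩
  have hx := fromStalkSubring_comp_apply x B hxB pt h𝔫0
  have hy := fromStalkSubring_comp_apply y B hyB pt h𝔫0
  exact hxy (hx.symm.trans ((congrArg (fun g : Spec (CommRingCat.of B) ⟶ Z => g pt) heq).trans hy))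

theorem isGen_genericPoint : IsGen (genericPoint Z) := by
  rw [isGen_iff]
  intro y hy
  exact (((genericPoint_spec Z).specializes (Set.mem_univ y)).antisymm hy).eq.symm

end integral

section general

theorem isIso_stalkMap_of_comp {X Y W : Scheme.{u}} (j : X ⟶ Y) (f : Y ⟶ W) (g : X ⟶ W)
    (h : j ≫ f = g) (x : X) [IsIso (j.stalkMap x)] (hg : IsIso (g.stalkMap x)) :
    IsIso (f.stalkMap (j x)) := by
  subst h
  have hc := Scheme.Hom.stalkMap_comp j f x
  haveI hg' : IsIso (f.stalkMap (j x) ≫ j.stalkMap x) := hc ▸ hg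
  exact IsIso.of_isIso_comp_right _ (j.stalkMap x)

end general

section integral

variable {Z : Scheme.{u}} [IsIntegral Z]

/-- **Stacks 09NN, integral case, points of codimension exactly one**. -/
theorem exists_affine_of_fin [Z.IsSeparated] (r : ℕ) (hr : 1 ≤ r) (pts : Fin r → Z)
    (hpts : Function.Injective pts)
    (hN : ∀ i, IsNoetherianRing (Z.presheaf.stalk (pts i)))
    (hdim : ∀ i, ringKrullDim (Z.presheaf.stalk (pts i)) = 1) :
    ∃ U : Z.Opens, IsAffineOpen U ∧ ∀ i, pts i ∈ U := by
  classical
  let A : Fin r → Subring Z.functionField := fun i => stalkSubring (pts i)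
  haveI : ∀ i, IsNoetherianRing (A i) := fun i =>
    isNoetherianRing_of_ringEquiv _ (stalkEquiv (pts i))
  haveI : ∀ i, IsFractionRing (A i) Z.functionField := fun i =>
    inferInstanceAs (IsFractionRing (stalkSubring (pts i)) Z.functionField)
  haveI : ∀ i, Ring.KrullDimLE 1 (Z.presheaf.stalk (pts i)) := fun i =>
    Ring.krullDimLE_iff.2 (hdim i).le
  have hdimA : ∀ i, ringKrullDim (A i) = 1 := fun i => by
    rw [← ringKrullDim_eq_of_ringEquiv (stalkEquiv (pts i))]; exact hdim i
  have hsl : ∀ i, Finite (MaximalSpectrum (A i)) := fun i =>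
    inferInstanceAs (Finite (MaximalSpectrum (stalkSubring (pts i))))
  have hgenA : ∀ i j, i ≠ j → A i ⊔ A j = ⊤ := fun i j hij =>
    stalkSubring_sup_eq_top (pts i) (pts j) (hpts.ne hij)
  obtain ⟨-, -, -, hfrac, hopen, hcover, -⟩ :=
    Groth.Agent.S7665.result Z.functionField r hr A hdimA hsl hgenA
  let j : ∀ i, Spec (CommRingCat.of (A i)) ⟶ Spec (CommRingCat.of ↥(⨅ i, A i)) := fun i =>
    Spec.map (CommRingCat.ofHom (Subring.inclusion (iInf_le A i)))
  let 𝒰 : (Spec (CommRingCat.of ↥(⨅ i, A i))).OpenCover :=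
    Scheme.Cover.mkOfCovers (Fin r) (fun i => Spec (CommRingCat.of (A i))) j
      (fun x => by
        have hx : x ∈ ⋃ i, Set.range (j i).base := by rw [hcover]; trivial
        obtain ⟨i, y, hy⟩ := Set.mem_iUnion.1 hx
        exact ⟨i, y, hy⟩)
      hopen
  let fi : ∀ i, 𝒰.X i ⟶ Z := fun i => fromStalkSubring (pts i)
  have compat : ∀ a b, pullback.fst (𝒰.f a) (𝒰.f b) ≫ fi a = pullback.snd _ _ ≫ fi b := by
    intro a b
    haveI : IsOpenImmersion (j a) := hopen a
    haveI : IsOpenImmersion (j b) := hopen b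
    change pullback.fst (j a) (j b) ≫ fromStalkSubring (pts a) =
      pullback.snd (j a) (j b) ≫ fromStalkSubring (pts b)
    haveI : IsReduced (pullback (j a) (j b)) :=
      isReduced_of_isOpenImmersion (pullback.fst (j a) (j b))
    let ι : Spec Z.functionField ⟶ pullback (j a) (j b) :=
      pullback.lift
        (Spec.map (CommRingCat.ofHom (A a).subtype : CommRingCat.of (A a) ⟶ Z.functionField))
        (Spec.map (CommRingCat.ofHom (A b).subtype : CommRingCat.of (A b) ⟶ Z.functionField))
        (by simp only [j]; rw [← Spec.map_comp, ← Spec.map_comp]; rfl)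
    have h1 : ι ≫ pullback.fst (j a) (j b) =
        Spec.map (CommRingCat.ofHom (A a).subtype : CommRingCat.of (A a) ⟶ Z.functionField) :=
      pullback.lift_fst _ _ _
    have h2 : ι ≫ pullback.snd (j a) (j b) =
        Spec.map (CommRingCat.ofHom (A b).subtype : CommRingCat.of (A b) ⟶ Z.functionField) :=
      pullback.lift_snd _ _ _
    haveI : IsDominant (ι ≫ pullback.fst (j a) (j b)) := by
      rw [h1]; exact isDominant_SpecMap_of_injective _ Subtype.val_injective
    haveI : IsDominant ι := IsDominant.of_comp_of_isOpenImmersion ι (pullback.fst (j a) (j b))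
    refine ext_of_isDominant_of_isSeparated (terminal.from Z) (terminal.hom_ext _ _) ι ?_
    rw [← Category.assoc, h1, ← Category.assoc, h2]
    exact (subtype_fromStalkSubring (pts a)).trans (subtype_fromStalkSubring (pts b)).symm
  let f : Spec (CommRingCat.of ↥(⨅ i, A i)) ⟶ Z := 𝒰.glueMorphisms fi compat
  have hf : ∀ i, j i ≫ f = fromStalkSubring (pts i) := fun i => 𝒰.ι_glueMorphisms fi compat i
  have hX : (irreducibleComponents Z).Finite := by
    rw [irreducibleComponents_eq_singleton]; exact Set.finite_singleton _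
  have hbot : ∀ η : Spec (CommRingCat.of ↥(⨅ i, A i)), IsGen η → η.asIdeal = ⊥ := by
    intro η hη
    have := (isGen_spec_iff η).1 hη
    rw [IsDomain.minimalPrimes_eq_singleton_bot] at this
    exact this
  let i₀ : Fin r := ⟨0, hr⟩
  have hgen' : ∀ η : Spec (CommRingCat.of ↥(⨅ i, A i)), IsGen η → IsGen (f η) := by
    intro η hη
    let p₀ : Spec (CommRingCat.of (A i₀)) := ⟨⊥, Ideal.isPrime_bot⟩
    have hp₀ : j i₀ p₀ = η := by
      apply PrimeSpectrum.ext
      rw [hbot η hη]
      change Ideal.comap (Subring.inclusion (iInf_le A i₀)) ⊥ = ⊥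
      rw [← RingHom.ker_eq_comap_bot]
      exact (RingHom.injective_iff_ker_eq_bot _).1 (Subring.inclusion_injective _)
    have h3 : f η = genericPoint Z := by
      rw [← hp₀, ← Scheme.Hom.comp_apply, hf i₀]
      exact fromStalkSubring_of_eq_bot _ p₀ rfl
    rw [h3]
    exact isGen_genericPoint
  have hinj' : ∀ η η' : Spec (CommRingCat.of ↥(⨅ i, A i)), IsGen η → IsGen η' →
      f η = f η' → η = η' := by
    intro η η' hη hη' _
    exact PrimeSpectrum.ext ((hbot η hη).trans (hbot η' hη').symm)
  let s' : Finset (Spec (CommRingCat.of ↥(⨅ i, A i))) :=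
    Finset.univ.image (fun i => j i (closedPoint (A i)))
  have hs' : ∀ t ∈ s', IsIso (f.stalkMap t) := by
    intro t ht
    obtain ⟨i, -, rfl⟩ := Finset.mem_image.1 ht
    haveI : IsOpenImmersion (j i) := hopen i
    exact isIso_stalkMap_of_comp (j i) f _ (hf i) _ (isIso_stalkMap_fromStalkSubring (pts i))
  obtain ⟨U, hU, hUs⟩ := exists_affine f hX hgen' hinj' s' hs'
  refine ⟨U, hU, fun i => ?_⟩
  have h4 := hUs _ (Finset.mem_image.2 ⟨i, Finset.mem_univ _, rfl⟩)
  rw [← Scheme.Hom.comp_apply, hf i, fromStalkSubring_closedPoint] at h4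
  exact h4

theorem le_zero_of_le_one_of_ne (y : WithBot ℕ∞) (h1 : y ≤ 1) (h2 : y ≠ 1) : y ≤ 0 := by
  induction y with
  | bot => exact bot_le
  | coe n =>
    have h1' : n ≤ 1 := by exact_mod_cast h1
    have h2' : n ≠ 1 := fun h => h2 (by rw [h]; rfl)
    have : n = 0 := Order.lt_one_iff.1 (lt_of_le_of_ne h1' h2')
    rw [this]; rfl

/-- a point of an integral scheme whose local ring has dimension `≤ 0` is the generic point. -/
theorem eq_genericPoint_of_krullDimLE_zero (x : Z) (h : ringKrullDim (Z.presheaf.stalk x) ≤ 0) :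
    x = genericPoint Z := by
  haveI : Ring.KrullDimLE 0 (Z.presheaf.stalk x) := Ring.krullDimLE_iff.2 h
  have hgx : genericPoint Z ⤳ x := (genericPoint_spec Z).specializes (Set.mem_univ x)
  obtain ⟨w, hw⟩ := exists_fromSpecStalk_eq x (genericPoint Z) hgx
  have h1 : w.asIdeal.IsMaximal := Ideal.IsPrime.isMaximal' w.2
  have h2 : w = closedPoint (Z.presheaf.stalk x) :=
    PrimeSpectrum.ext (IsLocalRing.eq_maximalIdeal h1)
  rw [← hw, h2, Scheme.fromSpecStalk_closedPoint]

/-- **Stacks 09NN, integral case**. -/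
theorem exists_affine_of_isIntegral [Z.IsSeparated] (s : Finset Z)
    (hs : ∀ x ∈ s, IsNoetherianRing (Z.presheaf.stalk x) ∧
      ringKrullDim (Z.presheaf.stalk x) ≤ 1) :
    ∃ U : Z.Opens, IsAffineOpen U ∧ ∀ x ∈ s, x ∈ U := by
  classical
  let s₁ : Finset Z := s.filter (fun x => ringKrullDim (Z.presheaf.stalk x) = 1)
  have key : ∃ U : Z.Opens, IsAffineOpen U ∧ genericPoint Z ∈ U ∧ ∀ x ∈ s₁, x ∈ U := by
    by_cases hne : s₁.Nonempty
    · have hr : 1 ≤ s₁.card := Finset.card_pos.2 hne
      let pts : Fin s₁.card → Z := fun i => (s₁.equivFin.symm i).1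
      have hpts : Function.Injective pts := fun a b hab =>
        s₁.equivFin.symm.injective (Subtype.ext hab)
      have hmem : ∀ i, pts i ∈ s₁ := fun i => (s₁.equivFin.symm i).2
      obtain ⟨U, hU, hUp⟩ := exists_affine_of_fin s₁.card hr pts hpts
        (fun i => (hs _ (Finset.mem_filter.1 (hmem i)).1).1)
        (fun i => (Finset.mem_filter.1 (hmem i)).2)
      have hUne : (U : Set Z).Nonempty := ⟨pts ⟨0, hr⟩, hUp _⟩
      refine ⟨U, hU, ((genericPoint_spec Z).mem_open_set_iff U.2).2 ?_, fun x hx => ?_⟩
      · simpa using hUne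
      · have := hUp (s₁.equivFin ⟨x, hx⟩)
        simpa [pts] using this
    · obtain ⟨_, ⟨U, hU, rfl⟩, hxU, -⟩ := Z.isBasis_affineOpens.exists_subset_of_mem_open
        (Set.mem_univ (genericPoint Z)) isOpen_univ
      refine ⟨U, hU, hxU, fun x hx => ?_⟩
      exact absurd ⟨x, hx⟩ hne
  obtain ⟨U, hU, hgU, hUs⟩ := key
  refine ⟨U, hU, fun x hx => ?_⟩
  by_cases h1 : ringKrullDim (Z.presheaf.stalk x) = 1
  · exact hUs x (Finset.mem_filter.2 ⟨hx, h1⟩)
  · rw [eq_genericPoint_of_krullDimLE_zero x (le_zero_of_le_one_of_ne _ (hs x hx).2 h1)]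
    exact hgU

end integral

end Groth.Agent.Lib.T2H6.AffPts
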