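import Groth.Agent.Lib.T2H3TraceLength

/-!
# Trace on a finite local algebra via a surjection to a field; trace on a finite product
-/

set_option autoImplicit false
set_option linter.style.haveILetI false
universe u

namespace Groth.Agent.Lib.T2H3.TraceLocal

open Module IsLocalRing

/-- The trace on a finite product of finite algebras over a field is the sum of the traces. -/
theorem trace_pi {k : Type*} [Field k] {ι : Type*} [Fintype ι] [DecidableEq ι]
    (C : ι → Type*) [∀ i, CommRing (C i)] [∀ i, Algebra k (C i)] [∀ i, Module.Finite k (C i)]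
    (x : ∀ i, C i) :
    Algebra.trace k (∀ i, C i) x = ∑ i, Algebra.trace k (C i) (x i) := by
  classical
  let b : ∀ i, Basis (Fin (finrank k (C i))) k (C i) := fun i => Module.finBasis k (C i)
  let B := Pi.basis b
  rw [Algebra.trace_eq_matrix_trace B x, Matrix.trace, Fintype.sum_sigma]
  refine Finset.sum_congr rfl fun i _ => ?_
  rw [Algebra.trace_eq_matrix_trace (b i) (x i), Matrix.trace]
  refine Finset.sum_congr rfl fun j _ => ?_
  rw [Matrix.diag_apply, Matrix.diag_apply, Algebra.leftMulMatrix_eq_repr_mul,
    Algebra.leftMulMatrix_eq_repr_mul, Pi.basis_repr, Pi.basis_apply]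
  congr 2
  simp

variable (k C : Type u) [Field k] [CommRing C] [Algebra k C] [IsLocalRing C] [Module.Finite k C]

theorem trace_eq_length_smul_residue (c : C) : Algebra.trace k C c =
    (Module.length C C).toNat • Algebra.trace k (ResidueField C) (residue C c) := by
  have := Groth.Agent.Lib.T2H3.TraceLength.aux k C c _ C rfl
  rw [← this, Algebra.trace_apply]
  rfl

theorem finrank_eq_length_mul_residue :
    finrank k C = (Module.length C C).toNat * finrank k (ResidueField C) := by
  have h1 := IsLocalRing.length_restrictScalars k C C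
  have h2 : Module.length (ResidueField k) (ResidueField C) = Module.length k (ResidueField C) :=
    (Module.length_eq_of_surjective (S := k) (R := ResidueField k) (M := ResidueField C)
      residue_surjective).symm
  rw [h2, Module.length_eq_finrank, Module.length_eq_finrank] at h1
  haveI : IsArtinianRing C := IsArtinianRing.of_finite k C
  have hne : Module.length C C ≠ ⊤ := Module.length_ne_top
  obtain ⟨l, hl⟩ := ENat.ne_top_iff_exists.mp hne
  rw [← hl] at h1 ⊢
  rw [ENat.toNat_natCast]
  exact_mod_cast h1

variable {k C} {k' : Type u} [Field k'] [Algebra k k'] (φ : C →ₐ[k] k')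
  (hφ : Function.Surjective φ)

include hφ

/-- the residue field is the target of any surjection to a field -/
theorem exists_residue_equiv : ∃ ψ : ResidueField C ≃ₐ[k] k', ∀ c, ψ (residue C c) = φ c := by
  have hker : RingHom.ker φ = maximalIdeal C := by
    haveI : (RingHom.ker φ.toRingHom).IsMaximal := RingHom.ker_isMaximal_of_surjective _ hφ
    exact IsLocalRing.eq_maximalIdeal this
  let e1 : (C ⧸ maximalIdeal C) ≃ₐ[k] (C ⧸ RingHom.ker φ) := Ideal.quotientEquivAlgOfEq k hker.symm
  let e2 : (C ⧸ RingHom.ker φ) ≃ₐ[k] k' := Ideal.quotientKerAlgEquivOfSurjective hφ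
  refine ⟨e1.trans e2, fun c => ?_⟩
  rfl

theorem trace_eq_length_smul (c : C) : Algebra.trace k C c =
    (Module.length C C).toNat • Algebra.trace k k' (φ c) := by
  obtain ⟨ψ, hψ⟩ := exists_residue_equiv φ hφ
  rw [trace_eq_length_smul_residue, ← hψ, Algebra.trace_eq_of_algEquiv ψ]

theorem finrank_eq_length_mul :
    finrank k C = (Module.length C C).toNat * finrank k k' := by
  obtain ⟨ψ, hψ⟩ := exists_residue_equiv φ hφ
  rw [finrank_eq_length_mul_residue, ψ.toLinearEquiv.finrank_eq]

end Groth.Agent.Lib.T2H3.TraceLocal
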