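import Mathlib
import Groth.Prelude.Def_Cyc
import Groth.Agent.Lib.Helper4VarDim13
import Groth.Agent.Lib.Helper10FibStalk
import Groth.Agent.Lib.T2H3TraceLocal
set_option backward.isDefEq.respectTransparency.types false

/-!
# Lengths and residue degrees at the points of a fibre (helper4)

Namespace `Groth.Agent.Lib.T2H4.FibreDeg`.
-/

set_option autoImplicit false
set_option linter.style.haveILetI false
universe u
open CategoryTheory CategoryTheory.Limits AlgebraicGeometry TopologicalSpace Opposite

namespace Groth.Agent.Lib.T2H4.FibreDeg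

open Groth.Agent.Lib.Helper4.VarDim

/-- The degree of `L` over a residue field of `S` only depends on the corresponding morphism
`Spec L ⟶ S`. -/
theorem finrank_eq_of_SpecMap_comp_eq {S : Scheme.{u}} {L : Type u} [Field L] (s s' : S)
    (φ : S.residueField s ⟶ CommRingCat.of L) (φ' : S.residueField s' ⟶ CommRingCat.of L)
    (h : Spec.map φ ≫ S.fromSpecResidueField s = Spec.map φ' ≫ S.fromSpecResidueField s') :
    @Module.finrank (S.residueField s) L _ _ φ.hom.toAlgebra.toModule =
      @Module.finrank (S.residueField s') L _ _ φ'.hom.toAlgebra.toModule := by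
  have h2 : (⟨s, φ⟩ : Σ x, S.residueField x ⟶ CommRingCat.of L) = ⟨s', φ'⟩ :=
    (Scheme.SpecToEquivOfField L S).symm.injective h
  obtain ⟨rfl, h3⟩ := Sigma.mk.inj_iff.mp h2
  obtain rfl := eq_of_heq h3
  rfl

theorem finrank_eq_of_bijective {K L L' : Type u} [Field K] [Field L] [Field L'] (a : K →+* L)
    (b : L →+* L') (hb : Function.Bijective b) :
    @Module.finrank K L _ _ a.toAlgebra.toModule =
      @Module.finrank K L' _ _ (b.comp a).toAlgebra.toModule := by
  letI := a.toAlgebra
  letI := (b.comp a).toAlgebra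
  let e : L ≃ₐ[K] L' := { RingEquiv.ofBijective b hb with commutes' := fun c => rfl }
  exact e.toLinearEquiv.finrank_eq

attribute [local instance] Curv2.resAlgebra Curv2.stalkAlgebra

/-- The residue degree of `f` at a point of the fibre, computed in the fibre. -/
theorem residueDegree_fiber {X S : Scheme.{u}} (f : X ⟶ S) (s : S) (z : f.fiber s) :
    letI : (f.fiber s).Over (Spec (CommRingCat.of (S.residueField s))) :=
      ⟨f.fiberToSpecResidueField s⟩
    f.residueDegree (f.fiberι s z) =
      Module.finrank (S.residueField s) ((f.fiber s).residueField z) := by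
  letI : (f.fiber s).Over (Spec (CommRingCat.of (S.residueField s))) :=
    ⟨f.fiberToSpecResidueField s⟩
  unfold Scheme.Hom.residueDegree
  rw [finrank_eq_of_bijective (f.residueFieldMap (f.fiberι s z)).hom
    ((f.fiberι s).residueFieldMap z).hom (residueFieldMap_bijective_of_isPreimmersion _ z)]
  have h1 : ((f.fiberι s).residueFieldMap z).hom.comp (f.residueFieldMap (f.fiberι s z)).hom =
      ((f.fiberι s ≫ f).residueFieldMap z).hom := by
    rw [Scheme.residueFieldMap_comp]
    rfl
  rw [h1]
  have h2 := SpecMap_resMap (S.residueField s) (f.fiber s) z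
  have h3 : Spec.map ((f.fiberι s ≫ f).residueFieldMap z) ≫
      S.fromSpecResidueField ((f.fiberι s ≫ f) z) =
      Spec.map (CommRingCat.ofHom (Curv2.resMap (S.residueField s) (f.fiber s) z)) ≫
        S.fromSpecResidueField s := by
    rw [Scheme.Hom.SpecMap_residueFieldMap_fromSpecResidueField, f.fiber_fac s]
    erw [h2]
    rw [Category.assoc]
    rfl
  exact finrank_eq_of_SpecMap_comp_eq (L := (f.fiber s).residueField z) _ _ _ _ h3

/-- The length of the local ring of the fibre at a point. -/
theorem length_fiber {X S : Scheme.{u}} (f : X ⟶ S) (s : S) (z : f.fiber s) :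
    Module.length (X.presheaf.stalk (f.fiberι s z))
      (X.presheaf.stalk (f.fiberι s z) ⧸ Ideal.map (f.stalkMap (f.fiberι s z)).hom
        (IsLocalRing.maximalIdeal (S.presheaf.stalk (f (f.fiberι s z))))) =
    Module.length ((f.fiber s).presheaf.stalk z) ((f.fiber s).presheaf.stalk z) := by
  rw [← Groth.Agent.Lib.Helper10.FibStalk.ker_eq_map f s z]
  have hσ : Function.Surjective ((f.fiberι s).stalkMap z).hom := (f.fiberι s).stalkMap_surjective z
  letI : Algebra (X.presheaf.stalk (f.fiberι s z)) ((f.fiber s).presheaf.stalk z) :=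
    ((f.fiberι s).stalkMap z).hom.toAlgebra
  let e : (X.presheaf.stalk (f.fiberι s z) ⧸ RingHom.ker ((f.fiberι s).stalkMap z).hom)
      ≃ₗ[X.presheaf.stalk (f.fiberι s z)] ((f.fiber s).presheaf.stalk z) :=
    { (RingHom.quotientKerEquivOfSurjective hσ).toAddEquiv with
      map_smul' := fun r m => by
        obtain ⟨a, rfl⟩ := Ideal.Quotient.mk_surjective m
        change (RingHom.quotientKerEquivOfSurjective hσ) (r • Ideal.Quotient.mk _ a) =
          ((f.fiberι s).stalkMap z).hom r * (RingHom.quotientKerEquivOfSurjective hσ)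
            (Ideal.Quotient.mk _ a)
        have h1 : r • (Ideal.Quotient.mk (RingHom.ker ((f.fiberι s).stalkMap z).hom)) a =
            (Ideal.Quotient.mk _) r * (Ideal.Quotient.mk _) a := rfl
        rw [h1, map_mul]
        rfl }
  rw [e.length_eq]
  exact Module.length_eq_of_surjective hσ


section overField

variable (k : Type u) [Field k] (Z : Scheme.{u}) [Z.Over (Spec (CommRingCat.of k))]
  [IsFinite (Z ↘ Spec (CommRingCat.of k))]

include k in
theorem isAffine_of_finite : IsAffine Z := isAffine_of_isAffineHom (Z ↘ Spec (CommRingCat.of k))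

/-- the structure map on global sections -/
noncomputable def gMap : k →+* Γ(Z, ⊤) :=
  (Z ↘ Spec (CommRingCat.of k)).appTop.hom.comp (Scheme.ΓSpecIso (CommRingCat.of k)).inv.hom

/-- the global sections as a `k`-algebra -/
noncomputable abbrev gAlgebra : Algebra k Γ(Z, ⊤) := (gMap k Z).toAlgebra

theorem finite_gMap : (gMap k Z).Finite := by
  unfold gMap
  refine RingHom.Finite.comp (Scheme.Hom.finite_appTop _) ?_
  exact RingHom.Finite.of_surjective _
    (ConcreteCategory.bijective_of_isIso (Scheme.ΓSpecIso (CommRingCat.of k)).inv).2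

theorem finite_global : @Module.Finite k Γ(Z, ⊤) _ _ (gAlgebra k Z).toModule :=
  finite_gMap k Z

omit [IsFinite (Z ↘ Spec (CommRingCat.of k))] in
theorem stalkMap_eq (z : Z) (c : k) :
    Curv2.stalkMap k Z z c = (Z.presheaf.germ ⊤ z trivial).hom (gMap k Z c) := rfl


/-- the local rings of a finite `k`-scheme are finite over `k` -/
theorem finite_stalk (z : Z) : Module.Finite k (Z.presheaf.stalk z) := by
  haveI := isAffine_of_finite k Z
  letI := gAlgebra k Z
  haveI := finite_global k Z
  haveI : IsArtinianRing Γ(Z, ⊤) := IsArtinianRing.of_finite k _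
  letI : Algebra Γ(Z, ⊤) (Z.presheaf.stalk z) :=
    TopCat.Presheaf.algebra_section_stalk Z.presheaf (⟨z, trivial⟩ : (⊤ : Z.Opens))
  haveI : IsScalarTower k Γ(Z, ⊤) (Z.presheaf.stalk z) :=
    IsScalarTower.of_algebraMap_eq (fun c => rfl)
  haveI hloc := (isAffineOpen_top Z).isLocalization_stalk ⟨z, trivial⟩
  have hsurj : Function.Surjective (algebraMap Γ(Z, ⊤) (Z.presheaf.stalk z)) :=
    IsArtinianRing.localization_surjective
      ((isAffineOpen_top Z).primeIdealOf ⟨z, trivial⟩).asIdeal.primeCompl _
  exact Module.Finite.of_surjective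
    (IsScalarTower.toAlgHom k Γ(Z, ⊤) (Z.presheaf.stalk z)).toLinearMap hsurj

/-- the degree of a local ring of a finite `k`-scheme: length times residue degree -/
theorem finrank_stalk (z : Z) :
    Module.finrank k (Z.presheaf.stalk z) =
      (Module.length (Z.presheaf.stalk z) (Z.presheaf.stalk z)).toNat *
        Module.finrank k (Z.residueField z) := by
  haveI := finite_stalk k Z z
  rw [Groth.Agent.Lib.T2H3.TraceLocal.finrank_eq_length_mul_residue k (Z.presheaf.stalk z)]
  rfl

/-- the local ring as a localization of the ring of global sections: same degree -/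
theorem finrank_stalk_eq_localization (z : Z) :
    letI := gAlgebra k Z
    haveI := isAffine_of_finite k Z
    Module.finrank k (Z.presheaf.stalk z) =
      Module.finrank k
        (Localization.AtPrime ((isAffineOpen_top Z).primeIdealOf ⟨z, trivial⟩).asIdeal) := by
  haveI := isAffine_of_finite k Z
  letI := gAlgebra k Z
  letI : Algebra Γ(Z, ⊤) (Z.presheaf.stalk z) :=
    TopCat.Presheaf.algebra_section_stalk Z.presheaf (⟨z, trivial⟩ : (⊤ : Z.Opens))
  haveI : IsScalarTower k Γ(Z, ⊤) (Z.presheaf.stalk z) :=
    IsScalarTower.of_algebraMap_eq (fun c => rfl)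
  haveI hloc := (isAffineOpen_top Z).isLocalization_stalk ⟨z, trivial⟩
  let e := IsLocalization.algEquiv ((isAffineOpen_top Z).primeIdealOf ⟨z, trivial⟩).asIdeal.primeCompl
    (Z.presheaf.stalk z)
    (Localization.AtPrime ((isAffineOpen_top Z).primeIdealOf ⟨z, trivial⟩).asIdeal)
  exact ((e.restrictScalars k).toLinearEquiv).finrank_eq

/-- **the degree of a finite `k`-scheme is the sum of the local degrees** -/
theorem finrank_global_eq_finsum :
    @Module.finrank k Γ(Z, ⊤) _ _ (gAlgebra k Z).toModule =
      ∑ᶠ z : Z, (Module.length (Z.presheaf.stalk z) (Z.presheaf.stalk z)).toNat *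
        Module.finrank k (Z.residueField z) := by
  haveI := isAffine_of_finite k Z
  letI := gAlgebra k Z
  haveI := finite_global k Z
  haveI : IsArtinianRing Γ(Z, ⊤) := IsArtinianRing.of_finite k _
  letI : Fintype (PrimeSpectrum Γ(Z, ⊤)) := Fintype.ofFinite _
  rw [IsArtinianRing.finrank_eq_sum_primeSpectrum Γ(Z, ⊤) k, ← finsum_eq_sum_of_fintype]
  have hbij : Function.Bijective
      (fun z : Z => (isAffineOpen_top Z).primeIdealOf ⟨z, trivial⟩) := by
    constructor
    · intro z z' h
      exact Groth.Agent.Lib.Helper4.VarDim.primeIdealOf_injective (isAffineOpen_top Z) z z'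
        trivial trivial h
    · intro q
      exact ⟨(isAffineOpen_top Z).fromSpec q,
        Groth.Agent.Lib.Helper4.VarDim.primeIdealOf_fromSpec (isAffineOpen_top Z) q trivial⟩
  rw [← finsum_eq_of_bijective _ hbij (fun z => rfl)]
  refine finsum_congr (fun z => ?_)
  rw [← finrank_stalk k Z z]
  exact (finrank_stalk_eq_localization k Z z).symm


/-- the rank of the structure morphism of a finite `k`-scheme is the degree of its ring of global
sections -/
theorem finrank_structure [Flat (Z ↘ Spec (CommRingCat.of k))] (pt : Spec (CommRingCat.of k)) :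
    (Z ↘ Spec (CommRingCat.of k)).finrank pt =
      @Module.finrank k Γ(Z, ⊤) _ _ (gAlgebra k Z).toModule := by
  haveI := isAffine_of_finite k Z
  let ψ' : CommRingCat.of k ⟶ Γ(Z, ⊤) :=
    (Scheme.ΓSpecIso (CommRingCat.of k)).inv ≫ (Z ↘ Spec (CommRingCat.of k)).appTop
  have hq : (Z ↘ Spec (CommRingCat.of k)) = Z.isoSpec.hom ≫ Spec.map ψ' := by
    rw [Scheme.isoSpec_hom]
    simp only [ψ', Spec.map_comp]
    rw [← Scheme.toSpecΓ_naturality_assoc, ← SpecMap_ΓSpecIso_hom, ← Spec.map_comp,
      Iso.inv_hom_id, Spec.map_id, Category.comp_id]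
  have hfin : ψ'.hom.Finite := finite_gMap k Z
  have hflat : ψ'.hom.Flat := by
    letI := ψ'.hom.toAlgebra
    change Module.Flat k Γ(Z, ⊤)
    infer_instance
  haveI : IsFinite (Spec.map ψ') := (IsFinite.SpecMap_iff _).2 hfin
  haveI : Flat (Spec.map ψ') := Flat.SpecMap_iff.2 hflat
  rw [hq, Scheme.Hom.finrank_comp_left_of_isIso, Scheme.Hom.finrank_SpecMap_eq_finrank hfin hflat]
  unfold RingHom.finrank
  letI := ψ'.hom.toAlgebra
  rw [Module.rankAtStalk_eq_finrank_of_free]
  rfl

end overField


/-- **the degree of a finite flat morphism at a point is the sum over the fibre of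
(length of the local ring of the fibre) × (residue degree)** -/
theorem finsum_fibre {X Y : Scheme.{u}} (f : X ⟶ Y) [IsFinite f] [Flat f] (y : Y) :
    ∑ᶠ x ∈ f ⁻¹' {y}, ((Module.length (X.presheaf.stalk x)
      (X.presheaf.stalk x ⧸ Ideal.map (f.stalkMap x).hom
        (IsLocalRing.maximalIdeal (Y.presheaf.stalk (f x))))).toNat * f.residueDegree x) =
      f.finrank y := by
  letI : (f.fiber y).Over (Spec (CommRingCat.of (Y.residueField y))) :=
    ⟨f.fiberToSpecResidueField y⟩
  haveI : IsFinite ((f.fiber y) ↘ Spec (CommRingCat.of (Y.residueField y))) :=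
    inferInstanceAs (IsFinite (pullback.snd f (Y.fromSpecResidueField y)))
  haveI : Flat ((f.fiber y) ↘ Spec (CommRingCat.of (Y.residueField y))) :=
    inferInstanceAs (Flat (pullback.snd f (Y.fromSpecResidueField y)))
  have h1 : f.finrank y = ((f.fiber y) ↘ Spec (CommRingCat.of (Y.residueField y))).finrank
      (IsLocalRing.closedPoint (Y.residueField y)) := by
    have := Scheme.Hom.finrank_pullback_snd f (Y.fromSpecResidueField y)
      (IsLocalRing.closedPoint (Y.residueField y))
    rw [Scheme.fromSpecResidueField_apply] at this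
    exact this.symm
  rw [h1, finrank_structure, finrank_global_eq_finsum, ← f.range_fiberι y,
    finsum_mem_range (f.fiberι y).isEmbedding.injective]
  refine finsum_congr fun z => ?_
  rw [length_fiber f y z, residueDegree_fiber f y z]

end Groth.Agent.Lib.T2H4.FibreDeg
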