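import Mathlib
import Groth.Prelude.Def_Cyc
import Groth.Agent.Lib.Helper3RelDim
import Groth.Agent.Lib.Helper4DimFormulaAD
import Groth.Agent.Lib.Helper4DimFormulaY
set_option backward.isDefEq.respectTransparency.types false

/-!
# Flat pullback of cycles is compatible with composition (helper4)

Namespace `Groth.Agent.Lib.T2H4.PullComp`.
-/

set_option autoImplicit false
set_option linter.style.haveILetI false
universe u
open CategoryTheory CategoryTheory.Limits AlgebraicGeometry TopologicalSpace Opposite TensorProduct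

namespace Groth.Agent.Lib.T2H4.PullComp

open Groth.Agent.Lib.Helper4.DimFormula

/-- for a flat local homomorphism `A → B` and an ideal `I` of `A`:
`ℓ_B(B/IB) = ℓ_A(A/I) · ℓ_B(B/𝔪_A B)` -/
theorem length_quot_map_of_flat (A B : Type u) [CommRing A] [CommRing B] [IsLocalRing A]
    [IsLocalRing B] [Algebra A B] [IsLocalHom (algebraMap A B)] [Module.Flat A B] (I : Ideal A) :
    Module.length B (B ⧸ I.map (algebraMap A B)) =
      Module.length A (A ⧸ I) *
        Module.length B (B ⧸ (IsLocalRing.maximalIdeal A).map (algebraMap A B)) := by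
  rw [← IsLocalRing.length_baseChange A B (A ⧸ I)]
  exact (Algebra.TensorProduct.quotIdealMapEquivTensorQuot B I).toLinearEquiv.length_eq

variable {X Y Z : Scheme.{u}} (f : X ⟶ Y) (g : Y ⟶ Z)

/-- multiplicativity of the multiplicities of flat pullback -/
theorem length_comp [Flat f] (x : X) :
    Module.length (X.presheaf.stalk x) (X.presheaf.stalk x ⧸
        Ideal.map ((f ≫ g).stalkMap x).hom
          (IsLocalRing.maximalIdeal (Z.presheaf.stalk ((f ≫ g) x)))) =
      Module.length (Y.presheaf.stalk (f x)) (Y.presheaf.stalk (f x) ⧸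
        Ideal.map (g.stalkMap (f x)).hom (IsLocalRing.maximalIdeal (Z.presheaf.stalk (g (f x))))) *
      Module.length (X.presheaf.stalk x) (X.presheaf.stalk x ⧸
        Ideal.map (f.stalkMap x).hom (IsLocalRing.maximalIdeal (Y.presheaf.stalk (f x)))) := by
  letI : Algebra (Y.presheaf.stalk (f x)) (X.presheaf.stalk x) := (f.stalkMap x).hom.toAlgebra
  haveI : IsLocalHom (algebraMap (Y.presheaf.stalk (f x)) (X.presheaf.stalk x)) :=
    inferInstanceAs (IsLocalHom (f.stalkMap x).hom)
  haveI : Module.Flat (Y.presheaf.stalk (f x)) (X.presheaf.stalk x) := Flat.stalkMap f x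
  have h := length_quot_map_of_flat (Y.presheaf.stalk (f x)) (X.presheaf.stalk x)
    (Ideal.map (g.stalkMap (f x)).hom (IsLocalRing.maximalIdeal (Z.presheaf.stalk (g (f x)))))
  have hI : Ideal.map ((f ≫ g).stalkMap x).hom
      (IsLocalRing.maximalIdeal (Z.presheaf.stalk ((f ≫ g) x))) =
      (Ideal.map (g.stalkMap (f x)).hom
        (IsLocalRing.maximalIdeal (Z.presheaf.stalk (g (f x))))).map
          (algebraMap (Y.presheaf.stalk (f x)) (X.presheaf.stalk x)) := by
    rw [Ideal.map_map, Scheme.Hom.stalkMap_comp]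
    rfl
  rw [hI]
  exact h

/-- **flat pullback of cycles is compatible with composition**: general form, for dimension
functions that rise by at most `a` along `f` and at most `b` along `g` -/
theorem pullFun_comp_of_le [Flat f] (δX : X → ℤ) (δY : Y → ℤ) (δZ : Z → ℤ) (a b : ℤ)
    (hf : ∀ x, δX x ≤ δY (f x) + a) (hg : ∀ y, δY y ≤ δZ (g y) + b) (α : Z → ℤ) :
    Cyc.pullFun f δX δY a (Cyc.pullFun g δY δZ b α) = Cyc.pullFun (f ≫ g) δX δZ (a + b) α := by
  funext x
  unfold Cyc.pullFun
  have h1 := hf x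
  have h2 := hg (f x)
  have hz : (f ≫ g) x = g (f x) := rfl
  by_cases h3 : δX x = δY (f x) + a
  · by_cases h4 : δY (f x) = δZ (g (f x)) + b
    · have h5 : δX x = δZ ((f ≫ g) x) + (a + b) := by rw [hz]; omega
      rw [if_pos h3, if_pos h4, if_pos h5, length_comp, ENat.toNat_mul]
      push_cast
      have : α ((f ≫ g) x) = α (g (f x)) := rfl
      rw [this]
      ring
    · have h5 : ¬ δX x = δZ ((f ≫ g) x) + (a + b) := by rw [hz]; omega
      rw [if_pos h3, if_neg h4, if_neg h5, zero_mul]
  · have h5 : ¬ δX x = δZ ((f ≫ g) x) + (a + b) := by rw [hz]; omega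
    rw [if_neg h3, if_neg h5]

/-- a point of the fibre of `p` through `x'` which is maximal in this fibre and specializes to
`x'` -/
theorem exists_maximal_in_fibre {X' : Scheme.{u}} (p : X' ⟶ X) (x' : X') :
    ∃ y : X', y ⤳ x' ∧ p y = p x' ∧ ∀ w : X', p w = p y → w ⤳ y → w = y := by
  obtain ⟨η, hη, hmax⟩ := Groth.Agent.Lib.Helper4.DimFormula.exists_maximal_specializes
    (p.fiber (p x')) (p.asFiber x')
  have hy : p (p.fiberι (p x') η) = p x' := by
    have : p.fiberι (p x') η ∈ Set.range (p.fiberι (p x')) := ⟨η, rfl⟩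
    rw [p.range_fiberι] at this
    exact this
  refine ⟨p.fiberι (p x') η, ?_, hy, fun w hw hwy => ?_⟩
  · have := hη.map (p.fiberι (p x')).continuous
    rwa [p.fiberι_asFiber] at this
  · have hw' : w ∈ Set.range (p.fiberι (p x')) := by
      rw [p.range_fiberι]
      exact hw.trans hy
    obtain ⟨w', rfl⟩ := hw'
    have h1 : w' ⤳ η := (p.fiberι (p x')).isEmbedding.isInducing.specializes_iff.1 hwy
    rw [hmax w' h1]

/-- a dimension function with a shift `c` at the maximal points of the fibres rises by at most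
`c` along `p` -/
theorem le_of_shift {X' : Scheme.{u}} (p : X' ⟶ X) (δ : X → ℤ) (δ' : X' → ℤ)
    (hδ' : Cyc.IsDimFun X' δ') (c : ℤ)
    (hc : ∀ x' : X', (∀ y, p y = p x' → y ⤳ x' → y = x') → δ' x' = δ (p x') + c) (x' : X') :
    δ' x' ≤ δ (p x') + c := by
  obtain ⟨y, hyx, hpy, hmax⟩ := exists_maximal_in_fibre p x'
  have h1 := hc y hmax
  rw [hpy] at h1
  by_cases hne : y = x'
  · rw [← hne] at h1 ⊢
    rw [hne] at h1
    rw [hne]
    exact h1.le
  · have := (hδ' y x' hyx hne).1
    omega

/-- equality holds exactly at the maximal points of the fibres -/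
theorem eq_shift_iff {X' : Scheme.{u}} (p : X' ⟶ X) (δ : X → ℤ) (δ' : X' → ℤ)
    (hδ' : Cyc.IsDimFun X' δ') (c : ℤ)
    (hc : ∀ x' : X', (∀ y, p y = p x' → y ⤳ x' → y = x') → δ' x' = δ (p x') + c) (x' : X') :
    δ' x' = δ (p x') + c ↔ ∀ y, p y = p x' → y ⤳ x' → y = x' := by
  refine ⟨fun h y hy hyx => ?_, hc x'⟩
  by_contra hne
  have h1 := (hδ' y x' hyx hne).1
  have h2 := le_of_shift p δ δ' hδ' c hc y
  rw [hy] at h2
  omega

variable [LocallyOfFiniteType f]

/-- the transcendence degree of a residue field extension is at most the relative dimension -/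
theorem ptTrdeg_le (r : ℕ) (hr : Cyc.HasRelDim f r) (x : X) : ptTrdeg f x ≤ r := by
  have h1 := (Groth.Agent.Lib.Helper3.RelDim.hasRelDim_iff_forall_fibreDimAt_eq f r).1 hr x
  rw [fibreDimAt_eq_stalk_add_ptTrdeg] at h1
  have h2 : (0 : WithBot ℕ∞) ≤ ringKrullDim ((f.fiber (f.base x)).presheaf.stalk (f.asFiber x)) :=
    ringKrullDim_nonneg_of_nontrivial
  have h3 : ((ptTrdeg f x : ℕ) : WithBot ℕ∞) ≤ (r : WithBot ℕ∞) := by
    rw [← h1]
    exact le_add_of_nonneg_left h2
  exact_mod_cast h3

/-- the dimension function upstairs, in terms of `ptTrdeg` -/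
theorem delta_eq_add_ptTrdeg (δX : X → ℤ) (δY : Y → ℤ) (hδ : Cyc.DeltaCompat f δX δY) (x : X) :
    δX x = δY (f x) + ptTrdeg f x := by
  obtain ⟨n, hn, h⟩ := hδ x
  have h1 := trdeg_eq_ptTrdeg f x
  have h2 : (n : Cardinal.{u}) = (ptTrdeg f x : Cardinal.{u}) := hn.symm.trans h1
  have h3 : n = ptTrdeg f x := by exact_mod_cast h2
  rw [h, h3]

/-- a compatible dimension function rises by at most the relative dimension -/
theorem le_of_hasRelDim (δX : X → ℤ) (δY : Y → ℤ) (hδ : Cyc.DeltaCompat f δX δY) (r : ℕ)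
    (hr : Cyc.HasRelDim f r) (x : X) : δX x ≤ δY (f x) + r := by
  have h1 := ptTrdeg_le f r hr x
  rw [delta_eq_add_ptTrdeg f δX δY hδ x]
  omega

end Groth.Agent.Lib.T2H4.PullComp
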