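import Mathlib
import Groth.Prelude.Def_Cyc
import Groth.Agent.Lib.T2H4FibreDeg
import Groth.Agent.Lib.T2H4PullComp
set_option backward.isDefEq.respectTransparency.types false

/-!
# Proper pushforward and flat pullback on a cartesian square: the local identity (helper4)

Namespace `Groth.Agent.Lib.T2H4.PushPull`.

For `f : Y ⟶ X`, `p : X' ⟶ X` flat, `Y' = Y ×_X X'` with projections `q` to `Y` and `f'` to `X'`,
a point `y` of `Y` with `κ(y)/κ(f y)` finite and a point `x'` of `X'` over `f y`:
`∑_{y' ↦ (y, x')} ℓ(O_{Y',y'}/𝔪_y O_{Y',y'}) [κ(y') : κ(x')] = ℓ(O_{X',x'}/𝔪_{f y} O_{X',x'}) [κ(y) : κ(f y)]`.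
-/

set_option autoImplicit false
set_option linter.style.haveILetI false
universe u
open CategoryTheory CategoryTheory.Limits AlgebraicGeometry TopologicalSpace Opposite

namespace Groth.Agent.Lib.T2H4.PushPull

open Groth.Agent.Lib.T2H4.FibreDeg Groth.Agent.Lib.T2H4.PullComp

variable {X X' Y : Scheme.{u}} (f : Y ⟶ X) (p : X' ⟶ X)

/-- the morphism from the fibre of `Y ×_X X' ⟶ Y` over `y` to the fibre of `X' ⟶ X` over `f y` -/
noncomputable def fibMap (y : Y) : (pullback.fst f p).fiber y ⟶ p.fiber (f y) :=
  pullback.map (pullback.fst f p) (Y.fromSpecResidueField y) p (X.fromSpecResidueField (f y))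
    (pullback.snd f p) (Spec.map (f.residueFieldMap y)) f pullback.condition (by simp)

@[reassoc]
theorem fibMap_fiberι (y : Y) :
    fibMap f p y ≫ p.fiberι (f y) = (pullback.fst f p).fiberι y ≫ pullback.snd f p := by
  unfold fibMap Scheme.Hom.fiberι
  exact pullback.lift_fst _ _ _

theorem fibMap_apply (y : Y) (z : (pullback.fst f p).fiber y) :
    p.fiberι (f y) (fibMap f p y z) = pullback.snd f p ((pullback.fst f p).fiberι y z) := by
  rw [← Scheme.Hom.comp_apply, fibMap_fiberι, Scheme.Hom.comp_apply]

theorem isPullback_fibMap (y : Y) :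
    IsPullback (fibMap f p y) ((pullback.fst f p).fiberToSpecResidueField y)
      (p.fiberToSpecResidueField (f y)) (Spec.map (f.residueFieldMap y)) :=
  isPullback_fiberToSpecResidueField_of_isPullback (IsPullback.of_hasPullback f p).flip y

theorem isFinite_SpecMap (y : Y) (hfin : (f.residueFieldMap y).hom.Finite) :
    IsFinite (Spec.map (f.residueFieldMap y)) := (IsFinite.SpecMap_iff _).2 hfin

theorem flat_SpecMap (y : Y) : Flat (Spec.map (f.residueFieldMap y)) := by
  rw [Flat.SpecMap_iff]
  letI := (f.residueFieldMap y).hom.toAlgebra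
  change Module.Flat (X.residueField (f y)) (Y.residueField y)
  infer_instance

theorem isFinite_fibMap (y : Y) (hfin : (f.residueFieldMap y).hom.Finite) :
    IsFinite (fibMap f p y) :=
  MorphismProperty.of_isPullback (P := @IsFinite) (isPullback_fibMap f p y).flip
    (isFinite_SpecMap f y hfin)

theorem flat_fibMap (y : Y) : Flat (fibMap f p y) :=
  MorphismProperty.of_isPullback (P := @Flat) (isPullback_fibMap f p y).flip (flat_SpecMap f y)

theorem finrank_fibMap (y : Y) (hfin : (f.residueFieldMap y).hom.Finite) (w : p.fiber (f y)) :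
    (fibMap f p y).finrank w = f.residueDegree y := by
  haveI := isFinite_SpecMap f y hfin
  haveI := flat_SpecMap f y
  rw [Scheme.Hom.finrank_of_isPullback _ _ _ _ (isPullback_fibMap f p y).flip,
    Scheme.Hom.finrank_SpecMap_eq_finrank hfin (Flat.SpecMap_iff.1 (flat_SpecMap f y))]
  unfold RingHom.finrank Scheme.Hom.residueDegree
  letI := (f.residueFieldMap y).hom.toAlgebra
  rw [Module.rankAtStalk_eq_finrank_of_free]
  rfl

theorem finrank_eq_of_bijective_base {K K' L : Type u} [Field K] [Field K'] [Field L]
    (a : K →+* K') (b : K' →+* L) (ha : Function.Bijective a) :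
    @Module.finrank K' L _ _ b.toAlgebra.toModule =
      @Module.finrank K L _ _ (b.comp a).toAlgebra.toModule := by
  letI := b.toAlgebra
  letI := (b.comp a).toAlgebra
  letI := a.toAlgebra
  haveI : IsScalarTower K K' L := IsScalarTower.of_algebraMap_eq (fun c => rfl)
  have h1 : Module.finrank K K' = 1 := by
    let e : K ≃ₗ[K] K' :=
      { (RingEquiv.ofBijective a ha).toAddEquiv with
        map_smul' := fun r m => by
          change a (r * m) = a r * a m
          exact map_mul a r m }
    rw [← e.finrank_eq]
    exact Module.finrank_self K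
  have h2 := Module.finrank_mul_finrank K K' L
  rw [h1, one_mul] at h2
  exact h2

/-- the residue degrees of `fibMap` are those of `Y ×_X X' ⟶ X'` -/
theorem residueDegree_fibMap (y : Y) (z : (pullback.fst f p).fiber y) :
    (fibMap f p y).residueDegree z =
      (pullback.snd f p).residueDegree ((pullback.fst f p).fiberι y z) := by
  unfold Scheme.Hom.residueDegree
  rw [finrank_eq_of_bijective_base ((p.fiberι (f y)).residueFieldMap (fibMap f p y z)).hom
    ((fibMap f p y).residueFieldMap z).hom
    (Groth.Agent.Lib.Helper4.VarDim.residueFieldMap_bijective_of_isPreimmersion _ _)]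
  rw [finrank_eq_of_bijective ((pullback.snd f p).residueFieldMap
      ((pullback.fst f p).fiberι y z)).hom
    (((pullback.fst f p).fiberι y).residueFieldMap z).hom
    (Groth.Agent.Lib.Helper4.VarDim.residueFieldMap_bijective_of_isPreimmersion _ z)]
  have h1 : ((fibMap f p y).residueFieldMap z).hom.comp
      ((p.fiberι (f y)).residueFieldMap (fibMap f p y z)).hom =
      ((fibMap f p y ≫ p.fiberι (f y)).residueFieldMap z).hom := by
    rw [Scheme.residueFieldMap_comp]
    rfl
  have h2 : (((pullback.fst f p).fiberι y).residueFieldMap z).hom.comp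
      ((pullback.snd f p).residueFieldMap ((pullback.fst f p).fiberι y z)).hom =
      (((pullback.fst f p).fiberι y ≫ pullback.snd f p).residueFieldMap z).hom := by
    rw [Scheme.residueFieldMap_comp]
    rfl
  rw [h1, h2]
  have h3 : Spec.map ((fibMap f p y ≫ p.fiberι (f y)).residueFieldMap z) ≫
      X'.fromSpecResidueField ((fibMap f p y ≫ p.fiberι (f y)) z) =
      Spec.map (((pullback.fst f p).fiberι y ≫ pullback.snd f p).residueFieldMap z) ≫
        X'.fromSpecResidueField (((pullback.fst f p).fiberι y ≫ pullback.snd f p) z) := by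
    rw [Scheme.Hom.SpecMap_residueFieldMap_fromSpecResidueField,
      Scheme.Hom.SpecMap_residueFieldMap_fromSpecResidueField, fibMap_fiberι]
  exact finrank_eq_of_SpecMap_comp_eq (L := ((pullback.fst f p).fiber y).residueField z)
    _ _ _ _ h3

/-- for a flat local homomorphism `A → B`: `ℓ(B) = ℓ(A) · ℓ(B/𝔪_A B)` -/
theorem length_self_of_flat (A B : Type u) [CommRing A] [CommRing B] [IsLocalRing A]
    [IsLocalRing B] [Algebra A B] [IsLocalHom (algebraMap A B)] [Module.Flat A B] :
    Module.length B B = Module.length A A *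
      Module.length B (B ⧸ (IsLocalRing.maximalIdeal A).map (algebraMap A B)) := by
  have h := length_quot_map_of_flat A B (⊥ : Ideal A)
  rw [Ideal.map_bot] at h
  have h1 : Module.length B (B ⧸ (⊥ : Ideal B)) = Module.length B B :=
    (Submodule.quotEquivOfEqBot (⊥ : Submodule B B) rfl).length_eq
  have h2 : Module.length A (A ⧸ (⊥ : Ideal A)) = Module.length A A :=
    (Submodule.quotEquivOfEqBot (⊥ : Submodule A A) rfl).length_eq
  rw [← h1, ← h2]
  exact h

/-- the length of the local ring of the fibre of `fibMap` -/
theorem length_fibMap (y : Y) [Flat p] (z : (pullback.fst f p).fiber y) :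
    Module.length (((pullback.fst f p).fiber y).presheaf.stalk z)
      (((pullback.fst f p).fiber y).presheaf.stalk z) =
    Module.length ((p.fiber (f y)).presheaf.stalk (fibMap f p y z))
      ((p.fiber (f y)).presheaf.stalk (fibMap f p y z)) *
    Module.length (((pullback.fst f p).fiber y).presheaf.stalk z)
      (((pullback.fst f p).fiber y).presheaf.stalk z ⧸
        Ideal.map ((fibMap f p y).stalkMap z).hom
          (IsLocalRing.maximalIdeal ((p.fiber (f y)).presheaf.stalk (fibMap f p y z)))) := by
  letI : Algebra ((p.fiber (f y)).presheaf.stalk (fibMap f p y z))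
      (((pullback.fst f p).fiber y).presheaf.stalk z) := ((fibMap f p y).stalkMap z).hom.toAlgebra
  haveI : IsLocalHom (algebraMap ((p.fiber (f y)).presheaf.stalk (fibMap f p y z))
      (((pullback.fst f p).fiber y).presheaf.stalk z)) :=
    inferInstanceAs (IsLocalHom ((fibMap f p y).stalkMap z).hom)
  haveI := flat_fibMap f p y
  haveI : Module.Flat ((p.fiber (f y)).presheaf.stalk (fibMap f p y z))
      (((pullback.fst f p).fiber y).presheaf.stalk z) := Flat.stalkMap (fibMap f p y) z
  exact length_self_of_flat _ _

/-- the multiplicities of the flat pullbacks along `Y ×_X X' ⟶ Y` and `X' ⟶ X` at corresponding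
points -/
theorem length_mul (y : Y) [Flat p] (z : (pullback.fst f p).fiber y) (w : p.fiber (f y))
    (hw : fibMap f p y z = w) :
    (Module.length ((pullback f p).presheaf.stalk ((pullback.fst f p).fiberι y z))
      ((pullback f p).presheaf.stalk ((pullback.fst f p).fiberι y z) ⧸
        Ideal.map ((pullback.fst f p).stalkMap ((pullback.fst f p).fiberι y z)).hom
          (IsLocalRing.maximalIdeal (Y.presheaf.stalk
            (pullback.fst f p ((pullback.fst f p).fiberι y z)))))).toNat =
    (Module.length (X'.presheaf.stalk (p.fiberι (f y) w))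
      (X'.presheaf.stalk (p.fiberι (f y) w) ⧸
        Ideal.map (p.stalkMap (p.fiberι (f y) w)).hom
          (IsLocalRing.maximalIdeal (X.presheaf.stalk (p (p.fiberι (f y) w)))))).toNat *
    (Module.length (((pullback.fst f p).fiber y).presheaf.stalk z)
      (((pullback.fst f p).fiber y).presheaf.stalk z ⧸
        Ideal.map ((fibMap f p y).stalkMap z).hom
          (IsLocalRing.maximalIdeal
            ((p.fiber (f y)).presheaf.stalk (fibMap f p y z))))).toNat := by
  subst hw
  rw [length_fiber (pullback.fst f p) y z, length_fiber p (f y) (fibMap f p y z),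
    length_fibMap f p y z, ENat.toNat_mul]

theorem bijOn_fiberι (y : Y) (w : p.fiber (f y)) :
    Set.BijOn ((pullback.fst f p).fiberι y) (fibMap f p y ⁻¹' {w})
      {y' : ↥(pullback f p) | pullback.fst f p y' = y ∧
        pullback.snd f p y' = p.fiberι (f y) w} := by
  refine ⟨fun z hz => ⟨?_, ?_⟩, fun z _ z' _ h =>
    ((pullback.fst f p).fiberι y).isEmbedding.injective h, fun y' hy' => ?_⟩
  · have : (pullback.fst f p).fiberι y z ∈ Set.range ((pullback.fst f p).fiberι y) := ⟨z, rfl⟩
    rw [(pullback.fst f p).range_fiberι] at this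
    exact this
  · rw [← fibMap_apply]
    exact congrArg _ hz
  · have h1 : y' ∈ Set.range ((pullback.fst f p).fiberι y) := by
      rw [(pullback.fst f p).range_fiberι]
      exact hy'.1
    obtain ⟨z, rfl⟩ := h1
    refine ⟨z, ?_, rfl⟩
    have h2 := hy'.2
    rw [← fibMap_apply] at h2
    exact (p.fiberι (f y)).isEmbedding.injective h2

theorem finite_fibre_square (y : Y) (hfin : (f.residueFieldMap y).hom.Finite)
    (w : p.fiber (f y)) :
    {y' : ↥(pullback f p) | pullback.fst f p y' = y ∧
        pullback.snd f p y' = p.fiberι (f y) w}.Finite := by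
  haveI := isFinite_fibMap f p y hfin
  rw [← (bijOn_fiberι f p y w).image_eq]
  exact ((fibMap f p y).finite_preimage_singleton w).image _

/-- **the local identity**: for `y ∈ Y` with `κ(y)/κ(f y)` finite and `x'` in the fibre of `p`
over `f y`, `∑_{y' ↦ (y, x')} ℓ(O_{y'}/𝔪_y O_{y'}) [κ(y') : κ(x')] =
ℓ(O_{x'}/𝔪_{f y} O_{x'}) [κ(y) : κ(f y)]` -/
theorem finsum_fibre_square (y : Y) [Flat p] (hfin : (f.residueFieldMap y).hom.Finite)
    (w : p.fiber (f y)) :
    ∑ᶠ y' ∈ {y' : ↥(pullback f p) | pullback.fst f p y' = y ∧
        pullback.snd f p y' = p.fiberι (f y) w},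
      ((Module.length ((pullback f p).presheaf.stalk y')
        ((pullback f p).presheaf.stalk y' ⧸
          Ideal.map ((pullback.fst f p).stalkMap y').hom
            (IsLocalRing.maximalIdeal (Y.presheaf.stalk (pullback.fst f p y'))))).toNat *
        (pullback.snd f p).residueDegree y') =
    (Module.length (X'.presheaf.stalk (p.fiberι (f y) w))
      (X'.presheaf.stalk (p.fiberι (f y) w) ⧸
        Ideal.map (p.stalkMap (p.fiberι (f y) w)).hom
          (IsLocalRing.maximalIdeal (X.presheaf.stalk (p (p.fiberι (f y) w)))))).toNat *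
      f.residueDegree y := by
  haveI := isFinite_fibMap f p y hfin
  haveI := flat_fibMap f p y
  have hbij := bijOn_fiberι f p y w
  rw [← finsum_mem_eq_of_bijOn ((pullback.fst f p).fiberι y) hbij (fun z _ => rfl)]
  have hterm : ∀ z ∈ fibMap f p y ⁻¹' {w},
      ((Module.length ((pullback f p).presheaf.stalk ((pullback.fst f p).fiberι y z))
        ((pullback f p).presheaf.stalk ((pullback.fst f p).fiberι y z) ⧸
          Ideal.map ((pullback.fst f p).stalkMap ((pullback.fst f p).fiberι y z)).hom
            (IsLocalRing.maximalIdeal (Y.presheaf.stalk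
              (pullback.fst f p ((pullback.fst f p).fiberι y z)))))).toNat *
        (pullback.snd f p).residueDegree ((pullback.fst f p).fiberι y z)) =
      (Module.length (X'.presheaf.stalk (p.fiberι (f y) w))
        (X'.presheaf.stalk (p.fiberι (f y) w) ⧸
          Ideal.map (p.stalkMap (p.fiberι (f y) w)).hom
            (IsLocalRing.maximalIdeal (X.presheaf.stalk (p (p.fiberι (f y) w)))))).toNat *
      ((Module.length (((pullback.fst f p).fiber y).presheaf.stalk z)
        (((pullback.fst f p).fiber y).presheaf.stalk z ⧸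
          Ideal.map ((fibMap f p y).stalkMap z).hom
            (IsLocalRing.maximalIdeal
              ((p.fiber (f y)).presheaf.stalk (fibMap f p y z))))).toNat *
        (fibMap f p y).residueDegree z) := by
    intro z hz
    rw [length_mul f p y z w hz, residueDegree_fibMap, mul_assoc]
  rw [finsum_mem_congr rfl hterm, ← mul_finsum_mem, finsum_fibre (fibMap f p y) w,
    finrank_fibMap f p y hfin w]

end Groth.Agent.Lib.T2H4.PushPull
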