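import Mathlib
import Groth.Prelude.Def_Cyc
import Groth.Agent.Lib.T2H4PushPullA
set_option backward.isDefEq.respectTransparency.types false

/-!
# Proper pushforward commutes with flat pullback of cycles (helper4)

Namespace `Groth.Agent.Lib.T2H4.PushPull`.
-/

set_option autoImplicit false
set_option linter.style.haveILetI false
universe u
open CategoryTheory CategoryTheory.Limits AlgebraicGeometry TopologicalSpace Opposite

namespace Groth.Agent.Lib.T2H4.PushPull

open Groth.Agent.Lib.T2H4.FibreDeg Groth.Agent.Lib.T2H4.PullComp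

/-- regrouping a finite sum along the fibres of a map -/
theorem finsum_mem_fiberwise {A B : Type*} (q : A → B) (s : Set A) (t : Set B)
    (hst : Set.MapsTo q s t) (G : A → ℤ) (hfin : (s ∩ Function.support G).Finite) :
    ∑ᶠ b ∈ t, ∑ᶠ a ∈ {a | q a = b ∧ a ∈ s}, G a = ∑ᶠ a ∈ s, G a := by
  classical
  set T := hfin.toFinset with hT
  have hTs : ∀ a, a ∈ T ↔ a ∈ s ∧ G a ≠ 0 := fun a => by
    rw [hT, Set.Finite.mem_toFinset]
    rfl
  have h1 : ∑ᶠ a ∈ s, G a = ∑ a ∈ T, G a := by
    refine finsum_mem_eq_sum_of_inter_support_eq G ?_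
    ext a
    constructor
    · rintro ⟨has, hG⟩
      exact ⟨Finset.mem_coe.2 ((hTs a).2 ⟨has, hG⟩), hG⟩
    · rintro ⟨ha, hG⟩
      exact ⟨((hTs a).1 (Finset.mem_coe.1 ha)).1, hG⟩
  have h2 : ∀ b, ∑ᶠ a ∈ {a | q a = b ∧ a ∈ s}, G a =
      ∑ a ∈ T.filter (fun a => q a = b), G a := by
    intro b
    refine finsum_mem_eq_sum_of_inter_support_eq G ?_
    ext a
    constructor
    · rintro ⟨⟨hqa, has⟩, hG⟩
      exact ⟨Finset.mem_coe.2 (Finset.mem_filter.2 ⟨(hTs a).2 ⟨has, hG⟩, hqa⟩), hG⟩
    · rintro ⟨ha, hG⟩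
      have := Finset.mem_filter.1 (Finset.mem_coe.1 ha)
      exact ⟨⟨this.2, ((hTs a).1 this.1).1⟩, hG⟩
  have h3 : ∑ᶠ b ∈ t, ∑ a ∈ T.filter (fun a => q a = b), G a =
      ∑ b ∈ T.image q, ∑ a ∈ T.filter (fun a => q a = b), G a := by
    refine finsum_mem_eq_sum_of_inter_support_eq _ ?_
    ext b
    constructor
    · rintro ⟨_, hK⟩
      refine ⟨?_, hK⟩
      obtain ⟨a, ha, _⟩ := Finset.exists_ne_zero_of_sum_ne_zero hK
      rw [Finset.mem_filter] at ha
      exact Finset.mem_coe.2 (Finset.mem_image.2 ⟨a, ha.1, ha.2⟩)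
    · rintro ⟨hb, hK⟩
      obtain ⟨a, ha, rfl⟩ := Finset.mem_image.1 (Finset.mem_coe.1 hb)
      exact ⟨hst ((hTs a).1 ha).1, hK⟩
  rw [finsum_mem_congr rfl (fun b _ => h2 b), h1, h3,
    Finset.sum_fiberwise_of_maps_to (fun a ha => Finset.mem_image_of_mem q ha)]

variable {X X' Y : Scheme.{u}} (f : Y ⟶ X) (p : X' ⟶ X)

/-- a point of the same `δ`-dimension as its image has a finite residue field extension -/
theorem finite_residueFieldMap_of_delta_eq [LocallyOfFiniteType f] (δY : Y → ℤ) (δ : X → ℤ)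
    (hf : Cyc.DeltaCompat f δY δ) (y : Y) (hy : δY y = δ (f y)) :
    (f.residueFieldMap y).hom.Finite := by
  obtain ⟨n, hn, h⟩ := hf y
  have hn0 : n = 0 := by omega
  subst hn0
  letI := (f.residueFieldMap y).hom.toAlgebra
  haveI halg : Algebra.IsAlgebraic (X.residueField (f y)) (Y.residueField y) :=
    trdeg_eq_zero_iff.1 (by simpa using hn)
  haveI : Algebra.EssFiniteType (X.residueField (f y)) (Y.residueField y) :=
    RingHom.EssFiniteType.residueFieldMap (LocallyOfFiniteType.stalkMap f y)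
  have : Module.Finite (X.residueField (f y)) (Y.residueField y) :=
    Algebra.finite_of_essFiniteType_of_isAlgebraic
  exact this

/-- the multiplicity of the flat pullback at a point -/
noncomputable def mult {X Y : Scheme.{u}} (f : X ⟶ Y) (x : X) : ℕ :=
  (Module.length (X.presheaf.stalk x) (X.presheaf.stalk x ⧸ Ideal.map (f.stalkMap x).hom
    (IsLocalRing.maximalIdeal (Y.presheaf.stalk (f x))))).toNat

theorem pullFun_eq {X Y : Scheme.{u}} (f : X ⟶ Y) (δX : X → ℤ) (δY : Y → ℤ) (r : ℤ) (α : Y → ℤ)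
    (x : X) : Cyc.pullFun f δX δY r α x =
      if δX x = δY (f x) + r then α (f x) * (mult f x : ℤ) else 0 := rfl

theorem finsum_fibre_square' [Flat p] (y : Y) (hfin : (f.residueFieldMap y).hom.Finite)
    (x' : X') (hx' : p x' = f y) :
    ∑ᶠ y' ∈ {y' : ↥(pullback f p) | pullback.fst f p y' = y ∧ pullback.snd f p y' = x'},
      (mult (pullback.fst f p) y' * (pullback.snd f p).residueDegree y') =
    mult p x' * f.residueDegree y := by
  have h1 : x' ∈ Set.range (p.fiberι (f y)) := by
    rw [p.range_fiberι]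
    exact hx'
  obtain ⟨w, rfl⟩ := h1
  exact finsum_fibre_square f p y hfin w

theorem finite_fibre_square' (y : Y) (hfin : (f.residueFieldMap y).hom.Finite)
    (x' : X') (hx' : p x' = f y) :
    {y' : ↥(pullback f p) | pullback.fst f p y' = y ∧ pullback.snd f p y' = x'}.Finite := by
  have h1 : x' ∈ Set.range (p.fiberι (f y)) := by
    rw [p.range_fiberι]
    exact hx'
  obtain ⟨w, rfl⟩ := h1
  exact finite_fibre_square f p y hfin w

/-- **flat pullback commutes with proper pushforward** on a cartesian square -/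
theorem pullFun_map_eq [IsProper f] [Flat p] (δ : X → ℤ) (δ' : X' → ℤ) (δY : Y → ℤ)
    (δY' : ↥(pullback f p) → ℤ) (hδ' : Cyc.IsDimFun X' δ')
    (hδY' : Cyc.IsDimFun (pullback f p) δY')
    (hf : Cyc.DeltaCompat f δY δ) (hf' : Cyc.DeltaCompat (pullback.snd f p) δY' δ') (c : ℤ)
    (hc : ∀ x' : X', (∀ y, p y = p x' → y ⤳ x' → y = x') → δ' x' = δ (p x') + c)
    (hcY : ∀ y' : ↥(pullback f p), (∀ y, pullback.fst f p y = pullback.fst f p y' → y ⤳ y' →
      y = y') → δY' y' = δY (pullback.fst f p y') + c)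
    (α : AlgebraicCycle Y ℤ) (α' : AlgebraicCycle (pullback f p) ℤ)
    (hα' : ⇑α' = Cyc.pullFun (pullback.fst f p) δY' δY c ⇑α) :
    Cyc.pullFun p δ' δ c ⇑(AlgebraicCycle.map f δY δ α) =
      ⇑(AlgebraicCycle.map (pullback.snd f p) δY' δ' α') := by
  classical
  funext x'
  set G : ↥(pullback f p) → ℤ := fun y' =>
    α' y' * ((AlgebraicCycle.mapCoeff (pullback.snd f p) δY' δ' y' : ℕ) : ℤ) with hG
  have hR : (AlgebraicCycle.map (pullback.snd f p) δY' δ' α') x' =
      ∑ᶠ y' ∈ pullback.snd f p ⁻¹' {x'}, G y' := rfl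
  have hM : (AlgebraicCycle.map f δY δ α) (p x') =
      ∑ᶠ y ∈ f ⁻¹' {p x'}, α y * ((AlgebraicCycle.mapCoeff f δY δ y : ℕ) : ℤ) := rfl
  rw [pullFun_eq, hR, hM]
  have hle : δ' x' ≤ δ (p x') + c := le_of_shift p δ δ' hδ' c hc x'
  have hfp : ∀ y' : ↥(pullback f p), f (pullback.fst f p y') = p (pullback.snd f p y') := by
    intro y'
    rw [← Scheme.Hom.comp_apply, ← Scheme.Hom.comp_apply, pullback.condition]
  have hGne : ∀ y', pullback.snd f p y' = x' → G y' ≠ 0 →
      δ' x' = δ (p x') + c ∧ δY (pullback.fst f p y') = δ (f (pullback.fst f p y')) := by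
    intro y' hy' hne
    have h1 : α' y' ≠ 0 := left_ne_zero_of_mul hne
    have h2 : ((AlgebraicCycle.mapCoeff (pullback.snd f p) δY' δ' y' : ℕ) : ℤ) ≠ 0 :=
      right_ne_zero_of_mul hne
    have h3 : δY' y' = δY (pullback.fst f p y') + c := by
      by_contra hcon
      apply h1
      rw [hα', pullFun_eq, if_neg hcon]
    have h4 : δY' y' = δ' (pullback.snd f p y') := by
      by_contra hcon
      apply h2
      unfold AlgebraicCycle.mapCoeff
      rw [if_neg hcon]
      rfl
    obtain ⟨n, -, hn⟩ := hf (pullback.fst f p y')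
    rw [hfp y', hy'] at hn ⊢
    rw [hy'] at h4
    constructor <;> omega
  by_cases ha : δ' x' = δ (p x') + c
  · rw [if_pos ha]
    have hfinS : ((pullback.snd f p ⁻¹' {x'}) ∩ Function.support G).Finite := by
      refine (α'.locallyFiniteSupport.finite_inter_support_of_isCompact
        ((pullback.snd f p).isCompact_preimage_singleton x')).subset ?_
      rintro y' ⟨hy', hne⟩
      exact ⟨hy', left_ne_zero_of_mul hne⟩
    have hmaps : Set.MapsTo (pullback.fst f p) (pullback.snd f p ⁻¹' {x'}) (f ⁻¹' {p x'}) := by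
      intro y' hy'
      change f (pullback.fst f p y') = p x'
      rw [hfp y']
      exact congrArg p hy'
    rw [← finsum_mem_fiberwise (pullback.fst f p) (pullback.snd f p ⁻¹' {x'}) (f ⁻¹' {p x'})
      hmaps G hfinS, finsum_mem_mul]
    refine finsum_mem_congr rfl (fun y hy => ?_)
    have hy' : p x' = f y := hy.symm
    change _ = ∑ᶠ a ∈ {a : ↥(pullback f p) | pullback.fst f p a = y ∧ pullback.snd f p a = x'},
      G a
    by_cases hdy : δY y = δ (f y)
    · have hfin := finite_residueFieldMap_of_delta_eq f δY δ hf y hdy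
      have hterm : ∀ a ∈ {a : ↥(pullback f p) | pullback.fst f p a = y ∧
          pullback.snd f p a = x'}, G a = α y * (((mult (pullback.fst f p) a *
            (pullback.snd f p).residueDegree a : ℕ) : ℕ) : ℤ) := by
        rintro a ⟨ha1, ha2⟩
        have hb := le_of_shift (pullback.fst f p) δY δY' hδY' c hcY a
        obtain ⟨n', -, hn'⟩ := hf' a
        rw [ha1] at hb
        have e1 : δY' a = δY (pullback.fst f p a) + c := by
          rw [ha1]
          rw [ha2] at hn'
          rw [hy'] at ha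
          omega
        have e2 : δY' a = δ' (pullback.snd f p a) := by
          rw [ha2] at hn' ⊢
          rw [hy'] at ha
          omega
        rw [hG]
        beta_reduce
        rw [hα', pullFun_eq, if_pos e1]
        unfold AlgebraicCycle.mapCoeff
        rw [if_pos e2, ha1]
        push_cast
        ring
      rw [finsum_mem_congr rfl hterm, ← mul_finsum_mem,
        ← Nat.cast_finsum_mem (finite_fibre_square' f p y hfin x' hy'),
        finsum_fibre_square' f p y hfin x' hy']
      unfold AlgebraicCycle.mapCoeff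
      rw [if_pos hdy]
      push_cast
      ring
    · have hzero : ∀ a ∈ {a : ↥(pullback f p) | pullback.fst f p a = y ∧
          pullback.snd f p a = x'}, G a = 0 := by
        rintro a ⟨ha1, ha2⟩
        by_contra hne
        have := (hGne a ha2 hne).2
        rw [ha1] at this
        exact hdy this
      rw [finsum_mem_congr rfl hzero, finsum_mem_zero]
      unfold AlgebraicCycle.mapCoeff
      rw [if_neg hdy]
      simp
  · rw [if_neg ha]
    have hzero : ∀ y' ∈ pullback.snd f p ⁻¹' {x'}, G y' = 0 := by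
      intro y' hy'
      by_contra hne
      exact ha (hGne y' hy' hne).1
    rw [finsum_mem_congr rfl hzero, finsum_mem_zero]

end Groth.Agent.Lib.T2H4.PushPull
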