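import Mathlib
import Groth.Prelude.Def_Tame
import Groth.Prelude.Def_W4bk4goldsch23FF
import Groth.Agent.Lib.LeadFG7
import Groth.Agent.Lib.T2H4OrdLen
import Groth.Agent.Lib.T2H4SecOrdGen
set_option backward.isDefEq.respectTransparency.types false

/-!
# Degree of a principal divisor on a complete curve (helper4), part A

The valuation ring of a place `P` of `F/K` is a discrete valuation ring, and the order of vanishing
`CycAlg.ordFrac P.O F f` is `P.ord f`.

Namespace `Groth.Agent.Lib.T3H4.CurveDeg`.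
-/

set_option autoImplicit false
set_option linter.style.haveILetI false
universe u

namespace Groth.Agent.Lib.T3H4.CurveDeg

open FunFld WithZero Groth.Agent.Lib.LeadFG Groth.Agent.Lib.T2H4.SecOrdAdd
  Groth.Agent.Lib.T2H4.SecOrdGen

variable {K F : Type u} [Field K] [Field F] [Algebra K F]

theorem val_eq_one_iff_isUnit (P : Place K F) (w : P.O) : P.1 (w : F) = 1 ↔ IsUnit w := by
  rw [← not_iff_not, ← mem_nonunits_iff, ← IsLocalRing.mem_maximalIdeal, mem_maxIdeal_iff]
  have h1 : P.1 (w : F) ≤ 1 := w.2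
  constructor
  · intro h
    exact lt_of_le_of_ne h1 h
  · intro h
    exact h.ne

/-- every nonzero element of `P.O` is a power of a uniformizer times a unit -/
theorem associated_pow (P : Place K F) {t : F} (ht : P.1 t = exp (-1 : ℤ)) (ht' : t ∈ P.O)
    (x : P.O) (hx : x ≠ 0) : ∃ n : ℕ, Associated ((⟨t, ht'⟩ : P.O) ^ n) x := by
  have hx0 : (x : F) ≠ 0 := fun h => hx (Subtype.ext h)
  have ht0 : t ≠ 0 := unif_ne_zero ht
  have hv := val_eq_exp_neg_ord P hx0
  have hord : 0 ≤ P.ord (x : F) := by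
    have h1 : P.1 (x : F) ≤ 1 := x.2
    rw [hv, ← exp_zero, exp_le_exp] at h1
    omega
  obtain ⟨n, hn⟩ := Int.eq_ofNat_of_zero_le hord
  refine ⟨n, ?_⟩
  have hvu : P.1 ((x : F) / t ^ n) = 1 := by
    rw [map_div₀, map_pow, ht, hv, hn, ← exp_nsmul, nsmul_eq_mul, mul_neg, mul_one]
    exact div_self (by simp)
  have hu' : (x : F) / t ^ n ∈ P.O := hvu.le
  have hunit : IsUnit (⟨(x : F) / t ^ n, hu'⟩ : P.O) := (val_eq_one_iff_isUnit P _).mp hvu
  obtain ⟨u, hu⟩ := hunit
  refine ⟨u, ?_⟩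
  rw [hu]
  apply Subtype.ext
  change t ^ n * ((x : F) / t ^ n) = (x : F)
  field_simp

theorem irreducible_unif (P : Place K F) {t : F} (ht : P.1 t = exp (-1 : ℤ)) (ht' : t ∈ P.O) :
    Irreducible (⟨t, ht'⟩ : P.O) := by
  have ht0 : t ≠ 0 := unif_ne_zero ht
  refine ⟨?_, ?_⟩
  · rw [← val_eq_one_iff_isUnit]
    exact (unif_lt_one ht).ne
  · intro a b hab
    have hab' : t = (a : F) * (b : F) := congrArg Subtype.val hab
    have ha0 : (a : F) ≠ 0 := by
      rintro h
      rw [h, zero_mul] at hab'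
      exact ht0 hab'
    have hb0 : (b : F) ≠ 0 := by
      rintro h
      rw [h, mul_zero] at hab'
      exact ht0 hab'
    have hva := val_eq_exp_neg_ord P ha0
    have hvb := val_eq_exp_neg_ord P hb0
    have ha1 : P.1 (a : F) ≤ 1 := a.2
    have hb1 : P.1 (b : F) ≤ 1 := b.2
    have h1 : P.1 t = P.1 (a : F) * P.1 (b : F) := by rw [hab', map_mul]
    rw [ht, hva, hvb, ← exp_add, exp_inj] at h1
    rw [hva, ← exp_zero, exp_le_exp] at ha1
    rw [hvb, ← exp_zero, exp_le_exp] at hb1
    rw [← val_eq_one_iff_isUnit, ← val_eq_one_iff_isUnit, hva, hvb, ← exp_zero, exp_inj, exp_inj]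
    omega

theorem isDiscreteValuationRing (P : Place K F) : IsDiscreteValuationRing P.O := by
  obtain ⟨t, ht⟩ := exists_unif P
  have ht' : t ∈ P.O := (unif_lt_one ht).le
  exact IsDiscreteValuationRing.ofHasUnitMulPowIrreducibleFactorization
    ⟨⟨t, ht'⟩, irreducible_unif P ht ht', fun {x} hx => associated_pow P ht ht' x hx⟩

theorem krullDimLE_one (P : Place K F) : Ring.KrullDimLE 1 P.O := by
  haveI := isDiscreteValuationRing P
  exact Ring.krullDimLE_one_iff_of_noZeroDivisors.mpr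
    (fun p hp hpp => Ring.DimensionLEOne.maximalOfPrime hp hpp)

theorem exists_frac (P : Place K F) (z : F) :
    ∃ a b : P.O, z = algebraMap P.O F a / algebraMap P.O F b := by
  obtain ⟨a, b, -, h⟩ := IsFractionRing.div_surjective (A := P.O) z
  exact ⟨a, b, h.symm⟩

/-- the order of an element of the valuation ring as a length -/
theorem ordFrac_coe (P : Place K F) (w : P.O) (hw : w ≠ 0) :
    CycAlg.ordFrac P.O F (w : F) =
      ((Module.length P.O (P.O ⧸ Ideal.span {w})).toNat : ℤ) := by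
  haveI := isDiscreteValuationRing P
  haveI := krullDimLE_one P
  exact Groth.Agent.Lib.T2H4.OrdLen.ordFrac_eq_length (RingEquiv.refl P.O)
    (IsFractionRing.injective P.O F) (exists_frac P) w hw

theorem ordFrac_of_val_eq_one (P : Place K F) (u : F) (hu : P.1 u = 1) :
    CycAlg.ordFrac P.O F u = 0 := by
  have hu' : u ∈ P.O := hu.le
  have hunit : IsUnit (⟨u, hu'⟩ : P.O) := (val_eq_one_iff_isUnit P _).mp hu
  have h0 : (⟨u, hu'⟩ : P.O) ≠ 0 := hunit.ne_zero
  have h1 := ordFrac_coe P ⟨u, hu'⟩ h0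
  rw [Ideal.span_singleton_eq_top.mpr hunit] at h1
  have h2 : Module.length P.O (P.O ⧸ (⊤ : Ideal P.O)) = 0 := by
    rw [Module.length_eq_zero_iff]
    infer_instance
  rw [h2] at h1
  simpa using h1

theorem ordFrac_unif (P : Place K F) {t : F} (ht : P.1 t = exp (-1 : ℤ)) :
    CycAlg.ordFrac P.O F t = 1 := by
  haveI := isDiscreteValuationRing P
  have ht' : t ∈ P.O := (unif_lt_one ht).le
  have ht0 : (⟨t, ht'⟩ : P.O) ≠ 0 := fun h => unif_ne_zero ht (congrArg Subtype.val h)
  have h1 := ordFrac_coe P ⟨t, ht'⟩ ht0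
  have hirr := irreducible_unif P ht ht'
  have hmax : Ideal.span {(⟨t, ht'⟩ : P.O)} = IsLocalRing.maximalIdeal P.O :=
    ((IsDiscreteValuationRing.irreducible_iff_uniformizer _).mp hirr).symm
  haveI : IsSimpleModule P.O (P.O ⧸ Ideal.span {(⟨t, ht'⟩ : P.O)}) := by
    rw [isSimpleModule_iff_isCoatom, ← Ideal.isMaximal_def, hmax]
    infer_instance
  rw [Module.length_eq_one] at h1
  simpa using h1

/-- **the order function of the valuation ring of a place is the order of the place** -/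
theorem ordFrac_eq_ord (P : Place K F) (f : F) (hf : f ≠ 0) :
    CycAlg.ordFrac P.O F f = P.ord f := by
  obtain ⟨t, ht⟩ := exists_unif P
  have ht0 : t ≠ 0 := unif_ne_zero ht
  have hv := val_eq_exp_neg_ord P hf
  have htn : t ^ (P.ord f) ≠ 0 := zpow_ne_zero _ ht0
  have hvu : P.1 (f / t ^ (P.ord f)) = 1 := by
    rw [map_div₀, map_zpow₀, ht, hv, ← exp_zsmul, smul_eq_mul, mul_neg, mul_one]
    exact div_self (by simp)
  have hu0 : f / t ^ (P.ord f) ≠ 0 := div_ne_zero hf htn
  have hf' : f = f / t ^ (P.ord f) * t ^ (P.ord f) := by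
    field_simp
  conv_lhs => rw [hf']
  rw [ordFrac_mul P.O F _ _ hu0 htn, ordFrac_of_val_eq_one P _ hvu,
    o_zpow _ (ordFrac_mul P.O F) t ht0, ordFrac_unif P ht]
  ring

end Groth.Agent.Lib.T3H4.CurveDeg
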