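import Mathlib
import Groth.Prelude.Def_Tame
import Groth.Agent.Lib.Helper5KADegree
import Groth.Agent.S14503
import Groth.Agent.S6320
set_option backward.isDefEq.respectTransparency.types false

/-!
# The norm formula for orders of vanishing (helper4), part A

For a module-finite extension of domains `A ⊆ B` with `A` Noetherian local of dimension one, with
fraction fields `K ⊆ L` and `r ∈ B` nonzero:
`ord_A (N_{L/K} r) = ∑_n [B/n : A/m] ord_{B_n}(r)`, the sum over the maximal ideals `n` of `B`.

Namespace `Groth.Agent.Lib.T3H4.NormForm`.
-/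

set_option autoImplicit false
set_option linter.style.haveILetI false
universe u

namespace Groth.Agent.Lib.T3H4.NormForm

open Groth.Agent.Lib.Helper5 Groth.Agent.Lib.Helper5.KADegree

section loc

variable {B : Type u} [CommRing B]

/-- localising the quotient by a principal ideal -/
theorem length_localizedModule_quot (n : Ideal B) [n.IsPrime] (r : B) :
    Module.length (Localization.AtPrime n)
        (LocalizedModule n.primeCompl (B ⧸ Ideal.span {r})) =
      Ring.ord (Localization.AtPrime n) (algebraMap B (Localization.AtPrime n) r) := by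
  have hloc : IsLocalizedModule n.primeCompl (Algebra.linearMap B (Localization.AtPrime n)) :=
    (isLocalizedModule_iff_isLocalization).mpr inferInstance
  have hsub : (Ideal.span {r} : Ideal B).localized'
      (Localization.AtPrime n) n.primeCompl (Algebra.linearMap B (Localization.AtPrime n)) =
      Ideal.span ({algebraMap B (Localization.AtPrime n) r} : Set _) := by
    rw [Ideal.span, Submodule.localized'_span, Set.image_singleton, Algebra.linearMap_apply]
  have e1 := (IsLocalizedModule.iso n.primeCompl
    ((Ideal.span {r} : Ideal B).toLocalizedQuotient'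
      (Localization.AtPrime n) n.primeCompl
      (Algebra.linearMap B (Localization.AtPrime n)))).extendScalarsOfIsLocalization
        n.primeCompl (Localization.AtPrime n)
  rw [e1.length_eq]
  exact (Submodule.quotEquivOfEq _ _ hsub).length_eq

end loc

section main

variable (A B K L : Type u) [CommRing A] [IsDomain A] [IsNoetherianRing A] [IsLocalRing A]
    [CommRing B] [IsDomain B] [Algebra A B] [Field K] [Field L] [Algebra A K] [IsFractionRing A K]
    [Algebra B L] [IsFractionRing B L] [Algebra K L] [Algebra A L] [IsScalarTower A K L]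
    [IsScalarTower A B L] [FiniteDimensional K L] [Module.Finite A B]

include K L in
theorem maximal_ne_bot (hA : ringKrullDim A = 1) (n : MaximalSpectrum B) : n.asIdeal ≠ ⊥ := by
  intro hn
  have hmax : (⊥ : Ideal B).IsMaximal := hn ▸ n.isMaximal
  have hBf : IsField B := Ring.isField_iff_maximal_bot.mpr hmax
  have hinj : Function.Injective (algebraMap A B) := algebraMap_injective A B K L
  haveI : Algebra.IsIntegral A B := Algebra.IsIntegral.of_finite A B
  have hAf : IsField A := isField_of_isIntegral_of_isField hinj hBf
  have h0 := ringKrullDim_eq_zero_of_isField hAf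
  rw [hA] at h0
  exact absurd h0 (by decide)

/-- the norm formula, on elements of `B` -/
theorem ordFrac_norm_eq_finsum (hA : ringKrullDim A = 1) (r : B) (hr : r ≠ 0) :
    CycAlg.ordFrac A K (Algebra.norm K (algebraMap B L r)) =
      ∑ᶠ n : MaximalSpectrum B,
        ((Module.finrank (A ⧸ n.asIdeal.comap (algebraMap A B)) (B ⧸ n.asIdeal) : ℕ) : ℤ) *
          ((Ring.ord (Localization.AtPrime n.asIdeal)
            (algebraMap B (Localization.AtPrime n.asIdeal) r)).toNat : ℤ) := by
  classical
  have hinj : Function.Injective (algebraMap A B) := algebraMap_injective A B K L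
  obtain ⟨hlt, heq⟩ := Groth.Agent.S14503.result A hA B hinj K L r hr
  rw [← heq]
  haveI hfinMS : Finite (MaximalSpectrum B) := finite_maximalSpectrum A B K L hA
  have hover : ∀ n : MaximalSpectrum B,
      n.asIdeal.comap (algebraMap A B) = IsLocalRing.maximalIdeal A := fun n =>
    haveI := n.isMaximal.isPrime
    comap_eq_maximalIdeal A B K L (le_of_eq hA) n.asIdeal (maximal_ne_bot A B K L hA n)
  have hfin : ∀ n : MaximalSpectrum B,
      Module.Finite (A ⧸ n.asIdeal.comap (algebraMap A B)) (B ⧸ n.asIdeal) := by
    intro n
    have h1 : Module.Finite A (B ⧸ n.asIdeal) := inferInstance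
    exact Module.Finite.of_restrictScalars_finite A _ _
  have hflA : IsFiniteLength A (B ⧸ Ideal.span {r}) := Module.length_ne_top_iff.mp hlt.ne
  have hflB : IsFiniteLength B (B ⧸ Ideal.span {r}) := by
    rw [isFiniteLength_iff_isNoetherian_isArtinian] at hflA ⊢
    obtain ⟨h1, h2⟩ := hflA
    exact ⟨isNoetherian_of_tower A h1, isArtinian_of_tower A h2⟩
  have hS := Groth.Agent.S6320.result hover hfin (B ⧸ Ideal.span {r}) hflB
  have hterm : ∀ n : MaximalSpectrum B,
      Module.length (Localization.AtPrime n.asIdeal)
        (LocalizedModule n.asIdeal.primeCompl (B ⧸ Ideal.span {r})) =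
      Ring.ord (Localization.AtPrime n.asIdeal)
        (algebraMap B (Localization.AtPrime n.asIdeal) r) := fun n =>
    haveI := n.isMaximal.isPrime
    length_localizedModule_quot n.asIdeal r
  simp only [hterm] at hS
  letI : Fintype (MaximalSpectrum B) := Fintype.ofFinite _
  rw [finsum_eq_sum_of_fintype] at hS ⊢
  have hne : ∀ n ∈ (Finset.univ : Finset (MaximalSpectrum B)),
      ((Module.finrank (A ⧸ n.asIdeal.comap (algebraMap A B)) (B ⧸ n.asIdeal) : ℕ) : ℕ∞) *
        Ring.ord (Localization.AtPrime n.asIdeal)
          (algebraMap B (Localization.AtPrime n.asIdeal) r) ≠ ⊤ := by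
    intro n hn
    have hle := Finset.single_le_sum (f := fun n : MaximalSpectrum B =>
      ((Module.finrank (A ⧸ n.asIdeal.comap (algebraMap A B)) (B ⧸ n.asIdeal) : ℕ) : ℕ∞) *
        Ring.ord (Localization.AtPrime n.asIdeal)
          (algebraMap B (Localization.AtPrime n.asIdeal) r)) (fun _ _ => zero_le) hn
    rw [← hS] at hle
    exact ne_top_of_le_ne_top hlt.ne hle
  rw [hS, ENat.toNat_sum hne, Nat.cast_sum]
  refine Finset.sum_congr rfl fun n _ => ?_
  rw [ENat.toNat_mul, ENat.toNat_natCast, Nat.cast_mul]

end main

end Groth.Agent.Lib.T3H4.NormForm
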