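import Mathlib
import Groth.Prelude.Def_Tame
import Groth.Agent.Lib.T3H4NormFormA
import Groth.Agent.Lib.T2H4OrdLen
import Groth.Agent.Lib.T2H4SecOrdGen
set_option backward.isDefEq.respectTransparency.types false

/-!
# The norm formula for orders of vanishing (helper4), part B

The norm formula of part A, with the localizations of `B` at its maximal ideals given by an
arbitrary family of models `O i`.

Namespace `Groth.Agent.Lib.T3H4.NormForm`.
-/

set_option autoImplicit false
set_option linter.style.haveILetI false
universe u

namespace Groth.Agent.Lib.T3H4.NormForm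

open Groth.Agent.Lib.Helper5 Groth.Agent.Lib.Helper5.KADegree Groth.Agent.Lib.T2H4.SecOrdAdd
  Groth.Agent.Lib.T2H4.SecOrdGen

section family

variable (A B K L : Type u) [CommRing A] [IsDomain A] [IsNoetherianRing A] [IsLocalRing A]
    [CommRing B] [IsDomain B] [Algebra A B] [Field K] [Field L] [Algebra A K] [IsFractionRing A K]
    [Algebra B L] [IsFractionRing B L] [Algebra K L] [Algebra A L] [IsScalarTower A K L]
    [IsScalarTower A B L] [FiniteDimensional K L] [Module.Finite A B]

omit [IsNoetherianRing A] [IsLocalRing A] in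
theorem dimensionLEOne_of_finite (hA : ringKrullDim A = 1) : Ring.DimensionLEOne B := by
  haveI h1 : Ring.KrullDimLE 1 A := Ring.krullDimLE_iff.mpr (le_of_eq hA)
  haveI : Ring.DimensionLEOne A :=
    ⟨fun hp hpp => (Ring.krullDimLE_one_iff_of_noZeroDivisors.mp h1) _ hp hpp⟩
  haveI : Algebra.IsIntegral A B := Algebra.IsIntegral.of_finite A B
  exact Ring.DimensionLEOne.of_isIntegral A B

omit [IsLocalRing A] [Algebra A K] [IsFractionRing A K] [Algebra K L] [IsScalarTower A K L]
  [FiniteDimensional K L] [Algebra A L] [IsScalarTower A B L] in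
/-- the order in a localization of `B` at a prime, computed in any model of the localization -/
theorem ordFrac_eq_ord_localization (hA : ringKrullDim A = 1) (n : Ideal B) [n.IsPrime]
    (O : Type u) [CommRing O] [Algebra B O] [Algebra O L] [IsScalarTower B O L]
    [IsLocalization.AtPrime O n] (b : B) (hb : b ≠ 0) :
    CycAlg.ordFrac O L (algebraMap B L b) =
      ((Ring.ord (Localization.AtPrime n) (algebraMap B (Localization.AtPrime n) b)).toNat : ℤ) := by
  haveI := dimensionLEOne_of_finite A B hA
  haveI : IsNoetherianRing B :=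
    isNoetherian_of_tower A (isNoetherian_of_isNoetherianRing_of_finite A B)
  haveI : Ring.DimensionLEOne (Localization.AtPrime n) :=
    Ring.DimensionLEOne.localization (Localization.AtPrime n) (M := n.primeCompl)
      n.primeCompl_le_nonZeroDivisors
  let q : Localization.AtPrime n ≃+* O :=
    (IsLocalization.algEquiv n.primeCompl (Localization.AtPrime n) O).toRingEquiv
  have hq : ∀ x : B, q (algebraMap B (Localization.AtPrime n) x) = algebraMap B O x := fun x =>
    (IsLocalization.algEquiv n.primeCompl (Localization.AtPrime n) O).commutes x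
  have hinjBL : Function.Injective (algebraMap B L) := IsFractionRing.injective B L
  have hinj : Function.Injective (algebraMap O L) := by
    rw [injective_iff_map_eq_zero]
    intro z hz
    obtain ⟨⟨x, s⟩, hs⟩ := IsLocalization.surj n.primeCompl z
    have h1 : algebraMap B L x = 0 := by
      rw [IsScalarTower.algebraMap_apply B O L, ← hs, map_mul, hz, zero_mul]
    have hx : x = 0 := hinjBL (by rw [h1, map_zero])
    have hs' : z * algebraMap B O s = 0 := by
      have := hs
      simp only [hx, map_zero] at this
      exact this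
    have hsu : IsUnit (algebraMap B O s) := IsLocalization.map_units O s
    exact (hsu.mul_left_eq_zero).mp hs'
  have hfr : ∀ z : L, ∃ a c : O, z = algebraMap O L a / algebraMap O L c := by
    intro z
    obtain ⟨x, s, -, rfl⟩ := IsFractionRing.div_surjective (A := B) z
    exact ⟨algebraMap B O x, algebraMap B O s, by
      rw [← IsScalarTower.algebraMap_apply, ← IsScalarTower.algebraMap_apply]⟩
  have hb' : algebraMap B (Localization.AtPrime n) b ≠ 0 := by
    intro h0
    apply hb
    exact IsLocalization.injective (Localization.AtPrime n) n.primeCompl_le_nonZeroDivisors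
      (by rw [h0, map_zero])
  have h := Groth.Agent.Lib.T2H4.OrdLen.ordFrac_eq_length q hinj hfr
    (algebraMap B (Localization.AtPrime n) b) hb'
  rw [hq, ← IsScalarTower.algebraMap_apply] at h
  exact h

/-- **the norm formula**, for a family of models of the localizations of `B` at its maximal
ideals -/
theorem finsum_ordFrac_eq_ordFrac_norm (hA : ringKrullDim A = 1)
    {I : Type*} (n : I → MaximalSpectrum B) (hn : Function.Bijective n)
    (O : I → Type u) [∀ i, CommRing (O i)] [∀ i, Algebra B (O i)] [∀ i, Algebra (O i) L]
    [∀ i, IsScalarTower B (O i) L] [∀ i, IsLocalization.AtPrime (O i) (n i).asIdeal]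
    (f : L) (hf : f ≠ 0) :
    ∑ᶠ i, ((Module.finrank (A ⧸ (n i).asIdeal.comap (algebraMap A B)) (B ⧸ (n i).asIdeal) : ℕ) : ℤ) *
        CycAlg.ordFrac (O i) L f = CycAlg.ordFrac A K (Algebra.norm K f) := by
  obtain ⟨b, s, hs, rfl⟩ := IsFractionRing.div_surjective (A := B) f
  have hinjBL : Function.Injective (algebraMap B L) := IsFractionRing.injective B L
  have hs0 : s ≠ 0 := nonZeroDivisors.ne_zero hs
  have hb0 : b ≠ 0 := by
    rintro rfl
    simp at hf
  have hbL : algebraMap B L b ≠ 0 := (map_ne_zero_iff _ hinjBL).mpr hb0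
  have hsL : algebraMap B L s ≠ 0 := (map_ne_zero_iff _ hinjBL).mpr hs0
  have hterm : ∀ i, CycAlg.ordFrac (O i) L (algebraMap B L b / algebraMap B L s) =
      ((Ring.ord (Localization.AtPrime (n i).asIdeal)
        (algebraMap B (Localization.AtPrime (n i).asIdeal) b)).toNat : ℤ) -
      ((Ring.ord (Localization.AtPrime (n i).asIdeal)
        (algebraMap B (Localization.AtPrime (n i).asIdeal) s)).toNat : ℤ) := by
    intro i
    haveI := (n i).isMaximal.isPrime
    rw [o_div _ (ordFrac_mul (O i) L) _ _ hbL hsL,
      ordFrac_eq_ord_localization A B L hA (n i).asIdeal (O i) b hb0,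
      ordFrac_eq_ord_localization A B L hA (n i).asIdeal (O i) s hs0]
  have hNb : Algebra.norm K (algebraMap B L b) ≠ 0 := Algebra.norm_ne_zero_iff.mpr hbL
  have hNs : Algebra.norm K (algebraMap B L s) ≠ 0 := Algebra.norm_ne_zero_iff.mpr hsL
  have hNdiv : Algebra.norm K (algebraMap B L b / algebraMap B L s) =
      Algebra.norm K (algebraMap B L b) / Algebra.norm K (algebraMap B L s) := by
    rw [eq_div_iff hNs, ← map_mul, div_mul_cancel₀ _ hsL]
  rw [hNdiv, o_div _ (ordFrac_mul A K) _ _ hNb hNs, ordFrac_norm_eq_finsum A B K L hA b hb0,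
    ordFrac_norm_eq_finsum A B K L hA s hs0]
  haveI : Finite (MaximalSpectrum B) := finite_maximalSpectrum A B K L hA
  haveI : Finite I := Finite.of_injective n hn.1
  simp only [hterm, mul_sub]
  rw [finsum_sub_distrib (Set.toFinite _) (Set.toFinite _)]
  congr 1
  · exact finsum_comp_equiv (Equiv.ofBijective n hn)
      (f := fun m : MaximalSpectrum B =>
        ((Module.finrank (A ⧸ m.asIdeal.comap (algebraMap A B)) (B ⧸ m.asIdeal) : ℕ) : ℤ) *
          ((Ring.ord (Localization.AtPrime m.asIdeal)
            (algebraMap B (Localization.AtPrime m.asIdeal) b)).toNat : ℤ))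
  · exact finsum_comp_equiv (Equiv.ofBijective n hn)
      (f := fun m : MaximalSpectrum B =>
        ((Module.finrank (A ⧸ m.asIdeal.comap (algebraMap A B)) (B ⧸ m.asIdeal) : ℕ) : ℤ) *
          ((Ring.ord (Localization.AtPrime m.asIdeal)
            (algebraMap B (Localization.AtPrime m.asIdeal) s)).toNat : ℤ))

end family

end Groth.Agent.Lib.T3H4.NormForm
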