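import Mathlib
import Groth.Prelude.Def_Tame
import Groth.Agent.Lib.T3H4NormFormB
set_option backward.isDefEq.respectTransparency.types false

/-!
# The norm formula for orders of vanishing (helper4), part C

The norm formula for a finite subalgebra `B` of `L` over `A` and a family of local rings `O i`
inside `L` which are the localizations of `B` at its maximal ideals, all hypotheses being stated
on elements.

Namespace `Groth.Agent.Lib.T3H4.NormForm`.
-/

set_option autoImplicit false
set_option linter.style.haveILetI false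
universe u

namespace Groth.Agent.Lib.T3H4.NormForm

section single

variable {A L : Type u} [CommRing A] [Field L] [Algebra A L] (B : Subalgebra A L)
  {O : Type u} [CommRing O] (ι : O →+* L) (hι : Function.Injective ι)
  (hBO : ∀ b : B, (b : L) ∈ ι.range)

/-- lifting the elements of `B` to a ring `O` with an injective map to `L` whose range contains
`B` -/
noncomputable def liftB : B →+* O where
  toFun b := Classical.choose (hBO b)
  map_one' := hι (by rw [Classical.choose_spec (hBO 1)]; simp)
  map_mul' x y := hι (by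
    rw [map_mul, Classical.choose_spec (hBO _), Classical.choose_spec (hBO x),
      Classical.choose_spec (hBO y)]; rfl)
  map_zero' := hι (by rw [Classical.choose_spec (hBO 0)]; simp)
  map_add' x y := hι (by
    rw [map_add, Classical.choose_spec (hBO _), Classical.choose_spec (hBO x),
      Classical.choose_spec (hBO y)]; rfl)

theorem ι_liftB (b : B) : ι (liftB B ι hι hBO b) = (b : L) := Classical.choose_spec (hBO b)

theorem liftB_eq (b : B) (u : O) (hu : ι u = (b : L)) : liftB B ι hι hBO b = u :=
  hι (by rw [ι_liftB, hu])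

theorem liftB_injective : Function.Injective (liftB B ι hι hBO) := by
  intro x y hxy
  apply Subtype.ext
  rw [← ι_liftB B ι hι hBO x, ← ι_liftB B ι hι hBO y, hxy]

variable [IsLocalRing O]

/-- the prime of `B` cut out by the maximal ideal of `O` -/
noncomputable def nI : Ideal B := Ideal.comap (liftB B ι hι hBO) (IsLocalRing.maximalIdeal O)

instance : (nI B ι hι hBO).IsPrime := Ideal.comap_isPrime _ _

theorem mem_nI (b : B) : b ∈ nI B ι hι hBO ↔ ∀ u : O, ι u = (b : L) → ¬ IsUnit u := by
  unfold nI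
  rw [Ideal.mem_comap, IsLocalRing.mem_maximalIdeal, mem_nonunits_iff]
  constructor
  · intro h u hu
    rwa [← liftB_eq B ι hι hBO b u hu]
  · intro h
    exact h _ (ι_liftB B ι hι hBO b)

theorem liftB_algebraMap (a : A) (u : O) (hu : ι u = algebraMap A L a) :
    liftB B ι hι hBO (algebraMap A B a) = u :=
  liftB_eq B ι hι hBO _ u hu

/-- `O` is the localization of `B` at `nI` -/
theorem isLocalization_nI
    (hOB : ∀ z : O, ∃ b s : B, ι z * (s : L) = (b : L) ∧ ∀ u : O, ι u = (s : L) → IsUnit u) :
    @IsLocalization.AtPrime B _ O _ (liftB B ι hι hBO).toAlgebra (nI B ι hι hBO) _ := by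
  letI := (liftB B ι hι hBO).toAlgebra
  refine (isLocalization_iff (R := B) (M := (nI B ι hι hBO).primeCompl) (S := O)).mpr ⟨?_, ?_, ?_⟩
  · rintro ⟨s, hs⟩
    have hs' : s ∉ nI B ι hι hBO := hs
    unfold nI at hs'
    rw [Ideal.mem_comap, IsLocalRing.mem_maximalIdeal, mem_nonunits_iff, not_not] at hs'
    exact hs'
  · intro z
    obtain ⟨b, s, hbs, hsu⟩ := hOB z
    have hsn : s ∈ (nI B ι hι hBO).primeCompl := by
      intro hs
      exact (mem_nI B ι hι hBO s).mp hs _ (ι_liftB B ι hι hBO s) (hsu _ (ι_liftB B ι hι hBO s))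
    refine ⟨(b, ⟨s, hsn⟩), ?_⟩
    apply hι
    change ι (z * liftB B ι hι hBO s) = ι (liftB B ι hι hBO b)
    rw [map_mul, ι_liftB, ι_liftB, hbs]
  · intro x y hxy
    exact ⟨1, by rw [liftB_injective B ι hι hBO hxy]⟩

end single

section degree

variable {A L : Type u} [CommRing A] [IsLocalRing A] [Field L] [Algebra A L] (B : Subalgebra A L)
  {O : Type u} [CommRing O] [IsLocalRing O] (ι : O →+* L) (hι : Function.Injective ι)
  (hBO : ∀ b : B, (b : L) ∈ ι.range)

/-- `nI` lies over the maximal ideal of `A` when `A → O` is local -/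
theorem comap_nI
    (hloc : ∀ a : A, a ∈ IsLocalRing.maximalIdeal A →
      ∀ u : O, ι u = algebraMap A L a → ¬ IsUnit u) :
    (nI B ι hι hBO).comap (algebraMap A B) = IsLocalRing.maximalIdeal A := by
  haveI hp : ((nI B ι hι hBO).comap (algebraMap A B)).IsPrime := Ideal.comap_isPrime _ _
  refine le_antisymm (IsLocalRing.le_maximalIdeal hp.ne_top) ?_
  intro a ha
  rw [Ideal.mem_comap, mem_nI]
  intro u hu
  exact hloc a ha u hu

theorem isMaximal_nI [Algebra.IsIntegral A B]
    (hloc : ∀ a : A, a ∈ IsLocalRing.maximalIdeal A →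
      ∀ u : O, ι u = algebraMap A L a → ¬ IsUnit u) :
    (nI B ι hι hBO).IsMaximal := by
  apply Ideal.isMaximal_of_isIntegral_of_isMaximal_comap (R := A)
  rw [comap_nI B ι hι hBO hloc]
  infer_instance

/-- the degree of the residue field extension of `B/nI` over `A/m` in terms of residue fields given
by arbitrary models -/
theorem finrank_quot_nI_eq [Algebra.IsIntegral A B]
    (hOB : ∀ z : O, ∃ b s : B, ι z * (s : L) = (b : L) ∧ ∀ u : O, ι u = (s : L) → IsUnit u)
    (hloc : ∀ a : A, a ∈ IsLocalRing.maximalIdeal A →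
      ∀ u : O, ι u = algebraMap A L a → ¬ IsUnit u)
    (k E : Type u) [Field k] [Field E] [Algebra k E]
    (α : A →+* k) (hα : Function.Surjective α) (hαker : RingHom.ker α = IsLocalRing.maximalIdeal A)
    (β : O →+* E) (hβ : Function.Surjective β) (hβker : RingHom.ker β = IsLocalRing.maximalIdeal O)
    (hcomm : ∀ (a : A) (u : O), ι u = algebraMap A L a → β u = algebraMap k E (α a)) :
    Module.finrank (A ⧸ (nI B ι hι hBO).comap (algebraMap A B)) (B ⧸ nI B ι hι hBO) =
      Module.finrank k E := by
  letI := (liftB B ι hι hBO).toAlgebra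
  haveI hloc' := isLocalization_nI B ι hι hBO hOB
  haveI hmax := isMaximal_nI B ι hι hBO hloc
  have hcm := comap_nI B ι hι hBO hloc
  -- the isomorphism on the base
  let e₁ : (A ⧸ (nI B ι hι hBO).comap (algebraMap A B)) ≃+* k :=
    (Ideal.quotEquivOfEq (hcm.trans hαker.symm)).trans
      (RingHom.quotientKerEquivOfSurjective hα)
  -- the isomorphism on the top
  let e₂ : (B ⧸ nI B ι hι hBO) ≃+* E :=
    (IsLocalization.AtPrime.equivQuotMaximalIdeal (nI B ι hι hBO) O).trans
      ((Ideal.quotEquivOfEq hβker.symm).trans (RingHom.quotientKerEquivOfSurjective hβ))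
  refine Algebra.finrank_eq_of_equiv_equiv e₁ e₂ ?_
  apply Ideal.Quotient.ringHom_ext
  ext a
  change algebraMap k E (e₁ (Ideal.Quotient.mk (Ideal.comap (algebraMap A ↥B) (nI B ι hι hBO)) a)) =
    e₂ (algebraMap (A ⧸ Ideal.comap (algebraMap A ↥B) (nI B ι hι hBO)) (↥B ⧸ nI B ι hι hBO)
      (Ideal.Quotient.mk (Ideal.comap (algebraMap A ↥B) (nI B ι hι hBO)) a))
  have h1 : e₁ (Ideal.Quotient.mk (Ideal.comap (algebraMap A ↥B) (nI B ι hι hBO)) a) = α a := rfl
  have h2 : e₂ (Ideal.Quotient.mk (nI B ι hι hBO) (algebraMap A B a)) =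
      β (liftB B ι hι hBO (algebraMap A B a)) := by
    change (RingHom.quotientKerEquivOfSurjective hβ) ((Ideal.quotEquivOfEq hβker.symm)
      (IsLocalization.AtPrime.equivQuotMaximalIdeal (nI B ι hι hBO) O
        (Ideal.Quotient.mk (nI B ι hι hBO) (algebraMap A B a)))) = _
    rw [IsLocalization.AtPrime.equivQuotMaximalIdeal_apply_mk]
    rfl
  rw [h1]
  have h3 : algebraMap (A ⧸ (nI B ι hι hBO).comap (algebraMap A B)) (B ⧸ nI B ι hι hBO)
      (Ideal.Quotient.mk (Ideal.comap (algebraMap A ↥B) (nI B ι hι hBO)) a) =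
      Ideal.Quotient.mk (nI B ι hι hBO) (algebraMap A B a) := rfl
  rw [h3, h2]
  exact (hcomm a _ (by rw [ι_liftB]; rfl)).symm

end degree

section family

variable {A K L : Type u} [CommRing A] [IsDomain A] [IsNoetherianRing A] [IsLocalRing A]
    [Field K] [Field L] [Algebra A K] [IsFractionRing A K]
    [Algebra K L] [Algebra A L] [IsScalarTower A K L] [FiniteDimensional K L]

/-- **the norm formula** for a finite subalgebra `B ⊆ L` over `A` and a family of local rings `O i`
inside `L`, the localizations of `B` at its maximal ideals -/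
theorem finsum_ordFrac_eq_ordFrac_norm_of_subalgebra (hA : ringKrullDim A = 1)
    (B : Subalgebra A L) [Module.Finite A B]
    (hfrac : ∀ z : L, ∃ b s : B, z = (b : L) / (s : L))
    {I : Type*} (O : I → Type u) [∀ i, CommRing (O i)] [∀ i, IsLocalRing (O i)]
    [∀ i, Algebra (O i) L]
    (hinj : ∀ i, Function.Injective (algebraMap (O i) L))
    (hBO : ∀ i (b : B), (b : L) ∈ (algebraMap (O i) L).range)
    (hOB : ∀ i (z : O i), ∃ b s : B, algebraMap (O i) L z * (s : L) = (b : L) ∧
      ∀ u : O i, algebraMap (O i) L u = (s : L) → IsUnit u)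
    (hloc : ∀ i (a : A), a ∈ IsLocalRing.maximalIdeal A →
      ∀ u : O i, algebraMap (O i) L u = algebraMap A L a → ¬ IsUnit u)
    (hsurj : ∀ m : Ideal B, m.IsMaximal → ∃ i, ∀ b : B, b ∈ m ↔
      ∀ u : O i, algebraMap (O i) L u = (b : L) → ¬ IsUnit u)
    (hinjI : ∀ i j, (∀ b : B, (∀ u : O i, algebraMap (O i) L u = (b : L) → ¬ IsUnit u) ↔
      (∀ u : O j, algebraMap (O j) L u = (b : L) → ¬ IsUnit u)) → i = j)
    (d : I → ℕ)
    (hd : ∀ i, d i = Module.finrank
      (A ⧸ (nI B (algebraMap (O i) L) (hinj i) (hBO i)).comap (algebraMap A B))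
      (B ⧸ nI B (algebraMap (O i) L) (hinj i) (hBO i)))
    (f : L) (hf : f ≠ 0) :
    ∑ᶠ i, (d i : ℤ) * CycAlg.ordFrac (O i) L f = CycAlg.ordFrac A K (Algebra.norm K f) := by
  haveI : Algebra.IsIntegral A B := Algebra.IsIntegral.of_finite A B
  haveI : FaithfulSMul B L :=
    (faithfulSMul_iff_algebraMap_injective B L).mpr Subtype.val_injective
  haveI : IsFractionRing B L := IsFractionRing.of_field B L (fun z => by
    obtain ⟨b, s, h⟩ := hfrac z
    exact ⟨b, s, h⟩)
  letI algBO : ∀ i, Algebra B (O i) := fun i =>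
    (liftB B (algebraMap (O i) L) (hinj i) (hBO i)).toAlgebra
  haveI : ∀ i, IsScalarTower B (O i) L := fun i =>
    IsScalarTower.of_algebraMap_eq (fun b => (ι_liftB B (algebraMap (O i) L) (hinj i) (hBO i) b).symm)
  let n : I → MaximalSpectrum B := fun i =>
    ⟨nI B (algebraMap (O i) L) (hinj i) (hBO i),
      isMaximal_nI B (algebraMap (O i) L) (hinj i) (hBO i) (hloc i)⟩
  haveI : ∀ i, IsLocalization.AtPrime (O i) (n i).asIdeal := fun i =>
    isLocalization_nI B (algebraMap (O i) L) (hinj i) (hBO i) (hOB i)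
  have hn : Function.Bijective n := by
    constructor
    · intro i j hij
      apply hinjI
      intro b
      have h1 : (n i).asIdeal = (n j).asIdeal := congrArg MaximalSpectrum.asIdeal hij
      rw [← mem_nI B (algebraMap (O i) L) (hinj i) (hBO i) b,
        ← mem_nI B (algebraMap (O j) L) (hinj j) (hBO j) b]
      change b ∈ (n i).asIdeal ↔ b ∈ (n j).asIdeal
      rw [h1]
    · intro m
      obtain ⟨i, hi⟩ := hsurj m.asIdeal m.isMaximal
      refine ⟨i, ?_⟩
      apply MaximalSpectrum.ext
      ext b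
      change b ∈ nI B (algebraMap (O i) L) (hinj i) (hBO i) ↔ _
      rw [mem_nI, hi]
  have key := finsum_ordFrac_eq_ordFrac_norm A B K L hA n hn O f hf
  rw [← key]
  refine finsum_congr fun i => ?_
  rw [hd i]

end family

end Groth.Agent.Lib.T3H4.NormForm
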