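import Mathlib
import Groth.Prelude.Def_Tame
import Groth.Prelude.Def_W4bk4goldsch23FF
import Groth.Agent.Lib.LeadFG7
import Groth.Agent.Lib.T3H4NormFormC
import Groth.Agent.Lib.T3H4CurveDegA
set_option backward.isDefEq.respectTransparency.types false

/-!
# Degree of a principal divisor on a complete curve (helper4), part B: the local formula

For a one-dimensional Noetherian local domain `A` containing `K`, with fraction field `F` and with
finite integral closure in `F`, and `f ∈ F` nonzero:
`[κ(A) : K] · ord_A(f) = ∑_{P dominating A} deg P · ord_P(f)`, the sum over the places `P` of `F/K`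
whose valuation ring dominates `A`.

Namespace `Groth.Agent.Lib.T3H4.CurveDeg`.
-/

set_option autoImplicit false
set_option linter.style.haveILetI false
universe u

namespace Groth.Agent.Lib.T3H4.CurveDeg

open FunFld WithZero Groth.Agent.Lib.LeadFG Groth.Agent.Lib.T3H4.NormForm IsDedekindDomain

/-- the integral closure of `A` in its fraction field -/
abbrev BB (A F : Type u) [CommRing A] [Field F] [Algebra A F] : Subalgebra A F :=
  integralClosure A F

variable {K F : Type u} [Field K] [Field F] [Algebra K F]

section units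

variable (P : Place K F)

theorem forall_isUnit_iff (w : F) (hw : P.1 w ≤ 1) :
    (∀ u : P.O, algebraMap P.O F u = w → IsUnit u) ↔ P.1 w = 1 := by
  constructor
  · intro h
    exact (val_eq_one_iff_isUnit P ⟨w, hw⟩).mpr (h ⟨w, hw⟩ rfl)
  · intro h u hu
    rw [← val_eq_one_iff_isUnit]
    have : (u : F) = w := hu
    rw [this, h]

theorem forall_not_isUnit_iff (w : F) (hw : P.1 w ≤ 1) :
    (∀ u : P.O, algebraMap P.O F u = w → ¬ IsUnit u) ↔ P.1 w < 1 := by
  constructor
  · intro h
    have h1 := h ⟨w, hw⟩ rfl
    rw [← val_eq_one_iff_isUnit] at h1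
    exact lt_of_le_of_ne hw h1
  · intro h u hu
    rw [← val_eq_one_iff_isUnit]
    have : (u : F) = w := hu
    rw [this]
    exact h.ne

end units

variable (K) (A : Type u) [CommRing A] [IsDomain A] [IsNoetherianRing A] [IsLocalRing A]
  [Algebra A F] [IsFractionRing A F] [Algebra K A] [IsScalarTower K A F]

/-- the valuation ring of the place `P` dominates the local ring `A` -/
def Dominates (P : Place K F) : Prop :=
  (∀ a : A, P.1 (algebraMap A F a) ≤ 1) ∧
    ∀ a ∈ IsLocalRing.maximalIdeal A, P.1 (algebraMap A F a) < 1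

variable {K A}

omit [IsDomain A] [IsNoetherianRing A] [IsLocalRing A] [IsFractionRing A F] [Algebra K A]
  [IsScalarTower K A F] in
/-- the valuation ring of a place containing `A` contains the integral closure of `A` -/
theorem val_le_one_of_isIntegral (P : Place K F) (hP : ∀ a : A, P.1 (algebraMap A F a) ≤ 1)
    (b : F) (hb : IsIntegral A b) : P.1 b ≤ 1 := by
  let φ : A →+* P.O := (algebraMap A F).codRestrict P.O.toSubring hP
  obtain ⟨p, hp, hpb⟩ := hb
  have h1 : IsIntegral P.O b := by
    refine ⟨p.map φ, hp.map φ, ?_⟩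
    rw [Polynomial.eval₂_map]
    exact hpb
  have h2 := (Valuation.integer.integers P.1).mem_of_integral h1
  exact h2

section closure


theorem isFractionRing_BB : IsFractionRing (BB A F) F :=
  integralClosure.isFractionRing_of_finite_extension F F

theorem isDedekindDomain_BB (hA : ringKrullDim A = 1) [Module.Finite A (BB A F)] :
    IsDedekindDomain (BB A F) := by
  haveI : IsNoetherianRing (BB A F) :=
    isNoetherian_of_tower A (isNoetherian_of_isNoetherianRing_of_finite A (BB A F))
  haveI : Ring.DimensionLEOne (BB A F) := dimensionLEOne_of_finite A (BB A F) hA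
  haveI : IsIntegrallyClosed (BB A F) := integralClosure.isIntegrallyClosedOfFiniteExtension F
  exact { }

theorem exists_frac_BB (z : F) : ∃ b s : BB A F, z = (b : F) / (s : F) := by
  obtain ⟨a, s, -, h⟩ := IsFractionRing.div_surjective (A := A) z
  exact ⟨algebraMap A (BB A F) a, algebraMap A (BB A F) s, h.symm⟩

theorem val_BB_le_one (P : Place K F) (hP : Dominates K A P) (b : BB A F) : P.1 (b : F) ≤ 1 :=
  val_le_one_of_isIntegral P hP.1 _ b.2

/-- the prime of the integral closure cut out by a place dominating `A` -/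
def primeBB (P : Place K F) (hP : Dominates K A P) : Ideal (BB A F) where
  carrier := {b | P.1 (b : F) < 1}
  add_mem' {x y} hx hy := lt_of_le_of_lt (P.1.map_add _ _) (max_lt hx hy)
  zero_mem' := by simp
  smul_mem' c x hx := by
    change P.1 ((c : F) * (x : F)) < 1
    rw [map_mul]
    exact mul_lt_one_of_nonneg_of_lt_one_right (val_BB_le_one P hP c) zero_le hx

theorem mem_primeBB (P : Place K F) (hP : Dominates K A P) (b : BB A F) :
    b ∈ primeBB P hP ↔ P.1 (b : F) < 1 := Iff.rfl

theorem isPrime_primeBB (P : Place K F) (hP : Dominates K A P) : (primeBB P hP).IsPrime := by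
  refine ⟨?_, ?_⟩
  · intro h
    have : (1 : BB A F) ∈ primeBB P hP := h ▸ Submodule.mem_top
    rw [mem_primeBB] at this
    simp at this
  · intro x y hxy
    rw [mem_primeBB] at hxy
    change P.1 ((x : F) * (y : F)) < 1 at hxy
    rw [map_mul] at hxy
    by_contra hcon
    push Not at hcon
    rw [mem_primeBB, mem_primeBB, not_lt, not_lt] at hcon
    have h1 : P.1 (x : F) = 1 := le_antisymm (val_BB_le_one P hP x) hcon.1
    have h2 : P.1 (y : F) = 1 := le_antisymm (val_BB_le_one P hP y) hcon.2
    rw [h1, h2, one_mul] at hxy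
    exact lt_irrefl _ hxy

theorem comap_primeBB (P : Place K F) (hP : Dominates K A P) :
    (primeBB P hP).comap (algebraMap A (BB A F)) = IsLocalRing.maximalIdeal A := by
  haveI := isPrime_primeBB P hP
  haveI hp : ((primeBB P hP).comap (algebraMap A (BB A F))).IsPrime := Ideal.comap_isPrime _ _
  refine le_antisymm (IsLocalRing.le_maximalIdeal hp.ne_top) ?_
  intro a ha
  exact hP.2 a ha

theorem isMaximal_primeBB (P : Place K F) (hP : Dominates K A P) : (primeBB P hP).IsMaximal := by
  haveI := isPrime_primeBB P hP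
  apply Ideal.isMaximal_of_isIntegral_of_isMaximal_comap (R := A)
  rw [comap_primeBB P hP]
  infer_instance

theorem primeBB_ne_bot (hA : ringKrullDim A = 1) [Module.Finite A (BB A F)] (P : Place K F)
    (hP : Dominates K A P) : primeBB P hP ≠ ⊥ := by
  haveI := isFractionRing_BB (A := A) (F := F)
  exact maximal_ne_bot A (BB A F) F F hA ⟨primeBB P hP, isMaximal_primeBB P hP⟩

/-- the valuation ring of a place dominating `A` is the localization of the integral closure of `A`
at the prime cut out by the place -/
theorem exists_mul_eq_BB (hA : ringKrullDim A = 1) [Module.Finite A (BB A F)] (P : Place K F)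
    (hP : Dominates K A P) (z : F) (hz : P.1 z ≤ 1) :
    ∃ b s : BB A F, z * (s : F) = (b : F) ∧ P.1 (s : F) = 1 := by
  haveI := isDedekindDomain_BB (A := A) (F := F) hA
  haveI := isFractionRing_BB (A := A) (F := F)
  haveI := isPrime_primeBB P hP
  let v : HeightOneSpectrum (BB A F) := ⟨primeBB P hP, inferInstance, primeBB_ne_bot hA P hP⟩
  obtain ⟨n, d, h | h⟩ := HeightOneSpectrum.exists_primeCompl_mul_eq_or_mul_eq (K := F) v z
  · refine ⟨n, d, h, ?_⟩
    have hd : (d : BB A F) ∉ primeBB P hP := d.2
    rw [mem_primeBB, not_lt] at hd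
    exact le_antisymm (val_BB_le_one P hP _) hd
  · refine ⟨d, n, h, ?_⟩
    have hd : (d : BB A F) ∉ primeBB P hP := d.2
    rw [mem_primeBB, not_lt] at hd
    have hd1 : P.1 ((d : BB A F) : F) = 1 := le_antisymm (val_BB_le_one P hP _) hd
    have h1 : P.1 z * P.1 (n : F) = 1 := by
      rw [← map_mul]
      have : z * (n : F) = ((d : BB A F) : F) := h
      rw [this, hd1]
    by_contra hn
    have hn' : P.1 (n : F) < 1 := lt_of_le_of_ne (val_BB_le_one P hP n) hn
    have : P.1 z * P.1 (n : F) < 1 := mul_lt_one_of_nonneg_of_lt_one_right hz zero_le hn'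
    rw [h1] at this
    exact lt_irrefl _ this

/-- the place of `F/K` attached to a maximal ideal of the integral closure -/
noncomputable def placeOfMax (hA : ringKrullDim A = 1) [Module.Finite A (BB A F)]
    (m : Ideal (BB A F)) (hm : m.IsMaximal) : Place K F :=
  haveI := isDedekindDomain_BB (A := A) (F := F) hA
  haveI := isFractionRing_BB (A := A) (F := F)
  let v : HeightOneSpectrum (BB A F) :=
    ⟨m, hm.isPrime, maximal_ne_bot A (BB A F) F F hA ⟨m, hm⟩⟩
  ⟨v.valuation F, fun c => by
    have h1 : algebraMap K F c =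
        algebraMap (BB A F) F (algebraMap A (BB A F) (algebraMap K A c)) :=
      IsScalarTower.algebraMap_apply K A F c
    rw [h1]
    exact v.valuation_le_one _, v.valuation_surjective F⟩

theorem placeOfMax_lt_one_iff (hA : ringKrullDim A = 1) [Module.Finite A (BB A F)]
    (m : Ideal (BB A F)) (hm : m.IsMaximal) (b : BB A F) :
    (placeOfMax (K := K) hA m hm).1 (b : F) < 1 ↔ b ∈ m := by
  haveI := isDedekindDomain_BB (A := A) (F := F) hA
  haveI := isFractionRing_BB (A := A) (F := F)
  exact HeightOneSpectrum.valuation_lt_one_iff_mem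
    (⟨m, hm.isPrime, maximal_ne_bot A (BB A F) F F hA ⟨m, hm⟩⟩ : HeightOneSpectrum (BB A F)) b

theorem placeOfMax_le_one (hA : ringKrullDim A = 1) [Module.Finite A (BB A F)]
    (m : Ideal (BB A F)) (hm : m.IsMaximal) (b : BB A F) :
    (placeOfMax (K := K) hA m hm).1 (b : F) ≤ 1 := by
  haveI := isDedekindDomain_BB (A := A) (F := F) hA
  haveI := isFractionRing_BB (A := A) (F := F)
  exact HeightOneSpectrum.valuation_le_one
    (⟨m, hm.isPrime, maximal_ne_bot A (BB A F) F F hA ⟨m, hm⟩⟩ : HeightOneSpectrum (BB A F)) b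

theorem dominates_placeOfMax (hA : ringKrullDim A = 1) [Module.Finite A (BB A F)]
    (m : Ideal (BB A F)) (hm : m.IsMaximal) : Dominates K A (placeOfMax (K := K) hA m hm) := by
  refine ⟨fun a => placeOfMax_le_one hA m hm (algebraMap A (BB A F) a), fun a ha => ?_⟩
  have h1 := placeOfMax_lt_one_iff (K := K) hA m hm (algebraMap A (BB A F) a)
  refine h1.mpr ?_
  haveI := hm
  have h2 : m.comap (algebraMap A (BB A F)) = IsLocalRing.maximalIdeal A :=
    IsLocalRing.eq_maximalIdeal (Ideal.isMaximal_comap_of_isIntegral_of_isMaximal m)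
  have : a ∈ m.comap (algebraMap A (BB A F)) := by rw [h2]; exact ha
  exact this

/-- the degree of a place dominating `A` in terms of the residue degree over `A` -/
theorem finrank_mul_eq_deg (P : Place K F) (hP : Dominates K A P) (d : ℕ)
    (hd : ∀ (k E : Type u) [Field k] [Field E] [Algebra k E]
      (α : A →+* k) (_ : Function.Surjective α) (_ : RingHom.ker α = IsLocalRing.maximalIdeal A)
      (β : P.O →+* E) (_ : Function.Surjective β) (_ : RingHom.ker β = IsLocalRing.maximalIdeal P.O)
      (_ : ∀ (a : A) (u : P.O), algebraMap P.O F u = algebraMap A F a →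
        β u = algebraMap k E (α a)), d = Module.finrank k E) :
    Module.finrank K (IsLocalRing.ResidueField A) * d = P.deg := by
  let φ : A →+* P.O := (algebraMap A F).codRestrict P.O.toSubring hP.1
  letI : Algebra A P.O := φ.toAlgebra
  haveI : IsLocalHom (algebraMap A P.O) := by
    constructor
    intro a ha
    by_contra hna
    have h1 : a ∈ IsLocalRing.maximalIdeal A := (IsLocalRing.mem_maximalIdeal a).mpr hna
    have h2 := hP.2 a h1
    rw [← val_eq_one_iff_isUnit] at ha
    have h3 : P.1 ((algebraMap A P.O a : P.O) : F) = P.1 (algebraMap A F a) := rfl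
    rw [h3] at ha
    exact h2.ne ha
  haveI : IsScalarTower K A P.O := IsScalarTower.of_algebraMap_eq fun c =>
    Subtype.ext (IsScalarTower.algebraMap_apply K A F c)
  have h1 := hd (IsLocalRing.ResidueField A) (IsLocalRing.ResidueField P.O)
    (IsLocalRing.residue A) IsLocalRing.residue_surjective IsLocalRing.ker_residue
    (IsLocalRing.residue P.O) IsLocalRing.residue_surjective IsLocalRing.ker_residue
    (fun a u hu => by
      have : u = algebraMap A P.O a := Subtype.ext hu
      rw [this]
      rfl)
  rw [h1]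
  exact Module.finrank_mul_finrank K (IsLocalRing.ResidueField A) (IsLocalRing.ResidueField P.O)

/-- **the local formula**: `∑_{P dominating A} deg P · ord_P f = [κ(A) : K] · ord_A f` -/
theorem local_formula (hA : ringKrullDim A = 1) [Module.Finite A (BB A F)] (f : F) (hf : f ≠ 0) :
    ∑ᶠ P : {P : Place K F // Dominates K A P}, (P.1.deg : ℤ) * P.1.ord f =
      (Module.finrank K (IsLocalRing.ResidueField A) : ℤ) * CycAlg.ordFrac A F f := by
  haveI : Algebra.IsIntegral A (BB A F) := Algebra.IsIntegral.of_finite A (BB A F)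
  have hinj : ∀ i : {P : Place K F // Dominates K A P},
      Function.Injective (algebraMap i.1.O F) := fun i => Subtype.val_injective
  have hBO : ∀ (i : {P : Place K F // Dominates K A P}) (b : BB A F),
      (b : F) ∈ (algebraMap i.1.O F).range := fun i b =>
    ⟨⟨(b : F), val_BB_le_one i.1 i.2 b⟩, rfl⟩
  have hOB : ∀ (i : {P : Place K F // Dominates K A P}) (z : i.1.O), ∃ b s : BB A F,
      algebraMap i.1.O F z * (s : F) = (b : F) ∧
      ∀ u : i.1.O, algebraMap i.1.O F u = (s : F) → IsUnit u := by
    intro i z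
    obtain ⟨b, s, h1, h2⟩ := exists_mul_eq_BB hA i.1 i.2 (z : F) z.2
    exact ⟨b, s, h1, (forall_isUnit_iff i.1 _ h2.le).mpr h2⟩
  have hloc : ∀ (i : {P : Place K F // Dominates K A P}) (a : A),
      a ∈ IsLocalRing.maximalIdeal A →
      ∀ u : i.1.O, algebraMap i.1.O F u = algebraMap A F a → ¬ IsUnit u := fun i a ha =>
    (forall_not_isUnit_iff i.1 _ (i.2.1 a)).mpr (i.2.2 a ha)
  have hsurj : ∀ m : Ideal (BB A F), m.IsMaximal →
      ∃ i : {P : Place K F // Dominates K A P}, ∀ b : BB A F, b ∈ m ↔
      ∀ u : i.1.O, algebraMap i.1.O F u = (b : F) → ¬ IsUnit u := by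
    intro m hm
    refine ⟨⟨placeOfMax hA m hm, dominates_placeOfMax hA m hm⟩, fun b => ?_⟩
    rw [forall_not_isUnit_iff _ _ (placeOfMax_le_one hA m hm b), placeOfMax_lt_one_iff]
  have hinjI : ∀ i j : {P : Place K F // Dominates K A P},
      (∀ b : BB A F, (∀ u : i.1.O, algebraMap i.1.O F u = (b : F) → ¬ IsUnit u) ↔
      (∀ u : j.1.O, algebraMap j.1.O F u = (b : F) → ¬ IsUnit u)) → i = j := by
    intro i j h
    apply Subtype.ext
    apply place_eq_of_le
    intro y hy
    obtain ⟨b, s, h1, h2⟩ := exists_mul_eq_BB hA i.1 i.2 y hy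
    have h3 := h s
    rw [forall_not_isUnit_iff _ _ (val_BB_le_one i.1 i.2 s),
      forall_not_isUnit_iff _ _ (val_BB_le_one j.1 j.2 s)] at h3
    have h4 : j.1.1 (s : F) = 1 := by
      apply le_antisymm (val_BB_le_one j.1 j.2 s)
      rw [← not_lt, ← h3, not_lt, h2]
    have hs0 : (s : F) ≠ 0 := by
      intro h0
      rw [h0, map_zero] at h4
      exact zero_ne_one h4
    have : y = (b : F) / (s : F) := by rw [eq_div_iff hs0, h1]
    rw [this, map_div₀, h4, div_one]
    exact val_BB_le_one j.1 j.2 b
  have key := finsum_ordFrac_eq_ordFrac_norm_of_subalgebra (K := F) (L := F) hA (BB A F)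
    exists_frac_BB (fun i : {P : Place K F // Dominates K A P} => i.1.O) hinj hBO hOB hloc hsurj
    hinjI (fun i => Module.finrank
      (A ⧸ (nI (BB A F) (algebraMap i.1.O F) (hinj i) (hBO i)).comap (algebraMap A (BB A F)))
      (BB A F ⧸ nI (BB A F) (algebraMap i.1.O F) (hinj i) (hBO i))) (fun i => rfl) f hf
  rw [Algebra.norm_self, MonoidHom.id_apply] at key
  rw [← key, mul_finsum]
  refine finsum_congr fun i => ?_
  rw [ordFrac_eq_ord i.1 f hf, ← mul_assoc]
  congr 1
  have hdeg := finrank_mul_eq_deg i.1 i.2 _ (fun k E _ _ _ α hα hαker β hβ hβker hcomm =>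
    finrank_quot_nI_eq (BB A F) (algebraMap i.1.O F) (hinj i) (hBO i) (hOB i) (hloc i) k E
      α hα hαker β hβ hβker hcomm)
  rw [← hdeg]
  push_cast
  rfl

end closure

end Groth.Agent.Lib.T3H4.CurveDeg
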