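import Mathlib
set_option backward.isDefEq.respectTransparency.types false

/-!
# Centres of valuation rings on a scheme over an affine base (helper4)

For `c : X ⟶ Spec R` with `X` integral: the structure maps `ρ c x : R ⟶ 𝒪_{X,x}`, the
factorisation `Spec 𝒪_{X,x} ⟶ X ⟶ Spec R`, and existence and uniqueness of the centre of a
valuation ring of the function field containing the image of `R`, for `c` satisfying the
valuative criterion.

Namespace `Groth.Agent.Lib.T3H4.CurveGeo`.
-/

set_option autoImplicit false
set_option linter.style.haveILetI false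
universe u

open AlgebraicGeometry CategoryTheory

namespace Groth.Agent.Lib.T3H4.CurveGeo

variable {X : Scheme.{u}} {R : CommRingCat.{u}} (c : X ⟶ Spec R)

/-- the structure map `R ⟶ 𝒪_{X,x}` of a scheme over `Spec R` -/
noncomputable def ρ (x : X) : R ⟶ X.presheaf.stalk x :=
  (Scheme.ΓSpecIso R).inv ≫ c.appTop ≫ X.presheaf.germ ⊤ x trivial

theorem fromSpecStalk_comp (x : X) : X.fromSpecStalk x ≫ c = Spec.map (ρ c x) := by
  have h1 : c = X.toSpecΓ ≫ Spec.map ((Scheme.ΓSpecIso R).inv ≫ c.appTop) := by
    rw [Spec.map_comp, ← Scheme.toSpecΓ_naturality_assoc, ← Scheme.isoSpec_Spec_inv]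
    have : (Spec R).toSpecΓ ≫ (Spec R).isoSpec.inv = 𝟙 _ := Scheme.toSpecΓ_isoSpec_inv _
    rw [this, Category.comp_id]
  conv_lhs => rw [h1]
  rw [Scheme.fromSpecStalk_toSpecΓ_assoc, ← Spec.map_comp]
  simp only [ρ, Category.assoc]

theorem ρ_stalkSpecializes {x y : X} (h : x ⤳ y) :
    ρ c y ≫ X.presheaf.stalkSpecializes h = ρ c x := by
  simp only [ρ, Category.assoc, TopCat.Presheaf.germ_stalkSpecializes]

theorem algebraMap_ρ [IsIntegral X] (x : X) (r : R) :
    algebraMap (X.presheaf.stalk x) X.functionField ((ρ c x).hom r) =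
      (ρ c (genericPoint X)).hom r := by
  have h := ρ_stalkSpecializes c ((genericPoint_spec X).specializes (Set.mem_univ x))
  exact congr($(h).hom r)

theorem specMap_algebraMap_fromSpecStalk [IsIntegral X] (x : X) :
    Spec.map (CommRingCat.ofHom (algebraMap (X.presheaf.stalk x) X.functionField)) ≫
      X.fromSpecStalk x = X.fromSpecStalk (genericPoint X) :=
  Scheme.SpecMap_stalkSpecializes_fromSpecStalk (genericPoint_specializes x)

set_option backward.isDefEq.respectTransparency false in
/-- **Existence of a centre**: for `c` satisfying the existence part of the valuative criterion,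
every valuation ring of the function field containing the image of `R` dominates the local ring of
some point. -/
theorem exists_center [IsIntegral X] (hval : ValuativeCriterion.Existence c)
    (V : ValuationSubring X.functionField)
    (hV : ∀ r : R, (ρ c (genericPoint X)).hom r ∈ V) :
    ∃ x : X, ∃ ψ : X.presheaf.stalk x →+* V, IsLocalHom ψ ∧
      ∀ a : X.presheaf.stalk x,
        ((ψ a : V) : X.functionField) = algebraMap (X.presheaf.stalk x) X.functionField a := by
  let φ : R →+* V := (ρ c (genericPoint X)).hom.codRestrict V.toSubring hV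
  let i₂ : Spec (CommRingCat.of V) ⟶ Spec R := Spec.map (CommRingCat.ofHom φ)
  have hi₂ : X.fromSpecStalk (genericPoint X) ≫ c =
      Spec.map (CommRingCat.ofHom (algebraMap V X.functionField)) ≫ i₂ := by
    rw [fromSpecStalk_comp, ← Spec.map_comp]
    rfl
  let Sq : ValuativeCommSq c :=
    { R := V
      K := X.functionField
      i₁ := X.fromSpecStalk (genericPoint X)
      i₂ := i₂
      commSq := ⟨hi₂⟩ }
  obtain ⟨⟨l, hl1, hl2⟩⟩ := (hval Sq).exists_lift
  change Spec.map (CommRingCat.ofHom (algebraMap V X.functionField)) ≫ l =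
    X.fromSpecStalk (genericPoint X) at hl1
  let x : X := l (IsLocalRing.closedPoint V)
  let ψ : X.presheaf.stalk x ⟶ CommRingCat.of V := Scheme.stalkClosedPointTo l
  have hψl : Spec.map ψ ≫ X.fromSpecStalk x = l := Scheme.Spec_stalkClosedPointTo_fromSpecStalk l
  haveI : IsLocalHom ψ.hom := Scheme.isLocalHom_stalkClosedPointTo' l
  have hcomp : ψ ≫ CommRingCat.ofHom (algebraMap V X.functionField) =
      CommRingCat.ofHom (algebraMap (X.presheaf.stalk x) X.functionField) := by
    apply Spec.map_injective
    rw [← cancel_mono (X.fromSpecStalk x), Spec.map_comp, Category.assoc, hψl, hl1,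
      specMap_algebraMap_fromSpecStalk]
  exact ⟨x, ψ.hom, inferInstance, fun a => congr($(hcomp).hom a)⟩

set_option backward.isDefEq.respectTransparency false in
/-- **Uniqueness of the centre**: for `c` separated, two points whose local rings are dominated
by the same valuation ring of the function field coincide. -/
theorem center_unique [IsIntegral X] [IsSeparated c]
    (V : ValuationSubring X.functionField) (x₁ x₂ : X)
    (ψ₁ : X.presheaf.stalk x₁ →+* V) [IsLocalHom ψ₁]
    (h₁ : ∀ a : X.presheaf.stalk x₁,
      ((ψ₁ a : V) : X.functionField) = algebraMap (X.presheaf.stalk x₁) X.functionField a)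
    (ψ₂ : X.presheaf.stalk x₂ →+* V) [IsLocalHom ψ₂]
    (h₂ : ∀ a : X.presheaf.stalk x₂,
      ((ψ₂ a : V) : X.functionField) = algebraMap (X.presheaf.stalk x₂) X.functionField a) :
    x₁ = x₂ := by
  let ι : CommRingCat.of V ⟶ CommRingCat.of X.functionField :=
    CommRingCat.ofHom (algebraMap V X.functionField)
  have e₁ : CommRingCat.ofHom ψ₁ ≫ ι =
      CommRingCat.ofHom (algebraMap (X.presheaf.stalk x₁) X.functionField) := by
    ext a
    exact h₁ a
  have e₂ : CommRingCat.ofHom ψ₂ ≫ ι =
      CommRingCat.ofHom (algebraMap (X.presheaf.stalk x₂) X.functionField) := by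
    ext a
    exact h₂ a
  let l₁ : Spec (CommRingCat.of V) ⟶ X := Spec.map (CommRingCat.ofHom ψ₁) ≫ X.fromSpecStalk x₁
  let l₂ : Spec (CommRingCat.of V) ⟶ X := Spec.map (CommRingCat.ofHom ψ₂) ≫ X.fromSpecStalk x₂
  have hl₁ : Spec.map ι ≫ l₁ = X.fromSpecStalk (genericPoint X) := by
    change Spec.map ι ≫ Spec.map (CommRingCat.ofHom ψ₁) ≫ X.fromSpecStalk x₁ = _
    rw [← Spec.map_comp_assoc, e₁, specMap_algebraMap_fromSpecStalk]
  have hl₂ : Spec.map ι ≫ l₂ = X.fromSpecStalk (genericPoint X) := by
    change Spec.map ι ≫ Spec.map (CommRingCat.ofHom ψ₂) ≫ X.fromSpecStalk x₂ = _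
    rw [← Spec.map_comp_assoc, e₂, specMap_algebraMap_fromSpecStalk]
  have hdom : IsDominant (Spec.map ι) := by
    constructor
    rw [DenseRange]
    intro p
    have hmem : Spec.map ι (IsLocalRing.closedPoint X.functionField) ∈
        Set.range (Spec.map ι) := ⟨_, rfl⟩
    apply closure_mono (Set.singleton_subset_iff.mpr hmem)
    rw [← specializes_iff_mem_closure, ← PrimeSpectrum.le_iff_specializes]
    intro a ha
    change algebraMap V X.functionField a ∈ IsLocalRing.maximalIdeal X.functionField at ha
    rw [IsLocalRing.maximalIdeal_eq_bot, Ideal.mem_bot] at ha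
    have : a = 0 := Subtype.ext ha
    rw [this]
    exact zero_mem _
  let Sq : ValuativeCommSq c :=
    { R := V
      K := X.functionField
      i₁ := X.fromSpecStalk (genericPoint X)
      i₂ := l₁ ≫ c
      commSq := ⟨by
        change _ = Spec.map ι ≫ l₁ ≫ c
        rw [← Category.assoc, hl₁]⟩ }
  have hsub := IsSeparated.valuativeCriterion c Sq
  let L₁ : Sq.commSq.LiftStruct :=
    { l := l₁
      fac_left := hl₁
      fac_right := rfl }
  let L₂ : Sq.commSq.LiftStruct :=
    { l := l₂
      fac_left := hl₂
      fac_right := by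
        haveI := hdom
        apply ext_of_isDominant (Spec.map ι)
        rw [← Category.assoc, hl₂, ← Category.assoc, hl₁] }
  have hL : L₁ = L₂ := Subsingleton.elim _ _
  have hl : l₁ = l₂ := congrArg CommSq.LiftStruct.l hL
  have hcl₁ : l₁ (IsLocalRing.closedPoint V) = x₁ := by
    change (Spec.map (CommRingCat.ofHom ψ₁) ≫ X.fromSpecStalk x₁) _ = _
    rw [Scheme.Hom.comp_apply]
    have h2 : Spec.map (CommRingCat.ofHom ψ₁) (IsLocalRing.closedPoint V) =
        IsLocalRing.closedPoint (X.presheaf.stalk x₁) := IsLocalRing.comap_closedPoint ψ₁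
    exact (congrArg (X.fromSpecStalk x₁) h2).trans Scheme.fromSpecStalk_closedPoint
  have hcl₂ : l₂ (IsLocalRing.closedPoint V) = x₂ := by
    change (Spec.map (CommRingCat.ofHom ψ₂) ≫ X.fromSpecStalk x₂) _ = _
    rw [Scheme.Hom.comp_apply]
    have h2 : Spec.map (CommRingCat.ofHom ψ₂) (IsLocalRing.closedPoint V) =
        IsLocalRing.closedPoint (X.presheaf.stalk x₂) := IsLocalRing.comap_closedPoint ψ₂
    exact (congrArg (X.fromSpecStalk x₂) h2).trans Scheme.fromSpecStalk_closedPoint
  rw [← hcl₁, hl, hcl₂]

end Groth.Agent.Lib.T3H4.CurveGeo
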