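import Mathlib
import Groth.Prelude.Def_W4bk4goldsch23FF
import Groth.Agent.Lib.LeadFG1
import Groth.Agent.Lib.Helper14Japanese
import Groth.Agent.Lib.Helper14FTDim
import Groth.Agent.Lib.Helper4Japanese3
import Groth.Agent.Lib.Helper4CurveAlg
import Groth.Agent.Lib.T3H4CurveGeoA
import Groth.Agent.Lib.T3H4CurveGeoB
set_option backward.isDefEq.respectTransparency.types false

/-!
# Integral curves of finite type over a field: algebra structures (helper4)

For `c : X ⟶ Spec K` locally of finite type with `X` integral of dimension one: the `K`-algebra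
structures on the local rings and the function field, finiteness of the integral closures of the
local rings, and the function field is a function field of one variable over `K`.

Namespace `Groth.Agent.Lib.T3H4.CurveGeo`.
-/

set_option autoImplicit false
set_option linter.style.haveILetI false
universe u

open AlgebraicGeometry CategoryTheory TopologicalSpace

namespace Groth.Agent.Lib.T3H4.CurveGeo

variable {X : Scheme.{u}} {K : Type u} [Field K] (c : X ⟶ Spec (CommRingCat.of K))

/-- the `K`-algebra structure of a local ring of a scheme over `Spec K` -/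
@[reducible] noncomputable def algStalk (x : X) : Algebra K (X.presheaf.stalk x) :=
  (ρ c x).hom.toAlgebra

/-- the `K`-algebra structure of the function field -/
@[reducible] noncomputable def algFF [IsIntegral X] : Algebra K X.functionField :=
  (ρ c (genericPoint X)).hom.toAlgebra

theorem isScalarTower_stalk [IsIntegral X] (x : X) :
    letI := algStalk c x
    letI := algFF c
    IsScalarTower K (X.presheaf.stalk x) X.functionField := by
  letI := algStalk c x
  letI := algFF c
  exact IsScalarTower.of_algebraMap_eq fun r => (algebraMap_ρ c x r).symm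

section chart

variable (U : X.Opens)

/-- the structure map to the sections over an open -/
noncomputable def ρU : CommRingCat.of K ⟶ Γ(X, U) :=
  (Scheme.ΓSpecIso (CommRingCat.of K)).inv ≫ c.appTop ≫ X.presheaf.map (homOfLE le_top).op

theorem ρU_germ (x : X) (hx : x ∈ U) : ρU c U ≫ X.presheaf.germ U x hx = ρ c x := by
  simp only [ρU, ρ, Category.assoc, TopCat.Presheaf.germ_res]

/-- the `K`-algebra structure of the sections over an open -/
@[reducible] noncomputable def algU : Algebra K Γ(X, U) := (ρU c U).hom.toAlgebra

theorem finiteType_algU [LocallyOfFiniteType c] (hU : IsAffineOpen U) :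
    letI := algU c U
    Algebra.FiniteType K Γ(X, U) := by
  have h1 : (c.appLE ⊤ U le_top).hom.FiniteType :=
    c.finiteType_appLE (isAffineOpen_top _) hU le_top
  have h2 : (Scheme.ΓSpecIso (CommRingCat.of K)).inv.hom.FiniteType := by
    apply RingHom.FiniteType.of_surjective
    intro y
    exact ⟨(Scheme.ΓSpecIso (CommRingCat.of K)).hom.hom y,
      congr($((Scheme.ΓSpecIso (CommRingCat.of K)).hom_inv_id).hom y)⟩
  have h3 := h1.comp h2
  exact h3

theorem essFiniteType_stalk_of_chart [LocallyOfFiniteType c] (hU : IsAffineOpen U) (x : X)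
    (hx : x ∈ U) :
    letI := algStalk c x
    Algebra.EssFiniteType K (X.presheaf.stalk x) := by
  letI := algStalk c x
  letI := algU c U
  haveI := finiteType_algU c U hU
  letI : Algebra Γ(X, U) (X.presheaf.stalk x) := (X.presheaf.germ U x hx).hom.toAlgebra
  haveI : IsScalarTower K Γ(X, U) (X.presheaf.stalk x) :=
    IsScalarTower.of_algebraMap_eq fun r => (congr($(ρU_germ c U x hx).hom r)).symm
  haveI : IsLocalization.AtPrime (X.presheaf.stalk x) (hU.primeIdealOf ⟨x, hx⟩).asIdeal :=
    hU.isLocalization_stalk ⟨x, hx⟩
  haveI : Algebra.EssFiniteType Γ(X, U) (X.presheaf.stalk x) :=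
    Algebra.EssFiniteType.of_isLocalization _ (hU.primeIdealOf ⟨x, hx⟩).asIdeal.primeCompl
  exact Algebra.EssFiniteType.comp K Γ(X, U) (X.presheaf.stalk x)

theorem ringKrullDim_le_one_of_chart (hdim : topologicalKrullDim X = 1) (hU : IsAffineOpen U) :
    ringKrullDim Γ(X, U) ≤ 1 := by
  rw [← PrimeSpectrum.topologicalKrullDim_eq_ringKrullDim Γ(X, U)]
  change topologicalKrullDim (Spec Γ(X, U)) ≤ 1
  rw [← IsHomeomorph.topologicalKrullDim_eq _ hU.isoSpec.hom.homeomorph.isHomeomorph]
  exact (topologicalKrullDim_subspace_le X U).trans hdim.le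

open Groth.Agent.Lib.LeadFG in
theorem isFF_of_chart [IsIntegral X] [LocallyOfFiniteType c] (hdim : topologicalKrullDim X = 1)
    (hU : IsAffineOpen U) (x : X) (hx : x ∈ U) (hcl : IsClosed ({x} : Set X)) :
    letI := algFF c
    IsFF K X.functionField := by
  letI := algFF c
  letI := algU c U
  haveI := finiteType_algU c U hU
  haveI : Nonempty U := ⟨⟨x, hx⟩⟩
  haveI : IsFractionRing Γ(X, U) X.functionField :=
    functionField_isFractionRing_of_isAffineOpen X U hU
  haveI : IsScalarTower K Γ(X, U) X.functionField :=
    IsScalarTower.of_algebraMap_eq fun r => (congr($(ρU_germ c U (genericPoint X)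
      (((genericPoint_spec X).mem_open_set_iff U.isOpen).mpr (by simpa using ‹Nonempty U›))).hom r)).symm
  -- the dimension of the chart
  have hd1 : ringKrullDim Γ(X, U) = 1 := by
    apply le_antisymm (ringKrullDim_le_one_of_chart U hdim hU)
    letI : Algebra Γ(X, U) (X.presheaf.stalk x) := (X.presheaf.germ U x hx).hom.toAlgebra
    haveI : IsLocalization.AtPrime (X.presheaf.stalk x) (hU.primeIdealOf ⟨x, hx⟩).asIdeal :=
      hU.isLocalization_stalk ⟨x, hx⟩
    have h1 := IsLocalization.AtPrime.ringKrullDim_eq_height (hU.primeIdealOf ⟨x, hx⟩).asIdeal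
      (X.presheaf.stalk x)
    rw [ringKrullDim_stalk_eq_one hdim hcl] at h1
    rw [h1]
    exact Ideal.height_le_ringKrullDim_of_ne_top Ideal.IsPrime.ne_top'
  obtain ⟨n, hn1, hn2, -⟩ := Groth.Agent.Lib.Helper14.FTDim.exists_dim K Γ(X, U)
  have hn : n = 1 := by
    rw [hd1] at hn2
    exact_mod_cast hn2.symm
  subst hn
  have htr : Algebra.trdeg K X.functionField = 1 := by
    let e : FractionRing Γ(X, U) ≃ₐ[Γ(X, U)] X.functionField :=
      FractionRing.algEquiv Γ(X, U) X.functionField
    rw [← (e.restrictScalars K).trdeg_eq, hn1]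
    rfl
  haveI : Algebra.EssFiniteType Γ(X, U) X.functionField :=
    Algebra.EssFiniteType.of_isLocalization _ (nonZeroDivisors Γ(X, U))
  haveI : Algebra.EssFiniteType K X.functionField :=
    Algebra.EssFiniteType.comp K Γ(X, U) X.functionField
  have hfg : (⊤ : IntermediateField K X.functionField).FG := IntermediateField.fg_top_iff.mpr ‹_›
  obtain ⟨t, ht⟩ := Groth.Agent.Lib.Helper4.CurveAlg.exists_transcendental htr
  exact ⟨t, ht, Groth.Agent.Lib.Helper4.CurveAlg.finite_adjoin hfg htr t ht⟩

end chart

theorem exists_affine_chart (x : X) : ∃ U : X.Opens, IsAffineOpen U ∧ x ∈ U := by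
  obtain ⟨_, ⟨U, hU, rfl⟩, hxU, -⟩ :=
    X.isBasis_affineOpens.exists_subset_of_mem_open (Set.mem_univ x) isOpen_univ
  exact ⟨U, hU, hxU⟩

theorem essFiniteType_stalk [LocallyOfFiniteType c] (x : X) :
    letI := algStalk c x
    Algebra.EssFiniteType K (X.presheaf.stalk x) := by
  obtain ⟨U, hU, hx⟩ := exists_affine_chart x
  exact essFiniteType_stalk_of_chart c U hU x hx

open Groth.Agent.Lib.Helper4.Japanese in
theorem finite_integralClosure_stalk [IsIntegral X] [LocallyOfFiniteType c] (x : X) :
    Module.Finite (X.presheaf.stalk x)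
      (integralClosure (X.presheaf.stalk x) X.functionField) := by
  letI := algStalk c x
  haveI := essFiniteType_stalk c x
  have h := Groth.Agent.Lib.Helper14.isN2_of_essFiniteType K (isUniversallyJapanese_field K)
    (X.presheaf.stalk x)
  exact Groth.Agent.Lib.Helper14.IsN2.finite h X.functionField X.functionField

open Groth.Agent.Lib.LeadFG in
theorem isFF [IsIntegral X] [LocallyOfFiniteType c] (hdim : topologicalKrullDim X = 1)
    (x : X) (hcl : IsClosed ({x} : Set X)) :
    letI := algFF c
    IsFF K X.functionField := by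
  obtain ⟨U, hU, hx⟩ := exists_affine_chart x
  exact isFF_of_chart c U hdim hU x hx hcl

end Groth.Agent.Lib.T3H4.CurveGeo
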