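import Mathlib
import Groth.Prelude.Def_Tame
import Groth.Prelude.Def_W4bk4goldsch23FF
import Groth.Agent.Lib.LeadFG7
import Groth.Agent.Lib.T2H4PushPullB
import Groth.Agent.Lib.T3H4CurveDegB
import Groth.Agent.Lib.T3H4CurveGeoC
set_option backward.isDefEq.respectTransparency.types false

/-!
# The degree of a principal divisor on a complete integral curve is zero (helper4)

Namespace `Groth.Agent.Lib.T3H4.CurveGeo`.
-/

set_option autoImplicit false
set_option linter.style.haveILetI false
universe u

open AlgebraicGeometry CategoryTheory TopologicalSpace FunFld Groth.Agent.Lib.LeadFG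
  Groth.Agent.Lib.T3H4.CurveDeg

namespace Groth.Agent.Lib.T3H4.CurveGeo

variable {X : Scheme.{u}} {K : Type u} [Field K] (c : X ⟶ Spec (CommRingCat.of K))

/-- the residue degree over `Spec K` is the degree of the residue field over `K` -/
theorem residueDegree_eq (x : X) :
    letI := algStalk c x
    c.residueDegree x = Module.finrank K (IsLocalRing.ResidueField (X.presheaf.stalk x)) := by
  letI := algStalk c x
  let y : Spec (CommRingCat.of K) := c x
  let θ' : CommRingCat.of K ⟶ (Spec (CommRingCat.of K)).residueField y :=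
    (Scheme.ΓSpecIso (CommRingCat.of K)).inv ≫
      (Spec (CommRingCat.of K)).presheaf.germ ⊤ y trivial ≫ (Spec (CommRingCat.of K)).residue y
  let θ : K →+* (Spec (CommRingCat.of K)).residueField y := θ'.hom
  haveI hmax : y.asIdeal.IsMaximal := by
    have h0 : y.asIdeal = ⊥ := Ideal.eq_bot_of_prime y.asIdeal
    rw [h0]
    exact Ideal.bot_isMaximal
  have hθ' : θ' = CommRingCat.ofHom (algebraMap (CommRingCat.of K) y.asIdeal.ResidueField) ≫
      (Scheme.Spec.residueFieldIso (CommRingCat.of K) y).inv :=
    (Scheme.Spec.algebraMap_residueFieldIso_inv (CommRingCat.of K) y).symm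
  have hsurj : Function.Surjective θ := by
    intro w
    obtain ⟨r, hr⟩ := Ideal.algebraMap_residueField_surjective y.asIdeal
      ((Scheme.Spec.residueFieldIso (CommRingCat.of K) y).hom.hom w)
    refine ⟨r, ?_⟩
    change θ'.hom r = w
    rw [hθ']
    change (Scheme.Spec.residueFieldIso (CommRingCat.of K) y).inv.hom
      (algebraMap K y.asIdeal.ResidueField r) = w
    rw [hr]
    exact congr($((Scheme.Spec.residueFieldIso (CommRingCat.of K) y).hom_inv_id).hom w)
  have hθ : Function.Bijective θ := ⟨θ.injective, hsurj⟩
  let i : K ≃+* (Spec (CommRingCat.of K)).residueField y := RingEquiv.ofBijective θ hθ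
  letI := (c.residueFieldMap x).hom.toAlgebra
  symm
  refine Algebra.finrank_eq_of_equiv_equiv i (RingEquiv.refl _) ?_
  have hcomp : θ' ≫ c.residueFieldMap x = ρ c x ≫ X.residue x := by
    change ((Scheme.ΓSpecIso (CommRingCat.of K)).inv ≫
      (Spec (CommRingCat.of K)).presheaf.germ ⊤ (c x) trivial ≫
      (Spec (CommRingCat.of K)).residue (c x)) ≫ c.residueFieldMap x = _
    simp only [ρ, Category.assoc, Scheme.residue_residueFieldMap,
      Scheme.Hom.germ_stalkMap_assoc]
    rfl
  ext r
  exact congr($(hcomp).hom r)

section algebra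

variable {F : Type u} [Field F] [Algebra K F] (A : Type u) [CommRing A] [IsLocalRing A]
  [Algebra A F] [IsFractionRing A F]

/-- no place dominates a field -/
theorem not_dominates_of_isField (hA : IsField A) (P : Place K F) : ¬ Dominates K A P := by
  intro hP
  obtain ⟨t, ht⟩ := exists_unif P
  have ht0 : t ≠ 0 := unif_ne_zero ht
  obtain ⟨a, b, hb, hab⟩ := IsFractionRing.div_surjective (A := A) t⁻¹
  have hb0 : b ≠ 0 := by
    rintro rfl
    have := hb
    rw [mem_nonZeroDivisors_iff] at this
    have h1 := this.1 1 (by simp)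
    exact hA.nontrivial.exists_pair_ne.elim fun x hx => hx.elim fun y hxy => hxy (by
      have hx0 : x = x * 1 := (mul_one x).symm
      have hy0 : y = y * 1 := (mul_one y).symm
      rw [hx0, hy0, h1, mul_zero, mul_zero])
  obtain ⟨b', hb'⟩ := hA.mul_inv_cancel hb0
  have h1 : P.1 (algebraMap A F b) * P.1 (algebraMap A F b') = 1 := by
    rw [← map_mul, ← map_mul, hb', map_one, map_one]
  have hb1 : P.1 (algebraMap A F b) = 1 := by
    apply le_antisymm (hP.1 b)
    by_contra hlt
    push Not at hlt
    have : P.1 (algebraMap A F b) * P.1 (algebraMap A F b') < 1 :=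
      mul_lt_one_of_nonneg_of_lt_one_left zero_le hlt (hP.1 b')
    rw [h1] at this
    exact lt_irrefl _ this
  have h2 : P.1 t⁻¹ ≤ 1 := by
    rw [← hab, map_div₀, hb1, div_one]
    exact hP.1 a
  rw [map_inv₀, ht] at h2
  have h3 : (1 : WithZero (Multiplicative ℤ)) < (WithZero.exp (-1 : ℤ))⁻¹ := by
    rw [← WithZero.exp_neg, neg_neg, ← WithZero.exp_zero, WithZero.exp_lt_exp]
    norm_num
  exact absurd h2 (not_le.mpr h3)

variable {A}

/-- a place dominating `A` gives a local homomorphism to its valuation ring -/
theorem exists_localHom_of_dominates (P : Place K F) (hP : Dominates K A P) :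
    ∃ ψ : A →+* P.O, IsLocalHom ψ ∧ ∀ a : A, ((ψ a : P.O) : F) = algebraMap A F a := by
  refine ⟨(algebraMap A F).codRestrict P.O.toSubring hP.1, ⟨?_⟩, fun a => rfl⟩
  intro a ha
  by_contra hna
  have h1 : a ∈ IsLocalRing.maximalIdeal A := (IsLocalRing.mem_maximalIdeal a).mpr hna
  have h2 := hP.2 a h1
  rw [← val_eq_one_iff_isUnit] at ha
  exact h2.ne ha

theorem dominates_of_localHom (P : Place K F) (ψ : A →+* P.O) [IsLocalHom ψ]
    (h : ∀ a : A, ((ψ a : P.O) : F) = algebraMap A F a) : Dominates K A P := by
  refine ⟨fun a => ?_, fun a ha => ?_⟩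
  · rw [← h a]
    exact (ψ a).2
  · rw [← h a]
    have h1 : P.1 ((ψ a : P.O) : F) ≤ 1 := (ψ a).2
    refine lt_of_le_of_ne h1 (fun h2 => ?_)
    have h3 : IsUnit (ψ a) := (val_eq_one_iff_isUnit P _).mp h2
    have h4 : IsUnit a := IsLocalHom.map_nonunit a h3
    exact ((IsLocalRing.mem_maximalIdeal a).mp ha) h4

end algebra

section main

variable [IsIntegral X] [IsProper c]

/-- every place of the function field has a centre on a complete curve, a closed point -/
theorem exists_center_of_place (hdim : topologicalKrullDim X = 1)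
    (P : @Place K X.functionField _ _ (algFF c)) :
    letI := algFF c
    ∃ x : X, IsClosed ({x} : Set X) ∧ Dominates K (X.presheaf.stalk x) P := by
  letI := algFF c
  have hval : ValuativeCriterion.Existence c := by
    have h : UniversallyClosed c := inferInstance
    rw [UniversallyClosed.eq_valuativeCriterion] at h
    exact h.1
  obtain ⟨x, ψ, hψ, h⟩ := exists_center c hval P.O (fun r => P.2.1 r)
  haveI := hψ
  have hdom : Dominates K (X.presheaf.stalk x) P := dominates_of_localHom P ψ h
  refine ⟨x, ?_, hdom⟩
  apply isClosed_of_ne_genericPoint hdim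
  rintro rfl
  exact @not_dominates_of_isField K _ X.functionField _ (algFF c)
    (X.presheaf.stalk (genericPoint X)) _ _ (stalkFunctionFieldAlgebra X (genericPoint X))
    inferInstance (Field.toIsField X.functionField) P hdom

/-- the centre of a place is unique -/
theorem center_unique_of_place (P : @Place K X.functionField _ _ (algFF c)) (x₁ x₂ : X)
    (h₁ : @Dominates K X.functionField _ _ (algFF c) (X.presheaf.stalk x₁) _ _ _ P)
    (h₂ : @Dominates K X.functionField _ _ (algFF c) (X.presheaf.stalk x₂) _ _ _ P) :
    x₁ = x₂ := by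
  letI := algFF c
  obtain ⟨ψ₁, hψ₁, e₁⟩ := exists_localHom_of_dominates P h₁
  obtain ⟨ψ₂, hψ₂, e₂⟩ := exists_localHom_of_dominates P h₂
  haveI := hψ₁
  haveI := hψ₂
  exact center_unique c P.O x₁ x₂ ψ₁ e₁ ψ₂ e₂

/-- **the degree of a principal divisor on a complete integral curve over a field is zero** -/
theorem finsum_residueDegree_mul_ordFrac_eq_zero (hdim : topologicalKrullDim X = 1)
    (f : X.functionField) (hf : f ≠ 0) :
    ∑ᶠ (x : X) (_ : IsClosed ({x} : Set X)), (c.residueDegree x : ℤ) *
      CycAlg.ordFrac (X.presheaf.stalk x) X.functionField f = 0 := by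
  by_cases hne : ∃ x : X, IsClosed ({x} : Set X)
  · obtain ⟨x₀, hx₀⟩ := hne
    letI := algFF c
    have hFF : IsFF K X.functionField := isFF c hdim x₀ hx₀
    choose cen hcen_cl hcen_dom using exists_center_of_place c hdim
    let G : Place K X.functionField → ℤ := fun P => (P.deg : ℤ) * P.ord f
    have hsuppG : Function.support G ⊆ Function.support fun P : Place K X.functionField =>
        P.ord f := by
      intro P hP
      rw [Function.mem_support] at hP ⊢
      intro h0
      apply hP
      change (P.deg : ℤ) * P.ord f = 0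
      rw [h0, mul_zero]
    have hsupp : (Function.support G).Finite := (support_ord_finite hFF f).subset hsuppG
    have hfib := Groth.Agent.Lib.T2H4.PushPull.finsum_mem_fiberwise cen Set.univ
      {x : X | IsClosed ({x} : Set X)} (fun P _ => hcen_cl P) G
      (hsupp.subset Set.inter_subset_right)
    have htot : ∑ᶠ P ∈ (Set.univ : Set (Place K X.functionField)), G P = 0 := by
      rw [finsum_mem_univ]
      have h1 := deg_div hFF f
      unfold FunFld.Divisor.deg at h1
      rw [Finsupp.sum] at h1
      have hsub : Function.support G ⊆ ((FunFld.div K f).support : Set _) := by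
        intro P hP
        have h2 := hsuppG hP
        rw [Function.mem_support] at h2
        rw [Finset.mem_coe, Finsupp.mem_support_iff, div_apply hFF f P]
        exact h2
      rw [finsum_eq_sum_of_support_subset G hsub, ← h1]
      refine Finset.sum_congr rfl fun P _ => ?_
      rw [div_apply hFF f P]
      exact mul_comm _ _
    change ∑ᶠ x ∈ {x : X | IsClosed ({x} : Set X)}, (c.residueDegree x : ℤ) *
      CycAlg.ordFrac (X.presheaf.stalk x) X.functionField f = 0
    rw [← htot, ← hfib]
    refine finsum_mem_congr rfl fun x hx => ?_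
    have hx' : IsClosed ({x} : Set X) := hx
    letI := algStalk c x
    haveI := isScalarTower_stalk c x
    haveI : IsLocallyNoetherian X := LocallyOfFiniteType.isLocallyNoetherian c
    haveI : Module.Finite (X.presheaf.stalk x) (BB (X.presheaf.stalk x) X.functionField) :=
      finite_integralClosure_stalk c x
    have hloc := local_formula (K := K) (A := X.presheaf.stalk x)
      (ringKrullDim_stalk_eq_one hdim hx') f hf
    rw [residueDegree_eq c x, ← hloc]
    have hset : {a : Place K X.functionField | cen a = x ∧ a ∈ Set.univ} =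
        {P | Dominates K (X.presheaf.stalk x) P} := by
      ext P
      constructor
      · rintro ⟨rfl, -⟩
        exact hcen_dom P
      · intro h
        exact ⟨center_unique_of_place c P _ _ (hcen_dom P) h, trivial⟩
    rw [hset]
    exact finsum_set_coe_eq_finsum_mem (f := G) {P | Dominates K (X.presheaf.stalk x) P}
  · push Not at hne
    have h0 : ∀ x : X, ∑ᶠ (_ : IsClosed ({x} : Set X)), (c.residueDegree x : ℤ) *
        CycAlg.ordFrac (X.presheaf.stalk x) X.functionField f = 0 := fun x => by
      haveI : IsEmpty (IsClosed ({x} : Set X)) := ⟨hne x⟩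
      exact finsum_of_isEmpty _
    calc _ = ∑ᶠ _ : X, (0 : ℤ) := finsum_congr h0
      _ = 0 := finsum_zero

end main

end Groth.Agent.Lib.T3H4.CurveGeo
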