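import Mathlib
import Groth.Prelude.Def_W4bk6serrecg25LocSym
import Groth.Agent.Lib.T1H3LocSymCrit
import Groth.Agent.Lib.T3H4CurveGeoD
import Groth.Agent.Lib.Helper11KPts

/-!
# Values of rational functions at rational points of a smooth proper curve (helper3)

Namespace `Groth.Agent.Lib.T2H3.LocSymValue`.
-/

set_option autoImplicit false
set_option linter.style.haveILetI false
universe v u
open CategoryTheory CategoryTheory.Limits AlgebraicGeometry TopologicalSpace

namespace Groth.Agent.Lib.T2H3.LocSymValue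

open Groth.Agent.Lib.T1H3.LocSymDVR Groth.Agent.Lib.T1H3.LocSymFin
  Groth.Agent.Lib.T1H3.LocSymApprox Groth.Agent.Lib.T1H3.LocSymUniq
  Groth.Agent.Lib.T1H3.LocSymExist Groth.Agent.Lib.T1H3.LocSymCrit

section Alg

variable (R : Type u) [CommRing R] [IsDomain R] [IsDiscreteValuationRing R]
  {K : Type v} [Field K] [Algebra R K] [IsFractionRing R K]

/-- In the fraction field of a discrete valuation ring, elements of nonnegative order are integral. -/
lemma exists_algebraMap_eq_of_ordZ_nonneg {f : K} (hf : f ≠ 0) (h : 0 ≤ CycAlg.ordFrac R K f) :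
    ∃ r : R, algebraMap R K r = f := by
  obtain ⟨r, s, hs, rfl⟩ := IsFractionRing.div_surjective (A := R) f
  have hs0 : s ≠ 0 := nonZeroDivisors.ne_zero hs
  have hr0 : r ≠ 0 := by
    rintro rfl
    apply hf
    rw [map_zero, zero_div]
  obtain ⟨ϖ, hϖ⟩ := IsDiscreteValuationRing.exists_irreducible R
  obtain ⟨a, u₁, rfl⟩ := IsDiscreteValuationRing.eq_unit_mul_pow_irreducible hr0 hϖ
  obtain ⟨b, u₂, rfl⟩ := IsDiscreteValuationRing.eq_unit_mul_pow_irreducible hs0 hϖ
  have hinj := IsFractionRing.injective R K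
  have hϖK : algebraMap R K ϖ ≠ 0 := by simpa using hinj.ne hϖ.ne_zero
  have hu₁K : algebraMap R K (u₁ : R) ≠ 0 := by simp
  have hu₂K : algebraMap R K (u₂ : R) ≠ 0 := by simp
  have hord : ∀ (u : Rˣ), CycAlg.ordFrac R K (algebraMap R K (u : R)) = 0 := fun u => by
    have h1 := ordZ_mul R (K := K) (f := algebraMap R K (u : R))
      (g := algebraMap R K ((u⁻¹ : Rˣ) : R)) (by simp)
      (by simp)
    rw [← map_mul, ← Units.val_mul, mul_inv_cancel, Units.val_one, map_one, ordZ_one] at h1
    have h2 := ordZ_algebraMap_nonneg R (K := K) u.ne_zero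
    have h3 := ordZ_algebraMap_nonneg R (K := K) (u⁻¹).ne_zero
    omega
  rw [map_mul, map_mul, map_pow, map_pow,
    ordZ_div R (mul_ne_zero hu₁K (pow_ne_zero _ hϖK)) (mul_ne_zero hu₂K (pow_ne_zero _ hϖK)),
    ordZ_mul R hu₁K (pow_ne_zero _ hϖK), ordZ_mul R hu₂K (pow_ne_zero _ hϖK),
    ordZ_pow R hϖK, ordZ_pow R hϖK, ordZ_irreducible R hϖ, hord, hord] at h
  have hba : b ≤ a := by omega
  refine ⟨(u₁ : R) * ((u₂⁻¹ : Rˣ) : R) * ϖ ^ (a - b), ?_⟩
  rw [map_mul, map_mul, map_pow, map_mul, map_mul, map_pow, map_pow]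
  have h4 : algebraMap R K ((u₂⁻¹ : Rˣ) : R) = (algebraMap R K (u₂ : R))⁻¹ := by
    apply eq_inv_of_mul_eq_one_left
    rw [← map_mul, ← Units.val_mul, inv_mul_cancel, Units.val_one, map_one]
  rw [h4]
  have h5 : (algebraMap R K ϖ) ^ a = (algebraMap R K ϖ) ^ (a - b) * (algebraMap R K ϖ) ^ b := by
    rw [← pow_add, Nat.sub_add_cancel hba]
  rw [h5]
  field_simp

end Alg


section Eval

variable {k : Type u} [Field k] {X : Scheme.{u}} (c : X ⟶ Spec (CommRingCat.of k))

/-- The structure map `k → O_{X,x}` at a rational point. -/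
noncomputable def ρ (x : LocSym.Pt c) : k →+* X.presheaf.stalk x.pt :=
  (X.presheaf.germ ⊤ x.pt trivial).hom.comp
    (c.appTop.hom.comp (Scheme.ΓSpecIso (CommRingCat.of k)).inv.hom)

/-- Evaluation at a rational point. -/
noncomputable def ev (x : LocSym.Pt c) : X.presheaf.stalk x.pt →+* k :=
  (Scheme.stalkClosedPointTo x.1).hom

instance (x : LocSym.Pt c) : IsLocalHom (ev c x) :=
  Scheme.isLocalHom_stalkClosedPointTo' x.1

lemma ev_germ_top (x : LocSym.Pt c) (t : Γ(X, ⊤)) :
    ev c x (X.presheaf.germ ⊤ x.pt trivial t) =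
      (Scheme.ΓSpecIso (CommRingCat.of k)).hom.hom (x.1.appTop.hom t) := by
  have h := Scheme.germ_stalkClosedPointTo x.1 ⊤ trivial
  have h2 := congrArg (fun φ => φ.hom t) h
  simp only [CommRingCat.hom_comp, RingHom.comp_apply] at h2
  refine h2.trans ?_
  simp [Scheme.Hom.appTop]
  rfl

lemma ev_ρ (x : LocSym.Pt c) (a : k) : ev c x (ρ c x a) = a := by
  have h1 : c.appTop ≫ x.1.appTop = 𝟙 _ := by
    rw [← Scheme.Hom.comp_appTop, x.2]; rfl
  have h2 : ∀ s, x.1.appTop.hom (c.appTop.hom s) = s := fun s => by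
    have := congrArg (fun φ => φ.hom s) h1
    simpa using this
  show ev c x (X.presheaf.germ ⊤ x.pt trivial
    (c.appTop.hom ((Scheme.ΓSpecIso (CommRingCat.of k)).inv.hom a))) = a
  rw [ev_germ_top, h2]
  simp

end Eval


section Value

variable {k : Type u} [Field k] {X : Scheme.{u}} [IsIntegral X]
  (c : X ⟶ Spec (CommRingCat.of k))

lemma algebraMap_ρ (x : LocSym.Pt c) (a : k) :
    algebraMap (X.presheaf.stalk x.pt) X.functionField (ρ c x a) = LocSym.constFun c a := by
  haveI : Nonempty (⊤ : X.Opens) := ⟨⟨x.pt, trivial⟩⟩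
  exact Scheme.algebraMap_germ_eq_germToFunctionField X (U := ⊤) (x := x.pt) (Set.mem_univ _) _

variable [IsProper c] [Smooth c] (hdim : topologicalKrullDim X = 1)
include hdim

/-- A rational function regular at a rational point has a value there. -/
theorem exists_value (x : LocSym.Pt c) {u : X.functionField} (hu : u ≠ 0) (h0 : 0 ≤ x.ord u) :
    ∃ a : k, LocSym.HasValueAt x u a ∧ (x.ord u = 0 → a ≠ 0) := by
  haveI := isDVR_stalk c hdim x
  obtain ⟨r, rfl⟩ := exists_algebraMap_eq_of_ordZ_nonneg (X.presheaf.stalk x.pt) hu h0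
  set a := ev c x r with ha
  have hmem : r - ρ c x a ∈ IsLocalRing.maximalIdeal (X.presheaf.stalk x.pt) := by
    rw [IsLocalRing.mem_maximalIdeal, mem_nonunits_iff]
    intro hunit
    have := hunit.map (ev c x)
    rw [map_sub, ev_ρ, sub_self] at this
    exact not_isUnit_zero this
  refine ⟨a, ?_, ?_⟩
  · by_cases hz : r - ρ c x a = 0
    · left
      rw [← algebraMap_ρ c x a, ← sub_eq_zero, ← map_sub, hz, map_zero]
    · right
      rw [← algebraMap_ρ c x a, ← map_sub]
      have := le_ordZ_of_mem_pow (X.presheaf.stalk x.pt) (K := X.functionField) hz 1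
        (by simpa using hmem)
      show 0 < CycAlg.ordFrac _ _ _
      omega
  · intro h0' ha0
    have hr0 : r ≠ 0 := by
      rintro rfl
      exact hu (map_zero _)
    have hmem' : r ∈ IsLocalRing.maximalIdeal (X.presheaf.stalk x.pt) := by
      have := hmem
      rw [ha0, map_zero, sub_zero] at this
      exact this
    have h1 := le_ordZ_of_mem_pow (X.presheaf.stalk x.pt) (K := X.functionField) hr0 1
      (by simpa using hmem')
    have h2 : x.ord (algebraMap (X.presheaf.stalk x.pt) X.functionField r) =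
      CycAlg.ordFrac _ _ (algebraMap (X.presheaf.stalk x.pt) X.functionField r) := rfl
    omega

/-- The value of a rational function at a rational point is unique. -/
theorem value_unique (x : LocSym.Pt c) {u : X.functionField} {a b : k}
    (ha : LocSym.HasValueAt x u a) (hb : LocSym.HasValueAt x u b) : a = b := by
  by_contra hab
  have hab' : a - b ≠ 0 := sub_ne_zero.mpr hab
  have hc0 : LocSym.constFun c (a - b) ≠ 0 := constFun_ne_zero c hab'
  have hcord : x.ord (LocSym.constFun c (a - b)) = 0 := ord_constFun c x hab'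
  have hsub : LocSym.constFun c (a - b) =
      (u - LocSym.constFun c b) + -(u - LocSym.constFun c a) := by
    rw [map_sub]; ring
  rcases ha with ha | ha <;> rcases hb with hb | hb
  · apply hc0; rw [hsub, ← ha, ← hb]; ring
  · rw [hsub, ← ha, sub_self, neg_zero, add_zero] at hcord
    omega
  · rw [hsub, ← hb, sub_self, zero_add, ord_neg c hdim] at hcord
    omega
  · have hp : u - LocSym.constFun c a ≠ 0 := by
      intro h; rw [h, ord_zero hdim] at ha; omega
    have hq : u - LocSym.constFun c b ≠ 0 := by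
      intro h; rw [h, ord_zero hdim] at hb; omega
    have h1 := ord_add c hdim x hq (neg_ne_zero.mpr hp) (by rw [← hsub]; exact hc0)
    rw [← hsub, hcord, ord_neg c hdim] at h1
    have : 0 < min (x.ord (u - LocSym.constFun c b)) (x.ord (u - LocSym.constFun c a)) :=
      lt_min hb ha
    omega

end Value


section Const

variable {k : Type u} [Field k] {X : Scheme.{u}} [IsIntegral X]
  (c : X ⟶ Spec (CommRingCat.of k)) [IsProper c]

omit [IsProper c] in
/-- A nonzero rational function has nonzero order at only finitely many points of a proper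
integral curve. -/
theorem finite_ordFrac_support (c : X ⟶ Spec (CommRingCat.of k)) [IsProper c]
    (hdim : topologicalKrullDim X = 1) (g : X.functionField) (hg : g ≠ 0) :
    {p : X | CycAlg.ordFrac (X.presheaf.stalk p) X.functionField g ≠ 0}.Finite := by
  obtain ⟨U, hU, s, hne, hsg, hs⟩ := exists_isUnit_germ_eq X g hg
  have : IsLocallyNoetherian X := LocallyOfFiniteType.isLocallyNoetherian c
  have : CompactSpace X := QuasiCompact.compactSpace_of_compactSpace c
  have : IsNoetherian X := {}
  have hfin : ((U : Set X)ᶜ).Finite :=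
    finite_compl_of_isOpen hdim.le _ U.isOpen ⟨_, hne.some.2⟩
  refine hfin.subset ?_
  intro p hp hpU
  apply hp
  rw [← hsg]
  exact ordFrac_germ_unit p U hpU s hs

omit [IsIntegral X] [IsProper c] in
/-- The residue degree at a rational point is one. -/
theorem residueDegree_pt (x : LocSym.Pt c) : c.residueDegree x.pt = 1 := by
  set t : Spec (CommRingCat.of k) := IsLocalRing.closedPoint k with ht
  haveI : IsIso (x.1 ≫ c) := by rw [x.2]; infer_instance
  have hcomp : (x.1 ≫ c).residueFieldMap t = c.residueFieldMap (x.1 t) ≫ x.1.residueFieldMap t :=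
    Scheme.residueFieldMap_comp x.1 c t
  have hiso : IsIso ((x.1 ≫ c).residueFieldMap t) := inferInstance
  have hbij : Function.Bijective ((x.1 ≫ c).residueFieldMap t).hom :=
    ConcreteCategory.bijective_of_isIso _
  rw [hcomp] at hbij
  have hβinj : Function.Injective (x.1.residueFieldMap t).hom := RingHom.injective _
  have hβsurj : Function.Surjective (x.1.residueFieldMap t).hom := by
    intro z
    obtain ⟨w, hw⟩ := hbij.2 z
    exact ⟨(c.residueFieldMap (x.1 t)).hom w, hw⟩
  have hαsurj : Function.Surjective (c.residueFieldMap (x.1 t)).hom := by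
    intro z
    obtain ⟨w, hw⟩ := hbij.2 ((x.1.residueFieldMap t).hom z)
    exact ⟨w, hβinj hw⟩
  unfold Scheme.Hom.residueDegree
  letI := (c.residueFieldMap x.pt).hom.toAlgebra
  have hsurj : Function.Surjective
      (algebraMap ((Spec (CommRingCat.of k)).residueField (c x.pt)) (X.residueField x.pt)) :=
    hαsurj
  have hinj : Function.Injective
      (algebraMap ((Spec (CommRingCat.of k)).residueField (c x.pt)) (X.residueField x.pt)) :=
    RingHom.injective _
  let e : ((Spec (CommRingCat.of k)).residueField (c x.pt)) ≃ₗ[(Spec (CommRingCat.of k)).residueField (c x.pt)]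
      (X.residueField x.pt) :=
    LinearEquiv.ofBijective (Algebra.linearMap _ _) ⟨hinj, hsurj⟩
  rw [← e.finrank_eq]
  exact Module.finrank_self _

variable [IsAlgClosed k]

omit [IsIntegral X] in
/-- Over an algebraically closed field every closed point is a rational point. -/
theorem exists_pt_of_isClosed (p : X) (hp : IsClosed ({p} : Set X)) :
    ∃ x : LocSym.Pt c, x.pt = p := by
  obtain ⟨q, hq, hqp⟩ := Helper11KPts.exists_point_of_closedPoint (K := k) c p hp
  refine ⟨⟨q, ?_⟩, hqp _⟩
  rw [hq]
  have : CommRingCat.ofHom (algebraMap k k) = 𝟙 (CommRingCat.of k) := rfl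
  rw [this, Spec.map_id]

variable [Smooth c] (hdim : topologicalKrullDim X = 1)
include hdim

/-- A rational function without zeros and poles at rational points is a nonzero constant. -/
theorem exists_const_of_ord_eq_zero (x₀ : LocSym.Pt c) {u : X.functionField} (hu : u ≠ 0)
    (h : ∀ x : LocSym.Pt c, x.ord u = 0) : ∃ a : k, a ≠ 0 ∧ u = LocSym.constFun c a := by
  obtain ⟨a, hval, ha0⟩ := exists_value c hdim x₀ hu (h x₀).ge
  have ha : a ≠ 0 := ha0 (h x₀)
  refine ⟨a, ha, ?_⟩
  by_contra hne
  set w : X.functionField := u - LocSym.constFun c a with hw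
  have hw0 : w ≠ 0 := sub_ne_zero.mpr hne
  have hx₀ : 0 < x₀.ord w := by
    rcases hval with h1 | h1
    · exact absurd h1 hne
    · exact h1
  have hnonneg : ∀ x : LocSym.Pt c, 0 ≤ x.ord w := fun x => by
    have h1 := ord_add c hdim x hu (neg_ne_zero.mpr (constFun_ne_zero c ha))
      (by rw [← sub_eq_add_neg]; exact hw0)
    rw [ord_neg c hdim, ord_constFun c x ha, h x, ← sub_eq_add_neg, min_self] at h1
    exact h1
  have hsum := T3H4.CurveGeo.finsum_residueDegree_mul_ordFrac_eq_zero c hdim w hw0
  have hpos : 0 < ∑ᶠ (p : X) (_ : IsClosed ({p} : Set X)), (c.residueDegree p : ℤ) *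
      CycAlg.ordFrac (X.presheaf.stalk p) X.functionField w := by
    apply finsum_cond_pos
    · intro p hp
      obtain ⟨x, rfl⟩ := exists_pt_of_isClosed c p hp
      exact mul_nonneg (Int.natCast_nonneg _) (hnonneg x)
    · refine ⟨x₀.pt, isClosed_pt c x₀, ?_⟩
      rw [residueDegree_pt c x₀, Nat.cast_one, one_mul]
      exact hx₀
    · refine ((finite_ordFrac_support c hdim w hw0).subset ?_).subset Set.inter_subset_left
      intro p hp
      rw [Function.mem_support] at hp
      intro h0
      apply hp
      rw [h0, mul_zero]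
  omega

end Const

end Groth.Agent.Lib.T2H3.LocSymValue
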