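import Mathlib
import Groth.Prelude.Def_Coh
import Groth.Prelude.Def_LinSer
import Groth.Prelude.Def_Curve
import Groth.Agent.Lib.T1H3DVRValues
import Groth.Agent.Lib.T2H3LocSymValue
import Groth.Agent.Lib.Helper20InvGen

/-!
# Vanishing orders of a linear series at a point of a smooth proper curve (helper3)

Namespace `Groth.Agent.Lib.T1H3.LinSerOrd`.
-/

set_option autoImplicit false
set_option linter.style.haveILetI false
universe u
open CategoryTheory CategoryTheory.Limits AlgebraicGeometry TopologicalSpace Opposite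

namespace Groth.Agent.Lib.T1H3.LinSerOrd

open Groth.Agent.Lib.Helper20.InvGen Groth.Agent.Lib.Helper2.QCoh
  Groth.Agent.Lib.T1H3.LocSymDVR Groth.Agent.Lib.T2H3.LocSymValue

section Germ

variable {X : Scheme.{u}} [IsIntegral X]

/-- On an integral scheme, a global section of an invertible module with a vanishing germ is zero. -/
theorem eq_zero_of_germ_eq_zero (L : X.Modules) (hL : PicF.IsInvertible L) (σ : Γ(L, ⊤)) (p : X)
    (h : L.presheaf.germ ⊤ p trivial σ = 0) : σ = 0 := by
  set η := genericPoint X with hη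
  -- the germ at the generic point vanishes
  have hηp : η ⤳ p := genericPoint_specializes p
  have h0 : L.presheaf.germ ⊤ p trivial σ = L.presheaf.germ ⊤ p trivial 0 := by
    rw [h, map_zero]
  obtain ⟨U, hpU, i1, i2, hU⟩ := TopCat.Presheaf.germ_eq L.presheaf (U := ⊤) (V := ⊤) p trivial trivial σ 0 h0
  have hηU : η ∈ U := hηp.mem_open U.2 hpU
  have hgη : L.presheaf.germ ⊤ η trivial σ = 0 := by
    rw [← TopCat.Presheaf.germ_res_apply L.presheaf i1 η hηU σ, hU, map_zero, map_zero]
  let F : TopCat.Sheaf Ab X := ⟨L.presheaf, L.isSheaf⟩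
  apply TopCat.Presheaf.section_ext F ⊤ σ 0
  intro y hy
  show L.presheaf.germ ⊤ y hy σ = L.presheaf.germ ⊤ y hy 0
  rw [map_zero]
  obtain ⟨W, t, hyW, ht⟩ := exists_local_generator L hL y
  obtain ⟨c, hc⟩ := (ht y hyW).2 (L.presheaf.germ ⊤ y hy σ)
  obtain ⟨W', hyW', r, rfl⟩ := X.presheaf.exists_germ_eq c
  -- pass to a common neighbourhood
  have hyW2 : y ∈ W ⊓ W' := ⟨hyW, hyW'⟩
  let a : Γ(L, W ⊓ W') := X.presheaf.map (homOfLE (inf_le_right : W ⊓ W' ≤ W')).op r •
    L.presheaf.map (homOfLE (inf_le_left : W ⊓ W' ≤ W)).op t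
  let b : Γ(L, W ⊓ W') := L.presheaf.map (homOfLE (le_top : W ⊓ W' ≤ ⊤)).op σ
  have hab : L.presheaf.germ (W ⊓ W') y hyW2 a = L.presheaf.germ (W ⊓ W') y hyW2 b := by
    simp only [a, b]
    rw [germ_smul, TopCat.Presheaf.germ_res_apply, TopCat.Presheaf.germ_res_apply,
      TopCat.Presheaf.germ_res_apply]
    exact hc
  obtain ⟨W'', hyW'', j1, j2, hW''⟩ := L.presheaf.germ_eq y hyW2 hyW2 a b hab
  have hj : j1 = j2 := Subsingleton.elim _ _
  subst hj
  have hηW'' : η ∈ W'' := (genericPoint_specializes y).mem_open W''.2 hyW''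
  have hηW2 : η ∈ W ⊓ W' := j1.le hηW''
  -- at the generic point
  have e1 : L.presheaf.germ (W ⊓ W') η hηW2 a = L.presheaf.germ (W ⊓ W') η hηW2 b := by
    rw [← TopCat.Presheaf.germ_res_apply L.presheaf j1 η hηW'' a,
      ← TopCat.Presheaf.germ_res_apply L.presheaf j1 η hηW'' b, hW'']
  have e2 : L.presheaf.germ (W ⊓ W') η hηW2 b = 0 := by
    simp only [b]
    rw [TopCat.Presheaf.germ_res_apply]
    exact hgη
  rw [e2] at e1
  simp only [a] at e1
  rw [germ_smul, TopCat.Presheaf.germ_res_apply, TopCat.Presheaf.germ_res_apply] at e1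
  have hr0 : X.presheaf.germ W' η hηW2.2 r = 0 := by
    apply (ht η hηW2.1).1
    show X.presheaf.germ W' η hηW2.2 r • L.presheaf.germ W η hηW2.1 t =
      (0 : X.presheaf.stalk η) • L.presheaf.germ W η hηW2.1 t
    rw [e1, zero_smul]
  have hr : r = 0 := by
    apply germ_injective_of_isIntegral X η hηW2.2
    rw [hr0, map_zero]
  rw [← hc, hr, map_zero]
  exact zero_smul _ _

end Germ

section Main

variable {k : Type u} [Field k] {X : Scheme.{u}} [IsIntegral X]
  (c : X ⟶ Spec (CommRingCat.of k))

omit [IsIntegral X] in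
/-- Every element of the local ring at a rational point is congruent to a constant. -/
lemma exists_sub_mem_maximalIdeal (x : LocSym.Pt c) (r : X.presheaf.stalk x.pt) :
    ∃ a : k, r - ρ c x a ∈ IsLocalRing.maximalIdeal (X.presheaf.stalk x.pt) := by
  refine ⟨ev c x r, ?_⟩
  rw [IsLocalRing.mem_maximalIdeal, mem_nonunits_iff]
  intro hunit
  have := hunit.map (ev c x)
  rw [map_sub, ev_ρ, sub_self] at this
  exact not_isUnit_zero this

variable [IsProper c] [Smooth c] (hdim : topologicalKrullDim X = 1)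
include hdim

/-- The orders of vanishing at a rational point of the nonzero members of an `(r+1)`-dimensional
space of sections of an invertible module take exactly `r + 1` values. -/
theorem ncard_orders (L : X.Modules) (hL : PicF.IsInvertible L) (r : ℕ)
    (s : Fin (r + 1) → LinSer.Sect X L)
    (hs : ∀ a : Fin (r + 1) → k, (∑ i, (Coh.toGlobal c (a i)) • s i) = 0 → a = 0)
    (x : LocSym.Pt c) :
    Set.ncard ((fun a : Fin (r + 1) → k =>
        Module.length (X.presheaf.stalk x.pt)
          (↥(L.presheaf.stalk x.pt) ⧸ Submodule.span (X.presheaf.stalk x.pt)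
            {(L.presheaf.germ ⊤ x.pt trivial) (∑ i, (Coh.toGlobal c (a i)) • s i)})) ''
        {a : Fin (r + 1) → k | a ≠ 0}) = r + 1 := by
  classical
  haveI : IsDiscreteValuationRing (X.presheaf.stalk x.pt) := isDVR_stalk c hdim x
  letI : Algebra k (X.presheaf.stalk x.pt) := (ρ c x).toAlgebra
  obtain ⟨W, t, hxW, ht⟩ := exists_local_generator L hL x.pt
  set g : L.presheaf.stalk x.pt := L.presheaf.germ W x.pt hxW t with hg
  have hgb : Function.Bijective (fun a : X.presheaf.stalk x.pt => a • g) := ht x.pt hxW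
  let e : X.presheaf.stalk x.pt ≃ₗ[X.presheaf.stalk x.pt] L.presheaf.stalk x.pt :=
    LinearEquiv.ofBijective (LinearMap.toSpanSingleton _ _ g) hgb
  have he : ∀ a : X.presheaf.stalk x.pt, e a = a • g := fun a => rfl
  let G : (Fin (r + 1) → k) → L.presheaf.stalk x.pt := fun a =>
    (L.presheaf.germ ⊤ x.pt trivial) (∑ i, (Coh.toGlobal c (a i)) • s i)
  let av : Fin (r + 1) → X.presheaf.stalk x.pt := fun i =>
    e.symm ((L.presheaf.germ ⊤ x.pt trivial) (s i))
  let φ : (Fin (r + 1) → k) →ₗ[k] X.presheaf.stalk x.pt := Fintype.linearCombination k av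
  have hφ : ∀ a, e (φ a) = G a := by
    intro a
    show e (Fintype.linearCombination k av a) = _
    rw [Fintype.linearCombination_apply, map_sum]
    show _ = (L.presheaf.germ ⊤ x.pt trivial) (∑ i, (Coh.toGlobal c (a i)) • s i)
    rw [map_sum]
    refine Finset.sum_congr rfl fun i _ => ?_
    have h1 : a i • av i = ρ c x (a i) • av i := Algebra.smul_def _ _
    rw [h1, map_smul]
    show ρ c x (a i) • e (e.symm ((L.presheaf.germ ⊤ x.pt trivial) (s i))) = _
    rw [LinearEquiv.apply_symm_apply]
    exact (germ_smul L x.pt ⊤ trivial (Coh.toGlobal c (a i)) (s i)).symm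
  have hinj : Function.Injective φ := by
    rw [injective_iff_map_eq_zero]
    intro a ha
    apply hs
    apply eq_zero_of_germ_eq_zero L hL _ x.pt
    show G a = 0
    rw [← hφ, ha, map_zero]
  have hlen : ∀ a, Module.length (X.presheaf.stalk x.pt)
      (↥(L.presheaf.stalk x.pt) ⧸ Submodule.span (X.presheaf.stalk x.pt) {G a}) =
      Ring.ord (X.presheaf.stalk x.pt) (φ a) := by
    intro a
    have hmap : Submodule.map e.toLinearMap (Ideal.span {φ a} : Ideal (X.presheaf.stalk x.pt)) =
        Submodule.span (X.presheaf.stalk x.pt) {G a} := by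
      rw [Ideal.span, Submodule.map_span, Set.image_singleton]
      congr 2
      exact hφ a
    exact (LinearEquiv.length_eq (Submodule.Quotient.equiv _ _ e hmap)).symm
  have hmain := DVRValues.ncard_ord_image (O := X.presheaf.stalk x.pt) (k := k)
    (exists_sub_mem_maximalIdeal c x) φ hinj
  rw [Module.finrank_fin_fun] at hmain
  refine Eq.trans ?_ hmain
  congr 1
  apply Set.image_congr
  intro a _
  exact hlen a

end Main

end Groth.Agent.Lib.T1H3.LinSerOrd
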