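import Mathlib
import Groth.Prelude.Def_CohCx
import Groth.Agent.Lib.Helper17AbHom

/-! Cohomology sheaves of a termwise limit of an inverse system of complexes of abelian sheaves
(`R¹lim`-vanishing version), for S0899 / S0897. -/

set_option autoImplicit false
set_option linter.style.haveILetI false
universe u
open CategoryTheory CategoryTheory.Limits Opposite

namespace Groth.Agent.Lib.T2H2.LimCx

open Groth.Agent.Lib.Helper17.AbHom

section General
universe v₁ v₂ u₁ u₂

theorem isIso_iff_of_comm {D : Type u₁} [Category.{v₁} D] {X Y X' Y' : D} (f : X ⟶ Y) (g : X' ⟶ Y')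
    (e : X ≅ X') (e' : Y ≅ Y') (h : f ≫ e'.hom = e.hom ≫ g) : IsIso f ↔ IsIso g := by
  constructor
  · intro hi
    have : g = e.inv ≫ f ≫ e'.hom := by rw [h, Iso.inv_hom_id_assoc]
    rw [this]
    infer_instance
  · intro hi
    have : f = e.hom ≫ g ≫ e'.inv := by rw [← reassoc_of% h, Iso.hom_inv_id, Category.comp_id]
    rw [this]
    infer_instance

variable {A : Type u₁} {B : Type u₂} [Category.{v₁} A] [Category.{v₂} B] [Abelian A] [Abelian B]
  (F : A ⥤ B) [F.Additive] [F.PreservesHomology]
  {ι : Type*} {c : ComplexShape ι} {K L : HomologicalComplex A c} (ψ : K ⟶ L) (i : ι)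

theorem isIso_homologyMap_map_iff :
    IsIso (HomologicalComplex.homologyMap ((F.mapHomologicalComplex c).map ψ) i) ↔
      IsIso (F.map (HomologicalComplex.homologyMap ψ i)) := by
  let eK : ((F.mapHomologicalComplex c).obj K).homology i ≅ F.obj (K.homology i) :=
    (K.sc i).mapHomologyIso F
  let eL : ((F.mapHomologicalComplex c).obj L).homology i ≅ F.obj (L.homology i) :=
    (L.sc i).mapHomologyIso F
  exact isIso_iff_of_comm _ _ eK eL (ShortComplex.mapHomologyIso_hom_naturality
    ((HomologicalComplex.shortComplexFunctor A c i).map ψ) F)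

/-- for an endofunctor isomorphic to the identity. -/
theorem isIso_homologyMap_of_natIso (G : A ⥤ A) [G.Additive] (ε : G ≅ 𝟭 A)
    (h : IsIso (HomologicalComplex.homologyMap ((G.mapHomologicalComplex c).map ψ) i)) :
    IsIso (HomologicalComplex.homologyMap ψ i) := by
  let θ : G.mapHomologicalComplex c ≅ 𝟭 (HomologicalComplex A c) :=
    NatIso.mapHomologicalComplex ε c ≪≫ Functor.mapHomologicalComplexIdIso A c
  have hn := θ.hom.naturality ψ
  have h2 : HomologicalComplex.homologyMap ((G.mapHomologicalComplex c).map ψ) i ≫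
      HomologicalComplex.homologyMap (θ.hom.app L) i =
      HomologicalComplex.homologyMap (θ.hom.app K) i ≫ HomologicalComplex.homologyMap ψ i := by
    rw [← HomologicalComplex.homologyMap_comp, ← HomologicalComplex.homologyMap_comp]
    congr 1
  exact (isIso_iff_of_comm _ _ ((HomologicalComplex.homologyFunctor A c i).mapIso (θ.app K))
    ((HomologicalComplex.homologyFunctor A c i).mapIso (θ.app L)) h2).1 h

end General

section Sheaf

variable {C : Type u} [SmallCategory C] (J : GrothendieckTopology C)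

/-- the covering hypothesis. -/
def Covers (B : Set C) : Prop :=
  ∀ U : C, ∃ (ι : Type u) (Y : ι → C) (f : ∀ i, Y i ⟶ U), Sieve.ofArrows Y f ∈ J U ∧ ∀ i, Y i ∈ B

theorem isIso_presheafToSheaf_map_of_bijective_on (B : Set C) (hB : Covers J B)
    {P Q : Cᵒᵖ ⥤ AddCommGrpCat.{u}} (g : P ⟶ Q)
    (hg : ∀ U ∈ B, Function.Bijective (g.app (op U))) :
    IsIso ((presheafToSheaf J AddCommGrpCat.{u}).map g) := by
  rw [← J.W_iff, J.W_iff_isLocallyBijective]
  constructor
  · constructor
    intro X x y hxy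
    obtain ⟨ι, Z, f, hf, hY⟩ := hB X.unop
    refine J.superset_covering ?_ hf
    rintro V _ ⟨W, h, _, ⟨i⟩, rfl⟩
    change P.map (h ≫ f i).op x = P.map (h ≫ f i).op y
    rw [op_comp, P.map_comp, AddCommGrpCat.comp_apply, AddCommGrpCat.comp_apply]
    congr 1
    apply (hg _ (hY i)).1
    have h1 : ∀ w, g.app (op (Z i)) (P.map (f i).op w) = Q.map (f i).op (g.app X w) := by
      intro w
      rw [← AddCommGrpCat.comp_apply, ← AddCommGrpCat.comp_apply, g.naturality]
    rw [h1, h1, hxy]
  · constructor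
    intro U s
    obtain ⟨ι, Z, f, hf, hY⟩ := hB U
    refine J.superset_covering ?_ hf
    rintro V _ ⟨W, h, _, ⟨i⟩, rfl⟩
    obtain ⟨t, ht⟩ := (hg _ (hY i)).2 (Q.map (f i).op s)
    refine ⟨P.map h.op t, ?_⟩
    have h1 : ∀ w, g.app (op V) (P.map h.op w) = Q.map h.op (g.app _ w) := by
      intro w
      rw [← AddCommGrpCat.comp_apply, ← AddCommGrpCat.comp_apply, g.naturality]
    rw [h1, ht, op_comp, Q.map_comp, AddCommGrpCat.comp_apply]

theorem isIso_homologyMap_of_bijective_on (B : Set C) (hB : Covers J B)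
    {K₁ K₂ : CochainComplex (Sheaf J AddCommGrpCat.{u}) ℤ} (φ : K₁ ⟶ K₂) (m : ℤ)
    (h : ∀ U ∈ B, Function.Bijective
      (HomologicalComplex.homologyMap ((CohCx.sectCx J U).map φ) m)) :
    IsIso (HomologicalComplex.homologyMap φ m) := by
  let ι' := sheafToPresheaf J AddCommGrpCat.{u}
  let a := presheafToSheaf J AddCommGrpCat.{u}
  let ψ := (ι'.mapHomologicalComplex (ComplexShape.up ℤ)).map φ
  have h1 : IsIso (a.map (HomologicalComplex.homologyMap ψ m)) := by
    apply isIso_presheafToSheaf_map_of_bijective_on J B hB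
    intro U hU
    have h3 := (isIso_homologyMap_map_iff ((evaluation Cᵒᵖ AddCommGrpCat.{u}).obj (op U)) ψ m).1
      ((ConcreteCategory.isIso_iff_bijective _).2 (h U hU))
    exact (ConcreteCategory.isIso_iff_bijective _).1 h3
  have h2 : IsIso (HomologicalComplex.homologyMap
      ((a.mapHomologicalComplex (ComplexShape.up ℤ)).map ψ) m) :=
    (isIso_homologyMap_map_iff a ψ m).2 h1
  exact isIso_homologyMap_of_natIso φ m (ι' ⋙ a) (asIso (sheafificationAdjunction J _).counit) h2

end Sheaf

section Ext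

/-- extending a compatible family from indices `≥ n₀` to all indices. -/
theorem exists_extend {X : ℕ → Type u} (t : ∀ n, X (n + 1) → X n) (n₀ : ℕ)
    (s' : ∀ k, X (n₀ + k)) (hs' : ∀ k, t (n₀ + k) (s' (k + 1)) = s' k) :
    ∃ s : ∀ n, X n, (∀ n, t n (s (n + 1)) = s n) ∧ s n₀ = s' 0 := by
  let K : ℕᵒᵖ ⥤ Type u := Functor.ofOpSequence (X := X) (fun n => TypeCat.ofHom (t n))
  let r : ∀ {a b : ℕ} (_ : a ≤ b), X b → X a := fun {a b} h x => K.map (homOfLE h).op x
  have hK : ∀ n (x : X (n + 1)), r (Nat.le_add_right n 1) x = t n x := by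
    intro n x
    have := Functor.ofOpSequence_map_homOfLE_succ (X := X) (fun n => TypeCat.ofHom (t n)) n
    change (K.map (homOfLE (Nat.le_add_right n 1)).op) x = t n x
    rw [show K.map (homOfLE (Nat.le_add_right n 1)).op = TypeCat.ofHom (t n) from this]
    rfl
  have hcomp : ∀ {a b c : ℕ} (h1 : a ≤ b) (h2 : b ≤ c) (x : X c),
      r (h1.trans h2) x = r h1 (r h2 x) := by
    intro a b c h1 h2 x
    have : (homOfLE (h1.trans h2)).op = (homOfLE h2).op ≫ (homOfLE h1).op := by
      rw [← op_comp, homOfLE_comp]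
    change K.map (homOfLE (h1.trans h2)).op x = _
    rw [this, K.map_comp]
    rfl
  have hid : ∀ (a : ℕ) (x : X a), r (le_refl a) x = x := by
    intro a x
    change K.map (homOfLE (le_refl a)).op x = x
    have : (homOfLE (le_refl a)).op = 𝟙 (op a) := rfl
    rw [this, K.map_id]
    rfl
  have hb : ∀ j k (h : j ≤ k), r (Nat.add_le_add_left h n₀) (s' k) = s' j := by
    intro j k h
    induction k, h using Nat.le_induction with
    | base => exact hid _ _
    | succ k hjk ih =>
      rw [hcomp (Nat.add_le_add_left hjk n₀) (Nat.le_add_right (n₀ + k) 1), hK, hs', ih]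
  refine ⟨fun n => r (Nat.le_add_left n n₀) (s' n), fun n => ?_, ?_⟩
  · change t n (r (Nat.le_add_left (n + 1) n₀) (s' (n + 1))) = r (Nat.le_add_left n n₀) (s' n)
    rw [← hK, ← hcomp, ← hs' n, ← hK, ← hcomp]
  · exact hb 0 n₀ (Nat.zero_le _)

end Ext

section Cls

variable (K : CochainComplex AddCommGrpCat.{u} ℤ) (m : ℤ)

/-- `x` is a cycle representing the class `h`. -/
def IsCls (x : K.X m) (h : K.homology m) : Prop :=
  ∃ z : K.cycles m, K.iCycles m z = x ∧ K.homologyπ m z = h

variable {K m}

theorem exists_isCls (h : K.homology m) : ∃ x, IsCls K m x h := by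
  obtain ⟨z, hz⟩ := homologyπ_surjective K m h
  exact ⟨_, z, rfl, hz⟩

theorem IsCls.d_eq {x : K.X m} {h : K.homology m} (hx : IsCls K m x h) (m' : ℤ) :
    K.d m m' x = 0 := by
  obtain ⟨z, rfl, -⟩ := hx
  exact d_iCycles K m m' z

theorem IsCls.map {L : CochainComplex AddCommGrpCat.{u} ℤ} (f : K ⟶ L) {x : K.X m}
    {h : K.homology m} (hx : IsCls K m x h) :
    IsCls L m (f.f m x) (HomologicalComplex.homologyMap f m h) := by
  obtain ⟨z, rfl, rfl⟩ := hx
  exact ⟨HomologicalComplex.cyclesMap f m z, iCycles_cyclesMap f m z,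
    (homologyMap_homologyπ f m z).symm⟩

theorem IsCls.sub {x x' : K.X m} {h h' : K.homology m} (hx : IsCls K m x h)
    (hx' : IsCls K m x' h') : IsCls K m (x - x') (h - h') := by
  obtain ⟨z, rfl, rfl⟩ := hx
  obtain ⟨z', rfl, rfl⟩ := hx'
  exact ⟨z - z', map_sub _ _ _, map_sub _ _ _⟩

theorem isCls_d (m' : ℤ) (y : K.X m') : IsCls K m (K.d m' m y) 0 :=
  ⟨K.toCycles m' m y, iCycles_toCycles K m' m y, homologyπ_toCycles K m' m y⟩

theorem IsCls.sub_d {x : K.X m} {h : K.homology m} (hx : IsCls K m x h) (m' : ℤ) (y : K.X m') :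
    IsCls K m (x - K.d m' m y) h := by
  have := hx.sub (isCls_d (K := K) (m := m) m' y)
  rwa [sub_zero] at this

theorem IsCls.add_d {x : K.X m} {h : K.homology m} (hx : IsCls K m x h) (m' : ℤ) (y : K.X m') :
    IsCls K m (x + K.d m' m y) h := by
  have := hx.sub_d m' (-y)
  rwa [map_neg, sub_neg_eq_add] at this

theorem IsCls.exists_of_zero {x : K.X m} (hx : IsCls K m x 0) (m' : ℤ) (hm : m' + 1 = m) :
    ∃ y : K.X m', K.d m' m y = x := by
  obtain ⟨z, rfl, hz⟩ := hx
  obtain ⟨y, hy⟩ := exists_of_homologyπ_eq_zero K m' m (by simp [← hm]) z hz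
  exact ⟨y, by rw [← hy, iCycles_toCycles]⟩

theorem exists_isCls_of_d_eq_zero (x : K.X m) (m' : ℤ) (hm : m + 1 = m') (hx : K.d m m' x = 0) :
    ∃ h, IsCls K m x h := by
  obtain ⟨z, hz⟩ := exists_cycle K m m' (by simp [hm]) x hx
  exact ⟨_, z, hz, rfl⟩

theorem IsCls.unique {x : K.X m} {h h' : K.homology m} (hx : IsCls K m x h)
    (hx' : IsCls K m x h') : h = h' := by
  obtain ⟨z, hz, rfl⟩ := hx
  obtain ⟨z', hz', rfl⟩ := hx'
  rw [iCycles_injective K m (hz.trans hz'.symm)]

end Cls

section Tower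

variable (A : ℕ → CochainComplex AddCommGrpCat.{u} ℤ) (t : ∀ n, A (n + 1) ⟶ A n)

theorem t_d (n : ℕ) (a b : ℤ) (y : (A (n + 1)).X a) :
    (A n).d a b ((t n).f a y) = (t n).f b ((A (n + 1)).d a b y) := by
  rw [← AddCommGrpCat.comp_apply, ← AddCommGrpCat.comp_apply, (t n).comm a b]

/-- `R¹lim` of the cycles in degree `m - 1` vanishes. -/
theorem limOne_cycles (m : ℤ)
    (h2 : CohCx.LimOneIsZero (fun n => (A n).X (m - 2)) (fun n => ((t n).f (m - 2)).hom))
    (hH : CohCx.LimOneIsZero (fun n => (A n).homology (m - 1))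
      (fun n => (HomologicalComplex.homologyMap (t n) (m - 1)).hom))
    (z : ∀ n, (A n).X (m - 1)) (hz : ∀ n, (A n).d (m - 1) m (z n) = 0) :
    ∃ w : ∀ n, (A n).X (m - 1), (∀ n, (A n).d (m - 1) m (w n) = 0) ∧
      ∀ n, z n = w n - (t n).f (m - 1) (w (n + 1)) := by
  have hg : ∀ n, ∃ g, IsCls (A n) (m - 1) (z n) g := fun n =>
    exists_isCls_of_d_eq_zero (z n) m (by omega) (hz n)
  choose g hg using hg
  obtain ⟨e, he⟩ := hH g
  have he' : ∀ n, e n - HomologicalComplex.homologyMap (t n) (m - 1) (e (n + 1)) = g n :=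
    fun n => congrFun he n
  have hc : ∀ n, ∃ c, IsCls (A n) (m - 1) c (e n) := fun n => exists_isCls (e n)
  choose c hc using hc
  have hu : ∀ n, ∃ u : (A n).X (m - 2), (A n).d (m - 2) (m - 1) u =
      z n - (c n - (t n).f (m - 1) (c (n + 1))) := by
    intro n
    have h1 := (hg n).sub ((hc n).sub ((hc (n + 1)).map (t n)))
    rw [he' n, sub_self] at h1
    exact h1.exists_of_zero (m - 2) (by omega)
  choose u hu using hu
  obtain ⟨v, hv⟩ := h2 u
  have hv' : ∀ n, v n - (t n).f (m - 2) (v (n + 1)) = u n := fun n => congrFun hv n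
  refine ⟨fun n => c n + (A n).d (m - 2) (m - 1) (v n), fun n => ?_, fun n => ?_⟩
  · exact ((hc n).add_d (m - 2) (v n)).d_eq m
  · have h3 : (A n).d (m - 2) (m - 1) (v n) -
        (t n).f (m - 1) ((A (n + 1)).d (m - 2) (m - 1) (v (n + 1))) =
        z n - (c n - (t n).f (m - 1) (c (n + 1))) := by
      rw [← hu n, ← hv' n, map_sub, t_d]
    change z n = c n + (A n).d (m - 2) (m - 1) (v n) -
      (t n).f (m - 1) (c (n + 1) + (A (n + 1)).d (m - 2) (m - 1) (v (n + 1)))
    rw [map_add]
    calc z n = (c n - (t n).f (m - 1) (c (n + 1))) +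
          (z n - (c n - (t n).f (m - 1) (c (n + 1)))) := by abel
      _ = _ := by rw [← h3]; abel

end Tower

section Main

variable (A : ℕ → CochainComplex AddCommGrpCat.{u} ℤ) (t : ∀ n, A (n + 1) ⟶ A n)
  (L : CochainComplex AddCommGrpCat.{u} ℤ) (π : ∀ n, L ⟶ A n)

theorem π_d (n : ℕ) (a b : ℤ) (y : L.X a) :
    (A n).d a b ((π n).f a y) = (π n).f b (L.d a b y) := by
  rw [← AddCommGrpCat.comp_apply, ← AddCommGrpCat.comp_apply, (π n).comm a b]

variable (hπ : ∀ n, π (n + 1) ≫ t n = π n)
include hπ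

theorem t_π (n : ℕ) (j : ℤ) (x : L.X j) : (t n).f j ((π (n + 1)).f j x) = (π n).f j x := by
  rw [← AddCommGrpCat.comp_apply, ← HomologicalComplex.comp_f, hπ]

theorem π_transition (n₀ k : ℕ) : π (n₀ + k) ≫ CohCx.transition A t n₀ k = π n₀ := by
  induction k with
  | zero => exact Category.comp_id _
  | succ k ih =>
    change π (n₀ + k + 1) ≫ t (n₀ + k) ≫ CohCx.transition A t n₀ k = π n₀
    rw [reassoc_of% (hπ (n₀ + k)), ih]

theorem bijective_of_limOne (m : ℤ)
    (hex : ∀ (j : ℤ) (s : ∀ n, (A n).X j), (∀ n, (t n).f j (s (n + 1)) = s n) →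
      ∃ x : L.X j, ∀ n, (π n).f j x = s n)
    (hext : ∀ (j : ℤ) (x y : L.X j), (∀ n, (π n).f j x = (π n).f j y) → x = y)
    (h2 : CohCx.LimOneIsZero (fun n => (A n).X (m - 2)) (fun n => ((t n).f (m - 2)).hom))
    (h1 : CohCx.LimOneIsZero (fun n => (A n).X (m - 1)) (fun n => ((t n).f (m - 1)).hom))
    (hH : CohCx.LimOneIsZero (fun n => (A n).homology (m - 1))
      (fun n => (HomologicalComplex.homologyMap (t n) (m - 1)).hom))
    (n₀ : ℕ) (hc : ∀ k, Function.Bijective
      (HomologicalComplex.homologyMap (CohCx.transition A t n₀ k) m)) :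
    Function.Bijective (HomologicalComplex.homologyMap (π n₀) m) := by
  constructor
  · rw [injective_iff_map_eq_zero]
    intro h hh
    obtain ⟨x, hx⟩ := exists_isCls h
    -- the classes `hn n`
    have hcomp : ∀ n, HomologicalComplex.homologyMap (t n) m
        (HomologicalComplex.homologyMap (π (n + 1)) m h) =
        HomologicalComplex.homologyMap (π n) m h := by
      intro n
      rw [← AddCommGrpCat.comp_apply, ← HomologicalComplex.homologyMap_comp, hπ]
    have hk : ∀ k, HomologicalComplex.homologyMap (π (n₀ + k)) m h = 0 := by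
      intro k
      apply (hc k).1
      rw [map_zero, ← AddCommGrpCat.comp_apply, ← HomologicalComplex.homologyMap_comp,
        π_transition A t L π hπ, hh]
    have hdown : ∀ d n, HomologicalComplex.homologyMap (π (n + d)) m h = 0 →
        HomologicalComplex.homologyMap (π n) m h = 0 := by
      intro d
      induction d with
      | zero => intro n hn; exact hn
      | succ d ih =>
        intro n hn
        apply ih n
        rw [← hcomp (n + d)]
        change HomologicalComplex.homologyMap (t (n + d)) m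
          (HomologicalComplex.homologyMap (π (n + (d + 1))) m h) = 0
        rw [hn, map_zero]
    have hall : ∀ n, HomologicalComplex.homologyMap (π n) m h = 0 := by
      intro n
      apply hdown n₀ n
      have := hk n
      rwa [Nat.add_comm] at this
    have hy : ∀ n, ∃ y : (A n).X (m - 1), (A n).d (m - 1) m y = (π n).f m x := by
      intro n
      have h3 := hx.map (π n)
      rw [hall n] at h3
      exact h3.exists_of_zero (m - 1) (by omega)
    choose y hy using hy
    have hz : ∀ n, (A n).d (m - 1) m (y n - (t n).f (m - 1) (y (n + 1))) = 0 := by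
      intro n
      rw [map_sub, t_d, hy, hy, t_π A t L π hπ, sub_self]
    obtain ⟨w, hw0, hw⟩ := limOne_cycles A t m h2 hH _ hz
    obtain ⟨yy, hyy⟩ := hex (m - 1) (fun n => y n - w n) (by
      intro n
      have e1 : y n - (t n).f (m - 1) (y (n + 1)) = w n - (t n).f (m - 1) (w (n + 1)) := hw n
      change (t n).f (m - 1) (y (n + 1) - w (n + 1)) = y n - w n
      rw [map_sub]
      calc (t n).f (m - 1) (y (n + 1)) - (t n).f (m - 1) (w (n + 1))
          = (y n - w n) - ((y n - (t n).f (m - 1) (y (n + 1))) -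
              (w n - (t n).f (m - 1) (w (n + 1)))) := by abel
        _ = y n - w n := by rw [e1, sub_self, sub_zero])
    have hdy : L.d (m - 1) m yy = x := by
      apply hext
      intro n
      rw [← π_d, hyy, map_sub, hy, hw0, sub_zero]
    have h4 : IsCls L m x 0 := by
      rw [← hdy]
      exact isCls_d (m - 1) yy
    exact hx.unique h4
  · intro h₀
    have he' : ∀ k, ∃ e : (A (n₀ + k)).homology m,
        HomologicalComplex.homologyMap (CohCx.transition A t n₀ k) m e = h₀ := fun k => (hc k).2 h₀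
    choose e' he' using he'
    have hte' : ∀ k, HomologicalComplex.homologyMap (t (n₀ + k)) m (e' (k + 1)) = e' k := by
      intro k
      apply (hc k).1
      rw [he' k, ← he' (k + 1)]
      change _ = HomologicalComplex.homologyMap (t (n₀ + k) ≫ CohCx.transition A t n₀ k) m _
      rw [HomologicalComplex.homologyMap_comp, AddCommGrpCat.comp_apply]
    obtain ⟨e, hte, he0⟩ := exists_extend (X := fun n => (A n).homology m)
      (fun n x => HomologicalComplex.homologyMap (t n) m x) n₀ e' hte'
    have he0' : e n₀ = h₀ := by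
      rw [he0, ← he' 0]
      change e' 0 = HomologicalComplex.homologyMap (𝟙 (A n₀)) m (e' 0)
      rw [HomologicalComplex.homologyMap_id]
      rfl
    have hcc : ∀ n, ∃ c, IsCls (A n) m c (e n) := fun n => exists_isCls (e n)
    choose c hcc using hcc
    have hu : ∀ n, ∃ u : (A n).X (m - 1), (A n).d (m - 1) m u =
        c n - (t n).f m (c (n + 1)) := by
      intro n
      have h3 := (hcc n).sub ((hcc (n + 1)).map (t n))
      rw [show HomologicalComplex.homologyMap (t n) m (e (n + 1)) = e n from hte n, sub_self] at h3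
      exact h3.exists_of_zero (m - 1) (by omega)
    choose u hu using hu
    obtain ⟨v, hv⟩ := h1 u
    have hv' : ∀ n, v n - (t n).f (m - 1) (v (n + 1)) = u n := fun n => congrFun hv n
    have hcc' : ∀ n, IsCls (A n) m (c n - (A n).d (m - 1) m (v n)) (e n) :=
      fun n => (hcc n).sub_d (m - 1) (v n)
    obtain ⟨x, hx⟩ := hex m (fun n => c n - (A n).d (m - 1) m (v n)) (by
      intro n
      have e1 : (A n).d (m - 1) m (v n) - (t n).f m ((A (n + 1)).d (m - 1) m (v (n + 1))) =
          c n - (t n).f m (c (n + 1)) := by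
        rw [← hu n, ← hv' n, map_sub, t_d]
      rw [map_sub]
      calc (t n).f m (c (n + 1)) - (t n).f m ((A (n + 1)).d (m - 1) m (v (n + 1)))
          = (c n - (A n).d (m - 1) m (v n)) - ((c n - (t n).f m (c (n + 1))) -
              ((A n).d (m - 1) m (v n) -
                (t n).f m ((A (n + 1)).d (m - 1) m (v (n + 1))))) := by abel
        _ = _ := by rw [e1, sub_self, sub_zero])
    have hdx : L.d m (m + 1) x = 0 := by
      apply hext
      intro n
      rw [← π_d, hx, map_zero]
      exact (hcc' n).d_eq (m + 1)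
    obtain ⟨h, hh⟩ := exists_isCls_of_d_eq_zero x (m + 1) rfl hdx
    refine ⟨h, ?_⟩
    have h5 := hh.map (π n₀)
    rw [hx n₀] at h5
    rw [h5.unique (hcc' n₀), he0']

end Main

section Final

theorem map_transition {T T' : Type*} [Category T] [Category T'] (G : T ⥤ T') (K : ℕ → T)
    (t : ∀ n, K (n + 1) ⟶ K n) (n k : ℕ) :
    G.map (CohCx.transition K t n k) =
      CohCx.transition (fun n => G.obj (K n)) (fun n => G.map (t n)) n k := by
  induction k with
  | zero => exact G.map_id _
  | succ k ih =>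
    change G.map (t (n + k) ≫ CohCx.transition K t n k) = G.map (t (n + k)) ≫ _
    rw [G.map_comp, ih]

theorem mem_sections_of_succ (G : ℕᵒᵖ ⥤ Type u) (s : ∀ n, G.obj (op n))
    (hs : ∀ n, G.map (homOfLE (Nat.le_add_right n 1)).op (s (n + 1)) = s n) :
    (fun i : ℕᵒᵖ => s i.unop) ∈ G.sections := by
  have key : ∀ (a b : ℕ) (h : a ≤ b), G.map (homOfLE h).op (s b) = s a := by
    intro a b h
    induction b, h using Nat.le_induction with
    | base =>
      have : (homOfLE (le_refl a)).op = 𝟙 (op a) := rfl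
      rw [this, G.map_id]
      rfl
    | succ b hab ih =>
      have : (homOfLE (hab.trans (Nat.le_add_right b 1))).op =
          (homOfLE (Nat.le_add_right b 1)).op ≫ (homOfLE hab).op := by
        rw [← op_comp, homOfLE_comp]
      rw [this, G.map_comp]
      change G.map (homOfLE hab).op (G.map (homOfLE (Nat.le_add_right b 1)).op (s (b + 1))) = _
      rw [hs, ih]
  intro i j f
  have hle : j.unop ≤ i.unop := leOfHom f.unop
  have : f = (homOfLE hle).op := Subsingleton.elim _ _
  rw [this]
  exact key _ _ hle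

variable {C : Type u} [SmallCategory C] (J : GrothendieckTopology C)

/-- sections over `U` of the degree `j` term. -/
noncomputable abbrev secFun (U : C) (j : ℤ) : CochainComplex (Sheaf J AddCommGrpCat.{u}) ℤ ⥤ Type u :=
  HomologicalComplex.eval _ _ j ⋙ sheafToPresheaf J AddCommGrpCat.{u} ⋙
    (evaluation Cᵒᵖ AddCommGrpCat.{u}).obj (op U) ⋙ forget AddCommGrpCat.{u}


variable (F : ℕ → CochainComplex (Sheaf J AddCommGrpCat.{u}) ℤ) (t : ∀ n, F (n + 1) ⟶ F n)

theorem limit_π_succ (n : ℕ) :
    limit.π (CohCx.opSequence F t) (op (n + 1)) ≫ t n = limit.π (CohCx.opSequence F t) (op n) := by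
  have h := limit.w (CohCx.opSequence F t) (homOfLE (Nat.le_add_right n 1)).op
  rwa [show (CohCx.opSequence F t).map (homOfLE (Nat.le_add_right n 1)).op = t n from
    Functor.ofOpSequence_map_homOfLE_succ t n] at h

theorem exists_lift (U : C) (j : ℤ) (s : ∀ n, ((F n).X j).obj.obj (op U))
    (hs : ∀ n, ((t n).f j).hom.app (op U) (s (n + 1)) = s n) :
    ∃ x : ((limit (CohCx.opSequence F t)).X j).obj.obj (op U),
      ∀ n, ((limit.π (CohCx.opSequence F t) (op n)).f j).hom.app (op U) x = s n := by
  have hlim := (Types.isLimit_iff _).1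
    ⟨isLimitOfPreserves (secFun J U j) (limit.isLimit (CohCx.opSequence F t))⟩
  have hsec : (fun i : ℕᵒᵖ => s i.unop) ∈ (CohCx.opSequence F t ⋙ secFun J U j).sections :=
    mem_sections_of_succ (CohCx.opSequence F t ⋙ secFun J U j) s (by
    intro n
    change (secFun J U j).map ((CohCx.opSequence F t).map (homOfLE (Nat.le_add_right n 1)).op)
      (s (n + 1)) = s n
    rw [show (CohCx.opSequence F t).map (homOfLE (Nat.le_add_right n 1)).op = t n from
      Functor.ofOpSequence_map_homOfLE_succ t n]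
    exact hs n)
  obtain ⟨x, hx, -⟩ := hlim _ hsec
  exact ⟨x, fun n => hx (op n)⟩

theorem ext_lift (U : C) (j : ℤ) (x y : ((limit (CohCx.opSequence F t)).X j).obj.obj (op U))
    (h : ∀ n, ((limit.π (CohCx.opSequence F t) (op n)).f j).hom.app (op U) x =
      ((limit.π (CohCx.opSequence F t) (op n)).f j).hom.app (op U) y) : x = y := by
  have hlim := (Types.isLimit_iff _).1
    ⟨isLimitOfPreserves (secFun J U j) (limit.isLimit (CohCx.opSequence F t))⟩
  have hsec : (fun i : ℕᵒᵖ => (secFun J U j).map (limit.π (CohCx.opSequence F t) i) y) ∈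
      (CohCx.opSequence F t ⋙ secFun J U j).sections := by
    intro i i' f
    change (secFun J U j).map ((CohCx.opSequence F t).map f)
      ((secFun J U j).map (limit.π (CohCx.opSequence F t) i) y) =
      (secFun J U j).map (limit.π (CohCx.opSequence F t) i') y
    rw [← limit.w (CohCx.opSequence F t) f, Functor.map_comp]
    rfl
  exact (hlim _ hsec).unique (fun i => h i.unop) (fun _ => rfl)

theorem site_limCx (m : ℤ) (B : Set C) (hB : Covers J B) (n₀ : ℕ)
    (ha : ∀ U ∈ B, ∀ j : ℤ, (j = m - 2 ∨ j = m - 1) →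
      CohCx.LimOneIsZero (fun n => ((F n).X j).obj.obj (op U))
        (fun n => (((t n).f j).hom.app (op U)).hom))
    (hb : ∀ U ∈ B, CohCx.LimOneIsZero
      (fun n => ((CohCx.sectCx J U).obj (F n)).homology (m - 1))
      (fun n => (HomologicalComplex.homologyMap ((CohCx.sectCx J U).map (t n)) (m - 1)).hom))
    (hc : ∀ U ∈ B, ∀ k : ℕ, IsIso (HomologicalComplex.homologyMap
      ((CohCx.sectCx J U).map (CohCx.transition F t n₀ k)) m)) :
    IsIso (HomologicalComplex.homologyMap (limit.π (CohCx.opSequence F t) (op n₀)) m) := by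
  apply isIso_homologyMap_of_bijective_on J B hB
  intro U hU
  refine bijective_of_limOne (fun n => (CohCx.sectCx J U).obj (F n))
    (fun n => (CohCx.sectCx J U).map (t n))
    ((CohCx.sectCx J U).obj (limit (CohCx.opSequence F t)))
    (fun n => (CohCx.sectCx J U).map (limit.π (CohCx.opSequence F t) (op n)))
    (fun n => by
      rw [← Functor.map_comp]
      exact congrArg (CohCx.sectCx J U).map (limit_π_succ J F t n)) m
    (fun j s hs => exists_lift J F t U j s hs)
    (fun j x y h => ext_lift J F t U j x y h)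
    (ha U hU (m - 2) (Or.inl rfl)) (ha U hU (m - 1) (Or.inr rfl)) (hb U hU) n₀ (fun k => ?_)
  rw [← map_transition]
  exact (ConcreteCategory.isIso_iff_bijective _).1 (hc U hU k)

end Final

section Top

open TopologicalSpace

theorem covers_of_isBasis {X : TopCat.{u}} {B : Set (Opens X)} (hB : Opens.IsBasis B) :
    Covers (Opens.grothendieckTopology X) B := by
  intro U
  refine ⟨{V : Opens X // V ∈ B ∧ V ≤ U}, fun i => i.1, fun i => homOfLE i.2.2, ?_, fun i => i.2.1⟩
  intro x hx
  obtain ⟨W, hW, hxW, hWU⟩ := Opens.isBasis_iff_nbhd.1 hB hx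
  exact ⟨W, homOfLE hWU, Sieve.ofArrows_mk _ _ (⟨W, hW, hWU⟩ : {V : Opens X // V ∈ B ∧ V ≤ U}), hxW⟩

end Top

end Groth.Agent.Lib.T2H2.LimCx
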