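import Mathlib
import Groth.Prelude.Def_Formal2
import Groth.Agent.Lib.T2H2LimCx
import Groth.Agent.Lib.Helper10ML

/-! Milnor exact sequence for a tower of cochain complexes of abelian groups with surjective
transition maps (for S15300). -/

set_option autoImplicit false
universe u
open CategoryTheory CategoryTheory.Limits Opposite

namespace Groth.Agent.Lib.T1H3.Milnor

open Groth.Agent.Lib.T2H2.LimCx

section Rec

/-- `lim¹ = 0` for a tower with surjective transition maps, elementwise. -/
theorem exists_towerDiff_eq {X : ℕ → Type u} [∀ n, AddCommGroup (X n)] (t : ∀ n, X (n + 1) →+ X n)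
    (ht : ∀ n, Function.Surjective (t n)) (b : ∀ n, X n) :
    ∃ a : ∀ n, X n, ∀ n, a n - t n (a (n + 1)) = b n := by
  have hstep : ∀ n (x : X n), ∃ y : X (n + 1), t n y = x - b n := fun n x => ht n _
  choose f hf using hstep
  let a : ∀ n, X n := fun n => Nat.rec (motive := X) 0 (fun n x => f n x) n
  refine ⟨a, fun n => ?_⟩
  have : a (n + 1) = f n (a n) := rfl
  rw [this, hf]
  abel

end Rec

section Cls

variable {K : CochainComplex AddCommGrpCat.{u} ℤ} {m : ℤ}

theorem IsCls.add {x x' : K.X m} {h h' : K.homology m} (hx : IsCls K m x h)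
    (hx' : IsCls K m x' h') : IsCls K m (x + x') (h + h') := by
  obtain ⟨z, rfl, rfl⟩ := hx
  obtain ⟨z', rfl, rfl⟩ := hx'
  exact ⟨z + z', map_add _ _ _, map_add _ _ _⟩

theorem isCls_zero : IsCls K m 0 0 := ⟨0, map_zero _, map_zero _⟩

end Cls

section Main

variable (A : ℕ → CochainComplex AddCommGrpCat.{u} ℤ) (t : ∀ n, A (n + 1) ⟶ A n)
  (L : CochainComplex AddCommGrpCat.{u} ℤ) (π : ∀ n, L ⟶ A n)

/-- the relation defining the map `ker → lim¹`. -/
def Rel (p q : ℤ) (h : L.homology p) (g : ∀ n, (A n).homology q) : Prop :=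
  ∃ (x : L.X p) (y : ∀ n, (A n).X q), IsCls L p x h ∧
    (∀ n, (A n).d q p (y n) = (π n).f p x) ∧
    ∀ n, IsCls (A n) q (y n - (t n).f q (y (n + 1))) (g n)

variable (hπ : ∀ n, π (n + 1) ≫ t n = π n)
  (hex : ∀ (j : ℤ) (s : ∀ n, (A n).X j), (∀ n, (t n).f j (s (n + 1)) = s n) →
      ∃ x : L.X j, ∀ n, (π n).f j x = s n)
  (hext : ∀ (j : ℤ) (x y : L.X j), (∀ n, (π n).f j x = (π n).f j y) → x = y)
  (hsurj : ∀ (n : ℕ) (j : ℤ), Function.Surjective ((t n).f j))

include hex hext hsurj in
/-- surjectivity of `H^p(lim) → lim H^p`. -/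
theorem exists_class (p q : ℤ) (hqp : q + 1 = p) (e : ∀ n, (A n).homology p)
    (he : ∀ n, HomologicalComplex.homologyMap (t n) p (e (n + 1)) = e n) :
    ∃ h : L.homology p, ∀ n, HomologicalComplex.homologyMap (π n) p h = e n := by
  have hcc : ∀ n, ∃ c, IsCls (A n) p c (e n) := fun n => exists_isCls (e n)
  choose c hcc using hcc
  have hu : ∀ n, ∃ u : (A n).X q, (A n).d q p u = c n - (t n).f p (c (n + 1)) := by
    intro n
    have h3 := (hcc n).sub ((hcc (n + 1)).map (t n))
    rw [he n, sub_self] at h3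
    exact h3.exists_of_zero q hqp
  choose u hu using hu
  obtain ⟨v, hv⟩ := exists_towerDiff_eq (X := fun n => (A n).X q)
    (fun n => ((t n).f q).hom) (fun n => hsurj n q) u
  have hv' : ∀ n, v n - (t n).f q (v (n + 1)) = u n := hv
  have hcc' : ∀ n, IsCls (A n) p (c n - (A n).d q p (v n)) (e n) :=
    fun n => (hcc n).sub_d q (v n)
  obtain ⟨x, hx⟩ := hex p (fun n => c n - (A n).d q p (v n)) (by
    intro n
    have e1 : (A n).d q p (v n) - (t n).f p ((A (n + 1)).d q p (v (n + 1))) =
        c n - (t n).f p (c (n + 1)) := by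
      rw [← hu n, ← hv' n, map_sub, t_d]
    rw [map_sub]
    calc (t n).f p (c (n + 1)) - (t n).f p ((A (n + 1)).d q p (v (n + 1)))
        = (c n - (A n).d q p (v n)) - ((c n - (t n).f p (c (n + 1))) -
            ((A n).d q p (v n) -
              (t n).f p ((A (n + 1)).d q p (v (n + 1))))) := by abel
      _ = _ := by rw [e1, sub_self, sub_zero])
  have hdx : L.d p (p + 1) x = 0 := by
    apply hext
    intro n
    rw [← π_d, hx, map_zero]
    exact (hcc' n).d_eq (p + 1)
  obtain ⟨h, hh⟩ := exists_isCls_of_d_eq_zero x (p + 1) rfl hdx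
  refine ⟨h, fun n => ?_⟩
  have h5 := hh.map (π n)
  rw [hx n] at h5
  exact h5.unique (hcc' n)

include hπ in
/-- (F1) every class in the kernel is related to some family. -/
theorem rel_exists (p q : ℤ) (hqp : q + 1 = p) (h : L.homology p)
    (hh : ∀ n, HomologicalComplex.homologyMap (π n) p h = 0) :
    ∃ g, Rel A t L π p q h g := by
  obtain ⟨x, hx⟩ := exists_isCls h
  have hy : ∀ n, ∃ y : (A n).X q, (A n).d q p y = (π n).f p x := by
    intro n
    have h3 := hx.map (π n)
    rw [hh n] at h3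
    exact h3.exists_of_zero q hqp
  choose y hy using hy
  have hz : ∀ n, (A n).d q p (y n - (t n).f q (y (n + 1))) = 0 := by
    intro n
    rw [map_sub, t_d, hy, hy, t_π A t L π hπ, sub_self]
  have hg : ∀ n, ∃ g, IsCls (A n) q (y n - (t n).f q (y (n + 1))) g := fun n =>
    exists_isCls_of_d_eq_zero _ p hqp (hz n)
  choose g hg using hg
  exact ⟨g, x, y, hx, hy, hg⟩

/-- (F4) related classes lie in the kernel. -/
theorem rel_mem_ker (p q : ℤ) {h : L.homology p} {g : ∀ n, (A n).homology q}
    (hr : Rel A t L π p q h g) (n : ℕ) : HomologicalComplex.homologyMap (π n) p h = 0 := by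
  obtain ⟨x, y, hx, hy, -⟩ := hr
  have h3 := hx.map (π n)
  rw [← hy n] at h3
  exact h3.unique (isCls_d q (y n))

/-- (F3) additivity. -/
theorem rel_add (p q : ℤ) {h h' : L.homology p} {g g' : ∀ n, (A n).homology q}
    (hr : Rel A t L π p q h g) (hr' : Rel A t L π p q h' g') :
    Rel A t L π p q (h + h') (g + g') := by
  obtain ⟨x, y, hx, hy, hg⟩ := hr
  obtain ⟨x', y', hx', hy', hg'⟩ := hr'
  refine ⟨x + x', fun n => y n + y' n, IsCls.add hx hx', fun n => ?_, fun n => ?_⟩
  · rw [map_add, map_add, hy, hy']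
  · have := IsCls.add (hg n) (hg' n)
    have e : y n + y' n - (t n).f q (y (n + 1) + y' (n + 1)) =
        (y n - (t n).f q (y (n + 1))) + (y' n - (t n).f q (y' (n + 1))) := by
      rw [map_add]; abel
    rw [e]
    exact this

include hπ in
/-- (F2) the family is well defined modulo the range of `towerDiff`. -/
theorem rel_unique (p q : ℤ) (hqp : q + 1 = p) {h : L.homology p} {g g' : ∀ n, (A n).homology q}
    (hr : Rel A t L π p q h g) (hr' : Rel A t L π p q h g') :
    g - g' ∈ (Formal2.towerDiff (fun n => (A n).homology q)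
      (fun n => (HomologicalComplex.homologyMap (t n) q).hom)).range := by
  obtain ⟨x, y, hx, hy, hg⟩ := hr
  obtain ⟨x', y', hx', hy', hg'⟩ := hr'
  have h0 := hx.sub hx'
  rw [sub_self] at h0
  obtain ⟨e, he⟩ := h0.exists_of_zero q hqp
  have hc : ∀ n, (A n).d q p (y n - y' n - (π n).f q e) = 0 := by
    intro n
    rw [map_sub, map_sub, hy, hy', π_d, he, map_sub, sub_self]
  have hγ : ∀ n, ∃ γ, IsCls (A n) q (y n - y' n - (π n).f q e) γ := fun n =>
    exists_isCls_of_d_eq_zero _ p hqp (hc n)
  choose γ hγ using hγ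
  refine ⟨γ, ?_⟩
  funext n
  change γ n - HomologicalComplex.homologyMap (t n) q (γ (n + 1)) = g n - g' n
  have h1 := (hγ n).sub ((hγ (n + 1)).map (t n))
  have h2 := (hg n).sub (hg' n)
  have e1 : y n - y' n - (π n).f q e - (t n).f q (y (n + 1) - y' (n + 1) - (π (n + 1)).f q e) =
      (y n - (t n).f q (y (n + 1))) - (y' n - (t n).f q (y' (n + 1))) := by
    rw [map_sub, map_sub, t_π A t L π hπ]; abel
  rw [e1] at h1
  exact h1.unique h2

include hex hext hsurj in
/-- (F5) injectivity. -/
theorem rel_eq_zero (p q r : ℤ) (hqp : q + 1 = p) (hrq : r + 1 = q) {h : L.homology p}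
    {g : ∀ n, (A n).homology q} (hr : Rel A t L π p q h g)
    (hg : g ∈ (Formal2.towerDiff (fun n => (A n).homology q)
      (fun n => (HomologicalComplex.homologyMap (t n) q).hom)).range) : h = 0 := by
  obtain ⟨x, y, hx, hy, hw⟩ := hr
  obtain ⟨γ, hγ⟩ := hg
  have hγ' : ∀ n, γ n - HomologicalComplex.homologyMap (t n) q (γ (n + 1)) = g n :=
    fun n => congrFun hγ n
  have hc : ∀ n, ∃ c, IsCls (A n) q c (γ n) := fun n => exists_isCls (γ n)
  choose c hc using hc
  have hb : ∀ n, ∃ b : (A n).X r, (A n).d r q b =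
      (y n - (t n).f q (y (n + 1))) - (c n - (t n).f q (c (n + 1))) := by
    intro n
    have h1 := (hw n).sub ((hc n).sub ((hc (n + 1)).map (t n)))
    rw [hγ' n, sub_self] at h1
    exact h1.exists_of_zero r hrq
  choose b hb using hb
  obtain ⟨a, ha⟩ := exists_towerDiff_eq (X := fun n => (A n).X r)
    (fun n => ((t n).f r).hom) (fun n => hsurj n r) b
  have ha' : ∀ n, a n - (t n).f r (a (n + 1)) = b n := ha
  obtain ⟨yy, hyy⟩ := hex q (fun n => y n - c n - (A n).d r q (a n)) (by
    intro n
    have e1 : (A n).d r q (a n) - (t n).f q ((A (n + 1)).d r q (a (n + 1))) =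
        (y n - (t n).f q (y (n + 1))) - (c n - (t n).f q (c (n + 1))) := by
      rw [← hb n, ← ha' n, map_sub, t_d]
    rw [map_sub, map_sub]
    calc (t n).f q (y (n + 1)) - (t n).f q (c (n + 1)) -
          (t n).f q ((A (n + 1)).d r q (a (n + 1)))
        = (y n - c n - (A n).d r q (a n)) -
            (((y n - (t n).f q (y (n + 1))) - (c n - (t n).f q (c (n + 1)))) -
              ((A n).d r q (a n) - (t n).f q ((A (n + 1)).d r q (a (n + 1))))) := by abel
      _ = _ := by rw [e1, sub_self, sub_zero])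
  have hdy : L.d q p yy = x := by
    apply hext
    intro n
    rw [← π_d, hyy, map_sub, map_sub, hy, (hc n).d_eq p, sub_zero]
    have : (A n).d q p ((A n).d r q (a n)) = 0 := by
      rw [← AddCommGrpCat.comp_apply, (A n).d_comp_d]; rfl
    rw [this, sub_zero]
  have h4 : IsCls L p x 0 := by
    rw [← hdy]
    exact isCls_d q yy
  exact hx.unique h4

include hex hext hsurj in
/-- (F6) surjectivity. -/
theorem rel_surjective (p q : ℤ) (hqp : q + 1 = p) (g : ∀ n, (A n).homology q) :
    ∃ h, Rel A t L π p q h g := by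
  have hw : ∀ n, ∃ w, IsCls (A n) q w (g n) := fun n => exists_isCls (g n)
  choose w hw using hw
  obtain ⟨y, hy⟩ := exists_towerDiff_eq (X := fun n => (A n).X q)
    (fun n => ((t n).f q).hom) (fun n => hsurj n q) w
  have hy' : ∀ n, y n - (t n).f q (y (n + 1)) = w n := hy
  obtain ⟨x, hx⟩ := hex p (fun n => (A n).d q p (y n)) (by
    intro n
    have h1 : (A n).d q p (y n - (t n).f q (y (n + 1))) = 0 := by
      rw [hy' n]; exact (hw n).d_eq p
    rw [map_sub, t_d] at h1
    exact (sub_eq_zero.1 h1).symm)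
  have hdx : L.d p (p + 1) x = 0 := by
    apply hext
    intro n
    rw [← π_d, hx, map_zero, ← AddCommGrpCat.comp_apply, (A n).d_comp_d]; rfl
  obtain ⟨h, hh⟩ := exists_isCls_of_d_eq_zero x (p + 1) rfl hdx
  refine ⟨h, x, y, hh, fun n => (hx n).symm, fun n => ?_⟩
  rw [hy' n]
  exact hw n

include hπ hex hext hsurj in
/-- The kernel of `H^p(lim) → ∏ H^p` is `lim¹ H^{p-1}`. -/
theorem nonempty_ker_equiv_limOne (p q r : ℤ) (hqp : q + 1 = p) (hrq : r + 1 = q)
    (K : AddSubgroup (L.homology p))
    (hK : ∀ h, h ∈ K ↔ ∀ n, HomologicalComplex.homologyMap (π n) p h = 0) :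
    Nonempty (K ≃+ Formal2.limOne (fun n => (A n).homology q)
      (fun n => (HomologicalComplex.homologyMap (t n) q).hom)) := by
  have hg : ∀ h : K, ∃ g, Rel A t L π p q h.1 g := fun h =>
    rel_exists A t L π hπ p q hqp h.1 ((hK h.1).1 h.2)
  choose gf hgf using hg
  let Φ : K →+ Formal2.limOne (fun n => (A n).homology q)
      (fun n => (HomologicalComplex.homologyMap (t n) q).hom) :=
    AddMonoidHom.mk' (fun h => QuotientAddGroup.mk (gf h)) (by
      intro h h'
      rw [← QuotientAddGroup.mk_add]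
      apply (QuotientAddGroup.eq_iff_sub_mem).2
      exact rel_unique A t L π hπ p q hqp (hgf (h + h')) (rel_add A t L π p q (hgf h) (hgf h')))
  refine ⟨AddEquiv.ofBijective Φ ⟨?_, ?_⟩⟩
  · rw [injective_iff_map_eq_zero]
    intro h hh
    have h1 : gf h ∈ (Formal2.towerDiff (fun n => (A n).homology q)
        (fun n => (HomologicalComplex.homologyMap (t n) q).hom)).range :=
      (QuotientAddGroup.eq_zero_iff _).1 hh
    exact Subtype.ext (rel_eq_zero A t L π hex hext hsurj p q r hqp hrq (hgf h) h1)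
  · intro l
    obtain ⟨g, rfl⟩ := QuotientAddGroup.mk_surjective l
    obtain ⟨h, hh⟩ := rel_surjective A t L π hex hext hsurj p q hqp g
    have hmem : h ∈ K := (hK h).2 (fun n => rel_mem_ker A t L π p q hh n)
    refine ⟨⟨h, hmem⟩, ?_⟩
    change (QuotientAddGroup.mk (gf ⟨h, hmem⟩) : Formal2.limOne _ _) = QuotientAddGroup.mk g
    apply (QuotientAddGroup.eq_iff_sub_mem).2
    exact rel_unique A t L π hπ p q hqp (hgf ⟨h, hmem⟩) hh

end Main

section Concrete

open Groth.Agent.Lib.Helper10

variable (K : ℕᵒᵖ ⥤ HomologicalComplex AddCommGrpCat.{u} (ComplexShape.up ℤ))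

/-- sections of the degree `j` term. -/
noncomputable abbrev secFun (j : ℤ) :
    HomologicalComplex AddCommGrpCat.{u} (ComplexShape.up ℤ) ⥤ Type u :=
  HomologicalComplex.eval _ _ j ⋙ forget AddCommGrpCat.{u}

theorem limit_π_succ (n : ℕ) :
    limit.π K (op (n + 1)) ≫ K.map (homOfLE (Nat.le_succ n)).op = limit.π K (op n) :=
  limit.w K (homOfLE (Nat.le_succ n)).op

theorem exists_lift (j : ℤ) (s : ∀ n, (K.obj (op n)).X j)
    (hs : ∀ n, (K.map (homOfLE (Nat.le_succ n)).op).f j (s (n + 1)) = s n) :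
    ∃ x : (limit K).X j, ∀ n, (limit.π K (op n)).f j x = s n := by
  have hlim := (Types.isLimit_iff _).1
    ⟨isLimitOfPreserves (secFun j) (limit.isLimit K)⟩
  have hsec : (fun i : ℕᵒᵖ => s i.unop) ∈ (K ⋙ secFun j).sections :=
    mem_sections_of_succ (K ⋙ secFun j) s (fun n => hs n)
  obtain ⟨x, hx, -⟩ := hlim _ hsec
  exact ⟨x, fun n => hx (op n)⟩

theorem ext_lift (j : ℤ) (x y : (limit K).X j)
    (h : ∀ n, (limit.π K (op n)).f j x = (limit.π K (op n)).f j y) : x = y := by
  have hlim := (Types.isLimit_iff _).1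
    ⟨isLimitOfPreserves (secFun j) (limit.isLimit K)⟩
  have hsec : (fun i : ℕᵒᵖ => (secFun j).map (limit.π K i) y) ∈ (K ⋙ secFun j).sections := by
    intro i i' f
    change (secFun j).map (K.map f) ((secFun j).map (limit.π K i) y) =
      (secFun j).map (limit.π K i') y
    rw [← limit.w K f, Functor.map_comp]
    rfl
  exact (hlim _ hsec).unique (fun i => h i.unop) (fun _ => rfl)

theorem post_π_apply (p : ℤ) (h : (limit K).homology p) (n : ℕ) :
    limit.π (K ⋙ HomologicalComplex.homologyFunctor _ _ p) (op n)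
      ((limit.post K (HomologicalComplex.homologyFunctor _ _ p)).hom h) =
    HomologicalComplex.homologyMap (limit.π K (op n)) p h := by
  have := limit.post_π K (HomologicalComplex.homologyFunctor AddCommGrpCat.{u} _ p) (op n)
  exact congrArg (fun φ => φ.hom h) this

theorem main_S15300
    (hK : ∀ (n : ℕ) (q : ℤ), Function.Surjective ((K.map (homOfLE (Nat.le_succ n)).op).f q).hom)
    (p q : ℤ) (hqp : q + 1 = p) :
    Function.Surjective (limit.post K (HomologicalComplex.homologyFunctor _ _ p)).hom ∧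
      Nonempty ((limit.post K (HomologicalComplex.homologyFunctor _ _ p)).hom.ker ≃+
        Formal2.limOne (fun n => (K.obj (op n)).homology q)
          (fun n => (HomologicalComplex.homologyMap (K.map (homOfLE (Nat.le_succ n)).op) q).hom)) := by
  constructor
  · intro ξ
    obtain ⟨h, hh⟩ := exists_class (fun n => K.obj (op n))
      (fun n => K.map (homOfLE (Nat.le_succ n)).op) (limit K) (fun n => limit.π K (op n))
      (exists_lift K) (ext_lift K) hK p q hqp
      (fun n => limit.π (K ⋙ HomologicalComplex.homologyFunctor _ _ p) (op n) ξ) (by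
        intro n
        have := limit.w (K ⋙ HomologicalComplex.homologyFunctor AddCommGrpCat.{u} _ p)
          (homOfLE (Nat.le_succ n)).op
        exact congrArg (fun φ => φ.hom ξ) this)
    refine ⟨h, ?_⟩
    apply limit_ext'
    intro j
    obtain ⟨n⟩ := j
    rw [post_π_apply]
    exact hh n
  · refine nonempty_ker_equiv_limOne (fun n => K.obj (op n))
      (fun n => K.map (homOfLE (Nat.le_succ n)).op) (limit K) (fun n => limit.π K (op n))
      (limit_π_succ K) (exists_lift K) (ext_lift K) hK p q (q - 1) hqp (by omega) _ ?_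
    intro h
    change (limit.post K (HomologicalComplex.homologyFunctor _ _ p)).hom h = 0 ↔ _
    constructor
    · intro h0 n
      rw [← post_π_apply, h0, map_zero]
      rfl
    · intro h0
      apply limit_ext'
      intro j
      obtain ⟨n⟩ := j
      rw [post_π_apply, h0 n, map_zero]
      rfl

end Concrete

end Groth.Agent.Lib.T1H3.Milnor
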