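import Mathlib

/-!
# Free Kähler differentials in characteristic zero force regularity

Let `k` be a field of characteristic `0` and `R` a Noetherian local `k`-algebra with residue
field `k`.  If `Ω_{R/k}` is free of rank `n`, then `R` is a regular local ring of dimension `n`.

The proof: pick `x₁,…,xₙ ∈ 𝔪` with `dx₁,…,dxₙ` a basis of `Ω` (a generating family of a free module
over a local ring contains a basis), and let `Dᵢ` be the dual derivations, `Dᵢ xⱼ = δᵢⱼ`.
* a derivation `D` with `D x = 1` and `D N ⊆ N` forces `x` to be a nonzerodivisor modulo `N`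
  (char. zero + Krull intersection), so `x₁,…,xₙ` is a regular sequence;
* the "evaluation" derivation `R → R/(N + 𝔪²)` shows `𝔪 ≤ N + 𝔪²` for `N = (x₁,…,xₙ)`, so `𝔪 = N`
  by Nakayama.
-/

namespace Groth.Agent.Lib.T1H3.OmegaFree

open IsLocalRing

universe u

section NZD

variable {k R : Type*} [Field k] [CharZero k] [CommRing R] [Algebra k R]

omit [CharZero k] in
/-- `D N ⊆ N` for `N` spanned by elements killed by `D`. -/
lemma deriv_mem_span (D : Derivation k R R) (S : Set R) (hS : ∀ s ∈ S, D s = 0) {z : R}
    (hz : z ∈ Ideal.span S) : D z ∈ Ideal.span S := by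
  induction hz using Submodule.span_induction with
  | mem s hs => rw [hS s hs]; exact zero_mem _
  | zero => simp
  | add a b _ _ ha hb => rw [map_add]; exact add_mem ha hb
  | smul r a ha h =>
    rw [smul_eq_mul, Derivation.leibniz]
    exact add_mem (Ideal.mul_mem_left _ _ h) (Ideal.mul_mem_right _ _ ha)

lemma isUnit_natCast_succ (k : Type*) {R : Type*} [Field k] [CharZero k] [CommRing R]
    [Algebra k R] (j : ℕ) : IsUnit (((j + 1 : ℕ) : R)) := by
  have h : (((j + 1 : ℕ) : R)) = algebraMap k R ((j + 1 : ℕ) : k) := by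
    rw [map_natCast]
  rw [h]
  exact (IsUnit.mk0 _ (by exact_mod_cast Nat.succ_ne_zero j)).map _

lemma mem_sup_span_of_pow_mul_mem (D : Derivation k R R) (N : Ideal R)
    (hN : ∀ z ∈ N, D z ∈ N) (x : R) (hx : D x = 1) :
    ∀ (j : ℕ) (z : R), x ^ j * z ∈ N → z ∈ N ⊔ Ideal.span {x} := by
  intro j
  induction j with
  | zero => intro z hz; simp only [pow_zero, one_mul] at hz; exact Ideal.mem_sup_left hz
  | succ j ih =>
    intro z hz
    have h1 : D (x ^ (j + 1) * z) ∈ N := hN _ hz
    have h2 : D (x ^ (j + 1) * z) = x ^ j * (x * D z + ((j + 1 : ℕ) : R) * z) := by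
      rw [Derivation.leibniz, Derivation.leibniz_pow, hx]
      simp only [smul_eq_mul, add_tsub_cancel_right, mul_one, nsmul_eq_mul]
      ring
    rw [h2] at h1
    have h3 := ih _ h1
    have h4 : ((j + 1 : ℕ) : R) * z ∈ N ⊔ Ideal.span {x} := by
      have h5 : x * D z ∈ N ⊔ Ideal.span {x} :=
        Ideal.mem_sup_right (Ideal.mul_mem_right _ _ (Ideal.subset_span rfl))
      have := sub_mem h3 h5
      simpa using this
    obtain ⟨u, hu⟩ := isUnit_natCast_succ k (R := R) j
    have : z = ↑u⁻¹ * (((j + 1 : ℕ) : R) * z) := by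
      rw [← hu, ← mul_assoc, Units.inv_mul, one_mul]
    rw [this]
    exact Ideal.mul_mem_left _ _ h4

lemma mem_sup_span_pow_of_mul_mem (D : Derivation k R R) (N : Ideal R)
    (hN : ∀ z ∈ N, D z ∈ N) (x : R) (hx : D x = 1) (z : R) (hz : x * z ∈ N) :
    ∀ m : ℕ, z ∈ N ⊔ Ideal.span {x ^ m} := by
  intro m
  induction m with
  | zero => simp
  | succ m ih =>
    obtain ⟨n, hn, t, ht, rfl⟩ := Submodule.mem_sup.mp ih
    obtain ⟨w, rfl⟩ := Ideal.mem_span_singleton'.mp ht
    have h1 : x ^ (m + 1) * w ∈ N := by
      have h : x * (n + w * x ^ m) - x * n ∈ N := sub_mem hz (Ideal.mul_mem_left _ _ hn)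
      have e : x * (n + w * x ^ m) - x * n = x ^ (m + 1) * w := by ring
      rwa [e] at h
    obtain ⟨n', hn', t', ht', hw⟩ :=
      Submodule.mem_sup.mp (mem_sup_span_of_pow_mul_mem D N hN x hx (m + 1) w h1)
    obtain ⟨w', rfl⟩ := Ideal.mem_span_singleton'.mp ht'
    have e : n + w * x ^ m = (n + n' * x ^ m) + w' * x ^ (m + 1) := by
      rw [← hw]; ring
    rw [e]
    exact Submodule.add_mem_sup (add_mem hn (Ideal.mul_mem_right _ _ hn'))
      (Ideal.mem_span_singleton'.mpr ⟨w', rfl⟩)

lemma mem_of_forall_mem_sup_pow [IsNoetherianRing R] [IsLocalRing R] (N : Ideal R) (z : R)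
    (h : ∀ m : ℕ, z ∈ N ⊔ (maximalIdeal R) ^ m) : z ∈ N := by
  have hK := Ideal.iInf_pow_smul_eq_bot_of_isLocalRing (R := R) (M := R ⧸ N) (maximalIdeal R)
    (Ideal.IsPrime.ne_top')
  have hz : (Submodule.Quotient.mk z : R ⧸ N) ∈
      (⨅ i : ℕ, (maximalIdeal R) ^ i • ⊤ : Submodule R (R ⧸ N)) := by
    rw [Submodule.mem_iInf]
    intro i
    obtain ⟨n, hn, t, ht, rfl⟩ := Submodule.mem_sup.mp (h i)
    have : (Submodule.Quotient.mk (n + t) : R ⧸ N) = t • (Submodule.Quotient.mk 1 : R ⧸ N) := by
      rw [← Submodule.Quotient.mk_smul, smul_eq_mul, mul_one, Submodule.Quotient.mk_add,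
        (Submodule.Quotient.mk_eq_zero N).mpr hn, zero_add]
    rw [this]
    exact Submodule.smul_mem_smul ht Submodule.mem_top
  rw [hK, Submodule.mem_bot] at hz
  exact (Submodule.Quotient.mk_eq_zero N).mp hz

/-- A derivation `D` with `D x = 1` stabilising the ideal `N` makes `x ∈ 𝔪` a nonzerodivisor
modulo `N` (characteristic zero, Noetherian local). -/
theorem mem_of_mul_mem [IsNoetherianRing R] [IsLocalRing R] (D : Derivation k R R) (N : Ideal R)
    (hN : ∀ z ∈ N, D z ∈ N) (x : R) (hxm : x ∈ maximalIdeal R) (hx : D x = 1) (z : R)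
    (hz : x * z ∈ N) : z ∈ N := by
  apply mem_of_forall_mem_sup_pow N z
  intro m
  have := mem_sup_span_pow_of_mul_mem D N hN x hx z hz m
  refine sup_le_sup_left ?_ N this
  rw [Ideal.span_singleton_le_iff_mem]
  exact Ideal.pow_mem_pow hxm m

end NZD

section Eval

variable {k R : Type*} [Field k] [CommRing R] [Algebra k R] [IsLocalRing R]
  (hres : Function.Surjective (algebraMap k (ResidueField R)))

/-- The "constant term" ring homomorphism `R → k` of a local `k`-algebra with residue field `k`. -/
noncomputable def cst : R →+* k :=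
  ((RingEquiv.ofBijective (algebraMap k (ResidueField R))
    ⟨(algebraMap k (ResidueField R)).injective, hres⟩).symm : ResidueField R →+* k).comp
    (residue R)

lemma algebraMap_cst (r : R) : algebraMap k (ResidueField R) (cst hres r) = residue R r := by
  unfold cst
  simp only [RingHom.coe_comp, RingHom.coe_coe, Function.comp_apply]
  exact RingEquiv.apply_symm_apply (RingEquiv.ofBijective (algebraMap k (ResidueField R))
    ⟨(algebraMap k (ResidueField R)).injective, hres⟩) _

lemma sub_cst_mem (r : R) : r - algebraMap k R (cst hres r) ∈ maximalIdeal R := by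
  rw [← residue_eq_zero_iff, map_sub, sub_eq_zero, ← algebraMap_cst hres r,
    IsScalarTower.algebraMap_apply k R (ResidueField R), ResidueField.algebraMap_eq]

lemma cst_algebraMap (a : k) : cst hres (algebraMap k R a) = a := by
  apply (algebraMap k (ResidueField R)).injective
  rw [algebraMap_cst, IsScalarTower.algebraMap_apply k R (ResidueField R),
    ResidueField.algebraMap_eq]

lemma cst_of_mem {y : R} (hy : y ∈ maximalIdeal R) : cst hres y = 0 := by
  apply (algebraMap k (ResidueField R)).injective
  rw [algebraMap_cst, map_zero, residue_eq_zero_iff]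
  exact hy

/-- The derivation `r ↦ r - r(0)` with values in `R ⧸ J`, for `𝔪² ≤ J`. -/
noncomputable def evalDer (J : Ideal R) (hJ : maximalIdeal R * maximalIdeal R ≤ J) :
    Derivation k R (R ⧸ J) :=
  Derivation.mk'
    { toFun := fun r => Ideal.Quotient.mk J (r - algebraMap k R (cst hres r))
      map_add' := by
        intro a b
        rw [← map_add]
        congr 1
        rw [map_add, map_add]
        ring
      map_smul' := by
        intro c r
        rw [RingHom.id_apply, Algebra.smul_def, map_mul, cst_algebraMap, map_mul,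
          Algebra.smul_def, IsScalarTower.algebraMap_apply k R (R ⧸ J),
          Ideal.Quotient.algebraMap_eq, ← map_mul (Ideal.Quotient.mk J)]
        congr 1
        ring }
    (by
      intro a b
      simp only [LinearMap.coe_mk, AddHom.coe_mk]
      rw [map_mul, map_mul]
      have e1 : a • Ideal.Quotient.mk J (b - algebraMap k R (cst hres b)) =
          Ideal.Quotient.mk J (a * (b - algebraMap k R (cst hres b))) := by
        rw [map_mul]; rfl
      have e2 : b • Ideal.Quotient.mk J (a - algebraMap k R (cst hres a)) =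
          Ideal.Quotient.mk J (b * (a - algebraMap k R (cst hres a))) := by
        rw [map_mul]; rfl
      rw [e1, e2, ← map_add, Ideal.Quotient.eq]
      have h := Ideal.mul_mem_mul (sub_cst_mem hres a) (sub_cst_mem hres b)
      have h' := J.neg_mem (hJ h)
      convert h' using 1
      ring)

lemma evalDer_apply (J : Ideal R) (hJ : maximalIdeal R * maximalIdeal R ≤ J) (r : R) :
    evalDer hres J hJ r = Ideal.Quotient.mk J (r - algebraMap k R (cst hres r)) := rfl

lemma evalDer_of_mem (J : Ideal R) (hJ : maximalIdeal R * maximalIdeal R ≤ J) {y : R}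
    (hy : y ∈ maximalIdeal R) : evalDer hres J hJ y = Ideal.Quotient.mk J y := by
  rw [evalDer_apply, cst_of_mem hres hy, map_zero, sub_zero]

include hres in
/-- If the differentials of `xᵢ ∈ 𝔪` span `Ω_{R/k}`, then `𝔪 ≤ (xᵢ) + 𝔪²`. -/
theorem maximalIdeal_le_sup {ι : Type*} (x : ι → R) (hx : ∀ i, x i ∈ maximalIdeal R)
    (hspan : Submodule.span R (Set.range fun i => KaehlerDifferential.D k R (x i)) = ⊤) :
    maximalIdeal R ≤ Ideal.span (Set.range x) ⊔ maximalIdeal R * maximalIdeal R := by
  set J := Ideal.span (Set.range x) ⊔ maximalIdeal R * maximalIdeal R with hJdef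
  have hJ : maximalIdeal R * maximalIdeal R ≤ J := le_sup_right
  set δ := evalDer hres J hJ with hδ
  have hℓ : δ.liftKaehlerDifferential = 0 := by
    apply LinearMap.ext_on hspan
    rintro _ ⟨i, rfl⟩
    simp only [Derivation.liftKaehlerDifferential_comp_D, LinearMap.zero_apply]
    rw [hδ, evalDer_of_mem hres J hJ (hx i), Ideal.Quotient.eq_zero_iff_mem]
    exact Ideal.mem_sup_left (Ideal.subset_span ⟨i, rfl⟩)
  intro y hy
  have h1 : δ y = 0 := by
    rw [← Derivation.liftKaehlerDifferential_comp_D δ y, hℓ, LinearMap.zero_apply]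
  rw [hδ, evalDer_of_mem hres J hJ hy, Ideal.Quotient.eq_zero_iff_mem] at h1
  exact h1

include hres in
/-- The differentials of elements of `𝔪` span `Ω_{R/k}`. -/
theorem span_D_maximalIdeal :
    Submodule.span R (Set.range fun y : maximalIdeal R => KaehlerDifferential.D k R (y : R)) =
      ⊤ := by
  rw [eq_top_iff, ← KaehlerDifferential.span_range_derivation k R]
  apply Submodule.span_mono
  rintro _ ⟨r, rfl⟩
  refine ⟨⟨r - algebraMap k R (cst hres r), sub_cst_mem hres r⟩, ?_⟩
  simp only [map_sub, Derivation.map_algebraMap, sub_zero]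

end Eval

section Main

open RingTheory.Sequence

variable (k R : Type u) [Field k] [CharZero k] [CommRing R] [Algebra k R] [IsLocalRing R]
  [IsNoetherianRing R]

omit [CharZero k] in
/-- Existence of a basis of `Ω_{R/k}` of the form `dx₁,…,dxₙ` with `xᵢ ∈ 𝔪`. -/
theorem exists_basis_D (hres : Function.Surjective (algebraMap k (ResidueField R))) (n : ℕ)
    (e : Ω[R⁄k] ≃ₗ[R] (Fin n → R)) :
    ∃ (x : Fin n → R) (b : Module.Basis (Fin n) R Ω[R⁄k]), (∀ i, x i ∈ maximalIdeal R) ∧
      ∀ i, b i = KaehlerDifferential.D k R (x i) := by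
  have : Module.Free R Ω[R⁄k] := Module.Free.of_equiv e.symm
  have : Module.Finite R Ω[R⁄k] := Module.Finite.equiv e.symm
  have : Module.FinitePresentation R Ω[R⁄k] := Module.finitePresentation_of_finite R _
  obtain ⟨κ, a, b, hb⟩ := Module.exists_basis_of_span_of_flat
    (fun y : maximalIdeal R => KaehlerDifferential.D k R (y : R)) (span_D_maximalIdeal hres)
  have : Finite κ := Module.Finite.finite_basis b
  let _ : Fintype κ := Fintype.ofFinite κ
  have hcard : Fintype.card κ = n := by
    rw [← Module.finrank_eq_card_basis b, LinearEquiv.finrank_eq e, Module.finrank_fin_fun]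
  let σ : κ ≃ Fin n := Fintype.equivFinOfCardEq hcard
  refine ⟨fun i => (a (σ.symm i) : R), b.reindex σ, fun i => (a (σ.symm i)).2, fun i => ?_⟩
  rw [Module.Basis.reindex_apply, hb]

theorem main (hres : Function.Surjective (algebraMap k (ResidueField R))) (n : ℕ)
    (e : Ω[R⁄k] ≃ₗ[R] (Fin n → R)) :
    IsRegularLocalRing R ∧ ringKrullDim R = n := by
  obtain ⟨x, b, hx, hb⟩ := exists_basis_D k R hres n e
  -- the dual derivations
  let Dd : Fin n → Derivation k R R := fun i => (b.coord i).compDer (KaehlerDifferential.D k R)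
  have hDd : ∀ i j, Dd i (x j) = if j = i then 1 else 0 := by
    intro i j
    show b.coord i (KaehlerDifferential.D k R (x j)) = _
    rw [← hb j, Module.Basis.coord_apply, Module.Basis.repr_self, Finsupp.single_apply]
  set rs : List R := List.ofFn x with hrs
  have hlen : rs.length = n := List.length_ofFn
  have hofList : Ideal.ofList rs = Ideal.span (Set.range x) := by
    unfold Ideal.ofList
    congr 1
    ext y
    simp only [Set.mem_ofPred_eq, hrs, List.mem_ofFn, Set.mem_range]
  -- `𝔪 = (x₁,…,xₙ)`
  have hle : Ideal.span (Set.range x) ≤ maximalIdeal R := by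
    rw [Ideal.span_le]
    rintro _ ⟨i, rfl⟩
    exact hx i
  have hm : Ideal.span (Set.range x) = maximalIdeal R := by
    refine le_antisymm hle ?_
    have hspan : Submodule.span R (Set.range fun i => KaehlerDifferential.D k R (x i)) = ⊤ := by
      rw [← b.span_eq]
      congr 1
      ext y
      simp only [Set.mem_range, hb]
    have h1 := maximalIdeal_le_sup hres x hx hspan
    exact Submodule.le_of_le_smul_of_le_jacobson_bot (IsNoetherian.noetherian _)
      (maximalIdeal_le_jacobson _) h1
  -- regular sequence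
  have hreg : IsRegular R rs := by
    refine ⟨⟨fun i hi => ?_⟩, ?_⟩
    · rw [isSMulRegular_quotient_iff_mem_of_smul_mem]
      intro z hz
      have hin : i < n := hlen ▸ hi
      have hN : (Ideal.ofList (rs.take i) • ⊤ : Submodule R R) =
          Ideal.span {y | y ∈ rs.take i} := by
        rw [smul_eq_mul, Ideal.mul_top]
      rw [hN] at hz ⊢
      have hrsi : rs[i] = x ⟨i, hin⟩ := by
        simp only [hrs, List.getElem_ofFn]
      rw [hrsi, smul_eq_mul] at hz
      refine mem_of_mul_mem (Dd ⟨i, hin⟩) _ (fun w hw => deriv_mem_span _ _ ?_ hw) (x ⟨i, hin⟩)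
        (hx _) ?_ z hz
      · intro s hs
        rw [Set.mem_ofPred_eq, List.mem_take_iff_getElem] at hs
        obtain ⟨j, hj, rfl⟩ := hs
        have hj' : j < i := lt_of_lt_of_le hj (min_le_left _ _)
        have hjn : j < n := hj'.trans hin
        have : rs[j] = x ⟨j, hjn⟩ := by simp only [hrs, List.getElem_ofFn]
        rw [this, hDd, if_neg]
        intro h
        exact absurd (Fin.mk.inj h) hj'.ne
      · rw [hDd, if_pos rfl]
    · rw [smul_eq_mul, Ideal.mul_top, hofList, hm]
      exact (Ideal.IsPrime.ne_top' (I := maximalIdeal R)).symm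
  have hdim : ringKrullDim R = n := by
    have h := ringKrullDim_add_length_eq_ringKrullDim_of_isRegular rs hreg
    rw [hlen, hofList, hm] at h
    rw [← h]
    have h0 : ringKrullDim (R ⧸ maximalIdeal R) = 0 :=
      ringKrullDim_eq_zero_of_isField ((Ideal.Quotient.maximal_ideal_iff_isField_quotient _).mp
        inferInstance)
    rw [h0, zero_add]
  refine ⟨?_, hdim⟩
  apply IsRegularLocalRing.of_spanFinrank_maximalIdeal_le
  rw [hdim, ← hm]
  have h1 := Submodule.spanFinrank_span_le_ncard_of_finite (R := R) (Set.finite_range x)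
  have h2 : (Set.range x).ncard ≤ n := by
    rw [← Set.image_univ]
    refine (Set.ncard_image_le Set.finite_univ).trans ?_
    rw [Set.ncard_univ, Nat.card_fin]
  exact_mod_cast h1.trans h2

end Main

end Groth.Agent.Lib.T1H3.OmegaFree
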