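import Mathlib

/-!
# A complete DVR with algebraically closed residue field dominating `k[[t₁,t₂]]_{(t₁)}`

`A = L⟦X⟧` with `L` an algebraic closure of `Frac k[[t₂]]`; the map
`k[[t₁,t₂]] ≃ k[[t₂]][[t₁]] → L[[t₁]]` inverts everything outside `(t₁)`.
-/

namespace Groth.Agent.Lib.T1H3.PSeriesDVR

open IsLocalRing

universe u

variable (k : Type u) [Field k]

/-- `k[[t₂]]`. -/
abbrev T := MvPowerSeries (Fin 1) k

/-- algebraic closure of `Frac k[[t₂]]`. -/
abbrev L := AlgebraicClosure (FractionRing (T k))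

/-- `k[[t₂]] → L`. -/
noncomputable def ι : T k →+* L k :=
  (algebraMap (FractionRing (T k)) (L k)).comp (algebraMap (T k) (FractionRing (T k)))

lemma ι_injective : Function.Injective (ι k) :=
  (algebraMap (FractionRing (T k)) (L k)).injective.comp (IsFractionRing.injective _ _)

/-- `k[[t₁,t₂]] → L[[X]]`. -/
noncomputable def ψ : MvPowerSeries (Fin 2) k →+* PowerSeries (L k) :=
  (PowerSeries.map (ι k)).comp (MvPowerSeries.finSuccEquiv k 1).toRingEquiv.toRingHom

lemma ψ_injective : Function.Injective (ψ k) :=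
  (PowerSeries.map_injective _ (ι_injective k)).comp (MvPowerSeries.finSuccEquiv k 1).injective

lemma ψ_X0 : ψ k (MvPowerSeries.X 0) = PowerSeries.X := by
  show PowerSeries.map (ι k) (MvPowerSeries.finSuccEquiv k 1 (MvPowerSeries.X 0)) = _
  rw [MvPowerSeries.finSuccEquiv_X_zero, PowerSeries.map_X]

lemma isUnit_ψ {y : MvPowerSeries (Fin 2) k}
    (hy : y ∉ Ideal.span {(MvPowerSeries.X 0 : MvPowerSeries (Fin 2) k)}) : IsUnit (ψ k y) := by
  rw [PowerSeries.isUnit_iff_constantCoeff, isUnit_iff_ne_zero]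
  intro h
  apply hy
  have h1 : PowerSeries.constantCoeff (MvPowerSeries.finSuccEquiv k 1 y) = 0 := by
    apply ι_injective k
    rw [map_zero, ← h]
    show _ = PowerSeries.constantCoeff (PowerSeries.map (ι k) (MvPowerSeries.finSuccEquiv k 1 y))
    rw [← PowerSeries.coeff_zero_eq_constantCoeff_apply, ← PowerSeries.coeff_zero_eq_constantCoeff_apply,
      PowerSeries.coeff_map]
  obtain ⟨z, hz⟩ := PowerSeries.X_dvd_iff.mpr h1
  rw [Ideal.mem_span_singleton]
  refine ⟨(MvPowerSeries.finSuccEquiv k 1).symm z, ?_⟩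
  apply (MvPowerSeries.finSuccEquiv k 1).injective
  rw [map_mul, AlgEquiv.apply_symm_apply, MvPowerSeries.finSuccEquiv_X_zero, hz]

lemma not_isUnit_ψ {y : MvPowerSeries (Fin 2) k}
    (hy : y ∈ Ideal.span {(MvPowerSeries.X 0 : MvPowerSeries (Fin 2) k)}) : ¬ IsUnit (ψ k y) := by
  rw [Ideal.mem_span_singleton] at hy
  obtain ⟨z, rfl⟩ := hy
  rw [map_mul, ψ_X0]
  intro h
  exact PowerSeries.X_irreducible.not_isUnit (isUnit_of_mul_isUnit_left h)

theorem main (P : Ideal (MvPowerSeries (Fin 2) k))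
    (hP : P = Ideal.span {(MvPowerSeries.X 0 : MvPowerSeries (Fin 2) k)}) [P.IsPrime]
    [IsAlgClosed k] :
    ∃ (A : Type u) (_ : CommRing A) (_ : IsDomain A) (_ : IsDiscreteValuationRing A) (_ : Algebra k A)
      (φ : Localization.AtPrime P →ₐ[k] A),
      IsAdicComplete (IsLocalRing.maximalIdeal A) A ∧ IsAlgClosed (IsLocalRing.ResidueField A) ∧
        Function.Injective φ ∧ IsLocalHom φ.toRingHom ∧
          Irreducible (φ (algebraMap (MvPowerSeries (Fin 2) k) (Localization.AtPrime P)
            (MvPowerSeries.X 0))) := by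
  let alg : Algebra k (PowerSeries (L k)) :=
    ((ψ k).comp (algebraMap k (MvPowerSeries (Fin 2) k))).toAlgebra
  let ψa : MvPowerSeries (Fin 2) k →ₐ[k] PowerSeries (L k) :=
    { ψ k with commutes' := fun r => rfl }
  have hunit : ∀ y : P.primeCompl, IsUnit (ψa y) := by
    intro y
    apply isUnit_ψ
    rw [← hP]
    exact y.2
  let φ : Localization.AtPrime P →ₐ[k] PowerSeries (L k) := IsLocalization.liftAlgHom hunit
  have hφ : ∀ x, φ (algebraMap _ _ x) = ψ k x := by
    intro x
    exact IsLocalization.lift_eq _ x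
  refine ⟨PowerSeries (L k), inferInstance, inferInstance, inferInstance, alg, φ, ?_, ?_, ?_, ?_, ?_⟩
  · rw [PowerSeries.maximalIdeal_eq_span_X]
    infer_instance
  · exact IsAlgClosed.of_ringEquiv (k := L k) _ (PowerSeries.residueFieldOfPowerSeries (k := L k)).symm
  · show Function.Injective (IsLocalization.lift hunit)
    rw [IsLocalization.lift_injective_iff]
    intro x y
    rw [(IsLocalization.injective (Localization.AtPrime P)
      P.primeCompl_le_nonZeroDivisors).eq_iff]
    exact (ψ_injective k).eq_iff.symm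
  · refine ⟨fun a ha => ?_⟩
    obtain ⟨x, s, rfl⟩ := IsLocalization.exists_mk'_eq P.primeCompl a
    have h1 : φ (IsLocalization.mk' _ x s) * ψ k s = ψ k x := by
      rw [← hφ, ← hφ, ← map_mul, IsLocalization.mk'_spec]
    have h2 : IsUnit (ψ k x) := by
      rw [← h1]
      exact IsUnit.mul ha (hunit s)
    have h3 : x ∈ P.primeCompl := by
      intro hx
      rw [hP] at hx
      exact not_isUnit_ψ k hx h2
    have h4 : IsUnit (algebraMap _ (Localization.AtPrime P) x) :=
      IsLocalization.map_units _ (⟨x, h3⟩ : P.primeCompl)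
    rw [← IsLocalization.mk'_spec (Localization.AtPrime P) x s] at h4
    exact isUnit_of_mul_isUnit_left h4
  · rw [hφ, ψ_X0]
    exact PowerSeries.X_irreducible

end Groth.Agent.Lib.T1H3.PSeriesDVR
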