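import Mathlib

/-!
# Pencils of singular 2 × 2 matrices (helper3)

Namespace `Groth.Agent.Lib.T1H3.Pencil`.
-/

set_option autoImplicit false
set_option linter.style.haveILetI false

universe u

namespace Groth.Agent.Lib.T1H3.Pencil

open Matrix

variable {k : Type u} [Field k]

/-- A singular `2 × 2` matrix is an outer product. -/
lemma exists_outer (C : Matrix (Fin 2) (Fin 2) k) (hC : C.det = 0) :
    ∃ α β : Fin 2 → k, ∀ i j, C i j = α i * β j := by
  rw [Matrix.det_fin_two] at hC
  by_cases h00 : C 0 0 = 0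
  · rw [h00, zero_mul, zero_sub, neg_eq_zero] at hC
    rcases mul_eq_zero.mp hC with h01 | h10
    · refine ⟨![0, 1], ![C 1 0, C 1 1], fun i j => ?_⟩
      fin_cases i <;> fin_cases j <;> simp [h00, h01]
    · refine ⟨![C 0 1, C 1 1], ![0, 1], fun i j => ?_⟩
      fin_cases i <;> fin_cases j <;> simp [h00, h10]
  · refine ⟨![C 0 0, C 1 0], ![1, C 0 1 / C 0 0], fun i j => ?_⟩
    fin_cases i <;> fin_cases j
    · show C 0 0 = C 0 0 * 1
      rw [mul_one]
    · show C 0 1 = C 0 0 * (C 0 1 / C 0 0)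
      field_simp
    · show C 1 0 = C 1 0 * 1
      rw [mul_one]
    · show C 1 1 = C 1 0 * (C 0 1 / C 0 0)
      field_simp
      linear_combination hC

/-- The polar form of the determinant. -/
def polar (A B : Matrix (Fin 2) (Fin 2) k) : k :=
  A 0 0 * B 1 1 + A 1 1 * B 0 0 - A 0 1 * B 1 0 - A 1 0 * B 0 1

lemma det_add (A B : Matrix (Fin 2) (Fin 2) k) : (A + B).det = A.det + polar A B + B.det := by
  simp only [Matrix.det_fin_two, polar, Matrix.add_apply]
  ring

/-- Pointwise alternative. -/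
lemma left_or_right (α β : Fin 2 → k) (A B : Matrix (Fin 2) (Fin 2) k)
    (hA : ∀ i j, A i j = α i * β j) (hB : B.det = 0) (hp : polar A B = 0) :
    (∀ j, α 1 * B 0 j - α 0 * B 1 j = 0) ∨ (∀ i, B i 0 * β 1 - B i 1 * β 0 = 0) := by
  obtain ⟨γ, δ, hγδ⟩ := exists_outer B hB
  have h1 : (α 1 * γ 0 - α 0 * γ 1) * (δ 0 * β 1 - δ 1 * β 0) = 0 := by
    unfold polar at hp
    rw [hA, hA, hA, hA, hγδ, hγδ, hγδ, hγδ] at hp
    linear_combination hp
  rcases mul_eq_zero.mp h1 with h | h
  · left
    intro j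
    rw [hγδ, hγδ]
    linear_combination δ j * h
  · right
    intro i
    rw [hγδ, hγδ]
    linear_combination γ i * h

section PencilSec

variable {V : Type*} [AddCommGroup V] [Module k V]
  (N : V →ₗ[k] Matrix (Fin 2) (Fin 2) k) (lam : V →ₗ[k] k)

lemma exists_perp (w : Fin 2 → k) : ∃ u : Fin 2 → k, u ≠ 0 ∧ u ⬝ᵥ w = 0 := by
  by_cases hw : w = 0
  · refine ⟨![1, 0], ?_, ?_⟩
    · intro h
      have := congrFun h 0
      simp at this
    · rw [hw, dotProduct_zero]
  · refine ⟨![w 1, -w 0], ?_, ?_⟩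
    · intro h
      apply hw
      have h0 := congrFun h 0
      have h1 := congrFun h 1
      simp only [Matrix.cons_val_zero, Matrix.cons_val_one, Pi.zero_apply, neg_eq_zero] at h0 h1
      ext i
      fin_cases i
      · exact h1
      · exact h0
    · simp only [dotProduct, Fin.sum_univ_two, Matrix.cons_val_zero, Matrix.cons_val_one]
      ring

/-- Right-kernel version. -/
lemma exists_left_of_right (v₀ : Fin 2 → k) (h : ∀ y, lam y = 0 → N y *ᵥ v₀ = 0) :
    ∃ u : Fin 2 → k, u ≠ 0 ∧ ∀ x, u ⬝ᵥ (N x *ᵥ v₀) = 0 := by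
  by_cases hl : ∃ x₁, lam x₁ ≠ 0
  · obtain ⟨x₁, hx₁⟩ := hl
    obtain ⟨u, hu, huw⟩ := exists_perp (N x₁ *ᵥ v₀)
    refine ⟨u, hu, fun x => ?_⟩
    have hy : lam (x - (lam x / lam x₁) • x₁) = 0 := by
      rw [map_sub, map_smul, smul_eq_mul, div_mul_cancel₀ _ hx₁, sub_self]
    have h1 := h _ hy
    rw [map_sub, map_smul, Matrix.sub_mulVec, Matrix.smul_mulVec, sub_eq_zero] at h1
    rw [h1, dotProduct_smul, huw, smul_zero]
  · push Not at hl
    refine ⟨![1, 0], ?_, fun x => ?_⟩
    · intro h
      have := congrFun h 0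
      simp at this
    · rw [h x (hl x), dotProduct_zero]

/-- Left-kernel version. -/
lemma exists_right_of_left (u₀ : Fin 2 → k) (h : ∀ y, lam y = 0 → u₀ ᵥ* N y = 0) :
    ∃ v : Fin 2 → k, v ≠ 0 ∧ ∀ x, u₀ ⬝ᵥ (N x *ᵥ v) = 0 := by
  let Nt : V →ₗ[k] Matrix (Fin 2) (Fin 2) k :=
    (Matrix.transposeLinearEquiv (Fin 2) (Fin 2) k k).toLinearMap ∘ₗ N
  have hNt : ∀ x, Nt x = (N x)ᵀ := fun x => rfl
  obtain ⟨v, hv, hv'⟩ := exists_left_of_right Nt lam u₀ (fun y hy => by
    rw [hNt, Matrix.mulVec_transpose]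
    exact h y hy)
  refine ⟨v, hv, fun x => ?_⟩
  have := hv' x
  rw [hNt, Matrix.mulVec_transpose, dotProduct_comm, ← Matrix.dotProduct_mulVec] at this
  exact this

/-- A pencil of matrices singular along `ker lam` has a common isotropic pair. -/
theorem exists_pair (h : ∀ x, lam x = 0 → (N x).det = 0) :
    ∃ u v : Fin 2 → k, u ≠ 0 ∧ v ≠ 0 ∧ ∀ x, u ⬝ᵥ (N x *ᵥ v) = 0 := by
  by_cases hA : ∀ x, lam x = 0 → N x = 0
  · obtain ⟨u, hu, hu'⟩ := exists_left_of_right N lam ![1, 0] (fun y hy => by
      rw [hA y hy, Matrix.zero_mulVec])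
    refine ⟨u, ![1, 0], hu, ?_, hu'⟩
    intro h
    have := congrFun h 0
    simp at this
  · push Not at hA
    obtain ⟨x₀, hx₀, hNx₀⟩ := hA
    obtain ⟨α, β, hαβ⟩ := exists_outer (N x₀) (h x₀ hx₀)
    have hu₀ : (![α 1, -α 0] : Fin 2 → k) ≠ 0 := by
      intro h0
      apply hNx₀
      have h00 := congrFun h0 0
      have h01 := congrFun h0 1
      simp only [Matrix.cons_val_zero, Matrix.cons_val_one, Pi.zero_apply, neg_eq_zero] at h00 h01
      ext i j
      rw [hαβ]
      fin_cases i
      · show α 0 * β j = 0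
        rw [h01, zero_mul]
      · show α 1 * β j = 0
        rw [h00, zero_mul]
    have hv₀ : (![β 1, -β 0] : Fin 2 → k) ≠ 0 := by
      intro h0
      apply hNx₀
      have h00 := congrFun h0 0
      have h01 := congrFun h0 1
      simp only [Matrix.cons_val_zero, Matrix.cons_val_one, Pi.zero_apply, neg_eq_zero] at h00 h01
      ext i j
      rw [hαβ]
      fin_cases j
      · show α i * β 0 = 0
        rw [h01, mul_zero]
      · show α i * β 1 = 0
        rw [h00, mul_zero]
    have hpt : ∀ y, lam y = 0 → (∀ j, α 1 * N y 0 j - α 0 * N y 1 j = 0) ∨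
        (∀ i, N y i 0 * β 1 - N y i 1 * β 0 = 0) := by
      intro y hy
      refine left_or_right α β (N x₀) (N y) hαβ (h y hy) ?_
      have h1 : (N x₀ + N y).det = 0 := by
        rw [← map_add]
        exact h _ (by rw [map_add, hx₀, hy, add_zero])
      rw [det_add, h x₀ hx₀, h y hy, zero_add, add_zero] at h1
      exact h1
    have hunif : (∀ y, lam y = 0 → ∀ j, α 1 * N y 0 j - α 0 * N y 1 j = 0) ∨
        (∀ y, lam y = 0 → ∀ i, N y i 0 * β 1 - N y i 1 * β 0 = 0) := by
      by_contra hcon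
      push Not at hcon
      obtain ⟨⟨y₁, hy₁, j₁, hj₁⟩, ⟨y₂, hy₂, i₂, hi₂⟩⟩ := hcon
      have hR1 : ∀ i, N y₁ i 0 * β 1 - N y₁ i 1 * β 0 = 0 := by
        rcases hpt y₁ hy₁ with hL | hR
        · exact absurd (hL j₁) hj₁
        · exact hR
      have hL2 : ∀ j, α 1 * N y₂ 0 j - α 0 * N y₂ 1 j = 0 := by
        rcases hpt y₂ hy₂ with hL | hR
        · exact hL
        · exact absurd (hR i₂) hi₂
      have hy12 : lam (y₁ + y₂) = 0 := by rw [map_add, hy₁, hy₂, add_zero]
      rcases hpt (y₁ + y₂) hy12 with hL | hR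
      · apply hj₁
        have h1 := hL j₁
        have h2 := hL2 j₁
        rw [map_add, Matrix.add_apply, Matrix.add_apply] at h1
        linear_combination h1 - h2
      · apply hi₂
        have h1 := hR i₂
        have h2 := hR1 i₂
        rw [map_add, Matrix.add_apply, Matrix.add_apply] at h1
        linear_combination h1 - h2
    rcases hunif with hL | hR
    · obtain ⟨v, hv, hv'⟩ := exists_right_of_left N lam ![α 1, -α 0] (fun y hy => by
        ext j
        simp only [Matrix.vecMul, dotProduct, Fin.sum_univ_two, Matrix.cons_val_zero,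
          Matrix.cons_val_one, Pi.zero_apply]
        linear_combination hL y hy j)
      exact ⟨_, v, hu₀, hv, hv'⟩
    · obtain ⟨u, hu, hu'⟩ := exists_left_of_right N lam ![β 1, -β 0] (fun y hy => by
        ext i
        simp only [Matrix.mulVec, dotProduct, Fin.sum_univ_two, Matrix.cons_val_zero,
          Matrix.cons_val_one, Pi.zero_apply]
        linear_combination hR y hy i)
      exact ⟨u, _, hu, hv₀, hu'⟩

end PencilSec

open MvPolynomial

section Lin

variable {σ : Type*}

/-- Evaluation of a homogeneous linear form is linear. -/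
lemma eval_add_of_homog {p : MvPolynomial σ k} (hp : p.IsHomogeneous 1) (x y : σ → k) :
    eval (x + y) p = eval x p + eval y p := by
  have hmem : p ∈ Submodule.span k (Set.range (X : σ → MvPolynomial σ k)) := by
    rw [← homogeneousSubmodule_one_eq_span_X]
    exact (mem_homogeneousSubmodule 1 p).mpr hp
  refine Submodule.span_induction (p := fun p _ => eval (x + y) p = eval x p + eval y p)
    ?_ ?_ ?_ ?_ hmem
  · rintro _ ⟨i, rfl⟩
    simp
  · simp
  · intro p q _ _ h1 h2
    rw [map_add, map_add, map_add, h1, h2]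
    ring
  · intro c p _ h1
    rw [smul_eval, smul_eval, smul_eval, h1]
    ring

lemma eval_smul_of_homog {p : MvPolynomial σ k} (hp : p.IsHomogeneous 1) (c : k) (x : σ → k) :
    eval (c • x) p = c * eval x p := by
  have hmem : p ∈ Submodule.span k (Set.range (X : σ → MvPolynomial σ k)) := by
    rw [← homogeneousSubmodule_one_eq_span_X]
    exact (mem_homogeneousSubmodule 1 p).mpr hp
  refine Submodule.span_induction (p := fun p _ => eval (c • x) p = c * eval x p)
    ?_ ?_ ?_ ?_ hmem
  · rintro _ ⟨i, rfl⟩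
    simp
  · simp
  · intro p q _ _ h1 h2
    rw [map_add, map_add, h1, h2]
    ring
  · intro d p _ h1
    rw [smul_eval, smul_eval, h1]
    ring

/-- The linear functional attached to a homogeneous linear form. -/
noncomputable def linOf (p : MvPolynomial σ k) (hp : p.IsHomogeneous 1) : (σ → k) →ₗ[k] k where
  toFun x := eval x p
  map_add' := eval_add_of_homog hp
  map_smul' c x := by
    rw [eval_smul_of_homog hp]
    rfl

end Lin

section Main

variable (M : Matrix (Fin 2) (Fin 2) (MvPolynomial (Fin 3) k))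

/-- The matrix pencil attached to a matrix of linear forms. -/
noncomputable def pencilOf (hM : ∀ a b : Fin 2, (M a b).IsHomogeneous 1) :
    (Fin 3 → k) →ₗ[k] Matrix (Fin 2) (Fin 2) k where
  toFun x := fun a b => eval x (M a b)
  map_add' x y := by
    ext a b
    exact eval_add_of_homog (hM a b) x y
  map_smul' c x := by
    ext a b
    exact eval_smul_of_homog (hM a b) c x

lemma entry_eq (g h : Matrix (Fin 2) (Fin 2) k) (i j : Fin 2) :
    ((C : k →+* MvPolynomial (Fin 3) k).mapMatrix g * M *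
      (C : k →+* MvPolynomial (Fin 3) k).mapMatrix h) i j =
      ∑ b : Fin 2, ∑ a : Fin 2, C (g i a) * M a b * C (h b j) := by
  rw [Matrix.mul_apply]
  refine Finset.sum_congr rfl fun b _ => ?_
  rw [Matrix.mul_apply, Finset.sum_mul]
  rfl

lemma entry_homog (hM : ∀ a b : Fin 2, (M a b).IsHomogeneous 1)
    (g h : Matrix (Fin 2) (Fin 2) k) (i j : Fin 2) :
    (((C : k →+* MvPolynomial (Fin 3) k).mapMatrix g * M *
      (C : k →+* MvPolynomial (Fin 3) k).mapMatrix h) i j).IsHomogeneous 1 := by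
  rw [entry_eq]
  refine IsHomogeneous.sum _ _ _ fun b _ => IsHomogeneous.sum _ _ _ fun a _ => ?_
  have := ((isHomogeneous_C (Fin 3) (g i a)).mul (hM a b)).mul (isHomogeneous_C (Fin 3) (h b j))
  simpa using this

/-- Completing a nonzero row vector to an invertible matrix (as row `0`). -/
lemma exists_gl_row (u : Fin 2 → k) (hu : u ≠ 0) :
    ∃ g : GL (Fin 2) k, ∀ a, g.val 0 a = u a := by
  by_cases h0 : u 0 = 0
  · have h1 : u 1 ≠ 0 := by
      intro h1
      apply hu
      ext i
      fin_cases i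
      · exact h0
      · exact h1
    refine ⟨Matrix.GeneralLinearGroup.mkOfDetNeZero !![u 0, u 1; 1, 0] ?_, fun a => ?_⟩
    · rw [Matrix.det_fin_two_of]
      simpa using h1
    · fin_cases a <;> rfl
  · refine ⟨Matrix.GeneralLinearGroup.mkOfDetNeZero !![u 0, u 1; 0, 1] ?_, fun a => ?_⟩
    · rw [Matrix.det_fin_two_of]
      simpa using h0
    · fin_cases a <;> rfl

/-- Completing a nonzero column vector to an invertible matrix (as column `1`). -/
lemma exists_gl_col (v : Fin 2 → k) (hv : v ≠ 0) :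
    ∃ h : GL (Fin 2) k, ∀ b, h.val b 1 = v b := by
  by_cases h0 : v 1 = 0
  · have h1 : v 0 ≠ 0 := by
      intro h1
      apply hv
      ext i
      fin_cases i
      · exact h1
      · exact h0
    refine ⟨Matrix.GeneralLinearGroup.mkOfDetNeZero !![0, v 0; 1, v 1] ?_, fun b => ?_⟩
    · rw [Matrix.det_fin_two_of]
      simpa using h1
    · fin_cases b <;> rfl
  · refine ⟨Matrix.GeneralLinearGroup.mkOfDetNeZero !![1, v 0; 0, v 1] ?_, fun b => ?_⟩
    · rw [Matrix.det_fin_two_of]
      simpa using h0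
    · fin_cases b <;> rfl

/-- Statement S13912. -/
theorem main_S13912 [Infinite k] (hM : ∀ a b : Fin 2, (M a b).IsHomogeneous 1) :
    (∃ l₁ l₂ : MvPolynomial (Fin 3) k, l₁.IsHomogeneous 1 ∧ l₂.IsHomogeneous 1 ∧ M.det = l₁ * l₂) ↔
    ∃ g h : GL (Fin 2) k,
      ((MvPolynomial.C : k →+* MvPolynomial (Fin 3) k).mapMatrix g.val * M *
        (MvPolynomial.C : k →+* MvPolynomial (Fin 3) k).mapMatrix h.val) 0 1 = 0 := by
  constructor
  · rintro ⟨l₁, l₂, hl₁, hl₂, hdet⟩
    have hsing : ∀ x, linOf l₁ hl₁ x = 0 → (pencilOf M hM x).det = 0 := by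
      intro x hx
      have h1 : pencilOf M hM x = (eval x).mapMatrix M := rfl
      rw [h1, ← RingHom.map_det, hdet, map_mul]
      have h2 : eval x l₁ = 0 := hx
      rw [h2, zero_mul]
    obtain ⟨u, v, hu, hv, huv⟩ := exists_pair (pencilOf M hM) (linOf l₁ hl₁) hsing
    obtain ⟨g, hg⟩ := exists_gl_row u hu
    obtain ⟨h, hh⟩ := exists_gl_col v hv
    refine ⟨g, h, ?_⟩
    apply IsHomogeneous.eq_zero_of_forall_eval_eq_zero (entry_homog M hM g.val h.val 0 1)
    intro x
    rw [entry_eq, map_sum]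
    have h3 := huv x
    simp only [dotProduct, Matrix.mulVec, Fin.sum_univ_two] at h3
    simp only [Fin.sum_univ_two, map_add, map_mul, eval_C, hg, hh]
    have h4 : ∀ a b, pencilOf M hM x a b = eval x (M a b) := fun a b => rfl
    rw [h4, h4, h4, h4] at h3
    linear_combination h3
  · rintro ⟨g, h, hgh⟩
    set M' := (MvPolynomial.C : k →+* MvPolynomial (Fin 3) k).mapMatrix g.val * M *
        (MvPolynomial.C : k →+* MvPolynomial (Fin 3) k).mapMatrix h.val with hM'
    have hdet' : M'.det = C g.val.det * M.det * C h.val.det := by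
      rw [hM', Matrix.det_mul, Matrix.det_mul, ← RingHom.map_det, ← RingHom.map_det]
    have hdet'' : M'.det = M' 0 0 * M' 1 1 := by
      rw [Matrix.det_fin_two, hgh, zero_mul, sub_zero]
    have hg0 : g.val.det ≠ 0 := by
      have := Matrix.GeneralLinearGroup.det_ne_zero g
      exact this
    have hh0 : h.val.det ≠ 0 := by
      have := Matrix.GeneralLinearGroup.det_ne_zero h
      exact this
    refine ⟨C ((g.val.det)⁻¹ * (h.val.det)⁻¹) * M' 0 0, M' 1 1, ?_, entry_homog M hM _ _ 1 1, ?_⟩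
    · have := (isHomogeneous_C (Fin 3) ((g.val.det)⁻¹ * (h.val.det)⁻¹)).mul
        (entry_homog M hM g.val h.val 0 0)
      rw [zero_add] at this
      exact this
    · have h5 : C ((g.val.det)⁻¹ * (h.val.det)⁻¹) * (C g.val.det * M.det * C h.val.det) = M.det := by
        have h6 : (C ((g.val.det)⁻¹ * (h.val.det)⁻¹) * C g.val.det * C h.val.det :
            MvPolynomial (Fin 3) k) = 1 := by
          rw [← map_mul, ← map_mul]
          have : (g.val.det)⁻¹ * (h.val.det)⁻¹ * g.val.det * h.val.det = 1 := by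
            field_simp
          rw [this, map_one]
        linear_combination M.det * h6
      rw [← h5, ← hdet', hdet'']
      ring

end Main

end Groth.Agent.Lib.T1H3.Pencil
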