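import Mathlib

/-!
# Four-term free presentations of reflexive modules (helper3)

Namespace `Groth.Agent.Lib.T1H3.ReflPres`.
-/

set_option autoImplicit false
set_option linter.style.haveILetI false

universe u

namespace Groth.Agent.Lib.T1H3.ReflPres

open Module

section LocQuot

variable {B : Type u} [CommRing B] (q : Ideal B) [q.IsPrime]
  {M₁ M₂ : Type u} [AddCommGroup M₁] [Module B M₁] [AddCommGroup M₂] [Module B M₂]

/-- If `h E h = t h` with `t ∉ q` and `M₂` is finite projective, then the localization of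
`coker h` at `q` is free. -/
theorem free_localized_quotient [Module.Finite B M₂] [Module.Projective B M₂]
    (h : M₁ →ₗ[B] M₂) (E : M₂ →ₗ[B] M₁) (t : B) (ht : t ∉ q)
    (hE : ∀ x, h (E (h x)) = t • h x) :
    Module.Free (Localization.AtPrime q)
      (LocalizedModule q.primeCompl (M₂ ⧸ LinearMap.range h)) := by
  let u : M₂ →ₗ[B] M₂ := t • LinearMap.id - h ∘ₗ E
  have hu : LinearMap.range h ≤ LinearMap.ker u := by
    rintro _ ⟨x, rfl⟩
    rw [LinearMap.mem_ker]
    show t • h x - h (E (h x)) = 0
    rw [hE, sub_self]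
  let σ₀ : (M₂ ⧸ LinearMap.range h) →ₗ[B] M₂ := (LinearMap.range h).liftQ u hu
  have hσ : ∀ x, (LinearMap.range h).mkQ (σ₀ x) = t • x := by
    intro x
    obtain ⟨x, rfl⟩ := (LinearMap.range h).mkQ_surjective x
    show (LinearMap.range h).mkQ (t • x - h (E x)) = t • (LinearMap.range h).mkQ x
    rw [map_sub, map_smul, sub_eq_self, Submodule.mkQ_apply, Submodule.Quotient.mk_eq_zero]
    exact ⟨_, rfl⟩
  let σ := LocalizedModule.map q.primeCompl σ₀
  let p := LocalizedModule.map q.primeCompl (LinearMap.range h).mkQ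
  have hpσ : ∀ y, p (σ y) = algebraMap B (Localization.AtPrime q) t • y := by
    intro y
    induction y using LocalizedModule.induction_on with
    | h x s =>
      show LocalizedModule.map q.primeCompl (LinearMap.range h).mkQ
        (LocalizedModule.map q.primeCompl σ₀ (LocalizedModule.mk x s)) = _
      rw [LocalizedModule.map_mk, LocalizedModule.map_mk, hσ, algebraMap_smul,
        LocalizedModule.smul'_mk]
  have htu : IsUnit (algebraMap B (Localization.AtPrime q) t) :=
    IsLocalization.map_units (M := q.primeCompl) _ ⟨t, ht⟩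
  haveI : Module.Projective (Localization.AtPrime q)
      (LocalizedModule q.primeCompl (M₂ ⧸ LinearMap.range h)) := by
    refine Module.Projective.of_split ((↑(htu.unit⁻¹) : Localization.AtPrime q) • σ) p ?_
    ext y
    show p ((↑(htu.unit⁻¹) : Localization.AtPrime q) • σ y) = y
    rw [map_smul, hpσ, smul_smul, IsUnit.val_inv_mul, one_smul]
  exact Module.free_of_flat_of_isLocalRing

end LocQuot

section Retract

variable {B : Type u} [CommRing B] [IsNoetherianRing B] (q : Ideal B) [q.IsPrime]
  (F : Type u) [AddCommGroup F] [Module B F] [Module.Finite B F]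

/-- If `F_q` is free then `F` is a `t`-retract of a finite free module for some `t ∉ q`. -/
theorem exists_retract
    [Module.Free (Localization.AtPrime q) (LocalizedModule q.primeCompl F)] :
    ∃ (ι : Type u) (_ : Fintype ι) (a : F →ₗ[B] (ι → B)) (b : (ι → B) →ₗ[B] F) (t : B),
      t ∉ q ∧ ∀ x, b (a x) = t • x := by
  classical
  let S := q.primeCompl
  let Bq := Localization.AtPrime q
  let Fq := LocalizedModule S F
  let ι := Module.Free.ChooseBasisIndex Bq Fq
  let bas := Module.Free.chooseBasis Bq Fq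
  let φ : Fq ≃ₗ[Bq] (ι → Bq) := bas.equivFun
  let ιr : (ι → B) →ₗ[B] (ι → Bq) :=
    LinearMap.pi fun i => Algebra.linearMap B Bq ∘ₗ LinearMap.proj i
  haveI : IsLocalizedModule S ιr := IsLocalizedModule.pi S (fun _ : ι => Algebra.linearMap B Bq)
  let mkF := LocalizedModule.mkLinearMap S F
  haveI : Module.FinitePresentation B F := Module.finitePresentation_of_finite B F
  obtain ⟨a, sa, ha⟩ := Module.FinitePresentation.exists_lift_of_isLocalizedModule S ιr
    ((φ.restrictScalars B).toLinearMap ∘ₗ mkF)
  obtain ⟨b, sb, hb⟩ := Module.FinitePresentation.exists_lift_of_isLocalizedModule S mkF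
    ((φ.symm.restrictScalars B).toLinearMap ∘ₗ ιr)
  let ψ : Fq ≃ₗ[B] (ι → Bq) := φ.restrictScalars B
  have H : mkF ∘ₗ (b ∘ₗ a) = mkF ∘ₗ (((sa : B) * (sb : B)) • LinearMap.id) := by
    ext x
    have h1 : mkF (b (a x)) = (sb : B) • ψ.symm (ιr (a x)) := LinearMap.congr_fun hb (a x)
    have h2 : ιr (a x) = (sa : B) • ψ (mkF x) := LinearMap.congr_fun ha x
    show mkF (b (a x)) = mkF (((sa : B) * (sb : B)) • x)
    rw [h1, h2, map_smul, ψ.symm_apply_apply, smul_smul, map_smul, mul_comm]
  obtain ⟨s2, hs2⟩ := Module.Finite.exists_smul_of_comp_eq_of_isLocalizedModule S mkF _ _ H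
  refine ⟨ι, inferInstance, a, (s2 : B) • b, (s2 : B) * ((sa : B) * (sb : B)),
    (s2 * (sa * sb)).2, fun x => ?_⟩
  have h3 : (s2 : B) • b (a x) = (s2 : B) • (((sa : B) * (sb : B)) • x) :=
    LinearMap.congr_fun hs2 x
  show (s2 : B) • b (a x) = _
  rw [h3, smul_smul]

end Retract

section GenInv

variable {B : Type u} [CommRing B]
  {F : Type u} [AddCommGroup F] [Module B F]

/-- From a retract of `F` to a generalized inverse of a presentation matrix of the dual. -/
theorem exists_geninv {N M : Type u} [AddCommGroup N] [Module B N] [Module.Projective B N]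
    [AddCommGroup M] [Module B M]
    (π : N →ₗ[B] Module.Dual B F) (hπ : Function.Surjective π)
    (d : M →ₗ[B] N) (hd : LinearMap.range d = LinearMap.ker π)
    {ι : Type u} [Fintype ι] (a : F →ₗ[B] (ι → B)) (b : (ι → B) →ₗ[B] F) (t : B)
    (hab : ∀ x, b (a x) = t • x) :
    ∃ e : N →ₗ[B] M, ∀ x, d (e (d x)) = t • d x := by
  classical
  let aT : Module.Dual B (ι → B) →ₗ[B] Module.Dual B F := Module.Dual.transpose (R := B) a
  let bT : Module.Dual B F →ₗ[B] Module.Dual B (ι → B) := Module.Dual.transpose (R := B) b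
  have habT : ∀ f, aT (bT f) = t • f := by
    intro f
    apply LinearMap.ext
    intro x
    show f (b (a x)) = t • f x
    rw [hab, map_smul]
  obtain ⟨α, hα⟩ := Module.projective_lifting_property π aT hπ
  let τ : Module.Dual B F →ₗ[B] N := α ∘ₗ bT
  have hτ : ∀ f, π (τ f) = t • f := by
    intro f
    have : π (α (bT f)) = aT (bT f) := LinearMap.congr_fun hα (bT f)
    show π (α (bT f)) = _
    rw [this, habT]
  let u : N →ₗ[B] N := t • LinearMap.id - τ ∘ₗ π
  have hu : ∀ x, u x ∈ LinearMap.range d := by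
    intro x
    rw [hd, LinearMap.mem_ker]
    show π (t • x - τ (π x)) = 0
    rw [map_sub, hτ, map_smul, sub_self]
  let u' : N →ₗ[B] LinearMap.range d := u.codRestrict (LinearMap.range d) hu
  obtain ⟨e, he⟩ := Module.projective_lifting_property d.rangeRestrict u'
    d.surjective_rangeRestrict
  refine ⟨e, fun x => ?_⟩
  have h1 : d.rangeRestrict (e (d x)) = u' (d x) := LinearMap.congr_fun he (d x)
  have h2 : d (e (d x)) = u (d x) := congrArg Subtype.val h1
  rw [h2]
  show t • d x - τ (π (d x)) = t • d x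
  have h3 : π (d x) = 0 := by
    have : d x ∈ LinearMap.ker π := by rw [← hd]; exact ⟨x, rfl⟩
    exact this
  rw [h3, map_zero, sub_zero]

end GenInv

section Transpose

variable {B : Type u} [CommRing B] {m n : ℕ}

/-- The transpose of a linear map between standard free modules. -/
noncomputable def tr (d : (Fin m → B) →ₗ[B] (Fin n → B)) : (Fin n → B) →ₗ[B] (Fin m → B) :=
  Matrix.toLin' (LinearMap.toMatrix' d).transpose

lemma tr_dot (d : (Fin m → B) →ₗ[B] (Fin n → B)) (x : Fin n → B) (y : Fin m → B) :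
    tr d x ⬝ᵥ y = x ⬝ᵥ d y := by
  unfold tr
  rw [Matrix.toLin'_apply, Matrix.mulVec_transpose, ← Matrix.dotProduct_mulVec,
    ← Matrix.toLin'_apply, Matrix.toLin'_toMatrix']

lemma tr_geninv (d : (Fin m → B) →ₗ[B] (Fin n → B)) (e : (Fin n → B) →ₗ[B] (Fin m → B)) (t : B)
    (h : ∀ x, d (e (d x)) = t • d x) (x : Fin n → B) :
    tr d (tr e (tr d x)) = t • tr d x := by
  apply dotProduct_eq
  intro y
  rw [tr_dot, tr_dot, tr_dot, h, smul_dotProduct, tr_dot, dotProduct_smul]

end Transpose

section Main

variable {B : Type u} [CommRing B] [IsNoetherianRing B]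
  (F : Type u) [AddCommGroup F] [Module B F] [Module.Finite B F] [Module.IsReflexive B F]

/-- Statement S18709. -/
theorem main_S18709 (J : Ideal B)
    (hU : ∀ q : PrimeSpectrum B, ¬ J ≤ q.asIdeal →
      Module.Free (Localization.AtPrime q.asIdeal) (LocalizedModule q.asIdeal.primeCompl F)) :
    ∃ (n m : ℕ) (g : F →ₗ[B] (Fin n → B)) (h : (Fin n → B) →ₗ[B] (Fin m → B)),
      Function.Injective g ∧ Function.Exact g h ∧
      ∀ q : PrimeSpectrum B, ¬ J ≤ q.asIdeal →
        Module.Free (Localization.AtPrime q.asIdeal)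
          (LocalizedModule q.asIdeal.primeCompl ((Fin m → B) ⧸ LinearMap.range h)) := by
  classical
  obtain ⟨n, π, hπ⟩ := Module.Finite.exists_fin' B (Module.Dual B F)
  haveI : Module.Finite B (LinearMap.ker π) := Module.IsNoetherian.finite B _
  obtain ⟨m, d₀, hd₀⟩ := Module.Finite.exists_fin' B (LinearMap.ker π)
  let d : (Fin m → B) →ₗ[B] (Fin n → B) := (LinearMap.ker π).subtype ∘ₗ d₀
  have hd : LinearMap.range d = LinearMap.ker π := by
    rw [LinearMap.range_comp, LinearMap.range_eq_top.mpr hd₀, Submodule.map_top,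
      Submodule.range_subtype]
  have hπd : ∀ y, π (d y) = 0 := fun y => by
    have : d y ∈ LinearMap.ker π := by rw [← hd]; exact ⟨y, rfl⟩
    exact this
  let g : F →ₗ[B] (Fin n → B) := LinearMap.pi fun i => π (Pi.single i 1)
  have hg : ∀ (x : F) (z : Fin n → B), g x ⬝ᵥ z = π z x := by
    intro x z
    have h1 : π z = ∑ i, z i • π (Pi.single i 1) := by
      conv_lhs => rw [pi_eq_sum_univ' z]
      rw [map_sum]
      refine Finset.sum_congr rfl fun i _ => ?_
      rw [← map_smul]
    rw [h1, LinearMap.sum_apply, dotProduct]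
    refine Finset.sum_congr rfl fun i _ => ?_
    show π (Pi.single i 1) x * z i = (z i • π (Pi.single i 1)) x
    rw [LinearMap.smul_apply, smul_eq_mul, mul_comm]
  refine ⟨n, m, g, tr d, ?_, ?_, ?_⟩
  · -- injectivity
    rw [← LinearMap.ker_eq_bot, LinearMap.ker_eq_bot']
    intro x hx
    apply (Module.IsReflexive.bijective_dual_eval' (R := B) (M := F)).1
    rw [map_zero]
    apply LinearMap.ext
    intro f
    obtain ⟨z, rfl⟩ := hπ f
    show π z x = 0
    rw [← hg, hx, zero_dotProduct]
  · -- exactness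
    intro y
    constructor
    · intro hy
      let ψ₀ : (Fin n → B) →ₗ[B] B :=
        { toFun := fun z => y ⬝ᵥ z
          map_add' := fun z w => dotProduct_add _ _ _
          map_smul' := fun c z => by rw [dotProduct_smul]; rfl }
      have hψ₀ : LinearMap.ker π ≤ LinearMap.ker ψ₀ := by
        rw [← hd]
        rintro _ ⟨w, rfl⟩
        rw [LinearMap.mem_ker]
        show y ⬝ᵥ d w = 0
        rw [← tr_dot, hy, zero_dotProduct]
      let ψ : Module.Dual B (Module.Dual B F) :=
        (LinearMap.ker π).liftQ ψ₀ hψ₀ ∘ₗ (π.quotKerEquivOfSurjective hπ).symm.toLinearMap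
      have hψ : ∀ z, ψ (π z) = y ⬝ᵥ z := by
        intro z
        show (LinearMap.ker π).liftQ ψ₀ hψ₀ ((π.quotKerEquivOfSurjective hπ).symm (π z)) = _
        have : (π.quotKerEquivOfSurjective hπ).symm (π z) = (LinearMap.ker π).mkQ z := by
          rw [LinearEquiv.symm_apply_eq]
          rfl
        rw [this]
        rfl
      refine ⟨(Module.evalEquiv B F).symm ψ, ?_⟩
      apply dotProduct_eq
      intro z
      rw [hg, Module.apply_evalEquiv_symm_apply, hψ]
    · rintro ⟨x, rfl⟩
      apply dotProduct_eq_zero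
      intro z
      rw [tr_dot, hg, hπd]
      rfl
  · intro q hq
    haveI := hU q hq
    obtain ⟨ι, _, a, b, t, ht, hab⟩ := exists_retract q.asIdeal F
    obtain ⟨e, he⟩ := exists_geninv π hπ d hd a b t hab
    exact free_localized_quotient q.asIdeal (tr d) (tr e) t ht (tr_geninv d e t he)

end Main

end Groth.Agent.Lib.T1H3.ReflPres
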