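import Groth.Agent.Lib.T2H3H1Conormal
import Groth.Agent.Lib.Helper13RLc
import Groth.Prelude.Def_MultCurve

set_option autoImplicit false
set_option linter.style.haveILetI false
set_option linter.unusedSectionVars false
universe u
open CategoryTheory CategoryTheory.Limits AlgebraicGeometry TopologicalSpace Opposite TensorProduct

namespace Groth.Agent.Lib.T1H3.Ribbon

open Groth.Agent.Helper18OmLS Groth.Agent.Helper13PullbackUnit

section locfree
variable {Z Y : Scheme.{u}} (j : Z ⟶ Y) [IsImmersion j] [QuasiCompact j]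

/-- over a chart on which the ideal of `j` is generated by a family which is quasi-regular in degree
one, the conormal sheaf has a basis of sections. -/
theorem basis_conormal' {U : Y.Opens} (hU : IsAffineOpen U) (hUj : U ≤ j.coborderRange)
    {c : ℕ} (g : Fin c → Γ(Y, U))
    (hg1 : ∀ b : Fin c → Γ(Y, U), ∑ k, b k * g k ∈ (Ideal.span (Set.range g)) ^ 2 →
      ∀ k, b k ∈ Ideal.span (Set.range g))
    (hker : RingHom.ker (j.app U).hom = Ideal.span (Set.range g)) :
    Nonempty (Module.Basis (Fin c) Γ(Z, j ⁻¹ᵁ U) Γ(Omega.conormal j, j ⁻¹ᵁ U)) := by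
  have hT : IsAffineOpen (j ⁻¹ᵁ U) :=
    Groth.Agent.Lib.Helper20.ConormalStalk.isAffineOpen_preimage j hU hUj
  have hle : j ⁻¹ᵁ U ≤ j ⁻¹ᵁ U := le_refl _
  letI alg : Algebra Γ(Y, U) Γ(Z, j ⁻¹ᵁ U) := (j.appLE U (j ⁻¹ᵁ U) hle).hom.toAlgebra
  have hsurj : Function.Surjective (algebraMap Γ(Y, U) Γ(Z, j ⁻¹ᵁ U)) := by
    have := Groth.Agent.Lib.Helper20.ConormalStalk.app_surjective j hU hUj
    rw [Scheme.Hom.app_eq_appLE] at this
    exact this
  have hkerK : RingHom.ker (algebraMap Γ(Y, U) Γ(Z, j ⁻¹ᵁ U)) = RingHom.ker (j.app U).hom := by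
    ext b
    rw [RingHom.mem_ker, RingHom.mem_ker]
    change (j.appLE U (j ⁻¹ᵁ U) hle) b = 0 ↔ _
    rw [← Scheme.Hom.app_eq_appLE]
  have hsex : ∀ k, ∃ s : Γ(ClSub.idealMod j.ker, U), OmegaSh.idealSect j.ker U s = g k := fun k =>
    exists_idealSect_eq j U (g k) (by
      have : g k ∈ RingHom.ker (j.app U).hom := by
        rw [hker]
        exact Ideal.subset_span ⟨k, rfl⟩
      exact RingHom.mem_ker.1 this)
  choose sk hsk using hsex
  let v : Fin c → Γ((Scheme.Modules.pullback j).obj (ClSub.idealMod j.ker), j ⁻¹ᵁ U) := fun k =>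
    unitSec j (ClSub.idealMod j.ker) hle (sk k)
  have hsum : ∀ b : Fin c → Γ(Y, U), unitSec j (ClSub.idealMod j.ker) hle (∑ k, b k • sk k) =
      ∑ k, algebraMap Γ(Y, U) Γ(Z, j ⁻¹ᵁ U) (b k) • v k := by
    intro b
    rw [map_sum]
    refine Finset.sum_congr rfl fun k _ => ?_
    rw [unitSec_smul]
    rfl
  have hli : LinearIndependent Γ(Z, j ⁻¹ᵁ U) v := by
    rw [Fintype.linearIndependent_iff]
    intro r hr k
    choose b hb using fun k => hsurj (r k)
    have h0 : unitSec j (ClSub.idealMod j.ker) hle (∑ k, b k • sk k) = 0 := by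
      rw [hsum]
      simp only [hb]
      exact hr
    obtain ⟨e, he⟩ := exists_pullback_equiv j (ClSub.idealMod j.ker) hle hU hT rfl
    have h1 : (1 : Γ(Z, j ⁻¹ᵁ U)) ⊗ₜ[Γ(Y, U)] (∑ k, b k • sk k) = 0 := by
      apply e.injective
      rw [he, one_smul, h0, map_zero]
    have h6 := mem_smul_top_of_one_tmul_eq_zero' hsurj _ h1
    have h7 : ∀ t ∈ (RingHom.ker (algebraMap Γ(Y, U) Γ(Z, j ⁻¹ᵁ U)) • ⊤ :
        Submodule Γ(Y, U) Γ(ClSub.idealMod j.ker, U)),
        OmegaSh.idealSect j.ker U t ∈ (RingHom.ker (algebraMap Γ(Y, U) Γ(Z, j ⁻¹ᵁ U))) ^ 2 := by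
      intro t ht
      refine Submodule.smul_induction_on ht ?_ ?_
      · intro x hx t' _
        rw [idealSect_smul, pow_two]
        refine Ideal.mul_mem_mul hx ?_
        rw [hkerK, RingHom.mem_ker]
        exact app_idealSect_eq_zero j _ t'
      · intro x y hx hy
        rw [map_add]
        exact Ideal.add_mem _ hx hy
    have h8 := h7 _ h6
    rw [hkerK, hker] at h8
    have h9 : OmegaSh.idealSect j.ker U (∑ k, b k • sk k) = ∑ k, b k * g k := by
      rw [map_sum]
      refine Finset.sum_congr rfl fun k _ => ?_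
      rw [idealSect_smul, hsk]
    rw [h9] at h8
    have hc := hg1 b h8 k
    rw [← hker, ← hkerK, RingHom.mem_ker, hb] at hc
    exact hc
  have hsp : ⊤ ≤ Submodule.span Γ(Z, j ⁻¹ᵁ U) (Set.range v) := by
    intro t _
    obtain ⟨s, rfl⟩ := exists_unitSec_eq j (ClSub.idealMod j.ker) hle hU hT rfl hsurj t
    have hs : OmegaSh.idealSect j.ker U s ∈ Ideal.span (Set.range g) := by
      rw [← hker, RingHom.mem_ker]
      exact app_idealSect_eq_zero j U s
    obtain ⟨b, hb⟩ := (Submodule.mem_span_range_iff_exists_fun _).1 hs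
    have e1 : s = ∑ k, b k • sk k := by
      apply idealSect_injective j.ker U
      rw [map_sum, ← hb]
      refine Finset.sum_congr rfl fun k _ => ?_
      rw [idealSect_smul, hsk, smul_eq_mul]
    rw [e1, hsum]
    exact Submodule.sum_mem _ fun k _ =>
      Submodule.smul_mem _ _ (Submodule.subset_span ⟨k, rfl⟩)
  exact ⟨Module.Basis.mk hli hsp⟩

/-- conversely, a one-element basis of the conormal sheaf over a chart on which the ideal has square
zero gives a generator of the ideal whose annihilator is the ideal. -/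
theorem exists_generator_of_basis {U : Y.Opens} (hU : IsAffineOpen U) (hUj : U ≤ j.coborderRange)
    (hsq : RingHom.ker (j.app U).hom ^ 2 = ⊥)
    (b : Module.Basis (Fin 1) Γ(Z, j ⁻¹ᵁ U) Γ(Omega.conormal j, j ⁻¹ᵁ U)) :
    ∃ z : Γ(Y, U), RingHom.ker (j.app U).hom = Ideal.span {z} ∧
      ∀ a : Γ(Y, U), a * z = 0 → a ∈ RingHom.ker (j.app U).hom := by
  have hT : IsAffineOpen (j ⁻¹ᵁ U) :=
    Groth.Agent.Lib.Helper20.ConormalStalk.isAffineOpen_preimage j hU hUj
  have hle : j ⁻¹ᵁ U ≤ j ⁻¹ᵁ U := le_refl _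
  letI alg : Algebra Γ(Y, U) Γ(Z, j ⁻¹ᵁ U) := (j.appLE U (j ⁻¹ᵁ U) hle).hom.toAlgebra
  have hsurj : Function.Surjective (algebraMap Γ(Y, U) Γ(Z, j ⁻¹ᵁ U)) := by
    have := Groth.Agent.Lib.Helper20.ConormalStalk.app_surjective j hU hUj
    rw [Scheme.Hom.app_eq_appLE] at this
    exact this
  have hkerK : RingHom.ker (algebraMap Γ(Y, U) Γ(Z, j ⁻¹ᵁ U)) = RingHom.ker (j.app U).hom := by
    ext b
    rw [RingHom.mem_ker, RingHom.mem_ker]
    change (j.appLE U (j ⁻¹ᵁ U) hle) b = 0 ↔ _
    rw [← Scheme.Hom.app_eq_appLE]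
  obtain ⟨s, hs⟩ := exists_unitSec_eq j (ClSub.idealMod j.ker) hle hU hT rfl hsurj (b 0)
  have hzker : OmegaSh.idealSect j.ker U s ∈ RingHom.ker (j.app U).hom :=
    RingHom.mem_ker.2 (app_idealSect_eq_zero j U s)
  -- sections killed by `unitSec` have function in the square of the ideal, hence zero
  have hkill : ∀ t : Γ(ClSub.idealMod j.ker, U), unitSec j (ClSub.idealMod j.ker) hle t = 0 →
      t = 0 := by
    intro t ht
    obtain ⟨e, he⟩ := exists_pullback_equiv j (ClSub.idealMod j.ker) hle hU hT rfl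
    have h1 : (1 : Γ(Z, j ⁻¹ᵁ U)) ⊗ₜ[Γ(Y, U)] t = 0 := by
      apply e.injective
      rw [he, one_smul, ht, map_zero]
    have h6 := mem_smul_top_of_one_tmul_eq_zero' hsurj _ h1
    have h7 : ∀ t ∈ (RingHom.ker (algebraMap Γ(Y, U) Γ(Z, j ⁻¹ᵁ U)) • ⊤ :
        Submodule Γ(Y, U) Γ(ClSub.idealMod j.ker, U)),
        OmegaSh.idealSect j.ker U t ∈ (RingHom.ker (algebraMap Γ(Y, U) Γ(Z, j ⁻¹ᵁ U))) ^ 2 := by
      intro t ht
      refine Submodule.smul_induction_on ht ?_ ?_
      · intro x hx t' _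
        rw [idealSect_smul, pow_two]
        refine Ideal.mul_mem_mul hx ?_
        rw [hkerK, RingHom.mem_ker]
        exact app_idealSect_eq_zero j _ t'
      · intro x y hx hy
        rw [map_add]
        exact Ideal.add_mem _ hx hy
    have h8 := h7 _ h6
    rw [hkerK, hsq, Ideal.mem_bot] at h8
    apply idealSect_injective j.ker U
    rw [h8, map_zero]
  refine ⟨OmegaSh.idealSect j.ker U s, le_antisymm ?_ ?_, ?_⟩
  · intro w hw
    obtain ⟨sw, hsw⟩ := exists_idealSect_eq j U w (RingHom.mem_ker.1 hw)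
    have hrepr : unitSec j (ClSub.idealMod j.ker) hle sw =
        (b.repr (unitSec j (ClSub.idealMod j.ker) hle sw) 0) • b 0 := by
      conv_lhs => rw [← b.sum_repr (unitSec j (ClSub.idealMod j.ker) hle sw)]
      rw [Fin.sum_univ_one]
    obtain ⟨β, hβ⟩ := hsurj (b.repr (unitSec j (ClSub.idealMod j.ker) hle sw) 0)
    have h0 : unitSec j (ClSub.idealMod j.ker) hle (sw - β • s) = 0 := by
      rw [map_sub, unitSec_smul, hs, hrepr, ← hβ]
      exact sub_self _
    have h1 := hkill _ h0
    have h2 : w = β * OmegaSh.idealSect j.ker U s := by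
      have := congrArg (OmegaSh.idealSect j.ker U) h1
      rw [map_sub, idealSect_smul, hsw, map_zero, sub_eq_zero] at this
      exact this
    rw [h2]
    exact Ideal.mul_mem_left _ _ (Ideal.subset_span rfl)
  · rw [Ideal.span_le]
    rintro _ rfl
    exact hzker
  · intro a ha
    have h1 : a • s = 0 := by
      apply idealSect_injective j.ker U
      rw [idealSect_smul, ha, map_zero]
    have h2 : algebraMap Γ(Y, U) Γ(Z, j ⁻¹ᵁ U) a • b 0 = 0 := by
      have := congrArg (unitSec j (ClSub.idealMod j.ker) hle) h1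
      rw [unitSec_smul, hs] at this
      exact this.trans (map_zero (unitSec j (ClSub.idealMod j.ker) hle))
    have h3 : algebraMap Γ(Y, U) Γ(Z, j ⁻¹ᵁ U) a = 0 := by
      have := congrArg (fun x => b.repr x 0) h2
      simp only [map_smul, Module.Basis.repr_self, Finsupp.smul_apply, Finsupp.single_eq_same,
        smul_eq_mul, mul_one, map_zero, Finsupp.zero_apply] at this
      exact this
    rw [← hkerK]
    exact RingHom.mem_ker.2 h3

end locfree


section main
variable (C : Scheme.{u}) (I : C.IdealSheafData)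

theorem coborderRange_subschemeι : I.subschemeι.coborderRange = ⊤ := by
  ext x
  simp only [Scheme.Hom.coborderRange, TopologicalSpace.Opens.coe_mk, TopologicalSpace.Opens.coe_top]
  rw [IsClosed.coborder_eq I.subschemeι.isClosedEmbedding.isClosed_range]

theorem isInvertible_of_isPrincipal (hI : I ^ 2 = ⊥) (h : MultCurve.IsPrincipalOfOrder I 2) :
    PicF.IsInvertible (Omega.conormal I.subschemeι) := by
  haveI : (Omega.conormal I.subschemeι).IsQuasicoherent :=
    inferInstanceAs ((Scheme.Modules.pullback I.subschemeι).obj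
      (ClSub.idealMod I.subschemeι.ker)).IsQuasicoherent
  intro y
  obtain ⟨U, hxU, z, hz, hann⟩ := h (I.subschemeι.base y)
  have hUj : (U : C.Opens) ≤ I.subschemeι.coborderRange := by
    rw [coborderRange_subschemeι]
    exact le_top
  have hker : RingHom.ker (I.subschemeι.app U).hom = Ideal.span (Set.range fun _ : Fin 1 => z) := by
    rw [Scheme.IdealSheafData.ker_subschemeι_app, hz, Set.range_const]
  have hsq : (I.ideal U) ^ 2 = ⊥ := by
    have := congrArg (fun J : C.IdealSheafData => J.ideal U) hI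
    simpa using this
  have hg1 : ∀ b : Fin 1 → Γ(C, U), ∑ k, b k * (fun _ : Fin 1 => z) k ∈
      (Ideal.span (Set.range fun _ : Fin 1 => z)) ^ 2 →
      ∀ k, b k ∈ Ideal.span (Set.range fun _ : Fin 1 => z) := by
    intro b hb k
    rw [Set.range_const, ← hz, hsq, Ideal.mem_bot, Fin.sum_univ_one] at hb
    rw [Set.range_const, ← hz]
    have : k = 0 := Subsingleton.elim _ _
    subst this
    refine hann _ ?_
    rw [show 2 - 1 = 1 from rfl, pow_one]
    exact hb
  obtain ⟨b⟩ := basis_conormal' I.subschemeι U.2 hUj (fun _ : Fin 1 => z) hg1 hker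
  have hT : IsAffineOpen (I.subschemeι ⁻¹ᵁ (U : C.Opens)) :=
    Groth.Agent.Lib.Helper20.ConormalStalk.isAffineOpen_preimage I.subschemeι U.2 hUj
  refine ⟨I.subschemeι ⁻¹ᵁ (U : C.Opens), hxU, ⟨?_⟩⟩
  exact Groth.Agent.Lib.Helper20.LocFree.restrictIsoFreeMod (Omega.conormal I.subschemeι) hT b ≪≫
    coproductUniqueIso (fun _ : Fin 1 => Coh.structureModule _)

end main

section main2
variable (C : Scheme.{u}) (I : C.IdealSheafData)

theorem nonempty_basis_of_eq {Z : Scheme.{u}} (M : Z.Modules) {W W' : Z.Opens} (h : W = W')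
    (b : Nonempty (Module.Basis (Fin 1) Γ(Z, W) Γ(M, W))) :
    Nonempty (Module.Basis (Fin 1) Γ(Z, W') Γ(M, W')) := by
  subst h
  exact b

theorem surjective_subschemeι (hI : I ^ 2 = ⊥) : Function.Surjective I.subschemeι.base := by
  intro x
  have h1 : Set.range I.subschemeι = I.support := I.range_subschemeι
  have h2 : (I ^ 2).support = I.support := I.support_pow 2 (by norm_num)
  rw [hI, Scheme.IdealSheafData.support_bot] at h2
  have : x ∈ Set.range I.subschemeι := by
    rw [h1, ← h2]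
    trivial
  exact this

theorem isPrincipal_of_isInvertible (hI : I ^ 2 = ⊥)
    (h : PicF.IsInvertible (Omega.conormal I.subschemeι)) : MultCurve.IsPrincipalOfOrder I 2 := by
  haveI : (Omega.conormal I.subschemeι).IsQuasicoherent :=
    inferInstanceAs ((Scheme.Modules.pullback I.subschemeι).obj
      (ClSub.idealMod I.subschemeι.ker)).IsQuasicoherent
  intro x
  obtain ⟨y, rfl⟩ := surjective_subschemeι C I hI x
  obtain ⟨V, hV, hxV, -⟩ := exists_isAffineOpen_mem_and_subset (x := I.subschemeι.base y)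
    (U := ⊤) trivial
  have hVj : V ≤ I.subschemeι.coborderRange := by
    rw [coborderRange_subschemeι]
    exact le_top
  have hT : IsAffineOpen (I.subschemeι ⁻¹ᵁ V) :=
    Groth.Agent.Lib.Helper20.ConormalStalk.isAffineOpen_preimage I.subschemeι hV hVj
  obtain ⟨ρ, hyρ, hb⟩ := Groth.Agent.Helper13RL.exists_trivializing_basicOpen
    (Omega.conormal I.subschemeι) h hT y hxV
  obtain ⟨r, hr⟩ := Groth.Agent.Lib.Helper20.ConormalStalk.app_surjective I.subschemeι hV hVj ρ
  have hpre : I.subscheme.basicOpen ρ = I.subschemeι ⁻¹ᵁ (C.basicOpen r) := by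
    rw [Scheme.preimage_basicOpen, ← hr]
  have hU : IsAffineOpen (C.basicOpen r) := hV.basicOpen r
  have hUj : C.basicOpen r ≤ I.subschemeι.coborderRange := by
    rw [coborderRange_subschemeι]
    exact le_top
  obtain ⟨b⟩ := nonempty_basis_of_eq (Omega.conormal I.subschemeι) hpre hb
  have hkerU : RingHom.ker (I.subschemeι.app (C.basicOpen r)).hom = I.ideal ⟨C.basicOpen r, hU⟩ :=
    Scheme.IdealSheafData.ker_subschemeι_app I ⟨C.basicOpen r, hU⟩
  have hsq : RingHom.ker (I.subschemeι.app (C.basicOpen r)).hom ^ 2 = ⊥ := by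
    rw [hkerU]
    have := congrArg (fun J : C.IdealSheafData => J.ideal ⟨C.basicOpen r, hU⟩) hI
    simpa using this
  obtain ⟨z, hz, hann⟩ := exists_generator_of_basis I.subschemeι hU hUj hsq b
  refine ⟨⟨C.basicOpen r, hU⟩, ?_, z, ?_, ?_⟩
  · have : y ∈ I.subschemeι ⁻¹ᵁ (C.basicOpen r) := by
      rw [← hpre]
      exact hyρ
    exact this
  · rw [← hkerU, hz]
  · intro a ha
    rw [show 2 - 1 = 1 from rfl, pow_one] at ha
    rw [← hkerU]
    exact hann a ha

end main2

end Groth.Agent.Lib.T1H3.Ribbon
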