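import Groth.Agent.Lib.T2H3ConormalComp
import Groth.Agent.Lib.Helper18Om1
import Groth.Agent.Lib.Helper18OmLS13
import Groth.Prelude.Def_MultCurve

set_option autoImplicit false
set_option linter.style.haveILetI false
set_option linter.unusedSectionVars false
universe w u
open CategoryTheory AlgebraicGeometry Limits TopologicalSpace Opposite

/-! Functoriality of the restricted cotangent sequence of a closed subscheme under a morphism of the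
ambient schemes, and the resulting comparison of extension classes. -/

namespace Groth.Agent.Lib.T1H3.RibbonExt

open Groth.Agent.Helper18OmLS Groth.Agent.Helper18Om Groth.Agent.Helper18Con
open Groth.Agent.Lib.T2H3.ConormalComp

section beta
variable {D C C' S : Scheme.{u}} (i : D ⟶ C) (g : C ⟶ C') {pC : C ⟶ S} {pC' : C' ⟶ S}
  {Ω₁ : C.Modules} (d₁ : OmegaSh.Der pC Ω₁) {Ω₁' : C'.Modules} (d₁' : OmegaSh.Der pC' Ω₁')
  (cg : (Scheme.Modules.pullback g).obj Ω₁' ⟶ Ω₁) (hcg : OmegaSh.IsDiffCompat g d₁' d₁ cg)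

/-- the restriction to `D` of the differential of `g`. -/
noncomputable def beta :
    (Scheme.Modules.pullback (i ≫ g)).obj Ω₁' ⟶ (Scheme.Modules.pullback i).obj Ω₁ :=
  (Scheme.Modules.pullbackComp i g).inv.app Ω₁' ≫ (Scheme.Modules.pullback i).map cg

include hcg in
theorem beta_pullSect (U' : C'.Opens) (t : Γ(C', U')) :
    (beta i g cg).app ((i ≫ g) ⁻¹ᵁ U') (OmegaSh.pullSect (i ≫ g) Ω₁' U' (d₁'.app U' t)) =
      OmegaSh.pullSect i Ω₁ (g ⁻¹ᵁ U') (d₁.app (g ⁻¹ᵁ U') (g.app U' t)) := by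
  change ((Scheme.Modules.pullback i).map cg).app (i ⁻¹ᵁ (g ⁻¹ᵁ U'))
    (((Scheme.Modules.pullbackComp i g).inv.app Ω₁').app ((i ≫ g) ⁻¹ᵁ U')
      (OmegaSh.pullSect (i ≫ g) Ω₁' U' (d₁'.app U' t))) = _
  rw [pullbackComp_inv_pullSect, pullSect_naturality, hcg U' t]

include hcg in
theorem beta_comp_isDiffCompat {pD : D ⟶ S} {Ω₂ : D.Modules} (d₂ : OmegaSh.Der pD Ω₂)
    (c : (Scheme.Modules.pullback i).obj Ω₁ ⟶ Ω₂) (hc : OmegaSh.IsDiffCompat i d₁ d₂ c) :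
    OmegaSh.IsDiffCompat (i ≫ g) d₁' d₂ (beta i g cg ≫ c) := by
  intro U' t
  change c.app (i ⁻¹ᵁ (g ⁻¹ᵁ U')) ((beta i g cg).app ((i ≫ g) ⁻¹ᵁ U')
    (OmegaSh.pullSect (i ≫ g) Ω₁' U' (d₁'.app U' t))) = _
  rw [beta_pullSect i g d₁ d₁' cg hcg, hc (g ⁻¹ᵁ U') (g.app U' t)]
  rfl

end beta

section phi
variable {D C C' S : Scheme.{u}} (i : D ⟶ C) (g : C ⟶ C') [QuasiCompact i] [QuasiCompact (i ≫ g)]
  {pC : C ⟶ S} {pC' : C' ⟶ S}
  {Ω₁ : C.Modules} (d₁ : OmegaSh.Der pC Ω₁) {Ω₁' : C'.Modules} (d₁' : OmegaSh.Der pC' Ω₁')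
  (cg : (Scheme.Modules.pullback g).obj Ω₁' ⟶ Ω₁) (hcg : OmegaSh.IsDiffCompat g d₁' d₁ cg)
  (φ : Omega.conormal i ⟶ (Scheme.Modules.pullback i).obj Ω₁) (hφ : OmegaSh.IsConormalDiff i d₁ φ)
  (φ' : Omega.conormal (i ≫ g) ⟶ (Scheme.Modules.pullback (i ≫ g)).obj Ω₁')
  (hφ' : OmegaSh.IsConormalDiff (i ≫ g) d₁' φ')
  (α : (Scheme.Modules.pullback (𝟙 D)).obj (Omega.conormal (i ≫ g)) ⟶ Omega.conormal i)
  (hα : OmegaSh.IsConormalMap i (i ≫ g) g (𝟙 D) α)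

include hcg hφ hφ' hα in
theorem phi_beta :
    φ' ≫ beta i g cg =
      ((Scheme.Modules.pullbackId D).inv.app (Omega.conormal (i ≫ g)) ≫ α) ≫ φ := by
  refine pullback_hom_ext (i ≫ g) _ _ fun U' s' => ?_
  change (beta i g cg).app ((i ≫ g) ⁻¹ᵁ U') (φ'.app ((i ≫ g) ⁻¹ᵁ U')
      (OmegaSh.conormalSect (i ≫ g) U' s')) =
    φ.app (i ⁻¹ᵁ (g ⁻¹ᵁ U')) (α.app ((i ≫ g) ⁻¹ᵁ U')
      (((Scheme.Modules.pullbackId D).inv.app (Omega.conormal (i ≫ g))).app ((i ≫ g) ⁻¹ᵁ U')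
        (OmegaSh.conormalSect (i ≫ g) U' s')))
  rw [hφ' U' s', beta_pullSect i g d₁ d₁' cg hcg, pullbackId_inv_app]
  obtain ⟨s, hs⟩ := exists_idealSect_eq i (g ⁻¹ᵁ U')
    (g.app U' (OmegaSh.idealSect (i ≫ g).ker U' s'))
    (sq_app_zero i (i ≫ g) g (𝟙 D) hα.1 U' s')
  have e := hα.2 U' s' s hs (i ⁻¹ᵁ (g ⁻¹ᵁ U')) le_rfl le_rfl
  change (Omega.conormal i).presheaf.map (homOfLE (le_refl (i ⁻¹ᵁ (g ⁻¹ᵁ U')))).op
      (α.app ((i ≫ g) ⁻¹ᵁ U') (OmegaSh.pullSect (𝟙 D) (Omega.conormal (i ≫ g)) ((i ≫ g) ⁻¹ᵁ U')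
        (OmegaSh.conormalSect (i ≫ g) U' s'))) =
    (Omega.conormal i).presheaf.map (homOfLE (le_refl (i ⁻¹ᵁ (g ⁻¹ᵁ U')))).op
      (OmegaSh.conormalSect i (g ⁻¹ᵁ U') s) at e
  rw [presheaf_map_homOfLE_refl, presheaf_map_homOfLE_refl] at e
  rw [e, hφ (g ⁻¹ᵁ U') s, hs]

end phi

section ext
variable {A : Type*} [Category A] [Abelian A] [HasExt.{w} A]

theorem extClass_comp_eq {L L' M M' N : A} {φ : L ⟶ M} {c : M ⟶ N} {hw : φ ≫ c = 0}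
    {φ' : L' ⟶ M'} {c' : M' ⟶ N} {hw' : φ' ≫ c' = 0}
    (hS : (ShortComplex.mk φ c hw).ShortExact) (hS' : (ShortComplex.mk φ' c' hw').ShortExact)
    (a : L' ⟶ L) (b : M' ⟶ M) (h1 : φ' ≫ b = a ≫ φ) (h2 : b ≫ c = c') :
    hS'.extClass.comp (Abelian.Ext.mk₀ a) (add_zero 1) = hS.extClass := by
  let f : ShortComplex.mk φ' c' hw' ⟶ ShortComplex.mk φ c hw :=
    { τ₁ := a
      τ₂ := b
      τ₃ := 𝟙 N
      comm₁₂ := h1.symm
      comm₂₃ := by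
        change b ≫ c = c' ≫ 𝟙 N
        rw [h2, Category.comp_id] }
  have h := ShortComplex.ShortExact.extClass_naturality hS' hS f
  change hS'.extClass.comp (Abelian.Ext.mk₀ a) (add_zero 1) =
    (Abelian.Ext.mk₀ (𝟙 N)).comp hS.extClass (zero_add 1) at h
  rw [Abelian.Ext.mk₀_id_comp] at h
  exact h

end ext

end Groth.Agent.Lib.T1H3.RibbonExt
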