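import Groth.Prelude.Def_NonAbH2
import Groth.Prelude.Def_Red
import Groth.Prelude.Def_Omega3
import Mathlib.AlgebraicGeometry.Sites.Fpqc
import Mathlib.AlgebraicGeometry.Morphisms.FiniteType
import Mathlib.Data.Complex.Basic
import Groth.Agent.Lib.Helper18Con3

set_option autoImplicit false
set_option linter.style.haveILetI false
universe u
open CategoryTheory MonoidalCategory CartesianMonoidalCategory MonObj AlgebraicGeometry Limits

namespace Groth.Agent.Lib.T1H3.TorsorDiag

section cat
variable {C : Type*} [Category C] [CartesianMonoidalCategory C] {H X : C} [MonObj H]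

theorem unit_act (act : H ⊗ X ⟶ X) (h1 : (η[H] ▷ X) ≫ act = (λ_ X).hom) :
    lift (toUnit X ≫ η[H]) (𝟙 X) ≫ lift act (snd H X) = lift (𝟙 X) (𝟙 X) := by
  have e : lift (toUnit X ≫ η[H]) (𝟙 X) = (λ_ X).inv ≫ (η[H] ▷ X) := by
    ext <;> simp
  ext
  · rw [Category.assoc, lift_fst, lift_fst, e, Category.assoc, h1, Iso.inv_hom_id]
  · simp

end cat

section sch
variable {S Y : Scheme.{u}} (f : Y ⟶ S) (G : Over S) [GrpObj G]

theorem eta_bc_fst :
    (η[Red.bc f G]).left ≫ pullback.fst G.hom f = f ≫ (η[G]).left := by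
  rw [Functor.obj.η_def]
  simp only [Over.comp_left, Over.ε_pullback_left, Over.pullback_map_left, Category.assoc, IsIso.inv_comp_eq]
  have h := pullback.condition (f := 𝟙 S) (g := f)
  rw [Category.comp_id] at h
  rw [pullback.lift_fst]
  change pullback.fst (𝟙 S) f ≫ _ = _
  rw [h, Category.assoc]

/-- the unit section of the base change is the base change of the unit section. -/
theorem isPullback_eta_bc :
    IsPullback (η[Red.bc f G]).left f (pullback.fst G.hom f) (η[G]).left := by
  refine IsPullback.of_right (h₁₂ := pullback.snd G.hom f) (v₁₃ := f) (h₂₂ := G.hom) ?_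
    (eta_bc_fst f G) (IsPullback.of_hasPullback G.hom f).flip
  have h1 : (η[Red.bc f G]).left ≫ pullback.snd G.hom f = 𝟙 Y := Over.w (η[Red.bc f G])
  have h2 : (η[G]).left ≫ G.hom = 𝟙 S := Over.w (η[G])
  rw [h1, h2]
  exact IsPullback.id_horiz f

end sch

section sq
variable {B : Scheme.{u}} (H X : Over B) [GrpObj H]

/-- the unit section `X ⟶ H ×_B X` is the base change of the unit section of `H`. -/
theorem isPullback_unit :
    IsPullback (lift (toUnit X ≫ η[H]) (𝟙 X)).left X.hom (fst H X).left (η[H]).left := by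
  refine IsPullback.of_right (h₁₂ := (snd H X).left) (v₁₃ := X.hom) (h₂₂ := H.hom) ?_ ?_
    (IsPullback.of_hasPullback H.hom X.hom).flip
  · have h1 : (lift (toUnit X ≫ η[H]) (𝟙 X)).left ≫ (snd H X).left = 𝟙 X.left := by
      rw [← Over.comp_left, lift_snd]; rfl
    have h2 : (η[H]).left ≫ H.hom = 𝟙 B := Over.w (η[H])
    rw [h1, h2]
    exact IsPullback.id_horiz X.hom
  · rw [← Over.comp_left, lift_fst]
    rfl

end sq


section main
open Groth.Agent.Helper18Con

theorem main_S19101
    {G Y : Over (Spec (CommRingCat.of ℂ))} [GrpObj G] [IsAffine G.left]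
    {X : Over Y.left} (a : AlgGrp.Action (Red.bc Y.hom G) X)
    (hX : NonAbH1.IsTorsorFor Scheme.fppfPrecoverage a)
    (g : pullback X.hom X.hom ⟶ G.left)
    (hg : (lift a.act (snd (Red.bc Y.hom G) X)).left ≫ g =
      (fst (Red.bc Y.hom G) X).left ≫ pullback.fst G.hom Y.hom) :
    ∃ φ : (Scheme.Modules.pullback (toUnit (Over.mk (X.hom ≫ Y.hom) : Over (Spec (CommRingCat.of ℂ)))).left).obj
        (Omega.conormal (η[G]).left) ⟶ Omega.conormal (pullback.diagonal X.hom),
      OmegaSh.IsConormalMap (pullback.diagonal X.hom) (η[G]).left g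
        (toUnit (Over.mk (X.hom ≫ Y.hom) : Over (Spec (CommRingCat.of ℂ)))).left φ ∧ IsIso φ := by
  haveI hiso : IsIso (lift a.act (snd (Red.bc Y.hom G) X)) := hX.1
  let ψ : pullback (Red.bc Y.hom G).hom X.hom ⟶ pullback X.hom X.hom :=
    (lift a.act (snd (Red.bc Y.hom G) X)).left
  haveI : IsIso ψ := inferInstanceAs (IsIso ((Over.forget _).map (lift a.act (snd (Red.bc Y.hom G) X))))
  let e := lift (toUnit X ≫ η[Red.bc Y.hom G]) (𝟙 X)
  have hΔ : e.left ≫ ψ = pullback.diagonal X.hom := by
    have h := unit_act a.act a.one_act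
    have h' := congrArg (fun m => Over.Hom.left m) h
    simp only [Over.comp_left] at h'
    refine h'.trans ?_
    rw [Over.lift_left]
    apply pullback.hom_ext
    · rw [pullback.lift_fst, pullback.diagonal_fst]; rfl
    · rw [pullback.lift_snd, pullback.diagonal_snd]; rfl
  -- the cartesian square before applying `ψ`
  have hpb0 : IsPullback e.left (X.hom ≫ Y.hom)
      ((fst (Red.bc Y.hom G) X).left ≫ pullback.fst G.hom Y.hom) (η[G]).left :=
    (isPullback_unit (Red.bc Y.hom G) X).paste_vert (isPullback_eta_bc Y.hom G)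
  have hpb : IsPullback (pullback.diagonal X.hom) (X.hom ≫ Y.hom) g (η[G]).left := by
    refine IsPullback.of_iso hpb0 (Iso.refl _) (asIso ψ) (Iso.refl _) (Iso.refl _) ?_ ?_ ?_ ?_
    · simp [hΔ]
    · simp
    · rw [Iso.refl_hom, Category.comp_id]
      exact hg.symm
    · simp
  -- flatness
  have hpr : IsPullback (snd (Red.bc Y.hom G) X).left
      ((fst (Red.bc Y.hom G) X).left ≫ pullback.fst G.hom Y.hom) (X.hom ≫ Y.hom) G.hom :=
    (IsPullback.of_hasPullback (Red.bc Y.hom G).hom X.hom).flip.paste_vert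
      (IsPullback.of_hasPullback G.hom Y.hom).flip
  haveI : Flat (X.hom ≫ Y.hom) := inferInstance
  have hflat0 : Flat ((fst (Red.bc Y.hom G) X).left ≫ pullback.fst G.hom Y.hom) :=
    MorphismProperty.of_isPullback hpr inferInstance
  have hflat : Flat g := by
    have : g = inv ψ ≫ (fst (Red.bc Y.hom G) X).left ≫ pullback.fst G.hom Y.hom := by
      rw [IsIso.eq_inv_comp]; exact hg
    rw [this]
    infer_instance
  -- closed immersions
  haveI : IsClosedImmersion ((η[G]).left ≫ G.hom) := by
    rw [Over.w (η[G])]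
    exact inferInstanceAs (IsClosedImmersion (𝟙 (Spec (CommRingCat.of ℂ))))
  haveI : IsClosedImmersion (η[G]).left := IsClosedImmersion.of_comp (η[G]).left G.hom
  haveI : IsClosedImmersion (pullback.diagonal X.hom) :=
    MorphismProperty.of_isPullback hpb.flip inferInstance
  obtain ⟨φ, hφ, -, -⟩ := exists_conormalMap (pullback.diagonal X.hom) (η[G]).left g
    (X.hom ≫ Y.hom) hpb.w.symm
  exact ⟨φ, hφ, (main_S9372 _ _ _ _ hpb φ hφ).2 hflat⟩

end main

end Groth.Agent.Lib.T1H3.TorsorDiag
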