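import Mathlib.Algebra.Category.CommAlgCat.Basic
import Mathlib.Algebra.Category.Ring.FilteredColimits
import Mathlib.CategoryTheory.Limits.Preserves.Over
import Mathlib.CategoryTheory.Limits.Preserves.Filtered
import Mathlib.CategoryTheory.Limits.ConcreteCategory.Basic
import Mathlib.CategoryTheory.Limits.ConcreteCategory.Filtered

/-!
# The forgetful functor of `CommAlgCat A` preserves filtered colimits
-/

set_option autoImplicit false
universe u
open CategoryTheory Limits

namespace Groth.Agent.Lib.T1H4.AdeqColim

variable (A : Type u) [CommRing A]

/-- The forgetful functor from commutative algebras to types factors through commutative rings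
under `A`. -/
noncomputable def forgetIso :
    (commAlgCatEquivUnder (CommRingCat.of A)).functor ⋙ Under.forget _ ⋙ forget CommRingCat.{u} ≅
      forget (CommAlgCat.{u} A) :=
  NatIso.ofComponents (fun B => Iso.refl _) (by
    intro X Y f
    ext x
    rfl)

instance : PreservesFilteredColimits (forget (CommAlgCat.{u} A)) where
  preserves_filtered_colimits J _ _ := by
    haveI : PreservesColimitsOfShape J ((commAlgCatEquivUnder (CommRingCat.of A)).functor) :=
      inferInstance
    haveI : PreservesColimitsOfShape J (Under.forget (CommRingCat.of A)) :=
      PreservesFilteredColimitsOfSize.preserves_filtered_colimits J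
    haveI : PreservesColimitsOfShape J (forget CommRingCat.{u}) :=
      PreservesFilteredColimitsOfSize.preserves_filtered_colimits J
    exact preservesColimitsOfShape_of_natIso (forgetIso A)

end Groth.Agent.Lib.T1H4.AdeqColim
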