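import Groth.Agent.Lib.T1H4AdeqColimA
import Mathlib.Algebra.Category.Grp.Colimits
import Mathlib.Algebra.Category.Grp.FilteredColimits
import Mathlib.RingTheory.TensorProduct.Basic

/-!
# Tensoring a filtered colimit of algebras with a module (elementwise)
-/

set_option autoImplicit false
universe u
open CategoryTheory Limits TensorProduct

namespace Groth.Agent.Lib.T1H4.AdeqColim

variable {A : Type u} [CommRing A] {J : Type u} [SmallCategory J] [IsFiltered J]
  (D : J ⥤ CommAlgCat.{u} A) (c : Cocone D) (hc : IsColimit c)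
  (M : Type (u + 1)) [AddCommGroup M] [Module A M]

/-- The diagram `i ↦ D i ⊗ M` of abelian groups. -/
noncomputable def K : J ⥤ Ab.{u + 1} where
  obj i := AddCommGrpCat.of (D.obj i ⊗[A] M)
  map f := AddCommGrpCat.ofHom ((D.map f).hom.toLinearMap.rTensor M).toAddMonoidHom
  map_id i := by
    ext x
    change ((CommAlgCat.Hom.hom (D.map (𝟙 i))).toLinearMap.rTensor M) x = x
    rw [D.map_id, CommAlgCat.hom_id, AlgHom.toLinearMap_id, LinearMap.rTensor_id,
      LinearMap.id_apply]
  map_comp f g := by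
    ext x
    change ((CommAlgCat.Hom.hom (D.map (f ≫ g))).toLinearMap.rTensor M) x =
      ((D.map g).hom.toLinearMap.rTensor M) (((D.map f).hom.toLinearMap.rTensor M) x)
    rw [D.map_comp, CommAlgCat.hom_comp, AlgHom.comp_toLinearMap, LinearMap.rTensor_comp,
      LinearMap.comp_apply]

lemma K_map_apply {i j : J} (f : i ⟶ j) (x : D.obj i ⊗[A] M) :
    (K D M).map f x = ((D.map f).hom.toLinearMap.rTensor M) x := rfl

lemma K_map_tmul {i j : J} (f : i ⟶ j) (b : D.obj i) (m : M) :
    (K D M).map f (b ⊗ₜ[A] m) = ((D.map f).hom b) ⊗ₜ[A] m := rfl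

instance (G : J ⥤ Ab.{u + 1}) : PreservesColimit G (forget Ab.{u + 1}) := by
  haveI : PreservesFilteredColimitsOfSize.{u, u} (forget Ab.{u + 1}) :=
    preservesFilteredColimitsOfSize_shrink.{u, u + 1, u, u + 1} _
  haveI : PreservesColimitsOfShape J (forget Ab.{u + 1}) :=
    PreservesFilteredColimitsOfSize.preserves_filtered_colimits J
  infer_instance

/-- The class of `b_i ⊗ m` in the colimit. -/
noncomputable def cls (i : J) (x : D.obj i ⊗[A] M) : (colimit (K D M) : Ab.{u + 1}) :=
  colimit.ι (K D M) i x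

lemma cls_map {i j : J} (f : i ⟶ j) (x : D.obj i ⊗[A] M) :
    cls D M j ((K D M).map f x) = cls D M i x := by
  have := colimit.w (K D M) f
  exact ConcreteCategory.congr_hom this x

lemma cls_add (i : J) (x y : D.obj i ⊗[A] M) :
    cls D M i (x + y) = cls D M i x + cls D M i y :=
  map_add (colimit.ι (K D M) i).hom x y

lemma cls_zero (i : J) : cls D M i 0 = 0 :=
  map_zero (colimit.ι (K D M) i).hom

variable {D} in
/-- The coprojection as an algebra map with codomain syntactically `c.pt`. -/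
abbrev ιh (i : J) : D.obj i →ₐ[A] c.pt := (c.ι.app i).hom

include hc in
lemma exists_rep (b : c.pt) : ∃ (i : J) (bi : D.obj i), (ιh c i) bi = b :=
  Concrete.isColimit_exists_rep D hc b

include hc in
lemma rep_eq {i j : J} (bi : D.obj i) (bj : D.obj j)
    (h : (ιh c i) bi = (ιh c j) bj) :
    ∃ (k : J) (f : i ⟶ k) (g : j ⟶ k), (D.map f).hom bi = (D.map g).hom bj :=
  (Concrete.isColimit_rep_eq_iff_exists D hc bi bj).1 h

lemma ι_map {i j : J} (f : i ⟶ j) (bi : D.obj i) :
    (ιh c j) ((D.map f).hom bi) = (ιh c i) bi := by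
  have := c.w f
  exact ConcreteCategory.congr_hom this bi

/-- The chosen index of a representative. -/
noncomputable def repIdx (b : c.pt) : J := (exists_rep D c hc b).choose

/-- The chosen representative. -/
noncomputable def repElt (b : c.pt) : D.obj (repIdx D c hc b) :=
  (exists_rep D c hc b).choose_spec.choose

lemma repElt_spec (b : c.pt) : (c.ι.app (repIdx D c hc b)).hom (repElt D c hc b) = b :=
  (exists_rep D c hc b).choose_spec.choose_spec

/-- The biadditive map `B × M → colim (B_i ⊗ M)` on elements. -/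
noncomputable def β₀ (b : c.pt) (m : M) : (colimit (K D M) : Ab.{u + 1}) :=
  cls D M (repIdx D c hc b) (repElt D c hc b ⊗ₜ[A] m)

lemma β₀_eq {i : J} (bi : D.obj i) (m : M) :
    β₀ D c hc M ((ιh c i) bi) m = cls D M i (bi ⊗ₜ[A] m) := by
  obtain ⟨k, f, g, h⟩ := rep_eq D c hc (repElt D c hc ((ιh c i) bi)) bi
    (repElt_spec D c hc _)
  rw [β₀, ← cls_map D M f, ← cls_map D M g, K_map_tmul, K_map_tmul, h]

lemma β₀_add_left (b b' : c.pt) (m : M) :
    β₀ D c hc M (b + b') m = β₀ D c hc M b m + β₀ D c hc M b' m := by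
  obtain ⟨i, bi, rfl⟩ := exists_rep D c hc b
  obtain ⟨j, bj, rfl⟩ := exists_rep D c hc b'
  let k := IsFiltered.max i j
  let f : i ⟶ k := IsFiltered.leftToMax i j
  let g : j ⟶ k := IsFiltered.rightToMax i j
  have e1 : (ιh c i) bi + (ιh c j) bj =
      (ιh c k) ((D.map f).hom bi + (D.map g).hom bj) := by
    rw [map_add, ι_map, ι_map]
  rw [e1, β₀_eq, β₀_eq, β₀_eq, TensorProduct.add_tmul, cls_add, ← K_map_tmul, ← K_map_tmul,
    cls_map, cls_map]

lemma β₀_add_right (b : c.pt) (m m' : M) :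
    β₀ D c hc M b (m + m') = β₀ D c hc M b m + β₀ D c hc M b m' := by
  rw [β₀, β₀, β₀, TensorProduct.tmul_add, cls_add]

lemma β₀_smul (a : A) (b : c.pt) (m : M) :
    β₀ D c hc M (a • b) m = β₀ D c hc M b (a • m) := by
  obtain ⟨i, bi, rfl⟩ := exists_rep D c hc b
  rw [← map_smul, β₀_eq, β₀_eq, TensorProduct.smul_tmul]

lemma β₀_zero_left (m : M) : β₀ D c hc M 0 m = 0 := by
  have := β₀_add_left D c hc M 0 0 m
  rw [add_zero] at this
  exact left_eq_add.mp this

lemma β₀_zero_right (b : c.pt) : β₀ D c hc M b 0 = 0 := by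
  have := β₀_add_right D c hc M b 0 0
  rw [add_zero] at this
  exact left_eq_add.mp this

/-- The biadditive map `B → M → colim (B_i ⊗ M)`. -/
noncomputable def β : c.pt →+ M →+ (colimit (K D M) : Ab.{u + 1}) where
  toFun b :=
    { toFun := fun m => β₀ D c hc M b m
      map_zero' := β₀_zero_right D c hc M b
      map_add' := β₀_add_right D c hc M b }
  map_zero' := by
    ext m
    exact β₀_zero_left D c hc M m
  map_add' b b' := by
    ext m
    exact β₀_add_left D c hc M b b' m

/-- The map `B ⊗ M → colim (B_i ⊗ M)`. -/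
noncomputable def lift : c.pt ⊗[A] M →+ (colimit (K D M) : Ab.{u + 1}) :=
  TensorProduct.liftAddHom (β D c hc M) (fun a b m => β₀_smul D c hc M a b m)

lemma lift_tmul (b : c.pt) (m : M) : lift D c hc M (b ⊗ₜ[A] m) = β₀ D c hc M b m := rfl

lemma lift_rTensor (i : J) (x : D.obj i ⊗[A] M) :
    lift D c hc M (((ιh c i).toLinearMap.rTensor M) x) = cls D M i x := by
  induction x using TensorProduct.induction_on with
  | zero => rw [map_zero, map_zero, cls_zero]
  | tmul b m =>
    rw [LinearMap.rTensor_tmul, lift_tmul]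
    exact β₀_eq D c hc M b m
  | add x y hx hy => rw [map_add, map_add, hx, hy, cls_add]

include hc in
/-- Injectivity part of `B ⊗ M = colim (B_i ⊗ M)`. -/
lemma exists_map_eq_of_rTensor_eq {i j : J} (x : D.obj i ⊗[A] M) (y : D.obj j ⊗[A] M)
    (h : ((ιh c i).toLinearMap.rTensor M) x = ((ιh c j).toLinearMap.rTensor M) y) :
    ∃ (k : J) (f : i ⟶ k) (g : j ⟶ k),
      ((D.map f).hom.toLinearMap.rTensor M) x = ((D.map g).hom.toLinearMap.rTensor M) y := by
  have h' : cls D M i x = cls D M j y := by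
    rw [← lift_rTensor D c hc M, ← lift_rTensor D c hc M, h]
  exact (Concrete.colimit_rep_eq_iff_exists (K D M) x y).1 h'

lemma rTensor_map {i j : J} (f : i ⟶ j) (x : D.obj i ⊗[A] M) :
    ((ιh c j).toLinearMap.rTensor M) (((D.map f).hom.toLinearMap.rTensor M) x) =
      ((ιh c i).toLinearMap.rTensor M) x := by
  rw [← LinearMap.comp_apply, ← LinearMap.rTensor_comp, ← AlgHom.comp_toLinearMap,
    ← CommAlgCat.hom_comp, c.w f]

include hc in
/-- Surjectivity part of `B ⊗ M = colim (B_i ⊗ M)`. -/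
lemma exists_rTensor_eq (z : c.pt ⊗[A] M) :
    ∃ (i : J) (x : D.obj i ⊗[A] M), ((ιh c i).toLinearMap.rTensor M) x = z := by
  induction z using TensorProduct.induction_on with
  | zero => exact ⟨IsFiltered.nonempty.some, 0, map_zero _⟩
  | tmul b m =>
    obtain ⟨i, bi, rfl⟩ := exists_rep D c hc b
    exact ⟨i, bi ⊗ₜ[A] m, rfl⟩
  | add z z' hz hz' =>
    obtain ⟨i, x, rfl⟩ := hz
    obtain ⟨j, y, rfl⟩ := hz'
    refine ⟨IsFiltered.max i j, ((D.map (IsFiltered.leftToMax i j)).hom.toLinearMap.rTensor M) x +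
      ((D.map (IsFiltered.rightToMax i j)).hom.toLinearMap.rTensor M) y, ?_⟩
    rw [map_add, rTensor_map, rTensor_map]

end Groth.Agent.Lib.T1H4.AdeqColim
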