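import Groth.Agent.Lib.T1H4AdeqColimB
import Groth.Prelude.Def_Adeq
import Mathlib.Algebra.Homology.ShortComplex.ModuleCat
import Mathlib.Algebra.Homology.ShortComplex.ExactFunctor

/-!
# Adequate functors commute with filtered colimits
-/

set_option autoImplicit false
universe u
open CategoryTheory Limits TensorProduct Opposite

namespace Groth.Agent.Lib.T1H4.AdeqColim

open Adeq

section Generic

universe v v₁ u₁ u₂

variable {C : Type u₁} [Category.{v₁} C] {R : Cᵒᵖ ⥤ RingCat.{u₂}}
  {F P Q : PresheafOfModules.{v} R}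

lemma exists_of_isLimit_kernelFork (ι : F ⟶ P) (g : P ⟶ Q) (w : ι ≫ g = 0)
    (hι : IsLimit (KernelFork.ofι ι w)) (X : Cᵒᵖ) (z : P.obj X) (hz : g.app X z = 0) :
    ∃ x : F.obj X, ι.app X x = z := by
  let S : ShortComplex (PresheafOfModules.{v} R) := ShortComplex.mk ι g w
  have hS : S.Exact := ShortComplex.exact_of_f_is_kernel S hι
  have hS' := hS.map (PresheafOfModules.evaluation.{v} R X)
  rw [ShortComplex.moduleCat_exact_iff] at hS'
  exact hS' z hz

end Generic

variable {A : Type u} [CommRing A]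

section Kernel

variable {F : Adeq.MVF A} {M N : ModuleCat.{u + 1} A} (φ : M ⟶ N)
  (ι : F ⟶ (Adeq.underline A).obj M) (w : ι ≫ (Adeq.underline A).map φ = 0)
  (hι : IsLimit (KernelFork.ofι ι w))

/-- The component of `ι` as a plain function `F(B) → B ⊗ M`. -/
noncomputable def ιfun (B : Adeq.Alg A) (x : F.obj (Adeq.pt B)) : B ⊗[A] M := (ι.app (Adeq.pt B)).hom x

/-- The component of `underline φ` as a plain function. -/
noncomputable def φfun (B : Adeq.Alg A) (z : B ⊗[A] M) : B ⊗[A] N := (φ.hom.baseChange B) z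

lemma underline_map_app_apply (B : Adeq.Alg A) (z : B ⊗[A] M) :
    (((Adeq.underline A).map φ).app (Adeq.pt B)).hom z = φfun φ B z := rfl

include hι in
lemma ιfun_injective (B : Adeq.Alg A) : Function.Injective (ιfun ι B) := by
  have : Mono ι := mono_of_isLimit_fork hι
  exact PresheafOfModules.injective_of_mono ι (Adeq.pt B)

include hι in
lemma exists_of_φfun_eq_zero (B : Adeq.Alg A) (z : B ⊗[A] M) (hz : φfun φ B z = 0) :
    ∃ x : F.obj (Adeq.pt B), ιfun ι B x = z := by
  exact exists_of_isLimit_kernelFork ι ((Adeq.underline A).map φ) w hι (Adeq.pt B) z hz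

lemma ιfun_naturality {B B' : Adeq.Alg A} (f : B ⟶ B') (x : F.obj (Adeq.pt B)) :
    ιfun ι B' ((F.map (Adeq.ptHom f)).hom x) = (f.hom.toLinearMap.rTensor M) (ιfun ι B x) :=
  PresheafOfModules.naturality_apply ι (Adeq.ptHom f) x

lemma φfun_naturality {B B' : Adeq.Alg A} (f : B ⟶ B') (z : B ⊗[A] M) :
    φfun φ B' ((f.hom.toLinearMap.rTensor M) z) = (f.hom.toLinearMap.rTensor N) (φfun φ B z) := by
  induction z using TensorProduct.induction_on with
  | zero => simp [φfun]
  | tmul b m => simp [φfun]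
  | add x y hx hy =>
    simp only [φfun, map_add] at hx hy ⊢
    rw [hx, hy]

include w in
lemma φfun_ιfun (B : Adeq.Alg A) (x : F.obj (Adeq.pt B)) : φfun φ B (ιfun ι B x) = 0 := by
  have h := congrArg (fun ψ => (ψ.app (Adeq.pt B)).hom x) w
  exact h

end Kernel

section Main

variable {F : Adeq.MVF A} {M N : ModuleCat.{u + 1} A} (φ : M ⟶ N)
  (ι : F ⟶ (Adeq.underline A).obj M) (w : ι ≫ (Adeq.underline A).map φ = 0)
  (hι : IsLimit (KernelFork.ofι ι w))
  {J : Type u} [SmallCategory J] [IsFiltered J] (D : J ⥤ Adeq.Alg A)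
  (c : Cocone D) (hc : IsColimit c)

lemma toAb_map_apply {B B' : Adeq.Alg A} (f : B ⟶ B') (x : F.obj (Adeq.pt B)) :
    (F.toAb.map f).hom x = (F.map (Adeq.ptHom f)).hom x := rfl

include hι hc in
lemma desc_bijective :
    Function.Bijective (colimit.desc (D ⋙ F.toAb) (F.toAb.mapCocone c)).hom := by
  constructor
  · intro a a' h
    obtain ⟨i, x, rfl⟩ := Concrete.colimit_exists_rep (D ⋙ F.toAb) a
    obtain ⟨j, y, rfl⟩ := Concrete.colimit_exists_rep (D ⋙ F.toAb) a'
    have h1 : (F.toAb.map (c.ι.app i)).hom x = (F.toAb.map (c.ι.app j)).hom y := by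
      have e1 := ConcreteCategory.congr_hom
        (colimit.ι_desc (F.toAb.mapCocone c) i) x
      have e2 := ConcreteCategory.congr_hom
        (colimit.ι_desc (F.toAb.mapCocone c) j) y
      exact e1.symm.trans (h.trans e2)
    have h2 := congrArg (ιfun ι c.pt) h1
    rw [toAb_map_apply, toAb_map_apply, ιfun_naturality, ιfun_naturality] at h2
    obtain ⟨k, f, g, h3⟩ := exists_map_eq_of_rTensor_eq D c hc M _ _ h2
    rw [← ιfun_naturality, ← ιfun_naturality] at h3
    have h4 := ιfun_injective φ ι w hι _ h3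
    exact Concrete.colimit_rep_eq_of_exists (D ⋙ F.toAb) x y ⟨k, f, g, h4⟩
  · intro y
    obtain ⟨i, x, hx⟩ := exists_rTensor_eq D c hc M (ιfun ι c.pt y)
    have h0 : ((ιh c i).toLinearMap.rTensor N) (φfun φ (D.obj i) x) =
        ((ιh c i).toLinearMap.rTensor N) 0 := by
      rw [← φfun_naturality φ (c.ι.app i) x, map_zero]
      erw [hx]
      exact φfun_ιfun φ ι w c.pt y
    obtain ⟨k, f, g, h1⟩ := exists_map_eq_of_rTensor_eq D c hc N _ _ h0
    rw [map_zero, ← φfun_naturality] at h1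
    obtain ⟨x', hx'⟩ := exists_of_φfun_eq_zero φ ι w hι (D.obj k) _ h1
    refine ⟨colimit.ι (D ⋙ F.toAb) k x', ?_⟩
    have e1 := ConcreteCategory.congr_hom (colimit.ι_desc (F.toAb.mapCocone c) k) x'
    refine e1.trans ?_
    apply ιfun_injective φ ι w hι c.pt
    change ιfun ι c.pt ((F.map (Adeq.ptHom (c.ι.app k))).hom x') = _
    rw [ιfun_naturality, hx', ← hx]
    exact rTensor_map D c M f x

include hι hc in
lemma nonempty_isColimit_of_kernel : Nonempty (IsColimit (F.toAb.mapCocone c)) := by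
  have hb := desc_bijective φ ι w hι D c hc
  haveI : IsIso (colimit.desc (D ⋙ F.toAb) (F.toAb.mapCocone c)) :=
    (ConcreteCategory.isIso_iff_bijective _).2 hb
  have : IsIso ((colimit.isColimit (D ⋙ F.toAb)).desc (F.toAb.mapCocone c)) := this
  exact ⟨IsColimit.ofPointIso (colimit.isColimit (D ⋙ F.toAb))⟩

end Main

theorem nonempty_isColimit (F : Adeq.MVF A) (hF : Adeq.adequate A F) {J : Type u}
    [SmallCategory J] [IsFiltered J] (D : J ⥤ Adeq.Alg A) (c : Cocone D) (hc : IsColimit c) :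
    Nonempty (IsColimit (F.toAb.mapCocone c)) := by
  obtain ⟨M, N, φ, ⟨i⟩⟩ := hF
  have hι := kernel.isoKernel ((Adeq.underline A).map φ) (i.hom ≫ kernel.ι _) i rfl
  exact nonempty_isColimit_of_kernel φ _ _ hι D c hc

end Groth.Agent.Lib.T1H4.AdeqColim
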