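import Mathlib
import Groth.Prelude.Def_W4c1arstab1appArSing

/-! Helper library (helper4): normal form in `k[[x,y]]/(y^2 - x^(r+1))`.
Every power series in two variables is congruent modulo `y^2 - x^(r+1)` to a unique
`a(x) + b(x) y`.  This file: coefficientwise reduction maps `NN ε` and the two key facts
(K1) they kill the ideal, (K2) a series with vanishing reductions lies in the ideal. -/

set_option autoImplicit false

namespace Groth.Agent.Lib.T1H4.ArSingNF

open MvPowerSeries

universe u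

variable (k : Type u) [Field k]

abbrev PS := MvPowerSeries (Fin 2) k

/-- exponent vector `(a, b)` -/
noncomputable def ee (a b : ℕ) : Fin 2 →₀ ℕ := Finsupp.single 0 a + Finsupp.single 1 b

@[simp] lemma ee_zero (a b : ℕ) : ee a b 0 = a := by simp [ee]
@[simp] lemma ee_one (a b : ℕ) : ee a b 1 = b := by simp [ee]

lemma eq_ee (m : Fin 2 →₀ ℕ) : m = ee (m 0) (m 1) := by
  ext i
  fin_cases i <;> simp

lemma ee_le_iff (a b : ℕ) (m : Fin 2 →₀ ℕ) : ee a b ≤ m ↔ a ≤ m 0 ∧ b ≤ m 1 := by
  constructor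
  · intro h
    have h0 := h 0
    have h1 := h 1
    simp at h0 h1
    exact ⟨h0, h1⟩
  · rintro ⟨h0, h1⟩ i
    fin_cases i <;> simp [h0, h1]

lemma ee_sub (a b c d : ℕ) : ee a b - ee c d = ee (a - c) (b - d) := by
  ext i
  fin_cases i <;> simp [ee]

lemma ee_le_ee (a b c d : ℕ) : ee c d ≤ ee a b ↔ c ≤ a ∧ d ≤ b := by
  rw [ee_le_iff]; simp

lemma ee_inj (a b c d : ℕ) (h : ee a b = ee c d) : a = c ∧ b = d := by
  have h0 := congrArg (fun m : Fin 2 →₀ ℕ => m 0) h
  have h1 := congrArg (fun m : Fin 2 →₀ ℕ => m 1) h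
  simp at h0 h1
  exact ⟨h0, h1⟩

lemma X0_pow (n : ℕ) : (X 0 : PS k) ^ n = monomial (ee n 0) 1 := by
  rw [X_pow_eq]; simp [ee]

lemma X1_pow (n : ℕ) : (X 1 : PS k) ^ n = monomial (ee 0 n) 1 := by
  rw [X_pow_eq]; simp [ee]

variable (r : ℕ)

lemma coeff_mul_eqn (G : PS k) (a b : ℕ) :
    coeff (ee a b) (G * ArSing.eqn k r) =
      (if 2 ≤ b then coeff (ee a (b - 2)) G else 0) -
        (if r + 1 ≤ a then coeff (ee (a - (r + 1)) b) G else 0) := by
  rw [ArSing.eqn, mul_sub, map_sub, X1_pow, X0_pow, coeff_mul_monomial, coeff_mul_monomial,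
    mul_one, mul_one]
  congr 1
  · by_cases h : 2 ≤ b
    · rw [if_pos h, if_pos ((ee_le_ee _ _ _ _).mpr ⟨Nat.zero_le _, h⟩), ee_sub, Nat.sub_zero]
    · rw [if_neg h, if_neg (fun h' => h ((ee_le_ee _ _ _ _).mp h').2)]
  · by_cases h : r + 1 ≤ a
    · rw [if_pos h, if_pos ((ee_le_ee _ _ _ _).mpr ⟨h, Nat.zero_le _⟩), ee_sub, Nat.sub_zero]
    · rw [if_neg h, if_neg (fun h' => h ((ee_le_ee _ _ _ _).mp h').1)]

/-- The reduction map of parity `ε`: the coefficient of `x^n` is
`∑_j F(n - (r+1) j, 2 j + ε)`. -/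
noncomputable def NN (ε : ℕ) : PS k →ₗ[k] PowerSeries k where
  toFun F := PowerSeries.mk fun n =>
    ∑ j ∈ Finset.range (n / (r + 1) + 1), coeff (ee (n - (r + 1) * j) (2 * j + ε)) F
  map_add' F G := by
    ext n
    simp only [PowerSeries.coeff_mk, map_add, Finset.sum_add_distrib]
  map_smul' c F := by
    ext n
    simp only [PowerSeries.coeff_mk, map_smul, smul_eq_mul, RingHom.id_apply, Finset.mul_sum]

lemma coeff_NN (ε : ℕ) (F : PS k) (n : ℕ) :
    PowerSeries.coeff n (NN k r ε F) =
      ∑ j ∈ Finset.range (n / (r + 1) + 1), coeff (ee (n - (r + 1) * j) (2 * j + ε)) F := by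
  simp [NN]

/-- (K1) the reductions kill the ideal (for parity `ε < 2`). -/
lemma NN_mul_eqn (ε : ℕ) (hε : ε < 2) (G : PS k) : NN k r ε (G * ArSing.eqn k r) = 0 := by
  ext n
  rw [coeff_NN, map_zero]
  set J := n / (r + 1) with hJ
  have hJ1 : (r + 1) * J ≤ n := Nat.mul_div_le n (r + 1)
  have hJ2 : n < (r + 1) * (J + 1) := by
    have := Nat.lt_mul_div_succ n (Nat.succ_pos r)
    simpa [hJ, Nat.succ_eq_add_one] using this
  -- the common telescoping terms
  have hm : ∀ j : ℕ, (r + 1) * (j + 1) = (r + 1) * j + (r + 1) := fun j => by ring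
  let u : ℕ → k := fun j => coeff (ee (n - (r + 1) * (j + 1)) (2 * j + ε)) G
  have h1 : ∀ j ∈ Finset.range (J + 1), coeff (ee (n - (r + 1) * j) (2 * j + ε)) (G * ArSing.eqn k r) =
      (if j = 0 then 0 else u (j - 1)) - (if j = J then 0 else u j) := by
    intro j hj
    rw [Finset.mem_range] at hj
    rw [coeff_mul_eqn]
    congr 1
    · by_cases h0 : j = 0
      · rw [if_pos h0, if_neg (by omega)]
      · rw [if_neg h0, if_pos (by omega)]
        simp only [u]
        have e1 : 2 * j + ε - 2 = 2 * (j - 1) + ε := by omega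
        have e2 : j - 1 + 1 = j := by omega
        rw [e1, e2]
    · by_cases hjJ : j = J
      · rw [if_pos hjJ, if_neg]
        intro h
        have h3 := hm j
        have h4 : (r + 1) * (J + 1) = (r + 1) * (j + 1) := by rw [hjJ]
        omega
      · have hlt : j + 1 ≤ J := by omega
        have h2 : (r + 1) * (j + 1) ≤ n :=
          le_trans (Nat.mul_le_mul_left _ hlt) hJ1
        have h3 := hm j
        rw [if_neg hjJ, if_pos (by omega)]
        simp only [u]
        have e5 : n - (r + 1) * j - (r + 1) = n - (r + 1) * (j + 1) := by omega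
        rw [e5]
  rw [Finset.sum_congr rfl h1, Finset.sum_sub_distrib]
  have s1 : ∑ j ∈ Finset.range (J + 1), (if j = 0 then 0 else u (j - 1)) =
      ∑ j ∈ Finset.range J, u j := by
    rw [Finset.sum_range_succ']
    simp
  have s2 : ∑ j ∈ Finset.range (J + 1), (if j = J then 0 else u j) =
      ∑ j ∈ Finset.range J, u j := by
    rw [Finset.sum_range_succ]
    simp only [if_true, add_zero]
    apply Finset.sum_congr rfl
    intro j hj
    rw [Finset.mem_range] at hj
    rw [if_neg (by omega)]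
  rw [s1, s2, sub_self]

/-- (K2) a series with vanishing reductions lies in the ideal. -/
lemma exists_of_NN_zero (F : PS k) (h0 : NN k r 0 F = 0) (h1 : NN k r 1 F = 0) :
    ∃ G : PS k, G * ArSing.eqn k r = F := by
  let G : PS k := fun m =>
    ∑ l ∈ Finset.range (m 0 / (r + 1) + 1), coeff (ee (m 0 - (r + 1) * l) (m 1 + 2 + 2 * l)) F
  have hG : ∀ a b, coeff (ee a b) G =
      ∑ l ∈ Finset.range (a / (r + 1) + 1), coeff (ee (a - (r + 1) * l) (b + 2 + 2 * l)) F := by
    intro a b
    show G (ee a b) = _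
    simp only [G, ee_zero, ee_one]
  refine ⟨G, ?_⟩
  ext m
  rw [eq_ee m, coeff_mul_eqn]
  set a := m 0
  set b := m 1
  -- the second term, rewritten as a shifted sum
  have hsecond : (if r + 1 ≤ a then coeff (ee (a - (r + 1)) b) G else 0) =
      ∑ l ∈ Finset.range (a / (r + 1)), coeff (ee (a - (r + 1) * (l + 1)) (b + 2 * (l + 1))) F := by
    by_cases ha : r + 1 ≤ a
    · rw [if_pos ha, hG]
      have e1 : (a - (r + 1)) / (r + 1) + 1 = a / (r + 1) :=
        (Nat.div_eq_sub_div (Nat.succ_pos r) ha).symm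
      rw [e1]
      apply Finset.sum_congr rfl
      intro l _
      have h3 : (r + 1) * (l + 1) = (r + 1) * l + (r + 1) := by ring
      have e2 : a - (r + 1) - (r + 1) * l = a - (r + 1) * (l + 1) := by omega
      have e3 : b + 2 + 2 * l = b + 2 * (l + 1) := by ring
      rw [e2, e3]
    · rw [if_neg ha]
      have : a / (r + 1) = 0 := Nat.div_eq_of_lt (by omega)
      rw [this, Finset.sum_range_zero]
  rw [hsecond]
  by_cases hb : 2 ≤ b
  · rw [if_pos hb, hG, Finset.sum_range_succ']
    have e0 : b - 2 + 2 + 2 * 0 = b := by omega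
    have e0' : a - (r + 1) * 0 = a := by rw [Nat.mul_zero, Nat.sub_zero]
    rw [e0, e0']
    ring
  · rw [if_neg hb, zero_sub]
    -- use vanishing of the reduction of parity `b`
    have hb' : b = 0 ∨ b = 1 := by omega
    have hN : PowerSeries.coeff a (NN k r b F) = 0 := by
      rcases hb' with h | h
      · rw [h, h0, map_zero]
      · rw [h, h1, map_zero]
    rw [coeff_NN, Finset.sum_range_succ'] at hN
    have e0 : 2 * 0 + b = b := by omega
    have e0' : a - (r + 1) * 0 = a := by rw [Nat.mul_zero, Nat.sub_zero]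
    rw [e0, e0'] at hN
    have e1 : ∀ l, 2 * (l + 1) + b = b + 2 * (l + 1) := by
      intro l
      omega
    simp only [e1] at hN
    linear_combination (-1 : k) * hN

end Groth.Agent.Lib.T1H4.ArSingNF
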