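import Mathlib
import Groth.Agent.Lib.T1H4ArSingNF

/-! Helper library (helper4): structure of `A_r = k[[x,y]]/(y^2 - x^(r+1))` as the free
`k[[x]]`-module on `1, y`: coordinates `cA`, `cB`, multiplication rule, uniqueness of algebra maps out
of `k[[t]]`, units. -/

set_option autoImplicit false

namespace Groth.Agent.Lib.T1H4.ArSingCore

open MvPowerSeries Groth.Agent.Lib.T1H4.ArSingNF

universe u

variable (k : Type u) [Field k] (r : ℕ)

/-- `ι : k[[t]] → k[[x,y]]`, `t ↦ x`. -/
noncomputable def ι : PowerSeries k →ₐ[k] PS k := PowerSeries.toMvPowerSeries 0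

lemma xMap_apply (p : PowerSeries k) :
    ArSing.xMap k r p = Ideal.Quotient.mk (Ideal.span {ArSing.eqn k r}) (ι k p) := by
  rw [ArSing.xMap, AlgHom.comp_apply, PowerSeries.coe_substAlgHom, ι,
    PowerSeries.toMvPowerSeries_eq_subst]
  rfl

lemma ι_X : ι k (PowerSeries.X) = (X 0 : PS k) := by
  rw [ι, PowerSeries.toMvPowerSeries_X]

lemma coeff_ι (p : PowerSeries k) (a b : ℕ) :
    coeff (ee a b) (ι k p) = if b = 0 then PowerSeries.coeff a p else 0 := by
  classical
  by_cases hb : b = 0
  · subst hb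
    rw [if_pos rfl]
    have h1 : ee a 0 = Finsupp.embDomain (Function.Embedding.punit (0 : Fin 2))
        (Finsupp.single () a) := by
      rw [Finsupp.embDomain_single]
      simp [ee, Function.Embedding.punit]
    rw [h1, ι, PowerSeries.toMvPowerSeries_apply]
    exact coeff_embDomain_rename (Function.Embedding.punit (0 : Fin 2)) p (Finsupp.single () a)
  · rw [if_neg hb, ι, PowerSeries.toMvPowerSeries_apply]
    apply coeff_rename_eq_zero
    rintro ⟨d, hd⟩
    have h1 := congrArg (fun m : Fin 2 →₀ ℕ => m 1) hd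
    simp only [ee_one] at h1
    rw [Finsupp.mapDomain, Finsupp.sum_apply] at h1
    simp only [Finsupp.single_apply] at h1
    simp at h1
    exact hb h1.symm

lemma X1_eq : (X 1 : PS k) = monomial (ee 0 1) 1 := by
  rw [← pow_one (X 1 : PS k), X1_pow]

lemma coeff_ι_mul_X1 (p : PowerSeries k) (a b : ℕ) :
    coeff (ee a b) (ι k p * X 1) = if b = 1 then PowerSeries.coeff a p else 0 := by
  rw [X1_eq, coeff_mul_monomial, mul_one]
  by_cases hb : 1 ≤ b
  · rw [if_pos ((ee_le_ee _ _ _ _).mpr ⟨Nat.zero_le _, hb⟩), ee_sub, Nat.sub_zero, coeff_ι]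
    by_cases hb1 : b = 1
    · rw [if_pos hb1, if_pos (by omega)]
    · rw [if_neg hb1, if_neg (by omega)]
  · rw [if_neg (fun h' => hb ((ee_le_ee _ _ _ _).mp h').2), if_neg (by omega)]

lemma NN_ι (ε : ℕ) (p : PowerSeries k) :
    NN k r ε (ι k p) = if ε = 0 then p else 0 := by
  ext n
  rw [coeff_NN]
  by_cases hε : ε = 0
  · subst hε
    rw [if_pos rfl, Finset.sum_range_succ']
    simp only [coeff_ι, Nat.mul_zero, Nat.sub_zero, Nat.add_zero, if_true]
    rw [Finset.sum_eq_zero, zero_add]
    intro j _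
    rw [if_neg (by omega)]
  · rw [if_neg hε, map_zero]
    apply Finset.sum_eq_zero
    intro j _
    rw [coeff_ι, if_neg (by omega)]

lemma NN_ι_mul_X1 (ε : ℕ) (hε : ε < 2) (p : PowerSeries k) :
    NN k r ε (ι k p * X 1) = if ε = 1 then p else 0 := by
  ext n
  rw [coeff_NN]
  by_cases hε1 : ε = 1
  · subst hε1
    rw [if_pos rfl, Finset.sum_range_succ']
    simp only [coeff_ι_mul_X1, Nat.mul_zero, Nat.sub_zero, Nat.zero_add, if_true]
    rw [Finset.sum_eq_zero, zero_add]
    intro j _
    rw [if_neg (by omega)]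
  · rw [if_neg hε1, map_zero]
    apply Finset.sum_eq_zero
    intro j _
    rw [coeff_ι_mul_X1, if_neg (by omega)]

/-- the defining ideal -/
noncomputable abbrev II : Ideal (PS k) := Ideal.span {ArSing.eqn k r}

lemma NN_le_ker (ε : ℕ) (hε : ε < 2) :
    (II k r).restrictScalars k ≤ LinearMap.ker (NN k r ε) := by
  intro F hF
  rw [Submodule.restrictScalars_mem, Ideal.mem_span_singleton'] at hF
  obtain ⟨G, rfl⟩ := hF
  exact NN_mul_eqn k r ε hε G

/-- coordinates on the quotient ring -/
noncomputable def cc (ε : ℕ) (hε : ε < 2) : ArSing.ring k r →ₗ[k] PowerSeries k :=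
  (((II k r).restrictScalars k).liftQ (NN k r ε) (NN_le_ker k r ε hε)) ∘ₗ
    (Submodule.Quotient.restrictScalarsEquiv k (II k r)).symm.toLinearMap

lemma cc_mk (ε : ℕ) (hε : ε < 2) (F : PS k) :
    cc k r ε hε (Ideal.Quotient.mk (II k r) F) = NN k r ε F := rfl

/-- the `1`-coordinate -/
noncomputable def cA : ArSing.ring k r →ₗ[k] PowerSeries k := cc k r 0 (by norm_num)

/-- the `y`-coordinate -/
noncomputable def cB : ArSing.ring k r →ₗ[k] PowerSeries k := cc k r 1 (by norm_num)

lemma cA_mk (F : PS k) : cA k r (Ideal.Quotient.mk (II k r) F) = NN k r 0 F := rfl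
lemma cB_mk (F : PS k) : cB k r (Ideal.Quotient.mk (II k r) F) = NN k r 1 F := rfl

lemma y_def : ArSing.y k r = Ideal.Quotient.mk (II k r) (X 1) := rfl
lemma x_def : ArSing.x k r = Ideal.Quotient.mk (II k r) (X 0) := rfl

lemma xMap_X : ArSing.xMap k r PowerSeries.X = ArSing.x k r := by
  rw [xMap_apply, ι_X]

theorem cA_xMap_add (a b : PowerSeries k) :
    cA k r (ArSing.xMap k r a + ArSing.xMap k r b * ArSing.y k r) = a := by
  rw [xMap_apply, xMap_apply, y_def, ← map_mul, ← map_add, cA_mk, map_add, NN_ι,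
    NN_ι_mul_X1 k r 0 (by norm_num)]
  simp

theorem cB_xMap_add (a b : PowerSeries k) :
    cB k r (ArSing.xMap k r a + ArSing.xMap k r b * ArSing.y k r) = b := by
  rw [xMap_apply, xMap_apply, y_def, ← map_mul, ← map_add, cB_mk, map_add, NN_ι,
    NN_ι_mul_X1 k r 1 (by norm_num)]
  simp

theorem decomp (z : ArSing.ring k r) :
    z = ArSing.xMap k r (cA k r z) + ArSing.xMap k r (cB k r z) * ArSing.y k r := by
  obtain ⟨F, rfl⟩ := Ideal.Quotient.mk_surjective z
  rw [cA_mk, cB_mk, xMap_apply, xMap_apply, y_def, ← map_mul, ← map_add, ← sub_eq_zero,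
    ← map_sub, Ideal.Quotient.eq_zero_iff_mem, Ideal.mem_span_singleton']
  apply exists_of_NN_zero
  · rw [map_sub, map_add, NN_ι, NN_ι_mul_X1 k r 0 (by norm_num)]
    simp
  · rw [map_sub, map_add, NN_ι, NN_ι_mul_X1 k r 1 (by norm_num)]
    simp

theorem ext_coord {z w : ArSing.ring k r} (hA : cA k r z = cA k r w) (hB : cB k r z = cB k r w) :
    z = w := by
  rw [decomp k r z, decomp k r w, hA, hB]

lemma cA_xMap (a : PowerSeries k) : cA k r (ArSing.xMap k r a) = a := by
  have := cA_xMap_add k r a 0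
  simpa using this

lemma cB_xMap (a : PowerSeries k) : cB k r (ArSing.xMap k r a) = 0 := by
  have := cB_xMap_add k r a 0
  simpa using this

lemma xMap_injective : Function.Injective (ArSing.xMap k r) := by
  intro a b hab
  rw [← cA_xMap k r a, ← cA_xMap k r b, hab]

lemma y_sq : ArSing.y k r * ArSing.y k r = ArSing.xMap k r (PowerSeries.X ^ (r + 1)) := by
  rw [map_pow, xMap_X, y_def, x_def, ← map_mul, ← map_pow, ← sub_eq_zero, ← map_sub,
    Ideal.Quotient.eq_zero_iff_mem]
  apply Ideal.subset_span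
  rw [Set.mem_singleton_iff, ArSing.eqn, pow_two]

theorem mul_formula (a b c d : PowerSeries k) :
    (ArSing.xMap k r a + ArSing.xMap k r b * ArSing.y k r) *
      (ArSing.xMap k r c + ArSing.xMap k r d * ArSing.y k r) =
    ArSing.xMap k r (a * c + b * d * PowerSeries.X ^ (r + 1)) +
      ArSing.xMap k r (a * d + b * c) * ArSing.y k r := by
  simp only [map_add, map_mul]
  rw [← y_sq]
  ring

theorem cA_mul (z w : ArSing.ring k r) :
    cA k r (z * w) = cA k r z * cA k r w + cB k r z * cB k r w * PowerSeries.X ^ (r + 1) := by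
  conv_lhs => rw [decomp k r z, decomp k r w, mul_formula, cA_xMap_add]

theorem cB_mul (z w : ArSing.ring k r) :
    cB k r (z * w) = cA k r z * cB k r w + cB k r z * cA k r w := by
  conv_lhs => rw [decomp k r z, decomp k r w, mul_formula, cB_xMap_add]

lemma cA_one : cA k r 1 = 1 := by
  have := cA_xMap k r 1
  rwa [map_one] at this

lemma cB_one : cB k r 1 = 0 := by
  have := cB_xMap k r 1
  rwa [map_one] at this

lemma cA_y : cA k r (ArSing.y k r) = 0 := by
  have := cA_xMap_add k r 0 1
  simpa using this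

lemma cB_y : cB k r (ArSing.y k r) = 1 := by
  have := cB_xMap_add k r 0 1
  simpa using this

lemma cA_x : cA k r (ArSing.x k r) = PowerSeries.X := by
  rw [← xMap_X, cA_xMap]

lemma cB_x : cB k r (ArSing.x k r) = 0 := by
  rw [← xMap_X, cB_xMap]

lemma cA_xMap_mul (a : PowerSeries k) (z : ArSing.ring k r) :
    cA k r (ArSing.xMap k r a * z) = a * cA k r z := by
  rw [cA_mul, cA_xMap, cB_xMap]; ring

lemma cB_xMap_mul (a : PowerSeries k) (z : ArSing.ring k r) :
    cB k r (ArSing.xMap k r a * z) = a * cB k r z := by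
  rw [cB_mul, cA_xMap, cB_xMap]; ring

/-- the augmentation `A_r → k` -/
noncomputable def aug : ArSing.ring k r →ₐ[k] k where
  toFun z := PowerSeries.constantCoeff (cA k r z)
  map_one' := by rw [cA_one, map_one]
  map_mul' z w := by
    rw [cA_mul, map_add, map_mul, map_mul, map_pow, PowerSeries.constantCoeff_X,
      zero_pow (Nat.succ_ne_zero r), mul_zero, add_zero]
  map_zero' := by rw [map_zero, map_zero]
  map_add' z w := by rw [map_add, map_add]
  commutes' c := by
    have : algebraMap k (ArSing.ring k r) c = ArSing.xMap k r (PowerSeries.C c) := by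
      rw [PowerSeries.C_eq_algebraMap, AlgHom.commutes]
    rw [this, cA_xMap]
    simp

lemma aug_apply (z : ArSing.ring k r) : aug k r z = PowerSeries.constantCoeff (cA k r z) := rfl

end Groth.Agent.Lib.T1H4.ArSingCore
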