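import Mathlib
import Groth.Agent.Lib.T1H4ArSingCore

/-! Helper library (helper4): `x`-adic separatedness of `A_r`, uniqueness of algebra maps out of
`k[[t]]` and `A_s`, units of `A_r`. -/

set_option autoImplicit false

namespace Groth.Agent.Lib.T1H4.ArSingHom

open Groth.Agent.Lib.T1H4.ArSingNF Groth.Agent.Lib.T1H4.ArSingCore

universe u

variable (k : Type u) [Field k]

lemma ps_eq_zero_of_forall_X_pow_dvd (f : PowerSeries k)
    (h : ∀ n : ℕ, (PowerSeries.X : PowerSeries k) ^ n ∣ f) : f = 0 := by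
  ext n
  rw [map_zero]
  exact (PowerSeries.X_pow_dvd_iff.mp (h (n + 1))) n (Nat.lt_succ_self n)

/-- Two algebra maps out of `k[[t]]` agreeing on `t` agree modulo every power of the image of `t`. -/
lemma sub_mem_span_pow {B : Type*} [CommRing B] [Algebra k B] (ψ ψ' : PowerSeries k →ₐ[k] B)
    (h : ψ PowerSeries.X = ψ' PowerSeries.X) (n : ℕ) (a : PowerSeries k) :
    ψ a - ψ' a ∈ Ideal.span {ψ PowerSeries.X ^ n} := by
  induction n generalizing a with
  | zero => simp
  | succ n ih =>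
    have ha := PowerSeries.eq_X_mul_shift_add_const a
    set a₁ : PowerSeries k := PowerSeries.mk fun p => PowerSeries.coeff (p + 1) a with ha₁
    have hC : ψ (PowerSeries.C (PowerSeries.constantCoeff a)) =
        ψ' (PowerSeries.C (PowerSeries.constantCoeff a)) := by
      rw [PowerSeries.C_eq_algebraMap, AlgHom.commutes, AlgHom.commutes]
    have h1 : ψ a - ψ' a = ψ PowerSeries.X * (ψ a₁ - ψ' a₁) := by
      conv_lhs => rw [ha]
      rw [map_add, map_add, map_mul, map_mul, hC, ← h]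
      ring
    rw [h1]
    obtain ⟨c, hc⟩ := Ideal.mem_span_singleton'.mp (ih a₁)
    rw [Ideal.mem_span_singleton']
    exact ⟨c, by rw [← hc]; ring⟩

theorem ps_algHom_ext {ψ ψ' : PowerSeries k →ₐ[k] PowerSeries k}
    (h : ψ PowerSeries.X = ψ' PowerSeries.X)
    (h0 : PowerSeries.constantCoeff (ψ PowerSeries.X) = 0) : ψ = ψ' := by
  apply AlgHom.ext
  intro a
  rw [← sub_eq_zero]
  apply ps_eq_zero_of_forall_X_pow_dvd
  intro n
  have h1 := sub_mem_span_pow k ψ ψ' h n a
  obtain ⟨c, hc⟩ := Ideal.mem_span_singleton'.mp h1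
  obtain ⟨w, hw⟩ := PowerSeries.X_dvd_iff.mpr h0
  rw [← hc, hw, mul_pow]
  exact ⟨c * w ^ n, by ring⟩

variable (r : ℕ)

lemma dvd_of_mem_span_x_pow {z : ArSing.ring k r} {n : ℕ}
    (h : z ∈ Ideal.span {ArSing.x k r ^ n}) :
    (PowerSeries.X : PowerSeries k) ^ n ∣ cA k r z ∧ (PowerSeries.X : PowerSeries k) ^ n ∣ cB k r z := by
  obtain ⟨c, rfl⟩ := Ideal.mem_span_singleton'.mp h
  rw [← xMap_X, ← map_pow, mul_comm, cA_xMap_mul, cB_xMap_mul]
  exact ⟨Dvd.intro _ rfl, Dvd.intro _ rfl⟩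

lemma eq_zero_of_forall_mem_span_x_pow (z : ArSing.ring k r)
    (h : ∀ n : ℕ, z ∈ Ideal.span {ArSing.x k r ^ n}) : z = 0 := by
  apply ext_coord
  · rw [map_zero]
    exact ps_eq_zero_of_forall_X_pow_dvd k _ fun n => (dvd_of_mem_span_x_pow k r (h n)).1
  · rw [map_zero]
    exact ps_eq_zero_of_forall_X_pow_dvd k _ fun n => (dvd_of_mem_span_x_pow k r (h n)).2

lemma sq_mem_span_x {w : ArSing.ring k r} (hw : aug k r w = 0) :
    w * w ∈ Ideal.span {ArSing.x k r} := by
  rw [aug_apply] at hw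
  obtain ⟨α', hα'⟩ := PowerSeries.X_dvd_iff.mpr hw
  rw [Ideal.mem_span_singleton']
  refine ⟨ArSing.xMap k r (PowerSeries.X * α' * α' + cB k r w * cB k r w * PowerSeries.X ^ r) +
    ArSing.xMap k r (2 * α' * cB k r w) * ArSing.y k r, ?_⟩
  conv_rhs => rw [decomp k r w, mul_formula]
  rw [← xMap_X, hα']
  have h1 : ∀ a b : PowerSeries k, (ArSing.xMap k r a + ArSing.xMap k r b * ArSing.y k r) *
      ArSing.xMap k r PowerSeries.X = ArSing.xMap k r (a * PowerSeries.X) +
        ArSing.xMap k r (b * PowerSeries.X) * ArSing.y k r := by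
    intro a b
    simp only [map_mul]
    ring
  rw [h1]
  congr 2
  · rw [pow_succ]; ring
  · congr 1; ring

lemma pow_two_mul_mem_span_x_pow {w : ArSing.ring k r} (hw : aug k r w = 0) (n : ℕ) :
    w ^ (2 * n) ∈ Ideal.span {ArSing.x k r ^ n} := by
  obtain ⟨c, hc⟩ := Ideal.mem_span_singleton'.mp (sq_mem_span_x k r hw)
  rw [pow_mul, pow_two, ← hc, mul_pow, Ideal.mem_span_singleton']
  exact ⟨c ^ n, rfl⟩

theorem algHom_ext_X {ψ ψ' : PowerSeries k →ₐ[k] ArSing.ring k r}
    (h : ψ PowerSeries.X = ψ' PowerSeries.X) (h0 : aug k r (ψ PowerSeries.X) = 0) : ψ = ψ' := by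
  apply AlgHom.ext
  intro a
  rw [← sub_eq_zero]
  apply eq_zero_of_forall_mem_span_x_pow
  intro n
  have h1 := sub_mem_span_pow k ψ ψ' h (2 * n) a
  obtain ⟨c, hc⟩ := Ideal.mem_span_singleton'.mp h1
  rw [← hc]
  exact Ideal.mul_mem_left _ _ (pow_two_mul_mem_span_x_pow k r h0 n)

theorem algHom_ext_xy {s : ℕ} {φ φ' : ArSing.ring k s →ₐ[k] ArSing.ring k r}
    (hx : φ (ArSing.x k s) = φ' (ArSing.x k s)) (hy : φ (ArSing.y k s) = φ' (ArSing.y k s))
    (h0 : aug k r (φ (ArSing.x k s)) = 0) : φ = φ' := by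
  have h1 : φ.comp (ArSing.xMap k s) = φ'.comp (ArSing.xMap k s) := by
    apply algHom_ext_X
    · simp only [AlgHom.comp_apply, xMap_X, hx]
    · simp only [AlgHom.comp_apply, xMap_X, h0]
  apply AlgHom.ext
  intro z
  rw [decomp k s z, map_add, map_add, map_mul, map_mul, hy]
  have h2 : ∀ a, φ (ArSing.xMap k s a) = φ' (ArSing.xMap k s a) := fun a =>
    DFunLike.congr_fun h1 a
  rw [h2, h2]

theorem to_ps_algHom_ext {φ φ' : ArSing.ring k r →ₐ[k] PowerSeries k}
    (hx : φ (ArSing.x k r) = φ' (ArSing.x k r)) (hy : φ (ArSing.y k r) = φ' (ArSing.y k r))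
    (h0 : PowerSeries.constantCoeff (φ (ArSing.x k r)) = 0) : φ = φ' := by
  have h1 : φ.comp (ArSing.xMap k r) = φ'.comp (ArSing.xMap k r) := by
    apply ps_algHom_ext
    · simp only [AlgHom.comp_apply, xMap_X, hx]
    · simp only [AlgHom.comp_apply, xMap_X, h0]
  apply AlgHom.ext
  intro z
  rw [decomp k r z, map_add, map_add, map_mul, map_mul, hy]
  have h2 : ∀ a, φ (ArSing.xMap k r a) = φ' (ArSing.xMap k r a) := fun a =>
    DFunLike.congr_fun h1 a
  rw [h2, h2]

theorem isUnit_iff (z : ArSing.ring k r) : IsUnit z ↔ aug k r z ≠ 0 := by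
  constructor
  · intro h
    exact (h.map (aug k r)).ne_zero
  · intro h
    set a := cA k r z with ha
    set b := cB k r z with hb
    have hu : IsUnit (a * a - b * b * PowerSeries.X ^ (r + 1)) := by
      rw [PowerSeries.isUnit_iff_constantCoeff]
      rw [aug_apply] at h
      simp only [map_sub, map_mul, map_pow, PowerSeries.constantCoeff_X,
        zero_pow (Nat.succ_ne_zero r), mul_zero, sub_zero]
      exact isUnit_iff_ne_zero.mpr (mul_ne_zero h h)
    obtain ⟨u, hu⟩ := hu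
    have h1 : z * (ArSing.xMap k r a + ArSing.xMap k r (-b) * ArSing.y k r) =
        ArSing.xMap k r (a * a - b * b * PowerSeries.X ^ (r + 1)) := by
      conv_lhs => rw [decomp k r z, mul_formula]
      have e1 : a * (-b) + b * a = 0 := by ring
      rw [e1, map_zero, zero_mul, add_zero]
      congr 1
      ring
    refine isUnit_iff_exists_inv.mpr ⟨(ArSing.xMap k r a + ArSing.xMap k r (-b) * ArSing.y k r) *
      ArSing.xMap k r (↑u⁻¹ : PowerSeries k), ?_⟩
    rw [← mul_assoc, h1, ← hu, ← map_mul, Units.mul_inv, map_one]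

instance : Nontrivial (ArSing.ring k r) := by
  refine ⟨⟨0, 1, fun h => ?_⟩⟩
  have := congrArg (cA k r) h
  rw [map_zero, cA_one] at this
  exact zero_ne_one this

instance : IsLocalRing (ArSing.ring k r) := by
  apply IsLocalRing.of_nonunits_add
  intro a b ha hb
  rw [mem_nonunits_iff, isUnit_iff, not_not] at ha hb ⊢
  rw [map_add, ha, hb, add_zero]

lemma mem_maximalIdeal_iff (z : ArSing.ring k r) :
    z ∈ IsLocalRing.maximalIdeal (ArSing.ring k r) ↔ aug k r z = 0 := by
  rw [IsLocalRing.mem_maximalIdeal, mem_nonunits_iff, isUnit_iff, not_not]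

end Groth.Agent.Lib.T1H4.ArSingHom
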