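import Mathlib
import Groth.Agent.Lib.T1H4ArSingHom

/-! Helper library (helper4): tools for involutions of `A_r = k[[x,y]]/(y^2 - x^(r+1))`:
rescaling and expansion of power series, even and odd parts, lengths via `k`-dimension. -/

set_option autoImplicit false

namespace Groth.Agent.Lib.T1H4.ArSingInv

open Groth.Agent.Lib.T1H4.ArSingNF Groth.Agent.Lib.T1H4.ArSingCore Groth.Agent.Lib.T1H4.ArSingHom

universe u

variable (k : Type u) [Field k]

/-- `t ↦ c t` -/
noncomputable def RR (c : k) : PowerSeries k →ₐ[k] PowerSeries k := PowerSeries.rescaleAlgHom c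

lemma RR_apply (c : k) (p : PowerSeries k) : RR k c p = PowerSeries.rescale c p :=
  DFunLike.congr_fun (PowerSeries.coe_rescaleAlgHom c) p

lemma coeff_RR (c : k) (p : PowerSeries k) (n : ℕ) :
    PowerSeries.coeff n (RR k c p) = c ^ n * PowerSeries.coeff n p := by
  rw [RR_apply, PowerSeries.coeff_rescale]

lemma RR_X (c : k) : RR k c PowerSeries.X = PowerSeries.C c * PowerSeries.X := by
  rw [RR_apply, PowerSeries.rescale_X]

lemma constantCoeff_RR (c : k) (p : PowerSeries k) :
    PowerSeries.constantCoeff (RR k c p) = PowerSeries.constantCoeff p := by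
  rw [← PowerSeries.coeff_zero_eq_constantCoeff_apply, coeff_RR, pow_zero, one_mul,
    PowerSeries.coeff_zero_eq_constantCoeff_apply]

/-- `t ↦ t^2` -/
noncomputable def EE : PowerSeries k →ₐ[k] PowerSeries k := PowerSeries.expand 2 two_ne_zero

lemma EE_X : EE k PowerSeries.X = PowerSeries.X ^ 2 := PowerSeries.expand_X 2 two_ne_zero

lemma coeff_EE_two_mul (p : PowerSeries k) (n : ℕ) :
    PowerSeries.coeff (2 * n) (EE k p) = PowerSeries.coeff n p :=
  PowerSeries.coeff_expand_mul 2 two_ne_zero p n

lemma coeff_EE_two_mul_add_one (p : PowerSeries k) (n : ℕ) :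
    PowerSeries.coeff (2 * n + 1) (EE k p) = 0 :=
  PowerSeries.coeff_expand_of_not_dvd 2 two_ne_zero p (by omega)

lemma constantCoeff_EE (p : PowerSeries k) :
    PowerSeries.constantCoeff (EE k p) = PowerSeries.constantCoeff p :=
  PowerSeries.constantCoeff_expand 2 two_ne_zero p

/-- even part -/
noncomputable def ev (p : PowerSeries k) : PowerSeries k :=
  PowerSeries.mk fun n => PowerSeries.coeff (2 * n) p

/-- odd part -/
noncomputable def od (p : PowerSeries k) : PowerSeries k :=
  PowerSeries.mk fun n => PowerSeries.coeff (2 * n + 1) p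

lemma coeff_ev (p : PowerSeries k) (n : ℕ) :
    PowerSeries.coeff n (ev k p) = PowerSeries.coeff (2 * n) p := PowerSeries.coeff_mk _ _

lemma coeff_od (p : PowerSeries k) (n : ℕ) :
    PowerSeries.coeff n (od k p) = PowerSeries.coeff (2 * n + 1) p := PowerSeries.coeff_mk _ _

lemma coeff_even_comb (a b : PowerSeries k) (n : ℕ) :
    PowerSeries.coeff (2 * n) (EE k a + PowerSeries.X * EE k b) = PowerSeries.coeff n a := by
  rw [map_add, coeff_EE_two_mul]
  rcases n with _ | n
  · rw [Nat.mul_zero, PowerSeries.coeff_zero_X_mul, add_zero]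
  · have e : 2 * (n + 1) = (2 * n + 1) + 1 := by ring
    rw [e, PowerSeries.coeff_succ_X_mul, coeff_EE_two_mul_add_one, add_zero]

lemma coeff_odd_comb (a b : PowerSeries k) (n : ℕ) :
    PowerSeries.coeff (2 * n + 1) (EE k a + PowerSeries.X * EE k b) = PowerSeries.coeff n b := by
  rw [map_add, coeff_EE_two_mul_add_one, PowerSeries.coeff_succ_X_mul, coeff_EE_two_mul, zero_add]

lemma ev_comb (a b : PowerSeries k) : ev k (EE k a + PowerSeries.X * EE k b) = a := by
  ext n
  rw [coeff_ev, coeff_even_comb]

lemma od_comb (a b : PowerSeries k) : od k (EE k a + PowerSeries.X * EE k b) = b := by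
  ext n
  rw [coeff_od, coeff_odd_comb]

theorem ev_od_decomp (p : PowerSeries k) : p = EE k (ev k p) + PowerSeries.X * EE k (od k p) := by
  ext n
  obtain ⟨j, rfl | rfl⟩ := Nat.even_or_odd' n
  · rw [coeff_even_comb, coeff_ev]
  · rw [coeff_odd_comb, coeff_od]

lemma ev_EE (a : PowerSeries k) : ev k (EE k a) = a := by
  have := ev_comb k a 0
  simpa using this

lemma od_EE (a : PowerSeries k) : od k (EE k a) = 0 := by
  have := od_comb k a 0
  simpa using this

lemma ev_X_mul_EE (b : PowerSeries k) : ev k (PowerSeries.X * EE k b) = 0 := by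
  have := ev_comb k 0 b
  simpa using this

lemma od_X_mul_EE (b : PowerSeries k) : od k (PowerSeries.X * EE k b) = b := by
  have := od_comb k 0 b
  simpa using this

lemma EE_injective : Function.Injective (EE k) := by
  intro a b h
  rw [← ev_EE k a, ← ev_EE k b, h]

lemma RR_neg_one (p : PowerSeries k) :
    RR k (-1) p = EE k (ev k p) - PowerSeries.X * EE k (od k p) := by
  ext n
  rw [coeff_RR, sub_eq_add_neg, ← mul_neg, ← map_neg]
  obtain ⟨j, rfl | rfl⟩ := Nat.even_or_odd' n
  · rw [coeff_even_comb, coeff_ev, pow_mul, neg_one_sq, one_pow, one_mul]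
  · rw [coeff_odd_comb, map_neg, coeff_od, pow_succ, pow_mul, neg_one_sq, one_pow, one_mul,
      neg_one_mul]

lemma two_mul_eq_zero (h2 : (2 : k) ≠ 0) {p : PowerSeries k} (h : p + p = 0) : p = 0 := by
  have h1 : (2 : PowerSeries k) * p = 0 := by rw [two_mul]; exact h
  have h3 : (2 : PowerSeries k) ≠ 0 := by
    intro h3
    have := congrArg PowerSeries.constantCoeff h3
    rw [map_ofNat, map_zero] at this
    exact h2 this
  exact (mul_eq_zero.mp h1).resolve_left h3

lemma RR_neg_one_eq_self_iff (h2 : (2 : k) ≠ 0) (p : PowerSeries k) :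
    RR k (-1) p = p ↔ od k p = 0 := by
  constructor
  · intro h
    rw [RR_neg_one] at h
    have h1 : PowerSeries.X * EE k (od k p) + PowerSeries.X * EE k (od k p) = 0 := by
      have h3 := ev_od_decomp k p
      have : EE k (ev k p) - PowerSeries.X * EE k (od k p) =
          EE k (ev k p) + PowerSeries.X * EE k (od k p) := h.trans h3
      have h4 : PowerSeries.X * EE k (od k p) + PowerSeries.X * EE k (od k p) =
          (EE k (ev k p) + PowerSeries.X * EE k (od k p)) -
            (EE k (ev k p) - PowerSeries.X * EE k (od k p)) := by ring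
      rw [h4, this, sub_self]
    have h5 := two_mul_eq_zero k h2 h1
    rw [← od_X_mul_EE k (od k p), h5]
    ext n
    rw [coeff_od, map_zero, map_zero]
  · intro h
    rw [RR_neg_one, h, map_zero, mul_zero, sub_zero]
    conv_rhs => rw [ev_od_decomp k p, h, map_zero, mul_zero, add_zero]

lemma RR_neg_one_eq_neg_iff (h2 : (2 : k) ≠ 0) (p : PowerSeries k) :
    RR k (-1) p = -p ↔ ev k p = 0 := by
  constructor
  · intro h
    rw [RR_neg_one] at h
    have h1 : EE k (ev k p) + EE k (ev k p) = 0 := by
      have h3 := ev_od_decomp k p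
      have h4 : EE k (ev k p) + EE k (ev k p) =
          (EE k (ev k p) + PowerSeries.X * EE k (od k p)) +
            (EE k (ev k p) - PowerSeries.X * EE k (od k p)) := by ring
      rw [h4, h, ← h3, add_neg_cancel]
    have h5 := two_mul_eq_zero k h2 h1
    rw [← ev_EE k (ev k p), h5]
    ext n
    rw [coeff_ev, map_zero, map_zero]
  · intro h
    rw [RR_neg_one, h, map_zero, zero_sub]
    conv_rhs => rw [ev_od_decomp k p, h, map_zero, zero_add]

lemma X_dvd_RR_sub (c : k) (p : PowerSeries k) : PowerSeries.X ∣ RR k c p - p := by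
  rw [PowerSeries.X_dvd_iff, map_sub, constantCoeff_RR, sub_self]

variable (r : ℕ)

/-- An algebra endomorphism scaling `x` acts on `k[[x]]` by rescaling. -/
theorem map_xMap_of_smul (σ : ArSing.ring k r →ₐ[k] ArSing.ring k r) (c : k)
    (hx : σ (ArSing.x k r) = c • ArSing.x k r) (a : PowerSeries k) :
    σ (ArSing.xMap k r a) = ArSing.xMap k r (RR k c a) := by
  have h1 : σ.comp (ArSing.xMap k r) = (ArSing.xMap k r).comp (RR k c) := by
    apply algHom_ext_X
    · rw [AlgHom.comp_apply, AlgHom.comp_apply, xMap_X, hx, RR_X, map_mul, xMap_X,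
        PowerSeries.C_eq_algebraMap, AlgHom.commutes]
      exact Algebra.smul_def c (ArSing.x k r)
    · rw [AlgHom.comp_apply, xMap_X, hx, map_smul, aug_apply, cA_x, PowerSeries.constantCoeff_X,
        smul_zero]
  exact DFunLike.congr_fun h1 a

/-- An algebra map `A_s → A_r` with `x ↦ x^2` acts on `k[[x]]` by `t ↦ t^2`. -/
theorem map_xMap_of_sq {s : ℕ} (φ : ArSing.ring k s →ₐ[k] ArSing.ring k r)
    (hx : φ (ArSing.x k s) = ArSing.x k r ^ 2) (a : PowerSeries k) :
    φ (ArSing.xMap k s a) = ArSing.xMap k r (EE k a) := by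
  have h1 : φ.comp (ArSing.xMap k s) = (ArSing.xMap k r).comp (EE k) := by
    apply algHom_ext_X
    · rw [AlgHom.comp_apply, AlgHom.comp_apply, xMap_X, hx, EE_X, map_pow, xMap_X]
    · rw [AlgHom.comp_apply, xMap_X, hx, map_pow, aug_apply, cA_x, PowerSeries.constantCoeff_X,
        zero_pow two_ne_zero]
  exact DFunLike.congr_fun h1 a

instance : IsLocalHom (algebraMap k (ArSing.ring k r)) := ⟨fun a ha => by
  rcases eq_or_ne a 0 with rfl | h
  · rw [map_zero] at ha
    exact absurd ha not_isUnit_zero
  · exact isUnit_iff_ne_zero.mpr h⟩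

lemma aug_sub_algebraMap (z : ArSing.ring k r) :
    aug k r (z - algebraMap k (ArSing.ring k r) (aug k r z)) = 0 := by
  rw [map_sub, AlgHom.commutes, Algebra.algebraMap_self_apply, sub_self]

lemma residue_surj :
    Function.Surjective (algebraMap k (IsLocalRing.ResidueField (ArSing.ring k r))) := by
  intro q
  obtain ⟨z, rfl⟩ := IsLocalRing.residue_surjective q
  refine ⟨aug k r z, ?_⟩
  rw [IsScalarTower.algebraMap_apply k (ArSing.ring k r) (IsLocalRing.ResidueField _),
    IsLocalRing.ResidueField.algebraMap_eq, eq_comm, ← sub_eq_zero, ← map_sub,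
    IsLocalRing.residue_eq_zero_iff, mem_maximalIdeal_iff]
  exact aug_sub_algebraMap k r z

lemma length_residueField :
    Module.length k (IsLocalRing.ResidueField (ArSing.ring k r)) = 1 := by
  have e : k ≃ₗ[k] IsLocalRing.ResidueField (ArSing.ring k r) :=
    LinearEquiv.ofBijective (Algebra.linearMap k _)
      ⟨(algebraMap k (IsLocalRing.ResidueField (ArSing.ring k r))).injective, residue_surj k r⟩
  rw [← e.length_eq, Module.length_eq_finrank, Module.finrank_self]
  rfl

theorem length_eq_length_field (M : Type*) [AddCommGroup M] [Module (ArSing.ring k r) M]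
    [Module k M] [IsScalarTower k (ArSing.ring k r) M] :
    Module.length (ArSing.ring k r) M = Module.length k M := by
  have h1 : Function.Surjective (algebraMap k (IsLocalRing.ResidueField k)) := by
    rw [IsLocalRing.ResidueField.algebraMap_eq]
    exact IsLocalRing.residue_surjective
  rw [IsLocalRing.length_restrictScalars k (ArSing.ring k r) M,
    ← Module.length_eq_of_surjective (S := k) (R := IsLocalRing.ResidueField k) h1,
    length_residueField, mul_one]

/-- The length of `A_r / I` is the `k`-dimension of any `k`-vector space onto which `A_r` surjects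
`k`-linearly with kernel `I`. -/
theorem length_quot_eq_finrank (I : Ideal (ArSing.ring k r)) {V : Type*} [AddCommGroup V]
    [Module k V] [Module.Finite k V] (f : ArSing.ring k r →ₗ[k] V) (hf : Function.Surjective f)
    (hker : ∀ z, f z = 0 ↔ z ∈ I) :
    Module.length (ArSing.ring k r) (ArSing.ring k r ⧸ I) = Module.finrank k V := by
  rw [length_eq_length_field]
  have hk : LinearMap.ker f = I.restrictScalars k := by
    ext z
    rw [LinearMap.mem_ker, hker, Submodule.restrictScalars_mem]
  let e : (ArSing.ring k r ⧸ I) ≃ₗ[k] V :=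
    (Submodule.Quotient.restrictScalarsEquiv k I).symm.trans
      ((Submodule.quotEquivOfEq _ _ hk.symm).trans (f.quotKerEquivOfSurjective hf))
  rw [e.length_eq, Module.length_eq_finrank]

/-- `x` is a nonzerodivisor of `A_r`. -/
lemma x_mem_nonZeroDivisors : ArSing.x k r ∈ nonZeroDivisors (ArSing.ring k r) := by
  rw [mem_nonZeroDivisors_iff_right]
  intro z hz
  have hA := congrArg (cA k r) hz
  have hB := congrArg (cB k r) hz
  rw [mul_comm, ← xMap_X, cA_xMap_mul, map_zero] at hA
  rw [mul_comm, ← xMap_X, cB_xMap_mul, map_zero] at hB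
  apply ext_coord
  · rw [map_zero]; exact (mul_eq_zero.mp hA).resolve_left PowerSeries.X_ne_zero
  · rw [map_zero]; exact (mul_eq_zero.mp hB).resolve_left PowerSeries.X_ne_zero

/-- `y` is a nonzerodivisor of `A_r`. -/
lemma y_mem_nonZeroDivisors : ArSing.y k r ∈ nonZeroDivisors (ArSing.ring k r) := by
  rw [mem_nonZeroDivisors_iff_right]
  intro z hz
  have hA := congrArg (cA k r) hz
  have hB := congrArg (cB k r) hz
  rw [cA_mul, cA_y, cB_y, map_zero, mul_zero, zero_add, mul_one] at hA
  rw [cB_mul, cA_y, cB_y, map_zero, mul_zero, add_zero, mul_one] at hB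
  apply ext_coord
  · rw [map_zero]; exact hB
  · rw [map_zero]
    exact (mul_eq_zero.mp hA).resolve_right (pow_ne_zero _ PowerSeries.X_ne_zero)

lemma mem_span_x_iff (z : ArSing.ring k r) :
    z ∈ Ideal.span {ArSing.x k r} ↔
      PowerSeries.X ∣ cA k r z ∧ PowerSeries.X ∣ cB k r z := by
  constructor
  · intro h
    have := dvd_of_mem_span_x_pow k r (n := 1) (by rwa [pow_one])
    rwa [pow_one] at this
  · rintro ⟨⟨a, ha⟩, ⟨b, hb⟩⟩
    rw [Ideal.mem_span_singleton']
    refine ⟨ArSing.xMap k r a + ArSing.xMap k r b * ArSing.y k r, ?_⟩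
    conv_rhs => rw [decomp k r z, ha, hb, map_mul, map_mul, xMap_X]
    ring

lemma mem_span_y_iff (z : ArSing.ring k r) :
    z ∈ Ideal.span {ArSing.y k r} ↔ PowerSeries.X ^ (r + 1) ∣ cA k r z := by
  constructor
  · intro h
    obtain ⟨c, rfl⟩ := Ideal.mem_span_singleton'.mp h
    rw [cA_mul, cA_y, cB_y, mul_zero, zero_add, mul_one]
    exact Dvd.intro_left _ rfl
  · rintro ⟨a, ha⟩
    rw [Ideal.mem_span_singleton']
    refine ⟨ArSing.xMap k r a * ArSing.y k r + ArSing.xMap k r (cB k r z), ?_⟩
    conv_rhs => rw [decomp k r z, ha, map_mul, ← y_sq]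
    ring

end Groth.Agent.Lib.T1H4.ArSingInv
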