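import Mathlib
import Groth.Agent.Lib.T1H4ArSingInv

/-! Helper library (helper4): the involution `x ↦ -x, y ↦ y` of `A_r`, `r + 1` even. -/

set_option autoImplicit false

namespace Groth.Agent.Lib.T1H4.ArSingNegX

open Groth.Agent.Lib.T1H4.ArSingNF Groth.Agent.Lib.T1H4.ArSingCore Groth.Agent.Lib.T1H4.ArSingHom
  Groth.Agent.Lib.T1H4.ArSingInv

universe u

variable (k : Type u) [Field k] (r s : ℕ)

/-- `x = -(1/2) (σ x - x)` when `σ x = -x`. -/
lemma eq_smul_of_neg (h2 : (2 : k) ≠ 0) {A : Type*} [AddCommGroup A] [Module k A] (w w' : A)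
    (h : w' = -w) : w = (-(2 : k)⁻¹) • (w' - w) := by
  have h3 : w' - w = (-2 : k) • w := by
    rw [h, neg_smul, two_smul]
    abel
  rw [h3, smul_smul]
  have : -(2 : k)⁻¹ * -2 = 1 := by
    rw [neg_mul_neg, inv_mul_cancel₀ h2]
  rw [this, one_smul]

section phi

variable (φ : ArSing.ring k s →ₐ[k] ArSing.ring k r)
  (hφx : φ (ArSing.x k s) = ArSing.x k r ^ 2) (hφy : φ (ArSing.y k s) = ArSing.y k r)

include hφx hφy

lemma phi_formula (w : ArSing.ring k s) :
    φ w = ArSing.xMap k r (EE k (cA k s w)) + ArSing.xMap k r (EE k (cB k s w)) * ArSing.y k r := by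
  conv_lhs => rw [decomp k s w]
  rw [map_add, map_mul, map_xMap_of_sq k r φ hφx, map_xMap_of_sq k r φ hφx, hφy]

lemma cA_phi (w : ArSing.ring k s) : cA k r (φ w) = EE k (cA k s w) := by
  rw [phi_formula k r s φ hφx hφy w, cA_xMap_add]

lemma cB_phi (w : ArSing.ring k s) : cB k r (φ w) = EE k (cB k s w) := by
  rw [phi_formula k r s φ hφx hφy w, cB_xMap_add]

lemma cA_comb (u v : ArSing.ring k s) :
    cA k r (φ u + φ v * ArSing.x k r) = EE k (cA k s u) + PowerSeries.X * EE k (cA k s v) := by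
  rw [map_add, mul_comm, ← xMap_X, cA_xMap_mul, cA_phi k r s φ hφx hφy, cA_phi k r s φ hφx hφy]

lemma cB_comb (u v : ArSing.ring k s) :
    cB k r (φ u + φ v * ArSing.x k r) = EE k (cB k s u) + PowerSeries.X * EE k (cB k s v) := by
  rw [map_add, mul_comm, ← xMap_X, cB_xMap_mul, cB_phi k r s φ hφx hφy, cB_phi k r s φ hφx hφy]

theorem phi_flat : φ.toRingHom.Flat := by
  letI : Algebra (ArSing.ring k s) (ArSing.ring k r) := φ.toRingHom.toAlgebra
  have hsm : ∀ (a : ArSing.ring k s) (z : ArSing.ring k r), a • z = φ a * z := fun a z => rfl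
  let G : (ArSing.ring k s × ArSing.ring k s) →ₗ[ArSing.ring k s] ArSing.ring k r :=
    (LinearMap.toSpanSingleton (ArSing.ring k s) (ArSing.ring k r) 1).coprod
      (LinearMap.toSpanSingleton (ArSing.ring k s) (ArSing.ring k r) (ArSing.x k r))
  have hG : ∀ p : ArSing.ring k s × ArSing.ring k s, G p = φ p.1 + φ p.2 * ArSing.x k r := by
    intro p
    simp only [G, LinearMap.coprod_apply, LinearMap.toSpanSingleton_apply, hsm, mul_one]
  have hinj : Function.Injective G := by
    rw [injective_iff_map_eq_zero]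
    rintro ⟨u, v⟩ h
    rw [hG] at h
    have hA := cA_comb k r s φ hφx hφy u v
    have hB := cB_comb k r s φ hφx hφy u v
    rw [h, map_zero] at hA hB
    have e1 : cA k s u = 0 := by
      rw [← ev_comb k (cA k s u) (cA k s v), ← hA]; ext n; rw [coeff_ev, map_zero, map_zero]
    have e2 : cA k s v = 0 := by
      rw [← od_comb k (cA k s u) (cA k s v), ← hA]; ext n; rw [coeff_od, map_zero, map_zero]
    have e3 : cB k s u = 0 := by
      rw [← ev_comb k (cB k s u) (cB k s v), ← hB]; ext n; rw [coeff_ev, map_zero, map_zero]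
    have e4 : cB k s v = 0 := by
      rw [← od_comb k (cB k s u) (cB k s v), ← hB]; ext n; rw [coeff_od, map_zero, map_zero]
    rw [Prod.mk_eq_zero]
    exact ⟨ext_coord k s (by rw [e1, map_zero]) (by rw [e3, map_zero]),
      ext_coord k s (by rw [e2, map_zero]) (by rw [e4, map_zero])⟩
  have hsurj : Function.Surjective G := by
    intro z
    refine ⟨(ArSing.xMap k s (ev k (cA k r z)) + ArSing.xMap k s (ev k (cB k r z)) * ArSing.y k s,
      ArSing.xMap k s (od k (cA k r z)) + ArSing.xMap k s (od k (cB k r z)) * ArSing.y k s), ?_⟩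
    rw [hG]
    apply ext_coord
    · rw [cA_comb k r s φ hφx hφy, cA_xMap_add, cA_xMap_add, ← ev_od_decomp]
    · rw [cB_comb k r s φ hφx hφy, cB_xMap_add, cB_xMap_add, ← ev_od_decomp]
  show Module.Flat (ArSing.ring k s) (ArSing.ring k r)
  exact Module.Flat.of_linearEquiv (LinearEquiv.ofBijective G ⟨hinj, hsurj⟩).symm

theorem map_maximal_ne_top (I : Ideal (ArSing.ring k s)) (hI : I.IsMaximal) :
    Ideal.map φ I ≠ ⊤ := by
  intro h
  have h1 : Ideal.map φ I ≤ IsLocalRing.maximalIdeal (ArSing.ring k r) := by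
    rw [Ideal.map_le_iff_le_comap]
    intro a ha
    rw [IsLocalRing.eq_maximalIdeal hI, mem_maximalIdeal_iff, aug_apply] at ha
    rw [Ideal.mem_comap, mem_maximalIdeal_iff, aug_apply, cA_phi k r s φ hφx hφy, constantCoeff_EE]
    exact ha
  rw [h] at h1
  exact (IsLocalRing.maximalIdeal.isMaximal _).ne_top (top_le_iff.mp h1)

end phi

theorem main (m : ℕ) (h2 : (2 : k) ≠ 0)
    (σ : ArSing.ring k r ≃ₐ[k] ArSing.ring k r) (hx : σ (ArSing.x k r) = -ArSing.x k r)
    (hy : σ (ArSing.y k r) = ArSing.y k r)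
    (φ : ArSing.ring k (m - 1) →ₐ[k] ArSing.ring k r)
    (hφx : φ (ArSing.x k (m - 1)) = ArSing.x k r ^ 2)
    (hφy : φ (ArSing.y k (m - 1)) = ArSing.y k r) :
    (∀ a : ArSing.ring k r, σ a = a ↔ a ∈ φ.range) ∧
    (φ.toRingHom.Flat ∧ ∀ I : Ideal (ArSing.ring k (m - 1)), I.IsMaximal → Ideal.map φ I ≠ ⊤) ∧
    (∃ g : ArSing.ring k r, g ∈ nonZeroDivisors (ArSing.ring k r) ∧ Ideal.span (Set.range fun a : ArSing.ring k r => σ a - a) = Ideal.span {g}) ∧
    Module.length (ArSing.ring k r) (ArSing.ring k r ⧸ Ideal.span (Set.range fun a : ArSing.ring k r => σ a - a)) = 2 := by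
  have hσx : ∀ a, σ (ArSing.xMap k r a) = ArSing.xMap k r (RR k (-1) a) := by
    intro a
    exact map_xMap_of_smul k r (σ : ArSing.ring k r →ₐ[k] ArSing.ring k r) (-1)
      (by rw [neg_smul, one_smul]; exact hx) a
  have hσ : ∀ z, σ z = ArSing.xMap k r (RR k (-1) (cA k r z)) +
      ArSing.xMap k r (RR k (-1) (cB k r z)) * ArSing.y k r := by
    intro z
    conv_lhs => rw [decomp k r z]
    rw [map_add, map_mul, hσx, hσx, hy]
  have hcA : ∀ z, cA k r (σ z) = RR k (-1) (cA k r z) := fun z => by rw [hσ z, cA_xMap_add]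
  have hcB : ∀ z, cB k r (σ z) = RR k (-1) (cB k r z) := fun z => by rw [hσ z, cB_xMap_add]
  have hspan : Ideal.span (Set.range fun a : ArSing.ring k r => σ a - a) =
      Ideal.span {ArSing.x k r} := by
    apply le_antisymm
    · rw [Ideal.span_le]
      rintro _ ⟨a, rfl⟩
      rw [SetLike.mem_coe, mem_span_x_iff]
      show PowerSeries.X ∣ cA k r (σ a - a) ∧ PowerSeries.X ∣ cB k r (σ a - a)
      rw [map_sub, map_sub, hcA, hcB]
      exact ⟨X_dvd_RR_sub k _ _, X_dvd_RR_sub k _ _⟩
    · rw [Ideal.span_le, Set.singleton_subset_iff, SetLike.mem_coe,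
        eq_smul_of_neg k h2 (ArSing.x k r) (σ (ArSing.x k r)) hx]
      exact Submodule.smul_of_tower_mem _ _ (Ideal.subset_span ⟨ArSing.x k r, rfl⟩)
  refine ⟨?_, ⟨phi_flat k r (m - 1) φ hφx hφy, map_maximal_ne_top k r (m - 1) φ hφx hφy⟩,
    ⟨ArSing.x k r, x_mem_nonZeroDivisors k r, hspan⟩, ?_⟩
  · intro a
    constructor
    · intro h
      have hA := hcA a
      have hB := hcB a
      rw [h] at hA hB
      have hA' := (RR_neg_one_eq_self_iff k h2 _).mp hA.symm
      have hB' := (RR_neg_one_eq_self_iff k h2 _).mp hB.symm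
      rw [AlgHom.mem_range]
      refine ⟨ArSing.xMap k (m - 1) (ev k (cA k r a)) +
        ArSing.xMap k (m - 1) (ev k (cB k r a)) * ArSing.y k (m - 1), ?_⟩
      rw [phi_formula k r (m - 1) φ hφx hφy, cA_xMap_add, cB_xMap_add]
      conv_rhs => rw [decomp k r a, ev_od_decomp k (cA k r a), ev_od_decomp k (cB k r a), hA', hB']
      simp only [map_zero, mul_zero, add_zero]
    · intro h
      rw [AlgHom.mem_range] at h
      obtain ⟨w, rfl⟩ := h
      apply ext_coord
      · rw [hcA, cA_phi k r (m - 1) φ hφx hφy, RR_neg_one_eq_self_iff k h2, od_EE]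
      · rw [hcB, cB_phi k r (m - 1) φ hφx hφy, RR_neg_one_eq_self_iff k h2, od_EE]
  · rw [hspan]
    let f : ArSing.ring k r →ₗ[k] (k × k) :=
      { toFun := fun z => (PowerSeries.coeff 0 (cA k r z), PowerSeries.coeff 0 (cB k r z))
        map_add' := fun z w => by
          simp only [map_add, Prod.mk_add_mk]
        map_smul' := fun c z => by
          simp only [map_smul, RingHom.id_apply, Prod.smul_mk] }
    have hfapp : ∀ z, f z = (PowerSeries.constantCoeff (cA k r z),
        PowerSeries.constantCoeff (cB k r z)) := fun z => by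
      rw [← PowerSeries.coeff_zero_eq_constantCoeff_apply,
        ← PowerSeries.coeff_zero_eq_constantCoeff_apply]
      rfl
    have hf : Function.Surjective f := by
      rintro ⟨c, d⟩
      refine ⟨ArSing.xMap k r (PowerSeries.C c) + ArSing.xMap k r (PowerSeries.C d) * ArSing.y k r, ?_⟩
      rw [hfapp, cA_xMap_add, cB_xMap_add, PowerSeries.constantCoeff_C, PowerSeries.constantCoeff_C]
    have hker : ∀ z, f z = 0 ↔ z ∈ Ideal.span {ArSing.x k r} := by
      intro z
      rw [mem_span_x_iff, PowerSeries.X_dvd_iff, PowerSeries.X_dvd_iff, hfapp, Prod.mk_eq_zero]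
    rw [length_quot_eq_finrank k r _ f hf hker, Module.finrank_prod, Module.finrank_self]
    rfl

end Groth.Agent.Lib.T1H4.ArSingNegX
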