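import Mathlib
import Groth.Agent.Lib.T1H4ArSingNegX

/-! Helper library (helper4): the involution `x ↦ -x, y ↦ -y` of `A_r`, `r + 1` even. -/

set_option autoImplicit false

namespace Groth.Agent.Lib.T1H4.ArSingNegXY

open Groth.Agent.Lib.T1H4.ArSingNF Groth.Agent.Lib.T1H4.ArSingCore Groth.Agent.Lib.T1H4.ArSingHom
  Groth.Agent.Lib.T1H4.ArSingInv Groth.Agent.Lib.T1H4.ArSingNegX

universe u

variable (k : Type u) [Field k] (r s : ℕ)

lemma X_sq_dvd_cA_mul (hr : 1 ≤ r) (p q : ArSing.ring k r) (hp : aug k r p = 0)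
    (hq : aug k r q = 0) : (PowerSeries.X : PowerSeries k) ^ 2 ∣ cA k r (p * q) := by
  rw [aug_apply, ← PowerSeries.X_dvd_iff] at hp hq
  rw [cA_mul]
  apply dvd_add
  · rw [pow_two]
    exact mul_dvd_mul hp hq
  · exact Dvd.dvd.mul_left (pow_dvd_pow _ (by omega)) _

lemma X_dvd_cB_mul (p q : ArSing.ring k r) (hp : aug k r p = 0)
    (hq : aug k r q = 0) : (PowerSeries.X : PowerSeries k) ∣ cB k r (p * q) := by
  rw [aug_apply, ← PowerSeries.X_dvd_iff] at hp hq
  rw [cB_mul]
  exact dvd_add (Dvd.dvd.mul_right hp _) (Dvd.dvd.mul_left hq _)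

lemma not_X_sq_dvd_X : ¬ (PowerSeries.X : PowerSeries k) ^ 2 ∣ PowerSeries.X := by
  intro h
  have := (PowerSeries.X_pow_dvd_iff.mp h) 1 (by norm_num)
  rw [PowerSeries.coeff_one_X] at this
  exact one_ne_zero this

lemma syzygy_aug (a0 a1 : ArSing.ring k s)
    (h : ArSing.x k s * a0 + ArSing.y k s * a1 = 0) : aug k s a1 = 0 := by
  have h4 := congrArg (cB k s) h
  rw [map_add, map_zero, ← xMap_X, cB_xMap_mul, cB_mul, cA_y, cB_y, zero_mul, zero_add,
    one_mul] at h4
  rw [aug_apply, ← PowerSeries.X_dvd_iff]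
  refine ⟨-cB k s a0, ?_⟩
  rw [mul_neg]
  exact eq_neg_of_add_eq_zero_right h4

section phi

variable (φ : ArSing.ring k s →ₐ[k] ArSing.ring k r)
  (hφx : φ (ArSing.x k s) = ArSing.x k r ^ 2)
  (hφy : φ (ArSing.y k s) = ArSing.x k r * ArSing.y k r)

include hφx hφy

lemma phi_formula (w : ArSing.ring k s) :
    φ w = ArSing.xMap k r (EE k (cA k s w)) +
      ArSing.xMap k r (PowerSeries.X * EE k (cB k s w)) * ArSing.y k r := by
  conv_lhs => rw [decomp k s w]
  rw [map_add, map_mul, map_xMap_of_sq k r φ hφx, map_xMap_of_sq k r φ hφx, hφy, map_mul, xMap_X]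
  ring

lemma cA_phi (w : ArSing.ring k s) : cA k r (φ w) = EE k (cA k s w) := by
  rw [phi_formula k r s φ hφx hφy w, cA_xMap_add]

lemma cB_phi (w : ArSing.ring k s) : cB k r (φ w) = PowerSeries.X * EE k (cB k s w) := by
  rw [phi_formula k r s φ hφx hφy w, cB_xMap_add]

lemma phi_injective : Function.Injective φ := by
  rw [injective_iff_map_eq_zero]
  intro w hw
  have hA := cA_phi k r s φ hφx hφy w
  have hB := cB_phi k r s φ hφx hφy w
  rw [hw, map_zero] at hA hB
  apply ext_coord
  · rw [map_zero]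
    apply EE_injective k
    rw [← hA, map_zero]
  · rw [map_zero]
    apply EE_injective k
    rw [map_zero]
    exact (mul_eq_zero.mp hB.symm).resolve_left PowerSeries.X_ne_zero

lemma X_sq_dvd_cA_phi_mul (a : ArSing.ring k s) (ha : aug k s a = 0) (w : ArSing.ring k r) :
    (PowerSeries.X : PowerSeries k) ^ 2 ∣ cA k r (φ a * w) := by
  rw [aug_apply, ← PowerSeries.X_dvd_iff] at ha
  obtain ⟨q, hq⟩ := ha
  rw [cA_mul, cA_phi k r s φ hφx hφy, cB_phi k r s φ hφx hφy, hq, map_mul, EE_X]
  apply dvd_add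
  · exact Dvd.dvd.mul_right (Dvd.intro _ rfl) _
  · refine ⟨EE k (cB k s a) * cB k r w * PowerSeries.X ^ r, ?_⟩
    rw [pow_succ]
    ring

theorem phi_not_flat : ¬ φ.toRingHom.Flat := by
  intro hflat
  letI : Algebra (ArSing.ring k s) (ArSing.ring k r) := φ.toRingHom.toAlgebra
  have hsm : ∀ (a : ArSing.ring k s) (z : ArSing.ring k r), a • z = φ a * z := fun a z => rfl
  haveI : Module.Flat (ArSing.ring k s) (ArSing.ring k r) := hflat
  let f : Bool → ArSing.ring k s := fun b => cond b (ArSing.y k s) (ArSing.x k s)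
  let xx : Bool → ArSing.ring k r := fun b => cond b (-ArSing.x k r) (ArSing.y k r)
  have hrel : ∑ i, f i • xx i = 0 := by
    rw [Fintype.sum_bool]
    show ArSing.y k s • (-ArSing.x k r) + ArSing.x k s • ArSing.y k r = 0
    rw [hsm, hsm, hφx, hφy]
    ring
  have htriv : Module.IsTrivialRelation f xx :=
    Module.Flat.isTrivialRelation_of_sum_smul_eq_zero (R := ArSing.ring k s)
      (M := ArSing.ring k r) (f := f) (x := xx) hrel
  obtain ⟨K, a, yy, h1, h2⟩ := htriv
  have key : ∀ j, aug k s (a true j) = 0 := by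
    intro j
    have h3 := h2 j
    rw [Fintype.sum_bool] at h3
    apply syzygy_aug k s (a false j) (a true j)
    rw [add_comm]
    exact h3
  have hdiv : (PowerSeries.X : PowerSeries k) ^ 2 ∣ cA k r (xx true) := by
    rw [h1 true, map_sum]
    apply Finset.dvd_sum
    intro j _
    rw [hsm]
    exact X_sq_dvd_cA_phi_mul k r s φ hφx hφy _ (key j) _
  have e : xx true = -ArSing.x k r := rfl
  rw [e, map_neg, cA_x, dvd_neg] at hdiv
  exact not_X_sq_dvd_X k hdiv

end phi

theorem main (m : ℕ) (hr1 : 1 ≤ r) (h2 : (2 : k) ≠ 0)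
    (σ : ArSing.ring k r ≃ₐ[k] ArSing.ring k r) (hx : σ (ArSing.x k r) = -ArSing.x k r)
    (hy : σ (ArSing.y k r) = -ArSing.y k r)
    (φ : ArSing.ring k m →ₐ[k] ArSing.ring k r) (hφx : φ (ArSing.x k m) = ArSing.x k r ^ 2)
    (hφy : φ (ArSing.y k m) = ArSing.x k r * ArSing.y k r) :
    (∀ a : ArSing.ring k r, σ a = a ↔ a ∈ φ.range) ∧ Function.Injective φ ∧
    ¬ φ.toRingHom.Flat ∧
    Module.length (ArSing.ring k r) (ArSing.ring k r ⧸ Ideal.span (Set.range fun a : ArSing.ring k r => σ a - a)) = 1 ∧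
    ¬ (∃ g : ArSing.ring k r, g ∈ nonZeroDivisors (ArSing.ring k r) ∧ Ideal.span (Set.range fun a : ArSing.ring k r => σ a - a) = Ideal.span {g}) := by
  have hσx : ∀ a, σ (ArSing.xMap k r a) = ArSing.xMap k r (RR k (-1) a) := by
    intro a
    exact map_xMap_of_smul k r (σ : ArSing.ring k r →ₐ[k] ArSing.ring k r) (-1)
      (by rw [neg_smul, one_smul]; exact hx) a
  have hσ : ∀ z, σ z = ArSing.xMap k r (RR k (-1) (cA k r z)) +
      ArSing.xMap k r (-RR k (-1) (cB k r z)) * ArSing.y k r := by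
    intro z
    conv_lhs => rw [decomp k r z]
    rw [map_add, map_mul, hσx, hσx, hy, map_neg]
    ring
  have hcA : ∀ z, cA k r (σ z) = RR k (-1) (cA k r z) := fun z => by rw [hσ z, cA_xMap_add]
  have hcB : ∀ z, cB k r (σ z) = -RR k (-1) (cB k r z) := fun z => by rw [hσ z, cB_xMap_add]
  -- the ideal of the fixed locus is the kernel of the augmentation
  have hxI : ArSing.x k r ∈ Ideal.span (Set.range fun a : ArSing.ring k r => σ a - a) := by
    rw [eq_smul_of_neg k h2 (ArSing.x k r) (σ (ArSing.x k r)) hx]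
    exact Submodule.smul_of_tower_mem _ _ (Ideal.subset_span ⟨ArSing.x k r, rfl⟩)
  have hyI : ArSing.y k r ∈ Ideal.span (Set.range fun a : ArSing.ring k r => σ a - a) := by
    rw [eq_smul_of_neg k h2 (ArSing.y k r) (σ (ArSing.y k r)) hy]
    exact Submodule.smul_of_tower_mem _ _ (Ideal.subset_span ⟨ArSing.y k r, rfl⟩)
  have hI : ∀ z, aug k r z = 0 ↔
      z ∈ Ideal.span (Set.range fun a : ArSing.ring k r => σ a - a) := by
    intro z
    constructor
    · intro h
      rw [aug_apply, ← PowerSeries.X_dvd_iff] at h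
      obtain ⟨q, hq⟩ := h
      have e : z = ArSing.xMap k r q * ArSing.x k r + ArSing.xMap k r (cB k r z) * ArSing.y k r := by
        conv_lhs => rw [decomp k r z, hq, map_mul, xMap_X]
        ring
      rw [e]
      exact Ideal.add_mem _ (Ideal.mul_mem_left _ _ hxI) (Ideal.mul_mem_left _ _ hyI)
    · intro h
      have hle : Ideal.span (Set.range fun a : ArSing.ring k r => σ a - a) ≤
          RingHom.ker (aug k r) := by
        rw [Ideal.span_le]
        rintro _ ⟨a, rfl⟩
        rw [SetLike.mem_coe, RingHom.mem_ker]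
        show aug k r (σ a - a) = 0
        rw [map_sub, aug_apply, aug_apply, hcA, constantCoeff_RR, sub_self]
      exact (RingHom.mem_ker).mp (hle h)
  refine ⟨?_, ArSingNegXY.phi_injective k r m φ hφx hφy,
    ArSingNegXY.phi_not_flat k r m φ hφx hφy, ?_, ?_⟩
  · intro a
    constructor
    · intro h
      have hA := hcA a
      have hB := hcB a
      rw [h] at hA hB
      have hA' := (RR_neg_one_eq_self_iff k h2 _).mp hA.symm
      have hB' := (RR_neg_one_eq_neg_iff k h2 (cB k r a)).mp (neg_eq_iff_eq_neg.mpr hB).symm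
      rw [AlgHom.mem_range]
      refine ⟨ArSing.xMap k m (ev k (cA k r a)) +
        ArSing.xMap k m (od k (cB k r a)) * ArSing.y k m, ?_⟩
      rw [ArSingNegXY.phi_formula k r m φ hφx hφy, cA_xMap_add, cB_xMap_add]
      conv_rhs => rw [decomp k r a, ev_od_decomp k (cA k r a), ev_od_decomp k (cB k r a), hA', hB']
      simp only [map_zero, mul_zero, add_zero, zero_add]
    · intro h
      rw [AlgHom.mem_range] at h
      obtain ⟨w, rfl⟩ := h
      apply ext_coord
      · rw [hcA, ArSingNegXY.cA_phi k r m φ hφx hφy, RR_neg_one_eq_self_iff k h2, od_EE]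
      · rw [hcB, ArSingNegXY.cB_phi k r m φ hφx hφy, neg_eq_iff_eq_neg,
          RR_neg_one_eq_neg_iff k h2, ev_X_mul_EE]
  · have hf : Function.Surjective (aug k r).toLinearMap := by
      intro c
      exact ⟨algebraMap k _ c, by rw [AlgHom.toLinearMap_apply, AlgHom.commutes]; rfl⟩
    rw [length_quot_eq_finrank k r _ (aug k r).toLinearMap hf (fun z => by
      rw [AlgHom.toLinearMap_apply]; exact hI z), Module.finrank_self]
    rfl
  · rintro ⟨g, -, hg⟩
    rw [hg] at hxI hyI
    obtain ⟨u, hu⟩ := Ideal.mem_span_singleton'.mp hxI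
    obtain ⟨v, hv⟩ := Ideal.mem_span_singleton'.mp hyI
    have hg0 : aug k r g = 0 := by
      rw [hI, hg]
      exact Ideal.mem_span_singleton_self g
    -- `aug u = 0`
    have hu0 : aug k r u = 0 := by
      have hz : (aug k r v • u - aug k r u • v) * g =
          aug k r v • ArSing.x k r - aug k r u • ArSing.y k r := by
        rw [← hu, ← hv, sub_mul, smul_mul_assoc, smul_mul_assoc]
      have hp : aug k r (aug k r v • u - aug k r u • v) = 0 := by
        rw [map_sub, map_smul, map_smul, smul_eq_mul, smul_eq_mul, mul_comm, sub_self]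
      have h3 := X_dvd_cB_mul k r _ _ hp hg0
      rw [hz, map_sub, map_smul, map_smul, cB_x, cB_y, smul_zero, zero_sub, dvd_neg,
        PowerSeries.X_dvd_iff, ← PowerSeries.coeff_zero_eq_constantCoeff_apply, map_smul,
        PowerSeries.coeff_zero_eq_constantCoeff_apply, map_one, smul_eq_mul, mul_one] at h3
      exact h3
    have h4 := X_sq_dvd_cA_mul k r hr1 u g hu0 hg0
    rw [hu, cA_x] at h4
    exact not_X_sq_dvd_X k h4

end Groth.Agent.Lib.T1H4.ArSingNegXY
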