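import Mathlib
import Groth.Agent.Lib.T1H4ArSingInv

/-! Helper library (helper4): the involution `x ↦ x, y ↦ -y` of `A_r`. -/

set_option autoImplicit false

namespace Groth.Agent.Lib.T1H4.ArSingNegY

open Groth.Agent.Lib.T1H4.ArSingNF Groth.Agent.Lib.T1H4.ArSingCore Groth.Agent.Lib.T1H4.ArSingHom
  Groth.Agent.Lib.T1H4.ArSingInv

universe u

variable (k : Type u) [Field k] (r : ℕ)

theorem xMap_flat : (ArSing.xMap k r).toRingHom.Flat := by
  letI : Algebra (PowerSeries k) (ArSing.ring k r) := (ArSing.xMap k r).toRingHom.toAlgebra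
  have hsm : ∀ (a : PowerSeries k) (z : ArSing.ring k r), a • z = ArSing.xMap k r a * z :=
    fun a z => rfl
  let e : ArSing.ring k r ≃ₗ[PowerSeries k] (PowerSeries k × PowerSeries k) :=
    { toFun := fun z => (cA k r z, cB k r z)
      map_add' := fun z w => by simp only [map_add, Prod.mk_add_mk]
      map_smul' := fun a z => by
        simp only [hsm, cA_xMap_mul, cB_xMap_mul, RingHom.id_apply, Prod.smul_mk, smul_eq_mul]
      invFun := fun p => ArSing.xMap k r p.1 + ArSing.xMap k r p.2 * ArSing.y k r
      left_inv := fun z => (decomp k r z).symm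
      right_inv := fun p => by simp only [cA_xMap_add, cB_xMap_add] }
  show Module.Flat (PowerSeries k) (ArSing.ring k r)
  exact Module.Flat.of_linearEquiv e

theorem map_maximalIdeal_ne_top :
    Ideal.map (ArSing.xMap k r) (IsLocalRing.maximalIdeal (PowerSeries k)) ≠ ⊤ := by
  intro h
  have h1 : Ideal.map (ArSing.xMap k r) (IsLocalRing.maximalIdeal (PowerSeries k)) ≤
      IsLocalRing.maximalIdeal (ArSing.ring k r) := by
    rw [Ideal.map_le_iff_le_comap]
    intro a ha
    rw [Ideal.mem_comap, mem_maximalIdeal_iff, aug_apply, cA_xMap]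
    rw [IsLocalRing.mem_maximalIdeal, mem_nonunits_iff, PowerSeries.isUnit_iff_constantCoeff,
      isUnit_iff_ne_zero, not_not] at ha
    exact ha
  rw [h] at h1
  exact (IsLocalRing.maximalIdeal.isMaximal _).ne_top (top_le_iff.mp h1)

lemma RR_one (a : PowerSeries k) : RR k 1 a = a := by
  ext n
  rw [coeff_RR, one_pow, one_mul]

theorem main (h2 : (2 : k) ≠ 0)
    (σ : ArSing.ring k r ≃ₐ[k] ArSing.ring k r) (hx : σ (ArSing.x k r) = ArSing.x k r)
    (hy : σ (ArSing.y k r) = -ArSing.y k r) :
    (∀ a : ArSing.ring k r, σ a = a ↔ a ∈ (ArSing.xMap k r).range) ∧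
    ((ArSing.xMap k r).toRingHom.Flat ∧
      Ideal.map (ArSing.xMap k r) (IsLocalRing.maximalIdeal (PowerSeries k)) ≠ ⊤) ∧
    (∃ g : ArSing.ring k r, g ∈ nonZeroDivisors (ArSing.ring k r) ∧
      Ideal.span (Set.range fun a : ArSing.ring k r => σ a - a) = Ideal.span {g}) ∧
    Module.length (ArSing.ring k r)
      (ArSing.ring k r ⧸ Ideal.span (Set.range fun a : ArSing.ring k r => σ a - a)) = r + 1 := by
  have hσx : ∀ a, σ (ArSing.xMap k r a) = ArSing.xMap k r a := by
    intro a
    have := map_xMap_of_smul k r (σ : ArSing.ring k r →ₐ[k] ArSing.ring k r) 1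
      (by rw [one_smul]; exact hx) a
    rw [RR_one] at this
    exact this
  have hσ : ∀ z, σ z = ArSing.xMap k r (cA k r z) - ArSing.xMap k r (cB k r z) * ArSing.y k r := by
    intro z
    conv_lhs => rw [decomp k r z]
    rw [map_add, map_mul, hσx, hσx, hy]
    ring
  have hspan : Ideal.span (Set.range fun a : ArSing.ring k r => σ a - a) =
      Ideal.span {ArSing.y k r} := by
    apply le_antisymm
    · rw [Ideal.span_le]
      rintro _ ⟨a, rfl⟩
      rw [SetLike.mem_coe, Ideal.mem_span_singleton']
      refine ⟨-ArSing.xMap k r (cB k r a) - ArSing.xMap k r (cB k r a), ?_⟩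
      show _ = σ a - a
      rw [hσ a]
      conv_rhs => rw [decomp k r a]
      rw [cA_xMap_add, cB_xMap_add]
      ring
    · rw [Ideal.span_le, Set.singleton_subset_iff, SetLike.mem_coe]
      have h1 : ArSing.y k r = (-(2 : k)⁻¹) • (σ (ArSing.y k r) - ArSing.y k r) := by
        have h3 : σ (ArSing.y k r) - ArSing.y k r = (-2 : k) • ArSing.y k r := by
          rw [hy, neg_smul, two_smul]
          abel
        rw [h3, smul_smul]
        have : -(2 : k)⁻¹ * -2 = 1 := by
          rw [neg_mul_neg, inv_mul_cancel₀ h2]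
        rw [this, one_smul]
      rw [h1]
      exact Submodule.smul_of_tower_mem _ _ (Ideal.subset_span ⟨ArSing.y k r, rfl⟩)
  refine ⟨?_, ⟨xMap_flat k r, map_maximalIdeal_ne_top k r⟩,
    ⟨ArSing.y k r, y_mem_nonZeroDivisors k r, hspan⟩, ?_⟩
  · intro a
    constructor
    · intro h
      have hB := congrArg (cB k r) h
      have e : ArSing.xMap k r (cA k r a) - ArSing.xMap k r (cB k r a) * ArSing.y k r =
          ArSing.xMap k r (cA k r a) + ArSing.xMap k r (-cB k r a) * ArSing.y k r := by
        rw [map_neg]; ring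
      rw [hσ a, e, cB_xMap_add] at hB
      have hB0 : cB k r a = 0 := by
        apply two_mul_eq_zero k h2
        nth_rewrite 1 [← hB]
        exact neg_add_cancel _
      rw [AlgHom.mem_range]
      refine ⟨cA k r a, ?_⟩
      conv_rhs => rw [decomp k r a, hB0, map_zero, zero_mul, add_zero]
    · rintro ⟨p, rfl⟩
      exact hσx p
  · rw [hspan]
    let f : ArSing.ring k r →ₗ[k] (Fin (r + 1) → k) :=
      { toFun := fun z i => PowerSeries.coeff (i : ℕ) (cA k r z)
        map_add' := fun z w => by
          ext i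
          simp only [map_add, Pi.add_apply]
        map_smul' := fun c z => by
          ext i
          simp only [map_smul, Pi.smul_apply, RingHom.id_apply] }
    have hfapp : ∀ z i, f z i = PowerSeries.coeff (i : ℕ) (cA k r z) := fun z i => rfl
    have hf : Function.Surjective f := by
      intro v
      refine ⟨ArSing.xMap k r (PowerSeries.mk fun n => if h : n < r + 1 then v ⟨n, h⟩ else 0), ?_⟩
      ext i
      rw [hfapp, cA_xMap, PowerSeries.coeff_mk, dif_pos i.2]
    have hker : ∀ z, f z = 0 ↔ z ∈ Ideal.span {ArSing.y k r} := by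
      intro z
      rw [mem_span_y_iff, PowerSeries.X_pow_dvd_iff]
      constructor
      · intro h n hn
        exact congrFun h ⟨n, hn⟩
      · intro h
        ext i
        exact h i i.2
    rw [length_quot_eq_finrank k r _ f hf hker, Module.finrank_fin_fun]
    push_cast
    rfl

end Groth.Agent.Lib.T1H4.ArSingNegY
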