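import Mathlib

/-! Helper library for S15173 (helper4): unbounded finite subgroups of `Aˣ / Kˣ` when `A` contains a
purely inseparable element of degree `p`. -/

set_option autoImplicit false

namespace Groth.Agent.Lib.T1H4.BddFinInsep

open Polynomial
open scoped IsMulCommutative

/-- Abstract group-theoretic core: a finite set `T` of pairwise commuting elements whose `p`-th powers
lie in a normal subgroup `Z` and whose classes modulo `Z` are distinct generates, together with `Z`,
a subgroup in which `Z` has finite index at least `T.card`. -/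
theorem exists_subgroup_relIndex {G : Type*} [Group G] (Z : Subgroup G) [Z.Normal]
    (T : Finset G) (hcomm : ∀ x ∈ (T : Set G), ∀ y ∈ (T : Set G), x * y = y * x)
    (p : ℕ) (hp : 0 < p) (hpow : ∀ s ∈ T, s ^ p ∈ Z)
    (hinj : ∀ x ∈ T, ∀ y ∈ T, x⁻¹ * y ∈ Z → x = y) (N : ℕ) (hN : N < T.card) :
    ∃ H : Subgroup G, Z ≤ H ∧ N < Z.relIndex H := by
  classical
  set π : G →* G ⧸ Z := QuotientGroup.mk' Z with hπ
  set M : Subgroup G := Subgroup.closure (T : Set G) with hM
  set Q : Subgroup (G ⧸ Z) := M.map π with hQ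
  refine ⟨Q.comap π, ?_, ?_⟩
  · intro z hz
    rw [Subgroup.mem_comap]
    have : π z = 1 := (QuotientGroup.eq_one_iff z).mpr hz
    rw [this]; exact one_mem _
  have hZ : Z = (⊥ : Subgroup (G ⧸ Z)).comap π := by
    ext z
    rw [Subgroup.mem_comap, Subgroup.mem_bot]
    exact (QuotientGroup.eq_one_iff z).symm
  have hrel : Z.relIndex (Q.comap π) = Nat.card Q := by
    rw [show Z.relIndex (Q.comap π) = ((⊥ : Subgroup (G ⧸ Z)).comap π).relIndex (Q.comap π) from
      congrArg (fun S => Subgroup.relIndex S (Q.comap π)) hZ]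
    rw [Subgroup.relIndex_comap,
      Subgroup.map_comap_eq_self_of_surjective (QuotientGroup.mk'_surjective Z),
      Subgroup.relIndex_bot_left]
  rw [hrel]
  -- finiteness of Q
  haveI : IsMulCommutative M := Subgroup.isMulCommutative_closure hcomm
  haveI : Group.FG M := (Group.fg_iff_subgroup_fg M).mpr ⟨T, rfl⟩
  set ψ : M →* G ⧸ Z := π.comp M.subtype with hψ
  have hrange : ψ.range = Q := by
    ext q
    constructor
    · rintro ⟨m, rfl⟩
      exact ⟨m.1, m.2, rfl⟩
    · rintro ⟨g, hg, rfl⟩
      exact ⟨⟨g, hg⟩, rfl⟩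
  have hpowM : ∀ m : M, (m : G) ^ p ∈ Z := by
    set P : Subgroup M := (Z.subgroupOf M).comap (powMonoidHom p : M →* M) with hP
    have h1 : Subgroup.closure (((↑) : M → G) ⁻¹' (T : Set G)) = ⊤ :=
      Subgroup.closure_closure_coe_preimage
    have h2 : Subgroup.closure (((↑) : M → G) ⁻¹' (T : Set G)) ≤ P := by
      rw [Subgroup.closure_le]
      intro x hx
      have : (x : G) ∈ T := hx
      have h3 := hpow _ this
      change (powMonoidHom p : M →* M) x ∈ Z.subgroupOf M
      rw [Subgroup.mem_subgroupOf]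
      simpa using h3
    intro m
    have hm : m ∈ P := h2 (h1 ▸ Subgroup.mem_top m)
    have : (powMonoidHom p : M →* M) m ∈ Z.subgroupOf M := hm
    rw [Subgroup.mem_subgroupOf] at this
    simpa using this
  have htors : IsMulTorsion (M ⧸ ψ.ker) := by
    intro q
    induction q using QuotientGroup.induction_on with
    | H m =>
      rw [isOfFinOrder_iff_pow_eq_one]
      refine ⟨p, hp, ?_⟩
      rw [← QuotientGroup.mk_pow, QuotientGroup.eq_one_iff, MonoidHom.mem_ker]
      change π ((m ^ p : M) : G) = 1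
      rw [hπ, QuotientGroup.mk'_apply, QuotientGroup.eq_one_iff]
      simpa using hpowM m
  haveI : Finite (M ⧸ ψ.ker) := CommGroup.finite_of_fg_isMulTorsion _ htors
  haveI : Finite ψ.range := Finite.of_equiv _ (QuotientGroup.quotientKerEquivRange ψ).toEquiv
  haveI : Finite Q := hrange ▸ this
  -- lower bound
  let ι : T → Q := fun t => ⟨π t.1, Subgroup.mem_map_of_mem π (Subgroup.subset_closure t.2)⟩
  have hι : Function.Injective ι := by
    intro x y hxy
    have h1 : π x.1 = π y.1 := congrArg Subtype.val hxy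
    rw [hπ, QuotientGroup.mk'_apply, QuotientGroup.mk'_apply, QuotientGroup.eq] at h1
    exact Subtype.ext (hinj _ x.2 _ y.2 h1)
  have := Nat.card_le_card_of_injective ι hι
  rw [Nat.card_eq_fintype_card, Fintype.card_coe] at this
  omega

/-- A field containing all roots of unity in characteristic `p` has arbitrarily large finite subsets. -/
theorem exists_finset_card (K : Type*) [Field K] (p : ℕ) [Fact p.Prime] [CharP K p]
    (hK : ∀ n : ℕ, 0 < n → (X ^ n - 1 : K[X]).Splits) (N : ℕ) :
    ∃ T : Finset K, N < T.card := by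
  classical
  set n : ℕ := p * (N + 1) + 1 with hn
  have hn0 : 0 < n := by omega
  have hnK : (n : K) ≠ 0 := by
    rw [hn]; push_cast
    rw [CharP.cast_eq_zero K p]; simp
  have hsep : (X ^ n - C (1 : K) : K[X]).Separable := separable_X_pow_sub_C 1 hnK one_ne_zero
  have hsplit : (X ^ n - C (1 : K) : K[X]).Splits := by simpa using hK n hn0
  refine ⟨(X ^ n - C (1 : K) : K[X]).roots.toFinset, ?_⟩
  rw [Multiset.toFinset_card_of_nodup (nodup_roots hsep), ← hsplit.natDegree_eq_card_roots,
    natDegree_X_pow_sub_C]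
  have : 1 ≤ p := (Fact.out : p.Prime).one_lt.le
  nlinarith

section alg

variable {K : Type*} [Field K] {A : Type*} [DivisionRing A] [Algebra K A]

theorem one_add_smul_ne_zero {w : A} (hwK : w ∉ (algebraMap K A).range) (a : K) :
    (1 : A) + a • w ≠ 0 := by
  intro h
  by_cases ha : a = 0
  · rw [ha, zero_smul, add_zero] at h
    exact one_ne_zero h
  · apply hwK
    refine ⟨-a⁻¹, ?_⟩
    have h1 : a • w = -1 := by
      rw [← sub_eq_zero, sub_neg_eq_add, add_comm]; exact h
    have h2 : w = a⁻¹ • (a • w) := by rw [smul_smul, inv_mul_cancel₀ ha, one_smul]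
    rw [h2, h1, Algebra.algebraMap_eq_smul_one, smul_neg, neg_smul]

theorem eq_of_one_add_smul_eq {w : A} (hwK : w ∉ (algebraMap K A).range) (a b c : K)
    (h : (1 : A) + b • w = (1 + a • w) * algebraMap K A c) : a = b := by
  have h1 : (b - c * a) • w = algebraMap K A (c - 1) := by
    rw [sub_smul, map_sub, map_one]
    have : (1 + a • w) * algebraMap K A c = algebraMap K A c + (c * a) • w := by
      rw [add_mul, one_mul, ← Algebra.commutes, Algebra.smul_def, Algebra.smul_def, map_mul,
        mul_assoc]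
    rw [this] at h
    have h2 : b • w - (c * a) • w = algebraMap K A c - 1 := by
      rw [sub_eq_sub_iff_add_eq_add, add_comm, h]
    exact h2
  by_cases h0 : b - c * a = 0
  · rw [h0, zero_smul] at h1
    have h3 : c - 1 = 0 := by
      have := (algebraMap K A).injective (a₁ := c - 1) (a₂ := 0)
      apply this; rw [map_zero, ← h1]
    have hc : c = 1 := sub_eq_zero.mp h3
    rw [hc, one_mul, sub_eq_zero] at h0
    exact h0.symm
  · exfalso
    apply hwK
    refine ⟨(b - c * a)⁻¹ * (c - 1), ?_⟩
    have h2 : w = (b - c * a)⁻¹ • ((b - c * a) • w) := by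
      rw [smul_smul, inv_mul_cancel₀ h0, one_smul]
    rw [h2, h1, Algebra.smul_def, map_mul]

end alg

theorem main
    (K : Type*) [Field K] (p : ℕ) [Fact p.Prime] [CharP K p]
    (hK : ∀ n : ℕ, 0 < n → (X ^ n - 1 : K[X]).Splits)
    (A : Type*) [DivisionRing A] [Algebra K A]
    (w : A) (hw : w ^ p ∈ (algebraMap K A).range) (hwK : w ∉ (algebraMap K A).range) (N : ℕ) :
    ∃ H : Subgroup Aˣ, (Units.map (algebraMap K A : K →* A)).range ≤ H ∧
      N < ((Units.map (algebraMap K A : K →* A)).range).relIndex H := by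
  classical
  set Z : Subgroup Aˣ := (Units.map (algebraMap K A : K →* A)).range with hZ
  haveI : Z.Normal := by
    refine ⟨fun n hn g => ?_⟩
    obtain ⟨c, rfl⟩ := hn
    refine ⟨c, ?_⟩
    apply Units.ext
    simp only [Units.val_mul, Units.coe_map, MonoidHom.coe_coe]
    rw [← Algebra.commutes, mul_assoc, ← Units.val_mul, mul_inv_cancel, Units.val_one, mul_one]
  have hmemZ : ∀ x : Aˣ, (x : A) ∈ (algebraMap K A).range → x ∈ Z := by
    rintro x ⟨c, hc⟩
    have hc0 : c ≠ 0 := by
      rintro rfl
      rw [map_zero] at hc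
      exact x.ne_zero hc.symm
    exact ⟨Units.mk0 c hc0, Units.ext (by simpa using hc)⟩
  haveI : CharP A p := charP_of_injective_algebraMap (algebraMap K A).injective p
  let uu : K → Aˣ := fun a => Units.mk0 (1 + a • w) (one_add_smul_ne_zero hwK a)
  have huu : ∀ a, ((uu a : Aˣ) : A) = 1 + a • w := fun a => rfl
  have hinjK : ∀ a b : K, (uu a)⁻¹ * uu b ∈ Z → a = b := by
    intro a b hab
    obtain ⟨c, hc⟩ := hab
    have h1 : uu b = uu a * Units.map (algebraMap K A : K →* A) c := by
      rw [hc, mul_inv_cancel_left]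
    have h2 := congrArg Units.val h1
    rw [Units.val_mul, huu, huu] at h2
    exact eq_of_one_add_smul_eq hwK a b c h2
  obtain ⟨T0, hT0⟩ := exists_finset_card K p hK N
  have huuinj : Function.Injective uu := by
    intro a b hab
    apply hinjK
    rw [hab, inv_mul_cancel]; exact one_mem _
  obtain ⟨k0, hk0⟩ := hw
  refine exists_subgroup_relIndex Z (T0.image uu) ?_ p (Fact.out : p.Prime).pos ?_ ?_ N ?_
  · intro x hx y hy
    rw [Finset.coe_image] at hx hy
    obtain ⟨a, -, rfl⟩ := hx
    obtain ⟨b, -, rfl⟩ := hy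
    apply Units.ext
    rw [Units.val_mul, Units.val_mul, huu, huu]
    have h1 : Commute (a • w) (b • w) := ((Commute.refl w).smul_left a).smul_right b
    exact Commute.add_left (Commute.one_left _) (Commute.add_right (Commute.one_right _) h1)
  · intro s hs
    rw [Finset.mem_image] at hs
    obtain ⟨a, -, rfl⟩ := hs
    apply hmemZ
    rw [Units.val_pow_eq_pow_val, huu, add_pow_char_of_commute p (Commute.one_left _), one_pow,
      _root_.smul_pow, ← hk0]
    exact ⟨1 + a ^ p * k0, by rw [map_add, map_one, map_mul, Algebra.smul_def]⟩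
  · intro x hx y hy hxy
    rw [Finset.mem_image] at hx hy
    obtain ⟨a, -, rfl⟩ := hx
    obtain ⟨b, -, rfl⟩ := hy
    rw [hinjK a b hxy]
  · rw [Finset.card_image_of_injective _ huuinj]; exact hT0

end Groth.Agent.Lib.T1H4.BddFinInsep
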