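import Mathlib

/-!
# Two refinement morphisms induce simplicially homotopic maps of Cech objects

For `f g : 𝒰 ⟶ 𝒰'` in `FormalCoproduct C`, the maps `cechFunctor.map f` and `cechFunctor.map g`
are simplicially homotopic, via `h i (x₀, …, xₙ) = (f x₀, …, f xᵢ, g xᵢ, …, g xₙ)`.
-/

set_option autoImplicit false
universe w v u

namespace Groth.Agent.Lib.T1H4.CechHtpy

open CategoryTheory CategoryTheory.Limits Simplicial SimplexCategory Opposite

section FinLemmas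

lemma predAbove_val {n : ℕ} (i : Fin n) (a : Fin (n + 1)) :
    (i.predAbove a).val = if a.val ≤ i.val then a.val else a.val - 1 := by
  unfold Fin.predAbove
  split_ifs with h1 h2 h2
  · exfalso; rw [Fin.lt_def] at h1; simp at h1; omega
  · simp
  · simp
  · exfalso; rw [Fin.lt_def] at h1; simp at h1; omega

lemma succAbove_val {n : ℕ} (j : Fin (n + 1)) (b : Fin n) :
    (j.succAbove b).val = if b.val < j.val then b.val else b.val + 1 := by
  unfold Fin.succAbove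
  split_ifs with h1 h2 h2
  · simp
  · exfalso; rw [Fin.lt_def] at h1; simp at h1; omega
  · exfalso; rw [Fin.lt_def] at h1; simp at h1; omega
  · simp

end FinLemmas

variable {C : Type u} [Category.{v} C] [HasFiniteProducts C]
variable {𝒰 𝒰' : FormalCoproduct.{w} C} (f g : 𝒰 ⟶ 𝒰')

/-- the projection from the `n`-th Cech object -/
noncomputable def pr (𝒱 : FormalCoproduct.{w} C) (n : ℕ) (a : Fin (n + 1)) : 𝒱.cech _⦋n⦌ ⟶ 𝒱 :=
  𝒱.powerπ (α := Fin (n + 1)) a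

lemma δ_pr (𝒱 : FormalCoproduct.{w} C) {n : ℕ} (i : Fin (n + 2)) (a : Fin (n + 1)) :
    𝒱.cech.δ i ≫ pr 𝒱 n a = pr 𝒱 (n + 1) (i.succAbove a) :=
  FormalCoproduct.mapPower_π 𝒱 (Hom.toOrderHom (δ i)).toFun a

lemma σ_pr (𝒱 : FormalCoproduct.{w} C) {n : ℕ} (i : Fin (n + 1)) (a : Fin (n + 2)) :
    𝒱.cech.σ i ≫ pr 𝒱 (n + 1) a = pr 𝒱 n (i.predAbove a) :=
  FormalCoproduct.mapPower_π 𝒱 (Hom.toOrderHom (σ i)).toFun a

set_option backward.defeqAttrib.useBackward true in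
set_option backward.isDefEq.respectTransparency false in
omit [HasFiniteProducts C] in
lemma powerMap_π (α : Type) [HasProductsOfShape α C] (a : α) :
    FormalCoproduct.powerMap f α ≫ 𝒰'.powerπ a = 𝒰.powerπ a ≫ f := by
  ext <;> simp

lemma map_pr (n : ℕ) (a : Fin (n + 1)) :
    (FormalCoproduct.cechFunctor.map f).app (op ⦋n⦌) ≫ pr 𝒰' n a = pr 𝒰 n a ≫ f :=
  powerMap_π f (Fin (n + 1)) a

/-- the components of the homotopy -/
noncomputable def hh {n : ℕ} (i : Fin (n + 1)) : 𝒰.cech _⦋n⦌ ⟶ 𝒰'.cech _⦋n + 1⦌ :=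
  (𝒰'.isLimitPowerFan (Fin (n + 2))).lift
    (Fan.mk _ (fun a : Fin (n + 2) =>
      pr 𝒰 n (i.predAbove a) ≫ (if a.val ≤ i.val then f else g)))

lemma hh_pr {n : ℕ} (i : Fin (n + 1)) (a : Fin (n + 2)) :
    hh f g i ≫ pr 𝒰' (n + 1) a = pr 𝒰 n (i.predAbove a) ≫ (if a.val ≤ i.val then f else g) :=
  (𝒰'.isLimitPowerFan (Fin (n + 2))).fac _ ⟨a⟩

lemma pr_hom_ext {𝒱 : FormalCoproduct.{w} C} {n : ℕ}
    {Z : FormalCoproduct.{w} C} {p q : Z ⟶ 𝒱.cech _⦋n⦌}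
    (h : ∀ a, p ≫ pr 𝒱 n a = q ≫ pr 𝒱 n a) : p = q :=
  (𝒱.isLimitPowerFan (Fin (n + 1))).hom_ext (fun ⟨a⟩ => h a)

lemma pr_congr {n : ℕ} {a b : Fin (n + 1)} (hab : a = b) {φ ψ : 𝒰 ⟶ 𝒰'}
    (h : φ = ψ) : pr 𝒰 n a ≫ φ = pr 𝒰 n b ≫ ψ := by
  subst hab; subst h; rfl

end Groth.Agent.Lib.T1H4.CechHtpy
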