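import Mathlib
import Groth.Agent.Lib.T1H4CechHtpyA

/-!
# The simplicial homotopy between the Cech maps of two refinements
-/

set_option autoImplicit false
universe w v u

namespace Groth.Agent.Lib.T1H4.CechHtpy

open CategoryTheory CategoryTheory.Limits Simplicial SimplexCategory Opposite

variable {C : Type u} [Category.{v} C] [HasFiniteProducts C]
variable {𝒰 𝒰' : FormalCoproduct.{w} C} (f g : 𝒰 ⟶ 𝒰')

omit [HasFiniteProducts C] in
lemma ite_congr' {c c' : Prop} [Decidable c] [Decidable c'] (h : c ↔ c') :
    (if c then f else g) = (if c' then f else g) := if_congr h rfl rfl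

lemma hδ_pr {n : ℕ} (j : Fin (n + 1)) (i : Fin (n + 2)) (b : Fin (n + 1)) :
    (hh f g j ≫ 𝒰'.cech.δ i) ≫ pr 𝒰' n b =
      pr 𝒰 n (j.predAbove (i.succAbove b)) ≫
        (if (i.succAbove b).val ≤ j.val then f else g) := by
  rw [Category.assoc, δ_pr, hh_pr]

lemma δh_pr {n : ℕ} (i : Fin (n + 2)) (j : Fin (n + 1)) (b : Fin (n + 2)) :
    (𝒰.cech.δ i ≫ hh f g j) ≫ pr 𝒰' (n + 1) b =
      pr 𝒰 (n + 1) (i.succAbove (j.predAbove b)) ≫ (if b.val ≤ j.val then f else g) := by
  rw [Category.assoc, hh_pr, ← Category.assoc, δ_pr]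

lemma hσ_pr {n : ℕ} (j : Fin (n + 1)) (i : Fin (n + 2)) (b : Fin (n + 3)) :
    (hh f g j ≫ 𝒰'.cech.σ i) ≫ pr 𝒰' (n + 2) b =
      pr 𝒰 n (j.predAbove (i.predAbove b)) ≫
        (if (i.predAbove b).val ≤ j.val then f else g) := by
  rw [Category.assoc, σ_pr, hh_pr]

lemma σh_pr {n : ℕ} (i : Fin (n + 1)) (j : Fin (n + 2)) (b : Fin (n + 3)) :
    (𝒰.cech.σ i ≫ hh f g j) ≫ pr 𝒰' (n + 2) b =
      pr 𝒰 n (i.predAbove (j.predAbove b)) ≫ (if b.val ≤ j.val then f else g) := by
  rw [Category.assoc, hh_pr, ← Category.assoc, σ_pr]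

/-- the simplicial homotopy between `cech f` and `cech g` -/
noncomputable def cechHomotopy :
    SimplicialObject.Homotopy (FormalCoproduct.cechFunctor.map f)
      (FormalCoproduct.cechFunctor.map g) where
  h i := hh f g i
  h_zero_comp_δ_zero n := by
    apply pr_hom_ext
    intro b
    refine (hδ_pr f g 0 0 b).trans ?_
    refine Eq.trans ?_ (map_pr g n b).symm
    rw [if_neg]
    · apply pr_congr _ rfl
      apply Fin.ext
      rw [predAbove_val, succAbove_val]
      simp
    · rw [succAbove_val]; simp
  h_last_comp_δ_last n := by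
    apply pr_hom_ext
    intro b
    refine (hδ_pr f g (Fin.last n) (Fin.last (n + 1)) b).trans ?_
    refine Eq.trans ?_ (map_pr f n b).symm
    have hb := b.isLt
    rw [if_pos]
    · apply pr_congr _ rfl
      apply Fin.ext
      rw [predAbove_val, succAbove_val]
      simp only [Fin.val_last]
      split_ifs <;> omega
    · rw [succAbove_val]
      simp only [Fin.val_last]
      split_ifs <;> omega
  h_succ_comp_δ_castSucc_of_lt {n} i j hij := by
    apply pr_hom_ext
    intro b
    refine (hδ_pr f g j.succ i.castSucc b).trans ?_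
    refine Eq.trans ?_ (δh_pr f g i j b).symm
    have hij' : i.val ≤ j.val := by simpa [Fin.le_def] using hij
    have hb := b.isLt
    have hj := j.isLt
    apply pr_congr
    · apply Fin.ext
      simp only [predAbove_val, succAbove_val, Fin.val_succ, Fin.val_castSucc]
      split_ifs <;> omega
    · apply ite_congr'
      simp only [succAbove_val, Fin.val_succ, Fin.val_castSucc]
      split_ifs <;> omega
  h_succ_comp_δ_castSucc_succ {n} j := by
    apply pr_hom_ext
    intro b
    refine (hδ_pr f g j.succ j.castSucc.succ b).trans ?_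
    refine Eq.trans ?_ (hδ_pr f g j.castSucc j.castSucc.succ b).symm
    have hb := b.isLt
    have hj := j.isLt
    apply pr_congr
    · apply Fin.ext
      simp only [predAbove_val, succAbove_val, Fin.val_succ, Fin.val_castSucc]
      split_ifs <;> omega
    · apply ite_congr'
      simp only [succAbove_val, Fin.val_succ, Fin.val_castSucc]
      split_ifs <;> omega
  h_castSucc_comp_δ_succ_of_lt {n} i j hji := by
    apply pr_hom_ext
    intro b
    refine (hδ_pr f g j.castSucc i.succ b).trans ?_
    refine Eq.trans ?_ (δh_pr f g i j b).symm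
    have hji' : j.val < i.val := by simpa [Fin.lt_def] using hji
    have hb := b.isLt
    have hj := j.isLt
    have hi := i.isLt
    apply pr_congr
    · apply Fin.ext
      simp only [predAbove_val, succAbove_val, Fin.val_succ, Fin.val_castSucc]
      split_ifs <;> omega
    · apply ite_congr'
      simp only [succAbove_val, Fin.val_succ, Fin.val_castSucc]
      split_ifs <;> omega
  h_comp_σ_castSucc_of_le {n} i j hij := by
    apply pr_hom_ext
    intro b
    refine (hσ_pr f g j i.castSucc b).trans ?_
    refine Eq.trans ?_ (σh_pr f g i j.succ b).symm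
    have hij' : i.val ≤ j.val := Fin.le_def.1 hij
    have hb := b.isLt
    have hj := j.isLt
    have hi := i.isLt
    apply pr_congr
    · apply Fin.ext
      simp only [predAbove_val, Fin.val_succ, Fin.val_castSucc]
      split_ifs <;> omega
    · apply ite_congr'
      simp only [predAbove_val, Fin.val_succ, Fin.val_castSucc]
      split_ifs <;> omega
  h_comp_σ_succ_of_lt {n} i j hji := by
    apply pr_hom_ext
    intro b
    refine (hσ_pr f g j i.succ b).trans ?_
    refine Eq.trans ?_ (σh_pr f g i j.castSucc b).symm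
    have hji' : j.val ≤ i.val := Fin.le_def.1 hji
    have hb := b.isLt
    have hj := j.isLt
    have hi := i.isLt
    apply pr_congr
    · apply Fin.ext
      simp only [predAbove_val, Fin.val_succ, Fin.val_castSucc]
      split_ifs <;> omega
    · apply ite_congr'
      simp only [predAbove_val, Fin.val_succ, Fin.val_castSucc]
      split_ifs <;> omega

end Groth.Agent.Lib.T1H4.CechHtpy
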