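import Mathlib

/-!
# A simplicial homotopy induces a cochain homotopy after applying a contravariant functor

For a simplicial homotopy `H` between `φ ψ : E ⟶ E'` in `SimplicialObject D` and a functor
`Φ : Dᵒᵖ ⥤ A` to a preadditive category, the induced maps between alternating coface map complexes
of the cosimplicial objects `E'.rightOp ⋙ Φ ⟶ E.rightOp ⋙ Φ` are homotopic.
-/

set_option autoImplicit false
universe v₁ u₁ v₂ u₂

namespace Groth.Agent.Lib.T1H4.CechHtpy

open CategoryTheory CategoryTheory.Limits Simplicial SimplexCategory Opposite AlgebraicTopology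

variable {D : Type u₁} [Category.{v₁} D] {A : Type u₂} [Category.{v₂} A] [Preadditive A]
variable (Φ : Dᵒᵖ ⥤ A)

/-- the cosimplicial object `n ↦ Φ (E_n)` -/
abbrev cosimp (E : SimplicialObject D) : CosimplicialObject A := E.rightOp ⋙ Φ

/-- the map of cosimplicial objects induced by a map of simplicial objects -/
abbrev cmap {E E' : SimplicialObject D} (φ : E ⟶ E') : cosimp Φ E' ⟶ cosimp Φ E :=
  Functor.whiskerRight (NatTrans.rightOp φ) Φ

/-- the simplicial object `n ↦ op (Φ (E_n))` in `Aᵒᵖ` -/
abbrev simpOp (E : SimplicialObject D) : SimplicialObject Aᵒᵖ :=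
  ((SimplicialObject.whiskering D Aᵒᵖ).obj Φ.rightOp).obj E

lemma d_unop (E : SimplicialObject D) (n : ℕ) :
    ((alternatingCofaceMapComplex A).obj (cosimp Φ E)).d n (n + 1) =
      (((alternatingFaceMapComplex Aᵒᵖ).obj (simpOp Φ E)).d (n + 1) n).unop := by
  rw [alternatingFaceMapComplex_obj_d]
  show (AlternatingCofaceMapComplex.obj (cosimp Φ E)).d n (n + 1) = _
  refine (CochainComplex.of_d (V := A) (fun n => (cosimp Φ E).obj ⦋n⦌)
    (AlternatingCofaceMapComplex.objD (cosimp Φ E)) n).trans ?_
  simp only [AlternatingCofaceMapComplex.objD, AlternatingFaceMapComplex.objD,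
    unop_sum, unop_zsmul]
  rfl

variable {E E' : SimplicialObject D} {φ ψ : E ⟶ E'} (H : SimplicialObject.Homotopy φ ψ)

/-- the chain homotopy in `Aᵒᵖ` -/
noncomputable abbrev chT :
    Homotopy ((alternatingFaceMapComplex Aᵒᵖ).map
        (((SimplicialObject.whiskering D Aᵒᵖ).obj Φ.rightOp).map φ))
      ((alternatingFaceMapComplex Aᵒᵖ).map
        (((SimplicialObject.whiskering D Aᵒᵖ).obj Φ.rightOp).map ψ)) :=
  (H.whiskerRight Φ.rightOp).toChainHomotopy

lemma map_f_unop (φ : E ⟶ E') (n : ℕ) :
    ((alternatingCofaceMapComplex A).map (cmap Φ φ)).f n =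
      (((alternatingFaceMapComplex Aᵒᵖ).map
        (((SimplicialObject.whiskering D Aᵒᵖ).obj Φ.rightOp).map φ)).f n).unop := rfl

/-- the cochain homotopy induced by a simplicial homotopy -/
noncomputable def cochainHomotopy :
    Homotopy ((alternatingCofaceMapComplex A).map (cmap Φ φ))
      ((alternatingCofaceMapComplex A).map (cmap Φ ψ)) where
  hom i j := ((chT Φ H).hom j i).unop
  zero i j hij := by
    have := (chT Φ H).zero j i hij
    rw [this]
    rfl
  comm n := by
    have hc := (chT Φ H).comm n
    cases n with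
    | zero =>
      rw [dNext_eq (i' := 1) (w := by simp), prevD_eq_zero _ _ (by simp), add_zero]
      rw [prevD_eq (j' := 1) (w := by simp), dNext_eq_zero _ _ (by simp), zero_add] at hc
      rw [map_f_unop, map_f_unop, hc, d_unop]
      rfl
    | succ n =>
      rw [dNext_eq (i' := n + 2) (w := by simp), prevD_eq (j' := n) (w := by simp)]
      rw [dNext_eq (i' := n) (w := by simp), prevD_eq (j' := n + 2) (w := by simp)] at hc
      rw [map_f_unop, map_f_unop, hc, d_unop, d_unop]
      rw [unop_add, unop_add, unop_comp, unop_comp]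
      rw [add_comm (_ ≫ _) (_ ≫ _)]
      rfl

end Groth.Agent.Lib.T1H4.CechHtpy
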