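import Mathlib

/-! Helper library (helper4): contraction operators on the exterior algebra, degrees, and the
number operator `∑ e_i ∧ (e_i^* ⌟ ·)`. -/

set_option autoImplicit false

namespace Groth.Agent.Lib.T2H4.PoincareA

open ExteriorAlgebra

universe u

variable {A M : Type u} [CommRing A] [AddCommGroup M] [Module A M]

/-- contraction with a linear form -/
noncomputable abbrev ctr (θ : Module.Dual A M) : ExteriorAlgebra A M →ₗ[A] ExteriorAlgebra A M :=
  CliffordAlgebra.contractLeft (Q := (0 : QuadraticForm A M)) θ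

lemma ctr_ι_mul (θ : Module.Dual A M) (a : M) (b : ExteriorAlgebra A M) :
    ctr θ (ι A a * b) = θ a • b - ι A a * ctr θ b :=
  CliffordAlgebra.contractLeft_ι_mul (Q := (0 : QuadraticForm A M)) θ a b

lemma ctr_one (θ : Module.Dual A M) : ctr θ (1 : ExteriorAlgebra A M) = 0 :=
  CliffordAlgebra.contractLeft_one (Q := (0 : QuadraticForm A M)) θ

lemma ctr_algebraMap (θ : Module.Dual A M) (r : A) :
    ctr θ (algebraMap A (ExteriorAlgebra A M) r) = 0 :=
  CliffordAlgebra.contractLeft_algebraMap (Q := (0 : QuadraticForm A M)) θ r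

lemma ι_mul_mem {p : ℕ} (m : M) {ω : ExteriorAlgebra A M} (hω : ω ∈ ⋀[A]^p M) :
    ι A m * ω ∈ ⋀[A]^(p + 1) M := by
  unfold ExteriorAlgebra.exteriorPower at hω ⊢
  rw [pow_succ']
  exact Submodule.mul_mem_mul (LinearMap.mem_range_self _ m) hω

lemma one_mem_zero : (1 : ExteriorAlgebra A M) ∈ ⋀[A]^0 M := by
  unfold ExteriorAlgebra.exteriorPower
  rw [pow_zero]
  exact Submodule.one_le.mp le_rfl

lemma ιMulti_mem (p : ℕ) (v : Fin p → M) : ExteriorAlgebra.ιMulti A p v ∈ ⋀[A]^p M := by
  rw [← ExteriorAlgebra.ιMulti_span_fixedDegree]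
  exact Submodule.subset_span ⟨v, rfl⟩

lemma ctr_ιMulti_mem (θ : Module.Dual A M) :
    ∀ (p : ℕ) (v : Fin (p + 1) → M), ctr θ (ExteriorAlgebra.ιMulti A (p + 1) v) ∈ ⋀[A]^p M := by
  intro p
  induction p with
  | zero =>
    intro v
    rw [ExteriorAlgebra.ιMulti_succ_apply, ExteriorAlgebra.ιMulti_zero_apply, ctr_ι_mul, ctr_one,
      mul_zero, sub_zero]
    exact Submodule.smul_mem _ _ one_mem_zero
  | succ p ih =>
    intro v
    rw [ExteriorAlgebra.ιMulti_succ_apply, ctr_ι_mul]
    exact Submodule.sub_mem _ (Submodule.smul_mem _ _ (ιMulti_mem _ _)) (ι_mul_mem _ (ih _))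

lemma ctr_mem (θ : Module.Dual A M) {p : ℕ} {ω : ExteriorAlgebra A M} (hω : ω ∈ ⋀[A]^(p + 1) M) :
    ctr θ ω ∈ ⋀[A]^p M := by
  rw [← ExteriorAlgebra.ιMulti_span_fixedDegree] at hω
  induction hω using Submodule.span_induction with
  | mem x hx =>
    obtain ⟨v, rfl⟩ := hx
    exact ctr_ιMulti_mem θ p v
  | zero => rw [map_zero]; exact Submodule.zero_mem _
  | add x y _ _ hx hy => rw [map_add]; exact Submodule.add_mem _ hx hy
  | smul a x _ hx => rw [map_smul]; exact Submodule.smul_mem _ _ hx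

/-- the number operator -/
lemma number_ιMulti {σ : Type*} [Fintype σ] (e : Module.Basis σ A M) :
    ∀ (p : ℕ) (v : Fin p → M),
      ∑ i, ι A (e i) * ctr (e.coord i) (ExteriorAlgebra.ιMulti A p v)
        = p • ExteriorAlgebra.ιMulti A p v := by
  intro p
  induction p with
  | zero =>
    intro v
    rw [ExteriorAlgebra.ιMulti_zero_apply, zero_smul]
    apply Finset.sum_eq_zero
    intro i _
    rw [ctr_one, mul_zero]
  | succ p ih =>
    intro v
    rw [ExteriorAlgebra.ιMulti_succ_apply]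
    have h1 : ∀ i, ι A (e i) * ctr (e.coord i) (ι A (v 0) * ExteriorAlgebra.ιMulti A p (Matrix.vecTail v))
        = (e.coord i (v 0) • ι A (e i)) * ExteriorAlgebra.ιMulti A p (Matrix.vecTail v)
          + ι A (v 0) * (ι A (e i) * ctr (e.coord i) (ExteriorAlgebra.ιMulti A p (Matrix.vecTail v))) := by
      intro i
      rw [ctr_ι_mul, mul_sub, mul_smul_comm, smul_mul_assoc, ← mul_assoc (ι A (e i)) (ι A (v 0)),
        ← mul_assoc (ι A (v 0)) (ι A (e i))]
      have := ExteriorAlgebra.ι_add_mul_swap (R := A) (e i) (v 0)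
      have h2 : ι A (e i) * ι A (v 0) = - (ι A (v 0) * ι A (e i)) := eq_neg_of_add_eq_zero_left this
      rw [h2, neg_mul, sub_neg_eq_add]
    rw [Finset.sum_congr rfl (fun i _ => h1 i), Finset.sum_add_distrib, ← Finset.sum_mul,
      ← Finset.mul_sum, ih]
    have h3 : ∑ i, e.coord i (v 0) • ι A (e i) = ι A (v 0) := by
      rw [← e.sum_repr (v 0), map_sum]
      apply Finset.sum_congr rfl
      intro i _
      rw [map_smul, e.sum_repr (v 0)]
      rfl
    rw [h3, mul_smul_comm, succ_nsmul, add_comm]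

lemma number {σ : Type*} [Fintype σ] (e : Module.Basis σ A M) {p : ℕ}
    {ω : ExteriorAlgebra A M} (hω : ω ∈ ⋀[A]^p M) :
    ∑ i, ι A (e i) * ctr (e.coord i) ω = p • ω := by
  rw [← ExteriorAlgebra.ιMulti_span_fixedDegree] at hω
  induction hω using Submodule.span_induction with
  | mem x hx =>
    obtain ⟨v, rfl⟩ := hx
    exact number_ιMulti e p v
  | zero => simp
  | add x y _ _ hx hy =>
    simp only [map_add, mul_add, Finset.sum_add_distrib, hx, hy, smul_add]
  | smul a x _ hx =>
    simp only [map_smul, mul_smul_comm, ← Finset.smul_sum, hx]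
    rw [smul_comm]

end Groth.Agent.Lib.T2H4.PoincareA
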