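import Mathlib
import Groth.Prelude.Def_DeRham
import Groth.Agent.Lib.T2H4PoincareA

/-! Helper library (helper4): Cartan calculus on the exterior algebra of a module of differentials:
the total differential `dT` assembled from a family satisfying the de Rham rule, its Leibniz rules,
and the Lie derivative `Lie θ = dT ∘ ctr θ + ctr θ ∘ dT` with its product rules. -/

set_option autoImplicit false

namespace Groth.Agent.Lib.T2H4.CartanA

open ExteriorAlgebra Groth.Agent.Lib.T2H4.PoincareA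

universe v u

variable {R : Type v} {B M : Type u} [CommRing R] [CommRing B] [Algebra R B]
  [AddCommGroup M] [Module B M] [Module R M] [IsScalarTower R B M]

variable (d : ∀ p : ℕ, ↥(⋀[B]^p M) →ₗ[R] ↥(⋀[B]^(p + 1) M))

/-- the total differential on the exterior algebra -/
noncomputable def dT : ExteriorAlgebra B M →+ ExteriorAlgebra B M :=
  (DirectSum.toAddMonoid (fun p : ℕ =>
    ((⋀[B]^(p + 1) M).subtype.toAddMonoidHom).comp (d p).toAddMonoidHom)).comp
    (@DirectSum.decomposeAddEquiv ℕ (ExteriorAlgebra B M) (Submodule B (ExteriorAlgebra B M)) _ _ _ _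
      (fun i : ℕ => ⋀[B]^i M) (ExteriorAlgebra.gradedAlgebra B M).toDecomposition).toAddMonoidHom

lemma dT_of_mem {p : ℕ} {x : ExteriorAlgebra B M} (h : x ∈ ⋀[B]^p M) :
    dT d x = ((d p ⟨x, h⟩ : ↥(⋀[B]^(p + 1) M)) : ExteriorAlgebra B M) := by
  unfold dT
  rw [AddMonoidHom.comp_apply]
  show DirectSum.toAddMonoid _ (@DirectSum.decompose ℕ (ExteriorAlgebra B M)
    (Submodule B (ExteriorAlgebra B M)) _ _ _ _
      (fun i : ℕ => ⋀[B]^i M) (ExteriorAlgebra.gradedAlgebra B M).toDecomposition x) = _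
  rw [@DirectSum.decompose_of_mem ℕ (ExteriorAlgebra B M)
    (Submodule B (ExteriorAlgebra B M)) _ _ _ _
      (fun i : ℕ => ⋀[B]^i M) (ExteriorAlgebra.gradedAlgebra B M).toDecomposition x p h,
    DirectSum.toAddMonoid_of]
  rfl

lemma dT_mem {p : ℕ} {x : ExteriorAlgebra B M} (h : x ∈ ⋀[B]^p M) : dT d x ∈ ⋀[B]^(p + 1) M := by
  rw [dT_of_mem d h]
  exact Subtype.property _

lemma dT_smul_of_mem {p : ℕ} (c : R) {x : ExteriorAlgebra B M} (h : x ∈ ⋀[B]^p M) :
    dT d (c • x) = c • dT d x := by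
  have h' : c • x ∈ ⋀[B]^p M := by
    rw [← algebraMap_smul B c x]
    exact Submodule.smul_mem _ _ h
  rw [dT_of_mem d h', dT_of_mem d h, ← Submodule.coe_smul_of_tower, ← map_smul]
  rfl

variable (δ : Derivation R B M)

/-- wedge of exact forms -/
noncomputable def Wd (p : ℕ) (b : Fin p → B) : ExteriorAlgebra B M :=
  ExteriorAlgebra.ιMulti B p (fun j => δ (b j))

lemma Wd_mem (p : ℕ) (b : Fin p → B) : Wd δ p b ∈ ⋀[B]^p M := ιMulti_mem _ _

lemma Wd_zero (b : Fin 0 → B) : Wd δ 0 b = 1 := ExteriorAlgebra.ιMulti_zero_apply _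

lemma ιMulti_cons (p : ℕ) (m : M) (v : Fin p → M) :
    ExteriorAlgebra.ιMulti B (p + 1) (Fin.cons m v) = ι B m * ExteriorAlgebra.ιMulti B p v := by
  rw [ExteriorAlgebra.ιMulti_succ_apply]
  have h3 : Matrix.vecTail (Fin.cons m v : Fin (p + 1) → M) = v := by
    funext j
    simp [Matrix.vecTail]
  rw [h3, Fin.cons_zero]

lemma Wd_cons (p : ℕ) (c : B) (b : Fin p → B) :
    Wd δ (p + 1) (Fin.cons c b) = ι B (δ c) * Wd δ p b := by
  unfold Wd
  rw [← ιMulti_cons]
  congr 1
  funext j
  refine Fin.cases ?_ (fun i => ?_) j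
  · simp
  · simp

/-- induction on the additive generators `g • db₁ ∧ ⋯ ∧ db_p` -/
theorem gen_induction (hspan : Submodule.span B (Set.range δ) = ⊤)
    {P : ExteriorAlgebra B M → Prop} (h0 : P 0)
    (hadd : ∀ x y, P x → P y → P (x + y))
    (hgen : ∀ (p : ℕ) (g : B) (b : Fin p → B), P (g • Wd δ p b)) : ∀ x, P x := by
  intro x
  refine @DirectSum.Decomposition.inductionOn ℕ (ExteriorAlgebra B M)
    (Submodule B (ExteriorAlgebra B M)) _ _ _ _ (fun i : ℕ => ⋀[B]^i M)
    (ExteriorAlgebra.gradedAlgebra B M).toDecomposition P h0 ?_ hadd x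
  rintro p ⟨m, hm⟩
  show P m
  rw [← exteriorPower.ιMulti_span_fixedDegree_of_span_eq_top (R := B) (n := p) (M := M) hspan] at hm
  have key : ∀ f : B, P (f • m) := by
    induction hm using Submodule.span_induction with
    | mem y hy =>
      obtain ⟨a, ha, rfl⟩ := hy
      intro f
      have ha' : ∀ j, ∃ c, δ c = a j := fun j => ha ⟨j, rfl⟩
      choose b hb using ha'
      have : a = fun j => δ (b j) := by
        funext j
        exact (hb j).symm
      rw [this]
      exact hgen p f b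
    | zero =>
      intro f
      rw [smul_zero]
      exact h0
    | add y z _ _ hy hz =>
      intro f
      rw [smul_add]
      exact hadd _ _ (hy f) (hz f)
    | smul a y _ hy =>
      intro f
      rw [smul_smul]
      exact hy _
  have := key 1
  rwa [one_smul] at this

/-- degreewise induction on the additive generators -/
theorem gen_induction_deg (hspan : Submodule.span B (Set.range δ) = ⊤) (p : ℕ)
    {P : ExteriorAlgebra B M → Prop} (h0 : P 0)
    (hadd : ∀ x y, P x → P y → P (x + y))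
    (hgen : ∀ (g : B) (b : Fin p → B), P (g • Wd δ p b)) :
    ∀ x, x ∈ ⋀[B]^p M → P x := by
  intro m hm
  rw [← exteriorPower.ιMulti_span_fixedDegree_of_span_eq_top (R := B) (n := p) (M := M) hspan] at hm
  have key : ∀ f : B, P (f • m) := by
    induction hm using Submodule.span_induction with
    | mem y hy =>
      obtain ⟨a, ha, rfl⟩ := hy
      intro f
      have ha' : ∀ j, ∃ c, δ c = a j := fun j => ha ⟨j, rfl⟩
      choose b hb using ha'
      have : a = fun j => δ (b j) := by
        funext j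
        exact (hb j).symm
      rw [this]
      exact hgen f b
    | zero =>
      intro f
      rw [smul_zero]
      exact h0
    | add y z _ _ hy hz =>
      intro f
      rw [smul_add]
      exact hadd _ _ (hy f) (hz f)
    | smul a y _ hy =>
      intro f
      rw [smul_smul]
      exact hy _
  have := key 1
  rwa [one_smul] at this

variable {δ}

lemma dT_gen (hd : DeRham.IsRule δ d) (p : ℕ) (g : B) (b : Fin p → B) :
    dT d (g • Wd δ p b) = ι B (δ g) * Wd δ p b := by
  have hm : g • Wd δ p b ∈ ⋀[B]^p M := Submodule.smul_mem _ _ (Wd_mem δ p b)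
  rw [dT_of_mem d hm]
  have h1 := hd p g b
  have h2 : DeRham.gen δ p g b = ⟨g • Wd δ p b, hm⟩ := rfl
  rw [h2] at h1
  rw [h1, exteriorPower.ιMulti_apply_coe, ιMulti_cons]
  rfl

/-- Leibniz rule for functions -/
theorem dT_smul (hd : DeRham.IsRule δ d) (hspan : Submodule.span B (Set.range δ) = ⊤) (f : B)
    (ζ : ExteriorAlgebra B M) : dT d (f • ζ) = ι B (δ f) * ζ + f • dT d ζ := by
  refine gen_induction δ hspan
    (P := fun ζ => dT d (f • ζ) = ι B (δ f) * ζ + f • dT d ζ) ?_ ?_ ?_ ζ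
  · simp
  · intro x y hx hy
    rw [smul_add, map_add, hx, hy, map_add, mul_add, smul_add]
    abel
  · intro p g b
    rw [smul_smul, dT_gen d hd, dT_gen d hd, Derivation.leibniz, map_add, map_smul, map_smul,
      add_mul, smul_mul_assoc, smul_mul_assoc, mul_smul_comm, add_comm]

/-- Leibniz rule for exact one-forms -/
theorem dT_ι_mul (hd : DeRham.IsRule δ d) (hspan : Submodule.span B (Set.range δ) = ⊤) (c : B)
    (ζ : ExteriorAlgebra B M) : dT d (ι B (δ c) * ζ) = -(ι B (δ c) * dT d ζ) := by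
  refine gen_induction δ hspan
    (P := fun ζ => dT d (ι B (δ c) * ζ) = -(ι B (δ c) * dT d ζ)) ?_ ?_ ?_ ζ
  · simp
  · intro x y hx hy
    rw [mul_add, map_add, hx, hy, map_add, mul_add, neg_add]
  · intro p g b
    rw [mul_smul_comm, ← Wd_cons, dT_gen d hd, dT_gen d hd, Wd_cons, ← mul_assoc, ← mul_assoc]
    have := ExteriorAlgebra.ι_add_mul_swap (R := B) (δ g) (δ c)
    have h2 : ι B (δ g) * ι B (δ c) = -(ι B (δ c) * ι B (δ g)) := eq_neg_of_add_eq_zero_left this
    rw [h2, neg_mul]

theorem dT_dT (hd : DeRham.IsRule δ d) (hspan : Submodule.span B (Set.range δ) = ⊤)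
    (hdd : ∀ p : ℕ, d (p + 1) ∘ₗ d p = 0)
    (ζ : ExteriorAlgebra B M) : dT d (dT d ζ) = 0 := by
  refine gen_induction δ hspan (P := fun ζ => dT d (dT d ζ) = 0) ?_ ?_ ?_ ζ
  · simp
  · intro x y hx hy
    rw [map_add, map_add, hx, hy, add_zero]
  · intro p g b
    have hm : g • Wd δ p b ∈ ⋀[B]^p M := Submodule.smul_mem _ _ (Wd_mem δ p b)
    rw [dT_of_mem d hm, dT_of_mem d (Subtype.property _)]
    have := LinearMap.congr_fun (hdd p) ⟨g • Wd δ p b, hm⟩
    rw [LinearMap.comp_apply] at this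
    rw [this]
    rfl

/-! ### the Lie derivative -/

/-- the Lie derivative along the "vector field" `θ` -/
noncomputable def Lie (θ : Module.Dual B M) : ExteriorAlgebra B M →+ ExteriorAlgebra B M :=
  (dT d).comp (ctr θ).toAddMonoidHom + (ctr θ).toAddMonoidHom.comp (dT d)

lemma Lie_apply (θ : Module.Dual B M) (ζ : ExteriorAlgebra B M) :
    Lie d θ ζ = dT d (ctr θ ζ) + ctr θ (dT d ζ) := rfl

theorem Lie_smul (hd : DeRham.IsRule δ d) (hspan : Submodule.span B (Set.range δ) = ⊤)
    (θ : Module.Dual B M) (f : B) (ζ : ExteriorAlgebra B M) :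
    Lie d θ (f • ζ) = θ (δ f) • ζ + f • Lie d θ ζ := by
  rw [Lie_apply, Lie_apply, map_smul, dT_smul d hd hspan, dT_smul d hd hspan, map_add, ctr_ι_mul,
    map_smul, smul_add]
  abel

theorem Lie_ι_mul (hd : DeRham.IsRule δ d) (hspan : Submodule.span B (Set.range δ) = ⊤)
    (θ : Module.Dual B M) (c : B) (ζ : ExteriorAlgebra B M) :
    Lie d θ (ι B (δ c) * ζ) = ι B (δ (θ (δ c))) * ζ + ι B (δ c) * Lie d θ ζ := by
  rw [Lie_apply, Lie_apply, ctr_ι_mul, map_sub, dT_smul d hd hspan, dT_ι_mul d hd hspan,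
    dT_ι_mul d hd hspan, map_neg, ctr_ι_mul, mul_add]
  abel

theorem Lie_dT (hd : DeRham.IsRule δ d) (hspan : Submodule.span B (Set.range δ) = ⊤)
    (hdd : ∀ p : ℕ, d (p + 1) ∘ₗ d p = 0) (θ : Module.Dual B M) (ζ : ExteriorAlgebra B M) :
    Lie d θ (dT d ζ) = dT d (Lie d θ ζ) := by
  rw [Lie_apply, Lie_apply, dT_dT d hd hspan hdd, map_zero, add_zero, map_add,
    dT_dT d hd hspan hdd, zero_add]

theorem Lie_one (hd : DeRham.IsRule δ d) (θ : Module.Dual B M) :
    Lie d θ (1 : ExteriorAlgebra B M) = 0 := by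
  have h1 : (1 : ExteriorAlgebra B M) = (1 : B) • Wd δ 0 Fin.elim0 := by
    rw [Wd_zero, one_smul]
  rw [Lie_apply, ctr_one, map_zero, zero_add, h1, dT_gen d hd, Derivation.map_one_eq_zero,
    map_zero, zero_mul, map_zero]

end Groth.Agent.Lib.T2H4.CartanA
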