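import Mathlib
import Groth.Prelude.Def_DeRham
import Groth.Agent.Lib.T2H4CartanA

/-! Helper library (helper4): weights of differential forms on `A[X]` for the Euler field `X ∂/∂X`. -/

set_option autoImplicit false

namespace Groth.Agent.Lib.T2H4.CartanB

open ExteriorAlgebra Polynomial Groth.Agent.Lib.T2H4.PoincareA Groth.Agent.Lib.T2H4.CartanA

universe v u

variable (R : Type v) (A : Type u) [CommRing R] [CommRing A] [Algebra R A]

/-- the Euler derivation `X ∂/∂X` of `A[X]` -/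
noncomputable def eulerDer : Derivation R A[X] A[X] :=
  (X : A[X]) • ((Polynomial.derivative' (R := A)).restrictScalars R)

lemma eulerDer_apply (g : A[X]) : eulerDer R A g = X * derivative g := rfl

/-- the Euler linear form on differentials -/
noncomputable def θX : Module.Dual A[X] (Ω[A[X]⁄R]) := (eulerDer R A).liftKaehlerDifferential

lemma θX_D (g : A[X]) : θX R A (KaehlerDifferential.D R A[X] g) = X * derivative g := by
  unfold θX
  rw [Derivation.liftKaehlerDifferential_comp_D, eulerDer_apply]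

lemma θX_D_C (a : A) : θX R A (KaehlerDifferential.D R A[X] (C a)) = 0 := by
  rw [θX_D, derivative_C, mul_zero]

lemma θX_D_X : θX R A (KaehlerDifferential.D R A[X] X) = X := by
  rw [θX_D, derivative_X, mul_one]

variable {R A}
variable (d : ∀ p : ℕ, ↥(⋀[A[X]]^p (Ω[A[X]⁄R])) →ₗ[R] ↥(⋀[A[X]]^(p + 1) (Ω[A[X]⁄R])))

/-- the Lie derivative along the Euler field -/
noncomputable abbrev LX :
    ExteriorAlgebra A[X] (Ω[A[X]⁄R]) →+ ExteriorAlgebra A[X] (Ω[A[X]⁄R]) :=
  Lie d (θX R A)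

/-- forms of degree `p` and weight `w` -/
noncomputable def Eig (p w : ℕ) : AddSubgroup (ExteriorAlgebra A[X] (Ω[A[X]⁄R])) where
  carrier := {v | v ∈ ⋀[A[X]]^p (Ω[A[X]⁄R]) ∧ LX d v = w • v}
  zero_mem' := ⟨Submodule.zero_mem _, by simp⟩
  add_mem' := by
    rintro x y ⟨hx, hx'⟩ ⟨hy, hy'⟩
    exact ⟨Submodule.add_mem _ hx hy, by rw [map_add, hx', hy', smul_add]⟩
  neg_mem' := by
    rintro x ⟨hx, hx'⟩
    exact ⟨Submodule.neg_mem _ hx, by rw [map_neg, hx', smul_neg]⟩

lemma mem_Eig {p w : ℕ} {v : ExteriorAlgebra A[X] (Ω[A[X]⁄R])} :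
    v ∈ Eig d p w ↔ v ∈ ⋀[A[X]]^p (Ω[A[X]⁄R]) ∧ LX d v = w • v := Iff.rfl

section rules

variable (hd : DeRham.IsRule (KaehlerDifferential.D R A[X]) d)
include hd

lemma hspanX : Submodule.span A[X] (Set.range (KaehlerDifferential.D R A[X])) = ⊤ :=
  KaehlerDifferential.span_range_derivation R A[X]

lemma Eig_C_smul {p w : ℕ} (a : A) {v : ExteriorAlgebra A[X] (Ω[A[X]⁄R])} (hv : v ∈ Eig d p w) :
    (C a : A[X]) • v ∈ Eig d p w := by
  refine ⟨Submodule.smul_mem _ _ hv.1, ?_⟩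
  rw [LX, Lie_smul d hd (KaehlerDifferential.span_range_derivation R A[X]), θX_D_C, zero_smul,
    zero_add]
  have := hv.2
  rw [LX] at this
  rw [this, smul_comm]

lemma Eig_X_smul {p w : ℕ} {v : ExteriorAlgebra A[X] (Ω[A[X]⁄R])} (hv : v ∈ Eig d p w) :
    (X : A[X]) • v ∈ Eig d p (w + 1) := by
  refine ⟨Submodule.smul_mem _ _ hv.1, ?_⟩
  rw [LX, Lie_smul d hd (KaehlerDifferential.span_range_derivation R A[X]), θX_D_X]
  have := hv.2
  rw [LX] at this
  rw [this, smul_comm, succ_nsmul, add_comm]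

lemma Eig_ι_C_mul {p w : ℕ} (a : A) {v : ExteriorAlgebra A[X] (Ω[A[X]⁄R])}
    (hv : v ∈ Eig d p w) :
    ι A[X] (KaehlerDifferential.D R A[X] (C a)) * v ∈ Eig d (p + 1) w := by
  refine ⟨ι_mul_mem _ hv.1, ?_⟩
  rw [LX, Lie_ι_mul d hd (KaehlerDifferential.span_range_derivation R A[X]), θX_D_C, map_zero,
    map_zero, zero_mul, zero_add]
  have := hv.2
  rw [LX] at this
  rw [this, mul_smul_comm]

lemma Eig_ι_X_mul {p w : ℕ} {v : ExteriorAlgebra A[X] (Ω[A[X]⁄R])} (hv : v ∈ Eig d p w) :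
    ι A[X] (KaehlerDifferential.D R A[X] X) * v ∈ Eig d (p + 1) (w + 1) := by
  refine ⟨ι_mul_mem _ hv.1, ?_⟩
  rw [LX, Lie_ι_mul d hd (KaehlerDifferential.span_range_derivation R A[X]), θX_D_X]
  have := hv.2
  rw [LX] at this
  rw [this, mul_smul_comm, succ_nsmul, add_comm]

lemma one_mem_Eig : (1 : ExteriorAlgebra A[X] (Ω[A[X]⁄R])) ∈ Eig d 0 0 := by
  refine ⟨one_mem_zero, ?_⟩
  rw [LX, Lie_one d hd, zero_smul]

end rules

/-! ### the weight decomposition -/

variable (R A) in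
/-- forms with constant coefficients: additive span of `a · da₁ ∧ ⋯ ∧ da_p` with `aᵢ ∈ A` -/
noncomputable def Zer (p : ℕ) : AddSubgroup (ExteriorAlgebra A[X] (Ω[A[X]⁄R])) :=
  AddSubgroup.closure {v | ∃ (a : A) (b : Fin p → A),
    v = (C a : A[X]) • Wd (KaehlerDifferential.D R A[X]) p (fun j => C (b j))}

/-- forms of positive weight -/
noncomputable def Pos (p : ℕ) : AddSubgroup (ExteriorAlgebra A[X] (Ω[A[X]⁄R])) :=
  ⨆ w : ℕ, Eig d p (w + 1)

/-- decomposable forms -/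
noncomputable def Good (p : ℕ) : AddSubgroup (ExteriorAlgebra A[X] (Ω[A[X]⁄R])) :=
  Zer R A p ⊔ Pos d p

lemma Eig_le_Pos (p w : ℕ) : Eig d p (w + 1) ≤ Pos d p := le_iSup (fun w => Eig d p (w + 1)) w

lemma Zer_le_Good (p : ℕ) : Zer R A p ≤ Good d p := le_sup_left

lemma Pos_le_Good (p : ℕ) : Pos d p ≤ Good d p := le_sup_right

section rules2

variable (hd : DeRham.IsRule (KaehlerDifferential.D R A[X]) d)
include hd

lemma Wd_C_mem_Eig : ∀ (p : ℕ) (b : Fin p → A),
    Wd (KaehlerDifferential.D R A[X]) p (fun j => C (b j)) ∈ Eig d p 0 := by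
  intro p
  induction p with
  | zero =>
    intro b
    rw [Wd_zero]
    exact one_mem_Eig d hd
  | succ p ih =>
    intro b
    have h1 : (fun j => (C (b j) : A[X])) = Fin.cons (C (b 0)) (fun j => C (b j.succ)) := by
      funext j
      refine Fin.cases ?_ (fun i => ?_) j
      · simp
      · simp
    rw [h1, Wd_cons]
    exact Eig_ι_C_mul d hd _ (ih _)

lemma Zer_le_Eig (p : ℕ) : Zer R A p ≤ Eig d p 0 := by
  unfold Zer
  rw [AddSubgroup.closure_le]
  rintro v ⟨a, b, rfl⟩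
  exact Eig_C_smul d hd a (Wd_C_mem_Eig d hd p b)

lemma Zer_C_smul {p : ℕ} (a : A) {x : ExteriorAlgebra A[X] (Ω[A[X]⁄R])} (hx : x ∈ Zer R A p) :
    (C a : A[X]) • x ∈ Zer R A p := by
  unfold Zer at hx ⊢
  induction hx using AddSubgroup.closure_induction with
  | mem y hy =>
    obtain ⟨a', b, rfl⟩ := hy
    apply AddSubgroup.subset_closure
    refine ⟨a * a', b, ?_⟩
    rw [smul_smul, C_mul]
  | zero => rw [smul_zero]; exact AddSubgroup.zero_mem _
  | add y z _ _ hy hz => rw [smul_add]; exact AddSubgroup.add_mem _ hy hz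
  | neg y _ hy => rw [smul_neg]; exact AddSubgroup.neg_mem _ hy

lemma Zer_ι_C_mul {p : ℕ} (a : A) {x : ExteriorAlgebra A[X] (Ω[A[X]⁄R])} (hx : x ∈ Zer R A p) :
    ι A[X] (KaehlerDifferential.D R A[X] (C a)) * x ∈ Zer R A (p + 1) := by
  unfold Zer at hx ⊢
  induction hx using AddSubgroup.closure_induction with
  | mem y hy =>
    obtain ⟨a', b, rfl⟩ := hy
    apply AddSubgroup.subset_closure
    refine ⟨a', Fin.cons a b, ?_⟩
    rw [mul_smul_comm, ← Wd_cons]
    congr 2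
    funext j
    refine Fin.cases ?_ (fun i => ?_) j
    · simp
    · simp
  | zero => rw [mul_zero]; exact AddSubgroup.zero_mem _
  | add y z _ _ hy hz => rw [mul_add]; exact AddSubgroup.add_mem _ hy hz
  | neg y _ hy => rw [mul_neg]; exact AddSubgroup.neg_mem _ hy

lemma Pos_induction {p q : ℕ} (F : ExteriorAlgebra A[X] (Ω[A[X]⁄R]) →+ ExteriorAlgebra A[X] (Ω[A[X]⁄R]))
    (hF : ∀ w v, v ∈ Eig d p (w + 1) → F v ∈ Pos d q)
    {x : ExteriorAlgebra A[X] (Ω[A[X]⁄R])} (hx : x ∈ Pos d p) : F x ∈ Pos d q := by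
  unfold Pos at hx
  refine AddSubgroup.iSup_induction (fun w : ℕ => Eig d p (w + 1))
    (C := fun x => F x ∈ Pos d q) hx ?_ ?_ ?_
  · intro w v hv
    exact hF w v hv
  · rw [map_zero]; exact AddSubgroup.zero_mem _
  · intro y z hy hz
    rw [map_add]; exact AddSubgroup.add_mem _ hy hz

lemma Good_C_smul {p : ℕ} (a : A) {x : ExteriorAlgebra A[X] (Ω[A[X]⁄R])} (hx : x ∈ Good d p) :
    (C a : A[X]) • x ∈ Good d p := by
  obtain ⟨y, hy, z, hz, rfl⟩ := AddSubgroup.mem_sup.mp hx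
  rw [smul_add]
  refine AddSubgroup.add_mem _ (Zer_le_Good d p (Zer_C_smul d hd a hy)) (Pos_le_Good d p ?_)
  exact Pos_induction d hd (DistribSMul.toAddMonoidHom _ (C a : A[X]))
    (fun w v hv => Eig_le_Pos d p w (Eig_C_smul d hd a hv)) hz

lemma Good_X_smul {p : ℕ} {x : ExteriorAlgebra A[X] (Ω[A[X]⁄R])} (hx : x ∈ Good d p) :
    (X : A[X]) • x ∈ Good d p := by
  obtain ⟨y, hy, z, hz, rfl⟩ := AddSubgroup.mem_sup.mp hx
  rw [smul_add]
  refine AddSubgroup.add_mem _ (Pos_le_Good d p ?_) (Pos_le_Good d p ?_)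
  · exact Eig_le_Pos d p 0 (Eig_X_smul d hd (Zer_le_Eig d hd p hy))
  · exact Pos_induction d hd (DistribSMul.toAddMonoidHom _ (X : A[X]))
      (fun w v hv => Eig_le_Pos d p (w + 1) (Eig_X_smul d hd hv)) hz

lemma Good_smul {p : ℕ} (g : A[X]) {x : ExteriorAlgebra A[X] (Ω[A[X]⁄R])} (hx : x ∈ Good d p) :
    g • x ∈ Good d p := by
  induction g using Polynomial.induction_on with
  | C a => exact Good_C_smul d hd a hx
  | add f g hf hg => rw [add_smul]; exact AddSubgroup.add_mem _ hf hg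
  | monomial n a ih =>
    have : (C a * X ^ (n + 1) : A[X]) • x = (X : A[X]) • ((C a * X ^ n : A[X]) • x) := by
      rw [smul_smul]
      congr 1
      ring
    rw [this]
    exact Good_X_smul d hd ih

lemma Good_ι_C_mul {p : ℕ} (a : A) {x : ExteriorAlgebra A[X] (Ω[A[X]⁄R])} (hx : x ∈ Good d p) :
    ι A[X] (KaehlerDifferential.D R A[X] (C a)) * x ∈ Good d (p + 1) := by
  obtain ⟨y, hy, z, hz, rfl⟩ := AddSubgroup.mem_sup.mp hx
  rw [mul_add]
  refine AddSubgroup.add_mem _ (Zer_le_Good d _ (Zer_ι_C_mul d hd a hy)) (Pos_le_Good d _ ?_)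
  exact Pos_induction d hd (AddMonoidHom.mulLeft _)
    (fun w v hv => Eig_le_Pos d _ w (Eig_ι_C_mul d hd a hv)) hz

lemma Good_ι_X_mul {p : ℕ} {x : ExteriorAlgebra A[X] (Ω[A[X]⁄R])} (hx : x ∈ Good d p) :
    ι A[X] (KaehlerDifferential.D R A[X] X) * x ∈ Good d (p + 1) := by
  obtain ⟨y, hy, z, hz, rfl⟩ := AddSubgroup.mem_sup.mp hx
  rw [mul_add]
  refine AddSubgroup.add_mem _ (Pos_le_Good d _ ?_) (Pos_le_Good d _ ?_)
  · exact Eig_le_Pos d _ 0 (Eig_ι_X_mul d hd (Zer_le_Eig d hd p hy))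
  · exact Pos_induction d hd (AddMonoidHom.mulLeft _)
      (fun w v hv => Eig_le_Pos d _ (w + 1) (Eig_ι_X_mul d hd hv)) hz

lemma Good_ι_D_mul {p : ℕ} (g : A[X]) :
    ∀ {x : ExteriorAlgebra A[X] (Ω[A[X]⁄R])}, x ∈ Good d p →
      ι A[X] (KaehlerDifferential.D R A[X] g) * x ∈ Good d (p + 1) := by
  induction g using Polynomial.induction_on with
  | C a => intro x hx; exact Good_ι_C_mul d hd a hx
  | add f g hf hg =>
    intro x hx
    rw [map_add, map_add, add_mul]
    exact AddSubgroup.add_mem _ (hf hx) (hg hx)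
  | monomial n a ih =>
    intro x hx
    have e1 : (C a * X ^ (n + 1) : A[X]) = X * (C a * X ^ n) := by ring
    rw [e1, Derivation.leibniz, map_add, map_smul, map_smul, add_mul, smul_mul_assoc,
      smul_mul_assoc]
    exact AddSubgroup.add_mem _ (Good_X_smul d hd (ih hx))
      (Good_smul d hd _ (Good_ι_X_mul d hd hx))

lemma Good_ι_mul {p : ℕ} (m : Ω[A[X]⁄R]) {x : ExteriorAlgebra A[X] (Ω[A[X]⁄R])}
    (hx : x ∈ Good d p) : ι A[X] m * x ∈ Good d (p + 1) := by
  have hm : m ∈ Submodule.span A[X] (Set.range (KaehlerDifferential.D R A[X])) := by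
    rw [KaehlerDifferential.span_range_derivation]
    exact Submodule.mem_top
  induction hm using Submodule.span_induction with
  | mem y hy =>
    obtain ⟨g, rfl⟩ := hy
    exact Good_ι_D_mul d hd g hx
  | zero => rw [map_zero, zero_mul]; exact AddSubgroup.zero_mem _
  | add y z _ _ hy hz => rw [map_add, add_mul]; exact AddSubgroup.add_mem _ hy hz
  | smul b y _ hy => rw [map_smul, smul_mul_assoc]; exact Good_smul d hd b hy

/-- every form is a sum of a constant-coefficient form and forms of positive weight -/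
theorem mem_Good : ∀ (p : ℕ) (x : ExteriorAlgebra A[X] (Ω[A[X]⁄R])),
    x ∈ ⋀[A[X]]^p (Ω[A[X]⁄R]) → x ∈ Good d p := by
  intro p
  induction p with
  | zero =>
    intro x hx
    unfold ExteriorAlgebra.exteriorPower at hx
    rw [pow_zero, Submodule.mem_one] at hx
    obtain ⟨b, rfl⟩ := hx
    rw [Algebra.algebraMap_eq_smul_one]
    refine Good_smul d hd b (Zer_le_Good d 0 ?_)
    apply AddSubgroup.subset_closure
    refine ⟨1, Fin.elim0, ?_⟩
    rw [Wd_zero, map_one, one_smul]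
  | succ p ih =>
    intro x hx
    unfold ExteriorAlgebra.exteriorPower at hx
    rw [pow_succ'] at hx
    refine Submodule.mul_induction_on hx ?_ ?_
    · intro m hm n hn
      obtain ⟨m', rfl⟩ := hm
      exact Good_ι_mul d hd m' (ih n hn)
    · intro y z hy hz
      exact AddSubgroup.add_mem _ hy hz

end rules2

end Groth.Agent.Lib.T2H4.CartanB
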