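import Mathlib
import Groth.Prelude.Def_DeRham
import Groth.Agent.Lib.T2H4CartanB

/-! Helper library (helper4): evaluation at `X = 0` on differential forms of `A[X]`, and the
independence of eigenvectors of an additive endomorphism of a torsion-free group. -/

set_option autoImplicit false

namespace Groth.Agent.Lib.T2H4.CartanC

open ExteriorAlgebra Polynomial Groth.Agent.Lib.T2H4.PoincareA Groth.Agent.Lib.T2H4.CartanA
  Groth.Agent.Lib.T2H4.CartanB

universe v u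

/-! ### independence of eigenvectors -/

theorem eig_indep {V : Type*} [AddCommGroup V]
    (htf : ∀ n : ℤ, n ≠ 0 → ∀ v : V, n • v = 0 → v = 0)
    (L : V →+ V) {ι : Type*} [DecidableEq ι] (e : ι → ℤ) (he : Function.Injective e) :
    ∀ (s : Finset ι) (u : ι → V), (∀ i ∈ s, L (u i) = e i • u i) → ∑ i ∈ s, u i = 0 →
      ∀ i ∈ s, u i = 0 := by
  intro s
  induction s using Finset.induction_on with
  | empty => intro u _ _ i hi; simp at hi
  | insert a t ha ih =>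
    intro u hu hsum i hi
    rw [Finset.sum_insert ha] at hsum
    have h1 : e a • u a + ∑ i ∈ t, e i • u i = 0 := by
      have := congrArg L hsum
      rw [map_add, map_sum, map_zero, hu a (Finset.mem_insert_self _ _)] at this
      rw [← this]
      congr 1
      exact Finset.sum_congr rfl (fun i hi => (hu i (Finset.mem_insert_of_mem hi)).symm)
    have h2 : e a • u a + ∑ i ∈ t, e a • u i = 0 := by
      rw [← Finset.smul_sum, ← smul_add, hsum, smul_zero]
    have h3 : ∑ i ∈ t, (e i - e a) • u i = 0 := by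
      have : ∑ i ∈ t, (e i - e a) • u i
          = (e a • u a + ∑ i ∈ t, e i • u i) - (e a • u a + ∑ i ∈ t, e a • u i) := by
        simp only [sub_smul, Finset.sum_sub_distrib]
        abel
      rw [this, h1, h2, sub_zero]
    have h4 := ih (fun i => (e i - e a) • u i) (fun i hi => by
      show L ((e i - e a) • u i) = e i • (e i - e a) • u i
      rw [map_zsmul, hu i (Finset.mem_insert_of_mem hi), smul_comm]) h3
    have h5 : ∀ j ∈ t, u j = 0 := fun j hj => htf (e j - e a) (by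
      intro h
      have hja : j = a := he (sub_eq_zero.mp h)
      rw [hja] at hj
      exact ha hj) _ (h4 j hj)
    rw [Finset.sum_eq_zero h5, add_zero] at hsum
    rcases Finset.mem_insert.mp hi with rfl | hi
    · exact hsum
    · exact h5 i hi

/-- modules over a `ℚ`-algebra have no `ℤ`-torsion -/
theorem torsion_free_of_algebraRat (R : Type*) [CommRing R] [Algebra ℚ R] {V : Type*}
    [AddCommGroup V] [Module R V] (n : ℤ) (hn : n ≠ 0) (v : V) (h : n • v = 0) : v = 0 := by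
  have h1 : (algebraMap ℚ R ((n : ℚ)⁻¹)) • ((n : R) • v) = v := by
    rw [smul_smul]
    have : algebraMap ℚ R ((n : ℚ)⁻¹) * (n : R) = 1 := by
      rw [← map_intCast (algebraMap ℚ R) n, ← map_mul, inv_mul_cancel₀ (by exact_mod_cast hn),
        map_one]
    rw [this, one_smul]
  rw [Int.cast_smul_eq_zsmul, h, smul_zero] at h1
  exact h1.symm

variable (R : Type v) (A : Type u) [CommRing R] [CommRing A] [Algebra R A]

/-! ### evaluation at zero -/

/-- evaluation at zero makes `A` an `A[X]`-algebra -/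
@[reducible] noncomputable def algEval : Algebra A[X] A := (Polynomial.evalRingHom (0 : A)).toAlgebra

section
attribute [local instance] algEval

lemma algebraMap_eval (g : A[X]) : algebraMap A[X] A g = g.eval 0 := rfl

instance towerEval : IsScalarTower R A[X] A := IsScalarTower.of_algebraMap_eq (fun r => by
  rw [algebraMap_eval, Polynomial.algebraMap_apply, Polynomial.eval_C])

/-- evaluation at zero on one-forms -/
noncomputable def ρL : Ω[A[X]⁄R] →ₗ[A[X]] Ω[A⁄R] := KaehlerDifferential.map R R A[X] A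

/-- evaluation at zero on all forms -/
noncomputable def ρE : ExteriorAlgebra A[X] (Ω[A[X]⁄R]) →ₐ[A[X]] ExteriorAlgebra A (Ω[A⁄R]) :=
  ExteriorAlgebra.lift A[X] ⟨((ι A).restrictScalars A[X]).comp (ρL R A), fun m => by
    simp⟩

lemma ρE_ι_D (g : A[X]) :
    ρE R A (ι A[X] (KaehlerDifferential.D R A[X] g))
      = ι A (KaehlerDifferential.D R A (g.eval 0)) := by
  unfold ρE
  rw [ExteriorAlgebra.lift_ι_apply]
  show ι A (ρL R A (KaehlerDifferential.D R A[X] g)) = _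
  unfold ρL
  rw [KaehlerDifferential.map_D]
  rfl

lemma ρE_smul (g : A[X]) (ζ : ExteriorAlgebra A[X] (Ω[A[X]⁄R])) :
    ρE R A (g • ζ) = (g.eval 0) • ρE R A ζ := by
  rw [map_smul, ← algebraMap_smul A g (ρE R A ζ)]
  rfl

lemma ρE_Wd : ∀ (p : ℕ) (b : Fin p → A[X]),
    ρE R A (Wd (KaehlerDifferential.D R A[X]) p b)
      = Wd (KaehlerDifferential.D R A) p (fun j => (b j).eval 0) := by
  intro p
  induction p with
  | zero =>
    intro b
    rw [Wd_zero, Wd_zero, map_one]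
  | succ p ih =>
    intro b
    have h1 : b = Fin.cons (b 0) (fun j => b j.succ) := by
      funext j
      refine Fin.cases ?_ (fun i => ?_) j
      · simp
      · simp
    have h2 : (fun j => (b j).eval 0) = Fin.cons ((b 0).eval 0) (fun j => (b j.succ).eval 0) := by
      funext j
      refine Fin.cases ?_ (fun i => ?_) j
      · simp
      · simp
    rw [h2, Wd_cons, h1, Wd_cons, map_mul, ρE_ι_D, ih]
    simp

lemma ρE_gen (p : ℕ) (g : A[X]) (b : Fin p → A[X]) :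
    ρE R A (g • Wd (KaehlerDifferential.D R A[X]) p b)
      = (g.eval 0) • Wd (KaehlerDifferential.D R A) p (fun j => (b j).eval 0) := by
  rw [ρE_smul, ρE_Wd]

lemma ρE_mem {p : ℕ} {ζ : ExteriorAlgebra A[X] (Ω[A[X]⁄R])}
    (hζ : ζ ∈ ⋀[A[X]]^p (Ω[A[X]⁄R])) : ρE R A ζ ∈ ⋀[A]^p (Ω[A⁄R]) := by
  refine gen_induction_deg (KaehlerDifferential.D R A[X])
    (KaehlerDifferential.span_range_derivation R A[X]) p
    (P := fun ζ => ρE R A ζ ∈ ⋀[A]^p (Ω[A⁄R])) ?_ ?_ ?_ ζ hζ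
  · rw [map_zero]; exact Submodule.zero_mem _
  · intro x y hx hy
    rw [map_add]; exact Submodule.add_mem _ hx hy
  · intro g b
    rw [ρE_gen]
    exact Submodule.smul_mem _ _ (Wd_mem _ p _)


variable {R A}
variable (d : ∀ p : ℕ, ↥(⋀[A]^p (Ω[A⁄R])) →ₗ[R] ↥(⋀[A]^(p + 1) (Ω[A⁄R])))
variable (d' : ∀ p : ℕ, ↥(⋀[A[X]]^p (Ω[A[X]⁄R])) →ₗ[R] ↥(⋀[A[X]]^(p + 1) (Ω[A[X]⁄R])))

lemma ρE_dT (hd : DeRham.IsRule (KaehlerDifferential.D R A) d)
    (hd' : DeRham.IsRule (KaehlerDifferential.D R A[X]) d')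
    (ζ : ExteriorAlgebra A[X] (Ω[A[X]⁄R])) : ρE R A (dT d' ζ) = dT d (ρE R A ζ) := by
  refine gen_induction (KaehlerDifferential.D R A[X])
    (KaehlerDifferential.span_range_derivation R A[X])
    (P := fun ζ => ρE R A (dT d' ζ) = dT d (ρE R A ζ)) ?_ ?_ ?_ ζ
  · simp
  · intro x y hx hy
    rw [map_add, map_add, map_add, map_add, hx, hy]
  · intro p g b
    rw [dT_gen d' hd', ρE_gen, dT_gen d hd, map_mul, ρE_ι_D, ρE_Wd]

end

/-! ### induction on generators, for elements of the exterior power -/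

theorem gen_induction_sub {R : Type v} {B M : Type u} [CommRing R] [CommRing B] [Algebra R B]
    [AddCommGroup M] [Module B M] [Module R M] [IsScalarTower R B M]
    (δ : Derivation R B M)
    (hspan : Submodule.span B (Set.range δ) = ⊤) (p : ℕ)
    {P : ↥(⋀[B]^p M) → Prop} (h0 : P 0)
    (hadd : ∀ x y, P x → P y → P (x + y))
    (hgen : ∀ (g : B) (b : Fin p → B), P (DeRham.gen δ p g b)) : ∀ x, P x := by
  intro x
  have := gen_induction_deg δ hspan p (P := fun m => ∃ hm : m ∈ ⋀[B]^p M, P ⟨m, hm⟩)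
    ⟨Submodule.zero_mem _, h0⟩ (by
      rintro x y ⟨hx, hx'⟩ ⟨hy, hy'⟩
      exact ⟨Submodule.add_mem _ hx hy, hadd _ _ hx' hy'⟩) (by
      intro g b
      exact ⟨Submodule.smul_mem _ _ (Wd_mem δ p b), hgen g b⟩) x.1 x.2
  obtain ⟨_, h⟩ := this
  exact h

/-! ### the map induced by `A → A[X]` -/

section psi

variable {R : Type v} {A : Type u} [CommRing R] [CommRing A] [Algebra R A]
variable (ψ : ∀ p : ℕ, ↥(⋀[A]^p (Ω[A⁄R])) →+ ↥(⋀[A[X]]^p (Ω[A[X]⁄R])))
  (hψ : DeRham.IsCxMap (KaehlerDifferential.D R A) (KaehlerDifferential.D R A[X])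
    (algebraMap A A[X]) ψ)
include hψ

lemma ψ_gen_coe (p : ℕ) (a : A) (b : Fin p → A) :
    ((ψ p (DeRham.gen (KaehlerDifferential.D R A) p a b) : ↥(⋀[A[X]]^p (Ω[A[X]⁄R]))) :
      ExteriorAlgebra A[X] (Ω[A[X]⁄R]))
      = (C a : A[X]) • Wd (KaehlerDifferential.D R A[X]) p (fun j => C (b j)) := by
  rw [hψ p a b]
  rfl

lemma ρE_ψ (p : ℕ) (α : ↥(⋀[A]^p (Ω[A⁄R]))) :
    ρE R A ((ψ p α : ↥(⋀[A[X]]^p (Ω[A[X]⁄R]))) : ExteriorAlgebra A[X] (Ω[A[X]⁄R]))
      = (α : ExteriorAlgebra A (Ω[A⁄R])) := by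
  refine gen_induction_sub (KaehlerDifferential.D R A)
    (KaehlerDifferential.span_range_derivation R A) p
    (P := fun α => ρE R A ((ψ p α : ↥(⋀[A[X]]^p (Ω[A[X]⁄R]))) :
      ExteriorAlgebra A[X] (Ω[A[X]⁄R])) = (α : ExteriorAlgebra A (Ω[A⁄R]))) ?_ ?_ ?_ α
  · rw [map_zero]
    simp
  · intro x y hx hy
    rw [map_add, Submodule.coe_add, map_add, hx, hy, Submodule.coe_add]
  · intro a b
    rw [ψ_gen_coe ψ hψ, ρE_gen]
    simp only [eval_C]
    rfl

lemma ψ_mem_Zer (p : ℕ) (α : ↥(⋀[A]^p (Ω[A⁄R]))) :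
    ((ψ p α : ↥(⋀[A[X]]^p (Ω[A[X]⁄R]))) : ExteriorAlgebra A[X] (Ω[A[X]⁄R])) ∈ Zer R A p := by
  refine gen_induction_sub (KaehlerDifferential.D R A)
    (KaehlerDifferential.span_range_derivation R A) p
    (P := fun α => ((ψ p α : ↥(⋀[A[X]]^p (Ω[A[X]⁄R]))) :
      ExteriorAlgebra A[X] (Ω[A[X]⁄R])) ∈ Zer R A p) ?_ ?_ ?_ α
  · rw [map_zero]
    exact AddSubgroup.zero_mem _
  · intro x y hx hy
    rw [map_add, Submodule.coe_add]
    exact AddSubgroup.add_mem _ hx hy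
  · intro a b
    rw [ψ_gen_coe ψ hψ]
    exact AddSubgroup.subset_closure ⟨a, b, rfl⟩

lemma Zer_exists_ψ {p : ℕ} {z : ExteriorAlgebra A[X] (Ω[A[X]⁄R])} (hz : z ∈ Zer R A p) :
    ∃ α : ↥(⋀[A]^p (Ω[A⁄R])),
      ((ψ p α : ↥(⋀[A[X]]^p (Ω[A[X]⁄R]))) : ExteriorAlgebra A[X] (Ω[A[X]⁄R])) = z := by
  unfold Zer at hz
  induction hz using AddSubgroup.closure_induction with
  | mem y hy =>
    obtain ⟨a, b, rfl⟩ := hy
    exact ⟨DeRham.gen (KaehlerDifferential.D R A) p a b, ψ_gen_coe ψ hψ p a b⟩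
  | zero => exact ⟨0, by rw [map_zero]; rfl⟩
  | add y z _ _ hy hz =>
    obtain ⟨α, rfl⟩ := hy
    obtain ⟨β, rfl⟩ := hz
    exact ⟨α + β, by rw [map_add, Submodule.coe_add]⟩
  | neg y _ hy =>
    obtain ⟨α, rfl⟩ := hy
    exact ⟨-α, by rw [map_neg, Submodule.coe_neg]⟩

end psi

/-! ### decomposition into weights and exactness of closed forms of positive weight -/

section weights

variable {R : Type v} {A : Type u} [CommRing R] [CommRing A] [Algebra R A]
variable (d' : ∀ p : ℕ, ↥(⋀[A[X]]^p (Ω[A[X]⁄R])) →ₗ[R] ↥(⋀[A[X]]^(p + 1) (Ω[A[X]⁄R])))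

lemma Pos_exists_finsupp {p : ℕ} {z : ExteriorAlgebra A[X] (Ω[A[X]⁄R])} (hz : z ∈ Pos d' p) :
    ∃ u : ℕ →₀ ExteriorAlgebra A[X] (Ω[A[X]⁄R]),
      (∀ w, u w ∈ Eig d' p (w + 1)) ∧ u.sum (fun _ v => v) = z := by
  unfold Pos at hz
  refine AddSubgroup.iSup_induction (fun w : ℕ => Eig d' p (w + 1))
    (C := fun z => ∃ u : ℕ →₀ ExteriorAlgebra A[X] (Ω[A[X]⁄R]),
      (∀ w, u w ∈ Eig d' p (w + 1)) ∧ u.sum (fun _ v => v) = z) hz ?_ ?_ ?_
  · intro w v hv
    refine ⟨Finsupp.single w v, ?_, Finsupp.sum_single_index rfl⟩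
    intro w'
    rw [Finsupp.single_apply]
    split_ifs with h
    · subst h; exact hv
    · exact AddSubgroup.zero_mem _
  · exact ⟨0, fun w => AddSubgroup.zero_mem _, Finsupp.sum_zero_index⟩
  · rintro y z ⟨u1, h1, rfl⟩ ⟨u2, h2, rfl⟩
    refine ⟨u1 + u2, fun w => AddSubgroup.add_mem _ (h1 w) (h2 w), ?_⟩
    exact Finsupp.sum_add_index' (fun _ => rfl) (fun _ _ _ => rfl)

variable [Algebra ℚ R]

lemma Eig_closed_zero {w : ℕ} {v : ExteriorAlgebra A[X] (Ω[A[X]⁄R])}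
    (hv : v ∈ Eig d' 0 (w + 1)) (hc : dT d' v = 0) : v = 0 := by
  have h1 := hv.2
  rw [LX, Lie_apply, hc, map_zero, add_zero] at h1
  have h2 : ctr (θX R A) v = 0 := by
    have hv0 := hv.1
    unfold ExteriorAlgebra.exteriorPower at hv0
    rw [pow_zero, Submodule.mem_one] at hv0
    obtain ⟨b, rfl⟩ := hv0
    exact ctr_algebraMap _ _
  rw [h2, map_zero] at h1
  refine torsion_free_of_algebraRat R ((w : ℤ) + 1) (by omega) v ?_
  have : ((w : ℤ) + 1) • v = (w + 1 : ℕ) • v := by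
    rw [← natCast_zsmul]
    push_cast
    rfl
  rw [this, ← h1]

lemma Eig_closed_succ {p w : ℕ} {v : ExteriorAlgebra A[X] (Ω[A[X]⁄R])}
    (hv : v ∈ Eig d' (p + 1) (w + 1)) (hc : dT d' v = 0) :
    ∃ η ∈ ⋀[A[X]]^p (Ω[A[X]⁄R]), dT d' η = v := by
  have h1 := hv.2
  rw [LX, Lie_apply, hc, map_zero, add_zero] at h1
  have hm : ctr (θX R A) v ∈ ⋀[A[X]]^p (Ω[A[X]⁄R]) := ctr_mem _ hv.1
  refine ⟨(algebraMap ℚ R ((w + 1 : ℚ)⁻¹)) • ctr (θX R A) v, ?_, ?_⟩
  · rw [← algebraMap_smul A[X] (algebraMap ℚ R ((w + 1 : ℚ)⁻¹)) (ctr (θX R A) v)]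
    exact Submodule.smul_mem _ _ hm
  · rw [dT_smul_of_mem d' _ hm, h1, ← Nat.cast_smul_eq_nsmul R (w + 1) v, smul_smul]
    have : algebraMap ℚ R ((w + 1 : ℚ)⁻¹) * ((w + 1 : ℕ) : R) = 1 := by
      rw [← map_natCast (algebraMap ℚ R) (w + 1), ← map_mul]
      have : ((w : ℚ) + 1)⁻¹ * ((w + 1 : ℕ) : ℚ) = 1 := by
        push_cast
        exact inv_mul_cancel₀ (by positivity)
      rw [this, map_one]
    rw [this, one_smul]

end weights

end Groth.Agent.Lib.T2H4.CartanC
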