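import Mathlib
import Groth.Prelude.Def_DeRham
import Groth.Agent.Lib.T2H4CartanC

/-! Helper library (helper4): differential forms under a base change of the ground field:
the comparison `⋀_{A'} Ω_{A'/K} → A' ⊗_A ⋀_A Ω_{A/k}` for a pushout `A' = K ⊗_k A`. -/

set_option autoImplicit false

namespace Groth.Agent.Lib.T1H4.DRBaseA

open ExteriorAlgebra TensorProduct Groth.Agent.Lib.T2H4.PoincareA Groth.Agent.Lib.T2H4.CartanA
  Groth.Agent.Lib.T2H4.CartanC

universe u

variable (k K A A' : Type u) [CommRing k] [CommRing K] [Algebra k K]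
  [CommRing A] [CommRing A'] [Algebra k A]
  [Algebra A A'] [Algebra k A'] [IsScalarTower k A A'] [Algebra K A'] [IsScalarTower k K A']
  [Algebra.IsPushout k K A A']

/-- the one-form part of the comparison map -/
noncomputable def jmap : Ω[A'⁄K] →ₗ[A'] A' ⊗[A] ExteriorAlgebra A (Ω[A⁄k]) :=
  ((ι A : Ω[A⁄k] →ₗ[A] ExteriorAlgebra A (Ω[A⁄k])).baseChange A') ∘ₗ
    (KaehlerDifferential.tensorKaehlerEquiv k K A A').symm.toLinearMap

lemma jmap_D (a : A) :
    jmap k K A A' (KaehlerDifferential.D K A' (algebraMap A A' a))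
      = (1 : A') ⊗ₜ[A] ι A (KaehlerDifferential.D k A a) := by
  unfold jmap
  have h : (KaehlerDifferential.tensorKaehlerEquiv k K A A').symm
      (KaehlerDifferential.D K A' (algebraMap A A' a))
      = (1 : A') ⊗ₜ[A] KaehlerDifferential.D k A a := by
    rw [LinearEquiv.symm_apply_eq, KaehlerDifferential.tensorKaehlerEquiv_tmul_D, one_smul]
  rw [LinearMap.comp_apply]
  show (LinearMap.baseChange A' (ι A)) ((KaehlerDifferential.tensorKaehlerEquiv k K A A').symm
      (KaehlerDifferential.D K A' (algebraMap A A' a))) = _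
  rw [h, LinearMap.baseChange_tmul]

lemma bc_anticomm (x y : A' ⊗[A] Ω[A⁄k]) :
    (LinearMap.baseChange A' (ι A : Ω[A⁄k] →ₗ[A] ExteriorAlgebra A (Ω[A⁄k]))) x *
        (LinearMap.baseChange A' (ι A : Ω[A⁄k] →ₗ[A] ExteriorAlgebra A (Ω[A⁄k]))) y
      + (LinearMap.baseChange A' (ι A : Ω[A⁄k] →ₗ[A] ExteriorAlgebra A (Ω[A⁄k]))) y *
        (LinearMap.baseChange A' (ι A : Ω[A⁄k] →ₗ[A] ExteriorAlgebra A (Ω[A⁄k]))) x = 0 := by
  induction x using TensorProduct.induction_on with
  | zero => simp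
  | add x₁ x₂ h₁ h₂ =>
    rw [map_add, add_mul, mul_add]
    calc _ = ((LinearMap.baseChange A' (ι A)) x₁ * (LinearMap.baseChange A' (ι A)) y
          + (LinearMap.baseChange A' (ι A)) y * (LinearMap.baseChange A' (ι A)) x₁)
          + ((LinearMap.baseChange A' (ι A)) x₂ * (LinearMap.baseChange A' (ι A)) y
          + (LinearMap.baseChange A' (ι A)) y * (LinearMap.baseChange A' (ι A)) x₂) := by abel
      _ = 0 := by rw [h₁, h₂, add_zero]
  | tmul a m =>
    induction y using TensorProduct.induction_on with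
    | zero => simp
    | add y₁ y₂ h₁ h₂ =>
      rw [map_add, add_mul, mul_add]
      calc _ = ((LinearMap.baseChange A' (ι A)) (a ⊗ₜ[A] m) * (LinearMap.baseChange A' (ι A)) y₁
            + (LinearMap.baseChange A' (ι A)) y₁ * (LinearMap.baseChange A' (ι A)) (a ⊗ₜ[A] m))
            + ((LinearMap.baseChange A' (ι A)) (a ⊗ₜ[A] m) * (LinearMap.baseChange A' (ι A)) y₂
            + (LinearMap.baseChange A' (ι A)) y₂ * (LinearMap.baseChange A' (ι A)) (a ⊗ₜ[A] m)) := by
            abel
        _ = 0 := by rw [h₁, h₂, add_zero]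
    | tmul b n =>
      rw [LinearMap.baseChange_tmul, LinearMap.baseChange_tmul,
        Algebra.TensorProduct.tmul_mul_tmul, Algebra.TensorProduct.tmul_mul_tmul, mul_comm b a,
        ← TensorProduct.tmul_add]
      have := ExteriorAlgebra.ι_add_mul_swap (R := A) m n
      rw [this, TensorProduct.tmul_zero]

lemma bc_sq (x : A' ⊗[A] Ω[A⁄k]) :
    (LinearMap.baseChange A' (ι A : Ω[A⁄k] →ₗ[A] ExteriorAlgebra A (Ω[A⁄k]))) x *
        (LinearMap.baseChange A' (ι A : Ω[A⁄k] →ₗ[A] ExteriorAlgebra A (Ω[A⁄k]))) x = 0 := by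
  induction x using TensorProduct.induction_on with
  | zero => simp
  | add x₁ x₂ h₁ h₂ =>
    rw [map_add, add_mul, mul_add, mul_add, h₁, h₂]
    have := bc_anticomm k A A' x₁ x₂
    rw [zero_add, add_zero]
    exact this
  | tmul a m =>
    rw [LinearMap.baseChange_tmul, Algebra.TensorProduct.tmul_mul_tmul,
      ExteriorAlgebra.ι_sq_zero, TensorProduct.tmul_zero]

/-- the comparison map on the exterior algebra -/
noncomputable def Φ : ExteriorAlgebra A' (Ω[A'⁄K]) →ₐ[A'] A' ⊗[A] ExteriorAlgebra A (Ω[A⁄k]) :=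
  ExteriorAlgebra.lift A' ⟨jmap k K A A', fun m => by
    unfold jmap
    rw [LinearMap.comp_apply]
    exact bc_sq k A A' _⟩

lemma Φ_ι_D (a : A) :
    Φ k K A A' (ι A' (KaehlerDifferential.D K A' (algebraMap A A' a)))
      = (1 : A') ⊗ₜ[A] ι A (KaehlerDifferential.D k A a) := by
  unfold Φ
  rw [ExteriorAlgebra.lift_ι_apply]
  exact jmap_D k K A A' a

lemma Φ_Wd : ∀ (p : ℕ) (b : Fin p → A),
    Φ k K A A' (Wd (KaehlerDifferential.D K A') p (fun j => algebraMap A A' (b j)))
      = (1 : A') ⊗ₜ[A] Wd (KaehlerDifferential.D k A) p b := by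
  intro p
  induction p with
  | zero =>
    intro b
    rw [Wd_zero, Wd_zero, map_one]
    rfl
  | succ p ih =>
    intro b
    have h1 : b = Fin.cons (b 0) (fun j => b j.succ) := by
      funext j
      refine Fin.cases ?_ (fun i => ?_) j
      · simp
      · simp
    have h2 : (fun j => algebraMap A A' (b j))
        = Fin.cons (algebraMap A A' (b 0)) (fun j => algebraMap A A' (b j.succ)) := by
      funext j
      refine Fin.cases ?_ (fun i => ?_) j
      · simp
      · simp
    rw [h2, Wd_cons, map_mul, Φ_ι_D, ih, Algebra.TensorProduct.tmul_mul_tmul, one_mul]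
    conv_rhs => rw [h1, Wd_cons]

lemma Φ_gen (p : ℕ) (g : A') (b : Fin p → A) :
    Φ k K A A' (g • Wd (KaehlerDifferential.D K A') p (fun j => algebraMap A A' (b j)))
      = g ⊗ₜ[A] Wd (KaehlerDifferential.D k A) p b := by
  rw [map_smul, Φ_Wd, TensorProduct.smul_tmul', smul_eq_mul, mul_one]

end Groth.Agent.Lib.T1H4.DRBaseA
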