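import Mathlib
import Groth.Prelude.Def_DeRham
import Groth.Agent.Lib.T1H4DRBaseA

/-! Helper library (helper4): de Rham complexes under a base change of the ground field:
every form on `A' = K ⊗_k A` is uniquely a combination `∑ eᵢ • ψ(αᵢ)` over a `k`-basis of `K`. -/

set_option autoImplicit false

namespace Groth.Agent.Lib.T1H4.DRBaseB

open ExteriorAlgebra TensorProduct Groth.Agent.Lib.T2H4.PoincareA Groth.Agent.Lib.T2H4.CartanA
  Groth.Agent.Lib.T2H4.CartanC Groth.Agent.Lib.T1H4.DRBaseA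

universe u

/-- induction on generators `g • φ t₁ ∧ ⋯ ∧ φ t_p` for a family `φ` spanning the module -/
theorem gen_induction_fun {B M T : Type*} [CommRing B] [AddCommGroup M] [Module B M]
    (φ : T → M) (hspan : Submodule.span B (Set.range φ) = ⊤) (p : ℕ)
    {P : ↥(⋀[B]^p M) → Prop} (h0 : P 0)
    (hadd : ∀ x y, P x → P y → P (x + y))
    (hgen : ∀ (g : B) (t : Fin p → T), P (g • exteriorPower.ιMulti B p (fun j => φ (t j)))) :
    ∀ x, P x := by
  intro x
  have hx : x ∈ (⊤ : Submodule B ↥(⋀[B]^p M)) := Submodule.mem_top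
  rw [← exteriorPower.ιMulti_span_of_span (R := B) (n := p) (M := M) hspan] at hx
  have key : ∀ f : B, P (f • x) := by
    induction hx using Submodule.span_induction with
    | mem y hy =>
      obtain ⟨a, ha, rfl⟩ := hy
      intro f
      have ha' : ∀ j, ∃ c, φ c = a j := fun j => ha ⟨j, rfl⟩
      choose b hb using ha'
      have : a = fun j => φ (b j) := by
        funext j
        exact (hb j).symm
      rw [this]
      exact hgen f b
    | zero =>
      intro f
      rw [smul_zero]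
      exact h0
    | add y z _ _ hy hz =>
      intro f
      rw [smul_add]
      exact hadd _ _ (hy f) (hz f)
    | smul a y _ hy =>
      intro f
      rw [smul_smul]
      exact hy _
  have := key 1
  rwa [one_smul] at this

variable {k K A A' : Type u} [CommRing k] [CommRing K] [Algebra k K]
  [CommRing A] [CommRing A'] [Algebra k A]
  [Algebra A A'] [Algebra k A'] [IsScalarTower k A A'] [Algebra K A'] [IsScalarTower k K A']
  [Algebra.IsPushout k K A A']

omit [Algebra.IsPushout k K A A'] in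
/-- the differentials of `A'` over `K` are spanned by those of elements of `A` -/
lemma span_D_algebraMap (h : Algebra.IsPushout k K A A') :
    Submodule.span A' (Set.range (fun a : A => KaehlerDifferential.D K A' (algebraMap A A' a)))
      = ⊤ := by
  rw [eq_top_iff, ← KaehlerDifferential.span_range_derivation K A', Submodule.span_le]
  rintro _ ⟨g, rfl⟩
  refine h.out.inductionOn g (fun g => KaehlerDifferential.D K A' g ∈
    Submodule.span A' (Set.range (fun a : A => KaehlerDifferential.D K A' (algebraMap A A' a))))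
    ?_ ?_ ?_ ?_
  · rw [map_zero]
    exact Submodule.zero_mem _
  · intro a
    exact Submodule.subset_span ⟨a, rfl⟩
  · intro c n hn
    rw [Derivation.map_smul, ← algebraMap_smul A' c]
    exact Submodule.smul_mem _ _ hn
  · intro n₁ n₂ h₁ h₂
    rw [map_add]
    exact Submodule.add_mem _ h₁ h₂

variable {ι : Type*} (bK : Module.Basis ι k K)

variable (A A') in
/-- the basis of `A'` over `A` induced by a basis of `K` over `k` -/
noncomputable def bA : Module.Basis ι A A' :=
  haveI : Algebra.IsPushout k A K A' := Algebra.IsPushout.symm inferInstance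
  (Algebra.TensorProduct.basis A bK).map (Algebra.IsPushout.equiv k A K A').toLinearEquiv

lemma bA_apply (i : ι) : bA A A' bK i = algebraMap K A' (bK i) := by
  haveI : Algebra.IsPushout k A K A' := Algebra.IsPushout.symm inferInstance
  unfold bA
  rw [Module.Basis.map_apply, Algebra.TensorProduct.basis_apply]
  show (Algebra.IsPushout.equiv k A K A') ((1 : A) ⊗ₜ[k] bK i) = _
  rw [Algebra.IsPushout.equiv_tmul, map_one, one_mul]

variable (ψ : ∀ p : ℕ, ↥(⋀[A]^p (Ω[A⁄k])) →+ ↥(⋀[A']^p (Ω[A'⁄K])))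

/-- combinations `∑ eᵢ • ψ(αᵢ)` -/
noncomputable def Ψ (p : ℕ) : (ι →₀ ↥(⋀[A]^p (Ω[A⁄k]))) →+ ↥(⋀[A']^p (Ω[A'⁄K])) :=
  Finsupp.liftAddHom (fun i => (DistribSMul.toAddMonoidHom _ (bK i)).comp (ψ p))

lemma Ψ_apply (p : ℕ) (f : ι →₀ ↥(⋀[A]^p (Ω[A⁄k]))) :
    Ψ bK ψ p f = f.sum (fun i α => bK i • ψ p α) := rfl

lemma Ψ_single (p : ℕ) (i : ι) (α : ↥(⋀[A]^p (Ω[A⁄k]))) :
    Ψ bK ψ p (Finsupp.single i α) = bK i • ψ p α := by
  rw [Ψ_apply, Finsupp.sum_single_index]
  rw [map_zero, smul_zero]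

variable (hψ : DeRham.IsCxMap (KaehlerDifferential.D k A) (KaehlerDifferential.D K A')
  (algebraMap A A') ψ)
include hψ

lemma Φ_ψ (p : ℕ) (α : ↥(⋀[A]^p (Ω[A⁄k]))) :
    Φ k K A A' ((ψ p α : ↥(⋀[A']^p (Ω[A'⁄K]))) : ExteriorAlgebra A' (Ω[A'⁄K]))
      = (1 : A') ⊗ₜ[A] (α : ExteriorAlgebra A (Ω[A⁄k])) := by
  refine gen_induction_sub (KaehlerDifferential.D k A)
    (KaehlerDifferential.span_range_derivation k A) p
    (P := fun α => Φ k K A A' ((ψ p α : ↥(⋀[A']^p (Ω[A'⁄K]))) : ExteriorAlgebra A' (Ω[A'⁄K]))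
      = (1 : A') ⊗ₜ[A] (α : ExteriorAlgebra A (Ω[A⁄k]))) ?_ ?_ ?_ α
  · rw [map_zero]
    simp
  · intro x y hx hy
    rw [map_add, Submodule.coe_add, map_add, hx, hy, Submodule.coe_add, TensorProduct.tmul_add]
  · intro a b
    rw [hψ p a b]
    show Φ k K A A' ((algebraMap A A' a) •
      Wd (KaehlerDifferential.D K A') p (fun j => algebraMap A A' (b j))) =
        (1 : A') ⊗ₜ[A] (a • Wd (KaehlerDifferential.D k A) p b)
    rw [Φ_gen, TensorProduct.tmul_smul, TensorProduct.smul_tmul', Algebra.smul_def, mul_one]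

lemma Φ_Ψ (p : ℕ) (f : ι →₀ ↥(⋀[A]^p (Ω[A⁄k]))) :
    Φ k K A A' ((Ψ bK ψ p f : ↥(⋀[A']^p (Ω[A'⁄K]))) : ExteriorAlgebra A' (Ω[A'⁄K]))
      = f.sum (fun i α => bA A A' bK i ⊗ₜ[A] (α : ExteriorAlgebra A (Ω[A⁄k]))) := by
  induction f using Finsupp.induction_linear with
  | zero => simp
  | add f g hf hg =>
    rw [map_add, Submodule.coe_add, map_add, hf, hg, Finsupp.sum_add_index']
    · intro i
      simp
    · intro i x y
      rw [Submodule.coe_add, TensorProduct.tmul_add]
  | single i α =>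
    rw [Ψ_single, Finsupp.sum_single_index (by simp)]
    have h1 : ((bK i • ψ p α : ↥(⋀[A']^p (Ω[A'⁄K]))) : ExteriorAlgebra A' (Ω[A'⁄K]))
        = (algebraMap K A' (bK i)) •
          ((ψ p α : ↥(⋀[A']^p (Ω[A'⁄K]))) : ExteriorAlgebra A' (Ω[A'⁄K])) := by
      rw [← algebraMap_smul A' (bK i) (ψ p α)]
      rfl
    rw [h1, map_smul, Φ_ψ ψ hψ, TensorProduct.smul_tmul', smul_eq_mul, mul_one, bA_apply]

theorem Ψ_injective (p : ℕ) : Function.Injective (Ψ bK ψ p) := by
  rw [injective_iff_map_eq_zero]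
  intro f hf
  have h1 := Φ_Ψ bK ψ hψ p f
  rw [hf] at h1
  have h2 : (f.mapRange (fun α : ↥(⋀[A]^p (Ω[A⁄k])) => (α : ExteriorAlgebra A (Ω[A⁄k])))
      rfl).sum (fun i n => bA A A' bK i ⊗ₜ[A] n) = 0 := by
    rw [Finsupp.sum_mapRange_index (by simp)]
    rw [← h1]
    simp
  have h3 := TensorProduct.sum_tmul_basis_left_eq_zero (bA A A' bK) _ h2
  ext i : 1
  have h4 := DFunLike.congr_fun h3 i
  rw [Finsupp.mapRange_apply] at h4
  exact Subtype.ext h4

theorem Ψ_surjective (p : ℕ) : Function.Surjective (Ψ bK ψ p) := by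
  refine gen_induction_fun (fun a : A => KaehlerDifferential.D K A' (algebraMap A A' a))
    (span_D_algebraMap (k := k) inferInstance) p (P := fun x => ∃ f, Ψ bK ψ p f = x) ?_ ?_ ?_
  · exact ⟨0, map_zero _⟩
  · rintro x y ⟨f, rfl⟩ ⟨g, rfl⟩
    exact ⟨f + g, map_add _ _ _⟩
  · intro g t
    refine ⟨((bA A A' bK).repr g).mapRange
      (fun a => DeRham.gen (KaehlerDifferential.D k A) p a t) (by
        show (0 : A) • _ = 0
        rw [zero_smul]), ?_⟩
    rw [Ψ_apply, Finsupp.sum_mapRange_index (by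
      intro i
      rw [map_zero, smul_zero])]
    have h1 : ∀ (i : ι) (a : A),
        bK i • ψ p (DeRham.gen (KaehlerDifferential.D k A) p a t)
          = (a • bA A A' bK i) • exteriorPower.ιMulti A' p
            (fun j => KaehlerDifferential.D K A' (algebraMap A A' (t j))) := by
      intro i a
      rw [hψ p a t, bA_apply, ← algebraMap_smul A' (bK i), Algebra.smul_def a, mul_comm,
        mul_smul]
      rfl
    simp only [h1]
    rw [Finsupp.sum, ← Finset.sum_smul]
    congr 1
    have := (bA A A' bK).linearCombination_repr g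
    rw [Finsupp.linearCombination_apply, Finsupp.sum] at this
    exact this

end Groth.Agent.Lib.T1H4.DRBaseB
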