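import Mathlib
import Groth.Prelude.Def_DeRham
import Groth.Agent.Lib.T1H4DRBaseB

/-! Helper library (helper4): top-degree forms on a module spanned by `m` elements, and differentials
of quotients of an algebra with a coordinate basis of differentials. -/

set_option autoImplicit false

namespace Groth.Agent.Lib.T1H4.CechHypA

open Groth.Agent.Lib.T1H4.DRBaseB

universe u

/-- the `m`-th exterior power of a module spanned by `m` elements is spanned by their wedge -/
theorem top_gen {B M : Type*} [CommRing B] [AddCommGroup M] [Module B M] (m : ℕ)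
    (φ : Fin m → M) (hspan : Submodule.span B (Set.range φ) = ⊤) (x : ↥(⋀[B]^m M)) :
    ∃ a : B, x = a • exteriorPower.ιMulti B m φ := by
  refine gen_induction_fun φ hspan m (P := fun x => ∃ a : B, x = a • exteriorPower.ιMulti B m φ)
    ?_ ?_ ?_ x
  · exact ⟨0, by rw [zero_smul]⟩
  · rintro x y ⟨a, rfl⟩ ⟨b, rfl⟩
    exact ⟨a + b, by rw [add_smul]⟩
  · intro g σ
    by_cases hσ : Function.Injective σ
    · have hb : Function.Bijective σ := Finite.injective_iff_bijective.mp hσ
      let τ : Equiv.Perm (Fin m) := Equiv.ofBijective σ hb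
      have h1 : (fun j => φ (σ j)) = fun j => φ (τ j) := rfl
      rw [h1]
      have h2 := AlternatingMap.map_perm (exteriorPower.ιMulti B m (M := M)) φ τ
      refine ⟨g * ((Equiv.Perm.sign τ : ℤˣ) : ℤ), ?_⟩
      have h3 : (exteriorPower.ιMulti B m (M := M)) (fun j => φ (τ j))
          = Equiv.Perm.sign τ • (exteriorPower.ιMulti B m (M := M)) φ := h2
      rw [h3, mul_smul, Units.smul_def, Int.cast_smul_eq_zsmul]
    · refine ⟨0, ?_⟩
      rw [zero_smul]
      have : (exteriorPower.ιMulti B m (M := M)) (fun j => φ (σ j)) = 0 := by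
        rw [Function.Injective] at hσ
        push Not at hσ
        obtain ⟨i, j, hij, hne⟩ := hσ
        exact AlternatingMap.map_eq_zero_of_eq _ _ (by rw [hij]) hne
      rw [this, smul_zero]

variable {k A : Type u} [CommRing k] [CommRing A] [Algebra k A]

/-- differentials of a quotient are spanned by the images of a spanning family of differentials -/
theorem span_D_quotient {σ : Type*} [Fintype σ] (t : σ → A)
    (b : Module.Basis σ A (Ω[A⁄k])) (hb : ∀ i, b i = KaehlerDifferential.D k A (t i))
    (𝔞 : Ideal A) :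
    Submodule.span (A ⧸ 𝔞) (Set.range (fun l : σ =>
      KaehlerDifferential.D k (A ⧸ 𝔞) (Ideal.Quotient.mk 𝔞 (t l)))) = ⊤ := by
  rw [eq_top_iff, ← KaehlerDifferential.span_range_derivation k (A ⧸ 𝔞), Submodule.span_le]
  rintro _ ⟨g, rfl⟩
  obtain ⟨a, rfl⟩ := Ideal.Quotient.mk_surjective g
  have h1 : KaehlerDifferential.D k (A ⧸ 𝔞) (Ideal.Quotient.mk 𝔞 a)
      = KaehlerDifferential.map k k A (A ⧸ 𝔞) (KaehlerDifferential.D k A a) := by
    rw [KaehlerDifferential.map_D]
    rfl
  rw [h1, ← b.sum_repr (KaehlerDifferential.D k A a), map_sum]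
  refine Submodule.sum_mem _ (fun l _ => ?_)
  rw [map_smul, hb, KaehlerDifferential.map_D, ← algebraMap_smul (A ⧸ 𝔞)]
  exact Submodule.smul_mem _ _ (Submodule.subset_span ⟨l, rfl⟩)

end Groth.Agent.Lib.T1H4.CechHypA
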