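import Mathlib
import Groth.Prelude.Def_DeRham
import Groth.Agent.Lib.T1H4CechHypA

/-! Helper library (helper4): lifting forms along coordinate hyperplanes. -/

set_option autoImplicit false

namespace Groth.Agent.Lib.T1H4.CechHypB

open Groth.Agent.Lib.T1H4.DRBaseB Groth.Agent.Lib.T1H4.CechHypA

universe u

variable {k A : Type u} [CommRing k] [CommRing A] [Algebra k A] {d n : ℕ}
  (t : Fin d → A) (e : Fin n ↪ Fin d)

/-- the ideal of the intersection of the coordinate hyperplanes indexed by `I` -/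
abbrev idl (I : Finset (Fin n)) : Ideal A := ⨆ i ∈ I, Ideal.span {t (e i)}

lemma mk_t_eq_zero {J : Finset (Fin n)} {i : Fin n} (hi : i ∈ J) :
    Ideal.Quotient.mk (idl t e J) (t (e i)) = 0 := by
  rw [Ideal.Quotient.eq_zero_iff_mem]
  have h1 : Ideal.span {t (e i)} ≤ idl t e J :=
    le_biSup (f := fun i => Ideal.span {t (e i)}) hi
  exact h1 (Ideal.subset_span rfl)

variable (b : Module.Basis (Fin d) A (Ω[A⁄k])) (hb : ∀ i, b i = KaehlerDifferential.D k A (t i))
  (ψ : ∀ (I J : Finset (Fin n)) (p : ℕ),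
    ↥(⋀[(A ⧸ idl t e I)]^p (Ω[(A ⧸ idl t e I)⁄k])) →+ ↥(⋀[(A ⧸ idl t e J)]^p (Ω[(A ⧸ idl t e J)⁄k])))
  (hψ : ∀ (I J : Finset (Fin n)) (h : I ⊆ J),
    DeRham.IsCxMap (KaehlerDifferential.D k (A ⧸ idl t e I)) (KaehlerDifferential.D k (A ⧸ idl t e J))
      (Ideal.Quotient.factor (biSup_mono h)) (ψ I J))

include hb hψ in
theorem core (I J : Finset (Fin n)) (j : Fin n) (hj : j ∉ I) (hJ : J = insert j I) (m : ℕ)
    (hm : J.card + m = d) (h : ↥(⋀[(A ⧸ idl t e J)]^m (Ω[(A ⧸ idl t e J)⁄k]))) :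
    ∃ ω : ↥(⋀[(A ⧸ idl t e I)]^m (Ω[(A ⧸ idl t e I)⁄k])), ψ I J m ω = h ∧
      ∀ (J' : Finset (Fin n)) (j' : Fin n), j' ∉ I → J' = insert j' I → j' ≠ j →
        ψ I J' m ω = 0 := by
  classical
  set S : Finset (Fin d) := Finset.univ \ J.map e with hSdef
  have hS : S.card = m := by
    rw [hSdef, Finset.card_sdiff_of_subset (Finset.subset_univ _), Finset.card_univ,
      Fintype.card_fin, Finset.card_map]
    omega
  set c := S.orderEmbOfFin hS with hc
  have hcS : ∀ i, c i ∈ S := fun i => Finset.orderEmbOfFin_mem S hS i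
  have hSc : ∀ l ∈ S, ∃ i, c i = l := by
    intro l hl
    have : l ∈ Set.range c := by
      rw [hc, Finset.range_orderEmbOfFin]
      exact hl
    exact this
  -- spanning on the `J` side
  have hspanJ : Submodule.span (A ⧸ idl t e J) (Set.range (fun i : Fin m =>
      KaehlerDifferential.D k (A ⧸ idl t e J) (Ideal.Quotient.mk (idl t e J) (t (c i))))) = ⊤ := by
    rw [eq_top_iff, ← span_D_quotient t b hb (idl t e J), Submodule.span_le]
    rintro _ ⟨l, rfl⟩
    by_cases hl : l ∈ S
    · obtain ⟨i, rfl⟩ := hSc l hl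
      exact Submodule.subset_span ⟨i, rfl⟩
    · have hl' : l ∈ J.map e := by
        rw [hSdef, Finset.mem_sdiff] at hl
        push Not at hl
        exact hl (Finset.mem_univ _)
      obtain ⟨i, hi, rfl⟩ := Finset.mem_map.mp hl'
      show KaehlerDifferential.D k (A ⧸ idl t e J) (Ideal.Quotient.mk (idl t e J) (t (e i))) ∈ _
      rw [mk_t_eq_zero t e hi, map_zero]
      exact Submodule.zero_mem _
  obtain ⟨ā, rfl⟩ := top_gen m _ hspanJ h
  obtain ⟨a0, rfl⟩ := Ideal.Quotient.mk_surjective ā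
  have hIJ : I ⊆ J := by
    rw [hJ]
    exact Finset.subset_insert _ _
  refine ⟨DeRham.gen (KaehlerDifferential.D k (A ⧸ idl t e I)) m (Ideal.Quotient.mk _ a0)
    (fun i => Ideal.Quotient.mk _ (t (c i))), ?_, ?_⟩
  · rw [hψ I J hIJ]
    simp only [Ideal.Quotient.factor_mk]
    rfl
  · intro J' j' hj' hJ' hne
    have hIJ' : I ⊆ J' := by
      rw [hJ']
      exact Finset.subset_insert _ _
    rw [hψ I J' hIJ']
    simp only [Ideal.Quotient.factor_mk]
    have hmem : e j' ∈ S := by
      rw [hSdef, Finset.mem_sdiff]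
      refine ⟨Finset.mem_univ _, ?_⟩
      intro hc'
      obtain ⟨i, hi, hie⟩ := Finset.mem_map.mp hc'
      have : i = j' := e.injective hie
      rw [this, hJ, Finset.mem_insert] at hi
      rcases hi with hi | hi
      · exact hne hi
      · exact hj' hi
    obtain ⟨i0, hi0⟩ := hSc _ hmem
    have hz : Ideal.Quotient.mk (idl t e J') (t (c i0)) = 0 := by
      rw [hi0]
      exact mk_t_eq_zero t e (by rw [hJ']; exact Finset.mem_insert_self _ _)
    unfold DeRham.gen
    have : exteriorPower.ιMulti (A ⧸ idl t e J') m (fun i =>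
        KaehlerDifferential.D k (A ⧸ idl t e J') (Ideal.Quotient.mk (idl t e J') (t (c i)))) = 0 := by
      refine MultilinearMap.map_coord_zero _ i0 ?_
      show KaehlerDifferential.D k (A ⧸ idl t e J') (Ideal.Quotient.mk (idl t e J') (t (c i0))) = 0
      rw [hz, map_zero]
    rw [this, smul_zero]

include hb hψ in
theorem main (s m : ℕ) (hs : s + 1 + m = d)
    (g : ∀ J : Finset (Fin n), ↥(⋀[(A ⧸ idl t e J)]^m (Ω[(A ⧸ idl t e J)⁄k]))) :
    ∃ ω : ∀ I : Finset (Fin n), ↥(⋀[(A ⧸ idl t e I)]^m (Ω[(A ⧸ idl t e I)⁄k])),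
      ∀ J : Finset (Fin n), J.card = s + 1 →
        (∑ j ∈ J.attach,
          ((-1 : ℤ) ^ (J.filter (fun i => i < j.1)).card) •
            ψ (J.erase j.1) J m (ω (J.erase j.1))) = g J := by
  classical
  have hlift : ∀ (I J0 : Finset (Fin n)) (h : ↥(⋀[(A ⧸ idl t e J0)]^m (Ω[(A ⧸ idl t e J0)⁄k]))),
      ∃ ω : ↥(⋀[(A ⧸ idl t e I)]^m (Ω[(A ⧸ idl t e I)⁄k])),
        ∀ j, j ∉ I → J0 = insert j I → J0.card + m = d →
          (ψ I J0 m ω = h ∧ ∀ (J' : Finset (Fin n)) (j' : Fin n), j' ∉ I → J' = insert j' I →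
            j' ≠ j → ψ I J' m ω = 0) := by
    intro I J0 h
    by_cases hex : ∃ j, j ∉ I ∧ J0 = insert j I ∧ J0.card + m = d
    · obtain ⟨j, hj, hJ, hcard⟩ := hex
      obtain ⟨ω, h1, h2⟩ := core t e b hb ψ hψ I J0 j hj hJ m hcard h
      refine ⟨ω, fun j1 hj1 hJ1 _ => ?_⟩
      have hjj : j1 = j := by
        have hmem : j1 ∈ insert j I := by
          rw [← hJ, hJ1]
          exact Finset.mem_insert_self _ _
        rcases Finset.mem_insert.mp hmem with h | h
        · exact h
        · exact absurd h hj1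
      rw [hjj]
      exact ⟨h1, h2⟩
    · exact ⟨0, fun j hj hJ hcard => absurd ⟨j, hj, hJ, hcard⟩ hex⟩
  choose L hL using hlift
  let Q : Finset (Fin n) → Finset (Fin n) → Prop :=
    fun I J0 => ∃ j, j ∉ I ∧ J0 = insert j I ∧ ∀ i ∈ I, j < i
  refine ⟨fun I => ∑ J0 ∈ (Finset.univ : Finset (Finset (Fin n))).filter (Q I), L I J0 (g J0), ?_⟩
  intro J hJc
  have hJne : J.Nonempty := Finset.card_pos.mp (by omega)
  have key : ∀ j ∈ J, ψ (J.erase j) J m
      (∑ J0 ∈ (Finset.univ : Finset (Finset (Fin n))).filter (Q (J.erase j)),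
        L (J.erase j) J0 (g J0)) = if j = J.min' hJne then g J else 0 := by
    intro j hj
    rw [map_sum]
    have hjI : j ∉ J.erase j := Finset.notMem_erase j J
    have hJins : J = insert j (J.erase j) := (Finset.insert_erase hj).symm
    have hvan : ∀ J0 ∈ (Finset.univ : Finset (Finset (Fin n))).filter (Q (J.erase j)), J0 ≠ J →
        ψ (J.erase j) J m (L (J.erase j) J0 (g J0)) = 0 := by
      intro J0 hJ0 hne
      obtain ⟨j1, hj1, hJ01, _⟩ := (Finset.mem_filter.mp hJ0).2
      have hcard0 : J0.card + m = d := by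
        rw [hJ01, Finset.card_insert_of_notMem hj1, Finset.card_erase_of_mem hj]
        omega
      exact (hL (J.erase j) J0 (g J0) j1 hj1 hJ01 hcard0).2 J j hjI hJins (by
        intro h
        apply hne
        rw [hJ01, ← h]
        exact hJins.symm)
    by_cases hjj : j = J.min' hJne
    · rw [if_pos hjj]
      have hQ : Q (J.erase j) J := by
        refine ⟨j, hjI, hJins, fun i hi => ?_⟩
        have hiJ : i ∈ J := Finset.mem_of_mem_erase hi
        have hne : i ≠ j := Finset.ne_of_mem_erase hi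
        have hle : j ≤ i := by
          rw [hjj]
          exact J.min'_le i hiJ
        exact lt_of_le_of_ne hle (Ne.symm hne)
      rw [Finset.sum_eq_single_of_mem J (Finset.mem_filter.mpr ⟨Finset.mem_univ _, hQ⟩)
        (fun J0 hJ0 hne => hvan J0 hJ0 hne)]
      exact (hL (J.erase j) J (g J) j hjI hJins (by omega)).1
    · rw [if_neg hjj]
      refine Finset.sum_eq_zero (fun J0 hJ0 => ?_)
      by_cases hJ0J : J0 = J
      · exfalso
        obtain ⟨j1, hj1, hJ1, hlt⟩ := (Finset.mem_filter.mp hJ0).2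
        rw [hJ0J] at hJ1
        have hj1j : j1 = j := by
          have hmem : j ∈ insert j1 (J.erase j) := by
            rw [← hJ1]
            exact hj
          rcases Finset.mem_insert.mp hmem with h | h
          · exact h.symm
          · exact absurd h hjI
        rw [hj1j] at hlt
        apply hjj
        apply le_antisymm
        · have hmin : J.min' hJne ∈ J := J.min'_mem hJne
          by_cases hmj : J.min' hJne = j
          · exact hmj.symm.le
          · exact (hlt _ (Finset.mem_erase.mpr ⟨hmj, hmin⟩)).le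
        · exact J.min'_le j hj
      · exact hvan J0 hJ0 hJ0J
  have hsum : ∀ j ∈ J.attach,
      ((-1 : ℤ) ^ (J.filter (fun i => i < j.1)).card) •
        ψ (J.erase j.1) J m ((fun I => ∑ J0 ∈ (Finset.univ : Finset (Finset (Fin n))).filter (Q I),
          L I J0 (g J0)) (J.erase j.1))
      = ((-1 : ℤ) ^ (J.filter (fun i => i < j.1)).card) •
        (if j.1 = J.min' hJne then g J else 0) := by
    intro j _
    rw [key j.1 j.2]
  rw [Finset.sum_congr rfl hsum, Finset.sum_eq_single ⟨J.min' hJne, J.min'_mem hJne⟩]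
  · rw [if_pos rfl]
    have h0 : (J.filter (fun i => i < J.min' hJne)).card = 0 := by
      rw [Finset.card_eq_zero, Finset.filter_eq_empty_iff]
      intro i hi hlt
      exact absurd (J.min'_le i hi) (not_le.mpr hlt)
    rw [h0, pow_zero, one_smul]
  · intro j _ hne
    rw [if_neg (fun h => hne (Subtype.ext h)), smul_zero]
  · intro h
    exact absurd (Finset.mem_attach _ _) h

end Groth.Agent.Lib.T1H4.CechHypB
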