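import Mathlib
import Groth.Prelude.Def_DeRham
import Groth.Agent.Lib.T1H4CechHypB

/-! Helper library (helper4): top relative de Rham classes along coordinate hyperplanes are
represented by ambient forms (recursion on the form degree from the Čech lifting lemma). -/

set_option autoImplicit false

namespace Groth.Agent.Lib.T1H4.CechHypC

open Groth.Agent.Lib.T1H4.CechHypB

universe u

/-- dependent recursion along `ℕ` -/
lemma exists_rec {X : ℕ → Type*} (P0 : X 0 → Prop) (Ps : ∀ q, X q → X (q + 1) → Prop)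
    (h0 : ∃ x, P0 x) (hs : ∀ q x, ∃ y, Ps q x y) :
    ∃ η : ∀ q, X q, P0 (η 0) ∧ ∀ q, Ps q (η q) (η (q + 1)) := by
  choose f hf using hs
  exact ⟨fun q => Nat.rec (motive := X) h0.choose (fun q x => f q x) q, h0.choose_spec,
    fun q => hf q _⟩

variable {k A : Type u} [CommRing k] [CommRing A] [Algebra k A] {d n : ℕ}
  (t : Fin d → A) (e : Fin n ↪ Fin d)
  (b : Module.Basis (Fin d) A (Ω[A⁄k])) (hb : ∀ i, b i = KaehlerDifferential.D k A (t i))
  (ψ : ∀ (I J : Finset (Fin n)) (p : ℕ),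
    ↥(⋀[(A ⧸ idl t e I)]^p (Ω[(A ⧸ idl t e I)⁄k])) →+ ↥(⋀[(A ⧸ idl t e J)]^p (Ω[(A ⧸ idl t e J)⁄k])))
  (hψ : ∀ (I J : Finset (Fin n)) (h : I ⊆ J),
    DeRham.IsCxMap (KaehlerDifferential.D k (A ⧸ idl t e I)) (KaehlerDifferential.D k (A ⧸ idl t e J))
      (Ideal.Quotient.factor (biSup_mono h)) (ψ I J))
  (dq : ∀ (I : Finset (Fin n)) (p : ℕ), ↥(⋀[(A ⧸ idl t e I)]^p (Ω[(A ⧸ idl t e I)⁄k])) →ₗ[k]
    ↥(⋀[(A ⧸ idl t e I)]^(p + 1) (Ω[(A ⧸ idl t e I)⁄k])))
  (ω : ∀ (J : Finset (Fin n)) (q : ℕ), ↥(⋀[(A ⧸ idl t e J)]^q (Ω[(A ⧸ idl t e J)⁄k])))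

include hb hψ in
theorem main :
    ∃ η : ∀ (I : Finset (Fin n)) (q : ℕ), ↥(⋀[(A ⧸ idl t e I)]^q (Ω[(A ⧸ idl t e I)⁄k])),
      (∀ (J : Finset (Fin n)) (q : ℕ), J.Nonempty → J.card + (q + 1) = d →
        ω J (q + 1) =
          (∑ j ∈ J.attach, ((-1 : ℤ) ^ (J.filter (fun i => i < j.1)).card) •
            ψ (J.erase j.1) J (q + 1) (η (J.erase j.1) (q + 1))) +
            ((-1 : ℤ) ^ J.card) • dq J q (η J q)) ∧
      (∀ J : Finset (Fin n), J.Nonempty → J.card = d →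
        ω J 0 = ∑ j ∈ J.attach, ((-1 : ℤ) ^ (J.filter (fun i => i < j.1)).card) •
          ψ (J.erase j.1) J 0 (η (J.erase j.1) 0)) := by
  obtain ⟨η, h0, hs⟩ := exists_rec
    (X := fun q => ∀ I : Finset (Fin n), ↥(⋀[(A ⧸ idl t e I)]^q (Ω[(A ⧸ idl t e I)⁄k])))
    (fun x => ∀ J : Finset (Fin n), J.Nonempty → J.card = d →
        ω J 0 = ∑ j ∈ J.attach, ((-1 : ℤ) ^ (J.filter (fun i => i < j.1)).card) •
          ψ (J.erase j.1) J 0 (x (J.erase j.1)))
    (fun q x y => ∀ (J : Finset (Fin n)), J.Nonempty → J.card + (q + 1) = d →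
        ω J (q + 1) =
          (∑ j ∈ J.attach, ((-1 : ℤ) ^ (J.filter (fun i => i < j.1)).card) •
            ψ (J.erase j.1) J (q + 1) (y (J.erase j.1))) +
            ((-1 : ℤ) ^ J.card) • dq J q (x J))
    (by
      rcases Nat.eq_zero_or_pos d with hd | hd
      · refine ⟨fun _ => 0, fun J hJ hc => ?_⟩
        exfalso
        have := Finset.card_pos.mpr hJ
        omega
      · obtain ⟨x, hx⟩ := CechHypB.main t e b hb ψ hψ (d - 1) 0 (by omega) (fun J => ω J 0)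
        exact ⟨x, fun J _ hc => (hx J (by omega)).symm⟩)
    (by
      intro q x
      by_cases hq : q + 2 ≤ d
      · obtain ⟨y, hy⟩ := CechHypB.main t e b hb ψ hψ (d - q - 2) (q + 1) (by omega)
          (fun J => ω J (q + 1) - ((-1 : ℤ) ^ J.card) • dq J q (x J))
        refine ⟨y, fun J _ hc => ?_⟩
        rw [hy J (by omega)]
        abel
      · refine ⟨fun _ => 0, fun J hJ hc => ?_⟩
        exfalso
        have := Finset.card_pos.mpr hJ
        omega)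
  exact ⟨fun I q => η q I, fun J q hJ hc => hs q J hJ hc, fun J hJ hc => h0 J hJ hc⟩

end Groth.Agent.Lib.T1H4.CechHypC
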