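import Mathlib

/-!
# Base change maps and presentations (helper4)

For `f : R →+* S`, `φ : X ⟶ restrictScalars f Y` and a spanning family `m : I → X`, the base change
map `S ⊗_R X → Y` is bijective iff `φ ∘ m` spans `Y` and the relations among the `φ (m k)` are
generated by the relations among the `m k`.
-/

set_option autoImplicit false
set_option linter.unusedSectionVars false
set_option linter.style.haveILetI false
universe u
open CategoryTheory TensorProduct ChangeOfRings ModuleCat

namespace Groth.Agent.Lib.T1H4.Chaotic

variable {R S : Type u} [CommRing R] [CommRing S] (f : R →+* S) (X : ModuleCat.{u} R)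
  (Y : ModuleCat.{u} S) (φ : X ⟶ (ModuleCat.restrictScalars f).obj Y)

/-- the base change map -/
noncomputable abbrev bc : (ModuleCat.extendScalars f).obj X ⟶ Y :=
  ((ModuleCat.extendRestrictScalarsAdj f).homEquiv X Y).symm φ

lemma bc_tmul (s : S) (x : X) :
    ((bc f X Y φ).hom ((s ⊗ₜ[R, f] x : (ModuleCat.extendScalars f).obj X)) : Y) =
      s • (φ.hom x : Y) := rfl

lemma mul_tmul (s : S) (r : R) (x : X) :
    ((s * f r) ⊗ₜ[R, f] x : (ModuleCat.extendScalars f).obj X) = s ⊗ₜ[R, f] (r • x) := by
  letI := Module.compHom S f
  have h := TensorProduct.smul_tmul (R := R) (R' := R) r s (x : X)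
  rw [mul_comm]
  exact h

variable {I : Type u} (m : I → X)

/-- the relations among the `m k`, pushed to `S` -/
def relSet : Set (I →₀ S) :=
  {b | ∃ c : I →₀ R, Finsupp.linearCombination R m c = 0 ∧ b = c.mapRange f f.map_zero}

/-- `b ↦ ∑ b_k ⊗ m_k` -/
noncomputable def tau : (I →₀ S) →ₗ[S] (ModuleCat.extendScalars f).obj X :=
  Finsupp.linearCombination S
    (fun k => ((1 : S) ⊗ₜ[R, f] m k : (ModuleCat.extendScalars f).obj X))

lemma tau_single (k : I) (a : S) :
    tau f X m (Finsupp.single k a) = (a ⊗ₜ[R, f] m k : (ModuleCat.extendScalars f).obj X) := by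
  unfold tau
  rw [Finsupp.linearCombination_single]
  exact (ExtendScalars.smul_tmul f a 1 (m k)).trans
    (congrArg (fun s : S => (s ⊗ₜ[R, f] m k : (ModuleCat.extendScalars f).obj X)) (mul_one a))

lemma bc_tau (b : I →₀ S) :
    (bc f X Y φ).hom (tau f X m b) = Finsupp.linearCombination S (fun k => (φ.hom (m k) : Y)) b := by
  unfold tau
  rw [Finsupp.apply_linearCombination]
  refine congrArg (fun v : I → Y => Finsupp.linearCombination S v b) (funext fun k => ?_)
  change (bc f X Y φ).hom ((1 : S) ⊗ₜ[R, f] m k) = _
  rw [bc_tmul, one_smul]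

lemma tau_mapRange (c : I →₀ R) :
    tau f X m (c.mapRange f f.map_zero) =
      ((1 : S) ⊗ₜ[R, f] (Finsupp.linearCombination R m c) :
        (ModuleCat.extendScalars f).obj X) := by
  letI := Module.compHom S f
  induction c using Finsupp.induction_linear with
  | zero =>
    rw [Finsupp.mapRange_zero, map_zero, map_zero]
    exact (TensorProduct.tmul_zero _ _).symm
  | add c c' h h' =>
    rw [Finsupp.mapRange_add (fun a b => map_add f a b), map_add, map_add, h, h']
    exact (TensorProduct.tmul_add _ _ _).symm
  | single k a =>
    rw [Finsupp.mapRange_single, tau_single, Finsupp.linearCombination_single]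
    exact (congrArg (fun s : S => (s ⊗ₜ[R, f] m k : (ModuleCat.extendScalars f).obj X))
      (one_mul (f a)).symm).trans (mul_tmul f X 1 a (m k))

lemma tmul_mem_range_tau (hm : ∀ x : X, ∃ c : I →₀ R, Finsupp.linearCombination R m c = x)
    (s : S) (x : X) :
    (s ⊗ₜ[R, f] x : (ModuleCat.extendScalars f).obj X) ∈ LinearMap.range (tau f X m) := by
  obtain ⟨c, rfl⟩ := hm x
  refine ⟨s • c.mapRange f f.map_zero, ?_⟩
  rw [map_smul, tau_mapRange]
  exact (ExtendScalars.smul_tmul f s 1 _).trans
    (congrArg (fun s' : S => (s' ⊗ₜ[R, f] (Finsupp.linearCombination R m c) :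
      (ModuleCat.extendScalars f).obj X)) (mul_one s))

lemma tau_surjective (hm : ∀ x : X, ∃ c : I →₀ R, Finsupp.linearCombination R m c = x) :
    Function.Surjective (tau f X m) := by
  intro z
  rw [← LinearMap.mem_range]
  induction z using TensorProduct.induction_on with
  | zero => exact Submodule.zero_mem _
  | tmul s x => exact tmul_mem_range_tau f X m hm s x
  | add z z' h h' => exact Submodule.add_mem _ h h'

lemma relSet_le_ker_tau : Submodule.span S (relSet f X m) ≤ LinearMap.ker (tau f X m) := by
  rw [Submodule.span_le]
  rintro b ⟨c, hc, rfl⟩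
  rw [SetLike.mem_coe, LinearMap.mem_ker, tau_mapRange, hc]
  letI := Module.compHom S f
  exact TensorProduct.tmul_zero _ _

section RightExact

open Classical in
/-- `tau` through the identification `S ⊗ (I →₀ R) ≃ (I →₀ S)` -/
lemma tau_eq_lTensor (b : I →₀ S) :
    letI := Module.compHom S f
    (tau f X m b : (ModuleCat.extendScalars f).obj X) =
      ((LinearMap.lTensor S (Finsupp.linearCombination R m))
        ((TensorProduct.finsuppScalarRight R R S I).symm b) : S ⊗[R] X) := by
  letI := Module.compHom S f
  induction b using Finsupp.induction_linear with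
  | zero =>
    rw [map_zero, map_zero, map_zero]
    rfl
  | add b b' h h' =>
    rw [map_add, map_add, map_add, h, h']
    rfl
  | single k a =>
    rw [tau_single, TensorProduct.finsuppScalarRight_symm_apply_single, LinearMap.lTensor_tmul,
      Finsupp.linearCombination_single, one_smul]
    rfl

/-- generic right exactness, elementwise -/
theorem exists_of_lTensor_eq_zero {R₀ : Type u} [CommRing R₀] {X₀ N₀ : Type u} [AddCommGroup X₀]
    [Module R₀ X₀] [AddCommGroup N₀] [Module R₀ N₀] (Q : Type u) [AddCommGroup Q] [Module R₀ Q]
    (g : N₀ →ₗ[R₀] X₀) (hg : Function.Surjective g) (z : Q ⊗[R₀] N₀)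
    (hz : LinearMap.lTensor Q g z = 0) :
    ∃ v : Q ⊗[R₀] (LinearMap.ker g), LinearMap.lTensor Q (LinearMap.ker g).subtype v = z := by
  have h : Function.Exact (LinearMap.lTensor Q (LinearMap.ker g).subtype)
      (LinearMap.lTensor Q g) := lTensor_exact Q g.exact_subtype_ker_map hg
  obtain ⟨v, hv⟩ := (h z).1 hz
  exact ⟨v, hv⟩

open Classical in
/-- the image of `S ⊗ ker` in `I →₀ S` lies in the span of the relations -/
lemma finsuppScalarRight_lTensor_mem
    (v : letI : Module R S := Module.compHom S f
      S ⊗[R] (LinearMap.ker (Finsupp.linearCombination R m))) :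
    letI : Module R S := Module.compHom S f
    TensorProduct.finsuppScalarRight R R S I
      (LinearMap.lTensor S (LinearMap.ker (Finsupp.linearCombination R m)).subtype v) ∈
        Submodule.span S (relSet f X m) := by
  letI : Module R S := Module.compHom S f
  induction v using TensorProduct.induction_on with
  | zero =>
    rw [map_zero, map_zero]
    exact Submodule.zero_mem _
  | add v v' h h' =>
    rw [map_add, map_add]
    exact Submodule.add_mem _ h h'
  | tmul s c =>
    rw [LinearMap.lTensor_tmul]
    have h2 : TensorProduct.finsuppScalarRight R R S I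
        (s ⊗ₜ[R] (LinearMap.ker (Finsupp.linearCombination R m)).subtype c) =
        s • (c : I →₀ R).mapRange f f.map_zero := by
      ext i
      rw [TensorProduct.finsuppScalarRight_apply_tmul_apply, Finsupp.smul_apply,
        Finsupp.mapRange_apply, smul_eq_mul, mul_comm]
      rfl
    rw [h2]
    exact Submodule.smul_mem _ s (Submodule.subset_span ⟨c, LinearMap.mem_ker.1 c.2, rfl⟩)

open Classical in
/-- right exactness of the tensor product: the kernel of `tau` is spanned by the relations -/
theorem ker_tau_le (hm : ∀ x : X, ∃ c : I →₀ R, Finsupp.linearCombination R m c = x) :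
    LinearMap.ker (tau f X m) ≤ Submodule.span S (relSet f X m) := by
  letI : Module R S := Module.compHom S f
  intro b hb
  have h1 : (LinearMap.lTensor S (Finsupp.linearCombination R m))
      ((TensorProduct.finsuppScalarRight R R S I).symm b) = 0 :=
    (tau_eq_lTensor f X m b).symm.trans (LinearMap.mem_ker.1 hb)
  obtain ⟨v, hv⟩ := exists_of_lTensor_eq_zero S (Finsupp.linearCombination R m)
    (fun x => hm x) _ h1
  have hb' : b = TensorProduct.finsuppScalarRight R R S I
      (LinearMap.lTensor S (LinearMap.ker (Finsupp.linearCombination R m)).subtype v) := by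
    rw [hv, LinearEquiv.apply_symm_apply]
  rw [hb']
  exact finsuppScalarRight_lTensor_mem f X m v

end RightExact

/-- the base change map is bijective when the images span and relations come from relations -/
theorem bc_bijective (hm : ∀ x : X, ∃ c : I →₀ R, Finsupp.linearCombination R m c = x)
    (hY : ∀ y : Y, ∃ b : I →₀ S,
      Finsupp.linearCombination S (fun k => (φ.hom (m k) : Y)) b = y)
    (hrel : ∀ b : I →₀ S, Finsupp.linearCombination S (fun k => (φ.hom (m k) : Y)) b = 0 →
      b ∈ Submodule.span S (relSet f X m)) :
    Function.Bijective (bc f X Y φ).hom := by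
  constructor
  · rw [injective_iff_map_eq_zero]
    intro z hz
    obtain ⟨b, rfl⟩ := tau_surjective f X m hm z
    rw [bc_tau] at hz
    exact relSet_le_ker_tau f X m (hrel b hz)
  · intro y
    obtain ⟨b, hb⟩ := hY y
    exact ⟨tau f X m b, by rw [bc_tau, hb]⟩

/-- conversely, if the base change map is injective, relations come from relations -/
theorem rel_of_bc_injective (hm : ∀ x : X, ∃ c : I →₀ R, Finsupp.linearCombination R m c = x)
    (hinj : Function.Injective (bc f X Y φ).hom) (b : I →₀ S)
    (hb : Finsupp.linearCombination S (fun k => (φ.hom (m k) : Y)) b = 0) :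
    b ∈ Submodule.span S (relSet f X m) := by
  apply ker_tau_le f X m hm
  rw [LinearMap.mem_ker]
  apply hinj
  rw [bc_tau, hb, map_zero]
  rfl

end Groth.Agent.Lib.T1H4.Chaotic
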