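import Mathlib
import Groth.Prelude.Def_ModSite2
import Groth.Agent.Lib.Helper4ModEpi

/-!
# Elementwise criteria for generating sections on a ringed site (helper4)

Self-contained (light imports): coordinates on finite free modules, local surjectivity and
epimorphisms, `gen_loc` / `epi_of_gen_loc`.
-/

set_option autoImplicit false
set_option linter.unusedSectionVars false
set_option linter.style.haveILetI false
universe u
open CategoryTheory CategoryTheory.Limits Opposite

namespace Groth.Agent.Lib.T1H4.ModElt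

variable {C : Type u} [SmallCategory C] {J : GrothendieckTopology C} {O : Sheaf J CommRingCat.{u}}

section Coprod

variable {ι : Type u} {F : ι → ModSite.Mod O} (c : Cofan F) (hc : IsColimit c)

open Classical in
/-- the projections of a coproduct -/
noncomputable def proj (j : ι) : c.pt ⟶ F j :=
  Cofan.IsColimit.desc hc (fun i => if h : i = j then eqToHom (congrArg F h) else 0)

lemma inj_proj_self (j : ι) : c.inj j ≫ proj c hc j = 𝟙 _ := by
  unfold proj
  rw [Cofan.IsColimit.fac, dif_pos rfl]
  rfl

lemma inj_proj_ne {i j : ι} (h : i ≠ j) : c.inj i ≫ proj c hc j = 0 := by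
  unfold proj
  rw [Cofan.IsColimit.fac, dif_neg h]

lemma sum_proj_inj [Fintype ι] : ∑ i, proj c hc i ≫ c.inj i = 𝟙 c.pt := by
  classical
  apply Cofan.IsColimit.hom_ext hc
  intro j
  rw [Preadditive.comp_sum, Category.comp_id]
  rw [Finset.sum_eq_single j]
  · rw [← Category.assoc, inj_proj_self, Category.id_comp]
  · intro i _ hij
    rw [← Category.assoc, inj_proj_ne c hc (Ne.symm hij), zero_comp]
  · intro h
    exact absurd (Finset.mem_univ j) h

/-- evaluation of morphisms at a section, as an additive map -/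
def evalHom (A B : ModSite.Mod O) (W : C) (s : A.val.obj (op W)) :
    (A ⟶ B) →+ B.val.obj (op W) where
  toFun ψ := ψ.val.app (op W) s
  map_zero' := rfl
  map_add' _ _ := rfl

end Coprod

section Free

variable (I : Type u)

/-- the basic elements of `free I` over an object -/
noncomputable def eps (Y : C) (k : I) :
    (SheafOfModules.free (R := ModSite.ringSh O) I).val.obj (op Y) :=
  (SheafOfModules.freeSection (R := ModSite.ringSh O) k).val (op Y)

lemma eps_eq (Y : C) (k : I) : eps (O := O) I Y k =
    ((SheafOfModules.freeCofan (R := ModSite.ringSh O) I).inj k).val.app (op Y)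
      (1 : (ModSite.ringSh O).obj.obj (op Y)) := by
  unfold eps SheafOfModules.freeSection
  have h1 : (SheafOfModules.free (R := ModSite.ringSh O) I).freeHomEquiv (𝟙 _) k =
      (SheafOfModules.free (R := ModSite.ringSh O) I).unitHomEquiv
        (SheafOfModules.ιFree k ≫ 𝟙 _) := rfl
  rw [h1, Category.comp_id]
  rfl

lemma eps_restrict {Y Y' : C} (g : Y' ⟶ Y) (k : I) :
    (SheafOfModules.free (R := ModSite.ringSh O) I).val.restrictₛₗ g.op (eps (O := O) I Y k) =
      eps I Y' k :=
  PresheafOfModules.sections_property (SheafOfModules.freeSection (R := ModSite.ringSh O) k) g.op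

variable [Fintype I]

/-- the `k`-th coordinate of an element of `free I` -/
noncomputable def coord (Y : C) (k : I) :
    (SheafOfModules.free (R := ModSite.ringSh O) I).val.obj (op Y)
      →ₗ[(ModSite.ringSh O).obj.obj (op Y)] (ModSite.ringSh O).obj.obj (op Y) :=
  ((proj (SheafOfModules.freeCofan (R := ModSite.ringSh O) I)
    (SheafOfModules.isColimitFreeCofan (R := ModSite.ringSh O) I) k).val.app (op Y)).hom

lemma coord_eps [DecidableEq I] (Y : C) (j k : I) :
    coord (O := O) I Y j (eps I Y k) = if k = j then 1 else 0 := by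
  rw [eps_eq]
  let c := SheafOfModules.freeCofan (R := ModSite.ringSh O) I
  let hc := SheafOfModules.isColimitFreeCofan (R := ModSite.ringSh O) I
  by_cases hkj : k = j
  · subst hkj
    rw [if_pos rfl]
    exact congrArg (fun χ : SheafOfModules.unit (ModSite.ringSh O) ⟶
      SheafOfModules.unit (ModSite.ringSh O) => χ.val.app (op Y)
        (1 : (ModSite.ringSh O).obj.obj (op Y))) (inj_proj_self c hc k)
  · rw [if_neg hkj]
    exact congrArg (fun χ : SheafOfModules.unit (ModSite.ringSh O) ⟶
      SheafOfModules.unit (ModSite.ringSh O) => χ.val.app (op Y)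
        (1 : (ModSite.ringSh O).obj.obj (op Y))) (inj_proj_ne c hc hkj)

/-- every element of `free I` is the combination of the basic elements with its coordinates -/
lemma eq_sum_coord_eps (Y : C)
    (s : (SheafOfModules.free (R := ModSite.ringSh O) I).val.obj (op Y)) :
    s = ∑ k, coord (O := O) I Y k s • eps I Y k := by
  let c := SheafOfModules.freeCofan (R := ModSite.ringSh O) I
  let hc := SheafOfModules.isColimitFreeCofan (R := ModSite.ringSh O) I
  have h1 := congrArg (evalHom c.pt c.pt Y s) (sum_proj_inj c hc)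
  rw [map_sum] at h1
  have h2 : s = ∑ k, (c.inj k).val.app (op Y) ((proj c hc k).val.app (op Y) s) := h1.symm
  refine h2.trans (Finset.sum_congr rfl (fun k _ => ?_))
  rw [eps_eq]
  set a : (ModSite.ringSh O).obj.obj (op Y) := (proj c hc k).val.app (op Y) s with ha
  have hak : coord (O := O) I Y k s = a := rfl
  rw [hak]
  have h4 : a = a • (1 : (ModSite.ringSh O).obj.obj (op Y)) := (mul_one a).symm
  conv_lhs => rw [h4]
  exact ((c.inj k).val.app (op Y)).hom.map_smul a _

lemma coord_sum_smul_eps [DecidableEq I] (Y : C) (a : I → (ModSite.ringSh O).obj.obj (op Y))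
    (j : I) : coord (O := O) I Y j (∑ k, a k • eps I Y k) = a j := by
  rw [map_sum]
  rw [Finset.sum_eq_single j]
  · rw [map_smul, coord_eps, if_pos rfl, smul_eq_mul, mul_one]
  · intro k _ hk
    rw [map_smul, coord_eps, if_neg hk, smul_zero]
  · intro h
    exact absurd (Finset.mem_univ j) h

end Free

section Epi

/-- a section vanishing on a covering sieve vanishes -/
lemma eq_zero_of_sieve (T : ModSite.Mod O) {V : C} (S : Sieve V) (hS : S ∈ J V)
    (s : T.val.obj (op V))
    (hs : ∀ ⦃Y : C⦄ (g : Y ⟶ V), S g → T.val.restrictₛₗ g.op s = 0) : s = 0 := by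
  have hsep : Presheaf.IsSeparated J T.val.presheaf := Presheaf.IsSheaf.isSeparated T.isSheaf
  refine hsep V _ hS s 0 ?_
  intro Y g hg
  rw [map_zero]
  exact hs g hg

/-- criterion for epimorphisms: local surjectivity on sections -/
theorem epi_of_forall_exists_sieve {M N : ModSite.Mod O} (π : M ⟶ N)
    (h : ∀ (Y : C) (t : N.val.obj (op Y)), ∃ S ∈ J Y, ∀ ⦃Y' : C⦄ (g : Y' ⟶ Y), S g →
      ∃ z : M.val.obj (op Y'), π.val.app (op Y') z = N.val.restrictₛₗ g.op t) :
    Epi π := by
  apply Preadditive.epi_of_cancel_zero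
  intro Q q hq
  ext Y t
  obtain ⟨S, hS, hS'⟩ := h Y.unop t
  change q.val.app Y t = 0
  refine eq_zero_of_sieve Q S hS _ (fun Y' g hg => ?_)
  obtain ⟨z, hz⟩ := hS' g hg
  have h1 := PresheafOfModules.naturality_apply q.val g.op t
  have h2 : Q.val.restrictₛₗ g.op (q.val.app Y t) = q.val.app (op Y') (N.val.restrictₛₗ g.op t) :=
    h1.symm
  rw [h2, ← hz]
  exact congrArg (fun ψ : M ⟶ Q => ψ.val.app (op Y') z) hq

/-- sections of the target of an epimorphism lift locally -/
theorem exists_sieve_lift {G F : ModSite.Mod O} (p : G ⟶ F) [Epi p] (V : C)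
    (s : F.val.obj (op V)) :
    ∃ S ∈ J V, ∀ ⦃W : C⦄ (g : W ⟶ V), S g →
      ∃ t : G.val.obj (op W), p.val.app (op W) t = F.val.restrictₛₗ g.op s := by
  haveI := Groth.Agent.Lib.Helper4.ModEpi.isLocallySurjective_of_epi p
  refine ⟨Presheaf.imageSieve ((PresheafOfModules.toPresheaf _).map p.val) s,
    Presheaf.imageSieve_mem J ((PresheafOfModules.toPresheaf _).map p.val) (U := op V) s, ?_⟩
  intro W g hg
  obtain ⟨t, ht⟩ := hg
  exact ⟨t, ht⟩

end Epi

section Gen

/-- the value at `Y` of the `k`-th section -/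
noncomputable def sval {N : ModSite.Mod O} {I : Type u} (s : I → N.sections) (k : I) (Y : C) :
    N.val.obj (op Y) := (s k).val (op Y)

lemma sval_restrict {N : ModSite.Mod O} {I : Type u} (s : I → N.sections) (k : I) {Y Y' : C}
    (g : Y' ⟶ Y) : N.val.restrictₛₗ g.op (sval s k Y) = sval s k Y' :=
  PresheafOfModules.sections_property (s k) g.op

lemma freeHomEquiv_symm_app_eps {N : ModSite.Mod O} {I : Type u} (s : I → N.sections) (k : I)
    (Y : C) : (N.freeHomEquiv.symm s).val.app (op Y) (eps (O := O) I Y k) = sval s k Y := by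
  have h1 : N.freeHomEquiv (N.freeHomEquiv.symm s) k = s k := by
    rw [Equiv.apply_symm_apply]
  rw [SheafOfModules.freeHomEquiv_apply] at h1
  have h2 := congrArg (fun σ : N.sections => σ.val (op Y)) h1
  exact h2

lemma freeHomEquiv_symm_app_sum {N : ModSite.Mod O} {I : Type u} [Fintype I]
    (s : I → N.sections) (Y : C) (a : I → (ModSite.ringSh O).obj.obj (op Y)) :
    (N.freeHomEquiv.symm s).val.app (op Y) (∑ k, a k • eps (O := O) I Y k) =
      ∑ k, a k • sval s k Y := by
  rw [map_sum]
  refine Finset.sum_congr rfl (fun k _ => ?_)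
  rw [← freeHomEquiv_symm_app_eps s k Y]
  exact ((N.freeHomEquiv.symm s).val.app (op Y)).hom.map_smul _ _

/-- generating sections generate locally -/
theorem gen_loc {N : ModSite.Mod O} {I : Type u} [Fintype I] (s : I → N.sections)
    [Epi (N.freeHomEquiv.symm s)] (Y : C) (t : N.val.obj (op Y)) :
    ∃ S ∈ J Y, ∀ ⦃Y' : C⦄ (g : Y' ⟶ Y), S g →
      ∃ a : I → (ModSite.ringSh O).obj.obj (op Y'),
        N.val.restrictₛₗ g.op t = ∑ k, a k • sval s k Y' := by
  obtain ⟨S, hS, hS'⟩ := exists_sieve_lift (N.freeHomEquiv.symm s) Y t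
  refine ⟨S, hS, fun Y' g hg => ?_⟩
  obtain ⟨z, hz⟩ := hS' g hg
  refine ⟨fun k => coord (O := O) I Y' k z, ?_⟩
  rw [← hz, ← freeHomEquiv_symm_app_sum, ← eq_sum_coord_eps]

/-- sections generating locally are generating sections -/
theorem epi_of_gen_loc {N : ModSite.Mod O} {I : Type u} [Fintype I] (s : I → N.sections)
    (h : ∀ (Y : C) (t : N.val.obj (op Y)), ∃ S ∈ J Y, ∀ ⦃Y' : C⦄ (g : Y' ⟶ Y), S g →
      ∃ a : I → (ModSite.ringSh O).obj.obj (op Y'),
        N.val.restrictₛₗ g.op t = ∑ k, a k • sval s k Y') :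
    Epi (N.freeHomEquiv.symm s) := by
  apply epi_of_forall_exists_sieve
  intro Y t
  obtain ⟨S, hS, hS'⟩ := h Y t
  refine ⟨S, hS, fun Y' g hg => ?_⟩
  obtain ⟨a, ha⟩ := hS' g hg
  exact ⟨∑ k, a k • eps (O := O) I Y' k, by rw [ha, freeHomEquiv_symm_app_sum]⟩

end Gen

end Groth.Agent.Lib.T1H4.ModElt
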