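import Mathlib
import Groth.Prelude.Def_ModSite2
import Groth.Agent.Lib.T1H4ModEltA

/-!
# Elementwise kernels, cokernels on a ringed site (helper4)
-/

set_option autoImplicit false
set_option linter.unusedSectionVars false
set_option linter.style.haveILetI false
universe u
open CategoryTheory CategoryTheory.Limits Opposite

namespace Groth.Agent.Lib.T1H4.ModElt

section Generic

variable {C : Type u} [SmallCategory C] {J : GrothendieckTopology C} {R : Sheaf J RingCat.{u}}

theorem exists_of_isLimit_kernelFork_gen {K M N : SheafOfModules.{u} R} (ι : K ⟶ M) (φ : M ⟶ N)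
    (w : ι ≫ φ = 0) (hι : IsLimit (KernelFork.ofι ι w)) (Y : Cᵒᵖ) (z : M.val.obj Y)
    (hz : φ.val.app Y z = 0) : ∃ x : K.val.obj Y, ι.val.app Y x = z := by
  let S : ShortComplex (SheafOfModules.{u} R) := ShortComplex.mk ι φ w
  have hS : S.Exact := ShortComplex.exact_of_f_is_kernel S hι
  haveI : Mono S.f := mono_of_isLimit_fork hι
  haveI : (SheafOfModules.evaluation.{u} R Y).PreservesZeroMorphisms := ⟨fun _ _ => rfl⟩
  have hS' := hS.map_of_mono_of_preservesKernel
    (SheafOfModules.evaluation.{u} R Y) inferInstance inferInstance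
  rw [ShortComplex.moduleCat_exact_iff] at hS'
  exact hS' z hz

end Generic

variable {C : Type u} [SmallCategory C] {J : GrothendieckTopology C} {O : Sheaf J CommRingCat.{u}}

/-- monomorphisms are injective on sections -/
lemma injective_app_of_mono {G G' : ModSite.Mod O} (α : G ⟶ G') [Mono α] (X : C) :
    Function.Injective (α.val.app (op X)) := by
  haveI : Mono ((SheafOfModules.toSheaf (ModSite.ringSh O)).map α) := inferInstance
  haveI h2 : Mono ((sheafToPresheaf J AddCommGrpCat.{u}).map
    ((SheafOfModules.toSheaf (ModSite.ringSh O)).map α)) := inferInstance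
  have h3 := (NatTrans.mono_iff_mono_app _).1 h2 (op X)
  exact (AddCommGrpCat.mono_iff_injective _).1 h3

/-- exactness on sections of a kernel fork -/
theorem exists_of_isLimit_kernelFork {K M N : ModSite.Mod O} (ι : K ⟶ M) (φ : M ⟶ N)
    (w : ι ≫ φ = 0) (hι : IsLimit (KernelFork.ofι ι w)) (Y : C) (z : M.val.obj (op Y))
    (hz : φ.val.app (op Y) z = 0) : ∃ x : K.val.obj (op Y), ι.val.app (op Y) x = z :=
  exists_of_isLimit_kernelFork_gen ι φ w hι (op Y) z hz

theorem exists_kernel_lift {M N : ModSite.Mod O} (φ : M ⟶ N) (Y : C) (z : M.val.obj (op Y))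
    (hz : φ.val.app (op Y) z = 0) :
    ∃ x : (kernel φ).val.obj (op Y), (kernel.ι φ).val.app (op Y) x = z :=
  exists_of_isLimit_kernelFork (kernel.ι φ) φ (kernel.condition φ) (kernelIsKernel φ) Y z hz

lemma kernel_ι_app {M N : ModSite.Mod O} (φ : M ⟶ N) (Y : C) (x : (kernel φ).val.obj (op Y)) :
    φ.val.app (op Y) ((kernel.ι φ).val.app (op Y) x) = 0 :=
  congrArg (fun ψ : kernel φ ⟶ N => ψ.val.app (op Y) x) (kernel.condition φ)

/-- sections killed by the cokernel projection locally come from the source -/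
theorem exists_sieve_of_cokernel_π_eq_zero {M N : ModSite.Mod O} (φ : M ⟶ N) (Y : C)
    (t : N.val.obj (op Y)) (ht : (cokernel.π φ).val.app (op Y) t = 0) :
    ∃ S ∈ J Y, ∀ ⦃Y' : C⦄ (g : Y' ⟶ Y), S g →
      ∃ z : M.val.obj (op Y'), φ.val.app (op Y') z = N.val.restrictₛₗ g.op t := by
  -- `M ⟶ kernel (cokernel.π φ)` is an epimorphism
  let q : M ⟶ kernel (cokernel.π φ) := kernel.lift _ φ (cokernel.condition φ)
  haveI : Epi q := by
    have : q = Abelian.factorThruImage φ := by
      apply (cancel_mono (kernel.ι (cokernel.π φ))).1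
      simp [q]
    rw [this]
    infer_instance
  obtain ⟨x, hx⟩ := exists_kernel_lift (cokernel.π φ) Y t ht
  obtain ⟨S, hS, hS'⟩ := exists_sieve_lift q Y x
  refine ⟨S, hS, fun Y' g hg => ?_⟩
  obtain ⟨z, hz⟩ := hS' g hg
  refine ⟨z, ?_⟩
  have h1 : φ = q ≫ kernel.ι (cokernel.π φ) := by simp [q]
  have h2 : φ.val.app (op Y') z = (kernel.ι (cokernel.π φ)).val.app (op Y')
      (q.val.app (op Y') z) := by
    conv_lhs => rw [h1]
    rfl
  rw [h2, hz, ← hx]
  exact PresheafOfModules.naturality_apply (kernel.ι (cokernel.π φ)).val g.op x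

lemma cokernel_π_app {M N : ModSite.Mod O} (φ : M ⟶ N) (Y : C) (z : M.val.obj (op Y)) :
    (cokernel.π φ).val.app (op Y) (φ.val.app (op Y) z) = 0 :=
  congrArg (fun ψ : M ⟶ cokernel φ => ψ.val.app (op Y) z) (cokernel.condition φ)

end Groth.Agent.Lib.T1H4.ModElt
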