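import Mathlib
import Groth.Prelude.Def_ModSite2
import Groth.Agent.Lib.T1H4ModEltB
import Groth.Agent.Lib.Helper23FreeOn

/-!
# Elementwise generating sections on a ringed space (helper4)
-/

set_option autoImplicit false
set_option linter.unusedSectionVars false
set_option linter.style.haveILetI false
universe u
open CategoryTheory CategoryTheory.Limits Opposite TopologicalSpace

namespace Groth.Agent.Lib.T1H4.ModElt

open Groth.Agent.Lib.Helper23FreeOn

variable {X : TopCat.{u}} (O : TopCat.Sheaf CommRingCat.{u} X)

/-- the sections `m k ∈ M(W)` generate `M|_W` elementwise -/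
def LocGen (M : ModSite.Mod O) (W : Opens X) {I : Type u} [Fintype I]
    (m : I → M.val.obj (op W)) : Prop :=
  ∀ (V : Opens X) (i : V ⟶ W) (t : M.val.obj (op V)) (x : X), x ∈ V →
    ∃ (V' : Opens X) (_ : x ∈ V') (j : V' ⟶ V) (a : I → (ModSite.ringSh O).obj.obj (op V')),
      M.val.restrictₛₗ j.op t = ∑ k, a k • M.val.restrictₛₗ (j ≫ i).op (m k)

/-- the family of sections of `M|_W` attached to elements of `M(W)` -/
noncomputable def secs (M : ModSite.Mod O) (W : Opens X) {I : Type u}
    (m : I → M.val.obj (op W)) : I → ((ModSite.restr O W).obj M).sections :=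
  fun k => sec O M W (m k)

theorem locGen_of_epi (M : ModSite.Mod O) (W : Opens X) {I : Type u} [Fintype I]
    (m : I → M.val.obj (op W))
    [Epi (((ModSite.restr O W).obj M).freeHomEquiv.symm (secs O M W m))] :
    LocGen O M W m := by
  intro V i t x hx
  obtain ⟨S, hS, hS'⟩ := gen_loc (O := O.over W) (N := (ModSite.restr O W).obj M)
    (secs O M W m) (Over.mk i) (toRestr O M W (op (Over.mk i)) t)
  rw [GrothendieckTopology.mem_over_iff] at hS
  obtain ⟨V', j, hj, hxV'⟩ := hS x hx
  rw [Sieve.overEquiv_iff] at hj
  obtain ⟨a, ha⟩ := hS' _ hj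
  refine ⟨V', hxV', j, a, ?_⟩
  exact ha

theorem epi_of_locGen (M : ModSite.Mod O) (W : Opens X) {I : Type u} [Fintype I]
    (m : I → M.val.obj (op W)) (h : LocGen O M W m) :
    Epi (((ModSite.restr O W).obj M).freeHomEquiv.symm (secs O M W m)) := by
  apply epi_of_gen_loc (O := O.over W) (N := (ModSite.restr O W).obj M) (secs O M W m)
  intro Y t
  -- the sieve of all arrows over which `t` is a combination of the generators
  let S : Sieve Y :=
    { arrows := fun Y' g => ∃ a : I → (ModSite.ringSh (O.over W)).obj.obj (op Y'),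
        ((ModSite.restr O W).obj M).val.restrictₛₗ g.op t =
          ∑ k, a k • sval (O := O.over W) (secs O M W m) k Y'
      downward_closed := by
        rintro Y' Y'' g ⟨a, ha⟩ f
        refine ⟨fun k => ((ModSite.ringSh (O.over W)).obj.map f.op).hom (a k), ?_⟩
        have h1 : ((ModSite.restr O W).obj M).val.restrictₛₗ (f ≫ g).op t =
            ((ModSite.restr O W).obj M).val.restrictₛₗ f.op
              (((ModSite.restr O W).obj M).val.restrictₛₗ g.op t) := by
          rw [op_comp]
          exact restr_comp _ g.op f.op t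
        rw [h1, ha, map_sum]
        refine Finset.sum_congr rfl (fun k _ => ?_)
        rw [← sval_restrict (O := O.over W) (secs O M W m) k f]
        exact PresheafOfModules.map_smul _ f.op (a k) _ }
  refine ⟨S, ?_, fun Y' g hg => hg⟩
  rw [GrothendieckTopology.mem_over_iff]
  intro x hx
  obtain ⟨V', hxV', j, a, ha⟩ := h Y.left Y.hom (ofRestr O M W (op Y) t) x hx
  refine ⟨V', j, ?_, hxV'⟩
  rw [Sieve.overEquiv_iff]
  exact ⟨a, ha⟩

end Groth.Agent.Lib.T1H4.ModElt
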