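import Mathlib
import Groth.Prelude.Def_ModSite2
import Groth.Agent.Lib.T1H4ModEltB

/-!
# Elementwise finite presentations on a ringed site with a terminal object (helper4)
-/

set_option autoImplicit false
set_option linter.unusedSectionVars false
set_option linter.style.haveILetI false
universe u
open CategoryTheory CategoryTheory.Limits Opposite

namespace Groth.Agent.Lib.T1H4.ModElt

variable {C : Type u} [SmallCategory C] {J : GrothendieckTopology C} {O : Sheaf J CommRingCat.{u}}

/-- restriction of ring elements -/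
noncomputable abbrev rO {Y Y' : C} (g : Y' ⟶ Y) (a : (ModSite.ringSh O).obj.obj (op Y)) :
    (ModSite.ringSh O).obj.obj (op Y') := ((ModSite.ringSh O).obj.map g.op).hom a

lemma restrict_smul (N : ModSite.Mod O) {Y Y' : C} (g : Y' ⟶ Y)
    (a : (ModSite.ringSh O).obj.obj (op Y)) (t : N.val.obj (op Y)) :
    N.val.restrictₛₗ g.op (a • t) = rO g a • N.val.restrictₛₗ g.op t :=
  PresheafOfModules.map_smul _ g.op a t

lemma restrict_sum_smul (N : ModSite.Mod O) {Y Y' : C} (g : Y' ⟶ Y) {I : Type*} [Fintype I]
    (a : I → (ModSite.ringSh O).obj.obj (op Y)) (t : I → N.val.obj (op Y)) :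
    N.val.restrictₛₗ g.op (∑ k, a k • t k) = ∑ k, rO g (a k) • N.val.restrictₛₗ g.op (t k) := by
  rw [map_sum]
  exact Finset.sum_congr rfl (fun k _ => restrict_smul N g (a k) (t k))

lemma restrict_comp (N : ModSite.Mod O) {Y Y' Y'' : C} (g : Y' ⟶ Y) (f : Y'' ⟶ Y')
    (t : N.val.obj (op Y)) :
    N.val.restrictₛₗ (f ≫ g).op t = N.val.restrictₛₗ f.op (N.val.restrictₛₗ g.op t) := by
  rw [op_comp]
  exact N.val.map_comp_apply g.op f.op t

lemma app_restrict {M N : ModSite.Mod O} (φ : M ⟶ N) {Y Y' : C} (g : Y' ⟶ Y)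
    (t : M.val.obj (op Y)) :
    φ.val.app (op Y') (M.val.restrictₛₗ g.op t) = N.val.restrictₛₗ g.op (φ.val.app (op Y) t) :=
  PresheafOfModules.naturality_apply φ.val g.op t

lemma app_sum_smul {M N : ModSite.Mod O} (φ : M ⟶ N) (Y : C) {I : Type*} [Fintype I]
    (a : I → (ModSite.ringSh O).obj.obj (op Y)) (t : I → M.val.obj (op Y)) :
    φ.val.app (op Y) (∑ k, a k • t k) = ∑ k, a k • φ.val.app (op Y) (t k) := by
  rw [map_sum]
  exact Finset.sum_congr rfl (fun k _ => (φ.val.app (op Y)).hom.map_smul _ _)

section Free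

variable (I : Type u) [Fintype I]

lemma restrict_sum_smul_eps {Y Y' : C} (g : Y' ⟶ Y)
    (a : I → (ModSite.ringSh O).obj.obj (op Y)) :
    (SheafOfModules.free (R := ModSite.ringSh O) I).val.restrictₛₗ g.op
      (∑ k, a k • eps (O := O) I Y k) = ∑ k, rO g (a k) • eps (O := O) I Y' k := by
  rw [restrict_sum_smul]
  exact Finset.sum_congr rfl (fun k _ => by rw [eps_restrict])

lemma coord_restrict {Y Y' : C} (g : Y' ⟶ Y) (k : I)
    (z : (SheafOfModules.free (R := ModSite.ringSh O) I).val.obj (op Y)) :
    coord (O := O) I Y' k ((SheafOfModules.free (R := ModSite.ringSh O) I).val.restrictₛₗ g.op z) =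
      rO g (coord (O := O) I Y k z) := by
  classical
  conv_lhs => rw [eq_sum_coord_eps I Y z, restrict_sum_smul_eps, coord_sum_smul_eps]

/-- an element of `free I` is determined by its coordinates -/
lemma ext_coord (Y : C) (z z' : (SheafOfModules.free (R := ModSite.ringSh O) I).val.obj (op Y))
    (h : ∀ k, coord (O := O) I Y k z = coord (O := O) I Y k z') : z = z' := by
  rw [eq_sum_coord_eps I Y z, eq_sum_coord_eps I Y z']
  exact Finset.sum_congr rfl (fun k _ => by rw [h k])

end Free

section Top

variable {t : C} (ht : IsTerminal t)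

/-- the section determined by its value at the terminal object -/
noncomputable def secOfTop (N : ModSite.Mod O) (n : N.val.obj (op t)) : N.sections :=
  PresheafOfModules.sectionsMk (M := N.val)
    (fun Z => N.val.restrictₛₗ (ht.from Z.unop).op n) (by
      intro Y Y' g
      change N.val.restrictₛₗ g (N.val.restrictₛₗ (ht.from Y.unop).op n) = _
      have h1 : (ht.from Y'.unop).op = (ht.from Y.unop).op ≫ g := by
        have h2 : ht.from Y'.unop = g.unop ≫ ht.from Y.unop := ht.hom_ext _ _
        rw [h2]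
        rfl
      rw [h1]
      exact (N.val.map_comp_apply _ _ n).symm)

lemma secOfTop_val (N : ModSite.Mod O) (n : N.val.obj (op t)) (Y : C) :
    (secOfTop ht N n).val (op Y) = N.val.restrictₛₗ (ht.from Y).op n := rfl

lemma sval_secOfTop (N : ModSite.Mod O) {I : Type u} (n : I → N.val.obj (op t)) (k : I) (Y : C) :
    sval (fun k => secOfTop ht N (n k)) k Y = N.val.restrictₛₗ (ht.from Y).op (n k) := rfl

end Top

end Groth.Agent.Lib.T1H4.ModElt
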