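import Mathlib
import Groth.Prelude.Def_ModSite2
import Groth.Agent.Lib.T1H4ModEltD

/-!
# Elementwise finite presentations on a ringed site with a terminal object, II (helper4)
-/

set_option autoImplicit false
set_option linter.unusedSectionVars false
set_option linter.style.haveILetI false
universe u
open CategoryTheory CategoryTheory.Limits Opposite

namespace Groth.Agent.Lib.T1H4.ModElt

variable {C : Type u} [SmallCategory C] {J : GrothendieckTopology C} {O : Sheaf J CommRingCat.{u}}
  {t : C} (ht : IsTerminal t)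

/-- restriction from the terminal object -/
noncomputable abbrev rT (N : ModSite.Mod O) (Y : C) (n : N.val.obj (op t)) : N.val.obj (op Y) :=
  N.val.restrictₛₗ (ht.from Y).op n

lemma rT_self (N : ModSite.Mod O) (n : N.val.obj (op t)) : rT ht N t n = n := by
  have h1 : ht.from t = 𝟙 t := ht.hom_ext _ _
  change N.val.restrictₛₗ (ht.from t).op n = n
  rw [h1]
  change N.val.map (𝟙 (op t)) n = n
  rw [N.val.map_id]
  rfl

lemma restrict_rT (N : ModSite.Mod O) {Y Y' : C} (g : Y' ⟶ Y) (n : N.val.obj (op t)) :
    N.val.restrictₛₗ g.op (rT ht N Y n) = rT ht N Y' n := by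
  have h2 : ht.from Y' = g ≫ ht.from Y := ht.hom_ext _ _
  change _ = N.val.restrictₛₗ (ht.from Y').op n
  rw [h2, restrict_comp]

lemma sval_eq_rT {N : ModSite.Mod O} {I : Type u} (s : I → N.sections) (k : I) (Y : C) :
    sval s k Y = rT ht N Y (sval s k t) :=
  (sval_restrict s k (ht.from Y)).symm

/-- the elements `m k ∈ N(t)` generate `N` locally -/
def GenLoc (N : ModSite.Mod O) {I₀ : Type u} [Fintype I₀] (m : I₀ → N.val.obj (op t)) : Prop :=
  ∀ (Y : C) (w : N.val.obj (op Y)), ∃ S ∈ J Y, ∀ ⦃Y' : C⦄ (g : Y' ⟶ Y), S g →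
    ∃ a : I₀ → (ModSite.ringSh O).obj.obj (op Y'),
      N.val.restrictₛₗ g.op w = ∑ k, a k • rT ht N Y' (m k)

/-- the relations `r i` generate all relations between the `m k` locally -/
def RelLoc (N : ModSite.Mod O) {I₀ I₁ : Type u} [Fintype I₀] [Fintype I₁]
    (m : I₀ → N.val.obj (op t)) (r : I₁ → I₀ → (ModSite.ringSh O).obj.obj (op t)) : Prop :=
  ∀ (Y : C) (a : I₀ → (ModSite.ringSh O).obj.obj (op Y)), ∑ k, a k • rT ht N Y (m k) = 0 →
    ∃ S ∈ J Y, ∀ ⦃Y' : C⦄ (g : Y' ⟶ Y), S g →
      ∃ b : I₁ → (ModSite.ringSh O).obj.obj (op Y'),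
        ∀ k, rO g (a k) = ∑ i, b i * rO (ht.from Y') (r i k)

theorem genLoc_of_epi {N : ModSite.Mod O} {I₀ : Type u} [Fintype I₀] (s : I₀ → N.sections)
    [Epi (N.freeHomEquiv.symm s)] : GenLoc ht N (fun k => sval s k t) := by
  intro Y w
  obtain ⟨S, hS, hS'⟩ := gen_loc s Y w
  refine ⟨S, hS, fun Y' g hg => ?_⟩
  obtain ⟨a, ha⟩ := hS' g hg
  refine ⟨a, ha.trans (Finset.sum_congr rfl (fun k _ => ?_))⟩
  rw [sval_eq_rT ht s k Y']

theorem epi_of_genLoc {N : ModSite.Mod O} {I₀ : Type u} [Fintype I₀] (m : I₀ → N.val.obj (op t))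
    (h : GenLoc ht N m) : Epi (N.freeHomEquiv.symm (fun k => secOfTop ht N (m k))) := by
  apply epi_of_gen_loc
  intro Y w
  obtain ⟨S, hS, hS'⟩ := h Y w
  exact ⟨S, hS, fun Y' g hg => hS' g hg⟩

section Pres

variable {N : ModSite.Mod O} (P : N.Presentation) [Fintype P.generators.I]
  [Fintype P.relations.I]

/-- the generators of a presentation, at the terminal object -/
noncomputable def presGen (k : P.generators.I) : N.val.obj (op t) := sval P.generators.s k t

/-- the relations of a presentation, at the terminal object -/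
noncomputable def presRel (i : P.relations.I) (k : P.generators.I) :
    (ModSite.ringSh O).obj.obj (op t) :=
  coord (O := O) P.generators.I t k
    ((kernel.ι P.generators.π).val.app (op t) (sval P.relations.s i t))

theorem presGen_genLoc : GenLoc ht N (presGen (t := t) P) :=
  genLoc_of_epi ht P.generators.s

lemma π_sum_smul_eps (Y : C) (a : P.generators.I → (ModSite.ringSh O).obj.obj (op Y)) :
    P.generators.π.val.app (op Y) (∑ k, a k • eps (O := O) P.generators.I Y k) =
      ∑ k, a k • rT ht N Y (presGen (t := t) P k) := by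
  rw [freeHomEquiv_symm_app_sum]
  exact Finset.sum_congr rfl (fun k _ => by rw [sval_eq_rT ht P.generators.s k Y]; rfl)

include ht in
theorem presRel_zero (i : P.relations.I) :
    ∑ k, presRel (t := t) P i k • presGen (t := t) P k = 0 := by
  have h1 := π_sum_smul_eps ht P t (fun k => presRel (t := t) P i k)
  have h2 : ∑ k, presRel (t := t) P i k • eps (O := O) P.generators.I t k =
      (kernel.ι P.generators.π).val.app (op t) (sval P.relations.s i t) :=
    (eq_sum_coord_eps P.generators.I t _).symm
  rw [h2, kernel_ι_app] at h1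
  rw [h1]
  exact Finset.sum_congr rfl (fun k _ => by rw [rT_self])

lemma coord_ι_sval (i : P.relations.I) (k : P.generators.I) (Y : C) :
    coord (O := O) P.generators.I Y k
      ((kernel.ι P.generators.π).val.app (op Y) (sval P.relations.s i Y)) =
      rO (ht.from Y) (presRel (t := t) P i k) := by
  have h1 : sval P.relations.s i Y =
      (kernel P.generators.π).val.restrictₛₗ (ht.from Y).op (sval P.relations.s i t) :=
    (sval_restrict P.relations.s i (ht.from Y)).symm
  rw [h1, app_restrict (kernel.ι P.generators.π) (ht.from Y) (sval P.relations.s i t),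
    coord_restrict P.generators.I (ht.from Y) k]
  rfl

theorem presRel_relLoc : RelLoc ht N (presGen (t := t) P) (presRel (t := t) P) := by
  classical
  intro Y a ha
  rw [← π_sum_smul_eps ht P Y a] at ha
  obtain ⟨w, hw⟩ := exists_kernel_lift P.generators.π Y _ ha
  obtain ⟨S, hS, hS'⟩ := gen_loc P.relations.s Y w
  refine ⟨S, hS, fun Y' g hg => ?_⟩
  obtain ⟨b, hb⟩ := hS' g hg
  refine ⟨b, fun k => ?_⟩
  -- compute `ι (w|_{Y'})` in two ways
  have e1 : (kernel.ι P.generators.π).val.app (op Y')
      ((kernel P.generators.π).val.restrictₛₗ g.op w) =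
      ∑ k, rO g (a k) • eps (O := O) P.generators.I Y' k := by
    rw [app_restrict (kernel.ι P.generators.π) g w, hw]
    exact restrict_sum_smul_eps P.generators.I g a
  have e2 : (kernel.ι P.generators.π).val.app (op Y')
      ((kernel P.generators.π).val.restrictₛₗ g.op w) =
      ∑ i, b i • (kernel.ι P.generators.π).val.app (op Y') (sval P.relations.s i Y') := by
    rw [hb]
    exact app_sum_smul (kernel.ι P.generators.π) Y' b _
  have e3 := congrArg (coord (O := O) P.generators.I Y' k) (e1.symm.trans e2)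
  rw [coord_sum_smul_eps, map_sum] at e3
  rw [e3]
  refine Finset.sum_congr rfl (fun i _ => ?_)
  rw [map_smul, smul_eq_mul, coord_ι_sval ht P i k Y']

end Pres

end Groth.Agent.Lib.T1H4.ModElt
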