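import Mathlib
import Groth.Prelude.Def_ModSite2
import Groth.Agent.Lib.T1H4ModEltE

/-!
# Constructing finite presentations from elementwise data (helper4)
-/

set_option autoImplicit false
set_option linter.unusedSectionVars false
set_option linter.style.haveILetI false
universe u
open CategoryTheory CategoryTheory.Limits Opposite

namespace Groth.Agent.Lib.T1H4.ModElt

variable {C : Type u} [SmallCategory C] {J : GrothendieckTopology C} {O : Sheaf J CommRingCat.{u}}
  {t : C} (ht : IsTerminal t)

section Build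

variable {N : ModSite.Mod O} {I₀ I₁ : Type u} [Fintype I₀] [Fintype I₁]
  (m : I₀ → N.val.obj (op t)) (r : I₁ → I₀ → (ModSite.ringSh O).obj.obj (op t))
  (hgen : GenLoc ht N m) (hrel0 : ∀ i, ∑ k, r i k • m k = 0) (hrel : RelLoc ht N m r)

/-- the morphism from the free module built from elementwise data -/
noncomputable def πOf : SheafOfModules.free (R := ModSite.ringSh O) I₀ ⟶ N :=
  N.freeHomEquiv.symm (fun k => secOfTop ht N (m k))

include hgen in
lemma epi_πOf : Epi (πOf ht m) := epi_of_genLoc ht m hgen

lemma πOf_sum_smul_eps (Y : C) (a : I₀ → (ModSite.ringSh O).obj.obj (op Y)) :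
    (πOf ht m).val.app (op Y) (∑ k, a k • eps (O := O) I₀ Y k) =
      ∑ k, a k • rT ht N Y (m k) :=
  freeHomEquiv_symm_app_sum (fun k => secOfTop ht N (m k)) Y a

include hrel0 in
lemma exists_relElt (i : I₁) :
    ∃ w : (kernel (πOf ht m)).val.obj (op t),
      (kernel.ι (πOf ht m)).val.app (op t) w = ∑ k, r i k • eps (O := O) I₀ t k := by
  apply exists_kernel_lift
  rw [πOf_sum_smul_eps]
  rw [← hrel0 i]
  exact Finset.sum_congr rfl (fun k _ => by rw [rT_self])

/-- the relation elements in the kernel -/
noncomputable def relElt (i : I₁) : (kernel (πOf ht m)).val.obj (op t) :=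
  (exists_relElt ht m r hrel0 i).choose

lemma ι_relElt (i : I₁) :
    (kernel.ι (πOf ht m)).val.app (op t) (relElt ht m r hrel0 i) =
      ∑ k, r i k • eps (O := O) I₀ t k :=
  (exists_relElt ht m r hrel0 i).choose_spec

include hrel in
theorem relElt_genLoc :
    GenLoc ht (kernel (πOf ht m)) (relElt ht m r hrel0) := by
  classical
  intro Y w
  let z := (kernel.ι (πOf ht m)).val.app (op Y) w
  have hz : ∑ k, coord (O := O) I₀ Y k z • rT ht N Y (m k) = 0 := by
    rw [← πOf_sum_smul_eps ht m Y, ← eq_sum_coord_eps I₀ Y z]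
    exact kernel_ι_app (πOf ht m) Y w
  obtain ⟨S, hS, hS'⟩ := hrel Y (fun k => coord (O := O) I₀ Y k z) hz
  refine ⟨S, hS, fun Y' g hg => ?_⟩
  obtain ⟨b, hb⟩ := hS' g hg
  refine ⟨b, ?_⟩
  haveI : Mono (kernel.ι (πOf ht m)) := inferInstance
  apply injective_app_of_mono (kernel.ι (πOf ht m)) Y'
  apply ext_coord I₀ Y'
  intro k
  rw [app_restrict (kernel.ι (πOf ht m)) g w, coord_restrict I₀ g k,
    app_sum_smul (kernel.ι (πOf ht m)) Y' b, map_sum]
  refine (hb k).trans (Finset.sum_congr rfl (fun i _ => ?_))
  rw [map_smul, smul_eq_mul]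
  congr 1
  change _ = coord (O := O) I₀ Y' k ((kernel.ι (πOf ht m)).val.app (op Y')
    ((kernel (πOf ht m)).val.restrictₛₗ (ht.from Y').op (relElt ht m r hrel0 i)))
  rw [app_restrict (kernel.ι (πOf ht m)) (ht.from Y') (relElt ht m r hrel0 i),
    coord_restrict I₀ (ht.from Y') k, ι_relElt, coord_sum_smul_eps]

/-- the presentation built from elementwise data -/
noncomputable def presOf : N.Presentation where
  generators :=
    { I := I₀
      s := fun k => secOfTop ht N (m k)
      epi := epi_πOf ht m hgen }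
  relations :=
    { I := I₁
      s := fun i => secOfTop ht (kernel (πOf ht m)) (relElt ht m r hrel0 i)
      epi := epi_of_genLoc ht _ (relElt_genLoc ht m r hrel0 hrel) }

instance : (presOf ht m r hgen hrel0 hrel).IsFinite where
  isFiniteType_generators := ⟨inferInstanceAs (Finite I₀)⟩
  isFiniteType_relations := ⟨inferInstanceAs (Finite I₁)⟩

end Build

end Groth.Agent.Lib.T1H4.ModElt
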