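import Mathlib
import Groth.Prelude.Def_ModSite2
import Groth.Agent.Lib.T1H4ModEltF
import Groth.Agent.Lib.T1H4ModEltC

/-!
# Elementwise finite presentations on a ringed space (helper4)
-/

set_option autoImplicit false
set_option linter.unusedSectionVars false
set_option linter.style.haveILetI false
universe u
open CategoryTheory CategoryTheory.Limits Opposite TopologicalSpace

namespace Groth.Agent.Lib.T1H4.ModElt

open Groth.Agent.Lib.Helper23FreeOn

section DC

variable {C : Type u} [SmallCategory C] {J : GrothendieckTopology C} {O : Sheaf J CommRingCat.{u}}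
  {t : C} (ht : IsTerminal t)

lemma rO_comp {Y Y' Y'' : C} (g : Y' ⟶ Y) (f : Y'' ⟶ Y')
    (a : (ModSite.ringSh O).obj.obj (op Y)) : rO (O := O) (f ≫ g) a = rO f (rO g a) := by
  change ((ModSite.ringSh O).obj.map (f ≫ g).op).hom a = _
  rw [op_comp, Functor.map_comp]
  rfl

lemma rO_from {Y Y' : C} (g : Y' ⟶ Y) (a : (ModSite.ringSh O).obj.obj (op t)) :
    rO (O := O) g (rO (ht.from Y) a) = rO (ht.from Y') a := by
  rw [← rO_comp]
  congr 1
  exact ht.hom_ext _ _

lemma genLoc_dc (N : ModSite.Mod O) {I₀ : Type u} [Fintype I₀] (m : I₀ → N.val.obj (op t))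
    {Y Y' Y'' : C} (w : N.val.obj (op Y)) (g : Y' ⟶ Y) (f : Y'' ⟶ Y')
    (h : ∃ a : I₀ → (ModSite.ringSh O).obj.obj (op Y'),
      N.val.restrictₛₗ g.op w = ∑ k, a k • rT ht N Y' (m k)) :
    ∃ a : I₀ → (ModSite.ringSh O).obj.obj (op Y''),
      N.val.restrictₛₗ (f ≫ g).op w = ∑ k, a k • rT ht N Y'' (m k) := by
  obtain ⟨a, ha⟩ := h
  refine ⟨fun k => rO f (a k), ?_⟩
  rw [restrict_comp, ha, restrict_sum_smul]
  exact Finset.sum_congr rfl (fun k _ => by rw [restrict_rT])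

lemma relLoc_dc {I₀ I₁ : Type u} [Fintype I₀] [Fintype I₁]
    (r : I₁ → I₀ → (ModSite.ringSh O).obj.obj (op t))
    {Y Y' Y'' : C} (a : I₀ → (ModSite.ringSh O).obj.obj (op Y)) (g : Y' ⟶ Y) (f : Y'' ⟶ Y')
    (h : ∃ b : I₁ → (ModSite.ringSh O).obj.obj (op Y'),
      ∀ k, rO g (a k) = ∑ i, b i * rO (ht.from Y') (r i k)) :
    ∃ b : I₁ → (ModSite.ringSh O).obj.obj (op Y''),
      ∀ k, rO (f ≫ g) (a k) = ∑ i, b i * rO (ht.from Y'') (r i k) := by
  obtain ⟨b, hb⟩ := h
  refine ⟨fun i => rO f (b i), fun k => ?_⟩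
  rw [rO_comp, hb k]
  change ((ModSite.ringSh O).obj.map f.op).hom _ = _
  rw [map_sum]
  refine Finset.sum_congr rfl (fun i _ => ?_)
  rw [map_mul]
  congr 1
  exact rO_from ht f _

end DC

variable {X : TopCat.{u}} (O : TopCat.Sheaf CommRingCat.{u} X)

/-- covering sieves in the site of opens of `W` from pointwise neighbourhoods -/
lemma exists_sieve_over_opens {W : Opens X} (Y : Over W)
    (Q : ∀ ⦃Y' : Over W⦄, (Y' ⟶ Y) → Prop)
    (hQ : ∀ ⦃Y' Y'' : Over W⦄ (g : Y' ⟶ Y) (f : Y'' ⟶ Y'), Q g → Q (f ≫ g))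
    (h : ∀ x ∈ Y.left, ∃ (V' : Opens X) (_ : x ∈ V') (j : V' ⟶ Y.left),
      Q (Over.homMk j : Over.mk (j ≫ Y.hom) ⟶ Y)) :
    ∃ S ∈ ((Opens.grothendieckTopology X).over W) Y, ∀ ⦃Y' : Over W⦄ (g : Y' ⟶ Y), S g → Q g := by
  let S : Sieve Y :=
    { arrows := fun Y' g => Q g
      downward_closed := fun {Y' Y''} g hg f => hQ g f hg }
  refine ⟨S, ?_, fun Y' g hg => hg⟩
  rw [GrothendieckTopology.mem_over_iff]
  intro x hx
  obtain ⟨V', hxV', j, hj⟩ := h x hx
  refine ⟨V', j, ?_, hxV'⟩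
  rw [Sieve.overEquiv_iff]
  exact hj

lemma exists_nbhd_of_sieve_over_opens {W : Opens X} (Y : Over W) (S : Sieve Y)
    (hS : S ∈ ((Opens.grothendieckTopology X).over W) Y) (x : X) (hx : x ∈ Y.left) :
    ∃ (V' : Opens X) (_ : x ∈ V') (j : V' ⟶ Y.left),
      S (Over.homMk j : Over.mk (j ≫ Y.hom) ⟶ Y) := by
  rw [GrothendieckTopology.mem_over_iff] at hS
  obtain ⟨V', j, hj, hxV'⟩ := hS x hx
  rw [Sieve.overEquiv_iff] at hj
  exact ⟨V', hxV', j, hj⟩

/-- the terminal object of the site of opens of `W` -/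
noncomputable abbrev topW (W : Opens X) : Over W := Over.mk (𝟙 W)

/-- it is terminal -/
noncomputable def topWIsTerminal (W : Opens X) : IsTerminal (topW W) := Over.mkIdTerminal

lemma rT_eq (M : ModSite.Mod O) (W : Opens X) (Y : Over W) (n : M.val.obj (op W)) :
    rT (O := O.over W) (topWIsTerminal W) ((ModSite.restr O W).obj M) Y n =
      M.val.restrictₛₗ Y.hom.op n := by
  exact congrArg (fun f : Y.left ⟶ W => M.val.restrictₛₗ f.op n) (Subsingleton.elim _ _)

lemma rO_from_eq (W : Opens X) (Y : Over W) (a : (ModSite.ringSh O).obj.obj (op W)) :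
    rO (O := O.over W) ((topWIsTerminal W).from Y) a = rO (O := O) Y.hom a := by
  exact congrArg (fun f : Y.left ⟶ W => rO (O := O) f a) (Subsingleton.elim _ _)

theorem genLoc_of_locGen (M : ModSite.Mod O) (W : Opens X) {I : Type u} [Fintype I]
    (m : I → M.val.obj (op W)) (h : LocGen O M W m) :
    GenLoc (O := O.over W) (topWIsTerminal W) ((ModSite.restr O W).obj M) m := by
  intro Y w
  apply exists_sieve_over_opens Y
    (fun Y' g => ∃ a : I → (ModSite.ringSh (O.over W)).obj.obj (op Y'),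
      ((ModSite.restr O W).obj M).val.restrictₛₗ g.op w =
        ∑ k, a k • rT (O := O.over W) (topWIsTerminal W) ((ModSite.restr O W).obj M) Y' (m k))
  · intro Y' Y'' g f hg
    exact genLoc_dc (O := O.over W) (topWIsTerminal W) _ m w g f hg
  · intro x hx
    obtain ⟨V', hxV', j, a, ha⟩ := h Y.left Y.hom (ofRestr O M W (op Y) w) x hx
    refine ⟨V', hxV', j, a, ?_⟩
    refine Eq.trans ?_ (ha.trans (Finset.sum_congr rfl (fun k _ => ?_)))
    · rfl
    · rw [rT_eq]
      rfl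

theorem locGen_of_genLoc (M : ModSite.Mod O) (W : Opens X) {I : Type u} [Fintype I]
    (m : I → M.val.obj (op W))
    (h : GenLoc (O := O.over W) (topWIsTerminal W) ((ModSite.restr O W).obj M) m) :
    LocGen O M W m := by
  intro V i w x hx
  obtain ⟨S, hS, hS'⟩ := h (Over.mk i) (toRestr O M W (op (Over.mk i)) w)
  obtain ⟨V', hxV', j, hj⟩ := exists_nbhd_of_sieve_over_opens (Over.mk i) S hS x hx
  obtain ⟨a, ha⟩ := hS' _ hj
  refine ⟨V', hxV', j, a, ?_⟩
  refine Eq.trans ?_ (ha.trans (Finset.sum_congr rfl (fun k _ => ?_)))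
  · rfl
  · rw [rT_eq]
    rfl

/-- the relations `r i` generate all relations between the `m k` locally, on a ringed space -/
def LocRel (M : ModSite.Mod O) (W : Opens X) {I₀ I₁ : Type u} [Fintype I₀] [Fintype I₁]
    (m : I₀ → M.val.obj (op W)) (r : I₁ → I₀ → (ModSite.ringSh O).obj.obj (op W)) : Prop :=
  ∀ (V : Opens X) (i : V ⟶ W) (a : I₀ → (ModSite.ringSh O).obj.obj (op V)) (x : X), x ∈ V →
    ∑ k, a k • M.val.restrictₛₗ i.op (m k) = 0 →
    ∃ (V' : Opens X) (_ : x ∈ V') (j : V' ⟶ V) (b : I₁ → (ModSite.ringSh O).obj.obj (op V')),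
      ∀ k, rO (O := O) j (a k) = ∑ l, b l * rO (O := O) (j ≫ i) (r l k)

theorem relLoc_of_locRel (M : ModSite.Mod O) (W : Opens X) {I₀ I₁ : Type u} [Fintype I₀]
    [Fintype I₁] (m : I₀ → M.val.obj (op W)) (r : I₁ → I₀ → (ModSite.ringSh O).obj.obj (op W))
    (h : LocRel O M W m r) :
    RelLoc (O := O.over W) (topWIsTerminal W) ((ModSite.restr O W).obj M) m r := by
  intro Y a ha
  apply exists_sieve_over_opens Y
    (fun Y' g => ∃ b : I₁ → (ModSite.ringSh (O.over W)).obj.obj (op Y'),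
      ∀ k, rO (O := O.over W) g (a k) =
        ∑ l, b l * rO (O := O.over W) ((topWIsTerminal W).from Y') (r l k))
  · intro Y' Y'' g f hg
    exact relLoc_dc (O := O.over W) (topWIsTerminal W) r a g f hg
  · intro x hx
    let a' : I₀ → (ModSite.ringSh O).obj.obj (op Y.left) := a
    have ha' : ∑ k, a' k • M.val.restrictₛₗ Y.hom.op (m k) = 0 := by
      refine Eq.trans (Finset.sum_congr rfl (fun k _ => ?_)) ha
      rw [rT_eq]
      rfl
    obtain ⟨V', hxV', j, b, hb⟩ := h Y.left Y.hom a' x hx ha'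
    refine ⟨V', hxV', j, b, fun k => ?_⟩
    refine Eq.trans ?_ ((hb k).trans (Finset.sum_congr rfl (fun l _ => ?_)))
    · rfl
    · rw [rO_from_eq]
      rfl

theorem locRel_of_relLoc (M : ModSite.Mod O) (W : Opens X) {I₀ I₁ : Type u} [Fintype I₀]
    [Fintype I₁] (m : I₀ → M.val.obj (op W)) (r : I₁ → I₀ → (ModSite.ringSh O).obj.obj (op W))
    (h : RelLoc (O := O.over W) (topWIsTerminal W) ((ModSite.restr O W).obj M) m r) :
    LocRel O M W m r := by
  intro V i a x hx ha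
  let a' : I₀ → (ModSite.ringSh (O.over W)).obj.obj (op (Over.mk i)) := a
  have ha' : ∑ k, a' k • rT (O := O.over W) (topWIsTerminal W) ((ModSite.restr O W).obj M)
      (Over.mk i) (m k) = 0 := by
    refine Eq.trans (Finset.sum_congr rfl (fun k _ => ?_)) ha
    rw [rT_eq]
    rfl
  obtain ⟨S, hS, hS'⟩ := h (Over.mk i) a' ha'
  obtain ⟨V', hxV', j, hj⟩ := exists_nbhd_of_sieve_over_opens (Over.mk i) S hS x hx
  obtain ⟨b, hb⟩ := hS' _ hj
  refine ⟨V', hxV', j, b, fun k => ?_⟩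
  refine Eq.trans ?_ ((hb k).trans (Finset.sum_congr rfl (fun l _ => ?_)))
  · rfl
  · rw [rO_from_eq]
    rfl

end Groth.Agent.Lib.T1H4.ModElt
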