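import Mathlib
import Groth.Prelude.Def_ModSite2
import Groth.Agent.Lib.Helper21StalkFlat
import Groth.Agent.Lib.Helper21ModTensor5

/-!
# Flatness of a sheaf of modules from flatness of its stalks at a conservative family of points
-/

set_option autoImplicit false
universe u
open CategoryTheory CategoryTheory.Limits Opposite MonoidalCategory

namespace Groth.Agent.Lib.T2H8.ModStalkFlat

open Groth.Agent.Lib.Helper21.StalkFlat Groth.Agent.Lib.Helper21.ModTensor2
  Groth.Agent.Lib.Helper21.ModTensor3 Groth.Agent.Lib.Helper21.ModTensor5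
open scoped TensorProduct

variable {C : Type u} [SmallCategory C] {J : GrothendieckTopology C} {O : Sheaf J CommRingCat.{u}}
  (p : GrothendieckTopology.Point.{u} J) (G F : ModSite.Mod O)

/-- the tensor product of the stalks -/
abbrev StT : Type u :=
  (ModSite.stalkMod p G) ⊗[ModSite.stalkRing p O] (ModSite.stalkMod p F)

/-- sections of the presheaf tensor product -/
abbrev SecT (X : C) : Type u :=
  (ModSite.sect G X) ⊗[O.obj.obj (op X)] (ModSite.sect F X)

/-- the germ of a pure tensor -/
noncomputable def ev (X : C) (y : p.fiber.obj X) : SecT G F X →+ StT p G F :=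
  TensorProduct.liftAddHom
    (AddMonoidHom.mk' (fun g : ModSite.sect G X =>
      (AddMonoidHom.mk' (fun f : ModSite.sect F X =>
        (ModSite.germ p G X y g : ModSite.stalkMod p G) ⊗ₜ[ModSite.stalkRing p O]
          (ModSite.germ p F X y f : ModSite.stalkMod p F))
        (fun f f' => by
          have h : ModSite.germ p F X y (f + f') = ModSite.germ p F X y f + ModSite.germ p F X y f' :=
            map_add _ _ _
          rw [h, TensorProduct.tmul_add])))
      (fun g g' => by
        ext f
        have h : ModSite.germ p G X y (g + g') = ModSite.germ p G X y g + ModSite.germ p G X y g' :=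
          map_add _ _ _
        simp only [AddMonoidHom.mk'_apply, AddMonoidHom.add_apply]
        rw [h, TensorProduct.add_tmul]))
    (fun r g f => by
      simp only [AddMonoidHom.mk'_apply]
      rw [ModSite.germ_smul, ModSite.germ_smul]
      exact TensorProduct.smul_tmul _ _ _)

lemma ev_tmul (X : C) (y : p.fiber.obj X) (g : ModSite.sect G X) (f : ModSite.sect F X) :
    ev p G F X y (g ⊗ₜ f) =
      (ModSite.germ p G X y g : ModSite.stalkMod p G) ⊗ₜ[ModSite.stalkRing p O]
        (ModSite.germ p F X y f : ModSite.stalkMod p F) := rfl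


section Refine

universe v

/-- finitely many pairs of sections with equal germs become equal on a common neighbourhood -/
theorem exists_refine_eq (H : ModSite.Mod O) (ι : Type v) [Finite ι] :
    ∀ (X : C) (y : p.fiber.obj X) (s s' : ι → ModSite.sect H X),
      (∀ i, ModSite.germ p H X y (s i) = ModSite.germ p H X y (s' i)) →
      ∃ (W : C) (g : W ⟶ X) (w : p.fiber.obj W), p.fiber.map g w = y ∧
        ∀ i, H.val.map g.op (s i) = H.val.map g.op (s' i) := by
  induction ι using Finite.induction_empty_option with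
  | of_equiv e ih =>
    intro X y s s' h
    obtain ⟨W, g, w, hw, hg⟩ := ih X y (s ∘ e) (s' ∘ e) (fun i => h (e i))
    refine ⟨W, g, w, hw, fun i => ?_⟩
    have := hg (e.symm i)
    simpa using this
  | h_empty =>
    intro X y s s' _
    exact ⟨X, 𝟙 X, y, by simp, fun i => i.elim⟩
  | h_option ih =>
    intro X y s s' h
    obtain ⟨W, g, w, hw, hg⟩ := ih X y (fun i => s (some i)) (fun i => s' (some i))
      (fun i => h (some i))
    have h0 : ModSite.germ p H W w (H.val.map g.op (s none)) =
        ModSite.germ p H W w (H.val.map g.op (s' none)) := by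
      rw [germ_w, germ_w, hw]
      exact h none
    obtain ⟨W', g', w', hw', hg'⟩ := (p.toPresheafFiber_eq_iff' W w _ _).1 h0
    refine ⟨W', g' ≫ g, w', ?_, fun i => ?_⟩
    · rw [FunctorToTypes.map_comp_apply, hw', hw]
    · have hcomp : ∀ t : ModSite.sect H X,
          H.val.map (g' ≫ g).op t = H.val.map g'.op (H.val.map g.op t) := by
        intro t
        rw [op_comp, H.val.map_comp]
        rfl
      rw [hcomp, hcomp]
      cases i with
      | none => exact hg'
      | some i => rw [hg i]

end Refine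


section Reps

universe v₁ v₂

/-- finitely many germs of functions and of sections have representatives on a common
neighbourhood mapping to a given one -/
theorem exists_nbhd_reps (H : ModSite.Mod O) {κ₁ : Type v₁} {κ₂ : Type v₂} [Finite κ₁] [Finite κ₂]
    (X : C) (y : p.fiber.obj X)
    (r : κ₁ → ModSite.stalkRing p O) (x : κ₂ → ModSite.stalkAb p H) :
    ∃ (W : C) (g : W ⟶ X) (w : p.fiber.obj W), p.fiber.map g w = y ∧
      ∃ (r' : κ₁ → O.obj.obj (op W)) (x' : κ₂ → ModSite.sect H W),
        (∀ i, ModSite.germRing p W w (r' i) = r i) ∧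
          (∀ j, ModSite.germ p H W w (x' j) = x j) := by
  classical
  haveI := Fintype.ofFinite κ₁
  haveI := Fintype.ofFinite κ₂
  choose X₁ x₁ r₁ h₁ using fun i => p.toPresheafFiber_jointly_surjective (P := O.obj) (r i)
  choose X₂ x₂ s₂ h₂ using
    fun j => p.toPresheafFiber_jointly_surjective (P := (ModSite.toAb H).obj) (x j)
  let E : Option (κ₁ ⊕ κ₂) → p.fiber.Elements := fun o =>
    match o with
    | none => ⟨X, y⟩
    | some (Sum.inl i) => ⟨X₁ i, x₁ i⟩
    | some (Sum.inr j) => ⟨X₂ j, x₂ j⟩
  obtain ⟨W, hW⟩ := IsCofiltered.inf_objs_exists (Finset.univ.image E)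
  have g : ∀ k, W ⟶ E k := fun k => (hW (Finset.mem_image_of_mem E (Finset.mem_univ k))).some
  refine ⟨W.1, (g none).1, W.2, (g none).2, fun i => (O.obj.map (g (some (Sum.inl i))).1.op).hom (r₁ i),
    fun j => H.val.map (g (some (Sum.inr j))).1.op (s₂ j), ?_, ?_⟩
  · intro i
    rw [germRing_w]
    have h' : p.fiber.map (g (some (Sum.inl i))).1 W.2 = x₁ i := (g (some (Sum.inl i))).2
    rw [h']
    exact h₁ i
  · intro j
    rw [germ_w]
    have h' : p.fiber.map (g (some (Sum.inr j))).1 W.2 = x₂ j := (g (some (Sum.inr j))).2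
    rw [h']
    exact h₂ j

end Reps


section Calc

/-- restriction of functions -/
noncomputable def rO {X W : C} (h : W ⟶ X) (c : O.obj.obj (op X)) : O.obj.obj (op W) :=
  ((ModSite.ringSh O).obj.map h.op).hom c

/-- restriction of sections -/
noncomputable def rS (H : ModSite.Mod O) {X W : C} (h : W ⟶ X) (s : ModSite.sect H X) :
    ModSite.sect H W :=
  H.val.map h.op s

lemma rS_smul (H : ModSite.Mod O) {X W : C} (h : W ⟶ X) (c : O.obj.obj (op X))
    (s : ModSite.sect H X) : rS H h (c • s) = rO h c • rS H h s :=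
  H.val.map_smul h.op c s

lemma rS_zero (H : ModSite.Mod O) {X W : C} (h : W ⟶ X) :
    rS H h (0 : ModSite.sect H X) = 0 :=
  map_zero (H.val.map h.op).hom

lemma rS_sum (H : ModSite.Mod O) {X W : C} (h : W ⟶ X) {κ : Type*} (T : Finset κ)
    (s : κ → ModSite.sect H X) : rS H h (∑ j ∈ T, s j) = ∑ j ∈ T, rS H h (s j) :=
  map_sum (H.val.map h.op).hom s T

lemma rS_sum_smul (H : ModSite.Mod O) {X W : C} (h : W ⟶ X) {κ : Type*} [Fintype κ]
    (c : κ → O.obj.obj (op X)) (s : κ → ModSite.sect H X) :
    rS H h (∑ j, c j • s j) = ∑ j, rO h (c j) • rS H h (s j) := by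
  rw [rS_sum]
  exact Finset.sum_congr rfl (fun j _ => rS_smul H h (c j) (s j))

lemma rS_comp (H : ModSite.Mod O) {X W V : C} (h : W ⟶ X) (h' : V ⟶ W) (s : ModSite.sect H X) :
    rS H (h' ≫ h) s = rS H h' (rS H h s) := by
  unfold rS
  rw [op_comp, H.val.map_comp]
  rfl

lemma germ_rS (H : ModSite.Mod O) {X W : C} (h : W ⟶ X) (w : p.fiber.obj W)
    (s : ModSite.sect H X) :
    ModSite.germ p H W w (rS H h s) = ModSite.germ p H X (p.fiber.map h w) s :=
  germ_w p H h w s

lemma germRing_rO {X W : C} (h : W ⟶ X) (w : p.fiber.obj W) (c : O.obj.obj (op X)) :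
    ModSite.germRing p W w (rO h c) = ModSite.germRing p X (p.fiber.map h w) c :=
  germRing_w p h w c

lemma germ_sum_smul (H : ModSite.Mod O) (X : C) (y : p.fiber.obj X) {κ : Type*} [Fintype κ]
    (c : κ → O.obj.obj (op X)) (s : κ → ModSite.sect H X) :
    ModSite.germ p H X y (∑ j, c j • s j) =
      ∑ j, ModSite.germRing p X y (c j) • ModSite.germ p H X y (s j) := by
  rw [germ_sum]
  refine Finset.sum_congr rfl (fun j _ => ?_)
  exact ModSite.germ_smul p H X y (c j) (s j)

end Calc

/-- the presheaf tensor product -/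
noncomputable abbrev Tpre : PM O := ((fgt O).obj G ⊗ (fgt O).obj F : PM O)

/-- restriction of sections of the presheaf tensor product -/
noncomputable def resT {X W : C} (h : W ⟶ X) : SecT G F X →+ SecT G F W :=
  ((Tpre G F).presheaf.map h.op).hom

lemma resT_tmul {X W : C} (h : W ⟶ X) (g : ModSite.sect G X) (f : ModSite.sect F X) :
    resT G F h (g ⊗ₜ f) = (rS G h g) ⊗ₜ (rS F h f) := rfl


set_option maxHeartbeats 800000 in
/-- a section of the presheaf tensor product whose image in the tensor product of the stalks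
vanishes, vanishes on a neighbourhood (if the stalk of `F` is flat) -/
theorem exists_refine_eq_zero
    (hF : Module.Flat (ModSite.stalkRing p O) (ModSite.stalkMod p F))
    (X : C) (y : p.fiber.obj X) (t : SecT G F X) (ht : ev p G F X y t = 0) :
    ∃ (W : C) (h : W ⟶ X) (w : p.fiber.obj W), p.fiber.map h w = y ∧ resT G F h t = 0 := by
  classical
  obtain ⟨S, rfl⟩ := TensorProduct.exists_finset t
  let gg : S → ModSite.sect G X := fun i => i.1.1
  let ff : S → ModSite.sect F X := fun i => i.1.2
  have hsum : ∑ i : S, (ModSite.germ p G X y (gg i) : ModSite.stalkMod p G)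
      ⊗ₜ[ModSite.stalkRing p O] (ModSite.germ p F X y (ff i) : ModSite.stalkMod p F) = 0 := by
    have e := Finset.sum_coe_sort S
      (fun x : ModSite.sect G X × ModSite.sect F X =>
        ev p G F X y (x.1 ⊗ₜ[O.obj.obj (op X)] x.2))
    rw [map_sum] at ht
    exact e.trans ht
  obtain ⟨k, a, Y, h1, h2⟩ :=
    TensorProduct.vanishesTrivially_of_sum_tmul_eq_zero_of_rTensor_injective
      (R := ModSite.stalkRing p O)
      (Module.Flat.rTensor_preserves_injective_linearMap _ (Submodule.injective_subtype _)) hsum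
  -- representatives on a common neighbourhood
  obtain ⟨W, g, w, hw, a', Y', ha', hY'⟩ := exists_nbhd_reps p F (κ₁ := S × Fin k) (κ₂ := Fin k)
    X y (fun ij => a ij.1 ij.2) Y
  -- the relations for `F`
  have e1 : ∀ i : S, ModSite.germ p F W w (rS F g (ff i)) =
      ModSite.germ p F W w (∑ j, a' (i, j) • Y' j) := by
    intro i
    rw [germ_rS, hw, germ_sum_smul]
    refine (h1 i).trans (Finset.sum_congr rfl (fun j _ => ?_))
    rw [ha' (i, j), hY' j]
  obtain ⟨W1, g1, w1, hw1, hg1⟩ := exists_refine_eq p F S W w (fun i => rS F g (ff i))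
    (fun i => ∑ j, a' (i, j) • Y' j) e1
  have hg1' : ∀ i : S, rS F g1 (rS F g (ff i)) = ∑ j, rO g1 (a' (i, j)) • rS F g1 (Y' j) := by
    intro i
    exact (hg1 i).trans (rS_sum_smul F g1 (fun j => a' (i, j)) Y')
  -- the relations for `G`
  have e2 : ∀ j : Fin k, ModSite.germ p G W1 w1
      (∑ i : S, rO g1 (a' (i, j)) • rS G g1 (rS G g (gg i))) =
      ModSite.germ p G W1 w1 0 := by
    intro j
    rw [germ_sum_smul, germ_zero]
    refine Eq.trans (Finset.sum_congr rfl (fun i _ => ?_)) (h2 j)
    rw [germRing_rO, hw1, ha' (i, j), germ_rS, hw1, germ_rS, hw]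
  obtain ⟨W2, g2, w2, hw2, hg2⟩ := exists_refine_eq p G (Fin k) W1 w1
    (fun j => ∑ i : S, rO g1 (a' (i, j)) • rS G g1 (rS G g (gg i))) (fun _ => 0) e2
  have hg2' : ∀ j : Fin k,
      ∑ i : S, rO g2 (rO g1 (a' (i, j))) • rS G g2 (rS G g1 (rS G g (gg i))) = 0 := by
    intro j
    have := hg2 j
    have e : rS G g2 (∑ i : S, rO g1 (a' (i, j)) • rS G g1 (rS G g (gg i))) =
        rS G g2 (0 : ModSite.sect G W1) := this
    rw [rS_sum_smul, rS_zero] at e
    exact e
  have hf2 : ∀ i : S, rS F g2 (rS F g1 (rS F g (ff i))) =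
      ∑ j, rO g2 (rO g1 (a' (i, j))) • rS F g2 (rS F g1 (Y' j)) := by
    intro i
    rw [hg1' i]
    exact rS_sum_smul F g2 (fun j => rO g1 (a' (i, j))) (fun j => rS F g1 (Y' j))
  refine ⟨W2, g2 ≫ g1 ≫ g, w2, ?_, ?_⟩
  · rw [Functor.map_comp_apply, Functor.map_comp_apply, hw2, hw1, hw]
  · rw [map_sum, ← Finset.sum_coe_sort]
    have hterm : ∀ i : S, resT G F (g2 ≫ g1 ≫ g) ((i.1).1 ⊗ₜ[O.obj.obj (op X)] (i.1).2) =
        (rS G g2 (rS G g1 (rS G g (gg i)))) ⊗ₜ[O.obj.obj (op W2)]
          (rS F g2 (rS F g1 (rS F g (ff i)))) := by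
      intro i
      rw [resT_tmul, rS_comp, rS_comp, rS_comp, rS_comp]
    rw [Finset.sum_congr rfl (fun i _ => hterm i)]
    exact TensorProduct.sum_tmul_eq_zero_of_vanishesTrivially (O.obj.obj (op W2))
      ⟨k, fun i j => rO g2 (rO g1 (a' (i, j))), fun j => rS F g2 (rS F g1 (Y' j)), hf2, hg2'⟩


/-- a germ vanishes iff the section vanishes on a neighbourhood -/
lemma toPresheafFiber_eq_zero (P : Cᵒᵖ ⥤ AddCommGrpCat.{u}) (X : C) (y : p.fiber.obj X)
    (z : P.obj (op X)) (h : p.toPresheafFiber X y P z = 0) :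
    ∃ (X' : C) (h : X' ⟶ X) (y' : p.fiber.obj X'), p.fiber.map h y' = y ∧ P.map h.op z = 0 := by
  have h0 : p.toPresheafFiber X y P z = p.toPresheafFiber X y P 0 := by rw [h, map_zero]
  obtain ⟨X', g, y', hy', hh⟩ := (p.toPresheafFiber_eq_iff' X y _ _).1 h0
  exact ⟨X', g, y', hy', by rw [hh, map_zero]⟩

section Inj

variable {G} {G' : ModSite.Mod O} (α : G ⟶ G')

/-- the map of presheaves of modules `α ⊗ F` -/
noncomputable abbrev mapPre : Tpre G F ⟶ Tpre G' F :=
  ((fgt O).map α ▷ (fgt O).obj F : Tpre G F ⟶ Tpre G' F)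

/-- the sectionwise map `α_X ⊗ id` -/
noncomputable def mapT (X : C) : SecT G F X →+ SecT G' F X :=
  (((PresheafOfModules.toPresheaf _).map (mapPre F α)).app (op X)).hom

lemma mapT_tmul (X : C) (g : ModSite.sect G X) (f : ModSite.sect F X) :
    mapT F α X (g ⊗ₜ f) = (α.val.app (op X) g) ⊗ₜ[O.obj.obj (op X)] f := rfl

lemma mapT_resT {X W : C} (h : W ⟶ X) (t : SecT G F X) :
    mapT F α W (resT G F h t) = resT G' F h (mapT F α X t) := by
  induction t using TensorProduct.induction_on with
  | zero => simp only [map_zero]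
  | tmul g f =>
    rw [resT_tmul, mapT_tmul, mapT_tmul, resT_tmul]
    congr 1
    unfold rS
    exact PresheafOfModules.naturality_apply α.val h.op g
  | add a b ha hb => rw [map_add, map_add, map_add, map_add, ha, hb]

lemma stalkMap_germ (X : C) (y : p.fiber.obj X) (g : ModSite.sect G X) :
    (ModSite.stalkMap p α).hom (ModSite.germ p G X y g) =
      ModSite.germ p G' X y (α.val.app (op X) g) :=
  p.toPresheafFiber_naturality_apply ((SheafOfModules.toSheaf (ModSite.ringSh O)).map α).hom X y g

lemma ev_mapT (X : C) (y : p.fiber.obj X) (t : SecT G F X) :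
    ev p G' F X y (mapT F α X t) =
      (LinearMap.rTensor (ModSite.stalkMod p F) (ModSite.stalkMap p α).hom) (ev p G F X y t) := by
  induction t using TensorProduct.induction_on with
  | zero => simp only [map_zero]
  | tmul g f =>
    rw [mapT_tmul, ev_tmul, ev_tmul, LinearMap.rTensor_tmul, stalkMap_germ]
  | add a b ha hb => rw [map_add, map_add, map_add, map_add, ha, hb]

lemma injective_stalkMap [Mono α] : Function.Injective (ModSite.stalkMap p α).hom := by
  haveI : Mono ((SheafOfModules.toSheaf (ModSite.ringSh O)).map α) := inferInstance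
  haveI : Mono ((p.sheafFiber (A := AddCommGrpCat.{u})).map
    ((SheafOfModules.toSheaf (ModSite.ringSh O)).map α)) := inferInstance
  exact (AddCommGrpCat.mono_iff_injective _).1 this

/-- the map induced by `α ⊗ F` on the fibres of the presheaf tensor products is injective -/
theorem injective_presheafFiber_map
    (hF : Module.Flat (ModSite.stalkRing p O) (ModSite.stalkMod p F)) [Mono α] :
    Function.Injective (p.presheafFiber.map
      ((PresheafOfModules.toPresheaf _).map (mapPre F α))) := by
  rw [injective_iff_map_eq_zero]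
  intro τ hτ
  obtain ⟨X, y, t, rfl⟩ := p.toPresheafFiber_jointly_surjective τ
  rw [p.toPresheafFiber_naturality_apply] at hτ
  obtain ⟨X', h, y', hy', hh⟩ := toPresheafFiber_eq_zero p (Tpre G' F).presheaf X y _ hτ
  have hh' : resT G' F h (mapT F α X t) = 0 := hh
  rw [← mapT_resT] at hh'
  have e1 : ev p G F X' y' (resT G F h t) = 0 := by
    apply (Module.Flat.rTensor_preserves_injective_linearMap (M := ModSite.stalkMod p F)
      (ModSite.stalkMap p α).hom (injective_stalkMap p α))
    rw [← ev_mapT, hh', map_zero, map_zero]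
  obtain ⟨W, h', w, hw, hz⟩ := exists_refine_eq_zero p G F hF X' y' (resT G F h t) e1
  have e2 : p.toPresheafFiber X y (Tpre G F).presheaf t =
      p.toPresheafFiber W w (Tpre G F).presheaf (resT G F h' (resT G F h t)) := by
    have a1 := p.toPresheafFiber_w_apply h y' (Tpre G F).presheaf t
    have a2 := p.toPresheafFiber_w_apply h' w (Tpre G F).presheaf (resT G F h t)
    rw [hy'] at a1
    rw [hw] at a2
    exact a1.symm.trans a2.symm
  have e3 : p.toPresheafFiber W w (Tpre G F).presheaf (resT G F h' (resT G F h t)) = 0 := by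
    have := congrArg (fun z => (p.toPresheafFiber W w (Tpre G F).presheaf).hom z) hz
    exact this.trans (map_zero (p.toPresheafFiber W w (Tpre G F).presheaf).hom)
  exact e2.trans e3

end Inj

section Main

variable (O)
variable (P : ObjectProperty (GrothendieckTopology.Point.{u} J))

/-- transfer of injectivity along a natural isomorphism -/
lemma injective_sheafFiber_map (q : GrothendieckTopology.Point.{u} J)
    {A B : Cᵒᵖ ⥤ AddCommGrpCat.{u}} (φ : A ⟶ B)
    (h : Function.Injective (q.presheafFiber.map φ)) :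
    Function.Injective ((q.sheafFiber (A := AddCommGrpCat.{u})).map
      ((presheafToSheaf J AddCommGrpCat.{u}).map φ)) := by
  have nat := (q.presheafToSheafCompSheafFiberIso AddCommGrpCat.{u}).hom.naturality φ
  haveI : Mono (q.presheafFiber.map φ) := (AddCommGrpCat.mono_iff_injective _).2 h
  have hm : Mono ((presheafToSheaf J AddCommGrpCat.{u} ⋙ q.sheafFiber).map φ ≫
      (q.presheafToSheafCompSheafFiberIso AddCommGrpCat.{u}).hom.app B) := by
    rw [nat]
    infer_instance
  haveI := hm
  have hm' : Mono ((presheafToSheaf J AddCommGrpCat.{u} ⋙ q.sheafFiber).map φ) :=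
    mono_of_mono _ ((q.presheafToSheafCompSheafFiberIso AddCommGrpCat.{u}).hom.app B)
  exact (AddCommGrpCat.mono_iff_injective _).1 hm'

variable {P}

theorem mono_tR_map (hP : P.IsConservativeFamilyOfPoints) (F : ModSite.Mod O)
    (h : ∀ p : GrothendieckTopology.Point.{u} J, P p →
      Module.Flat (ModSite.stalkRing p O) (ModSite.stalkMod p F))
    {G G' : ModSite.Mod O} (α : G ⟶ G') [Mono α] : Mono ((tR O F).map α) := by
  rw [tR_map]
  apply Functor.mono_of_mono_map (SheafOfModules.toSheaf (ModSite.ringSh O))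
  have e : (SheafOfModules.toSheaf (ModSite.ringSh O)).map ((shf O).map (mapPre F α)) =
      (presheafToSheaf J AddCommGrpCat.{u}).map
        ((PresheafOfModules.toPresheaf _).map (mapPre F α)) := rfl
  refine e ▸ ?_
  rw [(hP.jointlyReflectMonomorphisms AddCommGrpCat.{u}).mono_iff]
  intro Φ
  rw [AddCommGrpCat.mono_iff_injective]
  exact injective_sheafFiber_map Φ.obj _
    (injective_presheafFiber_map Φ.obj F α (h Φ.obj Φ.property))

theorem isFlat_of_flat_stalks (hP : P.IsConservativeFamilyOfPoints) (F : ModSite.Mod O)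
    (h : ∀ p : GrothendieckTopology.Point.{u} J, P p →
      Module.Flat (ModSite.stalkRing p O) (ModSite.stalkMod p F)) : ModSite.IsFlat F := by
  rw [isFlat_iff]
  exact Groth.Agent.Lib.Helper21.FlatCalc.preservesFiniteLimits_of_mono (tR O F)
    (fun α hα => by haveI := hα; exact mono_tR_map O hP F h α)

theorem main_S9093 (P : ObjectProperty (GrothendieckTopology.Point.{u} J))
    (hP : P.IsConservativeFamilyOfPoints) (F : ModSite.Mod O) :
    ModSite.IsFlat F ↔ ∀ p : GrothendieckTopology.Point.{u} J, P p →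
      Module.Flat (ModSite.stalkRing p O) (ModSite.stalkMod p F) :=
  ⟨fun hF p _ => flat_stalk p F hF, isFlat_of_flat_stalks O hP F⟩

end Main

section Top

open TopologicalSpace

theorem main_S6835 {X : TopCat.{u}} (O : TopCat.Sheaf CommRingCat.{u} X) (F : ModSite.Mod O) :
    ModSite.IsFlat F ↔ ∀ x : X,
      Module.Flat (ModSite.stalkRing (Opens.pointGrothendieckTopology x) O)
        (ModSite.stalkMod (Opens.pointGrothendieckTopology x) F) := by
  rw [main_S9093 O (Opens.pointsGrothendieckTopology X)
    (Opens.isConservativeFamilyOfPoints_pointsGrothendieckTopology X) F]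
  constructor
  · intro h x
    exact h _ ⟨x⟩
  · rintro h p ⟨x⟩
    exact h x

end Top

end Groth.Agent.Lib.T2H8.ModStalkFlat
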