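import Mathlib
import Groth.Prelude.Def_ModSite2
import Groth.Agent.Lib.T2H8ModStalkFlat
import Groth.Agent.Lib.T2H8DirectSumIsoU
import Groth.Agent.Lib.Helper6TF10
import Groth.Agent.Lib.Helper9CohS
import Groth.Agent.Lib.Helper23FreeOn

/-!
# Sections of a coproduct of sheaves of modules over a quasi-compact object
-/

set_option autoImplicit false
universe u
open CategoryTheory CategoryTheory.Limits Opposite

namespace Groth.Agent.Lib.T2H8.ModCoprodSec

open Groth.Agent.Lib.Helper21.ModTensor2 Groth.Agent.Lib.T2H8.ModStalkFlat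

section ModuleCatSpan

variable {R : Type u} [Ring R] {ι : Type u} {M : ι → ModuleCat.{u} R}

/-- in a coproduct of modules, every element is a finite sum of elements coming from the
summands -/
theorem exists_finset_sum_of_isColimit (c : Cofan M) (hc : IsColimit c) (x : c.pt) :
    ∃ (T : Finset ι) (t : ∀ i, M i), x = ∑ i ∈ T, (c.inj i).hom (t i) := by
  classical
  let N : Submodule R c.pt := ⨆ i, LinearMap.range (c.inj i).hom
  have hN : N = ⊤ := by
    let q : c.pt ⟶ ModuleCat.of R (c.pt ⧸ N) := ModuleCat.ofHom N.mkQ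
    have hq : q = 0 := by
      apply Cofan.IsColimit.hom_ext hc
      intro i
      rw [comp_zero]
      ext y
      change N.mkQ ((c.inj i).hom y) = 0
      rw [Submodule.mkQ_apply, Submodule.Quotient.mk_eq_zero]
      exact (le_iSup (fun i => LinearMap.range (c.inj i).hom) i) ⟨y, rfl⟩
    rw [eq_top_iff]
    intro y _
    have h1 : N.mkQ y = 0 := by
      have := congrArg (fun f => f.hom y) hq
      exact this
    rwa [Submodule.mkQ_apply, Submodule.Quotient.mk_eq_zero] at h1
  have hx : x ∈ N := hN ▸ Submodule.mem_top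
  induction hx using Submodule.iSup_induction' with
  | mem i y hy =>
    obtain ⟨z, rfl⟩ := hy
    refine ⟨{i}, fun j => if h : j = i then h ▸ z else 0, ?_⟩
    rw [Finset.sum_singleton]
    simp
  | zero => exact ⟨∅, fun _ => 0, by simp⟩
  | add y z _ _ hy hz =>
    obtain ⟨T₁, t₁, rfl⟩ := hy
    obtain ⟨T₂, t₂, rfl⟩ := hz
    refine ⟨T₁ ∪ T₂, fun i => (if i ∈ T₁ then t₁ i else 0) + (if i ∈ T₂ then t₂ i else 0), ?_⟩
    have e1 : ∑ i ∈ T₁, (c.inj i).hom (t₁ i) =
        ∑ i ∈ T₁ ∪ T₂, (c.inj i).hom (if i ∈ T₁ then t₁ i else 0) := by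
      rw [← Finset.sum_subset (Finset.subset_union_left (s₂ := T₂))]
      · exact Finset.sum_congr rfl (fun i hi => by rw [if_pos hi])
      · intro i _ hi
        rw [if_neg hi, map_zero]
    have e2 : ∑ i ∈ T₂, (c.inj i).hom (t₂ i) =
        ∑ i ∈ T₁ ∪ T₂, (c.inj i).hom (if i ∈ T₂ then t₂ i else 0) := by
      rw [← Finset.sum_subset (Finset.subset_union_right (s₁ := T₁))]
      · exact Finset.sum_congr rfl (fun i hi => by rw [if_pos hi])
      · intro i _ hi
        rw [if_neg hi, map_zero]
    rw [e1, e2, ← Finset.sum_add_distrib]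
    exact Finset.sum_congr rfl (fun i _ => (map_add _ _ _).symm)

end ModuleCatSpan

variable {C : Type u} [SmallCategory C] {J : GrothendieckTopology C} {O : Sheaf J CommRingCat.{u}}
  {ι : Type u}

lemma app_rS_gen {G G' : ModSite.Mod O} (α : G ⟶ G') {X W : C} (h : W ⟶ X)
    (g : ModSite.sect G X) :
    α.val.app (op W) (rS G h g) = rS G' h (α.val.app (op X) g) :=
  PresheafOfModules.naturality_apply α.val h.op g

section LemmaA

variable (F : ι → ModSite.Mod O)

/-- the underlying presheaves of modules -/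
noncomputable abbrev fam : ι → PM O := fun i => (fgt O).obj (F i)

/-- sections of the presheaf coproduct are finite sums -/
theorem exists_finset_sum_presheaf (W : C) (z : (∐ fam F : PM O).obj (op W)) :
    ∃ (T : Finset ι) (t : ∀ i, ModSite.sect (F i) W),
      z = ∑ i ∈ T, ((Sigma.ι (fam F) i).app (op W)).hom (t i) := by
  have hc := isColimitOfHasCoproductOfPreservesColimit
    (PresheafOfModules.evaluation (ModSite.ringSh O).obj (op W)) (fam F)
  exact exists_finset_sum_of_isColimit _ hc z

variable {F} (c : Cofan F) (hc : IsColimit c)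

/-- the canonical map from the presheaf coproduct -/
noncomputable def descP : (∐ fam F : PM O) ⟶ (fgt O).obj c.pt :=
  Sigma.desc (fun i => (fgt O).map (c.inj i))

/-- comparison with the sheafified presheaf coproduct -/
noncomputable def e : c.pt ⟶ (shf O).obj (∐ fam F) :=
  Cofan.IsColimit.desc hc
    (fun i => inv ((adj O).counit.app (F i)) ≫ (shf O).map (Sigma.ι (fam F) i))

/-- comparison back -/
noncomputable def e' : (shf O).obj (∐ fam F) ⟶ c.pt :=
  (shf O).map (descP c) ≫ (adj O).counit.app c.pt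

lemma e_e' : e c hc ≫ e' c = 𝟙 _ := by
  apply Cofan.IsColimit.hom_ext hc
  intro i
  unfold e e'
  rw [← Category.assoc, Cofan.IsColimit.fac, Category.comp_id, Category.assoc,
    ← Category.assoc ((shf O).map _), ← Functor.map_comp, descP, Sigma.ι_desc]
  have h := (adj O).counit.naturality (c.inj i)
  rw [IsIso.inv_comp_eq]
  exact h

lemma eta_e' : eta O (∐ fam F) ≫ (fgt O).map (e' c) = descP c := by
  unfold e'
  rw [Functor.map_comp, ← Category.assoc]
  have h1 : eta O (∐ fam F) ≫ (fgt O).map ((shf O).map (descP c)) =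
      descP c ≫ eta O ((fgt O).obj c.pt) := ((adj O).unit.naturality (descP c)).symm
  rw [h1, Category.assoc]
  have h2 : eta O ((fgt O).obj c.pt) ≫ (fgt O).map ((adj O).counit.app c.pt) = 𝟙 _ :=
    (adj O).right_triangle_components c.pt
  rw [h2, Category.comp_id]

lemma e'_eta_apply (W : C) (z : (∐ fam F : PM O).obj (op W)) :
    (e' c).val.app (op W) ((eta O (∐ fam F)).app (op W) z) = (descP c).app (op W) z :=
  congrArg (fun ψ => ψ.app (op W) z) (eta_e' c)

lemma descP_ι_apply (W : C) (i : ι) (t : ModSite.sect (F i) W) :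
    (descP c).app (op W) ((Sigma.ι (fam F) i).app (op W) t) = (c.inj i).val.app (op W) t := by
  have h : Sigma.ι (fam F) i ≫ descP c = (fgt O).map (c.inj i) := Sigma.ι_desc _ _
  exact congrArg (fun ψ => ψ.app (op W) t) h

include hc in
/-- every section of a coproduct of sheaves of modules is locally a finite sum of sections of
the summands -/
theorem exists_sieve_finset_sum (V : C) (s : ModSite.sect c.pt V) :
    ∃ S ∈ J V, ∀ ⦃W : C⦄ (g : W ⟶ V), S g →
      ∃ (T : Finset ι) (t : ∀ i, ModSite.sect (F i) W),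
        rS c.pt g s = ∑ i ∈ T, (c.inj i).val.app (op W) (t i) := by
  let σ := (e c hc).val.app (op V) s
  haveI : Presheaf.IsLocallySurjective J
      ((PresheafOfModules.toPresheaf _).map (eta O (∐ fam F))) :=
    ((J.W_iff_isLocallyBijective _).1 (W_eta (∐ fam F))).2
  refine ⟨Presheaf.imageSieve ((PresheafOfModules.toPresheaf _).map (eta O (∐ fam F))) σ,
    Presheaf.imageSieve_mem J ((PresheafOfModules.toPresheaf _).map (eta O (∐ fam F)))
      (U := op V) σ, ?_⟩
  intro W g hg
  obtain ⟨z, hz⟩ := hg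
  have hz' : (eta O (∐ fam F)).app (op W) z = rS ((shf O).obj (∐ fam F)) g σ := hz
  obtain ⟨T, t, hT⟩ := exists_finset_sum_presheaf F W z
  refine ⟨T, t, ?_⟩
  have h2 : ∀ x : ModSite.sect c.pt W,
      (e' c).val.app (op W) ((e c hc).val.app (op W) x) = x := by
    intro x
    exact congrArg (fun ψ => ψ.val.app (op W) x) (e_e' c hc)
  have h1 : rS c.pt g s = (e' c).val.app (op W) (rS ((shf O).obj (∐ fam F)) g σ) := by
    have h3 : rS ((shf O).obj (∐ fam F)) g σ = (e c hc).val.app (op W) (rS c.pt g s) :=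
      (app_rS_gen (e c hc) g s).symm
    rw [h3, h2]
  rw [h1, ← hz', e'_eta_apply, hT, map_sum]
  exact Finset.sum_congr rfl (fun i _ => descP_ι_apply c W i (t i))

end LemmaA

section Proj

variable {F : ι → ModSite.Mod O} (c : Cofan F) (hc : IsColimit c)

open Classical in
/-- the projections of a coproduct -/
noncomputable def proj (j : ι) : c.pt ⟶ F j :=
  Cofan.IsColimit.desc hc (fun i => if h : i = j then eqToHom (congrArg F h) else 0)

lemma inj_proj_self (j : ι) : c.inj j ≫ proj c hc j = 𝟙 _ := by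
  unfold proj
  rw [Cofan.IsColimit.fac, dif_pos rfl]
  rfl

lemma inj_proj_ne {i j : ι} (h : i ≠ j) : c.inj i ≫ proj c hc j = 0 := by
  unfold proj
  rw [Cofan.IsColimit.fac, dif_neg h]

lemma proj_inj_apply_self (W : C) (j : ι) (t : ModSite.sect (F j) W) :
    (proj c hc j).val.app (op W) ((c.inj j).val.app (op W) t) = t :=
  congrArg (fun ψ => ψ.val.app (op W) t) (inj_proj_self c hc j)

lemma proj_inj_apply_ne (W : C) {i j : ι} (h : i ≠ j) (t : ModSite.sect (F i) W) :
    (proj c hc j).val.app (op W) ((c.inj i).val.app (op W) t) = 0 :=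
  congrArg (fun ψ => ψ.val.app (op W) t) (inj_proj_ne c hc h)

open Classical in
lemma proj_sum (W : C) (T : Finset ι) (t : ∀ i, ModSite.sect (F i) W) (j : ι) :
    (proj c hc j).val.app (op W) (∑ i ∈ T, (c.inj i).val.app (op W) (t i)) =
      if j ∈ T then t j else 0 := by
  rw [map_sum]
  split_ifs with hj
  · rw [Finset.sum_eq_single j]
    · exact proj_inj_apply_self c hc W j (t j)
    · intro i _ hij
      exact proj_inj_apply_ne c hc W hij (t i)
    · intro h
      exact absurd hj h
  · apply Finset.sum_eq_zero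
    intro i hi
    have hij : i ≠ j := fun h => hj (h ▸ hi)
    exact proj_inj_apply_ne c hc W hij (t i)

open Classical in
lemma sum_inj_proj_of_subset (W : C) (T T' : Finset ι) (h : T ⊆ T')
    (t : ∀ i, ModSite.sect (F i) W) :
    ∑ i ∈ T', (c.inj i).val.app (op W)
        ((proj c hc i).val.app (op W) (∑ i ∈ T, (c.inj i).val.app (op W) (t i))) =
      ∑ i ∈ T, (c.inj i).val.app (op W) (t i) := by
  rw [← Finset.sum_subset h]
  · refine Finset.sum_congr rfl (fun i hi => ?_)
    rw [proj_sum, if_pos hi]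
  · intro i _ hi
    rw [proj_sum, if_neg hi, map_zero]

include hc in
/-- a finite sum of sections of the summands vanishes only if each term vanishes -/
lemma eq_zero_of_sum_eq_zero (W : C) (T : Finset ι) (t : ∀ i, ModSite.sect (F i) W)
    (h : ∑ i ∈ T, (c.inj i).val.app (op W) (t i) = 0) : ∀ i ∈ T, t i = 0 := by
  classical
  intro j hj
  have h1 := proj_sum c hc W T t j
  rw [h, map_zero, if_pos hj] at h1
  exact h1.symm

include hc in
/-- over a quasi-compact object, every section of a coproduct is a finite sum of its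
components -/
theorem exists_finset_eq_sum_of_qc (W : C) (hW : ToposFin.IsQCSite J W)
    (s : ModSite.sect c.pt W) :
    ∃ T : Finset ι, s = ∑ i ∈ T, (c.inj i).val.app (op W) ((proj c hc i).val.app (op W) s) := by
  classical
  obtain ⟨S, hS, HS⟩ := exists_sieve_finset_sum c hc W s
  obtain ⟨n, V, g, hg, hcov⟩ := hW S hS
  choose T t hT using fun k => HS (g k) (hg k)
  refine ⟨Finset.univ.biUnion T, ?_⟩
  have hsep : Presheaf.IsSeparated J c.pt.val.presheaf :=
    Presheaf.IsSheaf.isSeparated c.pt.isSheaf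
  refine hsep W _ hcov s _ ?_
  rintro Y f ⟨Z, a, _, ⟨k⟩, rfl⟩
  have e1 : ∀ x : ModSite.sect c.pt W, c.pt.val.presheaf.map (a ≫ g k).op x =
      rS c.pt a (rS c.pt (g k) x) := fun x => rS_comp c.pt (g k) a x
  rw [e1, e1]
  congr 1
  rw [rS_sum]
  have e2 : ∀ i, rS c.pt (g k) ((c.inj i).val.app (op W) ((proj c hc i).val.app (op W) s)) =
      (c.inj i).val.app (op (V k)) ((proj c hc i).val.app (op (V k)) (rS c.pt (g k) s)) := by
    intro i
    rw [← app_rS_gen, ← app_rS_gen]
  rw [Finset.sum_congr rfl (fun i _ => e2 i), hT k]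
  exact (sum_inj_proj_of_subset c hc (V k) (T k) _
    (Finset.subset_biUnion_of_mem T (Finset.mem_univ k)) (t k)).symm

end Proj

section Preserve

open scoped DirectSum

lemma isQCSite_of_isQcObject (W : C)
    (hW : CohCx.IsQcObject ((presheafToSheaf J (Type u)).obj (yoneda.obj W))) :
    ToposFin.IsQCSite J W :=
  (Groth.Agent.Lib.Helper6.TF.isQCSite_iff W).2
    (Groth.Agent.Lib.Helper9.CohS.isQC_of_isQcObject hW)

variable (O)

/-- the sections functor -/
noncomputable abbrev Γf (W : C) : ModSite.Mod O ⥤ AddCommGrpCat.{u} :=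
  SheafOfModules.toSheaf (ModSite.ringSh O) ⋙ (sheafSections J AddCommGrpCat.{u}).obj (op W)

variable {O}

open Classical in
theorem bijective_toAddMonoid (W : C) (hW : ToposFin.IsQCSite J W) (F : ι → ModSite.Mod O)
    (c : Cofan F) (hc : IsColimit c) :
    Function.Bijective (DirectSum.toAddMonoid (β := fun i => (Γf O W).obj (F i))
      (fun i => ((Γf O W).map (c.inj i)).hom)) := by
  constructor
  · rw [injective_iff_map_eq_zero]
    intro d hd
    rw [← DirectSum.sum_support_of d, map_sum] at hd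
    have h1 : ∀ i, (DirectSum.toAddMonoid (β := fun i => (Γf O W).obj (F i))
        (fun i => ((Γf O W).map (c.inj i)).hom))
          (DirectSum.of (fun i => (Γf O W).obj (F i)) i (d i)) =
        (c.inj i).val.app (op W) (d i) := fun i => DirectSum.toAddMonoid_of _ _ _
    rw [Finset.sum_congr rfl (fun i _ => h1 i)] at hd
    have h2 := eq_zero_of_sum_eq_zero c hc W d.support (fun i => d i) hd
    apply DFinsupp.ext
    intro i
    by_cases hi : i ∈ d.support
    · exact h2 i hi
    · rw [DFinsupp.mem_support_iff, not_not] at hi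
      exact hi
  · intro s
    obtain ⟨T, hT⟩ := exists_finset_eq_sum_of_qc c hc W hW s
    refine ⟨∑ i ∈ T, DirectSum.of (fun i => (Γf O W).obj (F i)) i
      ((proj c hc i).val.app (op W) s), ?_⟩
    rw [map_sum]
    refine Eq.trans (Finset.sum_congr rfl (fun i _ => ?_)) hT.symm
    exact DirectSum.toAddMonoid_of _ _ _

theorem preservesColimit_sections (W : C) (hW : ToposFin.IsQCSite J W) (F : ι → ModSite.Mod O) :
    PreservesColimit (Discrete.functor F) (Γf O W) := by
  classical
  apply preservesColimit_of_preserves_colimit_cocone (coproductIsCoproduct F)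
  refine (isColimitMapCoconeCofanMkEquiv (Γf O W) F (Sigma.ι F)).symm ?_
  let G : ι → AddCommGrpCat.{u} := fun i => (Γf O W).obj (F i)
  let t : Cofan G := Cofan.mk ((Γf O W).obj (∐ F)) (fun j => (Γf O W).map (Sigma.ι F j))
  have hb := bijective_toAddMonoid W hW F (Cofan.mk (∐ F) (Sigma.ι F)) (coproductIsCoproduct F)
  haveI : IsIso ((Groth.Agent.Lib.T2H8.DirectSumIsoU.dsCofanIsColimit G).desc t) := by
    rw [ConcreteCategory.isIso_iff_bijective]
    exact hb
  exact IsColimit.ofPointIso (Groth.Agent.Lib.T2H8.DirectSumIsoU.dsCofanIsColimit G)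

theorem main_S9102 (O : Sheaf J CommRingCat.{u}) (W : C)
    (hW : CohCx.IsQcObject ((presheafToSheaf J (Type u)).obj (yoneda.obj W))) (ι : Type u) :
    PreservesColimitsOfShape (Discrete ι)
      (SheafOfModules.toSheaf (ModSite.ringSh O) ⋙
        (sheafSections J AddCommGrpCat.{u}).obj (op W)) := by
  haveI : ∀ F : ι → ModSite.Mod O, PreservesColimit (Discrete.functor F) (Γf O W) :=
    fun F => preservesColimit_sections W (isQCSite_of_isQcObject W hW) F
  exact preservesColimitsOfShape_of_discrete (Γf O W)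

end Preserve

section Top

open TopologicalSpace

lemma isQCSite_of_isCompact {X : TopCat.{u}} (U : Opens X) (hU : IsCompact (U : Set X)) :
    ToposFin.IsQCSite (Opens.grothendieckTopology X) U := by
  classical
  intro S hS
  choose V f hf hx using fun x : U => hS x.1 x.2
  obtain ⟨t, ht⟩ := hU.elim_finite_subcover (fun x : U => (V x : Set X))
    (fun x => (V x).isOpen) (fun y hy => Set.mem_iUnion.2 ⟨⟨y, hy⟩, hx ⟨y, hy⟩⟩)
  refine ⟨t.card, fun k => V (t.equivFin.symm k).1, fun k => f _, fun k => hf _, ?_⟩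
  intro y hy
  obtain ⟨k, hyk⟩ : ∃ k : Fin t.card, y ∈ (V (t.equivFin.symm k).1 : Set X) := by
    obtain ⟨x, hxt, hyx⟩ : ∃ x ∈ t, y ∈ (V x : Set X) := by
      have := ht hy
      simpa using this
    refine ⟨t.equivFin ⟨x, hxt⟩, ?_⟩
    rw [Equiv.symm_apply_apply]
    exact hyx
  exact ⟨V (t.equivFin.symm k).1, f _,
    Sieve.ofArrows_mk (fun k => V (t.equivFin.symm k).1) (fun k => f (t.equivFin.symm k).1) k, hyk⟩

theorem main_S6842 {X : TopCat.{u}} (O : TopCat.Sheaf CommRingCat.{u} X)
    {I : Type u} (F : I → ModSite.Mod O) [HasCoproduct F] (U : Opens X)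
    (hU : IsCompact (U : Set X)) :
    (∀ s : ModSite.sect (∐ F) U, ∃ (S : Finset I) (t : ∀ i, ModSite.sect (F i) U),
        s = ∑ i ∈ S, ((Sigma.ι F i).val.app (Opposite.op U)).hom (t i)) ∧
      ∀ (S : Finset I) (t : ∀ i, ModSite.sect (F i) U),
        ∑ i ∈ S, ((Sigma.ι F i).val.app (Opposite.op U)).hom (t i) = 0 → ∀ i ∈ S, t i = 0 := by
  constructor
  · intro s
    obtain ⟨T, hT⟩ := exists_finset_eq_sum_of_qc (Cofan.mk (∐ F) (Sigma.ι F))
      (coproductIsCoproduct F) U (isQCSite_of_isCompact U hU) s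
    exact ⟨T, fun i => (proj (Cofan.mk (∐ F) (Sigma.ι F)) (coproductIsCoproduct F) i).val.app
      (op U) s, hT⟩
  · intro S t h
    exact eq_zero_of_sum_eq_zero (Cofan.mk (∐ F) (Sigma.ι F)) (coproductIsCoproduct F) U S t h

end Top

section FreeOn

open Groth.Agent.Lib.Helper23FreeOn

variable (O)

lemma homEquiv_add (M : ModSite.Mod O) (U : C) (h₁ h₂ : ModSite.freeOn O U ⟶ M) :
    homEquiv O M U (h₁ + h₂) = homEquiv O M U h₁ + homEquiv O M U h₂ := by
  have e : h₁ + h₂ = biprod.lift h₁ h₂ ≫ (biprod.fst + biprod.snd) := by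
    rw [Preadditive.comp_add, biprod.lift_fst, biprod.lift_snd]
  rw [e, homEquiv_comp]
  have h3 : ∀ x : (M ⊞ M).val.obj (op U),
      (biprod.fst + biprod.snd : M ⊞ M ⟶ M).val.app (op U) x =
        (biprod.fst : M ⊞ M ⟶ M).val.app (op U) x +
          (biprod.snd : M ⊞ M ⟶ M).val.app (op U) x := fun x => rfl
  rw [h3, ← homEquiv_comp, ← homEquiv_comp, biprod.lift_fst, biprod.lift_snd]

/-- `Hom(j_{U!} O_U, -)` is the sections functor -/
noncomputable def coyonedaIso (U : C) :
    preadditiveCoyoneda.obj (op (ModSite.freeOn O U)) ≅ Γf O U :=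
  NatIso.ofComponents
    (fun M => (AddEquiv.toAddCommGrpIso
      ({ toEquiv := homEquiv O M U, map_add' := homEquiv_add O M U } :
        (ModSite.freeOn O U ⟶ M) ≃+ M.val.obj (op U))))
    (fun {M N} p => by
      ext h
      exact homEquiv_comp O h p)

theorem main_S9103 (U : C)
    (hU : CohCx.IsQcObject ((presheafToSheaf J (Type u)).obj (yoneda.obj U))) (ι : Type u) :
    PreservesColimitsOfShape (Discrete ι)
      (preadditiveCoyoneda.obj (op (ModSite.freeOn O U))) := by
  haveI := main_S9102 O U hU ι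
  exact preservesColimitsOfShape_of_natIso (coyonedaIso O U).symm

end FreeOn

end Groth.Agent.Lib.T2H8.ModCoprodSec
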