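import Mathlib
import Groth.Prelude.Def_ModSite2
import Groth.Agent.Lib.T1H4ModEltD
import Groth.Agent.Lib.T2H8ModCoprodSec

/-!
# Free modules on arbitrary index types, elementwise (helper4)

`epsLin I Y : (I →₀ O(Y)) →ₗ free I (Y)` is injective, compatible with restriction, and every
section of `free I` is locally in its range.
-/

set_option autoImplicit false
set_option linter.unusedSectionVars false
set_option linter.style.haveILetI false
universe u
open CategoryTheory CategoryTheory.Limits Opposite

namespace Groth.Agent.Lib.T1H4.ModInf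

open Groth.Agent.Lib.T1H4.ModElt

variable {C : Type u} [SmallCategory C] {J : GrothendieckTopology C} {O : Sheaf J CommRingCat.{u}}

variable (I : Type u)

/-- the `k`-th coordinate of an element of `free I`, for arbitrary `I` -/
noncomputable def coordG (Y : C) (k : I) :
    (SheafOfModules.free (R := ModSite.ringSh O) I).val.obj (op Y)
      →ₗ[(ModSite.ringSh O).obj.obj (op Y)] (ModSite.ringSh O).obj.obj (op Y) :=
  ((proj (SheafOfModules.freeCofan (R := ModSite.ringSh O) I)
    (SheafOfModules.isColimitFreeCofan (R := ModSite.ringSh O) I) k).val.app (op Y)).hom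

lemma coordG_eps [DecidableEq I] (Y : C) (j k : I) :
    coordG (O := O) I Y j (eps I Y k) = if k = j then 1 else 0 := by
  rw [eps_eq]
  let c := SheafOfModules.freeCofan (R := ModSite.ringSh O) I
  let hc := SheafOfModules.isColimitFreeCofan (R := ModSite.ringSh O) I
  by_cases hkj : k = j
  · subst hkj
    rw [if_pos rfl]
    exact congrArg (fun χ : SheafOfModules.unit (ModSite.ringSh O) ⟶
      SheafOfModules.unit (ModSite.ringSh O) => χ.val.app (op Y)
        (1 : (ModSite.ringSh O).obj.obj (op Y))) (inj_proj_self c hc k)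
  · rw [if_neg hkj]
    exact congrArg (fun χ : SheafOfModules.unit (ModSite.ringSh O) ⟶
      SheafOfModules.unit (ModSite.ringSh O) => χ.val.app (op Y)
        (1 : (ModSite.ringSh O).obj.obj (op Y))) (inj_proj_ne c hc hkj)

/-- finitely supported combinations of the basic elements -/
noncomputable def epsLin (Y : C) :
    (I →₀ (ModSite.ringSh O).obj.obj (op Y)) →ₗ[(ModSite.ringSh O).obj.obj (op Y)]
      (SheafOfModules.free (R := ModSite.ringSh O) I).val.obj (op Y) :=
  Finsupp.linearCombination _ (eps (O := O) I Y)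

lemma epsLin_apply (Y : C) (b : I →₀ (ModSite.ringSh O).obj.obj (op Y)) :
    epsLin (O := O) I Y b = b.sum (fun k a => a • eps (O := O) I Y k) :=
  Finsupp.linearCombination_apply _ b

lemma coordG_epsLin (Y : C) (b : I →₀ (ModSite.ringSh O).obj.obj (op Y)) (j : I) :
    coordG (O := O) I Y j (epsLin I Y b) = b j := by
  classical
  rw [epsLin_apply, Finsupp.sum, map_sum]
  by_cases hj : j ∈ b.support
  · rw [Finset.sum_eq_single j]
    · rw [map_smul, coordG_eps, if_pos rfl, smul_eq_mul, mul_one]
    · intro k _ hk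
      rw [map_smul, coordG_eps, if_neg hk, smul_zero]
    · intro h
      exact absurd hj h
  · rw [Finsupp.notMem_support_iff.1 hj]
    refine Finset.sum_eq_zero (fun k hk => ?_)
    have hkj : k ≠ j := fun h => hj (h ▸ hk)
    rw [map_smul, coordG_eps, if_neg hkj, smul_zero]

lemma epsLin_injective (Y : C) : Function.Injective (epsLin (O := O) I Y) := by
  intro b b' h
  ext j
  rw [← coordG_epsLin I Y b j, ← coordG_epsLin I Y b' j, h]

/-- restriction of coefficient families -/
noncomputable def rFin {Y Y' : C} (g : Y' ⟶ Y) (b : I →₀ (ModSite.ringSh O).obj.obj (op Y)) :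
    I →₀ (ModSite.ringSh O).obj.obj (op Y') :=
  b.mapRange (rO (O := O) g) (map_zero ((ModSite.ringSh O).obj.map g.op).hom)

lemma rFin_apply {Y Y' : C} (g : Y' ⟶ Y) (b : I →₀ (ModSite.ringSh O).obj.obj (op Y)) (k : I) :
    rFin (O := O) I g b k = rO (O := O) g (b k) := rfl

lemma epsLin_restrict {Y Y' : C} (g : Y' ⟶ Y) (b : I →₀ (ModSite.ringSh O).obj.obj (op Y)) :
    (SheafOfModules.free (R := ModSite.ringSh O) I).val.restrictₛₗ g.op (epsLin I Y b) =
      epsLin I Y' (rFin I g b) := by
  classical
  rw [epsLin_apply, epsLin_apply, Finsupp.sum, map_sum]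
  have h1 := Finsupp.sum_of_support_subset (rFin (O := O) I g b) (s := b.support)
    Finsupp.support_mapRange (fun k a => a • eps (O := O) I Y' k) (fun k _ => zero_smul _ _)
  rw [h1]
  refine Finset.sum_congr rfl (fun k _ => ?_)
  rw [restrict_smul, eps_restrict]
  rfl

lemma freeHomEquiv_symm_app_epsLin {N : ModSite.Mod O} (s : I → N.sections) (Y : C)
    (b : I →₀ (ModSite.ringSh O).obj.obj (op Y)) :
    (N.freeHomEquiv.symm s).val.app (op Y) (epsLin I Y b) =
      b.sum (fun k a => a • sval s k Y) := by
  rw [epsLin_apply, Finsupp.sum, map_sum]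
  refine Finset.sum_congr rfl (fun k _ => ?_)
  show _ = b k • sval s k Y
  rw [← freeHomEquiv_symm_app_eps s k Y]
  exact ((N.freeHomEquiv.symm s).val.app (op Y)).hom.map_smul _ _

/-- every section of `free I` is locally a finite combination of the basic elements -/
theorem exists_sieve_epsLin (Y : C)
    (z : (SheafOfModules.free (R := ModSite.ringSh O) I).val.obj (op Y)) :
    ∃ S ∈ J Y, ∀ ⦃Y' : C⦄ (g : Y' ⟶ Y), S g →
      ∃ b : I →₀ (ModSite.ringSh O).obj.obj (op Y'),
        (SheafOfModules.free (R := ModSite.ringSh O) I).val.restrictₛₗ g.op z = epsLin I Y' b := by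
  classical
  obtain ⟨S, hS, hS'⟩ := Groth.Agent.Lib.T2H8.ModCoprodSec.exists_sieve_finset_sum
    (SheafOfModules.freeCofan (R := ModSite.ringSh O) I)
    (SheafOfModules.isColimitFreeCofan (R := ModSite.ringSh O) I) Y z
  refine ⟨S, hS, fun Y' g hg => ?_⟩
  obtain ⟨T, t, ht⟩ := hS' g hg
  let a : I → (ModSite.ringSh O).obj.obj (op Y') := t
  have hk : ∀ k, ((((SheafOfModules.freeCofan (R := ModSite.ringSh O) I).inj k).val.app (op Y')
      (t k) : (SheafOfModules.freeCofan (R := ModSite.ringSh O) I).pt.val.obj (op Y')) :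
        (SheafOfModules.free (R := ModSite.ringSh O) I).val.obj (op Y')) =
      epsLin I Y' (Finsupp.single k (a k)) := by
    intro k
    rw [epsLin_apply, Finsupp.sum_single_index
      (h := fun k a => a • eps (O := O) I Y' k) (zero_smul _ _), eps_eq]
    have h4 : a k = a k • (1 : (ModSite.ringSh O).obj.obj (op Y')) := (mul_one (a k)).symm
    change ((SheafOfModules.freeCofan (R := ModSite.ringSh O) I).inj k).val.app (op Y') (a k) = _
    conv_lhs => rw [h4]
    exact (((SheafOfModules.freeCofan (R := ModSite.ringSh O) I).inj k).val.app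
      (op Y')).hom.map_smul (a k) _
  refine ⟨∑ k ∈ T, Finsupp.single k (a k), ?_⟩
  rw [map_sum]
  exact Eq.trans ht (Finset.sum_congr rfl (fun k _ => hk k))

end Groth.Agent.Lib.T1H4.ModInf
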