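import Mathlib
import Groth.Prelude.Def_ModSite2
import Groth.Agent.Lib.T1H4ModInfA
import Groth.Agent.Lib.T1H4ModEltG

/-!
# Modules on sites all of whose covering sieves are maximal (helper4)

Elementwise description of presentations: generators and relations over an object restrict to
generators and relations over any object mapping to it.
-/

set_option autoImplicit false
set_option linter.unusedSectionVars false
set_option linter.style.haveILetI false
universe u
open CategoryTheory CategoryTheory.Limits Opposite

namespace Groth.Agent.Lib.T1H4.Chaotic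

open Groth.Agent.Lib.T1H4.ModElt Groth.Agent.Lib.T1H4.ModInf

variable {D : Type u} [SmallCategory D] {K : GrothendieckTopology D} {O : Sheaf K CommRingCat.{u}}

/-- all covering sieves are maximal -/
def AllTop (K : GrothendieckTopology D) : Prop := ∀ (Y : D) (S : Sieve Y), S ∈ K Y → S = ⊤

lemma restrict_id (N : ModSite.Mod O) (Y : D) (t : N.val.obj (op Y)) :
    N.val.restrictₛₗ (𝟙 Y).op t = t := by
  change N.val.map (𝟙 (op Y)) t = t
  rw [N.val.map_id]
  rfl

lemma epsLin_surjective (hK : AllTop K) (I : Type u) (Y : D) :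
    Function.Surjective (epsLin (O := O) I Y) := by
  intro z
  obtain ⟨S, hS, hS'⟩ := exists_sieve_epsLin I Y z
  have hS1 : S = ⊤ := hK Y S hS
  obtain ⟨b, hb⟩ := hS' (𝟙 Y) (by rw [hS1]; trivial)
  exact ⟨b, by rw [← hb, restrict_id]⟩

lemma surjective_app_of_epi (hK : AllTop K) {G F : ModSite.Mod O} (p : G ⟶ F) [Epi p] (Y : D) :
    Function.Surjective (p.val.app (op Y)) := by
  intro s
  obtain ⟨S, hS, hS'⟩ := exists_sieve_lift p Y s
  have hS1 : S = ⊤ := hK Y S hS
  obtain ⟨t, ht⟩ := hS' (𝟙 Y) (by rw [hS1]; trivial)
  exact ⟨t, by rw [ht, restrict_id]⟩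

lemma epi_of_surjective_app {M N : ModSite.Mod O} (π : M ⟶ N)
    (h : ∀ Y : D, Function.Surjective (π.val.app (op Y))) : Epi π := by
  apply epi_of_forall_exists_sieve
  intro Y t
  refine ⟨⊤, K.top_mem Y, fun Y' g _ => ?_⟩
  obtain ⟨z, hz⟩ := h Y t
  exact ⟨M.val.restrictₛₗ g.op z, by rw [app_restrict, hz]⟩

section Pres

variable {M : ModSite.Mod O} (P : M.Presentation)

/-- the generators of a presentation generate the sections over every object -/
theorem pres_gen (hK : AllTop K) (Y : D) (x : M.val.obj (op Y)) :
    ∃ c : P.generators.I →₀ (ModSite.ringSh O).obj.obj (op Y),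
      c.sum (fun k a => a • sval P.generators.s k Y) = x := by
  obtain ⟨z, hz⟩ := surjective_app_of_epi hK P.generators.π Y x
  obtain ⟨c, hc⟩ := epsLin_surjective hK P.generators.I Y z
  refine ⟨c, ?_⟩
  rw [← freeHomEquiv_symm_app_epsLin _ P.generators.s Y c, hc]
  exact hz

/-- the set of relations over `Y'` coming from relations over `Y` -/
def relSetSite {Y Y' : D} (g : Y' ⟶ Y) :
    Set (P.generators.I →₀ (ModSite.ringSh O).obj.obj (op Y')) :=
  {b | ∃ c : P.generators.I →₀ (ModSite.ringSh O).obj.obj (op Y),
    c.sum (fun k a => a • sval P.generators.s k Y) = 0 ∧ b = rFin P.generators.I g c}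

/-- relations among the generators over `Y'` are generated by those over `Y` -/
theorem pres_rel (hK : AllTop K) {Y Y' : D} (g : Y' ⟶ Y)
    (b : P.generators.I →₀ (ModSite.ringSh O).obj.obj (op Y'))
    (hb : b.sum (fun k a => a • sval P.generators.s k Y') = 0) :
    b ∈ Submodule.span ((ModSite.ringSh O).obj.obj (op Y')) (relSetSite P g) := by
  classical
  -- lift to the kernel
  have hz : P.generators.π.val.app (op Y') (epsLin P.generators.I Y' b) = 0 := by
    rw [← hb]
    exact freeHomEquiv_symm_app_epsLin _ P.generators.s Y' b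
  obtain ⟨x, hx⟩ := exists_kernel_lift P.generators.π Y' _ hz
  obtain ⟨w, hw⟩ := surjective_app_of_epi hK P.relations.π Y' x
  obtain ⟨d, hd⟩ := epsLin_surjective hK P.relations.I Y' w
  -- the relations over `Y`
  have hρ : ∀ j : P.relations.I, ∃ c : P.generators.I →₀ (ModSite.ringSh O).obj.obj (op Y),
      epsLin P.generators.I Y c =
        (kernel.ι P.generators.π).val.app (op Y) (sval P.relations.s j Y) :=
    fun j => epsLin_surjective hK P.generators.I Y _
  choose c hc using hρ
  have hc0 : ∀ j, (c j).sum (fun k a => a • sval P.generators.s k Y) = 0 := by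
    intro j
    rw [← freeHomEquiv_symm_app_epsLin _ P.generators.s Y (c j), hc j]
    exact kernel_ι_app P.generators.π Y _
  have hcY' : ∀ j, (kernel.ι P.generators.π).val.app (op Y') (sval P.relations.s j Y') =
      epsLin P.generators.I Y' (rFin P.generators.I g (c j)) := by
    intro j
    rw [← epsLin_restrict, hc j, ← app_restrict, sval_restrict]
  have hx2 : x = d.sum (fun j a => a • sval P.relations.s j Y') := by
    rw [← hw, ← hd]
    exact freeHomEquiv_symm_app_epsLin _ P.relations.s Y' d
  have hb2 : b = d.sum (fun j a => a • rFin P.generators.I g (c j)) := by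
    apply epsLin_injective P.generators.I Y'
    rw [← hx, hx2, Finsupp.sum, Finsupp.sum, map_sum, map_sum]
    refine Finset.sum_congr rfl (fun j _ => ?_)
    rw [map_smul, map_smul, hcY' j]
  rw [hb2]
  exact Submodule.sum_mem _ (fun j _ => Submodule.smul_mem _ _
    (Submodule.subset_span ⟨c j, hc0 j, rfl⟩))

end Pres

end Groth.Agent.Lib.T1H4.Chaotic
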