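import Mathlib
import Groth.Prelude.Def_ModSite2
import Groth.Agent.Lib.T1H4ChaoticSiteA

/-!
# Building a presentation from sections over a terminal object (helper4)

On a site all of whose covering sieves are maximal and which has a terminal object `t`, a module
`M` such that `M(t)` generates every `M(Y)` with relations coming from `t` has a global
presentation.
-/

set_option autoImplicit false
set_option linter.unusedSectionVars false
set_option linter.style.haveILetI false
universe u
open CategoryTheory CategoryTheory.Limits Opposite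

namespace Groth.Agent.Lib.T1H4.Chaotic

open Groth.Agent.Lib.T1H4.ModElt Groth.Agent.Lib.T1H4.ModInf

variable {D : Type u} [SmallCategory D] {K : GrothendieckTopology D} {O : Sheaf K CommRingCat.{u}}
  {t : D} (ht : IsTerminal t) (M : ModSite.Mod O)

/-- sections over the terminal object generate -/
def GenTop : Prop :=
  ∀ (Y : D) (y : M.val.obj (op Y)), ∃ b : (M.val.obj (op t)) →₀ (ModSite.ringSh O).obj.obj (op Y),
    b.sum (fun k a => a • rT ht M Y k) = y

/-- the relations over the terminal object, restricted to `Y` -/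
def relSetTop (Y : D) : Set ((M.val.obj (op t)) →₀ (ModSite.ringSh O).obj.obj (op Y)) :=
  {b | ∃ c : (M.val.obj (op t)) →₀ (ModSite.ringSh O).obj.obj (op t),
    c.sum (fun k a => a • k) = 0 ∧ b = rFin (M.val.obj (op t)) (ht.from Y) c}

/-- relations come from the terminal object -/
def RelTop : Prop :=
  ∀ (Y : D) (b : (M.val.obj (op t)) →₀ (ModSite.ringSh O).obj.obj (op Y)),
    b.sum (fun k a => a • rT ht M Y k) = 0 →
      b ∈ Submodule.span ((ModSite.ringSh O).obj.obj (op Y)) (relSetTop ht M Y)

/-- the tautological morphism from the free module on `M(t)` -/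
noncomputable def πTop : SheafOfModules.free (R := ModSite.ringSh O) (M.val.obj (op t)) ⟶ M :=
  M.freeHomEquiv.symm (fun k => secOfTop ht M k)

lemma πTop_epsLin (Y : D) (b : (M.val.obj (op t)) →₀ (ModSite.ringSh O).obj.obj (op Y)) :
    (πTop ht M).val.app (op Y) (epsLin (M.val.obj (op t)) Y b) =
      b.sum (fun k a => a • rT ht M Y k) :=
  freeHomEquiv_symm_app_epsLin _ (fun k => secOfTop ht M k) Y b

variable {M}

lemma epi_πTop (hS : GenTop ht M) : Epi (πTop ht M) := by
  apply epi_of_surjective_app
  intro Y y
  obtain ⟨b, hb⟩ := hS Y y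
  exact ⟨epsLin _ Y b, by rw [πTop_epsLin, hb]⟩

variable (M)

/-- the tautological morphism from the free module on the sections of the kernel over `t` -/
noncomputable def πRel :
    SheafOfModules.free (R := ModSite.ringSh O) ((kernel (πTop ht M)).val.obj (op t)) ⟶
      kernel (πTop ht M) :=
  (kernel (πTop ht M)).freeHomEquiv.symm (fun j => secOfTop ht (kernel (πTop ht M)) j)

lemma πRel_eps (Y : D) (j : (kernel (πTop ht M)).val.obj (op t)) :
    (πRel ht M).val.app (op Y) (eps (O := O) _ Y j) = rT ht (kernel (πTop ht M)) Y j :=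
  freeHomEquiv_symm_app_eps (fun j => secOfTop ht (kernel (πTop ht M)) j) j Y

variable {M}

lemma epi_πRel (hK : AllTop K) (hI : RelTop ht M) : Epi (πRel ht M) := by
  apply epi_of_surjective_app
  intro Y x
  obtain ⟨b, hb⟩ := epsLin_surjective hK (M.val.obj (op t)) Y
    ((kernel.ι (πTop ht M)).val.app (op Y) x)
  have hb0 : b.sum (fun k a => a • rT ht M Y k) = 0 := by
    rw [← πTop_epsLin, hb]
    exact kernel_ι_app (πTop ht M) Y x
  have hmem := hI Y b hb0
  suffices h : ∃ w : (SheafOfModules.free (R := ModSite.ringSh O)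
      ((kernel (πTop ht M)).val.obj (op t))).val.obj (op Y),
      (kernel.ι (πTop ht M)).val.app (op Y) ((πRel ht M).val.app (op Y) w) =
        epsLin (M.val.obj (op t)) Y b by
    obtain ⟨w, hw⟩ := h
    haveI : Mono (kernel.ι (πTop ht M)) := inferInstance
    exact ⟨w, injective_app_of_mono (kernel.ι (πTop ht M)) Y (hw.trans hb)⟩
  clear hb hb0
  induction hmem using Submodule.span_induction with
  | mem b hb =>
    obtain ⟨c, hc, rfl⟩ := hb
    have h0 : (πTop ht M).val.app (op t) (epsLin (M.val.obj (op t)) t c) = 0 := by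
      rw [πTop_epsLin, ← hc]
      refine Finsupp.sum_congr (fun k _ => ?_)
      rw [rT_self]
    obtain ⟨x0, hx0⟩ := exists_kernel_lift (πTop ht M) t _ h0
    refine ⟨eps (O := O) _ Y x0, ?_⟩
    rw [πRel_eps, ← epsLin_restrict, ← hx0]
    exact app_restrict (kernel.ι (πTop ht M)) (ht.from Y) x0
  | zero =>
    exact ⟨0, by rw [map_zero, map_zero, map_zero]⟩
  | add b b' _ _ h h' =>
    obtain ⟨w, hw⟩ := h
    obtain ⟨w', hw'⟩ := h'
    exact ⟨w + w', by rw [map_add, map_add, map_add, hw, hw']⟩
  | smul a b _ h =>
    obtain ⟨w, hw⟩ := h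
    exact ⟨a • w, by rw [map_smul, map_smul, map_smul, hw]⟩

/-- the presentation -/
noncomputable def presTop (hK : AllTop K) (hS : GenTop ht M) (hI : RelTop ht M) :
    M.Presentation where
  generators :=
    { I := M.val.obj (op t)
      s := fun k => secOfTop ht M k
      epi := epi_πTop ht hS }
  relations :=
    { I := (kernel (πTop ht M)).val.obj (op t)
      s := fun j => secOfTop ht (kernel (πTop ht M)) j
      epi := epi_πRel ht hK hI }

end Groth.Agent.Lib.T1H4.Chaotic
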