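import Mathlib
import Groth.Prelude.Def_ModSite2
import Groth.Agent.Lib.T1H4ChaoticSiteB
import Groth.Agent.Lib.T1H4ChaoticAlg

/-!
# Presentations and base change maps on sites with only maximal covering sieves (helper4)
-/

set_option autoImplicit false
set_option linter.unusedSectionVars false
set_option linter.style.haveILetI false
universe u
open CategoryTheory CategoryTheory.Limits Opposite

namespace Groth.Agent.Lib.T1H4.Chaotic

open Groth.Agent.Lib.T1H4.ModElt Groth.Agent.Lib.T1H4.ModInf

variable {D : Type u} [SmallCategory D] {K : GrothendieckTopology D} {O : Sheaf K CommRingCat.{u}}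

/-- sections as a module over the commutative ring of sections -/
abbrev secC (M : ModSite.Mod O) (Y : D) : ModuleCat.{u} (O.obj.obj (op Y)) := M.val.obj (op Y)

/-- restriction as a morphism to the restriction of scalars -/
abbrev resC (M : ModSite.Mod O) {Y Y' : D} (g : Y' ⟶ Y) :
    secC M Y ⟶ (ModuleCat.restrictScalars (O.obj.map g.op).hom).obj (secC M Y') := M.val.map g.op

/-- a global presentation makes all base change maps bijective -/
theorem bijective_bc_of_presentation (hK : AllTop K) {M : ModSite.Mod O} (P : M.Presentation)
    {Y Y' : D} (g : Y' ⟶ Y) :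
    Function.Bijective (bc (O.obj.map g.op).hom (secC M Y) (secC M Y') (resC M g)).hom := by
  refine bc_bijective (O.obj.map g.op).hom (secC M Y) (secC M Y') (resC M g)
    (I := P.generators.I) (fun k => sval P.generators.s k Y) ?_ ?_ ?_
  · intro x
    obtain ⟨c, hc⟩ := pres_gen P hK Y x
    refine ⟨c, ?_⟩
    rw [Finsupp.linearCombination_apply]
    exact hc
  · intro y
    obtain ⟨b, hb⟩ := pres_gen P hK Y' y
    refine ⟨b, ?_⟩
    rw [Finsupp.linearCombination_apply]
    refine Eq.trans (Finsupp.sum_congr (fun k _ => ?_)) hb
    exact congrArg (fun v : M.val.obj (op Y') => b k • v) (sval_restrict P.generators.s k g)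
  · intro b hb
    have hb' : b.sum (fun k a => a • sval P.generators.s k Y') = 0 := by
      rw [Finsupp.linearCombination_apply] at hb
      refine Eq.trans (Finsupp.sum_congr (fun k _ => ?_)) hb
      exact congrArg (fun v : M.val.obj (op Y') => b k • v)
        (sval_restrict P.generators.s k g).symm
    have h1 := pres_rel P hK g b hb'
    refine Submodule.span_mono ?_ h1
    rintro _ ⟨c, hc, rfl⟩
    refine ⟨c, ?_, rfl⟩
    rw [Finsupp.linearCombination_apply]
    exact hc

section Top

variable {t : D} (ht : IsTerminal t) (M : ModSite.Mod O)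

lemma exists_linearCombination_id (x : secC M t) :
    ∃ c : (secC M t) →₀ (O.obj.obj (op t)),
      Finsupp.linearCombination (O.obj.obj (op t)) (fun k : secC M t => k) c = x :=
  ⟨Finsupp.single x 1, by rw [Finsupp.linearCombination_single, one_smul]⟩

theorem genTop_of_surjective_bc
    (h : ∀ Y : D, Function.Surjective
      (bc (O.obj.map (ht.from Y).op).hom (secC M t) (secC M Y) (resC M (ht.from Y))).hom) :
    GenTop ht M := by
  intro Y y
  obtain ⟨z, hz⟩ := h Y y
  obtain ⟨b, hb⟩ := tau_surjective (O.obj.map (ht.from Y).op).hom (secC M t)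
    (I := secC M t) (fun k => k) (exists_linearCombination_id M) z
  refine ⟨b, ?_⟩
  rw [← hz, ← hb, bc_tau, Finsupp.linearCombination_apply]
  rfl

theorem relTop_of_injective_bc
    (h : ∀ Y : D, Function.Injective
      (bc (O.obj.map (ht.from Y).op).hom (secC M t) (secC M Y) (resC M (ht.from Y))).hom) :
    RelTop ht M := by
  intro Y b hb
  have h1 := rel_of_bc_injective (O.obj.map (ht.from Y).op).hom (secC M t) (secC M Y)
    (resC M (ht.from Y)) (I := secC M t) (fun k => k) (exists_linearCombination_id M) (h Y) b
    (by rw [Finsupp.linearCombination_apply]; exact hb)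
  refine Submodule.span_mono ?_ h1
  rintro _ ⟨c, hc, rfl⟩
  refine ⟨c, ?_, rfl⟩
  rw [Finsupp.linearCombination_apply] at hc
  exact hc

/-- bijective base change maps from a terminal object give a global presentation -/
theorem nonempty_presentation_of_bijective_bc (hK : AllTop K)
    (h : ∀ Y : D, Function.Bijective
      (bc (O.obj.map (ht.from Y).op).hom (secC M t) (secC M Y) (resC M (ht.from Y))).hom) :
    Nonempty M.Presentation :=
  ⟨presTop ht hK (genTop_of_surjective_bc ht M (fun Y => (h Y).2))
    (relTop_of_injective_bc ht M (fun Y => (h Y).1))⟩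

end Top

end Groth.Agent.Lib.T1H4.Chaotic
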