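import Mathlib
import Groth.Prelude.Def_ModSite2
import Groth.Agent.Lib.T1H4ChaoticSiteC

/-!
# Quasi-coherent modules for the chaotic topology (helper4)
-/

set_option autoImplicit false
set_option linter.unusedSectionVars false
set_option linter.style.haveILetI false
universe u
open CategoryTheory CategoryTheory.Limits Opposite

namespace Groth.Agent.Lib.T1H4.Chaotic

open Groth.Agent.Lib.T1H4.ModElt Groth.Agent.Lib.T1H4.ModInf

variable {C : Type u} [SmallCategory C]

lemma allTop_over_bot (W : C) : AllTop ((⊥ : GrothendieckTopology C).over W) := by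
  intro Y S hS
  rw [GrothendieckTopology.mem_over_iff, GrothendieckTopology.bot_covering] at hS
  exact (Sieve.overEquiv Y).injective (hS.trans (map_top (Sieve.overEquiv Y)).symm)

/-- an explicit terminal object of the over category -/
def overTerminal (V : C) : IsTerminal (Over.mk (𝟙 V)) :=
  IsTerminal.ofUniqueHom (fun Y => Over.homMk Y.hom (by simp)) (fun Y m => by
    ext
    simpa using Over.w m)

variable (O : Sheaf (⊥ : GrothendieckTopology C) CommRingCat.{u}) (F : ModSite.Mod O)

theorem bijective_bc_of_presentation_over (W : C)
    (P : ((ModSite.restr O W).obj F).Presentation) {U V : C} (g : U ⟶ V) (h : V ⟶ W) :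
    Function.Bijective (bc (O.obj.map g.op).hom (secC F V) (secC F U) (resC F g)).hom :=
  bijective_bc_of_presentation (allTop_over_bot W) P
    (Over.homMk g : Over.mk (g ≫ h) ⟶ Over.mk h)

theorem nonempty_presentation_over (V : C)
    (h : ∀ (U : C) (g : U ⟶ V), Function.Bijective
      (bc (O.obj.map g.op).hom (secC F V) (secC F U) (resC F g)).hom) :
    Nonempty ((ModSite.restr O V).obj F).Presentation :=
  nonempty_presentation_of_bijective_bc (overTerminal V) ((ModSite.restr O V).obj F)
    (allTop_over_bot V) (fun Y => h Y.left Y.hom)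

/-- the main characterisation -/
theorem isQuasicoherent_iff :
    SheafOfModules.IsQuasicoherent (R := ModSite.ringSh O) F ↔
      ∀ (U V : C) (g : U ⟶ V), Function.Bijective
        (bc (O.obj.map g.op).hom (secC F V) (secC F U) (resC F g)).hom := by
  constructor
  · rintro ⟨⟨q⟩⟩ U V g
    have h1 := q.coversTop V
    rw [GrothendieckTopology.bot_covering] at h1
    have h2 : (Sieve.ofObjects q.X V) (𝟙 V) := by rw [h1]; trivial
    obtain ⟨i, ⟨h⟩⟩ := (Sieve.mem_ofObjects_iff ..).mp h2
    exact bijective_bc_of_presentation_over O F (q.X i) (q.presentation i) g h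
  · intro h
    have hc : (⊥ : GrothendieckTopology C).CoversTop (fun V : C => V) := by
      intro W
      rw [GrothendieckTopology.bot_covering]
      ext Y f
      simp only [Sieve.top_apply, iff_true]
      exact (Sieve.mem_ofObjects_iff ..).mpr ⟨Y, ⟨𝟙 Y⟩⟩
    have hp : ∀ V : C, Nonempty (SheafOfModules.Presentation.{u}
        (SheafOfModules.over (R := ModSite.ringSh O) F V)) :=
      fun V => nonempty_presentation_over O F V (fun U g => h U V g)
    have q : SheafOfModules.QuasicoherentData.{u, u, u, u} (R := ModSite.ringSh O) F :=
      SheafOfModules.QuasicoherentData.mk (M := F) C (fun V : C => V) hc (fun V => (hp V).some)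
    exact q.isQuasicoherent

end Groth.Agent.Lib.T1H4.Chaotic
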