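import Mathlib

/-!
# Plane conics: basics (helper4)

`lin a = Σ a_i X_i`, `quad M = Σ M_ij X_i X_j`, evaluation, derivatives, uniqueness of the
symmetric matrix of a quadratic form, and the diagonal normal form.
-/

set_option autoImplicit false
universe u

namespace Groth.Agent.Lib.T1H4.Conic

open MvPolynomial Matrix

variable {k : Type u} [Field k]

/-- The linear form `Σ a_i X_i`. -/
noncomputable def lin (a : Fin 3 → k) : MvPolynomial (Fin 3) k := ∑ i : Fin 3, a i • X i

/-- The quadratic form `Σ M_ij X_i X_j`. -/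
noncomputable def quad (M : Matrix (Fin 3) (Fin 3) k) : MvPolynomial (Fin 3) k :=
  ∑ i : Fin 3, ∑ j : Fin 3, M i j • (X i * X j)

lemma eval_lin (a x : Fin 3 → k) : eval x (lin a) = ∑ i, a i * x i := by
  simp [lin, smul_eval]

lemma eval_quad (M : Matrix (Fin 3) (Fin 3) k) (x : Fin 3 → k) :
    eval x (quad M) = ∑ i, ∑ j, M i j * (x i * x j) := by
  simp [quad, smul_eval]

lemma lin_add (a b : Fin 3 → k) : lin (a + b) = lin a + lin b := by
  simp [lin, add_smul, Finset.sum_add_distrib]

lemma lin_smul (c : k) (a : Fin 3 → k) : lin (c • a) = c • lin a := by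
  simp [lin, Finset.smul_sum, smul_smul]

lemma lin_sub (a b : Fin 3 → k) : lin (a - b) = lin a - lin b := by
  simp [lin, sub_smul, Finset.sum_sub_distrib]

lemma lin_zero : lin (0 : Fin 3 → k) = 0 := by simp [lin]

lemma lin_mul_lin (a b : Fin 3 → k) : lin a * lin b = quad (vecMulVec a b) := by
  simp only [lin, quad, Finset.sum_mul_sum, vecMulVec_apply, smul_mul_smul_comm]

lemma pderiv_lin (a : Fin 3 → k) (j : Fin 3) : pderiv j (lin a) = C (a j) := by
  classical
  simp only [lin, map_sum, Derivation.map_smul, pderiv_X, Pi.single_apply]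
  rw [Finset.sum_eq_single j]
  · simp [smul_eq_C_mul]
  · intro b _ hb; simp [hb]
  · intro h; exact absurd (Finset.mem_univ j) h

lemma pderiv_quad (M : Matrix (Fin 3) (Fin 3) k) (i : Fin 3) :
    pderiv i (quad M) = lin (fun j => M i j + M j i) := by
  classical
  have key : ∀ a b : Fin 3, pderiv i (M a b • (X a * X b) : MvPolynomial (Fin 3) k)
      = (if a = i then M a b • X b else 0) + (if b = i then M a b • X a else 0) := by
    intro a b
    rw [Derivation.map_smul, pderiv_mul, pderiv_X, pderiv_X, smul_add]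
    congr 1
    · by_cases h : a = i
      · subst h; simp
      · rw [if_neg h, Pi.single_apply, if_neg h]; simp
    · by_cases h : b = i
      · subst h; simp
      · rw [if_neg h, Pi.single_apply, if_neg h]; simp
  simp only [quad, lin, map_sum, key, Finset.sum_add_distrib, add_smul]
  congr 1
  · rw [Finset.sum_eq_single i]
    · simp
    · intro b _ hb; simp [hb]
    · intro h; exact absurd (Finset.mem_univ i) h
  · rw [Finset.sum_comm, Finset.sum_eq_single i]
    · simp
    · intro b _ hb; simp [hb]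
    · intro h; exact absurd (Finset.mem_univ i) h

lemma pderiv_pderiv_quad (M : Matrix (Fin 3) (Fin 3) k) (i j : Fin 3) :
    pderiv j (pderiv i (quad M)) = C (M i j + M j i) := by
  rw [pderiv_quad, pderiv_lin]

/-- The symmetrisation of the matrix is determined by the quadratic polynomial. -/
lemma quad_inj {M N : Matrix (Fin 3) (Fin 3) k} (h : quad M = quad N) (i j : Fin 3) :
    M i j + M j i = N i j + N j i := by
  have h1 := pderiv_pderiv_quad M i j
  rw [h, pderiv_pderiv_quad] at h1
  exact (C_injective _ _ h1).symm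

lemma quad_inj_symm [CharZero k] {M N : Matrix (Fin 3) (Fin 3) k} (hM : M.IsSymm) (hN : N.IsSymm)
    (h : quad M = quad N) : M = N := by
  ext i j
  have h1 := quad_inj h i j
  rw [← hM.apply j i, ← hN.apply j i] at h1
  have h2 : (2 : k) * M i j = 2 * N i j := by rw [two_mul, two_mul]; exact h1
  exact mul_left_cancel₀ two_ne_zero h2

/-- If `quad M = quad N` with `M` symmetric then `2 M = N + Nᵀ`. -/
lemma two_smul_eq_of_quad_eq {M N : Matrix (Fin 3) (Fin 3) k} (hM : M.IsSymm)
    (h : quad M = quad N) : (2 : k) • M = N + Nᵀ := by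
  ext i j
  have h1 := quad_inj h i j
  rw [← hM.apply j i] at h1
  simp only [Matrix.smul_apply, Matrix.add_apply, Matrix.transpose_apply, smul_eq_mul]
  rw [two_mul]; exact h1

lemma eval_pderiv_quad {M : Matrix (Fin 3) (Fin 3) k} (hM : M.IsSymm) (u : Fin 3 → k)
    (i : Fin 3) : eval u (pderiv i (quad M)) = 2 * (M *ᵥ u) i := by
  rw [pderiv_quad, eval_lin]
  simp only [Matrix.mulVec, dotProduct, Finset.mul_sum]
  refine Finset.sum_congr rfl fun j _ => ?_
  rw [hM.apply i j]; ring

/-- A linear form is never a unit. -/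
lemma not_isUnit_lin (a : Fin 3 → k) : ¬ IsUnit (lin a) := by
  intro h
  obtain ⟨g, hg⟩ := h.exists_right_inv
  have := congrArg (eval (0 : Fin 3 → k)) hg
  rw [map_mul, eval_lin] at this
  simp at this

/-- A quadratic form is never a unit. -/
lemma not_isUnit_quad (M : Matrix (Fin 3) (Fin 3) k) : ¬ IsUnit (quad M) := by
  intro h
  obtain ⟨g, hg⟩ := h.exists_right_inv
  have := congrArg (eval (0 : Fin 3 → k)) hg
  rw [map_mul, eval_quad] at this
  simp at this

lemma quad_ne_zero [CharZero k] {M : Matrix (Fin 3) (Fin 3) k} (hM : M.IsSymm) (h0 : M ≠ 0) :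
    quad M ≠ 0 := by
  intro h
  apply h0
  have h1 : quad M = quad (0 : Matrix (Fin 3) (Fin 3) k) := by
    rw [h]; simp [quad]
  exact quad_inj_symm hM (by simp [Matrix.IsSymm]) h1

lemma totalDegree_quad_le (M : Matrix (Fin 3) (Fin 3) k) : (quad M).totalDegree ≤ 2 := by
  unfold quad
  refine (totalDegree_finsetSum _ _).trans (Finset.sup_le fun i _ => ?_)
  refine (totalDegree_finsetSum _ _).trans (Finset.sup_le fun j _ => ?_)
  refine (totalDegree_smul_le _ _).trans ?_
  refine (totalDegree_mul _ _).trans ?_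
  rw [totalDegree_X, totalDegree_X]


lemma congr_apply (B : Matrix (Fin 3) (Fin 3) k) (w : Fin 3 → k) (a b : Fin 3) :
    (Bᵀ * diagonal w * B) a b = ∑ i, w i * (B i a * B i b) := by
  rw [Matrix.mul_apply]
  refine Finset.sum_congr rfl fun i _ => ?_
  rw [Matrix.mul_diagonal, Matrix.transpose_apply]; ring

lemma congr_isSymm (B : Matrix (Fin 3) (Fin 3) k) (w : Fin 3 → k) :
    (Bᵀ * diagonal w * B).IsSymm := by
  ext a b
  rw [Matrix.transpose_apply, congr_apply, congr_apply]
  refine Finset.sum_congr rfl fun i _ => ?_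
  ring

lemma quad_congr [Infinite k] (B : Matrix (Fin 3) (Fin 3) k) (w : Fin 3 → k) :
    quad (Bᵀ * diagonal w * B) = ∑ i, w i • (lin (B i)) ^ 2 := by
  refine MvPolynomial.funext fun x => ?_
  rw [eval_quad, map_sum]
  simp only [smul_eval, map_pow, eval_lin, congr_apply]
  simp only [Fin.sum_univ_three]
  ring



lemma exists_pointwise_normal_form [CharZero k] (Q : Matrix (Fin 3) (Fin 3) k) :
    ∃ (w : Fin 3 → k) (e : (Fin 3 → k) ≃ₗ[k] (Fin 3 → k)),
      ∀ x, ∑ i, w i * (e x i * e x i) = ∑ i, ∑ j, Q i j * (x i * x j) := by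
  haveI : Invertible (2 : k) := invertibleOfNonzero two_ne_zero
  obtain ⟨w0, ⟨e0⟩⟩ := QuadraticForm.equivalent_weightedSumSquares (Matrix.toQuadraticForm' Q)
  obtain ⟨n, hn, w, e, he⟩ : ∃ n : ℕ, n = 3 ∧ ∃ (w : Fin n → k)
      (e : (Fin 3 → k) ≃ₗ[k] (Fin n → k)),
      ∀ x, ∑ i, w i * (e x i * e x i) = ∑ i, ∑ j, Q i j * (x i * x j) := by
    refine ⟨_, Module.finrank_fin_fun k, w0, e0.toLinearEquiv, fun x => ?_⟩
    have := e0.map_app x
    simp only [QuadraticMap.weightedSumSquares_apply, Matrix.toQuadraticForm',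
      LinearMap.BilinMap.toQuadraticMap_apply, toLinearMap₂'_apply, smul_eq_mul] at this
    refine Eq.trans this (Finset.sum_congr rfl fun i _ => Finset.sum_congr rfl fun j _ => ?_)
    ring
  subst hn
  exact ⟨w, e, he⟩

/-- Diagonal normal form of a symmetric `3 × 3` matrix over a field of characteristic zero. -/
lemma exists_normal_form [CharZero k] {Q : Matrix (Fin 3) (Fin 3) k} (hQ : Q.IsSymm) :
    ∃ (B : Matrix (Fin 3) (Fin 3) k) (w : Fin 3 → k),
      IsUnit B.det ∧ Q = Bᵀ * diagonal w * B := by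
  obtain ⟨w, e, he⟩ := exists_pointwise_normal_form Q
  refine ⟨LinearMap.toMatrix' (e : (Fin 3 → k) →ₗ[k] (Fin 3 → k)), w, ?_, ?_⟩
  · have : LinearMap.toMatrix' (e : (Fin 3 → k) →ₗ[k] (Fin 3 → k)) *
        LinearMap.toMatrix' (e.symm : (Fin 3 → k) →ₗ[k] (Fin 3 → k)) = 1 := by
      rw [← LinearMap.toMatrix'_comp]; simp
    exact Matrix.isUnit_det_of_right_inverse this
  · apply quad_inj_symm hQ (congr_isSymm _ _)
    refine MvPolynomial.funext fun x => ?_
    rw [eval_quad, ← he x, quad_congr, map_sum]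
    refine Finset.sum_congr rfl fun i _ => ?_
    rw [smul_eval, map_pow, eval_lin, pow_two]
    have hx : e x i = ∑ a, LinearMap.toMatrix' (e : (Fin 3 → k) →ₗ[k] (Fin 3 → k)) i a * x a := by
      have := congrFun (LinearMap.toMatrix'_mulVec (e : (Fin 3 → k) →ₗ[k] (Fin 3 → k)) x) i
      rw [← LinearEquiv.coe_coe, ← this]; rfl
    rw [hx]


end Groth.Agent.Lib.T1H4.Conic
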