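import Groth.Agent.Lib.T1H4ConicA

/-!
# Plane conics: rank, singular points, factorisations (helper4)
-/

set_option autoImplicit false
universe u

namespace Groth.Agent.Lib.T1H4.Conic

open MvPolynomial Matrix

variable {k : Type u} [Field k]

/-! ### Singular points -/

lemma sing_iff [CharZero k] {Q : Matrix (Fin 3) (Fin 3) k} (hQ : Q.IsSymm) :
    (∃ u : Fin 3 → k, u ≠ 0 ∧ ∀ i : Fin 3, eval u (pderiv i (quad Q)) = 0) ↔ Q.det = 0 := by
  rw [← Matrix.exists_mulVec_eq_zero_iff]
  constructor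
  · rintro ⟨u, hu, h⟩
    refine ⟨u, hu, ?_⟩
    ext i
    have := h i
    rw [eval_pderiv_quad hQ] at this
    simpa using this
  · rintro ⟨u, hu, h⟩
    refine ⟨u, hu, fun i => ?_⟩
    rw [eval_pderiv_quad hQ, h]; simp

/-! ### Rank facts -/

lemma eq_zero_of_rank_eq_zero {Q : Matrix (Fin 3) (Fin 3) k} (h : Q.rank = 0) : Q = 0 := by
  unfold Matrix.rank at h
  rw [Submodule.finrank_eq_zero, LinearMap.range_eq_bot] at h
  ext i j
  have := congrFun (LinearMap.congr_fun h (Pi.single j 1)) i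
  simpa using this

lemma rank_le_two_of_det_eq_zero {Q : Matrix (Fin 3) (Fin 3) k} (h : Q.det = 0) : Q.rank ≤ 2 := by
  obtain ⟨v, hv, hQv⟩ := Matrix.exists_mulVec_eq_zero_iff.mpr h
  have h1 := LinearMap.finrank_range_add_finrank_ker Q.mulVecLin
  rw [Module.finrank_fin_fun] at h1
  have h2 : 0 < Module.finrank k (LinearMap.ker Q.mulVecLin) := by
    rw [Module.finrank_pos_iff_exists_ne_zero]
    exact ⟨⟨v, by simpa using hQv⟩, fun h0 => hv (congrArg Subtype.val h0)⟩
  unfold Matrix.rank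
  omega

lemma det_eq_zero_of_rank_le_two {Q : Matrix (Fin 3) (Fin 3) k} (h : Q.rank ≤ 2) : Q.det = 0 := by
  by_contra hd
  have := Matrix.rank_of_isUnit Q ((Matrix.isUnit_iff_isUnit_det Q).mpr (Ne.isUnit hd))
  simp at this
  omega

/-- The number of nonzero weights. -/
def nz (w : Fin 3 → k) [DecidableEq k] : ℕ := ∑ i : Fin 3, if w i = 0 then 0 else 1

lemma rank_congr [DecidableEq k] {B : Matrix (Fin 3) (Fin 3) k} (hB : IsUnit B.det)
    (w : Fin 3 → k) : (Bᵀ * diagonal w * B).rank = nz w := by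
  rw [rank_mul_eq_left_of_isUnit_det _ _ hB,
    rank_mul_eq_right_of_isUnit_det _ _ (by rwa [det_transpose]), rank_diagonal,
    Fintype.card_subtype, Finset.card_filter]
  unfold nz
  refine Finset.sum_congr rfl fun i _ => ?_
  by_cases h : w i = 0 <;> simp [h]

lemma det_congr (B : Matrix (Fin 3) (Fin 3) k) (w : Fin 3 → k) :
    (Bᵀ * diagonal w * B).det = B.det * (∏ i, w i) * B.det := by
  rw [det_mul, det_mul, det_transpose, det_diagonal]

/-- Splitting a sum over `Fin 3` at a chosen index. -/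
lemma split3 (i : Fin 3) : ∃ j l : Fin 3, j ≠ l ∧ j ≠ i ∧ l ≠ i ∧
    (∀ F : Fin 3 → MvPolynomial (Fin 3) k, ∑ m, F m = F i + (F j + F l)) ∧
    (∀ F : Fin 3 → ℕ, ∑ m, F m = F i + (F j + F l)) := by
  fin_cases i
  · exact ⟨1, 2, by decide, by decide, by decide,
      fun F => by rw [Fin.sum_univ_three]; simp [add_assoc],
      fun F => by rw [Fin.sum_univ_three]; simp [add_assoc]⟩
  · exact ⟨0, 2, by decide, by decide, by decide,
      fun F => by rw [Fin.sum_univ_three]; simp; abel,
      fun F => by rw [Fin.sum_univ_three]; simp; omega⟩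
  · exact ⟨0, 1, by decide, by decide, by decide,
      fun F => by rw [Fin.sum_univ_three]; simp; abel,
      fun F => by rw [Fin.sum_univ_three]; simp; omega⟩

end Groth.Agent.Lib.T1H4.Conic
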