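import Groth.Agent.Lib.T1H4ConicB

/-!
# Plane conics: factor shape versus rank (helper4)
-/

set_option autoImplicit false
universe u

namespace Groth.Agent.Lib.T1H4.Conic

open MvPolynomial Matrix

variable {k : Type u} [Field k]


lemma two_sq (α β : k) (a b : Fin 3 → k) :
    (α ^ 2) • lin a ^ 2 + (-(β ^ 2)) • lin b ^ 2 = lin (α • a + β • b) * lin (α • a - β • b) := by
  rw [lin_add, lin_sub, lin_smul, lin_smul]
  simp only [smul_eq_C_mul, map_neg, map_pow]
  ring

/-- A binary form `w₁ ℓ_a² + w₂ ℓ_b²` splits into two linear factors, which are independent when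
`w₁ w₂ ≠ 0` and `a, b` are independent. -/
lemma exists_split [IsAlgClosed k] [CharZero k] (w1 w2 : k) (a b : Fin 3 → k) :
    ∃ a' b' : Fin 3 → k, w1 • lin a ^ 2 + w2 • lin b ^ 2 = lin a' * lin b' ∧
      (w1 ≠ 0 → w2 ≠ 0 → LinearIndependent k ![a, b] → LinearIndependent k ![a', b']) := by
  obtain ⟨α, hα⟩ := IsAlgClosed.exists_pow_nat_eq w1 (n := 2) (by norm_num)
  obtain ⟨β, hβ⟩ := IsAlgClosed.exists_pow_nat_eq (-w2) (n := 2) (by norm_num)
  refine ⟨α • a + β • b, α • a - β • b, ?_, ?_⟩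
  · rw [← two_sq, hα, hβ, neg_neg]
  · intro h1 h2 hab
    have hα0 : α ≠ 0 := by rintro rfl; apply h1; rw [← hα]; simp
    have hβ0 : β ≠ 0 := by rintro rfl; apply h2; rw [← neg_eq_zero, ← hβ]; simp
    rw [LinearIndependent.pair_iff] at hab ⊢
    intro s t hst
    have h3 : ((s + t) * α) • a + ((s - t) * β) • b = 0 := by
      rw [← hst]; simp only [smul_add, smul_sub, smul_smul, add_mul, sub_mul, add_smul, sub_smul]
      abel
    obtain ⟨h4, h5⟩ := hab _ _ h3
    have h6 : s + t = 0 := by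
      rcases mul_eq_zero.mp h4 with h | h
      · exact h
      · exact absurd h hα0
    have h7 : s - t = 0 := by
      rcases mul_eq_zero.mp h5 with h | h
      · exact h
      · exact absurd h hβ0
    have h8 : (2 : k) * s = 0 := by linear_combination h6 + h7
    have h9 : s = 0 := by
      rcases mul_eq_zero.mp h8 with h | h
      · exact absurd h two_ne_zero
      · exact h
    refine ⟨h9, ?_⟩
    rw [h9] at h6; simpa using h6

lemma exists_sqrt_lin [IsAlgClosed k] (w1 : k) (a : Fin 3 → k) :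
    ∃ a' : Fin 3 → k, w1 • lin a ^ 2 = lin a' ^ 2 := by
  obtain ⟨α, hα⟩ := IsAlgClosed.exists_pow_nat_eq w1 (n := 2) (by norm_num)
  refine ⟨α • a, ?_⟩
  rw [lin_smul, ← hα]
  simp only [smul_eq_C_mul, map_pow]
  ring



lemma rows_pair_indep {B : Matrix (Fin 3) (Fin 3) k} (hB : IsUnit B.det) {j l : Fin 3}
    (hjl : j ≠ l) : LinearIndependent k ![B j, B l] := by
  have h1 : LinearIndependent k B.row :=
    Matrix.linearIndependent_rows_of_isUnit ((Matrix.isUnit_iff_isUnit_det B).mpr hB)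
  have h2 : Function.Injective ![j, l] := by
    intro x y hxy
    fin_cases x <;> fin_cases y <;> simp_all
  have h3 := h1.comp _ h2
  convert h3 using 1
  ext x : 1
  fin_cases x <;> rfl

/-- When a weight vanishes the form splits into two linear factors. -/
lemma exists_factor_of_weight_zero [IsAlgClosed k] [CharZero k]
    (B : Matrix (Fin 3) (Fin 3) k) (w : Fin 3 → k) (i : Fin 3) (hi : w i = 0) :
    ∃ a' b' : Fin 3 → k, ∑ m, w m • lin (B m) ^ 2 = lin a' * lin b' ∧
      ((∀ m, m ≠ i → w m ≠ 0) → IsUnit B.det → LinearIndependent k ![a', b']) := by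
  obtain ⟨j, l, hjl, hji, hli, hF, -⟩ := split3 (k := k) i
  obtain ⟨a', b', h1, h2⟩ := exists_split (w j) (w l) (B j) (B l)
  refine ⟨a', b', ?_, fun hw hB => h2 (hw j hji) (hw l hli) (rows_pair_indep hB hjl)⟩
  rw [hF, hi, zero_smul, zero_add, h1]



lemma not_irreducible_of_det_eq_zero [IsAlgClosed k] [CharZero k]
    {Q : Matrix (Fin 3) (Fin 3) k} (hQ : Q.IsSymm) (hd : Q.det = 0) : ¬ Irreducible (quad Q) := by
  obtain ⟨B, w, hB, rfl⟩ := exists_normal_form hQ
  rw [det_congr] at hd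
  have hw : ∏ i, w i = 0 := by
    rcases mul_eq_zero.mp hd with h | h
    · rcases mul_eq_zero.mp h with h' | h'
      · exact absurd h' hB.ne_zero
      · exact h'
    · exact absurd h hB.ne_zero
  obtain ⟨i, -, hi⟩ := Finset.prod_eq_zero_iff.mp hw
  obtain ⟨a', b', h1, -⟩ := exists_factor_of_weight_zero B w i hi
  rw [quad_congr, h1]
  intro hirr
  rcases hirr.isUnit_or_isUnit rfl with h | h
  · exact not_isUnit_lin _ h
  · exact not_isUnit_lin _ h

lemma exists_pair_of_rank_two [IsAlgClosed k] [CharZero k]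
    {Q : Matrix (Fin 3) (Fin 3) k} (hQ : Q.IsSymm) (hr : Q.rank = 2) :
    ∃ a b : Fin 3 → k, LinearIndependent k ![a, b] ∧ quad Q = lin a * lin b := by
  classical
  obtain ⟨B, w, hB, rfl⟩ := exists_normal_form hQ
  rw [rank_congr hB] at hr
  have h1 : ∃ i, w i = 0 := by
    by_contra hne
    push Not at hne
    unfold nz at hr
    simp [hne] at hr
  obtain ⟨i, hi⟩ := h1
  obtain ⟨j, l, hjl, hji, hli, hFp, hF⟩ := split3 (k := k) i
  unfold nz at hr
  rw [hF, if_pos hi, zero_add] at hr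
  have hj : w j ≠ 0 := by
    intro h; rw [if_pos h] at hr; split_ifs at hr <;> omega
  have hl : w l ≠ 0 := by
    intro h; rw [if_pos h] at hr; split_ifs at hr <;> omega
  obtain ⟨a', b', h1, h2⟩ := exists_split (w j) (w l) (B j) (B l)
  refine ⟨a', b', h2 hj hl (rows_pair_indep hB hjl), ?_⟩
  rw [quad_congr, hFp, hi, zero_smul, zero_add, h1]

lemma exists_sq_of_rank_one [IsAlgClosed k] [CharZero k]
    {Q : Matrix (Fin 3) (Fin 3) k} (hQ : Q.IsSymm) (hr : Q.rank = 1) :
    ∃ a : Fin 3 → k, quad Q = lin a ^ 2 := by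
  classical
  obtain ⟨B, w, hB, rfl⟩ := exists_normal_form hQ
  rw [rank_congr hB] at hr
  have h1 : ∃ i, w i ≠ 0 := by
    by_contra hne
    push Not at hne
    unfold nz at hr
    simp [hne] at hr
  obtain ⟨i, hi⟩ := h1
  obtain ⟨j, l, hjl, hji, hli, hFp, hF⟩ := split3 (k := k) i
  unfold nz at hr
  rw [hF, if_neg hi] at hr
  have hj : w j = 0 := by
    by_contra h; rw [if_neg h] at hr; omega
  have hl : w l = 0 := by
    by_contra h; rw [if_neg h] at hr; omega
  obtain ⟨a', h1⟩ := exists_sqrt_lin (w i) (B i)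
  refine ⟨a', ?_⟩
  rw [quad_congr, hFp, hj, hl, zero_smul, zero_smul, add_zero, add_zero, h1]



lemma vecMulVec_self_isSymm (a : Fin 3 → k) : (vecMulVec a a).IsSymm := by
  ext i j; simp [vecMulVec_apply, mul_comm]

lemma rank_of_sq [CharZero k] {Q : Matrix (Fin 3) (Fin 3) k} (hQ : Q.IsSymm) (hQ0 : Q ≠ 0)
    {a : Fin 3 → k} (h : quad Q = lin a ^ 2) : Q.rank = 1 := by
  have h1 : Q = vecMulVec a a :=
    quad_inj_symm hQ (vecMulVec_self_isSymm a) (by rw [h, pow_two, lin_mul_lin])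
  have h2 : Q.rank ≤ 1 := h1 ▸ rank_vecMulVec_le a a
  have h3 : Q.rank ≠ 0 := fun h0 => hQ0 (eq_zero_of_rank_eq_zero h0)
  omega

lemma exists_dual_pair {a b : Fin 3 → k} (h : LinearIndependent k ![a, b]) :
    ∀ y : Fin 2 → k, ∃ x : Fin 3 → k, ∑ i, a i * x i = y 0 ∧ ∑ i, b i * x i = y 1 := by
  set M : Matrix (Fin 2) (Fin 3) k := Matrix.of ![a, b] with hM
  have hrow : LinearIndependent k M.row := by
    convert h using 1
    ext i : 1
    fin_cases i <;> rfl
  have hr : M.rank = 2 := by rw [hrow.rank_matrix]; simp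
  have htop : LinearMap.range M.mulVecLin = ⊤ := by
    apply Submodule.eq_top_of_finrank_eq
    rw [Module.finrank_fin_fun]; exact hr
  intro y
  have hy : y ∈ LinearMap.range M.mulVecLin := by rw [htop]; trivial
  obtain ⟨x, hx⟩ := hy
  refine ⟨x, ?_, ?_⟩
  · have := congrFun hx 0
    simpa [hM, Matrix.mulVec, dotProduct] using this
  · have := congrFun hx 1
    simpa [hM, Matrix.mulVec, dotProduct] using this

lemma rank_of_pair [CharZero k] {Q : Matrix (Fin 3) (Fin 3) k} (hQ : Q.IsSymm)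
    {a b : Fin 3 → k} (hab : LinearIndependent k ![a, b]) (h : quad Q = lin a * lin b) :
    Q.rank = 2 := by
  have h1 : (2 : k) • Q = vecMulVec a b + vecMulVec b a := by
    rw [two_smul_eq_of_quad_eq hQ (h.trans (lin_mul_lin a b))]
    congr 1
    ext i j; simp [vecMulVec_apply, mul_comm]
  have hmv : ∀ x : Fin 3 → k, Q *ᵥ x =
      ((2 : k)⁻¹ * ∑ i, b i * x i) • a + ((2 : k)⁻¹ * ∑ i, a i * x i) • b := by
    intro x
    have h2 : Q = (2 : k)⁻¹ • (vecMulVec a b + vecMulVec b a) := by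
      rw [← h1, smul_smul, inv_mul_cancel₀ two_ne_zero, one_smul]
    rw [h2, Matrix.smul_mulVec, Matrix.add_mulVec]
    ext i
    simp only [Pi.smul_apply, Pi.add_apply, Matrix.mulVec, dotProduct, vecMulVec_apply, smul_eq_mul]
    simp only [Fin.sum_univ_three]
    ring
  have hrange : LinearMap.range Q.mulVecLin = Submodule.span k (Set.range ![a, b]) := by
    apply le_antisymm
    · rintro _ ⟨x, rfl⟩
      rw [Matrix.mulVecLin_apply, hmv]
      refine Submodule.add_mem _ (Submodule.smul_mem _ _ (Submodule.subset_span ⟨0, rfl⟩))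
        (Submodule.smul_mem _ _ (Submodule.subset_span ⟨1, rfl⟩))
    · rw [Submodule.span_le]
      rintro _ ⟨i, rfl⟩
      fin_cases i
      · obtain ⟨x, hx1, hx2⟩ := exists_dual_pair hab ![0, 2]
        refine ⟨x, ?_⟩
        rw [Matrix.mulVecLin_apply, hmv, hx1, hx2]
        simp
      · obtain ⟨x, hx1, hx2⟩ := exists_dual_pair hab ![2, 0]
        refine ⟨x, ?_⟩
        rw [Matrix.mulVecLin_apply, hmv, hx1, hx2]
        simp
  unfold Matrix.rank
  rw [hrange, finrank_span_eq_card hab]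
  simp



lemma monomial_deg_le_one (m : Fin 3 →₀ ℕ) (c : k) (hm : (m.sum fun _ e => e) ≤ 1) :
    ∃ (c0 : k) (a : Fin 3 → k), monomial m c = C c0 + lin a := by
  classical
  rw [Finsupp.sum_fintype _ _ (fun _ => rfl), Fin.sum_univ_three] at hm
  by_cases h0 : m = 0
  · subst h0
    exact ⟨c, 0, by rw [lin_zero, add_zero]; rfl⟩
  · have : ∃ i, m i ≠ 0 := by
      by_contra hne
      push Not at hne
      exact h0 (Finsupp.ext fun i => by simpa using hne i)
    obtain ⟨i, hi⟩ := this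
    have hm' : m = Finsupp.single i 1 := by
      ext j
      rw [Finsupp.single_apply]
      fin_cases i <;> fin_cases j <;> simp at hi ⊢ <;> omega
    refine ⟨0, Pi.single i c, ?_⟩
    rw [hm', map_zero, zero_add, lin, Finset.sum_eq_single i]
    · rw [Pi.single_eq_same, smul_eq_C_mul, X, C_mul_monomial, mul_one]
    · intro b _ hb; rw [Pi.single_eq_of_ne hb, zero_smul]
    · intro h; exact absurd (Finset.mem_univ i) h

lemma exists_of_totalDegree_le_one {p : MvPolynomial (Fin 3) k} (hp : p.totalDegree ≤ 1) :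
    ∃ (c0 : k) (a : Fin 3 → k), p = C c0 + lin a := by
  rw [p.as_sum]
  refine Finset.sum_induction _ (fun q => ∃ (c0 : k) (a : Fin 3 → k), q = C c0 + lin a) ?_ ?_ ?_
  · rintro _ _ ⟨c1, a1, rfl⟩ ⟨c2, a2, rfl⟩
    refine ⟨c1 + c2, a1 + a2, ?_⟩
    rw [lin_add, map_add]; abel
  · exact ⟨0, 0, by simp [lin_zero]⟩
  · intro m hm
    exact monomial_deg_le_one m _ ((le_totalDegree hm).trans hp)



lemma rank_le_two_of_mul [CharZero k] {Q : Matrix (Fin 3) (Fin 3) k} (hQ : Q.IsSymm)
    {a b : Fin 3 → k} (h : quad Q = lin a * lin b) : Q.rank ≤ 2 := by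
  have h1 : (2 : k) • Q = vecMulVec a b + vecMulVec b a := by
    rw [two_smul_eq_of_quad_eq hQ (h.trans (lin_mul_lin a b))]
    congr 1
    ext i j; simp [vecMulVec_apply, mul_comm]
  set M1 : Matrix (Fin 3) (Fin 2) k := Matrix.of fun i j => (2 : k)⁻¹ * (![a, b] j) i with hM1
  set M2 : Matrix (Fin 2) (Fin 3) k := Matrix.of ![b, a] with hM2
  have h2 : Q = M1 * M2 := by
    have h3 : Q = (2 : k)⁻¹ • (vecMulVec a b + vecMulVec b a) := by
      rw [← h1, smul_smul, inv_mul_cancel₀ two_ne_zero, one_smul]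
    rw [h3]
    ext i j
    rw [Matrix.mul_apply, Fin.sum_univ_two]
    simp [hM1, hM2, vecMulVec_apply]
    ring
  rw [h2]
  refine (rank_mul_le_left _ _).trans ?_
  exact (rank_le_card_width M1).trans (by simp)

lemma irreducible_of_det_ne_zero [CharZero k] {Q : Matrix (Fin 3) (Fin 3) k} (hQ : Q.IsSymm)
    (hd : Q.det ≠ 0) : Irreducible (quad Q) := by
  have hQ0 : Q ≠ 0 := by rintro rfl; simp at hd
  have hf0 : quad Q ≠ 0 := quad_ne_zero hQ hQ0
  refine ⟨not_isUnit_quad Q, fun g h hgh => ?_⟩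
  by_contra hne
  push Not at hne
  obtain ⟨hg, hh⟩ := hne
  have hg0 : g ≠ 0 := by rintro rfl; rw [zero_mul] at hgh; exact hf0 hgh
  have hh0 : h ≠ 0 := by rintro rfl; rw [mul_zero] at hgh; exact hf0 hgh
  have hdeg : g.totalDegree + h.totalDegree ≤ 2 := by
    rw [← totalDegree_mul_of_isDomain hg0 hh0, ← hgh]; exact totalDegree_quad_le Q
  have hunit : ∀ p : MvPolynomial (Fin 3) k, p ≠ 0 → ¬ IsUnit p → 1 ≤ p.totalDegree := by
    intro p hp0 hpu
    by_contra hlt
    have h0 : p.totalDegree = 0 := by omega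
    rw [totalDegree_eq_zero_iff_eq_C] at h0
    apply hpu
    rw [h0]
    exact (Ne.isUnit (fun hc => hp0 (by rw [h0, hc, map_zero]))).map C
  have hg1 := hunit g hg0 hg
  have hh1 := hunit h hh0 hh
  obtain ⟨c1, a, rfl⟩ := exists_of_totalDegree_le_one (by omega : g.totalDegree ≤ 1)
  obtain ⟨c2, b, rfl⟩ := exists_of_totalDegree_le_one (by omega : h.totalDegree ≤ 1)
  have hev : ∀ x : Fin 3 → k, ∑ i, ∑ j, Q i j * (x i * x j) =
      (c1 + ∑ i, a i * x i) * (c2 + ∑ i, b i * x i) := by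
    intro x
    have := congrArg (eval x) hgh
    rw [eval_quad, map_mul, map_add, map_add, eval_C, eval_C, eval_lin, eval_lin] at this
    exact this
  have h00 : c1 * c2 = 0 := by
    have := hev 0
    simpa using this.symm
  have hlin : ∀ x : Fin 3 → k, c1 * ∑ i, b i * x i + c2 * ∑ i, a i * x i = 0 := by
    intro x
    have e1 := hev x
    have e2 := hev (-x)
    have e3 : ∑ i, ∑ j, Q i j * ((-x) i * (-x) j) = ∑ i, ∑ j, Q i j * (x i * x j) := by
      refine Finset.sum_congr rfl fun i _ => Finset.sum_congr rfl fun j _ => ?_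
      rw [Pi.neg_apply, Pi.neg_apply, neg_mul_neg]
    rw [e3, e1] at e2
    simp only [Pi.neg_apply, mul_neg, Finset.sum_neg_distrib] at e2
    have : (2 : k) * (c1 * ∑ i, b i * x i + c2 * ∑ i, a i * x i) = 0 := by
      linear_combination e2
    rcases mul_eq_zero.mp this with h | h
    · exact absurd h two_ne_zero
    · exact h
  have hvec : c1 • b + c2 • a = 0 := by
    ext i
    have := hlin (Pi.single i 1)
    simpa [Pi.single_apply] using this
  have hfac : quad Q = lin a * lin b := by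
    rw [hgh]
    have : (C c1 + lin a) * (C c2 + lin b) =
        C (c1 * c2) + lin (c1 • b + c2 • a) + lin a * lin b := by
      rw [lin_add, lin_smul, lin_smul, map_mul]
      simp only [smul_eq_C_mul]
      ring
    rw [this, h00, hvec, lin_zero, map_zero, zero_add, zero_add]
  exact hd (det_eq_zero_of_rank_le_two (rank_le_two_of_mul hQ hfac))



/-- Factor shape of a plane conic versus the rank of its symmetric matrix. -/
theorem main [IsAlgClosed k] [CharZero k]
    (Q : Matrix (Fin 3) (Fin 3) k) (hQ : Q.IsSymm) (hQ0 : Q ≠ 0) (f : MvPolynomial (Fin 3) k)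
    (hf : f = ∑ i : Fin 3, ∑ j : Fin 3, Q i j • (MvPolynomial.X i * MvPolynomial.X j)) :
    (Irreducible f ↔ Q.det ≠ 0) ∧
    ((∃ u : Fin 3 → k, u ≠ 0 ∧ ∀ i : Fin 3, MvPolynomial.eval u (MvPolynomial.pderiv i f) = 0) ↔
      Q.det = 0) ∧
    ((∃ a b : Fin 3 → k, LinearIndependent k ![a, b] ∧
        f = (∑ i : Fin 3, a i • MvPolynomial.X i) * (∑ i : Fin 3, b i • MvPolynomial.X i)) ↔
      Q.rank = 2) ∧
    ((∃ a : Fin 3 → k, f = (∑ i : Fin 3, a i • MvPolynomial.X i) ^ 2) ↔ Q.rank = 1) := by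
  have hfq : f = quad Q := hf
  subst hfq
  refine ⟨⟨fun h hd => not_irreducible_of_det_eq_zero hQ hd h, irreducible_of_det_ne_zero hQ⟩,
    sing_iff hQ, ⟨?_, ?_⟩, ⟨?_, ?_⟩⟩
  · rintro ⟨a, b, hab, h⟩
    exact rank_of_pair hQ hab h
  · intro hr
    obtain ⟨a, b, hab, h⟩ := exists_pair_of_rank_two hQ hr
    exact ⟨a, b, hab, h⟩
  · rintro ⟨a, h⟩
    exact rank_of_sq hQ hQ0 h
  · intro hr
    obtain ⟨a, h⟩ := exists_sq_of_rank_one hQ hr
    exact ⟨a, h⟩

end Groth.Agent.Lib.T1H4.Conic
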