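import Groth.Agent.Lib.T1H4DPInfH

/-!
# The divided power envelope: the ideal of relations (helper4)
-/

set_option autoImplicit false
universe u

namespace Groth.Agent.Lib.T1H4.DPEnv

open Finset Groth.Agent.Lib.T1H4.DPInf

section Criterion

variable {P : Type*} [CommRing P] {Pp : Ideal P} (ε : DividedPowers Pp)

lemma dpow_sub_mem_span {S : Set P} {a b : P} (ha : a ∈ Pp) (hb : b ∈ Pp)
    (h : ∀ c : ℕ, c ≠ 0 → ε.dpow c a - ε.dpow c b ∈ Ideal.span S) {m : ℕ} (hm : m ≠ 0) :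
    ε.dpow m (a - b) ∈ Ideal.span S := by
  have hnb : -b ∈ Pp := Pp.neg_mem hb
  have h1 : ε.dpow m (a - b) = ∑ k ∈ antidiagonal m, ε.dpow k.1 a * ε.dpow k.2 (-b) := by
    rw [sub_eq_add_neg, ε.dpow_add ha hnb]
  have h2 : ∑ k ∈ antidiagonal m, ε.dpow k.1 b * ε.dpow k.2 (-b) = 0 := by
    rw [← ε.dpow_add hb hnb, add_neg_cancel, ε.dpow_eval_zero hm]
  have h3 : ε.dpow m (a - b) =
      ∑ k ∈ antidiagonal m, (ε.dpow k.1 a - ε.dpow k.1 b) * ε.dpow k.2 (-b) := by
    simp only [sub_mul, Finset.sum_sub_distrib]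
    rw [← h1, h2, sub_zero]
  rw [h3]
  refine Ideal.sum_mem _ fun k _ => ?_
  by_cases hk : k.1 = 0
  · rw [hk, ε.dpow_zero ha, ε.dpow_zero hb, sub_self, zero_mul]
    exact Ideal.zero_mem _
  · exact Ideal.mul_mem_right _ _ (h k.1 hk)

/-- An ideal generated by differences `a - b` of elements of a dp ideal whose divided powers are
congruent modulo the ideal is a sub-dp-ideal. -/
theorem isSubDPIdeal_span_of_sub (S : Set P)
    (hS : ∀ s ∈ S, ∃ a ∈ Pp, ∃ b ∈ Pp, s = a - b ∧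
      ∀ c : ℕ, c ≠ 0 → ε.dpow c a - ε.dpow c b ∈ Ideal.span S) :
    ε.IsSubDPIdeal (Ideal.span S) := by
  have hsub : S ⊆ Pp := fun s hs => by
    obtain ⟨a, ha, b, hb, rfl, -⟩ := hS s hs
    exact Pp.sub_mem ha hb
  rw [DividedPowers.span_isSubDPIdeal_iff hsub]
  intro n hn s hs
  obtain ⟨a, ha, b, hb, rfl, h⟩ := hS s hs
  exact dpow_sub_mem_span ε ha hb h hn

end Criterion

section Env

variable {A B : Type u} [CommRing A] [CommRing B] [Algebra A B] {I : Ideal A}
  (γ : DividedPowers I) (J : Ideal B)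

/-- The divided power polynomial algebra over `B` on variables indexed by the elements of `J`
(a plain definition, so that its only ring structure is the one below). -/
def PP : Type u := DP (↥J) B

noncomputable instance : CommRing (PP J) := inferInstanceAs (CommRing (DP (↥J) B))

noncomputable instance : Algebra B (PP J) := inferInstanceAs (Algebra B (DP (↥J) B))

/-- Its presentation. -/
noncomputable def Pr : Pres B (↥J) (PP J) := pres (↥J) B

/-- Its divided power structure. -/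
noncomputable abbrev eps : DividedPowers (Pr J).aug := (Pr J).dividedPowers

open Classical in
/-- The variable attached to an element of `J` (and `0` outside `J`). -/
noncomputable def xt (b : B) : PP J := if h : b ∈ J then (Pr J).x ⟨b, h⟩ 1 else 0

lemma xt_of_mem {b : B} (h : b ∈ J) : xt J b = (Pr J).x ⟨b, h⟩ 1 := dif_pos h

lemma xt_mem_aug (b : B) : xt J b ∈ (Pr J).aug := by
  unfold xt
  split_ifs with h
  · exact Ideal.subset_span ⟨_, 1, le_refl 1, rfl⟩
  · exact Ideal.zero_mem _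

lemma eps_xt {b : B} (h : b ∈ J) (n : ℕ) : (eps J).dpow n (xt J b) = (Pr J).x ⟨b, h⟩ n := by
  classical
  rw [xt_of_mem J h]
  exact (Pr J).dividedPowers_x _ n

/-- Relations (ii): compatibility with `γ`. -/
noncomputable def rel2 : Set (PP J) := {s | ∃ y ∈ I, ∃ n : ℕ, n ≠ 0 ∧
  s = (eps J).dpow n (xt J (algebraMap A B y)) - xt J (algebraMap A B (γ.dpow n y))}

/-- Relations (iii-a): homogeneity. -/
noncomputable def rel3a : Set (PP J) := {s | ∃ b : B, ∃ j ∈ J, ∃ n : ℕ, n ≠ 0 ∧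
  s = (eps J).dpow n (xt J (b * j)) - algebraMap B (PP J) b ^ n * (eps J).dpow n (xt J j)}

/-- Relations (iii-b): additivity. -/
noncomputable def rel3b : Set (PP J) := {s | ∃ j ∈ J, ∃ j' ∈ J, ∃ n : ℕ, n ≠ 0 ∧
  s = (eps J).dpow n (xt J (j + j')) - (eps J).dpow n (xt J j + xt J j')}

/-- All relations inside the augmentation ideal. -/
noncomputable def rels : Set (PP J) := rel2 γ J ∪ rel3a J ∪ rel3b J

/-- The ideal of relations inside the augmentation ideal. -/
noncomputable def KK : Ideal (PP J) := Ideal.span (rels γ J)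

lemma rel2_mem {y : A} (hy : y ∈ I) {n : ℕ} (hn : n ≠ 0) :
    (eps J).dpow n (xt J (algebraMap A B y)) - xt J (algebraMap A B (γ.dpow n y)) ∈ KK γ J :=
  Ideal.subset_span (Or.inl (Or.inl ⟨y, hy, n, hn, rfl⟩))

lemma rel3a_mem (b : B) {j : B} (hj : j ∈ J) {n : ℕ} (hn : n ≠ 0) :
    (eps J).dpow n (xt J (b * j)) - algebraMap B (PP J) b ^ n * (eps J).dpow n (xt J j) ∈
      KK γ J :=
  Ideal.subset_span (Or.inl (Or.inr ⟨b, j, hj, n, hn, rfl⟩))

lemma rel3b_mem {j j' : B} (hj : j ∈ J) (hj' : j' ∈ J) {n : ℕ} (hn : n ≠ 0) :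
    (eps J).dpow n (xt J (j + j')) - (eps J).dpow n (xt J j + xt J j') ∈ KK γ J :=
  Ideal.subset_span (Or.inr ⟨j, hj, j', hj', n, hn, rfl⟩)

lemma xt_mul_sub_mem (b : B) {j : B} (hj : j ∈ J) :
    xt J (b * j) - algebraMap B (PP J) b * xt J j ∈ KK γ J := by
  have := rel3a_mem γ J b hj one_ne_zero
  rwa [(eps J).dpow_one (xt_mem_aug J _), (eps J).dpow_one (xt_mem_aug J _), pow_one] at this

lemma xt_add_sub_mem {j j' : B} (hj : j ∈ J) (hj' : j' ∈ J) :
    xt J (j + j') - (xt J j + xt J j') ∈ KK γ J := by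
  have := rel3b_mem γ J hj hj' one_ne_zero
  rwa [(eps J).dpow_one (xt_mem_aug J _),
    (eps J).dpow_one ((Pr J).aug.add_mem (xt_mem_aug J _) (xt_mem_aug J _))] at this

lemma xt_zero_mem : xt J 0 ∈ KK γ J := by
  have := xt_mul_sub_mem γ J 0 J.zero_mem
  rwa [mul_zero, map_zero, zero_mul, sub_zero] at this

lemma KK_le_aug : KK γ J ≤ (Pr J).aug := by
  unfold KK
  rw [Ideal.span_le]
  rintro s ((⟨y, hy, n, hn, rfl⟩ | ⟨b, j, hj, n, hn, rfl⟩) | ⟨j, hj, j', hj', n, hn, rfl⟩)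
  · exact (Pr J).aug.sub_mem ((eps J).dpow_mem hn (xt_mem_aug J _)) (xt_mem_aug J _)
  · exact (Pr J).aug.sub_mem ((eps J).dpow_mem hn (xt_mem_aug J _))
      ((Pr J).aug.mul_mem_left _ ((eps J).dpow_mem hn (xt_mem_aug J _)))
  · exact (Pr J).aug.sub_mem ((eps J).dpow_mem hn (xt_mem_aug J _))
      ((eps J).dpow_mem hn ((Pr J).aug.add_mem (xt_mem_aug J _) (xt_mem_aug J _)))

/-- The ideal of relations is a sub-dp-ideal of the augmentation ideal. -/
theorem isSubDPIdeal_KK (hIJ : I.map (algebraMap A B) ≤ J) :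
    (eps J).IsSubDPIdeal (KK γ J) := by
  refine isSubDPIdeal_span_of_sub (eps J) (rels γ J) ?_
  rintro s ((⟨y, hy, n, hn, rfl⟩ | ⟨b, j, hj, n, hn, rfl⟩) | ⟨j, hj, j', hj', n, hn, rfl⟩)
  · refine ⟨_, (eps J).dpow_mem hn (xt_mem_aug J _), _, xt_mem_aug J _, rfl, fun c hc => ?_⟩
    have hcn : c * n ≠ 0 := Nat.mul_ne_zero hc hn
    have hyn : γ.dpow n y ∈ I := γ.dpow_mem hn hy
    have hfJ : ∀ z ∈ I, algebraMap A B z ∈ J := fun z hz => hIJ (Ideal.mem_map_of_mem _ hz)
    have e1 := rel2_mem γ J hy hcn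
    have e2 := rel2_mem γ J hyn hc
    have e3 := xt_mul_sub_mem γ J ((Nat.uniformBell c n : ℕ) : B)
      (hfJ _ (γ.dpow_mem hcn hy))
    rw [γ.dpow_comp hn hy, map_mul, map_natCast] at e2
    rw [map_natCast] at e3
    rw [(eps J).dpow_comp hn (xt_mem_aug J _)]
    have : (Nat.uniformBell c n : PP J) * (eps J).dpow (c * n) (xt J (algebraMap A B y)) -
        (eps J).dpow c (xt J (algebraMap A B (γ.dpow n y))) =
        (Nat.uniformBell c n : PP J) * ((eps J).dpow (c * n) (xt J (algebraMap A B y)) -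
          xt J (algebraMap A B (γ.dpow (c * n) y))) -
        ((eps J).dpow c (xt J (algebraMap A B (γ.dpow n y))) -
          xt J ((Nat.uniformBell c n : B) * algebraMap A B (γ.dpow (c * n) y))) -
        (xt J ((Nat.uniformBell c n : B) * algebraMap A B (γ.dpow (c * n) y)) -
          (Nat.uniformBell c n : PP J) * xt J (algebraMap A B (γ.dpow (c * n) y))) := by ring
    rw [this]
    exact Ideal.sub_mem _ (Ideal.sub_mem _ (Ideal.mul_mem_left _ _ e1) e2) e3
  · refine ⟨_, (eps J).dpow_mem hn (xt_mem_aug J _), _,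
      (Pr J).aug.mul_mem_left _ ((eps J).dpow_mem hn (xt_mem_aug J _)), rfl, fun c hc => ?_⟩
    have hcn : c * n ≠ 0 := Nat.mul_ne_zero hc hn
    have e1 := rel3a_mem γ J b hj hcn
    rw [(eps J).dpow_comp hn (xt_mem_aug J _),
      (eps J).dpow_mul ((eps J).dpow_mem hn (xt_mem_aug J _)),
      (eps J).dpow_comp hn (xt_mem_aug J _)]
    have : (Nat.uniformBell c n : PP J) * (eps J).dpow (c * n) (xt J (b * j)) -
        (algebraMap B (PP J) b ^ n) ^ c *
          ((Nat.uniformBell c n : PP J) * (eps J).dpow (c * n) (xt J j)) =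
        (Nat.uniformBell c n : PP J) * ((eps J).dpow (c * n) (xt J (b * j)) -
          algebraMap B (PP J) b ^ (c * n) * (eps J).dpow (c * n) (xt J j)) := by
      rw [← pow_mul, mul_comm n c]; ring
    rw [this]
    exact Ideal.mul_mem_left _ _ e1
  · refine ⟨_, (eps J).dpow_mem hn (xt_mem_aug J _), _,
      (eps J).dpow_mem hn ((Pr J).aug.add_mem (xt_mem_aug J _) (xt_mem_aug J _)), rfl,
      fun c hc => ?_⟩
    have hcn : c * n ≠ 0 := Nat.mul_ne_zero hc hn
    have e1 := rel3b_mem γ J hj hj' hcn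
    rw [(eps J).dpow_comp hn (xt_mem_aug J _),
      (eps J).dpow_comp hn ((Pr J).aug.add_mem (xt_mem_aug J _) (xt_mem_aug J _)), ← mul_sub]
    exact Ideal.mul_mem_left _ _ e1

end Env

end Groth.Agent.Lib.T1H4.DPEnv
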