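import Groth.Agent.Lib.T1H4DPEnvA

/-!
# The divided power envelope: the quotient (helper4)
-/

set_option autoImplicit false
universe u

namespace Groth.Agent.Lib.T1H4.DPEnv

open Finset Groth.Agent.Lib.T1H4.DPInf

section Env

variable {A B : Type u} [CommRing A] [CommRing B] [Algebra A B] {I : Ideal A}
  (γ : DividedPowers I) (J : Ideal B)

/-- Relations (i): `x_j = j`. -/
noncomputable def J1 : Ideal (PP J) :=
  Ideal.span {s | ∃ j ∈ J, s = xt J j - algebraMap B (PP J) j}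

/-- All relations. -/
noncomputable def JJ : Ideal (PP J) := J1 J ⊔ KK γ J

/-- The part of the relations inside the augmentation ideal. -/
noncomputable def NN : Ideal (PP J) := (Pr J).aug • J1 J ⊔ KK γ J

lemma J1_mem {j : B} (hj : j ∈ J) : xt J j - algebraMap B (PP J) j ∈ J1 J :=
  Ideal.subset_span ⟨j, hj, rfl⟩

lemma coord0_algebraMap (b : B) : (Pr J).coord0 (algebraMap B (PP J) b) = b := by
  rw [Algebra.algebraMap_eq_smul_one, ← (Pr J).M_zero, map_smul, (Pr J).coord0_M_zero,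
    smul_eq_mul, mul_one]

lemma sub_coord0_mem (a : PP J) : a - algebraMap B (PP J) ((Pr J).coord0 a) ∈ (Pr J).aug := by
  rw [(Pr J).mem_aug_iff, map_sub, coord0_algebraMap, sub_self]

lemma smul_J1_le_J1 : (Pr J).aug • J1 J ≤ J1 J := by
  rw [Submodule.smul_le]
  intro r _ n hn
  exact Ideal.mul_mem_left _ _ hn

lemma smul_J1_le_aug : (Pr J).aug • J1 J ≤ (Pr J).aug := by
  rw [Submodule.smul_le]
  intro r hr n _
  rw [smul_eq_mul]
  exact Ideal.mul_mem_right _ _ hr

lemma NN_le_aug : NN γ J ≤ (Pr J).aug := sup_le (smul_J1_le_aug J) (KK_le_aug γ J)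

lemma NN_le_JJ : NN γ J ≤ JJ γ J :=
  sup_le ((smul_J1_le_J1 J).trans le_sup_left) le_sup_right

lemma KK_le_NN : KK γ J ≤ NN γ J := le_sup_right

/-- Every element of `J1` is congruent to a generator modulo `NN`. -/
lemma exists_generator_of_mem_J1 {z : PP J} (hz : z ∈ J1 J) :
    ∃ j ∈ J, z - (xt J j - algebraMap B (PP J) j) ∈ NN γ J := by
  unfold J1 at hz
  induction hz using Submodule.span_induction with
  | mem z hz =>
    obtain ⟨j, hj, rfl⟩ := hz
    exact ⟨j, hj, by rw [sub_self]; exact Ideal.zero_mem _⟩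
  | zero =>
    refine ⟨0, J.zero_mem, ?_⟩
    rw [map_zero, sub_zero, zero_sub]
    exact Ideal.neg_mem_iff _ |>.mpr (KK_le_NN γ J (xt_zero_mem γ J))
  | add z z' _ _ hz hz' =>
    obtain ⟨j, hj, h⟩ := hz
    obtain ⟨j', hj', h'⟩ := hz'
    refine ⟨j + j', J.add_mem hj hj', ?_⟩
    have e : z + z' - (xt J (j + j') - algebraMap B (PP J) (j + j')) =
        (z - (xt J j - algebraMap B (PP J) j)) + (z' - (xt J j' - algebraMap B (PP J) j')) -
          (xt J (j + j') - (xt J j + xt J j')) := by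
      rw [map_add]; ring
    rw [e]
    exact Ideal.sub_mem _ (Ideal.add_mem _ h h') (KK_le_NN γ J (xt_add_sub_mem γ J hj hj'))
  | smul a z _ hz =>
    obtain ⟨j, hj, h⟩ := hz
    refine ⟨(Pr J).coord0 a * j, J.mul_mem_left _ hj, ?_⟩
    have e : a • z - (xt J ((Pr J).coord0 a * j) - algebraMap B (PP J) ((Pr J).coord0 a * j)) =
        a * (z - (xt J j - algebraMap B (PP J) j)) +
          (a - algebraMap B (PP J) ((Pr J).coord0 a)) * (xt J j - algebraMap B (PP J) j) -
          (xt J ((Pr J).coord0 a * j) - algebraMap B (PP J) ((Pr J).coord0 a) * xt J j) := by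
      rw [map_mul, smul_eq_mul]; ring
    rw [e]
    refine Ideal.sub_mem _ (Ideal.add_mem _ (Ideal.mul_mem_left _ _ h) ?_)
      (KK_le_NN γ J (xt_mul_sub_mem γ J _ hj))
    refine le_sup_left (a := (Pr J).aug • J1 J) ?_
    rw [← smul_eq_mul]
    exact Submodule.smul_mem_smul (sub_coord0_mem J a) (J1_mem J hj)

lemma J1_inf_aug_le_NN : J1 J ⊓ (Pr J).aug ≤ NN γ J := by
  rintro z ⟨hz1, hz2⟩
  obtain ⟨j, hj, h⟩ := exists_generator_of_mem_J1 γ J hz1
  have h1 : xt J j - algebraMap B (PP J) j ∈ (Pr J).aug := by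
    have := (Pr J).aug.sub_mem hz2 (NN_le_aug γ J h)
    rwa [sub_sub_cancel] at this
  have h2 : algebraMap B (PP J) j ∈ (Pr J).aug := by
    have := (Pr J).aug.sub_mem (xt_mem_aug J j) h1
    rwa [sub_sub_cancel] at this
  have h3 : j = 0 := by
    rw [(Pr J).mem_aug_iff, coord0_algebraMap] at h2
    exact h2
  subst h3
  rw [map_zero, sub_zero] at h
  have := (NN γ J).add_mem h (KK_le_NN γ J (xt_zero_mem γ J))
  rwa [sub_add_cancel] at this

lemma JJ_inf_aug_eq_NN : JJ γ J ⊓ (Pr J).aug = NN γ J := by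
  apply le_antisymm
  · rintro z ⟨hz1, hz2⟩
    unfold JJ at hz1
    obtain ⟨z1, hz1', k, hk, rfl⟩ := Submodule.mem_sup.mp hz1
    have hz1aug : z1 ∈ (Pr J).aug := by
      have := (Pr J).aug.sub_mem hz2 (KK_le_aug γ J hk)
      rwa [add_sub_cancel_right] at this
    exact (NN γ J).add_mem (J1_inf_aug_le_NN γ J ⟨hz1', hz1aug⟩) (KK_le_NN γ J hk)
  · exact le_inf (NN_le_JJ γ J) (NN_le_aug γ J)

variable (hIJ : I.map (algebraMap A B) ≤ J)

include hIJ in
theorem isSubDPIdeal_JJ_inf : (eps J).IsSubDPIdeal (JJ γ J ⊓ (Pr J).aug) := by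
  rw [JJ_inf_aug_eq_NN]
  exact DividedPowers.isSubDPIdeal_sup
    (DividedPowers.SubDPIdeal.prod (hI := eps J) (J1 J)).toIsSubDPIdeal (isSubDPIdeal_KK γ J hIJ)

/-- The divided power envelope. -/
abbrev DD : Type u := PP J ⧸ JJ γ J

/-- Its divided power ideal. -/
noncomputable abbrev JD := (Pr J).aug.map (Ideal.Quotient.mk (JJ γ J))

/-- Its divided power structure. -/
noncomputable def gammaD : DividedPowers (JD γ J) :=
  DividedPowers.Quotient.dividedPowers (eps J) (isSubDPIdeal_JJ_inf γ J hIJ)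

lemma gammaD_mk {z : PP J} (hz : z ∈ (Pr J).aug) (n : ℕ) :
    (gammaD γ J hIJ).dpow n (Ideal.Quotient.mk (JJ γ J) z) =
      Ideal.Quotient.mk (JJ γ J) ((eps J).dpow n z) :=
  DividedPowers.Quotient.dpow_apply (eps J) (isSubDPIdeal_JJ_inf γ J hIJ) hz

lemma mk_xt {j : B} (hj : j ∈ J) :
    Ideal.Quotient.mk (JJ γ J) (xt J j) = algebraMap B (DD γ J) j := by
  rw [← Ideal.Quotient.mk_algebraMap, Ideal.Quotient.eq]
  exact le_sup_left (a := J1 J) (J1_mem J hj)

lemma map_le_JD : J.map (algebraMap B (DD γ J)) ≤ JD γ J := by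
  rw [Ideal.map_le_iff_le_comap]
  intro j hj
  change algebraMap B (DD γ J) j ∈ JD γ J
  rw [← mk_xt γ J hj]
  exact Ideal.mem_map_of_mem _ (xt_mem_aug J j)

include hIJ in
lemma isDPMorphism_gammaD :
    γ.IsDPMorphism (gammaD γ J hIJ) ((algebraMap B (DD γ J)).comp (algebraMap A B)) := by
  have hfJ : ∀ z ∈ I, algebraMap A B z ∈ J := fun z hz => hIJ (Ideal.mem_map_of_mem _ hz)
  rw [DividedPowers.isDPMorphism_iff]
  refine ⟨?_, fun n hn y hy => ?_⟩
  · rw [Ideal.map_le_iff_le_comap]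
    intro y hy
    exact map_le_JD γ J (Ideal.mem_map_of_mem _ (hfJ y hy))
  · rw [RingHom.comp_apply, RingHom.comp_apply, ← mk_xt γ J (hfJ y hy),
      ← mk_xt γ J (hfJ _ (γ.dpow_mem hn hy)), gammaD_mk γ J hIJ (xt_mem_aug J _), Ideal.Quotient.eq]
    exact le_sup_right (b := KK γ J) (rel2_mem γ J hy hn)

end Env

end Groth.Agent.Lib.T1H4.DPEnv
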