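import Groth.Agent.Lib.T1H4DPEnvB

/-!
# The divided power envelope: the universal property (helper4)
-/

set_option autoImplicit false
universe u

namespace Groth.Agent.Lib.T1H4.DPEnv

open Finset Groth.Agent.Lib.T1H4.DPInf

section Univ

variable {A B : Type u} [CommRing A] [CommRing B] [Algebra A B] {I : Ideal A}
  (γ : DividedPowers I) (J : Ideal B) (hIJ : I.map (algebraMap A B) ≤ J)
  {C : Type u} [CommRing C] [Algebra B C] {K : Ideal C} (δ : DividedPowers K)

include hIJ in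
/-- The universal property, for a `B`-algebra `C`. -/
theorem existsUnique_ringHom (hK : ∀ j ∈ J, algebraMap B C j ∈ K)
    (hcomp : ∀ y ∈ I, ∀ n : ℕ, δ.dpow n (algebraMap B C (algebraMap A B y)) =
      algebraMap B C (algebraMap A B (γ.dpow n y))) :
    ∃! χ : DD γ J →+* C, χ.comp (algebraMap B (DD γ J)) = algebraMap B C ∧
      (gammaD γ J hIJ).IsDPMorphism δ χ := by
  classical
  obtain ⟨Φ, ⟨hΦ1, hΦ2⟩, hΦu⟩ := (Pr J).existsUnique_algHom (eps J)
    (fun i n => (Pr J).dividedPowers_x i n) δ (fun j : ↥J => algebraMap B C j)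
    (fun j => hK j j.2)
  have hΦxt : ∀ j ∈ J, Φ (xt J j) = algebraMap B C j := by
    intro j hj
    rw [xt_of_mem J hj]
    exact hΦ2 ⟨j, hj⟩
  have hΦε : ∀ z ∈ (Pr J).aug, ∀ n : ℕ, Φ ((eps J).dpow n z) = δ.dpow n (Φ z) :=
    fun z hz n => hΦ1.map_dpow hz
  have hle : JJ γ J ≤ RingHom.ker Φ.toRingHom := by
    refine sup_le ?_ ?_
    · unfold J1
      rw [Ideal.span_le]
      rintro _ ⟨j, hj, rfl⟩
      change Φ (xt J j - algebraMap B (PP J) j) = 0
      rw [map_sub, hΦxt j hj, Φ.commutes, sub_self]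
    · unfold KK
      rw [Ideal.span_le]
      have hfJ : ∀ z ∈ I, algebraMap A B z ∈ J := fun z hz => hIJ (Ideal.mem_map_of_mem _ hz)
      rintro s ((⟨y, hy, n, hn, rfl⟩ | ⟨b, j, hj, n, hn, rfl⟩) | ⟨j, hj, j', hj', n, hn, rfl⟩)
      · change Φ ((eps J).dpow n (xt J (algebraMap A B y)) -
          xt J (algebraMap A B (γ.dpow n y))) = 0
        rw [map_sub, hΦε _ (xt_mem_aug J _), hΦxt _ (hfJ y hy),
          hΦxt _ (hfJ _ (γ.dpow_mem hn hy)), hcomp y hy n, sub_self]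
      · change Φ ((eps J).dpow n (xt J (b * j)) -
          algebraMap B (PP J) b ^ n * (eps J).dpow n (xt J j)) = 0
        rw [map_sub, map_mul, map_pow, hΦε _ (xt_mem_aug J _), hΦε _ (xt_mem_aug J _),
          hΦxt _ (J.mul_mem_left b hj), hΦxt _ hj, Φ.commutes, map_mul, δ.dpow_mul (hK j hj),
          sub_self]
      · change Φ ((eps J).dpow n (xt J (j + j')) - (eps J).dpow n (xt J j + xt J j')) = 0
        rw [map_sub, hΦε _ (xt_mem_aug J _),
          hΦε _ ((Pr J).aug.add_mem (xt_mem_aug J _) (xt_mem_aug J _)), map_add,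
          hΦxt _ (J.add_mem hj hj'), hΦxt _ hj, hΦxt _ hj', map_add, sub_self]
  have hkill : ∀ z ∈ JJ γ J, Φ.toRingHom z = 0 := fun z hz => hle hz
  have hq := DividedPowers.Quotient.isDPMorphism (eps J) (isSubDPIdeal_JJ_inf γ J hIJ)
  refine ⟨Ideal.Quotient.lift (JJ γ J) Φ.toRingHom hkill, ⟨?_, ?_⟩, ?_⟩
  · ext b
    change Ideal.Quotient.lift (JJ γ J) Φ.toRingHom hkill
      (Ideal.Quotient.mk (JJ γ J) (algebraMap B (PP J) b)) = _
    rw [Ideal.Quotient.lift_mk]
    exact Φ.commutes b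
  · refine DividedPowers.IsDPMorphism.of_comp (eps J) (gammaD γ J hIJ) δ
      (Ideal.Quotient.mk (JJ γ J)) _ rfl hq ?_
    rw [Ideal.Quotient.lift_comp_mk]
    exact hΦ1
  · rintro χ' ⟨h1, h2⟩
    let Φ' : PP J →ₐ[B] C :=
      { toRingHom := χ'.comp (Ideal.Quotient.mk (JJ γ J))
        commutes' := fun b => RingHom.congr_fun h1 b }
    have hΦ'1 : (eps J).IsDPMorphism δ Φ'.toRingHom := DividedPowers.IsDPMorphism.comp δ h2 hq
    have hΦ'2 : ∀ j : ↥J, Φ' ((Pr J).x j 1) = algebraMap B C j := by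
      intro j
      change χ' (Ideal.Quotient.mk (JJ γ J) ((Pr J).x j 1)) = _
      rw [← xt_of_mem J j.2, mk_xt γ J j.2]
      exact RingHom.congr_fun h1 j.1
    have hΦΦ : Φ' = Φ := hΦu Φ' ⟨hΦ'1, hΦ'2⟩
    apply Ideal.Quotient.ringHom_ext
    rw [Ideal.Quotient.lift_comp_mk]
    change Φ'.toRingHom = Φ.toRingHom
    rw [hΦΦ]

end Univ

/-- The statement of S2194. -/
theorem main_S2194 {A B : Type u} [CommRing A] [CommRing B] [Algebra A B] {I : Ideal A}
    (γ : DividedPowers I) (J : Ideal B) (hIJ : I.map (algebraMap A B) ≤ J) :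
    ∃ (D : Type u) (_ : CommRing D) (_ : Algebra B D) (JD : Ideal D) (γD : DividedPowers JD),
      J.map (algebraMap B D) ≤ JD ∧
      γ.IsDPMorphism γD ((algebraMap B D).comp (algebraMap A B)) ∧
      ∀ (C : Type u) [CommRing C] [Algebra A C] (K : Ideal C) (δ : DividedPowers K),
        γ.IsDPMorphism δ (algebraMap A C) →
        ∀ ψ : B →ₐ[A] C, J.map ψ ≤ K →
          ∃! χ : D →+* C, χ.comp (algebraMap B D) = ψ ∧ γD.IsDPMorphism δ χ := by
  refine ⟨DD γ J, inferInstance, inferInstance, JD γ J, gammaD γ J hIJ, map_le_JD γ J,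
    isDPMorphism_gammaD γ J hIJ, ?_⟩
  intro C _ _ K δ hδ ψ hψ
  letI : Algebra B C := ψ.toRingHom.toAlgebra
  have hK : ∀ j ∈ J, algebraMap B C j ∈ K := fun j hj => hψ (Ideal.mem_map_of_mem _ hj)
  have hcomp : ∀ y ∈ I, ∀ n : ℕ, δ.dpow n (algebraMap B C (algebraMap A B y)) =
      algebraMap B C (algebraMap A B (γ.dpow n y)) := by
    intro y hy n
    change δ.dpow n (ψ (algebraMap A B y)) = ψ (algebraMap A B (γ.dpow n y))
    rw [ψ.commutes, ψ.commutes]
    exact hδ.2 y hy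
  exact existsUnique_ringHom γ J hIJ δ hK hcomp

end Groth.Agent.Lib.T1H4.DPEnv
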