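import Groth.Agent.Lib.T1H4DPInfD

/-!
# Concretely presented divided power polynomial algebras: homogeneity and the structure (arbitrary index type; helper4)
-/

set_option autoImplicit false
universe u v w

namespace Groth.Agent.Lib.T1H4.DPInf

open Finset Nat PowerSeries Groth.Agent.Lib.T1H4.DPowGen Groth.Agent.Lib.T2H4.DPowPoly

variable {R : Type u} [CommRing R] {ι : Type w} {P : Type v} [CommRing P]
  [Algebra R P] (D : Pres R ι P)

namespace Pres

lemma add_ne_zero' (f : ι →₀ ℕ) {e : ι →₀ ℕ} (he : e ≠ 0) : f + e ≠ 0 := by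
  intro h
  apply he
  ext i
  have := DFunLike.congr_fun h i
  simp only [Finsupp.add_apply, Finsupp.zero_apply] at this ⊢
  omega

/-- Homogeneity on monomials. -/
lemma ex_mul_monomials (s r : R) (f : ι →₀ ℕ) {e : ι →₀ ℕ} (he : e ≠ 0) :
    D.ex ((s • D.b f) * (r • D.b e)) =
      PowerSeries.rescale (s • D.b f) (D.ex (r • D.b e)) := by
  have h1 : (s • D.b f) * (r • D.b e) = (s * r * (K f e : R)) • D.b (f + e) := by
    rw [smul_mul_smul_comm, D.M_mul, mul_smul (s * r), Nat.cast_smul_eq_nsmul, nsmul_eq_mul]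
  rw [h1, D.ex_smul_M, D.ex_smul_M, fac, fac, if_neg he, if_neg (add_ne_zero' f he),
    rescale_rescale]
  ext q
  rw [coeff_rescale, coeff_rescale, coeff_g, coeff_g, mul_pow, smul_pow, D.M_pow, smul_add]
  have h2 := K_pow_mul_c q f he
  have h3 : ((K f e ^ q * c q (f + e) : ℕ) : P) =
      ((pwM q f * c q e * K (q • f) (q • e) : ℕ) : P) := by
    rw [h2]
  push_cast at h3
  rw [map_mul, map_mul, map_natCast, Algebra.smul_def, map_pow, mul_pow, mul_pow]
  have h4 := D.M_mul (q • f) (q • e)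
  linear_combination (algebraMap R P s ^ q * algebraMap R P r ^ q * D.b (q • f + q • e)) * h3 -
    (algebraMap R P r ^ q * algebraMap R P s ^ q * (pwM q f : P) * (c q e : P)) * h4

/-- Homogeneity for a monomial multiplier. -/
lemma ex_monomial_mul (s : R) (f : ι →₀ ℕ) {p : P} (hp : p ∈ D.aug) :
    D.ex ((s • D.b f) * p) = PowerSeries.rescale (s • D.b f) (D.ex p) := by
  classical
  conv_lhs => rw [D.repr_sum p]
  conv_rhs => rw [D.repr_sum p]
  rw [Finset.mul_sum, D.ex_sum, D.ex_sum, map_prod]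
  refine Finset.prod_congr rfl fun e _ => ?_
  by_cases he : e = 0
  · subst he
    have h0 : D.b.repr p 0 = 0 := (D.mem_aug_iff p).mp hp
    rw [h0, zero_smul, mul_zero, D.ex_zero, map_one]
  · exact D.ex_mul_monomials s _ f he

/-- Homogeneity. -/
lemma ex_mul (a : P) {p : P} (hp : p ∈ D.aug) :
    D.ex (a * p) = PowerSeries.rescale a (D.ex p) := by
  classical
  conv_lhs => rw [D.repr_sum a]
  conv_rhs => rw [D.repr_sum a]
  rw [Finset.sum_mul, D.ex_sum, (D.ex_isExpT p).rescale_sum]
  exact Finset.prod_congr rfl fun f _ => D.ex_monomial_mul _ f hp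

open Classical in
/-- The divided power maps. -/
noncomputable def dp (n : ℕ) (p : P) : P := if p ∈ D.aug then coeff n (D.ex p) else 0

lemma dp_of_mem {p : P} (hp : p ∈ D.aug) (n : ℕ) : D.dp n p = coeff n (D.ex p) := by
  unfold dp; rw [if_pos hp]

lemma preDP : PreDP D.aug D.dp where
  null := by
    intro n x hx
    unfold dp; rw [if_neg hx]
  zero := by
    intro x hx
    rw [D.dp_of_mem hx]; exact (D.ex_isExpT x).1
  one := by
    intro x hx
    rw [D.dp_of_mem hx]; exact D.coeff_one_ex hx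
  mem := by
    intro n x hn hx
    rw [D.dp_of_mem hx]; exact D.ex_coeffIn x n hn
  add := by
    intro n x y hx hy
    rw [D.dp_of_mem (D.aug.add_mem hx hy), D.ex_add, coeff_mul]
    refine Finset.sum_congr rfl fun k _ => ?_
    rw [D.dp_of_mem hx, D.dp_of_mem hy]
  mul := by
    intro n a x hx
    rw [D.dp_of_mem (D.aug.mul_mem_left a hx), D.ex_mul a hx, coeff_rescale, D.dp_of_mem hx]

lemma mulRule {p : P} (hp : p ∈ D.aug) : MulRule D.dp p := by
  intro m n
  rw [D.dp_of_mem hp, D.dp_of_mem hp, D.dp_of_mem hp]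
  exact (D.ex_isExpT p).2 m n

lemma dp_M {e : ι →₀ ℕ} (he : e ≠ 0) (n : ℕ) : D.dp n (D.b e) = (c n e : P) * D.b (n • e) := by
  rw [D.dp_of_mem (D.M_mem_aug he)]
  have := D.ex_smul_M e 1
  rw [one_smul] at this
  rw [this, fac, if_neg he, map_one, coeff_rescale, one_pow, one_mul, coeff_g]

lemma dp_natCast_M {e : ι →₀ ℕ} (he : e ≠ 0) (k n : ℕ) :
    D.dp n ((k : P) * D.b e) = (k : P) ^ n * ((c n e : P) * D.b (n • e)) := by
  rw [D.preDP.mul n (k : P) (D.b e) (D.M_mem_aug he), D.dp_M he]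

lemma compRule_M {e : ι →₀ ℕ} (he : e ≠ 0) : CompRule D.dp (D.b e) := by
  intro m n hn
  rw [D.dp_M he, D.dp_natCast_M (smul_ne_zero' he hn), D.dp_M he, smul_smul]
  have h1 := c_pow_mul_c m n hn he
  have h2 : ((c n e ^ m * c m (n • e) : ℕ) : P) = ((uniformBell m n * c (m * n) e : ℕ) : P) := by
    rw [h1]
  push_cast at h2
  linear_combination (D.b ((m * n) • e)) * h2

/-- The generating set of monomials. -/
def monos : Set P := {y | ∃ e : ι →₀ ℕ, e ≠ 0 ∧ y = D.b e}

lemma span_monos : Ideal.span D.monos = D.aug := by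
  classical
  apply le_antisymm
  · rw [Ideal.span_le]
    rintro _ ⟨e, he, rfl⟩
    exact D.M_mem_aug he
  · unfold aug
    rw [Ideal.span_le]
    rintro _ ⟨i, n, hn, rfl⟩
    refine Ideal.subset_span ⟨Finsupp.single i n, ?_, D.x_eq_M i n⟩
    intro h
    have := DFunLike.congr_fun h i
    simp at this
    omega

/-- The divided power structure on the augmentation ideal. -/
noncomputable def dividedPowers : DividedPowers D.aug :=
  ofGenerators D.preDP D.span_monos
    (fun y hy => by obtain ⟨e, he, rfl⟩ := hy; exact D.mulRule (D.M_mem_aug he))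
    (fun y hy => by obtain ⟨e, he, rfl⟩ := hy; exact D.compRule_M he)

lemma dividedPowers_dpow : D.dividedPowers.dpow = D.dp := rfl

lemma dividedPowers_x [DecidableEq ι] (i : ι) (n : ℕ) : D.dividedPowers.dpow n (D.x i 1) = D.x i n := by
  have h1 : Finsupp.single i 1 ≠ (0 : ι →₀ ℕ) := by
    intro h
    have := DFunLike.congr_fun h i
    simp at this
  rw [dividedPowers_dpow, D.x_eq_M, D.dp_M h1, D.x_eq_M, Finsupp.smul_single, smul_eq_mul, mul_one]
  have h2 := c_spec n h1
  have hG1 : G (Finsupp.single i 1 : ι →₀ ℕ) = 1 := by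
    rw [G_single, Nat.factorial_one]
  have hGn : G (n • (Finsupp.single i 1 : ι →₀ ℕ)) = n ! := by
    rw [Finsupp.smul_single, smul_eq_mul, mul_one, G_single]
  rw [hG1, hGn, one_pow, mul_one] at h2
  have h3 : c n (Finsupp.single i 1 : ι →₀ ℕ) = 1 :=
    Nat.eq_of_mul_eq_mul_right (Nat.factorial_pos n) (by rw [h2, one_mul])
  rw [h3, Nat.cast_one, one_mul]

end Pres

end Groth.Agent.Lib.T1H4.DPInf
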