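import Groth.Agent.Lib.T2H4DPowPolyE

/-!
# Concretely presented divided power polynomial algebras: uniqueness and the main theorem (helper4)
-/

set_option autoImplicit false
universe u v w

namespace Groth.Agent.Lib.T2H4.DPowPoly

open Finset Nat PowerSeries Groth.Agent.Lib.T1H4.DPowGen

/-- Two divided power structures agreeing on a generating set are equal. -/
lemma dividedPowers_ext_of_span {A : Type*} [CommRing A] {I : Ideal A} {S : Set A}
    (hS : Ideal.span S = I) (γ γ' : DividedPowers I)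
    (h : ∀ (n : ℕ) (x : A), x ∈ S → γ.dpow n x = γ'.dpow n x) : γ = γ' := by
  refine DividedPowers.ext _ _ fun n x hx => ?_
  rw [← hS] at hx
  induction hx using Submodule.span_induction generalizing n with
  | mem x hx => exact h n x hx
  | zero =>
    by_cases hn : n = 0
    · subst hn; rw [γ.dpow_zero I.zero_mem, γ'.dpow_zero I.zero_mem]
    · rw [γ.dpow_eval_zero hn, γ'.dpow_eval_zero hn]
  | add x y hx hy hrx hry =>
    have hx' : x ∈ I := by rw [← hS]; exact hx
    have hy' : y ∈ I := by rw [← hS]; exact hy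
    rw [γ.dpow_add hx' hy', γ'.dpow_add hx' hy']
    exact Finset.sum_congr rfl fun k _ => by rw [hrx, hry]
  | smul a x hx hrx =>
    have hx' : x ∈ I := by rw [← hS]; exact hx
    rw [smul_eq_mul, γ.dpow_mul hx', γ'.dpow_mul hx', hrx]

variable {R : Type u} [CommRing R] {ι : Type w} [Fintype ι] {P : Type v} [CommRing P]
  [Algebra R P] (D : Pres R ι P)

namespace Pres

theorem existsUnique [DecidableEq ι] :
    ∃! γ : DividedPowers D.aug, ∀ (i : ι) (n : ℕ), γ.dpow n (D.x i 1) = D.x i n := by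
  refine ⟨D.dividedPowers, D.dividedPowers_x, fun γ' hγ' => ?_⟩
  have key : ∀ (γ : DividedPowers D.aug), (∀ (i : ι) (n : ℕ), γ.dpow n (D.x i 1) = D.x i n) →
      ∀ (q : ℕ) (i : ι) (n : ℕ), 1 ≤ n →
        γ.dpow q (D.x i n) = (uniformBell q n : P) * D.x i (q * n) := by
    intro γ hγ q i n hn
    have h1 : D.x i 1 ∈ D.aug := Ideal.subset_span ⟨i, 1, le_refl 1, rfl⟩
    rw [← hγ i n, γ.dpow_comp (by omega) h1, hγ]
  refine dividedPowers_ext_of_span rfl _ _ ?_
  rintro q _ ⟨i, n, hn, rfl⟩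
  rw [key γ' hγ' q i n hn, key D.dividedPowers D.dividedPowers_x q i n hn]

end Pres

/-- The statement of S18420. -/
theorem main_S18420 (R : Type u) [CommRing R] (N : ℕ)
    (P : Type v) [CommRing P] [Algebra R P] (x : Fin N → ℕ → P)
    (hx0 : ∀ i, x i 0 = 1)
    (hxmul : ∀ i n m, x i n * x i m = ((n + m).choose n : P) * x i (n + m))
    (b : Module.Basis (Fin N →₀ ℕ) R P) (hb : ∀ e : Fin N →₀ ℕ, b e = e.prod (fun i k => x i k)) :
    ∃! γ : DividedPowers (Ideal.span {y : P | ∃ (i : Fin N) (n : ℕ), 1 ≤ n ∧ y = x i n}),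
      ∀ (i : Fin N) (n : ℕ), γ.dpow n (x i 1) = x i n :=
  (Pres.mk x hx0 hxmul b hb).existsUnique

end Groth.Agent.Lib.T2H4.DPowPoly
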