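import Groth.Agent.Lib.T1H4DPInfE
import Groth.Agent.Lib.T2H4DPowPolyF

/-!
# Concretely presented divided power polynomial algebras: uniqueness and the main theorem (arbitrary index type; helper4)
-/

set_option autoImplicit false
universe u v w

namespace Groth.Agent.Lib.T1H4.DPInf

open Finset Nat PowerSeries Groth.Agent.Lib.T1H4.DPowGen Groth.Agent.Lib.T2H4.DPowPoly

variable {R : Type u} [CommRing R] {ι : Type w} {P : Type v} [CommRing P]
  [Algebra R P] (D : Pres R ι P)

namespace Pres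

theorem existsUnique [DecidableEq ι] :
    ∃! γ : DividedPowers D.aug, ∀ (i : ι) (n : ℕ), γ.dpow n (D.x i 1) = D.x i n := by
  refine ⟨D.dividedPowers, D.dividedPowers_x, fun γ' hγ' => ?_⟩
  have key : ∀ (γ : DividedPowers D.aug), (∀ (i : ι) (n : ℕ), γ.dpow n (D.x i 1) = D.x i n) →
      ∀ (q : ℕ) (i : ι) (n : ℕ), 1 ≤ n →
        γ.dpow q (D.x i n) = (uniformBell q n : P) * D.x i (q * n) := by
    intro γ hγ q i n hn
    have h1 : D.x i 1 ∈ D.aug := Ideal.subset_span ⟨i, 1, le_refl 1, rfl⟩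
    rw [← hγ i n, γ.dpow_comp (by omega) h1, hγ]
  refine dividedPowers_ext_of_span rfl _ _ ?_
  rintro q _ ⟨i, n, hn, rfl⟩
  rw [key γ' hγ' q i n hn, key D.dividedPowers D.dividedPowers_x q i n hn]

end Pres

end Groth.Agent.Lib.T1H4.DPInf
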