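import Groth.Agent.Lib.T1H4DPInfF

/-!
# The divided power polynomial algebra on an arbitrary set of variables (helper4)

`Γ_ℤ ⊆ ℚ[X_i : i ∈ ι]` is the subring spanned by the divided monomials `X^e / e!`, and
`A⟨X_i⟩ = A ⊗ Γ_ℤ`.
-/

set_option autoImplicit false
universe u v w

namespace Groth.Agent.Lib.T1H4.DPInf

open MvPolynomial

variable (ι : Type w)

/-- The divided monomial `X^e / e!`. -/
noncomputable def dm (e : ι →₀ ℕ) : MvPolynomial (ι) ℚ := monomial e ((G e : ℚ)⁻¹)

lemma G_ne_zero (e : ι →₀ ℕ) : (G e : ℚ) ≠ 0 := by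
  exact_mod_cast (G_pos e).ne'

lemma dm_mul (e f : ι →₀ ℕ) : dm ι e * dm ι f = (K e f : ℤ) • dm ι (e + f) := by
  unfold dm
  rw [monomial_mul, zsmul_eq_mul, ← map_intCast (C : ℚ →+* MvPolynomial (ι) ℚ),
    C_mul_monomial]
  congr 1
  have h := K_mul_G e f
  have h' : ((K e f : ℕ) : ℚ) * ((G e : ℚ) * (G f : ℚ)) = (G (e + f) : ℚ) := by exact_mod_cast h
  rw [Int.cast_natCast, ← h']
  have h1 := G_ne_zero ι e
  have h2 := G_ne_zero ι f
  have h3 : ((K e f : ℕ) : ℚ) ≠ 0 := by
    intro h0
    rw [h0, zero_mul] at h'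
    exact G_ne_zero ι (e + f) h'.symm
  field_simp

lemma dm_zero : dm ι 0 = 1 := by
  unfold dm
  rw [G_zero]; simp

/-- The span of the divided monomials. -/
noncomputable def gamSpan : Submodule ℤ (MvPolynomial (ι) ℚ) :=
  Submodule.span ℤ (Set.range (dm ι))

lemma mul_mem_gamSpan {a b : MvPolynomial (ι) ℚ} (ha : a ∈ gamSpan ι) (hb : b ∈ gamSpan ι) :
    a * b ∈ gamSpan ι := by
  unfold gamSpan at ha hb ⊢
  induction ha using Submodule.span_induction with
  | mem x hx =>
    obtain ⟨e, rfl⟩ := hx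
    induction hb using Submodule.span_induction with
    | mem y hy =>
      obtain ⟨f, rfl⟩ := hy
      rw [dm_mul]
      exact Submodule.smul_mem _ _ (Submodule.subset_span ⟨_, rfl⟩)
    | zero => rw [mul_zero]; exact Submodule.zero_mem _
    | add y z _ _ hy hz => rw [mul_add]; exact Submodule.add_mem _ hy hz
    | smul c y _ hy => rw [mul_smul_comm]; exact Submodule.smul_mem _ _ hy
  | zero => rw [zero_mul]; exact Submodule.zero_mem _
  | add y z _ _ hy hz => rw [add_mul]; exact Submodule.add_mem _ hy hz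
  | smul c y _ hy => rw [smul_mul_assoc]; exact Submodule.smul_mem _ _ hy

/-- `Γ_ℤ` as a subring of `ℚ[X]`. -/
noncomputable def Gam : Subring (MvPolynomial (ι) ℚ) where
  carrier := gamSpan ι
  mul_mem' := mul_mem_gamSpan ι
  one_mem' := by
    rw [← dm_zero ι]; exact Submodule.subset_span ⟨0, rfl⟩
  add_mem' := Submodule.add_mem _
  zero_mem' := Submodule.zero_mem _
  neg_mem' := Submodule.neg_mem _

lemma dm_mem (e : ι →₀ ℕ) : dm ι e ∈ Gam ι := Submodule.subset_span ⟨e, rfl⟩

lemma dm_linearIndependent : LinearIndependent ℤ (dm ι) := by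
  classical
  rw [linearIndependent_iff']
  intro s g hg e he
  have h1 := congrArg (coeff e) hg
  rw [coeff_sum, coeff_zero] at h1
  have h2 : ∀ f ∈ s, coeff e (g f • dm ι f) = if f = e then (g f : ℚ) * (G f : ℚ)⁻¹ else 0 := by
    intro f _
    unfold dm
    rw [zsmul_eq_mul, ← map_intCast (C : ℚ →+* MvPolynomial (ι) ℚ), C_mul_monomial,
      coeff_monomial]
  rw [Finset.sum_congr rfl h2, Finset.sum_ite_eq' s e, if_pos he] at h1
  have h3 : (g e : ℚ) = 0 := by
    rcases mul_eq_zero.mp h1 with h | h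
    · exact h
    · exact absurd (inv_eq_zero.mp h) (G_ne_zero ι e)
  exact_mod_cast h3

/-- The linear equivalence between the span and the subring. -/
noncomputable def spanEquiv : gamSpan ι ≃ₗ[ℤ] Gam ι where
  toFun x := ⟨x.1, x.2⟩
  invFun x := ⟨x.1, x.2⟩
  left_inv _ := rfl
  right_inv _ := rfl
  map_add' _ _ := rfl
  map_smul' _ _ := rfl

/-- The basis of divided monomials. -/
noncomputable def gamBasis : Module.Basis (ι →₀ ℕ) ℤ (Gam ι) :=
  (Module.Basis.span (dm_linearIndependent ι)).map (spanEquiv ι)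

lemma gamBasis_apply (e : ι →₀ ℕ) : (gamBasis ι e : MvPolynomial (ι) ℚ) = dm ι e := by
  unfold gamBasis
  rw [Module.Basis.map_apply, Module.Basis.span_apply]
  rfl



open TensorProduct

variable (A : Type u) [CommRing A]

/-- The divided power polynomial algebra `A⟨X_1, …, X_t⟩`. -/
abbrev DP : Type (max u w) := A ⊗[ℤ] Gam ι

/-- The element `X_i^[n]` of `Γ_ℤ`. -/
noncomputable def xg (i : ι) (n : ℕ) : Gam ι := ⟨dm ι (Finsupp.single i n), dm_mem ι _⟩

lemma K_single [DecidableEq ι] (i : ι) (n m : ℕ) :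
    K (Finsupp.single i n : ι →₀ ℕ) (Finsupp.single i m) = (n + m).choose n := by
  have hs : ((Finsupp.single i n : ι →₀ ℕ) + Finsupp.single i m).support ⊆ {i} :=
    Finsupp.support_add.trans
      (Finset.union_subset Finsupp.support_single_subset Finsupp.support_single_subset)
  rw [K_eq_prod hs, Finset.prod_singleton, Finsupp.single_eq_same, Finsupp.single_eq_same]

lemma xg_zero (i : ι) : xg ι i 0 = 1 := by
  apply Subtype.ext
  change dm ι (Finsupp.single i 0) = 1
  rw [Finsupp.single_zero, dm_zero]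

lemma xg_mul (i : ι) (n m : ℕ) :
    xg ι i n * xg ι i m = ((n + m).choose n : ℤ) • xg ι i (n + m) := by
  apply Subtype.ext
  change dm ι (Finsupp.single i n) * dm ι (Finsupp.single i m) =
    ((n + m).choose n : ℤ) • dm ι (Finsupp.single i (n + m))
  classical
  rw [dm_mul, K_single, Finsupp.single_add]

lemma prod_xg (e : ι →₀ ℕ) : e.prod (fun i k => xg ι i k) = gamBasis ι e := by
  classical
  apply Subtype.ext
  rw [gamBasis_apply, Finsupp.prod, SubmonoidClass.coe_finsetProd]
  change ∏ i ∈ e.support, dm ι (Finsupp.single i (e i)) = dm ι e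
  have h1 : ∀ i ∈ e.support, dm ι (Finsupp.single i (e i)) =
      monomial (Finsupp.single i (e i)) ((((e i).factorial : ℕ) : ℚ)⁻¹) := by
    intro i _; unfold dm; rw [G_single]
  rw [Finset.prod_congr rfl h1, ← monomial_sum_prod]
  have h2 : ∑ i ∈ e.support, Finsupp.single i (e i) = e := Finsupp.sum_single e
  rw [h2]
  unfold dm
  congr 1
  unfold G
  rw [Nat.cast_prod, ← Finset.prod_inv_distrib]

/-- The presentation of `A⟨X_1, …, X_t⟩`. -/
noncomputable def pres : Pres A (ι) (DP ι A) where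
  x := fun i n => (1 : A) ⊗ₜ[ℤ] xg ι i n
  hx0 := fun i => by rw [xg_zero]; rfl
  hxmul := fun i n m => by
    rw [Algebra.TensorProduct.tmul_mul_tmul, mul_one, xg_mul, TensorProduct.tmul_smul,
      zsmul_eq_mul, Int.cast_natCast]
  b := Algebra.TensorProduct.basis A (gamBasis ι)
  hb := fun e => by
    rw [Algebra.TensorProduct.basis_apply, ← prod_xg]
    have := map_prod (Algebra.TensorProduct.includeRight (R := ℤ) (A := A) (B := Gam ι))
      (fun i => xg ι i (e i)) e.support
    simp only [Algebra.TensorProduct.includeRight_apply] at this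
    rw [Finsupp.prod, Finsupp.prod]
    exact this



end Groth.Agent.Lib.T1H4.DPInf
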