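import Groth.Agent.Lib.T1H4DPInfG

/-!
# The universal property of the divided power polynomial algebra on arbitrary variables (helper4)
-/

set_option autoImplicit false
universe u v w w'

namespace Groth.Agent.Lib.T1H4.DPInf

open Finset

variable {R : Type u} [CommRing R] {ι : Type w} {P : Type v} [CommRing P]
  [Algebra R P] (D : Pres R ι P)

namespace Pres

/-- The free divided power algebra property (S19919 for an arbitrary set of variables). -/
theorem existsUnique_algHom (γ : DividedPowers D.aug)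
    (hγ : ∀ (i : ι) (n : ℕ), γ.dpow n (D.x i 1) = D.x i n)
    {S : Type w'} [CommRing S] [Algebra R S] {J : Ideal S} (δ : DividedPowers J)
    (s : ι → S) (hs : ∀ i, s i ∈ J) :
    ∃! Φ : P →ₐ[R] S, γ.IsDPMorphism δ Φ.toRingHom ∧ ∀ i, Φ (D.x i 1) = s i := by
  classical
  let v : (ι →₀ ℕ) → S := fun e => ∏ i ∈ e.support, δ.dpow (e i) (s i)
  have hv : ∀ (e : ι →₀ ℕ) (t : Finset ι), e.support ⊆ t →
      v e = ∏ i ∈ t, δ.dpow (e i) (s i) := by
    intro e t ht
    refine Finset.prod_subset ht fun i _ hi => ?_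
    rw [Finsupp.notMem_support_iff.mp hi, δ.dpow_zero (hs i)]
  have hvmul : ∀ e e', v e * v e' = (K e e' : S) * v (e + e') := by
    intro e e'
    rw [hv e _ (support_subset_add_left e e'), hv e' _ (support_subset_add_right e e'),
      hv (e + e') _ (subset_refl _), ← Finset.prod_mul_distrib, K_eq_prod (subset_refl _),
      Nat.cast_prod, ← Finset.prod_mul_distrib]
    refine Finset.prod_congr rfl fun i _ => ?_
    rw [δ.mul_dpow (hs i), Finsupp.add_apply]
  let φl : P →ₗ[R] S := D.b.constr R v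
  have hφl : ∀ e, φl (D.b e) = v e := fun e => D.b.constr_basis R v e
  have hmul : ∀ a b, φl (a * b) = φl a * φl b := by
    have : (LinearMap.mul R P).compr₂ φl = (LinearMap.mul R S).compl₁₂ φl φl := by
      refine D.b.ext fun e => D.b.ext fun e' => ?_
      simp only [LinearMap.compr₂_apply, LinearMap.mul_apply', LinearMap.compl₁₂_apply]
      rw [D.M_mul, ← nsmul_eq_mul, map_nsmul, hφl, hφl, hφl, hvmul, nsmul_eq_mul]
    intro a b
    exact LinearMap.congr_fun (LinearMap.congr_fun this a) b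
  have hone : φl 1 = 1 := by
    rw [← D.M_zero, hφl]
    simp only [v, Finsupp.support_zero, Finset.prod_empty]
  let Φ : P →ₐ[R] S := AlgHom.ofLinearMap φl hone hmul
  have hΦb : ∀ e, Φ (D.b e) = v e := hφl
  have hvs : ∀ i n, v (Finsupp.single i n) = δ.dpow n (s i) := by
    intro i n
    rw [hv _ {i} Finsupp.support_single_subset, Finset.prod_singleton, Finsupp.single_eq_same]
  have hΦx : ∀ i n, Φ (D.x i n) = δ.dpow n (s i) := by
    intro i n
    rw [D.x_eq_M, hΦb, hvs]
  have hx1mem : ∀ i, D.x i 1 ∈ D.aug := fun i => Ideal.subset_span ⟨i, 1, le_refl 1, rfl⟩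
  refine ⟨Φ, ⟨?_, ?_⟩, ?_⟩
  · refine DividedPowers.IsDPMorphism.on_span γ δ rfl ?_ ?_
    · rintro _ ⟨i, n, hn, rfl⟩
      change Φ (D.x i n) ∈ J
      rw [hΦx]
      exact δ.dpow_mem (by omega) (hs i)
    · rintro k _ ⟨i, n, hn, rfl⟩
      change Φ (γ.dpow k (D.x i n)) = δ.dpow k (Φ (D.x i n))
      rw [← hγ i n, γ.dpow_comp (by omega) (hx1mem i), hγ, hγ, map_mul, map_natCast, hΦx, hΦx,
        δ.dpow_comp (by omega) (hs i)]
  · intro i
    rw [hΦx, δ.dpow_one (hs i)]
  · rintro Ψ ⟨hΨ, hΨ1⟩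
    have hΨx : ∀ i n, Ψ (D.x i n) = δ.dpow n (s i) := by
      intro i n
      rw [← hγ i n]
      have := hΨ.map_dpow (n := n) (hx1mem i)
      change Ψ (γ.dpow n (D.x i 1)) = δ.dpow n (Ψ (D.x i 1)) at this
      rw [this, hΨ1]
    apply AlgHom.toLinearMap_injective
    refine D.b.ext fun e => ?_
    change Ψ (D.b e) = Φ (D.b e)
    rw [hΦb, D.M_eq_prod e (subset_refl _), map_prod]
    exact Finset.prod_congr rfl fun i _ => hΨx i (e i)

end Pres

end Groth.Agent.Lib.T1H4.DPInf
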