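import Groth.Agent.Lib.T1H4DPowFreeA
import Groth.Agent.Lib.T2H4DPowPolyF

/-!
# Extension of divided powers along a flat ring map (helper4)
-/

set_option autoImplicit false
universe u v

namespace Groth.Agent.Lib.T1H4.DPowFlat

open Finset Nat PowerSeries Groth.Agent.Lib.T1H4.DPowGen Groth.Agent.Lib.T2H4.DPowPoly
  Groth.Agent.Lib.T1H4.DPowFree

variable {A : Type u} [CommRing A] {I : Ideal A} (γ : DividedPowers I)
  {B : Type v} [CommRing B] [Algebra A B]

/-- The exponential attached to a finite family `(x_i, b_i)`. -/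
noncomputable def EF {ι : Type*} [Fintype ι] (x : ι → A) (b : ι → B) : PowerSeries B :=
  ∏ i, PowerSeries.rescale (b i) (mexp γ (x i))

variable {γ}

lemma EF_isExpT {ι : Type*} [Fintype ι] {x : ι → A} (hx : ∀ i, x i ∈ I) (b : ι → B) :
    IsExpT (EF γ x b) :=
  IsExpT.prod _ _ fun i _ => (mexp_isExpT (hx i)).rescale _

lemma EF_coeffIn {ι : Type*} [Fintype ι] {x : ι → A} (hx : ∀ i, x i ∈ I) (b : ι → B) :
    CoeffIn (I.map (algebraMap A B)) (EF γ x b) :=
  CoeffIn.prod _ _ fun i _ => (mexp_coeffIn (hx i)).rescale _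

lemma mexp_sum {ι : Type*} (s : Finset ι) {x : ι → A} (hx : ∀ i ∈ s, x i ∈ I) :
    mexp (P := B) γ (∑ i ∈ s, x i) = ∏ i ∈ s, mexp γ (x i) := by
  classical
  induction s using Finset.induction with
  | empty => simp [mexp_zero]
  | insert i s hi ih =>
    rw [sum_insert hi, prod_insert hi,
      mexp_add (hx i (mem_insert_self i s)) (I.sum_mem fun j hj => hx j (mem_insert_of_mem hj)),
      ih fun j hj => hx j (mem_insert_of_mem hj)]

/-- The key lemma: a family representing `0` has trivial exponential (flatness). -/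
lemma EF_eq_one_of_sum_eq_zero [Module.Flat A B] {ι : Type*} [Fintype ι] {x : ι → A}
    (hx : ∀ i, x i ∈ I) (b : ι → B) (h : ∑ i, x i • b i = 0) : EF γ x b = 1 := by
  obtain ⟨k, a, y, hb, ha⟩ :=
    Module.Flat.isTrivialRelation_of_sum_smul_eq_zero (R := A) (M := B) (f := x) (x := b) h
  unfold EF
  have h1 : ∀ i, PowerSeries.rescale (b i) (mexp γ (x i)) =
      ∏ j, PowerSeries.rescale (y j) (mexp γ (x i * a i j)) := by
    intro i
    rw [hb i, (mexp_isExpT (hx i)).rescale_sum]
    refine Finset.prod_congr rfl fun j _ => ?_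
    rw [mul_comm (x i), mexp_mul (hx i), rescale_rescale, Algebra.smul_def]
  rw [Finset.prod_congr rfl fun i _ => h1 i, Finset.prod_comm]
  refine Finset.prod_eq_one fun j _ => ?_
  rw [← map_prod, ← mexp_sum _ fun i _ => I.mul_mem_right _ (hx i), ha j, mexp_zero, map_one]

variable (I) in
/-- A representation of `z` as `Σ x_i • b_i` with `x_i ∈ I`. -/
structure Rep (z : B) where
  ι : Type v
  fin : Fintype ι
  x : ι → A
  b : ι → B
  hx : ∀ i, x i ∈ I
  hz : ∑ i, x i • b i = z

attribute [instance] Rep.fin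

/-- The exponential of a representation. -/
noncomputable def Rep.E (γ : DividedPowers I) {z : B} (r : Rep I z) : PowerSeries B := EF γ r.x r.b

lemma exists_rep {z : B} (hz : z ∈ I.map (algebraMap A B)) : Nonempty (Rep I z) := by
  classical
  have h1 : z ∈ (I • (⊤ : Submodule A B)) := by
    rw [Ideal.smul_top_eq_map]; exact hz
  have h2 : (⊤ : Submodule A B) = Submodule.span A (Set.range (id : B → B)) := by
    rw [Set.range_id, Submodule.span_univ]
  rw [h2, Submodule.mem_ideal_smul_span_iff_exists_sum] at h1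
  obtain ⟨a, ha, rfl⟩ := h1
  refine ⟨⟨a.support, inferInstance, fun i => a i, fun i => (i : B), fun i => ha i, ?_⟩⟩
  rw [Finsupp.sum]
  exact Finset.sum_coe_sort a.support (fun i => a i • id i)

/-- Sum of representations. -/
def Rep.add {z z' : B} (r : Rep I z) (r' : Rep I z') : Rep I (z + z') where
  ι := r.ι ⊕ r'.ι
  fin := inferInstance
  x := Sum.elim r.x r'.x
  b := Sum.elim r.b r'.b
  hx := by rintro (i | i); exact r.hx i; exact r'.hx i
  hz := by rw [Fintype.sum_sum_type]; simp [r.hz, r'.hz]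

lemma Rep.E_add {z z' : B} (r : Rep I z) (r' : Rep I z') :
    (r.add r').E γ = r.E γ * r'.E γ := by
  unfold Rep.E EF Rep.add
  rw [Fintype.prod_sum_type]
  rfl

/-- Negation of a representation. -/
def Rep.neg {z : B} (r : Rep I z) : Rep I (-z) where
  ι := r.ι
  fin := r.fin
  x := fun i => - r.x i
  b := r.b
  hx := fun i => I.neg_mem (r.hx i)
  hz := by simp [r.hz]

lemma Rep.E_eq_one [Module.Flat A B] {z : B} (r : Rep I z) (hz : z = 0) : r.E γ = 1 := by
  subst hz
  exact EF_eq_one_of_sum_eq_zero r.hx r.b r.hz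

/-- Independence of the representation. -/
lemma Rep.E_eq [Module.Flat A B] {z : B} (r r' : Rep I z) : r.E γ = r'.E γ := by
  have h1 : r.E γ * r'.neg.E γ = 1 := by
    rw [← Rep.E_add]; exact Rep.E_eq_one _ (add_neg_cancel z)
  have h2 : r'.E γ * r'.neg.E γ = 1 := by
    rw [← Rep.E_add]; exact Rep.E_eq_one _ (add_neg_cancel z)
  calc r.E γ = r.E γ * (r'.E γ * r'.neg.E γ) := by rw [h2, mul_one]
    _ = r'.E γ * (r.E γ * r'.neg.E γ) := by ring
    _ = r'.E γ := by rw [h1, mul_one]

/-- Scaling a representation. -/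
def Rep.mul (c : B) {z : B} (r : Rep I z) : Rep I (c * z) where
  ι := r.ι
  fin := r.fin
  x := r.x
  b := fun i => c * r.b i
  hx := r.hx
  hz := by
    have h1 : ∑ i, r.x i • (c * r.b i) = c * ∑ i, r.x i • r.b i := by
      rw [Finset.mul_sum]
      exact Finset.sum_congr rfl fun i _ => by rw [mul_smul_comm]
    rw [h1, r.hz]

lemma Rep.E_mul (c : B) {z : B} (r : Rep I z) :
    (r.mul c).E γ = PowerSeries.rescale c (r.E γ) := by
  change ∏ i, PowerSeries.rescale (c * r.b i) (mexp γ (r.x i)) =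
    PowerSeries.rescale c (∏ i, PowerSeries.rescale (r.b i) (mexp γ (r.x i)))
  rw [map_prod]
  refine Finset.prod_congr rfl fun i _ => ?_
  rw [rescale_rescale, mul_comm]

/-- The representation of `a • b`. -/
def Rep.single {a : A} (ha : a ∈ I) (b : B) : Rep I (a • b) where
  ι := PUnit
  fin := inferInstance
  x := fun _ => a
  b := fun _ => b
  hx := fun _ => ha
  hz := by simp

lemma Rep.E_single {a : A} (ha : a ∈ I) (b : B) :
    (Rep.single ha b).E γ = PowerSeries.rescale b (mexp γ a) := by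
  unfold Rep.E EF Rep.single
  simp

lemma Rep.coeff_one {z : B} (r : Rep I z) : coeff 1 (r.E γ) = z := by
  unfold Rep.E EF
  rw [Pres.coeff_one_prod _ _ fun i _ => ((mexp_isExpT (r.hx i)).rescale _).1]
  refine Eq.trans (Finset.sum_congr rfl fun i _ => ?_) r.hz
  rw [coeff_rescale, coeff_mexp, γ.dpow_one (r.hx i), pow_one, Algebra.smul_def, mul_comm]

variable (γ) (B)

open Classical in
/-- The exponential on `I B`. -/
noncomputable def exB (z : B) : PowerSeries B :=
  if h : z ∈ I.map (algebraMap A B) then (Classical.choice (exists_rep h)).E γ else 1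

variable {γ} {B}

lemma exB_eq [Module.Flat A B] {z : B} (r : Rep I z) : exB γ B z = r.E γ := by
  have hz : z ∈ I.map (algebraMap A B) := by
    rw [← r.hz]
    refine Ideal.sum_mem _ fun i _ => ?_
    rw [Algebra.smul_def]
    exact Ideal.mul_mem_right _ _ (Ideal.mem_map_of_mem _ (r.hx i))
  unfold exB
  rw [dif_pos hz]
  exact Rep.E_eq _ r

variable (γ) (B)

open Classical in
/-- The extended divided power maps. -/
noncomputable def dB (n : ℕ) (z : B) : B :=
  if z ∈ I.map (algebraMap A B) then coeff n (exB γ B z) else 0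

variable {γ} {B}

lemma dB_of_mem {z : B} (hz : z ∈ I.map (algebraMap A B)) (n : ℕ) :
    dB γ B n z = coeff n (exB γ B z) := by
  unfold dB; rw [if_pos hz]

lemma preDP_dB [Module.Flat A B] : PreDP (I.map (algebraMap A B)) (dB γ B) where
  null := by
    intro n x hx
    unfold dB; rw [if_neg hx]
  zero := by
    intro x hx
    obtain ⟨r⟩ := exists_rep hx
    rw [dB_of_mem hx, exB_eq r]; exact (EF_isExpT r.hx r.b).1
  one := by
    intro x hx
    obtain ⟨r⟩ := exists_rep hx
    rw [dB_of_mem hx, exB_eq r]; exact r.coeff_one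
  mem := by
    intro n x hn hx
    obtain ⟨r⟩ := exists_rep hx
    rw [dB_of_mem hx, exB_eq r]; exact EF_coeffIn r.hx r.b n hn
  add := by
    intro n x y hx hy
    obtain ⟨r⟩ := exists_rep hx
    obtain ⟨r'⟩ := exists_rep hy
    rw [dB_of_mem (Ideal.add_mem _ hx hy), exB_eq (r.add r'), Rep.E_add, coeff_mul]
    refine Finset.sum_congr rfl fun k _ => ?_
    rw [dB_of_mem hx, dB_of_mem hy, exB_eq r, exB_eq r']
  mul := by
    intro n a x hx
    obtain ⟨r⟩ := exists_rep hx
    rw [dB_of_mem (Ideal.mul_mem_left _ a hx), exB_eq (r.mul a), Rep.E_mul, coeff_rescale,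
      dB_of_mem hx, exB_eq r]

lemma mulRule_dB [Module.Flat A B] {z : B} (hz : z ∈ I.map (algebraMap A B)) :
    MulRule (dB γ B) z := by
  intro m n
  obtain ⟨r⟩ := exists_rep hz
  rw [dB_of_mem hz, dB_of_mem hz, dB_of_mem hz, exB_eq r]
  exact (EF_isExpT r.hx r.b).2 m n

lemma dB_algebraMap [Module.Flat A B] {a : A} (ha : a ∈ I) (n : ℕ) :
    dB γ B n (algebraMap A B a) = algebraMap A B (γ.dpow n a) := by
  rw [dB_of_mem (Ideal.mem_map_of_mem _ ha)]
  have : algebraMap A B a = a • (1 : B) := by rw [Algebra.smul_def, mul_one]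
  rw [this, exB_eq (Rep.single ha 1), Rep.E_single, coeff_rescale, one_pow, one_mul, coeff_mexp]

lemma compRule_dB [Module.Flat A B] {a : A} (ha : a ∈ I) :
    CompRule (dB γ B) (algebraMap A B a) := by
  intro m n hn
  rw [dB_algebraMap ha, dB_algebraMap (γ.dpow_mem hn ha), dB_algebraMap ha, γ.dpow_comp hn ha,
    map_mul, map_natCast]

variable (γ) (B)

/-- The extension of `γ` to `I B` for `B` flat over `A`. -/
noncomputable def extendFlat [Module.Flat A B] : DividedPowers (I.map (algebraMap A B)) :=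
  ofGenerators (S := (algebraMap A B) '' (I : Set A)) (d := dB γ B) (preDP_dB (γ := γ) (B := B)) rfl
    (fun y hy => by
      obtain ⟨a, ha, rfl⟩ := hy
      exact mulRule_dB (γ := γ) (Ideal.mem_map_of_mem _ ha))
    (fun y hy => by
      obtain ⟨a, ha, rfl⟩ := hy
      exact compRule_dB (γ := γ) ha)

lemma extendFlat_isDPMorphism [Module.Flat A B] :
    γ.IsDPMorphism (extendFlat γ B) (algebraMap A B) :=
  ⟨le_rfl, fun a ha => dB_algebraMap ha _⟩

/-- The statement of S2193. -/
theorem main_S2193 :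
    (∀ δ δ' : DividedPowers (I.map (algebraMap A B)),
        γ.IsDPMorphism δ (algebraMap A B) → γ.IsDPMorphism δ' (algebraMap A B) → δ = δ') ∧
      (Module.Flat A B →
        ∃ δ : DividedPowers (I.map (algebraMap A B)), γ.IsDPMorphism δ (algebraMap A B)) := by
  refine ⟨fun δ δ' h h' => ?_, fun hflat => ⟨extendFlat γ B, extendFlat_isDPMorphism γ B⟩⟩
  refine dividedPowers_ext_of_span (S := (algebraMap A B) '' (I : Set A)) rfl δ δ' ?_
  rintro n _ ⟨a, ha, rfl⟩
  rw [h.2 a ha, h'.2 a ha]

end Groth.Agent.Lib.T1H4.DPowFlat
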