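import Groth.Agent.Lib.T2H4DPowPolyD

/-!
# Extension of divided powers to a free algebra (helper4)

If `γ` is a divided power structure on `I ⊆ R` and `P` is an `R`-algebra which is free as an
`R`-module, then `γ` extends (uniquely) to `I P`.
-/

set_option autoImplicit false
universe u v w

namespace Groth.Agent.Lib.T1H4.DPowFree

open Finset Nat PowerSeries Groth.Agent.Lib.T1H4.DPowGen Groth.Agent.Lib.T2H4.DPowPoly

variable {R : Type u} [CommRing R] {I : Ideal R} (γ : DividedPowers I)
  {P : Type v} [CommRing P] [Algebra R P] {κ : Type w} (b : Module.Basis κ R P)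

/-- The image in `P⟦T⟧` of the exponential of `a`. -/
noncomputable def mexp (a : R) : PowerSeries P :=
  PowerSeries.map (algebraMap R P) (γ.exp a)

lemma coeff_mexp (a : R) (n : ℕ) :
    coeff n (mexp (P := P) γ a) = algebraMap R P (γ.dpow n a) := by
  rw [mexp, coeff_map, DividedPowers.exp, coeff_mk]

lemma mexp_zero : mexp (P := P) γ 0 = 1 := by
  ext n
  rw [coeff_mexp, coeff_one]
  by_cases hn : n = 0
  · subst hn; simp [γ.dpow_zero I.zero_mem]
  · rw [if_neg hn, γ.dpow_eval_zero hn, map_zero]

variable {γ}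

lemma mexp_add {a a' : R} (ha : a ∈ I) (ha' : a' ∈ I) :
    mexp (P := P) γ (a + a') = mexp γ a * mexp γ a' := by
  unfold mexp
  rw [γ.exp_add ha ha', map_mul]

lemma mexp_isExpT {a : R} (ha : a ∈ I) : IsExpT (mexp (P := P) γ a) := by
  refine ⟨by rw [coeff_mexp, γ.dpow_zero ha, map_one], fun m n => ?_⟩
  rw [coeff_mexp, coeff_mexp, coeff_mexp, ← map_mul, γ.mul_dpow ha, map_mul, map_natCast]

lemma mexp_coeffIn {a : R} (ha : a ∈ I) :
    CoeffIn (I.map (algebraMap R P)) (mexp (P := P) γ a) := by
  intro n hn
  rw [coeff_mexp]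
  exact Ideal.mem_map_of_mem _ (γ.dpow_mem hn ha)

lemma mexp_mul {a : R} (ha : a ∈ I) (t : R) :
    mexp (P := P) γ (t * a) = PowerSeries.rescale (algebraMap R P t) (mexp γ a) := by
  ext n
  rw [coeff_rescale, coeff_mexp, coeff_mexp, γ.dpow_mul ha, map_mul, map_pow]

variable (γ)

/-- The exponential on `P`: product over the coordinates. -/
noncomputable def exF (p : P) : PowerSeries P :=
  ∏ k ∈ (b.repr p).support, PowerSeries.rescale (b k) (mexp γ (b.repr p k))

lemma exF_eq_prod (p : P) (s : Finset κ) (hs : (b.repr p).support ⊆ s) :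
    exF γ b p = ∏ k ∈ s, PowerSeries.rescale (b k) (mexp γ (b.repr p k)) := by
  unfold exF
  refine Finset.prod_subset hs fun k _ hk => ?_
  rw [Finsupp.notMem_support_iff.mp hk, mexp_zero, map_one]

/-- Coordinates in `I`. -/
def CoordIn (p : P) : Prop := ∀ k, b.repr p k ∈ I

variable {γ b}

lemma coordIn_add {p p' : P} (hp : CoordIn (I := I) b p) (hp' : CoordIn (I := I) b p') :
    CoordIn (I := I) b (p + p') := by
  intro k
  rw [map_add, Finsupp.add_apply]
  exact I.add_mem (hp k) (hp' k)

lemma coordIn_zero : CoordIn (I := I) b (0 : P) := by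
  intro k; simp

lemma coordIn_sum {σ : Type*} (s : Finset σ) (z : σ → P) (hz : ∀ j ∈ s, CoordIn (I := I) b (z j)) :
    CoordIn (I := I) b (∑ j ∈ s, z j) := by
  classical
  induction s using Finset.induction with
  | empty => simpa using coordIn_zero
  | insert i s hi ih =>
    rw [sum_insert hi]
    exact coordIn_add (hz i (mem_insert_self i s)) (ih fun j hj => hz j (mem_insert_of_mem hj))

lemma coordIn_smul {a : R} (ha : a ∈ I) (c : P) : CoordIn (I := I) b (a • c) := by
  intro k
  rw [map_smul, Finsupp.smul_apply, smul_eq_mul]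
  exact I.mul_mem_right _ ha

lemma coordIn_iff (p : P) : CoordIn (I := I) b p ↔ p ∈ I.map (algebraMap R P) := by
  constructor
  · intro hp
    have : p = ∑ k ∈ (b.repr p).support, (b.repr p k) • b k := by
      conv_lhs => rw [← b.linearCombination_repr p]
      rw [Finsupp.linearCombination_apply, Finsupp.sum]
    rw [this]
    refine Ideal.sum_mem _ fun k _ => ?_
    rw [Algebra.smul_def]
    exact Ideal.mul_mem_right _ _ (Ideal.mem_map_of_mem _ (hp k))
  · intro hp
    have h1 : p ∈ (I • (⊤ : Submodule R P)) := by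
      rw [Ideal.smul_top_eq_map]; exact hp
    rw [← b.span_eq, Submodule.mem_ideal_smul_span_iff_exists_sum] at h1
    obtain ⟨a, ha, rfl⟩ := h1
    intro k
    have : b.repr (a.sum fun i c => c • b i) = a := by
      have := b.repr_linearCombination a
      rwa [Finsupp.linearCombination_apply] at this
    rw [this]
    exact ha k

lemma exF_add {p p' : P} (hp : CoordIn (I := I) b p) (hp' : CoordIn (I := I) b p') :
    exF γ b (p + p') = exF γ b p * exF γ b p' := by
  classical
  set s := (b.repr p).support ∪ (b.repr p').support with hs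
  have h1 : (b.repr (p + p')).support ⊆ s := by
    rw [map_add]; exact Finsupp.support_add
  rw [exF_eq_prod γ b (p + p') s h1, exF_eq_prod γ b p s Finset.subset_union_left,
    exF_eq_prod γ b p' s Finset.subset_union_right, ← Finset.prod_mul_distrib]
  refine Finset.prod_congr rfl fun k _ => ?_
  rw [map_add, Finsupp.add_apply, mexp_add (hp k) (hp' k), map_mul]

lemma exF_zero : exF γ b (0 : P) = 1 := by
  unfold exF
  simp

lemma exF_sum {σ : Type*} (s : Finset σ) (z : σ → P) (hz : ∀ j ∈ s, CoordIn (I := I) b (z j)) :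
    exF γ b (∑ j ∈ s, z j) = ∏ j ∈ s, exF γ b (z j) := by
  classical
  induction s using Finset.induction with
  | empty => simp [exF_zero]
  | insert i s hi ih =>
    rw [sum_insert hi, prod_insert hi,
      exF_add (hz i (mem_insert_self i s)) (coordIn_sum s z fun j hj => hz j (mem_insert_of_mem hj)),
      ih fun j hj => hz j (mem_insert_of_mem hj)]

lemma exF_isExpT {p : P} (hp : CoordIn (I := I) b p) : IsExpT (exF γ b p) :=
  IsExpT.prod _ _ fun k _ => (mexp_isExpT (hp k)).rescale _

lemma exF_coeffIn {p : P} (hp : CoordIn (I := I) b p) :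
    CoeffIn (I.map (algebraMap R P)) (exF γ b p) :=
  CoeffIn.prod _ _ fun k _ => (mexp_coeffIn (hp k)).rescale _

lemma exF_smul_basis (a : R) (k : κ) :
    exF γ b (a • b k) = PowerSeries.rescale (b k) (mexp γ a) := by
  classical
  rw [exF_eq_prod γ b (a • b k) {k}]
  · rw [prod_singleton, map_smul, b.repr_self, Finsupp.smul_single, smul_eq_mul, mul_one,
      Finsupp.single_eq_same]
  · rw [map_smul, b.repr_self, Finsupp.smul_single, smul_eq_mul, mul_one]
    exact Finsupp.support_single_subset

lemma repr_sum (p : P) : p = ∑ k ∈ (b.repr p).support, (b.repr p k) • b k := by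
  conv_lhs => rw [← b.linearCombination_repr p]
  rw [Finsupp.linearCombination_apply, Finsupp.sum]

/-- The key lemma: the exponential of `a • c`. -/
lemma exF_smul {a : R} (ha : a ∈ I) (c : P) :
    exF γ b (a • c) = PowerSeries.rescale c (mexp γ a) := by
  classical
  conv_lhs => rw [repr_sum (b := b) c]
  conv_rhs => rw [repr_sum (b := b) c]
  rw [Finset.smul_sum, exF_sum _ _ fun k _ => by
    rw [smul_smul]; exact coordIn_smul (I.mul_mem_right _ ha) _]
  rw [(mexp_isExpT ha).rescale_sum]
  refine Finset.prod_congr rfl fun k _ => ?_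
  rw [smul_smul, exF_smul_basis, mul_comm a, mexp_mul ha, rescale_rescale, Algebra.smul_def]

lemma exF_mul (c : P) {p : P} (hp : CoordIn (I := I) b p) :
    exF γ b (c * p) = PowerSeries.rescale c (exF γ b p) := by
  classical
  conv_lhs => rw [repr_sum (b := b) p]
  rw [Finset.mul_sum, exF_sum _ _ fun k _ => by
    rw [mul_smul_comm]; exact coordIn_smul (hp k) _]
  have hR : exF γ b p = ∏ k ∈ (b.repr p).support,
      PowerSeries.rescale (b k) (mexp γ (b.repr p k)) := rfl
  rw [hR, map_prod]
  refine Finset.prod_congr rfl fun k _ => ?_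
  rw [mul_smul_comm, exF_smul (hp k), rescale_rescale, mul_comm]

lemma coeff_one_exF {p : P} (hp : CoordIn (I := I) b p) : coeff 1 (exF γ b p) = p := by
  conv_rhs => rw [repr_sum (b := b) p]
  unfold exF
  rw [Pres.coeff_one_prod _ _ fun k _ => ((mexp_isExpT (hp k)).rescale _).1]
  refine Finset.sum_congr rfl fun k _ => ?_
  rw [coeff_rescale, coeff_mexp, γ.dpow_one (hp k), pow_one, Algebra.smul_def, mul_comm]

variable (γ b)

open Classical in
/-- The extended divided power maps. -/
noncomputable def dF (n : ℕ) (p : P) : P :=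
  if p ∈ I.map (algebraMap R P) then coeff n (exF γ b p) else 0

variable {γ b}

lemma dF_of_mem {p : P} (hp : p ∈ I.map (algebraMap R P)) (n : ℕ) :
    dF γ b n p = coeff n (exF γ b p) := by
  unfold dF; rw [if_pos hp]

lemma preDP_dF : PreDP (I.map (algebraMap R P)) (dF γ b) where
  null := by
    intro n x hx
    unfold dF; rw [if_neg hx]
  zero := by
    intro x hx
    rw [dF_of_mem hx]; exact (exF_isExpT ((coordIn_iff x).mpr hx)).1
  one := by
    intro x hx
    rw [dF_of_mem hx]; exact coeff_one_exF ((coordIn_iff x).mpr hx)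
  mem := by
    intro n x hn hx
    rw [dF_of_mem hx]; exact exF_coeffIn ((coordIn_iff x).mpr hx) n hn
  add := by
    intro n x y hx hy
    rw [dF_of_mem (Ideal.add_mem _ hx hy),
      exF_add ((coordIn_iff x).mpr hx) ((coordIn_iff y).mpr hy), coeff_mul]
    refine Finset.sum_congr rfl fun k _ => ?_
    rw [dF_of_mem hx, dF_of_mem hy]
  mul := by
    intro n a x hx
    rw [dF_of_mem (Ideal.mul_mem_left _ a hx), exF_mul a ((coordIn_iff x).mpr hx), coeff_rescale,
      dF_of_mem hx]

lemma mulRule_dF {p : P} (hp : p ∈ I.map (algebraMap R P)) : MulRule (dF γ b) p := by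
  intro m n
  rw [dF_of_mem hp, dF_of_mem hp, dF_of_mem hp]
  exact (exF_isExpT ((coordIn_iff p).mpr hp)).2 m n

lemma dF_algebraMap {a : R} (ha : a ∈ I) (n : ℕ) :
    dF γ b n (algebraMap R P a) = algebraMap R P (γ.dpow n a) := by
  rw [dF_of_mem (Ideal.mem_map_of_mem _ ha)]
  have : algebraMap R P a = a • (1 : P) := by rw [Algebra.smul_def, mul_one]
  rw [this, exF_smul ha, coeff_rescale, one_pow, one_mul, coeff_mexp]

lemma compRule_dF {a : R} (ha : a ∈ I) : CompRule (dF γ b) (algebraMap R P a) := by
  intro m n hn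
  rw [dF_algebraMap ha, dF_algebraMap (γ.dpow_mem hn ha), dF_algebraMap ha, γ.dpow_comp hn ha,
    map_mul, map_natCast]

variable (γ b)

/-- The extension of `γ` to `I P` for `P` free over `R`. -/
noncomputable def extendFree : DividedPowers (I.map (algebraMap R P)) :=
  ofGenerators (S := (algebraMap R P) '' (I : Set R)) (d := dF γ b) (preDP_dF (γ := γ) (b := b)) rfl
    (fun y hy => by
      obtain ⟨a, ha, rfl⟩ := hy
      exact mulRule_dF (γ := γ) (b := b) (Ideal.mem_map_of_mem _ ha))
    (fun y hy => by
      obtain ⟨a, ha, rfl⟩ := hy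
      exact compRule_dF (γ := γ) (b := b) ha)

lemma extendFree_isDPMorphism : γ.IsDPMorphism (extendFree γ b) (algebraMap R P) :=
  ⟨le_rfl, fun a ha => dF_algebraMap ha _⟩

/-- Divided powers extend to algebras which are free as modules. -/
theorem exists_extension_of_free [Module.Free R P] :
    ∃ δ : DividedPowers (I.map (algebraMap R P)), γ.IsDPMorphism δ (algebraMap R P) :=
  ⟨extendFree γ (Module.Free.chooseBasis R P), extendFree_isDPMorphism γ _⟩

/-- A divided power structure on an ideal containing `I P`, compatible with `γ`, restricts to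
the extension on `I P`. -/
lemma eq_extendFree_of_isDPMorphism {J : Ideal P} (δ : DividedPowers J)
    (hδ : γ.IsDPMorphism δ (algebraMap R P)) {p : P} (hp : p ∈ I.map (algebraMap R P)) (n : ℕ) :
    δ.dpow n p = (extendFree γ b).dpow n p := by
  have hle : I.map (algebraMap R P) ≤ J := hδ.1
  unfold Ideal.map at hp
  induction hp using Submodule.span_induction generalizing n with
  | mem x hx =>
    obtain ⟨a, ha, rfl⟩ := hx
    rw [hδ.2 a ha]
    exact (dF_algebraMap ha n).symm
  | zero =>
    by_cases hn : n = 0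
    · subst hn; rw [δ.dpow_zero J.zero_mem, (extendFree γ b).dpow_zero (Ideal.zero_mem _)]
    · rw [δ.dpow_eval_zero hn, (extendFree γ b).dpow_eval_zero hn]
  | add x y hx hy hrx hry =>
    have hx' : x ∈ I.map (algebraMap R P) := hx
    have hy' : y ∈ I.map (algebraMap R P) := hy
    rw [δ.dpow_add (hle hx') (hle hy'), (extendFree γ b).dpow_add hx' hy']
    exact Finset.sum_congr rfl fun k _ => by rw [hrx, hry]
  | smul c x hx hrx =>
    have hx' : x ∈ I.map (algebraMap R P) := hx
    rw [smul_eq_mul, δ.dpow_mul (hle hx'), (extendFree γ b).dpow_mul hx', hrx]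

end Groth.Agent.Lib.T1H4.DPowFree
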