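import Groth.Agent.Lib.T1H4DPowGenC

/-!
# Divided powers on a sum of two ideals (helper4)
-/

set_option autoImplicit false
universe u

namespace Groth.Agent.Lib.T1H4.DPowSup

open Finset Nat Groth.Agent.Lib.T1H4.DPowGen

variable {A : Type u} [CommRing A] {I J : Ideal A} (γ : DividedPowers I) (δ : DividedPowers J)

/-- The product of exponentials `exp_γ(a) * exp_δ(b)`. -/
noncomputable def EE (a b : A) : PowerSeries A := γ.exp a * δ.exp b

lemma exp_zero_eq_one : γ.exp 0 = 1 := by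
  ext n
  rw [DividedPowers.exp, PowerSeries.coeff_mk, PowerSeries.coeff_one]
  by_cases hn : n = 0
  · subst hn; simp [γ.dpow_zero I.zero_mem]
  · rw [if_neg hn, γ.dpow_eval_zero hn]

variable {γ δ}

lemma EE_wd (h : ∀ (n : ℕ) (x : A), x ∈ I ⊓ J → γ.dpow n x = δ.dpow n x)
    {a a' b b' : A} (ha : a ∈ I) (ha' : a' ∈ I) (hb : b ∈ J) (hb' : b' ∈ J)
    (hab : a + b = a' + b') : EE γ δ a b = EE γ δ a' b' := by
  set c := a - a' with hc
  have hcI : c ∈ I := I.sub_mem ha ha'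
  have hcb : c = b' - b := by rw [hc]; linear_combination hab
  have hcJ : c ∈ J := by rw [hcb]; exact J.sub_mem hb' hb
  have hexp : γ.exp c = δ.exp c := by
    ext n
    simp only [DividedPowers.exp, PowerSeries.coeff_mk]
    exact h n c ⟨hcI, hcJ⟩
  have e1 : a = a' + c := by rw [hc]; ring
  have e2 : b' = b + c := by rw [hcb]; ring
  unfold EE
  rw [e1, e2, γ.exp_add ha' hcI, δ.exp_add hb hcJ, hexp]
  ring

variable (γ δ)

open Classical in
/-- The candidate divided powers on `I ⊔ J`. -/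
noncomputable def dsup (n : ℕ) (z : A) : A :=
  if hz : z ∈ I ⊔ J then
    PowerSeries.coeff n (EE γ δ (Submodule.mem_sup.mp hz).choose
      (Submodule.mem_sup.mp hz).choose_spec.2.choose)
  else 0

variable {γ δ}

lemma dsup_eq (h : ∀ (n : ℕ) (x : A), x ∈ I ⊓ J → γ.dpow n x = δ.dpow n x)
    {a b : A} (ha : a ∈ I) (hb : b ∈ J) (n : ℕ) :
    dsup γ δ n (a + b) = PowerSeries.coeff n (EE γ δ a b) := by
  have hz : a + b ∈ I ⊔ J := Submodule.add_mem_sup ha hb
  unfold dsup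
  rw [dif_pos hz]
  congr 1
  have h1 := (Submodule.mem_sup.mp hz).choose_spec
  have h2 := h1.2.choose_spec
  exact EE_wd h h1.1 ha h2.1 hb h2.2

lemma dsup_eq_sum (h : ∀ (n : ℕ) (x : A), x ∈ I ⊓ J → γ.dpow n x = δ.dpow n x)
    {a b : A} (ha : a ∈ I) (hb : b ∈ J) (n : ℕ) :
    dsup γ δ n (a + b) = ∑ k ∈ antidiagonal n, γ.dpow k.1 a * δ.dpow k.2 b := by
  rw [dsup_eq h ha hb, EE, PowerSeries.coeff_mul]
  simp only [DividedPowers.exp, PowerSeries.coeff_mk]

lemma dsup_left (h : ∀ (n : ℕ) (x : A), x ∈ I ⊓ J → γ.dpow n x = δ.dpow n x)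
    {a : A} (ha : a ∈ I) (n : ℕ) : dsup γ δ n a = γ.dpow n a := by
  have := dsup_eq h ha J.zero_mem n
  rw [add_zero] at this
  rw [this, EE, exp_zero_eq_one, mul_one, DividedPowers.exp, PowerSeries.coeff_mk]

lemma dsup_right (h : ∀ (n : ℕ) (x : A), x ∈ I ⊓ J → γ.dpow n x = δ.dpow n x)
    {b : A} (hb : b ∈ J) (n : ℕ) : dsup γ δ n b = δ.dpow n b := by
  have := dsup_eq h I.zero_mem hb n
  rw [zero_add] at this
  rw [this, EE, exp_zero_eq_one, one_mul, DividedPowers.exp, PowerSeries.coeff_mk]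

lemma preDP_dsup (h : ∀ (n : ℕ) (x : A), x ∈ I ⊓ J → γ.dpow n x = δ.dpow n x) :
    PreDP (I ⊔ J) (dsup γ δ) where
  null := by
    intro n x hx
    unfold dsup
    rw [dif_neg hx]
  zero := by
    intro x hx
    obtain ⟨a, ha, b, hb, rfl⟩ := Submodule.mem_sup.mp hx
    rw [dsup_eq_sum h ha hb]
    simp [γ.dpow_zero ha, δ.dpow_zero hb]
  one := by
    intro x hx
    obtain ⟨a, ha, b, hb, rfl⟩ := Submodule.mem_sup.mp hx
    rw [dsup_eq_sum h ha hb, Finset.Nat.antidiagonal_succ]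
    simp [γ.dpow_zero ha, δ.dpow_zero hb, γ.dpow_one ha, δ.dpow_one hb, add_comm]
  mem := by
    intro n x hn hx
    obtain ⟨a, ha, b, hb, rfl⟩ := Submodule.mem_sup.mp hx
    rw [dsup_eq_sum h ha hb]
    refine Ideal.sum_mem _ fun k hk => ?_
    rw [HasAntidiagonal.mem_antidiagonal] at hk
    by_cases hk1 : k.1 = 0
    · have hk2 : k.2 ≠ 0 := by omega
      exact Ideal.mul_mem_left _ _ (Ideal.mem_sup_right (δ.dpow_mem hk2 hb))
    · exact Ideal.mul_mem_right _ _ (Ideal.mem_sup_left (γ.dpow_mem hk1 ha))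
  add := by
    intro n x y hx hy
    obtain ⟨a, ha, b, hb, rfl⟩ := Submodule.mem_sup.mp hx
    obtain ⟨a', ha', b', hb', rfl⟩ := Submodule.mem_sup.mp hy
    have e : a + b + (a' + b') = (a + a') + (b + b') := by ring
    rw [e, dsup_eq h (I.add_mem ha ha') (J.add_mem hb hb')]
    have : EE γ δ (a + a') (b + b') = EE γ δ a b * EE γ δ a' b' := by
      unfold EE
      rw [γ.exp_add ha ha', δ.exp_add hb hb']
      ring
    rw [this, PowerSeries.coeff_mul]
    refine Finset.sum_congr rfl fun k _ => ?_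
    rw [dsup_eq h ha hb, dsup_eq h ha' hb']
  mul := by
    intro n c x hx
    obtain ⟨a, ha, b, hb, rfl⟩ := Submodule.mem_sup.mp hx
    rw [mul_add, dsup_eq_sum h (I.mul_mem_left c ha) (J.mul_mem_left c hb), dsup_eq_sum h ha hb,
      Finset.mul_sum]
    refine Finset.sum_congr rfl fun k hk => ?_
    rw [HasAntidiagonal.mem_antidiagonal] at hk
    rw [γ.dpow_mul ha, δ.dpow_mul hb, ← hk, pow_add]
    ring

lemma span_union_eq : Ideal.span ((I : Set A) ∪ (J : Set A)) = I ⊔ J := by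
  rw [Ideal.span_union, Ideal.span_eq, Ideal.span_eq]

lemma mulRule_dsup (h : ∀ (n : ℕ) (x : A), x ∈ I ⊓ J → γ.dpow n x = δ.dpow n x) :
    ∀ x ∈ ((I : Set A) ∪ (J : Set A)), MulRule (dsup γ δ) x := by
  rintro x (hx | hx) m n
  · rw [dsup_left h hx, dsup_left h hx, dsup_left h hx]; exact γ.mul_dpow hx
  · rw [dsup_right h hx, dsup_right h hx, dsup_right h hx]; exact δ.mul_dpow hx

lemma compRule_dsup (h : ∀ (n : ℕ) (x : A), x ∈ I ⊓ J → γ.dpow n x = δ.dpow n x) :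
    ∀ x ∈ ((I : Set A) ∪ (J : Set A)), CompRule (dsup γ δ) x := by
  rintro x (hx | hx) m n hn
  · rw [dsup_left h hx, dsup_left h (γ.dpow_mem hn hx), dsup_left h hx]; exact γ.dpow_comp hn hx
  · rw [dsup_right h hx, dsup_right h (δ.dpow_mem hn hx), dsup_right h hx]
    exact δ.dpow_comp hn hx

/-- The divided power structure on `I ⊔ J`. -/
noncomputable def supDP (h : ∀ (n : ℕ) (x : A), x ∈ I ⊓ J → γ.dpow n x = δ.dpow n x) :
    DividedPowers (I ⊔ J) :=
  ofGenerators (preDP_dsup h) span_union_eq (mulRule_dsup h) (compRule_dsup h)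

theorem main (γ : DividedPowers I) (δ : DividedPowers J)
    (h : ∀ (n : ℕ) (x : A), x ∈ I ⊓ J → γ.dpow n x = δ.dpow n x) :
    ∃! ε : DividedPowers (I ⊔ J),
      (∀ (n : ℕ) (x : A), x ∈ I → ε.dpow n x = γ.dpow n x) ∧
        (∀ (n : ℕ) (x : A), x ∈ J → ε.dpow n x = δ.dpow n x) := by
  refine ⟨supDP h, ⟨fun n x hx => dsup_left h hx n, fun n x hx => dsup_right h hx n⟩, ?_⟩
  rintro ε ⟨h1, h2⟩
  refine DividedPowers.ext _ _ fun n x hx => ?_
  obtain ⟨a, ha, b, hb, rfl⟩ := Submodule.mem_sup.mp hx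
  rw [ε.dpow_add (Ideal.mem_sup_left ha) (Ideal.mem_sup_right hb)]
  change _ = dsup γ δ n (a + b)
  rw [dsup_eq_sum h ha hb]
  refine Finset.sum_congr rfl fun k _ => ?_
  rw [h1 _ _ ha, h2 _ _ hb]

end Groth.Agent.Lib.T1H4.DPowSup
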