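import Groth.Agent.Lib.T1H4DPowFreeA
import Groth.Agent.Lib.T1H4DPowSupA

/-!
# Divided powers on `I P + P_+` for a divided power polynomial algebra (helper4)
-/

set_option autoImplicit false
universe u v w

namespace Groth.Agent.Lib.T1H4.DPowFree

open Finset Nat Groth.Agent.Lib.T1H4.DPowGen Groth.Agent.Lib.T2H4.DPowPoly

section General

variable {R : Type u} [CommRing R] {Λ : Type w} {P : Type v} [CommRing P] [Algebra R P]
  (D : Pres R Λ P)

/-- The augmentation ideal (general index type). -/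
def augG : Ideal P := Ideal.span {y : P | ∃ (l : Λ) (n : ℕ), 1 ≤ n ∧ y = D.x l n}

lemma M_eq_prod (e : Λ →₀ ℕ) (s : Finset Λ) (hs : e.support ⊆ s) :
    D.b e = ∏ l ∈ s, D.x l (e l) := by
  rw [D.hb]
  exact Finsupp.prod_of_support_subset e hs _ fun l _ => D.hx0 l

lemma M_mul_exists (e f : Λ →₀ ℕ) : ∃ k : ℕ, D.b e * D.b f = (k : P) * D.b (e + f) := by
  classical
  set s := e.support ∪ f.support with hs
  refine ⟨∏ l ∈ s, (e l + f l).choose (e l), ?_⟩
  rw [M_eq_prod D e s Finset.subset_union_left, M_eq_prod D f s Finset.subset_union_right,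
    M_eq_prod D (e + f) s Finsupp.support_add, ← Finset.prod_mul_distrib, Nat.cast_prod,
    ← Finset.prod_mul_distrib]
  refine Finset.prod_congr rfl fun l _ => ?_
  rw [D.hxmul, Finsupp.add_apply]

lemma M_mem_augG {e : Λ →₀ ℕ} (he : e ≠ 0) : D.b e ∈ augG D := by
  classical
  obtain ⟨l0, hl0⟩ : ∃ l, e l ≠ 0 := by
    by_contra hne
    push Not at hne
    exact he (Finsupp.ext fun l => by simpa using hne l)
  have hmem : l0 ∈ e.support := Finsupp.mem_support_iff.mpr hl0
  rw [D.hb, Finsupp.prod, ← Finset.mul_prod_erase _ _ hmem]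
  exact Ideal.mul_mem_right _ _ (Ideal.subset_span ⟨l0, e l0, by omega, rfl⟩)

/-- The coordinate at the monomial `1`. -/
noncomputable def coord0G : P →ₗ[R] R := (Finsupp.lapply 0).comp D.b.repr.toLinearMap

lemma coord0G_M_ne {e : Λ →₀ ℕ} (he : e ≠ 0) : coord0G D (D.b e) = 0 := by
  classical
  simp only [coord0G, LinearMap.coe_comp, LinearEquiv.coe_coe, Function.comp_apply,
    Module.Basis.repr_self, Finsupp.lapply_apply, Finsupp.single_apply, if_neg he]

lemma x_eq_MG [DecidableEq Λ] (l : Λ) (n : ℕ) : D.x l n = D.b (Finsupp.single l n) := by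
  rw [D.hb]
  by_cases hn : n = 0
  · subst hn; simp [D.hx0]
  · rw [Finsupp.prod_single_index (D.hx0 l)]

lemma coord0G_mul_M {e : Λ →₀ ℕ} (he : e ≠ 0) (a : P) : coord0G D (a * D.b e) = 0 := by
  classical
  rw [repr_sum (b := D.b) a, Finset.sum_mul, map_sum]
  refine Finset.sum_eq_zero fun f _ => ?_
  obtain ⟨k, hk⟩ := M_mul_exists D f e
  rw [smul_mul_assoc, map_smul, hk, ← nsmul_eq_mul, map_nsmul, coord0G_M_ne, smul_zero, smul_zero]
  intro h
  apply he
  ext i
  have := DFunLike.congr_fun h i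
  simp only [Finsupp.add_apply, Finsupp.zero_apply] at this ⊢
  omega

lemma coord0G_of_mem {p : P} (hp : p ∈ augG D) : coord0G D p = 0 := by
  classical
  unfold augG at hp
  induction hp using Submodule.span_induction with
  | mem y hy =>
    obtain ⟨i, n, hn, rfl⟩ := hy
    rw [x_eq_MG, coord0G_M_ne]
    intro h
    have := DFunLike.congr_fun h i
    simp at this
    omega
  | zero => simp
  | add y z _ _ hy hz => rw [map_add, hy, hz, add_zero]
  | smul a y hy hcy =>
    rw [smul_eq_mul, repr_sum (b := D.b) y, Finset.mul_sum, map_sum]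
    refine Finset.sum_eq_zero fun f hf => ?_
    rw [mul_smul_comm, map_smul]
    by_cases hf0 : f = 0
    · subst hf0
      have : D.b.repr y 0 = 0 := hcy
      rw [this, zero_smul]
    · rw [coord0G_mul_M D hf0, smul_zero]

/-- `I P ∩ P_+ ⊆ (I P) P_+`. -/
lemma inf_le_mul (I : Ideal R) : I.map (algebraMap R P) ⊓ augG D ≤ I.map (algebraMap R P) * augG D := by
  classical
  rintro p ⟨hp1, hp2⟩
  have hc := (coordIn_iff (b := D.b) p).mpr hp1
  have h0 : D.b.repr p 0 = 0 := coord0G_of_mem D hp2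
  rw [repr_sum (b := D.b) p]
  refine Ideal.sum_mem _ fun f _ => ?_
  by_cases hf0 : f = 0
  · subst hf0; rw [h0, zero_smul]; exact Ideal.zero_mem _
  · rw [Algebra.smul_def]
    exact Ideal.mul_mem_mul (Ideal.mem_map_of_mem _ (hc f)) (M_mem_augG D hf0)

end General

/-- The statement of S18421. -/
theorem main_S18421 (R : Type u) [CommRing R] {I : Ideal R}
    (γ : DividedPowers I) (Λ : Type w)
    (P : Type v) [CommRing P] [Algebra R P] (x : Λ → ℕ → P)
    (hx0 : ∀ l, x l 0 = 1)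
    (hxmul : ∀ l n m, x l n * x l m = ((n + m).choose n : P) * x l (n + m))
    (b : Module.Basis (Λ →₀ ℕ) R P) (hb : ∀ e : Λ →₀ ℕ, b e = e.prod (fun l k => x l k))
    (δplus : DividedPowers (Ideal.span {y : P | ∃ (l : Λ) (n : ℕ), 1 ≤ n ∧ y = x l n}))
    (hδplus : ∀ (l : Λ) (n : ℕ), δplus.dpow n (x l 1) = x l n) :
    ∃! δ : DividedPowers (I.map (algebraMap R P) ⊔
        Ideal.span {y : P | ∃ (l : Λ) (n : ℕ), 1 ≤ n ∧ y = x l n}),
      γ.IsDPMorphism δ (algebraMap R P) ∧
        ∀ (n : ℕ) (y : P), y ∈ Ideal.span {y : P | ∃ (l : Λ) (n : ℕ), 1 ≤ n ∧ y = x l n} →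
          δ.dpow n y = δplus.dpow n y := by
  let D : Pres R Λ P := ⟨x, hx0, hxmul, b, hb⟩
  have hagree : ∀ (n : ℕ) (y : P), y ∈ I.map (algebraMap R P) ⊓ augG D →
      (extendFree γ b).dpow n y = δplus.dpow n y := by
    intro n y hy
    exact DividedPowers.coincide_on_smul (extendFree γ b) δplus (inf_le_mul D I hy)
  obtain ⟨ε, ⟨hε1, hε2⟩, hεu⟩ := Groth.Agent.Lib.T1H4.DPowSup.main (extendFree γ b) δplus hagree
  refine ⟨ε, ⟨⟨le_sup_left, fun a ha => ?_⟩, hε2⟩, ?_⟩
  · rw [hε1 _ _ (Ideal.mem_map_of_mem _ ha)]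
    exact (extendFree_isDPMorphism γ b).2 a ha
  · rintro δ ⟨hδ1, hδ2⟩
    exact hεu δ ⟨fun n y hy => eq_extendFree_of_isDPMorphism γ b δ hδ1 hy n, hδ2⟩

end Groth.Agent.Lib.T1H4.DPowFree
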