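import Mathlib.RingTheory.DividedPowers.RatAlgebra
import Mathlib.Data.Nat.Choose.Vandermonde
import Mathlib.Tactic

/-!
# Divided powers from generators (helper4), part A

Partial divided power data `PreDP`, the product rule `MulRule` and its stability under sums and
scalar multiples.
-/

set_option autoImplicit false
universe u

namespace Groth.Agent.Lib.T1H4.DPowGen

open Finset Nat

variable {A : Type u} [CommRing A]

/-- Partial divided power data: all axioms except the product and composition rules. -/
structure PreDP (I : Ideal A) (d : ℕ → A → A) : Prop where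
  null : ∀ (n : ℕ) (x : A), x ∉ I → d n x = 0
  zero : ∀ x ∈ I, d 0 x = 1
  one : ∀ x ∈ I, d 1 x = x
  mem : ∀ (n : ℕ) (x : A), n ≠ 0 → x ∈ I → d n x ∈ I
  add : ∀ (n : ℕ) (x y : A), x ∈ I → y ∈ I →
    d n (x + y) = (antidiagonal n).sum fun k => d k.1 x * d k.2 y
  mul : ∀ (n : ℕ) (a x : A), x ∈ I → d n (a * x) = a ^ n * d n x

/-- The product rule at `x`. -/
def MulRule (d : ℕ → A → A) (x : A) : Prop :=
  ∀ m n : ℕ, d m x * d n x = ((m + n).choose m : A) * d (m + n) x

/-- The composition rule at `x`. -/
def CompRule (d : ℕ → A → A) (x : A) : Prop :=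
  ∀ m n : ℕ, n ≠ 0 → d m (d n x) = (uniformBell m n : A) * d (m * n) x

variable {I : Ideal A} {d : ℕ → A → A}

lemma PreDP.eval_zero (h : PreDP I d) {n : ℕ} (hn : n ≠ 0) : d n 0 = 0 := by
  have := h.mul n 0 0 I.zero_mem
  rw [zero_mul, zero_pow hn, zero_mul] at this
  exact this

lemma mulRule_zero (h : PreDP I d) : MulRule d (0 : A) := by
  intro m n
  by_cases hm : m = 0
  · subst hm
    by_cases hn : n = 0
    · subst hn; simp [h.zero 0 I.zero_mem]
    · simp [h.zero 0 I.zero_mem]
  · rw [h.eval_zero hm, zero_mul, h.eval_zero (by omega : m + n ≠ 0), mul_zero]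

lemma mulRule_smul (h : PreDP I d) {x : A} (hx : x ∈ I) (hr : MulRule d x) (a : A) :
    MulRule d (a * x) := by
  intro m n
  rw [h.mul m a x hx, h.mul n a x hx, h.mul (m + n) a x hx, pow_add]
  have := hr m n
  linear_combination (a ^ m * a ^ n) * this

/-- Exponential type sequences are stable under convolution. -/
lemma conv_mulRule (a b : ℕ → A)
    (ha : ∀ m n : ℕ, a m * a n = ((m + n).choose m : A) * a (m + n))
    (hb : ∀ m n : ℕ, b m * b n = ((m + n).choose m : A) * b (m + n)) (m n : ℕ) :
    ((antidiagonal m).sum fun k => a k.1 * b k.2) * ((antidiagonal n).sum fun k => a k.1 * b k.2)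
      = ((m + n).choose m : A) * (antidiagonal (m + n)).sum fun k => a k.1 * b k.2 := by
  have hV : ∀ p ∈ antidiagonal (m + n), ((m + n).choose m : A) * (a p.1 * b p.2) =
      (antidiagonal m).sum fun q => ((p.1.choose q.1 : A) * (p.2.choose q.2 : A)) * (a p.1 * b p.2) := by
    intro p hp
    rw [HasAntidiagonal.mem_antidiagonal] at hp
    rw [← Finset.sum_mul, ← hp, Nat.add_choose_eq]
    push_cast
    rfl
  rw [Finset.sum_mul_sum, Finset.mul_sum]
  refine Eq.trans ?_ (Finset.sum_congr rfl hV).symm
  conv_rhs => rw [Finset.sum_comm]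
  refine Finset.sum_congr rfl fun q hq => ?_
  rw [HasAntidiagonal.mem_antidiagonal] at hq
  -- the inner sum over `antidiagonal n`, shifted by `q`
  let e : ℕ × ℕ ↪ ℕ × ℕ :=
    ⟨fun r => (q.1 + r.1, q.2 + r.2), fun r s hrs => by
      simp only [Prod.mk.injEq, add_right_inj] at hrs
      exact Prod.ext hrs.1 hrs.2⟩
  have hsub : (antidiagonal n).map e ⊆ antidiagonal (m + n) := by
    intro p hp
    rw [mem_map] at hp
    obtain ⟨r, hr, rfl⟩ := hp
    rw [HasAntidiagonal.mem_antidiagonal] at hr ⊢
    simp only [e, Function.Embedding.coeFn_mk]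
    omega
  rw [← Finset.sum_subset hsub, Finset.sum_map]
  · refine Finset.sum_congr rfl fun r _ => ?_
    simp only [e, Function.Embedding.coeFn_mk]
    have h1 := ha q.1 r.1
    have h2 := hb q.2 r.2
    linear_combination h1 * (b q.2 * b r.2) + ((q.1 + r.1).choose q.1 : A) * a (q.1 + r.1) * h2
  · intro p hp hnp
    rw [HasAntidiagonal.mem_antidiagonal] at hp
    have : p.1 < q.1 ∨ p.2 < q.2 := by
      by_contra hcon
      push Not at hcon
      apply hnp
      rw [mem_map]
      refine ⟨(p.1 - q.1, p.2 - q.2), ?_, ?_⟩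
      · rw [HasAntidiagonal.mem_antidiagonal]; omega
      · simp only [e, Function.Embedding.coeFn_mk]
        ext <;> simp <;> omega
    rcases this with h | h
    · rw [Nat.choose_eq_zero_of_lt h]; simp
    · rw [Nat.choose_eq_zero_of_lt h]; simp

lemma mulRule_add (h : PreDP I d) {x y : A} (hx : x ∈ I) (hy : y ∈ I)
    (hrx : MulRule d x) (hry : MulRule d y) : MulRule d (x + y) := by
  intro m n
  rw [h.add m x y hx hy, h.add n x y hx hy, h.add (m + n) x y hx hy]
  exact conv_mulRule (fun k => d k x) (fun k => d k y) hrx hry m n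

/-- The product rule on a generating set gives the product rule on the ideal. -/
lemma mulRule_of_span (h : PreDP I d) {S : Set A} (hS : Ideal.span S = I)
    (hmul : ∀ x ∈ S, MulRule d x) : ∀ x ∈ I, MulRule d x := by
  intro x hx
  rw [← hS] at hx
  induction hx using Submodule.span_induction with
  | mem x hx => exact hmul x hx
  | zero => exact mulRule_zero h
  | add x y hx hy hrx hry =>
    have hx' : x ∈ I := by rw [← hS]; exact hx
    have hy' : y ∈ I := by rw [← hS]; exact hy
    exact mulRule_add h hx' hy' hrx hry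
  | smul a x hx hrx =>
    have hx' : x ∈ I := by rw [← hS]; exact hx
    exact mulRule_smul h hx' hrx a

end Groth.Agent.Lib.T1H4.DPowGen
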