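import Groth.Agent.Lib.T1H4DPowGenA

/-!
# Divided powers from generators (helper4), part B

The generic expansion of `d m (d n (x + y))`.
-/

set_option autoImplicit false
universe u

namespace Groth.Agent.Lib.T1H4.DPowGen

open Finset Nat

variable {A : Type u} [CommRing A] {I : Ideal A} {d : ℕ → A → A}

lemma compRule_zero (h : PreDP I d) : CompRule d (0 : A) := by
  intro m n hn
  rw [h.eval_zero hn]
  by_cases hm : m = 0
  · subst hm; simp [h.zero 0 I.zero_mem, uniformBell_zero_left]
  · rw [h.eval_zero hm, h.eval_zero (Nat.mul_ne_zero hm hn), mul_zero]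

lemma compRule_smul (h : PreDP I d) {x : A} (hx : x ∈ I) (hr : CompRule d x) (a : A) :
    CompRule d (a * x) := by
  intro m n hn
  rw [h.mul n a x hx, h.mul m (a ^ n) (d n x) (h.mem n x hn hx), hr m n hn,
    h.mul (m * n) a x hx, ← pow_mul, Nat.mul_comm n m]
  ring

/-- Recursive coefficient of the `q`-th power of `d i x`. -/
def pw : ℕ → ℕ → ℕ
  | 0, _ => 1
  | q + 1, i => pw q i * (q * i + i).choose (q * i)

lemma pow_dpow {x : A} (hr : MulRule d x) (hx0 : d 0 x = 1) (i q : ℕ) :
    d i x ^ q = (pw q i : A) * d (q * i) x := by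
  induction q with
  | zero => simp [pw, hx0]
  | succ q ih =>
    rw [pow_succ, ih, mul_assoc, hr (q * i) i, pw, Nat.succ_mul]
    push_cast
    ring

lemma prod_dpow {ι : Type*} [DecidableEq ι] {x : A} (hr : MulRule d x) (hx0 : d 0 x = 1)
    (s : Finset ι) (a : ι → ℕ) :
    ∏ k ∈ s, d (a k) x = (Nat.multinomial s a : A) * d (∑ k ∈ s, a k) x := by
  induction s using Finset.induction with
  | empty => simp [hx0]
  | insert i s hi ih =>
    rw [prod_insert hi, ih, ← mul_assoc, mul_comm (d (a i) x), mul_assoc, hr, ← sum_insert hi,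
      ← mul_assoc]
    congr 1
    rw [Nat.multinomial_insert hi, mul_comm, Nat.cast_mul, sum_insert hi]

/-- Coefficient of a single term. -/
def cf (q i j : ℕ) : ℕ := if j = 0 then uniformBell q i else pw q i * uniformBell q j

lemma dpow_term (h : PreDP I d) {x y : A} (hx : x ∈ I) (hy : y ∈ I) (hrx : MulRule d x)
    (hcx : CompRule d x) (hcy : CompRule d y) (q i j : ℕ) (hij : i + j ≠ 0) :
    d q (d i x * d j y) = (cf q i j : A) * (d (q * i) x * d (q * j) y) := by
  by_cases hj : j = 0
  · subst hj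
    have hi : i ≠ 0 := by omega
    rw [h.zero y hy, mul_one, hcx q i hi, cf, if_pos rfl, Nat.mul_zero, h.zero y hy, mul_one]
  · rw [h.mul q (d i x) (d j y) (h.mem j y hj hy), hcy q j hj, pow_dpow hrx (h.zero x hx), cf,
      if_neg hj]
    push_cast
    ring

/-- The coefficient attached to a multiset of indices. -/
def Ck (m n : ℕ) (κ : Sym ℕ m) : ℕ :=
  (∏ k ∈ range (n + 1), cf (Multiset.count k κ) k (n - k)) *
    Nat.multinomial (range (n + 1)) (fun k => Multiset.count k κ * k) *
    Nat.multinomial (range (n + 1)) (fun k => Multiset.count k κ * (n - k))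

/-- The weight of a multiset of indices. -/
def pk (m n : ℕ) (κ : Sym ℕ m) : ℕ := ∑ k ∈ range (n + 1), Multiset.count k κ * k

lemma pk_add (m n : ℕ) (κ : Sym ℕ m) (hκ : κ ∈ (range (n + 1)).sym m) :
    pk m n κ + ∑ k ∈ range (n + 1), Multiset.count k κ * (n - k) = m * n := by
  unfold pk
  rw [← Finset.sum_add_distrib]
  have h1 : ∀ k ∈ range (n + 1), Multiset.count k (κ : Multiset ℕ) * k +
      Multiset.count k (κ : Multiset ℕ) * (n - k) = Multiset.count k (κ : Multiset ℕ) * n := by
    intro k hk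
    rw [mem_range] at hk
    rw [← Nat.mul_add]
    congr 1
    omega
  rw [Finset.sum_congr rfl h1, ← Finset.sum_mul]
  congr 1
  rw [mem_sym_iff] at hκ
  have h2 := Multiset.sum_count_eq_card (s := range (n + 1)) (m := (κ : Multiset ℕ))
    (fun a ha => hκ a ha)
  exact h2.trans κ.2

lemma expand (h : PreDP I d) {x y : A} (hx : x ∈ I) (hy : y ∈ I) (hrx : MulRule d x)
    (hry : MulRule d y) (hcx : CompRule d x) (hcy : CompRule d y) (m n : ℕ) (hn : n ≠ 0) :
    d m (d n (x + y)) = ∑ κ ∈ (range (n + 1)).sym m,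
      (Ck m n κ : A) * (d (pk m n κ) x * d (m * n - pk m n κ) y) := by
  rw [h.add n x y hx hy, Finset.Nat.sum_antidiagonal_eq_sum_range_succ_mk]
  have hz : ∀ k ∈ range (n + 1), d k x * d (n - k) y ∈ I.toAddSubmonoid := by
    intro k hk
    rw [mem_range] at hk
    by_cases hk0 : k = 0
    · subst hk0
      exact I.mul_mem_left _ (h.mem _ y (by omega) hy)
    · exact I.mul_mem_right _ (h.mem _ x hk0 hx)
  rw [DividedPowers.dpow_sum' (I := I.toAddSubmonoid) d (fun {x} hx => h.zero x hx)
    (fun {n x y} hx hy => h.add n x y hx hy) (fun {n} hn => h.eval_zero hn) hz]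
  refine Finset.sum_congr rfl fun κ hκ => ?_
  have h1 : ∀ k ∈ range (n + 1), d (Multiset.count k (κ : Multiset ℕ)) (d k x * d (n - k) y) =
      (cf (Multiset.count k (κ : Multiset ℕ)) k (n - k) : A) *
        (d (Multiset.count k (κ : Multiset ℕ) * k) x *
          d (Multiset.count k (κ : Multiset ℕ) * (n - k)) y) := by
    intro k hk
    rw [mem_range] at hk
    exact dpow_term h hx hy hrx hcx hcy _ k (n - k) (by omega)
  rw [Finset.prod_congr rfl h1, Finset.prod_mul_distrib, Finset.prod_mul_distrib,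
    prod_dpow hrx (h.zero x hx), prod_dpow hry (h.zero y hy)]
  have h2 := pk_add m n κ hκ
  have h3 : ∑ k ∈ range (n + 1), Multiset.count k (κ : Multiset ℕ) * (n - k) =
      m * n - pk m n κ := by omega
  rw [h3]
  unfold Ck
  rw [← Nat.cast_prod]
  push_cast
  unfold pk
  ring

end Groth.Agent.Lib.T1H4.DPowGen
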