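import Groth.Agent.Lib.T1H4DPowGenB

/-!
# Divided powers from generators (helper4), part C

The numerical identity (via `ℚ[X]`), the composition rule for sums, and the main theorem.
-/

set_option autoImplicit false
universe u

namespace Groth.Agent.Lib.T1H4.DPowGen

open Finset Nat

variable {A : Type u} [CommRing A] {I : Ideal A} {d : ℕ → A → A}

/-- The total coefficient of `d u x * d (m n - u) y`. -/
def Nu (m n u : ℕ) : ℕ := ∑ κ ∈ (range (n + 1)).sym m with pk m n κ = u, Ck m n κ

lemma expand' (h : PreDP I d) {x y : A} (hx : x ∈ I) (hy : y ∈ I) (hrx : MulRule d x)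
    (hry : MulRule d y) (hcx : CompRule d x) (hcy : CompRule d y) (m n : ℕ) (hn : n ≠ 0) :
    d m (d n (x + y)) = ∑ u ∈ range (m * n + 1), (Nu m n u : A) * (d u x * d (m * n - u) y) := by
  rw [expand h hx hy hrx hry hcx hcy m n hn]
  have hmaps : ∀ κ ∈ (range (n + 1)).sym m, pk m n κ ∈ range (m * n + 1) := by
    intro κ hκ
    have := pk_add m n κ hκ
    rw [mem_range]; omega
  rw [← Finset.sum_fiberwise_of_maps_to hmaps]
  refine Finset.sum_congr rfl fun u _ => ?_
  unfold Nu
  rw [Nat.cast_sum, Finset.sum_mul]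
  refine Finset.sum_congr rfl fun κ hκ => ?_
  rw [(mem_filter.mp hκ).2]

/-- The standard divided powers on `ℚ[X]` satisfy the partial axioms. -/
lemma preDP_of_dividedPowers {R : Type*} [CommRing R] {J : Ideal R} (γ : DividedPowers J) :
    PreDP J γ.dpow where
  null := fun _ _ hx => γ.dpow_null hx
  zero := fun _ hx => γ.dpow_zero hx
  one := fun _ hx => γ.dpow_one hx
  mem := fun _ _ hn hx => γ.dpow_mem hn hx
  add := fun _ _ _ hx hy => γ.dpow_add hx hy
  mul := fun _ _ _ hx => γ.dpow_mul hx

lemma mulRule_of_dividedPowers {R : Type*} [CommRing R] {J : Ideal R} (γ : DividedPowers J)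
    {x : R} (hx : x ∈ J) : MulRule γ.dpow x := fun _ _ => γ.mul_dpow hx

lemma compRule_of_dividedPowers {R : Type*} [CommRing R] {J : Ideal R} (γ : DividedPowers J)
    {x : R} (hx : x ∈ J) : CompRule γ.dpow x := fun _ _ hn => γ.dpow_comp hn hx

/-- The numerical identity: every total coefficient is the uniform Bell number. -/
lemma Nu_eq (m n u : ℕ) (hn : n ≠ 0) (hu : u ≤ m * n) : Nu m n u = uniformBell m n := by
  classical
  let γ : DividedPowers (⊤ : Ideal (Polynomial ℚ)) := DividedPowers.RatAlgebra.dividedPowers ⊤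
  have hX : (Polynomial.X : Polynomial ℚ) ∈ (⊤ : Ideal (Polynomial ℚ)) := trivial
  have h1 : (1 : Polynomial ℚ) ∈ (⊤ : Ideal (Polynomial ℚ)) := trivial
  have key := expand' (preDP_of_dividedPowers γ) hX h1 (mulRule_of_dividedPowers γ hX)
    (mulRule_of_dividedPowers γ h1) (compRule_of_dividedPowers γ hX)
    (compRule_of_dividedPowers γ h1) m n hn
  rw [γ.dpow_comp hn (Submodule.mem_top), γ.dpow_add hX h1,
    Finset.Nat.sum_antidiagonal_eq_sum_range_succ_mk, Finset.mul_sum] at key
  have hval : ∀ v : ℕ, γ.dpow v (Polynomial.X : Polynomial ℚ) * γ.dpow (m * n - v) (1 : Polynomial ℚ) =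
      Polynomial.C (((v ! : ℚ)⁻¹) * (((m * n - v) ! : ℚ)⁻¹)) * Polynomial.X ^ v := by
    intro v
    rw [DividedPowers.RatAlgebra.dpow_eq_inv_fact_smul _ γ hX,
      DividedPowers.RatAlgebra.dpow_eq_inv_fact_smul _ γ h1, one_pow, Polynomial.smul_eq_C_mul, Polynomial.smul_eq_C_mul, map_mul,
      Ring.inverse_eq_inv']
    ring
  have key2 := congrArg (fun f : Polynomial ℚ => f.coeff u) key
  simp only [hval, Polynomial.finsetSum_coeff] at key2
  have hc : ∀ (c : ℚ) (v : ℕ), ((Polynomial.C c * Polynomial.X ^ v : Polynomial ℚ)).coeff u =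
      if v = u then c else 0 := by
    intro c v
    rw [Polynomial.coeff_C_mul, Polynomial.coeff_X_pow]
    by_cases hvu : v = u
    · subst hvu; simp
    · rw [if_neg (Ne.symm hvu), if_neg hvu, mul_zero]
  have hmem : u ∈ range (m * n + 1) := by rw [mem_range]; omega
  have hl : ∀ v ∈ range (m * n + 1),
      (((uniformBell m n : ℕ) : Polynomial ℚ) * (Polynomial.C (((v ! : ℚ)⁻¹) * (((m * n - v) ! : ℚ)⁻¹)) *
        Polynomial.X ^ v)).coeff u = if v = u then
          (uniformBell m n : ℚ) * (((v ! : ℚ)⁻¹) * (((m * n - v) ! : ℚ)⁻¹)) else 0 := by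
    intro v _
    have : ((uniformBell m n : ℕ) : Polynomial ℚ) = Polynomial.C ((uniformBell m n : ℕ) : ℚ) := by simp
    rw [this, ← mul_assoc, ← map_mul, hc]
  have hr : ∀ v ∈ range (m * n + 1),
      (((Nu m n v : ℕ) : Polynomial ℚ) * (Polynomial.C (((v ! : ℚ)⁻¹) * (((m * n - v) ! : ℚ)⁻¹)) *
        Polynomial.X ^ v)).coeff u = if v = u then
          (Nu m n v : ℚ) * (((v ! : ℚ)⁻¹) * (((m * n - v) ! : ℚ)⁻¹)) else 0 := by
    intro v _
    have : ((Nu m n v : ℕ) : Polynomial ℚ) = Polynomial.C ((Nu m n v : ℕ) : ℚ) := by simp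
    rw [this, ← mul_assoc, ← map_mul, hc]
  rw [Finset.sum_congr rfl hl, Finset.sum_congr rfl hr, Finset.sum_ite_eq' _ u,
    Finset.sum_ite_eq' _ u, if_pos hmem, if_pos hmem] at key2
  have hne : ((u ! : ℚ)⁻¹) * (((m * n - u) ! : ℚ)⁻¹) ≠ 0 := by
    apply mul_ne_zero <;> apply inv_ne_zero <;> exact_mod_cast Nat.factorial_ne_zero _
  have := mul_right_cancel₀ hne key2
  exact_mod_cast this.symm

lemma compRule_add (h : PreDP I d) {x y : A} (hx : x ∈ I) (hy : y ∈ I) (hrx : MulRule d x)
    (hry : MulRule d y) (hcx : CompRule d x) (hcy : CompRule d y) : CompRule d (x + y) := by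
  intro m n hn
  rw [expand' h hx hy hrx hry hcx hcy m n hn, h.add (m * n) x y hx hy,
    Finset.Nat.sum_antidiagonal_eq_sum_range_succ_mk, Finset.mul_sum]
  refine Finset.sum_congr rfl fun u hu => ?_
  rw [mem_range] at hu
  rw [Nu_eq m n u hn (by omega)]

/-- The composition rule on a generating set (plus the product rule on the ideal) gives the
composition rule on the ideal. -/
lemma compRule_of_span (h : PreDP I d) {S : Set A} (hS : Ideal.span S = I)
    (hmul : ∀ x ∈ I, MulRule d x) (hcomp : ∀ x ∈ S, CompRule d x) : ∀ x ∈ I, CompRule d x := by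
  intro x hx
  rw [← hS] at hx
  induction hx using Submodule.span_induction with
  | mem x hx => exact hcomp x hx
  | zero => exact compRule_zero h
  | add x y hx hy hrx hry =>
    have hx' : x ∈ I := by rw [← hS]; exact hx
    have hy' : y ∈ I := by rw [← hS]; exact hy
    exact compRule_add h hx' hy' (hmul x hx') (hmul y hy') hrx hry
  | smul a x hx hrx =>
    have hx' : x ∈ I := by rw [← hS]; exact hx
    exact compRule_smul h hx' hrx a

/-- Divided powers from partial data and the two rules on generators. -/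
noncomputable def ofGenerators (h : PreDP I d) {S : Set A} (hS : Ideal.span S = I)
    (hmul : ∀ x ∈ S, MulRule d x) (hcomp : ∀ x ∈ S, CompRule d x) : DividedPowers I where
  dpow := d
  dpow_null := fun {n x} hx => h.null n x hx
  dpow_zero := fun {x} hx => h.zero x hx
  dpow_one := fun {x} hx => h.one x hx
  dpow_mem := fun {n x} hn hx => h.mem n x hn hx
  dpow_add := fun {n x y} hx hy => h.add n x y hx hy
  dpow_mul := fun {n a x} hx => h.mul n a x hx
  mul_dpow := fun {m n x} hx => mulRule_of_span h hS hmul x hx m n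
  dpow_comp := fun {m n x} hn hx =>
    compRule_of_span h hS (mulRule_of_span h hS hmul) hcomp x hx m n hn

@[simp] lemma ofGenerators_dpow (h : PreDP I d) {S : Set A} (hS : Ideal.span S = I)
    (hmul : ∀ x ∈ S, MulRule d x) (hcomp : ∀ x ∈ S, CompRule d x) :
    (ofGenerators h hS hmul hcomp).dpow = d := rfl

end Groth.Agent.Lib.T1H4.DPowGen
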