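import Groth.Agent.Lib.T1H4DPowUnivB
import Groth.Agent.Lib.T1H4DPowFreeB
import Groth.Agent.S19919

/-!
# The universal divided power polynomial algebra over a divided power ring (helper4)
-/

set_option autoImplicit false
universe u

namespace Groth.Agent.Lib.T1H4.DPowUniv

open MvPolynomial TensorProduct Groth.Agent.Lib.T2H4.DPowPoly Groth.Agent.Lib.T1H4.DPowFree

/-- The statement of S2213. -/
theorem main_S2213 {A : Type u} [CommRing A] {I : Ideal A} (γ : DividedPowers I) (t : ℕ) :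
    ∃ (D : Type u) (_ : CommRing D) (_ : Algebra A D) (J : Ideal D) (δ : DividedPowers J)
      (x : Fin t → D), (∀ i, x i ∈ J) ∧ γ.IsDPMorphism δ (algebraMap A D) ∧
      ∀ (C : Type u) [CommRing C] [Algebra A C] (K : Ideal C) (ε : DividedPowers K),
        γ.IsDPMorphism ε (algebraMap A C) → ∀ k : Fin t → C, (∀ i, k i ∈ K) →
          ∃! φ : D →ₐ[A] C, (∀ i, φ (x i) = k i) ∧ δ.IsDPMorphism ε φ.toRingHom := by
  classical
  let Pr := pres A t
  let δp : DividedPowers (Ideal.span {y : DP A t | ∃ (i : Fin t) (n : ℕ), 1 ≤ n ∧ y = Pr.x i n}) :=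
    Pr.dividedPowers
  have hδp : ∀ i n, δp.dpow n (Pr.x i 1) = Pr.x i n := Pr.dividedPowers_x
  obtain ⟨δ, ⟨hδ1, hδ2⟩, -⟩ :=
    main_S18421 A γ (Fin t) (DP A t) Pr.x Pr.hx0 Pr.hxmul Pr.b Pr.hb δp hδp
  refine ⟨DP A t, inferInstance, inferInstance, _, δ, fun i => Pr.x i 1, ?_, hδ1, ?_⟩
  · intro i; exact Ideal.mem_sup_right (Ideal.subset_span ⟨i, 1, le_rfl, rfl⟩)
  · intro C _ _ K ε hε k hk
    obtain ⟨φ, ⟨hφ1, hφ2⟩, hφu⟩ := Groth.Agent.S19919.result A t (DP A t) Pr.x Pr.hx0 Pr.hxmul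
      Pr.b Pr.hb δp hδp C K ε k hk
    refine ⟨φ, ⟨hφ2, ?_⟩, ?_⟩
    · refine DividedPowers.IsDPMorphism.on_span (S := (algebraMap A (DP A t)) '' (I : Set A) ∪
        ((Ideal.span {y : DP A t | ∃ (i : Fin t) (n : ℕ), 1 ≤ n ∧ y = Pr.x i n} : Ideal (DP A t)) :
          Set (DP A t))) δ ε ?_ ?_ ?_
      · rw [Ideal.span_union, Ideal.span_eq]; rfl
      · rintro s (⟨a, ha, rfl⟩ | hs)
        · have : φ.toRingHom (algebraMap A (DP A t) a) = algebraMap A C a := φ.commutes a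
          rw [this]
          exact hε.1 (Ideal.mem_map_of_mem _ ha)
        · exact hφ1.1 (Ideal.mem_map_of_mem _ hs)
      · rintro n s (⟨a, ha, rfl⟩ | hs)
        · have h1 : φ.toRingHom (algebraMap A (DP A t) a) = algebraMap A C a := φ.commutes a
          rw [h1, hδ1.2 a ha, hε.2 a ha]
          exact φ.commutes _
        · rw [hδ2 n s hs]
          exact (hφ1.2 s hs).symm
    · rintro ψ ⟨hψ1, hψ2⟩
      apply hφu
      refine ⟨⟨(Ideal.map_mono le_sup_right).trans hψ2.1, fun {n} y hy => ?_⟩, hψ1⟩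
      rw [← hδ2 n y hy]
      exact hψ2.2 y (Ideal.mem_sup_right hy)

end Groth.Agent.Lib.T1H4.DPowUniv
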