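import Mathlib
import Groth.Prelude.Def_DeRham
import Groth.Agent.Lib.T1H4DRBaseB

/-! Helper library (helper4): closed and exact forms under a base change of the ground field. -/

set_option autoImplicit false

namespace Groth.Agent.Lib.T1H4.DRBaseC

open ExteriorAlgebra TensorProduct Groth.Agent.Lib.T1H4.DRBaseB

universe u

variable {k K A A' : Type u} [CommRing k] [CommRing K] [Algebra k K]
  [CommRing A] [CommRing A'] [Algebra k A]
  [Algebra A A'] [Algebra k A'] [IsScalarTower k A A'] [Algebra K A'] [IsScalarTower k K A']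
  [Algebra.IsPushout k K A A']
  {ι : Type*} (bK : Module.Basis ι k K)
  (d : ∀ p : ℕ, ↥(⋀[A]^p (Ω[A⁄k])) →ₗ[k] ↥(⋀[A]^(p + 1) (Ω[A⁄k])))
  (d' : ∀ p : ℕ, ↥(⋀[A']^p (Ω[A'⁄K])) →ₗ[K] ↥(⋀[A']^(p + 1) (Ω[A'⁄K])))
  (ψ : ∀ p : ℕ, ↥(⋀[A]^p (Ω[A⁄k])) →+ ↥(⋀[A']^p (Ω[A'⁄K])))
  (hcomm : ∀ (p : ℕ) (x : ↥(⋀[A]^p (Ω[A⁄k]))), ψ (p + 1) (d p x) = d' p (ψ p x))

include hcomm in
lemma d_Ψ (p : ℕ) (f : ι →₀ ↥(⋀[A]^p (Ω[A⁄k]))) :
    d' p (Ψ bK ψ p f) = Ψ bK ψ (p + 1) (f.mapRange (d p) (map_zero _)) := by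
  rw [Ψ_apply, Ψ_apply, Finsupp.sum_mapRange_index (by
    intro i
    rw [map_zero, smul_zero]), map_finsuppSum]
  refine Finsupp.sum_congr (fun i _ => ?_)
  rw [map_smul, hcomm]

variable (hψ : DeRham.IsCxMap (KaehlerDifferential.D k A) (KaehlerDifferential.D K A')
  (algebraMap A A') ψ)

include hψ hcomm in
theorem main [Module.Free k K] (p : ℕ) :
    Submodule.span K (ψ p '' (DeRham.cocycles d p : Set ↥(⋀[A]^p (Ω[A⁄k])))) =
        DeRham.cocycles d' p ∧
      Submodule.span K (ψ p '' (DeRham.coboundaries d p : Set ↥(⋀[A]^p (Ω[A⁄k])))) =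
        DeRham.coboundaries d' p := by
  have bK := Module.Free.chooseBasis k K
  constructor
  · apply le_antisymm
    · rw [Submodule.span_le]
      rintro _ ⟨α, hα, rfl⟩
      have hα' : d p α = 0 := hα
      show d' p (ψ p α) = 0
      rw [← hcomm, hα', map_zero]
    · intro ω hω
      have hω' : d' p ω = 0 := hω
      obtain ⟨f, rfl⟩ := Ψ_surjective bK ψ hψ p ω
      rw [d_Ψ bK d d' ψ hcomm] at hω'
      have hf := Ψ_injective bK ψ hψ (p + 1) (hω'.trans (map_zero _).symm)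
      have hfi : ∀ i, d p (f i) = 0 := by
        intro i
        have := DFunLike.congr_fun hf i
        rwa [Finsupp.mapRange_apply] at this
      rw [Ψ_apply]
      refine Submodule.sum_mem _ (fun i _ => Submodule.smul_mem _ _ (Submodule.subset_span ?_))
      exact ⟨f i, hfi i, rfl⟩
  · cases p with
    | zero =>
      show Submodule.span K (ψ 0 '' ((⊥ : Submodule k ↥(⋀[A]^0 (Ω[A⁄k]))) :
        Set ↥(⋀[A]^0 (Ω[A⁄k])))) = (⊥ : Submodule K ↥(⋀[A']^0 (Ω[A'⁄K])))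
      rw [Submodule.bot_coe, Set.image_singleton, map_zero, Submodule.span_zero_singleton]
    | succ p =>
      show Submodule.span K (ψ (p + 1) '' ((LinearMap.range (d p) :
        Submodule k ↥(⋀[A]^(p + 1) (Ω[A⁄k]))) : Set ↥(⋀[A]^(p + 1) (Ω[A⁄k])))) =
          LinearMap.range (d' p)
      apply le_antisymm
      · rw [Submodule.span_le]
        rintro _ ⟨α, ⟨β, rfl⟩, rfl⟩
        exact ⟨ψ p β, (hcomm p β).symm⟩
      · rintro _ ⟨η, rfl⟩
        obtain ⟨f, rfl⟩ := Ψ_surjective bK ψ hψ p η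
        rw [d_Ψ bK d d' ψ hcomm, Ψ_apply, Finsupp.sum_mapRange_index (by
          intro i
          rw [map_zero, smul_zero])]
        refine Submodule.sum_mem _ (fun i _ => Submodule.smul_mem _ _ (Submodule.subset_span ?_))
        exact ⟨d p (f i), ⟨f i, rfl⟩, rfl⟩

end Groth.Agent.Lib.T1H4.DRBaseC
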