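import Mathlib

/-!
# Engel's theorem for finitely generated Lie algebras over an arbitrary commutative ring

If `L` is a Lie algebra over a commutative ring `A`, finitely generated as an `A`-module, and
`ad x` is nilpotent for every `x : L`, then `L` is nilpotent.  (Reduction to a Noetherian subring
generated by structure constants, then Mathlib's Engel theorem.)
-/

set_option autoImplicit false
universe u

namespace Groth.Agent.Lib.T1H4.FibNilp

open LieModule

section Abstract

variable {A₀ A : Type u} [CommRing A₀] [CommRing A] [Algebra A₀ A]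
variable {L : Type u} [LieRing L] [LieAlgebra A L] [LieAlgebra A₀ L] [IsScalarTower A₀ A L]

/-- the `A₀`-span of a family stable under brackets, as a Lie subalgebra over `A₀` -/
def spanSub {n : ℕ} (s : Fin n → L)
    (hs : ∀ i j, ⁅s i, s j⁆ ∈ Submodule.span A₀ (Set.range s)) : LieSubalgebra A₀ L where
  toSubmodule := Submodule.span A₀ (Set.range s)
  lie_mem' := by
    intro x y hx hy
    induction hx using Submodule.span_induction with
    | mem x hx =>
      obtain ⟨i, rfl⟩ := hx
      induction hy using Submodule.span_induction with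
      | mem y hy =>
        obtain ⟨j, rfl⟩ := hy
        exact hs i j
      | zero => simp
      | add y z _ _ hy hz => rw [lie_add]; exact Submodule.add_mem _ hy hz
      | smul a y _ hy => rw [lie_smul]; exact Submodule.smul_mem _ a hy
    | zero => simp
    | add x z _ _ hx hz => rw [add_lie]; exact Submodule.add_mem _ hx hz
    | smul a x _ hx => rw [smul_lie]; exact Submodule.smul_mem _ a hx

lemma mem_spanSub {n : ℕ} (s : Fin n → L)
    (hs : ∀ i j, ⁅s i, s j⁆ ∈ Submodule.span A₀ (Set.range s)) (x : L) :
    x ∈ spanSub s hs ↔ x ∈ Submodule.span A₀ (Set.range s) := Iff.rfl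

/-- the lower central series of `L` over `A` is spanned by that of `L` as a module over a
Lie subalgebra `L₀` over `A₀` which spans `L` over `A` -/
lemma lcs_le_span (L₀ : LieSubalgebra A₀ L)
    (hspan : Submodule.span A ((L₀ : Set L)) = ⊤) (k : ℕ) :
    LieSubmodule.toSubmodule (lowerCentralSeries A L L k) ≤
      Submodule.span A ((lowerCentralSeries A₀ L₀ L k : LieSubmodule A₀ L₀ L) : Set L) := by
  induction k with
  | zero =>
    simp only [lowerCentralSeries_zero, LieSubmodule.top_coe, Submodule.span_univ]
    exact le_top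
  | succ k ih =>
    rw [LieModule.lowerCentralSeries_succ, LieSubmodule.lieIdeal_oper_eq_linear_span, Submodule.span_le]
    have key : ∀ y ∈ Submodule.span A ((L₀ : Set L)),
        ∀ m ∈ Submodule.span A ((lowerCentralSeries A₀ L₀ L k : LieSubmodule A₀ L₀ L) : Set L),
        ⁅y, m⁆ ∈ Submodule.span A
          ((lowerCentralSeries A₀ L₀ L (k + 1) : LieSubmodule A₀ L₀ L) : Set L) := by
      intro y hy
      induction hy using Submodule.span_induction with
      | mem y hy =>
        intro m hm
        induction hm using Submodule.span_induction with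
        | mem m hm =>
          apply Submodule.subset_span
          rw [LieModule.lowerCentralSeries_succ]
          exact LieSubmodule.lie_mem_lie (I := (⊤ : LieIdeal A₀ L₀))
            (N := lowerCentralSeries A₀ L₀ L k) (x := ⟨y, hy⟩) (LieSubmodule.mem_top _) hm
        | zero => simp
        | add m m' _ _ h h' => rw [lie_add]; exact Submodule.add_mem _ h h'
        | smul a m _ h => rw [lie_smul]; exact Submodule.smul_mem _ a h
      | zero => intro m _; simp
      | add y y' _ _ h h' => intro m hm; rw [add_lie]; exact Submodule.add_mem _ (h m hm) (h' m hm)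
      | smul a y _ h => intro m hm; rw [smul_lie]; exact Submodule.smul_mem _ a (h m hm)
    rintro _ ⟨⟨y, -⟩, ⟨m, hm⟩, rfl⟩
    exact key y (by rw [hspan]; trivial) m (ih hm)

theorem isNilpotent_of_noetherian_sub [IsNoetherianRing A₀] {n : ℕ} (s : Fin n → L)
    (hspan : Submodule.span A (Set.range s) = ⊤)
    (hs : ∀ i j, ⁅s i, s j⁆ ∈ Submodule.span A₀ (Set.range s))
    (had : ∀ x : L, IsNilpotent (LieAlgebra.ad A L x)) : LieRing.IsNilpotent L := by
  let L₀ : LieSubalgebra A₀ L := spanSub s hs
  haveI : IsNoetherian A₀ L₀ := by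
    have hfg : (Submodule.span A₀ (Set.range s)).FG :=
      Submodule.fg_span (Set.finite_range s)
    exact isNoetherian_of_fg_of_noetherian _ hfg
  have hE : LieAlgebra.IsEngelian A₀ L₀ := LieAlgebra.isEngelian_of_isNoetherian
  have hnil : LieModule.IsNilpotent L₀ L := by
    apply hE L
    intro x
    obtain ⟨k, hk⟩ := had (x : L)
    refine ⟨k, ?_⟩
    apply LinearMap.ext
    intro m
    have h1 : ∀ j : ℕ, ((LieModule.toEnd A₀ L₀ L x) ^ j) m = ((LieAlgebra.ad A L (x : L)) ^ j) m := by
      intro j
      induction j generalizing m with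
      | zero => simp
      | succ j ih =>
        rw [pow_succ, pow_succ, Module.End.mul_apply, Module.End.mul_apply, ih]
        rfl
    rw [h1, hk]
    rfl
  obtain ⟨k, hk⟩ := (LieModule.isNilpotent_iff A₀ L₀ L).1 hnil
  rw [LieRing.IsNilpotent, LieModule.isNilpotent_iff A L L]
  refine ⟨k, ?_⟩
  have hsp : Submodule.span A ((L₀ : Set L)) = ⊤ := by
    rw [eq_top_iff, ← hspan]
    apply Submodule.span_mono
    rintro _ ⟨i, rfl⟩
    exact Submodule.subset_span ⟨i, rfl⟩
  have := lcs_le_span (A := A) L₀ hsp k
  rw [hk] at this
  rw [← LieSubmodule.toSubmodule_eq_bot, eq_bot_iff]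
  refine this.trans ?_
  simp

end Abstract

section Concrete

variable {A : Type u} [CommRing A] {L : Type u} [LieRing L] [LieAlgebra A L]

/-- **Engel's theorem** for a Lie algebra which is a finitely generated module over an arbitrary
commutative ring. -/
theorem isNilpotent_of_forall_ad_isNilpotent [Module.Finite A L]
    (had : ∀ x : L, IsNilpotent (LieAlgebra.ad A L x)) : LieRing.IsNilpotent L := by
  classical
  obtain ⟨n, s, hs⟩ := Module.Finite.exists_fin (R := A) (M := L)
  have hc : ∀ i j, ∃ c : Fin n → A, ∑ k, c k • s k = ⁅s i, s j⁆ := by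
    intro i j
    have : ⁅s i, s j⁆ ∈ Submodule.span A (Set.range s) := by rw [hs]; trivial
    exact (Submodule.mem_span_range_iff_exists_fun A).1 this
  choose c hc using hc
  let T : Finset A := Finset.univ.image (fun ijk : Fin n × Fin n × Fin n => c ijk.1 ijk.2.1 ijk.2.2)
  let A₀ : Subalgebra ℤ A := Algebra.adjoin ℤ (T : Set A)
  haveI : IsNoetherianRing A₀ := by
    have : Algebra.FiniteType ℤ A₀ :=
      (Subalgebra.fg_iff_finiteType _).1 (Subalgebra.fg_adjoin_finset T)
    exact Algebra.FiniteType.isNoetherianRing ℤ _
  letI : LieAlgebra A₀ L := { lie_smul := fun a x y => lie_smul (a : A) x y }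
  refine isNilpotent_of_noetherian_sub (A₀ := A₀) (A := A) s hs ?_ had
  intro i j
  rw [← hc i j]
  refine Submodule.sum_mem _ (fun k _ => ?_)
  have hmem : c i j k ∈ A₀ := by
    apply Algebra.subset_adjoin
    simp only [T, Finset.coe_image, Finset.coe_univ, Set.image_univ, Set.mem_range]
    exact ⟨(i, j, k), rfl⟩
  have : c i j k • s k = (⟨c i j k, hmem⟩ : A₀) • s k := rfl
  rw [this]
  exact Submodule.smul_mem _ _ (Submodule.subset_span ⟨k, rfl⟩)

end Concrete

end Groth.Agent.Lib.T1H4.FibNilp
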