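import Mathlib
import Groth.Agent.Lib.T1H4FibNilpA

/-!
# Fibrewise nilpotent Lie algebras (finitely generated as modules) are nilpotent

* `exists_smul_mem_of_tmul_eq_zero`: an element `y` of an `A`-module `L` vanishing in the fibre
  `κ(p) ⊗ L` satisfies `s • y ∈ p L` for some `s ∉ p`.
* `isNilpotent_of_fibrewise_zero`: an endomorphism of a finitely generated module which vanishes
  in every fibre is nilpotent.
* `isNilpotent_of_fibres`: a Lie algebra, finitely generated as a module, whose fibres are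
  nilpotent is nilpotent.
-/

set_option autoImplicit false
universe u

namespace Groth.Agent.Lib.T1H4.FibNilp

open scoped TensorProduct

section Mod

variable {A : Type u} [CommRing A] {L : Type u} [AddCommGroup L] [Module A L]

lemma exists_smul_mem_of_tmul_eq_zero (p : Ideal A) [p.IsPrime] (y : L)
    (hy : (1 : p.ResidueField) ⊗ₜ[A] y = 0) :
    ∃ s : A, s ∉ p ∧ s • y ∈ p • (⊤ : Submodule A L) := by
  have h1 : (1 : p.ResidueField) ⊗ₜ[A ⧸ p] ((1 : A ⧸ p) ⊗ₜ[A] y) = 0 := by
    apply (TensorProduct.AlgebraTensorModule.cancelBaseChange A (A ⧸ p) p.ResidueField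
      p.ResidueField L).injective
    rw [map_zero, TensorProduct.AlgebraTensorModule.cancelBaseChange_tmul, one_smul]
    exact hy
  haveI : IsLocalizedModule (nonZeroDivisors (A ⧸ p))
      (TensorProduct.mk (A ⧸ p) p.ResidueField ((A ⧸ p) ⊗[A] L) 1) :=
    (isLocalizedModule_iff_isBaseChange (nonZeroDivisors (A ⧸ p)) p.ResidueField _).2
      (TensorProduct.isBaseChange (A ⧸ p) ((A ⧸ p) ⊗[A] L) p.ResidueField)
  obtain ⟨c, hc⟩ := (IsLocalizedModule.eq_zero_iff (nonZeroDivisors (A ⧸ p))
    (TensorProduct.mk (A ⧸ p) p.ResidueField ((A ⧸ p) ⊗[A] L) 1)).1 h1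
  obtain ⟨s, hs⟩ := Ideal.Quotient.mk_surjective (c : A ⧸ p)
  refine ⟨s, ?_, ?_⟩
  · intro hsp
    have : (c : A ⧸ p) = 0 := by rw [← hs]; exact Ideal.Quotient.eq_zero_iff_mem.2 hsp
    exact nonZeroDivisors.coe_ne_zero c this
  · have h2 : (Ideal.Quotient.mk p s) ⊗ₜ[A] y = (0 : (A ⧸ p) ⊗[A] L) := by
      have : c • ((1 : A ⧸ p) ⊗ₜ[A] y) = (0 : (A ⧸ p) ⊗[A] L) := hc
      rw [Submonoid.smul_def, TensorProduct.smul_tmul', smul_eq_mul, mul_one, ← hs] at this
      exact this
    have h3 := congrArg (TensorProduct.quotTensorEquivQuotSMul L p) h2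
    rw [map_zero, TensorProduct.quotTensorEquivQuotSMul_mk_tmul] at h3
    exact (Submodule.Quotient.mk_eq_zero _).1 h3

open Polynomial in
theorem isNilpotent_of_fibrewise_zero [Module.Finite A L] (φ : Module.End A L)
    (h : ∀ (p : PrimeSpectrum A) (m : L), (1 : p.asIdeal.ResidueField) ⊗ₜ[A] φ m = 0) :
    IsNilpotent φ := by
  classical
  let J : Ideal A[X] := RingHom.ker (aeval φ : A[X] →ₐ[A] Module.End A L).toRingHom
  suffices hX : (X : A[X]) ∈ J.radical by
    obtain ⟨k, hk⟩ := hX
    refine ⟨k, ?_⟩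
    have : (aeval φ : A[X] →ₐ[A] Module.End A L) (X ^ k) = 0 := hk
    simpa using this
  rw [Ideal.radical_eq_sInf, Ideal.mem_sInf]
  rintro q ⟨hJq, hq⟩
  haveI := hq
  let p : PrimeSpectrum A := ⟨q.comap (C : A →+* A[X]), inferInstance⟩
  obtain ⟨s, hs, hrange⟩ : ∃ s : A, s ∉ p.asIdeal ∧
      LinearMap.range (s • φ) ≤ p.asIdeal • (⊤ : Submodule A L) := by
    obtain ⟨n, e, he⟩ := Module.Finite.exists_fin (R := A) (M := L)
    choose t ht ht' using fun i =>
      exists_smul_mem_of_tmul_eq_zero p.asIdeal (φ (e i)) (h p (e i))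
    refine ⟨∏ i, t i, ?_, ?_⟩
    · intro hmem
      obtain ⟨i, -, hi⟩ := (Ideal.IsPrime.prod_mem_iff (hp := p.2)).1 hmem
      exact ht i hi
    · rintro _ ⟨m, rfl⟩
      have hm : m ∈ Submodule.span A (Set.range e) := by rw [he]; trivial
      show (∏ i, t i) • φ m ∈ _
      induction hm using Submodule.span_induction with
      | mem m hm =>
        obtain ⟨i, rfl⟩ := hm
        rw [← Finset.mul_prod_erase Finset.univ t (Finset.mem_univ i), mul_comm, mul_smul]
        exact Submodule.smul_mem _ _ (ht' i)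
      | zero => simp
      | add m m' _ _ hm hm' => rw [map_add, smul_add]; exact Submodule.add_mem _ hm hm'
      | smul a m _ hm => rw [map_smul, smul_comm]; exact Submodule.smul_mem _ a hm
  obtain ⟨P, hmonic, -, hcoeff, hP⟩ :=
    LinearMap.exists_monic_and_natDegree_eq_and_coeff_mem_pow_and_aeval_eq_zero
      A (s • φ) p.asIdeal hrange
  -- the polynomial `P (sX)` lies in `J ⊆ q`
  have hQ : P.comp (C s * X) ∈ q := by
    apply hJq
    show (aeval φ : A[X] →ₐ[A] Module.End A L) (P.comp (C s * X)) = 0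
    rw [aeval_comp]
    have : (aeval φ : A[X] →ₐ[A] Module.End A L) (C s * X) = s • φ := by
      rw [map_mul, aeval_C, aeval_X, Algebra.algebraMap_eq_smul_one, smul_mul_assoc, one_mul]
    rw [this, hP]
  let f : A[X] →+* A[X] ⧸ q := Ideal.Quotient.mk q
  have hf : f (P.comp (C s * X)) = 0 := Ideal.Quotient.eq_zero_iff_mem.2 hQ
  have h2 : f (P.comp (C s * X)) = (f (C s * X)) ^ P.natDegree := by
    rw [Polynomial.comp, Polynomial.hom_eval₂, Polynomial.eval₂_eq_sum_range,
      Finset.sum_range_succ, Finset.sum_eq_zero, zero_add]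
    · have : P.coeff P.natDegree = 1 := hmonic.coeff_natDegree
      rw [this, RingHom.comp_apply, map_one, map_one, one_mul]
    · intro k hk
      rw [Finset.mem_range] at hk
      have hk' : P.coeff k ∈ p.asIdeal :=
        Ideal.pow_le_self (by omega) (hcoeff k)
      have : f (C (P.coeff k)) = 0 := Ideal.Quotient.eq_zero_iff_mem.2 hk'
      rw [RingHom.comp_apply, this, zero_mul]
  rw [h2] at hf
  have h3 : f (C s * X) = 0 := pow_eq_zero_iff (n := P.natDegree) (by
    intro h0
    -- degree zero monic polynomial is `1`; then `1 ∈ q`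
    rw [h0, pow_zero] at hf
    exact one_ne_zero hf) |>.1 hf
  have h4 : C s * X ∈ q := Ideal.Quotient.eq_zero_iff_mem.1 h3
  rcases hq.mem_or_mem h4 with h5 | h5
  · exact absurd h5 hs
  · exact h5

end Mod

section Lie

variable {A : Type u} [CommRing A] {L : Type u} [LieRing L] [LieAlgebra A L]

/-- in a fibre, `ad (1 ⊗ x) ^ k (1 ⊗ m) = 1 ⊗ (ad x ^ k) m` -/
lemma ad_pow_tmul (K : Type u) [CommRing K] [Algebra A K] (x m : L) (k : ℕ) :
    ((LieAlgebra.ad K (K ⊗[A] L) ((1 : K) ⊗ₜ[A] x)) ^ k) ((1 : K) ⊗ₜ[A] m) =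
      (1 : K) ⊗ₜ[A] ((LieAlgebra.ad A L x) ^ k) m := by
  induction k generalizing m with
  | zero => simp
  | succ k ih =>
    rw [pow_succ, pow_succ, Module.End.mul_apply, Module.End.mul_apply, LieAlgebra.ad_apply,
      LieAlgebra.ExtendScalars.bracket_tmul, mul_one, ih, LieAlgebra.ad_apply]

theorem ad_isNilpotent_of_fibres [Module.Finite A L]
    (h : ∀ p : PrimeSpectrum A, LieRing.IsNilpotent (p.asIdeal.ResidueField ⊗[A] L)) (x : L) :
    IsNilpotent (LieAlgebra.ad A L x) := by
  obtain ⟨n, e, he⟩ := Module.Finite.exists_fin (R := A) (M := L)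
  apply IsNilpotent.of_pow (m := n + 1)
  apply isNilpotent_of_fibrewise_zero
  intro p m
  haveI := h p
  rw [← ad_pow_tmul]
  obtain ⟨k, hk⟩ := LieAlgebra.nilpotent_ad_of_nilpotent_algebra p.asIdeal.ResidueField
    (p.asIdeal.ResidueField ⊗[A] L)
  have hfin : Module.finrank p.asIdeal.ResidueField (p.asIdeal.ResidueField ⊗[A] L) ≤ n := by
    have hspan : Submodule.span p.asIdeal.ResidueField
        (Set.range fun i => (1 : p.asIdeal.ResidueField) ⊗ₜ[A] e i) = ⊤ := by
      have h1 := Submodule.baseChange_span (R := A) (A := p.asIdeal.ResidueField) (M := L)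
        (Set.range e)
      rw [he, Submodule.baseChange_top] at h1
      rw [h1, ← Set.range_comp]
      rfl
    have h2 := finrank_range_le_card (R := p.asIdeal.ResidueField)
      (fun i => (1 : p.asIdeal.ResidueField) ⊗ₜ[A] e i)
    rw [Set.finrank, hspan, finrank_top, Fintype.card_fin] at h2
    exact h2
  set f := LieAlgebra.ad p.asIdeal.ResidueField (p.asIdeal.ResidueField ⊗[A] L)
    ((1 : p.asIdeal.ResidueField) ⊗ₜ[A] x) with hf
  have h3 : f ^ Module.finrank p.asIdeal.ResidueField (p.asIdeal.ResidueField ⊗[A] L) = 0 := by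
    have := Module.End.ker_pow_le_ker_pow_finrank f k
    rw [hk, LinearMap.ker_zero, top_le_iff, LinearMap.ker_eq_top] at this
    exact this
  have h4 : f ^ (n + 1) = 0 := pow_eq_zero_of_le (by omega) h3
  rw [h4, LinearMap.zero_apply]

/-- a Lie algebra over `A`, finitely generated as a module, with nilpotent fibres is nilpotent -/
theorem isNilpotent_of_fibres [Module.Finite A L]
    (h : ∀ p : PrimeSpectrum A, LieRing.IsNilpotent (p.asIdeal.ResidueField ⊗[A] L)) :
    LieRing.IsNilpotent L :=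
  isNilpotent_of_forall_ad_isNilpotent (A := A) (fun x => ad_isNilpotent_of_fibres h x)

end Lie

end Groth.Agent.Lib.T1H4.FibNilp
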