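import Mathlib

/-!
# Graded Jordan normal form of a homogeneous nilpotent endomorphism (S18983), part A:
projections and graded subspaces
-/

namespace Groth.Agent.Lib.T1H4.GrJordan

open Module

variable {k : Type*} [Field k] {Λ : Type*} [AddCommGroup Λ] [DecidableEq Λ]
  {V : Type*} [AddCommGroup V] [Module k V]
  (𝒱 : Λ → Submodule k V) [DirectSum.Decomposition 𝒱]

/-- the homogeneous component -/
noncomputable def proj (μ : Λ) : V →ₗ[k] V where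
  toFun v := ((DirectSum.decompose 𝒱 v) μ : V)
  map_add' x y := by simp [DirectSum.decompose_add]
  map_smul' c x := by
    rw [DirectSum.decompose_smul]
    change ((c • (DirectSum.decompose 𝒱 x) μ : 𝒱 μ) : V) = _
    rw [Submodule.coe_smul]
    rfl

theorem proj_apply (μ : Λ) (v : V) : proj 𝒱 μ v = ((DirectSum.decompose 𝒱 v) μ : V) := rfl

theorem proj_mem (μ : Λ) (v : V) : proj 𝒱 μ v ∈ 𝒱 μ := by
  rw [proj_apply]; exact Submodule.coe_mem _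

theorem proj_of_mem {μ : Λ} {v : V} (hv : v ∈ 𝒱 μ) : proj 𝒱 μ v = v := by
  rw [proj_apply]; exact DirectSum.decompose_of_mem_same 𝒱 hv

theorem proj_of_mem_ne {μ ν : Λ} {v : V} (hv : v ∈ 𝒱 ν) (h : ν ≠ μ) : proj 𝒱 μ v = 0 := by
  rw [proj_apply]; exact DirectSum.decompose_of_mem_ne 𝒱 hv h

theorem sum_proj (v : V) : ∃ s : Finset Λ, v = ∑ μ ∈ s, proj 𝒱 μ v := by
  classical
  exact ⟨_, (DirectSum.sum_support_decompose 𝒱 v).symm⟩

section hom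

variable {𝒱} {A : Module.End k V} {χ : Λ}
  (hhom : ∀ (μ : Λ) (v : V), v ∈ 𝒱 μ → A v ∈ 𝒱 (μ + χ))

include hhom

theorem A_proj (μ : Λ) (v : V) : A (proj 𝒱 μ v) = proj 𝒱 (μ + χ) (A v) := by
  classical
  obtain ⟨s, hs⟩ := sum_proj 𝒱 v
  have h1 : proj 𝒱 (μ + χ) (A v) = ∑ ν ∈ s, proj 𝒱 (μ + χ) (A (proj 𝒱 ν v)) := by
    conv_lhs => rw [hs]
    rw [map_sum, map_sum]
  have h2 : ∀ ν ∈ s, proj 𝒱 (μ + χ) (A (proj 𝒱 ν v)) = if ν = μ then A (proj 𝒱 μ v) else 0 := by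
    intro ν _
    split_ifs with h
    · subst h
      exact proj_of_mem 𝒱 (hhom _ _ (proj_mem 𝒱 _ v))
    · exact proj_of_mem_ne 𝒱 (hhom _ _ (proj_mem 𝒱 _ v)) (fun h' => h (add_right_cancel h'))
  rw [h1, Finset.sum_congr rfl h2, Finset.sum_ite_eq']
  split_ifs with hμ
  · rfl
  · -- `μ ∉ s`, so the component vanishes
    have h3 : proj 𝒱 μ v = ∑ ν ∈ s, proj 𝒱 μ (proj 𝒱 ν v) := by
      conv_lhs => rw [hs]
      rw [map_sum]
    have h4 : ∀ ν ∈ s, proj 𝒱 μ (proj 𝒱 ν v) = 0 := by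
      intro ν hν
      exact proj_of_mem_ne 𝒱 (proj_mem 𝒱 _ v) (fun h' => hμ (h' ▸ hν))
    rw [h3, Finset.sum_eq_zero h4, map_zero]

theorem Apow_hom (e : ℕ) (μ : Λ) (v : V) (hv : v ∈ 𝒱 μ) : (A ^ e) v ∈ 𝒱 (μ + e • χ) := by
  induction e with
  | zero => simpa using hv
  | succ e ih =>
    rw [pow_succ', Module.End.mul_apply, succ_nsmul, ← add_assoc]
    exact hhom _ _ ih

end hom

/-- graded subspace -/
def IsGr (U : Submodule k V) : Prop := ∀ μ, ∀ u ∈ U, proj 𝒱 μ u ∈ U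

variable {𝒱}

theorem IsGr.inf {U₁ U₂ : Submodule k V} (h₁ : IsGr 𝒱 U₁) (h₂ : IsGr 𝒱 U₂) : IsGr 𝒱 (U₁ ⊓ U₂) :=
  fun μ u hu => ⟨h₁ μ u hu.1, h₂ μ u hu.2⟩

theorem isGr_top : IsGr 𝒱 (⊤ : Submodule k V) := fun _ _ _ => trivial

section hom2

variable {A : Module.End k V} {χ : Λ}
  (hhom : ∀ (μ : Λ) (v : V), v ∈ 𝒱 μ → A v ∈ 𝒱 (μ + χ))

include hhom

theorem IsGr.map {U : Submodule k V} (h : IsGr 𝒱 U) : IsGr 𝒱 (U.map A) := by
  rintro ν _ ⟨u, hu, rfl⟩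
  have : ν = (ν - χ) + χ := by abel
  rw [this, ← A_proj hhom]
  exact ⟨_, h _ u hu, rfl⟩

theorem isGr_ker : IsGr 𝒱 (LinearMap.ker A) := by
  intro μ u hu
  rw [LinearMap.mem_ker] at hu ⊢
  rw [A_proj hhom, hu, map_zero]

/-- homogeneous lifting -/
theorem exists_lift {U : Submodule k V} (h : IsGr 𝒱 U) {e : V} (he : e ∈ U.map A) {ν : Λ}
    (heν : e ∈ 𝒱 ν) : ∃ f ∈ U, f ∈ 𝒱 (ν - χ) ∧ A f = e := by
  obtain ⟨u, hu, rfl⟩ := he
  refine ⟨proj 𝒱 (ν - χ) u, h _ u hu, proj_mem 𝒱 _ u, ?_⟩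
  rw [A_proj hhom, sub_add_cancel, proj_of_mem 𝒱 heν]

end hom2

/-- a graded subspace is spanned by its homogeneous elements -/
theorem IsGr.le_span {U : Submodule k V} (h : IsGr 𝒱 U) :
    U ≤ Submodule.span k {u | u ∈ U ∧ ∃ μ, u ∈ 𝒱 μ} := by
  intro u hu
  obtain ⟨s, hs⟩ := sum_proj 𝒱 u
  rw [hs]
  exact Submodule.sum_mem _ fun μ _ => Submodule.subset_span ⟨h μ u hu, μ, proj_mem 𝒱 μ u⟩

end Groth.Agent.Lib.T1H4.GrJordan
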