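import Mathlib
import Groth.Agent.Lib.T1H4GrJordanA

/-!
# Graded Jordan normal form (S18983), part B: homogeneous complements
-/

namespace Groth.Agent.Lib.T1H4.GrJordan

open Module

universe u v w

variable {k : Type u} [Field k] {Λ : Type v} [AddCommGroup Λ] [DecidableEq Λ]
  {V : Type w} [AddCommGroup V] [Module k V]
  {𝒱 : Λ → Submodule k V} [DirectSum.Decomposition 𝒱]

theorem exists_homog_compl [FiniteDimensional k V] {U₁ U₂ : Submodule k V} (h₂ : IsGr 𝒱 U₂)
    (hle : U₁ ≤ U₂) :
    ∃ (κ : Type w) (_ : Finite κ) (g : κ → V), (∀ j, g j ∈ U₂) ∧ (∀ j, ∃ μ, g j ∈ 𝒱 μ) ∧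
      LinearIndependent k g ∧ Disjoint (Submodule.span k (Set.range g)) U₁ ∧
      Submodule.span k (Set.range g) ⊔ U₁ = U₂ := by
  classical
  set q := U₁.mkQ with hq
  set H : Set (V ⧸ U₁) := q '' {u | u ∈ U₂ ∧ ∃ μ, u ∈ 𝒱 μ} with hH
  obtain ⟨b, hbH, hspan, hli⟩ := exists_linearIndependent k H
  have hex : ∀ x : b, ∃ u : V, (u ∈ U₂ ∧ ∃ μ, u ∈ 𝒱 μ) ∧ q u = x.1 := fun x => hbH x.2
  choose g hg using hex
  have hfin : Finite b := hli.finite
  letI : Fintype b := Fintype.ofFinite b
  have hqg : q ∘ g = ((↑) : b → V ⧸ U₁) := funext fun x => (hg x).2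
  refine ⟨b, hfin, g, fun j => (hg j).1.1, fun j => (hg j).1.2, ?_, ?_, ?_⟩
  · apply LinearIndependent.of_comp q
    rw [hqg]; exact hli
  · rw [Submodule.disjoint_def]
    intro x hx hx1
    obtain ⟨c, rfl⟩ := (Submodule.mem_span_range_iff_exists_fun k).1 hx
    have h0 : q (∑ j, c j • g j) = 0 := by
      rw [hq, Submodule.mkQ_apply, Submodule.Quotient.mk_eq_zero]; exact hx1
    rw [map_sum] at h0
    simp only [map_smul, (fun j => (hg j).2 : ∀ j, q (g j) = j.1)] at h0
    have hc := Fintype.linearIndependent_iff.1 hli c h0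
    simp [hc]
  · apply le_antisymm
    · rw [sup_le_iff]
      refine ⟨?_, hle⟩
      rw [Submodule.span_le]
      rintro _ ⟨j, rfl⟩
      exact (hg j).1.1
    · intro u hu
      have h1 : q u ∈ Submodule.span k H := by
        have := Submodule.mem_map_of_mem (f := q) (h₂.le_span hu)
        rwa [Submodule.map_span] at this
      rw [← hspan] at h1
      have h2 : Submodule.span k b = (Submodule.span k (Set.range g)).map q := by
        rw [Submodule.map_span, ← Set.range_comp, hqg, Subtype.range_coe]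
      rw [h2] at h1
      obtain ⟨y, hy, hyu⟩ := h1
      have h3 : u - y ∈ U₁ := by
        rw [← Submodule.ker_mkQ U₁, LinearMap.mem_ker, map_sub, ← hq, hyu, sub_self]
      have : u = y + (u - y) := by abel
      rw [this]
      exact Submodule.add_mem _ (Submodule.mem_sup_left hy) (Submodule.mem_sup_right h3)

end Groth.Agent.Lib.T1H4.GrJordan
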