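import Mathlib
import Groth.Agent.Lib.T1H4GrJordanB

/-!
# Graded Jordan normal form (S18983), part C: Jordan chains
-/

namespace Groth.Agent.Lib.T1H4.GrJordan

open Module

universe u v w

variable {k : Type u} [Field k] {V : Type w} [AddCommGroup V] [Module k V]
  {A : Module.End k V} {ι : Type*} {n : ι → ℕ} {t : ι → V}

theorem pow_apply_pow (A : Module.End k V) (d e : ℕ) (v : V) :
    (A ^ d) ((A ^ e) v) = (A ^ (d + e)) v := by
  rw [← Module.End.mul_apply, ← pow_add]

theorem pow_apply_eq_zero_of_le {A : Module.End k V} {m e : ℕ} {v : V} (h : (A ^ m) v = 0)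
    (hme : m ≤ e) : (A ^ e) v = 0 := by
  have : e = (e - m) + m := by omega
  rw [this, ← pow_apply_pow, h, map_zero]

/-- chain vector: `b ⟨i, l⟩ = A^(n i - l) (t i)` -/
def bvec (A : Module.End k V) (n : ι → ℕ) (t : ι → V) (x : Σ i, Fin (n i + 1)) : V :=
  (A ^ (n x.1 - x.2)) (t x.1)

theorem A_bvec_zero (hnil : ∀ i, (A ^ (n i + 1)) (t i) = 0) (i : ι) :
    A (bvec A n t ⟨i, 0⟩) = 0 := by
  have : A (bvec A n t ⟨i, 0⟩) = (A ^ 1) ((A ^ (n i - 0)) (t i)) := by
    rw [pow_one]; rfl
  rw [this, pow_apply_pow]
  exact pow_apply_eq_zero_of_le (hnil i) (by omega)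

theorem A_bvec_succ (i : ι) (l : Fin (n i)) :
    A (bvec A n t ⟨i, l.succ⟩) = bvec A n t ⟨i, l.castSucc⟩ := by
  have : A (bvec A n t ⟨i, l.succ⟩) = (A ^ 1) ((A ^ (n i - (l.succ : Fin (n i + 1)))) (t i)) := by
    rw [pow_one]; rfl
  rw [this, pow_apply_pow]
  unfold bvec
  have h2 : 1 + (n i - ((l.succ : Fin (n i + 1)) : ℕ)) = n i - ((l.castSucc : Fin (n i + 1)) : ℕ) := by
    have := l.2
    simp only [Fin.val_succ, Fin.val_castSucc]
    omega
  rw [h2]

theorem linearIndependent_bvec [Finite ι] (hnil : ∀ i, (A ^ (n i + 1)) (t i) = 0)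
    (hbot : LinearIndependent k (fun i => (A ^ (n i)) (t i))) :
    LinearIndependent k (bvec A n t) := by
  classical
  letI := Fintype.ofFinite ι
  rw [Fintype.linearIndependent_iff]
  intro c hc
  set N := Finset.univ.sup n with hNdef
  have hN : ∀ i, n i ≤ N := fun i => Finset.le_sup (Finset.mem_univ i)
  have key : ∀ m, ∀ x : Σ i, Fin (n i + 1), N < (x.2 : ℕ) + m → c x = 0 := by
    intro m
    induction m with
    | zero =>
      intro x hx
      exfalso
      have := x.2.2
      have := hN x.1
      omega
    | succ m ih =>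
      intro x hx
      by_cases hlt : N < (x.2 : ℕ) + m
      · exact ih x hlt
      · set d := (x.2 : ℕ) with hd
        have hcd : ∀ y : Σ i, Fin (n i + 1), d < (y.2 : ℕ) → c y = 0 :=
          fun y hy => ih y (by omega)
        have h1 : ∑ y, c y • (A ^ d) (bvec A n t y) = 0 := by
          have := congrArg (A ^ d) hc
          simpa [map_sum] using this
        have h2 : ∀ y : Σ i, Fin (n i + 1), c y • (A ^ d) (bvec A n t y) =
            if (y.2 : ℕ) = d then c y • (A ^ (n y.1)) (t y.1) else 0 := by
          intro y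
          split_ifs with hy
          · unfold bvec
            rw [pow_apply_pow]
            have : d + (n y.1 - (y.2 : ℕ)) = n y.1 := by have := y.2.2; omega
            rw [this]
          · rcases Nat.lt_or_gt_of_ne hy with hlt' | hgt
            · unfold bvec
              rw [pow_apply_pow, pow_apply_eq_zero_of_le (hnil y.1) (by have := y.2.2; omega),
                smul_zero]
            · rw [hcd y hgt, zero_smul]
        simp only [h2] at h1
        rw [Fintype.sum_sigma] at h1
        have h3 : ∀ i, ∑ l : Fin (n i + 1), (if ((l : ℕ)) = d then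
            c ⟨i, l⟩ • (A ^ (n i)) (t i) else 0) =
            (if h : d < n i + 1 then c ⟨i, ⟨d, h⟩⟩ else 0) • (A ^ (n i)) (t i) := by
          intro i
          by_cases h : d < n i + 1
          · rw [dif_pos h, Finset.sum_eq_single ⟨d, h⟩]
            · simp
            · intro l _ hl
              rw [if_neg]
              intro h'
              exact hl (Fin.ext h')
            · intro h'
              exact absurd (Finset.mem_univ _) h'
          · rw [dif_neg h, zero_smul]
            apply Finset.sum_eq_zero
            intro l _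
            rw [if_neg]
            have := l.2
            omega
        simp only [h3] at h1
        have h4 := Fintype.linearIndependent_iff.1 hbot _ h1 x.1
        have hx2 : d < n x.1 + 1 := x.2.2
        rw [dif_pos hx2] at h4
        exact h4
  intro x
  exact key (N + 1) x (by omega)

/-- the `A`-stable span of a family -/
def Cyc (A : Module.End k V) (t : ι → V) : Submodule k V :=
  Submodule.span k (Set.range fun p : ι × ℕ => (A ^ p.2) (t p.1))

theorem mem_Cyc (A : Module.End k V) (t : ι → V) (i : ι) (e : ℕ) : (A ^ e) (t i) ∈ Cyc A t :=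
  Submodule.subset_span ⟨(i, e), rfl⟩

theorem span_bvec (hnil : ∀ i, (A ^ (n i + 1)) (t i) = 0) :
    Submodule.span k (Set.range (bvec A n t)) = Cyc A t := by
  apply le_antisymm
  · rw [Submodule.span_le]
    rintro _ ⟨x, rfl⟩
    exact mem_Cyc A t x.1 _
  · rw [Cyc, Submodule.span_le]
    rintro _ ⟨⟨i, e⟩, rfl⟩
    by_cases he : e ≤ n i
    · refine Submodule.subset_span ⟨⟨i, ⟨n i - e, by omega⟩⟩, ?_⟩
      unfold bvec
      have : n i - (n i - e) = e := by omega
      simp only [this]
    · have : (A ^ e) (t i) = 0 := pow_apply_eq_zero_of_le (hnil i) (by omega)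
      simp only [this]
      exact Submodule.zero_mem _

end Groth.Agent.Lib.T1H4.GrJordan
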