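import Mathlib
import Groth.Agent.Lib.T1H4GrJordanC

/-!
# Graded Jordan normal form (S18983), part D: the induction
-/

namespace Groth.Agent.Lib.T1H4.GrJordan

open Module

universe u v w

variable {k : Type u} [Field k] {Λ : Type v} [AddCommGroup Λ] [DecidableEq Λ]
  {V : Type w} [AddCommGroup V] [Module k V]
  {𝒱 : Λ → Submodule k V} [DirectSum.Decomposition 𝒱] {A : Module.End k V} {χ : Λ}

/-- the inductive predicate -/
def P (𝒱 : Λ → Submodule k V) (A : Module.End k V) (U : Submodule k V) : Prop :=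
  ∃ (ι : Type w) (_ : Finite ι) (n : ι → ℕ) (t : ι → V),
    (∀ i, ∃ μ, t i ∈ 𝒱 μ) ∧ (∀ i, (A ^ (n i + 1)) (t i) = 0) ∧
    LinearIndependent k (fun i => (A ^ (n i)) (t i)) ∧
    Submodule.span k (Set.range fun i => (A ^ (n i)) (t i)) = U ⊓ LinearMap.ker A ∧
    Cyc A t = U

theorem P_bot : P 𝒱 A (⊥ : Submodule k V) := by
  refine ⟨PEmpty, inferInstance, fun i => i.elim, fun i => i.elim, fun i => i.elim,
    fun i => i.elim, linearIndependent_empty_type, ?_, ?_⟩
  · rw [Set.range_eq_empty, Submodule.span_empty, bot_inf_eq]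
  · rw [Cyc, Set.range_eq_empty, Submodule.span_empty]

theorem pow_mem_of_map_le {U : Submodule k V} (hU : U.map A ≤ U) (e : ℕ) {u : V} (hu : u ∈ U) :
    (A ^ e) u ∈ U := by
  induction e with
  | zero => simpa using hu
  | succ e ih =>
    rw [pow_succ', Module.End.mul_apply]
    exact hU ⟨_, ih, rfl⟩

theorem map_lt_of_isNilpotent (hnil : IsNilpotent A) {U : Submodule k V} (hU : U.map A ≤ U)
    (hU0 : U ≠ ⊥) : U.map A < U := by
  refine lt_of_le_of_ne hU fun heq => hU0 ?_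
  obtain ⟨N, hN⟩ := hnil
  have h1 : ∀ j : ℕ, U.map (A ^ j) = U := by
    intro j
    induction j with
    | zero => rw [pow_zero]; exact Submodule.map_id U
    | succ j ih =>
      rw [pow_succ, Module.End.mul_eq_comp, Submodule.map_comp, heq, ih]
  have := h1 N
  rw [hN] at this
  rw [← this]
  exact Submodule.map_zero U

theorem P_of_graded [FiniteDimensional k V] (hnil : IsNilpotent A)
    (hhom : ∀ (μ : Λ) (v : V), v ∈ 𝒱 μ → A v ∈ 𝒱 (μ + χ)) :
    ∀ (m : ℕ) (U : Submodule k V), finrank k U = m → IsGr 𝒱 U → U.map A ≤ U → P 𝒱 A U := by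
  intro m
  induction m using Nat.strong_induction_on with
  | _ m ih =>
  intro U hm hU hUA
  by_cases hU0 : U = ⊥
  · rw [hU0]; exact P_bot
  have hlt := map_lt_of_isNilpotent hnil hUA hU0
  have hflt : finrank k (U.map A) < m := hm ▸ Submodule.finrank_lt_finrank_of_lt hlt
  obtain ⟨ι, hfin, n, t, hhomog, hnilt, hbot, hbotspan, hcyc⟩ :=
    ih _ hflt (U.map A) rfl (hU.map hhom) (Submodule.map_mono hUA)
  have htU' : ∀ i, t i ∈ U.map A := by
    intro i
    rw [← hcyc]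
    simpa using mem_Cyc A t i 0
  have hex : ∀ i, ∃ f : V, f ∈ U ∧ (∃ μ, f ∈ 𝒱 μ) ∧ A f = t i := by
    intro i
    obtain ⟨ν, hν⟩ := hhomog i
    obtain ⟨f, hfU, hfν, hAf⟩ := exists_lift hhom hU (htU' i) hν
    exact ⟨f, hfU, ⟨_, hfν⟩, hAf⟩
  choose f hfU hfhom hAf using hex
  have hU₂gr : IsGr 𝒱 (U ⊓ LinearMap.ker A) := hU.inf (isGr_ker hhom)
  have hU₁le : U.map A ⊓ LinearMap.ker A ≤ U ⊓ LinearMap.ker A := inf_le_inf_right _ hUA
  obtain ⟨κ, hκ, g, hgU₂, hghom, hgli, hgdisj, hgsup⟩ := exists_homog_compl hU₂gr hU₁le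
  have hAg : ∀ j, A (g j) = 0 := fun j => LinearMap.mem_ker.1 (hgU₂ j).2
  -- the new data
  let n' : ι ⊕ κ → ℕ := Sum.elim (fun i => n i + 1) (fun _ => 0)
  let t' : ι ⊕ κ → V := Sum.elim f g
  have hbot' : (fun i' => (A ^ (n' i')) (t' i')) = Sum.elim (fun i => (A ^ (n i)) (t i)) g := by
    funext i'
    rcases i' with i | j
    · simp only [n', t', Sum.elim_inl]
      rw [pow_succ, Module.End.mul_apply, hAf]
    · simp only [n', t', Sum.elim_inr, pow_zero, Module.End.one_apply]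
  have ht'U : ∀ i', t' i' ∈ U := by
    rintro (i | j)
    · exact hfU i
    · exact (hgU₂ j).1
  have hspan' : Submodule.span k (Set.range fun i' => (A ^ (n' i')) (t' i')) =
      U ⊓ LinearMap.ker A := by
    rw [hbot', Set.Sum.elim_range, Submodule.span_union, hbotspan, sup_comm, hgsup]
  have hcycle : Cyc A t' ≤ U := by
    rw [Cyc, Submodule.span_le]
    rintro _ ⟨⟨i', e⟩, rfl⟩
    exact pow_mem_of_map_le hUA e (ht'U i')
  refine ⟨ι ⊕ κ, inferInstance, n', t', ?_, ?_, ?_, hspan', le_antisymm hcycle ?_⟩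
  · rintro (i | j)
    · exact hfhom i
    · exact hghom j
  · rintro (i | j)
    · simp only [n', t', Sum.elim_inl]
      rw [pow_succ, Module.End.mul_apply, hAf, hnilt]
    · simp only [n', t', Sum.elim_inr, zero_add, pow_one]
      exact hAg j
  · rw [hbot']
    refine LinearIndependent.sum_type hbot hgli ?_
    rw [hbotspan]
    exact hgdisj.symm
  · intro u hu
    have hAu : A u ∈ Cyc A t := by rw [hcyc]; exact ⟨u, hu, rfl⟩
    have hle : Cyc A t ≤ (Cyc A t').map A := by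
      rw [Cyc, Submodule.span_le]
      rintro _ ⟨⟨i, e⟩, rfl⟩
      refine ⟨(A ^ e) (f i), mem_Cyc A t' (Sum.inl i) e, ?_⟩
      have h1 : A ((A ^ e) (f i)) = (A ^ (e + 1)) (f i) := by
        rw [pow_succ', Module.End.mul_apply]
      rw [h1, pow_succ, Module.End.mul_apply, hAf]
    obtain ⟨c, hc, hAc⟩ := hle hAu
    have h2 : u - c ∈ U ⊓ LinearMap.ker A := by
      refine ⟨U.sub_mem hu (hcycle hc), ?_⟩
      show u - c ∈ LinearMap.ker A
      rw [LinearMap.mem_ker, map_sub, hAc, sub_self]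
    rw [← hspan'] at h2
    have h3 : Submodule.span k (Set.range fun i' => (A ^ (n' i')) (t' i')) ≤ Cyc A t' := by
      rw [Submodule.span_le]
      rintro _ ⟨i', rfl⟩
      exact mem_Cyc A t' i' _
    have : u = c + (u - c) := by abel
    rw [this]
    exact Submodule.add_mem _ hc (h3 h2)

theorem main [FiniteDimensional k V] (hnil : IsNilpotent A)
    (hhom : ∀ (μ : Λ) (v : V), v ∈ 𝒱 μ → A v ∈ 𝒱 (μ + χ)) :
    ∃ (ι : Type w) (_ : Finite ι) (n : ι → ℕ) (b : Module.Basis (Σ i : ι, Fin (n i + 1)) k V),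
      (∀ (i : ι) (l : Fin (n i + 1)), ∃ μ : Λ, b ⟨i, l⟩ ∈ 𝒱 μ) ∧
      (∀ i : ι, A (b ⟨i, 0⟩) = 0) ∧
      ∀ (i : ι) (l : Fin (n i)), A (b ⟨i, l.succ⟩) = b ⟨i, l.castSucc⟩ := by
  obtain ⟨ι, hfin, n, t, hhomog, hnilt, hbot, -, hcyc⟩ :=
    P_of_graded hnil hhom _ (⊤ : Submodule k V) rfl isGr_top le_top
  have hli := linearIndependent_bvec hnilt hbot
  have hsp : ⊤ ≤ Submodule.span k (Set.range (bvec A n t)) := by
    rw [span_bvec hnilt, hcyc]
  refine ⟨ι, hfin, n, Module.Basis.mk hli hsp, ?_, ?_, ?_⟩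
  · intro i l
    obtain ⟨μ, hμ⟩ := hhomog i
    rw [Module.Basis.mk_apply]
    exact ⟨_, Apow_hom hhom _ μ (t i) hμ⟩
  · intro i
    rw [Module.Basis.mk_apply]
    exact A_bvec_zero hnilt i
  · intro i l
    rw [Module.Basis.mk_apply, Module.Basis.mk_apply]
    exact A_bvec_succ i l

end Groth.Agent.Lib.T1H4.GrJordan
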