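import Mathlib
import Groth.Prelude.Def_CycAlg
import Groth.Agent.Lib.Helper22Hexagon

/-!
# Herbrand quotients of `(M, αβ, γ)`, `(M, α, βγ)`, `(M, β, αγ)` (helper4)

For pairwise commuting endomorphisms with `αβγ = 0` the cohomology modules of the three
(2,1)-periodic complexes sit in an exact hexagon.
-/

set_option autoImplicit false

namespace Groth.Agent.Lib.T1H4.HerbrandPow

open CycAlg Function

variable {R : Type*} [CommRing R] {M : Type*} [AddCommGroup M] [Module R M]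

theorem mem_submoduleOf_range (f g : M →ₗ[R] M) (x : LinearMap.ker f) :
    x ∈ (LinearMap.range g).submoduleOf (LinearMap.ker f) ↔ ∃ y, g y = (x : M) := Iff.rfl

/-- the map on cohomology induced by an endomorphism `θ` -/
def perMap (f g f' g' θ : M →ₗ[R] M) (h1 : ∀ x, f x = 0 → f' (θ x) = 0)
    (h2 : ∀ y, ∃ z, g' z = θ (g y)) : perH f g →ₗ[R] perH f' g' :=
  Submodule.mapQ _ _
    (θ.restrict (p := LinearMap.ker f) (q := LinearMap.ker f')
      (fun x hx => LinearMap.mem_ker.mpr (h1 x (LinearMap.mem_ker.mp hx))))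
    (by
      intro x hx
      obtain ⟨y, hy⟩ := (mem_submoduleOf_range f g x).mp hx
      rw [Submodule.mem_comap, mem_submoduleOf_range]
      obtain ⟨z, hz⟩ := h2 y
      exact ⟨z, by rw [hz, hy]; rfl⟩)

theorem perMap_mk (f g f' g' θ : M →ₗ[R] M) (h1 : ∀ x, f x = 0 → f' (θ x) = 0)
    (h2 : ∀ y, ∃ z, g' z = θ (g y)) (x : LinearMap.ker f) :
    perMap f g f' g' θ h1 h2 (Submodule.Quotient.mk x) =
      Submodule.Quotient.mk ⟨θ x, LinearMap.mem_ker.mpr (h1 x (LinearMap.mem_ker.mp x.2))⟩ := rfl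

theorem exact_perMap (f₁ g₁ f₂ g₂ f₃ g₃ θ₁ θ₂ : M →ₗ[R] M)
    (h1 : ∀ x, f₁ x = 0 → f₂ (θ₁ x) = 0) (h2 : ∀ y, ∃ z, g₂ z = θ₁ (g₁ y))
    (h1' : ∀ x, f₂ x = 0 → f₃ (θ₂ x) = 0) (h2' : ∀ y, ∃ z, g₃ z = θ₂ (g₂ y))
    (hi : ∀ x, f₁ x = 0 → ∃ z, g₃ z = θ₂ (θ₁ x))
    (hii : ∀ x, f₂ x = 0 → (∃ z, g₃ z = θ₂ x) → ∃ w, f₁ w = 0 ∧ ∃ y, x = θ₁ w + g₂ y) :
    Exact (perMap f₁ g₁ f₂ g₂ θ₁ h1 h2) (perMap f₂ g₂ f₃ g₃ θ₂ h1' h2') := by
  intro y
  obtain ⟨x, rfl⟩ := Submodule.Quotient.mk_surjective _ y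
  rw [perMap_mk, Submodule.Quotient.mk_eq_zero, mem_submoduleOf_range]
  constructor
  · intro hx
    obtain ⟨w, hw, y, hxy⟩ := hii x (LinearMap.mem_ker.mp x.2) hx
    refine ⟨Submodule.Quotient.mk ⟨w, LinearMap.mem_ker.mpr hw⟩, ?_⟩
    rw [perMap_mk, Submodule.Quotient.eq, mem_submoduleOf_range]
    refine ⟨-y, ?_⟩
    simp only [map_neg, Submodule.coe_sub]
    rw [hxy]
    abel
  · rintro ⟨w, hw⟩
    obtain ⟨w, rfl⟩ := Submodule.Quotient.mk_surjective _ w
    rw [perMap_mk, Submodule.Quotient.eq, mem_submoduleOf_range] at hw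
    obtain ⟨y, hy⟩ := hw
    obtain ⟨z, hz⟩ := hi w (LinearMap.mem_ker.mp w.2)
    obtain ⟨z', hz'⟩ := h2' y
    refine ⟨z - z', ?_⟩
    simp only [Submodule.coe_sub] at hy
    have : (x : M) = θ₁ w - g₂ y := by rw [hy]; abel
    change g₃ (z - z') = θ₂ (x : M)
    rw [this, map_sub, map_sub, hz, hz']

end Groth.Agent.Lib.T1H4.HerbrandPow

namespace Groth.Agent.Lib.T1H4.HerbrandPow

open CycAlg Function Groth.Agent.Lib.Helper22.Hexagon

variable {R : Type*} [CommRing R] {M : Type*} [AddCommGroup M] [Module R M]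

theorem triple (α β γ ab bc ac : M →ₗ[R] M) (hab : ab = α ∘ₗ β) (hbc : bc = β ∘ₗ γ)
    (hac : ac = α ∘ₗ γ) (cab : ∀ x, α (β x) = β (α x)) (cac : ∀ x, α (γ x) = γ (α x))
    (h0 : ∀ x, α (β (γ x)) = 0) :
    (Module.length R (perH ab γ) ≤ Module.length R (perH β ac) + Module.length R (perH α bc)) ∧
    (Module.length R (perH γ ab) ≤ Module.length R (perH ac β) + Module.length R (perH bc α)) ∧
    (Module.length R (perH β ac) + Module.length R (perH α bc) + Module.length R (perH γ ab) =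
      Module.length R (perH ab γ) + Module.length R (perH ac β) + Module.length R (perH bc α)) := by
  subst hab hbc hac
  have _ := h0
  -- the six maps
  let m1 := perMap β (α ∘ₗ γ) (α ∘ₗ β) γ LinearMap.id
    (fun x hx => by simp [hx]) (fun y => ⟨α y, by simp [cac]⟩)
  let m2 := perMap (α ∘ₗ β) γ α (β ∘ₗ γ) β
    (fun x hx => by simpa using hx) (fun y => ⟨y, by simp⟩)
  let m3 := perMap α (β ∘ₗ γ) (α ∘ₗ γ) β LinearMap.id
    (fun x hx => by simp [cac, hx]) (fun y => ⟨γ y, by simp⟩)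
  let m4 := perMap (α ∘ₗ γ) β γ (α ∘ₗ β) α
    (fun x hx => by rw [← cac]; simpa using hx) (fun y => ⟨y, by simp⟩)
  let m5 := perMap γ (α ∘ₗ β) (β ∘ₗ γ) α LinearMap.id
    (fun x hx => by simp [hx]) (fun y => ⟨β y, by simp⟩)
  let m6 := perMap (β ∘ₗ γ) α β (α ∘ₗ γ) γ
    (fun x hx => by simpa using hx) (fun y => ⟨y, by simp [cac]⟩)
  have e12 : Exact m1 m2 := by
    refine exact_perMap _ _ _ _ _ _ _ _ _ _ _ _ ?_ ?_
    · intro x hx
      exact ⟨0, by simp [hx]⟩
    · rintro x hx ⟨z, hz⟩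
      refine ⟨x - γ z, ?_, z, by simp⟩
      rw [map_sub, ← hz]
      simp
  have e23 : Exact m2 m3 := by
    refine exact_perMap _ _ _ _ _ _ _ _ _ _ _ _ ?_ ?_
    · intro x _
      exact ⟨x, by simp⟩
    · rintro x hx ⟨z, hz⟩
      refine ⟨z, ?_, 0, by simpa using hz.symm⟩
      simp only [LinearMap.id_coe, id_eq] at hz
      simp [hz, hx]
  have e34 : Exact m3 m4 := by
    refine exact_perMap _ _ _ _ _ _ _ _ _ _ _ _ ?_ ?_
    · intro x hx
      exact ⟨0, by simp [hx]⟩
    · rintro x hx ⟨z, hz⟩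
      refine ⟨x - β z, ?_, z, by simp⟩
      rw [map_sub, ← hz]
      simp
  have e45 : Exact m4 m5 := by
    refine exact_perMap _ _ _ _ _ _ _ _ _ _ _ _ ?_ ?_
    · intro x _
      exact ⟨x, by simp⟩
    · rintro x hx ⟨z, hz⟩
      simp only [LinearMap.id_coe, id_eq] at hz
      refine ⟨z, ?_, 0, by simp [hz]⟩
      simp only [LinearMap.coe_comp, comp_apply]
      rw [cac, hz, hx]
  have e56 : Exact m5 m6 := by
    refine exact_perMap _ _ _ _ _ _ _ _ _ _ _ _ ?_ ?_
    · intro x hx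
      exact ⟨0, by simp [hx]⟩
    · rintro x hx ⟨z, hz⟩
      simp only [LinearMap.coe_comp, comp_apply] at hz
      refine ⟨x - α z, ?_, z, by simp⟩
      rw [map_sub, ← hz, cac, sub_self]
  have e61 : Exact m6 m1 := by
    refine exact_perMap _ _ _ _ _ _ _ _ _ _ _ _ ?_ ?_
    · intro x _
      exact ⟨x, by simp⟩
    · rintro x hx ⟨z, hz⟩
      simp only [LinearMap.id_coe, id_eq] at hz
      refine ⟨z, ?_, 0, by simp [hz]⟩
      simp only [LinearMap.coe_comp, comp_apply]
      rw [hz, hx]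
  refine ⟨length_le_of_exact m1 m2 e12, ?_, hexagon m1 m2 m3 m4 m5 m6 e12 e23 e34 e45 e56 e61⟩
  have := length_le_of_exact m4 m5 e45
  exact this

end Groth.Agent.Lib.T1H4.HerbrandPow

namespace Groth.Agent.Lib.T1H4.HerbrandPow

open CycAlg Function

variable {R : Type*} [CommRing R] {M : Type*} [AddCommGroup M] [Module R M]

theorem subsingleton_perH (f g : M →ₗ[R] M) (h : ∀ x, f x = 0 → ∃ y, g y = x) :
    Subsingleton (perH f g) := by
  refine ⟨fun a b => ?_⟩
  obtain ⟨a, rfl⟩ := Submodule.Quotient.mk_surjective _ a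
  obtain ⟨b, rfl⟩ := Submodule.Quotient.mk_surjective _ b
  rw [Submodule.Quotient.eq, mem_submoduleOf_range]
  obtain ⟨y, hy⟩ := h ((a : M) - (b : M))
    (by rw [map_sub, LinearMap.mem_ker.mp a.2, LinearMap.mem_ker.mp b.2, sub_zero])
  exact ⟨y, by simpa using hy⟩

theorem length_perH_eq_zero (f g : M →ₗ[R] M) (h : ∀ x, f x = 0 → ∃ y, g y = x) :
    Module.length R (perH f g) = 0 := by
  haveI := subsingleton_perH f g h
  exact Module.length_eq_zero

theorem pow_apply_comm (φ : M →ₗ[R] M) (i j : ℕ) (x : M) :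
    (φ ^ i) ((φ ^ j) x) = (φ ^ j) ((φ ^ i) x) := by
  have := (Commute.pow_pow_self φ i j).eq
  have := LinearMap.congr_fun this x
  simpa [Module.End.mul_apply] using this

theorem pow_comp (φ : M →ₗ[R] M) (i j k : ℕ) (h : i + j = k) :
    φ ^ k = (φ ^ i) ∘ₗ (φ ^ j) := by
  rw [← h, pow_add, Module.End.mul_eq_comp]

/-- Step A: all cohomology modules are of finite length. -/
theorem stepA (φ : M →ₗ[R] M) (n : ℕ) (hn : 0 < n) (hφ : φ ^ n = 0)
    (hfin : Module.length R (perH φ (φ ^ (n - 1))) < ⊤) :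
    ∀ j ≤ n, Module.length R (perH (φ ^ j) (φ ^ (n - j))) < ⊤ := by
  intro j
  induction j with
  | zero =>
    intro _
    rw [length_perH_eq_zero]
    · simp
    · intro x hx
      rw [pow_zero, Module.End.one_apply] at hx
      exact ⟨0, by rw [map_zero, hx]⟩
  | succ j ih =>
    intro hj
    have hj' : j ≤ n := by omega
    have h1 := (triple φ (φ ^ j) (φ ^ (n - (j + 1))) (φ ^ (j + 1)) (φ ^ (n - 1)) (φ ^ (n - j))
      (by rw [pow_succ', Module.End.mul_eq_comp])
      (pow_comp φ _ _ _ (by omega))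
      (by rw [pow_comp φ 1 (n - (j + 1)) (n - j) (by omega), pow_one])
      (fun x => by simpa using pow_apply_comm φ 1 j x)
      (fun x => by simpa using pow_apply_comm φ 1 (n - (j + 1)) x)
      (fun x => by
        have h : φ ^ n = φ ^ 1 * (φ ^ j * φ ^ (n - (j + 1))) := by
          rw [← pow_add, ← pow_add]; congr 1; omega
        have := LinearMap.congr_fun h x
        rw [hφ] at this
        simpa [Module.End.mul_apply] using this.symm)).1
    refine lt_of_le_of_lt h1 ?_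
    exact ENat.add_lt_top.mpr ⟨ih hj', hfin⟩

theorem herbrand_add (φ : M →ₗ[R] M) (n : ℕ) (hφ : φ ^ n = 0)
    (P : ∀ j ≤ n, Module.length R (perH (φ ^ j) (φ ^ (n - j))) < ⊤) (i j : ℕ)
    (hij : i + j ≤ n) :
    herbrand R (φ ^ (i + j)) (φ ^ (n - (i + j))) =
      herbrand R (φ ^ i) (φ ^ (n - i)) + herbrand R (φ ^ j) (φ ^ (n - j)) := by
  have Q : ∀ k ≤ n, Module.length R (perH (φ ^ (n - k)) (φ ^ k)) < ⊤ := by
    intro k hk
    have := P (n - k) (Nat.sub_le _ _)
    rwa [Nat.sub_sub_self hk] at this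
  have h3 := (triple (φ ^ i) (φ ^ j) (φ ^ (n - (i + j))) (φ ^ (i + j)) (φ ^ (n - i)) (φ ^ (n - j))
      (pow_comp φ _ _ _ rfl)
      (pow_comp φ _ _ _ (by omega))
      (pow_comp φ _ _ _ (by omega))
      (fun x => pow_apply_comm φ i j x)
      (fun x => pow_apply_comm φ i _ x)
      (fun x => by
        have h : φ ^ n = φ ^ i * (φ ^ j * φ ^ (n - (i + j))) := by
          rw [← pow_add, ← pow_add]; congr 1; omega
        have := LinearMap.congr_fun h x
        rw [hφ] at this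
        simpa [Module.End.mul_apply] using this.symm)).2.2
  have p1 := P i (by omega)
  have p2 := P j (by omega)
  have p3 := P (i + j) hij
  have q1 := Q i (by omega)
  have q2 := Q j (by omega)
  have q3 := Q (i + j) hij
  unfold herbrand
  generalize Module.length R (perH (φ ^ i) (φ ^ (n - i))) = a1 at *
  generalize Module.length R (perH (φ ^ j) (φ ^ (n - j))) = a2 at *
  generalize Module.length R (perH (φ ^ (i + j)) (φ ^ (n - (i + j)))) = a3 at *
  generalize Module.length R (perH (φ ^ (n - i)) (φ ^ i)) = b1 at *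
  generalize Module.length R (perH (φ ^ (n - j)) (φ ^ j)) = b2 at *
  generalize Module.length R (perH (φ ^ (n - (i + j))) (φ ^ (i + j))) = b3 at *
  lift a1 to ℕ using ne_of_lt p1
  lift a2 to ℕ using ne_of_lt p2
  lift a3 to ℕ using ne_of_lt p3
  lift b1 to ℕ using ne_of_lt q1
  lift b2 to ℕ using ne_of_lt q2
  lift b3 to ℕ using ne_of_lt q3
  simp only [ENat.toNat_natCast]
  have h3' : a2 + a1 + b3 = a3 + b2 + b1 := by exact_mod_cast h3
  omega

theorem main (φ : M →ₗ[R] M) (n : ℕ) (hn : 0 < n) (hφ : φ ^ n = 0)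
    (hfin : Module.length R (perH φ (φ ^ (n - 1))) < ⊤) (i : ℕ) (hi : i ≤ n) :
    FinCoh R (φ ^ i) (φ ^ (n - i)) ∧ herbrand R (φ ^ i) (φ ^ (n - i)) = 0 := by
  have P := stepA φ n hn hφ hfin
  refine ⟨⟨P i hi, ?_⟩, ?_⟩
  · have := P (n - i) (Nat.sub_le _ _)
    rwa [Nat.sub_sub_self hi] at this
  · have hadd := herbrand_add φ n hφ P
    set a : ℕ → ℤ := fun k => herbrand R (φ ^ k) (φ ^ (n - k)) with ha
    have hadd' : ∀ i j, i + j ≤ n → a (i + j) = a i + a j := hadd
    have hn0 : a n = 0 := by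
      simp only [ha, herbrand]
      rw [length_perH_eq_zero, length_perH_eq_zero]
      · exact sub_self _
      · intro x hx
        rw [Nat.sub_self, pow_zero, Module.End.one_apply] at hx
        exact ⟨0, by rw [map_zero, hx]⟩
      · intro x _
        exact ⟨x, by rw [Nat.sub_self, pow_zero, Module.End.one_apply]⟩
    have hmul : ∀ k ≤ n, a k = k * a 1 := by
      intro k
      induction k with
      | zero =>
        intro _
        have := hadd' 0 0 (by omega)
        simp only [add_zero] at this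
        simp only [Nat.cast_zero, zero_mul]
        linarith
      | succ k ih =>
        intro hk
        rw [hadd' k 1 hk, ih (by omega)]
        push_cast
        ring
    have h1 : a 1 = 0 := by
      have := hmul n le_rfl
      rw [hn0] at this
      have hn' : (n : ℤ) ≠ 0 := by exact_mod_cast hn.ne'
      rcases mul_eq_zero.mp this.symm with h | h
      · exact absurd h hn'
      · exact h
    have := hmul i hi
    rw [h1, mul_zero] at this
    exact this

end Groth.Agent.Lib.T1H4.HerbrandPow
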