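import Mathlib

/-! Helper library (helper4): Hermite (row-reduced) normal form of square matrices of non-zero
determinant over `k[[t]]`: existence. -/

set_option autoImplicit false

namespace Groth.Agent.Lib.T1H4.HermiteA

open PowerSeries Matrix

universe u

variable {k : Type u} [Field k]

/-- all coefficients in degrees `≥ e` vanish -/
def Red (e : ℕ) (x : PowerSeries k) : Prop := ∀ n, e ≤ n → coeff n x = 0

lemma red_sub {e : ℕ} {x y : PowerSeries k} (hx : Red e x) (hy : Red e y) : Red e (x - y) := by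
  intro n hn
  rw [map_sub, hx n hn, hy n hn, sub_zero]

lemma red_zero (e : ℕ) : Red e (0 : PowerSeries k) := fun n _ => by simp

lemma red_dvd_zero {e : ℕ} {x : PowerSeries k} (hx : Red e x) (hd : (X : PowerSeries k) ^ e ∣ x) :
    x = 0 := by
  ext n
  rw [map_zero]
  by_cases hn : e ≤ n
  · exact hx n hn
  · exact X_pow_dvd_iff.mp hd n (not_le.mp hn)

lemma exists_red (e : ℕ) (x : PowerSeries k) : ∃ q : PowerSeries k, Red e (x - q * X ^ e) := by
  refine ⟨PowerSeries.mk (fun n => coeff (n + e) x), fun n hn => ?_⟩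
  rw [map_sub, coeff_mul_X_pow', if_pos hn, coeff_mk, Nat.sub_add_cancel hn, sub_self]

variable {r : ℕ} (M : Matrix (Fin r) (Fin r) (PowerSeries k))

/-- membership in the row space -/
def InL (v : Fin r → PowerSeries k) : Prop := ∃ c : Fin r → PowerSeries k, v = c ᵥ* M

lemma inL_zero : InL M 0 := ⟨0, (zero_vecMul M).symm⟩

lemma inL_add {v w : Fin r → PowerSeries k} (hv : InL M v) (hw : InL M w) : InL M (v + w) := by
  obtain ⟨c, rfl⟩ := hv
  obtain ⟨c', rfl⟩ := hw
  exact ⟨c + c', (add_vecMul M c c').symm⟩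

lemma inL_smul (a : PowerSeries k) {v : Fin r → PowerSeries k} (hv : InL M v) :
    InL M (a • v) := by
  obtain ⟨c, rfl⟩ := hv
  exact ⟨a • c, (smul_vecMul a c M).symm⟩

lemma inL_sub {v w : Fin r → PowerSeries k} (hv : InL M v) (hw : InL M w) : InL M (v - w) := by
  have : v - w = v + (-1 : PowerSeries k) • w := by
    rw [neg_smul, one_smul, sub_eq_add_neg]
  rw [this]
  exact inL_add M hv (inL_smul M _ hw)

lemma inL_row (i : Fin r) : InL M (M i) := by
  refine ⟨Pi.single i 1, ?_⟩
  rw [single_vecMul, one_smul]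
  rfl

lemma inL_single_det (i : Fin r) : InL M (Pi.single i M.det) := by
  refine ⟨M.adjugate i, ?_⟩
  have h := adjugate_mul M
  funext j
  have h2 := congrFun (congrFun h i) j
  rw [Matrix.mul_apply] at h2
  show _ = ∑ l, M.adjugate i l * M l j
  rw [h2, Matrix.smul_apply, Matrix.one_apply, Pi.single_apply]
  by_cases hij : i = j
  · rw [if_pos hij, if_pos hij.symm, smul_eq_mul, mul_one]
  · rw [if_neg hij, if_neg (Ne.symm hij), smul_zero]

/-- pivots: the minimal order of the `i`-th entry among rows vanishing before `i` -/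
theorem exists_pivot (hM : M.det ≠ 0) (i : Fin r) :
    ∃ (e : ℕ) (w : Fin r → PowerSeries k), InL M w ∧ (∀ j, j < i → w j = 0) ∧
      w i = (X : PowerSeries k) ^ e ∧
      ∀ w', InL M w' → (∀ j, j < i → w' j = 0) → (X : PowerSeries k) ^ e ∣ w' i := by
  classical
  have hex : ∃ n : ℕ, ∃ w : Fin r → PowerSeries k, InL M w ∧ (∀ j, j < i → w j = 0) ∧
      w i ≠ 0 ∧ (w i).order = n := by
    have hne : (Pi.single i M.det : Fin r → PowerSeries k) i ≠ 0 := by
      rw [Pi.single_eq_same]
      exact hM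
    have hfin := (order_finite_iff_ne_zero (φ := (Pi.single i M.det : Fin r → PowerSeries k) i)).mpr hne
    refine ⟨((Pi.single i M.det : Fin r → PowerSeries k) i).order.toNat, Pi.single i M.det,
      inL_single_det M i, ?_, hne, ?_⟩
    · intro j hj
      rw [Pi.single_apply, if_neg (ne_of_lt hj)]
    · exact (ENat.coe_toNat (ne_of_lt hfin)).symm
  obtain ⟨w, hwL, hwz, hwne, hwo⟩ := Nat.find_spec hex
  have hmin := fun m hm => Nat.find_min hex (m := m) hm
  set e := Nat.find hex with he
  -- `w i = X^e * g` with `g` a unit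
  have hdvd : (X : PowerSeries k) ^ e ∣ w i := by
    rw [X_pow_dvd_iff]
    intro m hm
    apply coeff_of_lt_order
    rw [hwo]
    exact_mod_cast hm
  obtain ⟨g, hg⟩ := hdvd
  have hgu : IsUnit g := by
    rw [isUnit_iff_constantCoeff, isUnit_iff_ne_zero]
    intro h0
    have h1 : coeff e (w i) = 0 := by
      rw [hg, coeff_X_pow_mul', if_pos le_rfl, Nat.sub_self, coeff_zero_eq_constantCoeff_apply, h0]
    have h2 : coeff (w i).order.toNat (w i) ≠ 0 := coeff_order hwne
    rw [hwo] at h2
    exact h2 h1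
  obtain ⟨u, rfl⟩ := hgu
  refine ⟨e, (↑u⁻¹ : PowerSeries k) • w, inL_smul M _ hwL, ?_, ?_, ?_⟩
  · intro j hj
    rw [Pi.smul_apply, hwz j hj, smul_zero]
  · rw [Pi.smul_apply, hg, smul_eq_mul, mul_comm, mul_assoc, Units.mul_inv, mul_one]
  · intro w' hw'L hw'z
    by_cases hw'0 : w' i = 0
    · rw [hw'0]
      exact dvd_zero _
    · rw [X_pow_dvd_iff]
      intro m hm
      by_contra hc
      have hle : (w' i).order ≤ m := order_le m hc
      have hfin : (w' i).order < ⊤ := order_finite_iff_ne_zero.mpr hw'0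
      have hlt : (w' i).order.toNat < e := by
        have : ((w' i).order.toNat : ℕ∞) ≤ m := by
          rw [ENat.coe_toNat (ne_of_lt hfin)]
          exact hle
        exact lt_of_le_of_lt (by exact_mod_cast this) hm
      exact hmin _ hlt ⟨w', hw'L, hw'z, hw'0, (ENat.coe_toNat (ne_of_lt hfin)).symm⟩

section existence

variable (e : Fin r → ℕ) (w : Fin r → Fin r → PowerSeries k)
  (hwL : ∀ i, InL M (w i)) (hwz : ∀ i j, j < i → w i j = 0)
  (hwi : ∀ i, w i i = (X : PowerSeries k) ^ e i)

include hwL hwz hwi in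
/-- reduction of a vector modulo the rows vanishing before `i` -/
theorem exists_reduce : ∀ (s i : ℕ), i + s = r → ∀ u : Fin r → PowerSeries k,
    ∃ z : Fin r → PowerSeries k, InL M z ∧ (∀ j : Fin r, (j : ℕ) < i → z j = 0) ∧
      ∀ j : Fin r, i ≤ (j : ℕ) → Red (e j) (u j - z j) := by
  intro s
  induction s with
  | zero =>
    intro i hi u
    refine ⟨0, inL_zero M, fun _ _ => rfl, fun j hj => ?_⟩
    exfalso
    have := j.2
    omega
  | succ s ih =>
    intro i hi u
    have hir : i < r := by omega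
    obtain ⟨q, hq⟩ := exists_red (e ⟨i, hir⟩) (u ⟨i, hir⟩)
    obtain ⟨z', hz'L, hz'z, hz'r⟩ := ih (i + 1) (by omega) (u - q • w ⟨i, hir⟩)
    refine ⟨q • w ⟨i, hir⟩ + z', inL_add M (inL_smul M q (hwL _)) hz'L, ?_, ?_⟩
    · intro j hj
      rw [Pi.add_apply, Pi.smul_apply, hwz ⟨i, hir⟩ j (by exact hj), smul_zero, zero_add,
        hz'z j (by omega)]
    · intro j hj
      rcases Nat.eq_or_lt_of_le hj with hji | hji
      · have hj' : j = ⟨i, hir⟩ := Fin.ext hji.symm
        rw [hj', Pi.add_apply, Pi.smul_apply, hwi, hz'z ⟨i, hir⟩ (by simp), add_zero, smul_eq_mul]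
        exact hq
      · have := hz'r j (by omega)
        have h2 : u j - (q • w ⟨i, hir⟩ + z') j = (u - q • w ⟨i, hir⟩) j - z' j := by
          simp only [Pi.add_apply, Pi.sub_apply]
          ring
        rw [h2]
        exact this

variable (hdiv : ∀ i w', InL M w' → (∀ j, j < i → w' j = 0) → (X : PowerSeries k) ^ e i ∣ w' i)
  (H : Matrix (Fin r) (Fin r) (PowerSeries k))
  (hHL : ∀ i, InL M (H i)) (hHz : ∀ i j, j < i → H i j = 0)
  (hHi : ∀ i, H i i = (X : PowerSeries k) ^ e i)

include hdiv hHL hHz hHi in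
/-- triangular elimination: the rows of `H` span the row space of `M` -/
theorem exists_coords : ∀ (s i : ℕ), i + s = r → ∀ v : Fin r → PowerSeries k, InL M v →
    (∀ j : Fin r, (j : ℕ) < i → v j = 0) → ∃ c : Fin r → PowerSeries k, v = c ᵥ* H := by
  classical
  intro s
  induction s with
  | zero =>
    intro i hi v _ hvz
    refine ⟨0, ?_⟩
    rw [zero_vecMul]
    funext j
    exact hvz j (by have := j.2; omega)
  | succ s ih =>
    intro i hi v hvL hvz
    have hir : i < r := by omega
    obtain ⟨a, ha⟩ := hdiv ⟨i, hir⟩ v hvL (fun j hj => hvz j hj)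
    obtain ⟨c', hc'⟩ := ih (i + 1) (by omega) (v - a • H ⟨i, hir⟩)
      (inL_sub M hvL (inL_smul M a (hHL _))) (by
        intro j hj
        rw [Pi.sub_apply, Pi.smul_apply]
        rcases Nat.eq_or_lt_of_le (Nat.lt_succ_iff.mp hj) with hji | hji
        · have hj' : j = ⟨i, hir⟩ := Fin.ext hji
          rw [hj', hHi, ha, smul_eq_mul, mul_comm, sub_self]
        · rw [hvz j hji, hHz ⟨i, hir⟩ j (by exact hji), smul_zero, sub_zero])
    refine ⟨c' + Pi.single ⟨i, hir⟩ a, ?_⟩
    rw [add_vecMul, single_vecMul, ← hc']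
    funext j
    simp only [Pi.add_apply, Pi.sub_apply, Pi.smul_apply]
    show v j = v j - a • H ⟨i, hir⟩ j + a • H ⟨i, hir⟩ j
    ring

end existence

/-- existence of the row-reduced form -/
theorem exists_hermite (hM : M.det ≠ 0) :
    ∃ (H N : Matrix (Fin r) (Fin r) (PowerSeries k)) (e : Fin r → ℕ),
      (∀ i, H i i = (X : PowerSeries k) ^ e i) ∧ (∀ i j, j < i → H i j = 0) ∧
      (∀ i j, i < j → Red (e j) (H i j)) ∧ IsUnit N ∧ N * M = H := by
  classical
  choose e w hwL hwz hwi hdiv using exists_pivot M hM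
  -- reduce each pivot row
  have hred : ∀ i : Fin r, ∃ z : Fin r → PowerSeries k, InL M z ∧
      (∀ j : Fin r, (j : ℕ) < (i : ℕ) + 1 → z j = 0) ∧
      ∀ j : Fin r, (i : ℕ) + 1 ≤ (j : ℕ) → Red (e j) (w i j - z j) := fun i =>
    exists_reduce M e w hwL hwz hwi (r - ((i : ℕ) + 1)) ((i : ℕ) + 1)
      (by have := i.2; omega) (w i)
  choose z hzL hzz hzr using hred
  set H : Matrix (Fin r) (Fin r) (PowerSeries k) := Matrix.of (fun i => w i - z i) with hH
  have hHL : ∀ i, InL M (H i) := fun i => inL_sub M (hwL i) (hzL i)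
  have hHz : ∀ i j, j < i → H i j = 0 := by
    intro i j hj
    show w i j - z i j = 0
    rw [hwz i j hj, hzz i j (by have : (j : ℕ) < (i : ℕ) := hj; omega), sub_zero]
  have hHi : ∀ i, H i i = (X : PowerSeries k) ^ e i := by
    intro i
    show w i i - z i i = _
    rw [hwi, hzz i i (by omega), sub_zero]
  have hHr : ∀ i j, i < j → Red (e j) (H i j) := by
    intro i j hij
    exact hzr i j (by have : (i : ℕ) < (j : ℕ) := hij; omega)
  -- coordinates
  have hN : ∀ i, ∃ c : Fin r → PowerSeries k, H i = c ᵥ* M := hHL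
  choose N hNM using hN
  have hN' : ∀ i, ∃ c : Fin r → PowerSeries k, M i = c ᵥ* H := fun i =>
    exists_coords M e hdiv H hHL hHz hHi r 0 (by omega) (M i) (inL_row M i)
      (fun j hj => absurd hj (Nat.not_lt_zero _))
  choose N' hN'H using hN'
  have h1 : Matrix.of N * M = H := by
    ext i j
    rw [Matrix.mul_apply]
    have := congrFun (hNM i) j
    rw [this]
    rfl
  have h2 : Matrix.of N' * H = M := by
    ext i j
    rw [Matrix.mul_apply]
    have := congrFun (hN'H i) j
    rw [this]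
    rfl
  have hdetH : H.det ≠ 0 := by
    intro h0
    apply hM
    rw [← h2, det_mul, h0, mul_zero]
  have hdet : (Matrix.of N).det * (Matrix.of N').det = 1 := by
    have h3 : (Matrix.of N).det * (Matrix.of N').det * H.det = H.det := by
      rw [mul_assoc, ← det_mul, h2, ← det_mul, h1]
    have h4 : ((Matrix.of N).det * (Matrix.of N').det - 1) * H.det = 0 := by
      rw [sub_mul, h3, one_mul, sub_self]
    rcases mul_eq_zero.mp h4 with h | h
    · exact sub_eq_zero.mp h
    · exact absurd h hdetH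
  refine ⟨H, Matrix.of N, e, hHi, hHz, hHr, ?_, h1⟩
  rw [Matrix.isUnit_iff_isUnit_det]
  exact IsUnit.of_mul_eq_one _ hdet

end Groth.Agent.Lib.T1H4.HermiteA
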