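import Mathlib
import Groth.Agent.Lib.T1H4HermiteA

/-! Helper library (helper4): Hermite (row-reduced) normal form over `k[[t]]`: uniqueness. -/

set_option autoImplicit false

namespace Groth.Agent.Lib.T1H4.HermiteB

open PowerSeries Matrix Groth.Agent.Lib.T1H4.HermiteA

universe u

variable {k : Type u} [Field k] {r : ℕ}

section tri

variable (H U : Matrix (Fin r) (Fin r) (PowerSeries k)) (e : Fin r → ℕ)
  (hHz : ∀ i j, j < i → H i j = 0) (hHi : ∀ i, H i i = (X : PowerSeries k) ^ e i)

include hHz hHi in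
lemma tri (hz : ∀ i j, j < i → (U * H) i j = 0) : ∀ i j, j < i → U i j = 0 := by
  intro i
  have key : ∀ n : ℕ, ∀ j : Fin r, (j : ℕ) = n → j < i → U i j = 0 := by
    intro n
    induction n using Nat.strong_induction_on with
    | _ n ih =>
      intro j hjn hji
      have h := hz i j hji
      rw [Matrix.mul_apply, Finset.sum_eq_single j] at h
      · rw [hHi] at h
        exact (mul_eq_zero.mp h).resolve_right (pow_ne_zero _ X_ne_zero)
      · intro l _ hlj
        rcases lt_or_gt_of_ne hlj with hl | hl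
        · rw [ih (l : ℕ) (by rw [← hjn]; exact hl) l rfl (lt_trans hl hji), zero_mul]
        · rw [hHz l j hl, mul_zero]
      · intro h
        exact absurd (Finset.mem_univ _) h
  exact fun j hj => key (j : ℕ) j rfl hj

include hHz hHi in
lemma diag (hU : ∀ i j, j < i → U i j = 0) (i : Fin r) :
    (U * H) i i = U i i * (X : PowerSeries k) ^ e i := by
  rw [Matrix.mul_apply, Finset.sum_eq_single i, hHi]
  · intro l _ hli
    rcases lt_or_gt_of_ne hli with hl | hl
    · rw [hU i l hl, zero_mul]
    · rw [hHz l i hl, mul_zero]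
  · intro h
    exact absurd (Finset.mem_univ _) h

include hHz hHi in
lemma upper (hU : ∀ i j, j < i → U i j = 0) (hU1 : ∀ i, U i i = 1)
    (hr : ∀ i j, i < j → Red (e j) (H i j)) (hr' : ∀ i j, i < j → Red (e j) ((U * H) i j)) :
    ∀ i j, i < j → U i j = 0 := by
  intro i
  have key : ∀ n : ℕ, ∀ j : Fin r, (j : ℕ) = n → i < j → U i j = 0 := by
    intro n
    induction n using Nat.strong_induction_on with
    | _ n ih =>
      intro j hjn hij
      have h1 : (U * H) i j = H i j + U i j * (X : PowerSeries k) ^ e j := by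
        rw [Matrix.mul_apply, Finset.sum_eq_add i j (ne_of_lt hij), hU1, one_mul, hHi]
        · intro l _ hl
          rcases lt_or_gt_of_ne hl.1 with hli | hli
          · rw [hU i l hli, zero_mul]
          · rcases lt_or_gt_of_ne hl.2 with hlj | hlj
            · rw [ih (l : ℕ) (by rw [← hjn]; exact hlj) l rfl hli, zero_mul]
            · rw [hHz l j hlj, mul_zero]
        · intro h
          exact absurd (Finset.mem_univ _) h
        · intro h
          exact absurd (Finset.mem_univ _) h
      have h2 : Red (e j) (U i j * (X : PowerSeries k) ^ e j) := by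
        have : U i j * (X : PowerSeries k) ^ e j = (U * H) i j - H i j := by
          rw [h1]
          ring
        rw [this]
        exact red_sub (hr' i j hij) (hr i j hij)
      have h3 := red_dvd_zero h2 (Dvd.intro_left _ rfl)
      exact (mul_eq_zero.mp h3).resolve_right (pow_ne_zero _ X_ne_zero)
  exact fun j hj => key (j : ℕ) j rfl hj

end tri

lemma X_pow_le {a b : ℕ} {c : PowerSeries k}
    (h : (X : PowerSeries k) ^ a = c * (X : PowerSeries k) ^ b) : b ≤ a := by
  have hd : (X : PowerSeries k) ^ b ∣ (X : PowerSeries k) ^ a := ⟨c, by rw [h, mul_comm]⟩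
  exact (pow_dvd_pow_iff X_ne_zero (Prime.not_unit X_prime)).mp hd

/-- uniqueness of the row-reduced form -/
theorem hermite_unique (M : Matrix (Fin r) (Fin r) (PowerSeries k))
    (H H' N N' : Matrix (Fin r) (Fin r) (PowerSeries k)) (e e' : Fin r → ℕ)
    (hHi : ∀ i, H i i = (X : PowerSeries k) ^ e i) (hHz : ∀ i j, j < i → H i j = 0)
    (hHr : ∀ i j, i < j → Red (e j) (H i j))
    (hH'i : ∀ i, H' i i = (X : PowerSeries k) ^ e' i) (hH'z : ∀ i j, j < i → H' i j = 0)
    (hH'r : ∀ i j, i < j → Red (e' j) (H' i j))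
    (hN : IsUnit N) (hNM : N * M = H) (hN' : IsUnit N') (hN'M : N' * M = H') : H' = H := by
  obtain ⟨Nu, rfl⟩ := hN
  obtain ⟨Nu', rfl⟩ := hN'
  set U : Matrix (Fin r) (Fin r) (PowerSeries k) :=
    (Nu' : Matrix (Fin r) (Fin r) (PowerSeries k)) *
      ((↑Nu⁻¹ : Matrix (Fin r) (Fin r) (PowerSeries k))) with hU
  set V : Matrix (Fin r) (Fin r) (PowerSeries k) :=
    (Nu : Matrix (Fin r) (Fin r) (PowerSeries k)) *
      ((↑Nu'⁻¹ : Matrix (Fin r) (Fin r) (PowerSeries k))) with hV
  have hi1 : ((↑Nu⁻¹ : Matrix (Fin r) (Fin r) (PowerSeries k))) *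
      (Nu : Matrix (Fin r) (Fin r) (PowerSeries k)) = 1 := Units.inv_mul Nu
  have hi2 : ((↑Nu'⁻¹ : Matrix (Fin r) (Fin r) (PowerSeries k))) *
      (Nu' : Matrix (Fin r) (Fin r) (PowerSeries k)) = 1 := Units.inv_mul Nu'
  have hUH : U * H = H' := by
    calc U * H = (Nu' : Matrix (Fin r) (Fin r) (PowerSeries k)) *
          (((↑Nu⁻¹ : Matrix (Fin r) (Fin r) (PowerSeries k))) *
            (Nu : Matrix (Fin r) (Fin r) (PowerSeries k))) * M := by
          rw [hU, ← hNM]
          simp only [Matrix.mul_assoc]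
      _ = H' := by rw [hi1, Matrix.mul_one, hN'M]
  have hVH : V * H' = H := by
    calc V * H' = (Nu : Matrix (Fin r) (Fin r) (PowerSeries k)) *
          (((↑Nu'⁻¹ : Matrix (Fin r) (Fin r) (PowerSeries k))) *
            (Nu' : Matrix (Fin r) (Fin r) (PowerSeries k))) * M := by
          rw [hV, ← hN'M]
          simp only [Matrix.mul_assoc]
      _ = H := by rw [hi2, Matrix.mul_one, hNM]
  have hUt := tri H U e hHz hHi (by rw [hUH]; exact hH'z)
  have hVt := tri H' V e' hH'z hH'i (by rw [hVH]; exact hHz)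
  have hUd := diag H U e hHz hHi hUt
  have hVd := diag H' V e' hH'z hH'i hVt
  rw [hUH] at hUd
  rw [hVH] at hVd
  have hee : ∀ i, e' i = e i := by
    intro i
    have h1 := hUd i
    have h2 := hVd i
    rw [hH'i] at h1
    rw [hHi] at h2
    exact le_antisymm (X_pow_le h2) (X_pow_le h1)
  have hU1 : ∀ i, U i i = 1 := by
    intro i
    have h1 := hUd i
    rw [hH'i, hee] at h1
    have h3 : (1 : PowerSeries k) * (X : PowerSeries k) ^ e i = U i i * (X : PowerSeries k) ^ e i := by
      rw [one_mul]
      exact h1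
    exact (mul_right_cancel₀ (pow_ne_zero _ X_ne_zero) h3).symm
  have hUu := upper H U e hHz hHi hUt hU1 hHr (by
    rw [hUH]
    intro i j hij
    have := hH'r i j hij
    rwa [hee] at this)
  have hUone : U = 1 := by
    ext i j
    rw [Matrix.one_apply]
    rcases lt_trichotomy i j with h | h | h
    · rw [if_neg (ne_of_lt h), hUu i j h]
    · rw [if_pos h, h, hU1]
    · rw [if_neg (ne_of_gt h), hUt i j h]
  rw [← hUH, hUone, Matrix.one_mul]

end Groth.Agent.Lib.T1H4.HermiteB
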