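import Mathlib
import Groth.Agent.Lib.T1H4HermiteA

/-! Helper library (helper4): row-reduced forms over `k[[t]]` after additional column operations
with entries in `k[[t^p]]`. -/

set_option autoImplicit false

namespace Groth.Agent.Lib.T1H4.HermiteC

open PowerSeries Matrix Groth.Agent.Lib.T1H4.HermiteA

universe u

variable {k : Type u} [Field k] (p : ℕ)

/-- power series in `t^p` -/
def Sp : Subring (PowerSeries k) where
  carrier := {f | ∀ n, ¬ p ∣ n → coeff n f = 0}
  mul_mem' := by
    intro f g hf hg n hn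
    rw [coeff_mul]
    refine Finset.sum_eq_zero (fun x hx => ?_)
    have hx' := Finset.HasAntidiagonal.mem_antidiagonal.mp hx
    by_cases h1 : p ∣ x.1
    · have h2 : ¬ p ∣ x.2 := by
        intro h2
        apply hn
        rw [← hx']
        exact dvd_add h1 h2
      rw [hg _ h2, mul_zero]
    · rw [hf _ h1, zero_mul]
  one_mem' := by
    intro n hn
    rw [coeff_one, if_neg]
    rintro rfl
    exact hn (dvd_zero _)
  add_mem' := by
    intro f g hf hg n hn
    rw [map_add, hf n hn, hg n hn, add_zero]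
  zero_mem' := by
    intro n _
    simp
  neg_mem' := by
    intro f hf n hn
    rw [map_neg, hf n hn, neg_zero]

lemma mem_Sp {f : PowerSeries k} : f ∈ Sp (k := k) p ↔ ∀ n, ¬ p ∣ n → coeff n f = 0 := Iff.rfl

variable {r : ℕ}

lemma mul_mem_Sp {P T : Matrix (Fin r) (Fin r) (PowerSeries k)}
    (hP : ∀ a b, P a b ∈ Sp (k := k) p) (hT : ∀ a b, T a b ∈ Sp (k := k) p) (a b : Fin r) :
    (P * T) a b ∈ Sp (k := k) p := by
  rw [Matrix.mul_apply]
  exact Subring.sum_mem _ (fun l _ => Subring.mul_mem _ (hP a l) (hT l b))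

lemma transvection_mem_Sp (i j : Fin r) {c : PowerSeries k} (hc : c ∈ Sp (k := k) p)
    (a b : Fin r) : (transvection i j c) a b ∈ Sp (k := k) p := by
  unfold transvection
  rw [Matrix.add_apply, Matrix.one_apply, Matrix.single_apply]
  refine Subring.add_mem _ ?_ ?_
  · split_ifs
    · exact Subring.one_mem _
    · exact Subring.zero_mem _
  · split_ifs
    · exact hc
    · exact Subring.zero_mem _

lemma isUnit_transvection {i j : Fin r} (h : i ≠ j) (c : PowerSeries k) :
    IsUnit (transvection i j c) := by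
  rw [Matrix.isUnit_iff_isUnit_det, det_transvection_of_ne i j h]
  exact isUnit_one

variable (M : Matrix (Fin r) (Fin r) (PowerSeries k)) (e : Fin r → ℕ)

/-- a valid state of the reduction -/
def Valid (H N P : Matrix (Fin r) (Fin r) (PowerSeries k)) : Prop :=
  IsUnit N ∧ IsUnit P ∧ (∀ a b, P a b ∈ Sp (k := k) p) ∧ N * M * P = H ∧
    (∀ i, H i i = (X : PowerSeries k) ^ e i) ∧ (∀ i j, j < i → H i j = 0)

/-- the target condition at a position -/
def Good (H : Matrix (Fin r) (Fin r) (PowerSeries k)) (i j : Fin r) : Prop :=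
  ∀ n, (e j ≤ n ∨ (e i ≤ n ∧ n % p = e i % p)) → coeff n (H i j) = 0

theorem step {H N P : Matrix (Fin r) (Fin r) (PowerSeries k)} (hv : Valid p M e H N P)
    {i j : Fin r} (hij : i < j) :
    ∃ H' N' P', Valid p M e H' N' P' ∧ Good p e H' i j ∧
      ∀ a b, ¬ (a = i ∧ j ≤ b) → ¬ (a < i ∧ b = j) → H' a b = H a b := by
  obtain ⟨hN, hP, hPS, hH, hHd, hHz⟩ := hv
  have hne : i ≠ j := ne_of_lt hij
  -- row operation
  obtain ⟨q, hq⟩ := exists_red (e j) (H i j)
  set H1 := transvection i j (-q) * H with hH1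
  have h1i : ∀ b, H1 i b = H i b + -q * H j b := fun b => transvection_mul_apply_same i j b (-q) H
  have h1o : ∀ a b, a ≠ i → H1 a b = H a b :=
    fun a b ha => transvection_mul_apply_of_ne i j a b ha (-q) H
  have h1lt : ∀ b, b < j → H1 i b = H i b := by
    intro b hb
    rw [h1i, hHz j b hb, mul_zero, add_zero]
  have h1d : ∀ l, H1 l l = (X : PowerSeries k) ^ e l := by
    intro l
    by_cases hl : l = i
    · rw [hl, h1lt i hij, hHd]
    · rw [h1o l l hl, hHd]
  have h1z : ∀ a b, b < a → H1 a b = 0 := by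
    intro a b hab
    by_cases ha : a = i
    · rw [ha, h1lt b (lt_trans (ha ▸ hab) hij), hHz i b (ha ▸ hab)]
    · rw [h1o a b ha, hHz a b hab]
  have h1ij : Red (e j) (H1 i j) := by
    have : H1 i j = H i j - q * (X : PowerSeries k) ^ e j := by
      rw [h1i, hHd]
      ring
    rw [this]
    exact hq
  -- column operation
  set c : PowerSeries k := PowerSeries.mk (fun m => if p ∣ m then -coeff (m + e i) (H1 i j) else 0)
    with hc
  have hcS : c ∈ Sp (k := k) p := by
    intro n hn
    rw [hc, coeff_mk, if_neg hn]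
  set H2 := H1 * transvection i j c with hH2
  have h2j : ∀ a, H2 a j = H1 a j + c * H1 a i := fun a => mul_transvection_apply_same i j a c H1
  have h2o : ∀ a b, b ≠ j → H2 a b = H1 a b :=
    fun a b hb => mul_transvection_apply_of_ne i j a b hb c H1
  have h2gt : ∀ a, i < a → H2 a j = H1 a j := by
    intro a ha
    rw [h2j, h1z a i ha, mul_zero, add_zero]
  have h2d : ∀ l, H2 l l = (X : PowerSeries k) ^ e l := by
    intro l
    by_cases hl : l = j
    · rw [hl, h2gt j hij, h1d]
    · rw [h2o l l hl, h1d]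
  have h2z : ∀ a b, b < a → H2 a b = 0 := by
    intro a b hab
    by_cases hb : b = j
    · rw [hb, h2gt a (lt_trans hij (hb ▸ hab)), h1z a j (hb ▸ hab)]
    · rw [h2o a b hb, h1z a b hab]
  have h2ij : H2 i j = H1 i j + c * (X : PowerSeries k) ^ e i := by
    rw [h2j, h1d]
  refine ⟨H2, transvection i j (-q) * N, P * transvection i j c, ⟨?_, ?_, ?_, ?_, h2d, h2z⟩, ?_, ?_⟩
  · exact (isUnit_transvection hne _).mul hN
  · exact hP.mul (isUnit_transvection hne _)
  · exact mul_mem_Sp p hPS (transvection_mem_Sp p i j hcS)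
  · rw [hH2, hH1, ← hH]
    simp only [Matrix.mul_assoc]
  · intro n hn
    rw [h2ij, map_add, coeff_mul_X_pow', hc]
    rcases hn with hn | ⟨hn1, hn2⟩
    · rw [h1ij n hn, zero_add]
      by_cases h1 : e i ≤ n
      · rw [if_pos h1, coeff_mk]
        by_cases h2 : p ∣ n - e i
        · rw [if_pos h2, Nat.sub_add_cancel h1, h1ij n hn, neg_zero]
        · rw [if_neg h2]
      · rw [if_neg h1]
    · have hdvd : p ∣ n - e i := (Nat.modEq_iff_dvd' hn1).mp hn2.symm
      rw [if_pos hn1, coeff_mk, if_pos hdvd, Nat.sub_add_cancel hn1, add_neg_cancel]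
  · intro a b h1 h2
    have e2 : H2 a b = H1 a b := by
      by_cases hb : b = j
      · rw [hb]
        rcases lt_trichotomy a i with ha | ha | ha
        · exact absurd ⟨ha, hb⟩ h2
        · exact absurd ⟨ha, hb ▸ le_rfl⟩ h1
        · exact h2gt a ha
      · exact h2o a b hb
    rw [e2]
    by_cases ha : a = i
    · rw [ha]
      refine h1lt b ?_
      by_contra hlt
      exact h1 ⟨ha, not_lt.mp hlt⟩
    · exact h1o a b ha

/-- the order in which positions are processed: by columns, and upwards in each column -/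
def rank (a b : Fin r) : ℕ := (b : ℕ) * r + (r - 1 - (a : ℕ))

lemma rank_le_of_le (i : Fin r) {j b : Fin r} (h : j ≤ b) : rank i j ≤ rank i b := by
  unfold rank
  have : (j : ℕ) * r ≤ (b : ℕ) * r := Nat.mul_le_mul_right r h
  omega

lemma rank_lt_of_lt {a i : Fin r} (j : Fin r) (h : a < i) : rank i j < rank a j := by
  unfold rank
  have h1 : (a : ℕ) < (i : ℕ) := h
  have h2 := i.2
  omega

lemma rank_inj {a b i j : Fin r} (h : rank a b = rank i j) : a = i ∧ b = j := by
  unfold rank at h
  have ha := a.2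
  have hi := i.2
  have hbj : (b : ℕ) = (j : ℕ) := by
    rcases lt_trichotomy (b : ℕ) (j : ℕ) with hlt | heq | hgt
    · exfalso
      have h1 : ((b : ℕ) + 1) * r ≤ (j : ℕ) * r := Nat.mul_le_mul_right r hlt
      rw [Nat.add_mul, one_mul] at h1
      omega
    · exact heq
    · exfalso
      have h1 : ((j : ℕ) + 1) * r ≤ (b : ℕ) * r := Nat.mul_le_mul_right r hgt
      rw [Nat.add_mul, one_mul] at h1
      omega
  rw [hbj] at h
  exact ⟨Fin.ext (by omega), Fin.ext hbj⟩

lemma rank_lt_bound (a b : Fin r) : rank a b < r * r + r + 1 := by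
  unfold rank
  have : (b : ℕ) * r ≤ r * r := Nat.mul_le_mul_right r b.2.le
  omega

theorem global {H0 N0 : Matrix (Fin r) (Fin r) (PowerSeries k)}
    (h0 : Valid p M e H0 N0 1) : ∀ n : ℕ, ∃ H N P, Valid p M e H N P ∧
      ∀ a b : Fin r, a < b → rank a b < n → Good p e H a b := by
  intro n
  induction n with
  | zero => exact ⟨H0, N0, 1, h0, fun a b _ h => absurd h (Nat.not_lt_zero _)⟩
  | succ n ih =>
    obtain ⟨H, N, P, hv, hg⟩ := ih
    by_cases hex : ∃ i j : Fin r, i < j ∧ rank i j = n
    · obtain ⟨i, j, hij, hr⟩ := hex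
      obtain ⟨H', N', P', hv', hg', hsame⟩ := step p M e hv hij
      refine ⟨H', N', P', hv', fun a b hab hlt => ?_⟩
      rcases Nat.lt_succ_iff_lt_or_eq.mp hlt with hlt' | heq
      · have hab' : H' a b = H a b := by
          apply hsame
          · rintro ⟨ha, hjb⟩
            have := rank_le_of_le i hjb
            rw [ha] at hlt'
            omega
          · rintro ⟨ha, hb⟩
            have := rank_lt_of_lt j ha
            rw [hb] at hlt'
            omega
        have := hg a b hab hlt'
        unfold Good at this ⊢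
        rw [hab']
        exact this
      · obtain ⟨ha, hb⟩ := rank_inj (heq.trans hr.symm)
        rw [ha, hb]
        exact hg'
    · refine ⟨H, N, P, hv, fun a b hab hlt => ?_⟩
      rcases Nat.lt_succ_iff_lt_or_eq.mp hlt with hlt' | heq
      · exact hg a b hab hlt'
      · exact absurd ⟨a, b, hab, heq⟩ hex

/-- the reduced form with column operations over `k[[t^p]]` -/
theorem main (hM : M.det ≠ 0) :
    ∃ (N P : Matrix (Fin r) (Fin r) (PowerSeries k)) (e : Fin r → ℕ), IsUnit N ∧ IsUnit P ∧
      (∀ i j n, ¬ p ∣ n → coeff n (P i j) = 0) ∧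
      (∀ i, (N * M * P) i i = (X : PowerSeries k) ^ e i) ∧ (∀ i j, j < i → (N * M * P) i j = 0) ∧
      (∀ i j, i < j → ∀ n, (e j ≤ n ∨ (e i ≤ n ∧ n % p = e i % p)) →
        coeff n ((N * M * P) i j) = 0) := by
  obtain ⟨H0, N0, e, h1, h2, _, h4, h5⟩ := exists_hermite M hM
  have h0 : Valid p M e H0 N0 1 := by
    refine ⟨h4, isUnit_one, ?_, by rw [Matrix.mul_one, h5], h1, h2⟩
    intro a b
    rw [Matrix.one_apply]
    split_ifs
    · exact Subring.one_mem _
    · exact Subring.zero_mem _
  obtain ⟨H, N, P, ⟨hN, hP, hPS, hH, hHd, hHz⟩, hg⟩ := global p M e h0 (r * r + r + 1)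
  refine ⟨N, P, e, hN, hP, fun i j n hn => hPS i j n hn, ?_, ?_, ?_⟩
  · rw [hH]
    exact hHd
  · rw [hH]
    exact hHz
  · rw [hH]
    intro i j hij
    exact hg i j hij (rank_lt_bound i j)

end Groth.Agent.Lib.T1H4.HermiteC
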