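import Mathlib

/-!
# Left dual comodule of a finitely presented comodule over a flat coalgebra (S16690), part A:
`M^* ⊗ N ≃ Hom(M, N)` for `M` finitely presented and `N` flat
-/

namespace Groth.Agent.Lib.T1H4.LDual

open TensorProduct

variable {k : Type*} [CommRing k] {M : Type*} [AddCommGroup M] [Module k M]
  {N : Type*} [AddCommGroup N] [Module k N]

theorem dualTensorHom_bijective_of_fp_flat [Module.FinitePresentation k M] [Module.Flat k N] :
    Function.Bijective (dualTensorHom k M N) := by
  obtain ⟨n, m, f, g, hf, hfg⟩ := Module.FinitePresentation.exists_fin' k M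
  -- the left exact sequences
  have hα_inj : Function.Injective (f.lcomp k N) := LinearMap.lcomp_injective_of_surjective f hf
  have hαβ : Function.Exact (f.lcomp k N) (g.lcomp k N) :=
    LinearMap.exact_lcomp_of_exact_of_surjective N hfg hf
  have hα₀_inj : Function.Injective f.dualMap := LinearMap.dualMap_injective_of_surjective hf
  have hαβ₀ : Function.Exact f.dualMap g.dualMap := by
    have := LinearMap.exact_lcomp_of_exact_of_surjective k hfg hf
    intro φ
    exact this φ
  have hα₀N_inj : Function.Injective (f.dualMap.rTensor N) :=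
    Module.Flat.rTensor_preserves_injective_linearMap _ hα₀_inj
  have hαβ₀N : Function.Exact (f.dualMap.rTensor N) (g.dualMap.rTensor N) :=
    Module.Flat.rTensor_exact N hαβ₀
  have hΦn : Function.Bijective (dualTensorHom k (Fin n → k) N) := dualTensorHom_bijective
  have hΦm : Function.Bijective (dualTensorHom k (Fin m → k) N) := dualTensorHom_bijective
  have nat1 : ∀ t, dualTensorHom k (Fin n → k) N (f.dualMap.rTensor N t) =
      f.lcomp k N (dualTensorHom k M N t) := fun t =>
    LinearMap.congr_fun (dualTensorHom_comp_rTensor_dualMap (P := N) f) t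
  have nat2 : ∀ t, dualTensorHom k (Fin m → k) N (g.dualMap.rTensor N t) =
      g.lcomp k N (dualTensorHom k (Fin n → k) N t) := fun t =>
    LinearMap.congr_fun (dualTensorHom_comp_rTensor_dualMap (P := N) g) t
  constructor
  · intro s s' hss
    apply hα₀N_inj
    apply hΦn.1
    rw [nat1, nat1, hss]
  · intro h
    obtain ⟨t, ht⟩ := hΦn.2 (f.lcomp k N h)
    have h1 : g.dualMap.rTensor N t = 0 := by
      apply hΦm.1
      rw [nat2, ht, map_zero]
      exact (hαβ (f.lcomp k N h)).2 ⟨h, rfl⟩
    obtain ⟨s, hs⟩ := (hαβ₀N t).1 h1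
    refine ⟨s, ?_⟩
    apply hα_inj
    rw [← nat1, hs, ht]

end Groth.Agent.Lib.T1H4.LDual
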