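import Mathlib
import Groth.Prelude.Def_ComodSub
import Groth.Agent.Lib.T1H4LDualA

/-!
# Left dual comodule of a finitely presented comodule over a flat coalgebra (S16690), part B
-/

namespace Groth.Agent.Lib.T1H4.LDual

open TensorProduct

universe u v w

variable {k : Type u} [CommRing k] {A : Type v} [AddCommGroup A] [Module k A] [Coalgebra k A]
  {M : Type w} [AddCommGroup M] [Module k M]

section rd

variable {N : Type*} [AddCommGroup N] [Module k N] {N' : Type*} [AddCommGroup N'] [Module k N']

/-- the reading map `N ⊗ M^* → Hom(M, N)`, `n ⊗ φ ↦ (m ↦ φ m • n)` -/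
noncomputable def rd (M : Type w) [AddCommGroup M] [Module k M] (N : Type*) [AddCommGroup N]
    [Module k N] : N ⊗[k] Module.Dual k M →ₗ[k] (M →ₗ[k] N) :=
  dualTensorHom k M N ∘ₗ (TensorProduct.comm k N (Module.Dual k M)).toLinearMap

@[simp] theorem rd_tmul (n : N) (φ : Module.Dual k M) (m : M) : rd M N (n ⊗ₜ φ) m = φ m • n := by
  simp [rd]

theorem rd_natural (f : N →ₗ[k] N') (t : N ⊗[k] Module.Dual k M) :
    rd M N' (f.rTensor _ t) = f ∘ₗ rd M N t := by
  induction t using TensorProduct.induction_on with
  | zero => simp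
  | tmul n φ =>
    ext m
    simp
  | add x y hx hy =>
    rw [map_add, map_add, hx, hy, map_add]
    ext m
    simp

theorem rd_bijective [Module.FinitePresentation k M] [Module.Flat k N] :
    Function.Bijective (rd (k := k) M N) :=
  (dualTensorHom_bijective_of_fp_flat).comp (TensorProduct.comm k N (Module.Dual k M)).bijective

end rd

/-- `g ↦ (m ↦ Σ g(m₀) m₁)` as a linear map -/
noncomputable def lam (c : HopfRep.Comod k A M) : Module.Dual k M →ₗ[k] (M →ₗ[k] A) where
  toFun g := ComodSub.ldualFun c g
  map_add' g g' := by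
    ext m
    simp [ComodSub.ldualFun_apply, LinearMap.rTensor_add]
  map_smul' a g := by
    ext m
    simp [ComodSub.ldualFun_apply, LinearMap.rTensor_smul]

theorem lam_apply (c : HopfRep.Comod k A M) (g : Module.Dual k M) :
    lam c g = ComodSub.ldualFun c g := rfl

/-- second-order reading map -/
noncomputable def rd2 : A ⊗[k] (A ⊗[k] Module.Dual k M) →ₗ[k] (M →ₗ[k] A ⊗[k] A) :=
  rd M (A ⊗[k] A) ∘ₗ (TensorProduct.assoc k A A (Module.Dual k M)).symm.toLinearMap

theorem rd2_tmul (a : A) (s : A ⊗[k] Module.Dual k M) (m : M) :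
    rd2 (a ⊗ₜ s) m = a ⊗ₜ (rd M A s m) := by
  induction s using TensorProduct.induction_on with
  | zero => simp
  | tmul b φ =>
    simp [rd2, TensorProduct.tmul_smul]
  | add x y hx hy =>
    rw [TensorProduct.tmul_add, map_add, LinearMap.add_apply, hx, hy, map_add,
      LinearMap.add_apply, TensorProduct.tmul_add]

theorem tmul_lid_rTensor (a : A) (φ : Module.Dual k M) (y : M ⊗[k] A) :
    a ⊗ₜ[k] (TensorProduct.lid k A (φ.rTensor A y)) = (rd M A (a ⊗ₜ φ)).rTensor A y := by
  induction y using TensorProduct.induction_on with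
  | zero => simp
  | tmul m' b =>
    simp [TensorProduct.smul_tmul]
  | add x y hx hy =>
    simp only [map_add, TensorProduct.tmul_add, hx, hy]

theorem lid_rTensor_assoc_symm (g : Module.Dual k M) (z : M ⊗[k] (A ⊗[k] A)) :
    ((TensorProduct.lid k A).toLinearMap ∘ₗ g.rTensor A).rTensor A
      ((TensorProduct.assoc k M A A).symm z) = TensorProduct.lid k (A ⊗[k] A) (g.rTensor _ z) := by
  induction z using TensorProduct.induction_on with
  | zero => simp
  | tmul m' w =>
    induction w using TensorProduct.induction_on with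
    | zero => simp
    | tmul a b =>
      simp [TensorProduct.smul_tmul']
    | add x y hx hy =>
      simp only [TensorProduct.tmul_add, map_add, hx, hy]
  | add x y hx hy =>
    simp only [map_add, hx, hy]

theorem lid_rTensor_lTensor_comul (g : Module.Dual k M) (y : M ⊗[k] A) :
    TensorProduct.lid k (A ⊗[k] A) (g.rTensor _ ((CoalgebraStruct.comul (R := k) (A := A)).lTensor M y)) =
      CoalgebraStruct.comul (R := k) (A := A) (TensorProduct.lid k A (g.rTensor A y)) := by
  induction y using TensorProduct.induction_on with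
  | zero => simp
  | tmul m' a => simp
  | add x y hx hy => simp only [map_add, hx, hy]

theorem ldualFun_rTensor_coact (c : HopfRep.Comod k A M) (g : Module.Dual k M) (m : M) :
    (ComodSub.ldualFun c g).rTensor A (c.coact m) =
      CoalgebraStruct.comul (R := k) (A := A) (ComodSub.ldualFun c g m) := by
  have h1 : ComodSub.ldualFun c g =
      ((TensorProduct.lid k A).toLinearMap ∘ₗ g.rTensor A) ∘ₗ c.coact := rfl
  have h2 := LinearMap.congr_fun c.coassoc m
  simp only [LinearMap.coe_comp, LinearEquiv.coe_coe, Function.comp_apply] at h2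
  rw [h1, LinearMap.rTensor_comp, LinearMap.comp_apply]
  have h3 : (c.coact.rTensor A) (c.coact m) = (TensorProduct.assoc k M A A).symm
      ((CoalgebraStruct.comul (R := k) (A := A)).lTensor M (c.coact m)) := by
    rw [← h2, LinearEquiv.symm_apply_apply]
  rw [h3, lid_rTensor_assoc_symm, lid_rTensor_lTensor_comul]
  rfl

theorem counit_ldualFun (c : HopfRep.Comod k A M) (g : Module.Dual k M) (m : M) :
    CoalgebraStruct.counit (R := k) (A := A) (ComodSub.ldualFun c g m) = g m := by
  have key : ∀ y : M ⊗[k] A, CoalgebraStruct.counit (R := k) (A := A)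
      (TensorProduct.lid k A (g.rTensor A y)) =
      g (TensorProduct.rid k M ((CoalgebraStruct.counit (R := k) (A := A)).lTensor M y)) := by
    intro y
    induction y using TensorProduct.induction_on with
    | zero => simp
    | tmul m' a => simp [mul_comm]
    | add x y hx hy => simp only [map_add, hx, hy]
  have h2 := LinearMap.congr_fun c.counit_comp m
  simp only [LinearMap.coe_comp, Function.comp_apply, LinearMap.flip_apply,
    TensorProduct.mk_apply] at h2
  rw [ComodSub.ldualFun_apply, key, h2]
  simp

end Groth.Agent.Lib.T1H4.LDual
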