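import Mathlib
import Groth.Prelude.Def_ComodSub
import Groth.Agent.Lib.T1H4LDualB

/-!
# Left dual comodule of a finitely presented comodule over a flat coalgebra (S16690), part C
-/

namespace Groth.Agent.Lib.T1H4.LDual

open TensorProduct

universe u v w

variable {k : Type u} [CommRing k] {A : Type v} [AddCommGroup A] [Module k A] [Coalgebra k A]
  {M : Type w} [AddCommGroup M] [Module k M] [Module.FinitePresentation k M] [Module.Flat k A]

/-- the reading map as an equivalence -/
noncomputable def rdEquiv (M : Type w) [AddCommGroup M] [Module k M]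
    [Module.FinitePresentation k M] (N : Type*) [AddCommGroup N] [Module k N] [Module.Flat k N] :
    N ⊗[k] Module.Dual k M ≃ₗ[k] (M →ₗ[k] N) :=
  LinearEquiv.ofBijective (rd M N) rd_bijective

/-- the left coaction on the dual -/
noncomputable def coactL (c : HopfRep.Comod k A M) :
    Module.Dual k M →ₗ[k] A ⊗[k] Module.Dual k M :=
  (rdEquiv M A).symm.toLinearMap ∘ₗ lam c

theorem rd_coactL (c : HopfRep.Comod k A M) (g : Module.Dual k M) :
    rd M A (coactL c g) = ComodSub.ldualFun c g :=
  (rdEquiv M A).apply_symm_apply (lam c g)

theorem rd2_lTensor_coactL (c : HopfRep.Comod k A M) (t : A ⊗[k] Module.Dual k M) (m : M) :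
    rd2 ((coactL c).lTensor A t) m = (rd M A t).rTensor A (c.coact m) := by
  induction t using TensorProduct.induction_on with
  | zero => simp
  | tmul a φ =>
    rw [LinearMap.lTensor_tmul, rd2_tmul, rd_coactL, ComodSub.ldualFun_apply, tmul_lid_rTensor]
  | add x y hx hy =>
    simp only [map_add, LinearMap.add_apply, hx, hy, LinearMap.rTensor_add]

theorem rd2_injective : Function.Injective (rd2 (k := k) (A := A) (M := M)) :=
  (rd_bijective (k := k) (M := M) (N := A ⊗[k] A)).1.comp
    (TensorProduct.assoc k A A (Module.Dual k M)).symm.injective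

/-- the left dual comodule -/
@[reducible] noncomputable def ldualLComod (c : HopfRep.Comod k A M) :
    ComodSub.LComod k A (Module.Dual k M) where
  coact := coactL c
  coassoc := by
    apply LinearMap.ext
    intro g
    apply rd2_injective
    apply LinearMap.ext
    intro m
    simp only [LinearMap.coe_comp, Function.comp_apply, LinearEquiv.coe_coe]
    rw [rd2_lTensor_coactL, rd_coactL, ldualFun_rTensor_coact]
    show _ = rd M (A ⊗[k] A) ((TensorProduct.assoc k A A (Module.Dual k M)).symm
      ((TensorProduct.assoc k A A (Module.Dual k M))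
        ((CoalgebraStruct.comul (R := k) (A := A)).rTensor _ (coactL c g)))) m
    rw [LinearEquiv.symm_apply_apply, rd_natural, LinearMap.comp_apply, rd_coactL]
  counit_comp := by
    apply LinearMap.ext
    intro g
    apply (rd_bijective (k := k) (M := M) (N := k)).1
    apply LinearMap.ext
    intro m
    simp only [LinearMap.coe_comp, Function.comp_apply, TensorProduct.mk_apply]
    rw [rd_natural, LinearMap.comp_apply, rd_coactL, counit_ldualFun, rd_tmul]
    simp

theorem main (c : HopfRep.Comod k A M) :
    ∃ l : ComodSub.LComod k A (Module.Dual k M), ComodSub.LComod.IsLDual c l :=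
  ⟨ldualLComod c, fun g => rd_coactL c g⟩

end Groth.Agent.Lib.T1H4.LDual
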