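import Mathlib
import Groth.Prelude.Def_ModSite2
import Groth.Agent.Lib.T1H4ModEltD
import Groth.Agent.Lib.T2H8ModCoprodSec

/-!
# Sections of a directed colimit of sheaves of modules locally come from a stage (helper4)
-/

set_option autoImplicit false
set_option linter.unusedSectionVars false
set_option linter.style.haveILetI false
universe u
open CategoryTheory CategoryTheory.Limits Opposite

namespace Groth.Agent.Lib.T1H4.ModColim

open Groth.Agent.Lib.T1H4.ModElt

variable {C : Type u} [SmallCategory C] {J : GrothendieckTopology C} {O : Sheaf J CommRingCat.{u}}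

section General

variable {I : Type u} [SmallCategory I] (D : I ⥤ ModSite.Mod O) (c : Cocone D) (hc : IsColimit c)

/-- the structure maps of the cocone, with the right codomain -/
abbrev ιc (i : I) : D.obj i ⟶ c.pt := c.ι.app i

/-- the canonical map from the coproduct of the stages -/
noncomputable def sigmaDesc : (∐ D.obj) ⟶ c.pt := Sigma.desc (fun i => ιc D c i)

include hc in
lemma epi_sigmaDesc : Epi (sigmaDesc D c) := by
  refine ⟨fun {Z} g h hgh => hc.hom_ext (fun i => ?_)⟩
  have h1 : Sigma.ι D.obj i ≫ sigmaDesc D c = ιc D c i := Sigma.ι_desc _ _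
  change ιc D c i ≫ g = ιc D c i ≫ h
  rw [← h1, Category.assoc, Category.assoc, hgh]

include hc in
/-- every section of a colimit of sheaves of modules is locally a finite sum of sections coming
from the stages -/
theorem exists_sieve_finset_sum (V : C) (t : c.pt.val.obj (op V)) :
    ∃ S ∈ J V, ∀ ⦃W : C⦄ (g : W ⟶ V), S g →
      ∃ (T : Finset I) (n : ∀ i, (D.obj i).val.obj (op W)),
        c.pt.val.restrictₛₗ g.op t = ∑ i ∈ T, (ιc D c i).val.app (op W) (n i) := by
  haveI := epi_sigmaDesc D c hc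
  obtain ⟨S₁, hS₁, hS₁'⟩ := exists_sieve_lift (sigmaDesc D c) V t
  let S : Sieve V :=
    { arrows := fun W g => ∃ (T : Finset I) (n : ∀ i, (D.obj i).val.obj (op W)),
        c.pt.val.restrictₛₗ g.op t = ∑ i ∈ T, (ιc D c i).val.app (op W) (n i)
      downward_closed := by
        rintro W W' g ⟨T, n, hn⟩ f
        refine ⟨T, fun i => (D.obj i).val.restrictₛₗ f.op (n i), ?_⟩
        rw [restrict_comp, hn, map_sum]
        exact Finset.sum_congr rfl (fun i _ => (app_restrict (ιc D c i) f (n i)).symm) }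
  refine ⟨S, ?_, fun W g hg => hg⟩
  refine J.transitive hS₁ S (fun W g hg => ?_)
  obtain ⟨z, hz⟩ := hS₁' g hg
  obtain ⟨S₂, hS₂, hS₂'⟩ := Groth.Agent.Lib.T2H8.ModCoprodSec.exists_sieve_finset_sum
    (Cofan.mk (∐ D.obj) (Sigma.ι D.obj)) (coproductIsCoproduct D.obj) W z
  refine J.superset_covering ?_ hS₂
  intro W' f hf
  obtain ⟨T, n, hn⟩ := hS₂' f hf
  refine ⟨T, n, ?_⟩
  have hn' : (∐ D.obj).val.restrictₛₗ f.op z =
      ∑ i ∈ T, (Sigma.ι D.obj i).val.app (op W') (n i) := hn
  rw [restrict_comp, ← hz, ← app_restrict (sigmaDesc D c) f z, hn', map_sum]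
  refine Finset.sum_congr rfl (fun i _ => ?_)
  have h1 : Sigma.ι D.obj i ≫ sigmaDesc D c = ιc D c i := Sigma.ι_desc _ _
  exact congrArg (fun ψ : D.obj i ⟶ c.pt => ψ.val.app (op W') (n i)) h1

end General

section Directed

variable {I : Type u} [Preorder I] [Nonempty I] [IsDirected I (· ≤ ·)] (D : I ⥤ ModSite.Mod O)
  (c : Cocone D) (hc : IsColimit c)

lemma ι_map_app {i j : I} (h : i ≤ j) (W : C) (n : (D.obj i).val.obj (op W)) :
    (ιc D c j).val.app (op W) ((D.map (homOfLE h)).val.app (op W) n) =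
      (ιc D c i).val.app (op W) n :=
  congrArg (fun ψ : D.obj i ⟶ c.pt => ψ.val.app (op W) n) (c.w (homOfLE h))

include hc in
/-- every section of a directed colimit of sheaves of modules locally comes from a stage -/
theorem exists_sieve_stage (V : C) (t : c.pt.val.obj (op V)) :
    ∃ S ∈ J V, ∀ ⦃W : C⦄ (g : W ⟶ V), S g →
      ∃ (i : I) (n : (D.obj i).val.obj (op W)),
        c.pt.val.restrictₛₗ g.op t = (ιc D c i).val.app (op W) n := by
  obtain ⟨S, hS, hS'⟩ := exists_sieve_finset_sum D c hc V t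
  refine ⟨S, hS, fun W g hg => ?_⟩
  obtain ⟨T, n, hn⟩ := hS' g hg
  obtain ⟨j, hj⟩ := Finset.exists_le T
  refine ⟨j, ∑ i ∈ T.attach, (D.map (homOfLE (hj i.1 i.2))).val.app (op W) (n i.1), ?_⟩
  rw [hn, map_sum, ← Finset.sum_attach]
  exact Finset.sum_congr rfl (fun i _ => (ι_map_app D c (hj i.1 i.2) W (n i.1)).symm)

end Directed

end Groth.Agent.Lib.T1H4.ModColim
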