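import Mathlib
import Groth.Prelude.Def_ModSite2
import Groth.Agent.Lib.T1H4ModEltG

/-!
# Restriction calculus on a ringed space, finite type / finite presentation elementwise (helper4)
-/

set_option autoImplicit false
set_option linter.unusedSectionVars false
set_option linter.style.haveILetI false
universe u
open CategoryTheory CategoryTheory.Limits Opposite TopologicalSpace

namespace Groth.Agent.Lib.T1H4.ModElt

open Groth.Agent.Lib.Helper23FreeOn

variable {X : TopCat.{u}} {O : TopCat.Sheaf CommRingCat.{u} X}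

/-- sections of the structure sheaf -/
abbrev OS (O : TopCat.Sheaf CommRingCat.{u} X) (V : Opens X) : Type u :=
  (ModSite.ringSh O).obj.obj (op V)

/-- restriction of functions along an inclusion of opens -/
noncomputable def rL {V' V : Opens X} (h : V' ≤ V) : OS O V →+* OS O V' :=
  ((ModSite.ringSh O).obj.map (homOfLE h).op).hom

/-- restriction of sections along an inclusion of opens -/
noncomputable def resL (M : ModSite.Mod O) {V' V : Opens X} (h : V' ≤ V) :
    M.val.obj (op V) →+ M.val.obj (op V') :=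
  (M.val.restrictₛₗ (homOfLE h).op).toAddMonoidHom

lemma resL_eq (M : ModSite.Mod O) {V' V : Opens X} (j : V' ⟶ V) (t : M.val.obj (op V)) :
    M.val.restrictₛₗ j.op t = resL M (leOfHom j) t := rfl

lemma rL_eq {V' V : Opens X} (j : V' ⟶ V) (a : OS O V) :
    rO (O := O) j a = rL (leOfHom j) a := rfl

@[simp] lemma resL_resL (M : ModSite.Mod O) {V'' V' V : Opens X} (h' : V'' ≤ V') (h : V' ≤ V)
    (t : M.val.obj (op V)) : resL M h' (resL M h t) = resL M (h'.trans h) t :=
  (restrict_comp M (homOfLE h) (homOfLE h') t).symm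

@[simp] lemma rL_rL {V'' V' V : Opens X} (h' : V'' ≤ V') (h : V' ≤ V) (a : OS O V) :
    rL h' (rL h a) = rL (h'.trans h) a :=
  (rO_comp (O := O) (homOfLE h) (homOfLE h') a).symm

@[simp] lemma resL_self (M : ModSite.Mod O) {V : Opens X} (h : V ≤ V) (t : M.val.obj (op V)) :
    resL M h t = t := by
  change M.val.map (𝟙 (op V)) t = t
  rw [M.val.map_id]
  rfl

@[simp] lemma rL_self {V : Opens X} (h : V ≤ V) (a : OS O V) : rL h a = a := by
  change ((ModSite.ringSh O).obj.map (𝟙 (op V))).hom a = a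
  rw [(ModSite.ringSh O).obj.map_id]
  rfl

@[simp] lemma resL_smul (M : ModSite.Mod O) {V' V : Opens X} (h : V' ≤ V) (a : OS O V)
    (t : M.val.obj (op V)) : resL M h (a • t) = rL h a • resL M h t :=
  restrict_smul M (homOfLE h) a t

lemma resL_sum_smul (M : ModSite.Mod O) {V' V : Opens X} (h : V' ≤ V) {I : Type*} [Fintype I]
    (a : I → OS O V) (t : I → M.val.obj (op V)) :
    resL M h (∑ k, a k • t k) = ∑ k, rL h (a k) • resL M h (t k) := by
  rw [map_sum]
  exact Finset.sum_congr rfl (fun k _ => resL_smul M h (a k) (t k))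

@[simp] lemma app_resL {M N : ModSite.Mod O} (φ : M ⟶ N) {V' V : Opens X} (h : V' ≤ V)
    (t : M.val.obj (op V)) :
    φ.val.app (op V') (resL M h t) = resL N h (φ.val.app (op V) t) :=
  app_restrict φ (homOfLE h) t

lemma app_smul {M N : ModSite.Mod O} (φ : M ⟶ N) {V : Opens X} (a : OS O V)
    (t : M.val.obj (op V)) : φ.val.app (op V) (a • t) = a • φ.val.app (op V) t :=
  (φ.val.app (op V)).hom.map_smul a t

/-- elementwise local generation, `≤` version -/
def LocGenLE (M : ModSite.Mod O) (W : Opens X) {I : Type u} [Fintype I]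
    (m : I → M.val.obj (op W)) : Prop :=
  ∀ (V : Opens X) (hV : V ≤ W) (t : M.val.obj (op V)) (x : X), x ∈ V →
    ∃ (V' : Opens X) (_ : x ∈ V') (h' : V' ≤ V) (a : I → OS O V'),
      resL M h' t = ∑ k, a k • resL M (h'.trans hV) (m k)

lemma locGenLE_iff (M : ModSite.Mod O) (W : Opens X) {I : Type u} [Fintype I]
    (m : I → M.val.obj (op W)) : LocGenLE M W m ↔ LocGen O M W m := by
  constructor
  · intro h V i t x hx
    obtain ⟨V', hxV', h', a, ha⟩ := h V (leOfHom i) t x hx
    exact ⟨V', hxV', homOfLE h', a, ha⟩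
  · intro h V hV t x hx
    obtain ⟨V', hxV', j, a, ha⟩ := h V (homOfLE hV) t x hx
    exact ⟨V', hxV', leOfHom j, a, ha⟩

/-- elementwise local generation of relations, `≤` version -/
def LocRelLE (M : ModSite.Mod O) (W : Opens X) {I₀ I₁ : Type u} [Fintype I₀] [Fintype I₁]
    (m : I₀ → M.val.obj (op W)) (r : I₁ → I₀ → OS O W) : Prop :=
  ∀ (V : Opens X) (hV : V ≤ W) (a : I₀ → OS O V) (x : X), x ∈ V →
    ∑ k, a k • resL M hV (m k) = 0 →
    ∃ (V' : Opens X) (_ : x ∈ V') (h' : V' ≤ V) (b : I₁ → OS O V'),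
      ∀ k, rL h' (a k) = ∑ l, b l * rL (h'.trans hV) (r l k)

lemma locRelLE_iff (M : ModSite.Mod O) (W : Opens X) {I₀ I₁ : Type u} [Fintype I₀] [Fintype I₁]
    (m : I₀ → M.val.obj (op W)) (r : I₁ → I₀ → OS O W) :
    LocRelLE M W m r ↔ LocRel O M W m r := by
  constructor
  · intro h V i a x hx ha
    obtain ⟨V', hxV', h', b, hb⟩ := h V (leOfHom i) a x hx ha
    exact ⟨V', hxV', homOfLE h', b, hb⟩
  · intro h V hV a x hx ha
    obtain ⟨V', hxV', j, b, hb⟩ := h V (homOfLE hV) a x hx ha
    exact ⟨V', hxV', leOfHom j, b, hb⟩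

lemma LocGenLE.restrict {M : ModSite.Mod O} {W : Opens X} {I : Type u} [Fintype I]
    {m : I → M.val.obj (op W)} (h : LocGenLE M W m) {W' : Opens X} (hW : W' ≤ W) :
    LocGenLE M W' (fun k => resL M hW (m k)) := by
  intro V hV t x hx
  obtain ⟨V', hxV', h', a, ha⟩ := h V (hV.trans hW) t x hx
  refine ⟨V', hxV', h', a, ?_⟩
  rw [ha]
  exact Finset.sum_congr rfl (fun k _ => by rw [resL_resL])

lemma LocRelLE.restrict {M : ModSite.Mod O} {W : Opens X} {I₀ I₁ : Type u} [Fintype I₀]
    [Fintype I₁] {m : I₀ → M.val.obj (op W)} {r : I₁ → I₀ → OS O W} (h : LocRelLE M W m r)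
    {W' : Opens X} (hW : W' ≤ W) :
    LocRelLE M W' (fun k => resL M hW (m k)) (fun l k => rL hW (r l k)) := by
  intro V hV a x hx ha
  have ha' : ∑ k, a k • resL M (hV.trans hW) (m k) = 0 := by
    rw [← ha]
    exact Finset.sum_congr rfl (fun k _ => by rw [resL_resL])
  obtain ⟨V', hxV', h', b, hb⟩ := h V (hV.trans hW) a x hx ha'
  refine ⟨V', hxV', h', b, fun k => ?_⟩
  rw [hb k]
  exact Finset.sum_congr rfl (fun l _ => by rw [rL_rL])

end Groth.Agent.Lib.T1H4.ModElt
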