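import Mathlib
import Groth.Prelude.Def_ModSite2
import Groth.Agent.Lib.T1H4ModEltH

/-!
# Finite type / finite presentation on a ringed space via elementwise data (helper4)
-/

set_option autoImplicit false
set_option linter.unusedSectionVars false
set_option linter.style.haveILetI false
universe u
open CategoryTheory CategoryTheory.Limits Opposite TopologicalSpace

namespace Groth.Agent.Lib.T1H4.ModElt

open Groth.Agent.Lib.Helper23FreeOn

variable {X : TopCat.{u}} (O : TopCat.Sheaf CommRingCat.{u} X)

theorem locGenLE_of_generatingSections (M : ModSite.Mod O) (W : Opens X)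
    (G : (M.over W).GeneratingSections) [Fintype G.I] :
    LocGenLE M W (fun k => evalTop O M W (G.s k)) := by
  have hm : secs O M W (fun k => evalTop O M W (G.s k)) = G.s := by
    funext k
    exact sec_evalTop O M W _
  have hE : Epi (((ModSite.restr O W).obj M).freeHomEquiv.symm G.s) := G.epi
  haveI : Epi (((ModSite.restr O W).obj M).freeHomEquiv.symm
      (secs O M W (fun k => evalTop O M W (G.s k)))) := by
    rw [hm]; exact hE
  exact (locGenLE_iff M _ _).2 (locGen_of_epi O M W _)

/-- a finite type module has local finite generating families -/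
theorem exists_locGen_of_isFiniteType (M : ModSite.Mod O)
    [SheafOfModules.IsFiniteType (R := ModSite.ringSh O) M] (x : X) :
    ∃ (W : Opens X) (_ : x ∈ W) (I : Type u) (_ : Fintype I) (m : I → M.val.obj (op W)),
      LocGenLE M W m := by
  obtain ⟨σ, hσ⟩ :=
    SheafOfModules.IsFiniteType.exists_localGeneratorsData (R := ModSite.ringSh O) M
  have cov := σ.coversTop
  rw [Opens.coversTop_iff] at cov
  have hx : x ∈ (⨆ i, σ.X i : Opens X) := by rw [cov]; trivial
  obtain ⟨i, hi⟩ := Opens.mem_iSup.1 hx
  have hfin : Finite (σ.generators i).I := (hσ.isFiniteType i).finite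
  obtain ⟨hF⟩ : Nonempty (Fintype (σ.generators i).I) := ⟨Fintype.ofFinite _⟩
  exact ⟨σ.X i, hi, (σ.generators i).I, hF, _,
    @locGenLE_of_generatingSections _ O M (σ.X i) (σ.generators i) hF⟩

/-- a module with local finite generating families is of finite type -/
theorem isFiniteType_of_locGen (M : ModSite.Mod O)
    (h : ∀ x : X, ∃ (W : Opens X) (_ : x ∈ W) (I : Type u) (_ : Fintype I)
      (m : I → M.val.obj (op W)), LocGenLE M W m) :
    SheafOfModules.IsFiniteType (R := ModSite.ringSh O) M := by
  choose W hW I hI m hm using h
  have hcov : (Opens.grothendieckTopology X).CoversTop W := by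
    rw [Opens.coversTop_iff, IsOpenCover, eq_top_iff]
    intro x _
    exact Opens.mem_iSup.2 ⟨x, hW x⟩
  let σ : SheafOfModules.LocalGeneratorsData.{u} (R := ModSite.ringSh O) M :=
    { I := (X : Type u), X := W, coversTop := hcov
      generators := fun x =>
        { I := I x
          s := secs O M (W x) (m x)
          epi := by
            letI := hI x
            exact epi_of_locGen O M (W x) (m x) ((locGenLE_iff M _ _).1 (hm x)) } }
  have hσ : σ.IsFiniteType :=
    { isFiniteType := fun x => ⟨by letI := hI x; exact inferInstanceAs (Finite (I x))⟩ }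
  exact { exists_localGeneratorsData := ⟨σ, hσ⟩ }

/-- elementwise local finite presentation data -/
structure LocPres (M : ModSite.Mod O) (W : Opens X) where
  /-- generators index -/
  I₀ : Type u
  /-- relations index -/
  I₁ : Type u
  [fin₀ : Fintype I₀]
  [fin₁ : Fintype I₁]
  /-- generators -/
  m : I₀ → M.val.obj (op W)
  /-- relations -/
  r : I₁ → I₀ → OS O W
  gen : LocGenLE M W m
  rel0 : ∀ l, ∑ k, r l k • m k = 0
  rel : LocRelLE M W m r

attribute [instance] LocPres.fin₀ LocPres.fin₁

/-- elementwise data from a finite presentation -/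
noncomputable def locPresOfPresentation (M : ModSite.Mod O) (W : Opens X)
    (P : (M.over W).Presentation) [Fintype P.generators.I] [Fintype P.relations.I] :
    LocPres O M W where
  I₀ := P.generators.I
  I₁ := P.relations.I
  m := presGen (O := O.over W) (t := topW W) (N := (ModSite.restr O W).obj M) P
  r := presRel (O := O.over W) (t := topW W) (N := (ModSite.restr O W).obj M) P
  gen := (locGenLE_iff M W _).2 (locGen_of_genLoc O M W _
    (presGen_genLoc (O := O.over W) (topWIsTerminal W) (N := (ModSite.restr O W).obj M) P))
  rel0 := presRel_zero (O := O.over W) (topWIsTerminal W) (N := (ModSite.restr O W).obj M) P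
  rel := (locRelLE_iff M W _ _).2 (locRel_of_relLoc O M W _ _
    (presRel_relLoc (O := O.over W) (topWIsTerminal W) (N := (ModSite.restr O W).obj M) P))

/-- a finitely presented module has local finite presentation data -/
theorem exists_locPres_of_isFinitePresentation (M : ModSite.Mod O)
    [SheafOfModules.IsFinitePresentation (R := ModSite.ringSh O) M] (x : X) :
    ∃ (W : Opens X) (_ : x ∈ W), Nonempty (LocPres O M W) := by
  obtain ⟨σ, hσ⟩ :=
    SheafOfModules.IsFinitePresentation.exists_quasicoherentData (R := ModSite.ringSh O) M
  have cov := σ.coversTop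
  rw [Opens.coversTop_iff] at cov
  have hx : x ∈ (⨆ i, σ.X i : Opens X) := by rw [cov]; trivial
  obtain ⟨i, hi⟩ := Opens.mem_iSup.1 hx
  have hP : (σ.presentation i).IsFinite := hσ.isFinite_presentation i
  have hfin₀ : Finite (σ.presentation i).generators.I := hP.isFiniteType_generators.finite
  have hfin₁ : Finite (σ.presentation i).relations.I := hP.isFiniteType_relations.finite
  obtain ⟨hF₀⟩ : Nonempty (Fintype (σ.presentation i).generators.I) := ⟨Fintype.ofFinite _⟩
  obtain ⟨hF₁⟩ : Nonempty (Fintype (σ.presentation i).relations.I) := ⟨Fintype.ofFinite _⟩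
  exact ⟨σ.X i, hi, ⟨@locPresOfPresentation _ O M (σ.X i) (σ.presentation i) hF₀ hF₁⟩⟩

/-- the presentation attached to elementwise data -/
noncomputable def presentationOfLocPres (M : ModSite.Mod O) (W : Opens X) (D : LocPres O M W) :
    (M.over W).Presentation :=
  presOf (O := O.over W) (topWIsTerminal W) (N := (ModSite.restr O W).obj M) D.m D.r
    (genLoc_of_locGen O M W D.m ((locGenLE_iff M W _).1 D.gen)) D.rel0
    (relLoc_of_locRel O M W D.m D.r ((locRelLE_iff M W _ _).1 D.rel))

instance (M : ModSite.Mod O) (W : Opens X) (D : LocPres O M W) :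
    (presentationOfLocPres O M W D).IsFinite where
  isFiniteType_generators := ⟨inferInstanceAs (Finite D.I₀)⟩
  isFiniteType_relations := ⟨inferInstanceAs (Finite D.I₁)⟩

/-- a module with local finite presentation data is finitely presented -/
theorem isFinitePresentation_of_locPres (M : ModSite.Mod O)
    (h : ∀ x : X, ∃ (W : Opens X) (_ : x ∈ W), Nonempty (LocPres O M W)) :
    SheafOfModules.IsFinitePresentation (R := ModSite.ringSh O) M := by
  choose W hW D using h
  have hcov : (Opens.grothendieckTopology X).CoversTop W := by
    rw [Opens.coversTop_iff, IsOpenCover, eq_top_iff]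
    intro x _
    exact Opens.mem_iSup.2 ⟨x, hW x⟩
  let σ : SheafOfModules.QuasicoherentData.{u} (R := ModSite.ringSh O) M :=
    { I := (X : Type u), X := W, coversTop := hcov
      presentation := fun x => presentationOfLocPres O M (W x) (D x).some }
  have hσ : σ.IsFinitePresentation :=
    { isFinite_presentation := fun x => inferInstanceAs
        (presentationOfLocPres O M (W x) (D x).some).IsFinite }
  exact { exists_quasicoherentData := ⟨σ, hσ⟩ }

end Groth.Agent.Lib.T1H4.ModElt
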