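import Mathlib
import Groth.Prelude.Def_ModSite2
import Groth.Agent.Lib.T1H4ModEltI

/-!
# Elementwise lifting lemmas on a ringed space (helper4)
-/

set_option autoImplicit false
set_option linter.unusedSectionVars false
set_option linter.style.haveILetI false
universe u
open CategoryTheory CategoryTheory.Limits Opposite TopologicalSpace

namespace Groth.Agent.Lib.T1H4.ModElt

variable {X : TopCat.{u}} {O : TopCat.Sheaf CommRingCat.{u} X}

/-- sections lift through an epimorphism near any point -/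
theorem exists_lift_LE {G F : ModSite.Mod O} (p : G ⟶ F) [Epi p] {V : Opens X}
    (s : F.val.obj (op V)) (x : X) (hx : x ∈ V) :
    ∃ (V' : Opens X) (_ : x ∈ V') (h' : V' ≤ V) (t : G.val.obj (op V')),
      p.val.app (op V') t = resL F h' s := by
  obtain ⟨S, hS, hS'⟩ := exists_sieve_lift (O := O) p V s
  obtain ⟨V', j, hj, hxV'⟩ := hS x hx
  obtain ⟨t, ht⟩ := hS' j hj
  exact ⟨V', hxV', leOfHom j, t, ht⟩

/-- sections killed by the cokernel projection come from the source near any point -/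
theorem exists_of_cokernel_π_eq_zero_LE {M N : ModSite.Mod O} (φ : M ⟶ N) {V : Opens X}
    (t : N.val.obj (op V)) (ht : (cokernel.π φ).val.app (op V) t = 0) (x : X) (hx : x ∈ V) :
    ∃ (V' : Opens X) (_ : x ∈ V') (h' : V' ≤ V) (z : M.val.obj (op V')),
      φ.val.app (op V') z = resL N h' t := by
  obtain ⟨S, hS, hS'⟩ := exists_sieve_of_cokernel_π_eq_zero (O := O) φ V t ht
  obtain ⟨V', j, hj, hxV'⟩ := hS x hx
  obtain ⟨z, hz⟩ := hS' j hj
  exact ⟨V', hxV', leOfHom j, z, hz⟩

/-- finitely many local statements near a point hold on a common neighbourhood -/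
theorem exists_common_nbhd {I : Type*} [Finite I] (x : X) (W : Opens X) (hxW : x ∈ W)
    (P : I → Opens X → Prop) (hP : ∀ k (V V' : Opens X), V' ≤ V → P k V → P k V')
    (h : ∀ k, ∃ V : Opens X, x ∈ V ∧ V ≤ W ∧ P k V) :
    ∃ V : Opens X, x ∈ V ∧ V ≤ W ∧ ∀ k, P k V := by
  choose Vk hxk hVk hPk using h
  let V₀ : Opens X := ⟨⋂ k, (Vk k : Set X), isOpen_iInter_of_finite fun k => (Vk k).isOpen⟩
  have hV₀ : ∀ k, V₀ ≤ Vk k := fun k y hy => Set.mem_iInter.1 hy k
  refine ⟨V₀ ⊓ W, ⟨Set.mem_iInter.2 hxk, hxW⟩, inf_le_right, fun k => ?_⟩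
  exact hP k (Vk k) _ (inf_le_left.trans (hV₀ k)) (hPk k)

/-- a section which is locally zero is zero -/
theorem eq_zero_of_locally_LE (M : ModSite.Mod O) {V : Opens X} (t : M.val.obj (op V))
    (h : ∀ x ∈ V, ∃ (V' : Opens X) (_ : x ∈ V') (h' : V' ≤ V), resL M h' t = 0) : t = 0 := by
  let S : Sieve V :=
    { arrows := fun V' j => M.val.restrictₛₗ j.op t = 0
      downward_closed := by
        intro V' V'' j hj f
        rw [restrict_comp, hj, map_zero] }
  refine eq_zero_of_sieve (O := O) M S ?_ t (fun V' j hj => hj)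
  intro x hx
  obtain ⟨V', hxV', h', ht⟩ := h x hx
  exact ⟨V', homOfLE h', ht, hxV'⟩

end Groth.Agent.Lib.T1H4.ModElt
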