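import Mathlib
import Groth.Prelude.Def_ModSite2
import Groth.Agent.Lib.T1H4ModEltJ

/-!
# Cokernels of maps from finite type to finitely presented modules on a ringed space (helper4)
-/

set_option autoImplicit false
set_option linter.unusedSectionVars false
set_option linter.style.haveILetI false
universe u
open CategoryTheory CategoryTheory.Limits Opposite TopologicalSpace

namespace Groth.Agent.Lib.T1H4.ModElt

variable {X : TopCat.{u}} {O : TopCat.Sheaf CommRingCat.{u} X}

section LC

/-- linear combinations of sections -/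
noncomputable def lc (M : ModSite.Mod O) {V : Opens X} {I : Type*} [Fintype I] (a : I → OS O V)
    (t : I → M.val.obj (op V)) : M.val.obj (op V) := ∑ k, a k • t k

lemma lc_def (M : ModSite.Mod O) {V : Opens X} {I : Type*} [Fintype I] (a : I → OS O V)
    (t : I → M.val.obj (op V)) : lc M a t = ∑ k, a k • t k := rfl

lemma resL_lc (M : ModSite.Mod O) {V' V : Opens X} (h : V' ≤ V) {I : Type*} [Fintype I]
    (a : I → OS O V) (t : I → M.val.obj (op V)) :
    resL M h (lc M a t) = lc M (fun k => rL h (a k)) (fun k => resL M h (t k)) :=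
  resL_sum_smul M h a t

lemma app_lc {M N : ModSite.Mod O} (φ : M ⟶ N) {V : Opens X} {I : Type*} [Fintype I]
    (a : I → OS O V) (t : I → M.val.obj (op V)) :
    φ.val.app (op V) (lc M a t) = lc N a (fun k => φ.val.app (op V) (t k)) :=
  app_sum_smul (O := O) φ V a t

lemma lc_lc (M : ModSite.Mod O) {V : Opens X} {I K : Type*} [Fintype I] [Fintype K]
    (e : K → OS O V) (c : K → I → OS O V) (t : I → M.val.obj (op V)) :
    lc M e (fun k => lc M (c k) t) = lc M (fun j => ∑ k, e k * c k j) t := by
  simp only [lc_def, Finset.smul_sum, Finset.sum_smul, mul_smul]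
  exact Finset.sum_comm

lemma lc_sub (M : ModSite.Mod O) {V : Opens X} {I : Type*} [Fintype I]
    (a b : I → OS O V) (t : I → M.val.obj (op V)) :
    lc M (fun j => a j - b j) t = lc M a t - lc M b t := by
  simp only [lc_def, sub_smul, Finset.sum_sub_distrib]

lemma lc_sum_type (M : ModSite.Mod O) {V : Opens X} {I K : Type*} [Fintype I] [Fintype K]
    (a : I ⊕ K → OS O V) (t : I ⊕ K → M.val.obj (op V)) :
    lc M a t = lc M (fun i => a (Sum.inl i)) (fun i => t (Sum.inl i)) +
      lc M (fun k => a (Sum.inr k)) (fun k => t (Sum.inr k)) := by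
  simp only [lc_def, Fintype.sum_sum_type]

end LC

/-- restriction of elementwise presentation data -/
noncomputable def LocPres.restrict {M : ModSite.Mod O} {W : Opens X} (D : LocPres O M W)
    {W' : Opens X} (hW : W' ≤ W) : LocPres O M W' where
  I₀ := D.I₀
  I₁ := D.I₁
  m := fun k => resL M hW (D.m k)
  r := fun l k => rL hW (D.r l k)
  gen := D.gen.restrict hW
  rel0 := fun l => by
    have h := congrArg (resL M hW) (D.rel0 l)
    rw [map_zero, resL_sum_smul] at h
    exact h
  rel := D.rel.restrict hW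

section Coker

variable {G F : ModSite.Mod O} (φ : G ⟶ F) {W : Opens X} {IG : Type u} [Fintype IG]
  (g : IG → G.val.obj (op W)) (hg : LocGenLE G W g) (D : LocPres O F W)
  (c : IG → D.I₀ → OS O W) (hc : ∀ k, φ.val.app (op W) (g k) = lc F (c k) D.m)

include hg hc in
/-- elementwise presentation data for a cokernel -/
noncomputable def cokerLocPres : LocPres O (cokernel φ) W where
  I₀ := D.I₀
  I₁ := D.I₁ ⊕ IG
  m := fun j => (cokernel.π φ).val.app (op W) (D.m j)
  r := Sum.elim D.r c
  gen := by
    intro V hV t x hx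
    obtain ⟨V₁, hx₁, h₁, u, hu⟩ := exists_lift_LE (cokernel.π φ) t x hx
    obtain ⟨V₂, hx₂, h₂, a, ha⟩ := D.gen V₁ (h₁.trans hV) u x hx₁
    refine ⟨V₂, hx₂, h₂.trans h₁, a, ?_⟩
    have e1 : resL (cokernel φ) (h₂.trans h₁) t = resL (cokernel φ) h₂ (resL (cokernel φ) h₁ t) :=
      (resL_resL _ h₂ h₁ t).symm
    rw [e1, ← hu, ← app_resL, ha]
    change (cokernel.π φ).val.app (op V₂) (lc F a _) = _
    rw [app_lc]
    refine Finset.sum_congr rfl (fun k _ => ?_)
    beta_reduce
    rw [app_resL]
  rel0 := by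
    rintro (l | k)
    · change lc (cokernel φ) (D.r l) (fun j => (cokernel.π φ).val.app (op W) (D.m j)) = 0
      rw [← app_lc, lc_def, D.rel0 l, map_zero]
    · change lc (cokernel φ) (c k) (fun j => (cokernel.π φ).val.app (op W) (D.m j)) = 0
      rw [← app_lc, ← hc k, cokernel_π_app]
  rel := by
    intro V hV a x hx ha
    -- `q (∑ a_j f_j) = 0`
    have h0 : (cokernel.π φ).val.app (op V) (lc F a (fun j => resL F hV (D.m j))) = 0 := by
      rw [app_lc, ← ha]
      refine Finset.sum_congr rfl (fun k _ => ?_)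
      beta_reduce
      rw [app_resL]
    obtain ⟨V₁, hx₁, h₁, z, hz⟩ := exists_of_cokernel_π_eq_zero_LE φ _ h0 x hx
    obtain ⟨V₂, hx₂, h₂, e, he⟩ := hg V₁ (h₁.trans hV) z x hx₁
    -- compute `φ (z|V₂)` in two ways
    have e1 : φ.val.app (op V₂) (resL G h₂ z) =
        lc F (fun j => rL (h₂.trans h₁) (a j)) (fun j => resL F ((h₂.trans h₁).trans hV) (D.m j)) := by
      rw [app_resL, hz, resL_resL, resL_lc]
      congr 1
      funext j
      rw [resL_resL]
    have e2 : φ.val.app (op V₂) (resL G h₂ z) =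
        lc F (fun j => ∑ k, e k * rL ((h₂.trans h₁).trans hV) (c k j))
          (fun j => resL F ((h₂.trans h₁).trans hV) (D.m j)) := by
      rw [he]
      change φ.val.app (op V₂) (lc G e _) = _
      rw [app_lc, ← lc_lc]
      congr 1
      funext k
      rw [app_resL, hc k, resL_lc]
    have e3 : lc F (fun j => rL (h₂.trans h₁) (a j) -
        ∑ k, e k * rL ((h₂.trans h₁).trans hV) (c k j))
          (fun j => resL F ((h₂.trans h₁).trans hV) (D.m j)) = 0 := by
      rw [lc_sub, ← e1, ← e2, sub_self]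
    obtain ⟨V₃, hx₃, h₃, b, hb⟩ := D.rel V₂ ((h₂.trans h₁).trans hV) _ x hx₂ e3
    refine ⟨V₃, hx₃, h₃.trans (h₂.trans h₁), Sum.elim b (fun k => rL h₃ (e k)), fun j => ?_⟩
    have h4 := hb j
    rw [map_sub, map_sum, sub_eq_iff_eq_add] at h4
    rw [Fintype.sum_sum_type]
    simp only [Sum.elim_inl, Sum.elim_inr]
    rw [← rL_rL h₃ (h₂.trans h₁) (a j), h4]
    congr 1
    refine Finset.sum_congr rfl (fun k _ => ?_)
    rw [map_mul, rL_rL]

end Coker

end Groth.Agent.Lib.T1H4.ModElt
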