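import Mathlib
import Groth.Prelude.Def_ModSite2
import Groth.Agent.Lib.T1H4ModEltK

/-!
# S6833: cokernel of a map from a finite type module to a finitely presented module (helper4)
-/

set_option autoImplicit false
set_option linter.unusedSectionVars false
set_option linter.style.haveILetI false
universe u
open CategoryTheory CategoryTheory.Limits Opposite TopologicalSpace

namespace Groth.Agent.Lib.T1H4.ModElt

variable {X : TopCat.{u}} (O : TopCat.Sheaf CommRingCat.{u} X)

/-- near a point, finitely many sections of `F` are combinations of given local generators -/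
theorem exists_nbhd_coeffs {F : ModSite.Mod O} {W : Opens X} {I₀ : Type u} [Fintype I₀]
    (f : I₀ → F.val.obj (op W)) (hf : LocGenLE F W f) {K : Type*} [Finite K]
    (t : K → F.val.obj (op W)) (x : X) (hx : x ∈ W) :
    ∃ (W' : Opens X) (_ : x ∈ W') (hW : W' ≤ W) (c : K → I₀ → OS O W'),
      ∀ k, resL F hW (t k) = lc F (c k) (fun j => resL F hW (f j)) := by
  have h1 : ∀ k, ∃ V : Opens X, x ∈ V ∧ V ≤ W ∧
      (∃ (hV : V ≤ W) (c : I₀ → OS O V), resL F hV (t k) = lc F c (fun j => resL F hV (f j))) := by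
    intro k
    obtain ⟨V, hxV, hV, a, ha⟩ := hf W le_rfl (t k) x hx
    exact ⟨V, hxV, hV, hV, a, ha⟩
  have hmono : ∀ (k : K) (V V' : Opens X), V' ≤ V →
      (∃ (hV : V ≤ W) (c : I₀ → OS O V),
        resL F hV (t k) = lc F c (fun j => resL F hV (f j))) →
      (∃ (hV : V' ≤ W) (c : I₀ → OS O V'),
        resL F hV (t k) = lc F c (fun j => resL F hV (f j))) := by
    rintro k V V' hVV' ⟨hV, c, hc⟩
    refine ⟨hVV'.trans hV, fun j => rL hVV' (c j), ?_⟩
    have h3 := congrArg (resL F hVV') hc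
    rw [resL_resL, resL_lc] at h3
    rw [h3]
    congr 1
    funext j
    rw [resL_resL]
  obtain ⟨W', hxW', hW', h2⟩ := exists_common_nbhd x W hx
    (fun k V => ∃ (hV : V ≤ W) (c : I₀ → OS O V),
      resL F hV (t k) = lc F c (fun j => resL F hV (f j))) hmono h1
  choose hV c hc using h2
  exact ⟨W', hxW', hW', c, hc⟩

theorem isFinitePresentation_cokernel {G F : ModSite.Mod O} (φ : G ⟶ F)
    [SheafOfModules.IsFiniteType (R := ModSite.ringSh O) G]
    [SheafOfModules.IsFinitePresentation (R := ModSite.ringSh O) F] :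
    SheafOfModules.IsFinitePresentation (R := ModSite.ringSh O) (cokernel φ) := by
  apply isFinitePresentation_of_locPres
  intro x
  obtain ⟨W₁, hx₁, IG, hIG, g, hg⟩ := exists_locGen_of_isFiniteType O G x
  obtain ⟨W₂, hx₂, ⟨D⟩⟩ := exists_locPres_of_isFinitePresentation O F x
  let W : Opens X := W₁ ⊓ W₂
  have hxW : x ∈ W := ⟨hx₁, hx₂⟩
  let g₁ : IG → G.val.obj (op W) := fun k => resL G inf_le_left (g k)
  have hg₁ : LocGenLE G W g₁ := hg.restrict inf_le_left
  let D₁ : LocPres O F W := D.restrict inf_le_right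
  obtain ⟨W', hxW', hW', c, hc⟩ := exists_nbhd_coeffs O D₁.m D₁.gen
    (fun k => φ.val.app (op W) (g₁ k)) x hxW
  let g₂ : IG → G.val.obj (op W') := fun k => resL G hW' (g₁ k)
  have hg₂ : LocGenLE G W' g₂ := hg₁.restrict hW'
  let D₂ : LocPres O F W' := D₁.restrict hW'
  refine ⟨W', hxW', ⟨cokerLocPres φ g₂ hg₂ D₂ c (fun k => ?_)⟩⟩
  rw [app_resL]
  exact hc k

end Groth.Agent.Lib.T1H4.ModElt
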