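import Mathlib
import Groth.Prelude.Def_ModSite2
import Groth.Agent.Lib.T1H4ModEltL

/-!
# S6832: kernel of an epimorphism from a finite type module onto a finitely presented module
(helper4)
-/

set_option autoImplicit false
set_option linter.unusedSectionVars false
set_option linter.style.haveILetI false
universe u
open CategoryTheory CategoryTheory.Limits Opposite TopologicalSpace

namespace Groth.Agent.Lib.T1H4.ModElt

variable {X : TopCat.{u}} (O : TopCat.Sheaf CommRingCat.{u} X)

lemma lc_sub_right (M : ModSite.Mod O) {V : Opens X} {I : Type*} [Fintype I]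
    (a : I → OS O V) (t t' : I → M.val.obj (op V)) :
    lc M a (fun k => t k - t' k) = lc M a t - lc M a t' := by
  simp only [lc_def, smul_sub, Finset.sum_sub_distrib]

/-- near a point, finitely many sections lift through an epimorphism -/
theorem exists_nbhd_lifts {G F : ModSite.Mod O} (p : G ⟶ F) [Epi p] {W : Opens X}
    {K : Type*} [Finite K] (t : K → F.val.obj (op W)) (x : X) (hx : x ∈ W) :
    ∃ (W' : Opens X) (_ : x ∈ W') (hW : W' ≤ W) (u : K → G.val.obj (op W')),
      ∀ k, p.val.app (op W') (u k) = resL F hW (t k) := by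
  have h1 : ∀ k, ∃ V : Opens X, x ∈ V ∧ V ≤ W ∧
      (∃ (hV : V ≤ W) (u : G.val.obj (op V)), p.val.app (op V) u = resL F hV (t k)) := by
    intro k
    obtain ⟨V, hxV, hV, u, hu⟩ := exists_lift_LE p (t k) x hx
    exact ⟨V, hxV, hV, hV, u, hu⟩
  have hmono : ∀ (k : K) (V V' : Opens X), V' ≤ V →
      (∃ (hV : V ≤ W) (u : G.val.obj (op V)), p.val.app (op V) u = resL F hV (t k)) →
      (∃ (hV : V' ≤ W) (u : G.val.obj (op V')), p.val.app (op V') u = resL F hV (t k)) := by
    rintro k V V' hVV' ⟨hV, u, hu⟩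
    refine ⟨hVV'.trans hV, resL G hVV' u, ?_⟩
    rw [app_resL, hu, resL_resL]
  obtain ⟨W', hxW', hW', h2⟩ := exists_common_nbhd x W hx
    (fun k V => ∃ (hV : V ≤ W) (u : G.val.obj (op V)), p.val.app (op V) u = resL F hV (t k))
    hmono h1
  choose hV u hu using h2
  exact ⟨W', hxW', hW', u, hu⟩

section Ker

variable {O}
variable {G F : ModSite.Mod O} (θ : G ⟶ F) {W : Opens X} {IG : Type u} [Fintype IG]
  (g : IG → G.val.obj (op W)) (hg : LocGenLE G W g) (D : LocPres O F W)
  (c : IG → D.I₀ → OS O W) (hc : ∀ k, θ.val.app (op W) (g k) = lc F (c k) D.m)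
  (u : D.I₀ → G.val.obj (op W)) (hu : ∀ j, θ.val.app (op W) (u j) = D.m j)

/-- the elements of `G` generating the kernel -/
noncomputable def kerElt : D.I₁ ⊕ IG → G.val.obj (op W) :=
  Sum.elim (fun l => lc G (D.r l) u) (fun k => g k - lc G (c k) u)

include hc hu in
lemma θ_kerElt (i : D.I₁ ⊕ IG) : θ.val.app (op W) (kerElt g D c u i) = 0 := by
  have hu' : (fun j => θ.val.app (op W) (u j)) = D.m := funext hu
  rcases i with l | k
  · change θ.val.app (op W) (lc G (D.r l) u) = 0
    rw [app_lc, hu', lc_def, D.rel0 l]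
  · change θ.val.app (op W) (g k - lc G (c k) u) = 0
    rw [map_sub, app_lc, hu', hc k, sub_self]

include hc hu in
lemma exists_kerLift (i : D.I₁ ⊕ IG) :
    ∃ w : (kernel θ).val.obj (op W), (kernel.ι θ).val.app (op W) w = kerElt g D c u i :=
  exists_kernel_lift (O := O) θ W _ (θ_kerElt θ g D c hc u hu i)

/-- the generators of the kernel -/
noncomputable def kerGen (i : D.I₁ ⊕ IG) : (kernel θ).val.obj (op W) :=
  (exists_kerLift θ g D c hc u hu i).choose

lemma ι_kerGen (i : D.I₁ ⊕ IG) :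
    (kernel.ι θ).val.app (op W) (kerGen θ g D c hc u hu i) = kerElt g D c u i :=
  (exists_kerLift θ g D c hc u hu i).choose_spec

include hg in
theorem kerGen_locGen : LocGenLE (kernel θ) W (kerGen θ g D c hc u hu) := by
  intro V hV w x hx
  set y := (kernel.ι θ).val.app (op V) w with hy
  have hθy : θ.val.app (op V) y = 0 := kernel_ι_app (O := O) θ V w
  obtain ⟨V₁, hx₁, h₁, e, he⟩ := hg V hV y x hx
  -- the relation among the generators of `F`
  have e1 : lc F (fun j => ∑ k, e k * rL (h₁.trans hV) (c k j))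
      (fun j => resL F (h₁.trans hV) (D.m j)) = 0 := by
    have h2 := congrArg (θ.val.app (op V₁)) he
    rw [app_resL, hθy, map_zero] at h2
    change 0 = θ.val.app (op V₁) (lc G e _) at h2
    rw [app_lc] at h2
    rw [h2, ← lc_lc]
    congr 1
    funext k
    rw [app_resL, hc k, resL_lc]
  obtain ⟨V₂, hx₂, h₂, b, hb⟩ := D.rel V₁ (h₁.trans hV) _ x hx₁ e1
  refine ⟨V₂, hx₂, h₂.trans h₁, Sum.elim b (fun k => rL h₂ (e k)), ?_⟩
  haveI : Mono (kernel.ι θ) := inferInstance
  apply injective_app_of_mono (O := O) (kernel.ι θ) V₂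
  have hW₂ : V₂ ≤ W := (h₂.trans h₁).trans hV
  -- left hand side
  have l1 : (kernel.ι θ).val.app (op V₂) (resL (kernel θ) (h₂.trans h₁) w) =
      lc G (fun k => rL h₂ (e k)) (fun k => resL G hW₂ (g k)) := by
    rw [app_resL, ← hy, ← resL_resL G h₂ h₁ y, he]
    change resL G h₂ (lc G e _) = _
    rw [resL_lc]
    congr 1
    funext k
    rw [resL_resL]
  -- right hand side
  have r1 : (kernel.ι θ).val.app (op V₂)
      (∑ i, Sum.elim b (fun k => rL h₂ (e k)) i •
        resL (kernel θ) ((h₂.trans h₁).trans hV) (kerGen θ g D c hc u hu i)) =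
      lc G (Sum.elim b (fun k => rL h₂ (e k))) (fun i => resL G hW₂ (kerElt g D c u i)) := by
    change (kernel.ι θ).val.app (op V₂) (lc (kernel θ) _ _) = _
    rw [app_lc]
    congr 1
    funext i
    rw [app_resL, ι_kerGen]
  rw [l1, r1, lc_sum_type]
  simp only [Sum.elim_inl, Sum.elim_inr, kerElt]
  have r2 : (fun l => resL G hW₂ (lc G (D.r l) u)) =
      fun l => lc G (fun j => rL hW₂ (D.r l j)) (fun j => resL G hW₂ (u j)) := by
    funext l
    rw [resL_lc]
  have r3 : (fun k => resL G hW₂ (g k - lc G (c k) u)) =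
      fun k => resL G hW₂ (g k) - lc G (fun j => rL hW₂ (c k j)) (fun j => resL G hW₂ (u j)) := by
    funext k
    rw [map_sub, resL_lc]
  rw [r2, r3, lc_sub_right, lc_lc, lc_lc]
  have r4 : (fun j => ∑ l, b l * rL hW₂ (D.r l j)) =
      fun j => ∑ k, rL h₂ (e k) * rL hW₂ (c k j) := by
    funext j
    have h5 := hb j
    rw [map_sum] at h5
    have h6 : ∀ l, rL (h₂.trans (h₁.trans hV)) (D.r l j) = rL hW₂ (D.r l j) := fun l => rfl
    rw [← h5]
    refine Finset.sum_congr rfl (fun k _ => ?_)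
    rw [map_mul, rL_rL]
  rw [r4]
  abel

end Ker

theorem isFiniteType_kernel {G F : ModSite.Mod O} (θ : G ⟶ F) [Epi θ]
    [SheafOfModules.IsFiniteType (R := ModSite.ringSh O) G]
    [SheafOfModules.IsFinitePresentation (R := ModSite.ringSh O) F] :
    SheafOfModules.IsFiniteType (R := ModSite.ringSh O) (kernel θ) := by
  apply isFiniteType_of_locGen
  intro x
  obtain ⟨W₁, hx₁, IG, hIG, g, hg⟩ := exists_locGen_of_isFiniteType O G x
  obtain ⟨W₂, hx₂, ⟨D⟩⟩ := exists_locPres_of_isFinitePresentation O F x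
  let W : Opens X := W₁ ⊓ W₂
  have hxW : x ∈ W := ⟨hx₁, hx₂⟩
  let g₁ : IG → G.val.obj (op W) := fun k => resL G inf_le_left (g k)
  have hg₁ : LocGenLE G W g₁ := hg.restrict inf_le_left
  let D₁ : LocPres O F W := D.restrict inf_le_right
  -- lift the generators of `F`
  obtain ⟨W', hxW', hW', u, hu⟩ := exists_nbhd_lifts O θ D₁.m x hxW
  let g₂ : IG → G.val.obj (op W') := fun k => resL G hW' (g₁ k)
  have hg₂ : LocGenLE G W' g₂ := hg₁.restrict hW'
  let D₂ : LocPres O F W' := D₁.restrict hW'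
  -- express the images of the generators of `G`
  obtain ⟨W'', hxW'', hW'', c, hc⟩ := exists_nbhd_coeffs O D₂.m D₂.gen
    (fun k => θ.val.app (op W') (g₂ k)) x hxW'
  let g₃ : IG → G.val.obj (op W'') := fun k => resL G hW'' (g₂ k)
  have hg₃ : LocGenLE G W'' g₃ := hg₂.restrict hW''
  let D₃ : LocPres O F W'' := D₂.restrict hW''
  let u₃ : D₃.I₀ → G.val.obj (op W'') := fun j => resL G hW'' (u j)
  have hc₃ : ∀ k, θ.val.app (op W'') (g₃ k) = lc F (c k) D₃.m := by
    intro k
    rw [app_resL]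
    exact hc k
  have hu₃ : ∀ j, θ.val.app (op W'') (u₃ j) = D₃.m j := by
    intro j
    rw [app_resL, hu j]
    rfl
  exact ⟨W'', hxW'', D₃.I₁ ⊕ IG, inferInstance, kerGen θ g₃ D₃ c hc₃ u₃ hu₃,
    kerGen_locGen θ g₃ hg₃ D₃ c hc₃ u₃ hu₃⟩

end Groth.Agent.Lib.T1H4.ModElt
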