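import Mathlib
import Groth.Prelude.Def_ModSite2
import Groth.Agent.Lib.T1H4ModEltM

/-!
# Germs on a ringed space, `≤` calculus (helper4)
-/

set_option autoImplicit false
set_option linter.unusedSectionVars false
set_option linter.style.haveILetI false
universe u
open CategoryTheory CategoryTheory.Limits Opposite TopologicalSpace

namespace Groth.Agent.Lib.T1H4.ModElt

variable {X : TopCat.{u}} {O : TopCat.Sheaf CommRingCat.{u} X} (x : X)

/-- the point of the site of opens attached to `x` -/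
abbrev pt : GrothendieckTopology.Point.{u} (Opens.grothendieckTopology X) :=
  Opens.pointGrothendieckTopology x

/-- the germ of a section -/
noncomputable def gm (M : ModSite.Mod O) {U : Opens X} (hx : x ∈ U) (s : M.val.obj (op U)) :
    ModSite.stalkAb (pt x) M := ModSite.germ (pt x) M U ⟨⟨hx⟩⟩ s

/-- the germ of a function -/
noncomputable def gR {U : Opens X} (hx : x ∈ U) (a : OS O U) :
    ModSite.stalkRing (pt x) O := ModSite.germRing (pt x) U ⟨⟨hx⟩⟩ a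

lemma gm_resL (M : ModSite.Mod O) {U' U : Opens X} (h : U' ≤ U) (hx' : x ∈ U')
    (s : M.val.obj (op U)) : gm x M hx' (resL M h s) = gm x M (h hx') s :=
  (pt x).toPresheafFiber_w_apply (homOfLE h) ⟨⟨hx'⟩⟩ (ModSite.toAb M).obj s

lemma gR_rL {U' U : Opens X} (h : U' ≤ U) (hx' : x ∈ U') (a : OS O U) :
    gR x hx' (rL h a) = gR x (h hx') a :=
  (pt x).toPresheafFiber_w_apply (homOfLE h) ⟨⟨hx'⟩⟩ O.obj a

lemma gm_smul (M : ModSite.Mod O) {U : Opens X} (hx : x ∈ U) (a : OS O U)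
    (s : M.val.obj (op U)) : gm x M hx (a • s) = gR x hx a • gm x M hx s :=
  ModSite.germ_smul (pt x) M U ⟨⟨hx⟩⟩ a s

lemma gm_add (M : ModSite.Mod O) {U : Opens X} (hx : x ∈ U) (s s' : M.val.obj (op U)) :
    gm x M hx (s + s') = gm x M hx s + gm x M hx s' :=
  map_add ((pt x).toPresheafFiber U ⟨⟨hx⟩⟩ (ModSite.toAb M).obj).hom s s'

lemma gm_zero (M : ModSite.Mod O) {U : Opens X} (hx : x ∈ U) :
    gm x M hx (0 : M.val.obj (op U)) = 0 :=
  map_zero ((pt x).toPresheafFiber U ⟨⟨hx⟩⟩ (ModSite.toAb M).obj).hom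

lemma gm_sum (M : ModSite.Mod O) {U : Opens X} (hx : x ∈ U) {I : Type*} [Fintype I]
    (s : I → M.val.obj (op U)) : gm x M hx (∑ k, s k) = ∑ k, gm x M hx (s k) :=
  map_sum ((pt x).toPresheafFiber U ⟨⟨hx⟩⟩ (ModSite.toAb M).obj).hom s Finset.univ

lemma gm_lc (M : ModSite.Mod O) {U : Opens X} (hx : x ∈ U) {I : Type*} [Fintype I]
    (a : I → OS O U) (s : I → M.val.obj (op U)) :
    gm x M hx (lc M a s) = ∑ k, gR x hx (a k) • gm x M hx (s k) := by
  rw [lc_def, gm_sum]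
  exact Finset.sum_congr rfl (fun k _ => gm_smul x M hx (a k) (s k))

/-- the germ of functions as a ring homomorphism -/
noncomputable def gRHom {U : Opens X} (hx : x ∈ U) : OS O U →+* ModSite.stalkRing (pt x) O :=
  ((pt x).toPresheafFiber U ⟨⟨hx⟩⟩ O.obj).hom

lemma gRHom_apply {U : Opens X} (hx : x ∈ U) (a : OS O U) : gRHom x hx a = gR x hx a := rfl

lemma exists_gm_eq (M : ModSite.Mod O) (τ : ModSite.stalkAb (pt x) M) :
    ∃ (U : Opens X) (hx : x ∈ U) (s : M.val.obj (op U)), gm x M hx s = τ := by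
  obtain ⟨U, ⟨⟨hx⟩⟩, s, hs⟩ :=
    (pt x).toPresheafFiber_jointly_surjective (P := (ModSite.toAb M).obj) τ
  exact ⟨U, hx, s, hs⟩

lemma exists_gR_eq (α : ModSite.stalkRing (pt x) O) :
    ∃ (U : Opens X) (hx : x ∈ U) (a : OS O U), gR x hx a = α := by
  obtain ⟨U, ⟨⟨hx⟩⟩, a, ha⟩ :=
    (pt x).toPresheafFiber_jointly_surjective (P := O.obj) α
  exact ⟨U, hx, a, ha⟩

lemma exists_resL_eq_of_gm_eq (M : ModSite.Mod O) {U : Opens X} (hx : x ∈ U)
    (s s' : M.val.obj (op U)) (h : gm x M hx s = gm x M hx s') :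
    ∃ (U' : Opens X) (_ : x ∈ U') (h' : U' ≤ U), resL M h' s = resL M h' s' := by
  obtain ⟨U', f, ⟨⟨hx'⟩⟩, -, hf⟩ :=
    ((pt x).toPresheafFiber_eq_iff' (P := (ModSite.toAb M).obj) U ⟨⟨hx⟩⟩ s s').1 h
  exact ⟨U', hx', leOfHom f, hf⟩

lemma exists_rL_eq_of_gR_eq {U : Opens X} (hx : x ∈ U)
    (a a' : OS O U) (h : gR x hx a = gR x hx a') :
    ∃ (U' : Opens X) (_ : x ∈ U') (h' : U' ≤ U), rL h' a = rL h' a' := by
  obtain ⟨U', f, ⟨⟨hx'⟩⟩, -, hf⟩ :=
    ((pt x).toPresheafFiber_eq_iff' (P := O.obj) U ⟨⟨hx⟩⟩ a a').1 h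
  exact ⟨U', hx', leOfHom f, hf⟩

end Groth.Agent.Lib.T1H4.ModElt
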