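import Mathlib
import Groth.Prelude.Def_ModSite2
import Groth.Agent.Lib.T1H4ModEltN

/-!
# Free modules from generating independent sections (helper4)
-/

set_option autoImplicit false
set_option linter.unusedSectionVars false
set_option linter.style.haveILetI false
universe u
open CategoryTheory CategoryTheory.Limits Opposite TopologicalSpace

namespace Groth.Agent.Lib.T1H4.ModElt

section Site

variable {C : Type u} [SmallCategory C] {J : GrothendieckTopology C} {O : Sheaf J CommRingCat.{u}}

/-- a morphism of modules which is injective on sections is a monomorphism -/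
theorem mono_of_injective_app {G G' : ModSite.Mod O} (α : G ⟶ G')
    (h : ∀ Y : C, Function.Injective (α.val.app (op Y))) : Mono α := by
  refine ⟨fun {Z} f g hfg => ?_⟩
  apply SheafOfModules.hom_ext
  apply PresheafOfModules.hom_ext
  intro Y
  apply ModuleCat.hom_ext
  apply LinearMap.ext
  intro z
  apply h Y.unop
  exact congrArg (fun ψ : Z ⟶ G' => ψ.val.app Y z) hfg

variable {t : C} (ht : IsTerminal t)

/-- independent locally generating sections give an isomorphism from the free module -/
theorem isIso_πOf {N : ModSite.Mod O} {I : Type u} [Fintype I] (m : I → N.val.obj (op t))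
    (hgen : GenLoc ht N m)
    (hind : ∀ (Y : C) (a : I → (ModSite.ringSh O).obj.obj (op Y)),
      ∑ k, a k • rT ht N Y (m k) = 0 → ∀ k, a k = 0) :
    IsIso (πOf ht m) := by
  haveI : Epi (πOf ht m) := epi_πOf ht m hgen
  haveI : Mono (πOf ht m) := by
    apply mono_of_injective_app
    intro Y
    refine (injective_iff_map_eq_zero ((πOf ht m).val.app (op Y)).hom).2 ?_
    intro z hz
    rw [eq_sum_coord_eps I Y z] at hz ⊢
    have h1 := (πOf_sum_smul_eps ht m Y (fun k => coord (O := O) I Y k z)).symm.trans hz
    have h2 := hind Y _ h1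
    refine Finset.sum_eq_zero (fun k _ => ?_)
    rw [h2 k, zero_smul]
  exact isIso_of_mono_of_epi _

end Site

variable {X : TopCat.{u}} (O : TopCat.Sheaf CommRingCat.{u} X)

/-- on a ringed space: independent locally generating sections over `U` trivialise `F|_U` -/
theorem nonempty_iso_free_of_locGen_indep (F : ModSite.Mod O) (U : Opens X) {I : Type u}
    [Fintype I] (s : I → F.val.obj (op U)) (hgen : LocGenLE F U s)
    (hind : ∀ (V : Opens X) (hV : V ≤ U) (b : I → OS O V),
      ∑ k, b k • resL F hV (s k) = 0 → ∀ k, b k = 0) :
    Nonempty ((ModSite.restr O U).obj F ≅ SheafOfModules.free I) := by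
  have h1 : GenLoc (O := O.over U) (topWIsTerminal U) ((ModSite.restr O U).obj F) s :=
    genLoc_of_locGen O F U s ((locGenLE_iff F U _).1 hgen)
  haveI : IsIso (πOf (O := O.over U) (topWIsTerminal U) (N := (ModSite.restr O U).obj F) s) := by
    apply isIso_πOf (O := O.over U) (topWIsTerminal U) (N := (ModSite.restr O U).obj F) s h1
    intro Y a ha
    apply hind Y.left (leOfHom Y.hom) a
    refine Eq.trans (Finset.sum_congr rfl (fun k _ => ?_)) ha
    rw [rT_eq]
    rfl
  exact ⟨(asIso (πOf (O := O.over U) (topWIsTerminal U)
    (N := (ModSite.restr O U).obj F) s)).symm⟩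

end Groth.Agent.Lib.T1H4.ModElt
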