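import Mathlib
import Groth.Prelude.Def_ModSite2
import Groth.Agent.Lib.T1H4ModEltO

/-!
# Finite families of germs; the local freeness criterion (helper4)
-/

set_option autoImplicit false
set_option linter.unusedSectionVars false
set_option linter.style.haveILetI false
universe u
open CategoryTheory CategoryTheory.Limits Opposite TopologicalSpace

namespace Groth.Agent.Lib.T1H4.ModElt

variable {X : TopCat.{u}} {O : TopCat.Sheaf CommRingCat.{u} X}

/-- finitely many germs of sections are realised on a common neighbourhood -/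
theorem exists_nbhd_gm_eq (x : X) (M : ModSite.Mod O) (W : Opens X) (hxW : x ∈ W)
    {K : Type*} [Finite K] (τ : K → ModSite.stalkAb (pt x) M) :
    ∃ (W' : Opens X) (hx : x ∈ W') (_ : W' ≤ W) (s : K → M.val.obj (op W')),
      ∀ k, gm x M hx (s k) = τ k := by
  have h1 : ∀ k, ∃ V : Opens X, x ∈ V ∧ V ≤ W ∧
      (∀ hx : x ∈ V, ∃ s : M.val.obj (op V), gm x M hx s = τ k) := by
    intro k
    obtain ⟨V, hxV, s, hs⟩ := exists_gm_eq x M (τ k)
    refine ⟨V ⊓ W, ⟨hxV, hxW⟩, inf_le_right, fun hx => ⟨resL M inf_le_left s, ?_⟩⟩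
    rw [gm_resL, hs]
  have hmono : ∀ (k : K) (V V' : Opens X), V' ≤ V →
      (∀ hx : x ∈ V, ∃ s : M.val.obj (op V), gm x M hx s = τ k) →
      (∀ hx : x ∈ V', ∃ s : M.val.obj (op V'), gm x M hx s = τ k) := by
    intro k V V' hVV' h hx'
    obtain ⟨s, hs⟩ := h (hVV' hx')
    exact ⟨resL M hVV' s, by rw [gm_resL, hs]⟩
  obtain ⟨W', hxW', hW', h2⟩ := exists_common_nbhd x W hxW
    (fun k V => ∀ hx : x ∈ V, ∃ s : M.val.obj (op V), gm x M hx s = τ k) hmono h1
  choose s hs using fun k => h2 k hxW'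
  exact ⟨W', hxW', hW', s, hs⟩

/-- finitely many germs of functions are realised on a common neighbourhood -/
theorem exists_nbhd_gR_eq (x : X) (W : Opens X) (hxW : x ∈ W)
    {K : Type*} [Finite K] (α : K → ModSite.stalkRing (pt x) O) :
    ∃ (W' : Opens X) (hx : x ∈ W') (_ : W' ≤ W) (a : K → OS O W'),
      ∀ k, gR x hx (a k) = α k := by
  have h1 : ∀ k, ∃ V : Opens X, x ∈ V ∧ V ≤ W ∧
      (∀ hx : x ∈ V, ∃ a : OS O V, gR x hx a = α k) := by
    intro k
    obtain ⟨V, hxV, a, ha⟩ := exists_gR_eq x (α k)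
    refine ⟨V ⊓ W, ⟨hxV, hxW⟩, inf_le_right, fun hx => ⟨rL inf_le_left a, ?_⟩⟩
    rw [gR_rL, ha]
  have hmono : ∀ (k : K) (V V' : Opens X), V' ≤ V →
      (∀ hx : x ∈ V, ∃ a : OS O V, gR x hx a = α k) →
      (∀ hx : x ∈ V', ∃ a : OS O V', gR x hx a = α k) := by
    intro k V V' hVV' h hx'
    obtain ⟨a, ha⟩ := h (hVV' hx')
    exact ⟨rL hVV' a, by rw [gR_rL, ha]⟩
  obtain ⟨W', hxW', hW', h2⟩ := exists_common_nbhd x W hxW
    (fun k V => ∀ hx : x ∈ V, ∃ a : OS O V, gR x hx a = α k) hmono h1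
  choose a ha using fun k => h2 k hxW'
  exact ⟨W', hxW', hW', a, ha⟩

/-- finitely many pairs of sections with equal germs agree on all small neighbourhoods -/
theorem exists_nbhd_resL_eq (x : X) (M : ModSite.Mod O) (W : Opens X) (hxW : x ∈ W)
    {K : Type*} [Finite K] (t t' : K → M.val.obj (op W))
    (h : ∀ k, gm x M hxW (t k) = gm x M hxW (t' k)) :
    ∃ (W' : Opens X) (_ : x ∈ W') (_ : W' ≤ W), ∀ (V : Opens X) (_ : V ≤ W') (hV : V ≤ W) (k : K),
      resL M hV (t k) = resL M hV (t' k) := by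
  have h1 : ∀ k, ∃ V : Opens X, x ∈ V ∧ V ≤ W ∧
      (resL M (inf_le_right : V ⊓ W ≤ W) (t k) = resL M (inf_le_right : V ⊓ W ≤ W) (t' k)) := by
    intro k
    obtain ⟨V, hxV, hV, hk⟩ := exists_resL_eq_of_gm_eq x M hxW (t k) (t' k) (h k)
    refine ⟨V, hxV, hV, ?_⟩
    have h2 := congrArg (resL M (inf_le_left : V ⊓ W ≤ V)) hk
    rw [resL_resL, resL_resL] at h2
    exact h2
  have hmono : ∀ (k : K) (V V' : Opens X), V' ≤ V →
      (resL M (inf_le_right : V ⊓ W ≤ W) (t k) = resL M (inf_le_right : V ⊓ W ≤ W) (t' k)) →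
      (resL M (inf_le_right : V' ⊓ W ≤ W) (t k) =
        resL M (inf_le_right : V' ⊓ W ≤ W) (t' k)) := by
    intro k V V' hVV' hk
    have h2 := congrArg (resL M (inf_le_inf_right W hVV' : V' ⊓ W ≤ V ⊓ W)) hk
    rw [resL_resL, resL_resL] at h2
    exact h2
  obtain ⟨W', hxW', hW', h2⟩ := exists_common_nbhd x W hxW
    (fun k V => resL M (inf_le_right : V ⊓ W ≤ W) (t k) =
      resL M (inf_le_right : V ⊓ W ≤ W) (t' k)) hmono h1
  refine ⟨W', hxW', hW', fun V hVW' hV k => ?_⟩
  have h3 := congrArg (resL M (le_inf hVW' hV : V ≤ W' ⊓ W)) (h2 k)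
  rw [resL_resL, resL_resL] at h3
  exact h3

/-- finitely many pairs of functions with equal germs agree on all small neighbourhoods -/
theorem exists_nbhd_rL_eq (x : X) (W : Opens X) (hxW : x ∈ W)
    {K : Type*} [Finite K] (a a' : K → OS O W)
    (h : ∀ k, gR x hxW (a k) = gR x hxW (a' k)) :
    ∃ (W' : Opens X) (_ : x ∈ W') (_ : W' ≤ W), ∀ (V : Opens X) (_ : V ≤ W') (hV : V ≤ W) (k : K),
      rL hV (a k) = rL hV (a' k) := by
  have h1 : ∀ k, ∃ V : Opens X, x ∈ V ∧ V ≤ W ∧
      (rL (inf_le_right : V ⊓ W ≤ W) (a k) = rL (inf_le_right : V ⊓ W ≤ W) (a' k)) := by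
    intro k
    obtain ⟨V, hxV, hV, hk⟩ := exists_rL_eq_of_gR_eq x hxW (a k) (a' k) (h k)
    refine ⟨V, hxV, hV, ?_⟩
    have h2 := congrArg (rL (inf_le_left : V ⊓ W ≤ V)) hk
    rw [rL_rL, rL_rL] at h2
    exact h2
  have hmono : ∀ (k : K) (V V' : Opens X), V' ≤ V →
      (rL (inf_le_right : V ⊓ W ≤ W) (a k) = rL (inf_le_right : V ⊓ W ≤ W) (a' k)) →
      (rL (inf_le_right : V' ⊓ W ≤ W) (a k) = rL (inf_le_right : V' ⊓ W ≤ W) (a' k)) := by
    intro k V V' hVV' hk
    have h2 := congrArg (rL (inf_le_inf_right W hVV' : V' ⊓ W ≤ V ⊓ W)) hk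
    rw [rL_rL, rL_rL] at h2
    exact h2
  obtain ⟨W', hxW', hW', h2⟩ := exists_common_nbhd x W hxW
    (fun k V => rL (inf_le_right : V ⊓ W ≤ W) (a k) =
      rL (inf_le_right : V ⊓ W ≤ W) (a' k)) hmono h1
  refine ⟨W', hxW', hW', fun V hVW' hV k => ?_⟩
  have h3 := congrArg (rL (le_inf hVW' hV : V ≤ W' ⊓ W)) (h2 k)
  rw [rL_rL, rL_rL] at h3
  exact h3

/-- a function which is locally zero is zero -/
theorem eq_zero_of_locally_rL {V : Opens X} (a : OS O V)
    (h : ∀ x ∈ V, ∃ (V' : Opens X) (_ : x ∈ V') (h' : V' ≤ V), rL h' a = 0) : a = 0 :=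
  eq_zero_of_locally_LE (O := O) (SheafOfModules.unit (ModSite.ringSh O)) (V := V) a h

/-- the local freeness criterion: generators `m` with relations `r`, and sections `s` with
`m = a s`, `s = d m`, `r a = 0`, `d a = 1` -/
theorem free_core (F : ModSite.Mod O) (U : Opens X) {I₀ I₁ K : Type u} [Fintype I₀] [Fintype I₁]
    [Fintype K] [DecidableEq K]
    (m : I₀ → F.val.obj (op U)) (r : I₁ → I₀ → OS O U)
    (hgen : LocGenLE F U m) (hrel : LocRelLE F U m r)
    (s : K → F.val.obj (op U)) (a : I₀ → K → OS O U) (d : K → I₀ → OS O U)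
    (hA : ∀ j, m j = lc F (a j) s) (hB : ∀ k, s k = lc F (d k) m)
    (hC : ∀ l k', ∑ j, r l j * a j k' = 0)
    (hD : ∀ k k', ∑ j, d k j * a j k' = if k = k' then 1 else 0) :
    LocGenLE F U s ∧ ∀ (V : Opens X) (hV : V ≤ U) (b : K → OS O V),
      ∑ k, b k • resL F hV (s k) = 0 → ∀ k, b k = 0 := by
  constructor
  · intro V hV t x hx
    obtain ⟨V', hxV', h', c, hc⟩ := hgen V hV t x hx
    refine ⟨V', hxV', h', fun k => ∑ j, c j * rL (h'.trans hV) (a j k), ?_⟩
    rw [hc]
    have h1 : ∀ j, resL F (h'.trans hV) (m j) =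
        lc F (fun k => rL (h'.trans hV) (a j k)) (fun k => resL F (h'.trans hV) (s k)) := by
      intro j
      rw [← resL_lc, ← hA j]
    change lc F c (fun j => resL F (h'.trans hV) (m j)) =
      lc F (fun k => ∑ j, c j * rL (h'.trans hV) (a j k)) (fun k => resL F (h'.trans hV) (s k))
    rw [← lc_lc]
    congr 1
    funext j
    exact h1 j
  · intro V hV b hb k'
    apply eq_zero_of_locally_rL
    intro x hx
    -- the relation among the `m j`
    have h1 : ∀ k, resL F hV (s k) =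
        lc F (fun j => rL hV (d k j)) (fun j => resL F hV (m j)) := by
      intro k
      rw [← resL_lc, ← hB k]
    have h2 : lc F (fun j => ∑ k, b k * rL hV (d k j)) (fun j => resL F hV (m j)) = 0 := by
      rw [← lc_lc]
      refine Eq.trans ?_ hb
      rw [lc_def]
      exact Finset.sum_congr rfl (fun k _ => by rw [h1 k])
    obtain ⟨V', hxV', h', c, hc⟩ := hrel V hV (fun j => ∑ k, b k * rL hV (d k j)) x hx h2
    refine ⟨V', hxV', h', ?_⟩
    have hD' : ∀ k, ∑ j, rL (h'.trans hV) (d k j) * rL (h'.trans hV) (a j k') =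
        if k = k' then 1 else 0 := by
      intro k
      have := congrArg (rL (h'.trans hV)) (hD k k')
      rw [map_sum] at this
      simp only [map_mul] at this
      rw [this]
      split_ifs
      · exact map_one _
      · exact map_zero _
    have hC' : ∀ l, ∑ j, rL (h'.trans hV) (r l j) * rL (h'.trans hV) (a j k') = 0 := by
      intro l
      have := congrArg (rL (h'.trans hV)) (hC l k')
      rw [map_sum, map_zero] at this
      simp only [map_mul] at this
      exact this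
    have hc' : ∀ j, ∑ k, rL h' (b k) * rL (h'.trans hV) (d k j) =
        ∑ l, c l * rL (h'.trans hV) (r l j) := by
      intro j
      rw [← hc j, map_sum]
      refine Finset.sum_congr rfl (fun k _ => ?_)
      rw [map_mul, rL_rL]
    calc rL h' (b k') = ∑ k, rL h' (b k) * (if k = k' then 1 else 0) := by
          rw [Finset.sum_eq_single k']
          · rw [if_pos rfl, mul_one]
          · intro k _ hk
            rw [if_neg hk, mul_zero]
          · intro h
            exact absurd (Finset.mem_univ k') h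
      _ = ∑ k, rL h' (b k) * ∑ j, rL (h'.trans hV) (d k j) * rL (h'.trans hV) (a j k') :=
          Finset.sum_congr rfl (fun k _ => by rw [hD' k])
      _ = ∑ j, (∑ k, rL h' (b k) * rL (h'.trans hV) (d k j)) * rL (h'.trans hV) (a j k') := by
          simp only [Finset.mul_sum, Finset.sum_mul, mul_assoc]
          exact Finset.sum_comm
      _ = ∑ j, (∑ l, c l * rL (h'.trans hV) (r l j)) * rL (h'.trans hV) (a j k') :=
          Finset.sum_congr rfl (fun j _ => by rw [hc' j])
      _ = ∑ l, c l * ∑ j, rL (h'.trans hV) (r l j) * rL (h'.trans hV) (a j k') := by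
          simp only [Finset.mul_sum, Finset.sum_mul, mul_assoc]
          exact Finset.sum_comm
      _ = 0 := Finset.sum_eq_zero (fun l _ => by rw [hC' l, mul_zero])

end Groth.Agent.Lib.T1H4.ModElt
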