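import Mathlib
import Groth.Prelude.Def_ModSite2
import Groth.Agent.Lib.T1H4ModEltP

/-!
# A finitely presented module with a free stalk is free near the point (helper4)
-/

set_option autoImplicit false
set_option linter.unusedSectionVars false
set_option linter.style.haveILetI false
universe u
open CategoryTheory CategoryTheory.Limits Opposite TopologicalSpace

namespace Groth.Agent.Lib.T1H4.ModElt

variable {X : TopCat.{u}} (O : TopCat.Sheaf CommRingCat.{u} X)

/-- from germ-level data on a neighbourhood `W` of `x` to a trivialisation near `x` -/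
theorem free_of_germ_data (F : ModSite.Mod O) (x : X) (W : Opens X) (hxW : x ∈ W)
    {I₀ I₁ K : Type u} [Fintype I₀] [Fintype I₁] [Fintype K] [DecidableEq K]
    (m : I₀ → F.val.obj (op W)) (r : I₁ → I₀ → OS O W)
    (hgen : LocGenLE F W m) (hrel0 : ∀ l, lc F (r l) m = 0) (hrel : LocRelLE F W m r)
    (bas : Module.Basis K (ModSite.stalkRing (pt x) O) (ModSite.stalkAb (pt x) F))
    (s : K → F.val.obj (op W)) (a : I₀ → K → OS O W) (d : K → I₀ → OS O W)
    (hs : ∀ k, gm x F hxW (s k) = bas k)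
    (ha : ∀ j k, gR x hxW (a j k) = bas.repr (gm x F hxW (m j)) k)
    (hB : ∀ k, s k = lc F (d k) m) :
    ∃ U : Opens X, x ∈ U ∧ Nonempty ((ModSite.restr O U).obj F ≅ SheafOfModules.free K) := by
  -- the key computation
  have key : ∀ (c : I₀ → OS O W) (k' : K), bas.repr (gm x F hxW (lc F c m)) k' =
      gR x hxW (∑ j, c j * a j k') := by
    intro c k'
    rw [gm_lc, map_sum, Finsupp.coe_finsetSum, Finset.sum_apply]
    have h1 : gR x hxW (∑ j, c j * a j k') = ∑ j, gR x hxW (c j) * gR x hxW (a j k') := by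
      have := map_sum (gRHom x hxW) (fun j => c j * a j k') Finset.univ
      simp only [map_mul, gRHom_apply] at this
      exact this
    rw [h1]
    refine Finset.sum_congr rfl (fun j _ => ?_)
    rw [map_smul, Finsupp.smul_apply, smul_eq_mul, ha j k']
  have hA_germ : ∀ j, gm x F hxW (m j) = gm x F hxW (lc F (a j) s) := by
    intro j
    rw [gm_lc]
    simp only [hs, ha]
    exact (bas.sum_repr _).symm
  have hC_germ : ∀ p : I₁ × K, gR x hxW (∑ j, r p.1 j * a j p.2) = gR x hxW 0 := by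
    intro p
    rw [← key, hrel0 p.1, gm_zero, map_zero]
    exact (map_zero (gRHom x hxW)).symm
  have hD_germ : ∀ p : K × K, gR x hxW (∑ j, d p.1 j * a j p.2) =
      gR x hxW (if p.1 = p.2 then 1 else 0) := by
    intro p
    rw [← key, ← hB p.1, hs p.1, bas.repr_self, Finsupp.single_apply]
    split_ifs
    · exact (map_one (gRHom x hxW)).symm
    · exact (map_zero (gRHom x hxW)).symm
  obtain ⟨UA, hxA, hUA, hA⟩ := exists_nbhd_resL_eq x F W hxW m (fun j => lc F (a j) s) hA_germ
  obtain ⟨UC, hxC, hUC, hC⟩ := exists_nbhd_rL_eq (O := O) x W hxW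
    (fun p : I₁ × K => ∑ j, r p.1 j * a j p.2) (fun _ => 0) hC_germ
  obtain ⟨UD, hxD, hUD, hD⟩ := exists_nbhd_rL_eq (O := O) x W hxW
    (fun p : K × K => ∑ j, d p.1 j * a j p.2) (fun p => if p.1 = p.2 then 1 else 0) hD_germ
  have hU : UA ⊓ UC ⊓ UD ≤ W := inf_le_right.trans hUD
  have hUA' : UA ⊓ UC ⊓ UD ≤ UA := inf_le_left.trans inf_le_left
  have hUC' : UA ⊓ UC ⊓ UD ≤ UC := inf_le_left.trans inf_le_right
  have hUD' : UA ⊓ UC ⊓ UD ≤ UD := inf_le_right
  refine ⟨UA ⊓ UC ⊓ UD, ⟨⟨hxA, hxC⟩, hxD⟩, ?_⟩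
  obtain ⟨hgenU, hindU⟩ := free_core F (UA ⊓ UC ⊓ UD) (fun j => resL F hU (m j))
    (fun l j => rL hU (r l j)) (hgen.restrict hU) (hrel.restrict hU)
    (fun k => resL F hU (s k)) (fun j k => rL hU (a j k)) (fun k j => rL hU (d k j))
    (fun j => by
      have := hA _ hUA' hU j
      rw [resL_lc] at this
      exact this)
    (fun k => by
      have := congrArg (resL F hU) (hB k)
      rw [resL_lc] at this
      exact this)
    (fun l k' => by
      have := hC _ hUC' hU (l, k')
      rw [map_sum, map_zero] at this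
      simp only [map_mul] at this
      exact this)
    (fun k k' => by
      have := hD _ hUD' hU (k, k')
      rw [map_sum] at this
      simp only [map_mul] at this
      rw [this]
      split_ifs
      · exact map_one _
      · exact map_zero _)
  exact nonempty_iso_free_of_locGen_indep O F _ _ hgenU hindU

theorem exists_restr_iso_free_of_stalk_free (F : ModSite.Mod O)
    [SheafOfModules.IsFinitePresentation (R := ModSite.ringSh O) F] (x : X) (r : ℕ)
    (hx : Nonempty (ModSite.stalkMod (pt x) F ≃ₗ[ModSite.stalkRing (pt x) O]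
      (Fin r → ModSite.stalkRing (pt x) O))) :
    ∃ U : Opens X, x ∈ U ∧
      Nonempty ((ModSite.restr O U).obj F ≅ SheafOfModules.free (ULift.{u} (Fin r))) := by
  classical
  obtain ⟨E⟩ := hx
  obtain ⟨W₀, hx₀, ⟨D⟩⟩ := exists_locPres_of_isFinitePresentation O F x
  let E' : ModSite.stalkAb (pt x) F ≃ₗ[ModSite.stalkRing (pt x) O]
    (Fin r → ModSite.stalkRing (pt x) O) := E
  let bas : Module.Basis (ULift.{u} (Fin r)) (ModSite.stalkRing (pt x) O)
      (ModSite.stalkAb (pt x) F) :=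
    (Module.Basis.ofEquivFun E').reindex Equiv.ulift.symm
  -- sections with the basis germs
  obtain ⟨W₁, hx₁, hW₁, s₁, hs₁⟩ :=
    exists_nbhd_gm_eq x F W₀ hx₀ (fun k : ULift.{u} (Fin r) => bas k)
  -- coefficients
  obtain ⟨W₂, hx₂, hW₂, a₂, ha₂⟩ := exists_nbhd_gR_eq (O := O) x W₁ hx₁
    (fun p : D.I₀ × ULift.{u} (Fin r) => bas.repr (gm x F hx₀ (D.m p.1)) p.2)
  have h20 : W₂ ≤ W₀ := hW₂.trans hW₁
  have hgen₂ : LocGenLE F W₂ (fun j => resL F h20 (D.m j)) := D.gen.restrict h20
  obtain ⟨W₃, hx₃, hW₃, d₃, hd₃⟩ := exists_nbhd_coeffs O (fun j => resL F h20 (D.m j)) hgen₂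
    (fun k : ULift.{u} (Fin r) => resL F hW₂ (s₁ k)) x hx₂
  have h30 : W₃ ≤ W₀ := hW₃.trans h20
  have h31 : W₃ ≤ W₁ := hW₃.trans hW₂
  simp only [resL_resL] at hd₃
  refine free_of_germ_data O F x W₃ hx₃ (fun j => resL F h30 (D.m j))
    (fun l j => rL h30 (D.r l j)) (D.gen.restrict h30) ?_ (D.rel.restrict h30) bas
    (fun k => resL F h31 (s₁ k)) (fun j k => rL hW₃ (a₂ (j, k))) d₃ ?_ ?_ hd₃
  · intro l
    rw [← resL_lc, lc_def, D.rel0 l, map_zero]
  · intro k
    rw [gm_resL, hs₁ k]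
  · intro j k
    rw [gR_rL, ha₂ (j, k), gm_resL]

end Groth.Agent.Lib.T1H4.ModElt
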