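import Mathlib
import Groth.Prelude.Def_ModSite2
import Groth.Agent.Lib.T1H4ModEltQ
import Groth.Agent.Lib.T1H4ModColimA
import Groth.Agent.Lib.Helper21ModTensor5

/-!
# Directed colimits of modules on a quasi-compact ringed space (helper4)
-/

set_option autoImplicit false
set_option linter.unusedSectionVars false
set_option linter.style.haveILetI false
universe u
open CategoryTheory CategoryTheory.Limits Opposite TopologicalSpace

namespace Groth.Agent.Lib.T1H4.ModColim

open Groth.Agent.Lib.T1H4.ModElt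

variable {X : TopCat.{u}} (O : TopCat.Sheaf CommRingCat.{u} X)
  {I : Type u} [Preorder I] [Nonempty I] [IsDirected I (· ≤ ·)] (D : I ⥤ ModSite.Mod O)
  (c : Cocone D) (hc : IsColimit c)

include hc in
/-- near a point, a section of the colimit comes from a stage -/
theorem exists_nbhd_stage {V : Opens X} (t : c.pt.val.obj (op V)) (x : X) (hx : x ∈ V) :
    ∃ (V' : Opens X) (_ : x ∈ V') (h' : V' ≤ V) (i : I) (n : (D.obj i).val.obj (op V')),
      resL c.pt h' t = (ιc D c i).val.app (op V') n := by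
  obtain ⟨S, hS, hS'⟩ := exists_sieve_stage D c hc V t
  obtain ⟨V', j, hj, hxV'⟩ := hS x hx
  obtain ⟨i, n, hn⟩ := hS' j hj
  exact ⟨V', hxV', leOfHom j, i, n, hn⟩

lemma ι_map_resL {i j : I} (h : i ≤ j) {V' V : Opens X} (hV : V' ≤ V)
    (n : (D.obj i).val.obj (op V)) :
    (ιc D c j).val.app (op V') ((D.map (homOfLE h)).val.app (op V') (resL (D.obj i) hV n)) =
      resL c.pt hV ((ιc D c i).val.app (op V) n) := by
  rw [ι_map_app D c h, app_resL]

include hc in
/-- near a point, finitely many sections of the colimit come from a common stage -/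
theorem exists_nbhd_stage_fin {W : Opens X} {K : Type*} [Fintype K]
    (t : K → c.pt.val.obj (op W)) (x : X) (hx : x ∈ W) :
    ∃ (W' : Opens X) (_ : x ∈ W') (hW : W' ≤ W) (i : I) (n : K → (D.obj i).val.obj (op W')),
      ∀ k, resL c.pt hW (t k) = (ιc D c i).val.app (op W') (n k) := by
  choose V' hxV' hV' i n hn using fun k => exists_nbhd_stage O D c hc (t k) x hx
  classical
  obtain ⟨j, hj⟩ := Finset.exists_le (Finset.univ.image i)
  have hj' : ∀ k, i k ≤ j := fun k => hj (i k) (Finset.mem_image_of_mem i (Finset.mem_univ k))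
  have h1 : ∀ k, ∃ V : Opens X, x ∈ V ∧ V ≤ W ∧
      (∃ n' : (D.obj j).val.obj (op (V ⊓ W)),
        resL c.pt (inf_le_right : V ⊓ W ≤ W) (t k) = (ιc D c j).val.app (op (V ⊓ W)) n') := by
    intro k
    refine ⟨V' k, hxV' k, hV' k,
      (D.map (homOfLE (hj' k))).val.app (op (V' k ⊓ W))
        (resL (D.obj (i k)) (inf_le_left : V' k ⊓ W ≤ V' k) (n k)), ?_⟩
    rw [ι_map_resL, ← hn k, resL_resL]
  have hmono : ∀ (k : K) (V V'' : Opens X), V'' ≤ V →
      (∃ n' : (D.obj j).val.obj (op (V ⊓ W)),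
        resL c.pt (inf_le_right : V ⊓ W ≤ W) (t k) = (ιc D c j).val.app (op (V ⊓ W)) n') →
      (∃ n' : (D.obj j).val.obj (op (V'' ⊓ W)),
        resL c.pt (inf_le_right : V'' ⊓ W ≤ W) (t k) =
          (ιc D c j).val.app (op (V'' ⊓ W)) n') := by
    rintro k V V'' hVV ⟨n', hn'⟩
    refine ⟨resL (D.obj j) (inf_le_inf_right W hVV) n', ?_⟩
    rw [app_resL, ← hn', resL_resL]
  obtain ⟨W', hxW', hW', h2⟩ := exists_common_nbhd x W hx _ hmono h1
  choose n'' hn'' using h2
  have hWW : W' ≤ W' ⊓ W := le_inf le_rfl hW'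
  refine ⟨W', hxW', hW', j, fun k => resL (D.obj j) hWW (n'' k), fun k => ?_⟩
  rw [app_resL, ← hn'' k, resL_resL]

omit [Nonempty I] [IsDirected I (· ≤ ·)] in
/-- criterion for epimorphisms on a ringed space: surjectivity on sections near every point -/
theorem epi_of_forall_exists_nbhd {M N : ModSite.Mod O} (π : M ⟶ N)
    (h : ∀ (V : Opens X) (t : N.val.obj (op V)) (x : X), x ∈ V →
      ∃ (V' : Opens X) (_ : x ∈ V') (h' : V' ≤ V) (z : M.val.obj (op V')),
        π.val.app (op V') z = resL N h' t) : Epi π := by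
  apply epi_of_forall_exists_sieve
  intro V t
  let S : Sieve V :=
    { arrows := fun V' g => ∃ z : M.val.obj (op V'), π.val.app (op V') z = N.val.restrictₛₗ g.op t
      downward_closed := by
        rintro V' V'' g ⟨z, hz⟩ f
        refine ⟨M.val.restrictₛₗ f.op z, ?_⟩
        rw [app_restrict, hz, restrict_comp] }
  refine ⟨S, ?_, fun V' g hg => hg⟩
  intro x hx
  obtain ⟨V', hxV', h', z, hz⟩ := h V t x hx
  exact ⟨V', homOfLE h', ⟨z, hz⟩, hxV'⟩

include hc in
/-- on a quasi-compact ringed space, a finite type directed colimit is reached epimorphically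
at some stage -/
theorem exists_epi_ι [CompactSpace X]
    [SheafOfModules.IsFiniteType (R := ModSite.ringSh O) c.pt] :
    ∃ i : I, Epi (ιc D c i) := by
  classical
  have hloc : ∀ x : X, ∃ (V : Opens X) (_ : x ∈ V) (i : I) (K : Type u) (_ : Fintype K)
      (m : K → c.pt.val.obj (op V)) (n : K → (D.obj i).val.obj (op V)),
      LocGenLE c.pt V m ∧ ∀ k, m k = (ιc D c i).val.app (op V) (n k) := by
    intro x
    obtain ⟨W, hxW, K, hK, m, hm⟩ := exists_locGen_of_isFiniteType O c.pt x
    obtain ⟨W', hxW', hW', i, n, hn⟩ := exists_nbhd_stage_fin O D c hc m x hxW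
    exact ⟨W', hxW', i, K, hK, fun k => resL c.pt hW' (m k), n, hm.restrict hW', hn⟩
  choose V hxV i K hK m n hgen hmn using hloc
  obtain ⟨T, hT⟩ := isCompact_univ.elim_finite_subcover (fun x => (V x : Set X))
    (fun x => (V x).isOpen) (fun x _ => Set.mem_iUnion.2 ⟨x, hxV x⟩)
  obtain ⟨j, hj⟩ := Finset.exists_le (T.image i)
  refine ⟨j, ?_⟩
  apply epi_of_forall_exists_nbhd
  intro Y t y hy
  obtain ⟨x₀, hx₀T, hyx₀⟩ : ∃ x₀ ∈ T, y ∈ V x₀ := by
    have := hT (Set.mem_univ y)
    simp only [Set.mem_iUnion] at this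
    obtain ⟨x₀, hx₀, h⟩ := this
    exact ⟨x₀, hx₀, h⟩
  have hij : i x₀ ≤ j := hj (i x₀) (Finset.mem_image_of_mem i hx₀T)
  letI := hK x₀
  obtain ⟨V', hyV', h', a, ha⟩ := hgen x₀ (Y ⊓ V x₀) inf_le_right
    (resL c.pt inf_le_left t) y ⟨hy, hyx₀⟩
  refine ⟨V', hyV', h'.trans inf_le_left,
    ∑ k, a k • (D.map (homOfLE hij)).val.app (op V')
      (resL (D.obj (i x₀)) (h'.trans inf_le_right) (n x₀ k)), ?_⟩
  rw [resL_resL] at ha
  rw [ha, map_sum]
  refine Finset.sum_congr rfl (fun k _ => ?_)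
  rw [app_smul, ι_map_resL, ← hmn x₀ k]

include hc in
/-- in a directed colimit with injective transition maps, the structure maps are injective -/
theorem mono_ι (hmono : ∀ (i j : I) (f : i ⟶ j), Mono (D.map f)) (i : I) : Mono (ιc D c i) := by
  haveI := hmono
  haveI : HasExactColimitsOfShape (Under i) (ModSite.Mod O) :=
    Groth.Agent.Lib.Helper21.ModTensor5.hasExactColimitsOfShape_filtered
      (J := Opens.grothendieckTopology X) O (Under i)
  exact hc.mono_ι_app_of_isFiltered i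

include hc in
theorem main [CompactSpace X] [SheafOfModules.IsFiniteType (R := ModSite.ringSh O) c.pt] :
    (∃ i : I, Epi (c.ι.app i)) ∧
      ((∀ (i j : I) (f : i ⟶ j), Mono (D.map f)) → ∃ i : I, IsIso (c.ι.app i)) := by
  obtain ⟨i, hi⟩ := exists_epi_ι O D c hc
  refine ⟨⟨i, hi⟩, fun hmono => ⟨i, ?_⟩⟩
  haveI : Epi (ιc D c i) := hi
  haveI : Mono (ιc D c i) := mono_ι O D c hc hmono i
  exact isIso_of_mono_of_epi (ιc D c i)

end Groth.Agent.Lib.T1H4.ModColim
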