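import Mathlib
import Groth.Prelude.Def_ModSite2
import Groth.Agent.Lib.T1H4ModEltM

/-!
# S6846: finite type and pushforward along a closed embedding of ringed spaces (helper4)
-/

set_option autoImplicit false
set_option linter.unusedSectionVars false
set_option linter.style.haveILetI false
universe u
open CategoryTheory CategoryTheory.Limits Opposite TopologicalSpace

namespace Groth.Agent.Lib.T1H4.ModPushFT

open Groth.Agent.Lib.T1H4.ModElt

variable {Z X : TopCat.{u}} (i : Z ⟶ X)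
    (O_Z : TopCat.Sheaf CommRingCat.{u} Z) (O_X : TopCat.Sheaf CommRingCat.{u} X)
    (c : O_X ⟶ ((TopologicalSpace.Opens.map i).sheafPushforwardContinuous CommRingCat.{u}
      (Opens.grothendieckTopology X) (Opens.grothendieckTopology Z)).obj O_Z)
    (F : ModSite.Mod O_Z)

/-- the pushforward module -/
noncomputable abbrev pF : ModSite.Mod O_X :=
  (ModSite.RMor.ofFlat (TopologicalSpace.Opens.map i) c).push.obj F

/-- preimage of opens -/
abbrev pU (U : Opens X) : Opens Z := (Opens.map i).obj U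

lemma pU_mono {U' U : Opens X} (h : U' ≤ U) : pU i U' ≤ pU i U := (Opens.map i).monotone h

/-- cast -/
noncomputable def toPush (U : Opens X) (y : F.val.obj (op (pU i U))) :
    (pF i O_Z O_X c F).val.obj (op U) := y

/-- cast -/
noncomputable def ofPush (U : Opens X) (y : (pF i O_Z O_X c F).val.obj (op U)) :
    F.val.obj (op (pU i U)) := y

/-- the ring map on sections -/
noncomputable def cU (U : Opens X) : OS O_X U →+* OS O_Z (pU i U) :=
  (c.hom.app (op U)).hom

lemma smul_toPush (U : Opens X) (a : OS O_X U) (y : F.val.obj (op (pU i U))) :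
    a • toPush i O_Z O_X c F U y = toPush i O_Z O_X c F U (cU i O_Z O_X c U a • y) := rfl

lemma resL_toPush {U' U : Opens X} (h : U' ≤ U) (y : F.val.obj (op (pU i U))) :
    resL (pF i O_Z O_X c F) h (toPush i O_Z O_X c F U y) =
      toPush i O_Z O_X c F U' (resL F (pU_mono i h) y) := rfl

lemma toPush_ofPush (U : Opens X) (y : (pF i O_Z O_X c F).val.obj (op U)) :
    toPush i O_Z O_X c F U (ofPush i O_Z O_X c F U y) = y := rfl

lemma ofPush_toPush (U : Opens X) (y : F.val.obj (op (pU i U))) :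
    ofPush i O_Z O_X c F U (toPush i O_Z O_X c F U y) = y := rfl

lemma toPush_sum {I : Type*} [Fintype I] (U : Opens X) (y : I → F.val.obj (op (pU i U))) :
    toPush i O_Z O_X c F U (∑ k, y k) = ∑ k, toPush i O_Z O_X c F U (y k) := rfl

lemma cU_rL {U' U : Opens X} (h : U' ≤ U) (a : OS O_X U) :
    cU i O_Z O_X c U' (rL h a) = rL (pU_mono i h) (cU i O_Z O_X c U a) := by
  have h1 := c.hom.naturality (homOfLE h).op
  have h2 := congrArg (fun ψ => ψ.hom a) h1
  exact h2

section Topology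

variable (hi : Topology.IsClosedEmbedding i)

include hi in
/-- every open of `Z` inside `i⁻¹ U` is the preimage of an open inside `U` -/
lemma exists_open_preimage (U : Opens X) (V : Opens Z) (hV : V ≤ pU i U) :
    ∃ U' : Opens X, U' ≤ U ∧ pU i U' = V := by
  obtain ⟨t, ht, htV⟩ := hi.toIsEmbedding.toIsInducing.isOpen_iff.1 V.isOpen
  refine ⟨⟨t, ht⟩ ⊓ U, inf_le_right, ?_⟩
  ext z
  constructor
  · rintro ⟨hz, _⟩
    have : z ∈ (i : Z → X) ⁻¹' t := hz
    rw [htV] at this
    exact this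
  · intro hz
    refine ⟨?_, hV hz⟩
    have : z ∈ (i : Z → X) ⁻¹' t := by rw [htV]; exact hz
    exact this

include hi in
/-- a point outside the image has a neighbourhood with empty preimage -/
lemma exists_nbhd_of_notMem_range (U : Opens X) (x : X) (hx : x ∈ U)
    (hxr : x ∉ Set.range (i : Z → X)) :
    ∃ U' : Opens X, x ∈ U' ∧ U' ≤ U ∧ pU i U' = ⊥ := by
  let T : Opens X := ⟨(Set.range (i : Z → X))ᶜ, hi.isClosed_range.isOpen_compl⟩
  refine ⟨T ⊓ U, ⟨hxr, hx⟩, inf_le_right, ?_⟩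
  rw [eq_bot_iff]
  rintro z ⟨hz, _⟩
  exact (hz ⟨z, rfl⟩).elim

end Topology

/-- sections over the empty open vanish -/
lemma eq_zero_of_eq_bot {V : Opens Z} (hV : V = ⊥) (t : F.val.obj (op V)) : t = 0 := by
  apply eq_zero_of_locally_LE F t
  intro z hz
  rw [hV] at hz
  exact hz.elim

/-- functions on `Z` lift to functions on `X` near any point of `Z` -/
lemma exists_lift_ring (hc : Sheaf.IsLocallySurjective c) (U : Opens X)
    (b : OS O_Z (pU i U)) (x : X) (hx : x ∈ U) :
    ∃ (U' : Opens X) (_ : x ∈ U') (h : U' ≤ U) (a : OS O_X U'),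
      cU i O_Z O_X c U' a = rL (pU_mono i h) b := by
  have hmem := Presheaf.imageSieve_mem (Opens.grothendieckTopology X) c.hom (U := op U) b
  obtain ⟨U', j, ⟨a, ha⟩, hxU'⟩ := hmem x hx
  exact ⟨U', hxU', leOfHom j, a, ha⟩

lemma exists_lift_ring_fin (hc : Sheaf.IsLocallySurjective c) (U : Opens X) {I : Type*} [Finite I]
    (b : I → OS O_Z (pU i U)) (x : X) (hx : x ∈ U) :
    ∃ (U' : Opens X) (_ : x ∈ U') (h : U' ≤ U) (a : I → OS O_X U'),
      ∀ k, cU i O_Z O_X c U' (a k) = rL (pU_mono i h) (b k) := by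
  have h1 : ∀ k, ∃ V : Opens X, x ∈ V ∧ V ≤ U ∧
      (∃ (h : V ≤ U) (a : OS O_X V), cU i O_Z O_X c V a = rL (pU_mono i h) (b k)) := by
    intro k
    obtain ⟨V, hxV, h, a, ha⟩ := exists_lift_ring i O_Z O_X c hc U (b k) x hx
    exact ⟨V, hxV, h, h, a, ha⟩
  have hmono : ∀ (k : I) (V V' : Opens X), V' ≤ V →
      (∃ (h : V ≤ U) (a : OS O_X V), cU i O_Z O_X c V a = rL (pU_mono i h) (b k)) →
      (∃ (h : V' ≤ U) (a : OS O_X V'), cU i O_Z O_X c V' a = rL (pU_mono i h) (b k)) := by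
    rintro k V V' hVV' ⟨h, a, ha⟩
    refine ⟨hVV'.trans h, rL hVV' a, ?_⟩
    rw [cU_rL, ha, rL_rL]
  obtain ⟨U', hxU', hU', h2⟩ := exists_common_nbhd x U hx
    (fun k V => ∃ (h : V ≤ U) (a : OS O_X V), cU i O_Z O_X c V a = rL (pU_mono i h) (b k))
    hmono h1
  choose h a ha using h2
  exact ⟨U', hxU', hU', a, ha⟩

theorem isFiniteType_of_push (hi : Topology.IsClosedEmbedding i)
    [SheafOfModules.IsFiniteType (R := ModSite.ringSh O_X) (pF i O_Z O_X c F)] :
    SheafOfModules.IsFiniteType (R := ModSite.ringSh O_Z) F := by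
  apply isFiniteType_of_locGen
  intro z
  obtain ⟨W, hxW, I, hI, m, hm⟩ := exists_locGen_of_isFiniteType O_X (pF i O_Z O_X c F) (i z)
  refine ⟨pU i W, hxW, I, hI, fun k => ofPush i O_Z O_X c F W (m k), ?_⟩
  intro V hV t z' hz'
  obtain ⟨U, hUW, hUV⟩ := exists_open_preimage i hi W V hV
  subst hUV
  obtain ⟨U', hx', h', a, ha⟩ := hm U hUW (toPush i O_Z O_X c F U t) (i z') hz'
  exact ⟨pU i U', hx', pU_mono i h', fun k => cU i O_Z O_X c U' (a k), ha⟩

theorem isFiniteType_push (hi : Topology.IsClosedEmbedding i) (hc : Sheaf.IsLocallySurjective c)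
    [SheafOfModules.IsFiniteType (R := ModSite.ringSh O_Z) F] :
    SheafOfModules.IsFiniteType (R := ModSite.ringSh O_X) (pF i O_Z O_X c F) := by
  apply isFiniteType_of_locGen
  intro x
  by_cases hx : x ∈ Set.range (i : Z → X)
  · obtain ⟨z, rfl⟩ := hx
    obtain ⟨V, hzV, I, hI, m, hm⟩ := exists_locGen_of_isFiniteType O_Z F z
    obtain ⟨W, -, hWV⟩ := exists_open_preimage i hi ⊤ V le_top
    subst hWV
    refine ⟨W, hzV, I, hI, fun k => toPush i O_Z O_X c F W (m k), ?_⟩
    intro U hU t x' hx'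
    by_cases hx'r : x' ∈ Set.range (i : Z → X)
    · obtain ⟨z', rfl⟩ := hx'r
      obtain ⟨V', hz'V', h', b, hb⟩ := hm (pU i U) (pU_mono i hU) (ofPush i O_Z O_X c F U t) z' hx'
      obtain ⟨U₁, hU₁, hU₁V'⟩ := exists_open_preimage i hi U V' h'
      subst hU₁V'
      obtain ⟨U₂, hx₂, hU₂, a, ha⟩ := exists_lift_ring_fin i O_Z O_X c hc U₁ b (i z') hz'V'
      refine ⟨U₂, hx₂, hU₂.trans hU₁, a, ?_⟩
      have h3 := congrArg (resL F (pU_mono i hU₂)) hb
      rw [resL_resL, resL_sum_smul] at h3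
      refine Eq.trans ?_ (h3.trans (Finset.sum_congr rfl (fun k _ => ?_)))
      · rfl
      · rw [← ha k, resL_resL]
        rfl
    · obtain ⟨U', hxU', hU', hbot⟩ := exists_nbhd_of_notMem_range i hi U x' hx' hx'r
      refine ⟨U', hxU', hU', fun _ => 0, ?_⟩
      have h0 : ∀ y : (pF i O_Z O_X c F).val.obj (op U'), y = 0 := fun y =>
        eq_zero_of_eq_bot O_Z F hbot (ofPush i O_Z O_X c F U' y)
      rw [h0 (resL _ hU' t)]
      exact (h0 _).symm
  · obtain ⟨W, hxW, -, hbot⟩ := exists_nbhd_of_notMem_range i hi ⊤ x trivial hx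
    refine ⟨W, hxW, PEmpty.{u + 1}, inferInstance, PEmpty.elim, ?_⟩
    intro U hU t x' hx'
    refine ⟨U, hx', le_rfl, PEmpty.elim, ?_⟩
    have hbotU : pU i U = ⊥ := by
      rw [eq_bot_iff, ← hbot]
      exact pU_mono i hU
    have h0 : ∀ y : (pF i O_Z O_X c F).val.obj (op U), y = 0 := fun y =>
      eq_zero_of_eq_bot O_Z F hbotU (ofPush i O_Z O_X c F U y)
    rw [h0 (resL _ le_rfl t)]
    exact (h0 _).symm

end Groth.Agent.Lib.T1H4.ModPushFT
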