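import Mathlib

/-! Helper library (helper4): coefficient interface on `k[[x,y]] = MvPowerSeries (Fin 2) k`
and the monomial ideal `(xy, x^a, y^b)`: membership criterion and colength. -/

set_option autoImplicit false

namespace Groth.Agent.Lib.T1H4.NodeIdealA

open MvPowerSeries

universe u

variable {k : Type u} [Field k]

/-- the exponent vector `(i,j)` -/
noncomputable def ex (i j : ℕ) : Fin 2 →₀ ℕ := Finsupp.single 0 i + Finsupp.single 1 j

@[simp] lemma ex_zero (i j : ℕ) : ex i j 0 = i := by simp [ex]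
@[simp] lemma ex_one (i j : ℕ) : ex i j 1 = j := by simp [ex]

lemma eq_ex (d : Fin 2 →₀ ℕ) : d = ex (d 0) (d 1) := by
  ext s
  fin_cases s
  · show d 0 = ex (d 0) (d 1) 0
    simp
  · show d 1 = ex (d 0) (d 1) 1
    simp

lemma ex_inj {i j i' j' : ℕ} : ex i j = ex i' j' ↔ i = i' ∧ j = j' := by
  constructor
  · intro h
    have h0 := DFunLike.congr_fun h 0
    have h1 := DFunLike.congr_fun h 1
    simp only [ex_zero, ex_one] at h0 h1
    exact ⟨h0, h1⟩
  · rintro ⟨rfl, rfl⟩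
    rfl

lemma ex_le_iff {i j : ℕ} {d : Fin 2 →₀ ℕ} : ex i j ≤ d ↔ i ≤ d 0 ∧ j ≤ d 1 := by
  rw [Finsupp.le_def]
  constructor
  · intro h
    have h0 := h 0
    have h1 := h 1
    simp only [ex_zero, ex_one] at h0 h1
    exact ⟨h0, h1⟩
  · rintro ⟨h0, h1⟩ s
    fin_cases s
    · show ex i j 0 ≤ d 0
      simpa using h0
    · show ex i j 1 ≤ d 1
      simpa using h1

lemma ex_sub (i j i' j' : ℕ) : ex i j - ex i' j' = ex (i - i') (j - j') := by
  ext s
  fin_cases s
  · show (ex i j - ex i' j') 0 = ex (i - i') (j - j') 0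
    simp [Finsupp.tsub_apply]
  · show (ex i j - ex i' j') 1 = ex (i - i') (j - j') 1
    simp [Finsupp.tsub_apply]

lemma ex_add (i j i' j' : ℕ) : ex i j + ex i' j' = ex (i + i') (j + j') := by
  ext s
  fin_cases s
  · show (ex i j + ex i' j') 0 = ex (i + i') (j + j') 0
    simp
  · show (ex i j + ex i' j') 1 = ex (i + i') (j + j') 1
    simp

/-- the coefficient of `x^i y^j` -/
noncomputable def cf (i j : ℕ) : MvPowerSeries (Fin 2) k →ₗ[k] k := coeff (ex i j)

lemma cf_apply (i j : ℕ) (u : MvPowerSeries (Fin 2) k) : cf i j u = coeff (ex i j) u := rfl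

lemma ext_cf {u v : MvPowerSeries (Fin 2) k} (h : ∀ i j, cf i j u = cf i j v) : u = v := by
  ext d
  rw [eq_ex d]
  exact h _ _

lemma X0_pow (a : ℕ) : (X 0 : MvPowerSeries (Fin 2) k) ^ a = monomial (ex a 0) 1 := by
  rw [X_pow_eq]
  congr 1
  simp [ex]

lemma X1_pow (b : ℕ) : (X 1 : MvPowerSeries (Fin 2) k) ^ b = monomial (ex 0 b) 1 := by
  rw [X_pow_eq]
  congr 1
  simp [ex]

lemma X0X1 : (X 0 * X 1 : MvPowerSeries (Fin 2) k) = monomial (ex 1 1) 1 := by
  have h0 := X0_pow (k := k) 1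
  have h1 := X1_pow (k := k) 1
  rw [pow_one] at h0 h1
  rw [h0, h1, monomial_mul_monomial, ex_add, one_mul]

lemma cf_monomial_mul (i j i' j' : ℕ) (u : MvPowerSeries (Fin 2) k) :
    cf i j (monomial (ex i' j') 1 * u) = if i' ≤ i ∧ j' ≤ j then cf (i - i') (j - j') u else 0 := by
  classical
  rw [cf_apply, coeff_monomial_mul]
  have : (ex i' j' ≤ ex i j) ↔ (i' ≤ i ∧ j' ≤ j) := by
    rw [ex_le_iff]
    simp
  simp only [this, one_mul, ex_sub]
  rfl

lemma cf_X0_pow_mul (m i j : ℕ) (u : MvPowerSeries (Fin 2) k) :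
    cf i j (X 0 ^ m * u) = if m ≤ i then cf (i - m) j u else 0 := by
  rw [X0_pow, cf_monomial_mul]
  simp

lemma cf_X1_pow_mul (m i j : ℕ) (u : MvPowerSeries (Fin 2) k) :
    cf i j (X 1 ^ m * u) = if m ≤ j then cf i (j - m) u else 0 := by
  rw [X1_pow, cf_monomial_mul]
  simp

lemma cf_X0X1_mul (i j : ℕ) (u : MvPowerSeries (Fin 2) k) :
    cf i j (X 0 * X 1 * u) = if 1 ≤ i ∧ 1 ≤ j then cf (i - 1) (j - 1) u else 0 := by
  rw [X0X1, cf_monomial_mul]

lemma cf_monomial (i j i' j' : ℕ) :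
    cf i j (monomial (ex i' j') (1 : k)) = if i = i' ∧ j = j' then 1 else 0 := by
  classical
  rw [cf_apply, coeff_monomial]
  simp only [ex_inj]

lemma cf_X0_pow (m i j : ℕ) :
    cf i j ((X 0 : MvPowerSeries (Fin 2) k) ^ m) = if i = m ∧ j = 0 then 1 else 0 := by
  rw [X0_pow, cf_monomial]

lemma cf_X1_pow (m i j : ℕ) :
    cf i j ((X 1 : MvPowerSeries (Fin 2) k) ^ m) = if i = 0 ∧ j = m then 1 else 0 := by
  rw [X1_pow, cf_monomial]

lemma cf_C_mul (c : k) (i j : ℕ) (u : MvPowerSeries (Fin 2) k) :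
    cf i j (C c * u) = c * cf i j u := by
  rw [cf_apply, cf_apply, ← smul_eq_C_mul, map_smul, smul_eq_mul]

lemma cf_zero_zero (u : MvPowerSeries (Fin 2) k) : cf 0 0 u = constantCoeff u := by
  rw [cf_apply]
  have : ex 0 0 = 0 := by
    simp [ex]
  rw [this, coeff_zero_eq_constantCoeff_apply]

/-- divisibility by a monomial -/
lemma monomial_dvd_of (i' j' : ℕ) (u : MvPowerSeries (Fin 2) k)
    (h : ∀ i j, ¬ (i' ≤ i ∧ j' ≤ j) → cf i j u = 0) : monomial (ex i' j') (1 : k) ∣ u := by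
  refine ⟨fun d => coeff (d + ex i' j') u, ?_⟩
  apply ext_cf
  intro i j
  rw [cf_monomial_mul]
  split_ifs with hij
  · rw [cf_apply, cf_apply]
    show coeff (ex i j) u = coeff (ex (i - i') (j - j') + ex i' j') u
    rw [ex_add, Nat.sub_add_cancel hij.1, Nat.sub_add_cancel hij.2]
  · exact h i j hij

/-- the monomial ideal `(xy, x^a, y^b)` -/
noncomputable def J0 (a b : ℕ) : Ideal (MvPowerSeries (Fin 2) k) :=
  Ideal.span {X 0 * X 1, X 0 ^ a, X 1 ^ b}

lemma mem_J0_of {a b : ℕ} (u : MvPowerSeries (Fin 2) k)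
    (h0 : ∀ i, i < a → cf i 0 u = 0) (h1 : ∀ j, j < b → cf 0 j u = 0) : u ∈ J0 (k := k) a b := by
  classical
  -- split `u` into three parts
  set u1 : MvPowerSeries (Fin 2) k := fun d => if 1 ≤ d 0 ∧ 1 ≤ d 1 then coeff d u else 0 with hu1
  set u2 : MvPowerSeries (Fin 2) k :=
    fun d => if ¬ (1 ≤ d 0 ∧ 1 ≤ d 1) ∧ a ≤ d 0 then coeff d u else 0 with hu2
  set u3 : MvPowerSeries (Fin 2) k :=
    fun d => if ¬ (1 ≤ d 0 ∧ 1 ≤ d 1) ∧ ¬ a ≤ d 0 then coeff d u else 0 with hu3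
  have c1 : ∀ i j, cf i j u1 = if 1 ≤ i ∧ 1 ≤ j then cf i j u else 0 := by
    intro i j
    show u1 (ex i j) = _
    simp only [hu1, ex_zero, ex_one]
    rfl
  have c2 : ∀ i j, cf i j u2 = if ¬ (1 ≤ i ∧ 1 ≤ j) ∧ a ≤ i then cf i j u else 0 := by
    intro i j
    show u2 (ex i j) = _
    simp only [hu2, ex_zero, ex_one]
    rfl
  have c3 : ∀ i j, cf i j u3 = if ¬ (1 ≤ i ∧ 1 ≤ j) ∧ ¬ a ≤ i then cf i j u else 0 := by
    intro i j
    show u3 (ex i j) = _
    simp only [hu3, ex_zero, ex_one]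
    rfl
  have hsum : u = u1 + u2 + u3 := by
    apply ext_cf
    intro i j
    rw [map_add, map_add, c1, c2, c3]
    by_cases h11 : 1 ≤ i ∧ 1 ≤ j
    · simp [h11]
    · by_cases ha : a ≤ i
      · simp [h11, ha]
      · simp [h11, ha]
  have d1 : X 0 * X 1 ∣ u1 := by
    rw [X0X1]
    apply monomial_dvd_of
    intro i j hij
    rw [c1, if_neg hij]
  have d2 : X 0 ^ a ∣ u2 := by
    rw [X0_pow]
    apply monomial_dvd_of
    intro i j hij
    rw [c2]
    split_ifs with h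
    · exact absurd ⟨h.2, Nat.zero_le _⟩ hij
    · rfl
  have d3 : X 1 ^ b ∣ u3 := by
    rw [X1_pow]
    apply monomial_dvd_of
    intro i j hij
    rw [c3]
    split_ifs with h
    · have hjb : j < b := by
        by_contra hc
        exact hij ⟨Nat.zero_le _, not_lt.mp hc⟩
      have hia : i < a := not_le.mp h.2
      by_cases hi : i = 0
      · subst hi
        exact h1 j hjb
      · have hj : j = 0 := by
          by_contra hj
          exact h.1 ⟨Nat.one_le_iff_ne_zero.mpr hi, Nat.one_le_iff_ne_zero.mpr hj⟩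
        subst hj
        exact h0 i hia
    · rfl
  rw [hsum]
  refine add_mem (add_mem ?_ ?_) ?_
  · exact Ideal.mem_of_dvd _ d1 (Ideal.subset_span (by simp))
  · exact Ideal.mem_of_dvd _ d2 (Ideal.subset_span (by simp))
  · exact Ideal.mem_of_dvd _ d3 (Ideal.subset_span (by simp))

lemma cf_eq_zero_of_mem_J0 {a b : ℕ} {u : MvPowerSeries (Fin 2) k} (hu : u ∈ J0 (k := k) a b)
    (i j : ℕ) (hij : i = 0 ∨ j = 0) (hi : i < a) (hj : j < b) : cf i j u = 0 := by
  unfold J0 at hu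
  rw [Ideal.mem_span_insert] at hu
  obtain ⟨r1, z, hz, rfl⟩ := hu
  rw [Ideal.mem_span_insert] at hz
  obtain ⟨r2, z', hz', rfl⟩ := hz
  rw [Ideal.mem_span_singleton'] at hz'
  obtain ⟨r3, rfl⟩ := hz'
  rw [map_add, map_add, mul_comm r1, mul_comm r2, mul_comm r3, cf_X0X1_mul, cf_X0_pow_mul,
    cf_X1_pow_mul]
  have e1 : ¬ (1 ≤ i ∧ 1 ≤ j) := by omega
  have e2 : ¬ a ≤ i := by omega
  have e3 : ¬ b ≤ j := by omega
  rw [if_neg e1, if_neg e2, if_neg e3]
  simp

lemma mem_J0_iff {a b : ℕ} (ha : 1 ≤ a) (hb : 1 ≤ b) (u : MvPowerSeries (Fin 2) k) :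
    u ∈ J0 (k := k) a b ↔ (∀ i, i < a → cf i 0 u = 0) ∧ (∀ j, j < b → cf 0 j u = 0) := by
  constructor
  · intro hu
    exact ⟨fun i hi => cf_eq_zero_of_mem_J0 hu i 0 (Or.inr rfl) hi hb,
      fun j hj => cf_eq_zero_of_mem_J0 hu 0 j (Or.inl rfl) ha hj⟩
  · rintro ⟨h0, h1⟩
    exact mem_J0_of u h0 h1

/-! ### colength of `J0 a b` -/

/-- index map of the monomial basis of `k[[x,y]]/(xy, x^a, y^b)` -/
noncomputable def idx (a b : ℕ) : Fin a ⊕ Fin (b - 1) → (Fin 2 →₀ ℕ)
  | Sum.inl i => ex i 0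
  | Sum.inr j => ex 0 (j + 1)

lemma idx_injective (a b : ℕ) : Function.Injective (idx a b) := by
  rintro (i | j) (i' | j') h
  · simp only [idx, ex_inj] at h
    exact congrArg _ (Fin.ext h.1)
  · simp only [idx, ex_inj] at h
    omega
  · simp only [idx, ex_inj] at h
    omega
  · simp only [idx, ex_inj] at h
    exact congrArg _ (Fin.ext (by omega))

/-- the coefficient map to `k^(a + b - 1)` -/
noncomputable def Phi (a b : ℕ) : MvPowerSeries (Fin 2) k →ₗ[k] (Fin a ⊕ Fin (b - 1) → k) :=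
  LinearMap.pi (fun s => coeff (idx a b s))

lemma Phi_apply (a b : ℕ) (u : MvPowerSeries (Fin 2) k) (s : Fin a ⊕ Fin (b - 1)) :
    Phi a b u s = coeff (idx a b s) u := rfl

lemma Phi_surjective (a b : ℕ) : Function.Surjective (Phi (k := k) a b) := by
  intro c
  refine ⟨Function.extend (idx a b) c 0, ?_⟩
  funext s
  rw [Phi_apply]
  show Function.extend (idx a b) c 0 (idx a b s) = c s
  exact (idx_injective a b).extend_apply c 0 s

lemma ker_Phi {a b : ℕ} (ha : 1 ≤ a) (hb : 1 ≤ b) :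
    LinearMap.ker (Phi (k := k) a b) = (J0 (k := k) a b).restrictScalars k := by
  ext u
  rw [LinearMap.mem_ker, Submodule.restrictScalars_mem, mem_J0_iff ha hb]
  constructor
  · intro h
    have h' : ∀ s, coeff (idx a b s) u = 0 := fun s => by
      rw [← Phi_apply, h]
      rfl
    refine ⟨fun i hi => h' (Sum.inl ⟨i, hi⟩), fun j hj => ?_⟩
    rcases Nat.eq_zero_or_pos j with rfl | hj0
    · exact h' (Sum.inl ⟨0, ha⟩)
    · have := h' (Sum.inr ⟨j - 1, by omega⟩)
      simp only [idx] at this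
      rw [show j - 1 + 1 = j by omega] at this
      exact this
  · rintro ⟨h0, h1⟩
    funext s
    rw [Phi_apply]
    rcases s with i | j
    · exact h0 i i.2
    · exact h1 (j + 1) (by have := j.2; omega)

/-- `k[[x,y]]/(xy, x^a, y^b)` is `k^(a+b-1)` -/
noncomputable def quotEquiv {a b : ℕ} (ha : 1 ≤ a) (hb : 1 ≤ b) :
    (MvPowerSeries (Fin 2) k ⧸ (J0 (k := k) a b).restrictScalars k) ≃ₗ[k]
      (Fin a ⊕ Fin (b - 1) → k) :=
  (Submodule.quotEquivOfEq _ _ (ker_Phi ha hb).symm).trans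
    ((Phi (k := k) a b).quotKerEquivOfSurjective (Phi_surjective a b))

lemma finrank_quot_J0 {a b : ℕ} (ha : 1 ≤ a) (hb : 1 ≤ b) :
    Module.finrank k (MvPowerSeries (Fin 2) k ⧸ (J0 (k := k) a b).restrictScalars k)
      = a + (b - 1) := by
  rw [LinearEquiv.finrank_eq (quotEquiv ha hb), Module.finrank_fintype_fun_eq_card,
    Fintype.card_sum, Fintype.card_fin, Fintype.card_fin]

lemma finite_quot_J0 {a b : ℕ} (ha : 1 ≤ a) (hb : 1 ≤ b) :
    Module.Finite k (MvPowerSeries (Fin 2) k ⧸ (J0 (k := k) a b).restrictScalars k) :=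
  Module.Finite.equiv (quotEquiv ha hb).symm

/-! ### a rank-nullity lemma -/

lemma finrank_quot_eq_add_one {V : Type*} [AddCommGroup V] [Module k V] (A B : Submodule k V)
    (hAB : A ≤ B) (w : V) (hwB : w ∈ B) (hwA : w ∉ A) (hB : ∀ v ∈ B, ∃ c : k, v - c • w ∈ A)
    [Module.Finite k (V ⧸ A)] :
    Module.finrank k (V ⧸ A) = Module.finrank k (V ⧸ B) + 1 := by
  set π : (V ⧸ A) →ₗ[k] (V ⧸ B) := Submodule.mapQ A B LinearMap.id hAB with hπ
  have hsurj : Function.Surjective π := by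
    intro z
    obtain ⟨v, rfl⟩ := Submodule.Quotient.mk_surjective B z
    exact ⟨Submodule.Quotient.mk v, rfl⟩
  have hker : LinearMap.ker π = Submodule.span k {(Submodule.Quotient.mk w : V ⧸ A)} := by
    apply le_antisymm
    · intro z hz
      obtain ⟨v, rfl⟩ := Submodule.Quotient.mk_surjective A z
      rw [LinearMap.mem_ker, hπ, Submodule.mapQ_apply, LinearMap.id_apply,
        Submodule.Quotient.mk_eq_zero] at hz
      obtain ⟨c, hc⟩ := hB v hz
      rw [Submodule.mem_span_singleton]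
      refine ⟨c, ?_⟩
      rw [← Submodule.Quotient.mk_smul, eq_comm, ← sub_eq_zero, ← Submodule.Quotient.mk_sub,
        Submodule.Quotient.mk_eq_zero]
      exact hc
    · rw [Submodule.span_singleton_le_iff_mem, LinearMap.mem_ker, hπ, Submodule.mapQ_apply,
        LinearMap.id_apply, Submodule.Quotient.mk_eq_zero]
      exact hwB
  have hne : (Submodule.Quotient.mk w : V ⧸ A) ≠ 0 := by
    rw [Ne, Submodule.Quotient.mk_eq_zero]
    exact hwA
  have h1 := LinearMap.finrank_range_add_finrank_ker π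
  rw [LinearMap.range_eq_top.mpr hsurj, finrank_top, hker, finrank_span_singleton hne] at h1
  exact h1.symm

end Groth.Agent.Lib.T1H4.NodeIdealA
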