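import Mathlib
import Groth.Agent.Lib.T1H4NodeIdealA

/-! Helper library (helper4): classification of the ideals of finite colength of `k[[x,y]]`
containing `xy`. -/

set_option autoImplicit false

namespace Groth.Agent.Lib.T1H4.NodeIdealB

open MvPowerSeries Groth.Agent.Lib.T1H4.NodeIdealA

universe u

variable {k : Type u} [Field k]

lemma exists_X_pow_mem (J : Ideal (MvPowerSeries (Fin 2) k))
    [Module.Finite k (MvPowerSeries (Fin 2) k ⧸ J)] (s : Fin 2) :
    ∃ m, (X s : MvPowerSeries (Fin 2) k) ^ m ∈ J := by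
  haveI : IsArtinianRing (MvPowerSeries (Fin 2) k ⧸ J) := IsArtinianRing.of_finite k _
  obtain ⟨n, y, hy⟩ := IsArtinian.exists_pow_succ_smul_dvd (Ideal.Quotient.mk J (X s))
    (1 : MvPowerSeries (Fin 2) k ⧸ J)
  obtain ⟨y', rfl⟩ := Ideal.Quotient.mk_surjective y
  refine ⟨n, ?_⟩
  have h1 : X s ^ n * (1 - X s * y') ∈ J := by
    rw [← Ideal.Quotient.eq_zero_iff_mem]
    simp only [smul_eq_mul, mul_one] at hy
    rw [map_mul, map_sub, map_one, map_mul, map_pow, mul_sub, mul_one, ← mul_assoc, ← pow_succ,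
      hy, sub_self]
  have hu : IsUnit (1 - X s * y') := by
    rw [MvPowerSeries.isUnit_iff_constantCoeff]
    simp
  exact (Ideal.mul_unit_mem_iff_mem J hu).mp h1

section structure_

variable {J : Ideal (MvPowerSeries (Fin 2) k)} {a b : ℕ}

lemma J0_le (hxa : (X 0 : MvPowerSeries (Fin 2) k) ^ a ∈ J)
    (hyb : (X 1 : MvPowerSeries (Fin 2) k) ^ b ∈ J)
    (hxy : (X 0 * X 1 : MvPowerSeries (Fin 2) k) ∈ J) : J0 (k := k) a b ≤ J := by
  unfold J0
  rw [Ideal.span_le]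
  rintro _ (rfl | rfl | rfl)
  · exact hxy
  · exact hxa
  · exact hyb

lemma cf00 (hJ : J ≠ ⊤) {u : MvPowerSeries (Fin 2) k} (hu : u ∈ J) : cf 0 0 u = 0 := by
  rw [cf_zero_zero]
  by_contra h
  apply hJ
  exact Ideal.eq_top_of_isUnit_mem _ hu
    ((MvPowerSeries.isUnit_iff_constantCoeff).mpr (IsUnit.mk0 _ h))

lemma mem_of_C_mul_mem {c : k} (hc : c ≠ 0) {v : MvPowerSeries (Fin 2) k}
    (h : C c * v ∈ J) : v ∈ J := by
  have := J.mul_mem_left (C c⁻¹) h
  rwa [← mul_assoc, ← map_mul, inv_mul_cancel₀ hc, map_one, one_mul] at this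

lemma D1 (hxa : (X 0 : MvPowerSeries (Fin 2) k) ^ a ∈ J)
    (hamin : ∀ m, m < a → (X 0 : MvPowerSeries (Fin 2) k) ^ m ∉ J)
    (hyb : (X 1 : MvPowerSeries (Fin 2) k) ^ b ∈ J)
    (hxy : (X 0 * X 1 : MvPowerSeries (Fin 2) k) ∈ J)
    {u : MvPowerSeries (Fin 2) k} (hu : u ∈ J) : ∀ i, i + 1 < a → cf i 0 u = 0 := by
  intro i
  induction i using Nat.strong_induction_on with
  | _ i ih =>
    intro hi
    by_contra hc
    obtain ⟨c, hcdef⟩ : ∃ c, cf i 0 u = c := ⟨_, rfl⟩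
    obtain ⟨m, hmdef⟩ : ∃ m, a - 1 - i = m := ⟨_, rfl⟩
    have hm : 1 ≤ m := by omega
    have hv : X 0 ^ m * u - C c * X 0 ^ (a - 1) ∈ J0 (k := k) a b := by
      apply mem_J0_of
      · intro i' hi'
        rw [map_sub, cf_X0_pow_mul, cf_C_mul, cf_X0_pow]
        by_cases hmi : m ≤ i'
        · rw [if_pos hmi]
          by_cases h2 : i' - m = i
          · have h3 : i' = a - 1 := by omega
            rw [h2, if_pos ⟨h3, rfl⟩, mul_one, hcdef, sub_self]
          · have h3 : i' - m < i := by omega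
            rw [ih _ h3 (by omega), if_neg (by omega), mul_zero, sub_zero]
        · rw [if_neg hmi, if_neg (by omega), mul_zero, sub_zero]
      · intro j' _
        rw [map_sub, cf_X0_pow_mul, cf_C_mul, cf_X0_pow, if_neg (by omega), if_neg (by omega),
          mul_zero, sub_zero]
    have h1 : C c * X 0 ^ (a - 1) ∈ J := by
      have h1 := J0_le hxa hyb hxy hv
      have h2 : X 0 ^ m * u ∈ J := J.mul_mem_left _ hu
      have := J.sub_mem h2 h1
      simpa using this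
    exact hamin (a - 1) (by omega) (mem_of_C_mul_mem (hcdef ▸ hc) h1)

lemma D2 (hxa : (X 0 : MvPowerSeries (Fin 2) k) ^ a ∈ J)
    (hyb : (X 1 : MvPowerSeries (Fin 2) k) ^ b ∈ J)
    (hbmin : ∀ m, m < b → (X 1 : MvPowerSeries (Fin 2) k) ^ m ∉ J)
    (hxy : (X 0 * X 1 : MvPowerSeries (Fin 2) k) ∈ J)
    {u : MvPowerSeries (Fin 2) k} (hu : u ∈ J) : ∀ j, j + 1 < b → cf 0 j u = 0 := by
  intro j
  induction j using Nat.strong_induction_on with
  | _ j ih =>
    intro hj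
    by_contra hc
    obtain ⟨c, hcdef⟩ : ∃ c, cf 0 j u = c := ⟨_, rfl⟩
    obtain ⟨m, hmdef⟩ : ∃ m, b - 1 - j = m := ⟨_, rfl⟩
    have hm : 1 ≤ m := by omega
    have hv : X 1 ^ m * u - C c * X 1 ^ (b - 1) ∈ J0 (k := k) a b := by
      apply mem_J0_of
      · intro i' _
        rw [map_sub, cf_X1_pow_mul, cf_C_mul, cf_X1_pow, if_neg (by omega), if_neg (by omega),
          mul_zero, sub_zero]
      · intro j' hj'
        rw [map_sub, cf_X1_pow_mul, cf_C_mul, cf_X1_pow]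
        by_cases hmj : m ≤ j'
        · rw [if_pos hmj]
          by_cases h2 : j' - m = j
          · have h3 : j' = b - 1 := by omega
            rw [h2, if_pos ⟨rfl, h3⟩, mul_one, hcdef, sub_self]
          · have h3 : j' - m < j := by omega
            rw [ih _ h3 (by omega), if_neg (by omega), mul_zero, sub_zero]
        · rw [if_neg hmj, if_neg (by omega), mul_zero, sub_zero]
    have h1 : C c * X 1 ^ (b - 1) ∈ J := by
      have h1 := J0_le hxa hyb hxy hv
      have h2 : X 1 ^ m * u ∈ J := J.mul_mem_left _ hu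
      have := J.sub_mem h2 h1
      simpa using this
    exact hbmin (b - 1) (by omega) (mem_of_C_mul_mem (hcdef ▸ hc) h1)

/-- hypotheses package -/
structure Setup (J : Ideal (MvPowerSeries (Fin 2) k)) (a b : ℕ) : Prop where
  hJ : J ≠ ⊤
  hxa : (X 0 : MvPowerSeries (Fin 2) k) ^ a ∈ J
  hamin : ∀ m, m < a → (X 0 : MvPowerSeries (Fin 2) k) ^ m ∉ J
  hyb : (X 1 : MvPowerSeries (Fin 2) k) ^ b ∈ J
  hbmin : ∀ m, m < b → (X 1 : MvPowerSeries (Fin 2) k) ^ m ∉ J
  hxy : (X 0 * X 1 : MvPowerSeries (Fin 2) k) ∈ J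

namespace Setup

variable (S : Setup J a b)
include S

lemma le : J0 (k := k) a b ≤ J := J0_le S.hxa S.hyb S.hxy

lemma ha : 1 ≤ a := by
  by_contra h
  have h0 : a = 0 := by omega
  have := S.hxa
  rw [h0, pow_zero] at this
  exact S.hJ ((Ideal.eq_top_iff_one J).mpr this)

lemma hb : 1 ≤ b := by
  by_contra h
  have h0 : b = 0 := by omega
  have := S.hyb
  rw [h0, pow_zero] at this
  exact S.hJ ((Ideal.eq_top_iff_one J).mpr this)

lemma d1 {u : MvPowerSeries (Fin 2) k} (hu : u ∈ J) : ∀ i, i + 1 < a → cf i 0 u = 0 :=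
  D1 S.hxa S.hamin S.hyb S.hxy hu

lemma d2 {u : MvPowerSeries (Fin 2) k} (hu : u ∈ J) : ∀ j, j + 1 < b → cf 0 j u = 0 :=
  D2 S.hxa S.hyb S.hbmin S.hxy hu

lemma c00 {u : MvPowerSeries (Fin 2) k} (hu : u ∈ J) : cf 0 0 u = 0 := cf00 S.hJ hu

lemma two_le_a {u : MvPowerSeries (Fin 2) k} (hu : u ∈ J) (h : cf (a - 1) 0 u ≠ 0) : 2 ≤ a := by
  by_contra hc
  have h0 : a - 1 = 0 := by omega
  rw [h0] at h
  exact h (S.c00 hu)

lemma two_le_b {u : MvPowerSeries (Fin 2) k} (hu : u ∈ J) (h : cf 0 (b - 1) u ≠ 0) : 2 ≤ b := by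
  by_contra hc
  have h0 : b - 1 = 0 := by omega
  rw [h0] at h
  exact h (S.c00 hu)

lemma e1 {u : MvPowerSeries (Fin 2) k} (hu : u ∈ J) (h1 : cf (a - 1) 0 u ≠ 0) :
    cf 0 (b - 1) u ≠ 0 := by
  have ha2 := S.two_le_a hu h1
  intro h2
  have hv : u - C (cf (a - 1) 0 u) * X 0 ^ (a - 1) ∈ J0 (k := k) a b := by
    apply mem_J0_of
    · intro i' hi'
      rw [map_sub, cf_C_mul, cf_X0_pow]
      by_cases h : i' = a - 1
      · rw [h, if_pos ⟨rfl, rfl⟩, mul_one, sub_self]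
      · rw [if_neg (by tauto), mul_zero, sub_zero]
        exact S.d1 hu i' (by omega)
    · intro j' hj'
      rw [map_sub, cf_C_mul, cf_X0_pow, if_neg (by omega), mul_zero, sub_zero]
      by_cases h : j' = b - 1
      · rw [h]
        exact h2
      · exact S.d2 hu j' (by omega)
  have h3 : C (cf (a - 1) 0 u) * X 0 ^ (a - 1) ∈ J := by
    have := J.sub_mem hu (S.le hv)
    simpa using this
  exact S.hamin (a - 1) (by omega) (mem_of_C_mul_mem h1 h3)

lemma e2 {u : MvPowerSeries (Fin 2) k} (hu : u ∈ J) (h2 : cf 0 (b - 1) u ≠ 0) :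
    cf (a - 1) 0 u ≠ 0 := by
  have hb2 := S.two_le_b hu h2
  intro h1
  have hv : u - C (cf 0 (b - 1) u) * X 1 ^ (b - 1) ∈ J0 (k := k) a b := by
    apply mem_J0_of
    · intro i' hi'
      rw [map_sub, cf_C_mul, cf_X1_pow, if_neg (by omega), mul_zero, sub_zero]
      by_cases h : i' = a - 1
      · rw [h]
        exact h1
      · exact S.d1 hu i' (by omega)
    · intro j' hj'
      rw [map_sub, cf_C_mul, cf_X1_pow]
      by_cases h : j' = b - 1
      · rw [h, if_pos ⟨rfl, rfl⟩, mul_one, sub_self]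
      · rw [if_neg (by tauto), mul_zero, sub_zero]
        exact S.d2 hu j' (by omega)
  have h3 : C (cf 0 (b - 1) u) * X 1 ^ (b - 1) ∈ J := by
    have := J.sub_mem hu (S.le hv)
    simpa using this
  exact S.hbmin (b - 1) (by omega) (mem_of_C_mul_mem h2 h3)

lemma mem_J0_of_zero {u : MvPowerSeries (Fin 2) k} (hu : u ∈ J) (h1 : cf (a - 1) 0 u = 0) :
    u ∈ J0 (k := k) a b := by
  have h2 : cf 0 (b - 1) u = 0 := by
    by_contra h
    exact S.e2 hu h h1
  apply mem_J0_of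
  · intro i' hi'
    by_cases h : i' = a - 1
    · rw [h]
      exact h1
    · exact S.d1 hu i' (by omega)
  · intro j' hj'
    by_cases h : j' = b - 1
    · rw [h]
      exact h2
    · exact S.d2 hu j' (by omega)

/-- the monomial case -/
lemma eq_J0_of (h : ∀ u ∈ J, cf (a - 1) 0 u = 0) : J = J0 (k := k) a b :=
  le_antisymm (fun u hu => S.mem_J0_of_zero hu (h u hu)) S.le

/-- the binomial case -/
lemma binomial {u0 : MvPowerSeries (Fin 2) k} (hu0 : u0 ∈ J) (h1 : cf (a - 1) 0 u0 ≠ 0) :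
    2 ≤ a ∧ 2 ≤ b ∧ ∃ α : k, α ≠ 0 ∧
      J = Ideal.span {X 0 * X 1, X 0 ^ (a - 1) + C α * X 1 ^ (b - 1)} ∧
      (X 0 ^ (a - 1) + C α * X 1 ^ (b - 1) : MvPowerSeries (Fin 2) k) ∉ J0 (k := k) a b ∧
      ∀ v ∈ J, v - C (cf (a - 1) 0 v) * (X 0 ^ (a - 1) + C α * X 1 ^ (b - 1)) ∈ J0 (k := k) a b := by
  have h2 := S.e1 hu0 h1
  have ha2 := S.two_le_a hu0 h1
  have hb2 := S.two_le_b hu0 h2
  obtain ⟨c1, hc1⟩ : ∃ c, cf (a - 1) 0 u0 = c := ⟨_, rfl⟩
  obtain ⟨c2, hc2⟩ : ∃ c, cf 0 (b - 1) u0 = c := ⟨_, rfl⟩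
  rw [hc1] at h1
  rw [hc2] at h2
  obtain ⟨α, hα⟩ : ∃ α, c2 / c1 = α := ⟨_, rfl⟩
  have hα0 : α ≠ 0 := by
    rw [← hα]
    exact div_ne_zero h2 h1
  obtain ⟨w, hw⟩ : ∃ w : MvPowerSeries (Fin 2) k, X 0 ^ (a - 1) + C α * X 1 ^ (b - 1) = w :=
    ⟨_, rfl⟩
  have cw0 : ∀ i', cf i' 0 w = if i' = a - 1 then 1 else 0 := by
    intro i'
    rw [← hw, map_add, cf_C_mul, cf_X0_pow, cf_X1_pow]
    have hne : ¬ (i' = 0 ∧ 0 = b - 1) := by omega
    rw [if_neg hne, mul_zero, add_zero]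
    simp
  have cw1 : ∀ j', 1 ≤ j' → cf 0 j' w = if j' = b - 1 then α else 0 := by
    intro j' hj'
    rw [← hw, map_add, cf_C_mul, cf_X0_pow, cf_X1_pow]
    have hne : ¬ (0 = a - 1 ∧ j' = 0) := by omega
    rw [if_neg hne, zero_add]
    simp
  -- proportionality
  have hprop : ∀ v ∈ J, cf 0 (b - 1) v = cf (a - 1) 0 v * α := by
    intro v hv
    have hv' : C c1 * v - C (cf (a - 1) 0 v) * u0 ∈ J :=
      J.sub_mem (J.mul_mem_left _ hv) (J.mul_mem_left _ hu0)
    have hz : cf (a - 1) 0 (C c1 * v - C (cf (a - 1) 0 v) * u0) = 0 := by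
      rw [map_sub, cf_C_mul, cf_C_mul, hc1]
      ring
    have hz2 : cf 0 (b - 1) (C c1 * v - C (cf (a - 1) 0 v) * u0) = 0 := by
      by_contra h
      exact S.e2 hv' h hz
    rw [map_sub, cf_C_mul, cf_C_mul, hc2] at hz2
    rw [← hα]
    field_simp
    linear_combination hz2
  have key : ∀ v ∈ J, v - C (cf (a - 1) 0 v) * w ∈ J0 (k := k) a b := by
    intro v hv
    apply mem_J0_of
    · intro i' hi'
      rw [map_sub, cf_C_mul, cw0]
      by_cases h : i' = a - 1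
      · rw [if_pos h, h, mul_one, sub_self]
      · rw [if_neg h, mul_zero, sub_zero]
        exact S.d1 hv i' (by omega)
    · intro j' hj'
      rcases Nat.eq_zero_or_pos j' with rfl | hj0
      · rw [map_sub, cf_C_mul, cw0, if_neg (by omega), mul_zero, sub_zero]
        exact S.c00 hv
      · rw [map_sub, cf_C_mul, cw1 j' hj0]
        by_cases h : j' = b - 1
        · rw [if_pos h, h, hprop v hv, sub_self]
        · rw [if_neg h, mul_zero, sub_zero]
          exact S.d2 hv j' (by omega)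
  have hwJ : w ∈ J := by
    have h3 := S.le (key u0 hu0)
    have h4 : C (cf (a - 1) 0 u0) * w ∈ J := by
      have := J.sub_mem hu0 h3
      simpa using this
    rw [hc1] at h4
    exact mem_of_C_mul_mem h1 h4
  have hwJ0 : w ∉ J0 (k := k) a b := by
    intro hmem
    have := ((mem_J0_iff S.ha S.hb w).mp hmem).1 (a - 1) (by omega)
    rw [cw0, if_pos rfl] at this
    exact one_ne_zero this
  refine ⟨ha2, hb2, α, hα0, ?_⟩
  rw [hw]
  refine ⟨?_, hwJ0, key⟩
  apply le_antisymm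
  · intro v hv
    have hJ0le : J0 (k := k) a b ≤ Ideal.span {X 0 * X 1, w} := by
      unfold J0
      rw [Ideal.span_le]
      obtain ⟨a', rfl⟩ := Nat.exists_eq_add_of_le ha2
      obtain ⟨b', rfl⟩ := Nat.exists_eq_add_of_le hb2
      have hxy' : (X 0 * X 1 : MvPowerSeries (Fin 2) k) ∈ Ideal.span {X 0 * X 1, w} :=
        Ideal.subset_span (by simp)
      have hw' : w ∈ Ideal.span {X 0 * X 1, w} := Ideal.subset_span (by simp)
      have ea : 2 + a' - 1 = a' + 1 := by omega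
      have eb : 2 + b' - 1 = b' + 1 := by omega
      rw [ea, eb] at hw
      rintro _ (rfl | rfl | rfl)
      · exact hxy'
      · have : (X 0 : MvPowerSeries (Fin 2) k) ^ (2 + a')
            = X 0 * w - C α * X 1 ^ b' * (X 0 * X 1) := by
          rw [← hw]
          ring
        rw [this]
        exact Ideal.sub_mem _ (Ideal.mul_mem_left _ _ hw') (Ideal.mul_mem_left _ _ hxy')
      · have hCC : (C α⁻¹ * C α : MvPowerSeries (Fin 2) k) = 1 := by
          rw [← map_mul, inv_mul_cancel₀ hα0, map_one]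
        have : (X 1 : MvPowerSeries (Fin 2) k) ^ (2 + b')
            = C α⁻¹ * (X 1 * w - X 0 ^ a' * (X 0 * X 1)) := by
          rw [← hw]
          have : C α⁻¹ * (X 1 * (X 0 ^ (a' + 1) + C α * X 1 ^ (b' + 1)) - X 0 ^ a' * (X 0 * X 1))
              = (C α⁻¹ * C α : MvPowerSeries (Fin 2) k) * X 1 ^ (2 + b') := by
            ring
          rw [this, hCC, one_mul]
        rw [this]
        exact Ideal.mul_mem_left _ _
          (Ideal.sub_mem _ (Ideal.mul_mem_left _ _ hw') (Ideal.mul_mem_left _ _ hxy'))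
    have h5 := hJ0le (key v hv)
    have h6 : C (cf (a - 1) 0 v) * w ∈ Ideal.span {X 0 * X 1, w} :=
      Ideal.mul_mem_left _ _ (Ideal.subset_span (by simp))
    have := Ideal.add_mem _ h5 h6
    simpa using this
  · rw [Ideal.span_le]
    rintro _ (rfl | rfl)
    · exact S.hxy
    · exact hwJ

end Setup

/-- **Classification** of the finite-colength ideals of `k[[x,y]]` containing `xy`. -/
theorem classify (J : Ideal (MvPowerSeries (Fin 2) k))
    (hxy : (X 0 * X 1 : MvPowerSeries (Fin 2) k) ∈ J)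
    [Module.Finite k (MvPowerSeries (Fin 2) k ⧸ J)] (hJ : J ≠ ⊤) :
    ∃ a b : ℕ, 1 ≤ a ∧ 1 ≤ b ∧
      ((a + b = Module.finrank k (MvPowerSeries (Fin 2) k ⧸ J.restrictScalars k) + 1 ∧
        J = Ideal.span {X 0 * X 1, X 0 ^ a, X 1 ^ b}) ∨
       (a + b = Module.finrank k (MvPowerSeries (Fin 2) k ⧸ J.restrictScalars k) ∧
        ∃ α : k, α ≠ 0 ∧ J = Ideal.span {X 0 * X 1, X 0 ^ a + C α * X 1 ^ b})) := by
  classical
  have hex0 := exists_X_pow_mem J 0
  have hex1 := exists_X_pow_mem J 1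
  have S : Setup J (Nat.find hex0) (Nat.find hex1) :=
    { hJ := hJ
      hxa := Nat.find_spec hex0
      hamin := fun m hm => Nat.find_min hex0 hm
      hyb := Nat.find_spec hex1
      hbmin := fun m hm => Nat.find_min hex1 hm
      hxy := hxy }
  obtain ⟨a, ha⟩ : ∃ a, Nat.find hex0 = a := ⟨_, rfl⟩
  obtain ⟨b, hb⟩ : ∃ b, Nat.find hex1 = b := ⟨_, rfl⟩
  rw [ha, hb] at S
  have ha1 := S.ha
  have hb1 := S.hb
  by_cases hcase : ∀ u ∈ J, cf (a - 1) 0 u = 0
  · refine ⟨a, b, ha1, hb1, Or.inl ⟨?_, S.eq_J0_of hcase⟩⟩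
    have hJ0 := S.eq_J0_of hcase
    rw [hJ0, finrank_quot_J0 ha1 hb1]
    omega
  · push Not at hcase
    obtain ⟨u0, hu0, h1⟩ := hcase
    obtain ⟨ha2, hb2, α, hα0, hJeq, hwJ0, key⟩ := S.binomial hu0 h1
    refine ⟨a - 1, b - 1, by omega, by omega, Or.inr ⟨?_, α, hα0, hJeq⟩⟩
    haveI := finite_quot_J0 (k := k) ha1 hb1
    have hwJ : (X 0 ^ (a - 1) + C α * X 1 ^ (b - 1) : MvPowerSeries (Fin 2) k) ∈ J := by
      rw [hJeq]
      exact Ideal.subset_span (by simp)
    have := finrank_quot_eq_add_one ((J0 (k := k) a b).restrictScalars k) (J.restrictScalars k)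
      (fun v hv => S.le hv) _ hwJ hwJ0
      (fun v hv => ⟨cf (a - 1) 0 v, by
        rw [smul_eq_C_mul]
        exact key v hv⟩)
    rw [finrank_quot_J0 ha1 hb1] at this
    omega

end structure_

end Groth.Agent.Lib.T1H4.NodeIdealB
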