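import Mathlib

/-!
# Descending morphisms of ringed spaces along quotient-like morphisms (helper4)
-/

set_option autoImplicit false
universe u v
open CategoryTheory TopologicalSpace Opposite AlgebraicGeometry Topology

namespace Groth.Agent.Lib.T1H4.QuotRS

/-- lifting ring homomorphisms through an injective one -/
lemma exists_lift_of_injective {A B C : CommRingCat.{u}} (i : B ⟶ C)
    (hi : Function.Injective i) (ρ : A ⟶ C) (h : ∀ a : A, ∃ b : B, i b = ρ a) :
    ∃ φ : A ⟶ B, φ ≫ i = ρ := by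
  choose φ hφ using h
  refine ⟨CommRingCat.ofHom
    { toFun := φ
      map_one' := hi (by rw [hφ, map_one, map_one])
      map_mul' := fun a a' => hi (by rw [hφ, map_mul, map_mul, hφ, hφ])
      map_zero' := hi (by rw [hφ, map_zero, map_zero])
      map_add' := fun a a' => hi (by rw [hφ, map_add, map_add, hφ, hφ]) }, ?_⟩
  ext a
  exact hφ a

lemma eq_of_comp_injective {A B C : CommRingCat.{u}} (i : B ⟶ C)
    (hi : Function.Injective i) (φ ψ : A ⟶ B) (h : φ ≫ i = ψ ≫ i) : φ = ψ := by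
  ext a
  apply hi
  exact congrArg (fun χ : A ⟶ C => χ a) h

variable {X : SheafedSpace CommRingCat.{u}}

lemma hom_eq {U U' : (Opens X)ᵒᵖ} (a b : U ⟶ U') : a = b :=
  Quiver.Hom.unop_inj (Subsingleton.elim _ _)

lemma map_comp_eq {U₁ U₂ U₃ : (Opens X)ᵒᵖ} (a : U₁ ⟶ U₂) (b : U₂ ⟶ U₃) (c : U₁ ⟶ U₃) :
    X.presheaf.map a ≫ X.presheaf.map b = X.presheaf.map c := by
  rw [← Functor.map_comp]
  exact congrArg X.presheaf.map (hom_eq _ _)

lemma map_map_eq {U₁ U₂ U₃ : (Opens X)ᵒᵖ} (a : U₁ ⟶ U₂) (b : U₂ ⟶ U₃) (c : U₁ ⟶ U₃)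
    (y : X.presheaf.obj U₁) :
    X.presheaf.map b (X.presheaf.map a y) = X.presheaf.map c y :=
  congrArg (fun χ : X.presheaf.obj U₁ ⟶ X.presheaf.obj U₃ => χ y) (map_comp_eq a b c)

lemma map_self {U : (Opens X)ᵒᵖ} (a : U ⟶ U) : X.presheaf.map a = 𝟙 _ := by
  rw [hom_eq a (𝟙 U), X.presheaf.map_id]

section Descent

variable {Y Z : SheafedSpace CommRingCat.{u}} (π : X ⟶ Y) (f : X ⟶ Z)
  (h1 : IsQuotientMap π.hom.base)
  (hc : ∀ x x' : X, π.hom.base x = π.hom.base x' → f.hom.base x = f.hom.base x')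

/-- the descended continuous map -/
noncomputable def descBase : (Y : TopCat) ⟶ (Z : TopCat) :=
  TopCat.ofHom (h1.lift (f := π.hom.base.hom) f.hom.base.hom (fun x x' h => hc x x' h))

lemma π_descBase : π.hom.base ≫ descBase π f h1 hc = f.hom.base := by
  ext x
  exact congrArg (fun φ : C(X, Z) => φ x)
    (h1.lift_comp (f := π.hom.base.hom) f.hom.base.hom (fun x x' h => hc x x' h))

lemma preimage_desc (W : Opens Z) :
    (Opens.map π.hom.base).obj ((Opens.map (descBase π f h1 hc)).obj W) =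
      (Opens.map f.hom.base).obj W := by
  rw [← Opens.map_comp_obj, π_descBase]

variable (hinj : ∀ V : Opens Y, Function.Injective (π.hom.c.app (op V)))
  (hr : ∀ (V : Opens Y) (W : Opens Z)
    (e : (Opens.map π.hom.base).obj V = (Opens.map f.hom.base).obj W)
    (t : Z.presheaf.obj (op W)), ∃ u : Y.presheaf.obj (op V),
      π.hom.c.app (op V) u = X.presheaf.map (eqToHom (congrArg op e.symm)) (f.hom.c.app (op W) t))

/-- the composite that has to be lifted -/
noncomputable def rho (W : Opens Z) : Z.presheaf.obj (op W) ⟶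
    X.presheaf.obj (op ((Opens.map π.hom.base).obj ((Opens.map (descBase π f h1 hc)).obj W))) :=
  f.hom.c.app (op W) ≫ X.presheaf.map (eqToHom (congrArg op (preimage_desc π f h1 hc W).symm))

include hinj hr in
lemma exists_phi (W : Opens Z) :
    ∃ φ : Z.presheaf.obj (op W) ⟶ Y.presheaf.obj (op ((Opens.map (descBase π f h1 hc)).obj W)),
      φ ≫ π.hom.c.app (op ((Opens.map (descBase π f h1 hc)).obj W)) = rho π f h1 hc W :=
  exists_lift_of_injective _ (hinj _) _ (fun t => hr _ W (preimage_desc π f h1 hc W) t)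

/-- the components of the descended morphism of sheaves -/
noncomputable def phi (W : Opens Z) :
    Z.presheaf.obj (op W) ⟶ Y.presheaf.obj (op ((Opens.map (descBase π f h1 hc)).obj W)) :=
  (exists_phi π f h1 hc hinj hr W).choose

lemma phi_spec (W : Opens Z) :
    phi π f h1 hc hinj hr W ≫ π.hom.c.app (op ((Opens.map (descBase π f h1 hc)).obj W)) =
      rho π f h1 hc W :=
  (exists_phi π f h1 hc hinj hr W).choose_spec

/-- the descended morphism of sheaves -/
noncomputable def descC : Z.presheaf ⟶ (descBase π f h1 hc) _* Y.presheaf where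
  app W := phi π f h1 hc hinj hr W.unop
  naturality W₁ W₂ j := by
    apply eq_of_comp_injective _ (hinj ((Opens.map (descBase π f h1 hc)).obj W₂.unop))
    rw [Category.assoc, Category.assoc, phi_spec]
    have hn := π.hom.c.naturality ((Opens.map (descBase π f h1 hc)).op.map j)
    have hn' : ((descBase π f h1 hc) _* Y.presheaf).map j ≫
        π.hom.c.app (op ((Opens.map (descBase π f h1 hc)).obj W₂.unop)) =
        π.hom.c.app (op ((Opens.map (descBase π f h1 hc)).obj W₁.unop)) ≫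
          (π.hom.base _* X.presheaf).map ((Opens.map (descBase π f h1 hc)).op.map j) := hn
    rw [hn', ← Category.assoc (phi π f h1 hc hinj hr W₁.unop), phi_spec]
    unfold rho
    rw [← Category.assoc, f.hom.c.naturality j, Category.assoc, Category.assoc]
    congr 1
    exact (map_comp_eq _ _ ((Opens.map f.hom.base).op.map j ≫
      eqToHom (congrArg op (preimage_desc π f h1 hc W₂.unop).symm))).trans
        (map_comp_eq _ _ _).symm

/-- the descended morphism -/
noncomputable def desc : Y ⟶ Z :=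
  InducedCategory.homMk { base := descBase π f h1 hc, c := descC π f h1 hc hinj hr }

lemma π_desc : π ≫ desc π f h1 hc hinj hr = f := by
  refine SheafedSpace.ext _ _ (π_descBase π f h1 hc) ?_
  refine NatTrans.ext (funext fun W' => ?_)
  induction W' using Opposite.rec with | _ W => ?_
  have h2 : (π ≫ desc π f h1 hc hinj hr).hom.c.app (op W) =
      phi π f h1 hc hinj hr W ≫
        π.hom.c.app (op ((Opens.map (descBase π f h1 hc)).obj W)) := rfl
  rw [NatTrans.comp_app, h2, phi_spec]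
  unfold rho
  have h3 : ∀ (U : (Opens X)ᵒᵖ) (a : op ((Opens.map f.hom.base).obj W) ⟶ U)
      (b : U ⟶ op ((Opens.map f.hom.base).obj W)),
      (f.hom.c.app (op W) ≫ X.presheaf.map a) ≫ X.presheaf.map b = f.hom.c.app (op W) := by
    intro U a b
    rw [Category.assoc, map_comp_eq a b (𝟙 _), X.presheaf.map_id]
    exact Category.comp_id _
  exact h3 _ _ _

lemma unique_aux {V₁ V₂ : Opens Y} (e : op V₁ ⟶ op V₂) {A : CommRingCat.{u}}
    (a₁ : A ⟶ Y.presheaf.obj (op V₁)) (a₂ : A ⟶ Y.presheaf.obj (op V₂)) {U : (Opens X)ᵒᵖ}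
    (r : A ⟶ X.presheaf.obj U) (b₁ : U ⟶ op ((Opens.map π.hom.base).obj V₁))
    (b₂ : U ⟶ op ((Opens.map π.hom.base).obj V₂))
    (k1 : a₁ ≫ π.hom.c.app (op V₁) = r ≫ X.presheaf.map b₁)
    (k2 : a₂ ≫ π.hom.c.app (op V₂) = r ≫ X.presheaf.map b₂) :
    (a₁ ≫ Y.presheaf.map e) ≫ π.hom.c.app (op V₂) = a₂ ≫ π.hom.c.app (op V₂) := by
  have hn : Y.presheaf.map e ≫ π.hom.c.app (op V₂) =
      π.hom.c.app (op V₁) ≫ X.presheaf.map ((Opens.map π.hom.base).op.map e) :=
    π.hom.c.naturality e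
  rw [Category.assoc, hn, ← Category.assoc, k1, k2, Category.assoc, map_comp_eq _ _ b₂]

include h1 hinj in
lemma desc_unique (g₁ g₂ : Y ⟶ Z) (hg₁ : π ≫ g₁ = f) (hg₂ : π ≫ g₂ = f) : g₁ = g₂ := by
  have hb : g₁.hom.base = g₂.hom.base := by
    ext y
    obtain ⟨x, rfl⟩ := h1.surjective y
    have e1 := congrArg (fun φ : X ⟶ Z => φ.hom.base x) hg₁
    have e2 := congrArg (fun φ : X ⟶ Z => φ.hom.base x) hg₂
    exact e1.trans e2.symm
  refine SheafedSpace.ext _ _ hb ?_
  refine NatTrans.ext (funext fun W' => ?_)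
  induction W' using Opposite.rec with | _ W => ?_
  apply eq_of_comp_injective _ (hinj ((Opens.map g₂.hom.base).obj W))
  have k1 := SheafedSpace.congr_hom_app hg₁ (op W)
  have k2 := SheafedSpace.congr_hom_app hg₂ (op W)
  rw [SheafedSpace.comp_hom_c_app] at k1 k2
  exact unique_aux π _ _ _ _ _ _ k1 k2

include h1 hc hinj hr in
theorem existsUnique_desc : ∃! fbar : Y ⟶ Z, π ≫ fbar = f :=
  ⟨desc π f h1 hc hinj hr, π_desc π f h1 hc hinj hr,
    fun g hg => desc_unique π f h1 hinj g _ hg (π_desc π f h1 hc hinj hr)⟩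

end Descent

lemma invariant_aux (σ : X ⟶ X) {U₁ U₂ : Opens X} (a : op U₁ ⟶ op U₂)
    (y : X.presheaf.obj (op U₁)) (b : op U₁ ⟶ op ((Opens.map σ.hom.base).obj U₁))
    (d : op U₂ ⟶ op ((Opens.map σ.hom.base).obj U₂))
    (hy : σ.hom.c.app (op U₁) y = X.presheaf.map b y) :
    σ.hom.c.app (op U₂) (X.presheaf.map a y) = X.presheaf.map d (X.presheaf.map a y) := by
  have hn : X.presheaf.map a ≫ σ.hom.c.app (op U₂) =
      σ.hom.c.app (op U₁) ≫ X.presheaf.map ((Opens.map σ.hom.base).op.map a) :=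
    σ.hom.c.naturality a
  have h2 : σ.hom.c.app (op U₂) (X.presheaf.map a y) =
      X.presheaf.map ((Opens.map σ.hom.base).op.map a) (σ.hom.c.app (op U₁) y) :=
    congrArg (fun χ : X.presheaf.obj (op U₁) ⟶
      X.presheaf.obj (op ((Opens.map σ.hom.base).obj U₂)) => χ y) hn
  rw [h2, hy, map_map_eq _ _ (a ≫ d), map_map_eq a d (a ≫ d)]

end Groth.Agent.Lib.T1H4.QuotRS
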