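import Mathlib

/-!
# Commuting homomorphisms between semisimple endomorphisms (S16837), part A: simple endomorphisms
-/

namespace Groth.Agent.Lib.T1H4.SSHom

open Module Polynomial

variable {K : Type*} [Field K]

section simple

variable {V : Type*} [AddCommGroup V] [Module K V]

/-- simple endomorphism: no nontrivial invariant subspaces -/
def IsSimpleEnd (π : End K V) : Prop := Nontrivial V ∧ ∀ p ∈ π.invtSubmodule, p = ⊥ ∨ p = ⊤

theorem commute_aeval (π : End K V) (g : K[X]) : Commute π (aeval π g) := by
  have := (commute_X g).map (aeval π)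
  rwa [aeval_X] at this

theorem aeval_apply_comm (π : End K V) (g : K[X]) (x : V) :
    aeval π g (π x) = π (aeval π g x) := by
  have := congrArg (fun f : End K V => f x) (commute_aeval π g).eq
  simpa [Module.End.mul_apply] using this.symm

theorem ker_aeval_mem_invt (π : End K V) (g : K[X]) :
    LinearMap.ker (aeval π g) ∈ π.invtSubmodule := by
  intro x hx
  rw [Submodule.mem_comap, LinearMap.mem_ker, aeval_apply_comm, LinearMap.mem_ker.1 hx, map_zero]

/-- evaluation at a vector -/
noncomputable def ev (π : End K V) (v : V) : K[X] →ₗ[K] V :=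
  (LinearMap.applyₗ v) ∘ₗ (aeval π).toLinearMap

@[simp] theorem ev_apply (π : End K V) (v : V) (g : K[X]) : ev π v g = aeval π g v := rfl

theorem ev_X_mul (π : End K V) (v : V) (g : K[X]) : ev π v (X * g) = π (ev π v g) := by
  simp [map_mul, aeval_X, Module.End.mul_apply]

theorem ev_mul (π : End K V) (v : V) (q g : K[X]) :
    ev π v (q * g) = aeval π q (ev π v g) := by
  simp [map_mul, Module.End.mul_apply]

theorem range_ev_mem_invt (π : End K V) (v : V) :
    LinearMap.range (ev π v) ∈ π.invtSubmodule := by
  rintro _ ⟨g, rfl⟩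
  exact ⟨X * g, ev_X_mul π v g⟩

theorem IsSimpleEnd.cyclic {π : End K V} (h : IsSimpleEnd π) {v : V} (hv : v ≠ 0) :
    Function.Surjective (ev π v) := by
  rw [← LinearMap.range_eq_top]
  rcases h.2 _ (range_ev_mem_invt π v) with h0 | h1
  · exfalso
    apply hv
    have : v ∈ LinearMap.range (ev π v) := ⟨1, by simp⟩
    rw [h0] at this
    exact (Submodule.mem_bot K).1 this
  · exact h1

theorem IsSimpleEnd.irreducible_minpoly [FiniteDimensional K V] {π : End K V}
    (h : IsSimpleEnd π) : Irreducible (minpoly K π) := by
  have hint : IsIntegral K π := Algebra.IsIntegral.isIntegral π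
  haveI := h.1
  have hμ0 := minpoly.ne_zero hint
  refine ⟨minpoly.not_isUnit K π, fun a b hab => ?_⟩
  have hab0 : aeval π a * aeval π b = 0 := by rw [← map_mul, ← hab, minpoly.aeval]
  rcases h.2 _ (ker_aeval_mem_invt π a) with h0 | h1
  · left
    have hb : aeval π b = 0 := by
      ext x
      have h1 : aeval π b x ∈ LinearMap.ker (aeval π a) := by
        rw [LinearMap.mem_ker, ← Module.End.mul_apply, hab0, LinearMap.zero_apply]
      rw [h0] at h1
      simpa using h1
    obtain ⟨c, hc⟩ := minpoly.dvd K π hb
    have : minpoly K π * 1 = minpoly K π * (a * c) := by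
      rw [mul_one]; conv_lhs => rw [hab, hc]
      ring
    exact IsUnit.of_mul_eq_one _ (mul_left_cancel₀ hμ0 this).symm
  · right
    have ha : aeval π a = 0 := by
      ext x
      have : x ∈ LinearMap.ker (aeval π a) := by rw [h1]; trivial
      simpa using this
    obtain ⟨c, hc⟩ := minpoly.dvd K π ha
    have : minpoly K π * 1 = minpoly K π * (b * c) := by
      rw [mul_one]; conv_lhs => rw [hab, hc]
      ring
    exact IsUnit.of_mul_eq_one _ (mul_left_cancel₀ hμ0 this).symm

theorem IsSimpleEnd.ker_ev [FiniteDimensional K V] {π : End K V}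
    (h : IsSimpleEnd π) {v : V} (hv : v ≠ 0) :
    LinearMap.ker (ev π v) = (Ideal.span {minpoly K π}).restrictScalars K := by
  ext g
  rw [LinearMap.mem_ker, Submodule.restrictScalars_mem, Ideal.mem_span_singleton]
  constructor
  · intro hg
    apply minpoly.dvd K π
    ext w
    obtain ⟨q, rfl⟩ := h.cyclic hv w
    rw [← ev_mul, mul_comm, ev_mul, hg, map_zero, LinearMap.zero_apply]
  · rintro ⟨c, rfl⟩
    rw [ev_apply, map_mul, minpoly.aeval, zero_mul, LinearMap.zero_apply]

theorem IsSimpleEnd.finrank_eq [FiniteDimensional K V] {π : End K V}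
    (h : IsSimpleEnd π) : finrank K V = (minpoly K π).natDegree := by
  haveI := h.1
  obtain ⟨v, hv⟩ := exists_ne (0 : V)
  have e1 := (LinearMap.quotKerEquivOfSurjective (ev π v) (h.cyclic hv)).finrank_eq
  have e2 := (Submodule.quotEquivOfEq _ _ (h.ker_ev hv)).finrank_eq
  have e3 := (Submodule.Quotient.restrictScalarsEquiv K (Ideal.span {minpoly K π})).finrank_eq
  rw [← e1, e2, e3, finrank_quotient_span_eq_natDegree]

theorem IsSimpleEnd.charpoly_eq [FiniteDimensional K V] {π : End K V}
    (h : IsSimpleEnd π) : π.charpoly = minpoly K π := by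
  have hint : IsIntegral K π := Algebra.IsIntegral.isIntegral π
  refine eq_of_monic_of_dvd_of_natDegree_le (minpoly.monic hint) (LinearMap.charpoly_monic π)
    (LinearMap.minpoly_dvd_charpoly π) ?_
  rw [LinearMap.charpoly_natDegree, h.finrank_eq]

open scoped Classical in
/-- the kernel of `P(π)` for monic irreducible `P` and simple `π` -/
theorem IsSimpleEnd.finrank_ker_aeval [FiniteDimensional K V] {π : End K V}
    (h : IsSimpleEnd π) {P : K[X]} (hP : Irreducible P) (hPm : P.Monic) :
    finrank K (LinearMap.ker (aeval π P)) = if P = π.charpoly then P.natDegree else 0 := by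
  have hint : IsIntegral K π := Algebra.IsIntegral.isIntegral π
  haveI := h.1
  split_ifs with hPc
  · have : LinearMap.ker (aeval π P) = ⊤ := by
      rw [hPc, LinearMap.aeval_self_charpoly, LinearMap.ker_zero]
    rw [this, finrank_top, h.finrank_eq, hPc, h.charpoly_eq]
  · rcases h.2 _ (ker_aeval_mem_invt π P) with h0 | h1
    · rw [h0, finrank_bot]
    · exfalso
      apply hPc
      have hP0 : aeval π P = 0 := by
        ext x
        have : x ∈ LinearMap.ker (aeval π P) := by rw [h1]; trivial
        simpa using this
      have hdvd := minpoly.dvd K π hP0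
      rw [h.charpoly_eq]
      have hassoc : Associated (minpoly K π) P :=
        (h.irreducible_minpoly).associated_of_dvd hP hdvd
      exact (eq_of_monic_of_associated (minpoly.monic hint) hPm hassoc).symm

end simple

end Groth.Agent.Lib.T1H4.SSHom
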