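import Mathlib
import Groth.Agent.Lib.T1H4SSHomA

/-!
# Commuting homomorphisms between semisimple endomorphisms (S16837), part B:
decomposition and transfer lemmas
-/

namespace Groth.Agent.Lib.T1H4.SSHom

open Module Polynomial

variable {K : Type*} [Field K]

section decomposition

variable {V : Type*} [AddCommGroup V] [Module K V]

theorem exists_simple_compl [FiniteDimensional K V] [Nontrivial V] {π : End K V}
    (hπ : π.IsSemisimple) :
    ∃ (S T : Submodule K V) (hS : S ∈ π.invtSubmodule) (_ : T ∈ π.invtSubmodule),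
      IsCompl S T ∧ IsSimpleEnd (π.restrict hS) := by
  have hwf : WellFounded ((· < ·) : Submodule K V → Submodule K V → Prop) := wellFounded_lt
  obtain ⟨S, ⟨hS, hS0⟩, hmin⟩ := hwf.has_min {p : Submodule K V | p ∈ π.invtSubmodule ∧ p ≠ ⊥}
    ⟨⊤, Module.End.invtSubmodule.top_mem π, top_ne_bot⟩
  obtain ⟨T, hT, hST⟩ := Module.End.isSemisimple_iff.1 hπ S hS
  refine ⟨S, T, hS, hT, hST, ?_⟩
  unfold IsSimpleEnd
  constructor
  · exact (Submodule.nontrivial_iff_ne_bot).2 hS0
  · intro q hq
    have hq' : q.map S.subtype ∈ π.invtSubmodule := by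
      rintro _ ⟨y, hy, rfl⟩
      exact ⟨π.restrict hS y, hq hy, rfl⟩
    have hle : q.map S.subtype ≤ S := Submodule.map_subtype_le S q
    by_cases h0 : q.map S.subtype = ⊥
    · left
      rw [eq_bot_iff]
      intro y hy
      have : S.subtype y ∈ q.map S.subtype := ⟨y, hy, rfl⟩
      rw [h0, Submodule.mem_bot] at this
      exact (Submodule.mem_bot K).2 (Subtype.ext this)
    · right
      have heq : q.map S.subtype = S := by
        by_contra hne
        exact hmin _ ⟨hq', h0⟩ (lt_of_le_of_ne hle hne)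
      apply Submodule.map_injective_of_injective (Submodule.injective_subtype S)
      rw [heq, Submodule.map_subtype_top]

theorem eq_conj_prodMap {π : End K V} {S T : Submodule K V} (hS : S ∈ π.invtSubmodule)
    (hT : T ∈ π.invtSubmodule) (hST : IsCompl S T) :
    π = (Submodule.prodEquivOfIsCompl S T hST).conj ((π.restrict hS).prodMap (π.restrict hT)) := by
  apply LinearMap.ext
  intro x
  obtain ⟨⟨s, t⟩, rfl⟩ := (Submodule.prodEquivOfIsCompl S T hST).surjective x
  rw [LinearEquiv.conj_apply_apply, LinearEquiv.symm_apply_apply]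
  simp [Submodule.coe_prodEquivOfIsCompl', LinearMap.prodMap_apply, LinearMap.restrict_apply]

end decomposition

section transfer

variable {V W W' : Type*} [AddCommGroup V] [Module K V] [AddCommGroup W] [Module K W]
  [AddCommGroup W'] [Module K W']

theorem aeval_conj (e : W ≃ₗ[K] V) (φ : End K W) (P : K[X]) :
    aeval (e.conj φ) P = e.conj (aeval φ P) := by
  have h1 : ∀ ψ : End K W, e.conj ψ = e.conjAlgEquiv K ψ := fun _ => rfl
  rw [h1, h1]
  exact aeval_algHom_apply (e.conjAlgEquiv K) φ P

theorem ker_conj (e : W ≃ₗ[K] V) (ψ : End K W) :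
    LinearMap.ker (e.conj ψ) = (LinearMap.ker ψ).map (e : W →ₗ[K] V) := by
  ext x
  rw [LinearMap.mem_ker, LinearEquiv.conj_apply_apply, Submodule.mem_map]
  constructor
  · intro hx
    refine ⟨e.symm x, ?_, by simp⟩
    rw [LinearMap.mem_ker]
    exact e.injective (by rw [hx, map_zero])
  · rintro ⟨y, hy, rfl⟩
    rw [LinearMap.mem_ker] at hy
    simp [hy]

theorem finrank_ker_aeval_conj (e : W ≃ₗ[K] V) (φ : End K W) (P : K[X]) :
    finrank K (LinearMap.ker (aeval (e.conj φ) P)) = finrank K (LinearMap.ker (aeval φ P)) := by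
  rw [aeval_conj, ker_conj]
  exact LinearEquiv.finrank_map_eq e _

theorem aeval_prodMap (φ : End K W) (ψ : End K W') (P : K[X]) :
    aeval (φ.prodMap ψ) P = (aeval φ P).prodMap (aeval ψ P) := by
  have h1 : ∀ (a : End K W) (b : End K W'), a.prodMap b = LinearMap.prodMapAlgHom K W W' (a, b) :=
    fun _ _ => rfl
  rw [h1, h1, aeval_algHom_apply]
  congr 1
  refine Prod.ext ?_ ?_
  · exact (aeval_algHom_apply (AlgHom.fst K (End K W) (End K W')) (φ, ψ) P).symm
  · exact (aeval_algHom_apply (AlgHom.snd K (End K W) (End K W')) (φ, ψ) P).symm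

/-- the kernel of a product map -/
noncomputable def kerProdEquiv (f : End K W) (g : End K W') :
    LinearMap.ker (f.prodMap g) ≃ₗ[K] (LinearMap.ker f × LinearMap.ker g) where
  toFun x := (⟨x.1.1, by
      have := x.2; rw [LinearMap.mem_ker, LinearMap.prodMap_apply, Prod.mk_eq_zero] at this
      exact this.1⟩,
    ⟨x.1.2, by
      have := x.2; rw [LinearMap.mem_ker, LinearMap.prodMap_apply, Prod.mk_eq_zero] at this
      exact this.2⟩)
  map_add' x y := rfl
  map_smul' c x := rfl
  invFun y := ⟨(y.1.1, y.2.1), by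
    rw [LinearMap.mem_ker, LinearMap.prodMap_apply, Prod.mk_eq_zero]
    exact ⟨y.1.2, y.2.2⟩⟩
  left_inv x := rfl
  right_inv y := rfl

theorem finrank_ker_prodMap [FiniteDimensional K W] [FiniteDimensional K W']
    (f : End K W) (g : End K W') :
    finrank K (LinearMap.ker (f.prodMap g)) =
      finrank K (LinearMap.ker f) + finrank K (LinearMap.ker g) := by
  rw [(kerProdEquiv f g).finrank_eq, Module.finrank_prod]

end transfer

end Groth.Agent.Lib.T1H4.SSHom
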