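import Mathlib
import Groth.Agent.Lib.T1H4SSHomB

/-!
# Commuting homomorphisms between semisimple endomorphisms (S16837), part C:
the space of commuting homomorphisms
-/

namespace Groth.Agent.Lib.T1H4.SSHom

open Module Polynomial

variable {K : Type*} [Field K]

section comm

variable {V₁ V₂ W W' : Type*} [AddCommGroup V₁] [Module K V₁] [AddCommGroup V₂] [Module K V₂]
  [AddCommGroup W] [Module K W] [AddCommGroup W'] [Module K W']

/-- the space of `K[t]`-linear maps -/
def comm (π₁ : End K V₁) (π₂ : End K V₂) : Submodule K (V₁ →ₗ[K] V₂) :=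
  LinearMap.ker (LinearMap.lcomp K V₂ π₁ - LinearMap.llcomp K V₁ V₂ V₂ π₂ :
    (V₁ →ₗ[K] V₂) →ₗ[K] (V₁ →ₗ[K] V₂))

theorem mem_comm {π₁ : End K V₁} {π₂ : End K V₂} {h : V₁ →ₗ[K] V₂} :
    h ∈ comm π₁ π₂ ↔ ∀ x, h (π₁ x) = π₂ (h x) := by
  rw [comm, LinearMap.mem_ker, LinearMap.sub_apply, sub_eq_zero, LinearMap.lcomp_apply',
    LinearMap.llcomp_apply']
  constructor
  · intro hh x
    exact LinearMap.congr_fun hh x
  · intro hh
    ext x
    exact hh x

theorem comm_aeval {π₁ : End K V₁} {π₂ : End K V₂} {h : V₁ →ₗ[K] V₂} (hh : h ∈ comm π₁ π₂)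
    (g : K[X]) (x : V₁) : h (aeval π₁ g x) = aeval π₂ g (h x) := by
  rw [mem_comm] at hh
  induction g using Polynomial.induction_on generalizing x with
  | C a => simp [Module.algebraMap_end_apply]
  | add p q hp hq => simp [map_add, hp, hq]
  | monomial n a ih =>
    have e1 : (C a * X ^ (n + 1) : K[X]) = (C a * X ^ n) * X := by ring
    rw [e1, map_mul (aeval π₁) (C a * X ^ n) X, map_mul (aeval π₂) (C a * X ^ n) X, aeval_X,
      aeval_X, Module.End.mul_apply, Module.End.mul_apply, ih, hh]

/-- conjugation invariance -/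
theorem finrank_comm_conj (e : W ≃ₗ[K] V₁) (φ : End K W) (π₂ : End K V₂) :
    finrank K (comm (e.conj φ) π₂) = finrank K (comm φ π₂) := by
  let E : (W →ₗ[K] V₂) ≃ₗ[K] (V₁ →ₗ[K] V₂) := LinearEquiv.arrowCongr e (LinearEquiv.refl K V₂)
  have : comm (e.conj φ) π₂ = (comm φ π₂).map (E : (W →ₗ[K] V₂) →ₗ[K] (V₁ →ₗ[K] V₂)) := by
    ext h
    rw [Submodule.mem_map]
    constructor
    · intro hh
      rw [mem_comm] at hh
      refine ⟨E.symm h, ?_, by simp⟩
      rw [mem_comm]
      intro x
      have := hh (e x)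
      rw [LinearEquiv.conj_apply_apply, LinearEquiv.symm_apply_apply] at this
      simpa [E, LinearEquiv.arrowCongr_symm_apply] using this
    · rintro ⟨h', hh', rfl⟩
      rw [mem_comm] at hh' ⊢
      intro x
      simp only [E, LinearEquiv.coe_coe, LinearEquiv.arrowCongr_apply, LinearEquiv.refl_apply,
        LinearEquiv.conj_apply_apply, LinearEquiv.symm_apply_apply]
      exact hh' _
  rw [this]
  exact LinearEquiv.finrank_map_eq E _

/-- additivity in the first variable -/
noncomputable def commProdEquiv (φ : End K W) (ψ : End K W') (π₂ : End K V₂) :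
    comm (φ.prodMap ψ) π₂ ≃ₗ[K] (comm φ π₂ × comm ψ π₂) where
  toFun h := (⟨h.1 ∘ₗ LinearMap.inl K W W', by
      have := mem_comm.1 h.2
      rw [mem_comm]
      intro x
      have h1 := this (x, 0)
      simpa using h1⟩,
    ⟨h.1 ∘ₗ LinearMap.inr K W W', by
      have := mem_comm.1 h.2
      rw [mem_comm]
      intro x
      have h1 := this (0, x)
      simpa using h1⟩)
  map_add' x y := rfl
  map_smul' c x := rfl
  invFun y := ⟨LinearMap.coprod y.1.1 y.2.1, by
    rw [mem_comm]
    rintro ⟨a, b⟩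
    have h1 := mem_comm.1 y.1.2 a
    have h2 := mem_comm.1 y.2.2 b
    simp [LinearMap.coprod_apply, h1, h2]⟩
  left_inv h := by
    apply Subtype.ext
    apply LinearMap.ext
    rintro ⟨a, b⟩
    simp only [LinearMap.coprod_apply, LinearMap.coe_comp, Function.comp_apply,
      LinearMap.inl_apply, LinearMap.inr_apply]
    rw [← map_add]
    simp
  right_inv y := by
    refine Prod.ext (Subtype.ext ?_) (Subtype.ext ?_)
    · apply LinearMap.ext; intro a; simp
    · apply LinearMap.ext; intro a; simp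

theorem finrank_comm_prodMap [FiniteDimensional K W] [FiniteDimensional K W']
    [FiniteDimensional K V₂] (φ : End K W) (ψ : End K W') (π₂ : End K V₂) :
    finrank K (comm (φ.prodMap ψ) π₂) = finrank K (comm φ π₂) + finrank K (comm ψ π₂) := by
  rw [(commProdEquiv φ ψ π₂).finrank_eq, Module.finrank_prod]

end comm

end Groth.Agent.Lib.T1H4.SSHom
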