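import Mathlib
import Groth.Agent.Lib.T1H4SSHomC

/-!
# Commuting homomorphisms between semisimple endomorphisms (S16837), part D:
the dimension formula
-/

namespace Groth.Agent.Lib.T1H4.SSHom

open Module Polynomial UniqueFactorizationMonoid

universe u v w

variable {K : Type u} [Field K]

section simplecomm

variable {V₁ : Type v} {V₂ : Type w} [AddCommGroup V₁] [Module K V₁] [AddCommGroup V₂] [Module K V₂]

theorem IsSimpleEnd.finrank_comm [FiniteDimensional K V₁] {π₁ : End K V₁} (h₁ : IsSimpleEnd π₁)
    (π₂ : End K V₂) :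
    finrank K (comm π₁ π₂) = finrank K (LinearMap.ker (aeval π₂ π₁.charpoly)) := by
  have := h₁.1
  obtain ⟨v, hv⟩ := exists_ne (0 : V₁)
  have hcyc := h₁.cyclic hv
  let Φ : comm π₁ π₂ →ₗ[K] LinearMap.ker (aeval π₂ π₁.charpoly) :=
    LinearMap.codRestrict _ ((LinearMap.applyₗ v) ∘ₗ (comm π₁ π₂).subtype) (by
      intro h
      rw [LinearMap.mem_ker]
      simp only [LinearMap.coe_comp, Function.comp_apply, Submodule.subtype_apply,
        LinearMap.applyₗ_apply_apply]
      rw [← comm_aeval h.2, LinearMap.aeval_self_charpoly, LinearMap.zero_apply, map_zero])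
  have hΦ : ∀ h, (Φ h : V₂) = h.1 v := fun h => rfl
  have hinj : Function.Injective Φ := by
    rw [← LinearMap.ker_eq_bot, LinearMap.ker_eq_bot']
    intro h hh
    have h0 : h.1 v = 0 := by rw [← hΦ, hh]; rfl
    apply Subtype.ext
    apply LinearMap.ext
    intro w
    obtain ⟨g, rfl⟩ := hcyc w
    rw [ev_apply, comm_aeval h.2, h0, map_zero]
    rfl
  have hsurj : Function.Surjective Φ := by
    rintro ⟨w, hw⟩
    rw [LinearMap.mem_ker] at hw
    have hle : LinearMap.ker (ev π₁ v) ≤ LinearMap.ker (ev π₂ w) := by
      rw [h₁.ker_ev hv]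
      intro g hg
      rw [Submodule.restrictScalars_mem, Ideal.mem_span_singleton] at hg
      obtain ⟨c, rfl⟩ := hg
      rw [LinearMap.mem_ker, mul_comm, ev_mul, ev_apply, ← h₁.charpoly_eq, hw, map_zero]
    let hw' : V₁ →ₗ[K] V₂ := (LinearMap.ker (ev π₁ v)).liftQ (ev π₂ w) hle ∘ₗ
      (LinearMap.quotKerEquivOfSurjective (ev π₁ v) hcyc).symm.toLinearMap
    have hw'ev : ∀ g, hw' (ev π₁ v g) = ev π₂ w g := by
      intro g
      simp only [hw', LinearMap.coe_comp, LinearEquiv.coe_coe, Function.comp_apply]
      rw [LinearMap.quotKerEquivOfSurjective_symm_apply, Submodule.liftQ_apply]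
    refine ⟨⟨hw', ?_⟩, ?_⟩
    · rw [mem_comm]
      intro x
      obtain ⟨g, rfl⟩ := hcyc x
      rw [← ev_X_mul, hw'ev, hw'ev, ev_X_mul]
    · apply Subtype.ext
      rw [hΦ]
      have := hw'ev 1
      simpa using this
  exact (LinearEquiv.ofBijective Φ ⟨hinj, hsurj⟩).finrank_eq

end simplecomm

theorem charpoly_eq_one_of_finrank_eq_zero {V : Type v} [AddCommGroup V] [Module K V]
    [FiniteDimensional K V] (π : End K V) (h : finrank K V = 0) : π.charpoly = 1 := by
  have h1 : π.charpoly.natDegree = 0 := by rw [LinearMap.charpoly_natDegree, h]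
  exact Polynomial.eq_one_of_monic_natDegree_zero (LinearMap.charpoly_monic π) h1

open scoped Classical in
theorem finrank_ker_aeval_of_isSemisimple : ∀ (n : ℕ) (V : Type v) [AddCommGroup V] [Module K V]
    [FiniteDimensional K V] (π : End K V), finrank K V = n → π.IsSemisimple →
    ∀ P : K[X], Irreducible P → P.Monic →
      finrank K (LinearMap.ker (aeval π P)) = (normalizedFactors π.charpoly).count P * P.natDegree := by
  intro n
  induction n using Nat.strong_induction_on with
  | _ n ih =>
  intro V _ _ _ π hn hπ P hP hPm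
  rcases Nat.eq_zero_or_pos n with h0 | hpos
  · rw [h0] at hn
    rw [charpoly_eq_one_of_finrank_eq_zero π hn, normalizedFactors_one, Multiset.count_zero,
      zero_mul]
    have := Submodule.finrank_le (LinearMap.ker (aeval π P))
    omega
  · have : Nontrivial V := Module.finrank_pos_iff.1 (hn ▸ hpos)
    obtain ⟨S, T, hS, hT, hST, hsimple⟩ := exists_simple_compl hπ
    have hconj := eq_conj_prodMap hS hT hST
    have hTlt : finrank K T < n := by
      have := Submodule.finrank_add_eq_of_isCompl hST
      have hSpos : 0 < finrank K S := by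
        have := hsimple.1
        exact Module.finrank_pos
      omega
    have ihT := ih (finrank K T) hTlt T (π.restrict hT) rfl (hπ.restrict hT) P hP hPm
    have hS1 := hsimple.finrank_ker_aeval hP hPm
    have hcp : π.charpoly = (π.restrict hS).charpoly * (π.restrict hT).charpoly := by
      conv_lhs => rw [hconj]
      rw [LinearEquiv.charpoly_conj, LinearMap.charpoly_prodMap]
    have hk : finrank K (LinearMap.ker (aeval π P)) =
        finrank K (LinearMap.ker (aeval (π.restrict hS) P)) +
          finrank K (LinearMap.ker (aeval (π.restrict hT) P)) := by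
      conv_lhs => rw [hconj]
      rw [finrank_ker_aeval_conj, aeval_prodMap, finrank_ker_prodMap]
    have hirr : Irreducible (π.restrict hS).charpoly := by
      rw [hsimple.charpoly_eq]; exact hsimple.irreducible_minpoly
    rw [hk, hS1, ihT, hcp, normalizedFactors_mul (LinearMap.charpoly_monic _).ne_zero
      (LinearMap.charpoly_monic _).ne_zero, Multiset.count_add, add_mul]
    congr 1
    rw [normalizedFactors_irreducible hirr, (LinearMap.charpoly_monic _).normalize_eq_self,
      Multiset.count_singleton]
    split_ifs <;> simp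

open scoped Classical in
theorem finrank_comm_of_isSemisimple {V₂ : Type w} [AddCommGroup V₂] [Module K V₂]
    [FiniteDimensional K V₂] (π₂ : End K V₂) :
    ∀ (n : ℕ) (V₁ : Type v) [AddCommGroup V₁] [Module K V₁]
    [FiniteDimensional K V₁] (π₁ : End K V₁), finrank K V₁ = n → π₁.IsSemisimple →
      finrank K (comm π₁ π₂) = ((normalizedFactors π₁.charpoly).map
        fun Q => finrank K (LinearMap.ker (aeval π₂ Q))).sum := by
  intro n
  induction n using Nat.strong_induction_on with
  | _ n ih =>
  intro V₁ _ _ _ π₁ hn hπ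
  rcases Nat.eq_zero_or_pos n with h0 | hpos
  · rw [h0] at hn
    rw [charpoly_eq_one_of_finrank_eq_zero π₁ hn, normalizedFactors_one, Multiset.map_zero,
      Multiset.sum_zero]
    have : Subsingleton V₁ := Module.finrank_zero_iff.1 hn
    have : Subsingleton (V₁ →ₗ[K] V₂) := ⟨fun a b => LinearMap.ext fun x => by
      rw [Subsingleton.elim x 0, map_zero, map_zero]⟩
    exact Module.finrank_zero_of_subsingleton
  · have : Nontrivial V₁ := Module.finrank_pos_iff.1 (hn ▸ hpos)
    obtain ⟨S, T, hS, hT, hST, hsimple⟩ := exists_simple_compl hπ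
    have hconj := eq_conj_prodMap hS hT hST
    have hTlt : finrank K T < n := by
      have := Submodule.finrank_add_eq_of_isCompl hST
      have hSpos : 0 < finrank K S := by
        have := hsimple.1
        exact Module.finrank_pos
      omega
    have ihT := ih (finrank K T) hTlt T (π₁.restrict hT) rfl (hπ.restrict hT)
    have hS1 := hsimple.finrank_comm π₂
    have hcp : π₁.charpoly = (π₁.restrict hS).charpoly * (π₁.restrict hT).charpoly := by
      conv_lhs => rw [hconj]
      rw [LinearEquiv.charpoly_conj, LinearMap.charpoly_prodMap]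
    have hk : finrank K (comm π₁ π₂) =
        finrank K (comm (π₁.restrict hS) π₂) + finrank K (comm (π₁.restrict hT) π₂) := by
      conv_lhs => rw [hconj]
      rw [finrank_comm_conj, finrank_comm_prodMap]
    have hirr : Irreducible (π₁.restrict hS).charpoly := by
      rw [hsimple.charpoly_eq]; exact hsimple.irreducible_minpoly
    rw [hk, hS1, ihT, hcp, normalizedFactors_mul (LinearMap.charpoly_monic _).ne_zero
      (LinearMap.charpoly_monic _).ne_zero, Multiset.map_add, Multiset.sum_add,
      normalizedFactors_irreducible hirr, (LinearMap.charpoly_monic _).normalize_eq_self,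
      Multiset.map_singleton, Multiset.sum_singleton]

open scoped Classical in
theorem main {V₁ : Type v} {V₂ : Type w} [AddCommGroup V₁] [Module K V₁] [FiniteDimensional K V₁]
    [AddCommGroup V₂] [Module K V₂] [FiniteDimensional K V₂]
    (π₁ : End K V₁) (π₂ : End K V₂) (h₁ : π₁.IsSemisimple) (h₂ : π₂.IsSemisimple) :
    finrank K (comm π₁ π₂) =
      ∑ P ∈ (normalizedFactors π₁.charpoly).toFinset,
        (normalizedFactors π₁.charpoly).count P * (normalizedFactors π₂.charpoly).count P *
          P.natDegree := by
  rw [finrank_comm_of_isSemisimple π₂ _ V₁ π₁ rfl h₁, Finset.sum_multiset_map_count]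
  refine Finset.sum_congr rfl fun P hP => ?_
  rw [Multiset.mem_toFinset] at hP
  have hirr := irreducible_of_normalized_factor P hP
  have hmon : P.Monic := by
    have := normalize_normalized_factor P hP
    rw [← this]
    exact Polynomial.monic_normalize hirr.ne_zero
  rw [finrank_ker_aeval_of_isSemisimple _ V₂ π₂ rfl h₂ P hirr hmon, smul_eq_mul, mul_assoc]

end Groth.Agent.Lib.T1H4.SSHom
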