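import Mathlib.CategoryTheory.Triangulated.Pretriangulated
import Mathlib.CategoryTheory.Linear.LinearFunctor
import Mathlib.LinearAlgebra.Dual.Defs
import Mathlib.LinearAlgebra.Dual.Lemmas
import Mathlib.RingTheory.Finiteness.Defs
import Mathlib.CategoryTheory.Equivalence

/-!
# Serre functors and representability of dual Hom functors

Pure `k`-linear category theory for S6718.
-/

set_option autoImplicit false
universe w v u
open CategoryTheory

namespace Groth.Agent.Lib.T1H4.Serre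

section LinAlg

variable {k : Type w} [Field k]
variable {V : Type v} {W : Type v} [AddCommGroup V] [Module k V] [AddCommGroup W] [Module k W]
  [Module.Finite k W]

/-- Flip a linear equivalence `V ≃ W^∨` into `W ≃ V^∨`. -/
noncomputable def flipEquiv (E : V ≃ₗ[k] Module.Dual k W) : W ≃ₗ[k] Module.Dual k V :=
  (Module.evalEquiv k W) ≪≫ₗ E.dualMap

@[simp] lemma flipEquiv_apply (E : V ≃ₗ[k] Module.Dual k W) (w : W) (x : V) :
    flipEquiv E w x = E x w := rfl

end LinAlg

variable {k : Type w} [Field k]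
variable {T : Type u} [Category.{v} T] [Preadditive T] [Linear k T]
variable [∀ X Y : T, Module.Finite k (X ⟶ Y)]

/-- Representability data for all the functors `Y ↦ Hom(X, Y)^∨`. -/
structure RepData (k : Type w) [Field k] (T : Type u) [Category.{v} T] [Preadditive T]
    [Linear k T] where
  /-- the representing objects -/
  S : T → T
  /-- the representing isomorphisms -/
  e : ∀ X Y : T, (Y ⟶ S X) ≃ₗ[k] Module.Dual k (X ⟶ Y)
  nat : ∀ (X Y Y' : T) (g : Y' ⟶ Y) (f : Y ⟶ S X),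
    e X Y' (g ≫ f) = (e X Y f) ∘ₗ Linear.rightComp k X g

namespace RepData

variable (D : RepData k T)

/-- The trace functional. -/
noncomputable def tr (X : T) : (X ⟶ D.S X) →ₗ[k] k :=
  (LinearMap.applyₗ (𝟙 X)).comp (D.e X X).toLinearMap

lemma tr_apply (X : T) (ψ : X ⟶ D.S X) : D.tr X ψ = D.e X X ψ (𝟙 X) := rfl

lemma e_apply (X Y : T) (f : Y ⟶ D.S X) (φ : X ⟶ Y) :
    D.e X Y f φ = D.tr X (φ ≫ f) := by
  have h := D.nat X Y X φ f
  rw [tr_apply, h]
  simp

lemma ext_left {X Y : T} {f f' : Y ⟶ D.S X}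
    (h : ∀ φ : X ⟶ Y, D.tr X (φ ≫ f) = D.tr X (φ ≫ f')) : f = f' := by
  apply (D.e X Y).injective
  ext φ
  rw [e_apply, e_apply, h]

lemma ext_right {X Y : T} {φ φ' : X ⟶ Y}
    (h : ∀ f : Y ⟶ D.S X, D.tr X (φ ≫ f) = D.tr X (φ' ≫ f)) : φ = φ' := by
  apply (flipEquiv (D.e X Y)).injective
  ext f
  rw [flipEquiv_apply, flipEquiv_apply, e_apply, e_apply, h]

lemma exists_left {X Y : T} (l : Module.Dual k (X ⟶ Y)) :
    ∃ f : Y ⟶ D.S X, ∀ φ : X ⟶ Y, D.tr X (φ ≫ f) = l φ := by
  refine ⟨(D.e X Y).symm l, fun φ => ?_⟩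
  rw [← e_apply]
  simp

lemma exists_right {X Y : T} (l : Module.Dual k (Y ⟶ D.S X)) :
    ∃ φ : X ⟶ Y, ∀ f : Y ⟶ D.S X, D.tr X (φ ≫ f) = l f := by
  refine ⟨(flipEquiv (D.e X Y)).symm l, fun f => ?_⟩
  rw [← e_apply, ← flipEquiv_apply]
  simp

/-- The action of the Serre functor on morphisms. -/
noncomputable def Smap {X' X : T} (a : X' ⟶ X) : D.S X' ⟶ D.S X :=
  (D.e X (D.S X')).symm ((D.tr X').comp (Linear.leftComp k (D.S X') a))

lemma tr_comp_Smap {X' X : T} (a : X' ⟶ X) (ψ : X ⟶ D.S X') :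
    D.tr X (ψ ≫ D.Smap a) = D.tr X' (a ≫ ψ) := by
  rw [← e_apply, Smap]
  simp

/-- The Serre functor. -/
noncomputable def Sfun : T ⥤ T where
  obj := D.S
  map a := D.Smap a
  map_id X := by
    apply D.ext_left
    intro φ
    rw [tr_comp_Smap]
    simp
  map_comp {X'' X' X} a b := by
    apply D.ext_left
    intro ψ
    rw [tr_comp_Smap, ← Category.assoc, tr_comp_Smap, ← Category.assoc, tr_comp_Smap]
    simp

@[simp] lemma Sfun_obj (X : T) : D.Sfun.obj X = D.S X := rfl
lemma Sfun_map {X' X : T} (a : X' ⟶ X) : D.Sfun.map a = D.Smap a := rfl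

instance : D.Sfun.Additive where
  map_add {X' X} a b := by
    change D.Smap (a + b) = D.Smap a + D.Smap b
    apply D.ext_left
    intro ψ
    rw [Preadditive.comp_add, map_add, tr_comp_Smap, tr_comp_Smap,
      tr_comp_Smap, Preadditive.add_comp, map_add]

instance : D.Sfun.Linear k where
  map_smul {X' X} a r := by
    change D.Smap (r • a) = r • D.Smap a
    apply D.ext_left
    intro ψ
    rw [Linear.comp_smul, map_smul, tr_comp_Smap, tr_comp_Smap,
      Linear.smul_comp, map_smul]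

instance : D.Sfun.Faithful where
  map_injective {X' X} a b h := by
    change D.Smap a = D.Smap b at h
    apply D.ext_right
    intro ψ
    rw [← D.tr_comp_Smap a ψ, ← D.tr_comp_Smap b ψ, h]

instance : D.Sfun.Full where
  map_surjective {X' X} h := by
    change D.S X' ⟶ D.S X at h
    obtain ⟨a, ha⟩ := D.exists_right (X := X') (Y := X)
      ((D.tr X).comp (Linear.rightComp k X h))
    refine ⟨a, ?_⟩
    change D.Smap a = h
    apply D.ext_left
    intro ψ
    rw [tr_comp_Smap, ha]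
    simp

/-- The Serre duality isomorphisms. -/
noncomputable def c (X Y : T) : (X ⟶ Y) ≃ₗ[k] Module.Dual k (Y ⟶ D.S X) :=
  flipEquiv (D.e X Y)

lemma c_apply (X Y : T) (φ : X ⟶ Y) (f : Y ⟶ D.S X) : D.c X Y φ f = D.tr X (φ ≫ f) := by
  change D.e X Y f φ = _
  rw [e_apply]

lemma c_nat_right (X Y Y' : T) (f : X ⟶ Y) (g : Y ⟶ Y') :
    D.c X Y' (f ≫ g) = (D.c X Y f) ∘ₗ Linear.leftComp k (D.S X) g := by
  ext h
  rw [c_apply, LinearMap.comp_apply, c_apply, Linear.leftComp_apply, Category.assoc]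

lemma c_nat_left (X' X Y : T) (a : X' ⟶ X) (f : X ⟶ Y) :
    D.c X' Y (a ≫ f) = (D.c X Y f) ∘ₗ Linear.rightComp k Y (D.Smap a) := by
  ext h
  rw [c_apply, LinearMap.comp_apply, c_apply, Linear.rightComp_apply, ← Category.assoc,
    tr_comp_Smap, Category.assoc]

end RepData

/-- Corepresentability data for all the functors `Y ↦ Hom(Y, X)^∨`. -/
structure CorepData (k : Type w) [Field k] (T : Type u) [Category.{v} T] [Preadditive T]
    [Linear k T] where
  /-- the corepresenting objects -/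
  R : T → T
  /-- the corepresenting isomorphisms -/
  e : ∀ X Y : T, (R X ⟶ Y) ≃ₗ[k] Module.Dual k (Y ⟶ X)
  nat : ∀ (X Y Y' : T) (g : Y ⟶ Y') (f : R X ⟶ Y),
    e X Y' (f ≫ g) = (e X Y f) ∘ₗ Linear.leftComp k X g

namespace CorepData

variable (D' : CorepData k T)

/-- The trace functional. -/
noncomputable def tr (X : T) : (D'.R X ⟶ X) →ₗ[k] k :=
  (D'.e X (D'.R X) (𝟙 _))

lemma e_apply (X Y : T) (f : D'.R X ⟶ Y) (φ : Y ⟶ X) :
    D'.e X Y f φ = D'.tr X (f ≫ φ) := by
  have h := D'.nat X (D'.R X) Y f (𝟙 _)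
  rw [Category.id_comp] at h
  rw [tr, h]
  simp

lemma ext_right {X Y : T} {φ φ' : Y ⟶ X}
    (h : ∀ f : D'.R X ⟶ Y, D'.tr X (f ≫ φ) = D'.tr X (f ≫ φ')) : φ = φ' := by
  apply (flipEquiv (D'.e X Y)).injective
  ext f
  rw [flipEquiv_apply, flipEquiv_apply, e_apply, e_apply, h]

lemma exists_right {X Y : T} (l : Module.Dual k (D'.R X ⟶ Y)) :
    ∃ φ : Y ⟶ X, ∀ f : D'.R X ⟶ Y, D'.tr X (f ≫ φ) = l f := by
  refine ⟨(flipEquiv (D'.e X Y)).symm l, fun f => ?_⟩
  rw [← e_apply, ← flipEquiv_apply]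
  simp

end CorepData

namespace RepData

variable (D : RepData k T) (D' : CorepData k T)

include D' in
lemma essSurj : D.Sfun.EssSurj where
  mem_essImage X := by
    -- `u : S (R X) ⟶ X` with `tr' (f ≫ u) = tr (f)` for `f : R X ⟶ S (R X)`
    obtain ⟨u, hu⟩ := D'.exists_right (X := X) (Y := D.S (D'.R X)) (D.tr (D'.R X))
    -- `v : X ⟶ S (R X)` with `tr (f ≫ v) = tr' f` for `f : R X ⟶ X`
    obtain ⟨v, hv⟩ := D.exists_left (X := D'.R X) (Y := X) (D'.tr X)
    have iso : D.S (D'.R X) ≅ X := by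
      refine ⟨u, v, ?_, ?_⟩
      · apply D.ext_left
        intro φ
        rw [← Category.assoc, hv, hu, Category.comp_id]
      · apply D'.ext_right
        intro f
        rw [← Category.assoc, hu, hv, Category.comp_id]
    exact ⟨D'.R X, ⟨iso⟩⟩

include D' in
lemma isEquivalence : D.Sfun.IsEquivalence :=
  haveI := D.essSurj D'
  { }

end RepData

end Groth.Agent.Lib.T1H4.Serre
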