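import Mathlib

/-!
# Kernel of `Sym((A^(N+1))^∨) → Sym(M^∨)` is generated by the maximal minors (S16254)
-/

namespace Groth.Agent.Lib.T1H4.SymMinors

open MvPolynomial

variable {A : Type*} [CommRing A] {N s : ℕ}

/-- A linearly independent family spanning a submodule with projective quotient admits a
retraction: a matrix `R` with `m * R = 1`. -/
theorem exists_retraction (m : Fin s → (Fin (N + 1) → A)) (hli : LinearIndependent A m)
    (hproj : Module.Projective A ((Fin (N + 1) → A) ⧸ Submodule.span A (Set.range m))) :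
    ∃ R : Fin (N + 1) → Fin s → A, ∀ i k, ∑ j, m i j * R j k = if i = k then 1 else 0 := by
  classical
  set M := Submodule.span A (Set.range m) with hM
  obtain ⟨σ, hσ⟩ := Module.projective_lifting_property M.mkQ LinearMap.id
    (Submodule.mkQ_surjective M)
  let p : (Fin (N + 1) → A) →ₗ[A] (Fin (N + 1) → A) := LinearMap.id - σ ∘ₗ M.mkQ
  have hp : ∀ x, p x ∈ M := by
    intro x
    rw [← Submodule.ker_mkQ M, LinearMap.mem_ker]
    have h1 := LinearMap.congr_fun hσ (M.mkQ x)
    simp only [LinearMap.coe_comp, Function.comp_apply, LinearMap.id_coe, id_eq] at h1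
    simp only [p, LinearMap.sub_apply, LinearMap.id_coe, id_eq, LinearMap.coe_comp,
      Function.comp_apply, map_sub, h1, sub_self]
  let p' : (Fin (N + 1) → A) →ₗ[A] M := p.codRestrict M hp
  let r : (Fin (N + 1) → A) →ₗ[A] (Fin s →₀ A) := hli.repr ∘ₗ p'
  have hr : ∀ i, r (m i) = Finsupp.single i 1 := by
    intro i
    have hmi : m i ∈ M := Submodule.subset_span ⟨i, rfl⟩
    have h0 : M.mkQ (m i) = 0 := by
      rw [← LinearMap.mem_ker, Submodule.ker_mkQ]; exact hmi
    apply hli.repr_eq_single i
    simp only [p', p, LinearMap.codRestrict_apply, LinearMap.sub_apply, LinearMap.id_coe, id_eq,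
      LinearMap.coe_comp, Function.comp_apply, h0, map_zero, sub_zero]
  refine ⟨fun j k => r (Pi.single j 1) k, fun i k => ?_⟩
  have h2 : m i = ∑ j, m i j • (Pi.single j 1 : Fin (N + 1) → A) := by
    ext j'
    simp [Finset.sum_apply, Pi.single_apply]
  have h3 : r (m i) k = ∑ j, m i j * r (Pi.single j 1) k := by
    conv_lhs => rw [h2]
    simp [map_sum, Finsupp.finset_sum_apply]
  rw [← h3, hr i, Finsupp.single_apply]

/-- Multilinear expansion of `det (m * R)` for rectangular matrices (weak Cauchy–Binet). -/
theorem det_mul_rect (m : Fin s → (Fin (N + 1) → A)) (R : Fin (N + 1) → Fin s → A) :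
    (Matrix.of fun i k : Fin s => ∑ j, m i j * R j k).det =
      ∑ c : Fin s → Fin (N + 1), (∏ k, R (c k) k) *
        (Matrix.of fun i k : Fin s => m i (c k)).det := by
  classical
  simp only [Matrix.det_apply', Matrix.of_apply, Finset.prod_univ_sum, Finset.mul_sum,
    Fintype.piFinset_univ]
  rw [Finset.sum_comm]
  refine Finset.sum_congr rfl fun c _ => Finset.sum_congr rfl fun σ _ => ?_
  rw [Finset.prod_mul_distrib]
  ring

end Groth.Agent.Lib.T1H4.SymMinors
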