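import Mathlib
import Groth.Agent.Lib.T1H4SymMinorsA

/-!
# Kernel of `Sym((A^(N+1))^∨) → Sym(M^∨)` is generated by the maximal minors (S16254), part B
-/

namespace Groth.Agent.Lib.T1H4.SymMinors

open MvPolynomial

variable {A : Type*} [CommRing A] {N s : ℕ}

/-- the `(s+1) × (s+1)` minor of the statement -/
noncomputable def minor (m : Fin s → (Fin (N + 1) → A)) (c : Fin (s + 1) → Fin (N + 1)) :
    MvPolynomial (Fin (N + 1)) A :=
  (Matrix.of fun (i : Fin (s + 1)) (j : Fin (s + 1)) =>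
      (Fin.snoc (α := fun _ => MvPolynomial (Fin (N + 1)) A)
        (fun i' : Fin s => MvPolynomial.C (m i' (c j))) (MvPolynomial.X (c j)) i)).det

/-- the restriction map `a_j ↦ Σ_i m_{ij} y_i` -/
noncomputable def phi (m : Fin s → (Fin (N + 1) → A)) :
    MvPolynomial (Fin (N + 1)) A →ₐ[A] MvPolynomial (Fin s) A :=
  MvPolynomial.aeval (R := A) (S₁ := MvPolynomial (Fin s) A)
    (fun j : Fin (N + 1) => ∑ i : Fin s, MvPolynomial.C (m i j) * MvPolynomial.X i)

theorem phi_X (m : Fin s → (Fin (N + 1) → A)) (j : Fin (N + 1)) :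
    phi m (X j) = ∑ i : Fin s, C (m i j) * X i := by
  simp [phi]

theorem phi_C (m : Fin s → (Fin (N + 1) → A)) (a : A) :
    phi m (C a) = C a := by
  simp [phi]

theorem det_eq_zero_of_vecMul_eq_zero {R : Type*} [CommRing R] {n : ℕ}
    (T : Matrix (Fin (n + 1)) (Fin (n + 1)) R) (v : Fin (n + 1) → R)
    (hv : Matrix.vecMul v T = 0) (i : Fin (n + 1)) (hi : IsUnit (v i)) : T.det = 0 := by
  have h1 : Matrix.vecMul (Matrix.vecMul v T) T.adjugate = 0 := by
    rw [hv, Matrix.zero_vecMul]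
  rw [Matrix.vecMul_vecMul, Matrix.mul_adjugate, Matrix.vecMul_smul, Matrix.vecMul_one] at h1
  have h2 := congrFun h1 i
  simp only [Pi.smul_apply, smul_eq_mul, Pi.zero_apply] at h2
  exact (hi.mul_left_eq_zero).1 h2

theorem phi_minor (m : Fin s → (Fin (N + 1) → A)) (c : Fin (s + 1) → Fin (N + 1)) :
    phi m (minor m c) = 0 := by
  unfold minor
  rw [AlgHom.map_det]
  refine det_eq_zero_of_vecMul_eq_zero _
    (Fin.snoc (α := fun _ => MvPolynomial (Fin s) A) (fun i' : Fin s => X i') (-1)) ?_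
    (Fin.last s) ?_
  · funext j
    simp only [Matrix.vecMul, dotProduct, AlgHom.mapMatrix_apply, Matrix.map_apply,
      Matrix.of_apply, Pi.zero_apply]
    rw [Fin.sum_univ_castSucc]
    simp only [Fin.snoc_castSucc, Fin.snoc_last, phi_C, phi_X]
    rw [neg_one_mul, ← sub_eq_add_neg, sub_eq_zero]
    exact Finset.sum_congr rfl fun i _ => mul_comm _ _
  · simp

/-- expansion of the minors on columns `(c, j)` along the last column -/
theorem sum_minor_snoc (m : Fin s → (Fin (N + 1) → A)) (lam : Fin (N + 1) → A)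
    (hlam : ∀ i, ∑ j, lam j * m i j = 0) (c : Fin s → Fin (N + 1)) :
    ∑ j, C (lam j) * minor m (Fin.snoc (α := fun _ => Fin (N + 1)) c j) =
      C ((Matrix.of fun i k : Fin s => m i (c k)).det) * ∑ j, C (lam j) * X j := by
  classical
  set E : Fin (s + 1) → MvPolynomial (Fin (N + 1)) A := fun i =>
    (Matrix.of fun (i₁ : Fin s) (k : Fin s) =>
      Fin.snoc (α := fun _ => MvPolynomial (Fin (N + 1)) A)
        (fun i' => C (m i' (c k))) (X (c k)) (i.succAbove i₁)).det with hE
  have key : ∀ j, minor m (Fin.snoc (α := fun _ => Fin (N + 1)) c j) =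
      ∑ i : Fin (s + 1), (-1) ^ ((i : ℕ) + s) *
        (Fin.snoc (α := fun _ => MvPolynomial (Fin (N + 1)) A)
          (fun i' => C (m i' j)) (X j) i) * E i := by
    intro j
    unfold minor
    rw [Matrix.det_succ_column _ (Fin.last s)]
    refine Finset.sum_congr rfl fun i _ => ?_
    simp only [Fin.val_last, Matrix.of_apply, Fin.snoc_last, Fin.succAbove_last, hE]
    congr 2
    ext i₁ k
    simp only [Matrix.submatrix_apply, Matrix.of_apply, Fin.snoc_castSucc]
  simp only [key, Finset.mul_sum]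
  rw [Finset.sum_comm]
  rw [Fin.sum_univ_castSucc]
  have h1 : ∀ i' : Fin s, ∑ j, C (lam j) *
      ((-1) ^ (((Fin.castSucc i' : Fin (s + 1)) : ℕ) + s) *
        (Fin.snoc (α := fun _ => MvPolynomial (Fin (N + 1)) A)
          (fun i' => C (m i' j)) (X j) (Fin.castSucc i')) * E (Fin.castSucc i')) = 0 := by
    intro i'
    simp only [Fin.snoc_castSucc]
    have : ∀ j, C (lam j) * ((-1) ^ (((Fin.castSucc i' : Fin (s + 1)) : ℕ) + s) *
        C (m i' j) * E (Fin.castSucc i')) =
        ((-1) ^ (((Fin.castSucc i' : Fin (s + 1)) : ℕ) + s) * E (Fin.castSucc i')) *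
          C (lam j * m i' j) := by
      intro j; rw [C_mul]; ring
    simp only [this]
    rw [← Finset.mul_sum, ← map_sum, hlam i', map_zero, mul_zero]
  rw [Finset.sum_eq_zero (fun i' _ => h1 i'), zero_add]
  have h2 : E (Fin.last s) = C ((Matrix.of fun i k : Fin s => m i (c k)).det) := by
    simp only [hE, Fin.succAbove_last, Fin.snoc_castSucc]
    rw [RingHom.map_det]
    congr 1
  have h3 : ((-1 : MvPolynomial (Fin (N + 1)) A)) ^ (((Fin.last s : Fin (s + 1)) : ℕ) + s) = 1 := by
    rw [Fin.val_last]; exact Even.neg_one_pow ⟨s, rfl⟩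
  simp only [Fin.snoc_last, h2, h3, one_mul]
  refine Finset.sum_congr rfl fun j _ => ?_
  ring

end Groth.Agent.Lib.T1H4.SymMinors
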