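import Mathlib
import Groth.Agent.Lib.T1H4SymMinorsB

/-!
# Kernel of `Sym((A^(N+1))^∨) → Sym(M^∨)` is generated by the maximal minors (S16254), part C
-/

namespace Groth.Agent.Lib.T1H4.SymMinors

open MvPolynomial

variable {A : Type*} [CommRing A] {N s : ℕ}

theorem linear_mem (m : Fin s → (Fin (N + 1) → A)) (R : Fin (N + 1) → Fin s → A)
    (hR : ∀ i k, ∑ j, m i j * R j k = if i = k then 1 else 0)
    (lam : Fin (N + 1) → A) (hlam : ∀ i, ∑ j, lam j * m i j = 0) :
    ∑ j, C (lam j) * X j ∈ Ideal.span (Set.range (minor m)) := by
  classical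
  have h1 : (Matrix.of fun i k : Fin s => ∑ j, m i j * R j k).det = 1 := by
    have : (Matrix.of fun i k : Fin s => ∑ j, m i j * R j k) = 1 := by
      ext i k; simp [hR, Matrix.one_apply]
    rw [this, Matrix.det_one]
  rw [det_mul_rect] at h1
  have h2 : ∑ j, C (lam j) * X j = ∑ c : Fin s → Fin (N + 1), C (∏ k, R (c k) k) *
      ∑ j, C (lam j) * minor m (Fin.snoc (α := fun _ => Fin (N + 1)) c j) := by
    simp only [sum_minor_snoc m lam hlam]
    have : ∀ c : Fin s → Fin (N + 1), C (∏ k, R (c k) k) *
        (C ((Matrix.of fun i k : Fin s => m i (c k)).det) * ∑ j, C (lam j) * X j) =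
        C ((∏ k, R (c k) k) * (Matrix.of fun i k : Fin s => m i (c k)).det) *
          ∑ j, C (lam j) * X j := by
      intro c; rw [C_mul]; ring
    simp only [this]
    rw [← Finset.sum_mul, ← map_sum, h1, C_1, one_mul]
  rw [h2]
  exact Ideal.sum_mem _ fun c _ => Ideal.mul_mem_left _ _
    (Ideal.sum_mem _ fun j _ => Ideal.mul_mem_left _ _ (Ideal.subset_span ⟨_, rfl⟩))

theorem ker_phi (m : Fin s → (Fin (N + 1) → A)) (hli : LinearIndependent A m)
    (hproj : Module.Projective A ((Fin (N + 1) → A) ⧸ Submodule.span A (Set.range m))) :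
    RingHom.ker (phi m) = Ideal.span (Set.range (minor m)) := by
  classical
  obtain ⟨R, hR⟩ := exists_retraction m hli hproj
  apply le_antisymm
  · set J := Ideal.span (Set.range (minor m)) with hJ
    let psi : MvPolynomial (Fin s) A →ₐ[A] MvPolynomial (Fin (N + 1)) A :=
      aeval (fun k => ∑ j, C (R j k) * X j)
    have psi_C : ∀ a, psi (C a) = C a := fun a => by simp [psi]
    have psi_X : ∀ k, psi (X k) = ∑ j, C (R j k) * X j := fun k => by simp [psi]
    have hX : ∀ j, X j - psi (phi m (X j)) ∈ J := by
      intro j
      have e1 : psi (phi m (X j)) = ∑ j', C (∑ i, m i j * R j' i) * X j' := by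
        rw [phi_X, map_sum]
        simp only [map_mul, psi_C, psi_X]
        simp only [Finset.mul_sum]
        rw [Finset.sum_comm]
        refine Finset.sum_congr rfl fun j' _ => ?_
        rw [map_sum, Finset.sum_mul]
        refine Finset.sum_congr rfl fun i _ => ?_
        rw [C_mul]; ring
      have e2 : (X j : MvPolynomial (Fin (N + 1)) A) =
          ∑ j', C (if j' = j then (1 : A) else 0) * X j' := by
        rw [Finset.sum_eq_single j (fun b _ hb => by simp [hb])
          (fun h => absurd (Finset.mem_univ j) h)]
        simp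
      have e3 : X j - psi (phi m (X j)) =
          ∑ j', C ((if j' = j then (1 : A) else 0) - ∑ i, m i j * R j' i) * X j' := by
        rw [e1]
        conv_lhs => rw [e2]
        rw [← Finset.sum_sub_distrib]
        refine Finset.sum_congr rfl fun j' _ => ?_
        rw [C_sub]; ring
      rw [e3]
      apply linear_mem m R hR
      intro i'
      simp only [sub_mul, Finset.sum_sub_distrib, ite_mul, one_mul, zero_mul, Finset.sum_ite_eq',
        Finset.mem_univ, if_true]
      rw [sub_eq_zero]
      simp only [Finset.sum_mul]
      rw [Finset.sum_comm]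
      have : ∀ i, ∑ j', m i j * R j' i * m i' j' = m i j * ∑ j', m i' j' * R j' i := by
        intro i; rw [Finset.mul_sum]; exact Finset.sum_congr rfl fun _ _ => by ring
      simp only [this, hR]
      simp
    have hall : ∀ f, f - psi (phi m f) ∈ J := by
      intro f
      induction f using MvPolynomial.induction_on with
      | C a => simp [phi_C, psi_C]
      | add p q hp hq =>
        rw [map_add, map_add]
        have : p + q - (psi (phi m p) + psi (phi m q)) =
            (p - psi (phi m p)) + (q - psi (phi m q)) := by ring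
        rw [this]; exact J.add_mem hp hq
      | mul_X p j hp =>
        rw [map_mul, map_mul]
        have : p * X j - psi (phi m p) * psi (phi m (X j)) =
            (p - psi (phi m p)) * X j + psi (phi m p) * (X j - psi (phi m (X j))) := by ring
        rw [this]; exact J.add_mem (J.mul_mem_right _ hp) (J.mul_mem_left _ (hX j))
    intro f hf
    rw [RingHom.mem_ker] at hf
    have := hall f
    rwa [hf, map_zero, sub_zero] at this
  · rw [Ideal.span_le]
    rintro _ ⟨c, rfl⟩
    exact phi_minor m c

end Groth.Agent.Lib.T1H4.SymMinors
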