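import Mathlib

/-!
# Truncation of distinguished triangles for a t-structure

* `exists_truncGE_triangle`: if `T` is distinguished with `T.obj₃ ≥ 0`, then
  `τ≥0 T.obj₁ ⟶ τ≥0 T.obj₂ ⟶ τ≥0 T.obj₃` extends to a distinguished triangle.
* `exists_truncLE_triangle`: if `T` is distinguished with `T.obj₁ ≤ 0`, then
  `τ≤0 T.obj₁ ⟶ τ≤0 T.obj₂ ⟶ τ≤0 T.obj₃` extends to a distinguished triangle.
-/

set_option autoImplicit false
universe v u

namespace Groth.Agent.Lib.T1H4.TStruct

open CategoryTheory CategoryTheory.Limits CategoryTheory.Pretriangulated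
  CategoryTheory.Triangulated

variable {C : Type u} [Category.{v} C] [Preadditive C] [HasZeroObject C] [HasShift C ℤ]
  [∀ n : ℤ, (shiftFunctor C n).Additive] [Pretriangulated C] [IsTriangulated C]
  (t : TStructure C)

set_option backward.defeqAttrib.useBackward true in
set_option backward.isDefEq.respectTransparency false in
theorem exists_truncGE_triangle (T : Triangle C) (hT : T ∈ distTriang C)
    (h₃ : t.IsGE T.obj₃ 0) :
    ∃ h : (t.truncGE 0).obj T.obj₃ ⟶ ((t.truncGE 0).obj T.obj₁)⟦(1 : ℤ)⟧,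
      Triangle.mk ((t.truncGE 0).map T.mor₁) ((t.truncGE 0).map T.mor₂) h ∈ distTriang C := by
  haveI := h₃
  set φ := (t.truncLE (-1)).map T.mor₁ with hφ
  haveI : IsIso φ :=
    t.isIso₁_truncLE_map_of_isGE T hT (-1) 0 (by lia) h₃
  have hnat : φ ≫ (t.truncLEι (-1)).app T.obj₂ = (t.truncLEι (-1)).app T.obj₁ ≫ T.mor₁ :=
    (t.truncLEι (-1)).naturality T.mor₁
  have hTX := t.triangleLEGE_distinguished (-1) 0 (by lia) T.obj₁
  have hTY := t.triangleLEGE_distinguished (-1) 0 (by lia) T.obj₂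
  -- the triangle `τ≤-1 X ⟶ Y ⟶ τ≥0 Y`
  have hT₁₃ : Triangle.mk ((t.truncLEι (-1)).app T.obj₁ ≫ T.mor₁) ((t.truncGEπ 0).app T.obj₂)
      ((t.truncGEδLE (-1) 0 (by lia)).app T.obj₂ ≫ (inv φ)⟦(1 : ℤ)⟧') ∈ distTriang C := by
    refine isomorphic_distinguished _ hTY _ ?_
    refine Triangle.isoMk _ _ (asIso φ) (Iso.refl _) (Iso.refl _) ?_ ?_ ?_
    · dsimp
      rw [Category.comp_id]
      exact hnat.symm
    · dsimp
      rw [Category.comp_id, Category.id_comp]
    · dsimp
      rw [Category.id_comp, Category.assoc, ← CategoryTheory.Functor.map_comp, IsIso.inv_hom_id,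
        CategoryTheory.Functor.map_id, Category.comp_id]
  have hT' : Triangle.mk T.mor₁ T.mor₂ T.mor₃ ∈ distTriang C := hT
  have oct := Triangulated.someOctahedron (u₁₂ := (t.truncLEι (-1)).app T.obj₁) (u₂₃ := T.mor₁)
    rfl hTX hT' hT₁₃
  have hm₁ : oct.m₁ = (t.truncGE 0).map T.mor₁ := by
    apply t.from_truncGE_obj_ext
    have := oct.comm₁
    dsimp at this
    rw [this]
    exact ((t.truncGEπ 0).naturality T.mor₁)
  have hm₃ : oct.m₃ ≫ (t.truncGEπ 0).app T.obj₃ = (t.truncGE 0).map T.mor₂ := by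
    apply t.from_truncGE_obj_ext
    have := oct.comm₃
    dsimp at this
    rw [← Category.assoc, this]
    exact ((t.truncGEπ 0).naturality T.mor₂)
  refine ⟨inv ((t.truncGEπ 0).app T.obj₃) ≫ T.mor₃ ≫ ((t.truncGEπ 0).app T.obj₁)⟦(1 : ℤ)⟧', ?_⟩
  refine isomorphic_distinguished _ oct.mem _ ?_
  refine Triangle.isoMk _ _ (Iso.refl _) (Iso.refl _) (asIso ((t.truncGEπ 0).app T.obj₃)).symm
    ?_ ?_ ?_
  · dsimp
    rw [Category.comp_id, Category.id_comp, hm₁]
  · dsimp
    rw [Category.id_comp, ← hm₃, Category.assoc, IsIso.hom_inv_id, Category.comp_id]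
  · dsimp
    rw [CategoryTheory.Functor.map_id, Category.comp_id]

set_option backward.defeqAttrib.useBackward true in
set_option backward.isDefEq.respectTransparency false in
theorem exists_truncLE_triangle (T : Triangle C) (hT : T ∈ distTriang C)
    (h₁ : t.IsLE T.obj₁ 0) :
    ∃ h : (t.truncLE 0).obj T.obj₃ ⟶ ((t.truncLE 0).obj T.obj₁)⟦(1 : ℤ)⟧,
      Triangle.mk ((t.truncLE 0).map T.mor₁) ((t.truncLE 0).map T.mor₂) h ∈ distTriang C := by
  haveI := h₁
  set f' := (t.truncLE 0).map T.mor₁ with hf'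
  have hnat : f' ≫ (t.truncLEι 0).app T.obj₂ = (t.truncLEι 0).app T.obj₁ ≫ T.mor₁ :=
    (t.truncLEι 0).naturality T.mor₁
  obtain ⟨Q, v, w, hT₁₂⟩ := distinguished_cocone_triangle f'
  have hTY := t.triangleLEGE_distinguished 0 1 (by lia) T.obj₂
  have hT₁₃ : Triangle.mk (f' ≫ (t.truncLEι 0).app T.obj₂) T.mor₂
      (T.mor₃ ≫ (inv ((t.truncLEι 0).app T.obj₁))⟦(1 : ℤ)⟧') ∈ distTriang C := by
    refine isomorphic_distinguished _ hT _ ?_
    refine Triangle.isoMk _ _ (asIso ((t.truncLEι 0).app T.obj₁)) (Iso.refl _) (Iso.refl _)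
      ?_ ?_ ?_
    · dsimp
      rw [Category.comp_id]
      exact hnat
    · dsimp
      rw [Category.comp_id, Category.id_comp]
    · dsimp
      rw [Category.id_comp, Category.assoc, ← CategoryTheory.Functor.map_comp, IsIso.inv_hom_id,
        CategoryTheory.Functor.map_id, Category.comp_id]
  have oct := Triangulated.someOctahedron (u₁₂ := f') (u₂₃ := (t.truncLEι 0).app T.obj₂)
    rfl hT₁₂ hTY hT₁₃
  -- `Q ≤ 0`
  haveI hQ : t.IsLE Q 0 := by
    have hrot := rot_of_distTriang _ hT₁₂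
    refine t.isLE₂ _ hrot 0 ?_ ?_
    · dsimp; infer_instance
    · dsimp
      haveI : t.IsLE (((t.truncLE 0).obj T.obj₁)⟦(1 : ℤ)⟧) (-1) := t.isLE_shift _ 0 1 (-1) (by lia)
      exact t.isLE_of_le _ (-1) 0 (by lia)
  set θ := t.liftTruncLE oct.m₁ 0 with hθ
  have hθι : θ ≫ (t.truncLEι 0).app T.obj₃ = oct.m₁ := t.liftTruncLE_ι oct.m₁ 0
  have hvθ : v ≫ θ = (t.truncLE 0).map T.mor₂ := by
    apply t.to_truncLE_obj_ext
    rw [Category.assoc, hθι]
    have := oct.comm₁
    dsimp at this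
    rw [this]
    exact ((t.truncLEι 0).naturality T.mor₂).symm
  haveI hiso : IsIso ((t.truncLE 0).map oct.m₁) := by
    rw [t.isIso_truncLE_map_iff oct.m₁ 0 1 (by lia)]
    refine ⟨_, oct.m₃, ((t.truncGEδLE 0 1 (by lia)).app T.obj₂ ≫ v⟦(1 : ℤ)⟧') ≫
      (inv ((t.truncLEι 0).app Q))⟦(1 : ℤ)⟧', ?_, ?_⟩
    · refine isomorphic_distinguished _ oct.mem _ ?_
      refine Triangle.isoMk _ _ (asIso ((t.truncLEι 0).app Q)) (Iso.refl _) (Iso.refl _)
        ?_ ?_ ?_
      · dsimp
        rw [Category.comp_id]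
      · dsimp
        rw [Category.comp_id, Category.id_comp]
      · dsimp
        rw [Category.id_comp, Category.assoc, Category.assoc, ← CategoryTheory.Functor.map_comp,
          IsIso.inv_hom_id, CategoryTheory.Functor.map_id, Category.comp_id]
    · infer_instance
  have hθ' : θ = inv ((t.truncLEι 0).app Q) ≫ (t.truncLE 0).map oct.m₁ := by
    rw [← cancel_epi ((t.truncLEι 0).app Q), IsIso.hom_inv_id_assoc]
    apply t.to_truncLE_obj_ext
    rw [Category.assoc, hθι]
    exact ((t.truncLEι 0).naturality oct.m₁).symm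
  haveI : IsIso θ := by rw [hθ']; infer_instance
  refine ⟨inv θ ≫ w, ?_⟩
  refine isomorphic_distinguished _ hT₁₂ _ ?_
  refine Triangle.isoMk _ _ (Iso.refl _) (Iso.refl _) (asIso θ).symm ?_ ?_ ?_
  · dsimp
    rw [Category.comp_id, Category.id_comp]
  · dsimp
    rw [Category.id_comp, ← hvθ, Category.assoc, IsIso.hom_inv_id, Category.comp_id]
  · dsimp
    rw [CategoryTheory.Functor.map_id, Category.comp_id]

end Groth.Agent.Lib.T1H4.TStruct
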