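import Mathlib
import Groth.Agent.Lib.T1H4TStructA

/-!
# The degree zero cohomology functor of a t-structure is homological
-/

set_option autoImplicit false
universe v u v' u'

namespace Groth.Agent.Lib.T1H4.TStruct

open CategoryTheory CategoryTheory.Limits CategoryTheory.Pretriangulated
  CategoryTheory.Triangulated

variable {C : Type u} [Category.{v} C] [Preadditive C] [HasZeroObject C] [HasShift C ℤ]
  [∀ n : ℤ, (shiftFunctor C n).Additive] [Pretriangulated C] [IsTriangulated C]
  (t : TStructure C) {H : Type u'} [Category.{v'} H] [Abelian H] [t.Heart H]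
  (H0 : C ⥤ H) (e : H0 ⋙ t.ιHeart ≅ t.truncGE 0 ⋙ t.truncLE 0)

/-- the comparison map `ι (H⁰ X) ⟶ τ≥0 X` -/
noncomputable def α (X : C) : t.ιHeart.obj (H0.obj X) ⟶ (t.truncGE 0).obj X :=
  e.hom.app X ≫ (t.truncLEι 0).app ((t.truncGE 0).obj X)

include e in
lemma map_zero' {X Y : C} : H0.map (0 : X ⟶ Y) = 0 := by
  apply (t.ιHeart (H := H)).map_injective
  have h := e.hom.naturality (0 : X ⟶ Y)
  rw [Functor.comp_map, Functor.comp_map, (t.truncGE 0).map_zero, (t.truncLE 0).map_zero,
    comp_zero] at h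
  rw [(t.ιHeart (H := H)).map_zero, ← cancel_mono (e.hom.app Y), h, zero_comp]

omit [IsTriangulated C] in
lemma α_naturality {X Y : C} (f : X ⟶ Y) :
    t.ιHeart.map (H0.map f) ≫ α t H0 e Y = α t H0 e X ≫ (t.truncGE 0).map f := by
  have h := e.hom.naturality f
  have h' := (t.truncLEι 0).naturality ((t.truncGE 0).map f)
  dsimp at h h'
  unfold α
  rw [← Category.assoc, h, Category.assoc, Category.assoc, h']

omit [IsTriangulated C] in
lemma α_injective {X : C} {U : H} (l : U ⟶ H0.obj X)
    (hl : t.ιHeart.map l ≫ α t H0 e X = 0) : l = 0 := by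
  apply (t.ιHeart (H := H)).map_injective
  rw [Functor.map_zero, ← cancel_mono (e.hom.app X), zero_comp]
  apply t.to_truncLE_obj_ext
  rw [Category.assoc, zero_comp]
  exact hl

/-- the comparison map `τ≤0 X ⟶ ι (H⁰ X)` -/
noncomputable def β (X : C) : (t.truncLE 0).obj X ⟶ t.ιHeart.obj (H0.obj X) :=
  (t.truncGEπ 0).app ((t.truncLE 0).obj X) ≫ (t.truncGELEIsoLEGE 0 0).hom.app X ≫ e.inv.app X

lemma β_naturality {X Y : C} (f : X ⟶ Y) :
    (t.truncLE 0).map f ≫ β t H0 e Y = β t H0 e X ≫ t.ιHeart.map (H0.map f) := by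
  have h := e.inv.naturality f
  have h' := (t.truncGEπ 0).naturality ((t.truncLE 0).map f)
  have h'' := (t.truncGELEIsoLEGE 0 0).hom.naturality f
  dsimp at h h' h''
  unfold β
  rw [← Category.assoc, h', Category.assoc, Category.assoc, Category.assoc, ← h,
    ← Category.assoc ((t.truncGE 0).map ((t.truncLE 0).map f)), h'', Category.assoc]

lemma β_injective {X : C} {U : H} (k : H0.obj X ⟶ U)
    (hk : β t H0 e X ≫ t.ιHeart.map k = 0) : k = 0 := by
  apply (t.ιHeart (H := H)).map_injective
  rw [Functor.map_zero, ← cancel_epi (e.inv.app X), comp_zero,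
    ← cancel_epi ((t.truncGELEIsoLEGE 0 0).hom.app X), comp_zero]
  apply t.from_truncGE_obj_ext
  rw [comp_zero]
  unfold β at hk
  rw [Category.assoc, Category.assoc] at hk
  exact hk

lemma β_surjective {X : C} {U : H} (y : (t.truncLE 0).obj X ⟶ t.ιHeart.obj U) :
    ∃ k : H0.obj X ⟶ U, β t H0 e X ≫ t.ιHeart.map k = y := by
  refine ⟨(t.ιHeart (H := H)).preimage
    (e.hom.app X ≫ (t.truncGELEIsoLEGE 0 0).inv.app X ≫ t.descTruncGE y 0), ?_⟩
  rw [Functor.map_preimage]
  unfold β
  simp only [Category.assoc, Iso.inv_hom_id_app_assoc, Iso.hom_inv_id_app_assoc]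
  exact t.π_descTruncGE y 0

set_option backward.defeqAttrib.useBackward true in
set_option backward.isDefEq.respectTransparency false in
include e in
/-- if the third term of a distinguished triangle is `≥ 0`, `H⁰` of the first map is mono -/
theorem mono_map_of_isGE (T : Triangle C) (hT : T ∈ distTriang C) (h₃ : t.IsGE T.obj₃ 0) :
    Mono (H0.map T.mor₁) := by
  obtain ⟨h, hT'⟩ := exists_truncGE_triangle t T hT h₃
  refine Preadditive.mono_of_cancel_zero _ (fun {U} l hl => ?_)
  apply α_injective t H0 e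
  have h1 : (t.ιHeart.map l ≫ α t H0 e T.obj₁) ≫ (t.truncGE 0).map T.mor₁ = 0 := by
    rw [Category.assoc, ← α_naturality, ← Category.assoc, ← Functor.map_comp, hl,
      Functor.map_zero, zero_comp]
  obtain ⟨g, hg⟩ := Triangle.coyoneda_exact₂ _ (inv_rot_of_distTriang _ hT') _ h1
  have hg' : g = 0 := t.zero_of_isLE_of_isGE g 0 1 (by lia) inferInstance
    (by dsimp; exact t.isGE_shift _ 0 (-1) 1 (by lia))
  rw [hg, hg', zero_comp]

set_option backward.defeqAttrib.useBackward true in
set_option backward.isDefEq.respectTransparency false in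
include e in
/-- if the first term of a distinguished triangle is `≤ 0`, `H⁰` of the triangle is exact -/
theorem exact_of_isLE (T : Triangle C) (hT : T ∈ distTriang C) (h₁ : t.IsLE T.obj₁ 0)
    (w : H0.map T.mor₁ ≫ H0.map T.mor₂ = 0) :
    (ShortComplex.mk (H0.map T.mor₁) (H0.map T.mor₂) w).Exact := by
  obtain ⟨h, hT'⟩ := exists_truncLE_triangle t T hT h₁
  have hepi : Epi (H0.map T.mor₂) := by
    refine Preadditive.epi_of_cancel_zero _ (fun {U} k hk => ?_)
    apply β_injective t H0 e
    have h1 : (t.truncLE 0).map T.mor₂ ≫ (β t H0 e T.obj₃ ≫ t.ιHeart.map k) = 0 := by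
      rw [← Category.assoc, β_naturality, Category.assoc, ← Functor.map_comp, hk,
        Functor.map_zero, comp_zero]
    obtain ⟨g, hg⟩ := Triangle.yoneda_exact₃ _ hT' _ h1
    haveI : t.IsLE (((t.truncLE 0).obj T.obj₁)⟦(1 : ℤ)⟧) (-1) := t.isLE_shift _ 0 1 (-1) (by lia)
    have hg' : g = 0 := t.zero_of_isLE_of_isGE g (-1) 0 (by lia) (by dsimp; infer_instance)
      inferInstance
    rw [hg, hg', comp_zero]
  apply ShortComplex.exact_of_g_is_cokernel
  refine CokernelCofork.IsColimit.ofπ _ _
    (fun {U} k hk => ?_) (fun {U} k hk => ?_) (fun {U} k hk m hm => ?_)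
  · -- desc
    have h1 : (t.truncLE 0).map T.mor₁ ≫ (β t H0 e T.obj₂ ≫ t.ιHeart.map k) = 0 := by
      rw [← Category.assoc, β_naturality, Category.assoc, ← Functor.map_comp, hk,
        Functor.map_zero, comp_zero]
    exact (β_surjective t H0 e (Triangle.yoneda_exact₂ _ hT' _ h1).choose).choose
  · -- fac
    have h1 : (t.truncLE 0).map T.mor₁ ≫ (β t H0 e T.obj₂ ≫ t.ιHeart.map k) = 0 := by
      rw [← Category.assoc, β_naturality, Category.assoc, ← Functor.map_comp, hk,
        Functor.map_zero, comp_zero]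
    have hz := (Triangle.yoneda_exact₂ _ hT' _ h1).choose_spec
    have hk' := (β_surjective t H0 e (Triangle.yoneda_exact₂ _ hT' _ h1).choose).choose_spec
    dsimp at hz
    rw [← sub_eq_zero]
    apply β_injective t H0 e
    rw [Functor.map_sub, Preadditive.comp_sub, sub_eq_zero, Functor.map_comp,
      ← Category.assoc, ← β_naturality, Category.assoc, hk', ← hz]
  · -- uniq
    rw [← cancel_epi (H0.map T.mor₂), hm]
    have h1 : (t.truncLE 0).map T.mor₁ ≫ (β t H0 e T.obj₂ ≫ t.ιHeart.map k) = 0 := by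
      rw [← Category.assoc, β_naturality, Category.assoc, ← Functor.map_comp, hk,
        Functor.map_zero, comp_zero]
    have hz := (Triangle.yoneda_exact₂ _ hT' _ h1).choose_spec
    have hk' := (β_surjective t H0 e (Triangle.yoneda_exact₂ _ hT' _ h1).choose).choose_spec
    dsimp at hz
    symm
    rw [← sub_eq_zero]
    apply β_injective t H0 e
    rw [Functor.map_sub, Preadditive.comp_sub, sub_eq_zero, Functor.map_comp,
      ← Category.assoc, ← β_naturality, Category.assoc, hk', ← hz]

end Groth.Agent.Lib.T1H4.TStruct
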