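import Mathlib
import Groth.Agent.Lib.T1H4TStructB

/-!
# The degree zero cohomology functor of a t-structure is homological: conclusion
-/

set_option autoImplicit false
universe v u v' u'

namespace Groth.Agent.Lib.T1H4.TStruct

open CategoryTheory CategoryTheory.Limits CategoryTheory.Pretriangulated
  CategoryTheory.Triangulated

variable {C : Type u} [Category.{v} C] [Preadditive C] [HasZeroObject C] [HasShift C ℤ]
  [∀ n : ℤ, (shiftFunctor C n).Additive] [Pretriangulated C] [IsTriangulated C]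
  (t : TStructure C) {H : Type u'} [Category.{v'} H] [Abelian H] [t.Heart H]
  (H0 : C ⥤ H) (e : H0 ⋙ t.ιHeart ≅ t.truncGE 0 ⋙ t.truncLE 0)

set_option backward.defeqAttrib.useBackward true in
set_option backward.isDefEq.respectTransparency false in
include e in
theorem isHomological : H0.IsHomological := by
  haveI : H0.PreservesZeroMorphisms := ⟨fun X Y => map_zero' t H0 e⟩
  refine { exact := fun T hT => ?_ }
  obtain ⟨W, v, w, hT₁₃⟩ := distinguished_cocone_triangle ((t.truncLEι 0).app T.obj₁ ≫ T.mor₁)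
  have hTX := t.triangleLEGE_distinguished 0 1 (by lia) T.obj₁
  have hT' : Triangle.mk T.mor₁ T.mor₂ T.mor₃ ∈ distTriang C := hT
  have oct := Triangulated.someOctahedron (u₁₂ := (t.truncLEι 0).app T.obj₁) (u₂₃ := T.mor₁)
    rfl hTX hT' hT₁₃
  have hw1 : H0.map ((t.truncLEι 0).app T.obj₁ ≫ T.mor₁) ≫ H0.map v = 0 := by
    have := comp_distTriang_mor_zero₁₂ _ hT₁₃
    dsimp at this
    rw [← H0.map_comp, this, map_zero' t H0 e]
  have hex := exact_of_isLE t H0 e _ hT₁₃ (by dsimp; infer_instance) hw1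
  have hmono : Mono (H0.map oct.m₃) :=
    mono_map_of_isGE t H0 e _ (rot_of_distTriang _ oct.mem)
      (by dsimp; exact t.isGE_shift _ 1 1 0 (by lia))
  rw [ShortComplex.exact_iff_exact_up_to_refinements]
  intro A x₂ hx₂
  dsimp at x₂ hx₂ ⊢
  have hc := oct.comm₃
  dsimp at hc
  have h1 : x₂ ≫ H0.map v = 0 := by
    rw [← cancel_mono (H0.map oct.m₃), Category.assoc, ← H0.map_comp, hc, zero_comp]
    exact hx₂
  obtain ⟨A', π, hπ, x₁, hx₁⟩ := hex.exact_up_to_refinements x₂ h1
  dsimp at x₁ hx₁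
  refine ⟨A', π, hπ, x₁ ≫ H0.map ((t.truncLEι 0).app T.obj₁), ?_⟩
  rw [hx₁, Category.assoc, ← H0.map_comp]

end Groth.Agent.Lib.T1H4.TStruct
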