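import Mathlib

/-!
# Codimension of forms tangent at two points (S4024), part A: directional derivatives
-/

namespace Groth.Agent.Lib.T1H4.TangForms

open MvPolynomial

variable {k : Type*} [Field k] {r : ℕ}

/-- directional derivative at `v` in the direction `w` -/
noncomputable def D (v w : Fin (r + 1) → k) : MvPolynomial (Fin (r + 1)) k →ₗ[k] k :=
  ∑ i : Fin (r + 1), (w i) • ((MvPolynomial.aeval v).toLinearMap ∘ₗ
    (MvPolynomial.pderiv i).toLinearMap)

theorem D_apply (v w : Fin (r + 1) → k) (G : MvPolynomial (Fin (r + 1)) k) :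
    D v w G = ∑ i, w i * aeval v (pderiv i G) := by
  simp [D, LinearMap.sum_apply]

theorem D_mul (v w : Fin (r + 1) → k) (P Q : MvPolynomial (Fin (r + 1)) k) :
    D v w (P * Q) = D v w P * aeval v Q + aeval v P * D v w Q := by
  simp only [D_apply, Derivation.leibniz, map_add, smul_eq_mul, map_mul, Finset.sum_mul,
    Finset.mul_sum, ← Finset.sum_add_distrib]
  refine Finset.sum_congr rfl fun i _ => ?_
  ring

theorem D_one (v w : Fin (r + 1) → k) : D v w (1 : MvPolynomial (Fin (r + 1)) k) = 0 := by
  simp [D_apply]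

theorem D_C (v w : Fin (r + 1) → k) (c : k) : D v w (C c : MvPolynomial (Fin (r + 1)) k) = 0 := by
  simp [D_apply]

theorem D_X (v w : Fin (r + 1) → k) (j : Fin (r + 1)) :
    D v w (X j : MvPolynomial (Fin (r + 1)) k) = w j := by
  classical
  simp [D_apply, pderiv_X, Pi.single_apply, Finset.sum_ite_eq]

theorem D_pow (v w : Fin (r + 1) → k) (P : MvPolynomial (Fin (r + 1)) k) (m : ℕ) :
    D v w (P ^ (m + 1)) = ((m : k) + 1) * (aeval v P) ^ m * D v w P := by
  induction m with
  | zero => simp
  | succ m ih =>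
    rw [pow_succ, D_mul, ih, map_pow]
    push_cast
    ring

/-- a linear form as a polynomial -/
noncomputable def lin (L : Module.Dual k (Fin (r + 1) → k)) : MvPolynomial (Fin (r + 1)) k :=
  ∑ i, C (L (Pi.single i 1)) * X i

theorem aeval_lin (v : Fin (r + 1) → k) (L : Module.Dual k (Fin (r + 1) → k)) :
    aeval v (lin L) = L v := by
  have hv : v = ∑ i, v i • (Pi.single i 1 : Fin (r + 1) → k) := by
    ext j
    simp [Finset.sum_apply, Pi.single_apply]
  conv_rhs => rw [hv]
  simp only [lin, map_sum, map_mul, aeval_C, aeval_X, map_smul, smul_eq_mul]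
  refine Finset.sum_congr rfl fun i _ => ?_
  simp [mul_comm]

theorem D_lin (v w : Fin (r + 1) → k) (L : Module.Dual k (Fin (r + 1) → k)) :
    D v w (lin L) = L w := by
  rw [← aeval_lin w L]
  simp only [lin, map_sum, D_mul, D_C, D_X, aeval_C, map_mul, aeval_X, zero_mul, zero_add]

theorem lin_isHomogeneous (L : Module.Dual k (Fin (r + 1) → k)) : (lin L).IsHomogeneous 1 := by
  apply IsHomogeneous.sum
  intro i _
  have := (isHomogeneous_C (Fin (r + 1)) (L (Pi.single i 1))).mul (isHomogeneous_X k i)
  simpa using this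

theorem lin_add (L L' : Module.Dual k (Fin (r + 1) → k)) : lin (L + L') = lin L + lin L' := by
  simp [lin, add_mul, Finset.sum_add_distrib]

theorem lin_smul (c : k) (L : Module.Dual k (Fin (r + 1) → k)) : lin (c • L) = C c * lin L := by
  simp [lin, Finset.mul_sum, mul_assoc]

/-- Euler's identity, evaluated -/
theorem D_self_of_isHomogeneous {G : MvPolynomial (Fin (r + 1)) k} {d : ℕ}
    (h : G.IsHomogeneous d) (v : Fin (r + 1) → k) : D v v G = (d : k) * aeval v G := by
  have := congrArg (aeval v) h.sum_X_mul_pderiv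
  simp only [map_sum, map_mul, aeval_X, nsmul_eq_mul, map_natCast] at this
  rw [D_apply]
  exact this

/-- symmetry of the polar form of a quadratic form -/
theorem D_symm_of_isHomogeneous_two {G : MvPolynomial (Fin (r + 1)) k}
    (h : G.IsHomogeneous 2) (v w : Fin (r + 1) → k) : D v w G = D w v G := by
  rw [← mem_homogeneousSubmodule, ← homogeneousSubmodule_one_pow, pow_two,
    homogeneousSubmodule_one_eq_span_X, Submodule.span_mul_span] at h
  refine Submodule.span_induction ?_ ?_ ?_ ?_ h
  · rintro _ ⟨_, ⟨i, rfl⟩, _, ⟨j, rfl⟩, rfl⟩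
    simp only [D_mul, D_X, aeval_X]
    ring
  · simp
  · intro p q _ _ hp hq
    rw [map_add, map_add, hp, hq]
  · intro c p _ hp
    rw [map_smul, map_smul, hp]

end Groth.Agent.Lib.T1H4.TangForms
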