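import Mathlib
import Groth.Agent.Lib.T1H4TangFormsA

/-!
# Codimension of forms tangent at two points (S4024), part B: forms with prescribed 1-jets
-/

namespace Groth.Agent.Lib.T1H4.TangForms

open MvPolynomial

variable {k : Type*} [Field k] {r : ℕ}

theorem exists_dual_pair {v₁ v₂ : Fin (r + 1) → k} (hv : LinearIndependent k ![v₁, v₂]) :
    ∃ x y : Module.Dual k (Fin (r + 1) → k), x v₁ = 1 ∧ x v₂ = 0 ∧ y v₁ = 0 ∧ y v₂ = 1 := by
  have hmem : ∀ i, ![v₁, v₂] i ∈ Submodule.span k (Set.range ![v₁, v₂]) :=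
    fun i => Submodule.subset_span ⟨i, rfl⟩
  obtain ⟨x, hx⟩ := LinearMap.exists_extend ((Finsupp.lapply (0 : Fin 2)) ∘ₗ hv.repr)
  obtain ⟨y, hy⟩ := LinearMap.exists_extend ((Finsupp.lapply (1 : Fin 2)) ∘ₗ hv.repr)
  have hxv : ∀ i, x (![v₁, v₂] i) = (Finsupp.single i (1 : k)) 0 := by
    intro i
    have := LinearMap.congr_fun hx ⟨_, hmem i⟩
    simp only [LinearMap.coe_comp, Submodule.coe_subtype, Function.comp_apply,
      Finsupp.lapply_apply] at this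
    rw [this, hv.repr_eq_single i ⟨_, hmem i⟩ rfl]
  have hyv : ∀ i, y (![v₁, v₂] i) = (Finsupp.single i (1 : k)) 1 := by
    intro i
    have := LinearMap.congr_fun hy ⟨_, hmem i⟩
    simp only [LinearMap.coe_comp, Submodule.coe_subtype, Function.comp_apply,
      Finsupp.lapply_apply] at this
    rw [this, hv.repr_eq_single i ⟨_, hmem i⟩ rfl]
  refine ⟨x, y, ?_, ?_, ?_, ?_⟩
  · simpa using hxv 0
  · simpa using hxv 1
  · simpa using hyv 0
  · simpa using hyv 1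

theorem exists_form_ge_three {v₁ v₂ : Fin (r + 1) → k}
    {x y : Module.Dual k (Fin (r + 1) → k)} (hx1 : x v₁ = 1) (hx2 : x v₂ = 0) (hy1 : y v₁ = 0)
    (hy2 : y v₂ = 1) (m : ℕ) (a₁ a₂ : k) (L₁ L₂ : Module.Dual k (Fin (r + 1) → k))
    (h₁ : L₁ v₁ = ((m + 3 : ℕ) : k) * a₁) (h₂ : L₂ v₂ = ((m + 3 : ℕ) : k) * a₂) :
    ∃ G : MvPolynomial (Fin (r + 1)) k, G.IsHomogeneous (m + 3) ∧
      aeval v₁ G = a₁ ∧ (∀ w, D v₁ w G = L₁ w) ∧ aeval v₂ G = a₂ ∧ (∀ w, D v₂ w G = L₂ w) := by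
  set M₁ : Module.Dual k (Fin (r + 1) → k) := L₁ - (((m : k) + 2) * a₁) • x with hM₁
  set M₂ : Module.Dual k (Fin (r + 1) → k) := L₂ - (((m : k) + 2) * a₂) • y with hM₂
  refine ⟨lin x ^ (m + 2) * lin M₁ + lin y ^ (m + 2) * lin M₂, ?_, ?_, ?_, ?_, ?_⟩
  · apply IsHomogeneous.add
    · have := ((lin_isHomogeneous x).pow (m + 2)).mul (lin_isHomogeneous M₁)
      simpa [one_mul] using this
    · have := ((lin_isHomogeneous y).pow (m + 2)).mul (lin_isHomogeneous M₂)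
      simpa [one_mul] using this
  · simp only [map_add, map_mul, map_pow, aeval_lin, hx1, hy1, hM₁, LinearMap.sub_apply,
      LinearMap.smul_apply, h₁, smul_eq_mul]
    push_cast
    ring
  · intro w
    have e : (m + 2 : ℕ) = (m + 1) + 1 := rfl
    simp only [map_add, D_mul, e, D_pow, map_pow, aeval_lin, D_lin, hx1, hy1, hM₁,
      LinearMap.sub_apply, LinearMap.smul_apply, h₁, smul_eq_mul]
    push_cast
    ring
  · simp only [map_add, map_mul, map_pow, aeval_lin, hx2, hy2, hM₂, LinearMap.sub_apply,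
      LinearMap.smul_apply, h₂, smul_eq_mul]
    push_cast
    ring
  · intro w
    have e : (m + 2 : ℕ) = (m + 1) + 1 := rfl
    simp only [map_add, D_mul, e, D_pow, map_pow, aeval_lin, D_lin, hx2, hy2, hM₂,
      LinearMap.sub_apply, LinearMap.smul_apply, h₂, smul_eq_mul]
    push_cast
    ring

theorem exists_form_two {v₁ v₂ : Fin (r + 1) → k}
    {x y : Module.Dual k (Fin (r + 1) → k)} (hx1 : x v₁ = 1) (hx2 : x v₂ = 0) (hy1 : y v₁ = 0)
    (hy2 : y v₂ = 1) (a₁ a₂ : k) (L₁ L₂ : Module.Dual k (Fin (r + 1) → k))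
    (h₁ : L₁ v₁ = 2 * a₁) (h₂ : L₂ v₂ = 2 * a₂) (h₃ : L₁ v₂ = L₂ v₁) :
    ∃ G : MvPolynomial (Fin (r + 1)) k, G.IsHomogeneous 2 ∧
      aeval v₁ G = a₁ ∧ (∀ w, D v₁ w G = L₁ w) ∧ aeval v₂ G = a₂ ∧ (∀ w, D v₂ w G = L₂ w) := by
  set M₁ : Module.Dual k (Fin (r + 1) → k) := L₁ - a₁ • x with hM₁
  set M₂ : Module.Dual k (Fin (r + 1) → k) := L₂ - a₂ • y - (L₁ v₂) • x with hM₂
  refine ⟨lin x * lin M₁ + lin y * lin M₂, ?_, ?_, ?_, ?_, ?_⟩
  · apply IsHomogeneous.add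
    · exact (lin_isHomogeneous x).mul (lin_isHomogeneous M₁)
    · exact (lin_isHomogeneous y).mul (lin_isHomogeneous M₂)
  · simp only [map_add, map_mul, aeval_lin, hx1, hy1, hM₁, LinearMap.sub_apply,
      LinearMap.smul_apply, h₁, smul_eq_mul]
    ring
  · intro w
    simp only [map_add, D_mul, aeval_lin, D_lin, hx1, hy1, hM₁, hM₂, LinearMap.sub_apply,
      LinearMap.smul_apply, h₁, smul_eq_mul, h₃]
    ring
  · simp only [map_add, map_mul, aeval_lin, hx2, hy2, hM₂, LinearMap.sub_apply,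
      LinearMap.smul_apply, h₂, smul_eq_mul]
    ring
  · intro w
    simp only [map_add, D_mul, aeval_lin, D_lin, hx2, hy2, hM₁, hM₂, LinearMap.sub_apply,
      LinearMap.smul_apply, h₂, smul_eq_mul]
    ring

end Groth.Agent.Lib.T1H4.TangForms
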