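import Mathlib
import Groth.Agent.Lib.T1H4TangFormsB

/-!
# Codimension of forms tangent at two points (S4024), part C: the count
-/

namespace Groth.Agent.Lib.T1H4.TangForms

open MvPolynomial Module

variable {k : Type*} [Field k] {r : ℕ}

/-- the differential at `v` as a linear form -/
noncomputable def DL (v : Fin (r + 1) → k) :
    MvPolynomial (Fin (r + 1)) k →ₗ[k] Module.Dual k (Fin (r + 1) → k) :=
  ∑ i : Fin (r + 1), ((MvPolynomial.aeval v).toLinearMap ∘ₗ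
    (MvPolynomial.pderiv i).toLinearMap).smulRight
      (LinearMap.proj i : (Fin (r + 1) → k) →ₗ[k] k)

theorem DL_apply (v : Fin (r + 1) → k) (G : MvPolynomial (Fin (r + 1)) k)
    (w : Fin (r + 1) → k) : DL v G w = D v w G := by
  simp [DL, D_apply, LinearMap.sum_apply, mul_comm]

/-- the 1-jet at `v` restricted to `W` -/
noncomputable def jetW (d : ℕ) (W : Submodule k (Fin (r + 1) → k)) (v : Fin (r + 1) → k) :
    ↥(homogeneousSubmodule (Fin (r + 1)) k d) →ₗ[k] k × Module.Dual k W :=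
  LinearMap.prod
    ((MvPolynomial.aeval v).toLinearMap ∘ₗ (homogeneousSubmodule (Fin (r + 1)) k d).subtype)
    (W.subtype.dualMap ∘ₗ DL v ∘ₗ (homogeneousSubmodule (Fin (r + 1)) k d).subtype)

theorem jetW_fst (d : ℕ) (W : Submodule k (Fin (r + 1) → k)) (v : Fin (r + 1) → k)
    (G : ↥(homogeneousSubmodule (Fin (r + 1)) k d)) : (jetW d W v G).1 = aeval v G.1 := rfl

theorem jetW_snd (d : ℕ) (W : Submodule k (Fin (r + 1) → k)) (v : Fin (r + 1) → k)
    (G : ↥(homogeneousSubmodule (Fin (r + 1)) k d)) (w : W) :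
    (jetW d W v G).2 w = D v w.1 G.1 := by
  simp [jetW, LinearMap.dualMap_apply, DL_apply]

theorem exists_extend_with_value (W : Submodule k (Fin (r + 1) → k)) (ℓ : Module.Dual k W)
    {u : Fin (r + 1) → k} (hu : u ∉ W) (t : k) :
    ∃ L : Module.Dual k (Fin (r + 1) → k), L.comp W.subtype = ℓ ∧ L u = t := by
  obtain ⟨L0, hL0⟩ := LinearMap.exists_extend ℓ
  obtain ⟨z, hz, hzW⟩ := Submodule.exists_dual_map_eq_bot_of_notMem hu inferInstance
  have hzW' : ∀ w ∈ W, z w = 0 := by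
    intro w hw
    have : z w ∈ W.map z := ⟨w, hw, rfl⟩
    rw [hzW] at this
    simpa using this
  refine ⟨L0 + ((t - L0 u) / z u) • z, ?_, ?_⟩
  · ext w
    have := LinearMap.congr_fun hL0 w
    simp only [LinearMap.coe_comp, Submodule.coe_subtype, Function.comp_apply] at this
    simp [this, hzW' w.1 w.2]
  · simp only [LinearMap.add_apply, LinearMap.smul_apply, smul_eq_mul]
    field_simp
    ring

section count

variable (d : ℕ) (W₁ W₂ : Submodule k (Fin (r + 1) → k)) (v₁ v₂ : Fin (r + 1) → k)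

/-- the combined jet map -/
noncomputable def jet2 :
    ↥(homogeneousSubmodule (Fin (r + 1)) k d) →ₗ[k]
      (k × Module.Dual k W₁) × (k × Module.Dual k W₂) :=
  (jetW d W₁ v₁).prod (jetW d W₂ v₂)

variable {W₁ W₂ v₁ v₂}

/-- the Euler relations -/
noncomputable def rhoA (h₁ : v₁ ∈ W₁) (h₂ : v₂ ∈ W₂) :
    ((k × Module.Dual k W₁) × (k × Module.Dual k W₂)) →ₗ[k] k × k where
  toFun z := (z.1.2 ⟨v₁, h₁⟩ - (d : k) * z.1.1, z.2.2 ⟨v₂, h₂⟩ - (d : k) * z.2.1)
  map_add' z z' := by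
    ext <;> simp <;> ring
  map_smul' c z := by
    ext <;> simp <;> ring

/-- the Euler relations and the symmetry relation -/
noncomputable def rhoB (h₁ : v₁ ∈ W₁) (h₂ : v₂ ∈ W₂) (h₁₂ : v₂ ∈ W₁) (h₂₁ : v₁ ∈ W₂) :
    ((k × Module.Dual k W₁) × (k × Module.Dual k W₂)) →ₗ[k] k × k × k where
  toFun z := (z.1.2 ⟨v₁, h₁⟩ - (d : k) * z.1.1, z.2.2 ⟨v₂, h₂⟩ - (d : k) * z.2.1,
    z.1.2 ⟨v₂, h₁₂⟩ - z.2.2 ⟨v₁, h₂₁⟩)
  map_add' z z' := by
    ext <;> simp <;> ring
  map_smul' c z := by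
    ext <;> simp <;> ring

theorem rhoA_surjective (hv : LinearIndependent k ![v₁, v₂]) (h₁ : v₁ ∈ W₁) (h₂ : v₂ ∈ W₂) :
    Function.Surjective (rhoA d h₁ h₂) := by
  obtain ⟨x, y, hx1, hx2, hy1, hy2⟩ := exists_dual_pair hv
  rintro ⟨s, t⟩
  refine ⟨((0, s • x.comp W₁.subtype), (0, t • y.comp W₂.subtype)), ?_⟩
  simp [rhoA, hx1, hy2]

theorem rhoB_surjective (hv : LinearIndependent k ![v₁, v₂]) (h₁ : v₁ ∈ W₁) (h₂ : v₂ ∈ W₂)
    (h₁₂ : v₂ ∈ W₁) (h₂₁ : v₁ ∈ W₂) :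
    Function.Surjective (rhoB d h₁ h₂ h₁₂ h₂₁) := by
  obtain ⟨x, y, hx1, hx2, hy1, hy2⟩ := exists_dual_pair hv
  rintro ⟨s, t, u⟩
  refine ⟨((0, s • x.comp W₁.subtype + u • y.comp W₁.subtype), (0, t • y.comp W₂.subtype)), ?_⟩
  simp [rhoB, hx1, hx2, hy1, hy2]

theorem finrank_target :
    finrank k ((k × Module.Dual k W₁) × (k × Module.Dual k W₂)) =
      (1 + finrank k W₁) + (1 + finrank k W₂) := by
  rw [Module.finrank_prod, Module.finrank_prod, Module.finrank_prod, Module.finrank_self,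
    Subspace.dual_finrank_eq, Subspace.dual_finrank_eq]

theorem finrank_ker_rhoA (hv : LinearIndependent k ![v₁, v₂]) (h₁ : v₁ ∈ W₁) (h₂ : v₂ ∈ W₂) :
    finrank k (LinearMap.ker (rhoA d h₁ h₂)) = finrank k W₁ + finrank k W₂ := by
  have h := LinearMap.finrank_range_add_finrank_ker (rhoA d h₁ h₂)
  rw [LinearMap.range_eq_top.2 (rhoA_surjective d hv h₁ h₂), finrank_top, finrank_target,
    Module.finrank_prod, Module.finrank_self] at h
  omega

theorem finrank_ker_rhoB (hv : LinearIndependent k ![v₁, v₂]) (h₁ : v₁ ∈ W₁) (h₂ : v₂ ∈ W₂)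
    (h₁₂ : v₂ ∈ W₁) (h₂₁ : v₁ ∈ W₂) :
    finrank k (LinearMap.ker (rhoB d h₁ h₂ h₁₂ h₂₁)) + 1 = finrank k W₁ + finrank k W₂ := by
  have h := LinearMap.finrank_range_add_finrank_ker (rhoB d h₁ h₂ h₁₂ h₂₁)
  rw [LinearMap.range_eq_top.2 (rhoB_surjective d hv h₁ h₂ h₁₂ h₂₁), finrank_top, finrank_target,
    Module.finrank_prod, Module.finrank_prod, Module.finrank_self] at h
  omega

end count

end Groth.Agent.Lib.T1H4.TangForms
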