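import Mathlib
import Groth.Agent.Lib.T1H4TangFormsC

/-!
# Codimension of forms tangent at two points (S4024), part D: the image of the jet map
-/

namespace Groth.Agent.Lib.T1H4.TangForms

open MvPolynomial Module

variable {k : Type*} [Field k] {r : ℕ} (d : ℕ) {W₁ W₂ : Submodule k (Fin (r + 1) → k)}
  {v₁ v₂ : Fin (r + 1) → k}

theorem range_jet2_le_ker_rhoA (h₁ : v₁ ∈ W₁) (h₂ : v₂ ∈ W₂) :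
    LinearMap.range (jet2 d W₁ W₂ v₁ v₂) ≤ LinearMap.ker (rhoA d h₁ h₂) := by
  rintro _ ⟨G, rfl⟩
  rw [LinearMap.mem_ker]
  have hG : G.1.IsHomogeneous d := (mem_homogeneousSubmodule _ _).1 G.2
  refine Prod.ext ?_ ?_
  · show (jetW d W₁ v₁ G).2 ⟨v₁, h₁⟩ - (d : k) * (jetW d W₁ v₁ G).1 = 0
    rw [jetW_snd, jetW_fst, D_self_of_isHomogeneous hG, sub_self]
  · show (jetW d W₂ v₂ G).2 ⟨v₂, h₂⟩ - (d : k) * (jetW d W₂ v₂ G).1 = 0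
    rw [jetW_snd, jetW_fst, D_self_of_isHomogeneous hG, sub_self]

theorem range_jet2_le_ker_rhoB (h₁ : v₁ ∈ W₁) (h₂ : v₂ ∈ W₂) (h₁₂ : v₂ ∈ W₁) (h₂₁ : v₁ ∈ W₂) :
    LinearMap.range (jet2 2 W₁ W₂ v₁ v₂) ≤ LinearMap.ker (rhoB 2 h₁ h₂ h₁₂ h₂₁) := by
  rintro _ ⟨G, rfl⟩
  rw [LinearMap.mem_ker]
  have hG : G.1.IsHomogeneous 2 := (mem_homogeneousSubmodule _ _).1 G.2
  refine Prod.ext ?_ (Prod.ext ?_ ?_)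
  · show (jetW 2 W₁ v₁ G).2 ⟨v₁, h₁⟩ - ((2 : ℕ) : k) * (jetW 2 W₁ v₁ G).1 = 0
    rw [jetW_snd, jetW_fst, D_self_of_isHomogeneous hG, sub_self]
  · show (jetW 2 W₂ v₂ G).2 ⟨v₂, h₂⟩ - ((2 : ℕ) : k) * (jetW 2 W₂ v₂ G).1 = 0
    rw [jetW_snd, jetW_fst, D_self_of_isHomogeneous hG, sub_self]
  · show (jetW 2 W₁ v₁ G).2 ⟨v₂, h₁₂⟩ - (jetW 2 W₂ v₂ G).2 ⟨v₁, h₂₁⟩ = 0
    rw [jetW_snd, jetW_snd, D_symm_of_isHomogeneous_two hG, sub_self]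

/-- forms with prescribed jets, uniformly in the degree -/
theorem exists_form (hd2 : 2 ≤ d) (hv : LinearIndependent k ![v₁, v₂]) (a₁ a₂ : k)
    (L₁ L₂ : Module.Dual k (Fin (r + 1) → k))
    (hL₁v : L₁ v₁ = (d : k) * a₁) (hL₂v : L₂ v₂ = (d : k) * a₂) (hL₃ : d = 2 → L₁ v₂ = L₂ v₁) :
    ∃ G : MvPolynomial (Fin (r + 1)) k, G.IsHomogeneous d ∧
      aeval v₁ G = a₁ ∧ (∀ w, D v₁ w G = L₁ w) ∧ aeval v₂ G = a₂ ∧ (∀ w, D v₂ w G = L₂ w) := by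
  obtain ⟨x, y, hx1, hx2, hy1, hy2⟩ := exists_dual_pair hv
  by_cases h3 : 3 ≤ d
  · obtain ⟨m, rfl⟩ : ∃ m, d = m + 3 := ⟨d - 3, by omega⟩
    exact exists_form_ge_three hx1 hx2 hy1 hy2 m a₁ a₂ L₁ L₂ hL₁v hL₂v
  · have hd : d = 2 := by omega
    subst hd
    exact exists_form_two hx1 hx2 hy1 hy2 a₁ a₂ L₁ L₂ (by simpa using hL₁v)
      (by simpa using hL₂v) (hL₃ rfl)

theorem mem_range_jet2 (hd2 : 2 ≤ d) (hv : LinearIndependent k ![v₁, v₂]) (a₁ a₂ : k)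
    (ℓ₁ : Module.Dual k W₁) (ℓ₂ : Module.Dual k W₂)
    (L₁ L₂ : Module.Dual k (Fin (r + 1) → k))
    (hL₁ : L₁.comp W₁.subtype = ℓ₁) (hL₂ : L₂.comp W₂.subtype = ℓ₂)
    (hL₁v : L₁ v₁ = (d : k) * a₁) (hL₂v : L₂ v₂ = (d : k) * a₂) (hL₃ : d = 2 → L₁ v₂ = L₂ v₁) :
    (((a₁, ℓ₁), (a₂, ℓ₂)) : (k × Module.Dual k W₁) × (k × Module.Dual k W₂)) ∈
      LinearMap.range (jet2 d W₁ W₂ v₁ v₂) := by
  obtain ⟨G, hG, hG1, hG2, hG3, hG4⟩ := exists_form d hd2 hv a₁ a₂ L₁ L₂ hL₁v hL₂v hL₃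
  refine ⟨⟨G, (mem_homogeneousSubmodule _ _).2 hG⟩, ?_⟩
  refine Prod.ext (Prod.ext ?_ ?_) (Prod.ext ?_ ?_)
  · exact hG1
  · apply LinearMap.ext
    intro w
    show (jetW d W₁ v₁ _).2 w = ℓ₁ w
    rw [jetW_snd, hG2, ← hL₁]
    rfl
  · exact hG3
  · apply LinearMap.ext
    intro w
    show (jetW d W₂ v₂ _).2 w = ℓ₂ w
    rw [jetW_snd, hG4, ← hL₂]
    rfl

theorem ker_rhoA_le_range (hd2 : 2 ≤ d) (hv : LinearIndependent k ![v₁, v₂]) (h₁ : v₁ ∈ W₁)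
    (h₂ : v₂ ∈ W₂) (hA : 3 ≤ d ∨ ¬(v₂ ∈ W₁ ∧ v₁ ∈ W₂)) :
    LinearMap.ker (rhoA d h₁ h₂) ≤ LinearMap.range (jet2 d W₁ W₂ v₁ v₂) := by
  rintro ⟨⟨a₁, ℓ₁⟩, ⟨a₂, ℓ₂⟩⟩ hz
  rw [LinearMap.mem_ker] at hz
  have hz1 : ℓ₁ ⟨v₁, h₁⟩ = (d : k) * a₁ := by
    have := congrArg Prod.fst hz
    simpa [rhoA, sub_eq_zero] using this
  have hz2 : ℓ₂ ⟨v₂, h₂⟩ = (d : k) * a₂ := by
    have := congrArg Prod.snd hz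
    simpa [rhoA, sub_eq_zero] using this
  have hext : ∃ L₁ L₂ : Module.Dual k (Fin (r + 1) → k), L₁.comp W₁.subtype = ℓ₁ ∧
      L₂.comp W₂.subtype = ℓ₂ ∧ (d = 2 → L₁ v₂ = L₂ v₁) := by
    by_cases h3 : 3 ≤ d
    · obtain ⟨L₁, hL₁⟩ := LinearMap.exists_extend ℓ₁
      obtain ⟨L₂, hL₂⟩ := LinearMap.exists_extend ℓ₂
      exact ⟨L₁, L₂, hL₁, hL₂, fun h => by omega⟩
    · have hn := hA.resolve_left h3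
      by_cases h12 : v₂ ∈ W₁
      · have h21 : v₁ ∉ W₂ := fun h => hn ⟨h12, h⟩
        obtain ⟨L₁, hL₁⟩ := LinearMap.exists_extend ℓ₁
        obtain ⟨L₂, hL₂, hL₂v⟩ := exists_extend_with_value W₂ ℓ₂ h21 (L₁ v₂)
        exact ⟨L₁, L₂, hL₁, hL₂, fun _ => hL₂v.symm⟩
      · obtain ⟨L₂, hL₂⟩ := LinearMap.exists_extend ℓ₂
        obtain ⟨L₁, hL₁, hL₁v⟩ := exists_extend_with_value W₁ ℓ₁ h12 (L₂ v₁)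
        exact ⟨L₁, L₂, hL₁, hL₂, fun _ => hL₁v⟩
  obtain ⟨L₁, L₂, hL₁, hL₂, hL₃⟩ := hext
  have hL₁v : L₁ v₁ = (d : k) * a₁ := by rw [← hz1, ← hL₁]; rfl
  have hL₂v : L₂ v₂ = (d : k) * a₂ := by rw [← hz2, ← hL₂]; rfl
  exact mem_range_jet2 d hd2 hv a₁ a₂ ℓ₁ ℓ₂ L₁ L₂ hL₁ hL₂ hL₁v hL₂v hL₃

theorem ker_rhoB_le_range (hv : LinearIndependent k ![v₁, v₂]) (h₁ : v₁ ∈ W₁)
    (h₂ : v₂ ∈ W₂) (h₁₂ : v₂ ∈ W₁) (h₂₁ : v₁ ∈ W₂) :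
    LinearMap.ker (rhoB 2 h₁ h₂ h₁₂ h₂₁) ≤ LinearMap.range (jet2 2 W₁ W₂ v₁ v₂) := by
  rintro ⟨⟨a₁, ℓ₁⟩, ⟨a₂, ℓ₂⟩⟩ hz
  rw [LinearMap.mem_ker] at hz
  have hz1 : ℓ₁ ⟨v₁, h₁⟩ = ((2 : ℕ) : k) * a₁ := by
    have := congrArg Prod.fst hz
    simpa [rhoB, sub_eq_zero] using this
  have hz2 : ℓ₂ ⟨v₂, h₂⟩ = ((2 : ℕ) : k) * a₂ := by
    have := congrArg (fun z => z.2.1) hz
    simpa [rhoB, sub_eq_zero] using this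
  have hz3 : ℓ₁ ⟨v₂, h₁₂⟩ = ℓ₂ ⟨v₁, h₂₁⟩ := by
    have := congrArg (fun z => z.2.2) hz
    simpa [rhoB, sub_eq_zero] using this
  obtain ⟨L₁, hL₁⟩ := LinearMap.exists_extend ℓ₁
  obtain ⟨L₂, hL₂⟩ := LinearMap.exists_extend ℓ₂
  have hL₁v : L₁ v₁ = ((2 : ℕ) : k) * a₁ := by rw [← hz1, ← hL₁]; rfl
  have hL₂v : L₂ v₂ = ((2 : ℕ) : k) * a₂ := by rw [← hz2, ← hL₂]; rfl
  have hL₃ : L₁ v₂ = L₂ v₁ := by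
    have e1 : L₁ v₂ = ℓ₁ ⟨v₂, h₁₂⟩ := by rw [← hL₁]; rfl
    have e2 : L₂ v₁ = ℓ₂ ⟨v₁, h₂₁⟩ := by rw [← hL₂]; rfl
    rw [e1, e2, hz3]
  exact mem_range_jet2 2 le_rfl hv a₁ a₂ ℓ₁ ℓ₂ L₁ L₂ hL₁ hL₂ hL₁v hL₂v (fun _ => hL₃)

theorem main_A (hd2 : 2 ≤ d) (hv : LinearIndependent k ![v₁, v₂]) (h₁ : v₁ ∈ W₁)
    (h₂ : v₂ ∈ W₂) (hA : 3 ≤ d ∨ ¬(v₂ ∈ W₁ ∧ v₁ ∈ W₂)) :
    finrank k ↥(homogeneousSubmodule (Fin (r + 1)) k d) =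
      finrank k (LinearMap.ker (jet2 d W₁ W₂ v₁ v₂)) + (finrank k W₁ + finrank k W₂) := by
  haveI : Module.Finite k ↥(homogeneousSubmodule (Fin (r + 1)) k d) :=
    Module.Finite.iff_fg.2 (homogeneousSubmodule_fg (Fin (r + 1)) k d)
  have h := LinearMap.finrank_range_add_finrank_ker (jet2 d W₁ W₂ v₁ v₂)
  have hr : LinearMap.range (jet2 d W₁ W₂ v₁ v₂) = LinearMap.ker (rhoA d h₁ h₂) :=
    le_antisymm (range_jet2_le_ker_rhoA d h₁ h₂) (ker_rhoA_le_range d hd2 hv h₁ h₂ hA)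
  rw [hr, finrank_ker_rhoA d hv h₁ h₂] at h
  omega

theorem main_B (hv : LinearIndependent k ![v₁, v₂]) (h₁ : v₁ ∈ W₁)
    (h₂ : v₂ ∈ W₂) (h₁₂ : v₂ ∈ W₁) (h₂₁ : v₁ ∈ W₂) :
    finrank k ↥(homogeneousSubmodule (Fin (r + 1)) k 2) + 1 =
      finrank k (LinearMap.ker (jet2 2 W₁ W₂ v₁ v₂)) + (finrank k W₁ + finrank k W₂) := by
  haveI : Module.Finite k ↥(homogeneousSubmodule (Fin (r + 1)) k 2) :=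
    Module.Finite.iff_fg.2 (homogeneousSubmodule_fg (Fin (r + 1)) k 2)
  have h := LinearMap.finrank_range_add_finrank_ker (jet2 2 W₁ W₂ v₁ v₂)
  have hr : LinearMap.range (jet2 2 W₁ W₂ v₁ v₂) = LinearMap.ker (rhoB 2 h₁ h₂ h₁₂ h₂₁) :=
    le_antisymm (range_jet2_le_ker_rhoB h₁ h₂ h₁₂ h₂₁) (ker_rhoB_le_range hv h₁ h₂ h₁₂ h₂₁)
  have h2 := finrank_ker_rhoB 2 hv h₁ h₂ h₁₂ h₂₁
  rw [hr] at h
  omega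

end Groth.Agent.Lib.T1H4.TangForms
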