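import Mathlib
import Groth.Prelude.Def_LefPen
import Groth.Agent.Lib.T1H4TangFormsD

/-!
# Codimension of forms tangent at two points (S4024), part E: bridge to the prelude definitions
-/

namespace Groth.Agent.Lib.T1H4.TangForms

open MvPolynomial Module

universe u

variable (k : Type u) [Field k] {r : ℕ}

theorem tangLin_eq (d : ℕ) (W : Submodule k (Fin (r + 1) → k)) (v : Fin (r + 1) → k)
    (G : LefPen.Form r k d) :
    LefPen.tangLin k W v G = ((jetW d W v G).1, fun w => (jetW d W v G).2 w) := by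
  refine Prod.ext rfl ?_
  funext w
  show ((LefPen.tangLin k W v) G).2 w = ((jetW d W v) G).2 w
  rw [jetW_snd, D_apply]
  simp [LefPen.tangLin, LinearMap.sum_apply]

theorem ker_tangLin (d : ℕ) (W : Submodule k (Fin (r + 1) → k)) (v : Fin (r + 1) → k) :
    LinearMap.ker (LefPen.tangLin k W v : LefPen.Form r k d →ₗ[k] k × (↥W → k)) =
      LinearMap.ker (jetW d W v) := by
  ext G
  rw [LinearMap.mem_ker, LinearMap.mem_ker, tangLin_eq]
  constructor
  · intro h
    have h1 := congrArg Prod.fst h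
    have h2 := congrArg Prod.snd h
    exact Prod.ext h1 (LinearMap.ext fun w => congrFun h2 w)
  · intro h
    rw [h]
    rfl

theorem tangentForms_eq (d : ℕ) (W₁ W₂ : Submodule k (Fin (r + 1) → k))
    (v₁ v₂ : Fin (r + 1) → k) :
    LefPen.tangentForms k d W₁ v₁ W₂ v₂ = LinearMap.ker (jet2 d W₁ W₂ v₁ v₂) := by
  unfold LefPen.tangentForms jet2
  rw [ker_tangLin, ker_tangLin, LinearMap.ker_prod]

theorem main_S4024 (r d : ℕ) (hd : 2 ≤ d)
    (W₁ W₂ : Submodule k (Fin (r + 1) → k)) (v₁ v₂ : Fin (r + 1) → k) (h₁ : v₁ ∈ W₁) (h₂ : v₂ ∈ W₂)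
    (hv : LinearIndependent k ![v₁, v₂]) :
    ((3 ≤ d ∨ ¬ (v₂ ∈ W₁ ∧ v₁ ∈ W₂)) →
      Module.finrank k (LefPen.Form r k d) =
        Module.finrank k ↥(LefPen.tangentForms k d W₁ v₁ W₂ v₂) +
          (Module.finrank k ↥W₁ + Module.finrank k ↥W₂)) ∧
    ((d = 2 ∧ v₂ ∈ W₁ ∧ v₁ ∈ W₂) →
      Module.finrank k (LefPen.Form r k d) + 1 =
        Module.finrank k ↥(LefPen.tangentForms k d W₁ v₁ W₂ v₂) +
          (Module.finrank k ↥W₁ + Module.finrank k ↥W₂)) := by
  constructor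
  · intro hA
    rw [tangentForms_eq]
    exact main_A d hd hv h₁ h₂ hA
  · rintro ⟨rfl, h₁₂, h₂₁⟩
    rw [tangentForms_eq]
    exact main_B hv h₁ h₂ h₁₂ h₂₁

end Groth.Agent.Lib.T1H4.TangForms
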