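import Groth.Agent.Lib.Helper4CurveAlg
import Groth.Agent.Lib.Helper4TensorDim
import Mathlib.RingTheory.NoetherNormalization
import Mathlib.RingTheory.DedekindDomain.Dvr
import Mathlib.RingTheory.Valuation.ValuationSubring
import Mathlib.RingTheory.Valuation.LocalSubring
import Mathlib.RingTheory.Ideal.MinimalPrime.Noetherian

/-!
# Valuation rings of the function field of an affine curve (helper4)

`main`: for a finitely generated domain `A` of Krull dimension one over a field `k` with fraction
field `F`, only finitely many valuation subrings of `F` contain `k` but not `A`.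
-/

set_option autoImplicit false
set_option linter.style.haveILetI false
set_option linter.unusedSectionVars false
universe u

open Groth.Agent.Lib.Helper4

namespace Groth.Agent.Lib.T1H4.ValCurve

/-- In the fraction field of a Dedekind domain, every element can be written as `c / s` with
`c, s` not both in a given nonzero prime. -/
theorem exists_frac {B F : Type*} [CommRing B] [IsDedekindDomain B] [Field F] [Algebra B F]
    [IsFractionRing B F] (q : Ideal B) [hqp : q.IsPrime] (hq : q ≠ ⊥) (z : F) :
    ∃ c s : B, (s ∉ q ∨ c ∉ q) ∧ z * algebraMap B F s = algebraMap B F c := by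
  let L := Localization.AtPrime q
  have hunit : ∀ s : q.primeCompl, IsUnit (algebraMap B F s) := fun s =>
    IsUnit.mk0 _ (by
      intro h
      have h0 : (s : B) = 0 := (IsFractionRing.injective B F) (h.trans (map_zero _).symm)
      exact s.2 (h0 ▸ q.zero_mem))
  letI : Algebra L F := (IsLocalization.lift (M := q.primeCompl) (S := L) hunit).toAlgebra
  haveI : IsScalarTower B L F :=
    IsScalarTower.of_algebraMap_eq fun b => (IsLocalization.lift_eq hunit b).symm
  haveI : IsFractionRing L F :=
    IsFractionRing.isFractionRing_of_isDomain_of_isLocalization q.primeCompl L F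
  haveI : IsDiscreteValuationRing L :=
    IsLocalization.AtPrime.isDiscreteValuationRing_of_dedekind_domain B hq L
  have key : ∀ w : F, IsLocalization.IsInteger L w →
      ∃ c s : B, s ∉ q ∧ w * algebraMap B F s = algebraMap B F c := by
    rintro w ⟨l, rfl⟩
    obtain ⟨⟨c, s⟩, h⟩ := IsLocalization.surj q.primeCompl l
    refine ⟨c, s, s.2, ?_⟩
    have h2 := congrArg (algebraMap L F) h
    rw [map_mul, ← IsScalarTower.algebraMap_apply, ← IsScalarTower.algebraMap_apply] at h2
    exact h2
  rcases ValuationRing.isInteger_or_isInteger L z with h | h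
  · obtain ⟨c, s, hs, h⟩ := key z h
    exact ⟨c, s, Or.inl hs, h⟩
  · obtain ⟨c, s, hs, h⟩ := key _ h
    by_cases hz : z = 0
    · exact ⟨0, 1, Or.inl (fun h1 => hqp.ne_top ((Ideal.eq_top_iff_one q).mpr h1)), by simp [hz]⟩
    · refine ⟨s, c, Or.inr hs, ?_⟩
      rw [← h, ← mul_assoc, mul_inv_cancel₀ hz, one_mul]

/-- A valuation subring contains every element integral over a ring whose image it contains. -/
theorem mem_of_isIntegral {R F : Type*} [CommRing R] [Field F] [Algebra R F] (V : ValuationSubring F)
    (h : ∀ r : R, algebraMap R F r ∈ V) {b : F} (hb : IsIntegral R b) : b ∈ V := by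
  have h1 : IsIntegral V.toSubring b := by
    have := IsIntegral.map_of_comp_eq (R := R) (S := F) (T := V.toSubring) (U := F)
      ((algebraMap R F).codRestrict V.toSubring h) (RingHom.id F) (RingHom.ext fun r => rfl) hb
    exact this
  haveI : IsIntegrallyClosedIn V.toSubring F := inferInstanceAs (IsIntegrallyClosedIn V F)
  obtain ⟨y, hy⟩ := IsIntegrallyClosedIn.isIntegral_iff.mp h1
  rw [← hy]
  exact y.2

/-- The prime of `B ⊆ V` cut out by the maximal ideal of the valuation ring `V`. -/
noncomputable def primeOf {B F : Type*} [CommRing B] [Field F] [Algebra B F] (V : ValuationSubring F)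
    (h : ∀ b : B, algebraMap B F b ∈ V) : Ideal B :=
  Ideal.comap ((algebraMap B F).codRestrict V.toSubring h) (IsLocalRing.maximalIdeal V)

theorem mem_primeOf {B F : Type*} [CommRing B] [Field F] [Algebra B F] (V : ValuationSubring F)
    (h : ∀ b : B, algebraMap B F b ∈ V) (b : B) :
    b ∈ primeOf V h ↔ V.valuation (algebraMap B F b) < 1 := by
  unfold primeOf
  rw [Ideal.mem_comap]
  exact V.valuation_lt_one_iff ⟨algebraMap B F b, h b⟩

theorem primeOf_isPrime {B F : Type*} [CommRing B] [Field F] [Algebra B F] (V : ValuationSubring F)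
    (h : ∀ b : B, algebraMap B F b ∈ V) : (primeOf V h).IsPrime := by
  unfold primeOf
  exact Ideal.comap_isPrime _ _

/-- Two valuation rings containing a Dedekind domain `B` with fraction field `F` and inducing the
same nonzero prime of `B` are equal (one inclusion). -/
theorem le_of_primeOf_eq {B F : Type*} [CommRing B] [IsDedekindDomain B] [Field F] [Algebra B F]
    [IsFractionRing B F] (V V' : ValuationSubring F)
    (h : ∀ b : B, algebraMap B F b ∈ V) (h' : ∀ b : B, algebraMap B F b ∈ V')
    (hne : primeOf V h ≠ ⊥) (heq : primeOf V h = primeOf V' h') : V ≤ V' := by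
  intro z hz
  haveI := primeOf_isPrime V h
  obtain ⟨c, s, hsc, hzs⟩ := exists_frac (primeOf V h) hne z
  have hvz : V.valuation z ≤ 1 := (V.valuation_le_one_iff z).mpr hz
  have e1 : V.valuation z * V.valuation (algebraMap B F s) = V.valuation (algebraMap B F c) := by
    rw [← map_mul, hzs]
  have e2 : V'.valuation z * V'.valuation (algebraMap B F s) = V'.valuation (algebraMap B F c) := by
    rw [← map_mul, hzs]
  by_cases hs : s ∈ primeOf V h
  · exfalso
    have hc : c ∉ primeOf V h := hsc.resolve_left (not_not.mpr hs)
    rw [mem_primeOf] at hs hc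
    rw [not_lt] at hc
    have : V.valuation (algebraMap B F c) < 1 := by
      rw [← e1]
      exact lt_of_le_of_lt (mul_le_of_le_one_left' hvz) hs
    exact absurd hc (not_le.mpr this)
  · rw [heq, mem_primeOf, not_lt] at hs
    rw [← V'.valuation_le_one_iff z]
    have hc1 : V'.valuation (algebraMap B F c) ≤ 1 := (V'.valuation_le_one_iff _).mpr (h' c)
    calc V'.valuation z ≤ V'.valuation z * V'.valuation (algebraMap B F s) :=
          le_mul_of_one_le_right' hs
      _ = V'.valuation (algebraMap B F c) := e2
      _ ≤ 1 := hc1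

set_option maxHeartbeats 1000000 in
theorem main (k A F : Type u) [Field k]
    [CommRing A] [IsDomain A] [Algebra k A] [Algebra.FiniteType k A] (hA : ringKrullDim A = 1)
    [Field F] [Algebra A F] [IsFractionRing A F] [Algebra k F] [IsScalarTower k A F] :
    {O : ValuationSubring F | (algebraMap k F).range ≤ O.toSubring ∧
        ¬ (algebraMap A F).range ≤ O.toSubring}.Finite := by
  obtain ⟨s, g, hginj, hgint⟩ := exists_integral_inj_algHom_of_fg k A
  have hs : s = 1 := by
    have h1 := TensorDim.ringKrullDim_eq_of_integral_injective k A s g hginj hgint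
    rw [hA] at h1
    exact_mod_cast h1.symm
  subst hs
  let P := MvPolynomial (Fin 1) k
  let φ : P →ₐ[k] F := (IsScalarTower.toAlgHom k A F).comp g
  letI algPA : Algebra P A := g.toRingHom.toAlgebra
  letI algPF : Algebra P F := φ.toRingHom.toAlgebra
  haveI : IsScalarTower P A F := IsScalarTower.of_algebraMap_eq fun p => rfl
  haveI : IsScalarTower k P F := IsScalarTower.of_algebraMap_eq fun c => (φ.commutes c).symm
  haveI : Algebra.IsIntegral P A := ⟨hgint⟩
  haveI : Algebra.IsAlgebraic A F := IsLocalization.isAlgebraic F (nonZeroDivisors A)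
  haveI : Algebra.IsAlgebraic P F := Algebra.IsAlgebraic.trans P A F
  have hφinj : Function.Injective (algebraMap P F) := (IsFractionRing.injective A F).comp hginj
  haveI : FaithfulSMul P F := (faithfulSMul_iff_algebraMap_injective P F).mpr hφinj
  have hb : IsTranscendenceBasis k (algebraMap P F ∘ MvPolynomial.X) :=
    (IsTranscendenceBasis.mvPolynomial (Fin 1) k).algebraMap_comp
  have htr : Algebra.trdeg k F = 1 := by
    have h1 := hb.lift_cardinalMk_eq_trdeg
    simpa using h1.symm
  set x' : F := algebraMap P F (MvPolynomial.X 0) with hx'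
  have hx'tr : Transcendental k x' := hb.1.transcendental 0
  set y : F := x'⁻¹ with hy
  have hytr : Transcendental k y := fun h => hx'tr (IsAlgebraic.inv_iff.mp h)
  have hx'0 : x' ≠ 0 := fun h => hx'tr (h ▸ isAlgebraic_zero)
  haveI : Algebra.EssFiniteType A F := Algebra.EssFiniteType.of_isLocalization F (nonZeroDivisors A)
  haveI : Algebra.EssFiniteType k F := Algebra.EssFiniteType.comp k A F
  have hfg : (⊤ : IntermediateField k F).FG := IntermediateField.fg_top_iff.mpr inferInstance
  let B := integralClosure (Algebra.adjoin k {y}) F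
  haveI : IsDedekindDomain B := CurveAlg.isDedekindDomain_chart hfg htr y hytr
  haveI : IsFractionRing B F := CurveAlg.isFractionRing_chart hfg htr y hytr
  let y0 : Algebra.adjoin k {y} := ⟨y, Algebra.subset_adjoin rfl⟩
  let yB : B := ⟨y, isIntegral_algebraMap (x := y0)⟩
  have hyB0 : yB ≠ 0 := fun h => inv_ne_zero hx'0 (congrArg (fun b : B => (b : F)) h)
  -- facts about a valuation ring in the set
  have facts : ∀ V : ValuationSubring F, (algebraMap k F).range ≤ V.toSubring →
      ¬ (algebraMap A F).range ≤ V.toSubring →
      ∃ hBV : ∀ b : B, algebraMap B F b ∈ V,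
        primeOf V hBV ∈ (Ideal.span {yB}).minimalPrimes := by
    intro V hkV hAV
    have hk : ∀ c : k, algebraMap k F c ∈ V := fun c => hkV ⟨c, rfl⟩
    have hx'V : x' ∉ V := by
      intro hx
      apply hAV
      rintro _ ⟨a, rfl⟩
      have hP : ∀ p : P, algebraMap P F p ∈ V := by
        intro p
        induction p using MvPolynomial.induction_on with
        | C c =>
          have : algebraMap P F (MvPolynomial.C c) = algebraMap k F c := φ.commutes c
          rw [this]; exact hk c
        | add p q hp hq => rw [map_add]; exact V.add_mem _ _ hp hq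
        | mul_X p i hp =>
          rw [map_mul]
          refine V.mul_mem _ _ hp ?_
          rw [Subsingleton.elim i 0]
          exact hx
      exact mem_of_isIntegral V hP ((Algebra.IsIntegral.isIntegral (R := P) a).algebraMap)
    have hyV : y ∈ V := (V.mem_or_inv_mem x').resolve_left hx'V
    have hvy : V.valuation y < 1 := by
      have h1 : 1 < V.valuation x' := not_le.mp (mt (V.valuation_le_one_iff x').mp hx'V)
      rw [hy, map_inv₀]
      exact inv_lt_one_of_one_lt₀ h1
    let Vk : Subalgebra k F :=
      { V.toSubring.toSubsemiring with algebraMap_mem' := fun c => hk c }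
    have hadj : Algebra.adjoin k {y} ≤ Vk := Algebra.adjoin_le (by
      intro w hw
      rw [Set.mem_singleton_iff] at hw
      rw [hw]; exact hyV)
    have hBV : ∀ b : B, algebraMap B F b ∈ V := fun b =>
      mem_of_isIntegral (R := Algebra.adjoin k {y}) V (fun r => hadj r.2) b.2
    refine ⟨hBV, ?_⟩
    haveI hprime := primeOf_isPrime V hBV
    have hyq : yB ∈ primeOf V hBV := (mem_primeOf V hBV yB).mpr hvy
    have hq0 : primeOf V hBV ≠ ⊥ := fun h => hyB0 (by rw [h] at hyq; exact hyq)
    have hmax : (primeOf V hBV).IsMaximal := hprime.isMaximal hq0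
    refine ⟨⟨hprime, (Ideal.span_singleton_le_iff_mem _).mpr hyq⟩, ?_⟩
    rintro p ⟨hp, hple⟩ hpq
    have hp0 : p ≠ ⊥ := fun h => hyB0 (by
      have := (Ideal.span_singleton_le_iff_mem _).mp hple
      rw [h] at this; exact this)
    have hpmax : p.IsMaximal := hp.isMaximal hp0
    exact (hpmax.eq_of_le hmax.ne_top hpq).ge
  classical
  let f : ValuationSubring F → Ideal B := fun V =>
    if hBV : ∀ b : B, algebraMap B F b ∈ V then primeOf V hBV else ⊥
  refine Set.Finite.of_injOn (f := f) (t := (Ideal.span {yB}).minimalPrimes) ?_ ?_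
    (Ideal.finite_minimalPrimes_of_isNoetherianRing B _)
  · rintro V ⟨hkV, hAV⟩
    obtain ⟨hBV, hmem⟩ := facts V hkV hAV
    simp only [f, dif_pos hBV]
    exact hmem
  · rintro V ⟨hkV, hAV⟩ V' ⟨hkV', hAV'⟩ hff
    obtain ⟨hBV, hmem⟩ := facts V hkV hAV
    obtain ⟨hBV', hmem'⟩ := facts V' hkV' hAV'
    simp only [f, dif_pos hBV, dif_pos hBV'] at hff
    have hne : ∀ (W : ValuationSubring F) (hW : ∀ b : B, algebraMap B F b ∈ W),
        primeOf W hW ∈ (Ideal.span {yB}).minimalPrimes → primeOf W hW ≠ ⊥ := by
      intro W hW hm h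
      have := (Ideal.span_singleton_le_iff_mem _).mp hm.1.2
      rw [h] at this
      exact hyB0 this
    exact le_antisymm (le_of_primeOf_eq V V' hBV hBV' (hne V hBV hmem) hff)
      (le_of_primeOf_eq V' V hBV' hBV (hne V' hBV' hmem') hff.symm)

end Groth.Agent.Lib.T1H4.ValCurve
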