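import Mathlib
import Groth.Prelude.Def_FlatCA
import Groth.Agent.Lib.Helper13WeakAss

/-!
# Weakly associated primes and finite flat base change (T2 helper2)

Stacks 10.66.13 (finite ring maps) and the finite flat base change statement of
"More on flatness", section 2.
-/
set_option autoImplicit false
universe u

namespace Groth.Agent.Lib.T2H2.WeakAssBC

open TensorProduct Groth.Agent.Helper13WeakAss

/-- criterion: an element `μ` whose annihilator lies in `p` and on which every element of `p` is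
nilpotent up to a factor outside `p`, witnesses that `p` is weakly associated. -/
theorem mem_weakAss_of_witness {A : Type u} [CommRing A] {M : Type u} [AddCommGroup M] [Module A M]
    (p : Ideal A) [hp : p.IsPrime] (μ : M) (h1 : ∀ c : A, c • μ = 0 → c ∈ p)
    (h2 : ∀ a ∈ p, ∃ (k : ℕ) (s : A), s ∉ p ∧ (s * a ^ k) • μ = 0) :
    p ∈ FlatCA.weakAss A M := by
  refine ⟨μ, ⟨hp, fun c hc => h1 c ((mem_ann_iff μ c).1 hc)⟩, ?_⟩
  rintro q ⟨hq, hIq⟩ hqp a ha
  obtain ⟨k, s, hs, hsk⟩ := h2 a ha
  have : s * a ^ k ∈ q := hIq ((mem_ann_iff μ _).2 hsk)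
  rcases hq.mem_or_mem this with h | h
  · exact absurd (hqp h) hs
  · exact hq.mem_of_pow_mem k h

/-- Stacks 10.66.13 (hard direction), element form. -/
theorem exists_smul_weakAss_of_finite {B A M : Type*} [CommRing B] [CommRing A] [Algebra B A]
    [Module.Finite B A] [AddCommGroup M] [Module A M] (m : M) (q : Ideal A)
    (hq : q ∈ Ideal.minimalPrimes (Submodule.span A {m}).annihilator) :
    ∃ y : A, y ∉ q ∧
      (∀ b : B, algebraMap B A b • y • m = 0 → b ∈ q.comap (algebraMap B A)) ∧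
      ∀ b ∈ q.comap (algebraMap B A), ∃ (k : ℕ) (t : B), t ∉ q.comap (algebraMap B A) ∧
        algebraMap B A t • (algebraMap B A b) ^ k • y • m = 0 := by
  classical
  have hqp : q.IsPrime := hq.1.1
  have memAnn : ∀ (z : M) (a : A), a ∈ (Submodule.span A {z}).annihilator ↔
      a • z = 0 := fun z a => Submodule.mem_annihilator_span_singleton z a
  have key : ∀ {b : A}, b ∈ q → ∃ (s : A) (k : ℕ), s ∉ q ∧ s * b ^ k ∈
      (Submodule.span A {m}).annihilator := by
    intro b hb
    obtain ⟨s, hs, n, hn⟩ := exists_notMem_mul_pow_mem (R := A) hq hb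
    exact ⟨s, n, hs, hn⟩
  set p := q.comap (algebraMap B A) with hp
  have hpprime : p.IsPrime := Ideal.comap_isPrime _ q
  have hfin : (p.primesOver A).Finite := Algebra.QuasiFinite.finite_primesOver p
  let others : Finset (Ideal A) := hfin.toFinset.erase q
  have hothers : ∀ Q ∈ others, Q ≠ q ∧ Q.IsPrime ∧ Q.comap (algebraMap B A) = p := by
    intro Q hQ
    rw [Finset.mem_erase, Set.Finite.mem_toFinset] at hQ
    obtain ⟨hne, hQprime, hQover⟩ := hQ
    exact ⟨hne, hQprime, hQover.over.symm⟩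
  have hav : ∃ a₀ ∈ q, ∀ Q ∈ others, a₀ ∉ Q := by
    by_contra hcon
    have hsub : (q : Set A) ⊆ ⋃ Q ∈ (others : Set (Ideal A)), ((id Q : Ideal A) : Set A) := by
      intro a ha
      by_contra hna
      apply hcon
      refine ⟨a, ha, fun Q hQ haQ => hna ?_⟩
      exact Set.mem_biUnion (Finset.mem_coe.2 hQ) haQ
    rw [Ideal.subset_union_prime (f := id) q q (fun Q hQ _ _ => (hothers Q hQ).2.1)] at hsub
    obtain ⟨Q, hQ, hqQ⟩ := hsub
    obtain ⟨hne, hQprime, hQover⟩ := hothers Q hQ
    have hlt : q < Q := lt_of_le_of_ne hqQ (Ne.symm hne)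
    have := Ideal.IsIntegral.comap_lt_comap (R := B) hlt
    rw [hQover] at this
    exact lt_irrefl _ this
  obtain ⟨a₀, ha₀q, ha₀⟩ := hav
  obtain ⟨y, k₀, hyq, hyk₀⟩ := key ha₀q
  rw [memAnn] at hyk₀
  refine ⟨y, hyq, ?_, ?_⟩
  · intro b hb
    rw [← mul_smul] at hb
    have h1 : algebraMap B A b * y ∈ q := hq.1.2 ((memAnn _ _).2 hb)
    rcases hqp.mem_or_mem h1 with h2 | h2
    · exact h2
    · exact absurd h2 hyq
  · intro b hb
    have hbq : algebraMap B A b ∈ q := hb
    obtain ⟨c, k, hcq, hck⟩ := key hbq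
    rw [memAnn] at hck
    refine ⟨k, ?_⟩
    set z : M := (algebraMap B A b) ^ k • y • m with hz
    have hcz : c • z = 0 := by
      rw [hz, smul_comm ((algebraMap B A b) ^ k) y, smul_comm c y, ← mul_smul c, hck, smul_zero]
    have ha₀z : a₀ ^ k₀ • z = 0 := by
      rw [hz, smul_comm (a₀ ^ k₀), ← mul_smul (a₀ ^ k₀), mul_comm, hyk₀, smul_zero]
    by_contra hno
    let T : Submonoid A := Submonoid.map (algebraMap B A) p.primeCompl
    have hdisj : Disjoint (((Submodule.span A {z}).annihilator : Ideal A) : Set A)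
        (T : Set A) := by
      rw [Set.disjoint_left]
      rintro _ haI ⟨t, ht, rfl⟩
      exact hno ⟨t, ht, (memAnn _ _).1 haI⟩
    obtain ⟨Q, hQprime, hIQ, hQT⟩ := Ideal.exists_le_prime_disjoint _ T hdisj
    have hQp : Q.comap (algebraMap B A) ≤ p := by
      intro t ht
      by_contra htp
      exact (Set.disjoint_left.1 hQT) ht ⟨t, htp, rfl⟩
    obtain ⟨Q', hQQ', hQ'prime, hQ'over⟩ :=
      Ideal.exists_ideal_over_prime_of_isIntegral_of_isPrime p Q hQp
    by_cases hQ'q : Q' = q
    · apply hcq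
      rw [← hQ'q]
      exact hQQ' (hIQ ((memAnn _ _).2 hcz))
    · have hmem : Q' ∈ others := by
        rw [Finset.mem_erase, Set.Finite.mem_toFinset]
        exact ⟨hQ'q, hQ'prime, ⟨hQ'over.symm⟩⟩
      apply ha₀ Q' hmem
      exact hQ'prime.mem_of_pow_mem k₀ (hQQ' (hIQ ((memAnn _ _).2 ha₀z)))

/-- Stacks 10.66.13: for a finite ring map `A → B`, a `B`-module `N` and a prime `t` of `B`
weakly associated to `N`, the contraction of `t` is weakly associated to `N` as an `A`-module. -/
theorem comap_mem_weakAss_of_finite {A B : Type u} [CommRing A] [CommRing B] [Algebra A B]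
    [Module.Finite A B] {N : Type u} [AddCommGroup N] [Module B N] [Module A N]
    [IsScalarTower A B N] (t : Ideal B) [t.IsPrime] (ht : t ∈ FlatCA.weakAss B N) :
    t.comap (algebraMap A B) ∈ FlatCA.weakAss A N := by
  obtain ⟨x, hx⟩ := ht
  obtain ⟨y, hyt, h1, h2⟩ := exists_smul_weakAss_of_finite (B := A) x t hx
  refine mem_weakAss_of_witness (t.comap (algebraMap A B)) (y • x) ?_ ?_
  · intro c hc
    apply h1 c
    rwa [algebraMap_smul]
  · intro a ha
    obtain ⟨k, s, hs, hsk⟩ := h2 a ha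
    refine ⟨k, s, hs, ?_⟩
    rw [mul_smul, ← algebraMap_smul B s, ← algebraMap_smul B (a ^ k), map_pow]
    exact hsk

section Coords

variable {A B : Type u} [CommRing A] [CommRing B] [Algebra A B] [Module.Finite A B]
  [Module.Flat A B] (M : Type u) [AddCommGroup M] [Module A M] (p : Ideal A) [p.IsPrime]

/-- coordinates of `B ⊗ M` at the prime `p`, where `B_p` is free. -/
theorem exists_coords :
    ∃ (ι : Type u) (_ : Fintype ι)
      (Θ : B ⊗[A] M →ₗ[A] (ι →₀ (Localization.AtPrime p ⊗[A] M))),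
      ∀ w, Θ w = 0 → ∃ s : p.primeCompl, s • w = 0 := by
  classical
  have : Module.Free (Localization.AtPrime p) (Localization.AtPrime p ⊗[A] B) :=
    Module.free_of_flat_of_isLocalRing
  let ι := Module.Free.ChooseBasisIndex (Localization.AtPrime p) (Localization.AtPrime p ⊗[A] B)
  let b : Module.Basis ι (Localization.AtPrime p) (Localization.AtPrime p ⊗[A] B) :=
    Module.Free.chooseBasis _ _
  let e1 : Localization.AtPrime p ⊗[A] (B ⊗[A] M) ≃ₗ[A] (Localization.AtPrime p ⊗[A] B) ⊗[A] M :=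
    (TensorProduct.assoc A (Localization.AtPrime p) B M).symm
  let e2 : (Localization.AtPrime p ⊗[A] B) ⊗[A] M ≃ₗ[A] (ι →₀ Localization.AtPrime p) ⊗[A] M :=
    LinearEquiv.rTensor M (b.repr.restrictScalars A)
  let e3 : (ι →₀ Localization.AtPrime p) ⊗[A] M ≃ₗ[A] (ι →₀ (Localization.AtPrime p ⊗[A] M)) :=
    TensorProduct.finsuppLeft A A (Localization.AtPrime p) M ι
  refine ⟨ι, inferInstance, (e3.toLinearMap ∘ₗ e2.toLinearMap ∘ₗ e1.toLinearMap) ∘ₗ
    (TensorProduct.mk A (Localization.AtPrime p) (B ⊗[A] M) 1), ?_⟩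
  intro w hw
  have h0 : (TensorProduct.mk A (Localization.AtPrime p) (B ⊗[A] M) 1) w = 0 := by
    apply e1.injective
    apply e2.injective
    apply e3.injective
    simpa using hw
  exact (IsLocalizedModule.eq_zero_iff p.primeCompl
    (TensorProduct.mk A (Localization.AtPrime p) (B ⊗[A] M) 1)).1 h0

/-- finite flat base change does not create new weakly associated primes of the base. -/
theorem mem_weakAss_of_tensor (h : p ∈ FlatCA.weakAss A (B ⊗[A] M)) : p ∈ FlatCA.weakAss A M := by
  classical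
  obtain ⟨z, hz⟩ := h
  obtain ⟨ι, _, Θ, hΘ⟩ := exists_coords (B := B) M p
  have hne : Θ z ≠ 0 := by
    intro h0
    obtain ⟨s, hs⟩ := hΘ z h0
    exact s.2 (hz.1.2 ((mem_ann_iff z _).2 hs))
  obtain ⟨i, hi⟩ : ∃ i, (Θ z) i ≠ 0 := by
    by_contra hcon
    push Not at hcon
    exact hne (Finsupp.ext hcon)
  set ζ := (Θ z) i with hζ
  let f := TensorProduct.mk A (Localization.AtPrime p) M 1
  obtain ⟨⟨μ, s₀⟩, hμ⟩ := IsLocalizedModule.surj p.primeCompl f ζ
  simp only at hμ
  refine mem_weakAss_of_witness p μ ?_ ?_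
  · intro c hc
    by_contra hcp
    apply hi
    have h1 : (⟨c, hcp⟩ : p.primeCompl) • s₀ • ζ = 0 := by
      rw [hμ]
      change c • f μ = 0
      rw [← map_smul, hc, map_zero]
    have h2 : s₀ • ζ = 0 :=
      IsLocalizedModule.smul_injective f (⟨c, hcp⟩ : p.primeCompl) (by simpa using h1)
    exact IsLocalizedModule.smul_injective f s₀ (by simpa using h2)
  · intro a ha
    obtain ⟨s, hs, n, hn⟩ := exists_notMem_mul_pow_mem (R := A) hz ha
    have hn' : (s * a ^ n) • z = 0 := (mem_ann_iff z _).1 hn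
    have h1 : (s * a ^ n) • ζ = 0 := by
      have := congrArg (fun v => v i) (show Θ ((s * a ^ n) • z) = 0 by rw [hn', map_zero])
      simpa using this
    have h2 : f ((s * a ^ n) • μ) = 0 := by
      rw [map_smul, ← hμ, smul_comm, h1, smul_zero]
    obtain ⟨s', hs'⟩ := (IsLocalizedModule.eq_zero_iff p.primeCompl f).1 h2
    refine ⟨n, s' * s, ‹p.IsPrime›.mul_notMem s'.2 hs, ?_⟩
    rw [mul_assoc, mul_smul]
    exact hs'

end Coords

end Groth.Agent.Lib.T2H2.WeakAssBC
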