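import Mathlib
import Groth.Prelude.Def_FlatCA
import Groth.Agent.Lib.Helper13WeakAss
import Groth.Agent.Lib.T2H2WeakAssBC

/-!
# Weakly associated primes and flat base change: generalities (T1 helper4)

* `weakAss_congr`: invariance under linear equivalences.
* `mem_map_annihilator_of_flat`: annihilators of elements commute with flat base change.
* `comap_mem_minimalPrimes_of_flat`: going down for minimal primes over an extended ideal.
* `comap_mem_weakAss_of_flat_of_minimal`: a prime minimal over the annihilator of an element coming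
  from the small module contracts to a weakly associated prime (flat base change).
* `comap_mem_weakAss_of_finite_flat`: the finite flat case (helper2's lemmas, base change form).
-/
set_option autoImplicit false
universe u

namespace Groth.Agent.Lib.T1H4.WeakAssField

open TensorProduct Groth.Agent.Helper13WeakAss

theorem weakAss_congr {R : Type u} [CommRing R] {N N' : Type u} [AddCommGroup N] [Module R N]
    [AddCommGroup N'] [Module R N'] (e : N ≃ₗ[R] N') {p : Ideal R}
    (hp : p ∈ FlatCA.weakAss R N) : p ∈ FlatCA.weakAss R N' := by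
  obtain ⟨m, hm⟩ := hp
  refine ⟨e m, ?_⟩
  have : (Submodule.span R {e m}).annihilator = (Submodule.span R {m}).annihilator := by
    ext a
    rw [mem_ann_iff, mem_ann_iff, ← map_smul, LinearEquiv.map_eq_zero_iff]
  rw [this]
  exact hm

/-- Stacks 10.40.4: for a flat ring map the annihilator of an element extends to the annihilator
of its image in the base change. -/
theorem mem_map_annihilator_of_flat {S S' N N' : Type*} [CommRing S] [CommRing S'] [Algebra S S']
    [Module.Flat S S'] [AddCommGroup N] [Module S N] [AddCommGroup N'] [Module S N'] [Module S' N']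
    [IsScalarTower S S' N'] (g : N →ₗ[S] N') (hg : IsBaseChange S' g) (n : N) (s' : S')
    (h : s' • g n = 0) :
    s' ∈ Ideal.map (algebraMap S S') (Submodule.span S {n}).annihilator := by
  let φ : S →ₗ[S] N := LinearMap.toSpanSingleton S N n
  let I : Ideal S := LinearMap.ker φ
  have hI : (Submodule.span S {n}).annihilator = I := by
    ext a
    rw [Submodule.mem_annihilator_span_singleton]
    simp [I, φ, LinearMap.mem_ker, LinearMap.toSpanSingleton_apply]
  rw [hI]
  have hex : Function.Exact I.subtype φ := LinearMap.exact_subtype_ker_map φ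
  have hex' : Function.Exact (LinearMap.lTensor S' I.subtype) (LinearMap.lTensor S' φ) :=
    Module.Flat.lTensor_exact S' hex
  have h1 : LinearMap.lTensor S' φ (s' ⊗ₜ[S] (1 : S)) = 0 := by
    rw [LinearMap.lTensor_tmul]
    have : φ 1 = n := by simp [φ, LinearMap.toSpanSingleton_apply]
    rw [this]
    apply hg.equiv.injective
    rw [hg.equiv_tmul, map_zero, h]
  obtain ⟨y, hy⟩ := (hex' _).1 h1
  let μ : S' ⊗[S] S →ₗ[S] S' := (TensorProduct.rid S S').toLinearMap
  have key : ∀ y : S' ⊗[S] I, μ (LinearMap.lTensor S' I.subtype y) ∈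
      Ideal.map (algebraMap S S') I := by
    intro y
    induction y using TensorProduct.induction_on with
    | zero => simp
    | tmul a i =>
      rw [LinearMap.lTensor_tmul]
      change (TensorProduct.rid S S') (a ⊗ₜ[S] (i : S)) ∈ _
      rw [TensorProduct.rid_tmul, Algebra.smul_def]
      exact Ideal.mul_mem_right _ _ (Ideal.mem_map_of_mem _ i.2)
    | add a b ha hb =>
      rw [map_add, map_add]
      exact Ideal.add_mem _ ha hb
  have h2 : μ (s' ⊗ₜ[S] (1 : S)) = s' := by
    change (TensorProduct.rid S S') (s' ⊗ₜ[S] (1 : S)) = s'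
    rw [TensorProduct.rid_tmul, one_smul]
  rw [← h2, ← hy]
  exact key y

/-- going down: a prime minimal over an extended ideal contracts to a prime minimal over the
ideal. -/
theorem comap_mem_minimalPrimes_of_flat {S S' : Type*} [CommRing S] [CommRing S'] [Algebra S S']
    [Module.Flat S S'] (I : Ideal S) (Q : Ideal S') [hQp : Q.IsPrime]
    (hQ : Q ∈ (I.map (algebraMap S S')).minimalPrimes) :
    Q.comap (algebraMap S S') ∈ I.minimalPrimes := by
  refine ⟨⟨Ideal.comap_isPrime _ _, Ideal.le_comap_of_map_le hQ.1.2⟩, ?_⟩
  rintro p' ⟨hp', hIp'⟩ hle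
  haveI := hp'
  haveI : (Q.comap (algebraMap S S')).IsPrime := Ideal.comap_isPrime _ _
  haveI : Q.LiesOver (Q.comap (algebraMap S S')) := ⟨rfl⟩
  obtain ⟨P, hPQ, hP, hPover⟩ :=
    Ideal.exists_ideal_le_liesOver_of_le (p := p') (q := Q.comap (algebraMap S S')) Q hle
  have hp'P : P.comap (algebraMap S S') = p' := hPover.over.symm
  have hIP : I.map (algebraMap S S') ≤ P := by
    rw [Ideal.map_le_iff_le_comap, hp'P]
    exact hIp'
  have hQP : Q ≤ P := hQ.2 ⟨hP, hIP⟩ hPQ
  rw [← hp'P]
  exact Ideal.comap_mono hQP

/-- flat base change: if `Q` is minimal over the annihilator of `g n`, then the contraction of `Q`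
is minimal over the annihilator of `n`. -/
theorem comap_mem_minimalPrimes_annihilator_of_flat {S S' N N' : Type*} [CommRing S] [CommRing S']
    [Algebra S S'] [Module.Flat S S'] [AddCommGroup N] [Module S N] [AddCommGroup N'] [Module S N']
    [Module S' N'] [IsScalarTower S S' N'] (g : N →ₗ[S] N') (hg : IsBaseChange S' g) (n : N)
    (Q : Ideal S') [hQp : Q.IsPrime]
    (hQ : Q ∈ (Submodule.span S' {g n}).annihilator.minimalPrimes) :
    Q.comap (algebraMap S S') ∈ (Submodule.span S {n}).annihilator.minimalPrimes := by
  apply comap_mem_minimalPrimes_of_flat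
  have heq : (Submodule.span S' {g n}).annihilator =
      Ideal.map (algebraMap S S') (Submodule.span S {n}).annihilator := by
    apply le_antisymm
    · intro s' hs'
      rw [Submodule.mem_annihilator_span_singleton] at hs'
      exact mem_map_annihilator_of_flat g hg n s' hs'
    · rw [Ideal.map_le_iff_le_comap]
      intro a ha
      rw [Submodule.mem_annihilator_span_singleton] at ha
      rw [Ideal.mem_comap, Submodule.mem_annihilator_span_singleton, algebraMap_smul,
        ← map_smul, ha, map_zero]
  rw [← heq]
  exact hQ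

theorem comap_mem_weakAss_of_flat_of_minimal {S S' N N' : Type u} [CommRing S] [CommRing S']
    [Algebra S S'] [Module.Flat S S'] [AddCommGroup N] [Module S N] [AddCommGroup N'] [Module S N']
    [Module S' N'] [IsScalarTower S S' N'] (g : N →ₗ[S] N') (hg : IsBaseChange S' g) (n : N)
    (Q : Ideal S') [hQp : Q.IsPrime]
    (hQ : Q ∈ (Submodule.span S' {g n}).annihilator.minimalPrimes) :
    Q.comap (algebraMap S S') ∈ FlatCA.weakAss S N :=
  ⟨n, comap_mem_minimalPrimes_annihilator_of_flat g hg n Q hQ⟩

/-- the finite flat case: helper2's lemmas in base change form. -/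
theorem comap_mem_weakAss_of_finite_flat {R S M MS : Type u} [CommRing R] [CommRing S]
    [Algebra R S] [Module.Finite R S] [Module.Flat R S] [AddCommGroup M] [Module R M]
    [AddCommGroup MS] [Module S MS] [Module R MS] [IsScalarTower R S MS] (f : M →ₗ[R] MS)
    (hf : IsBaseChange S f) (Q : Ideal S) [Q.IsPrime] (hQ : Q ∈ FlatCA.weakAss S MS) :
    Q.comap (algebraMap R S) ∈ FlatCA.weakAss R M := by
  have h1 : Q.comap (algebraMap R S) ∈ FlatCA.weakAss R MS :=
    Groth.Agent.Lib.T2H2.WeakAssBC.comap_mem_weakAss_of_finite (A := R) (B := S) (N := MS) Q hQ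
  have e : MS ≃ₗ[R] S ⊗[R] M := (hf.equiv.restrictScalars R).symm
  have h2 := weakAss_congr e h1
  haveI : (Q.comap (algebraMap R S)).IsPrime := Ideal.comap_isPrime _ _
  exact Groth.Agent.Lib.T2H2.WeakAssBC.mem_weakAss_of_tensor (B := S) M _ h2

end Groth.Agent.Lib.T1H4.WeakAssField
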