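import Mathlib
import Groth.Prelude.Def_FlatCA
import Groth.Agent.Lib.Helper13WeakAss
import Groth.Agent.Lib.T2H2WeakAssBC

/-!
# Weakly associated primes of `M[X]` over `R[X]` (T1 helper4)

For any commutative ring `R`, any set of variables `σ` and any `R`-module `M`: a prime of
`R[σ]` weakly associated to `R[σ] ⊗ M` contracts to a weakly associated prime of `M`.

* `cf`: coefficients of elements of `R[σ] ⊗ M`.
* `eq_zero_of_smul_tensor_vectorSpace`: a polynomial with nonzero image over a field `κ` is a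
  nonzerodivisor on `R[σ] ⊗ V` for every `κ`-vector space `V`.
* `exists_smul_eq_zero_of_smul_eq_zero`: a polynomial outside `p R[σ]` killing `w` forces `t • w = 0`
  for some `t ∉ p` (McCoy-type statement, via Nakayama).
* `comap_C_mem_weakAss_of_mem_weakAss_poly`: the main statement.
-/
set_option autoImplicit false
universe u

namespace Groth.Agent.Lib.T1H4.WeakAssField

open TensorProduct MvPolynomial Groth.Agent.Helper13WeakAss

section Poly

variable {R : Type u} [CommRing R] (σ : Type u)

section Coeff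

variable {M M' : Type u} [AddCommGroup M] [Module R M] [AddCommGroup M'] [Module R M']

/-- `P ⊗ φ`, as a `P`-linear map. -/
noncomputable def polyMap (φ : M →ₗ[R] M') :
    MvPolynomial σ R ⊗[R] M →ₗ[MvPolynomial σ R] MvPolynomial σ R ⊗[R] M' :=
  TensorProduct.AlgebraTensorModule.map
    (LinearMap.id : MvPolynomial σ R →ₗ[MvPolynomial σ R] MvPolynomial σ R) φ

@[simp]
theorem polyMap_tmul (φ : M →ₗ[R] M') (a : MvPolynomial σ R) (m : M) :
    polyMap σ φ (a ⊗ₜ[R] m) = a ⊗ₜ[R] φ m := by
  simp [polyMap]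

theorem polyMap_eq_lTensor (φ : M →ₗ[R] M') (w : MvPolynomial σ R ⊗[R] M) :
    polyMap σ φ w = LinearMap.lTensor (MvPolynomial σ R) φ w := by
  induction w using TensorProduct.induction_on with
  | zero => simp
  | tmul a m => simp
  | add x y hx hy => rw [map_add, map_add, hx, hy]

theorem polyMap_smulR (φ : M →ₗ[R] M') (r : R) (w : MvPolynomial σ R ⊗[R] M) :
    polyMap σ φ (r • w) = r • polyMap σ φ w := by
  rw [polyMap_eq_lTensor, polyMap_eq_lTensor, map_smul]

variable (M) in
/-- the coefficient of the monomial `μ`. -/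
noncomputable def cf (μ : σ →₀ ℕ) : MvPolynomial σ R ⊗[R] M →ₗ[R] M :=
  (TensorProduct.lid R M).toLinearMap ∘ₗ LinearMap.rTensor M (MvPolynomial.lcoeff R μ)

@[simp]
theorem cf_tmul (μ : σ →₀ ℕ) (a : MvPolynomial σ R) (m : M) :
    cf σ M μ (a ⊗ₜ[R] m) = a.coeff μ • m := by
  simp [cf]

theorem cf_polyMap (φ : M →ₗ[R] M') (μ : σ →₀ ℕ) (w : MvPolynomial σ R ⊗[R] M) :
    cf σ M' μ (polyMap σ φ w) = φ (cf σ M μ w) := by
  induction w using TensorProduct.induction_on with
  | zero => simp
  | tmul a m => simp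
  | add x y hx hy => rw [map_add, map_add, map_add, map_add, hx, hy]

open Classical in
theorem coords_apply (w : MvPolynomial σ R ⊗[R] M) (μ : σ →₀ ℕ) :
    TensorProduct.equivFinsuppOfBasisLeft (MvPolynomial.basisMonomials σ R) w μ = cf σ M μ w := by
  induction w using TensorProduct.induction_on with
  | zero => simp
  | tmul a m =>
    rw [TensorProduct.equivFinsuppOfBasisLeft_apply_tmul_apply, cf_tmul]
    rfl
  | add x y hx hy => rw [map_add, map_add, Finsupp.add_apply, hx, hy]

theorem eq_zero_of_cf (w : MvPolynomial σ R ⊗[R] M) (h : ∀ μ, cf σ M μ w = 0) : w = 0 := by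
  classical
  apply (TensorProduct.equivFinsuppOfBasisLeft (MvPolynomial.basisMonomials σ R)).injective
  rw [map_zero]
  ext μ
  rw [coords_apply, h μ, Finsupp.zero_apply]

theorem finite_cf_support (w : MvPolynomial σ R ⊗[R] M) : {μ | cf σ M μ w ≠ 0}.Finite := by
  classical
  refine (TensorProduct.equivFinsuppOfBasisLeft (MvPolynomial.basisMonomials σ R)
    w).support.finite_toSet.subset ?_
  intro μ hμ
  rw [Finset.mem_coe, Finsupp.mem_support_iff, coords_apply]
  exact hμ

theorem C_smul_eq (r : R) (w : MvPolynomial σ R ⊗[R] M) :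
    (C r : MvPolynomial σ R) • w = r • w := by
  rw [← MvPolynomial.algebraMap_eq, algebraMap_smul]

end Coeff

section Field

variable {κ : Type u} [Field κ] [Algebra R κ]

/-- comparison map `P ⊗ κ → κ[σ]`. -/
noncomputable def toPolyField : MvPolynomial σ R ⊗[R] κ ≃ₗ[R] MvPolynomial σ κ :=
  (TensorProduct.comm R (MvPolynomial σ R) κ) ≪≫ₗ
    ((MvPolynomial.algebraTensorAlgEquiv (σ := σ) R κ).toLinearEquiv.restrictScalars R)

theorem toPolyField_tmul (a : MvPolynomial σ R) (c : κ) :
    toPolyField σ (a ⊗ₜ[R] c) = c • MvPolynomial.map (algebraMap R κ) a := by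
  simp [toPolyField]

theorem toPolyField_smul (g : MvPolynomial σ R) (x : MvPolynomial σ R ⊗[R] κ) :
    toPolyField σ (g • x) = MvPolynomial.map (algebraMap R κ) g * toPolyField σ x := by
  induction x using TensorProduct.induction_on with
  | zero => simp
  | tmul a c =>
    rw [TensorProduct.smul_tmul', smul_eq_mul, toPolyField_tmul, toPolyField_tmul, map_mul,
      mul_smul_comm]
  | add x y hx hy => rw [smul_add, map_add, map_add, hx, hy, mul_add]

theorem eq_zero_of_smul_tensor_field (g : MvPolynomial σ R)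
    (hg : MvPolynomial.map (algebraMap R κ) g ≠ 0) (x : MvPolynomial σ R ⊗[R] κ)
    (hx : g • x = 0) : x = 0 := by
  have h := toPolyField_smul σ g x
  rw [hx, map_zero] at h
  rcases mul_eq_zero.1 h.symm with h0 | h0
  · exact absurd h0 hg
  · exact (toPolyField σ (κ := κ)).injective (by rw [h0, map_zero])

theorem eq_zero_of_smul_tensor_vectorSpace (V : Type u) [AddCommGroup V] [Module κ V] [Module R V]
    [IsScalarTower R κ V] (g : MvPolynomial σ R)
    (hg : MvPolynomial.map (algebraMap R κ) g ≠ 0) (v : MvPolynomial σ R ⊗[R] V)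
    (hv : g • v = 0) : v = 0 := by
  classical
  let β := Module.Free.ChooseBasisIndex κ V
  let b : Module.Basis β κ V := Module.Free.chooseBasis κ V
  let e1 : V ≃ₗ[R] (β →₀ κ) := b.repr.restrictScalars R
  let E : MvPolynomial σ R ⊗[R] V ≃ₗ[MvPolynomial σ R] (β →₀ (MvPolynomial σ R ⊗[R] κ)) :=
    (TensorProduct.AlgebraTensorModule.congr
      (LinearEquiv.refl (MvPolynomial σ R) (MvPolynomial σ R)) e1) ≪≫ₗ
      TensorProduct.finsuppRight R (MvPolynomial σ R) (MvPolynomial σ R) κ β
  apply E.injective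
  rw [map_zero]
  ext i : 1
  rw [Finsupp.zero_apply]
  apply eq_zero_of_smul_tensor_field σ g hg
  have : g • E v = 0 := by rw [← map_smul, hv, map_zero]
  have h2 := congrArg (fun f => f i) this
  simpa using h2

end Field

section Main

variable (M : Type u) [AddCommGroup M] [Module R M]

/-- McCoy-type statement: if `g ∉ p R[σ]` kills `w ∈ M[σ]`, then some `t ∉ p` kills `w`. -/
theorem exists_smul_eq_zero_of_smul_eq_zero (p : Ideal R) [hp : p.IsPrime] (g : MvPolynomial σ R)
    (hg : g ∉ Ideal.map (C : R →+* MvPolynomial σ R) p) (w : MvPolynomial σ R ⊗[R] M)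
    (hw : g • w = 0) : ∃ t : R, t ∉ p ∧ t • w = 0 := by
  classical
  let κ := p.ResidueField
  have hgκ : MvPolynomial.map (algebraMap R κ) g ≠ 0 := by
    intro h
    apply hg
    rw [MvPolynomial.mem_map_C_iff]
    intro m
    have h1 := congrArg (MvPolynomial.coeff m) h
    rw [MvPolynomial.coeff_map, MvPolynomial.coeff_zero] at h1
    rw [← Ideal.ker_algebraMap_residueField p]
    exact h1
  -- the finite submodule generated by the coefficients
  let S : Finset M := (finite_cf_support σ w).toFinset.image (fun μ => cf σ M μ w)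
  let N : Submodule R M := Submodule.span R (S : Set M)
  have hcN : ∀ μ, cf σ M μ w ∈ N := by
    intro μ
    by_cases h0 : cf σ M μ w = 0
    · rw [h0]; exact N.zero_mem
    · apply Submodule.subset_span
      rw [Finset.mem_coe, Finset.mem_image]
      exact ⟨μ, (Set.Finite.mem_toFinset _).2 h0, rfl⟩
  haveI : Module.Finite R N := Module.Finite.iff_fg.2 (Submodule.fg_span (Finset.finite_toSet S))
  -- `w` comes from `P ⊗ N`
  have hq : polyMap σ N.mkQ w = 0 := by
    apply eq_zero_of_cf
    intro μ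
    rw [cf_polyMap, Submodule.mkQ_apply, Submodule.Quotient.mk_eq_zero]
    exact hcN μ
  have hex : Function.Exact (LinearMap.lTensor (MvPolynomial σ R) N.subtype)
      (LinearMap.lTensor (MvPolynomial σ R) N.mkQ) :=
    lTensor_exact (MvPolynomial σ R) (LinearMap.exact_subtype_mkQ N) N.mkQ_surjective
  rw [polyMap_eq_lTensor] at hq
  obtain ⟨wN, hwN⟩ := (hex w).1 hq
  rw [← polyMap_eq_lTensor] at hwN
  have hinj : Function.Injective (polyMap σ N.subtype) := by
    intro a b hab
    rw [polyMap_eq_lTensor, polyMap_eq_lTensor] at hab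
    exact Module.Flat.lTensor_preserves_injective_linearMap N.subtype N.injective_subtype hab
  have hgwN : g • wN = 0 := by
    apply hinj
    rw [map_smul, hwN, hw, map_zero]
  have hcfN : ∀ μ, ((cf σ N μ wN : N) : M) = cf σ M μ w := by
    intro μ
    rw [← hwN, cf_polyMap]
    rfl
  -- pass to the residue field
  let V := κ ⊗[R] N
  let φ : N →ₗ[R] V := TensorProduct.mk R κ N 1
  have hv : polyMap σ φ wN = 0 := by
    apply eq_zero_of_smul_tensor_vectorSpace σ (κ := κ) V g hgκ
    rw [← map_smul, hgwN, map_zero]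
  have hφc : ∀ μ, φ (cf σ N μ wN) = 0 := by
    intro μ
    rw [← cf_polyMap, hv, map_zero]
  have hφ : ∀ (n : M) (hn : n ∈ N), φ ⟨n, hn⟩ = 0 := by
    intro n hn
    induction hn using Submodule.span_induction with
    | mem s hs =>
      rw [Finset.mem_coe, Finset.mem_image] at hs
      obtain ⟨μ, -, rfl⟩ := hs
      have : (⟨cf σ M μ w, Submodule.subset_span hs⟩ : N) = cf σ N μ wN :=
        Subtype.ext (hcfN μ).symm
      rw [this]
      exact hφc μ
    | zero => exact map_zero φ
    | add x y hx hy hx' hy' =>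
      have : (⟨x + y, N.add_mem hx hy⟩ : N) = ⟨x, hx⟩ + ⟨y, hy⟩ := rfl
      rw [this, map_add, hx', hy', add_zero]
    | smul a x hx hx' =>
      have : (⟨a • x, N.smul_mem a hx⟩ : N) = a • ⟨x, hx⟩ := rfl
      rw [this, map_smul, hx', smul_zero]
  have hV : Subsingleton V := by
    refine ⟨fun a b => ?_⟩
    have h0 : ∀ x : V, x = 0 := by
      intro x
      induction x using TensorProduct.induction_on with
      | zero => rfl
      | tmul c n =>
        have : c ⊗ₜ[R] n = c • φ n := by
          change c ⊗ₜ[R] n = c • ((1 : κ) ⊗ₜ[R] n)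
          rw [TensorProduct.smul_tmul', smul_eq_mul, mul_one]
        rw [this, hφ n.1 n.2, smul_zero]
      | add x y hx hy => rw [hx, hy, add_zero]
    rw [h0 a, h0 b]
  have hsupp : (⟨p, hp⟩ : PrimeSpectrum R) ∉ Module.support R N := by
    rw [Module.mem_support_iff_nontrivial_residueField_tensorProduct, not_nontrivial_iff_subsingleton]
    exact hV
  rw [Module.mem_support_iff_of_finite] at hsupp
  obtain ⟨t, htN, htp⟩ := SetLike.not_le_iff_exists.1 hsupp
  refine ⟨t, htp, ?_⟩
  have h1 : t • wN = 0 := by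
    apply eq_zero_of_cf
    intro μ
    rw [map_smul]
    exact Module.mem_annihilator.1 htN _
  rw [← hwN, ← polyMap_smulR, h1, map_zero]

/-- a prime of `R[σ]` weakly associated to `M[σ]` contracts to a weakly associated prime of `M`. -/
theorem comap_C_mem_weakAss_of_mem_weakAss_poly (Q : Ideal (MvPolynomial σ R)) [hQp : Q.IsPrime]
    (hQ : Q ∈ FlatCA.weakAss (MvPolynomial σ R) (MvPolynomial σ R ⊗[R] M)) :
    Q.comap (C : R →+* MvPolynomial σ R) ∈ FlatCA.weakAss R M := by
  classical
  obtain ⟨z, hz⟩ := hQ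
  set p : Ideal R := Q.comap (C : R →+* MvPolynomial σ R) with hp
  haveI hpp : p.IsPrime := Ideal.comap_isPrime _ _
  have hCt : ∀ t : R, t ∉ p → (C t : MvPolynomial σ R) ∉ Q := fun t ht h => ht h
  have hann : ∀ a : MvPolynomial σ R, a • z = 0 → a ∈ Q := fun a ha =>
    hz.1.2 ((mem_ann_iff z a).2 ha)
  have hmapQ : Ideal.map (C : R →+* MvPolynomial σ R) p ≤ Q := Ideal.map_comap_le
  -- step 2: `Q = p R[σ]`
  have hstep : ∀ g : MvPolynomial σ R, g ∉ Ideal.map (C : R →+* MvPolynomial σ R) p →
      ∀ (n : ℕ) (s : MvPolynomial σ R), s ∉ Q → (s * g ^ n) • z = 0 → False := by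
    intro g hg n
    induction n with
    | zero =>
      intro s hs h
      rw [pow_zero, mul_one] at h
      exact hs (hann s h)
    | succ n ih =>
      intro s hs h
      have h1 : g • ((s * g ^ n) • z) = 0 := by
        rw [← mul_smul, ← h]
        congr 1
        ring
      obtain ⟨t, ht, ht0⟩ := exists_smul_eq_zero_of_smul_eq_zero σ M p g hg _ h1
      rw [← C_smul_eq, ← mul_smul, ← mul_assoc] at ht0
      exact ih (C t * s) (fun hmem => (hQp.mem_or_mem hmem).elim (hCt t ht) hs) ht0
  have hQsub : ∀ g ∈ Q, g ∈ Ideal.map (C : R →+* MvPolynomial σ R) p := by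
    intro g hg
    by_contra hgp
    obtain ⟨s, hs, n, hn⟩ := exists_notMem_mul_pow_mem hz hg
    exact hstep g hgp n s hs ((mem_ann_iff z _).1 hn)
  -- step 3
  have hnil : ∀ a ∈ p, ∃ (n : ℕ) (t : R), t ∉ p ∧ (t * a ^ n) • z = 0 := by
    intro a ha
    have haQ : (C a : MvPolynomial σ R) ∈ Q := ha
    obtain ⟨s, hs, n, hn⟩ := exists_notMem_mul_pow_mem hz haQ
    have h1 : s • ((C a : MvPolynomial σ R) ^ n • z) = 0 := by
      rw [← mul_smul]
      exact (mem_ann_iff z _).1 hn
    have hs' : s ∉ Ideal.map (C : R →+* MvPolynomial σ R) p := fun h => hs (hmapQ h)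
    obtain ⟨t, ht, ht0⟩ := exists_smul_eq_zero_of_smul_eq_zero σ M p s hs' _ h1
    refine ⟨n, t, ht, ?_⟩
    rw [mul_smul, ← C_smul_eq σ (a ^ n) z, map_pow]
    exact ht0
  -- step 4: a coefficient with annihilator in `p`
  have hex : ∃ μ₀, ∀ c : R, c • cf σ M μ₀ z = 0 → c ∈ p := by
    by_contra hcon
    push Not at hcon
    choose c hc hcp using hcon
    let T : Finset (σ →₀ ℕ) := (finite_cf_support σ z).toFinset
    let t : R := ∏ μ ∈ T, c μ
    have htp : t ∉ p := by
      intro h
      obtain ⟨μ, -, hμ⟩ := (Ideal.IsPrime.prod_mem_iff (hp := hpp)).1 h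
      exact hcp μ hμ
    have htz : t • z = 0 := by
      apply eq_zero_of_cf
      intro μ
      rw [map_smul]
      by_cases h0 : cf σ M μ z = 0
      · rw [h0, smul_zero]
      · have hμT : μ ∈ T := (Set.Finite.mem_toFinset _).2 h0
        have : t = (∏ ν ∈ T.erase μ, c ν) * c μ := by
          rw [Finset.prod_erase_mul T c hμT]
        rw [this, mul_smul, hc μ, smul_zero]
    apply htp
    have : (C t : MvPolynomial σ R) ∈ Q := hann _ (by rw [C_smul_eq]; exact htz)
    exact this
  obtain ⟨μ₀, hμ₀⟩ := hex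
  refine Groth.Agent.Lib.T2H2.WeakAssBC.mem_weakAss_of_witness p (cf σ M μ₀ z) hμ₀ ?_
  intro a ha
  obtain ⟨n, t, ht, htz⟩ := hnil a ha
  refine ⟨n, t, ht, ?_⟩
  rw [← map_smul, htz, map_zero]

end Main

end Poly

end Groth.Agent.Lib.T1H4.WeakAssField
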