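import Mathlib
import Groth.Prelude.Def_FlatCA
import Groth.Agent.Lib.Helper13WeakAss

/-!
# Weakly associated primes and localization, flexible form (T2 helper2)
-/
set_option autoImplicit false
universe u

namespace Groth.Agent.Lib.T2H2.WeakAssLoc

open TensorProduct Groth.Agent.Helper13WeakAss

section LocUp

variable {C D : Type u} [CommRing C] [CommRing D] [Algebra C D] (S : Submonoid C)
  [IsLocalization S D] {N N' : Type u} [AddCommGroup N] [Module C N] [AddCommGroup N']
  [Module C N'] [Module D N'] [IsScalarTower C D N'] (j : N →ₗ[C] N') [IsLocalizedModule S j]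

include S in
theorem disjoint_comap (Q : Ideal D) [hQ : Q.IsPrime] :
    Disjoint (S : Set C) (Q.comap (algebraMap C D) : Set C) := by
  rw [Set.disjoint_left]
  intro s hs hsQ
  exact hQ.ne_top (Ideal.eq_top_of_isUnit_mem _ hsQ (IsLocalization.map_units D ⟨s, hs⟩))

/-- an element of `D` killing `j x` has a numerator killing `x` up to an element of `S`. -/
theorem exists_mul_smul_eq_zero (x : N) (c : C) (s : S)
    (h : (IsLocalization.mk' D c s) • j x = 0) : ∃ s' : S, ((s' : C) * c) • x = 0 := by
  have h1 : j (c • x) = 0 := by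
    rw [map_smul, ← algebraMap_smul D c (j x), ← IsLocalization.mk'_spec D c s, mul_smul, smul_comm,
      h, smul_zero]
  obtain ⟨s', hs'⟩ := (IsLocalizedModule.eq_zero_iff S j).1 h1
  exact ⟨s', by rw [mul_smul]; exact hs'⟩

include S j in
theorem mem_weakAss_iff_comap (Q : Ideal D) [hQ : Q.IsPrime] :
    Q ∈ FlatCA.weakAss D N' ↔ Q.comap (algebraMap C D) ∈ FlatCA.weakAss C N := by
  have hdisjQ := disjoint_comap S Q
  have hnotmem : ∀ s : S, algebraMap C D s ∉ Q := fun s hs =>
    hQ.ne_top (Ideal.eq_top_of_isUnit_mem _ hs (IsLocalization.map_units D s))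
  constructor
  · rintro ⟨x', hx'⟩
    obtain ⟨⟨x, s⟩, hxs⟩ := IsLocalizedModule.surj S j x'
    simp only at hxs
    -- replace `x'` by `j x`
    have hann : (Submodule.span D {x'}).annihilator = (Submodule.span D {j x}).annihilator := by
      ext d
      rw [mem_ann_iff, mem_ann_iff, ← hxs]
      constructor
      · intro h
        rw [smul_comm, h, smul_zero]
      · intro h
        rw [smul_comm] at h
        exact IsLocalizedModule.smul_injective j s (by simpa using h)
    rw [hann] at hx'
    refine ⟨x, ⟨inferInstance, ?_⟩, ?_⟩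
    · intro c hc
      apply hx'.1.2
      rw [mem_ann_iff, algebraMap_smul, ← map_smul, (mem_ann_iff x c).1 hc, map_zero]
    · rintro q' ⟨hq', hq'le⟩ hq'q
      have hdisj : Disjoint (S : Set C) (q' : Set C) :=
        Set.disjoint_of_subset_right hq'q hdisjQ
      have hprime : (q'.map (algebraMap C D)).IsPrime :=
        IsLocalization.isPrime_of_isPrime_disjoint S D q' hq' hdisj
      have hcomap : (q'.map (algebraMap C D)).comap (algebraMap C D) = q' :=
        IsLocalization.under_map_of_isPrime_disjoint S D hq' hdisj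
      have hle : (Submodule.span D {j x}).annihilator ≤ q'.map (algebraMap C D) := by
        intro d hd
        obtain ⟨c, s', rfl⟩ := IsLocalization.exists_mk'_eq S d
        obtain ⟨s'', hs''⟩ := exists_mul_smul_eq_zero S j x c s' ((mem_ann_iff _ _).1 hd)
        rw [IsLocalization.mk'_mem_map_algebraMap_iff]
        exact ⟨s'', s''.2, hq'le ((mem_ann_iff x _).2 hs'')⟩
      have hle2 : q'.map (algebraMap C D) ≤ Q :=
        (Ideal.map_mono hq'q).trans Ideal.map_comap_le
      have := hx'.2 ⟨hprime, hle⟩ hle2
      calc Q.comap (algebraMap C D) ≤ (q'.map (algebraMap C D)).comap (algebraMap C D) :=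
            Ideal.comap_mono this
        _ = q' := hcomap
  · rintro ⟨x, hx⟩
    refine ⟨j x, ⟨hQ, ?_⟩, ?_⟩
    · intro d hd
      obtain ⟨c, s', rfl⟩ := IsLocalization.exists_mk'_eq S d
      obtain ⟨s'', hs''⟩ := exists_mul_smul_eq_zero S j x c s' ((mem_ann_iff _ _).1 hd)
      have h1 : (s'' : C) * c ∈ Q.comap (algebraMap C D) := hx.1.2 ((mem_ann_iff x _).2 hs'')
      have hc : c ∈ Q.comap (algebraMap C D) := by
        rcases (Ideal.comap_isPrime (algebraMap C D) Q).mem_or_mem h1 with h | h
        · exact absurd h (hnotmem s'')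
        · exact h
      have h2 : IsLocalization.mk' D c s' * algebraMap C D s' ∈ Q := by
        rw [IsLocalization.mk'_spec]; exact hc
      rcases hQ.mem_or_mem h2 with h | h
      · exact h
      · exact absurd h (hnotmem s')
    · rintro Q' ⟨hQ', hQ'le⟩ hQ'Q
      have h1 : (Submodule.span C {x}).annihilator ≤ Q'.comap (algebraMap C D) := by
        intro c hc
        apply hQ'le
        rw [mem_ann_iff, algebraMap_smul, ← map_smul, (mem_ann_iff x c).1 hc, map_zero]
      have h2 := hx.2 ⟨Ideal.comap_isPrime (algebraMap C D) Q', h1⟩ (Ideal.comap_mono hQ'Q)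
      intro d hd
      obtain ⟨c, s', rfl⟩ := IsLocalization.exists_mk'_eq S d
      have hc : algebraMap C D c ∈ Q := by
        rw [← IsLocalization.mk'_spec D c s']
        exact Q.mul_mem_right _ hd
      have hc' : algebraMap C D c ∈ Q' := h2 hc
      rw [← IsLocalization.mk'_spec D c s'] at hc'
      rcases hQ'.mem_or_mem hc' with h | h
      · exact h
      · exact absurd (hQ'Q h) (hnotmem s')

end LocUp

section TensLoc

variable {A C D : Type u} [CommRing A] [CommRing C] [CommRing D] [Algebra A C] [Algebra A D]
  [Algebra C D] [IsScalarTower A C D] (S : Submonoid C) [IsLocalization S D]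
  (M : Type u) [AddCommGroup M] [Module A M]

/-- the `C`-linear map `C ⊗ M → D ⊗ M`. -/
noncomputable def tensMap : C ⊗[A] M →ₗ[C] D ⊗[A] M :=
  TensorProduct.AlgebraTensorModule.map (Algebra.linearMap C D) (LinearMap.id : M →ₗ[A] M)

@[simp]
theorem tensMap_tmul (c : C) (m : M) :
    tensMap (A := A) (D := D) M (c ⊗ₜ[A] m) = algebraMap C D c ⊗ₜ[A] m := by
  simp [tensMap]

instance isLocalizedModule_tensMap : IsLocalizedModule S (tensMap (A := A) (D := D) M) := by
  rw [isLocalizedModule_iff_isBaseChange S D]
  refine IsBaseChange.of_equiv (TensorProduct.AlgebraTensorModule.cancelBaseChange A C D D M) ?_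
  intro x
  induction x using TensorProduct.induction_on with
  | zero => simp
  | tmul c m =>
    rw [TensorProduct.AlgebraTensorModule.cancelBaseChange_tmul, tensMap_tmul, Algebra.smul_def,
      mul_one]
  | add x y hx hy =>
    rw [TensorProduct.tmul_add, map_add, map_add, hx, hy]

end TensLoc

end Groth.Agent.Lib.T2H2.WeakAssLoc
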