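import Mathlib
import Groth.Prelude.Def_FlatCA
import Groth.Agent.Lib.Helper13WeakAss
import Groth.Agent.Lib.T2H2WeakAssBC
import Groth.Agent.Lib.T2H2WeakAssLoc
import Groth.Agent.Lib.T1H4WeakAssFieldA
import Groth.Agent.Lib.T1H4WeakAssFieldB

/-!
# Weakly associated primes and base change of the ground field (T1 helper4)

Stacks 0CUB: for a field extension `K/k`, a `k`-algebra `R` and an `R`-module `M`, a prime of
`R_K` weakly associated to `M_K` contracts to a weakly associated prime of `M`.

* `Desc k K`: the statement for the extension `K/k`.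
* `desc_of_finite`: finite extensions.
* `desc_of_transcendental`: purely transcendental extensions.
-/
set_option autoImplicit false
universe u

namespace Groth.Agent.Lib.T1H4.WeakAssField

open TensorProduct Groth.Agent.Helper13WeakAss

/-- the descent statement for weakly associated primes along the field extension `K/k`. -/
def Desc (k K : Type u) [Field k] [Field K] [Algebra k K] : Prop :=
  ∀ (R : Type u) [CommRing R] [Algebra k R] (RK : Type u) [CommRing RK] [Algebra k RK]
    [Algebra K RK] [Algebra R RK] [IsScalarTower k K RK] [IsScalarTower k R RK]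
    [Algebra.IsPushout k K R RK] (M : Type u) [AddCommGroup M] [Module R M] (MK : Type u)
    [AddCommGroup MK] [Module RK MK] [Module R MK] [IsScalarTower R RK MK] (f : M →ₗ[R] MK)
    (_ : IsBaseChange RK f) (q : Ideal RK) [q.IsPrime] (_ : q ∈ FlatCA.weakAss RK MK),
    q.comap (algebraMap R RK) ∈ FlatCA.weakAss R M

theorem desc_of_finite (k K : Type u) [Field k] [Field K] [Algebra k K] [FiniteDimensional k K] :
    Desc k K := by
  intro R _ _ RK _ _ _ _ _ _ hpo M _ _ MK _ _ _ _ f hf q _ hq
  have hpo' : Algebra.IsPushout k R K RK := hpo.symm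
  have e : R ⊗[k] K ≃ₗ[R] RK := hpo'.out.equiv
  haveI : Module.Finite R RK := Module.Finite.equiv e
  haveI : Module.Flat R RK := Module.Flat.isBaseChange (R := k) (S := R) (M := K) RK hpo'.out
  exact comap_mem_weakAss_of_finite_flat f hf q hq

section Transcendental

attribute [local instance] MvPolynomial.algebraMvPolynomial

theorem desc_of_transcendental {k K : Type u} [Field k] [Field K] [Algebra k K] {ι : Type u}
    (x : ι → K) (hx : AlgebraicIndependent k x)
    (hgen : ∀ c : K, ∃ a b : MvPolynomial ι k,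
      c = MvPolynomial.aeval x a / MvPolynomial.aeval x b) : Desc k K := by
  intro R _ _ RK _ _ _ _ _ _ hpo M _ _ MK _ _ _ _ f hf q _ hq
  -- the fraction field structure
  letI algA₀K : Algebra (MvPolynomial ι k) K :=
    (MvPolynomial.aeval x : MvPolynomial ι k →ₐ[k] K).toRingHom.toAlgebra
  have hA₀K : ∀ a : MvPolynomial ι k, algebraMap (MvPolynomial ι k) K a = MvPolynomial.aeval x a :=
    fun _ => rfl
  haveI : IsScalarTower k (MvPolynomial ι k) K :=
    IsScalarTower.of_algebraMap_eq (fun c => by
      rw [hA₀K, MvPolynomial.algebraMap_eq, MvPolynomial.aeval_C])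
  haveI : FaithfulSMul (MvPolynomial ι k) K :=
    (faithfulSMul_iff_algebraMap_injective _ _).2 (algebraicIndependent_iff_injective_aeval.1 hx)
  haveI : IsFractionRing (MvPolynomial ι k) K := IsFractionRing.of_field _ _ hgen
  -- `RK` as an algebra over the polynomial rings
  letI algPRK : Algebra (MvPolynomial ι R) RK :=
    (MvPolynomial.aeval (fun i => algebraMap K RK (x i)) : MvPolynomial ι R →ₐ[R] RK).toRingHom.toAlgebra
  have hPRK : ∀ a : MvPolynomial ι R, algebraMap (MvPolynomial ι R) RK a =
      MvPolynomial.aeval (fun i => algebraMap K RK (x i)) a := fun _ => rfl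
  letI algA₀RK : Algebra (MvPolynomial ι k) RK :=
    ((algebraMap K RK).comp (algebraMap (MvPolynomial ι k) K)).toAlgebra
  haveI : IsScalarTower (MvPolynomial ι k) K RK := IsScalarTower.of_algebraMap_eq (fun _ => rfl)
  haveI : IsScalarTower R (MvPolynomial ι R) RK :=
    IsScalarTower.of_algebraMap_eq (fun r => by
      rw [hPRK, MvPolynomial.algebraMap_eq, MvPolynomial.aeval_C])
  haveI : IsScalarTower k (MvPolynomial ι R) RK :=
    IsScalarTower.of_algebraMap_eq (fun c => by
      rw [IsScalarTower.algebraMap_apply k R RK, IsScalarTower.algebraMap_apply R (MvPolynomial ι R) RK,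
        ← IsScalarTower.algebraMap_apply k R (MvPolynomial ι R)])
  haveI : IsScalarTower (MvPolynomial ι k) (MvPolynomial ι R) RK :=
    IsScalarTower.of_algebraMap_eq (fun a => by
      change algebraMap K RK (MvPolynomial.aeval x a) =
        MvPolynomial.aeval (fun i => algebraMap K RK (x i)) (MvPolynomial.map (algebraMap k R) a)
      induction a using MvPolynomial.induction_on with
      | C c =>
        rw [MvPolynomial.aeval_C, MvPolynomial.map_C, MvPolynomial.aeval_C,
          ← IsScalarTower.algebraMap_apply, ← IsScalarTower.algebraMap_apply]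
      | add a b ha hb => rw [map_add, map_add, map_add, map_add, ha, hb]
      | mul_X a i ha =>
        rw [map_mul, map_mul, map_mul, map_mul, ha, MvPolynomial.aeval_X, MvPolynomial.map_X,
          MvPolynomial.aeval_X])
  have hpo2 : Algebra.IsPushout (MvPolynomial ι k) K (MvPolynomial ι R) RK :=
    (Algebra.IsPushout.comp_iff k (MvPolynomial ι k) R (MvPolynomial ι R) (T := K) (T' := RK)).1 hpo
  have hpo3 : Algebra.IsPushout (MvPolynomial ι k) (MvPolynomial ι R) K RK := hpo2.symm
  let S : Submonoid (MvPolynomial ι R) :=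
    Algebra.algebraMapSubmonoid (MvPolynomial ι R) (nonZeroDivisors (MvPolynomial ι k))
  haveI hloc : IsLocalization S RK :=
    (Algebra.isLocalization_iff_isPushout (nonZeroDivisors (MvPolynomial ι k)) K).2 hpo3
  -- the module side
  letI modPMK : Module (MvPolynomial ι R) MK := Module.compHom MK (algebraMap (MvPolynomial ι R) RK)
  haveI : IsScalarTower (MvPolynomial ι R) RK MK := ⟨fun a b y => by
    change (a • b) • y = algebraMap (MvPolynomial ι R) RK a • (b • y)
    rw [Algebra.smul_def, mul_smul]⟩
  haveI : IsScalarTower R (MvPolynomial ι R) MK := ⟨fun r a y => by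
    change algebraMap (MvPolynomial ι R) RK (r • a) • y = r • (algebraMap (MvPolynomial ι R) RK a • y)
    rw [Algebra.smul_def, map_mul, mul_smul, ← IsScalarTower.algebraMap_apply, algebraMap_smul]⟩
  let g : MvPolynomial ι R ⊗[R] M →ₗ[MvPolynomial ι R] MK :=
    (TensorProduct.isBaseChange R M (MvPolynomial ι R)).lift f
  have hg : IsBaseChange RK g := by
    refine IsBaseChange.of_comp (TensorProduct.isBaseChange R M (MvPolynomial ι R)) ?_
    rw [IsBaseChange.lift_comp]
    exact hf
  haveI : IsLocalizedModule S g := (isLocalizedModule_iff_isBaseChange S RK g).2 hg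
  have h1 : q.comap (algebraMap (MvPolynomial ι R) RK) ∈
      FlatCA.weakAss (MvPolynomial ι R) (MvPolynomial ι R ⊗[R] M) :=
    (Groth.Agent.Lib.T2H2.WeakAssLoc.mem_weakAss_iff_comap S g q).1 hq
  haveI : (q.comap (algebraMap (MvPolynomial ι R) RK)).IsPrime := Ideal.comap_isPrime _ _
  have h2 := comap_C_mem_weakAss_of_mem_weakAss_poly ι M _ h1
  have h3 : (q.comap (algebraMap (MvPolynomial ι R) RK)).comap
      (MvPolynomial.C : R →+* MvPolynomial ι R) = q.comap (algebraMap R RK) := by
    ext r
    rw [Ideal.mem_comap, Ideal.mem_comap, Ideal.mem_comap, ← MvPolynomial.algebraMap_eq,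
      ← IsScalarTower.algebraMap_apply]
  rw [← h3]
  exact h2

end Transcendental

section Tower

attribute [local instance] Algebra.TensorProduct.rightAlgebra

variable {k L K : Type u} [Field k] [Field L] [Field K] [Algebra k L] [Algebra L K] [Algebra k K]
  [IsScalarTower k L K]
variable {R : Type u} [CommRing R] [Algebra k R] {RK : Type u} [CommRing RK] [Algebra k RK]
  [Algebra K RK] [Algebra R RK] [IsScalarTower k K RK] [IsScalarTower k R RK]

variable (k L K R RK) in
/-- the canonical map `L ⊗ R → R_K` for an intermediate field `L`. -/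
noncomputable def towerHom : L ⊗[k] R →ₐ[k] RK :=
  Algebra.TensorProduct.lift ((IsScalarTower.toAlgHom k K RK).comp (IsScalarTower.toAlgHom k L K))
    (IsScalarTower.toAlgHom k R RK) (fun _ _ => Commute.all _ _)

theorem towerHom_tmul (c : L) (r : R) :
    towerHom k L K R RK (c ⊗ₜ[k] r) = algebraMap K RK (algebraMap L K c) * algebraMap R RK r := by
  simp [towerHom]

variable {M MK : Type u} [AddCommGroup M] [Module R M] [AddCommGroup MK] [Module RK MK]
  [Module R MK] [IsScalarTower R RK MK]

/-- the intermediate level `R_L = L ⊗ R`, `M_L = R_L ⊗ M` of a tower `k ⊆ L ⊆ K`. -/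
theorem tower_package [Algebra.IsPushout k K R RK] (f : M →ₗ[R] MK) (hf : IsBaseChange RK f) :
    ∃ g : (L ⊗[k] R) ⊗[R] M →+ MK,
      (∀ (c : L) (m : M), g ((c ⊗ₜ[k] (1 : R)) ⊗ₜ[R] m) =
        algebraMap K RK (algebraMap L K c) • f m) ∧
      (Desc k L → ∀ (q : Ideal RK) [q.IsPrime],
        (q.comap (towerHom k L K R RK).toRingHom) ∈
          FlatCA.weakAss (L ⊗[k] R) ((L ⊗[k] R) ⊗[R] M) →
        q.comap (algebraMap R RK) ∈ FlatCA.weakAss R M) ∧
      (Desc L K → ∀ (q : Ideal RK) [q.IsPrime], q ∈ FlatCA.weakAss RK MK →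
        (q.comap (towerHom k L K R RK).toRingHom) ∈
          FlatCA.weakAss (L ⊗[k] R) ((L ⊗[k] R) ⊗[R] M)) ∧
      (∀ (z' : (L ⊗[k] R) ⊗[R] M) (q : Ideal RK) [q.IsPrime],
        q ∈ (Submodule.span RK {g z'}).annihilator.minimalPrimes →
        (q.comap (towerHom k L K R RK).toRingHom) ∈
          FlatCA.weakAss (L ⊗[k] R) ((L ⊗[k] R) ⊗[R] M)) := by
  letI algLRK : Algebra L RK := ((algebraMap K RK).comp (algebraMap L K)).toAlgebra
  haveI : IsScalarTower L K RK := IsScalarTower.of_algebraMap_eq (fun _ => rfl)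
  haveI : IsScalarTower k L RK := IsScalarTower.of_algebraMap_eq (fun c => by
    rw [IsScalarTower.algebraMap_apply k K RK, IsScalarTower.algebraMap_apply k L K]
    rfl)
  letI algRLRK : Algebra (L ⊗[k] R) RK := (towerHom k L K R RK).toRingHom.toAlgebra
  have hRL : ∀ s, algebraMap (L ⊗[k] R) RK s = towerHom k L K R RK s := fun _ => rfl
  haveI : IsScalarTower L (L ⊗[k] R) RK := IsScalarTower.of_algebraMap_eq (fun c => by
    rw [hRL, Algebra.TensorProduct.algebraMap_apply, towerHom_tmul, map_one, mul_one]
    rfl)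
  haveI : IsScalarTower R (L ⊗[k] R) RK := IsScalarTower.of_algebraMap_eq (fun r => by
    rw [hRL]
    change _ = towerHom k L K R RK ((1 : L) ⊗ₜ[k] r)
    rw [towerHom_tmul, map_one, map_one, one_mul])
  haveI : IsScalarTower k (L ⊗[k] R) RK := IsScalarTower.of_algebraMap_eq (fun c => by
    rw [hRL]
    exact ((towerHom k L K R RK).commutes c).symm)
  have hpo2 : Algebra.IsPushout L K (L ⊗[k] R) RK :=
    (Algebra.IsPushout.comp_iff k L R (L ⊗[k] R) (T := K) (T' := RK)).1 inferInstance
  letI modRLMK : Module (L ⊗[k] R) MK := Module.compHom MK (algebraMap (L ⊗[k] R) RK)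
  haveI : IsScalarTower (L ⊗[k] R) RK MK := ⟨fun a b y => by
    change (a • b) • y = algebraMap (L ⊗[k] R) RK a • (b • y)
    rw [Algebra.smul_def, mul_smul]⟩
  haveI : IsScalarTower R (L ⊗[k] R) MK := ⟨fun r a y => by
    change algebraMap (L ⊗[k] R) RK (r • a) • y = r • (algebraMap (L ⊗[k] R) RK a • y)
    rw [Algebra.smul_def, map_mul, mul_smul, ← IsScalarTower.algebraMap_apply, algebraMap_smul]⟩
  let g : (L ⊗[k] R) ⊗[R] M →ₗ[L ⊗[k] R] MK :=
    (TensorProduct.isBaseChange R M (L ⊗[k] R)).lift f
  have hg : IsBaseChange RK g := by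
    refine IsBaseChange.of_comp (TensorProduct.isBaseChange R M (L ⊗[k] R)) ?_
    rw [IsBaseChange.lift_comp]
    exact hf
  have hg1 : ∀ (s : L ⊗[k] R) (m : M), g (s ⊗ₜ[R] m) = towerHom k L K R RK s • f m := by
    intro s m
    have h1 : s ⊗ₜ[R] m = s • ((1 : L ⊗[k] R) ⊗ₜ[R] m) := by
      rw [TensorProduct.smul_tmul', smul_eq_mul, mul_one]
    have h2 : g ((1 : L ⊗[k] R) ⊗ₜ[R] m) = f m :=
      (TensorProduct.isBaseChange R M (L ⊗[k] R)).lift_eq f m
    rw [h1, map_smul, h2]
    rfl
  refine ⟨g.toAddMonoidHom, ?_, ?_, ?_, ?_⟩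
  · intro c m
    change g ((c ⊗ₜ[k] (1 : R)) ⊗ₜ[R] m) = _
    rw [hg1, towerHom_tmul, map_one, mul_one]
  · intro hkL q _ hq'
    haveI : (q.comap (towerHom k L K R RK).toRingHom).IsPrime := Ideal.comap_isPrime _ _
    have h := hkL R (L ⊗[k] R) M ((L ⊗[k] R) ⊗[R] M) (TensorProduct.mk R (L ⊗[k] R) M 1)
      (TensorProduct.isBaseChange R M _) (q.comap (towerHom k L K R RK).toRingHom) hq'
    have h3 : (q.comap (towerHom k L K R RK).toRingHom).comap (algebraMap R (L ⊗[k] R)) =
        q.comap (algebraMap R RK) := by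
      ext r
      rw [Ideal.mem_comap, Ideal.mem_comap, Ideal.mem_comap,
        IsScalarTower.algebraMap_apply R (L ⊗[k] R) RK]
      rfl
    rw [← h3]
    exact h
  · intro hLK q _ hq
    exact hLK (L ⊗[k] R) RK ((L ⊗[k] R) ⊗[R] M) MK g hg q hq
  · intro z' q _ hq
    haveI : Module.Flat (L ⊗[k] R) RK :=
      Module.Flat.isBaseChange (R := L) (S := L ⊗[k] R) (M := K) RK hpo2.symm.out
    exact comap_mem_weakAss_of_flat_of_minimal g hg z' q hq

end Tower

section Main

attribute [local instance] Algebra.TensorProduct.rightAlgebra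

theorem desc_trans {k L K : Type u} [Field k] [Field L] [Field K] [Algebra k L] [Algebra L K]
    [Algebra k K] [IsScalarTower k L K] (h1 : Desc k L) (h2 : Desc L K) : Desc k K := by
  intro R _ _ RK _ _ _ _ _ _ hpo M _ _ MK _ _ _ _ f hf q _ hq
  obtain ⟨g, -, hP1, hP2, -⟩ := tower_package (k := k) (L := L) (K := K) f hf
  exact hP1 h1 q (hP2 h2 q hq)

/-- every element of `M_K` is a finite `K`-linear combination of elements of `M`. -/
theorem exists_finsupp_repr {k K : Type u} [Field k] [Field K] [Algebra k K]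
    {R : Type u} [CommRing R] [Algebra k R] {RK : Type u} [CommRing RK] [Algebra k RK]
    [Algebra K RK] [Algebra R RK] [IsScalarTower k K RK] [IsScalarTower k R RK]
    [hpo : Algebra.IsPushout k K R RK] {M MK : Type u} [AddCommGroup M] [Module R M]
    [AddCommGroup MK] [Module RK MK] [Module R MK] [IsScalarTower R RK MK] (f : M →ₗ[R] MK)
    (hf : IsBaseChange RK f) (z : MK) :
    ∃ c : M →₀ K, z = c.sum (fun m a => algebraMap K RK a • f m) := by
  letI modKMK : Module K MK := Module.compHom MK (algebraMap K RK)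
  have hK : ∀ (a : K) (y : MK), a • y = algebraMap K RK a • y := fun _ _ => rfl
  let W : Submodule K MK := Submodule.span K (Set.range f)
  have hW : ∀ (s : RK) (w : MK), w ∈ W → s • w ∈ W := by
    intro s
    refine IsBaseChange.inductionOn hpo.out s (fun s => ∀ w : MK, w ∈ W → s • w ∈ W) ?_ ?_ ?_ ?_
    · intro w _
      rw [zero_smul]
      exact W.zero_mem
    · intro r w hw
      change algebraMap R RK r • w ∈ W
      induction hw using Submodule.span_induction with
      | mem y hy =>
        obtain ⟨m, rfl⟩ := hy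
        rw [algebraMap_smul, ← map_smul]
        exact Submodule.subset_span ⟨_, rfl⟩
      | zero => rw [smul_zero]; exact W.zero_mem
      | add x y _ _ hx hy => rw [smul_add]; exact W.add_mem hx hy
      | smul a x _ hx =>
        rw [hK, smul_comm, ← hK]
        exact W.smul_mem a hx
    · intro a s hs w hw
      rw [Algebra.smul_def, mul_smul, ← hK]
      exact W.smul_mem a (hs w hw)
    · intro s t hs ht w hw
      rw [add_smul]
      exact W.add_mem (hs w hw) (ht w hw)
  have hz : z ∈ W := by
    refine IsBaseChange.inductionOn hf z (fun z => z ∈ W) W.zero_mem ?_ ?_ ?_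
    · intro m
      exact Submodule.subset_span ⟨m, rfl⟩
    · intro s y hy
      exact hW s y hy
    · intro y y' hy hy'
      exact W.add_mem hy hy'
  obtain ⟨c, hc⟩ := Finsupp.mem_span_range_iff_exists_finsupp.1 hz
  exact ⟨c, hc.symm⟩

/-- reduction to a finite subextension containing the coefficients of the witness. -/
theorem comap_mem_weakAss_of_finite_subextension {k L K : Type u} [Field k] [Field L] [Field K]
    [Algebra k L] [Algebra L K] [Algebra k K] [IsScalarTower k L K] [FiniteDimensional k L]
    {R : Type u} [CommRing R] [Algebra k R] {RK : Type u} [CommRing RK] [Algebra k RK]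
    [Algebra K RK] [Algebra R RK] [IsScalarTower k K RK] [IsScalarTower k R RK]
    [hpo : Algebra.IsPushout k K R RK] {M MK : Type u} [AddCommGroup M] [Module R M]
    [AddCommGroup MK] [Module RK MK] [Module R MK] [IsScalarTower R RK MK] (f : M →ₗ[R] MK)
    (hf : IsBaseChange RK f) (q : Ideal RK) [q.IsPrime] (z : MK)
    (hz : q ∈ (Submodule.span RK {z}).annihilator.minimalPrimes) (c : M →₀ K)
    (hc : z = c.sum (fun m a => algebraMap K RK a • f m))
    (hmem : ∀ m ∈ c.support, c m ∈ Set.range (algebraMap L K)) :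
    q.comap (algebraMap R RK) ∈ FlatCA.weakAss R M := by
  classical
  obtain ⟨g, hg1, hP1, -, hP3⟩ := tower_package (k := k) (L := L) (K := K) f hf
  choose! d hd using hmem
  let z' : (L ⊗[k] R) ⊗[R] M :=
    ∑ m ∈ c.support, (((d m : L) ⊗ₜ[k] (1 : R)) ⊗ₜ[R] m)
  have hz' : g z' = z := by
    rw [map_sum, hc, Finsupp.sum]
    refine Finset.sum_congr rfl (fun m hm => ?_)
    rw [hg1, hd m hm]
  refine hP1 (desc_of_finite k L) q (hP3 z' q ?_)
  rw [hz']
  exact hz

theorem desc_of_isAlgebraic (k K : Type u) [Field k] [Field K] [Algebra k K]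
    [Algebra.IsAlgebraic k K] : Desc k K := by
  classical
  intro R _ _ RK _ _ _ _ _ _ hpo M _ _ MK _ _ _ _ f hf q _ hq
  obtain ⟨z, hz⟩ := hq
  obtain ⟨c, hc⟩ := exists_finsupp_repr (k := k) (K := K) f hf z
  let S : Finset K := c.support.image c
  let L : IntermediateField k K := IntermediateField.adjoin k (S : Set K)
  haveI : Finite (S : Set K) := (Finset.finite_toSet S).to_subtype
  haveI : FiniteDimensional k L :=
    IntermediateField.finiteDimensional_adjoin (fun x _ => Algebra.IsIntegral.isIntegral x)
  have hmem : ∀ m ∈ c.support, c m ∈ Set.range (algebraMap L K) := fun m hm =>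
    ⟨⟨c m, IntermediateField.subset_adjoin k _
      (Finset.mem_coe.2 (Finset.mem_image_of_mem c hm))⟩, rfl⟩
  exact comap_mem_weakAss_of_finite_subextension (k := k) (L := L) (K := K) f hf q z hz c hc hmem

/-- Stacks 0CUB: the descent statement holds for every field extension. -/
theorem desc_all (k K : Type u) [Field k] [Field K] [Algebra k K] : Desc k K := by
  obtain ⟨ι, x, hx⟩ := exists_isTranscendenceBasis' k K
  let L : IntermediateField k K := IntermediateField.adjoin k (Set.range x)
  haveI : Algebra.IsAlgebraic L K := hx.isAlgebraic_field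
  have hLK : Desc L K := desc_of_isAlgebraic L K
  let x' : ι → L := fun i => ⟨x i, IntermediateField.subset_adjoin k _ ⟨i, rfl⟩⟩
  have hx' : AlgebraicIndependent k x' := by
    have h : AlgebraicIndependent k ((IntermediateField.val L) ∘ x') := hx.1
    exact h.of_comp (IntermediateField.val L)
  have hcoe : ∀ a : MvPolynomial ι k, ((MvPolynomial.aeval x' a : L) : K) = MvPolynomial.aeval x a := by
    intro a
    exact MvPolynomial.comp_aeval_apply (f := x') (IntermediateField.val L) a
  have hgen : ∀ c : L, ∃ a b : MvPolynomial ι k,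
      c = MvPolynomial.aeval x' a / MvPolynomial.aeval x' b := by
    intro c
    obtain ⟨a, b, hab⟩ := (IntermediateField.mem_adjoin_range_iff k x c.1).1 c.2
    refine ⟨a, b, Subtype.ext ?_⟩
    rw [hab, IntermediateField.coe_div, hcoe, hcoe]
  exact desc_trans (desc_of_transcendental x' hx' hgen) hLK

end Main

end Groth.Agent.Lib.T1H4.WeakAssField
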