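import Mathlib

/-!
# The determinant of a skew-symmetric matrix is a square (S15155)

* over a field with `2 ≠ 0`, by Schur complements (`isSquare_det_of_skew`);
* for the generic skew-symmetric matrix over `ℂ[x_ij]`, by integral closedness
  (`exists_sq_eq_det_generic`);
* hence for every skew-symmetric matrix over a commutative `ℂ`-algebra, as a polynomial in the
  entries.
-/

set_option autoImplicit false

namespace Groth.Agent.Lib.T1H8.AltDet

open Matrix

universe u v

section Field

variable {K : Type u} [Field K]

/-- skew matrices over a field with `2 ≠ 0` have zero diagonal -/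
lemma diag_eq_zero_of_skew (h2 : (2 : K) ≠ 0) {ι : Type v} (M : Matrix ι ι K) (hM : Mᵀ = -M)
    (i : ι) : M i i = 0 := by
  have h := congrFun (congrFun hM i) i
  simp only [transpose_apply, Matrix.neg_apply] at h
  have : (2 : K) * M i i = 0 := by linear_combination h
  exact (mul_eq_zero.mp this).resolve_left h2

lemma apply_eq_neg_of_skew {ι : Type v} (M : Matrix ι ι K) (hM : Mᵀ = -M) (i j : ι) :
    M j i = -M i j := by
  have h := congrFun (congrFun hM i) j
  simpa only [transpose_apply, Matrix.neg_apply] using h

/-- base case: a skew matrix of size two -/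
lemma det_of_card_two (h2 : (2 : K) ≠ 0) {ι : Type v} [Fintype ι] [DecidableEq ι]
    (hcard : Fintype.card ι = 2) (M : Matrix ι ι K) (hM : Mᵀ = -M) :
    ∃ c : K, M.det = c * c ∧ (M ≠ 0 → c ≠ 0) := by
  let e : ι ≃ Fin 2 := Fintype.equivFinOfCardEq hcard
  refine ⟨M (e.symm 0) (e.symm 1), ?_, ?_⟩
  · rw [← Matrix.det_reindex_self e M, Matrix.det_fin_two]
    simp only [reindex_apply, submatrix_apply]
    rw [diag_eq_zero_of_skew h2 M hM, diag_eq_zero_of_skew h2 M hM,
      apply_eq_neg_of_skew M hM (e.symm 0) (e.symm 1)]
    ring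
  · intro hne hc
    apply hne
    ext a b
    have ha : a = e.symm 0 ∨ a = e.symm 1 := by
      have : e a = 0 ∨ e a = 1 := by
        rcases e a with ⟨v, hv⟩
        interval_cases v
        · left; rfl
        · right; rfl
      rcases this with h | h
      · left; rw [← h, e.symm_apply_apply]
      · right; rw [← h, e.symm_apply_apply]
    have hb : b = e.symm 0 ∨ b = e.symm 1 := by
      have : e b = 0 ∨ e b = 1 := by
        rcases e b with ⟨v, hv⟩
        interval_cases v
        · left; rfl
        · right; rfl
      rcases this with h | h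
      · left; rw [← h, e.symm_apply_apply]
      · right; rw [← h, e.symm_apply_apply]
    rcases ha with rfl | rfl <;> rcases hb with rfl | rfl
    · exact diag_eq_zero_of_skew h2 M hM _
    · exact hc
    · rw [apply_eq_neg_of_skew M hM (e.symm 0) (e.symm 1), hc, neg_zero]; rfl
    · exact diag_eq_zero_of_skew h2 M hM _

/-- **Over a field with `2 ≠ 0`, the determinant of a skew-symmetric matrix is a square.** -/
theorem isSquare_det_of_skew (h2 : (2 : K) ≠ 0) :
    ∀ (n : ℕ) (ι : Type v) [Fintype ι] [DecidableEq ι], Fintype.card ι = n →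
      ∀ M : Matrix ι ι K, Mᵀ = -M → IsSquare M.det := by
  intro n
  induction n using Nat.strong_induction_on with
  | _ n ih =>
    intro ι _ _ hcard M hM
    by_cases hM0 : M = 0
    · subst hM0
      rcases isEmpty_or_nonempty ι with he | hne
      · rw [Matrix.det_isEmpty]; exact ⟨1, by ring⟩
      · rw [Matrix.det_zero]; exact ⟨0, by ring⟩
    -- pick a nonzero entry
    obtain ⟨i, j, hij⟩ : ∃ i j, M i j ≠ 0 := by
      by_contra hcon
      push Not at hcon
      exact hM0 (by ext a b; exact hcon a b)
    have hne : i ≠ j := by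
      rintro rfl
      exact hij (diag_eq_zero_of_skew h2 M hM i)
    let p : ι → Prop := fun l => l = i ∨ l = j
    set A := toBlock M p p with hA
    set B := toBlock M p (fun l => ¬ p l) with hB
    set C := toBlock M (fun l => ¬ p l) p with hC
    set D := toBlock M (fun l => ¬ p l) (fun l => ¬ p l) with hD
    have hAt : Aᵀ = -A := by
      ext a b
      simp only [hA, transpose_apply, toBlock_apply, Matrix.neg_apply]
      exact apply_eq_neg_of_skew M hM _ _
    have hDt : Dᵀ = -D := by
      ext a b
      simp only [hD, transpose_apply, toBlock_apply, Matrix.neg_apply]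
      exact apply_eq_neg_of_skew M hM _ _
    have hBt : Bᵀ = -C := by
      ext a b
      simp only [hB, hC, transpose_apply, toBlock_apply, Matrix.neg_apply]
      exact apply_eq_neg_of_skew M hM _ _
    have hCt : Cᵀ = -B := by
      ext a b
      simp only [hB, hC, transpose_apply, toBlock_apply, Matrix.neg_apply]
      exact apply_eq_neg_of_skew M hM _ _
    have hcardp : Fintype.card {l // p l} = 2 := by
      have : (Finset.univ.filter p) = {i, j} := by
        ext l; simp [p]
      rw [Fintype.card_subtype, this, Finset.card_pair hne]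
    have hcardnp : Fintype.card {l // ¬ p l} = n - 2 := by
      have h1 := Fintype.card_subtype_compl p
      rw [h1, hcardp, hcard]
    have hn2 : 2 ≤ n := by
      rw [← hcard, ← hcardp]
      exact Fintype.card_subtype_le p
    obtain ⟨c, hc, hc0⟩ := det_of_card_two h2 hcardp A hAt
    have hA0 : A ≠ 0 := by
      intro h
      have := congrFun (congrFun h ⟨i, Or.inl rfl⟩) ⟨j, Or.inr rfl⟩
      exact hij this
    have hdetA : IsUnit A.det := by
      rw [hc]
      exact (mul_ne_zero (hc0 hA0) (hc0 hA0)).isUnit
    haveI : Invertible A := Matrix.invertibleOfIsUnitDet A hdetA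
    have hSchur : (D - C * ⅟A * B)ᵀ = -(D - C * ⅟A * B) := by
      have hAinv : (⅟A)ᵀ = -⅟A := by
        rw [Matrix.invOf_eq_nonsing_inv, Matrix.transpose_nonsing_inv, hAt]
        apply Matrix.inv_eq_right_inv
        rw [Matrix.neg_mul, Matrix.mul_neg, neg_neg, Matrix.mul_nonsing_inv A hdetA]
      rw [transpose_sub, transpose_mul, transpose_mul, hDt, hBt, hCt, hAinv]
      simp only [Matrix.neg_mul, Matrix.mul_neg, neg_neg, Matrix.mul_assoc]
      abel
    have hS := ih (n - 2) (by omega) {l // ¬ p l} hcardnp (D - C * ⅟A * B) hSchur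
    rw [det_toBlock M p, det_fromBlocks₁₁, hc]
    exact (IsSquare.mul_self c).mul hS

end Field

section Generic

open MvPolynomial

variable (ι : Type) [Fintype ι] [DecidableEq ι]

/-- the generic skew-symmetric matrix over `ℂ[x_ij]` -/
noncomputable def genSkew : Matrix ι ι (MvPolynomial (ι × ι) ℂ) :=
  Matrix.of fun i j => X (i, j) - X (j, i)

lemma genSkew_transpose : (genSkew ι)ᵀ = -genSkew ι := by
  ext i j
  simp [genSkew]

/-- the determinant of the generic skew-symmetric matrix is a square in `ℂ[x_ij]`. -/
theorem exists_sq_eq_det_genSkew :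
    ∃ q : MvPolynomial (ι × ι) ℂ, (genSkew ι).det = q * q := by
  set S := MvPolynomial (ι × ι) ℂ with hS
  set K := FractionRing S with hK
  have hinj : Function.Injective (algebraMap S K) := IsFractionRing.injective S K
  haveI : CharZero K := charZero_of_injective_algebraMap hinj
  have h2 : (2 : K) ≠ 0 := by norm_num
  have hskew : ((genSkew ι).map (algebraMap S K))ᵀ = -(genSkew ι).map (algebraMap S K) := by
    ext i j
    have h := congrFun (congrFun (genSkew_transpose ι) i) j
    simp only [transpose_apply, Matrix.neg_apply] at h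
    simp only [transpose_apply, Matrix.map_apply, Matrix.neg_apply, h, map_neg]
  obtain ⟨c, hc⟩ := isSquare_det_of_skew h2 (Fintype.card ι) ι rfl _ hskew
  have hdet : algebraMap S K (genSkew ι).det = c * c := by
    rw [← hc, RingHom.map_det]
    rfl
  have hint : IsIntegral S c := by
    refine ⟨Polynomial.X ^ 2 - Polynomial.C (genSkew ι).det,
      Polynomial.monic_X_pow_sub_C _ (by norm_num), ?_⟩
    simp [hdet, pow_two]
  obtain ⟨q, hq⟩ := IsIntegrallyClosed.isIntegral_iff.mp hint
  refine ⟨q, hinj ?_⟩
  rw [map_mul, hq, hdet]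

/-- **the determinant of a skew-symmetric matrix over a `ℂ`-algebra is the square of a polynomial
in its entries.** -/
theorem exists_forall_det_eq_sq :
    ∃ q : MvPolynomial (ι × ι) ℂ, ∀ (R' : Type) [CommRing R'] [Algebra ℂ R'] (N : Matrix ι ι R'),
      Nᵀ = -N → N.det = (aeval (fun ij : ι × ι => (2⁻¹ : ℂ) • N ij.1 ij.2) q) ^ 2 := by
  obtain ⟨q, hq⟩ := exists_sq_eq_det_genSkew ι
  refine ⟨q, fun R' _ _ N hN => ?_⟩
  set φ : MvPolynomial (ι × ι) ℂ →ₐ[ℂ] R' := aeval (fun ij : ι × ι => (2⁻¹ : ℂ) • N ij.1 ij.2)
    with hφ
  have h1 : (genSkew ι).map φ = N := by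
    ext i j
    have hji : N j i = -N i j := by
      have h := congrFun (congrFun hN i) j
      simpa only [transpose_apply, Matrix.neg_apply] using h
    simp only [genSkew, Matrix.map_apply, Matrix.of_apply, map_sub, hφ, aeval_X, hji]
    rw [smul_neg, sub_neg_eq_add, ← add_smul]
    norm_num
  have h2 : N.det = φ (genSkew ι).det := by
    rw [← h1, AlgHom.map_det]
    rfl
  rw [h2, hq, map_mul, pow_two]

end Generic

end Groth.Agent.Lib.T1H8.AltDet
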