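import Groth.Agent.Lib.T1H8AltDetA

/-!
# S15155: characteristic polynomial and determinant of `J`-selfadjoint matrices are squares
-/

set_option autoImplicit false

namespace Groth.Agent.Lib.T1H8.AltDet

open Matrix MvPolynomial

variable (m : ℕ)

/-- the standard symplectic matrix (with the sign convention of S15155) -/
noncomputable abbrev Jm : Matrix (Fin m ⊕ Fin m) (Fin m ⊕ Fin m) ℂ :=
  Matrix.fromBlocks 0 1 (-1) 0

lemma Jm_eq : Jm m = (Matrix.J (Fin m) ℂ)ᵀ := by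
  rw [Matrix.J_transpose, Matrix.J, Matrix.fromBlocks_neg]
  simp

lemma Jm_transpose : (Jm m)ᵀ = -Jm m := by
  rw [Jm_eq, Matrix.transpose_transpose, Matrix.J_transpose, neg_neg]

lemma det_Jm_mul_self : (Jm m).det * (Jm m).det = 1 := by
  rw [Jm_eq, Matrix.det_transpose]
  exact Matrix.J_det_mul_J_det (Fin m) ℂ

/-- `J A` is skew when `Aᵀ J = J A`. -/
lemma skew_J_mul (A : Matrix (Fin m ⊕ Fin m) (Fin m ⊕ Fin m) ℂ)
    (hA : Aᵀ * Jm m = Jm m * A) : (Jm m * A)ᵀ = -(Jm m * A) := by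
  rw [Matrix.transpose_mul, Jm_transpose, Matrix.mul_neg, hA]

/-- the determinant part -/
theorem exists_det_eq_sq :
    ∃ Q : MvPolynomial ((Fin m ⊕ Fin m) × (Fin m ⊕ Fin m)) ℂ,
      ∀ A : Matrix (Fin m ⊕ Fin m) (Fin m ⊕ Fin m) ℂ,
        Aᵀ * Jm m = Jm m * A →
        A.det = (MvPolynomial.eval (fun ij => A ij.1 ij.2) Q) ^ 2 := by
  obtain ⟨q, hq⟩ := exists_forall_det_eq_sq (Fin m ⊕ Fin m)
  obtain ⟨z, hz⟩ := IsAlgClosed.exists_eq_mul_self (Jm m).det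
  let sub : (Fin m ⊕ Fin m) × (Fin m ⊕ Fin m) → MvPolynomial ((Fin m ⊕ Fin m) × (Fin m ⊕ Fin m)) ℂ :=
    fun ij => C (2⁻¹ : ℂ) * ∑ l, C (Jm m ij.1 l) * X (l, ij.2)
  refine ⟨C z * aeval sub q, fun A hA => ?_⟩
  have hN := hq ℂ (Jm m * A) (skew_J_mul m A hA)
  have hcomp : MvPolynomial.eval (fun ij => A ij.1 ij.2) (aeval sub q) =
      aeval (fun ij : (Fin m ⊕ Fin m) × (Fin m ⊕ Fin m) => (2⁻¹ : ℂ) • (Jm m * A) ij.1 ij.2) q := by
    have : ((MvPolynomial.aeval (fun ij : (Fin m ⊕ Fin m) × (Fin m ⊕ Fin m) => A ij.1 ij.2)).comp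
        (aeval sub) : MvPolynomial ((Fin m ⊕ Fin m) × (Fin m ⊕ Fin m)) ℂ →ₐ[ℂ] ℂ) =
        aeval (fun ij : (Fin m ⊕ Fin m) × (Fin m ⊕ Fin m) =>
          (2⁻¹ : ℂ) • (Jm m * A) ij.1 ij.2) := by
      apply MvPolynomial.algHom_ext
      intro ij
      rw [AlgHom.comp_apply, aeval_X, aeval_X]
      simp only [sub, map_mul, map_sum, aeval_C, aeval_X, Matrix.mul_apply, smul_eq_mul]
      rfl
    have h2 := congrArg (fun φ : MvPolynomial ((Fin m ⊕ Fin m) × (Fin m ⊕ Fin m)) ℂ →ₐ[ℂ] ℂ =>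
      φ q) this
    simpa [MvPolynomial.coe_aeval_eq_eval] using h2
  rw [map_mul, eval_C, hcomp, mul_pow, ← hN, Matrix.det_mul, pow_two, ← hz, ← mul_assoc,
    det_Jm_mul_self, one_mul]

section Charpoly

open scoped Polynomial

/-- mapping a skew matrix to `ℂ[X]` keeps it skew -/
lemma mapMatrix_C_transpose (M : Matrix (Fin m ⊕ Fin m) (Fin m ⊕ Fin m) ℂ) (hM : Mᵀ = -M) :
    ((Polynomial.C : ℂ →+* ℂ[X]).mapMatrix M)ᵀ = -(Polynomial.C : ℂ →+* ℂ[X]).mapMatrix M := by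
  ext i j
  have h := congrFun (congrFun hM i) j
  simp only [transpose_apply, Matrix.neg_apply] at h
  simp only [transpose_apply, RingHom.mapMatrix_apply, Matrix.map_apply, Matrix.neg_apply, h,
    map_neg]

/-- `J` over `ℂ[X]` -/
noncomputable abbrev JmX : Matrix (Fin m ⊕ Fin m) (Fin m ⊕ Fin m) ℂ[X] :=
  (Polynomial.C : ℂ →+* ℂ[X]).mapMatrix (Jm m)

lemma JmX_transpose : (JmX m)ᵀ = -JmX m := mapMatrix_C_transpose m _ (Jm_transpose m)

lemma det_JmX : (JmX m).det = Polynomial.C (Jm m).det := by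
  rw [JmX, ← RingHom.map_det]

/-- `J (X - A) = X • J - J A` -/
lemma JmX_mul_charmatrix (A : Matrix (Fin m ⊕ Fin m) (Fin m ⊕ Fin m) ℂ) :
    JmX m * A.charmatrix =
      (Polynomial.X : ℂ[X]) • JmX m - (Polynomial.C : ℂ →+* ℂ[X]).mapMatrix (Jm m * A) := by
  rw [Matrix.charmatrix, Matrix.mul_sub, JmX, ← map_mul]
  congr 1
  refine Matrix.ext fun i j => ?_
  rw [Matrix.mul_apply, Matrix.smul_apply, smul_eq_mul, Finset.sum_eq_single j]
  · rw [Matrix.scalar_apply, Matrix.diagonal_apply_eq, mul_comm]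
  · intro l _ hl
    rw [Matrix.scalar_apply, Matrix.diagonal_apply_ne _ hl, mul_zero]
  · intro h; exact absurd (Finset.mem_univ j) h

lemma skew_JmX_mul_charmatrix (A : Matrix (Fin m ⊕ Fin m) (Fin m ⊕ Fin m) ℂ)
    (hA : Aᵀ * Jm m = Jm m * A) :
    (JmX m * A.charmatrix)ᵀ = -(JmX m * A.charmatrix) := by
  rw [JmX_mul_charmatrix, Matrix.transpose_sub, Matrix.transpose_smul, JmX_transpose,
    mapMatrix_C_transpose m _ (skew_J_mul m A hA)]
  simp only [smul_neg, neg_sub, sub_neg_eq_add]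
  abel

/-- the characteristic polynomial part -/
theorem exists_charpoly_eq_sq :
    ∃ P : MvPolynomial ((Fin m ⊕ Fin m) × (Fin m ⊕ Fin m)) ℂ[X],
      ∀ A : Matrix (Fin m ⊕ Fin m) (Fin m ⊕ Fin m) ℂ,
        Aᵀ * Jm m = Jm m * A →
        A.charpoly = (MvPolynomial.eval (fun ij => Polynomial.C (A ij.1 ij.2)) P) ^ 2 := by
  obtain ⟨q, hq⟩ := exists_forall_det_eq_sq (Fin m ⊕ Fin m)
  obtain ⟨z, hz⟩ := IsAlgClosed.exists_eq_mul_self (Jm m).det
  let sub : (Fin m ⊕ Fin m) × (Fin m ⊕ Fin m) →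
      MvPolynomial ((Fin m ⊕ Fin m) × (Fin m ⊕ Fin m)) ℂ[X] :=
    fun ij => MvPolynomial.C (Polynomial.C (2⁻¹ : ℂ)) *
      (MvPolynomial.C (Polynomial.X * Polynomial.C (Jm m ij.1 ij.2)) -
        ∑ l, MvPolynomial.C (Polynomial.C (Jm m ij.1 l)) * MvPolynomial.X (l, ij.2))
  refine ⟨MvPolynomial.C (Polynomial.C z) * MvPolynomial.aeval sub q, fun A hA => ?_⟩
  have hN := hq ℂ[X] (JmX m * A.charmatrix) (skew_JmX_mul_charmatrix m A hA)
  have hcomp : MvPolynomial.eval (fun ij => Polynomial.C (A ij.1 ij.2))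
      (MvPolynomial.aeval sub q) =
      MvPolynomial.aeval (fun ij : (Fin m ⊕ Fin m) × (Fin m ⊕ Fin m) =>
        (2⁻¹ : ℂ) • (JmX m * A.charmatrix) ij.1 ij.2) q := by
    have : ((MvPolynomial.eval (fun ij : (Fin m ⊕ Fin m) × (Fin m ⊕ Fin m) =>
        Polynomial.C (A ij.1 ij.2))).comp (MvPolynomial.aeval sub).toRingHom :
        MvPolynomial ((Fin m ⊕ Fin m) × (Fin m ⊕ Fin m)) ℂ →+* ℂ[X]) =
        (MvPolynomial.aeval (fun ij : (Fin m ⊕ Fin m) × (Fin m ⊕ Fin m) =>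
          (2⁻¹ : ℂ) • (JmX m * A.charmatrix) ij.1 ij.2)).toRingHom := by
      apply MvPolynomial.ringHom_ext
      · intro c
        simp only [RingHom.comp_apply, AlgHom.toRingHom_eq_coe, RingHom.coe_coe,
          MvPolynomial.aeval_C]
        rw [IsScalarTower.algebraMap_apply ℂ ℂ[X]
          (MvPolynomial ((Fin m ⊕ Fin m) × (Fin m ⊕ Fin m)) ℂ[X]), MvPolynomial.algebraMap_eq,
          MvPolynomial.eval_C]
      · intro ij
        simp only [RingHom.comp_apply, AlgHom.toRingHom_eq_coe, RingHom.coe_coe,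
          MvPolynomial.aeval_X]
        rw [JmX_mul_charmatrix]
        simp only [sub, map_mul, map_sub, map_sum, MvPolynomial.eval_C, MvPolynomial.eval_X,
          Matrix.sub_apply, Matrix.smul_apply, RingHom.mapMatrix_apply, Matrix.map_apply,
          Matrix.mul_apply, smul_eq_mul, Polynomial.smul_eq_C_mul]
    have h2 := congrArg (fun φ : MvPolynomial ((Fin m ⊕ Fin m) × (Fin m ⊕ Fin m)) ℂ →+* ℂ[X] =>
      φ q) this
    simpa using h2
  have hchar : A.charpoly = Polynomial.C (Jm m).det * (JmX m * A.charmatrix).det := by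
    rw [Matrix.det_mul, det_JmX, ← mul_assoc, ← map_mul, det_Jm_mul_self, map_one, one_mul]
    rfl
  rw [map_mul, MvPolynomial.eval_C, hcomp, mul_pow, ← hN, hchar, hz, pow_two, map_mul]

end Charpoly

theorem main_S15155 :
    (∃ P : MvPolynomial ((Fin m ⊕ Fin m) × (Fin m ⊕ Fin m)) (Polynomial ℂ),
      ∀ A : Matrix (Fin m ⊕ Fin m) (Fin m ⊕ Fin m) ℂ,
        A.transpose * Matrix.fromBlocks 0 1 (-1) 0 = Matrix.fromBlocks 0 1 (-1) 0 * A →
        A.charpoly = (MvPolynomial.eval (fun ij => Polynomial.C (A ij.1 ij.2)) P) ^ 2) ∧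
    (∃ Q : MvPolynomial ((Fin m ⊕ Fin m) × (Fin m ⊕ Fin m)) ℂ,
      ∀ A : Matrix (Fin m ⊕ Fin m) (Fin m ⊕ Fin m) ℂ,
        A.transpose * Matrix.fromBlocks 0 1 (-1) 0 = Matrix.fromBlocks 0 1 (-1) 0 * A →
        A.det = (MvPolynomial.eval (fun ij => A ij.1 ij.2) Q) ^ 2) :=
  ⟨exists_charpoly_eq_sq m, exists_det_eq_sq m⟩

end Groth.Agent.Lib.T1H8.AltDet
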