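import Groth.Agent.Lib.Helper28FGDim
import Groth.Agent.Lib.Helper5TensorFieldsCM

/-!
# Decomposition of a Cohen–Macaulay finite type algebra over a field into equidimensional factors

For S9156.
-/

set_option autoImplicit false
universe u

namespace Groth.Agent.Lib.T1H8.CMDecomp

open Groth.Agent.Lib.Helper28 PrimeSpectrum

variable (k : Type u) [Field k]

/-- In a CM finite type algebra over a field, the height of a maximal ideal is the dimension of any
irreducible component through it. -/
theorem height_eq_dim_of_minimal_le (S : Type u) [CommRing S]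
    [Algebra k S] [Algebra.FiniteType k S] [hS : LocCoh.IsCohenMacaulayRing S]
    (p : Ideal S) (hpmin : p ∈ minimalPrimes S) (m : Ideal S) (hm : m.IsMaximal) (hpm : p ≤ m) :
    ((m.height : ℕ∞) : WithBot ℕ∞) = ringKrullDim (S ⧸ p) := by
  have hmp : m.IsPrime := hm.isPrime
  have hp : p.IsPrime := hpmin.1.1
  have hM : (m.map (Ideal.Quotient.mk p)).IsMaximal :=
    Ideal.IsMaximal.map_of_surjective_of_ker_le Ideal.Quotient.mk_surjective
      (by rwa [Ideal.mk_ker])
  have hMp : (m.map (Ideal.Quotient.mk p)).IsPrime := hM.isPrime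
  have hcm : (m.map (Ideal.Quotient.mk p)).comap (Ideal.Quotient.mk p) = m := by
    rw [Ideal.comap_map_of_surjective _ Ideal.Quotient.mk_surjective, ← RingHom.ker_eq_comap_bot,
      Ideal.mk_ker]
    exact sup_eq_left.mpr hpm
  have h1 := height_eq_ringKrullDim_quotient_of_isMaximal_of_finiteType k S p
    (m.map (Ideal.Quotient.mk p))
  have h2 := height_comap_eq_height_add_height_map p (m.map (Ideal.Quotient.mk p))
  have hcp : ((m.map (Ideal.Quotient.mk p)).comap (Ideal.Quotient.mk p)).IsPrime :=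
    Ideal.comap_isPrime _ _
  have hN : IsNoetherianRing S := inferInstance
  rw [IsLocalization.height_map_of_disjoint
    ((m.map (Ideal.Quotient.mk p)).comap (Ideal.Quotient.mk p)).primeCompl p
    (by
      rw [Set.disjoint_left]
      intro x hx hxp
      apply hx
      rw [hcm]
      exact hpm hxp), hcm, Ideal.height_eq_zero_iff.mpr hpmin, add_zero] at h2
  rw [h2]
  exact h1

/-- Minimal primes over `(1 - e)`, `e` idempotent, are minimal primes of the ring. -/
theorem minimalPrimes_span_one_sub_subset {S : Type u} [CommRing S] {e : S}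
    (he : IsIdempotentElem e) :
    (Ideal.span {1 - e}).minimalPrimes ⊆ minimalPrimes S := by
  intro p hp
  have hpp : p.IsPrime := hp.1.1
  have h1e : 1 - e ∈ p := hp.1.2 (Ideal.mem_span_singleton_self _)
  refine ⟨⟨hpp, bot_le⟩, fun p' hp' hle => ?_⟩
  have hp'p : p'.IsPrime := hp'.1
  have hmem : 1 - e ∈ p' := by
    have h0 : e * (1 - e) ∈ p' := by
      rw [mul_sub, mul_one, he.eq, sub_self]
      exact p'.zero_mem
    rcases hp'p.mem_or_mem h0 with h | h
    · exfalso
      apply hpp.ne_top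
      rw [Ideal.eq_top_iff_one]
      have h1' := p.add_mem (hle h) h1e
      rwa [add_sub_cancel] at h1'
    · exact h
  exact hp.2 ⟨hp'p, (Ideal.span_singleton_le_iff_mem _).mpr hmem⟩ hle

/-- The factor of a CM finite type algebra cut out by an idempotent all of whose components have
dimension `d` has all maximal ideals of height `d`. -/
theorem height_eq_of_isMaximal_quotient_idem (S : Type u) [CommRing S]
    [Algebra k S] [Algebra.FiniteType k S] [hS : LocCoh.IsCohenMacaulayRing S]
    (e : S) (he : IsIdempotentElem e) (d : ℕ)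
    (hd : ∀ p ∈ minimalPrimes S, e ∉ p → ringKrullDim (S ⧸ p) = d)
    (m : Ideal (S ⧸ Ideal.span {1 - e})) (hm : m.IsMaximal) : m.height = d := by
  haveI : IsLocalization.Away e (S ⧸ Ideal.span {1 - e}) :=
    IsLocalization.Away.quotient_of_isIdempotentElem he
  haveI : LocCoh.IsCohenMacaulayRing (S ⧸ Ideal.span {1 - e}) :=
    Groth.Agent.Lib.Helper5.TensorFieldsCM.isCohenMacaulayRing_of_isLocalization
      (Submonoid.powers e) _
  refine height_eq_of_isMaximal_of_equidim k (S ⧸ Ideal.span {1 - e}) d ?_ m hm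
  intro q hq
  have hqp : q.IsPrime := hq.1.1
  have h1 : q.comap (Ideal.Quotient.mk (Ideal.span {1 - e})) ∈
      ((⊥ : Ideal (S ⧸ Ideal.span {1 - e})).comap
        (Ideal.Quotient.mk (Ideal.span {1 - e}))).minimalPrimes :=
    Ideal.minimalPrimes_comap_of_surjective Ideal.Quotient.mk_surjective hq
  rw [← RingHom.ker_eq_comap_bot, Ideal.mk_ker] at h1
  have h2 := minimalPrimes_span_one_sub_subset he h1
  have hle : Ideal.span {1 - e} ≤ q.comap (Ideal.Quotient.mk (Ideal.span {1 - e})) := h1.1.2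
  have henot : e ∉ q.comap (Ideal.Quotient.mk (Ideal.span {1 - e})) := by
    intro hmem
    have hcp : (q.comap (Ideal.Quotient.mk (Ideal.span {1 - e}))).IsPrime := h1.1.1
    apply hcp.ne_top
    rw [Ideal.eq_top_iff_one]
    have h1' := Ideal.add_mem _ hmem (hle (Ideal.mem_span_singleton_self _))
    rwa [add_sub_cancel] at h1'
  have h3 := hd _ h2 henot
  have hmap : (q.comap (Ideal.Quotient.mk (Ideal.span {1 - e}))).map
      (Ideal.Quotient.mk (Ideal.span {1 - e})) = q :=
    Ideal.map_comap_of_surjective _ Ideal.Quotient.mk_surjective q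
  have e1 := DoubleQuot.quotQuotEquivQuotOfLE hle
  rw [hmap] at e1
  rw [ringKrullDim_eq_of_ringEquiv e1, h3]

theorem main_S9156 (S : Type u) [CommRing S]
    [Algebra k S] [Algebra.FiniteType k S] [hS : LocCoh.IsCohenMacaulayRing S] :
    ∃ (N : ℕ) (T : Fin (N + 1) → Type u) (_ : ∀ d, CommRing (T d)) (_ : ∀ d, Algebra k (T d)),
      Nonempty (S ≃ₐ[k] ((d : Fin (N + 1)) → T d)) ∧
        ∀ (d : Fin (N + 1)) (m : Ideal (T d)), m.IsMaximal → m.height = (d : ℕ) := by
  classical
  have hN : IsNoetherianRing S := inferInstance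
  -- the dimension function on minimal primes
  have hdim : ∀ p : Ideal S, p ∈ minimalPrimes S → ∃ n : ℕ, ringKrullDim (S ⧸ p) = n := by
    intro p hp
    have hpp : p.IsPrime := hp.1.1
    obtain ⟨m, hm, hpm⟩ := Ideal.exists_le_maximal p hpp.ne_top
    have h1 := height_eq_dim_of_minimal_le k S p hp m hm hpm
    obtain ⟨n, hn⟩ := ENat.ne_top_iff_exists.mp (Ideal.height_ne_top hm.ne_top)
    exact ⟨n, by rw [← h1, ← hn]; rfl⟩
  let dfun : Ideal S → ℕ := fun p => if h : p ∈ minimalPrimes S then (hdim p h).choose else 0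
  have hdfun : ∀ p ∈ minimalPrimes S, ringKrullDim (S ⧸ p) = dfun p := by
    intro p hp
    simp only [dfun, dif_pos hp]
    exact (hdim p hp).choose_spec
  have hfin : (minimalPrimes S).Finite := minimalPrimes.finite_of_isNoetherianRing S
  let N : ℕ := hfin.toFinset.sup dfun
  have hleN : ∀ p ∈ minimalPrimes S, dfun p ≤ N := fun p hp =>
    Finset.le_sup (f := dfun) (hfin.mem_toFinset.mpr hp)
  -- the closed pieces
  let Z : ℕ → Set (PrimeSpectrum S) := fun d =>
    ⋃ p ∈ {p | p ∈ minimalPrimes S ∧ dfun p = d}, zeroLocus (p : Set S)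
  have hZclosed : ∀ d, IsClosed (Z d) := fun d =>
    (hfin.subset (fun p hp => hp.1)).isClosed_biUnion fun p _ => isClosed_zeroLocus _
  have hZmem : ∀ d (x : PrimeSpectrum S), x ∈ Z d ↔
      ∃ p ∈ minimalPrimes S, dfun p = d ∧ p ≤ x.asIdeal := by
    intro d x
    simp only [Z, Set.mem_iUnion, Set.mem_setOf_eq, mem_zeroLocus, SetLike.coe_subset_coe,
      exists_prop]
    constructor
    · rintro ⟨p, ⟨h1, h2⟩, h3⟩
      exact ⟨p, h1, h2, h3⟩
    · rintro ⟨p, h1, h2, h3⟩
      exact ⟨p, ⟨h1, h2⟩, h3⟩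
  have hZdisj : ∀ d d' (x : PrimeSpectrum S), x ∈ Z d → x ∈ Z d' → d = d' := by
    intro d d' x hx hx'
    obtain ⟨p, hp, hpd, hpx⟩ := (hZmem d x).mp hx
    obtain ⟨p', hp', hpd', hpx'⟩ := (hZmem d' x).mp hx'
    obtain ⟨m, hm, hxm⟩ := Ideal.exists_le_maximal x.asIdeal x.2.ne_top
    have h1 := height_eq_dim_of_minimal_le k S p hp m hm (hpx.trans hxm)
    have h2 := height_eq_dim_of_minimal_le k S p' hp' m hm (hpx'.trans hxm)
    rw [hdfun p hp] at h1
    rw [hdfun p' hp', h1] at h2
    have h3 : dfun p = dfun p' := by exact_mod_cast h2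
    rw [← hpd, ← hpd', h3]
  have hZcover : ∀ x : PrimeSpectrum S, ∃ d : Fin (N + 1), x ∈ Z d := by
    intro x
    obtain ⟨p, hp, hpx⟩ := Ideal.exists_minimalPrimes_le (I := (⊥ : Ideal S)) (J := x.asIdeal) bot_le
    exact ⟨⟨dfun p, Nat.lt_succ_of_le (hleN p hp)⟩, (hZmem _ x).mpr ⟨p, hp, rfl, hpx⟩⟩
  have hZclopen : ∀ d : Fin (N + 1), IsClopen (Z d) := by
    intro d
    refine ⟨hZclosed d, ?_⟩
    have hcompl : (Z d)ᶜ = ⋃ d' ∈ {d' : Fin (N + 1) | d' ≠ d}, Z d' := by
      ext x
      simp only [Set.mem_compl_iff, Set.mem_iUnion, Set.mem_setOf_eq, exists_prop]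
      constructor
      · intro hx
        obtain ⟨d', hd'⟩ := hZcover x
        refine ⟨d', ?_, hd'⟩
        rintro rfl
        exact hx hd'
      · rintro ⟨d', hne, hd'⟩ hx
        exact hne (Fin.ext (hZdisj _ _ x hd' hx))
    rw [← isClosed_compl_iff, hcompl]
    exact (Set.toFinite _).isClosed_biUnion fun d' _ => hZclosed d'
  -- idempotents
  have hidem : ∀ d : Fin (N + 1), ∃ e : S, IsIdempotentElem e ∧ Z d = basicOpen e :=
    fun d => exists_idempotent_basicOpen_eq_of_isClopen (hZclopen d)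
  choose e he heZ using hidem
  have hzero_of_idem : ∀ f : S, IsIdempotentElem f → (∀ x : PrimeSpectrum S, f ∈ x.asIdeal) →
      f = 0 := by
    intro f hf hx
    have hnil : IsNilpotent f := by
      rw [← basicOpen_eq_bot_iff]
      ext x
      simp only [TopologicalSpace.Opens.coe_bot, Set.mem_empty_iff_false, iff_false]
      exact fun h => h (hx x)
    obtain ⟨n, hn⟩ := hnil
    rcases Nat.eq_zero_or_pos n with rfl | hpos
    · rw [pow_zero] at hn
      have : f = f * 1 := (mul_one f).symm
      rw [this, hn, mul_zero]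
    · rw [← hf.pow_succ_eq (n - 1), Nat.sub_add_cancel hpos, hn]
  have hemem : ∀ (d : Fin (N + 1)) (x : PrimeSpectrum S), e d ∉ x.asIdeal ↔ x ∈ Z d := by
    intro d x
    rw [heZ d]
    rfl
  have horth : OrthogonalIdempotents e := by
    refine ⟨he, fun i j hij => ?_⟩
    apply hzero_of_idem _ ((he i).mul (he j))
    intro x
    by_contra hx
    have h1 : e i ∉ x.asIdeal := fun h => hx (Ideal.mul_mem_right _ _ h)
    have h2 : e j ∉ x.asIdeal := fun h => hx (Ideal.mul_mem_left _ _ h)
    exact hij (Fin.ext (hZdisj _ _ x ((hemem i x).mp h1) ((hemem j x).mp h2)))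
  have hcomplete : CompleteOrthogonalIdempotents e := by
    refine CompleteOrthogonalIdempotents.of_prod_one_sub horth ?_
    apply hzero_of_idem
    · rw [horth.prod_one_sub]
      exact horth.isIdempotentElem_sum.one_sub
    · intro x
      obtain ⟨d, hd⟩ := hZcover x
      have h1 : e d ∉ x.asIdeal := (hemem d x).mpr hd
      have h2 : 1 - e d ∈ x.asIdeal := by
        have h0 : e d * (1 - e d) ∈ x.asIdeal := by
          rw [mul_sub, mul_one, (he d).eq, sub_self]
          exact Ideal.zero_mem _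
        exact (x.2.mem_or_mem h0).resolve_left h1
      rw [← Finset.prod_erase_mul _ _ (Finset.mem_univ d)]
      exact Ideal.mul_mem_left _ _ h2
  -- assemble
  refine ⟨N, fun d => S ⧸ Ideal.span {1 - e d}, fun d => inferInstance, fun d => inferInstance,
    ⟨?_⟩, ?_⟩
  · refine AlgEquiv.ofBijective
      (AlgHom.pi fun d => Ideal.Quotient.mkₐ k (Ideal.span {1 - e d})) ?_
    exact hcomplete.bijective_pi
  · intro d m hm
    refine height_eq_of_isMaximal_quotient_idem k S (e d) (he d) d ?_ m hm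
    intro p hp hep
    have hx : (⟨p, hp.1.1⟩ : PrimeSpectrum S) ∈ Z d := (hemem d ⟨p, hp.1.1⟩).mp hep
    obtain ⟨p', hp', hpd', hle⟩ := (hZmem d _).mp hx
    have hpp' : p' = p := le_antisymm hle (hp.2 ⟨hp'.1.1, bot_le⟩ hle)
    subst hpp'
    rw [hdfun p' hp', hpd']

end Groth.Agent.Lib.T1H8.CMDecomp
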