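import Mathlib

/-! helper8: flat subalgebras of `k[t]/(t^n)` are curvilinear (S14087). -/

namespace Groth.Agent.Lib.T1H8.Curvi

open Polynomial

universe u

section gen
attribute [local instance] Ideal.Quotient.field

lemma finrank_quot_map_gen {k A B : Type*} [Field k] [CommRing A] [CommRing B] [Algebra k A]
    [Algebra k B] [Algebra A B] [IsScalarTower k A B] [IsLocalRing A] [Module.Finite A B]
    [Module.Free A B] (h1 : Module.finrank k (A ⧸ IsLocalRing.maximalIdeal A) = 1) :
    Module.finrank k (B ⧸ Ideal.map (algebraMap A B) (IsLocalRing.maximalIdeal A))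
      = Module.finrank A B := by
  have h1' := IsLocalRing.finrank_quotient_map (R := A) (S := B)
  haveI : IsScalarTower k (A ⧸ IsLocalRing.maximalIdeal A)
    (B ⧸ Ideal.map (algebraMap A B) (IsLocalRing.maximalIdeal A)) := by
    refine IsScalarTower.of_algebraMap_eq fun x => ?_
    rw [IsScalarTower.algebraMap_apply k A (A ⧸ IsLocalRing.maximalIdeal A),
      ← IsScalarTower.algebraMap_apply A (A ⧸ IsLocalRing.maximalIdeal A),
      IsScalarTower.algebraMap_apply k B, IsScalarTower.algebraMap_apply k A B,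
      ← IsScalarTower.algebraMap_apply A B]
  have h2 := Module.finrank_mul_finrank k (A ⧸ IsLocalRing.maximalIdeal A)
    (B ⧸ Ideal.map (algebraMap A B) (IsLocalRing.maximalIdeal A))
  rw [h1', h1, one_mul] at h2
  exact h2.symm

end gen

variable (k : Type u) [Field k]

/-- ideals of `k[X]` containing `X^n` are `(X^i)` with `i ≤ n`. -/
lemma ideal_eq_span_X_pow (I : Ideal k[X]) (n : ℕ) (h : (X : k[X]) ^ n ∈ I) :
    ∃ i ≤ n, I = Ideal.span {(X : k[X]) ^ i} := by
  obtain ⟨g, rfl⟩ := (IsPrincipalIdealRing.principal I).principal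
  rw [Ideal.submodule_span_eq, Ideal.mem_span_singleton] at h
  obtain ⟨i, hi, ha⟩ := (dvd_prime_pow Polynomial.prime_X n).1 h
  exact ⟨i, hi, Ideal.span_singleton_eq_span_singleton.2 ha⟩

/-- the truncated polynomial ring -/
abbrev TP (n : ℕ) : Type u := k[X] ⧸ Ideal.span {(X : k[X]) ^ n}

/-- the class of `X` -/
noncomputable abbrev xx (n : ℕ) : TP k n := Ideal.Quotient.mk _ X

lemma xx_pow (n : ℕ) : (xx k n) ^ n = 0 := by
  rw [xx, ← map_pow, Ideal.Quotient.eq_zero_iff_mem]
  exact Ideal.mem_span_singleton_self _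

lemma xx_pow_eq_zero_iff (n i : ℕ) : (xx k n) ^ i = 0 ↔ n ≤ i := by
  rw [xx, ← map_pow, Ideal.Quotient.eq_zero_iff_mem, Ideal.mem_span_singleton]
  exact pow_dvd_pow_iff Polynomial.X_ne_zero Polynomial.not_isUnit_X

instance (n : ℕ) : Module.Finite k (TP k n) := (monic_X_pow n).finite_quotient

lemma finrank_TP (n : ℕ) : Module.finrank k (TP k n) = n := by
  unfold TP
  rw [finrank_quotient_span_eq_natDegree, natDegree_X_pow]

lemma isUnit_or (n : ℕ) (b : TP k n) : IsUnit b ∨ ∃ c, b = xx k n * c := by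
  obtain ⟨p, rfl⟩ := Ideal.Quotient.mk_surjective b
  by_cases h0 : p.coeff 0 = 0
  · right
    obtain ⟨q, hq⟩ := Polynomial.X_dvd_iff.2 h0
    exact ⟨Ideal.Quotient.mk _ q, by rw [hq, map_mul]⟩
  · left
    have hp : p = C (p.coeff 0) + X * p.divX := by
      conv_lhs => rw [← Polynomial.divX_mul_X_add p]
      ring
    rw [hp, map_add, map_mul]
    have h1 : IsUnit (Ideal.Quotient.mk (Ideal.span {(X : k[X]) ^ n}) (C (p.coeff 0))) :=
      (Polynomial.isUnit_C.2 (isUnit_iff_ne_zero.2 h0)).map _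
    have h2 : IsNilpotent (Ideal.Quotient.mk (Ideal.span {(X : k[X]) ^ n}) X *
        Ideal.Quotient.mk (Ideal.span {(X : k[X]) ^ n}) p.divX) := by
      refine ⟨n, ?_⟩
      rw [mul_pow]
      have := xx_pow k n
      rw [xx] at this
      rw [this, zero_mul]
    rw [add_comm]
    exact h2.isUnit_add_right_of_commute h1 (Commute.all _ _)

lemma exists_sub_eq (n : ℕ) (b : TP k n) : ∃ (l : k) (c : TP k n), b - algebraMap k _ l = xx k n * c := by
  obtain ⟨p, rfl⟩ := Ideal.Quotient.mk_surjective b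
  refine ⟨p.coeff 0, Ideal.Quotient.mk _ p.divX, ?_⟩
  have hp : p = C (p.coeff 0) + X * p.divX := by
    conv_lhs => rw [← Polynomial.divX_mul_X_add p]
    ring
  have : algebraMap k (TP k n) (p.coeff 0) = Ideal.Quotient.mk _ (C (p.coeff 0)) := rfl
  rw [this, xx, ← map_sub, ← map_mul]
  congr 1
  rw [sub_eq_iff_eq_add]
  conv_lhs => rw [hp]
  ring

lemma isNilpotent_xx_mul (n : ℕ) (c : TP k n) : IsNilpotent (xx k n * c) :=
  ⟨n, by rw [mul_pow, xx_pow, zero_mul]⟩

lemma nontrivial_TP (n : ℕ) (hn : 0 < n) : Nontrivial (TP k n) := by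
  apply Module.nontrivial_of_finrank_pos (R := k)
  rw [finrank_TP]; exact hn

lemma not_isUnit_xx_mul (n : ℕ) (hn : 0 < n) (c : TP k n) : ¬ IsUnit (xx k n * c) := by
  haveI := nontrivial_TP k n hn
  exact (isNilpotent_xx_mul k n c).not_isUnit

variable {k} {n : ℕ} (A : Subalgebra k (TP k n))

lemma isUnit_of_isUnit_val (a : A) (h : IsUnit (a : TP k n)) : IsUnit a := by
  apply IsArtinianRing.isUnit_of_nonZeroDivisor_of_isIntegral' (R := k)
  exact mem_nonZeroDivisors_of_injective (f := A.val) Subtype.val_injective h.mem_nonZeroDivisors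

lemma isUnit_iff_isUnit_val (a : A) : IsUnit a ↔ IsUnit (a : TP k n) :=
  ⟨fun h => h.map A.val, isUnit_of_isUnit_val A a⟩

lemma isLocalRing_sub (hn : 0 < n) : IsLocalRing A := by
  haveI := nontrivial_TP k n hn
  haveI : Nontrivial A := ⟨⟨0, 1, fun h => zero_ne_one (α := TP k n) (congrArg Subtype.val h)⟩⟩
  refine IsLocalRing.of_isUnit_or_isUnit_one_sub_self fun a => ?_
  rcases isUnit_or k n (a : TP k n) with h | ⟨c, hc⟩
  · exact Or.inl (isUnit_of_isUnit_val A a h)
  · right
    apply isUnit_of_isUnit_val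
    have : ((1 - a : A) : TP k n) = 1 - xx k n * c := by rw [← hc]; rfl
    rw [this]
    exact (isNilpotent_xx_mul k n c).isUnit_one_sub

lemma mem_maximalIdeal_iff (hn : 0 < n) [IsLocalRing A] (a : A) :
    a ∈ IsLocalRing.maximalIdeal A ↔ ∃ c, (a : TP k n) = xx k n * c := by
  rw [IsLocalRing.mem_maximalIdeal, mem_nonunits_iff, isUnit_iff_isUnit_val]
  constructor
  · intro h
    rcases isUnit_or k n (a : TP k n) with h' | h'
    · exact absurd h' h
    · exact h'
  · rintro ⟨c, hc⟩
    rw [hc]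
    exact not_isUnit_xx_mul k n hn c

attribute [local instance] Ideal.Quotient.field

lemma finrank_residue (hn : 0 < n) [IsLocalRing A] :
    Module.finrank k (A ⧸ IsLocalRing.maximalIdeal A) = 1 := by
  have hsurj : Function.Surjective (algebraMap k (A ⧸ IsLocalRing.maximalIdeal A)) := by
    intro y
    obtain ⟨a, rfl⟩ := Ideal.Quotient.mk_surjective y
    obtain ⟨l, c, hc⟩ := exists_sub_eq k n (a : TP k n)
    refine ⟨l, ?_⟩
    rw [IsScalarTower.algebraMap_apply k A, Ideal.Quotient.algebraMap_eq, eq_comm,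
      Ideal.Quotient.eq, mem_maximalIdeal_iff A hn]
    exact ⟨c, hc⟩
  have hbij : Function.Bijective (Algebra.linearMap k (A ⧸ IsLocalRing.maximalIdeal A)) :=
    ⟨(algebraMap k _).injective, hsurj⟩
  rw [← (LinearEquiv.ofBijective _ hbij).finrank_eq, Module.finrank_self]

lemma ideal_TP_eq (k : Type u) [Field k] (n : ℕ) (J : Ideal (TP k n)) :
    ∃ j ≤ n, J = Ideal.span {(xx k n) ^ j} := by
  obtain ⟨j, hj, h⟩ := ideal_eq_span_X_pow k (J.comap (Ideal.Quotient.mk _)) n (by
    rw [Ideal.mem_comap]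
    have := xx_pow k n
    rw [xx, ← map_pow] at this
    rw [this]; exact J.zero_mem)
  refine ⟨j, hj, ?_⟩
  rw [← Ideal.map_comap_of_surjective _ Ideal.Quotient.mk_surjective J, h, Ideal.map_span,
    Set.image_singleton, map_pow]

lemma finrank_TP_quot (k : Type u) [Field k] (n j : ℕ) (hj : j ≤ n) :
    Module.finrank k (TP k n ⧸ Ideal.span {(xx k n) ^ j}) = j := by
  have e1 := DoubleQuot.quotQuotEquivQuotSupₐ k (Ideal.span {(X : k[X]) ^ n}) (Ideal.span {(X : k[X]) ^ j})
  have hsup : Ideal.span {(X : k[X]) ^ n} ⊔ Ideal.span {(X : k[X]) ^ j} = Ideal.span {(X : k[X]) ^ j} := by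
    rw [sup_eq_right, Ideal.span_singleton_le_span_singleton]
    exact pow_dvd_pow _ hj
  have e2 := Ideal.quotientEquivAlgOfEq k hsup
  have hJ : Ideal.map (Ideal.Quotient.mkₐ k (Ideal.span {(X : k[X]) ^ n})) (Ideal.span {(X : k[X]) ^ j})
      = Ideal.span {(xx k n) ^ j} := by
    rw [Ideal.map_span, Set.image_singleton, map_pow]
    rfl
  rw [hJ] at e1
  rw [(e1.trans e2).toLinearEquiv.finrank_eq, finrank_quotient_span_eq_natDegree, natDegree_X_pow]

instance finite_over_sub : Module.Finite A (TP k n) :=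
  Module.Finite.of_restrictScalars_finite k A (TP k n)

lemma finrank_quot_map (hn : 0 < n) [IsLocalRing A] [Module.Free A (TP k n)] :
    Module.finrank k (TP k n ⧸ Ideal.map (algebraMap A (TP k n)) (IsLocalRing.maximalIdeal A))
      = Module.finrank A (TP k n) :=
  finrank_quot_map_gen (k := k) (A := A) (B := TP k n) (finrank_residue A hn)

lemma exists_gen (hn : 0 < n) [IsLocalRing A] (j : ℕ) (hj : j ≤ n)
    (hJ : Ideal.map (algebraMap A (TP k n)) (IsLocalRing.maximalIdeal A)
      = Ideal.span {(xx k n) ^ j}) :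
    ∃ (u : A) (c : TP k n), IsUnit c ∧ (u : TP k n) = (xx k n) ^ j * c := by
  rcases hj.eq_or_lt with rfl | hlt
  · exact ⟨0, 1, isUnit_one, by rw [xx_pow, zero_mul]; rfl⟩
  · by_contra hcon
    push Not at hcon
    have hle : Ideal.map (algebraMap A (TP k n)) (IsLocalRing.maximalIdeal A)
        ≤ Ideal.span {(xx k n) ^ (j + 1)} := by
      rw [Ideal.map_le_iff_le_comap]
      intro a ha
      rw [Ideal.mem_comap]
      have h1 : algebraMap A (TP k n) a ∈ Ideal.span {(xx k n) ^ j} := by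
        rw [← hJ]; exact Ideal.mem_map_of_mem _ ha
      obtain ⟨c, hc⟩ := Ideal.mem_span_singleton.1 h1
      rcases isUnit_or k n c with hu | ⟨c', hc'⟩
      · exact absurd hc (hcon a c hu)
      · rw [hc, hc', Ideal.mem_span_singleton]
        exact ⟨c', by ring⟩
    have hx : (xx k n) ^ j ∈ Ideal.span {(xx k n) ^ (j + 1)} := by
      apply hle
      rw [hJ]
      exact Ideal.mem_span_singleton_self _
    obtain ⟨c, hc⟩ := Ideal.mem_span_singleton.1 hx
    have h0 : (xx k n) ^ j * (1 - xx k n * c) = 0 := by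
      rw [mul_sub, mul_one, sub_eq_zero]
      calc (xx k n) ^ j = (xx k n) ^ (j + 1) * c := hc
        _ = (xx k n) ^ j * (xx k n * c) := by ring
    have hu : IsUnit (1 - xx k n * c) := (isNilpotent_xx_mul k n c).isUnit_one_sub
    have h0' : (xx k n) ^ j = 0 := by
      have := congrArg (· * (hu.unit⁻¹ : (TP k n)ˣ).val) h0
      simpa [mul_assoc] using this
    rw [xx_pow_eq_zero_iff] at h0'
    omega

lemma pow_eq_zero_iff_of_gen (u : A) (c : TP k n) (hc : IsUnit c) (j : ℕ)
    (hu : (u : TP k n) = (xx k n) ^ j * c) (i : ℕ) : u ^ i = 0 ↔ n ≤ j * i := by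
  rw [← xx_pow_eq_zero_iff k n (j * i), pow_mul]
  have h1 : u ^ i = 0 ↔ ((u : TP k n)) ^ i = 0 := by
    rw [← Subtype.val_injective.eq_iff]; rfl
  rw [h1, hu, mul_pow]
  constructor
  · intro h
    have := congrArg (· * ((hc.pow i).unit⁻¹ : (TP k n)ˣ).val) h
    simpa [mul_assoc] using this
  · intro h
    rw [h, zero_mul]

theorem exists_algEquiv (hn : 0 < n) [Module.Flat A (TP k n)] :
    ∃ m : ℕ, Nonempty (A ≃ₐ[k] TP k m) := by
  haveI := isLocalRing_sub A hn
  haveI : Module.Free A (TP k n) := Module.free_of_flat_of_isLocalRing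
  obtain ⟨j, hj, hJ⟩ := ideal_TP_eq k n
    (Ideal.map (algebraMap A (TP k n)) (IsLocalRing.maximalIdeal A))
  have hr : Module.finrank A (TP k n) = j := by
    rw [← finrank_quot_map A hn, hJ, finrank_TP_quot k n j hj]
  have hmul : Module.finrank k A * j = n := by
    rw [← hr, Module.finrank_mul_finrank, finrank_TP]
  obtain ⟨u, c, hc, hu⟩ := exists_gen A hn j hj hJ
  set m := Module.finrank k A with hm
  have hj0 : 0 < j := by
    rcases Nat.eq_zero_or_pos j with h | h
    · rw [h, mul_zero] at hmul; omega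
    · exact h
  refine ⟨m, ⟨?_⟩⟩
  have hum : u ^ m = 0 := by
    rw [pow_eq_zero_iff_of_gen A u c hc j hu, mul_comm, hmul]
  let φ : TP k m →ₐ[k] A := Ideal.Quotient.liftₐ _ (Polynomial.aeval u) (by
    intro p hp
    obtain ⟨q, rfl⟩ := Ideal.mem_span_singleton.1 hp
    rw [map_mul, map_pow, Polynomial.aeval_X, hum, zero_mul])
  have hφx : φ (xx k m) = u := by
    simp [φ, xx]
  have hinj : Function.Injective φ := by
    rw [injective_iff_map_eq_zero]
    intro y hy
    obtain ⟨i, hi, hker⟩ := ideal_TP_eq k m (RingHom.ker φ.toRingHom)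
    have hxi : (xx k m) ^ i ∈ RingHom.ker φ.toRingHom := by
      rw [hker]; exact Ideal.mem_span_singleton_self _
    rw [RingHom.mem_ker] at hxi
    have hui : u ^ i = 0 := by
      rw [← hφx, ← map_pow]; exact hxi
    rw [pow_eq_zero_iff_of_gen A u c hc j hu, ← hmul, mul_comm] at hui
    have him : m ≤ i := Nat.le_of_mul_le_mul_left hui hj0
    have hy' : y ∈ RingHom.ker φ.toRingHom := hy
    rw [hker, le_antisymm hi him, xx_pow] at hy'
    simpa using hy'
  have hfin : Module.finrank k (TP k m) = Module.finrank k A := by rw [finrank_TP]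
  have hbij : Function.Bijective φ := by
    refine ⟨hinj, ?_⟩
    exact (LinearMap.injective_iff_surjective_of_finrank_eq_finrank (f := φ.toLinearMap) hfin).1 hinj
  exact (AlgEquiv.ofBijective φ hbij).symm

open Polynomial in
theorem main_S14087 (k : Type u) [Field k]
    (n : ℕ) (hn : 0 < n)
    (A : Subalgebra k (Polynomial k ⧸ Ideal.span {(X : Polynomial k) ^ n}))
    [Module.Flat A (Polynomial k ⧸ Ideal.span {(X : Polynomial k) ^ n})] :
    ∃ m : ℕ, Nonempty (A ≃ₐ[k] (Polynomial k ⧸ Ideal.span {(X : Polynomial k) ^ m})) :=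
  exists_algEquiv A hn

end Groth.Agent.Lib.T1H8.Curvi
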