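import Mathlib

/-!
# The different of a finite free algebra and the unramified locus (S2205)

For a finite free `A`-algebra `B`, an element `b` lies in the different iff
`b • Hom_A(B, A) ⊆ B • Tr`.  We show:
* `b` in the different ⟹ `b ^ 2` kills `Ω[B⁄A]`;
* `g` kills `Ω[B⁄A]` ⟹ some power `g ^ n` lies in the different.
Hence a prime `q` contains the different iff `B` is ramified over `A` at `q`.
-/

set_option autoImplicit false

namespace Groth.Agent.Lib.T1H8.DiffUnram

open TensorProduct

universe u v w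

variable {A : Type u} {B : Type v} [CommRing A] [CommRing B] [Algebra A B]

/-- `b` lies in the different: `b • φ ∈ B • Tr` for every `φ ∈ Hom_A(B, A)`. -/
def IsDiff (A : Type u) {B : Type v} [CommRing A] [CommRing B] [Algebra A B] (b : B) : Prop :=
  ∀ φ : B →ₗ[A] A, ∃ c : B, ∀ x : B, φ (b * x) = Algebra.trace A B (c * x)

variable {ι : Type w} [Fintype ι] [DecidableEq ι] (e : Module.Basis ι A B)

lemma trace_eq_sum_repr (x : B) : Algebra.trace A B x = ∑ i, e.repr (x * e i) i := by
  rw [Algebra.trace_eq_matrix_trace e, Matrix.trace]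
  simp [Algebra.leftMulMatrix_eq_repr_mul]

section PartI

variable {e} {b : B} {c : ι → B}

/-- expansion of `b * y` -/
lemma expand_of_coord (hc : ∀ i x, e.coord i (b * x) = Algebra.trace A B (c i * x)) (y : B) :
    b * y = ∑ i, Algebra.trace A B (c i * y) • e i := by
  conv_lhs => rw [← e.sum_repr (b * y)]
  refine Finset.sum_congr rfl fun i _ => ?_
  rw [← hc i y, Module.Basis.coord_apply]

lemma mul_eq_zero_of_trace (hc : ∀ i x, e.coord i (b * x) = Algebra.trace A B (c i * x)) (n : B)
    (hn : ∀ y, Algebra.trace A B (n * y) = 0) : b * n = 0 := by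
  rw [expand_of_coord hc n]
  refine Finset.sum_eq_zero fun i _ => ?_
  rw [mul_comm, hn, zero_smul]

lemma coord_mul (x z : B) (k : ι) :
    e.coord k (x * z) = ∑ i, e.coord i z * e.coord k (x * e i) := by
  conv_lhs => rw [← e.sum_repr z, Finset.mul_sum, map_sum]
  refine Finset.sum_congr rfl fun i _ => ?_
  rw [mul_smul_comm, map_smul, smul_eq_mul, Module.Basis.coord_apply, Module.Basis.coord_apply]

lemma mul_mul_eq (hc : ∀ i x, e.coord i (b * x) = Algebra.trace A B (c i * x)) (x : B) (k : ι) :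
    b * (x * c k) = b * ∑ i, e.coord k (x * e i) • c i := by
  rw [← sub_eq_zero, ← mul_sub]
  apply mul_eq_zero_of_trace hc
  intro y
  rw [sub_mul, map_sub, sub_eq_zero, Finset.sum_mul, map_sum]
  have h1 : x * c k * y = c k * (x * y) := by ring
  rw [h1, ← hc k (x * y)]
  have h2 : b * (x * y) = x * (b * y) := by ring
  rw [h2, coord_mul]
  refine Finset.sum_congr rfl fun i _ => ?_
  rw [smul_mul_assoc, map_smul, smul_eq_mul, ← hc i y, mul_comm]

lemma sum_mul_eq (hc : ∀ i x, e.coord i (b * x) = Algebra.trace A B (c i * x)) :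
    b * ∑ i, c i * e i = b * b := by
  rw [← sub_eq_zero, ← mul_sub]
  apply mul_eq_zero_of_trace hc
  intro y
  rw [sub_mul, map_sub, sub_eq_zero, Finset.sum_mul, map_sum, trace_eq_sum_repr e (b * y)]
  refine Finset.sum_congr rfl fun i _ => ?_
  have h1 : c i * e i * y = c i * (y * e i) := by ring
  have h2 : b * y * e i = b * (y * e i) := by ring
  rw [h1, ← hc i, h2, Module.Basis.coord_apply]

/-- the twisted separability element -/
lemma tmul_comm_elem (hc : ∀ i x, e.coord i (b * x) = Algebra.trace A B (c i * x)) (x : B) :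
    (x ⊗ₜ[A] (1 : B)) * ∑ i, (b * c i) ⊗ₜ[A] e i =
      ((1 : B) ⊗ₜ[A] x) * ∑ i, (b * c i) ⊗ₜ[A] e i := by
  rw [Finset.mul_sum, Finset.mul_sum]
  simp only [Algebra.TensorProduct.tmul_mul_tmul, one_mul]
  calc ∑ i, (x * (b * c i)) ⊗ₜ[A] e i
      = ∑ k, (b * ∑ i, e.coord k (x * e i) • c i) ⊗ₜ[A] e k := by
        refine Finset.sum_congr rfl fun k _ => ?_
        rw [← mul_mul_eq hc x k]
        congr 1
        ring
    _ = ∑ k, ∑ i, e.coord k (x * e i) • ((b * c i) ⊗ₜ[A] e k) := by
        refine Finset.sum_congr rfl fun k _ => ?_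
        rw [Finset.mul_sum, sum_tmul]
        refine Finset.sum_congr rfl fun i _ => ?_
        rw [mul_smul_comm, smul_tmul']
    _ = ∑ i, ∑ k, e.coord k (x * e i) • ((b * c i) ⊗ₜ[A] e k) := Finset.sum_comm
    _ = ∑ i, (b * c i) ⊗ₜ[A] (x * e i) := by
        refine Finset.sum_congr rfl fun i _ => ?_
        conv_rhs => rw [← e.sum_repr (x * e i), tmul_sum]
        refine Finset.sum_congr rfl fun k _ => ?_
        rw [tmul_smul, Module.Basis.coord_apply]

include e in
/-- If `b` is in the different then `b ^ 2` kills all differentials. -/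
theorem sq_smul_D_eq_zero (hb : IsDiff A b) (x : B) :
    (b * b) • KaehlerDifferential.D A B x = 0 := by
  classical
  choose c hc' using fun i => hb (e.coord i)
  have hc : ∀ i x, e.coord i (b * x) = Algebra.trace A B (c i * x) := hc'
  set t' : B ⊗[A] B := ∑ i, (b * c i) ⊗ₜ[A] e i with ht'
  have h1 : t' * ((1 : B) ⊗ₜ[A] x - x ⊗ₜ[A] (1 : B)) = 0 := by
    rw [mul_sub, sub_eq_zero, mul_comm, mul_comm t']
    exact (tmul_comm_elem hc x).symm
  have h2 : Algebra.TensorProduct.lmul' A t' = b * b := by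
    rw [ht', map_sum]
    simp only [Algebra.TensorProduct.lmul'_apply_tmul]
    rw [← sum_mul_eq hc, Finset.mul_sum]
    refine Finset.sum_congr rfl fun i _ => ?_
    ring
  have h3 := congrArg (KaehlerDifferential.D A B).tensorProductTo h1
  rw [Derivation.tensorProductTo_mul, map_zero, h2] at h3
  have h4 : Algebra.TensorProduct.lmul' A ((1 : B) ⊗ₜ[A] x - x ⊗ₜ[A] (1 : B)) = 0 := by
    rw [map_sub, Algebra.TensorProduct.lmul'_apply_tmul, Algebra.TensorProduct.lmul'_apply_tmul]
    ring
  rw [h4, zero_smul, add_zero, map_sub, Derivation.tensorProductTo_tmul,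
    Derivation.tensorProductTo_tmul, one_smul, Derivation.map_one_eq_zero, smul_zero,
    sub_zero] at h3
  exact h3

end PartI

section PartII

omit [DecidableEq ι] in
lemma repr_mul_basis (t' : B ⊗[A] B) (s : ι → B) (ht : t' = ∑ j, s j ⊗ₜ[A] e j) (x : B)
    (i : ι) :
    (Algebra.TensorProduct.basis B e).repr ((t' * (1 ⊗ₜ[A] x)) * (1 ⊗ₜ[A] e i)) i =
      ∑ j, s j * algebraMap A B (e.repr (e j * x * e i) i) := by
  rw [ht, Finset.sum_mul, Finset.sum_mul, map_sum, Finsupp.finsetSum_apply]
  refine Finset.sum_congr rfl fun j _ => ?_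
  rw [Algebra.TensorProduct.tmul_mul_tmul, Algebra.TensorProduct.tmul_mul_tmul, mul_one,
    mul_one, Algebra.TensorProduct.basis_repr_tmul]
  simp

/-- A twisted separability element `t` with `(c ⊗ 1) t = (1 ⊗ c) t` and `mult t = β` gives an
expansion of `x * β` through traces. -/
theorem exists_expand_of_elem (t : B ⊗[A] B) (β : B)
    (hcomm : ∀ c : B, (c ⊗ₜ[A] (1 : B)) * t = ((1 : B) ⊗ₜ[A] c) * t)
    (hβ : Algebra.TensorProduct.lmul' A t = β) :
    ∃ s : ι → B, ∀ x : B, x * β = ∑ i, Algebra.trace A B (e i * x) • s i := by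
  have : Module.Finite A B := Module.Finite.of_basis e
  have : Module.Free A B := Module.Free.of_basis e
  let bB := Algebra.TensorProduct.basis B e
  let s : ι → B := fun i => bB.repr t i
  have ht : t = ∑ i, s i ⊗ₜ[A] e i := by
    conv_lhs => rw [← bB.sum_repr t]
    refine Finset.sum_congr rfl fun i _ => ?_
    rw [Algebra.TensorProduct.basis_apply, TensorProduct.smul_tmul', smul_eq_mul, mul_one]
  refine ⟨s, fun x => ?_⟩
  rcases subsingleton_or_nontrivial B with hB | hB
  · exact Subsingleton.elim _ _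
  have key : ∀ w : B ⊗[A] B, (Algebra.TensorProduct.lmul' A w ⊗ₜ[A] (1:B)) * t = w * t := by
    intro w
    induction w using TensorProduct.induction_on with
    | zero => simp
    | tmul a c =>
      rw [Algebra.TensorProduct.lmul'_apply_tmul]
      have := hcomm c
      calc ((a * c) ⊗ₜ[A] (1:B)) * t = (a ⊗ₜ 1) * ((c ⊗ₜ 1) * t) := by
            rw [← mul_assoc, Algebra.TensorProduct.tmul_mul_tmul, mul_one]
        _ = (a ⊗ₜ 1) * ((1 ⊗ₜ c) * t) := by rw [this]
        _ = (a ⊗ₜ c) * t := by
            rw [← mul_assoc, Algebra.TensorProduct.tmul_mul_tmul, mul_one, one_mul]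
    | add w₁ w₂ h₁ h₂ => rw [map_add, add_tmul, add_mul, add_mul, h₁, h₂]
  let L : (B ⊗[A] B) →ₗ[B] (B ⊗[A] B) := LinearMap.mulLeft B (t * (1 ⊗ₜ x))
  let ι' : B →ₗ[B] (B ⊗[A] B) := LinearMap.toSpanSingleton B _ t
  let π : (B ⊗[A] B) →ₗ[B] B :=
    (Algebra.TensorProduct.lmul'' A).toLinearMap ∘ₗ LinearMap.mulLeft B (1 ⊗ₜ x)
  have h1 : ι' ∘ₗ π = L := by
    refine LinearMap.ext fun z => ?_
    change (Algebra.TensorProduct.lmul'' A ((1 ⊗ₜ[A] x) * z)) • t = (t * (1 ⊗ₜ[A] x)) * z
    have e' : ∀ w : B ⊗[A] B, Algebra.TensorProduct.lmul'' A w = Algebra.TensorProduct.lmul' A w :=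
      fun _ => rfl
    rw [e', Algebra.smul_def, Algebra.TensorProduct.algebraMap_apply, Algebra.algebraMap_self,
      RingHom.id_apply, key]
    ring
  have h2 : π ∘ₗ ι' = (x * β) • LinearMap.id := by
    refine LinearMap.ext fun y => ?_
    change Algebra.TensorProduct.lmul'' A ((1 ⊗ₜ[A] x) * (y • t)) = (x * β) • y
    have e' : ∀ w : B ⊗[A] B, Algebra.TensorProduct.lmul'' A w = Algebra.TensorProduct.lmul' A w :=
      fun _ => rfl
    rw [e', Algebra.smul_def, Algebra.TensorProduct.algebraMap_apply, Algebra.algebraMap_self,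
      RingHom.id_apply, map_mul, map_mul, hβ,
      Algebra.TensorProduct.lmul'_apply_tmul, Algebra.TensorProduct.lmul'_apply_tmul]
    simp only [one_mul, mul_one, smul_eq_mul]
    ring
  have hA : LinearMap.trace B _ L = x * β := by
    rw [← h1, LinearMap.trace_comp_comm', h2, map_smul, LinearMap.trace_id, Module.finrank_self]
    simp
  have hB : LinearMap.trace B _ L = ∑ i, Algebra.trace A B (e i * x) • s i := by
    rw [LinearMap.trace_eq_matrix_trace B bB, Matrix.trace]
    have hdiag : ∀ i, Matrix.diag (LinearMap.toMatrix bB bB L) i =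
        ∑ j, s j * algebraMap A B (e.repr (e j * x * e i) i) := by
      intro i
      rw [Matrix.diag_apply, LinearMap.toMatrix_apply, LinearMap.mulLeft_apply,
        Algebra.TensorProduct.basis_apply]
      exact repr_mul_basis e t s ht x i
    simp only [hdiag]
    rw [Finset.sum_comm]
    refine Finset.sum_congr rfl fun j _ => ?_
    rw [← Finset.mul_sum, ← map_sum, ← trace_eq_sum_repr e (e j * x), Algebra.smul_def, mul_comm]
  rw [← hB, hA]

include e in
/-- From such an element, `β` lies in the different. -/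
theorem isDiff_of_elem (t : B ⊗[A] B) (β : B)
    (hcomm : ∀ c : B, (c ⊗ₜ[A] (1 : B)) * t = ((1 : B) ⊗ₜ[A] c) * t)
    (hβ : Algebra.TensorProduct.lmul' A t = β) : IsDiff A β := by
  obtain ⟨s, hs⟩ := exists_expand_of_elem e t β hcomm hβ
  intro φ
  refine ⟨∑ i, φ (s i) • e i, fun x => ?_⟩
  rw [mul_comm β x, hs x, map_sum, Finset.sum_mul, map_sum]
  refine Finset.sum_congr rfl fun i _ => ?_
  rw [map_smul, smul_mul_assoc, map_smul, smul_eq_mul, smul_eq_mul, mul_comm]

end PartII

section CayleyHamilton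

open Polynomial

/-- If `g` kills `Ω[B⁄A]` (with `B` of finite type), a twisted separability element with
multiplication `g ^ n` exists. -/
theorem exists_elem_of_smul_kaehler_eq_zero [Algebra.FiniteType A B] (g : B)
    (hg : ∀ ω : Ω[B⁄A], g • ω = 0) :
    ∃ (n : ℕ) (t : B ⊗[A] B), (∀ c : B, (c ⊗ₜ[A] (1 : B)) * t = ((1 : B) ⊗ₜ[A] c) * t) ∧
      Algebra.TensorProduct.lmul' A t = g ^ n := by
  classical
  set I := KaehlerDifferential.ideal A B with hI
  set γ : B ⊗[A] B := g ⊗ₜ[A] (1 : B) with hγ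
  have hIfg : I.FG := KaehlerDifferential.ideal_fg A B
  haveI : Module.Finite (B ⊗[A] B) I := Module.Finite.iff_fg.mpr hIfg
  -- `γ • I ≤ I ^ 2`
  have hsq : ∀ z : I, γ * (z : B ⊗[A] B) ∈ I ^ 2 := by
    intro z
    have h1 : g • KaehlerDifferential.fromIdeal A B z = 0 :=
      hg (KaehlerDifferential.fromIdeal A B z)
    have hγ1 : g • (1 : B ⊗[A] B) = γ := by
      rw [hγ, Algebra.TensorProduct.one_def, smul_tmul', smul_eq_mul, mul_one]
    have h2 : g • KaehlerDifferential.fromIdeal A B z =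
        KaehlerDifferential.fromIdeal A B (γ • z) := by
      rw [map_smul, ← hγ1, smul_one_smul]
    rw [h2] at h1
    have h3 : I.toCotangent (γ • z) = 0 := h1
    rw [Ideal.toCotangent_eq_zero] at h3
    exact h3
  let f : Module.End (B ⊗[A] B) I := algebraMap (B ⊗[A] B) (Module.End (B ⊗[A] B) I) γ
  have hrange : LinearMap.range f ≤ I • (⊤ : Submodule (B ⊗[A] B) I) := by
    rintro _ ⟨z, rfl⟩
    rw [Submodule.mem_smul_top_iff]
    have := hsq z
    rw [pow_two] at this
    exact this
  obtain ⟨p, hmonic, -, hcoeff, hp⟩ :=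
    LinearMap.exists_monic_and_natDegree_eq_and_coeff_mem_pow_and_aeval_eq_zero
      (B ⊗[A] B) f I hrange
  rw [Polynomial.aeval_algebraMap_apply_eq_algebraMap_eval] at hp
  set r := p.eval γ with hr
  have hrI : ∀ z : B ⊗[A] B, z ∈ I → r * z = 0 := by
    intro z hz
    have := congrArg (fun F : Module.End (B ⊗[A] B) I => ((F ⟨z, hz⟩ : I) : B ⊗[A] B)) hp
    simpa using this
  refine ⟨p.natDegree, r, fun c => ?_, ?_⟩
  · have h1 := hrI _ (KaehlerDifferential.one_smul_sub_smul_one_mem_ideal A c)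
    rw [mul_sub, sub_eq_zero] at h1
    rw [mul_comm, ← h1, mul_comm]
  · -- `lmul' r = g ^ n`
    have hmap : p.map (Algebra.TensorProduct.lmul' A : B ⊗[A] B →ₐ[A] B).toRingHom =
        X ^ p.natDegree := by
      ext k
      rw [Polynomial.coeff_map, Polynomial.coeff_X_pow]
      rcases lt_trichotomy k p.natDegree with hk | hk | hk
      · rw [if_neg hk.ne]
        have h1 := hcoeff k
        have h2 : I ^ (p.natDegree - k) ≤ I := by
          have : p.natDegree - k ≠ 0 := by omega
          exact Ideal.pow_le_self this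
        exact h2 h1
      · rw [if_pos hk, hk]
        have : p.coeff p.natDegree = 1 := hmonic.coeff_natDegree
        rw [this]
        exact map_one _
      · rw [if_neg hk.ne', Polynomial.coeff_eq_zero_of_natDegree_lt hk]
        exact map_zero _
    have h3 : Algebra.TensorProduct.lmul' A r =
        (p.map (Algebra.TensorProduct.lmul' A : B ⊗[A] B →ₐ[A] B).toRingHom).eval
          (Algebra.TensorProduct.lmul' A γ) := by
      rw [hr, Polynomial.eval_map]
      exact Polynomial.hom_eval₂ p (RingHom.id _)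
        (Algebra.TensorProduct.lmul' A : B ⊗[A] B →ₐ[A] B).toRingHom γ
    rw [h3, hmap, Polynomial.eval_pow, Polynomial.eval_X, hγ,
      Algebra.TensorProduct.lmul'_apply_tmul, mul_one]

end CayleyHamilton

section Main

theorem isUnramifiedAt_iff_exists_smul_eq_zero [Algebra.FiniteType A B] (q : Ideal B)
    [hq : q.IsPrime] :
    Algebra.IsUnramifiedAt A q ↔ ∃ g : B, g ∉ q ∧ ∀ ω : Ω[B⁄A], g • ω = 0 := by
  have h1 : Algebra.IsUnramifiedAt A q ↔
      (⟨q, hq⟩ : PrimeSpectrum B) ∈ Algebra.unramifiedLocus A B := Iff.rfl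
  rw [h1, Algebra.unramifiedLocus_eq_compl_support, Set.mem_compl_iff,
    Module.support_eq_zeroLocus, PrimeSpectrum.mem_zeroLocus, Set.not_subset]
  constructor
  · rintro ⟨g, hg, hgq⟩
    exact ⟨g, hgq, fun ω => Module.mem_annihilator.mp hg ω⟩
  · rintro ⟨g, hgq, hg⟩
    exact ⟨g, Module.mem_annihilator.mpr hg, hgq⟩

theorem setOf_isDiff_subset_iff [Module.Finite A B] [Module.Free A B] (q : Ideal B)
    [hq : q.IsPrime] :
    {b : B | IsDiff A b} ⊆ (q : Set B) ↔ ¬ Algebra.IsUnramifiedAt A q := by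
  classical
  let e := Module.Free.chooseBasis A B
  rw [isUnramifiedAt_iff_exists_smul_eq_zero]
  constructor
  · rintro hD ⟨g, hgq, hg⟩
    obtain ⟨n, t, hcomm, hβ⟩ := exists_elem_of_smul_kaehler_eq_zero g hg
    have h1 : IsDiff A (g ^ n) := isDiff_of_elem e t (g ^ n) hcomm hβ
    exact hgq (hq.mem_of_pow_mem n (hD h1))
  · intro hnot b hb
    by_contra hbq
    apply hnot
    refine ⟨b * b, fun h => (hq.mem_or_mem h).elim hbq hbq, fun ω => ?_⟩
    have hω : ω ∈ Submodule.span B (Set.range (KaehlerDifferential.D A B)) := by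
      rw [KaehlerDifferential.span_range_derivation]; trivial
    refine Submodule.span_induction (p := fun ω _ => (b * b) • ω = 0) ?_ ?_ ?_ ?_ hω
    · rintro _ ⟨x, rfl⟩
      exact sq_smul_D_eq_zero (e := e) hb x
    · exact smul_zero _
    · intro x y _ _ hx hy
      rw [smul_add, hx, hy, add_zero]
    · intro c x _ hx
      rw [smul_comm, hx, smul_zero]

end Main

end Groth.Agent.Lib.T1H8.DiffUnram
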