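import Groth.Agent.Lib.T1H8DiffUnramA
import Groth.Statements.S2205

/-!
# S2205: the different is contained in `q` iff `A → B` is ramified at `q`
-/

set_option autoImplicit false

namespace Groth.Agent.Lib.T1H8.DiffUnram

universe u v

theorem main_S2205 {A : Type u} {B : Type v} [CommRing A]
    [CommRing B] [Algebra A B] [IsNoetherianRing A] [Module.Finite A B] [Module.Free A B]
    (q : Ideal B) [q.IsPrime] :
    Disc.differentSet A B ⊆ q ↔ ¬Algebra.IsUnramifiedAt A q :=
  setOf_isDiff_subset_iff q

end Groth.Agent.Lib.T1H8.DiffUnram
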