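import Mathlib
import Groth.Agent.S17968

/-!
# Henselian couples of schemes and henselian pairs of global sections (helper7, S17959)

* `mem_map_ker_of_one_tmul_eq_zero`: for flat `C`, `ker (C → M ⊗ C) = ker (R → M) · C`.
* `isPushout_appTop`, `bijective_appTop_of_bijective`, `mem_map_ker_of_appTop_eq_zero'`:
  flat base change of global sections of a qcqs scheme over an affine base.
* `isClopen_basicOpen`, `exists_idem_of_isClopen`, `idem_eq_of_basicOpen_eq`: open-closed subsets
  of a scheme correspond to idempotent global functions.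
* `ker_le_jacobson`, `henselian_of_couple`: a henselian couple `(X, X₀)` with `X` qcqs gives the
  henselian pair `(Γ(X, O_X), ker (Γ(X, O_X) → Γ(X₀, O_{X₀})))`.
-/

set_option autoImplicit false
set_option linter.unusedSectionVars false
set_option linter.unusedVariables false
set_option linter.style.haveILetI false
universe u
open CategoryTheory CategoryTheory.Limits AlgebraicGeometry TensorProduct Opposite

namespace Groth.Agent.Lib.T2H7.HensCouple


/-- For a flat `R`-algebra `C` and any `R`-algebra `M`, the kernel of `C → M ⊗ C` is the extension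
of the kernel of `R → M`. -/
theorem mem_map_ker_of_one_tmul_eq_zero (R M C : Type u) [CommRing R] [CommRing M] [CommRing C]
    [Algebra R M] [Algebra R C] [Module.Flat R C] (x : C)
    (hx : (1 : M) ⊗ₜ[R] x = 0) :
    x ∈ (RingHom.ker (algebraMap R M)).map (algebraMap R C) := by
  set J : Ideal R := RingHom.ker (algebraMap R M) with hJ
  have hex : Function.Exact (Submodule.subtype J) (Algebra.linearMap R M) := by
    intro r
    constructor
    · intro h
      exact ⟨⟨r, h⟩, rfl⟩
    · rintro ⟨y, rfl⟩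
      exact y.2
  have hex2 := Module.Flat.rTensor_exact C hex
  have h1 : (Algebra.linearMap R M).rTensor C ((1 : R) ⊗ₜ[R] x) = 0 := by
    rw [LinearMap.rTensor_tmul, Algebra.linearMap_apply, map_one]
    exact hx
  obtain ⟨y, hy⟩ := (hex2 _).mp h1
  have key : ∀ y : J ⊗[R] C, TensorProduct.lid R C ((Submodule.subtype J).rTensor C y) ∈
      J.map (algebraMap R C) := by
    intro y
    induction y using TensorProduct.induction_on with
    | zero => simp
    | tmul j c =>
      rw [LinearMap.rTensor_tmul, TensorProduct.lid_tmul, Submodule.subtype_apply,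
        Algebra.smul_def]
      exact Ideal.mul_mem_right _ _ (Ideal.mem_map_of_mem _ j.2)
    | add a b ha hb =>
      rw [map_add, map_add]
      exact Ideal.add_mem _ ha hb
  have := key y
  rw [hy, TensorProduct.lid_tmul, one_smul] at this
  exact this



section FBC

variable {W P : Scheme.{u}} [CompactSpace W] [QuasiSeparatedSpace W]
  (B C : Type u) [CommRing B] [CommRing C] [Algebra B C] [Module.Flat B C]
  (a : W ⟶ Spec (CommRingCat.of B)) (g' : P ⟶ W) (iP : P ⟶ Spec (CommRingCat.of C))
  (H : IsPullback g' iP a (Spec.map (CommRingCat.ofHom (algebraMap B C))))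

theorem flat_specMap : Flat (Spec.map (CommRingCat.ofHom (algebraMap B C))) := by
  rw [Flat.SpecMap_iff]
  simp only [CommRingCat.hom_ofHom]
  rw [RingHom.flat_algebraMap_iff]
  infer_instance

include H in
theorem isPushout_appTop :
    IsPushout a.appTop (Spec.map (CommRingCat.ofHom (algebraMap B C))).appTop
      g'.appTop iP.appTop := by
  set f := Spec.map (CommRingCat.ofHom (algebraMap B C)) with hf
  haveI : Flat f := flat_specMap B C
  have hUST : (⊤ : (Spec (CommRingCat.of C)).Opens) ≤ f ⁻¹ᵁ ⊤ := le_top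
  have hUSX : (⊤ : W.Opens) ≤ a ⁻¹ᵁ ⊤ := le_top
  have hUY : (⊤ : P.Opens) = g' ⁻¹ᵁ ⊤ ⊓ iP ⁻¹ᵁ ⊤ := by simp
  haveI := isIso_pushoutSection_of_isQuasiSeparated_of_flat_right H hUST hUSX hUY
    (isAffineOpen_top _) (isAffineOpen_top _) isCompact_univ isQuasiSeparated_univ
  have hpo := (isIso_pushoutSection_iff H hUST hUSX hUY).mp inferInstance
  have e1 : a.appLE ⊤ ⊤ hUSX = a.appTop := (Scheme.Hom.app_eq_appLE a).symm
  have e2 : f.appLE ⊤ ⊤ hUST = f.appTop := (Scheme.Hom.app_eq_appLE f).symm
  have e3 : g'.appLE ⊤ ⊤ le_top = g'.appTop := (Scheme.Hom.app_eq_appLE g').symm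
  have e4 : iP.appLE ⊤ ⊤ le_top = iP.appTop := (Scheme.Hom.app_eq_appLE iP).symm
  rw [e1, e2, e3, e4] at hpo
  exact hpo

include H in
theorem bijective_appTop_of_bijective (ha : Function.Bijective a.appTop.hom) :
    Function.Bijective iP.appTop.hom := by
  haveI : IsIso a.appTop := (ConcreteCategory.isIso_iff_bijective _).mpr ha
  haveI := (isPushout_appTop B C a g' iP H).isIso_inr_of_isIso
  exact ConcreteCategory.bijective_of_isIso iP.appTop

include H in
theorem mem_map_ker_of_appTop_eq_zero (x : Γ(Spec (CommRingCat.of C), ⊤))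
    (hx : iP.appTop.hom x = 0) :
    x ∈ (RingHom.ker a.appTop.hom).map
      (Spec.map (CommRingCat.ofHom (algebraMap B C))).appTop.hom := by
  set f := Spec.map (CommRingCat.ofHom (algebraMap B C)) with hf
  haveI : Flat f := flat_specMap B C
  have hpo := isPushout_appTop B C a g' iP H
  have hflat : f.appTop.hom.Flat := by
    have := f.flat_appLE (isAffineOpen_top _) (isAffineOpen_top _) (le_top : (⊤ : (Spec (CommRingCat.of C)).Opens) ≤ f ⁻¹ᵁ ⊤)
    rwa [show f.appLE ⊤ ⊤ le_top = f.appTop from (Scheme.Hom.app_eq_appLE f).symm] at this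
  letI : Algebra Γ(Spec (CommRingCat.of B), ⊤) Γ(W, ⊤) := a.appTop.hom.toAlgebra
  letI : Algebra Γ(Spec (CommRingCat.of B), ⊤) Γ(Spec (CommRingCat.of C), ⊤) :=
    f.appTop.hom.toAlgebra
  haveI : Module.Flat Γ(Spec (CommRingCat.of B), ⊤) Γ(Spec (CommRingCat.of C), ⊤) := hflat
  let e := (CommRingCat.isPushout_tensorProduct Γ(Spec (CommRingCat.of B), ⊤) Γ(W, ⊤)
    Γ(Spec (CommRingCat.of C), ⊤)).isoIsPushout _ _ hpo
  have he : CommRingCat.ofHom (S := Γ(W, ⊤) ⊗[Γ(Spec (CommRingCat.of B), ⊤)]
      Γ(Spec (CommRingCat.of C), ⊤)) Algebra.TensorProduct.includeRight.toRingHom ≫ e.hom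
      = iP.appTop := IsPushout.inr_isoIsPushout_hom _ _ _ _
  have h1 : e.hom.hom ((1 : Γ(W, ⊤)) ⊗ₜ[Γ(Spec (CommRingCat.of B), ⊤)] x) = 0 := by
    rw [← hx, ← he]
    rfl
  have h2 : (1 : Γ(W, ⊤)) ⊗ₜ[Γ(Spec (CommRingCat.of B), ⊤)] x = 0 := by
    have hinj : Function.Injective e.hom.hom :=
      (ConcreteCategory.bijective_of_isIso e.hom).injective
    apply hinj
    rw [h1, map_zero]
  exact mem_map_ker_of_one_tmul_eq_zero _ _ _ x h2

include H in
theorem mem_map_ker_of_appTop_eq_zero' (x : C)
    (hx : iP.appTop.hom ((Scheme.ΓSpecIso (CommRingCat.of C)).inv.hom x) = 0) :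
    x ∈ (RingHom.ker (a.appTop.hom.comp (Scheme.ΓSpecIso (CommRingCat.of B)).inv.hom)).map
      (algebraMap B C) := by
  have h1 := mem_map_ker_of_appTop_eq_zero B C a g' iP H _ hx
  have h2 := Ideal.mem_map_of_mem (Scheme.ΓSpecIso (CommRingCat.of C)).hom.hom h1
  have e0 : (Scheme.ΓSpecIso (CommRingCat.of C)).hom.hom
      ((Scheme.ΓSpecIso (CommRingCat.of C)).inv.hom x) = x := by
    rw [← CommRingCat.comp_apply, Iso.inv_hom_id]
    rfl
  rw [e0, Ideal.map_map] at h2
  have hnat : (Scheme.ΓSpecIso (CommRingCat.of C)).hom.hom.comp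
      (Spec.map (CommRingCat.ofHom (algebraMap B C))).appTop.hom =
      (algebraMap B C).comp (Scheme.ΓSpecIso (CommRingCat.of B)).hom.hom := by
    have := Scheme.ΓSpecIso_naturality (CommRingCat.ofHom (algebraMap B C))
    exact congrArg CommRingCat.Hom.hom this
  rw [hnat, ← Ideal.map_map] at h2
  refine Ideal.map_mono ?_ h2
  rw [Ideal.map_le_iff_le_comap]
  intro y hy
  rw [Ideal.mem_comap, RingHom.mem_ker, RingHom.comp_apply]
  rw [RingHom.mem_ker] at hy
  rw [← hy]
  congr 1
  rw [← CommRingCat.comp_apply, Iso.hom_inv_id]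
  rfl

end FBC



/-- the non-vanishing locus of an idempotent global function is open and closed -/
theorem isClopen_basicOpen (Y : Scheme.{u}) (e : Γ(Y, ⊤)) (he : IsIdempotentElem e) :
    IsClopen (Y.basicOpen e : Set Y) := by
  have h1 : Y.basicOpen e ⊓ Y.basicOpen (1 - e) = ⊥ := by
    rw [← Scheme.basicOpen_mul, mul_sub, mul_one, he.eq, sub_self, Scheme.basicOpen_zero]
  have h2 : ∀ y : Y, y ∈ Y.basicOpen e ∨ y ∈ Y.basicOpen (1 - e) := by
    intro y
    rw [Scheme.mem_basicOpen_top, Scheme.mem_basicOpen_top]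
    apply IsLocalRing.isUnit_or_isUnit_of_add_one
    rw [← map_add, add_sub_cancel, map_one]
  have hcompl : ((Y.basicOpen e : Set Y))ᶜ = (Y.basicOpen (1 - e) : Set Y) := by
    ext y
    constructor
    · intro hy
      exact (h2 y).resolve_left hy
    · intro hy hy'
      have : y ∈ Y.basicOpen e ⊓ Y.basicOpen (1 - e) := ⟨hy', hy⟩
      rw [h1] at this
      exact this
  exact ⟨⟨by rw [hcompl]; exact (Y.basicOpen (1 - e)).2⟩, (Y.basicOpen e).2⟩

/-- an idempotent global function that vanishes everywhere is zero -/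
theorem idem_eq_zero_of_basicOpen_eq_bot (Y : Scheme.{u}) (s : Γ(Y, ⊤)) (hs : IsIdempotentElem s)
    (h : Y.basicOpen s = ⊥) : s = 0 := by
  apply TopCat.Presheaf.section_ext Y.sheaf ⊤ s 0
  intro x hx
  rw [map_zero]
  set t := Y.presheaf.germ ⊤ x hx s with ht
  have htidem : IsIdempotentElem t := hs.map _
  have hnu : ¬ IsUnit t := by
    intro hu
    have : x ∈ Y.basicOpen s := (Scheme.mem_basicOpen_top Y s x).mpr hu
    rw [h] at this
    exact this
  have hu : IsUnit (1 - t) := (IsLocalRing.isUnit_or_isUnit_one_sub_self t).resolve_left hnu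
  have h0 : t * (1 - t) = 0 := by rw [mul_sub, mul_one, htidem.eq, sub_self]
  exact (hu.mul_left_eq_zero).mp h0

/-- idempotent global functions with the same non-vanishing locus are equal -/
theorem idem_eq_of_basicOpen_eq (Y : Scheme.{u}) (e f : Γ(Y, ⊤)) (he : IsIdempotentElem e)
    (hf : IsIdempotentElem f) (h : Y.basicOpen e = Y.basicOpen f) : e = f := by
  have key : ∀ a b : Γ(Y, ⊤), IsIdempotentElem a → IsIdempotentElem b →
      Y.basicOpen a = Y.basicOpen b → a * (1 - b) = 0 := by
    intro a b ha hb hab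
    apply idem_eq_zero_of_basicOpen_eq_bot Y _ (ha.mul hb.one_sub)
    rw [Scheme.basicOpen_mul, hab, ← Scheme.basicOpen_mul, mul_sub, mul_one, hb.eq, sub_self,
      Scheme.basicOpen_zero]
  have h1 := key e f he hf h
  have h2 := key f e hf he h.symm
  have e1 : e = e * f := by
    have : e * (1 - f) = e - e * f := by ring
    rw [this] at h1
    exact sub_eq_zero.mp h1
  have e2 : f = f * e := by
    have : f * (1 - e) = f - f * e := by ring
    rw [this] at h2
    exact sub_eq_zero.mp h2
  rw [e1, mul_comm, ← e2]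

/-- every open and closed subset of a scheme is the non-vanishing locus of an idempotent -/
theorem exists_idem_of_isClopen (Y : Scheme.{u}) (U : Set Y) (hU : IsClopen U) :
    ∃ e : Γ(Y, ⊤), IsIdempotentElem e ∧ (Y.basicOpen e : Set Y) = U := by
  let U₁ : Y.Opens := ⟨U, hU.isOpen⟩
  let U₂ : Y.Opens := ⟨Uᶜ, hU.compl.isOpen⟩
  have hdisj : U₁ ⊓ U₂ = ⊥ := by
    ext x
    simp [U₁, U₂]
  let Uf : Bool → Y.Opens := fun b => bif b then U₁ else U₂
  have hcov : (⊤ : Y.Opens) ≤ iSup Uf := by
    intro x _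
    rw [TopologicalSpace.Opens.mem_iSup]
    by_cases h : x ∈ U
    · exact ⟨true, h⟩
    · exact ⟨false, h⟩
  let sf : ∀ b, Γ(Y, Uf b) := fun b =>
    match b with
    | true => (1 : Γ(Y, U₁))
    | false => (0 : Γ(Y, U₂))
  have hcompat : TopCat.Presheaf.IsCompatible Y.presheaf Uf sf := by
    intro i j
    by_cases hij : i = j
    · subst hij
      rfl
    · haveI : Subsingleton Γ(Y, Uf i ⊓ Uf j) := by
        have : Uf i ⊓ Uf j = ⊥ := by
          cases i <;> cases j <;> simp_all [Uf, inf_comm]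
        rw [this]
        infer_instance
      exact Subsingleton.elim _ _
  obtain ⟨e, he, -⟩ := Y.sheaf.existsUnique_gluing' Uf ⊤ (fun b => homOfLE le_top) hcov sf hcompat
  have hidem : IsIdempotentElem e := by
    apply Y.sheaf.eq_of_locally_eq' Uf ⊤ (fun b => homOfLE le_top) hcov
    intro b
    rw [map_mul, he b]
    cases b
    · exact mul_zero _
    · exact mul_one _
  refine ⟨e, hidem, ?_⟩
  have h1 : U₁ ⊓ Y.basicOpen e = U₁ := by
    have := Scheme.basicOpen_res Y e (homOfLE (le_top : U₁ ≤ ⊤)).op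
    rw [← this]
    have he1 : Y.presheaf.map (homOfLE (le_top : U₁ ≤ ⊤)).op e = 1 := he true
    rw [he1]
    exact Scheme.basicOpen_of_isUnit _ isUnit_one
  have h2 : U₂ ⊓ Y.basicOpen e = ⊥ := by
    have := Scheme.basicOpen_res Y e (homOfLE (le_top : U₂ ≤ ⊤)).op
    rw [← this]
    have he0 : Y.presheaf.map (homOfLE (le_top : U₂ ≤ ⊤)).op e = 0 := he false
    rw [he0]
    exact Scheme.basicOpen_zero _ _
  ext x
  constructor
  · intro hx
    by_contra hxU
    have : x ∈ U₂ ⊓ Y.basicOpen e := ⟨hxU, hx⟩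
    rw [h2] at this
    exact this
  · intro hx
    have : x ∈ U₁ ⊓ Y.basicOpen e := by
      rw [h1]
      exact hx
    exact this.2



/-- In a henselian couple `(X, X₀)`, the ideal of global functions vanishing on `X₀` lies in the
Jacobson radical of `Γ(X, O_X)`. -/
theorem ker_le_jacobson {X X₀ : Scheme.{u}} (i : X₀ ⟶ X)
    (hX : ∀ (Y : Scheme.{u}) (g : Y ⟶ X), IsFinite g →
      ∀ V : Set ↥(pullback g i), IsClopen V →
        ∃! U : Set ↥Y, IsClopen U ∧ (pullback.fst g i).base ⁻¹' U = V) :
    RingHom.ker i.appTop.hom ≤ Ideal.jacobson ⊥ := by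
  intro b hb
  rw [Ideal.mem_jacobson_bot]
  intro c
  set s : Γ(X, ⊤) := b * c + 1 with hs
  have hs1 : i.appTop.hom s = 1 := by
    rw [hs, map_add, map_mul, RingHom.mem_ker.mp hb, zero_mul, zero_add, map_one]
  let Zc : TopologicalSpace.Closeds X :=
    ⟨(X.basicOpen s : Set X)ᶜ, (X.basicOpen s).2.isClosed_compl⟩
  let I := Scheme.IdealSheafData.vanishingIdeal Zc
  let ι := I.subschemeι
  have hrange : Set.range ι = (X.basicOpen s : Set X)ᶜ := by
    rw [Scheme.IdealSheafData.range_subschemeι, Scheme.IdealSheafData.coe_support_vanishingIdeal]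
    rfl
  haveI : IsEmpty ↥(pullback ι i) := by
    constructor
    intro z
    have h1 : ι (pullback.fst ι i z) = i (pullback.snd ι i z) := by
      rw [← Scheme.Hom.comp_apply, ← Scheme.Hom.comp_apply, pullback.condition]
    have h2 : ι (pullback.fst ι i z) ∈ (X.basicOpen s : Set X)ᶜ := by
      rw [← hrange]
      exact ⟨_, rfl⟩
    have h3 : pullback.snd ι i z ∈ i ⁻¹ᵁ X.basicOpen s := by
      rw [Scheme.preimage_basicOpen_top]
      have : i.appTop s = 1 := hs1
      rw [this, Scheme.basicOpen_of_isUnit _ isUnit_one]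
      trivial
    rw [h1] at h2
    exact h2 h3
  obtain ⟨U, hU, huniq⟩ := hX I.subscheme ι inferInstance ∅ isClopen_empty
  have h0 := huniq ∅ ⟨isClopen_empty, Set.preimage_empty⟩
  have huniv := huniq Set.univ ⟨isClopen_univ, Set.eq_empty_of_isEmpty _⟩
  have hemp : (Set.univ : Set I.subscheme) = ∅ := huniv.trans h0.symm
  have htop : X.basicOpen s = ⊤ := by
    ext x
    simp only [TopologicalSpace.Opens.coe_top, Set.mem_univ, iff_true]
    by_contra hx
    have : x ∈ Set.range ι := by
      rw [hrange]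
      exact hx
    obtain ⟨z, -⟩ := this
    have : z ∈ (Set.univ : Set I.subscheme) := trivial
    rw [hemp] at this
    exact this
  apply X.toRingedSpace.isUnit_of_isUnit_germ ⊤ s
  intro x hx
  apply (Scheme.mem_basicOpen_top X s x).mp
  rw [htop]
  trivial


/-- **A henselian couple `(X, X₀)` with `X` quasi-compact and quasi-separated gives a henselian
pair of global sections.** -/
theorem henselian_of_couple {X X₀ : Scheme.{u}} (i : X₀ ⟶ X) [IsClosedImmersion i]
    [CompactSpace ↥X] [QuasiSeparatedSpace ↥X]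
    (hX : ∀ (Y : Scheme.{u}) (g : Y ⟶ X), IsFinite g →
      ∀ V : Set ↥(pullback g i), IsClopen V →
        ∃! U : Set ↥Y, IsClopen U ∧ (pullback.fst g i).base ⁻¹' U = V) :
    HenselianRing (Γ(X, ⊤) : Type u) (RingHom.ker i.appTop.hom) := by
  refine Groth.Agent.S17968.aux (Γ(X, ⊤) : Type u) _ (ker_le_jacobson i hX) ?_
  intro m p hp _
  let B : Type u := (Γ(X, ⊤) : Type u)
  let J : Ideal B := RingHom.ker i.appTop.hom
  let C : Type u := AdjoinRoot p
  haveI : Module.Finite B C := hp.finite_adjoinRoot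
  haveI : Module.Free B C := hp.free_adjoinRoot
  let f : Spec (CommRingCat.of C) ⟶ Spec (CommRingCat.of B) :=
    Spec.map (CommRingCat.ofHom (algebraMap B C))
  let a : X ⟶ Spec (CommRingCat.of B) := X.toSpecΓ
  let g : pullback a f ⟶ X := pullback.fst a f
  let iY : pullback a f ⟶ Spec (CommRingCat.of C) := pullback.snd a f
  have H : IsPullback g iY a f := IsPullback.of_hasPullback a f
  haveI : IsFinite f := by
    rw [IsFinite.SpecMap_iff]
    simp only [CommRingCat.hom_ofHom]
    exact RingHom.finite_algebraMap.mpr inferInstance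
  haveI : IsFinite g := MorphismProperty.pullback_fst _ _ inferInstance
  have ha : Function.Bijective a.appTop.hom := by
    have : a.appTop = (Scheme.ΓSpecIso Γ(X, ⊤)).hom := Scheme.toSpecΓ_appTop X
    rw [this]
    exact ConcreteCategory.bijective_of_isIso _
  have hiY : Function.Bijective iY.appTop.hom := bijective_appTop_of_bijective B C a g iY H ha
  let ψ : C →+* Γ(pullback a f, ⊤) :=
    iY.appTop.hom.comp (Scheme.ΓSpecIso (CommRingCat.of C)).inv.hom
  have hψ : Function.Bijective ψ :=
    hiY.comp (ConcreteCategory.bijective_of_isIso (Scheme.ΓSpecIso (CommRingCat.of C)).inv)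
  let pr₁ : pullback g i ⟶ pullback a f := pullback.fst g i
  let pr₂ : pullback g i ⟶ X₀ := pullback.snd g i
  have H₀ : IsPullback pr₂ (pr₁ ≫ iY) (i ≫ a) f :=
    ((IsPullback.of_hasPullback g i).paste_horiz H.flip).flip
  haveI : CompactSpace ↥X₀ := QuasiCompact.compactSpace_of_compactSpace i
  haveI : QuasiSeparatedSpace ↥X₀ := quasiSeparatedSpace_of_quasiSeparated i
  have hker : RingHom.ker ((i ≫ a).appTop.hom.comp
      (Scheme.ΓSpecIso (CommRingCat.of B)).inv.hom) = J := by
    have h1 : (i ≫ a).appTop.hom.comp (Scheme.ΓSpecIso (CommRingCat.of B)).inv.hom =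
        i.appTop.hom := by
      have h2 : (Scheme.ΓSpecIso (CommRingCat.of B)).inv ≫ (i ≫ a).appTop = i.appTop := by
        rw [Scheme.Hom.comp_appTop]
        have : a.appTop = (Scheme.ΓSpecIso Γ(X, ⊤)).hom := Scheme.toSpecΓ_appTop X
        rw [this]
        exact Iso.inv_hom_id_assoc _ _
      exact congrArg CommRingCat.Hom.hom h2
    rw [h1]
  -- the forward vanishing: `J C` dies on `Y₀`
  have hzero : ∀ z ∈ J.map (algebraMap B C), pr₁.appTop.hom (ψ z) = 0 := by
    intro z hz
    have hle : J.map (algebraMap B C) ≤ RingHom.ker (pr₁.appTop.hom.comp ψ) := by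
      rw [Ideal.map_le_iff_le_comap]
      intro b hb
      rw [Ideal.mem_comap, RingHom.mem_ker]
      have e1 : (pr₁.appTop.hom.comp ψ) (algebraMap B C b) =
          ((Scheme.ΓSpecIso (CommRingCat.of B)).inv ≫ f.appTop ≫ iY.appTop ≫ pr₁.appTop).hom b := by
        have := Scheme.ΓSpecIso_inv_naturality (CommRingCat.ofHom (algebraMap B C))
        have h3 : (Scheme.ΓSpecIso (CommRingCat.of C)).inv.hom (algebraMap B C b) =
            f.appTop.hom ((Scheme.ΓSpecIso (CommRingCat.of B)).inv.hom b) :=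
          congrArg (fun φ => φ.hom b) this
        change pr₁.appTop.hom (iY.appTop.hom
          ((Scheme.ΓSpecIso (CommRingCat.of C)).inv.hom (algebraMap B C b))) = _
        rw [h3]
        rfl
      rw [e1]
      have e2 : f.appTop ≫ iY.appTop ≫ pr₁.appTop = a.appTop ≫ i.appTop ≫ pr₂.appTop := by
        rw [← Scheme.Hom.comp_appTop, ← Scheme.Hom.comp_appTop, ← Scheme.Hom.comp_appTop,
          ← Scheme.Hom.comp_appTop]
        congr 1
        rw [Category.assoc pr₂ i a]
        exact H₀.w.symm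
      rw [e2]
      have hcancel : a.appTop.hom ((Scheme.ΓSpecIso (CommRingCat.of B)).inv.hom b) = b := by
        have : a.appTop = (Scheme.ΓSpecIso Γ(X, ⊤)).hom := Scheme.toSpecΓ_appTop X
        rw [this]
        exact congrArg (fun φ => φ.hom b) (Iso.inv_hom_id (Scheme.ΓSpecIso Γ(X, ⊤)))
      change pr₂.appTop.hom (i.appTop.hom
        (a.appTop.hom ((Scheme.ΓSpecIso (CommRingCat.of B)).inv.hom b))) = 0
      rw [hcancel, RingHom.mem_ker.mp hb, map_zero]
    exact hle hz
  -- the main argument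
  intro ebar hebar
  obtain ⟨c, rfl⟩ := Ideal.Quotient.mk_surjective ebar
  have hc : c * c - c ∈ J.map (algebraMap B C) := by
    rw [← Ideal.Quotient.eq, map_mul]
    exact hebar
  set s₀ := pr₁.appTop.hom (ψ c) with hs₀def
  have hs₀ : IsIdempotentElem s₀ := by
    have := hzero _ hc
    rw [map_sub, map_sub, map_mul, map_mul, sub_eq_zero] at this
    exact this
  have hV := isClopen_basicOpen _ s₀ hs₀
  obtain ⟨U, ⟨hUcl, hUV⟩, -⟩ := hX (pullback a f) g inferInstance _ hV
  obtain ⟨e', he', heU⟩ := exists_idem_of_isClopen (pullback a f) U hUcl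
  obtain ⟨e, rfl⟩ := hψ.surjective e'
  have heidem : IsIdempotentElem e := by
    apply hψ.injective
    rw [map_mul]
    exact he'
  refine ⟨e, heidem, ?_⟩
  rw [Ideal.Quotient.eq]
  have h1 : pr₁.appTop.hom (ψ e) = s₀ := by
    apply idem_eq_of_basicOpen_eq _ _ _ (he'.map _) hs₀
    have h2 := Scheme.preimage_basicOpen_top pr₁ (ψ e)
    have h3 : (pr₁.appTop) (ψ e) = pr₁.appTop.hom (ψ e) := rfl
    rw [h3] at h2
    rw [← h2]
    apply SetLike.coe_injective
    rw [← hUV, ← heU]
    rfl
  have h4 : (pr₁ ≫ iY).appTop.hom ((Scheme.ΓSpecIso (CommRingCat.of C)).inv.hom (e - c)) = 0 := by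
    have : (pr₁ ≫ iY).appTop.hom ((Scheme.ΓSpecIso (CommRingCat.of C)).inv.hom (e - c)) =
        pr₁.appTop.hom (ψ (e - c)) := by
      rw [Scheme.Hom.comp_appTop]
      rfl
    rw [this, map_sub, map_sub, h1, sub_self]
  have h5 := mem_map_ker_of_appTop_eq_zero' B C (i ≫ a) pr₂ (pr₁ ≫ iY) H₀ (e - c) h4
  rw [hker] at h5
  exact h5

end Groth.Agent.Lib.T2H7.HensCouple
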