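import Mathlib
import Groth.Agent.Lib.Helper23GalDescent
set_option autoImplicit false
set_option linter.style.haveILetI false

/-!
# Idempotents of `L ⊗[k] A` for a finite Galois extension `L/k` (for S17746)
-/

namespace Groth.Agent.Lib.T2H8.GalIdem

universe u v w
open scoped TensorProduct

section Action
variable {k : Type u} {L : Type v} [Field k] [Field L] [Algebra k L]
variable {A : Type w} [CommRing A] [Algebra k A]

/-- the action of the Galois group on `L ⊗ A` -/
noncomputable def Phi (σ : L ≃ₐ[k] L) : L ⊗[k] A →ₐ[k] L ⊗[k] A :=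
  Algebra.TensorProduct.map (σ : L →ₐ[k] L) (AlgHom.id k A)

theorem Phi_tmul (σ : L ≃ₐ[k] L) (c : L) (a : A) : Phi σ (c ⊗ₜ[k] a) = σ c ⊗ₜ[k] a := by
  simp [Phi]

theorem Phi_one (b : L ⊗[k] A) : Phi (1 : L ≃ₐ[k] L) b = b := by
  induction b using TensorProduct.induction_on with
  | zero => simp
  | tmul c a => rw [Phi_tmul]; rfl
  | add x y hx hy => rw [map_add, hx, hy]

theorem Phi_mul (σ τ : L ≃ₐ[k] L) (b : L ⊗[k] A) : Phi (σ * τ) b = Phi σ (Phi τ b) := by
  induction b using TensorProduct.induction_on with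
  | zero => simp
  | tmul c a => rw [Phi_tmul, Phi_tmul, Phi_tmul]; rfl
  | add x y hx hy => rw [map_add, map_add, map_add, hx, hy]

theorem Phi_eq_smul (σ : L ≃ₐ[k] L) (b : L ⊗[k] A) : Phi σ b = σ • b := by
  induction b using TensorProduct.induction_on with
  | zero => simp
  | tmul c a => rw [Phi_tmul, TensorProduct.smul_tmul']; rfl
  | add x y hx hy => rw [map_add, smul_add, hx, hy]

theorem Phi_inv_apply (σ : L ≃ₐ[k] L) (b : L ⊗[k] A) : Phi σ⁻¹ (Phi σ b) = b := by
  rw [← Phi_mul, inv_mul_cancel, Phi_one]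

theorem Phi_apply_inv (σ : L ≃ₐ[k] L) (b : L ⊗[k] A) : Phi σ (Phi σ⁻¹ b) = b := by
  rw [← Phi_mul, mul_inv_cancel, Phi_one]

theorem Phi_injective (σ : L ≃ₐ[k] L) : Function.Injective (Phi (A := A) σ) := by
  intro x y h
  rw [← Phi_inv_apply σ x, h, Phi_inv_apply]

theorem exists_of_fixed [FiniteDimensional k L] [IsGalois k L] (b : L ⊗[k] A)
    (hb : ∀ σ : L ≃ₐ[k] L, Phi σ b = b) : ∃ a : A, (1 : L) ⊗ₜ[k] a = b := by
  apply Groth.Agent.Lib.Helper23.exists_one_tmul_eq_of_fixed
  intro σ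
  rw [← Phi_eq_smul, hb]

/-- an invariant idempotent is trivial if `A` has only trivial idempotents -/
theorem eq_zero_or_one_of_fixed [FiniteDimensional k L] [IsGalois k L]
    (hA : ∀ a : A, IsIdempotentElem a → a = 0 ∨ a = 1) (b : L ⊗[k] A)
    (hb : ∀ σ : L ≃ₐ[k] L, Phi σ b = b) (hidem : IsIdempotentElem b) : b = 0 ∨ b = 1 := by
  obtain ⟨a, rfl⟩ := exists_of_fixed b hb
  have ha : IsIdempotentElem a := by
    apply Groth.Agent.Lib.Helper23.one_tmul_injective (k := k) (K := L)
    change (1 : L) ⊗ₜ[k] (a * a) = (1 : L) ⊗ₜ[k] a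
    have := hidem.eq
    rw [Algebra.TensorProduct.tmul_mul_tmul, mul_one] at this
    exact this
  rcases hA a ha with rfl | rfl
  · left; simp
  · right; rfl

end Action

section Prod
variable {k : Type u} {L : Type v} [Field k] [Field L] [Algebra k L]
variable {A : Type w} [CommRing A] [Algebra k A] [DecidableEq (L ≃ₐ[k] L)]

/-- product of conjugates of `e` over a finite set -/
noncomputable def P (e : L ⊗[k] A) (S : Finset (L ≃ₐ[k] L)) : L ⊗[k] A := ∏ σ ∈ S, Phi σ e

variable {e : L ⊗[k] A} (he : IsIdempotentElem e)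

include he in
theorem Phi_idem (σ : L ≃ₐ[k] L) : IsIdempotentElem (Phi σ e) := he.map _

include he in
theorem P_idem (S : Finset (L ≃ₐ[k] L)) : IsIdempotentElem (P e S) := by
  unfold P IsIdempotentElem
  rw [← Finset.prod_mul_distrib]
  exact Finset.prod_congr rfl fun σ _ => Phi_idem he σ

include he in
theorem mul_P_of_mem {S : Finset (L ≃ₐ[k] L)} {σ : L ≃ₐ[k] L} (hσ : σ ∈ S) :
    Phi σ e * P e S = P e S := by
  classical
  unfold P
  rw [← Finset.mul_prod_erase S _ hσ, ← mul_assoc, (Phi_idem he σ).eq]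

theorem P_insert {S : Finset (L ≃ₐ[k] L)} {σ : L ≃ₐ[k] L} (hσ : σ ∉ S) :
    P e (insert σ S) = Phi σ e * P e S := by
  classical
  unfold P
  rw [Finset.prod_insert hσ]

theorem Phi_P (τ : L ≃ₐ[k] L) (S : Finset (L ≃ₐ[k] L)) :
    Phi τ (P e S) = P e (S.image (fun σ => τ * σ)) := by
  classical
  unfold P
  rw [map_prod, Finset.prod_image (fun x _ y _ h => mul_left_cancel h)]
  exact Finset.prod_congr rfl fun σ _ => (Phi_mul τ σ e).symm

end Prod

section Key
variable {k : Type u} {L : Type v} [Field k] [Field L] [Algebra k L] [FiniteDimensional k L]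
  [IsGalois k L]
variable {A : Type w} [CommRing A] [Algebra k A]

/-- a nonzero idempotent whose conjugates are pairwise equal or orthogonal, and which is not
invariant -/
theorem exists_good_idempotent (hA : ∀ a : A, IsIdempotentElem a → a = 0 ∨ a = 1)
    (e : L ⊗[k] A) (he : IsIdempotentElem e) (he0 : e ≠ 0) (he1 : e ≠ 1) :
    ∃ f : L ⊗[k] A, IsIdempotentElem f ∧ f ≠ 0 ∧
      (∀ τ : L ≃ₐ[k] L, Phi τ f = f ∨ f * Phi τ f = 0) ∧ ∃ τ : L ≃ₐ[k] L, Phi τ f ≠ f := by
  classical
  haveI : Fintype (L ≃ₐ[k] L) := Fintype.ofFinite _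
  -- a maximal set with nonzero product
  have hne : (Finset.univ.filter (fun S : Finset (L ≃ₐ[k] L) => P e S ≠ 0)).Nonempty := by
    refine ⟨{1}, ?_⟩
    rw [Finset.mem_filter]
    refine ⟨Finset.mem_univ _, ?_⟩
    unfold P
    rw [Finset.prod_singleton, Phi_one]
    exact he0
  obtain ⟨S, hS, hmax⟩ := Finset.exists_maximal hne
  rw [Finset.mem_filter] at hS
  have hSmax : ∀ σ : L ≃ₐ[k] L, Phi σ e * P e S ≠ 0 → σ ∈ S := by
    intro σ hσ
    by_contra hσS
    have h1 : insert σ S ∈ Finset.univ.filter (fun S : Finset (L ≃ₐ[k] L) => P e S ≠ 0) := by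
      rw [Finset.mem_filter]
      refine ⟨Finset.mem_univ _, ?_⟩
      rw [P_insert hσS]
      exact hσ
    exact hσS (hmax h1 (Finset.subset_insert σ S) (Finset.mem_insert_self σ S))
  have hSne : S.Nonempty := by
    by_contra hemp
    rw [Finset.not_nonempty_iff_eq_empty] at hemp
    have : (1 : L ≃ₐ[k] L) ∈ S := by
      apply hSmax
      rw [hemp, Phi_one]
      unfold P
      rw [Finset.prod_empty, mul_one]
      exact he0
    rw [hemp] at this
    exact absurd this (Finset.notMem_empty _)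
  refine ⟨P e S, P_idem he S, hS.2, ?_, ?_⟩
  · intro τ
    by_cases h0 : P e S * Phi τ (P e S) = 0
    · exact Or.inr h0
    left
    rw [Phi_P]
    have hsub : S.image (fun σ => τ * σ) ⊆ S := by
      intro σ' hσ'
      apply hSmax
      intro hzero
      apply h0
      rw [Phi_P, ← mul_P_of_mem he hσ', ← mul_assoc, mul_comm (P e S), hzero, zero_mul]
    have hcard : (S.image (fun σ => τ * σ)).card = S.card :=
      Finset.card_image_of_injective _ (fun x y h => mul_left_cancel h)
    rw [Finset.eq_of_subset_of_card_le hsub (le_of_eq hcard.symm)]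
  · by_contra hall
    push Not at hall
    rcases eq_zero_or_one_of_fixed hA (P e S) hall (P_idem he S) with h | h
    · exact hS.2 h
    · obtain ⟨σ, hσ⟩ := hSne
      have h2 := mul_P_of_mem he hσ
      rw [h, mul_one] at h2
      apply he1
      apply Phi_injective σ
      rw [h2, map_one]

end Key

section Good
variable {k : Type u} {L : Type v} [Field k] [Field L] [Algebra k L] [FiniteDimensional k L]
  [IsGalois k L]
variable {A : Type w} [CommRing A] [Algebra k A]

theorem exists_intermediateField_algHom_of_good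
    (hA : ∀ a : A, IsIdempotentElem a → a = 0 ∨ a = 1)
    (f : L ⊗[k] A) (hf : IsIdempotentElem f) (hf0 : f ≠ 0)
    (horth : ∀ τ : L ≃ₐ[k] L, Phi τ f = f ∨ f * Phi τ f = 0)
    (hnf : ∃ τ : L ≃ₐ[k] L, Phi τ f ≠ f) :
    ∃ F : IntermediateField k L, F ≠ ⊥ ∧ Nonempty (F →ₐ[k] A) := by
  classical
  haveI : Fintype (L ≃ₐ[k] L) := Fintype.ofFinite _
  set T : Finset (L ⊗[k] A) := Finset.univ.image (fun τ : L ≃ₐ[k] L => Phi τ f) with hT
  have hmemT : ∀ b, b ∈ T ↔ ∃ σ : L ≃ₐ[k] L, Phi σ f = b := by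
    intro b
    rw [hT, Finset.mem_image]
    simp
  have hT_idem : ∀ b ∈ T, IsIdempotentElem b := by
    intro b hb
    obtain ⟨σ, rfl⟩ := (hmemT b).mp hb
    exact hf.map _
  have hT_orth : ∀ b ∈ T, ∀ b' ∈ T, b ≠ b' → b * b' = 0 := by
    intro b hb b' hb' hne
    obtain ⟨σ, rfl⟩ := (hmemT b).mp hb
    obtain ⟨σ', rfl⟩ := (hmemT b').mp hb'
    have h1 : Phi σ' f = Phi σ (Phi (σ⁻¹ * σ') f) := by
      rw [← Phi_mul, mul_inv_cancel_left]
    rcases horth (σ⁻¹ * σ') with h | h
    · exfalso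
      apply hne
      rw [h1, h]
    · rw [h1, ← map_mul, h, map_zero]
  have hT_Phi : ∀ (τ : L ≃ₐ[k] L), ∀ b ∈ T, Phi τ b ∈ T := by
    intro τ b hb
    obtain ⟨σ, rfl⟩ := (hmemT b).mp hb
    rw [hmemT]
    exact ⟨τ * σ, Phi_mul τ σ f⟩
  have hfT : f ∈ T := (hmemT f).mpr ⟨1, Phi_one f⟩
  set u : L ⊗[k] A := ∑ b ∈ T, b with hu
  have hu_mul : ∀ b ∈ T, u * b = b := by
    intro b hb
    rw [hu, Finset.sum_mul, Finset.sum_eq_single b]
    · exact (hT_idem b hb).eq
    · intro b' hb' hne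
      exact hT_orth b' hb' b hb hne
    · intro h
      exact absurd hb h
  have hu_idem : IsIdempotentElem u := by
    unfold IsIdempotentElem
    conv_lhs => rw [hu, Finset.mul_sum]
    rw [hu]
    exact Finset.sum_congr rfl fun b hb => hu_mul b hb
  have hsum_perm : ∀ (τ : L ≃ₐ[k] L) (g : L ⊗[k] A → L ⊗[k] A),
      ∑ b ∈ T, g (Phi τ b) = ∑ b ∈ T, g b := by
    intro τ g
    refine Finset.sum_nbij (fun b => Phi τ b) (fun b hb => hT_Phi τ b hb) ?_ ?_ (fun _ _ => rfl)
    · intro x _ y _ h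
      exact Phi_injective τ h
    · intro b' hb'
      refine ⟨Phi τ⁻¹ b', hT_Phi τ⁻¹ b' hb', ?_⟩
      exact Phi_apply_inv τ b'
  have hu_inv : ∀ τ : L ≃ₐ[k] L, Phi τ u = u := by
    intro τ
    rw [hu, map_sum]
    exact hsum_perm τ id
  have hu1 : u = 1 := by
    rcases eq_zero_or_one_of_fixed hA u hu_inv hu_idem with h | h
    · exfalso
      apply hf0
      rw [← hu_mul f hfT, h, zero_mul]
    · exact h
  -- representatives
  let rep : L ⊗[k] A → (L ≃ₐ[k] L) := fun b =>
    if h : ∃ σ : L ≃ₐ[k] L, Phi σ f = b then h.choose else 1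
  have hrep : ∀ b ∈ T, Phi (rep b) f = b := by
    intro b hb
    have h := (hmemT b).mp hb
    simp only [rep, dif_pos h]
    exact h.choose_spec
  -- the stabilizer
  let H : Subgroup (L ≃ₐ[k] L) :=
    { carrier := {τ | Phi τ f = f}
      mul_mem' := by
        intro a b ha hb
        rw [Set.mem_setOf_eq] at ha hb ⊢
        rw [Phi_mul, hb, ha]
      one_mem' := Phi_one f
      inv_mem' := by
        intro a ha
        rw [Set.mem_setOf_eq] at ha ⊢
        conv_lhs => rw [← ha]
        exact Phi_inv_apply a f }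
  have hH : ∀ τ : L ≃ₐ[k] L, τ ∈ H ↔ Phi τ f = f := fun τ => Iff.rfl
  have hc : ∀ c ∈ IntermediateField.fixedField H, ∀ σ σ' : L ≃ₐ[k] L,
      Phi σ f = Phi σ' f → σ c = σ' c := by
    intro c hcF σ σ' h
    rw [IntermediateField.mem_fixedField_iff] at hcF
    have hmem : σ'⁻¹ * σ ∈ H := by
      rw [hH, Phi_mul, h, Phi_inv_apply]
    have h2 := hcF _ hmem
    have h3 : σ' ((σ'⁻¹ * σ) c) = σ c := by
      change σ' (σ'⁻¹ (σ c)) = σ c
      exact AlgEquiv.apply_symm_apply σ' (σ c)
    rw [h2] at h3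
    exact h3.symm
  refine ⟨IntermediateField.fixedField H, ?_, ?_⟩
  · intro hbot
    obtain ⟨τ, hτ⟩ := hnf
    apply hτ
    rw [← hH]
    have h1 := IntermediateField.fixingSubgroup_fixedField H
    rw [hbot, IntermediateField.fixingSubgroup_bot] at h1
    rw [← h1]
    exact Subgroup.mem_top τ
  · -- the map `Ψ`
    let Ψl : L →ₗ[k] L ⊗[k] A := ∑ b ∈ T, (LinearMap.mulLeft k b) ∘ₗ
      (Algebra.TensorProduct.includeLeft : L →ₐ[k] L ⊗[k] A).toLinearMap ∘ₗ
      ((rep b : L ≃ₐ[k] L) : L →ₐ[k] L).toLinearMap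
    have hΨl : ∀ c : L, Ψl c = ∑ b ∈ T, b * ((rep b c) ⊗ₜ[k] (1 : A)) := by
      intro c
      simp only [Ψl, LinearMap.sum_apply, LinearMap.comp_apply, LinearMap.mulLeft_apply]
      rfl
    have hΨ_one : Ψl 1 = 1 := by
      rw [hΨl]
      have : ∀ b ∈ T, b * ((rep b (1 : L)) ⊗ₜ[k] (1 : A)) = b := by
        intro b _
        rw [map_one]
        exact mul_one b
      rw [Finset.sum_congr rfl this]
      exact hu1
    have hΨ_mul : ∀ c d : L, Ψl (c * d) = Ψl c * Ψl d := by
      intro c d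
      rw [hΨl, hΨl, hΨl, Finset.sum_mul_sum]
      refine Finset.sum_congr rfl fun b hb => ?_
      rw [Finset.sum_eq_single b]
      · rw [mul_mul_mul_comm, (hT_idem b hb).eq, Algebra.TensorProduct.tmul_mul_tmul, mul_one,
          map_mul]
      · intro b' hb' hne
        rw [mul_mul_mul_comm, hT_orth b hb b' hb' (Ne.symm hne), zero_mul]
      · intro h
        exact absurd hb h
    let Ψ : L →ₐ[k] L ⊗[k] A := AlgHom.ofLinearMap Ψl hΨ_one hΨ_mul
    have hΨ : ∀ c : L, Ψ c = ∑ b ∈ T, b * ((rep b c) ⊗ₜ[k] (1 : A)) := hΨl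
    -- invariance on the fixed field
    have hΨ_inv : ∀ c ∈ IntermediateField.fixedField H, ∀ τ : L ≃ₐ[k] L, Phi τ (Ψ c) = Ψ c := by
      intro c hcF τ
      rw [hΨ, map_sum]
      have h1 : ∀ b ∈ T, Phi τ (b * ((rep b c) ⊗ₜ[k] (1 : A))) =
          (fun b' => b' * ((rep b' c) ⊗ₜ[k] (1 : A))) (Phi τ b) := by
        intro b hb
        rw [map_mul, Phi_tmul]
        have h2 : τ (rep b c) = rep (Phi τ b) c := by
          have := hc c hcF (τ * rep b) (rep (Phi τ b)) (by
            rw [Phi_mul, hrep b hb, hrep (Phi τ b) (hT_Phi τ b hb)])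
          exact this
        rw [h2]
      rw [Finset.sum_congr rfl h1]
      exact hsum_perm τ (fun b' => b' * ((rep b' c) ⊗ₜ[k] (1 : A)))
    let incR : A →ₐ[k] L ⊗[k] A := Algebra.TensorProduct.includeRight
    have hinj : Function.Injective incR :=
      Groth.Agent.Lib.Helper23.one_tmul_injective (k := k) (K := L)
    have hmem : ∀ c : IntermediateField.fixedField H,
        (Ψ.comp (IntermediateField.fixedField H).val) c ∈ incR.range := by
      intro c
      obtain ⟨a, ha⟩ := exists_of_fixed (Ψ c) (hΨ_inv c c.2)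
      exact ⟨a, ha⟩
    exact ⟨((AlgEquiv.ofInjective incR hinj).symm : incR.range →ₐ[k] A).comp
      ((Ψ.comp (IntermediateField.fixedField H).val).codRestrict incR.range hmem)⟩

end Good

section Final
variable {k : Type u} {L : Type v} [Field k] [Field L] [Algebra k L] [FiniteDimensional k L]
  [IsGalois k L]
variable {A : Type w} [CommRing A] [Algebra k A]

/-- **Galois idempotent lemma**: if `A` has only trivial idempotents but `L ⊗[k] A` has a nontrivial
one (`L/k` finite Galois), then a nontrivial subextension of `L/k` embeds into `A`. -/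
theorem exists_intermediateField_algHom (hA : ∀ a : A, IsIdempotentElem a → a = 0 ∨ a = 1)
    (e : L ⊗[k] A) (he : IsIdempotentElem e) (he0 : e ≠ 0) (he1 : e ≠ 1) :
    ∃ F : IntermediateField k L, F ≠ ⊥ ∧ Nonempty (F →ₐ[k] A) := by
  obtain ⟨f, hf, hf0, horth, hnf⟩ := exists_good_idempotent hA e he he0 he1
  exact exists_intermediateField_algHom_of_good hA f hf hf0 horth hnf

end Final

end Groth.Agent.Lib.T2H8.GalIdem
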