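import Mathlib
import Groth.Agent.Lib.T2H7HensCouple
import Groth.Agent.Lib.T2H8GalIdemA
set_option autoImplicit false
set_option linter.style.haveILetI false

/-!
# A connected `k`-scheme whose base change to a finite Galois extension is disconnected
factors through a nontrivial subextension (for S17746)
-/

namespace Groth.Agent.Lib.T2H8.GalIdemSch

universe u
open AlgebraicGeometry CategoryTheory CategoryTheory.Limits TensorProduct
open Groth.Agent.Lib.T2H7.HensCouple

section Idem

theorem idem_trivial_of_connected (X : Scheme.{u}) [ConnectedSpace X] (e : Γ(X, ⊤))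
    (he : IsIdempotentElem e) : e = 0 ∨ e = 1 := by
  have hcl := isClopen_basicOpen X e he
  rcases isClopen_iff.mp hcl with h | h
  · left
    apply idem_eq_zero_of_basicOpen_eq_bot X e he
    apply TopologicalSpace.Opens.ext
    rw [h]
    rfl
  · right
    apply idem_eq_of_basicOpen_eq X e 1 he IsIdempotentElem.one
    apply TopologicalSpace.Opens.ext
    rw [h, Scheme.basicOpen_of_isUnit X isUnit_one]
    rfl

theorem exists_idem_of_not_connected (Y : Scheme.{u}) [Nonempty Y] (h : ¬ ConnectedSpace Y) :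
    ∃ e : Γ(Y, ⊤), IsIdempotentElem e ∧ e ≠ 0 ∧ e ≠ 1 := by
  have h1 : ¬ PreconnectedSpace Y := fun hp => h { toPreconnectedSpace := hp, toNonempty := inferInstance }
  rw [preconnectedSpace_iff_clopen] at h1
  push Not at h1
  obtain ⟨s, hs, hs0, hs1⟩ := h1
  obtain ⟨e, he, hes⟩ := exists_idem_of_isClopen Y s hs
  refine ⟨e, he, ?_, ?_⟩
  · rintro rfl
    rw [← hes, Scheme.basicOpen_zero] at hs0
    obtain ⟨y, hy⟩ := hs0
    exact hy
  · rintro rfl
    apply hs1
    rw [← hes, Scheme.basicOpen_of_isUnit Y isUnit_one]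
    rfl

end Idem

theorem appLE_top_top {X Y : Scheme.{u}} (f : X ⟶ Y) (h : (⊤ : X.Opens) ≤ f ⁻¹ᵁ ⊤) :
    f.appLE ⊤ ⊤ h = f.appTop :=
  Scheme.Hom.appLE_eq_app f

section BC
variable (k L : Type u) [Field k] [Field L] [Algebra k L] {X : Scheme.{u}}
  (p : X ⟶ Spec (CommRingCat.of k))

/-- the `k`-algebra structure on global sections -/
noncomputable abbrev gammaAlg : Algebra k Γ(X, ⊤) :=
  ((Scheme.ΓSpecIso (CommRingCat.of k)).inv ≫ p.appTop).hom.toAlgebra

theorem flat_specMap : Flat (Spec.map (CommRingCat.ofHom (algebraMap k L))) := by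
  rw [HasRingHomProperty.Spec_iff (P := @Flat), CommRingCat.hom_ofHom, RingHom.flat_algebraMap_iff]
  infer_instance

theorem exists_ringEquiv [QuasiCompact p] [QuasiSeparated p] :
    letI := gammaAlg k p
    Nonempty (L ⊗[k] Γ(X, ⊤) ≃+*
      Γ(pullback p (Spec.map (CommRingCat.ofHom (algebraMap k L))), ⊤)) := by
  letI := gammaAlg k p
  haveI := flat_specMap k L
  haveI : CompactSpace X := QuasiCompact.compactSpace_of_compactSpace p
  haveI : QuasiSeparatedSpace X := quasiSeparatedSpace_of_quasiSeparated p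
  have H : IsPullback (pullback.fst p (Spec.map (CommRingCat.ofHom (algebraMap k L))))
      (pullback.snd p (Spec.map (CommRingCat.ofHom (algebraMap k L)))) p
      (Spec.map (CommRingCat.ofHom (algebraMap k L))) := IsPullback.of_hasPullback _ _
  have hiso := isIso_pushoutSection_of_isQuasiSeparated_of_flat_right H
    (US := ⊤) (UT := ⊤) (UX := ⊤) (UY := ⊤) le_top le_top (by simp) (isAffineOpen_top _)
    (isAffineOpen_top _) isCompact_univ (isQuasiSeparated_univ_iff.mpr inferInstance)
  have hpo := (isIso_pushoutSection_iff H le_top le_top (by simp)).mp hiso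
  have hpo' : IsPushout ((Scheme.ΓSpecIso (CommRingCat.of k)).inv ≫ p.appTop)
      (CommRingCat.ofHom (algebraMap k L))
      ((pullback.fst p (Spec.map (CommRingCat.ofHom (algebraMap k L)))).appLE ⊤ ⊤ (by simp))
      ((Scheme.ΓSpecIso (CommRingCat.of L)).inv ≫
        (pullback.snd p (Spec.map (CommRingCat.ofHom (algebraMap k L)))).appLE ⊤ ⊤ (by simp)) := by
    refine hpo.of_iso (Scheme.ΓSpecIso (CommRingCat.of k)) (Iso.refl _)
      (Scheme.ΓSpecIso (CommRingCat.of L)) (Iso.refl _) ?_ ?_ ?_ ?_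
    · rw [Iso.refl_hom, Category.comp_id, Iso.hom_inv_id_assoc, appLE_top_top]
    · rw [appLE_top_top]
      exact Scheme.ΓSpecIso_naturality (CommRingCat.ofHom (algebraMap k L))
    · rw [Iso.refl_hom, Iso.refl_hom, Category.comp_id, Category.id_comp]
    · rw [Iso.refl_hom, Category.comp_id, Iso.hom_inv_id_assoc]
  have hten := CommRingCat.isPushout_tensorProduct k L Γ(X, ⊤)
  let e := hten.isoIsPushout _ _ hpo'.flip
  exact ⟨e.commRingCatIsoToRingEquiv⟩

theorem surjective_specMap : Surjective (Spec.map (CommRingCat.ofHom (algebraMap k L))) :=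
  ⟨fun _ => ⟨default, Subsingleton.elim _ _⟩⟩

theorem exists_factor [FiniteDimensional k L] [IsGalois k L] [QuasiCompact p] [QuasiSeparated p]
    [ConnectedSpace X]
    (hdisc : ¬ ConnectedSpace ↥(pullback p (Spec.map (CommRingCat.ofHom (algebraMap k L))))) :
    ∃ F : IntermediateField k L, F ≠ ⊥ ∧ ∃ g : X ⟶ Spec (CommRingCat.of F),
      g ≫ Spec.map (CommRingCat.ofHom (algebraMap k F)) = p := by
  letI := gammaAlg k p
  obtain ⟨θ⟩ := exists_ringEquiv k L p
  haveI := surjective_specMap k L
  haveI : Nonempty ↥(pullback p (Spec.map (CommRingCat.ofHom (algebraMap k L)))) := by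
    obtain ⟨x⟩ : Nonempty X := inferInstance
    obtain ⟨y, -⟩ := (pullback.fst p (Spec.map (CommRingCat.ofHom (algebraMap k L)))).surjective x
    exact ⟨y⟩
  obtain ⟨e, he, he0, he1⟩ := exists_idem_of_not_connected _ hdisc
  have he' : IsIdempotentElem (θ.symm e) := he.map θ.symm
  have he0' : θ.symm e ≠ 0 := by
    intro h
    apply he0
    rw [← θ.apply_symm_apply e, h, map_zero]
  have he1' : θ.symm e ≠ 1 := by
    intro h
    apply he1
    rw [← θ.apply_symm_apply e, h, map_one]
  obtain ⟨F, hF, ⟨ψ⟩⟩ := Groth.Agent.Lib.T2H8.GalIdem.exists_intermediateField_algHom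
    (idem_trivial_of_connected X) (θ.symm e) he' he0' he1'
  refine ⟨F, hF, X.toSpecΓ ≫ Spec.map (CommRingCat.ofHom ψ.toRingHom), ?_⟩
  rw [Category.assoc, ← Spec.map_comp]
  have h1 : CommRingCat.ofHom (algebraMap k F) ≫ CommRingCat.ofHom ψ.toRingHom =
      (Scheme.ΓSpecIso (CommRingCat.of k)).inv ≫ p.appTop := by
    ext a
    exact ψ.commutes a
  rw [h1, Spec.map_comp, ← Scheme.toSpecΓ_naturality_assoc, toSpecΓ_SpecMap_ΓSpecIso_inv,
    Category.comp_id]

end BC

end Groth.Agent.Lib.T2H8.GalIdemSch
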