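import Mathlib
import Groth.Agent.Lib.T2H8GalIdemB
import Groth.Agent.Lib.Helper6BcRed2
import Groth.Agent.Lib.Helper11SmInt
set_option autoImplicit false
set_option linter.style.haveILetI false

/-!
# S17738: an irreducible normal variety whose base change to a finite Galois extension is reducible
factors through a nontrivial subextension
-/

namespace Groth.Agent.Lib.T1H8.Factor

universe u
open AlgebraicGeometry CategoryTheory CategoryTheory.Limits TensorProduct

theorem isGeometricallyReduced_of_finite_separable (k L : Type u) [Field k] [Field L] [Algebra k L]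
    [FiniteDimensional k L] [Algebra.IsSeparable k L] : Algebra.IsGeometricallyReduced k L := by
  rw [Algebra.isGeometricallyReduced_field_iff]
  haveI : Algebra.FormallyUnramified k L := Algebra.FormallyUnramified.of_isSeparable k L
  haveI : Algebra.FormallyUnramified (AlgebraicClosure k) (AlgebraicClosure k ⊗[k] L) := inferInstance
  haveI : Algebra.EssFiniteType (AlgebraicClosure k) (AlgebraicClosure k ⊗[k] L) := inferInstance
  exact Algebra.FormallyUnramified.isReduced_of_field (AlgebraicClosure k) (AlgebraicClosure k ⊗[k] L)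

theorem main_S17738
    (k : Type u) [Field k] (X : Scheme.{u}) [X.Over (Spec (CommRingCat.of k))]
    [IrreducibleSpace X] (hX : Pi1.IsNormalScheme X)
    [IsSeparated (X ↘ Spec (CommRingCat.of k))] [LocallyOfFiniteType (X ↘ Spec (CommRingCat.of k))]
    [QuasiCompact (X ↘ Spec (CommRingCat.of k))]
    (L : Type u) [Field L] [Algebra k L] [FiniteDimensional k L] [IsGalois k L]
    (hred : ¬ IrreducibleSpace ↥(Curv2.bc k X L)) :
    ∃ F : IntermediateField k L, F ≠ ⊥ ∧
      ∃ g : X ⟶ Spec (CommRingCat.of F),
        g ≫ Spec.map (CommRingCat.ofHom (algebraMap k F)) = X ↘ Spec (CommRingCat.of k) := by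
  apply Groth.Agent.Lib.T2H8.GalIdemSch.exists_factor k L (X ↘ Spec (CommRingCat.of k))
  intro hconn
  apply hred
  haveI : ConnectedSpace ↥(Curv2.bc k X L) := hconn
  haveI := isGeometricallyReduced_of_finite_separable k L
  have hnorm := Groth.Agent.Lib.Helper6.BcRed.isNormalScheme_bc_of_separable k X hX L
  haveI : IsLocallyNoetherian (Curv2.bc k X L) :=
    LocallyOfFiniteType.isLocallyNoetherian (Curv2.bcSnd k X L)
  haveI : CompactSpace ↥(Curv2.bc k X L) :=
    QuasiCompact.compactSpace_of_compactSpace (Curv2.bcSnd k X L)
  haveI : IsNoetherian (Curv2.bc k X L) := {}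
  haveI : IsIntegral (Curv2.bc k X L) :=
    Groth.Agent.Lib.Helper11SmInt.isIntegral_of_connected_of_isDomain_stalk (fun y => (hnorm y).1)
  infer_instance

end Groth.Agent.Lib.T1H8.Factor
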