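import Mathlib
import Groth.Agent.Lib.T2H7KosKey
import Groth.Agent.Lib.Helper13Kz
/-
Helper library (helper8): homology of an iterated cone `Kz l X` of multiplications that are
null-homotopic on `X` is a binomial sum of shifted homologies of `X`; application to Koszul
complexes of concatenations `xs ++ ys` with `ys ⊆ (xs)`.
-/
set_option backward.isDefEq.respectTransparency.types false

set_option autoImplicit false
set_option maxHeartbeats 400000
universe u
open CategoryTheory CategoryTheory.Limits CochainComplex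

namespace Groth.Agent.Lib.T1H8.KosAppend

open Groth.Agent.Lib.T2H7.KosSplit

variable {A : Type u} [CommRing A]

section Pascal

variable (H : ℤ → Type u) [∀ n, AddCommGroup (H n)] [∀ n, Module A (H n)]

/-- transport along an equality of degrees -/
def hcast {n n' : ℤ} (h : n = n') : H n ≃ₗ[A] H n' := h ▸ LinearEquiv.refl A _

/-- the `ℕ`-indexed binomial module -/
abbrev Q (r : ℕ) (m : ℤ) : Type u := (j : ℕ) → Fin (r.choose j) → H (m + (j : ℤ))

/-- splitting off the zeroth factor of an `ℕ`-indexed product -/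
def splitZero (F : ℕ → Type u) [∀ n, AddCommGroup (F n)] [∀ n, Module A (F n)] :
    ((j : ℕ) → F j) ≃ₗ[A] (F 0 × ((j : ℕ) → F (j + 1))) where
  toFun g := (g 0, fun j => g (j + 1))
  invFun p := fun j => Nat.casesOn j p.1 p.2
  left_inv g := by
    funext j
    cases j <;> rfl
  right_inv p := rfl
  map_add' _ _ := rfl
  map_smul' _ _ := rfl

/-- a product of products -/
def piProd (U V : ℕ → Type u) [∀ n, AddCommGroup (U n)] [∀ n, Module A (U n)]
    [∀ n, AddCommGroup (V n)] [∀ n, Module A (V n)] :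
    ((j : ℕ) → (U j × V j)) ≃ₗ[A] (((j : ℕ) → U j) × ((j : ℕ) → V j)) where
  toFun g := (fun j => (g j).1, fun j => (g j).2)
  invFun p := fun j => (p.1 j, p.2 j)
  left_inv _ := rfl
  right_inv _ := rfl
  map_add' _ _ := rfl
  map_smul' _ _ := rfl

/-- Pascal's rule for the binomial modules -/
theorem pascal (r : ℕ) (m : ℤ) :
    Nonempty (Q H (r + 1) m ≃ₗ[A] (Q H r m × Q H r (m + 1))) := by
  -- split off zero
  let e1 := splitZero (A := A) (fun j => Fin ((r + 1).choose j) → H (m + (j : ℤ)))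
  -- the zeroth factor
  have e2 : (Fin ((r + 1).choose 0) → H (m + ((0 : ℕ) : ℤ))) ≃ₗ[A]
      (Fin (r.choose 0) → H (m + ((0 : ℕ) : ℤ))) :=
    LinearEquiv.funCongrLeft A _ (finCongr (by simp))
  -- the successor factors
  have e3 : ∀ j : ℕ, (Fin ((r + 1).choose (j + 1)) → H (m + ((j + 1 : ℕ) : ℤ))) ≃ₗ[A]
      ((Fin (r.choose (j + 1)) → H (m + ((j + 1 : ℕ) : ℤ))) ×
        (Fin (r.choose j) → H (m + 1 + (j : ℤ)))) := by
    intro j
    have hc : (r + 1).choose (j + 1) = r.choose (j + 1) + r.choose j := by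
      rw [Nat.choose_succ_succ, add_comm]
    have hd : m + ((j + 1 : ℕ) : ℤ) = m + 1 + (j : ℤ) := by push_cast; ring
    exact (LinearEquiv.funCongrLeft A _ ((finCongr hc).trans finSumFinEquiv.symm)).symm.trans
      ((LinearEquiv.sumArrowLequivProdArrow _ _ A _).trans
        (LinearEquiv.prodCongr (LinearEquiv.refl A _)
          (LinearEquiv.piCongrRight fun _ => hcast (A := A) H hd)))
  let e4 := LinearEquiv.piCongrRight e3
  let e5 := piProd (A := A) (fun j => Fin (r.choose (j + 1)) → H (m + ((j + 1 : ℕ) : ℤ)))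
    (fun j => Fin (r.choose j) → H (m + 1 + (j : ℤ)))
  let e6 := (splitZero (A := A) (fun j => Fin (r.choose j) → H (m + (j : ℤ)))).symm
  exact ⟨e1.trans ((LinearEquiv.prodCongr e2 (e4.trans e5)).trans
    ((LinearEquiv.prodAssoc A _ _ _).symm.trans (LinearEquiv.prodCongr e6 (LinearEquiv.refl A _))))⟩

/-- the `ℕ`-indexed binomial module for `r = 0` -/
theorem q_zero (m : ℤ) : Nonempty (H m ≃ₗ[A] Q H 0 m) := by
  have hd : m + ((0 : ℕ) : ℤ) = m := by simp
  let φ : Q H 0 m →ₗ[A] H m :=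
    (hcast (A := A) H hd).toLinearMap ∘ₗ (LinearMap.proj (⟨0, by simp⟩ : Fin (Nat.choose 0 0))) ∘ₗ
      (LinearMap.proj (R := A) (φ := fun j : ℕ => Fin (Nat.choose 0 j) → H (m + (j : ℤ))) 0)
  have hinj : Function.Injective φ := by
    rw [← LinearMap.ker_eq_bot, LinearMap.ker_eq_bot']
    intro g hg
    have hg' : g 0 ⟨0, by simp⟩ = 0 := (hcast (A := A) H hd).injective (by simpa [φ] using hg)
    funext j i
    rcases j with _ | j
    · have h1 : (i : ℕ) < 1 := i.isLt
      have : i = ⟨0, by simp⟩ := Fin.ext (by show (i : ℕ) = 0; omega)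
      rw [this, hg']
      rfl
    · exact absurd i.isLt (by simp)
  have hsurj : Function.Surjective φ := by
    intro y
    refine ⟨Pi.single 0 (fun _ => (hcast (A := A) H hd).symm y), ?_⟩
    simp [φ]
  exact ⟨(LinearEquiv.ofBijective φ ⟨hinj, hsurj⟩).symm⟩

/-- passing from the `ℕ`-indexed to the `Fin (r+1)`-indexed binomial module -/
theorem q_fin (r : ℕ) (m : ℤ) : Nonempty (Q H r m ≃ₗ[A]
    ((j : Fin (r + 1)) → Fin (r.choose j) → H (m + ((j : ℕ) : ℤ)))) := by
  let φ : Q H r m →ₗ[A] ((j : Fin (r + 1)) → Fin (r.choose j) → H (m + ((j : ℕ) : ℤ))) :=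
    { toFun := fun g j => g j
      map_add' := fun _ _ => rfl
      map_smul' := fun _ _ => rfl }
  have hinj : Function.Injective φ := by
    rw [← LinearMap.ker_eq_bot, LinearMap.ker_eq_bot']
    intro g hg
    funext j i
    by_cases hj : j < r + 1
    · exact congrFun (congrFun hg ⟨j, hj⟩) i
    · have h0 : r.choose j = 0 := Nat.choose_eq_zero_of_lt (by omega)
      have := i.isLt
      omega
  have hsurj : Function.Surjective φ := by
    intro f
    refine ⟨fun j => if h : j < r + 1 then f ⟨j, h⟩ else 0, ?_⟩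
    funext j
    show (if h : (j : ℕ) < r + 1 then f ⟨j, h⟩ else 0) = f j
    rw [dif_pos j.isLt]
  exact ⟨LinearEquiv.ofBijective φ ⟨hinj, hsurj⟩⟩

end Pascal

section Kz

variable {X : CochainComplex (ModuleCat.{u} A) ℤ}

/-- the homology of an iterated cone of null-homotopic multiplications, `ℕ`-indexed form -/
theorem kz_homology_nat : ∀ l : List A, (∀ x ∈ l, NullH X x) → ∀ m : ℤ,
    Nonempty ((Kz l X).homology m ≃ₗ[A] Q (fun n => X.homology n) l.length m)
  | [], _, m => q_zero (A := A) (fun n => X.homology n) m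
  | a :: l, hl, m => by
    have hl' : ∀ x ∈ l, NullH X x := fun x hx => hl x (List.mem_cons_of_mem _ hx)
    have ha : NullH (Kz l X) a := (hl a List.mem_cons_self).kz l
    obtain ⟨Hh⟩ := ha
    obtain ⟨e⟩ := cone_homology_split (a • 𝟙 (Kz l X)) Hh m (m + 1) rfl
    obtain ⟨e0⟩ := kz_homology_nat l hl' m
    obtain ⟨e1⟩ := kz_homology_nat l hl' (m + 1)
    obtain ⟨p⟩ := pascal (A := A) (fun n => X.homology n) l.length m
    exact ⟨e.trans ((LinearEquiv.prodCongr e0 e1).trans p.symm)⟩

/-- the homology of an iterated cone of null-homotopic multiplications -/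
theorem kz_homology_fin (l : List A) (hl : ∀ x ∈ l, NullH X x) (m : ℤ) :
    Nonempty ((Kz l X).homology m ≃ₗ[A]
      ((j : Fin (l.length + 1)) → Fin (l.length.choose j) → X.homology (m + ((j : ℕ) : ℤ)))) := by
  obtain ⟨e⟩ := kz_homology_nat l hl m
  obtain ⟨e'⟩ := q_fin (A := A) (fun n => X.homology n) l.length m
  exact ⟨e.trans e'⟩

end Kz

end Groth.Agent.Lib.T1H8.KosAppend

namespace Groth.Agent.Lib.T1H8.KosAppend

open Groth.Agent.Lib.T2H7.KosSplit Groth.Agent.Lib.T2H7.KosPerm Groth.Agent.Lib.T2H7.BlowKos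
  Groth.Agent.Lib.T2H7.KosKey Groth.Agent.Lib.Helper1.Tor

variable {A : Type u} [CommRing A]

/-- `K(xs ++ ys; M) ≅ K(ys ++ xs; M)` -/
noncomputable def koszulCxSwapIso (M : ModuleCat.{u} A) (xs ys : List A) :
    CohIII.koszulCx M (xs ++ ys) ≅ CohIII.koszulCx M (ys ++ xs) :=
  koszulCxIsoTC A M (xs ++ ys) ≪≫ (TC M).mapIso (kSwapIso xs ys) ≪≫
    (koszulCxIsoTC A M (ys ++ xs)).symm

/-- Koszul homology of a concatenation `xs ++ ys` with `ys ⊆ (xs)` -/
theorem main_S15822 (A : Type u) [CommRing A] (M : ModuleCat.{u} A)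
    (xs ys : List A) (hy : ∀ y ∈ ys, y ∈ Ideal.span {a | a ∈ xs}) (m : ℤ) :
    Nonempty ((DRing.tensorCx (Koszul.koszul A (xs ++ ys)) M).homology m ≅
      ModuleCat.of A ((j : Fin (ys.length + 1)) → Fin (ys.length.choose j) →
        (DRing.tensorCx (Koszul.koszul A xs) M).homology (m + j))) := by
  have hN : ∀ y ∈ ys, NullH (CohIII.koszulCx M xs) y := fun y hyy =>
    nullH_koszulCx M xs y (hy y hyy)
  obtain ⟨e⟩ := kz_homology_fin (X := CohIII.koszulCx M xs) ys hN m
  have e1 : DRing.tensorCx (Koszul.koszul A (xs ++ ys)) M ≅ Kz ys (CohIII.koszulCx M xs) :=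
    Groth.Agent.Helper13Kz.tensorIso M (xs ++ ys) ≪≫ koszulCxSwapIso M xs ys ≪≫
      eqToIso (koszulCx_append M xs ys)
  have e2 : (DRing.tensorCx (Koszul.koszul A (xs ++ ys)) M).homology m ≅
      (Kz ys (CohIII.koszulCx M xs)).homology m :=
    (HomologicalComplex.homologyFunctor _ _ m).mapIso e1
  have e3 : ∀ n : ℤ, (CohIII.koszulCx M xs).homology n ≃ₗ[A]
      (DRing.tensorCx (Koszul.koszul A xs) M).homology n := fun n =>
    ((HomologicalComplex.homologyFunctor _ _ n).mapIso
      (Groth.Agent.Helper13Kz.tensorIso M xs).symm).toLinearEquiv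
  let e4 : ((j : Fin (ys.length + 1)) → Fin (ys.length.choose j) →
      (CohIII.koszulCx M xs).homology (m + ((j : ℕ) : ℤ))) ≃ₗ[A]
      ((j : Fin (ys.length + 1)) → Fin (ys.length.choose j) →
        (DRing.tensorCx (Koszul.koszul A xs) M).homology (m + j)) :=
    LinearEquiv.piCongrRight fun j => LinearEquiv.piCongrRight fun _ => e3 _
  exact ⟨e2 ≪≫ (e.trans e4).toModuleIso⟩

end Groth.Agent.Lib.T1H8.KosAppend
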