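import Mathlib

/-!
# Lazard's theorem (for S2118)

A module is flat iff it is the colimit of a diagram of finite free modules indexed by a nonempty
directed preorder.
-/

set_option autoImplicit false
universe u

namespace Groth.Agent.Lib.T1H8.Lazard

open CategoryTheory CategoryTheory.Limits

section Cat

variable (R : Type u) [CommRing R] (M : Type u) [AddCommGroup M] [Module R M]

/-- Finite free modules `R^n` over `M`. -/
structure Obj where
  n : ℕ
  x : (Fin n →₀ R) →ₗ[R] M

variable {R M}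

/-- Morphisms of finite free modules over `M`. -/
@[ext]
structure Hom (X Y : Obj R M) where
  a : (Fin X.n →₀ R) →ₗ[R] (Fin Y.n →₀ R)
  w : Y.x ∘ₗ a = X.x

noncomputable instance : SmallCategory (Obj R M) where
  Hom := Hom
  id X := ⟨LinearMap.id, LinearMap.comp_id _⟩
  comp f g := ⟨g.a ∘ₗ f.a, by rw [← LinearMap.comp_assoc, g.w, f.w]⟩

@[simp] theorem id_a (X : Obj R M) : Hom.a (𝟙 X) = LinearMap.id := rfl

@[simp] theorem comp_a {X Y Z : Obj R M} (f : X ⟶ Y) (g : Y ⟶ Z) :
    Hom.a (f ≫ g) = g.a ∘ₗ f.a := rfl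

@[ext] theorem hom_ext' {X Y : Obj R M} (f g : X ⟶ Y) (h : f.a = g.a) : f = g := Hom.ext h

variable (R M)

/-- The diagram of finite free modules. -/
noncomputable def D : Obj R M ⥤ ModuleCat.{u} R where
  obj X := ModuleCat.of R (Fin X.n →₀ R)
  map f := ModuleCat.ofHom f.a

/-- The canonical cocone with vertex `M`. -/
noncomputable def cocone : Cocone (D R M) where
  pt := ModuleCat.of R M
  ι :=
    { app := fun X => ModuleCat.ofHom X.x
      naturality := by
        intro X Y f
        ext : 1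
        simp only [D, Functor.const_obj_obj, Functor.const_obj_map, Category.comp_id,
          ModuleCat.hom_comp, ModuleCat.hom_ofHom]
        exact f.w }

end Cat

section Filtered

variable {R : Type u} [CommRing R] {M : Type u} [AddCommGroup M] [Module R M]

theorem exists_coeq [Module.Flat R M] {X Y : Obj R M} (f g : X ⟶ Y) :
    ∃ (Z : Obj R M) (h : Y ⟶ Z), f ≫ h = g ≫ h := by
  have h0 : Y.x ∘ₗ (f.a - g.a) = 0 := by rw [LinearMap.comp_sub, f.w, g.w, sub_self]
  obtain ⟨k, a, y, hya, haf⟩ := Module.Flat.exists_factorization_of_comp_eq_zero_of_free h0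
  refine ⟨⟨k, y⟩, ⟨a, hya.symm⟩, ?_⟩
  apply hom_ext'
  simp only [comp_a]
  rw [LinearMap.comp_sub] at haf
  exact sub_eq_zero.mp haf

theorem exists_cocone_objs [Module.Flat R M] (X Y : Obj R M) :
    ∃ (Z : Obj R M) (_ : X ⟶ Z) (_ : Y ⟶ Z), True := by
  have h0 : (X.x.coprod Y.x) ∘ₗ
      (0 : (Fin 0 →₀ R) →ₗ[R] (Fin X.n →₀ R) × (Fin Y.n →₀ R)) = 0 := LinearMap.comp_zero _
  obtain ⟨k, a, y, hya, -⟩ := Module.Flat.exists_factorization_of_comp_eq_zero_of_free h0
  refine ⟨⟨k, y⟩, ⟨a ∘ₗ LinearMap.inl R _ _, ?_⟩, ⟨a ∘ₗ LinearMap.inr R _ _, ?_⟩, trivial⟩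
  · show y ∘ₗ (a ∘ₗ LinearMap.inl R _ _) = X.x
    rw [← LinearMap.comp_assoc, ← hya, LinearMap.coprod_inl]
  · show y ∘ₗ (a ∘ₗ LinearMap.inr R _ _) = Y.x
    rw [← LinearMap.comp_assoc, ← hya, LinearMap.coprod_inr]

instance isFiltered [Module.Flat R M] : IsFiltered (Obj R M) where
  cocone_objs X Y := by
    obtain ⟨Z, f, g, -⟩ := exists_cocone_objs X Y
    exact ⟨Z, f, g, trivial⟩
  cocone_maps := fun _ _ f g => by
    obtain ⟨Z, h, w⟩ := exists_coeq f g
    exact ⟨Z, h, w⟩
  nonempty := ⟨⟨0, 0⟩⟩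

/-- The object `R → M`, `1 ↦ m`. -/
noncomputable def point (m : M) : Obj R M :=
  ⟨1, Finsupp.linearCombination R (fun _ : Fin 1 => m)⟩

theorem desc_ι_apply (X : Obj R M) (v : Fin X.n →₀ R) :
    (colimit.desc (D R M) (cocone R M)).hom ((colimit.ι (D R M) X).hom v) = X.x v := by
  show ((colimit.ι (D R M) X ≫ colimit.desc (D R M) (cocone R M)).hom v) = X.x v
  rw [colimit.ι_desc]
  rfl

theorem bijective_desc [Module.Flat R M] :
    Function.Bijective (colimit.desc (D R M) (cocone R M)).hom := by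
  constructor
  · rw [← LinearMap.ker_eq_bot, LinearMap.ker_eq_bot']
    intro z hz
    obtain ⟨X, v, rfl⟩ := Concrete.colimit_exists_rep (D R M) z
    have hv : X.x v = 0 := by
      rw [← desc_ι_apply X v]
      exact hz
    obtain ⟨k, a, y, hya, hav⟩ := Module.Flat.exists_factorization_of_apply_eq_zero_of_free hv
    let g : X ⟶ (⟨k, y⟩ : Obj R M) := ⟨a, hya.symm⟩
    have hw : colimit.ι (D R M) X = (D R M).map g ≫ colimit.ι (D R M) ⟨k, y⟩ :=
      (colimit.w (D R M) g).symm
    have h3 : (colimit.ι (D R M) X).hom v =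
        (colimit.ι (D R M) (⟨k, y⟩ : Obj R M)).hom (a v) := by
      rw [hw]
      rfl
    change (colimit.ι (D R M) X).hom v = 0
    rw [h3, hav]
    exact map_zero (colimit.ι (D R M) (⟨k, y⟩ : Obj R M)).hom
  · intro m
    refine ⟨(colimit.ι (D R M) (point m)).hom
      ((Finsupp.single (0 : Fin 1) (1 : R) : Fin 1 →₀ R)), ?_⟩
    have h := desc_ι_apply (point m) ((Finsupp.single (0 : Fin 1) (1 : R) : Fin 1 →₀ R))
    refine h.trans ?_
    show (Finsupp.linearCombination R fun _ : Fin 1 => m) (Finsupp.single (0 : Fin 1) (1 : R)) = m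
    rw [Finsupp.linearCombination_single, one_smul]

end Filtered

section Main

variable {R : Type u} [CommRing R]

/-- **Lazard**, forward direction. -/
theorem exists_directed_of_flat (M : Type u) [AddCommGroup M] [Module R M] [Module.Flat R M] :
    ∃ (J : Type u) (_ : Preorder J) (_ : IsDirected J (fun a b => a ≤ b)) (_ : Nonempty J)
      (F : J ⥤ ModuleCat.{u} R), (∀ j, Module.Finite R (F.obj j) ∧ Module.Free R (F.obj j)) ∧
      Nonempty (Limits.colimit F ≅ ModuleCat.of R M) := by
  obtain ⟨α, hα, hdir, hne, F, hF⟩ := IsFiltered.exists_directed (Obj R M)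
  refine ⟨α, hα.toPreorder, hdir, hne, F ⋙ D R M, ?_, ?_⟩
  · intro j
    constructor
    · show Module.Finite R (Fin (F.obj j).n →₀ R)
      infer_instance
    · show Module.Free R (Fin (F.obj j).n →₀ R)
      infer_instance
  · have hiso : IsIso (colimit.desc (D R M) (cocone R M)) :=
      (ConcreteCategory.isIso_iff_bijective _).mpr bijective_desc
    exact ⟨Functor.Final.colimitIso F (D R M) ≪≫
      @asIso _ _ _ _ (colimit.desc (D R M) (cocone R M)) hiso⟩

/-- Finitely many elements of a filtered colimit of modules come from a common stage. -/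
theorem exists_common_stage {J : Type u} [SmallCategory J] [IsFiltered J]
    (F : J ⥤ ModuleCat.{u} R) :
    ∀ (l : ℕ) (x : Fin l → (colimit F : ModuleCat.{u} R)),
      ∃ (j : J) (y : Fin l → F.obj j), ∀ i, (colimit.ι F j).hom (y i) = x i := by
  intro l
  induction l with
  | zero =>
    intro x
    exact ⟨IsFiltered.nonempty.some, fun i => i.elim0, fun i => i.elim0⟩
  | succ l ih =>
    intro x
    obtain ⟨j, y, hy⟩ := ih (fun i => x i.succ)
    obtain ⟨j0, y0, hy0⟩ := Concrete.colimit_exists_rep F (x 0)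
    refine ⟨IsFiltered.max j j0,
      Fin.cons ((F.map (IsFiltered.rightToMax j j0)).hom y0)
        (fun i => (F.map (IsFiltered.leftToMax j j0)).hom (y i)), ?_⟩
    intro i
    refine Fin.cases ?_ (fun i => ?_) i
    · rw [Fin.cons_zero, ← hy0]
      have hw := colimit.w F (IsFiltered.rightToMax j j0)
      rw [← hw]
      rfl
    · rw [Fin.cons_succ, ← hy i]
      have hw := colimit.w F (IsFiltered.leftToMax j j0)
      rw [← hw]
      rfl

/-- A filtered colimit of flat modules is flat. -/
theorem flat_colimit {J : Type u} [SmallCategory J] [IsFiltered J]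
    (F : J ⥤ ModuleCat.{u} R) (h : ∀ j, Module.Flat R (F.obj j)) :
    Module.Flat R (colimit F : ModuleCat.{u} R) := by
  refine Module.Flat.of_forall_isTrivialRelation ?_
  intro l f x hfx
  obtain ⟨j, y, hy⟩ := exists_common_stage F l x
  have h0 : (colimit.ι F j).hom (∑ i, f i • y i) = (colimit.ι F j).hom 0 := by
    rw [map_sum, map_zero, ← hfx]
    refine Finset.sum_congr rfl (fun i _ => ?_)
    rw [map_smul, hy i]
  obtain ⟨k, φ, ψ, hk⟩ := Concrete.colimit_exists_of_rep_eq F _ _ h0
  have h1 : ∑ i, f i • (F.map φ).hom (y i) = 0 := by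
    have h2 : (F.map φ).hom (∑ i, f i • y i) = (F.map ψ).hom 0 := hk
    rw [map_zero, map_sum] at h2
    rw [← h2]
    refine Finset.sum_congr rfl (fun i _ => ?_)
    rw [map_smul]
  have hflat := h k
  obtain ⟨κ, a, w, hxw, hfa⟩ := Module.Flat.isTrivialRelation_of_sum_smul_eq_zero h1
  refine ⟨κ, a, fun m => (colimit.ι F k).hom (w m), fun i => ?_, hfa⟩
  have h3 : x i = (colimit.ι F k).hom ((F.map φ).hom (y i)) := by
    rw [← hy i]
    have hw := colimit.w F φ
    rw [← hw]
    rfl
  have hxw' : (F.map φ).hom (y i) = ∑ m, a i m • w m := hxw i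
  rw [h3, hxw', map_sum]
  refine Finset.sum_congr rfl (fun m _ => ?_)
  rw [map_smul]

/-- **Lazard's theorem**. -/
theorem main_S2118 (M : Type u) [AddCommGroup M] [Module R M] :
    Module.Flat R M ↔
      ∃ (J : Type u) (_ : Preorder J) (_ : IsDirected J (fun a b => a ≤ b)) (_ : Nonempty J)
        (F : J ⥤ ModuleCat.{u} R), (∀ j, Module.Finite R (F.obj j) ∧ Module.Free R (F.obj j)) ∧
        Nonempty (Limits.colimit F ≅ ModuleCat.of R M) := by
  constructor
  · intro h
    exact exists_directed_of_flat M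
  · rintro ⟨J, hJ, hdir, hne, F, hF, ⟨e⟩⟩
    have hflat : Module.Flat R (colimit F : ModuleCat.{u} R) :=
      flat_colimit F (fun j => by
        have := (hF j).2
        infer_instance)
    exact Module.Flat.of_linearEquiv e.toLinearEquiv.symm

end Main

end Groth.Agent.Lib.T1H8.Lazard
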