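import Mathlib

/-!
# Localisation at a prime of a ring with finite spectrum is a localisation away from one element

Used for S14896: a local-étale extension of valuation rings of finite height is étale.
-/

universe u

namespace Groth.Agent.Lib.T1H8.LocEt

/-- In a ring with finitely many primes, for each prime `P` there is `g ∉ P` such that every prime
not containing `g` is contained in `P`. -/
theorem exists_notMem_forall_prime_le {B : Type*} [CommRing B] [Finite (PrimeSpectrum B)]
    (P : Ideal B) [P.IsPrime] :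
    ∃ g : B, g ∉ P ∧ ∀ Q : Ideal B, Q.IsPrime → g ∉ Q → Q ≤ P := by
  classical
  haveI : Fintype (PrimeSpectrum B) := Fintype.ofFinite _
  have hch : ∀ Q : PrimeSpectrum B, ∃ x : B, (¬ Q.asIdeal ≤ P → x ∈ Q.asIdeal) ∧ x ∉ P := by
    intro Q
    by_cases h : Q.asIdeal ≤ P
    · exact ⟨1, fun h' => absurd h h', fun h1 => (Ideal.IsPrime.ne_top inferInstance)
        ((Ideal.eq_top_iff_one P).mpr h1)⟩
    · obtain ⟨x, hxQ, hxP⟩ := Set.not_subset.mp h
      exact ⟨x, fun _ => hxQ, hxP⟩
  choose x hx hxP using hch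
  refine ⟨∏ Q : PrimeSpectrum B, x Q, ?_, ?_⟩
  · intro h
    obtain ⟨Q, -, hQ⟩ := (Ideal.IsPrime.prod_mem_iff (p := P)).mp h
    exact hxP Q hQ
  · intro Q hQ hg
    by_contra hle
    apply hg
    have := hx ⟨Q, hQ⟩ hle
    rw [← Finset.prod_erase_mul _ _ (Finset.mem_univ (⟨Q, hQ⟩ : PrimeSpectrum B))]
    exact Ideal.mul_mem_left _ _ this

/-- If every prime avoiding `g` lies in `P`, every `s ∉ P` divides a power of `g`. -/
theorem exists_mul_eq_pow {B : Type*} [CommRing B] (P : Ideal B) [P.IsPrime] (g : B)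
    (h : ∀ Q : Ideal B, Q.IsPrime → g ∉ Q → Q ≤ P) (s : B) (hs : s ∉ P) :
    ∃ (t : B) (n : ℕ), s * t = g ^ n := by
  by_contra hcon
  push Not at hcon
  have hdisj : Disjoint ((Ideal.span {s} : Ideal B) : Set B) (Submonoid.powers g : Set B) := by
    rw [Set.disjoint_left]
    rintro y hy ⟨n, rfl⟩
    obtain ⟨t, ht⟩ := Ideal.mem_span_singleton'.mp hy
    exact hcon t n (by rw [mul_comm]; exact ht)
  obtain ⟨Q, hQ, hsQ, hQd⟩ := Ideal.exists_le_prime_disjoint _ _ hdisj
  have hgQ : g ∉ Q := fun hg => Set.disjoint_left.mp hQd hg ⟨1, pow_one g⟩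
  exact hs (h Q hQ hgQ (hsQ (Ideal.mem_span_singleton_self s)))

/-- Under the hypothesis on `g`, the localisation at `P` is the localisation away from `g`. -/
theorem isLocalization_away_of_atPrime {B S : Type*} [CommRing B] [CommRing S] [Algebra B S]
    (P : Ideal B) [P.IsPrime] [IsLocalization.AtPrime S P] (g : B) (hg : g ∉ P)
    (h : ∀ Q : Ideal B, Q.IsPrime → g ∉ Q → Q ≤ P) : IsLocalization.Away g S := by
  have hle : Submonoid.powers g ≤ P.primeCompl := by
    rintro _ ⟨n, rfl⟩
    exact fun hn => hg (Ideal.IsPrime.mem_of_pow_mem inferInstance n hn)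
  refine ⟨?_, ?_, ?_⟩
  · rintro ⟨y, hy⟩
    exact IsLocalization.map_units S (⟨y, hle hy⟩ : P.primeCompl)
  · intro z
    obtain ⟨⟨b, s⟩, hbs⟩ := IsLocalization.surj P.primeCompl z
    obtain ⟨t, n, htn⟩ := exists_mul_eq_pow P g h s.1 s.2
    refine ⟨(b * t, ⟨g ^ n, n, rfl⟩), ?_⟩
    simp only at hbs ⊢
    rw [← htn, map_mul, ← mul_assoc, hbs, map_mul]
  · intro x y hxy
    obtain ⟨c, hc⟩ := (IsLocalization.eq_iff_exists P.primeCompl S).mp hxy
    obtain ⟨t, n, htn⟩ := exists_mul_eq_pow P g h c.1 c.2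
    refine ⟨⟨g ^ n, n, rfl⟩, ?_⟩
    simp only
    rw [← htn, mul_comm c.1 t, mul_assoc, mul_assoc, hc]

/-- Spectrum of a quasi-finite algebra over a ring with finite spectrum is finite. -/
theorem finite_primeSpectrum_of_quasiFinite (R B : Type*) [CommRing R] [CommRing B] [Algebra R B]
    [Algebra.QuasiFinite R B] [Finite (PrimeSpectrum R)] : Finite (PrimeSpectrum B) := by
  have := Algebra.QuasiFinite.finite_comap_preimage (R := R) (S := B)
    (s := Set.univ) Set.finite_univ
  rw [Set.preimage_univ] at this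
  exact Set.finite_univ_iff.mp this

/-- Main statement in ring-theoretic form. -/
theorem etale_of_atPrime_of_finite_spectrum (R B S : Type u) [CommRing R] [CommRing B] [CommRing S]
    [Algebra R B] [Algebra B S] [Algebra R S] [IsScalarTower R B S] [Algebra.Etale R B]
    [Finite (PrimeSpectrum R)] (P : Ideal B) [P.IsPrime] [IsLocalization.AtPrime S P] :
    Algebra.Etale R S := by
  haveI : Finite (PrimeSpectrum B) := finite_primeSpectrum_of_quasiFinite R B
  obtain ⟨g, hg, h⟩ := exists_notMem_forall_prime_le P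
  haveI : IsLocalization.Away g S := isLocalization_away_of_atPrime P g hg h
  haveI : Algebra.Etale B S := Algebra.Etale.of_isLocalizationAway g
  exact Algebra.Etale.comp R B S

end Groth.Agent.Lib.T1H8.LocEt
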