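import Mathlib
import Groth.Prelude

/-!
# Tate's trace lemma: linear algebra part

For a finite free `A`-algebra `B` with `T = B ⊗[A] B`, `μ : T → B` and `ω = Hom_A(B, A)`:
every `z ∈ T` induces `θ_z : ω → B`, `φ ↦ (φ ⊗ id) z`.  If `Ann(ker μ) = (Δ)` and `ω` is an
invertible `B`-module, then `θ_Δ` is a `B`-linear isomorphism `ω ≃ B` carrying the trace to `μ Δ`.
-/

universe u

namespace Groth.Agent.Lib.T2H8.Tate

open TensorProduct Disc

variable {A B : Type u} [CommRing A] [CommRing B] [Algebra A B]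

/-- `φ ⊗ id : B ⊗ B → A ⊗ B ≅ B`. -/
noncomputable def th (φ : B →ₗ[A] A) : B ⊗[A] B →ₗ[A] B :=
  (TensorProduct.lid A B).toLinearMap ∘ₗ LinearMap.rTensor B φ

@[simp] lemma th_tmul (φ : B →ₗ[A] A) (x y : B) : th φ (x ⊗ₜ[A] y) = φ x • y := by
  simp [th]

lemma th_add (φ φ' : B →ₗ[A] A) (z : B ⊗[A] B) : th (φ + φ') z = th φ z + th φ' z := by
  induction z using TensorProduct.induction_on with
  | zero => simp
  | tmul x y => simp [add_smul]
  | add x y hx hy => rw [map_add, hx, hy, map_add, map_add]; abel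

lemma th_mulLeft (φ : B →ₗ[A] A) (b : B) (z : B ⊗[A] B) :
    th (φ ∘ₗ LinearMap.mulLeft A b) z = th φ ((b ⊗ₜ[A] (1 : B)) * z) := by
  induction z using TensorProduct.induction_on with
  | zero => simp
  | tmul x y => simp
  | add x y hx hy => rw [map_add, hx, hy, mul_add, map_add]

lemma th_mul_right (φ : B →ₗ[A] A) (b : B) (z : B ⊗[A] B) :
    b * th φ z = th φ (((1 : B) ⊗ₜ[A] b) * z) := by
  induction z using TensorProduct.induction_on with
  | zero => simp
  | tmul x y => simp
  | add x y hx hy => rw [map_add, mul_add, hx, hy, mul_add, map_add]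

section Basis

variable {ι : Type*} [Fintype ι] (bs : Module.Basis ι A B)

lemma recon (z : B ⊗[A] B) : z = ∑ k, bs k ⊗ₜ[A] th (bs.coord k) z := by
  induction z using TensorProduct.induction_on with
  | zero => simp
  | tmul x y =>
    simp only [th_tmul]
    conv_lhs => rw [← bs.sum_repr x, TensorProduct.sum_tmul]
    apply Finset.sum_congr rfl
    intro k _
    rw [TensorProduct.smul_tmul]
    rfl
  | add x y hx hy =>
    simp only [map_add, TensorProduct.tmul_add, Finset.sum_add_distrib]
    rw [← hx, ← hy]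

lemma sum_mul (z : B ⊗[A] B) :
    ∑ k, bs k * th (bs.coord k) z = Algebra.TensorProduct.lmul' (S := B) A z := by
  conv_rhs => rw [recon bs z, map_sum]
  apply Finset.sum_congr rfl
  intro k _
  rw [Algebra.TensorProduct.lmul'_apply_tmul]

lemma th_eq_sum (φ : B →ₗ[A] A) (z : B ⊗[A] B) :
    th φ z = ∑ k, φ (bs k) • th (bs.coord k) z := by
  conv_lhs => rw [recon bs z, map_sum]
  apply Finset.sum_congr rfl
  intro k _
  rw [th_tmul]

include bs in
lemma eq_zero_of_th (z : B ⊗[A] B) (h : ∀ φ : B →ₗ[A] A, th φ z = 0) : z = 0 := by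
  rw [recon bs z]
  apply Finset.sum_eq_zero
  intro k _
  rw [h, TensorProduct.tmul_zero]

end Basis


section Omega

/-- `Omega.toLinearMap` as an additive hom. -/
def toLinHom : Omega A B →+ (B →ₗ[A] A) where
  toFun φ := φ.toLinearMap
  map_zero' := rfl
  map_add' _ _ := rfl

lemma toLinearMap_sum {κ : Type*} (s : Finset κ) (F : κ → Omega A B) :
    (∑ k ∈ s, F k).toLinearMap = ∑ k ∈ s, (F k).toLinearMap :=
  map_sum (toLinHom (A := A) (B := B)) F s

variable {ι : Type*} [Fintype ι] (bs : Module.Basis ι A B)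

lemma omega_eq_sum' (ψ : Omega A B) :
    ψ = ∑ k, algebraMap A B (ψ.toLinearMap (bs k)) • (⟨bs.coord k⟩ : Omega A B) := by
  apply Omega.ext
  rw [toLinearMap_sum]
  apply bs.ext
  intro j
  rw [LinearMap.sum_apply]
  rw [Finset.sum_eq_single j]
  · rw [Omega.smul_toLinearMap_apply, ← Algebra.smul_def, map_smul]
    simp
  · intro k _ hk
    rw [Omega.smul_toLinearMap_apply, ← Algebra.smul_def, map_smul]
    simp [Finsupp.single_apply, hk.symm]
  · intro h
    exact absurd (Finset.mem_univ j) h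

lemma trace_eq_sum [Module.Finite A B] [Module.Free A B] :
    Omega.trace A B = ∑ k, bs k • (⟨bs.coord k⟩ : Omega A B) := by
  classical
  apply Omega.ext
  rw [toLinearMap_sum]
  ext x
  rw [LinearMap.sum_apply]
  show Algebra.trace A B x = _
  rw [Algebra.trace_eq_matrix_trace bs, Matrix.trace]
  apply Finset.sum_congr rfl
  intro k _
  rw [Matrix.diag_apply, Algebra.leftMulMatrix_eq_repr_mul, Omega.smul_toLinearMap_apply,
    mul_comm]
  rfl

end Omega

section Main

/-- Lemma L: if `θ_z` is `B`-linear then `θ_{wz} = μ(w) θ_z`. -/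
lemma th_mul_of_linear (z : B ⊗[A] B) (ψ : Omega A B →ₗ[B] B)
    (h : ∀ φ : Omega A B, th φ.toLinearMap z = ψ φ) (w : B ⊗[A] B) (φ : Omega A B) :
    th φ.toLinearMap (w * z) = Algebra.TensorProduct.lmul' (S := B) A w * ψ φ := by
  induction w using TensorProduct.induction_on generalizing φ with
  | zero => simp
  | tmul b b' =>
    have e : (b ⊗ₜ[A] b' : B ⊗[A] B) = (b ⊗ₜ 1) * (1 ⊗ₜ b') := by simp
    rw [e, mul_assoc, ← th_mulLeft, ← th_mul_right]
    have e2 : φ.toLinearMap ∘ₗ LinearMap.mulLeft A b = (b • φ).toLinearMap := rfl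
    rw [e2, h, map_smul, map_mul, Algebra.TensorProduct.lmul'_apply_tmul,
      Algebra.TensorProduct.lmul'_apply_tmul, smul_eq_mul]
    ring
  | add x y hx hy =>
    rw [add_mul, map_add, hx, hy, map_add, add_mul]

variable [Module.Finite A B] [Module.Free A B]

theorem exists_equiv_of_annihilator (Δ : B ⊗[A] B)
    (hΔ : Submodule.annihilator (RingHom.ker (Algebra.TensorProduct.lmul' (S := B) A)) =
      Ideal.span {Δ})
    [Module.Invertible B (Omega A B)] :
    ∃ e : B ≃ₗ[B] Omega A B,
      e (Algebra.TensorProduct.lmul' (S := B) A Δ) = Omega.trace A B := by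
  classical
  letI := Module.Free.ChooseBasisIndex.fintype A B
  let bs := Module.Free.chooseBasis A B
  have hker : ∀ b : B, ((b ⊗ₜ[A] (1 : B)) - (1 : B) ⊗ₜ[A] b : B ⊗[A] B) ∈
      RingHom.ker (Algebra.TensorProduct.lmul' (S := B) A) := by
    intro b
    rw [RingHom.mem_ker, map_sub, Algebra.TensorProduct.lmul'_apply_tmul,
      Algebra.TensorProduct.lmul'_apply_tmul, mul_one, one_mul, sub_self]
  have hΔmem : Δ ∈ Submodule.annihilator
      (RingHom.ker (Algebra.TensorProduct.lmul' (S := B) A)) := by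
    rw [hΔ]; exact Ideal.mem_span_singleton_self Δ
  have hΔb : ∀ b : B, (b ⊗ₜ[A] (1 : B)) * Δ = ((1 : B) ⊗ₜ[A] b) * Δ := by
    intro b
    have h1 := (Submodule.mem_annihilator.mp hΔmem) _ (hker b)
    rw [smul_eq_mul, mul_sub, mul_comm Δ, mul_comm Δ, sub_eq_zero] at h1
    exact h1
  -- the map θ
  let θ : Omega A B →ₗ[B] B :=
    { toFun := fun φ => th φ.toLinearMap Δ
      map_add' := fun φ φ' => th_add _ _ _
      map_smul' := fun b φ => by
        have e2 : (b • φ).toLinearMap = φ.toLinearMap ∘ₗ LinearMap.mulLeft A b := rfl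
        rw [e2, th_mulLeft, hΔb, ← th_mul_right]
        rfl }
  have hθ : ∀ φ : Omega A B, th φ.toLinearMap Δ = θ φ := fun φ => rfl
  -- θ (trace) = μ Δ
  have hθtr : θ (Omega.trace A B) = Algebra.TensorProduct.lmul' (S := B) A Δ := by
    rw [trace_eq_sum bs, map_sum, ← sum_mul bs Δ]
    apply Finset.sum_congr rfl
    intro k _
    rw [map_smul, smul_eq_mul]
    rfl
  -- every B-linear ψ is a multiple of θ
  have hgen : ∀ ψ : Omega A B →ₗ[B] B, ∃ β : B, ∀ φ, ψ φ = β * θ φ := by
    intro ψ
    let z : B ⊗[A] B := ∑ k, bs k ⊗ₜ[A] ψ ⟨bs.coord k⟩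
    have hz : ∀ φ : Omega A B, th φ.toLinearMap z = ψ φ := by
      intro φ
      conv_rhs => rw [omega_eq_sum' bs φ, map_sum]
      show th φ.toLinearMap (∑ k, bs k ⊗ₜ[A] ψ ⟨bs.coord k⟩) = _
      rw [map_sum]
      apply Finset.sum_congr rfl
      intro k _
      rw [th_tmul, map_smul, Algebra.smul_def, smul_eq_mul]
    have hzann : z ∈ Submodule.annihilator
        (RingHom.ker (Algebra.TensorProduct.lmul' (S := B) A)) := by
      rw [Submodule.mem_annihilator]
      intro w hw
      rw [smul_eq_mul, mul_comm]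
      apply eq_zero_of_th bs
      intro φ
      have := th_mul_of_linear z ψ hz w ⟨φ⟩
      rw [RingHom.mem_ker] at hw
      rw [hw, zero_mul] at this
      exact this
    rw [hΔ, Ideal.mem_span_singleton'] at hzann
    obtain ⟨t, ht⟩ := hzann
    refine ⟨Algebra.TensorProduct.lmul' (S := B) A t, fun φ => ?_⟩
    rw [← hz φ, ← ht]
    exact th_mul_of_linear Δ θ hθ t φ
  -- θ is surjective
  have hsurj : Function.Surjective θ := by
    obtain ⟨x, hx⟩ := (Module.Invertible.bijective (R := B) (M := Omega A B)).2 1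
    have key : ∀ x : Module.Dual B (Omega A B) ⊗[B] Omega A B,
        contractLeft B (Omega A B) x ∈ LinearMap.range θ := by
      intro x
      induction x using TensorProduct.induction_on with
      | zero => rw [map_zero]; exact Submodule.zero_mem _
      | tmul ψ m =>
        obtain ⟨β, hβ⟩ := hgen ψ
        rw [contractLeft_apply, hβ]
        exact ⟨β • m, by rw [map_smul, smul_eq_mul]⟩
      | add x y hx hy => rw [map_add]; exact Submodule.add_mem _ hx hy
    intro b
    obtain ⟨m, hm⟩ := key x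
    refine ⟨b • m, ?_⟩
    rw [map_smul, hm, hx, smul_eq_mul, mul_one]
  have hbij : Function.Bijective θ := Module.Invertible.bijective_of_surjective hsurj
  refine ⟨(LinearEquiv.ofBijective θ hbij).symm, ?_⟩
  rw [← hθtr]
  exact (LinearEquiv.ofBijective θ hbij).symm_apply_apply _

end Main

end Groth.Agent.Lib.T2H8.Tate
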