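import Mathlib
import Groth.Prelude
import Groth.Agent.Lib.T2H8TateA
import Groth.Agent.S2215
import Groth.Agent.S2216
import Groth.Agent.S2221

/-!
# The norm of the different is the discriminant (finite free case, invertible dualizing module)
-/

universe u

namespace Groth.Agent.Lib.T1H8.NormDiff

open Disc TensorProduct Groth.Agent.Lib.T2H8.Tate

variable {A B : Type u} [CommRing A] [CommRing B] [Algebra A B]
  {ι : Type} [Fintype ι] [DecidableEq ι] (b : Module.Basis ι A B)

/-- the matrix of a `B`-linear `θ : ω → B` in the bases `b^*`, `b` -/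
noncomputable def mat (θ : Omega A B →ₗ[B] B) : Matrix ι ι A :=
  fun i j => b.repr (θ ⟨b.coord j⟩) i

lemma theta_algebraMap_smul (θ : Omega A B →ₗ[B] B) (a : A) (φ : Omega A B) :
    θ (algebraMap A B a • φ) = algebraMap A B a * θ φ := by
  rw [map_smul, smul_eq_mul]

lemma repr_theta (θ : Omega A B →ₗ[B] B) (φ : Omega A B) (i : ι) :
    b.repr (θ φ) i = ∑ j, φ.toLinearMap (b j) * mat b θ i j := by
  conv_lhs => rw [omega_eq_sum' b φ, map_sum]
  rw [map_sum, Finset.sum_apply']
  apply Finset.sum_congr rfl
  intro j _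
  rw [theta_algebraMap_smul, ← Algebra.smul_def, map_smul, Finsupp.smul_apply, smul_eq_mul]
  rfl

section Trace

variable [Module.Finite A B] [Module.Free A B]

lemma leftMulMatrix_theta_trace (θ : Omega A B →ₗ[B] B) :
    Algebra.leftMulMatrix b (θ (Omega.trace A B)) = mat b θ * Algebra.traceMatrix A b := by
  ext i k
  rw [Algebra.leftMulMatrix_eq_repr_mul, Matrix.mul_apply]
  have h1 : θ (Omega.trace A B) * b k = θ (b k • Omega.trace A B) := by
    rw [map_smul, smul_eq_mul, mul_comm]
  rw [h1, repr_theta]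
  apply Finset.sum_congr rfl
  intro j _
  rw [mul_comm, Algebra.traceMatrix_apply, Algebra.traceForm_apply, Omega.smul_toLinearMap_apply,
    mul_comm (b j) (b k)]
  rfl

lemma norm_theta_trace (θ : Omega A B →ₗ[B] B) :
    Algebra.norm A (θ (Omega.trace A B)) = (mat b θ).det * Algebra.discr A b := by
  rw [Algebra.norm_eq_matrix_det b, leftMulMatrix_theta_trace, Matrix.det_mul, Algebra.discr_def]

end Trace

lemma repr_mem_of_mem_map (p : Ideal A) (w : B) (hw : w ∈ p.map (algebraMap A B)) (i : ι) :
    b.repr w i ∈ p := by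
  have hw' : w ∈ (p • ⊤ : Submodule A B) := by
    rw [Ideal.smul_top_eq_map]
    exact hw
  refine Submodule.smul_induction_on (p := fun w => b.repr w i ∈ p) hw' ?_ ?_
  · intro a ha x _
    rw [map_smul, Finsupp.smul_apply, smul_eq_mul]
    exact Ideal.mul_mem_right _ _ ha
  · intro x y hx hy
    rw [map_add, Finsupp.add_apply]
    exact Ideal.add_mem _ hx hy


section Lift

variable [Module.Invertible B (Omega A B)]

/-- a `B`-linear `θ : ω → B` which is surjective modulo a maximal ideal `p` of `A` -/
lemma exists_theta_surjective_mod [Module.Finite A B] (p : Ideal A) [hp : p.IsMaximal] :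
    ∃ θ : Omega A B →ₗ[B] B, ∀ y : B, ∃ l : Omega A B, θ l - y ∈ p.map (algebraMap A B) := by
  set I := p.map (algebraMap A B) with hI
  letI := Ideal.Quotient.field p
  haveI : Module.Finite A (B ⧸ I) := Module.Finite.quotient A I
  haveI : Module.Finite (A ⧸ p) (B ⧸ I) := Module.Finite.of_restrictScalars_finite A (A ⧸ p) (B ⧸ I)
  haveI : IsArtinianRing (B ⧸ I) := IsArtinianRing.of_finite (A ⧸ p) (B ⧸ I)
  haveI : Finite (MaximalSpectrum (B ⧸ I)) := inferInstance
  haveI : Module.Free (B ⧸ I) ((B ⧸ I) ⊗[B] Omega A B) := inferInstance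
  obtain ⟨ε⟩ := (Module.Invertible.free_iff_linearEquiv (R := B ⧸ I)
    (M := (B ⧸ I) ⊗[B] Omega A B)).mp inferInstance
  let g : Omega A B →ₗ[B] (B ⧸ I) :=
    (ε.toLinearMap.restrictScalars B) ∘ₗ (TensorProduct.mk B (B ⧸ I) (Omega A B) 1)
  have hg : Function.Surjective g := by
    intro c
    obtain ⟨z, rfl⟩ := ε.surjective c
    have hz : ∃ l : Omega A B, z = (1 : B ⧸ I) ⊗ₜ[B] l := by
      induction z using TensorProduct.induction_on with
      | zero => exact ⟨0, by simp⟩
      | tmul c l =>
        obtain ⟨c', rfl⟩ := Ideal.Quotient.mk_surjective c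
        refine ⟨c' • l, ?_⟩
        rw [TensorProduct.tmul_smul, TensorProduct.smul_tmul', Algebra.smul_def, mul_one]
        rfl
      | add x y hx hy =>
        obtain ⟨l₁, rfl⟩ := hx
        obtain ⟨l₂, rfl⟩ := hy
        exact ⟨l₁ + l₂, by rw [TensorProduct.tmul_add]⟩
    obtain ⟨l, rfl⟩ := hz
    exact ⟨l, rfl⟩
  obtain ⟨θ, hθ⟩ := Module.projective_lifting_property (Algebra.linearMap B (B ⧸ I)) g
    Ideal.Quotient.mk_surjective
  refine ⟨θ, fun y => ?_⟩
  obtain ⟨l, hl⟩ := hg (Ideal.Quotient.mk I y)
  refine ⟨l, ?_⟩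
  rw [← Ideal.Quotient.eq]
  have := congrArg (fun F => F l) hθ
  simp only [LinearMap.comp_apply] at this
  rw [← hl]
  exact this

end Lift


section Main

variable [IsNoetherianRing A] [Module.Invertible B (Omega A B)]

theorem main_S2229 :
    Ideal.span (Algebra.norm A '' Disc.differentSet A B) = Ideal.span {Algebra.discr A b} := by
  haveI : Module.Finite A B := Module.Finite.of_basis b
  haveI : Module.Free A B := Module.Free.of_basis b
  apply le_antisymm
  · rw [Ideal.span_le]
    rintro _ ⟨x, hx, rfl⟩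
    exact Groth.Agent.S2216.result b x hx
  · rw [Ideal.span_le, Set.singleton_subset_iff]
    set 𝔞 := Ideal.span (Algebra.norm A '' Disc.differentSet A B) with h𝔞
    have hmem : ∀ θ : Omega A B →ₗ[B] B, (mat b θ).det * Algebra.discr A b ∈ 𝔞 := by
      intro θ
      rw [← norm_theta_trace b θ]
      apply Ideal.subset_span
      refine ⟨θ (Omega.trace A B), ?_, rfl⟩
      rw [Groth.Agent.S2221.result]
      have h2215 := Groth.Agent.S2215.result (A := A) (B := B)
      have h3 : θ (Omega.trace A B) ∈ (Disc.noetherDifferent A B : Set B) := by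
        rw [h2215]; exact ⟨θ, rfl⟩
      exact h3
    by_contra hd
    have hne : 𝔞.colon ({Algebra.discr A b} : Set A) ≠ ⊤ := by
      intro htop
      have h1 : (1 : A) ∈ 𝔞.colon ({Algebra.discr A b} : Set A) := htop ▸ Submodule.mem_top
      rw [Submodule.mem_colon_singleton, one_smul] at h1
      exact hd h1
    obtain ⟨p, hp, hle⟩ := Ideal.exists_le_maximal _ hne
    obtain ⟨θ, hθ⟩ := exists_theta_surjective_mod (A := A) (B := B) p
    have hdet : (mat b θ).det ∈ p :=
      hle (by rw [Submodule.mem_colon_singleton, smul_eq_mul]; exact hmem θ)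
    choose l hl using fun k => hθ (b k)
    let V : Matrix ι ι A := fun j k => (l k).toLinearMap (b j)
    have hMV : ∀ i k, (mat b θ * V) i k = b.repr (θ (l k)) i := by
      intro i k
      rw [repr_theta, Matrix.mul_apply]
      apply Finset.sum_congr rfl
      intro j _
      rw [mul_comm]
    have hone : (mat b θ * V).map (Ideal.Quotient.mk p) = 1 := by
      ext i k
      rw [Matrix.map_apply, hMV, Matrix.one_apply]
      have h1 : θ (l k) = b k + (θ (l k) - b k) := by ring
      rw [h1, map_add, Finsupp.add_apply, map_add,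
        Ideal.Quotient.eq_zero_iff_mem.mpr (repr_mem_of_mem_map b p _ (hl k) i), add_zero,
        b.repr_self, Finsupp.single_apply]
      by_cases h : k = i
      · subst h; simp
      · rw [if_neg h, if_neg (Ne.symm h), map_zero]
    have h2 := congrArg Matrix.det hone
    rw [Matrix.det_one] at h2
    have h3 : ((mat b θ * V).map (Ideal.Quotient.mk p)).det =
        Ideal.Quotient.mk p ((mat b θ * V).det) := (RingHom.map_det _ _).symm
    rw [h3, Matrix.det_mul, map_mul, Ideal.Quotient.eq_zero_iff_mem.mpr hdet, zero_mul] at h2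
    exact (Ideal.Quotient.zero_ne_one_iff.mpr hp.ne_top) h2

end Main

end Groth.Agent.Lib.T1H8.NormDiff
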