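import Mathlib

/-!
# Open immersions and intermediate rings (S8930)

If `R → S` induces an open immersion on spectra and factors as `R → T → S` with `T → S` injective
and `R → T` of finite type, then `Spec S → Spec T` is an open immersion.
-/

namespace Groth.Agent.Lib.T1H8.OpenImmFactor

universe u

open AlgebraicGeometry CategoryTheory TensorProduct

section Flat

variable {R T S : Type u} [CommRing R] [CommRing T] [CommRing S] [Algebra R T] [Algebra T S]
  [Algebra R S] [IsScalarTower R T S]

/-- If `R → S` is a flat epimorphism and `R → T → S` with `T → S` injective, then `T → S` is flat. -/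
theorem flat_of_flat_epi_of_injective [Module.Flat R S] [Algebra.IsEpi R S]
    (hinj : Function.Injective (algebraMap T S)) : Module.Flat T S := by
  -- `μ : T ⊗[R] S → S`, `t ⊗ s ↦ t • s`
  let μ : T ⊗[R] S →ₐ[T] S :=
    Algebra.TensorProduct.productLeftAlgHom (Algebra.ofId T S) (AlgHom.id R S)
  have hμ : ∀ (t : T) (s : S), μ (t ⊗ₜ s) = algebraMap T S t * s := by
    intro t s
    simp [μ]
  -- factor through `S ⊗[R] S`
  let ι : T ⊗[R] S →ₗ[R] S ⊗[R] S := LinearMap.rTensor S (IsScalarTower.toAlgHom R T S).toLinearMap
  have hι : Function.Injective ι :=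
    Module.Flat.rTensor_preserves_injective_linearMap _ hinj
  let m : S ⊗[R] S →ₗ[R] S := TensorProduct.lift (LinearMap.mul R S)
  have hm : Function.Injective m := Algebra.IsEpi.injective_lift_mul
  have hfac : ∀ x, μ x = m (ι x) := by
    intro x
    induction x using TensorProduct.induction_on with
    | zero => simp
    | tmul t s => rw [hμ]; simp [ι, m]
    | add x y hx hy => rw [map_add, map_add, map_add, hx, hy]
  have hμinj : Function.Injective μ := by
    intro x y hxy
    rw [hfac, hfac] at hxy
    exact hι (hm hxy)
  have hμsurj : Function.Surjective μ := by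
    intro s
    exact ⟨1 ⊗ₜ s, by rw [hμ]; simp⟩
  let e : T ⊗[R] S ≃ₗ[T] S := LinearEquiv.ofBijective μ.toLinearMap ⟨hμinj, hμsurj⟩
  exact Module.Flat.of_linearEquiv e.symm

end Flat

section OpenImm

variable {R T S : Type u} [CommRing R] [CommRing T] [CommRing S] [Algebra R T] [Algebra T S]
  [Algebra R S] [IsScalarTower R T S]

/-- If `Spec S → Spec R` is an open immersion, `R → T` is of finite type and `T → S` is injective,
then `Spec S → Spec T` is an open immersion. -/
theorem isOpenImmersion_of_factor [Algebra.FiniteType R T]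
    (hinj : Function.Injective (algebraMap T S))
    (h : IsOpenImmersion (Spec.map (CommRingCat.ofHom (algebraMap R S)))) :
    IsOpenImmersion (Spec.map (CommRingCat.ofHom (algebraMap T S))) := by
  have hflat : (algebraMap R S).Flat := by
    have : Flat (Spec.map (CommRingCat.ofHom (algebraMap R S))) := inferInstance
    exact Flat.SpecMap_iff.mp this
  haveI : Module.Flat R S := RingHom.flat_algebraMap_iff.mp hflat
  have hepiC : Epi (CommRingCat.ofHom (algebraMap R S)) := by
    have hm : Mono (Spec.map (CommRingCat.ofHom (algebraMap R S))) := inferInstance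
    have hm' : Mono (CommRingCat.ofHom (algebraMap R S)).op :=
      Scheme.Spec.mono_of_mono_map hm
    exact unop_epi_of_mono (CommRingCat.ofHom (algebraMap R S)).op
  haveI hepi : Algebra.IsEpi R S := CommRingCat.epi_iff_epi.mp hepiC
  haveI hTS : Module.Flat T S := flat_of_flat_epi_of_injective (R := R) hinj
  have hfp : (algebraMap R S).FinitePresentation := by
    have : LocallyOfFinitePresentation (Spec.map (CommRingCat.ofHom (algebraMap R S))) :=
      inferInstance
    exact (LocallyOfFinitePresentation.SpecMap_iff _).mp this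
  have hfp' : (algebraMap T S).FinitePresentation := by
    have hcomp : (algebraMap R S) = (algebraMap T S).comp (algebraMap R T) :=
      IsScalarTower.algebraMap_eq R T S
    rw [hcomp] at hfp
    exact RingHom.FinitePresentation.of_comp_finiteType (algebraMap R T) hfp
      (RingHom.finiteType_algebraMap.mpr inferInstance)
  haveI : Flat (Spec.map (CommRingCat.ofHom (algebraMap T S))) :=
    Flat.SpecMap_iff.mpr (RingHom.flat_algebraMap_iff.mpr hTS)
  haveI : LocallyOfFinitePresentation (Spec.map (CommRingCat.ofHom (algebraMap T S))) :=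
    (LocallyOfFinitePresentation.SpecMap_iff _).mpr hfp'
  haveI : Mono (Spec.map (CommRingCat.ofHom (algebraMap T S))) := by
    have hcomp : CommRingCat.ofHom (algebraMap R S) =
        CommRingCat.ofHom (algebraMap R T) ≫ CommRingCat.ofHom (algebraMap T S) := by
      rw [← CommRingCat.ofHom_comp, ← IsScalarTower.algebraMap_eq]
    haveI : Epi (CommRingCat.ofHom (algebraMap R T) ≫ CommRingCat.ofHom (algebraMap T S)) := by
      rw [← hcomp]; exact hepiC
    haveI hepiT : Epi (CommRingCat.ofHom (algebraMap T S)) :=
      epi_of_epi (CommRingCat.ofHom (algebraMap R T)) _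
    show Mono (Scheme.Spec.map (CommRingCat.ofHom (algebraMap T S)).op)
    infer_instance
  exact IsOpenImmersion.of_flat_of_mono _

end OpenImm

section Main

theorem main_S8930 (A B B' B'' : Type u) [CommRing A] [CommRing B] [CommRing B'] [CommRing B'']
    [Algebra A B] [Algebra A B'] [Algebra A B''] [Algebra B' B] [Algebra B'' B]
    [IsScalarTower A B' B] [IsScalarTower A B'' B] [Module.Finite A B'] [Module.Finite A B'']
    (h' : IsOpenImmersion (Spec.map (CommRingCat.ofHom (algebraMap B' B))))
    (h'' : IsOpenImmersion (Spec.map (CommRingCat.ofHom (algebraMap B'' B)))) :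
    ∃ C : Subalgebra A B, Module.Finite A C ∧ Set.range (algebraMap B' B) ⊆ (C : Set B) ∧
      Set.range (algebraMap B'' B) ⊆ (C : Set B) ∧
      IsOpenImmersion (Spec.map (CommRingCat.ofHom C.val.toRingHom)) := by
  let φ : B' ⊗[A] B'' →ₐ[A] B :=
    Algebra.TensorProduct.productMap (IsScalarTower.toAlgHom A B' B) (IsScalarTower.toAlgHom A B'' B)
  let C : Subalgebra A B := φ.range
  have hfin : Module.Finite A C :=
    Module.Finite.of_surjective φ.rangeRestrict.toLinearMap φ.rangeRestrict_surjective
  have h1 : Set.range (algebraMap B' B) ⊆ (C : Set B) := by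
    rintro _ ⟨b, rfl⟩
    exact ⟨b ⊗ₜ 1, by simp [φ]⟩
  have h2 : Set.range (algebraMap B'' B) ⊆ (C : Set B) := by
    rintro _ ⟨b, rfl⟩
    exact ⟨1 ⊗ₜ b, by simp [φ]⟩
  refine ⟨C, hfin, h1, h2, ?_⟩
  let ψ : B' →+* C := (algebraMap B' B).codRestrict C.toSubring (fun b => h1 ⟨b, rfl⟩)
  letI : Algebra B' C := ψ.toAlgebra
  haveI : IsScalarTower B' C B := IsScalarTower.of_algebraMap_eq (fun b => rfl)
  haveI : IsScalarTower A B' C := IsScalarTower.of_algebraMap_eq (fun a => by
    apply Subtype.ext
    show algebraMap A B a = algebraMap B' B (algebraMap A B' a)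
    rw [← IsScalarTower.algebraMap_apply])
  haveI : Module.Finite B' C := Module.Finite.of_restrictScalars_finite A B' C
  have := isOpenImmersion_of_factor (R := B') (T := C) (S := B) Subtype.val_injective h'
  exact this

end Main

end Groth.Agent.Lib.T1H8.OpenImmFactor
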