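import Mathlib
import Groth.Agent.Lib.Helper10WeilZero
import Groth.Prelude.Def_W4c4chowquasisplitNorm
set_option autoImplicit false
set_option linter.style.haveILetI false

/-!
# The norm subgroup of `CH_0(Spec k)` (S17743, S17744)
-/

namespace Groth.Agent.Lib.T1H8.PtNorm

universe u
open AlgebraicGeometry CategoryTheory
open Groth.Agent.Lib.Helper10.WeilPt

section Deg
variable (k F : Type u) [Field k] [Field F] [Algebra k F]

/-- the canonical map `k → κ(y)` for a point of `Spec k` -/
noncomputable def psi (y : Spec (CommRingCat.of k)) :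
    CommRingCat.of k ⟶ (Spec (CommRingCat.of k)).residueField y :=
  Spec.preimage ((Spec (CommRingCat.of k)).fromSpecResidueField y)

theorem psi_bijective (y : Spec (CommRingCat.of k)) : Function.Bijective (psi k y).hom :=
  ⟨RingHom.injective _, surjective_preimage_fromSpecResidueField k y⟩

theorem psi_comp (x : Spec (CommRingCat.of F)) :
    psi k ((Spec.map (CommRingCat.ofHom (algebraMap k F))) x) ≫
      (Spec.map (CommRingCat.ofHom (algebraMap k F))).residueFieldMap x =
    CommRingCat.ofHom (algebraMap k F) ≫ psi F x := by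
  apply Spec.map_injective
  rw [Spec.map_comp, Spec.map_comp, psi, psi, Spec.map_preimage, Spec.map_preimage,
    Scheme.Hom.SpecMap_residueFieldMap_fromSpecResidueField]

theorem residueDegree_specMap (x : Spec (CommRingCat.of F)) :
    (Spec.map (CommRingCat.ofHom (algebraMap k F))).residueDegree x = Module.finrank k F := by
  unfold Scheme.Hom.residueDegree
  letI alg1 : Algebra ((Spec (CommRingCat.of k)).residueField
      ((Spec.map (CommRingCat.ofHom (algebraMap k F))) x)) ((Spec (CommRingCat.of F)).residueField x) :=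
    ((Spec.map (CommRingCat.ofHom (algebraMap k F))).residueFieldMap x).hom.toAlgebra
  let i : k ≃+* (Spec (CommRingCat.of k)).residueField
      ((Spec.map (CommRingCat.ofHom (algebraMap k F))) x) :=
    RingEquiv.ofBijective (psi k _).hom (psi_bijective k _)
  let j : F ≃+* (Spec (CommRingCat.of F)).residueField x :=
    RingEquiv.ofBijective (psi F x).hom (psi_bijective F x)
  symm
  refine Algebra.finrank_eq_of_equiv_equiv i j ?_
  ext a
  have h := psi_comp k F x
  have h2 := congrArg (fun φ => φ.hom a) h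
  exact h2

theorem map_specMap_apply (α : AlgebraicCycle (Spec (CommRingCat.of F)) ℤ)
    (z : Spec (CommRingCat.of k)) (x : Spec (CommRingCat.of F)) :
    AlgebraicCycle.map (Spec.map (CommRingCat.ofHom (algebraMap k F)))
      (fun _ => (0 : ℤ)) (fun _ => (0 : ℤ)) α z = α x * (Module.finrank k F : ℤ) := by
  unfold AlgebraicCycle.map
  rw [Function.locallyFinsupp.map_apply]
  have hset : (Spec.map (CommRingCat.ofHom (algebraMap k F))) ⁻¹' {z} = {x} := by
    ext y
    simp only [Set.mem_preimage, Set.mem_singleton_iff]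
    constructor
    · intro _
      exact Subsingleton.elim _ _
    · intro _
      exact Subsingleton.elim _ _
  rw [hset, finsum_mem_singleton]
  simp [AlgebraicCycle.mapCoeff, residueDegree_specMap]

end Deg

section CH
variable (k : Type u) [Field k]

/-- the point of `Spec k` -/
noncomputable def pt : Spec (CommRingCat.of k) := default

theorem mem_Zk (α : AlgebraicCycle (Spec (CommRingCat.of k)) ℤ) :
    α ∈ Cyc.Zk (Spec (CommRingCat.of k)) (fun _ => 0) 0 := by
  intro x hx
  exact absurd rfl hx

/-- the unit cycle -/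
noncomputable def e : AlgebraicCycle (Spec (CommRingCat.of k)) ℤ where
  toFun := fun _ => 1
  supportWithinDomain' := fun _ _ => Set.mem_univ _
  supportLocallyFiniteWithinDomain' := fun _ _ =>
    ⟨Set.univ, Filter.univ_mem, Set.finite_univ.subset (Set.subset_univ _)⟩

theorem e_apply (x : Spec (CommRingCat.of k)) : e k x = 1 := rfl

theorem eq_smul_e (α : AlgebraicCycle (Spec (CommRingCat.of k)) ℤ) :
    α = (α (pt k)) • e k := by
  ext x
  have : x = pt k := Subsingleton.elim _ _
  subst this
  change _ = α (pt k) • (e k (pt k))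
  rw [e_apply]
  simp

/-- the class of the point -/
noncomputable def ce : ChowOps.CH (Spec (CommRingCat.of k)) (fun _ => 0) 0 :=
  ChowOps.cl (e k) (mem_Zk k _)

theorem cl_eq_smul_ce (α : AlgebraicCycle (Spec (CommRingCat.of k)) ℤ)
    (h : α ∈ Cyc.Zk (Spec (CommRingCat.of k)) (fun _ => 0) 0) :
    ChowOps.cl α h = (α (pt k)) • ce k := by
  unfold ce ChowOps.cl
  rw [← map_zsmul]
  congr 1
  apply Subtype.ext
  change α = _
  conv_lhs => rw [eq_smul_e k α]
  rfl

theorem exists_eq_smul_ce (c : ChowOps.CH (Spec (CommRingCat.of k)) (fun _ => 0) 0) :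
    ∃ m : ℤ, c = m • ce k := by
  obtain ⟨⟨α, h⟩, rfl⟩ := QuotientAddGroup.mk_surjective c
  exact ⟨α (pt k), cl_eq_smul_ce k α h⟩

theorem ratTriv_eq_bot : ChowOps.ratTriv (Spec (CommRingCat.of k)) (fun _ => 0) 0 = ⊥ := by
  unfold ChowOps.ratTriv
  rw [AddSubgroup.closure_eq_bot_iff]
  rintro ⟨a, ha⟩ ⟨ι, ξ, f, hδ, hf, hfin, hsum⟩
  have hemp : IsEmpty ι := ⟨fun i => by
    have := hδ i
    simp at this⟩
  rw [Set.mem_singleton_iff]
  apply Subtype.ext
  change a = 0
  ext x
  rw [hsum x, finsum_of_isEmpty]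
  rfl

/-- evaluation at the point -/
noncomputable def evHom : ↥(ChowOps.zk (Spec (CommRingCat.of k)) (fun _ => 0) 0) →+ ℤ where
  toFun a := (a : AlgebraicCycle (Spec (CommRingCat.of k)) ℤ) (pt k)
  map_zero' := rfl
  map_add' _ _ := rfl

/-- the degree isomorphism `CH_0(Spec k) → ℤ` -/
noncomputable def theta : ChowOps.CH (Spec (CommRingCat.of k)) (fun _ => 0) 0 →+ ℤ :=
  QuotientAddGroup.lift (ChowOps.ratTriv (Spec (CommRingCat.of k)) (fun _ => 0) 0) (evHom k)
    (by rw [ratTriv_eq_bot]; exact bot_le)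

theorem theta_ce : theta k (ce k) = 1 := rfl

theorem theta_smul_ce (m : ℤ) : theta k (m • ce k) = m := by
  rw [map_zsmul, theta_ce]
  simp

theorem theta_injective : Function.Injective (theta k) := by
  intro c₁ c₂ h
  obtain ⟨m₁, rfl⟩ := exists_eq_smul_ce k c₁
  obtain ⟨m₂, rfl⟩ := exists_eq_smul_ce k c₂
  rw [theta_smul_ce, theta_smul_ce] at h
  rw [h]

theorem theta_surjective : Function.Surjective (theta k) := fun m => ⟨m • ce k, theta_smul_ce k m⟩

end CH

section Norm
variable (k : Type u) [Field k] (K : Type u) [Field K] [Algebra k K]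

theorem smul_ce_mem (F : IntermediateField k K) [FiniteDimensional k F] (hF : F ≠ ⊥) :
    ((Module.finrank k F : ℤ)) • ce k ∈ QsChow.ptNormSubgroup k K := by
  apply AddSubgroup.subset_closure
  refine ⟨F, inferInstance, hF, e F, mem_Zk k _, ?_⟩
  rw [cl_eq_smul_ce, map_specMap_apply k F (e F) (pt k) (pt F), e_apply, one_mul]

end Norm

section Galois
variable (k K : Type u) [Field k] [Field K] [Algebra k K]

/-- subgroups of the Galois group of a finite Galois subextension give intermediate fields of the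
big extension of degree the index -/
theorem exists_intermediateField_finrank (L : IntermediateField k K) [FiniteDimensional k L]
    [IsGalois k L] (H : Subgroup (L ≃ₐ[k] L)) :
    ∃ F : IntermediateField k K, FiniteDimensional k F ∧ Module.finrank k F = H.index := by
  let F₀ : IntermediateField k L := IntermediateField.fixedField H
  have h1 : Module.finrank k F₀ = H.index := by
    rw [IntermediateField.finrank_eq_fixingSubgroup_index, IntermediateField.fixingSubgroup_fixedField]
  let eq := IntermediateField.liftAlgEquiv F₀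
  refine ⟨IntermediateField.lift F₀, ?_, ?_⟩
  · exact Module.Finite.equiv eq.toLinearEquiv
  · rw [← h1]
    exact eq.toLinearEquiv.finrank_eq.symm

theorem ne_bot_of_finrank_ne_one (F : IntermediateField k K) (h : Module.finrank k F ≠ 1) : F ≠ ⊥ := by
  intro hF
  apply h
  rw [IntermediateField.finrank_eq_one_iff]
  exact hF

/-- if `[L:k]` is not a prime power, the degrees of the proper finite subextensions generate `ℤ` -/
theorem gcd_degrees (L : IntermediateField k K) [FiniteDimensional k L] [IsGalois k L]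
    (hL : ∀ p n : ℕ, p.Prime → Module.finrank k L ≠ p ^ n)
    (D : AddSubgroup ℤ)
    (hD : ∀ F : IntermediateField k K, FiniteDimensional k F → F ≠ ⊥ → (Module.finrank k F : ℤ) ∈ D) :
    (1 : ℤ) ∈ D := by
  classical
  have hcard : Nat.card (L ≃ₐ[k] L) = Module.finrank k L := IsGalois.card_aut_eq_finrank k L
  have hN1 : Module.finrank k L ≠ 1 := by
    have := hL 2 0 Nat.prime_two
    simpa using this
  -- for each prime `q` dividing `N`, a degree in `D` prime to `q`
  have key : ∀ q : ℕ, q.Prime → q ∣ Module.finrank k L → ∃ m : ℕ, (m : ℤ) ∈ D ∧ ¬ q ∣ m ∧ m ∣ Module.finrank k L := by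
    intro q hq hqN
    haveI : Fact q.Prime := ⟨hq⟩
    obtain ⟨P⟩ : Nonempty (Sylow q (L ≃ₐ[k] L)) := inferInstance
    obtain ⟨F, hFfin, hFdeg⟩ := exists_intermediateField_finrank k K L (P : Subgroup (L ≃ₐ[k] L))
    refine ⟨Module.finrank k F, hD F hFfin ?_, ?_, ?_⟩
    · apply ne_bot_of_finrank_ne_one
      rw [hFdeg]
      intro hidx
      have h2 := (P : Subgroup (L ≃ₐ[k] L)).index_mul_card
      rw [hidx, one_mul, hcard, Sylow.card_eq_multiplicity] at h2
      exact hL q _ hq h2.symm
    · rw [hFdeg]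
      exact P.not_dvd_index
    · rw [hFdeg, ← hcard]
      exact Subgroup.index_dvd_card _
  -- `D` is cyclic
  obtain ⟨d, hd⟩ : ∃ d : ℤ, D = AddSubgroup.zmultiples d := by
    obtain ⟨d, hd⟩ := Int.subgroup_cyclic D
    rw [← AddSubgroup.zmultiples_eq_closure] at hd
    exact ⟨d, hd⟩
  have hdvd : ∀ q : ℕ, q.Prime → q ∣ Module.finrank k L → ¬ (q : ℤ) ∣ d := by
    intro q hq hqN hqd
    obtain ⟨m, hmD, hqm, -⟩ := key q hq hqN
    rw [hd, Int.mem_zmultiples_iff] at hmD
    apply hqm
    exact_mod_cast hqd.trans hmD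
  -- `d` divides a degree dividing `N`
  obtain ⟨q₀, hq₀, hq₀N⟩ := Nat.exists_prime_and_dvd hN1
  obtain ⟨m₀, hm₀D, -, hm₀N⟩ := key q₀ hq₀ hq₀N
  have hdN : d ∣ (Module.finrank k L : ℤ) := by
    rw [hd, Int.mem_zmultiples_iff] at hm₀D
    exact hm₀D.trans (by exact_mod_cast hm₀N)
  have hd1 : d.natAbs = 1 := by
    by_contra hne
    obtain ⟨q, hq, hqd⟩ := Nat.exists_prime_and_dvd hne
    have hqd' : (q : ℤ) ∣ d := Int.natCast_dvd.mpr hqd
    have hqN : q ∣ Module.finrank k L := by
      have := hqd'.trans hdN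
      exact_mod_cast this
    exact hdvd q hq hqN hqd'
  rw [hd, Int.mem_zmultiples_iff]
  exact Int.natAbs_dvd_natAbs.mp (by rw [hd1]; simp)

theorem exists_degree_prime (L : IntermediateField k K) [FiniteDimensional k L] [IsGalois k L]
    (p n : ℕ) (hp : p.Prime) (hn : 1 ≤ n) (hL : Module.finrank k L = p ^ n) :
    ∃ F : IntermediateField k K, FiniteDimensional k F ∧ Module.finrank k F = p := by
  haveI : Fact p.Prime := ⟨hp⟩
  have hcard : Nat.card (L ≃ₐ[k] L) = p ^ n := by rw [IsGalois.card_aut_eq_finrank k L, hL]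
  obtain ⟨H, hH⟩ := Sylow.exists_subgroup_card_pow_prime p (n := n - 1) (G := L ≃ₐ[k] L)
    (by rw [hcard]; exact pow_dvd_pow p (Nat.sub_le n 1))
  obtain ⟨F, hFfin, hFdeg⟩ := exists_intermediateField_finrank k K L H
  refine ⟨F, hFfin, ?_⟩
  rw [hFdeg]
  have h2 := H.index_mul_card
  rw [hH, hcard] at h2
  have h3 : p ^ n = p * p ^ (n - 1) := by
    rw [← pow_succ', Nat.sub_add_cancel hn]
  rw [h3] at h2
  exact Nat.eq_of_mul_eq_mul_right (pow_pos hp.pos _) h2

end Galois

section Main
variable (k : Type u) [Field k] (K : Type u) [Field K] [Algebra k K]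

theorem main_S17743 [Algebra.IsSeparable k K]
    (L : IntermediateField k K) [FiniteDimensional k L] [IsGalois k L]
    (hL : ∀ p n : ℕ, p.Prime → Module.finrank k L ≠ p ^ n) :
    QsChow.ptNormSubgroup k K = ⊤ := by
  rw [eq_top_iff]
  intro c _
  obtain ⟨m, rfl⟩ := exists_eq_smul_ce k c
  let D : AddSubgroup ℤ := (QsChow.ptNormSubgroup k K).comap (zmultiplesHom _ (ce k))
  have h1 : (1 : ℤ) ∈ D := gcd_degrees k K L hL D (fun F hFfin hF => by
    haveI := hFfin
    rw [AddSubgroup.mem_comap, zmultiplesHom_apply]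
    exact smul_ce_mem k K F hF)
  have h2 : (1 : ℤ) • ce k ∈ QsChow.ptNormSubgroup k K := h1
  rw [one_zsmul] at h2
  exact AddSubgroup.zsmul_mem _ h2 m

theorem main_S17744 [Algebra.IsSeparable k K]
    (L : IntermediateField k K) [FiniteDimensional k L] [IsGalois k L]
    (p n : ℕ) (hp : p.Prime) (hn : 1 ≤ n) (hL : Module.finrank k L = p ^ n)
    (hF : ∀ F : IntermediateField k K, FiniteDimensional k F → ∃ e : ℕ, Module.finrank k F = p ^ e) :
    (QsChow.ptNormSubgroup k K).index = p := by
  have hH : QsChow.ptNormSubgroup k K = (AddSubgroup.zmultiples (p : ℤ)).comap (theta k) := by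
    apply le_antisymm
    · rw [QsChow.ptNormSubgroup, AddSubgroup.closure_le]
      rintro c ⟨F, hFfin, hFne, α, h, rfl⟩
      rw [SetLike.mem_coe, AddSubgroup.mem_comap, cl_eq_smul_ce, theta_smul_ce,
        map_specMap_apply k F α (pt k) (pt F)]
      obtain ⟨e', he'⟩ := hF F hFfin
      have he0 : e' ≠ 0 := by
        rintro rfl
        rw [pow_zero] at he'
        exact hFne ((IntermediateField.finrank_eq_one_iff).mp he')
      rw [Int.mem_zmultiples_iff, he']
      apply Dvd.dvd.mul_left
      exact_mod_cast dvd_pow_self p he0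
    · intro c hc
      obtain ⟨m, rfl⟩ := exists_eq_smul_ce k c
      rw [AddSubgroup.mem_comap, theta_smul_ce, Int.mem_zmultiples_iff] at hc
      obtain ⟨t, rfl⟩ := hc
      obtain ⟨F, hFfin, hFdeg⟩ := exists_degree_prime k K L p n hp hn hL
      haveI := hFfin
      have hmem := smul_ce_mem k K F
        (ne_bot_of_finrank_ne_one k K F (by rw [hFdeg]; exact hp.one_lt.ne'))
      rw [hFdeg] at hmem
      rw [mul_comm, mul_zsmul]
      exact AddSubgroup.zsmul_mem _ hmem t
  rw [hH, AddSubgroup.index_comap_of_surjective _ (theta_surjective k), Int.index_zmultiples]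
  simp

end Main

end Groth.Agent.Lib.T1H8.PtNorm
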