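import Mathlib
import Groth.Prelude.Def_W4c4chowquasisplitNorm
set_option autoImplicit false
set_option linter.style.haveILetI false

/-!
# Norm subgroup of a scheme defined over a finite intermediate field (S17745)
-/

namespace Groth.Agent.Lib.T1H8.PtNorm

universe u
open AlgebraicGeometry CategoryTheory

section Local

theorem finrank_eq_one_of_surjective {K L : Type u} [Field K] [Field L] [Algebra K L]
    (h : Function.Surjective (algebraMap K L)) : Module.finrank K L = 1 := by
  have hbij : Function.Bijective (Algebra.linearMap K L) :=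
    ⟨(algebraMap K L).injective, h⟩
  rw [← (LinearEquiv.ofBijective (Algebra.linearMap K L) hbij).finrank_eq]
  exact Module.finrank_self K

theorem residueDegree_eq_one {X Y : Scheme.{u}} (f : Y ⟶ X) (y : Y)
    (h : Function.Surjective (f.residueFieldMap y).hom) : f.residueDegree y = 1 := by
  unfold Scheme.Hom.residueDegree
  letI := (f.residueFieldMap y).hom.toAlgebra
  exact finrank_eq_one_of_surjective h

/-- the residue field maps of a preimmersion are bijective -/
theorem residueFieldMap_bijective {V X : Scheme.{u}} (j : V ⟶ X) [IsPreimmersion j] (v : V) :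
    Function.Bijective (j.residueFieldMap v).hom := by
  refine ⟨RingHom.injective _, fun c => ?_⟩
  obtain ⟨b, rfl⟩ : ∃ b : V.presheaf.stalk v, (V.residue v).hom b = c :=
    Ideal.Quotient.mk_surjective c
  obtain ⟨a, rfl⟩ := j.stalkMap_surjective v b
  refine ⟨(X.residue (j v)).hom a, ?_⟩
  exact ConcreteCategory.congr_hom (Scheme.residue_residueFieldMap j v) a

variable {Z X : Scheme.{u}} (i : Z ⟶ X) [IsClosedImmersion i] (δ : X → ℤ)

theorem mapCoeff_eq_one (z : Z) :
    AlgebraicCycle.mapCoeff i (fun z => δ (i z)) δ z = 1 := by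
  unfold AlgebraicCycle.mapCoeff
  rw [if_pos rfl]
  exact residueDegree_eq_one i z (residueFieldMap_bijective i z).2

/-- the pushforward along a closed immersion, at a point of the image -/
theorem map_apply_self (α : AlgebraicCycle Z ℤ) (z : Z) :
    AlgebraicCycle.map i (fun z => δ (i z)) δ α (i z) = α z := by
  classical
  change ∑ᶠ z' ∈ i ⁻¹' {i z}, α z' * ((AlgebraicCycle.mapCoeff i (fun z => δ (i z)) δ z' : ℕ) : ℤ)
    = α z
  rw [finsum_eq_single _ z]
  · have hmem : z ∈ i ⁻¹' {i z} := rfl
    rw [finsum_eq_if, if_pos hmem, mapCoeff_eq_one]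
    simp
  · intro z' hne
    have hmem : z' ∉ i ⁻¹' {i z} := fun h => hne (i.isEmbedding.injective h)
    rw [finsum_eq_if, if_neg hmem]

/-- the pushforward along a closed immersion vanishes outside the image -/
theorem map_apply_of_notMem (α : AlgebraicCycle Z ℤ) (x : X) (hx : x ∉ Set.range i) :
    AlgebraicCycle.map i (fun z => δ (i z)) δ α x = 0 := by
  classical
  change ∑ᶠ z' ∈ i ⁻¹' {x}, α z' * ((AlgebraicCycle.mapCoeff i (fun z => δ (i z)) δ z' : ℕ) : ℤ)
    = 0
  refine finsum_eq_zero_of_forall_eq_zero fun z' => ?_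
  have hmem : z' ∉ i ⁻¹' {x} := fun h => hx ⟨z', h⟩
  rw [finsum_eq_if, if_neg hmem]

end Local

theorem bijective_residueFieldMap_of_eq {X Y : Scheme.{u}} (f g : X ⟶ Y) (e : f = g) (x : X)
    (h : Function.Bijective (g.residueFieldMap x).hom) :
    Function.Bijective (f.residueFieldMap x).hom := by
  subst e
  exact h

section Sect
variable {X Y : Scheme.{u}} (s : X ⟶ Y) (π : Y ⟶ X) (hs : s ≫ π = 𝟙 X)

include hs in
theorem pi_s_apply (x : X) : π (s x) = x := by
  have := congrArg (fun f : X ⟶ X => f x) hs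
  simpa using this

include hs in
theorem isClosedImmersion_of_section [IsSeparated π] : IsClosedImmersion s := by
  haveI : IsClosedImmersion (s ≫ π) := by rw [hs]; infer_instance
  exact IsClosedImmersion.of_comp s π

include hs in
theorem residueFieldMap_surjective_of_section [IsClosedImmersion s] (x : X) :
    Function.Surjective (π.residueFieldMap (s x)).hom := by
  -- (s ≫ π).residueFieldMap x = π.residueFieldMap (s x) ≫ s.residueFieldMap x is bijective
  have h1 : (s ≫ π).residueFieldMap x = π.residueFieldMap (s x) ≫ s.residueFieldMap x :=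
    Scheme.residueFieldMap_comp s π x
  have hbij : Function.Bijective ((s ≫ π).residueFieldMap x).hom := by
    apply bijective_residueFieldMap_of_eq _ _ hs
    rw [Scheme.residueFieldMap_id]
    exact Function.bijective_id
  have hsb := residueFieldMap_bijective s x
  intro c
  obtain ⟨a, ha⟩ := hbij.2 ((s.residueFieldMap x).hom c)
  refine ⟨a, ?_⟩
  apply hsb.1
  rw [← ha, h1]
  rfl

include hs in
theorem map_pi_map_s [IsClosedImmersion s] [QuasiCompact π] (δ : X → ℤ)
    (β : AlgebraicCycle X ℤ) :
    AlgebraicCycle.map π (δ ∘ ⇑π.base) δ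
      (AlgebraicCycle.map s (fun z => (δ ∘ ⇑π.base) (s z)) (δ ∘ ⇑π.base) β) = β := by
  classical
  ext x
  change ∑ᶠ y ∈ π ⁻¹' {x},
    (AlgebraicCycle.map s (fun z => (δ ∘ ⇑π.base) (s z)) (δ ∘ ⇑π.base) β) y *
      ((AlgebraicCycle.mapCoeff π (δ ∘ ⇑π.base) δ y : ℕ) : ℤ) = β x
  rw [finsum_eq_single _ (s x)]
  · have hmem : s x ∈ π ⁻¹' {x} := pi_s_apply s π hs x
    rw [finsum_eq_if, if_pos hmem, map_apply_self s (δ ∘ ⇑π.base) β x]
    have h1 : AlgebraicCycle.mapCoeff π (δ ∘ ⇑π.base) δ (s x) = 1 := by
      unfold AlgebraicCycle.mapCoeff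
      rw [if_pos (show (δ ∘ ⇑π.base) (s x) = δ (π (s x)) from rfl)]
      exact residueDegree_eq_one π (s x) (residueFieldMap_surjective_of_section s π hs x)
    rw [h1]
    simp
  · intro y hy
    by_cases hmem : y ∈ π ⁻¹' {x}
    · rw [finsum_eq_if, if_pos hmem]
      have hyr : y ∉ Set.range s := by
        rintro ⟨z, rfl⟩
        apply hy
        have : π (s z) = x := hmem
        rw [pi_s_apply s π hs z] at this
        rw [this]
      rw [map_apply_of_notMem s (δ ∘ ⇑π.base) β y hyr, zero_mul]
    · rw [finsum_eq_if, if_neg hmem]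

end Sect


section Main

theorem main_S17745
    (k : Type u) [Field k] (K : Type u) [Field K] [Algebra k K] [Algebra.IsSeparable k K]
    (F : IntermediateField k K) [FiniteDimensional k F] (hF : F ≠ ⊥)
    (X : Scheme.{u}) [X.Over (Spec (CommRingCat.of k))] (g : X ⟶ Spec (CommRingCat.of F))
    (hg : g ≫ Spec.map (CommRingCat.ofHom (algebraMap k F)) = X ↘ Spec (CommRingCat.of k))
    (hsm : Smooth g) [IsSeparated g] [QuasiCompact g]
    (δ : X → ℤ) (hδ : Cyc.IsSetup X δ)
    (hcompat : Cyc.DeltaCompat (X ↘ Spec (CommRingCat.of k)) δ (fun _ => 0)) (j : ℤ) :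
    QsChow.normSubgroup k K X δ j = ⊤ := by
  rw [eq_top_iff]
  intro c _
  obtain ⟨⟨β, hβ⟩, rfl⟩ := QuotientAddGroup.mk_surjective c
  apply AddSubgroup.subset_closure
  let s : X ⟶ Curv2.bc k X F := Limits.pullback.lift (𝟙 X) g (by rw [Category.id_comp, hg])
  have hs : s ≫ Curv2.bcFst k X F = 𝟙 X := Limits.pullback.lift_fst _ _ _
  haveI : IsClosedImmersion s := isClosedImmersion_of_section s _ hs
  have hmap := map_pi_map_s s (Curv2.bcFst k X F) hs δ β
  refine ⟨F, inferInstance, hF,
    AlgebraicCycle.map s (fun z => (δ ∘ ⇑(Curv2.bcFst k X F).base) (s z))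
      (δ ∘ ⇑(Curv2.bcFst k X F).base) β, ?_, ?_, ?_⟩
  · intro y hy
    by_cases hyr : y ∈ Set.range s
    · obtain ⟨z, rfl⟩ := hyr
      rw [map_apply_self]
      apply hβ
      intro h
      apply hy
      change δ ((Curv2.bcFst k X F) (s z)) = j
      rw [pi_s_apply s _ hs z]
      exact h
    · exact map_apply_of_notMem s _ β y hyr
  · rw [hmap]
    exact hβ
  · unfold ChowOps.cl
    congr 1
    apply Subtype.ext
    exact hmap.symm

end Main

end Groth.Agent.Lib.T1H8.PtNorm
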