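import Groth.Prelude.Def_RedSub
import Groth.Agent.Lib.Helper8Root4
import Mathlib.LinearAlgebra.RootSystem.Base
import Mathlib.Data.Set.Card

/-!
# Reflecting a base of a root pairing over ℤ in a root

Helper library for S8517: the image of a base under a reflection is a base; the positive roots of
the base reflected in a simple root; a descent argument producing a base all of whose positive roots
lie in a given closed "parabolic" set of roots.
-/

namespace Groth.Agent.Lib.T1H8.ReflBase

open RedSub RootD

variable {idx M N : Type} [AddCommGroup M] [AddCommGroup N]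
variable (P : RootPairing idx ℤ M N)

/-- Image of an additive closure of roots under a reflection. -/
lemma reflection_mem_closure_iff (i : idx) (S : Finset idx) [DecidableEq idx] (x : M) :
    P.reflection i x ∈ AddSubmonoid.closure (P.root '' (S.image (P.reflectionPerm i) : Finset idx))
      ↔ x ∈ AddSubmonoid.closure (P.root '' (S : Set idx)) := by
  have key : AddSubmonoid.closure (P.root '' ((S.image (P.reflectionPerm i) : Finset idx) : Set idx))
      = (AddSubmonoid.closure (P.root '' (S : Set idx))).map
        ((P.reflection i).toLinearMap.toAddMonoidHom) := by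
    rw [AddMonoidHom.map_mclosure]
    congr 1
    ext y
    simp only [Finset.coe_image, Set.mem_image, Finset.mem_coe, exists_exists_and_eq_and,
      RootPairing.root_reflectionPerm]
    rfl
  rw [key, AddSubmonoid.mem_map]
  constructor
  · rintro ⟨y, hy, hxy⟩
    have : y = x := (P.reflection i).injective hxy
    exact this ▸ hy
  · intro hx
    exact ⟨x, hx, rfl⟩

/-- Coroot version. -/
lemma coreflection_mem_closure_iff (i : idx) (S : Finset idx) [DecidableEq idx] (x : N) :
    P.coreflection i x ∈
        AddSubmonoid.closure (P.coroot '' (S.image (P.reflectionPerm i) : Finset idx))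
      ↔ x ∈ AddSubmonoid.closure (P.coroot '' (S : Set idx)) :=
  reflection_mem_closure_iff P.flip i S x

lemma linearIndepOn_root_image (i : idx) (S : Finset idx) [DecidableEq idx]
    (h : LinearIndepOn ℤ P.root (S : Set idx)) :
    LinearIndepOn ℤ P.root ((S.image (P.reflectionPerm i) : Finset idx) : Set idx) := by
  rw [Finset.coe_image]
  apply LinearIndepOn.image_of_comp
  have : P.root ∘ (P.reflectionPerm i) = (P.reflection i).toLinearMap ∘ P.root := by
    ext k
    simp [RootPairing.root_reflectionPerm]
  rw [this]
  exact h.map_injOn _ (P.reflection i).injective.injOn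

lemma linearIndepOn_coroot_image (i : idx) (S : Finset idx) [DecidableEq idx]
    (h : LinearIndepOn ℤ P.coroot (S : Set idx)) :
    LinearIndepOn ℤ P.coroot ((S.image (P.reflectionPerm i) : Finset idx) : Set idx) :=
  linearIndepOn_root_image P.flip i S h

/-- The base reflected in the root `i`. -/
noncomputable def reflBase [DecidableEq idx] (b : P.Base) (i : idx) : P.Base where
  support := b.support.image (P.reflectionPerm i)
  linearIndepOn_root := linearIndepOn_root_image P i b.support b.linearIndepOn_root
  linearIndepOn_coroot := linearIndepOn_coroot_image P i b.support b.linearIndepOn_coroot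
  root_mem_or_neg_mem k := by
    have hk : P.root k = P.reflection i (P.root (P.reflectionPerm i k)) := by
      rw [← RootPairing.root_reflectionPerm]; simp
    rcases b.root_mem_or_neg_mem (P.reflectionPerm i k) with h | h
    · left
      rw [hk]
      exact (reflection_mem_closure_iff P i b.support _).mpr h
    · right
      rw [hk, ← map_neg]
      exact (reflection_mem_closure_iff P i b.support _).mpr h
  coroot_mem_or_neg_mem k := by
    have hk : P.coroot k = P.coreflection i (P.coroot (P.reflectionPerm i k)) := by
      rw [← RootPairing.coroot_reflectionPerm]; simp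
    rcases b.coroot_mem_or_neg_mem (P.reflectionPerm i k) with h | h
    · left
      rw [hk]
      exact (coreflection_mem_closure_iff P i b.support _).mpr h
    · right
      rw [hk, ← map_neg]
      exact (coreflection_mem_closure_iff P i b.support _).mpr h

lemma mem_posRoots_reflBase [DecidableEq idx] (b : P.Base) (i k : idx) :
    k ∈ posRoots P (reflBase P b i) ↔ P.reflectionPerm i k ∈ posRoots P b := by
  unfold posRoots
  simp only [Set.mem_ofPred_eq]
  have hk : P.root k = P.reflection i (P.root (P.reflectionPerm i k)) := by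
    rw [← RootPairing.root_reflectionPerm]; simp
  rw [hk]
  exact reflection_mem_closure_iff P i b.support _

lemma isSimpleSys_support (b : P.Base) : IsSimpleSys P (b.support : Set idx) :=
  ⟨b.linearIndepOn_root, b.root_mem_or_neg_mem⟩

lemma posOf_support (b : P.Base) : posOf P (b.support : Set idx) = posRoots P b := rfl

lemma support_subset_posRoots (b : P.Base) : (b.support : Set idx) ⊆ posRoots P b :=
  fun i hi => AddSubmonoid.subset_closure ⟨i, hi, rfl⟩

/-- A root which is a natural multiple of a simple root is that simple root. -/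
lemma eq_of_root_eq_nsmul [Finite idx] (b : P.Base) {i k : idx} (hi : i ∈ b.support) (n : ℕ)
    (h : P.root k = n • P.root i) : k = i := by
  have := Groth.Agent.Lib.Helper8.isAddTorsionFree P
  have := Groth.Agent.Lib.Helper8.isAddTorsionFree' P
  have h1 : ((n : ℤ)) • P.root i ∈ Set.range P.root := ⟨k, by rw [h]; simp⟩
  rcases b.eq_one_or_neg_one_of_mem_support_of_smul_mem i hi (n : ℤ) h1 with h2 | h2
  · apply P.root.injective
    have : n = 1 := by exact_mod_cast h2
    rw [h, this, one_smul]
  · exfalso
    have : (0 : ℤ) ≤ n := Int.natCast_nonneg n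
    omega

/-- The reflection in a simple root `i` maps positive roots other than `i` to positive roots. -/
lemma reflectionPerm_mem_posRoots [Finite idx] (b : P.Base) {i k : idx} (hi : i ∈ b.support)
    (hk : k ∈ posRoots P b) (hki : k ≠ i) : P.reflectionPerm i k ∈ posRoots P b := by
  rw [← posOf_support] at hk ⊢
  refine Groth.Agent.Lib.Helper8.simple_reflection_pos (isSimpleSys_support P b) hk hi ?_
  intro n hn
  exact hki (eq_of_root_eq_nsmul P b hi n hn)

/-- A root and its negative are not both positive. -/
lemma neg_notMem_posRoots (b : P.Base) {k : idx} (hk : k ∈ posRoots P b) :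
    P.reflectionPerm k k ∉ posRoots P b := by
  intro h
  rw [← posOf_support] at hk h
  have h2 : -P.root k ∈ natSpan P (b.support : Set idx) := by
    have : P.root (P.reflectionPerm k k) = -P.root k := by simp
    rw [← this]; exact h
  have := Groth.Agent.Lib.Helper8.simple_eq_zero_of_mem_of_neg_mem (isSimpleSys_support P b) hk h2
  exact P.ne_zero k this

/-- Positive roots of the base reflected in a simple root `i`: those of `b`, with `i` replaced by
its negative. -/
lemma mem_posRoots_reflBase_simple [Finite idx] [DecidableEq idx] (b : P.Base) {i : idx}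
    (hi : i ∈ b.support) (k : idx) :
    k ∈ posRoots P (reflBase P b i) ↔ (k ∈ posRoots P b ∧ k ≠ i) ∨ k = P.reflectionPerm i i := by
  rw [mem_posRoots_reflBase]
  have hinv : ∀ j, P.reflectionPerm i (P.reflectionPerm i j) = j := fun j => by simp
  constructor
  · intro h
    by_cases hk : P.reflectionPerm i k = i
    · right
      have h2 : k = P.reflectionPerm i i := by rw [← hinv k, hk]
      rw [h2]
    · left
      have := reflectionPerm_mem_posRoots P b hi h hk
      rw [hinv] at this
      refine ⟨this, ?_⟩
      rintro rfl
      exact neg_notMem_posRoots P b (support_subset_posRoots P b hi) h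
  · rintro (⟨hk, hki⟩ | rfl)
    · exact reflectionPerm_mem_posRoots P b hi hk hki
    · rw [hinv]
      exact support_subset_posRoots P b hi

/-- Descent: if every root or its negative lies in `Q`, some base has all its simple roots in
`Q`. -/
theorem exists_base_support_subset [Finite idx] (Q : Set idx)
    (hQ : ∀ a, a ∈ Q ∨ P.reflectionPerm a a ∈ Q) (b₀ : P.Base) :
    ∃ b : P.Base, (b.support : Set idx) ⊆ Q := by
  classical
  suffices H : ∀ (n : ℕ) (b : P.Base), (posRoots P b \ Q).ncard = n →
      ∃ b : P.Base, (b.support : Set idx) ⊆ Q from H _ b₀ rfl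
  intro n
  induction n using Nat.strong_induction_on with
  | _ n ih =>
    intro b hn
    by_cases hb : (b.support : Set idx) ⊆ Q
    · exact ⟨b, hb⟩
    · obtain ⟨i, hi, hiQ⟩ := Set.not_subset.mp hb
      have hi' : i ∈ b.support := hi
      have hneg : P.reflectionPerm i i ∈ Q := (hQ i).resolve_left hiQ
      have hsub : posRoots P (reflBase P b i) \ Q ⊂ posRoots P b \ Q := by
        refine ⟨?_, ?_⟩
        · rintro k ⟨hk, hkQ⟩
          rcases (mem_posRoots_reflBase_simple P b hi' k).mp hk with ⟨h1, -⟩ | rfl
          · exact ⟨h1, hkQ⟩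
          · exact absurd hneg hkQ
        · intro hsup
          have : i ∈ posRoots P (reflBase P b i) \ Q :=
            hsup ⟨support_subset_posRoots P b hi, hiQ⟩
          rcases (mem_posRoots_reflBase_simple P b hi' i).mp this.1 with ⟨-, h2⟩ | h2
          · exact h2 rfl
          · have h3 : P.root i = P.root (P.reflectionPerm i i) := congrArg P.root h2
            rw [Groth.Agent.Lib.Helper8.root_neg] at h3
            have h4 : (2 : ℤ) • P.root i = 0 := by
              rw [two_smul]; nth_rewrite 1 [h3]; simp
            have := Groth.Agent.Lib.Helper8.isAddTorsionFree P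
            have h5 : P.root i = 0 := by
              have : (2 : ℤ) • P.root i = (2 : ℤ) • (0 : M) := by rw [h4, smul_zero]
              exact zsmul_right_injective (by norm_num : (2 : ℤ) ≠ 0) this
            exact P.ne_zero i h5
      have hlt : (posRoots P (reflBase P b i) \ Q).ncard < n := by
        rw [← hn]
        exact Set.ncard_lt_ncard hsub (Set.toFinite _)
      exact ih _ hlt (reflBase P b i) rfl

/-- If `Q` is closed and every root or its negative lies in `Q`, then `Q` contains the positive
roots of some base. -/
theorem exists_base_posRoots_subset [Finite idx] (Q : Set idx) (hcl : IsClosedSub P Q)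
    (hQ : ∀ a, a ∈ Q ∨ P.reflectionPerm a a ∈ Q) (b₀ : P.Base) :
    ∃ b : P.Base, posRoots P b ⊆ Q := by
  obtain ⟨b, hb⟩ := exists_base_support_subset P Q hQ b₀
  refine ⟨b, fun k hk => ?_⟩
  refine Groth.Agent.Lib.Helper8.mem_of_closed_of_mem_natSpan P hcl ?_
  exact Groth.Agent.Lib.Helper8.natSpan_mono P hb hk

lemma mem_or_neg_mem_of_posRoots_subset (b : P.Base) {R : Set idx} (hb : posRoots P b ⊆ R)
    (a : idx) : a ∈ R ∨ P.reflectionPerm a a ∈ R := by
  rcases b.root_mem_or_neg_mem a with h | h
  · exact Or.inl (hb h)
  · right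
    apply hb
    show P.root (P.reflectionPerm a a) ∈ AddSubmonoid.closure (P.root '' (b.support : Set idx))
    rw [Groth.Agent.Lib.Helper8.root_neg]
    exact h

/-- S8517: if `R₁`, `R₂` are closed sets of roots each containing a system of positive roots and
`R₁ ∪ R₂` is everything, then `R₁ ∩ -R₂` contains a system of positive roots. -/
theorem closed_inter_neg_contains_posRoots [Finite idx] (R₁ R₂ : Set idx)
    (h₁ : ∀ a b c : idx, a ∈ R₁ → b ∈ R₁ → P.root a + P.root b = P.root c → c ∈ R₁)
    (h₂ : ∀ a b c : idx, a ∈ R₂ → b ∈ R₂ → P.root a + P.root b = P.root c → c ∈ R₂)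
    (hb₁ : ∃ b : P.Base, posRoots P b ⊆ R₁) (hb₂ : ∃ b : P.Base, posRoots P b ⊆ R₂)
    (hunion : R₁ ∪ R₂ = Set.univ) :
    ∃ b : P.Base, posRoots P b ⊆ {a | a ∈ R₁ ∧ ∃ c ∈ R₂, P.root a = -P.root c} := by
  obtain ⟨b₁, hb₁⟩ := hb₁
  obtain ⟨b₂, hb₂⟩ := hb₂
  refine exists_base_posRoots_subset P _ ?_ ?_ b₁
  · rintro i j k ⟨hi1, ci, hci, hic⟩ ⟨hj1, cj, hcj, hjc⟩ hk
    refine ⟨h₁ i j k hi1 hj1 hk.symm, P.reflectionPerm k k, ?_, ?_⟩
    · refine h₂ ci cj _ hci hcj ?_
      rw [Groth.Agent.Lib.Helper8.root_neg, hk, hic, hjc]
      abel
    · rw [Groth.Agent.Lib.Helper8.root_neg, neg_neg]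
  · intro a
    have hneg : P.root (P.reflectionPerm a a) = -P.root a := Groth.Agent.Lib.Helper8.root_neg P a
    have hneg' : P.root a = -P.root (P.reflectionPerm a a) := by rw [hneg, neg_neg]
    have p1 := mem_or_neg_mem_of_posRoots_subset P b₁ hb₁ a
    have p2 := mem_or_neg_mem_of_posRoots_subset P b₂ hb₂ a
    have u1 : a ∈ R₁ ∨ a ∈ R₂ := by
      have : a ∈ R₁ ∪ R₂ := hunion ▸ Set.mem_univ a
      exact this
    have u2 : P.reflectionPerm a a ∈ R₁ ∨ P.reflectionPerm a a ∈ R₂ := by
      have : P.reflectionPerm a a ∈ R₁ ∪ R₂ := hunion ▸ Set.mem_univ _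
      exact this
    by_cases ha1 : a ∈ R₁
    · by_cases ha2 : P.reflectionPerm a a ∈ R₂
      · exact Or.inl ⟨ha1, _, ha2, hneg'⟩
      · have h3 : a ∈ R₂ := p2.resolve_right ha2
        have h4 : P.reflectionPerm a a ∈ R₁ := u2.resolve_right ha2
        exact Or.inr ⟨h4, a, h3, hneg⟩
    · have h3 : P.reflectionPerm a a ∈ R₁ := p1.resolve_left ha1
      have h4 : a ∈ R₂ := u1.resolve_left ha1
      exact Or.inr ⟨h3, a, h4, hneg⟩

end Groth.Agent.Lib.T1H8.ReflBase
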