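import Groth.Prelude.Def_RedSub
import Mathlib.LinearAlgebra.RootSystem.Base
import Mathlib.LinearAlgebra.RootSystem.Reduced
import Mathlib.Data.Set.Card

/-!
# Inversions, reflections and the strong exchange property for root pairings over ℤ

Helper library for S15245 and S19548.
-/

namespace Groth.Agent.Lib.T1H8.RootLen

open RedSub

variable {idx M N : Type} [AddCommGroup M] [AddCommGroup N]
variable (P : RootPairing idx ℤ M N)

/-! ### Conjugation of reflection permutations -/

lemma reflectionPerm_reflectionPerm_eq (i j : idx) :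
    P.reflectionPerm (P.reflectionPerm j i) =
      P.reflectionPerm j * P.reflectionPerm i * P.reflectionPerm j := by
  ext k
  apply P.root.injective
  simp only [Equiv.Perm.mul_apply, RootPairing.root_reflectionPerm]
  rw [RootPairing.reflection_reflectionPerm]
  rfl

lemma wordPerm_nil : wordPerm P [] = 1 := by simp [wordPerm]

lemma wordPerm_cons (j : idx) (l : List idx) :
    wordPerm P (j :: l) = P.reflectionPerm j * wordPerm P l := by
  simp [wordPerm]

lemma wordPerm_append (l l' : List idx) :
    wordPerm P (l ++ l') = wordPerm P l * wordPerm P l' := by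
  simp [wordPerm]

lemma reflectionPerm_wordPerm (l : List idx) (c : idx) :
    P.reflectionPerm (wordPerm P l c) =
      wordPerm P l * P.reflectionPerm c * (wordPerm P l)⁻¹ := by
  induction l with
  | nil => simp [wordPerm_nil]
  | cons j l ih =>
    rw [wordPerm_cons, Equiv.Perm.mul_apply, reflectionPerm_reflectionPerm_eq, ih, mul_inv_rev,
      RootPairing.reflectionPerm_inv]
    simp only [mul_assoc]

lemma reflectionPerm_wordPerm_inv (l : List idx) (c : idx) :
    P.reflectionPerm ((wordPerm P l)⁻¹ c) =
      (wordPerm P l)⁻¹ * P.reflectionPerm c * wordPerm P l := by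
  have h := reflectionPerm_wordPerm P l ((wordPerm P l)⁻¹ c)
  have e : (wordPerm P l) ((wordPerm P l)⁻¹ c) = c := by
    rw [← Equiv.Perm.mul_apply, mul_inv_cancel, Equiv.Perm.one_apply]
  rw [e] at h
  rw [h]
  group

lemma pairing_wordPerm (l : List idx) (a c : idx) :
    P.pairing (wordPerm P l a) (wordPerm P l c) = P.pairing a c := by
  induction l with
  | nil => simp [wordPerm_nil]
  | cons j l ih =>
    rw [wordPerm_cons, Equiv.Perm.mul_apply, Equiv.Perm.mul_apply, RootPairing.pairing_reflectionPerm,
      RootPairing.reflectionPerm_self, ih]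

/-! ### Positive and negative roots -/

variable {P} (b : P.Base)

lemma exists_nat_of_mem_closure {m : M}
    (hm : m ∈ AddSubmonoid.closure (P.root '' (b.support : Set idx))) :
    ∃ f : idx → ℕ, m = ∑ j ∈ b.support, f j • P.root j := by
  classical
  refine AddSubmonoid.closure_induction ?_ ⟨0, by simp⟩ ?_ hm
  · rintro - ⟨j, hj, rfl⟩
    refine ⟨Pi.single j 1, ?_⟩
    rw [Finset.sum_eq_single_of_mem j hj]
    · simp
    · intro k _ hk
      simp [hk]
  · intro _ _ _ _ ⟨f, hf⟩ ⟨g, hg⟩
    exact ⟨f + g, by simp [hf, hg, add_smul, Finset.sum_add_distrib]⟩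

lemma isPos_of_mem_posRoots {a : idx} (ha : a ∈ posRoots P b) : b.IsPos a := by
  obtain ⟨f, hf⟩ := exists_nat_of_mem_closure b ha
  have h : P.root a = ∑ j ∈ b.support, ((fun j => (f j : ℤ)) j) • P.root j := by
    rw [hf]
    simp
  rw [RootPairing.Base.isPos_iff', RootPairing.Base.height_eq_sum h]
  exact Finset.sum_nonneg fun j _ => by positivity

lemma root_neg_idx (a : idx) : P.root (P.reflectionPerm a a) = - P.root a := by
  rw [RootPairing.root_reflectionPerm, RootPairing.reflection_apply_self]

lemma mem_negRoots_iff_neg_mem_posRoots {a : idx} :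
    a ∈ negRoots P b ↔ P.reflectionPerm a a ∈ posRoots P b := by
  simp only [negRoots, posRoots, Set.mem_ofPred_eq, root_neg_idx]

lemma mem_posRoots_iff_neg_mem_negRoots {a : idx} :
    a ∈ posRoots P b ↔ P.reflectionPerm a a ∈ negRoots P b := by
  simp only [negRoots, posRoots, Set.mem_ofPred_eq, root_neg_idx, neg_neg]

lemma mem_posRoots_or_mem_negRoots (a : idx) : a ∈ posRoots P b ∨ a ∈ negRoots P b :=
  b.root_mem_or_neg_mem a

lemma mem_posRoots_iff_isPos {a : idx} : a ∈ posRoots P b ↔ b.IsPos a := by
  refine ⟨isPos_of_mem_posRoots b, fun h => ?_⟩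
  rcases mem_posRoots_or_mem_negRoots b a with h' | h'
  · exact h'
  · exfalso
    rw [mem_negRoots_iff_neg_mem_posRoots] at h'
    have := isPos_of_mem_posRoots b h'
    exact (RootPairing.Base.IsPos.neg_iff_not b a).mp this h

lemma mem_negRoots_iff_not_isPos {a : idx} : a ∈ negRoots P b ↔ ¬ b.IsPos a := by
  rw [mem_negRoots_iff_neg_mem_posRoots, mem_posRoots_iff_isPos]
  exact RootPairing.Base.IsPos.neg_iff_not b a

lemma mem_negRoots_iff_not_mem_posRoots {a : idx} : a ∈ negRoots P b ↔ a ∉ posRoots P b := by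
  rw [mem_negRoots_iff_not_isPos, mem_posRoots_iff_isPos]

lemma mem_posRoots_iff_not_mem_negRoots {a : idx} : a ∈ posRoots P b ↔ a ∉ negRoots P b := by
  rw [mem_negRoots_iff_not_mem_posRoots, not_not]

/-! ### Strong exchange -/

lemma wordPerm_take_succ (l : List idx) (i : ℕ) (hi : i < l.length) :
    wordPerm P (l.take (i + 1)) = wordPerm P (l.take i) * P.reflectionPerm (l[i]) := by
  rw [List.take_succ_eq_append_getElem hi, wordPerm_append, wordPerm_cons, wordPerm_nil, mul_one]

/-- A simple reflection sends a positive root other than the simple root to a positive root. -/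
lemma eq_of_pos_of_reflection_neg [Finite idx] [P.IsReduced] {a j : idx} (hj : j ∈ b.support)
    (ha : a ∈ posRoots P b) (hn : P.reflectionPerm j a ∈ negRoots P b) : a = j := by
  by_contra hne
  rw [mem_negRoots_iff_not_isPos] at hn
  rw [mem_posRoots_iff_isPos] at ha
  exact hn (ha.reflectionPerm hj hne)

theorem strong_exchange [Finite idx] [P.IsReduced] (l : List idx)
    (hl : ∀ a ∈ l, a ∈ b.support)
    (c : idx) (hc : c ∈ posRoots P b) (hneg : (wordPerm P l).symm c ∈ negRoots P b) :
    ∃ i : ℕ, i < l.length ∧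
      P.reflectionPerm c * wordPerm P (l.take (i + 1)) = wordPerm P (l.take i) := by
  classical
  -- the first index at which the root becomes negative
  have hex : ∃ n, n ≤ l.length ∧ (wordPerm P (l.take n))⁻¹ c ∈ negRoots P b :=
    ⟨l.length, le_rfl, by simpa using hneg⟩
  obtain ⟨n, hn, hnn, hmin⟩ : ∃ n, n ≤ l.length ∧ (wordPerm P (l.take n))⁻¹ c ∈ negRoots P b ∧
      ∀ m < n, ¬(m ≤ l.length ∧ (wordPerm P (List.take m l))⁻¹ c ∈ negRoots P b) :=
    ⟨Nat.find hex, (Nat.find_spec hex).1, (Nat.find_spec hex).2, fun m => Nat.find_min hex (m := m)⟩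
  have hn0 : n ≠ 0 := by
    intro h0
    rw [h0] at hnn
    simp only [List.take_zero, wordPerm_nil, inv_one, Equiv.Perm.one_apply] at hnn
    exact (mem_negRoots_iff_not_mem_posRoots b).mp hnn hc
  obtain ⟨i, rfl⟩ : ∃ i, n = i + 1 := ⟨n - 1, by omega⟩
  have hi : i < l.length := by omega
  refine ⟨i, hi, ?_⟩
  have hpos : (wordPerm P (l.take i))⁻¹ c ∈ posRoots P b := by
    rw [mem_posRoots_iff_not_mem_negRoots]
    intro h
    exact hmin i (by omega) ⟨by omega, h⟩
  rw [wordPerm_take_succ l i hi, mul_inv_rev, RootPairing.reflectionPerm_inv,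
    Equiv.Perm.mul_apply] at hnn
  have hsimple : l[i] ∈ b.support := hl _ (List.getElem_mem hi)
  have heq := eq_of_pos_of_reflection_neg b hsimple hpos hnn
  have hc' : c = wordPerm P (l.take i) l[i] := by
    rw [← heq, ← Equiv.Perm.mul_apply, mul_inv_cancel, Equiv.Perm.one_apply]
  rw [wordPerm_take_succ l i hi]
  conv_lhs => rw [hc']
  rw [reflectionPerm_wordPerm]
  have hsq : P.reflectionPerm l[i] * P.reflectionPerm l[i] = 1 := by
    rw [← sq, RootPairing.reflectionPerm_sq]
  calc wordPerm P (l.take i) * P.reflectionPerm l[i] * (wordPerm P (l.take i))⁻¹ *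
        (wordPerm P (l.take i) * P.reflectionPerm l[i])
      = wordPerm P (l.take i) * (P.reflectionPerm l[i] * P.reflectionPerm l[i]) := by group
    _ = wordPerm P (l.take i) := by rw [hsq, mul_one]

/-! ### Inversions -/

/-- The inversion set of a permutation of the roots. -/
def inv (w : Equiv.Perm idx) : Set idx := {a | a ∈ posRoots P b ∧ w a ∈ negRoots P b}

lemma root_reflectionPerm_eq (i j : idx) :
    P.root (P.reflectionPerm i j) = P.root j - P.pairing j i • P.root i := by
  rw [RootPairing.root_reflectionPerm, RootPairing.reflection_apply_root]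

lemma reflectionPerm_mem_posRoots_of_pairing_nonpos {a β : idx} (ha : a ∈ posRoots P b)
    (hβ : β ∈ posRoots P b) (h : P.pairing a β ≤ 0) : P.reflectionPerm β a ∈ posRoots P b := by
  simp only [posRoots, Set.mem_ofPred_eq] at ha hβ ⊢
  rw [root_reflectionPerm_eq]
  obtain ⟨n, hn⟩ : ∃ n : ℕ, P.pairing a β = -(n : ℤ) := ⟨(-P.pairing a β).toNat, by omega⟩
  rw [hn, neg_smul, sub_neg_eq_add, natCast_zsmul]
  exact add_mem ha (nsmul_mem hβ n)

lemma reflectionPerm_mem_negRoots_of_pairing_nonneg {a β : idx} (ha : a ∈ negRoots P b)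
    (hβ : β ∈ posRoots P b) (h : 0 ≤ P.pairing a β) : P.reflectionPerm β a ∈ negRoots P b := by
  simp only [negRoots, posRoots, Set.mem_ofPred_eq] at ha hβ ⊢
  rw [root_reflectionPerm_eq]
  obtain ⟨n, hn⟩ : ∃ n : ℕ, P.pairing a β = (n : ℤ) := ⟨(P.pairing a β).toNat, by omega⟩
  rw [hn, neg_sub, natCast_zsmul, sub_eq_add_neg]
  exact add_mem (nsmul_mem hβ n) ha

theorem ncard_inv_lt [Finite idx] (l : List idx) (c : idx) (hc : c ∈ posRoots P b)
    (hβ : (wordPerm P l)⁻¹ c ∈ posRoots P b) :
    (inv b (wordPerm P l)).ncard < (inv b (P.reflectionPerm c * wordPerm P l)).ncard := by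
  classical
  set w := wordPerm P l with hw
  set β := w⁻¹ c with hβdef
  have hwβ : w β = c := by
    rw [hβdef, ← Equiv.Perm.mul_apply, mul_inv_cancel, Equiv.Perm.one_apply]
  have ht : P.reflectionPerm c = w * P.reflectionPerm β * w⁻¹ := by
    rw [← hwβ, hw, reflectionPerm_wordPerm]
  -- `w σ_β = t w`
  have h1 : w * P.reflectionPerm β = P.reflectionPerm c * w := by
    rw [ht]; group
  have h1' : ∀ a, w (P.reflectionPerm β a) = P.reflectionPerm c (w a) := fun a => by
    rw [← Equiv.Perm.mul_apply, h1, Equiv.Perm.mul_apply]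
  have h2' : ∀ a, P.reflectionPerm c (w (P.reflectionPerm β a)) = w a := fun a => by
    rw [h1', RootPairing.reflectionPerm_self]
  -- β is an inversion of `t w` but not of `w`
  have hβtw : β ∈ inv b (P.reflectionPerm c * w) := by
    refine ⟨hβ, ?_⟩
    rw [Equiv.Perm.mul_apply, hwβ, ← mem_posRoots_iff_neg_mem_negRoots]
    exact hc
  let φ : idx → idx := fun a =>
    if P.reflectionPerm c (w a) ∈ negRoots P b then a else P.reflectionPerm β a
  have hφmem : ∀ a ∈ inv b w, φ a ∈ inv b (P.reflectionPerm c * w) \ {β} := by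
    rintro a ⟨ha, hwa⟩
    by_cases hcase : P.reflectionPerm c (w a) ∈ negRoots P b
    · have : φ a = a := if_pos hcase
      rw [this]
      refine ⟨⟨ha, by rwa [Equiv.Perm.mul_apply]⟩, ?_⟩
      rintro (rfl : a = β)
      rw [hwβ] at hwa
      exact (mem_negRoots_iff_not_mem_posRoots b).mp hwa hc
    · have : φ a = P.reflectionPerm β a := if_neg hcase
      rw [this]
      have hpair : P.pairing a β < 0 := by
        by_contra hge
        rw [not_lt] at hge
        apply hcase
        apply reflectionPerm_mem_negRoots_of_pairing_nonneg b hwa hc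
        rw [← hwβ, hw, pairing_wordPerm]
        exact hge
      refine ⟨⟨reflectionPerm_mem_posRoots_of_pairing_nonpos b ha hβ hpair.le, ?_⟩, ?_⟩
      · rw [Equiv.Perm.mul_apply, h2']
        exact hwa
      · intro h
        have h' : a = P.reflectionPerm β β := by
          have := congrArg (P.reflectionPerm β) (show P.reflectionPerm β a = β from h)
          rwa [RootPairing.reflectionPerm_self] at this
        have : a ∈ negRoots P b := by
          rw [h', ← mem_posRoots_iff_neg_mem_negRoots]
          exact hβ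
        exact (mem_negRoots_iff_not_mem_posRoots b).mp this ha
  have hφinj : Set.InjOn φ (inv b w) := by
    rintro a ⟨ha, hwa⟩ a' ⟨ha', hwa'⟩ h
    by_cases hcase : P.reflectionPerm c (w a) ∈ negRoots P b <;>
    by_cases hcase' : P.reflectionPerm c (w a') ∈ negRoots P b
    · have e1 : φ a = a := if_pos hcase
      have e2 : φ a' = a' := if_pos hcase'
      rw [← e1, ← e2, h]
    · exfalso
      have e1 : φ a = a := if_pos hcase
      have e2 : φ a' = P.reflectionPerm β a' := if_neg hcase'
      rw [e1, e2] at h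
      rw [h, h1'] at hwa
      exact hcase' hwa
    · exfalso
      have e1 : φ a = P.reflectionPerm β a := if_neg hcase
      have e2 : φ a' = a' := if_pos hcase'
      rw [e1, e2] at h
      rw [← h, h1'] at hwa'
      exact hcase hwa'
    · have e1 : φ a = P.reflectionPerm β a := if_neg hcase
      have e2 : φ a' = P.reflectionPerm β a' := if_neg hcase'
      rw [e1, e2] at h
      exact (P.reflectionPerm β).injective h
  calc (inv b w).ncard ≤ (inv b (P.reflectionPerm c * w) \ {β}).ncard :=
        Set.ncard_le_ncard_of_injOn φ hφmem hφinj (Set.toFinite _)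
    _ < (inv b (P.reflectionPerm c * w)).ncard :=
        Set.ncard_sdiff_singleton_lt_of_mem hβtw (Set.toFinite _)

theorem ncard_inv_lt_iff [Finite idx] (l : List idx) (c : idx) (hc : c ∈ posRoots P b) :
    (inv b (wordPerm P l)).ncard < (inv b (P.reflectionPerm c * wordPerm P l)).ncard ↔
      (wordPerm P l)⁻¹ c ∈ posRoots P b := by
  refine ⟨fun h => ?_, ncard_inv_lt b l c hc⟩
  by_contra hneg
  rw [← mem_negRoots_iff_not_mem_posRoots, mem_negRoots_iff_neg_mem_posRoots] at hneg
  -- apply the other direction to the word `c :: l`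
  have key := ncard_inv_lt b (c :: l) c hc
  rw [wordPerm_cons] at key
  have e : (P.reflectionPerm c * wordPerm P l)⁻¹ c =
      P.reflectionPerm ((wordPerm P l)⁻¹ c) ((wordPerm P l)⁻¹ c) := by
    rw [reflectionPerm_wordPerm_inv, mul_inv_rev, RootPairing.reflectionPerm_inv]
    simp only [Equiv.Perm.mul_apply]
    congr 2
    rw [← Equiv.Perm.mul_apply, mul_inv_cancel, Equiv.Perm.one_apply]
  rw [e] at key
  have key' := key hneg
  have hsq : P.reflectionPerm c * (P.reflectionPerm c * wordPerm P l) = wordPerm P l := by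
    rw [← mul_assoc, ← sq, RootPairing.reflectionPerm_sq, one_mul]
  rw [hsq] at key'
  exact lt_asymm h key'

end Groth.Agent.Lib.T1H8.RootLen
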