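import Groth.Agent.Lib.Helper28FGDim

/-!
# Lifting systems of parameters from a Cohen–Macaulay localisation (for S5987)

* `exists_add_notMem_of_finset`: prime avoidance for a coset `b + I`;
* `natCast_le_height_of_span_le`: in a CM local ring of dimension `s` with a system of parameters
  `t`, a prime containing `t_0, …, t_{i-1}` has height at least `i`.
-/

set_option autoImplicit false
universe u

namespace Groth.Agent.Lib.T1H8.SopLift

open Groth.Agent.Lib.Helper28 IsLocalRing

/-- Coset form of prime avoidance: if `(b) + I` is contained in none of finitely many primes, some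
`b + y`, `y ∈ I`, lies in none of them. -/
theorem exists_add_notMem_of_finset {R : Type*} [CommRing R] (I : Ideal R) (b : R) :
    ∀ (Q : Finset (Ideal R)), (∀ q ∈ Q, q.IsPrime) →
      (∀ q ∈ Q, ¬ (Ideal.span {b} ⊔ I ≤ q)) → ∃ y ∈ I, ∀ q ∈ Q, b + y ∉ q := by
  classical
  intro Q
  induction Q using Finset.strongInduction with
  | H Q ih =>
    intro hprime hnot
    rcases Q.eq_empty_or_nonempty with rfl | hne
    · exact ⟨0, I.zero_mem, by simp⟩
    obtain ⟨q₀, hq₀min'⟩ := Q.exists_minimal hne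
    have hq₀Q : q₀ ∈ Q := hq₀min'.1
    have hq₀min : ∀ q ∈ Q, q ≤ q₀ → q₀ ≤ q := fun q hq hle => hq₀min'.2 hq hle
    obtain ⟨y', hy'I, hy'⟩ := ih (Q.erase q₀) (Finset.erase_ssubset hq₀Q)
      (fun q hq => hprime q (Finset.mem_of_mem_erase hq))
      (fun q hq => hnot q (Finset.mem_of_mem_erase hq))
    by_cases hq₀ : b + y' ∈ q₀
    · have hq₀p : q₀.IsPrime := hprime q₀ hq₀Q
      have hI : ¬ I ≤ q₀ := by
        intro hle
        apply hnot q₀ hq₀Q
        rw [sup_le_iff, Ideal.span_singleton_le_iff_mem]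
        refine ⟨?_, hle⟩
        have : b = (b + y') - y' := by ring
        rw [this]
        exact q₀.sub_mem hq₀ (hle hy'I)
      have hK : ¬ (I * ∏ q ∈ Q.erase q₀, q ≤ q₀) := by
        intro hle
        rcases (Ideal.IsPrime.mul_le hq₀p).mp hle with h | h
        · exact hI h
        · obtain ⟨q, hq, hqle⟩ := (Ideal.IsPrime.prod_le hq₀p).mp h
          have hqQ : q ∈ Q := Finset.mem_of_mem_erase hq
          have : q₀ ≤ q := hq₀min q hqQ hqle
          exact (Finset.ne_of_mem_erase hq) (le_antisymm hqle this)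
      obtain ⟨z, hzK, hzq₀⟩ := SetLike.not_le_iff_exists.mp hK
      have hzI : z ∈ I := Ideal.mul_le_left hzK
      have hzq : ∀ q ∈ Q.erase q₀, z ∈ q := by
        intro q hq
        have h1 : z ∈ ∏ q ∈ Q.erase q₀, q := Ideal.mul_le_right hzK
        exact (Ideal.prod_le_inf.trans (Finset.inf_le hq)) h1
      refine ⟨y' + z, I.add_mem hy'I hzI, fun q hq => ?_⟩
      by_cases hqq : q = q₀
      · subst hqq
        intro hmem
        apply hzq₀
        have : z = (b + (y' + z)) - (b + y') := by ring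
        rw [this]
        exact q.sub_mem hmem hq₀
      · have hq' : q ∈ Q.erase q₀ := Finset.mem_erase.mpr ⟨hqq, hq⟩
        intro hmem
        apply hy' q hq'
        have : b + y' = (b + (y' + z)) - z := by ring
        rw [this]
        exact q.sub_mem hmem (hzq q hq')
    · refine ⟨y', hy'I, fun q hq => ?_⟩
      by_cases hqq : q = q₀
      · subst hqq; exact hq₀
      · exact hy' q (Finset.mem_erase.mpr ⟨hqq, hq⟩)

/-- In a CM local ring of dimension `s` with system of parameters `t`, a prime containing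
`t_0, …, t_{i-1}` has height at least `i`. -/
theorem natCast_le_height_of_span_le {R : Type u} [CommRing R]
    [LocCoh.IsCohenMacaulayLocalRing R] (s : ℕ) (hs : ringKrullDim R = s) (t : Fin s → R)
    (ht : ∀ i, t i ∈ maximalIdeal R)
    (hsop : ringKrullDim (R ⧸ Ideal.span (Set.range t)) = 0) (i : ℕ) (hi : i ≤ s)
    (Q : Ideal R) [hQp : Q.IsPrime] (hQ : Ideal.span (t '' {l : Fin s | (l : ℕ) < i}) ≤ Q) :
    (i : ℕ∞) ≤ Q.height := by
  have h1 := height_add_ringKrullDim_quotient_eq_of_isCohenMacaulayLocalRing Q hQp.ne_top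
  rw [hs] at h1
  -- the images of `t_l`, `l ≥ i`, in `R ⧸ Q`
  let σf : Fin (s - i) → R ⧸ Q := fun j => Ideal.Quotient.mk Q (t ⟨i + j, by omega⟩)
  let σ : Set (R ⧸ Q) := Set.range σf
  have hσjac : σ ⊆ Ring.jacobson (R ⧸ Q) := by
    rintro _ ⟨j, rfl⟩
    have hloc : IsLocalRing (R ⧸ Q) := inferInstance
    rw [IsLocalRing.ringJacobson_eq_maximalIdeal]
    have : (Ideal.Quotient.mk Q) (t ⟨i + j, by omega⟩) ∈
        (maximalIdeal R).map (Ideal.Quotient.mk Q) := Ideal.mem_map_of_mem _ (ht _)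
    have hlh : IsLocalHom (Ideal.Quotient.mk Q) :=
      IsLocalHom.of_surjective _ Ideal.Quotient.mk_surjective
    exact IsLocalRing.map_maximalIdeal_le (Ideal.Quotient.mk Q) this
  have h2 := ringKrullDim_le_ringKrullDim_quotient_add_encard σ hσjac
  have h3 : ringKrullDim ((R ⧸ Q) ⧸ Ideal.span σ) ≤ 0 := by
    rw [← hsop]
    let φ : R ⧸ Ideal.span (Set.range t) →+* (R ⧸ Q) ⧸ Ideal.span σ :=
      Ideal.Quotient.lift _ ((Ideal.Quotient.mk (Ideal.span σ)).comp (Ideal.Quotient.mk Q)) (by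
        intro a ha
        have hle : Ideal.span (Set.range t) ≤
            RingHom.ker ((Ideal.Quotient.mk (Ideal.span σ)).comp (Ideal.Quotient.mk Q)) := by
          rw [Ideal.span_le]
          rintro _ ⟨l, rfl⟩
          rw [SetLike.mem_coe, RingHom.mem_ker, RingHom.comp_apply]
          by_cases hl : (l : ℕ) < i
          · have : t l ∈ Q := hQ (Ideal.subset_span ⟨l, hl, rfl⟩)
            rw [Ideal.Quotient.eq_zero_iff_mem.mpr this, map_zero]
          · rw [Ideal.Quotient.eq_zero_iff_mem]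
            apply Ideal.subset_span
            refine ⟨⟨(l : ℕ) - i, by omega⟩, ?_⟩
            simp only [σf]
            congr 2
            apply Fin.ext
            simp only
            omega
        exact hle ha)
    refine ringKrullDim_le_of_surjective φ ?_
    apply Ideal.Quotient.lift_surjective_of_surjective
    exact (Ideal.Quotient.mk_surjective).comp Ideal.Quotient.mk_surjective
  have h4 : σ.encard ≤ ((s - i : ℕ) : ℕ∞) := by
    have h := Set.encard_image_le σf Set.univ
    rw [Set.image_univ, Set.encard_univ, ENat.card_eq_coe_fintype_card, Fintype.card_fin] at h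
    exact h
  by_contra hlt
  rw [not_le] at hlt
  obtain ⟨n, hn⟩ := ENat.ne_top_iff_exists.mp (ne_top_of_lt hlt)
  rw [← hn] at hlt h1
  have hni : n < i := by exact_mod_cast hlt
  have h5 : ringKrullDim (R ⧸ Q) ≤ ((s - i : ℕ) : WithBot ℕ∞) := by
    refine h2.trans ?_
    calc ringKrullDim ((R ⧸ Q) ⧸ Ideal.span σ) + (σ.encard : WithBot ℕ∞)
        ≤ 0 + (((s - i : ℕ) : ℕ∞) : WithBot ℕ∞) := add_le_add h3 (by exact_mod_cast h4)
      _ = ((s - i : ℕ) : WithBot ℕ∞) := by rw [zero_add]; rfl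
  have h6 : (s : WithBot ℕ∞) ≤ ((n + (s - i) : ℕ) : WithBot ℕ∞) := by
    rw [← h1]
    calc (((n : ℕ∞)) : WithBot ℕ∞) + ringKrullDim (R ⧸ Q)
        ≤ (((n : ℕ∞)) : WithBot ℕ∞) + ((s - i : ℕ) : WithBot ℕ∞) := add_le_add le_rfl h5
      _ = ((n + (s - i) : ℕ) : WithBot ℕ∞) := by push_cast; rfl
  have h7 : s ≤ n + (s - i) := by exact_mod_cast h6
  omega

section Ini

variable {A : Type*} [CommRing A] {B : Type*} [CommRing B] {s : ℕ}

/-- The ideal `(x_l : l < i)`. -/
def ini (x : Fin s → A) (i : ℕ) : Ideal A := Ideal.span (x '' {l : Fin s | (l : ℕ) < i})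

theorem ini_zero (x : Fin s → A) : ini x 0 = ⊥ := by
  simp [ini]

theorem ini_succ (x : Fin s → A) (i : ℕ) (hi : i < s) :
    ini x (i + 1) = ini x i ⊔ Ideal.span {x ⟨i, hi⟩} := by
  have : {l : Fin s | (l : ℕ) < i + 1} = insert ⟨i, hi⟩ {l : Fin s | (l : ℕ) < i} := by
    ext l
    simp only [Set.mem_setOf_eq, Set.mem_insert_iff, Fin.ext_iff]
    omega
  rw [ini, this, Set.image_insert_eq, Ideal.span_insert, sup_comm]
  rfl

theorem ini_congr (x x' : Fin s → A) (i : ℕ) (h : ∀ l : Fin s, (l : ℕ) < i → x l = x' l) :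
    ini x i = ini x' i := by
  unfold ini
  congr 1
  exact Set.image_congr h

theorem ini_mono (x : Fin s → A) {i j : ℕ} (h : i ≤ j) : ini x i ≤ ini x j := by
  apply Ideal.span_mono
  apply Set.image_mono
  intro l hl
  exact lt_of_lt_of_le hl h

theorem ini_eq_span_range (x : Fin s → A) : ini x s = Ideal.span (Set.range x) := by
  unfold ini
  congr 1
  rw [← Set.image_univ]
  congr 1
  ext l
  simp

theorem mem_ini (x : Fin s → A) (l : Fin s) {i : ℕ} (h : (l : ℕ) < i) : x l ∈ ini x i :=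
  Ideal.subset_span ⟨l, h, rfl⟩

theorem map_ini (f : A →+* B) (x : Fin s → A) (i : ℕ) :
    (ini x i).map f = ini (fun l => f (x l)) i := by
  unfold ini
  rw [Ideal.map_span, Set.image_image]

variable [Algebra A B]

/-- If `x_l ≡ a_l t_l` modulo `(t_0, …, t_{l-1})` with `a_l` becoming a unit in `B`, for all
`l < i`, then `(x_l : l < i) B = (t_l : l < i)`. -/
theorem map_ini_eq (x a : Fin s → A) (t : Fin s → B) (i : ℕ) (hi : i ≤ s)
    (h : ∀ l : Fin s, (l : ℕ) < i → IsUnit (algebraMap A B (a l)) ∧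
      algebraMap A B (x l) - algebraMap A B (a l) * t l ∈ ini t l) :
    (ini x i).map (algebraMap A B) = ini t i := by
  induction i with
  | zero => rw [ini_zero, ini_zero, Ideal.map_bot]
  | succ i ih =>
    have hi' : i < s := hi
    rw [ini_succ x i hi', ini_succ t i hi', Ideal.map_sup, Ideal.map_span, Set.image_singleton,
      ih hi'.le (fun l hl => h l (Nat.lt_succ_of_lt hl))]
    obtain ⟨hu, hc⟩ := h ⟨i, hi'⟩ (Nat.lt_succ_self i)
    have hc' : algebraMap A B (x ⟨i, hi'⟩) - algebraMap A B (a ⟨i, hi'⟩) * t ⟨i, hi'⟩ ∈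
        ini t i := hc
    apply le_antisymm
    · refine sup_le le_sup_left ?_
      rw [Ideal.span_singleton_le_iff_mem]
      have : algebraMap A B (x ⟨i, hi'⟩) =
          (algebraMap A B (x ⟨i, hi'⟩) - algebraMap A B (a ⟨i, hi'⟩) * t ⟨i, hi'⟩) +
            algebraMap A B (a ⟨i, hi'⟩) * t ⟨i, hi'⟩ := by ring
      rw [this]
      refine Ideal.add_mem _ (Ideal.mem_sup_left hc') (Ideal.mem_sup_right ?_)
      exact Ideal.mul_mem_left _ _ (Ideal.mem_span_singleton_self _)
    · refine sup_le le_sup_left ?_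
      rw [Ideal.span_singleton_le_iff_mem]
      obtain ⟨u, hu'⟩ := hu
      have : t ⟨i, hi'⟩ = (↑u⁻¹ : B) * (algebraMap A B (x ⟨i, hi'⟩) -
          (algebraMap A B (x ⟨i, hi'⟩) - algebraMap A B (a ⟨i, hi'⟩) * t ⟨i, hi'⟩)) := by
        rw [← hu']
        have h1 : (↑u⁻¹ : B) * (u : B) = 1 := Units.inv_mul u
        calc t ⟨i, hi'⟩ = ((↑u⁻¹ : B) * (u : B)) * t ⟨i, hi'⟩ := by rw [h1, one_mul]
          _ = _ := by ring
      rw [this]
      refine Ideal.mul_mem_left _ _ (Ideal.sub_mem _ (Ideal.mem_sup_right ?_)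
        (Ideal.mem_sup_left hc'))
      exact Ideal.mem_span_singleton_self _

end Ini

section Step

variable {A : Type u} [CommRing A] [IsNoetherianRing A] (p : Ideal A) [hp : p.IsPrime]
  {B : Type u} [CommRing B] [Algebra A B] [IsLocalization.AtPrime B p]
  [LocCoh.IsCohenMacaulayLocalRing B] {s : ℕ}

/-- The invariant of the inductive construction of `x_0, …, x_{i-1}`. -/
def Inv (t : Fin s → B) (i : ℕ) (x a : Fin s → A) : Prop :=
  (∀ l, x l ∈ p ∧ a l ∉ p) ∧
  (∀ l : Fin s, (l : ℕ) < i →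
    algebraMap A B (x l) - algebraMap A B (a l) * t l ∈ ini t l) ∧
  (∀ P ∈ (ini x i).minimalPrimes, (i : ℕ∞) ≤ P.height)

theorem inv_zero (t : Fin s → B) : Inv p t 0 (fun _ => (0 : A)) (fun _ => (1 : A)) := by
  refine ⟨fun _ => ⟨p.zero_mem, fun h => hp.ne_top ((Ideal.eq_top_iff_one p).mpr h)⟩, ?_, ?_⟩
  · intro l hl
    exact absurd hl (Nat.not_lt_zero _)
  · intro P _
    simp

theorem inv_succ (hs : ringKrullDim B = s) (t : Fin s → B)
    (ht : ∀ i, t i ∈ maximalIdeal B)
    (hsop : ringKrullDim (B ⧸ Ideal.span (Set.range t)) = 0) (i : ℕ) (hi : i < s)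
    (x a : Fin s → A) (h : Inv p t i x a) : ∃ x' a' : Fin s → A, Inv p t (i + 1) x' a' := by
  classical
  obtain ⟨h0, h1, h2⟩ := h
  have hunit : ∀ (a' : Fin s → A) (l : Fin s), a' l ∉ p → IsUnit (algebraMap A B (a' l)) :=
    fun a' l hl => IsLocalization.map_units B (⟨a' l, hl⟩ : p.primeCompl)
  have hD : (ini x i).map (algebraMap A B) = ini t i :=
    map_ini_eq x a t i hi.le (fun l hl => ⟨hunit a l (h0 l).2, h1 l hl⟩)
  obtain ⟨b, c, hbc⟩ := IsLocalization.exists_mk'_eq p.primeCompl (t ⟨i, hi⟩)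
  have hcb : algebraMap A B c * t ⟨i, hi⟩ = algebraMap A B b := by
    rw [← hbc, IsLocalization.mk'_spec']
  have hbp : b ∈ p := by
    rw [← IsLocalization.AtPrime.to_map_mem_maximal_iff B p b, ← hcb]
    exact Ideal.mul_mem_left _ _ (ht ⟨i, hi⟩)
  have hJp : (ini t i).comap (algebraMap A B) ≤ p := by
    rw [← IsLocalization.AtPrime.comap_maximalIdeal B p]
    apply Ideal.comap_mono
    rw [ini, Ideal.span_le]
    rintro _ ⟨l, _, rfl⟩
    exact ht l
  have hxJ : ini x i ≤ (ini t i).comap (algebraMap A B) := by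
    rw [← hD]
    exact Ideal.le_comap_map
  have hfin : (ini x i).minimalPrimes.Finite :=
    Ideal.finite_minimalPrimes_of_isNoetherianRing A _
  have h𝒬 : ∀ q, q ∈ hfin.toFinset.filter (fun q => ¬ q ≤ p) ↔
      q ∈ (ini x i).minimalPrimes ∧ ¬ q ≤ p := by
    intro q
    rw [Finset.mem_filter, Set.Finite.mem_toFinset]
  have hnot : ∀ q ∈ hfin.toFinset.filter (fun q => ¬ q ≤ p),
      ¬ (Ideal.span {b} ⊔ (ini t i).comap (algebraMap A B) ≤ q) := by
    intro q hq hle
    obtain ⟨hqmin, hqp⟩ := (h𝒬 q).mp hq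
    have hJq : (ini t i).comap (algebraMap A B) ≤ q := le_sup_right.trans hle
    have hqprime : q.IsPrime := hqmin.1.1
    obtain ⟨q', hq'min, hq'q⟩ := Ideal.exists_minimalPrimes_le hJq
    have hq'eq : q' = q := by
      have : q'.IsPrime := hq'min.1.1
      exact le_antisymm hq'q (hqmin.2 ⟨this, hxJ.trans hq'min.1.2⟩ hq'q)
    obtain ⟨P', hP'min, hP'⟩ := Ideal.exists_minimalPrimes_comap_eq (algebraMap A B) q' hq'min
    apply hqp
    rw [← hq'eq, ← hP', ← IsLocalization.AtPrime.comap_maximalIdeal B p]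
    exact Ideal.comap_mono (IsLocalRing.le_maximalIdeal hP'min.1.1.ne_top)
  obtain ⟨y, hyJ, hy⟩ := exists_add_notMem_of_finset ((ini t i).comap (algebraMap A B)) b
    (hfin.toFinset.filter (fun q => ¬ q ≤ p)) (fun q hq => ((h𝒬 q).mp hq).1.1.1) hnot
  have hx'self : Function.update x ⟨i, hi⟩ (b + y) ⟨i, hi⟩ = b + y := Function.update_self ..
  have ha'self : Function.update a ⟨i, hi⟩ (c : A) ⟨i, hi⟩ = c := Function.update_self ..
  have hx'ne : ∀ l : Fin s, l ≠ ⟨i, hi⟩ → Function.update x ⟨i, hi⟩ (b + y) l = x l :=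
    fun l hl => Function.update_of_ne hl ..
  have ha'ne : ∀ l : Fin s, l ≠ ⟨i, hi⟩ → Function.update a ⟨i, hi⟩ (c : A) l = a l :=
    fun l hl => Function.update_of_ne hl ..
  have hI0 : ∀ l, Function.update x ⟨i, hi⟩ (b + y) l ∈ p ∧
      Function.update a ⟨i, hi⟩ (c : A) l ∉ p := by
    intro l
    by_cases hl : l = ⟨i, hi⟩
    · rw [hl, hx'self, ha'self]
      exact ⟨p.add_mem hbp (hJp hyJ), c.2⟩
    · rw [hx'ne l hl, ha'ne l hl]
      exact h0 l
  have hI1 : ∀ l : Fin s, (l : ℕ) < i + 1 →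
      algebraMap A B (Function.update x ⟨i, hi⟩ (b + y) l) -
        algebraMap A B (Function.update a ⟨i, hi⟩ (c : A) l) * t l ∈ ini t l := by
    intro l hl
    by_cases hl' : l = ⟨i, hi⟩
    · rw [hl', hx'self, ha'self]
      have : algebraMap A B (b + y) - algebraMap A B c * t ⟨i, hi⟩ = algebraMap A B y := by
        rw [hcb, map_add]
        ring
      rw [this]
      exact hyJ
    · have hl'' : (l : ℕ) < i := by
        have : (l : ℕ) ≠ i := fun h => hl' (Fin.ext h)
        omega
      rw [hx'ne l hl', ha'ne l hl']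
      exact h1 l hl''
  refine ⟨Function.update x ⟨i, hi⟩ (b + y), Function.update a ⟨i, hi⟩ (c : A), hI0, hI1, ?_⟩
  intro P hP
  have hPp : P.IsPrime := hP.1.1
  have hx'i : ini (Function.update x ⟨i, hi⟩ (b + y)) i = ini x i :=
    ini_congr _ _ _ (fun l hl => hx'ne l (by
      intro h
      rw [h] at hl
      exact lt_irrefl _ hl))
  have hsucc : ini (Function.update x ⟨i, hi⟩ (b + y)) (i + 1) =
      ini x i ⊔ Ideal.span {b + y} := by
    rw [ini_succ _ i hi, hx'i, hx'self]
  have hPle : ini x i ≤ P := by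
    refine le_trans ?_ hP.1.2
    rw [hsucc]
    exact le_sup_left
  have hbyP : b + y ∈ P := by
    apply hP.1.2
    rw [hsucc]
    exact Ideal.mem_sup_right (Ideal.mem_span_singleton_self _)
  by_cases hPp' : P ≤ p
  · have hdisj : Disjoint (p.primeCompl : Set A) (P : Set A) := by
      rw [Set.disjoint_left]
      intro z hz hzP
      exact hz (hPp' hzP)
    have hP'prime : (P.map (algebraMap A B)).IsPrime :=
      IsLocalization.isPrime_of_isPrime_disjoint p.primeCompl B P hPp hdisj
    have hht : (P.map (algebraMap A B)).height = P.height :=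
      IsLocalization.height_map_of_disjoint p.primeCompl P hdisj
    rw [← hht]
    have hD' : (ini (Function.update x ⟨i, hi⟩ (b + y)) (i + 1)).map (algebraMap A B) =
        ini t (i + 1) :=
      map_ini_eq _ (Function.update a ⟨i, hi⟩ (c : A)) t (i + 1) hi
        (fun l hl => ⟨hunit _ l (hI0 l).2, hI1 l hl⟩)
    have := natCast_le_height_of_span_le s hs t ht hsop (i + 1) hi (P.map (algebraMap A B)) (by
      have h3 : ini t (i + 1) ≤ P.map (algebraMap A B) := by
        rw [← hD']
        exact Ideal.map_mono hP.1.2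
      exact h3)
    exact this
  · obtain ⟨q, hqmin, hqP⟩ := Ideal.exists_minimalPrimes_le hPle
    have hqprime : q.IsPrime := hqmin.1.1
    have hne : q ≠ P := by
      intro heq
      by_cases hqp : q ≤ p
      · exact hPp' (heq ▸ hqp)
      · exact hy q ((h𝒬 q).mpr ⟨hqmin, hqp⟩) (heq ▸ hbyP)
    have hlt : q < P := lt_of_le_of_ne hqP hne
    have h4 := Ideal.height_strict_mono_of_isPrime hlt
    have h3 := h2 q hqmin
    calc ((i + 1 : ℕ) : ℕ∞) = (i : ℕ∞) + 1 := by push_cast; rfl
      _ ≤ q.height + 1 := add_le_add h3 le_rfl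
      _ ≤ P.height := Order.add_one_le_of_lt h4

theorem exists_inv (hs : ringKrullDim B = s) (t : Fin s → B)
    (ht : ∀ i, t i ∈ maximalIdeal B)
    (hsop : ringKrullDim (B ⧸ Ideal.span (Set.range t)) = 0) :
    ∀ i ≤ s, ∃ x a : Fin s → A, Inv p t i x a := by
  intro i
  induction i with
  | zero => intro _; exact ⟨_, _, inv_zero p t⟩
  | succ i ih =>
    intro hi
    obtain ⟨x, a, h⟩ := ih (Nat.le_of_succ_le hi)
    exact inv_succ p hs t ht hsop i hi x a h

/-- Lifting a system of parameters of the Cohen–Macaulay localisation `B = A_p` to part of a system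
of parameters of the Noetherian local ring `A`. -/
theorem exists_lift [IsLocalRing A] (hs : ringKrullDim B = s) (t : Fin s → B)
    (ht : ∀ i, t i ∈ maximalIdeal B)
    (hsop : ringKrullDim (B ⧸ Ideal.span (Set.range t)) = 0) :
    ∃ x a : Fin s → A, (∀ i, x i ∈ p) ∧ (∀ i, a i ∉ p) ∧
      ringKrullDim (A ⧸ Ideal.span (Set.range x)) + (s : WithBot ℕ∞) = ringKrullDim A ∧
      ∀ i : Fin s, algebraMap A B (x i) - algebraMap A B (a i) * t i ∈
        Ideal.span (t '' {j : Fin s | j < i}) := by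
  obtain ⟨x, a, h0, h1, h2⟩ := exists_inv p hs t ht hsop s le_rfl
  refine ⟨x, a, fun i => (h0 i).1, fun i => (h0 i).2, ?_, fun i => h1 i i.2⟩
  rw [ini_eq_span_range] at h2
  have hIp : Ideal.span (Set.range x) ≤ p := by
    rw [Ideal.span_le]
    rintro _ ⟨l, rfl⟩
    exact (h0 l).1
  have hItop : Ideal.span (Set.range x) ≠ ⊤ := fun h => hp.ne_top (top_le_iff.mp (h ▸ hIp))
  have hht : (s : ℕ∞) ≤ (Ideal.span (Set.range x)).height := by
    rw [Ideal.height_eq_inf_minimalPrimes]
    exact le_iInf₂ h2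
  have hle1 := height_add_ringKrullDim_quotient_le (Ideal.span (Set.range x)) hItop
  have hle2 := ringKrullDim_le_ringKrullDim_quotient_add_encard (Set.range x) (by
    rw [IsLocalRing.ringJacobson_eq_maximalIdeal]
    rintro _ ⟨l, rfl⟩
    exact IsLocalRing.le_maximalIdeal hp.ne_top (h0 l).1)
  have henc : (Set.range x).encard ≤ (s : ℕ∞) := by
    have h := Set.encard_image_le x Set.univ
    rw [Set.image_univ, Set.encard_univ, ENat.card_eq_coe_fintype_card, Fintype.card_fin] at h
    exact h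
  apply le_antisymm
  · refine le_trans ?_ hle1
    rw [add_comm]
    refine add_le_add ?_ le_rfl
    exact_mod_cast hht
  · refine hle2.trans (add_le_add le_rfl ?_)
    exact_mod_cast henc

end Step

/-- Statement S5987. -/
theorem main_S5987 (A : Type u) [CommRing A]
    [IsNoetherianRing A] [IsLocalRing A] (p : Ideal A) [p.IsPrime]
    [LocCoh.IsCohenMacaulayLocalRing (Localization.AtPrime p)] (s : ℕ)
    (hs : ringKrullDim (Localization.AtPrime p) = s) (t : Fin s → Localization.AtPrime p)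
    (ht : ∀ i, t i ∈ IsLocalRing.maximalIdeal (Localization.AtPrime p))
    (hsop : ringKrullDim (Localization.AtPrime p ⧸ Ideal.span (Set.range t)) = 0) :
    ∃ x a : Fin s → A, (∀ i, x i ∈ p) ∧ (∀ i, a i ∉ p) ∧
      ringKrullDim (A ⧸ Ideal.span (Set.range x)) + (s : WithBot ℕ∞) = ringKrullDim A ∧
      ∀ i : Fin s, algebraMap A (Localization.AtPrime p) (x i) -
          algebraMap A (Localization.AtPrime p) (a i) * t i ∈
        Ideal.span (t '' {j : Fin s | j < i}) :=
  exists_lift p hs t ht hsop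

end Groth.Agent.Lib.T1H8.SopLift
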