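import Mathlib
import Groth.Prelude.Def_CAlg
import Groth.Agent.Lib.Helper28Depth
import Groth.Agent.Lib.Helper28DepthLoc

/-! helper8: Kollár's tetrachotomy for Noetherian local rings (S2058). -/

namespace Groth.Agent.Lib.T1H8.Tetra

open IsLocalRing

universe u
variable {R : Type u} [CommRing R] [IsLocalRing R] [IsNoetherianRing R]

/-- elements killed by the `n`-th power of the maximal ideal -/
def tors (R : Type u) [CommRing R] [IsLocalRing R] (n : ℕ) : Ideal R where
  carrier := {x | ∀ a ∈ maximalIdeal R ^ n, a * x = 0}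
  add_mem' := by
    intro x y hx hy a ha
    rw [mul_add, hx a ha, hy a ha, add_zero]
  zero_mem' := by intro a _; exact mul_zero a
  smul_mem' := by
    intro c x hx a ha
    rw [smul_eq_mul, mul_left_comm, hx a ha, mul_zero]

lemma mem_tors {n : ℕ} {x : R} : x ∈ tors R n ↔ ∀ a ∈ maximalIdeal R ^ n, a * x = 0 := Iff.rfl

lemma tors_mono : Monotone (tors R) := by
  intro n k hnk x hx a ha
  exact hx a (Ideal.pow_le_pow_right hnk ha)

/-- the stable value -/
lemma exists_tors_stable : ∃ N : ℕ, ∀ k, N ≤ k → tors R N = tors R k := by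
  obtain ⟨N, hN⟩ := (monotone_stabilizes_iff_noetherian (R := R) (M := R)).2 inferInstance
    ⟨tors R, tors_mono⟩
  exact ⟨N, fun k hk => hN k hk⟩

theorem caseA (h1 : ¬ IsArtinianRing R) (h0 : maximalIdeal R ∈ associatedPrimes R R) :
    ∃ (R' : Type u) (_ : CommRing R') (_ : Algebra R R'), Nontrivial R' ∧ Module.Finite R R' ∧
      ¬ Function.Bijective (algebraMap R R') ∧
      (∃ n : ℕ, (∀ x : R, algebraMap R R' x = 0 → ∀ a ∈ IsLocalRing.maximalIdeal R ^ n, a * x = 0) ∧
        (∀ y : R', ∀ a ∈ IsLocalRing.maximalIdeal R ^ n, a • y ∈ Set.range (algebraMap R R'))) ∧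
      IsLocalRing.maximalIdeal R ∉ associatedPrimes R R' := by
  obtain ⟨N, hN⟩ := exists_tors_stable (R := R)
  have hne : tors R N ≠ ⊤ := by
    intro h
    apply h1
    rw [isArtinianRing_iff_isNilpotent_maximalIdeal]
    refine ⟨N, ?_⟩
    rw [Ideal.zero_eq_bot, eq_bot_iff]
    intro a ha
    have h1' : (1 : R) ∈ tors R N := by rw [h]; trivial
    have := h1' a ha
    rwa [mul_one] at this
  refine ⟨R ⧸ tors R N, inferInstance, inferInstance, Ideal.Quotient.nontrivial_iff.2 hne,
    inferInstance, ?_, ⟨N, ?_, ?_⟩, ?_⟩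
  · -- not injective
    intro hb
    obtain ⟨-, x, hx⟩ := isAssociatedPrime_iff.1 (AssociatedPrimes.mem_iff.1 h0)
    have hx0 : x ≠ 0 := by
      rintro rfl
      apply (maximalIdeal.isMaximal R).ne_top
      rw [hx, eq_top_iff]
      intro a _
      rw [Submodule.mem_colon_singleton, smul_zero]
      exact Submodule.zero_mem _
    have hx1 : x ∈ tors R 1 := by
      intro a ha
      rw [pow_one, hx, Submodule.mem_colon_singleton, Submodule.mem_bot, smul_eq_mul] at ha
      exact ha
    have hxN : x ∈ tors R N := by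
      rw [hN (max N 1) (le_max_left _ _)]
      exact tors_mono (le_max_right N 1) hx1
    apply hx0
    apply hb.1
    rw [map_zero, Ideal.Quotient.algebraMap_eq, Ideal.Quotient.eq_zero_iff_mem]
    exact hxN
  · intro x hx a ha
    rw [Ideal.Quotient.algebraMap_eq, Ideal.Quotient.eq_zero_iff_mem] at hx
    exact hx a ha
  · intro y a _
    obtain ⟨y, rfl⟩ := Ideal.Quotient.mk_surjective y
    exact ⟨a * y, by rw [Algebra.smul_def]; rfl⟩
  · intro hass
    obtain ⟨-, y, hy⟩ := isAssociatedPrime_iff.1 (AssociatedPrimes.mem_iff.1 hass)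
    obtain ⟨y, rfl⟩ := Ideal.Quotient.mk_surjective y
    have hay : ∀ a ∈ maximalIdeal R, a * y ∈ tors R N := by
      intro a ha
      rw [hy, Submodule.mem_colon_singleton, Submodule.mem_bot] at ha
      rw [← Ideal.Quotient.eq_zero_iff_mem, map_mul]
      rw [Algebra.smul_def] at ha
      exact ha
    have hyN : y ∈ tors R (N + 1) := by
      intro b hb
      rw [pow_succ] at hb
      refine Submodule.mul_induction_on hb ?_ ?_
      · intro c hc a ha
        rw [mul_assoc]
        exact hay a ha c hc
      · intro b1 b2 h1 h2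
        rw [add_mul, h1, h2, add_zero]
    rw [← hN (N + 1) (Nat.le_succ N)] at hyN
    apply (maximalIdeal.isMaximal R).ne_top
    rw [hy, eq_top_iff]
    intro a _
    rw [Submodule.mem_colon_singleton, (Ideal.Quotient.eq_zero_iff_mem).2 hyN, smul_zero]
    exact Submodule.zero_mem _


/-- if `a y = x r` with `a ∈ m`, `r` a unit, `x` regular and `m y ⊆ (x)`, then `m = (a)`. -/
lemma maximalIdeal_eq_span (x y : R) (hx : IsSMulRegular R x)
    (hy : ∀ a ∈ maximalIdeal R, ∃ r, a * y = x * r)
    (a r : R) (ha : a ∈ maximalIdeal R) (hr : IsUnit r) (har : a * y = x * r) :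
    maximalIdeal R = Ideal.span {a} := by
  apply le_antisymm
  · intro b hb
    obtain ⟨s, hs⟩ := hy b hb
    obtain ⟨r', hr'⟩ := hr.exists_right_inv
    have h1 : x * (b * r) = x * (a * s) := by
      calc x * (b * r) = b * (x * r) := by ring
        _ = b * (a * y) := by rw [har]
        _ = a * (b * y) := by ring
        _ = a * (x * s) := by rw [hs]
        _ = x * (a * s) := by ring
    have h2 : b * r = a * s := hx h1
    rw [Ideal.mem_span_singleton]
    refine ⟨s * r', ?_⟩
    calc b = b * (r * r') := by rw [hr', mul_one]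
      _ = (b * r) * r' := by ring
      _ = (a * s) * r' := by rw [h2]
      _ = a * (s * r') := by ring
  · rw [Ideal.span_le, Set.singleton_subset_iff]; exact ha

lemma regular_of_principal (h1 : ¬ IsArtinianRing R) (a : R) (ha : maximalIdeal R = Ideal.span {a}) :
    IsRegularLocalRing R ∧ ringKrullDim R = 1 := by
  have hle : ((maximalIdeal R).spanFinrank : WithBot ℕ∞) ≤ 1 := by
    have : (maximalIdeal R).spanFinrank ≤ 1 := by
      rw [ha]
      have := Submodule.spanFinrank_span_le_ncard_of_finite (R := R) (Set.finite_singleton a)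
      rwa [Set.ncard_singleton] at this
    exact_mod_cast this
  have hge : (1 : WithBot ℕ∞) ≤ ringKrullDim R := by
    by_contra hcon
    apply h1
    rw [isArtinianRing_iff_krullDimLE_zero]
    rw [Ring.krullDimLE_iff]
    have h0 : ringKrullDim R < 1 := not_le.1 hcon
    rcases hd : ringKrullDim R with _ | n
    · exact bot_le
    · rw [hd] at h0
      have h0' : n < 1 := WithBot.coe_lt_coe.1 h0
      rw [Order.lt_one_iff] at h0'
      rw [h0']; rfl
  have hreg : IsRegularLocalRing R :=
    IsRegularLocalRing.of_spanFinrank_maximalIdeal_le R (hle.trans hge)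
  exact ⟨hreg, le_antisymm ((ringKrullDim_le_spanFinrank_maximalIdeal R).trans hle) hge⟩


section B2

variable (x : R)

local notation "Q" => Localization.Away x
local notation "ι" => algebraMap R (Localization.Away x)

lemma isUnit_ι_x : IsUnit (ι x) := IsLocalization.Away.algebraMap_isUnit x

lemma ι_injective (hx : IsSMulRegular R x) : Function.Injective ι := by
  apply IsLocalization.injective (M := Submonoid.powers x)
  intro z hz
  obtain ⟨n, rfl⟩ := hz
  rw [mem_nonZeroDivisors_iff_right]
  intro w hw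
  apply IsSMulRegular.pow n hx
  simp only [smul_eq_mul, mul_zero]
  rw [mul_comm]; exact hw

/-- the idealizer of the image of the maximal ideal -/
def idealizer : Subalgebra R Q where
  carrier := {z | ∀ b ∈ maximalIdeal R, ∃ c ∈ maximalIdeal R, z * ι b = ι c}
  mul_mem' := by
    intro z z' hz hz' b hb
    obtain ⟨c', hc', h'⟩ := hz' b hb
    obtain ⟨c, hc, h⟩ := hz c' hc'
    exact ⟨c, hc, by rw [mul_assoc, h', h]⟩
  add_mem' := by
    intro z z' hz hz' b hb
    obtain ⟨c', hc', h'⟩ := hz' b hb
    obtain ⟨c, hc, h⟩ := hz b hb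
    exact ⟨c + c', Ideal.add_mem _ hc hc', by rw [add_mul, h, h', map_add]⟩
  algebraMap_mem' := by
    intro r b hb
    exact ⟨r * b, Ideal.mul_mem_left _ _ hb, by rw [map_mul]⟩

variable {x}

lemma exists_of_mem_adjoin (y : R)
    (hxy : ∀ a ∈ maximalIdeal R, ∃ r ∈ maximalIdeal R, a * y = x * r)
    (t : Q) (ht : ι x * t = ι y) (z : Q) (hz : z ∈ Algebra.adjoin R {t}) :
    ∀ b ∈ maximalIdeal R, ∃ c ∈ maximalIdeal R, z * ι b = ι c := by
  have hle : Algebra.adjoin R {t} ≤ idealizer x := by
    rw [Algebra.adjoin_le_iff, Set.singleton_subset_iff]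
    intro b hb
    obtain ⟨r, hr, hbr⟩ := hxy b hb
    refine ⟨r, hr, ?_⟩
    apply (isUnit_ι_x x).mul_left_cancel
    rw [← mul_assoc, ht, ← map_mul, ← map_mul, mul_comm y b, hbr]
  exact hle hz

end B2

theorem caseB2 (x y : R) (hxm : x ∈ maximalIdeal R) (hx : IsSMulRegular R x)
    (hy : y ∉ Ideal.span {x})
    (hxy : ∀ a ∈ maximalIdeal R, ∃ r ∈ maximalIdeal R, a * y = x * r) :
    ∃ (R' : Type u) (_ : CommRing R') (_ : Algebra R R'), Nontrivial R' ∧ Module.Finite R R' ∧
      ¬ Function.Bijective (algebraMap R R') ∧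
      (∃ n : ℕ, (∀ x : R, algebraMap R R' x = 0 → ∀ a ∈ IsLocalRing.maximalIdeal R ^ n, a * x = 0) ∧
        (∀ y : R', ∀ a ∈ IsLocalRing.maximalIdeal R ^ n, a • y ∈ Set.range (algebraMap R R'))) ∧
      IsLocalRing.maximalIdeal R ∉ associatedPrimes R R' := by
  have hinj := ι_injective x hx
  have hu := isUnit_ι_x x
  set t : Localization.Away x := IsLocalization.mk' (Localization.Away x) y
    (⟨x, Submonoid.mem_powers x⟩ : Submonoid.powers x) with ht_def
  have ht : algebraMap R (Localization.Away x) x * t = algebraMap R (Localization.Away x) y :=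
    IsLocalization.mk'_spec' (Localization.Away x) y (⟨x, Submonoid.mem_powers x⟩ : Submonoid.powers x)
  have key := exists_of_mem_adjoin (x := x) y hxy t ht
  haveI : Nontrivial (Localization.Away x) := hinj.nontrivial
  refine ⟨↥(Algebra.adjoin R {t}), inferInstance, inferInstance, ?_, ?_, ?_, ⟨1, ?_, ?_⟩, ?_⟩
  · exact ⟨⟨0, 1, fun h => zero_ne_one (α := Localization.Away x) (congrArg Subtype.val h)⟩⟩
  · -- finite
    let ψ : R →ₗ[R] Localization.Away x := (LinearMap.mulRight R (hu.unit⁻¹ : (Localization.Away x)ˣ).val) ∘ₗ (Algebra.linearMap R (Localization.Away x))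
    have hψ : ∀ r, ψ r = algebraMap R (Localization.Away x) r * (hu.unit⁻¹ : (Localization.Away x)ˣ).val := fun r => rfl
    have hle : Subalgebra.toSubmodule (Algebra.adjoin R {t}) ≤ LinearMap.range ψ := by
      intro z hz
      obtain ⟨c, -, hc⟩ := key z hz x hxm
      refine ⟨c, ?_⟩
      rw [hψ, ← hc, mul_assoc]
      have : algebraMap R (Localization.Away x) x * (hu.unit⁻¹ : (Localization.Away x)ˣ).val = 1 := hu.mul_val_inv
      rw [this, mul_one]
    have hfg : (Subalgebra.toSubmodule (Algebra.adjoin R {t})).FG := by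
      have h1 : Submodule.map ψ (Submodule.comap ψ (Subalgebra.toSubmodule (Algebra.adjoin R {t})))
          = Subalgebra.toSubmodule (Algebra.adjoin R {t}) := by
        rw [Submodule.map_comap_eq, inf_eq_right]
        exact hle
      rw [← h1]
      exact Submodule.FG.map ψ (IsNoetherian.noetherian _)
    exact Module.Finite.iff_fg.2 hfg
  · -- not bijective
    intro hb
    obtain ⟨r, hr⟩ := hb.2 ⟨t, Algebra.subset_adjoin (Set.mem_singleton t)⟩
    have hr' : algebraMap R (Localization.Away x) r = t := congrArg Subtype.val hr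
    apply hy
    rw [Ideal.mem_span_singleton]
    refine ⟨r, ?_⟩
    apply hinj
    rw [map_mul, hr', ht]
  · intro r hr a _
    have hr' : algebraMap R (Localization.Away x) r = 0 := congrArg Subtype.val hr
    rw [hinj (hr'.trans (map_zero _).symm), mul_zero]
  · intro z a ha
    rw [pow_one] at ha
    obtain ⟨c, -, hc⟩ := key z.1 z.2 a ha
    refine ⟨c, ?_⟩
    apply Subtype.ext
    change algebraMap R (Localization.Away x) c = a • z.1
    rw [← hc, Algebra.smul_def, mul_comm]
  · intro hass
    obtain ⟨-, z, hz⟩ := isAssociatedPrime_iff.1 (AssociatedPrimes.mem_iff.1 hass)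
    have hxz : x • z = 0 := by
      have := hxm
      rw [hz, Submodule.mem_colon_singleton, Submodule.mem_bot] at this
      exact this
    have hz0 : z = 0 := by
      apply Subtype.ext
      have h1 : algebraMap R (Localization.Away x) x * z.1 = 0 := by
        have := congrArg Subtype.val hxz
        rwa [Algebra.smul_def] at this
      exact (hu.mul_right_eq_zero).1 h1
    apply (maximalIdeal.isMaximal R).ne_top
    rw [hz, hz0, eq_top_iff]
    intro a _
    rw [Submodule.mem_colon_singleton, smul_zero]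
    exact Submodule.zero_mem _



open Groth.Agent.Lib Pointwise in
theorem main_S2058 {R : Type u} [CommRing R] [IsLocalRing R] [IsNoetherianRing R]
    (h1 : ¬ IsArtinianRing R) (h2 : ¬ (IsRegularLocalRing R ∧ ringKrullDim R = 1))
    (h3 : LocCoh.depth R R ≤ 1) :
    ∃ (R' : Type u) (_ : CommRing R') (_ : Algebra R R'), Nontrivial R' ∧ Module.Finite R R' ∧
      ¬ Function.Bijective (algebraMap R R') ∧
      (∃ n : ℕ, (∀ x : R, algebraMap R R' x = 0 → ∀ a ∈ IsLocalRing.maximalIdeal R ^ n, a * x = 0) ∧
        (∀ y : R', ∀ a ∈ IsLocalRing.maximalIdeal R ^ n, a • y ∈ Set.range (algebraMap R R'))) ∧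
      IsLocalRing.maximalIdeal R ∉ associatedPrimes R R' := by
  by_cases hd : LocCoh.depth R R = 0
  · exact caseA h1 ((Helper28.depth_eq_zero_iff (M := R)).1 hd)
  · have h1le : 1 ≤ LocCoh.depth R R := ENat.one_le_iff_ne_zero.2 hd
    have hIM : maximalIdeal R • (⊤ : Submodule R R) ≠ ⊤ := Helper28.maximalIdeal_smul_top_ne_top
    obtain ⟨x, hxm, hx⟩ := (Helper28.one_le_idealDepth_iff hIM).1 h1le
    have hq := Helper28.idealDepth_quotSMulTop_add_one (maximalIdeal R) R hIM x hxm hx
    have hq0 : LocCoh.depth R (QuotSMulTop x R) = 0 := by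
      have h4 : LocCoh.idealDepth (maximalIdeal R) (QuotSMulTop x R) + 1 ≤ 1 := by
        rw [hq]; exact h3
      have h5 : LocCoh.idealDepth (maximalIdeal R) (QuotSMulTop x R) + 1 ≤ 0 + 1 := by
        rwa [zero_add]
      have h6 := (ENat.add_le_add_iff_right (ENat.one_ne_top)).1 h5
      exact le_antisymm h6 bot_le
    have hass := (Helper28.depth_eq_zero_iff (M := QuotSMulTop x R)).1 hq0
    obtain ⟨-, ybar, hybar⟩ := isAssociatedPrime_iff.1 (AssociatedPrimes.mem_iff.1 hass)
    obtain ⟨y, rfl⟩ := Submodule.Quotient.mk_surjective _ ybar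
    have hmem : ∀ r : R, r ∈ (x • (⊤ : Submodule R R)) ↔ ∃ s, r = x * s := by
      intro r
      rw [Submodule.mem_smul_pointwise_iff_exists]
      constructor
      · rintro ⟨s, -, hs⟩; exact ⟨s, hs.symm⟩
      · rintro ⟨s, hs⟩; exact ⟨s, trivial, hs.symm⟩
    have hy : y ∉ Ideal.span {x} := by
      intro hy
      obtain ⟨s, hs⟩ := Ideal.mem_span_singleton'.1 hy
      have h0 : (Submodule.Quotient.mk y : QuotSMulTop x R) = 0 := by
        rw [Submodule.Quotient.mk_eq_zero, hmem]
        exact ⟨s, by rw [← hs, mul_comm]⟩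
      apply (maximalIdeal.isMaximal R).ne_top
      rw [hybar, h0, eq_top_iff]
      intro a _
      rw [Submodule.mem_colon_singleton, smul_zero]
      exact Submodule.zero_mem _
    have hxy0 : ∀ a ∈ maximalIdeal R, ∃ r, a * y = x * r := by
      intro a ha
      rw [hybar, Submodule.mem_colon_singleton, Submodule.mem_bot, ← Submodule.Quotient.mk_smul,
        Submodule.Quotient.mk_eq_zero, hmem] at ha
      exact ha
    by_cases hB : ∀ a ∈ maximalIdeal R, ∀ r, a * y = x * r → r ∈ maximalIdeal R
    · apply caseB2 x y hxm hx hy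
      intro a ha
      obtain ⟨r, hr⟩ := hxy0 a ha
      exact ⟨r, hB a ha r hr, hr⟩
    · exfalso
      push Not at hB
      obtain ⟨a, ha, r, har, hr⟩ := hB
      have hru : IsUnit r := by
        by_contra hnu
        exact hr ((mem_maximalIdeal r).2 hnu)
      exact h2 (regular_of_principal h1 a (maximalIdeal_eq_span x y hx hxy0 a r ha hru har))

end Groth.Agent.Lib.T1H8.Tetra
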