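import Groth.Agent.S5802

/-!
# `A ⧸ J ^ N ≃ (A ⧸ J)[T] ⧸ (T) ^ N` for `J` generated by a regular sequence with `A ⧸ J` formally
smooth over the base (for S18417)
-/

set_option autoImplicit false
universe u v

namespace Groth.Agent.Lib.T1H8.TruncPoly

open MvPolynomial

section

variable {R : Type u} {A : Type v} [CommRing R] [CommRing A] [Algebra R A] {d : ℕ} (x : Fin d → A)
  (N : ℕ)

local notation "J" => Ideal.span (Set.range x)
local notation "B" => A ⧸ Ideal.span (Set.range x)
local notation "Q" => A ⧸ Ideal.span (Set.range x) ^ N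

/-- The kernel of `A ⧸ J ^ N → A ⧸ J`, as the image of `J`. -/
noncomputable def jj : Ideal (A ⧸ Ideal.span (Set.range x) ^ N) :=
  (Ideal.span (Set.range x)).map (Ideal.Quotient.mk (Ideal.span (Set.range x) ^ N))

theorem jj_pow (n : ℕ) : jj x N ^ n =
    (Ideal.span (Set.range x) ^ n).map (Ideal.Quotient.mk (Ideal.span (Set.range x) ^ N)) := by
  rw [jj, Ideal.map_pow]

theorem jj_pow_self : jj x N ^ N = ⊥ := by
  rw [jj_pow, Ideal.map_quotient_self]

theorem mk_mem_jj_pow_iff (n : ℕ) (hn : n ≤ N) (a : A) :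
    Ideal.Quotient.mk (Ideal.span (Set.range x) ^ N) a ∈ jj x N ^ n ↔
      a ∈ Ideal.span (Set.range x) ^ n := by
  rw [jj_pow, Ideal.mem_map_iff_of_surjective _ Ideal.Quotient.mk_surjective]
  constructor
  · rintro ⟨a', ha', h⟩
    rw [Ideal.Quotient.eq] at h
    have h2 : a' - a ∈ Ideal.span (Set.range x) ^ n := Ideal.pow_le_pow_right hn h
    have : a = a' - (a' - a) := by ring
    rw [this]
    exact Ideal.sub_mem _ ha' h2
  · intro ha
    exact ⟨a, ha, rfl⟩

variable {N}

/-- The projection `A ⧸ J ^ N → A ⧸ J`. -/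
noncomputable def proj (hN : 1 ≤ N) : (A ⧸ Ideal.span (Set.range x) ^ N) →ₐ[R]
    (A ⧸ Ideal.span (Set.range x)) :=
  Ideal.Quotient.factorₐ R (Ideal.pow_le_self (by omega))

theorem proj_mk (hN : 1 ≤ N) (a : A) : proj (R := R) x hN (Ideal.Quotient.mk _ a) = Ideal.Quotient.mk _ a := rfl

theorem proj_surjective (hN : 1 ≤ N) : Function.Surjective (proj (R := R) x hN) := by
  intro b
  obtain ⟨a, rfl⟩ := Ideal.Quotient.mk_surjective b
  exact ⟨Ideal.Quotient.mk _ a, rfl⟩

theorem ker_proj (hN : 1 ≤ N) : RingHom.ker (proj (R := R) x hN) = jj x N := by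
  ext q
  obtain ⟨a, rfl⟩ := Ideal.Quotient.mk_surjective q
  rw [RingHom.mem_ker, proj_mk, Ideal.Quotient.eq_zero_iff_mem]
  have h2 := mk_mem_jj_pow_iff x N 1 hN a
  rw [pow_one, pow_one] at h2
  exact h2.symm

theorem isNilpotent_ker_proj (hN : 1 ≤ N) :
    IsNilpotent (RingHom.ker ((proj (R := R) x hN : (A ⧸ Ideal.span (Set.range x) ^ N) →ₐ[R]
      (A ⧸ Ideal.span (Set.range x))) : (A ⧸ Ideal.span (Set.range x) ^ N) →+*
      (A ⧸ Ideal.span (Set.range x)))) := by
  rw [RingHom.ker_coe_toRingHom, ker_proj]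
  exact ⟨N, by rw [jj_pow_self]; rfl⟩

variable [Algebra.FormallySmooth R (A ⧸ Ideal.span (Set.range x))]

/-- A section of the projection, from formal smoothness. -/
noncomputable def sec (hN : 1 ≤ N) : (A ⧸ Ideal.span (Set.range x)) →ₐ[R] (A ⧸ Ideal.span (Set.range x) ^ N) :=
  Algebra.FormallySmooth.liftOfSurjective (AlgHom.id R _) (proj (R := R) x hN)
    (proj_surjective x hN) (isNilpotent_ker_proj x hN)

theorem proj_sec (hN : 1 ≤ N) (b : A ⧸ Ideal.span (Set.range x)) : proj (R := R) x hN (sec (R := R) x hN b) = b :=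
  Algebra.FormallySmooth.liftOfSurjective_apply _ _ _ _ b

theorem sec_mk_sub_mem (hN : 1 ≤ N) (a : A) :
    sec (R := R) x hN (Ideal.Quotient.mk _ a) - Ideal.Quotient.mk _ a ∈ jj x N := by
  rw [← ker_proj (R := R) x hN, RingHom.mem_ker, map_sub, proj_sec, proj_mk, sub_self]

/-- The comparison map `(A ⧸ J)[T] → A ⧸ J ^ N`. -/
noncomputable def phi (hN : 1 ≤ N) : MvPolynomial (Fin d) (A ⧸ Ideal.span (Set.range x)) →ₐ[R]
    (A ⧸ Ideal.span (Set.range x) ^ N) :=
  aevalTower (sec (R := R) x hN) (fun i => Ideal.Quotient.mk _ (x i))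

theorem phi_X (hN : 1 ≤ N) (i : Fin d) : phi (R := R) x hN (X i) = Ideal.Quotient.mk _ (x i) :=
  aevalTower_X _ _ i

theorem phi_C (hN : 1 ≤ N) (b : A ⧸ Ideal.span (Set.range x)) : phi (R := R) x hN (C b) = sec (R := R) x hN b :=
  aevalTower_C _ _ b

theorem phi_monomial (hN : 1 ≤ N) (m : Fin d →₀ ℕ) (b : A ⧸ Ideal.span (Set.range x)) :
    phi (R := R) x hN (monomial m b) =
      sec (R := R) x hN b * Ideal.Quotient.mk _ (m.prod fun i k => x i ^ k) := by
  rw [monomial_eq, map_mul, phi_C, Finsupp.prod, Finsupp.prod, map_prod, map_prod]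
  congr 1
  refine Finset.prod_congr rfl (fun i _ => ?_)
  rw [map_pow, map_pow, phi_X]


theorem mk_prod_mem (m : Fin d →₀ ℕ) (n : ℕ) (hm : m.degree = n) :
    Ideal.Quotient.mk (Ideal.span (Set.range x) ^ N) (m.prod fun i k => x i ^ k) ∈
      jj x N ^ n := by
  rw [jj_pow]
  apply Ideal.mem_map_of_mem
  rw [Ideal.mem_span_pow_iff_exists_isHomogeneous]
  exact ⟨monomial m 1, isHomogeneous_monomial 1 hm, by rw [eval_monomial, one_mul]⟩

/-- Key comparison: for `F` homogeneous of degree `n`, the images of `F` under the two maps agree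
modulo `J ^ (n + 1)`. -/
theorem phi_map_sub_mem (hN : 1 ≤ N) (n : ℕ) (F : MvPolynomial (Fin d) A)
    (hF : F.IsHomogeneous n) :
    phi (R := R) x hN (map (Ideal.Quotient.mk (Ideal.span (Set.range x))) F) -
      Ideal.Quotient.mk (Ideal.span (Set.range x) ^ N) (eval x F) ∈ jj x N ^ (n + 1) := by
  have h := F.as_sum
  have e1 : phi (R := R) x hN (map (Ideal.Quotient.mk (Ideal.span (Set.range x))) F) =
      ∑ m ∈ F.support, phi (R := R) x hN
        (map (Ideal.Quotient.mk (Ideal.span (Set.range x))) (monomial m (coeff m F))) := by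
    conv_lhs => rw [h]
    rw [map_sum, map_sum]
  have e2 : Ideal.Quotient.mk (Ideal.span (Set.range x) ^ N) (eval x F) =
      ∑ m ∈ F.support, Ideal.Quotient.mk (Ideal.span (Set.range x) ^ N)
        (eval x (monomial m (coeff m F))) := by
    conv_lhs => rw [h]
    rw [map_sum, map_sum]
  rw [e1, e2, ← Finset.sum_sub_distrib]
  refine Ideal.sum_mem _ (fun m hm => ?_)
  rw [map_monomial, phi_monomial, eval_monomial, map_mul, ← sub_mul, pow_succ']
  refine Ideal.mul_mem_mul (sec_mk_sub_mem x hN _) ?_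
  refine mk_prod_mem x m n ?_
  rw [Finsupp.degree_eq_weight_one]
  exact hF (mem_support_iff.mp hm)

theorem map_span_X_le (hN : 1 ≤ N) :
    (Ideal.span (Set.range (X : Fin d → MvPolynomial (Fin d) (A ⧸ Ideal.span (Set.range x))))).map
      (phi (R := R) x hN) ≤ jj x N := by
  rw [Ideal.map_span, Ideal.span_le]
  rintro _ ⟨_, ⟨i, rfl⟩, rfl⟩
  rw [SetLike.mem_coe, phi_X]
  exact Ideal.mem_map_of_mem _ (Ideal.subset_span ⟨i, rfl⟩)

theorem phi_mem_of_mem_pow (hN : 1 ≤ N) (n : ℕ)
    (p : MvPolynomial (Fin d) (A ⧸ Ideal.span (Set.range x)))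
    (hp : p ∈ Ideal.span (Set.range (X : Fin d → MvPolynomial (Fin d) _)) ^ n) :
    phi (R := R) x hN p ∈ jj x N ^ n := by
  have h1 : phi (R := R) x hN p ∈
      (Ideal.span (Set.range (X : Fin d → MvPolynomial (Fin d) _)) ^ n).map (phi (R := R) x hN) :=
    Ideal.mem_map_of_mem _ hp
  rw [Ideal.map_pow] at h1
  exact Ideal.pow_right_mono (map_span_X_le x hN) n h1

theorem mem_range_of_mem_pow (hN : 1 ≤ N) :
    ∀ k ≤ N, ∀ q ∈ jj x N ^ (N - k), q ∈ (phi (R := R) x hN).range := by
  intro k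
  induction k with
  | zero =>
    intro _ q hq
    rw [Nat.sub_zero, jj_pow_self, Ideal.mem_bot] at hq
    rw [hq]
    exact Subalgebra.zero_mem _
  | succ k ih =>
    intro hk q hq
    rw [jj_pow, Ideal.mem_map_iff_of_surjective _ Ideal.Quotient.mk_surjective] at hq
    obtain ⟨a, ha, rfl⟩ := hq
    obtain ⟨F, hF, rfl⟩ := (Ideal.mem_span_pow_iff_exists_isHomogeneous x a).mp ha
    have h1 := phi_map_sub_mem (R := R) x hN (N - (k + 1)) F hF
    have h2 : N - (k + 1) + 1 = N - k := by omega
    rw [h2] at h1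
    have h3 := ih (by omega) _ h1
    have h4 : (phi (R := R) x hN) (map (Ideal.Quotient.mk (Ideal.span (Set.range x))) F) ∈
        (phi (R := R) x hN).range := ⟨_, rfl⟩
    have h5 := Subalgebra.sub_mem _ h4 h3
    rw [sub_sub_cancel] at h5
    exact h5

theorem phi_surjective (hN : 1 ≤ N) : Function.Surjective (phi (R := R) x hN) := by
  intro q
  have h0 : q ∈ jj x N ^ (N - N) := by
    rw [Nat.sub_self, pow_zero, Ideal.one_eq_top]
    exact Submodule.mem_top
  exact mem_range_of_mem_pow (R := R) x hN N le_rfl q h0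

theorem mem_pow_of_phi_eq_zero (hN : 1 ≤ N) (hqr : CAlgX.IsQuasiRegular x)
    (p : MvPolynomial (Fin d) (A ⧸ Ideal.span (Set.range x))) (hp : phi (R := R) x hN p = 0) :
    p ∈ Ideal.span (Set.range (X : Fin d → MvPolynomial (Fin d) _)) ^ N := by
  rw [mem_pow_idealOfVars_iff']
  suffices h : ∀ n, n < N → ∀ m : Fin d →₀ ℕ, m.degree = n → coeff m p = 0 from
    fun m hm => h _ hm m rfl
  intro n
  induction n using Nat.strong_induction_on with
  | _ n ih =>
    intro hn m hm
    -- `p - p_n` has no terms of degree `≤ n`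
    have h1 : p - homogeneousComponent n p ∈
        Ideal.span (Set.range (X : Fin d → MvPolynomial (Fin d) _)) ^ (n + 1) := by
      rw [mem_pow_idealOfVars_iff']
      intro m' hm'
      rw [coeff_sub, coeff_homogeneousComponent]
      by_cases hd : m'.degree = n
      · rw [if_pos hd, sub_self]
      · rw [if_neg hd, sub_zero]
        exact ih m'.degree (by omega) (by omega) m' rfl
    have h2 := phi_mem_of_mem_pow (R := R) x hN (n + 1) _ h1
    rw [map_sub, hp, zero_sub, neg_mem_iff] at h2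
    obtain ⟨F₀, hF₀⟩ := map_surjective (Ideal.Quotient.mk (Ideal.span (Set.range x)))
      Ideal.Quotient.mk_surjective (homogeneousComponent n p)
    have hF : (homogeneousComponent n F₀).IsHomogeneous n := homogeneousComponent_isHomogeneous n F₀
    have hmap : map (Ideal.Quotient.mk (Ideal.span (Set.range x))) (homogeneousComponent n F₀) =
        homogeneousComponent n p := by
      ext m'
      rw [coeff_map, coeff_homogeneousComponent, coeff_homogeneousComponent]
      by_cases hd : m'.degree = n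
      · rw [if_pos hd, if_pos hd, ← coeff_map, hF₀, coeff_homogeneousComponent, if_pos hd]
      · rw [if_neg hd, if_neg hd, map_zero]
    have h3 := phi_map_sub_mem (R := R) x hN n _ hF
    rw [hmap] at h3
    have h4 : Ideal.Quotient.mk (Ideal.span (Set.range x) ^ N)
        (eval x (homogeneousComponent n F₀)) ∈ jj x N ^ (n + 1) := by
      have := Ideal.sub_mem _ h2 h3
      rwa [sub_sub_cancel] at this
    rw [mk_mem_jj_pow_iff x N (n + 1) (by omega)] at h4
    have h5 := hqr n _ hF h4 m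
    have h6 : coeff m (homogeneousComponent n p) = 0 := by
      rw [← hmap, coeff_map]
      exact Ideal.Quotient.eq_zero_iff_mem.mpr h5
    rw [coeff_homogeneousComponent, if_pos hm] at h6
    exact h6

theorem proj_phi (hN : 1 ≤ N) (p : MvPolynomial (Fin d) (A ⧸ Ideal.span (Set.range x))) :
    proj (R := R) x hN (phi (R := R) x hN p) = constantCoeff p := by
  have h : ((proj (R := R) x hN).toRingHom.comp (phi (R := R) x hN).toRingHom) =
      (constantCoeff : MvPolynomial (Fin d) (A ⧸ Ideal.span (Set.range x)) →+* _) := by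
    apply ringHom_ext
    · intro b
      rw [RingHom.comp_apply, constantCoeff_C]
      exact (congrArg _ (phi_C x hN b)).trans (proj_sec x hN b)
    · intro i
      rw [RingHom.comp_apply, constantCoeff_X]
      refine (congrArg _ (phi_X x hN i)).trans ?_
      exact Ideal.Quotient.eq_zero_iff_mem.mpr (Ideal.subset_span ⟨i, rfl⟩)
  exact congrArg (fun f => f p) h

theorem phi_eq_zero_of_mem (hN : 1 ≤ N) (p : MvPolynomial (Fin d) (A ⧸ Ideal.span (Set.range x)))
    (hp : p ∈ Ideal.span (Set.range (X : Fin d → MvPolynomial (Fin d) _)) ^ N) :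
    phi (R := R) x hN p = 0 := by
  have h := phi_mem_of_mem_pow (R := R) x hN N p hp
  rwa [jj_pow_self, Ideal.mem_bot] at h

/-- The induced map on the truncated polynomial ring. -/
noncomputable def phiBar (hN : 1 ≤ N) :
    (MvPolynomial (Fin d) (A ⧸ Ideal.span (Set.range x)) ⧸
      Ideal.span (Set.range (X : Fin d → MvPolynomial (Fin d) (A ⧸ Ideal.span (Set.range x)))) ^ N)
      →ₐ[R] (A ⧸ Ideal.span (Set.range x) ^ N) :=
  Ideal.Quotient.liftₐ _ (phi (R := R) x hN) (phi_eq_zero_of_mem x hN)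

theorem phiBar_mk (hN : 1 ≤ N) (p : MvPolynomial (Fin d) (A ⧸ Ideal.span (Set.range x))) :
    phiBar (R := R) x hN (Ideal.Quotient.mk _ p) = phi (R := R) x hN p := rfl

theorem phiBar_bijective (hN : 1 ≤ N) (hqr : CAlgX.IsQuasiRegular x) :
    Function.Bijective (phiBar (R := R) x hN) := by
  constructor
  · rw [injective_iff_map_eq_zero]
    intro q hq
    obtain ⟨p, rfl⟩ := Ideal.Quotient.mk_surjective q
    rw [phiBar_mk] at hq
    exact Ideal.Quotient.eq_zero_iff_mem.mpr (mem_pow_of_phi_eq_zero x hN hqr p hq)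
  · intro q
    obtain ⟨p, rfl⟩ := phi_surjective (R := R) x hN q
    exact ⟨Ideal.Quotient.mk _ p, rfl⟩

end

/-- Statement S18417. -/
theorem main_S18417
    (R : Type u) (A : Type v) [CommRing R] [CommRing A] [Algebra R A] (d : ℕ) (x : Fin d → A)
    (hreg : RingTheory.Sequence.IsWeaklyRegular A (List.ofFn x))
    [Algebra.FormallySmooth R (A ⧸ Ideal.span (Set.range x))] (N : ℕ) (hN : 1 ≤ N) :
    ∃ e : (A ⧸ Ideal.span (Set.range x) ^ N) ≃ₐ[R]
        (MvPolynomial (Fin d) (A ⧸ Ideal.span (Set.range x)) ⧸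
          Ideal.span (Set.range (MvPolynomial.X : Fin d → MvPolynomial (Fin d) (A ⧸ Ideal.span (Set.range x)))) ^ N),
      (∀ i : Fin d, e (Ideal.Quotient.mk _ (x i)) = Ideal.Quotient.mk _ (MvPolynomial.X i)) ∧
      ∀ a : A, e (Ideal.Quotient.mk _ a) - Ideal.Quotient.mk _ (MvPolynomial.C (Ideal.Quotient.mk _ a)) ∈
        (Ideal.span (Set.range (MvPolynomial.X : Fin d → MvPolynomial (Fin d) (A ⧸ Ideal.span (Set.range x))))).map
          (Ideal.Quotient.mk _) := by
  have hqr : CAlgX.IsQuasiRegular x := Groth.Agent.S5802.result A d x hreg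
  let E := AlgEquiv.ofBijective (phiBar (R := R) x hN) (phiBar_bijective x hN hqr)
  refine ⟨E.symm, ?_, ?_⟩
  · intro i
    rw [AlgEquiv.symm_apply_eq]
    exact (phi_X x hN i).symm
  · intro a
    obtain ⟨p, hp⟩ := Ideal.Quotient.mk_surjective (E.symm (Ideal.Quotient.mk _ a))
    rw [← hp, ← map_sub]
    apply Ideal.mem_map_of_mem
    have hphi : phi (R := R) x hN p = Ideal.Quotient.mk _ a := by
      have h1 : E (Ideal.Quotient.mk _ p) = Ideal.Quotient.mk _ a := by
        rw [hp, AlgEquiv.apply_symm_apply]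
      exact h1
    have hcc : constantCoeff p = Ideal.Quotient.mk (Ideal.span (Set.range x)) a := by
      rw [← proj_phi (R := R) x hN p, hphi]
      rfl
    have h1 : p - C (Ideal.Quotient.mk (Ideal.span (Set.range x)) a) ∈
        Ideal.span (Set.range (X : Fin d → MvPolynomial (Fin d) _)) ^ 1 := by
      rw [mem_pow_idealOfVars_iff']
      intro m hm
      have hm0 : m = 0 := by
        have : m.degree = 0 := by omega
        exact (Finsupp.degree_eq_zero_iff m).mp this
      rw [hm0, coeff_sub, coeff_zero_C, ← constantCoeff_eq, hcc, sub_self]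
    rwa [pow_one] at h1

end Groth.Agent.Lib.T1H8.TruncPoly
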