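import Mathlib
import Groth.Prelude.Def_DerLim
import Groth.Agent.Lib.Helper1Hocolim
import Groth.Agent.Lib.Helper17DBrown2
import Groth.Agent.Lib.Helper17KInj8
import Groth.Agent.Lib.Helper13HomologyColim

/-!
# Homological functors and homotopy colimits; countable coproducts in derived categories
-/

set_option autoImplicit false
universe w v v' u u'
open CategoryTheory CategoryTheory.Limits

namespace Groth.Agent.Lib.T2H1.HocolimHomology

section Refined

open CategoryTheory.Pretriangulated Groth.Agent.Lib.Helper1 DerLim

/-- refined form of `S1034`: only the coproducts of `K` and of `K⟦1⟧` need to be preserved. -/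
theorem exists_iso_colimit_of_isHocolim {D : Type u} [Category.{v} D] [Preadditive D]
    [Limits.HasZeroObject D] [HasShift D ℤ]
    [∀ n : ℤ, (shiftFunctor D n).Additive] [Pretriangulated D]
    {A : Type u'} [Category.{v'} A] [Abelian A] [HasColimitsOfShape ℕ A]
    [HasExactColimitsOfShape ℕ A]
    (H : D ⥤ A) [H.IsHomological]
    (K : ℕ → D) [HasCoproduct K] (f : ∀ n, K n ⟶ K (n + 1)) (L : D) (i : ∀ n, K n ⟶ L)
    (hL : DerLim.IsHocolim K f L i)
    [PreservesColimit (Discrete.functor K) H]
    [PreservesColimit (Discrete.functor K) (shiftFunctor D (1 : ℤ) ⋙ H)] :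
    ∃ e : colimit (Functor.ofSequence (fun n => H.map (f n))) ≅ H.obj L,
      ∀ n : ℕ, colimit.ι (Functor.ofSequence (fun n => H.map (f n))) n ≫ e.hom = H.map (i n) := by
  obtain ⟨c, hT⟩ := hL
  set σ : ∐ K ⟶ ∐ K := 𝟙 (∐ K) - DerLim.shiftMap K f with hσ
  have E2 := H.map_distinguished_exact _ (rot_of_distTriang _ hT)
  have E1 := H.map_distinguished_exact _ hT
  have hmono : Mono (H.map (σ⟦(1 : ℤ)⟧')) :=
    mono_map_one_sub_shiftMap (shiftFunctor D (1 : ℤ) ⋙ H) K f
  have hc : H.map c = 0 := by
    have z : H.map c ≫ H.map (-(σ⟦(1 : ℤ)⟧')) = 0 :=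
      ((shortComplexOfDistTriangle _ (rot_of_distTriang _ (rot_of_distTriang _ hT))).map H).zero
    rw [Functor.map_neg, Preadditive.comp_neg, neg_eq_zero] at z
    rwa [← cancel_mono (H.map (σ⟦(1 : ℤ)⟧')), zero_comp]
  have hepi : Epi (H.map (Sigma.desc i)) := by
    exact E2.epi_f hc
  have hcok : IsColimit (CokernelCofork.ofπ (H.map (Sigma.desc i))
      (show H.map σ ≫ H.map (Sigma.desc i) = 0 from
        ((shortComplexOfDistTriangle _ hT).map H).zero)) := by
    haveI : Epi ((shortComplexOfDistTriangle _ hT).map H).g := hepi
    exact E1.gIsCokernel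
  obtain ⟨e, he⟩ := exists_iso_colimit_of_isColimit_cokernelCofork H K f (H.map (Sigma.desc i))
    (show H.map σ ≫ H.map (Sigma.desc i) = 0 from ((shortComplexOfDistTriangle _ hT).map H).zero) hcok
  refine ⟨e, fun n => ?_⟩
  rw [he n, ← H.map_comp, Sigma.ι_desc]

end Refined

section Derived

open Groth.Agent.Lib.Helper17.DBrown DerivedCategory

variable {A : Type u} [Category.{v} A] [Abelian A] [IsGrothendieckAbelian.{v} A]
  [HasDerivedCategory.{w} A]

/-- `Q` preserves small coproducts. -/
theorem preservesColimitsOfShape_discrete_Q (T : Type v) :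
    PreservesColimitsOfShape (Discrete T) (Q : CochainComplex A ℤ ⥤ DerivedCategory A) := by
  constructor
  intro F
  suffices h : PreservesColimit (Discrete.functor (F.obj ∘ Discrete.mk))
      (Q : _ ⥤ DerivedCategory A) from
    preservesColimit_of_iso_diagram _ Discrete.natIsoFunctor.symm
  exact preservesColimit_of_preserves_colimit_cocone
    (coproductIsCoproduct (F.obj ∘ Discrete.mk))
    ((isColimitMapCoconeCofanMkEquiv _ _ _).symm (isColimitQSigma (F.obj ∘ Discrete.mk)))

/-- `Q` preserves countable coproducts. -/
theorem preservesColimitsOfShape_discrete_nat_Q :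
    PreservesColimitsOfShape (Discrete ℕ) (Q : CochainComplex A ℤ ⥤ DerivedCategory A) := by
  haveI := preservesColimitsOfShape_discrete_Q (A := A) (ULift.{v} ℕ)
  exact preservesColimitsOfShape_of_equiv (Discrete.equivalence Equiv.ulift) _

/-- the cohomology functors on the derived category preserve small coproducts. -/
theorem preservesColimitsOfShape_discrete_homologyFunctor (T : Type v) (i : ℤ) :
    PreservesColimitsOfShape (Discrete T) (homologyFunctor A i) := by
  haveI := preservesColimitsOfShape_discrete_Q (A := A) T
  constructor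
  intro F
  let X : T → CochainComplex A ℤ := fun t => (Q : _ ⥤ DerivedCategory A).objPreimage (F.obj ⟨t⟩)
  let e : Discrete.functor X ⋙ Q ≅ F :=
    Discrete.natIso (fun t => (Q : _ ⥤ DerivedCategory A).objObjPreimageIso (F.obj t))
  suffices PreservesColimit (Discrete.functor X ⋙ Q) (homologyFunctor A i) from
    preservesColimit_of_iso_diagram _ e
  have hc : IsColimit ((Q : _ ⥤ DerivedCategory A).mapCocone
      (colimit.cocone (Discrete.functor X))) := isColimitOfPreserves Q (colimit.isColimit _)
  refine preservesColimit_of_preserves_colimit_cocone hc ?_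
  haveI : PreservesColimitsOfShape (Discrete T)
      (HomologicalComplex.homologyFunctor A (ComplexShape.up ℤ) i) :=
    Groth.Agent.Helper13HomologyColim.preservesColimitsOfShape_homologicalComplex_homologyFunctor _ _
  have h2 : IsColimit ((HomologicalComplex.homologyFunctor A (ComplexShape.up ℤ) i).mapCocone
      (colimit.cocone (Discrete.functor X))) := isColimitOfPreserves _ (colimit.isColimit _)
  exact IsColimit.mapCoconeEquiv (homologyFunctorFactors A i).symm h2

/-- the cohomology functors on the derived category preserve countable coproducts. -/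
theorem preservesColimitsOfShape_discrete_nat_homologyFunctor (i : ℤ) :
    PreservesColimitsOfShape (Discrete ℕ) (homologyFunctor A i) := by
  haveI := preservesColimitsOfShape_discrete_homologyFunctor (A := A) (ULift.{v} ℕ) i
  exact preservesColimitsOfShape_of_equiv (Discrete.equivalence Equiv.ulift) _

end Derived

end Groth.Agent.Lib.T2H1.HocolimHomology
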