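import Mathlib
import Groth.Agent.Lib.Helper16ClosedEmb
import Groth.Agent.S0484

/-!
# The direct image along a closed immersion is a left adjoint (helper4)

Special adjoint functor theorem: `i_*` preserves all small colimits because on abelian sheaves it is a left adjoint
(`Helper16.ClosedEmb.nonempty_push_adj`), and the category of modules is Grothendieck abelian.
-/

set_option autoImplicit false
universe u

namespace Groth.Agent.Lib.T2H4.ClosedAdj

open CategoryTheory CategoryTheory.Limits Opposite TopologicalSpace

section Top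

variable {Z Y X : TopCat.{u}}

/-- push along a composite -/
noncomputable def pushComp (f : Z ⟶ Y) (g : Y ⟶ X) :
    CohTop.push (f ≫ g) ≅ CohTop.push f ⋙ CohTop.push g :=
  NatIso.ofComponents (fun F => Iso.refl _) (by intros; rfl)

/-- push along the identity -/
noncomputable def pushId : CohTop.push (𝟙 Z) ≅ 𝟭 (CohTop.Ab Z) :=
  NatIso.ofComponents (fun F => Iso.refl _) (by intros; rfl)


/-- push along an isomorphism of spaces is an equivalence -/
noncomputable def pushEquiv (e : Z ≅ Y) : CohTop.Ab Z ≌ CohTop.Ab Y :=
  CategoryTheory.Equivalence.mk (CohTop.push e.hom) (CohTop.push e.inv)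
    (pushId.symm ≪≫ eqToIso (by rw [e.hom_inv_id]) ≪≫ pushComp e.hom e.inv)
    ((pushComp e.inv e.hom).symm ≪≫ eqToIso (by rw [e.inv_hom_id]) ≪≫ pushId)

lemma isLeftAdjoint_push_iso (e : Z ≅ Y) : (CohTop.push e.hom).IsLeftAdjoint := by
  haveI : (CohTop.push e.hom).IsEquivalence := (pushEquiv e).isEquivalence_functor
  infer_instance

/-- the open complement of the range of a closed embedding -/
def complOpen (i : Z ⟶ X) (hi : Topology.IsClosedEmbedding i) : Opens X :=
  ⟨(Set.range i)ᶜ, hi.isClosed_range.isOpen_compl⟩

/-- a closed embedding identifies its source with the closed complement of `complOpen` -/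
noncomputable def isoCompl (i : Z ⟶ X) (hi : Topology.IsClosedEmbedding i) :
    Z ≅ TopCat.of (((complOpen i hi : Opens X) : Set X)ᶜ : Set X) :=
  TopCat.isoOfHomeo (hi.isEmbedding.toHomeomorph.trans
    (Homeomorph.setCongr (by
      change Set.range i = ((Set.range i)ᶜ)ᶜ
      rw [compl_compl])))

lemma isoCompl_hom_comp (i : Z ⟶ X) (hi : Topology.IsClosedEmbedding i) :
    (isoCompl i hi).hom ≫ CohCx.inclCompl (complOpen i hi) = i := by
  ext z
  rfl

/-- the direct image of abelian sheaves along a closed embedding is a left adjoint -/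
theorem isLeftAdjoint_push (i : Z ⟶ X) (hi : Topology.IsClosedEmbedding i) :
    (CohTop.push i).IsLeftAdjoint := by
  obtain ⟨adj⟩ := Groth.Agent.Lib.Helper16.ClosedEmb.nonempty_push_adj (complOpen i hi)
  haveI h1 : (CohTop.push (CohCx.inclCompl (complOpen i hi))).IsLeftAdjoint := ⟨_, ⟨adj⟩⟩
  haveI h2 := isLeftAdjoint_push_iso (isoCompl i hi)
  have e : CohTop.push (isoCompl i hi).hom ⋙ CohTop.push (CohCx.inclCompl (complOpen i hi)) ≅
      CohTop.push i :=
    (pushComp _ _).symm ≪≫ eqToIso (by rw [isoCompl_hom_comp])
  exact Functor.isLeftAdjoint_of_iso e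

end Top

section Sch

open AlgebraicGeometry

variable {Z X : Scheme.{u}} (i : Z ⟶ X)

lemma toSheaf_reflectsIsomorphisms (Y : Scheme.{u}) :
    (SheafOfModules.toSheaf.{u} Y.ringCatSheaf).ReflectsIsomorphisms :=
  reflectsIsomorphisms_of_reflectsMonomorphisms_of_reflectsEpimorphisms _

theorem preservesColimitsOfShape_pushforward [IsClosedImmersion i] (K : Type u) [SmallCategory K] :
    PreservesColimitsOfShape K (Scheme.Modules.pushforward i) := by
  haveI h1 : PreservesColimitsOfShape K (SheafOfModules.toSheaf.{u} Z.ringCatSheaf) :=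
    Groth.Agent.S0484.preservesColimitsOfShape_toSheaf (Opens.grothendieckTopology Z)
      Z.ringCatSheaf K
  haveI h2 : PreservesColimitsOfShape K (SheafOfModules.toSheaf.{u} X.ringCatSheaf) :=
    Groth.Agent.S0484.preservesColimitsOfShape_toSheaf (Opens.grothendieckTopology X)
      X.ringCatSheaf K
  haveI h3 : (CohTop.push i.base).IsLeftAdjoint := isLeftAdjoint_push i.base i.isClosedEmbedding
  haveI h4 : PreservesColimitsOfShape K (CohTop.push i.base) := inferInstance
  haveI h5 := toSheaf_reflectsIsomorphisms X
  haveI h6 : ReflectsColimitsOfShape K (SheafOfModules.toSheaf.{u} X.ringCatSheaf) :=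
    reflectsColimitsOfShape_of_reflectsIsomorphisms
  haveI h7 : PreservesColimitsOfShape K
      (Scheme.Modules.pushforward i ⋙ SheafOfModules.toSheaf.{u} X.ringCatSheaf) := by
    change PreservesColimitsOfShape K
      (SheafOfModules.toSheaf.{u} Z.ringCatSheaf ⋙ CohTop.push i.base)
    infer_instance
  exact @preservesColimitsOfShape_of_reflects_of_preserves _ _ _ _ K _ _ _
    (Scheme.Modules.pushforward i) (SheafOfModules.toSheaf.{u} X.ringCatSheaf) h7 h6

/-- the direct image of modules along a closed immersion is a left adjoint -/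
theorem isLeftAdjoint_pushforward [IsClosedImmersion i] :
    (Scheme.Modules.pushforward i).IsLeftAdjoint := by
  haveI : IsGrothendieckAbelian.{u} Z.Modules :=
    Groth.Agent.S0484.result (Opens.grothendieckTopology Z) Z.ringCatSheaf
  haveI : PreservesColimitsOfSize.{u, u} (Scheme.Modules.pushforward i) :=
    ⟨fun {K} _ => preservesColimitsOfShape_pushforward i K⟩
  haveI : WellPowered.{u} (Z.Modules)ᵒᵖ := inferInstance
  exact isLeftAdjoint_of_preservesColimits_of_isSeparating
    (P := ObjectProperty.singleton (separator Z.Modules)) (isSeparator_separator Z.Modules) _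

end Sch

end Groth.Agent.Lib.T2H4.ClosedAdj
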