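import Mathlib
import Groth.Prelude.Def_DCoh2
import Groth.Agent.S0484
import Groth.Agent.Lib.Helper9Coprod
import Groth.Agent.Lib.Helper9TopColimSch
import Groth.Agent.Lib.Helper23ModAbBridge
import Groth.Agent.Lib.T2H4ClosedAdj
import Groth.Agent.Lib.Helper16ClosedEmb

set_option autoImplicit false
set_option linter.style.haveILetI false
universe u v v' u1 u2
open CategoryTheory CategoryTheory.Limits AlgebraicGeometry TopologicalSpace

namespace Groth.Agent.Lib.T2H1.PushCoprod

/-- the right derived functors of an additive functor are additive. -/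
theorem rightDerived_additive {C : Type u1} [Category.{v} C] [Abelian C] [HasInjectiveResolutions C]
    {D : Type u2} [Category.{v'} D] [Abelian D] (F : C ⥤ D) [F.Additive] (n : ℕ) :
    (F.rightDerived n).Additive where
  map_add {X Y f g} := by
    let P := injectiveResolution X
    let Q := injectiveResolution Y
    have hφ := InjectiveResolution.desc_commutes f Q P
    have hψ := InjectiveResolution.desc_commutes g Q P
    have hs : P.ι ≫ (InjectiveResolution.desc f Q P + InjectiveResolution.desc g Q P) =
        (CochainComplex.single₀ C).map (f + g) ≫ Q.ι := by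
      rw [Preadditive.comp_add, hφ, hψ, Functor.map_add, Preadditive.add_comp]
    rw [F.rightDerived_map_eq n f _ hφ, F.rightDerived_map_eq n g _ hψ,
      F.rightDerived_map_eq n (f + g) _ hs, Functor.map_add, Preadditive.add_comp,
      Preadditive.comp_add]

variable {X S : Scheme.{u}} (f : X ⟶ S) [QuasiCompact f] [QuasiSeparated f]

/-- higher direct images of abelian sheaves along a qcqs morphism commute with coproducts -/
theorem preservesColimitsOfShape_discrete_RpushAb (p : ℕ) (ι : Type u) :
    PreservesColimitsOfShape (Discrete ι) (Coh.RpushAb f p) := by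
  haveI : PreservesColimitsOfShape (Finset (Discrete ι)) (Coh.RpushAb f p) :=
    Groth.Agent.Lib.Helper9.TopColim.preservesColimitsOfShape_RpushAb f p (Finset (Discrete ι))
  haveI : (Coh.RpushAb f p).Additive := rightDerived_additive _ p
  exact Groth.Agent.Lib.Helper9.Coprod.preservesColimitsOfShape_discrete (Coh.RpushAb f p)

/-- direct images of abelian sheaves along a qcqs morphism commute with coproducts -/
theorem preservesColimitsOfShape_discrete_pushAb (ι : Type u) :
    PreservesColimitsOfShape (Discrete ι) (Coh.pushAb f) := by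
  haveI := preservesColimitsOfShape_discrete_RpushAb f 0 ι
  haveI : PreservesFiniteLimits (Coh.pushAb f) :=
    Groth.Agent.Lib.Helper16.ClosedEmb.push_preservesFiniteLimits f.base
  exact preservesColimitsOfShape_of_natIso (Coh.pushAb f).rightDerivedZeroIsoSelf

/-- direct images of modules along a qcqs morphism commute with coproducts -/
theorem preservesColimitsOfShape_discrete_pushforward (ι : Type u) :
    PreservesColimitsOfShape (Discrete ι) (Scheme.Modules.pushforward f) := by
  haveI h1 : PreservesColimitsOfShape (Discrete ι) (SheafOfModules.toSheaf.{u} X.ringCatSheaf) :=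
    Groth.Agent.S0484.preservesColimitsOfShape_toSheaf (Opens.grothendieckTopology X)
      X.ringCatSheaf (Discrete ι)
  haveI h2 : PreservesColimitsOfShape (Discrete ι) (SheafOfModules.toSheaf.{u} S.ringCatSheaf) :=
    Groth.Agent.S0484.preservesColimitsOfShape_toSheaf (Opens.grothendieckTopology S)
      S.ringCatSheaf (Discrete ι)
  haveI h4 : PreservesColimitsOfShape (Discrete ι) (Coh.pushAb f) :=
    preservesColimitsOfShape_discrete_pushAb f ι
  haveI h5 := Groth.Agent.Lib.T2H4.ClosedAdj.toSheaf_reflectsIsomorphisms S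
  haveI h6 : ReflectsColimitsOfShape (Discrete ι) (SheafOfModules.toSheaf.{u} S.ringCatSheaf) :=
    reflectsColimitsOfShape_of_reflectsIsomorphisms
  haveI h7 : PreservesColimitsOfShape (Discrete ι)
      (Scheme.Modules.pushforward f ⋙ SheafOfModules.toSheaf.{u} S.ringCatSheaf) := by
    change PreservesColimitsOfShape (Discrete ι)
      (SheafOfModules.toSheaf.{u} X.ringCatSheaf ⋙ Coh.pushAb f)
    infer_instance
  exact @preservesColimitsOfShape_of_reflects_of_preserves _ _ _ _ (Discrete ι) _ _ _
    (Scheme.Modules.pushforward f) (SheafOfModules.toSheaf.{u} S.ringCatSheaf) h7 h6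

lemma isZero_sigma' {C : Type u1} [Category.{v} C] [HasZeroMorphisms C] {ι : Type*} (M : ι → C)
    [HasCoproduct M] (h : ∀ i, IsZero (M i)) : IsZero (∐ M) := by
  rw [IsZero.iff_id_eq_zero]
  exact Sigma.hom_ext _ _ (fun i => (h i).eq_of_src _ _)

instance isGrothendieckAbelian_modules (X : Scheme.{u}) : IsGrothendieckAbelian.{u} X.Modules :=
  Groth.Agent.S0484.result (Opens.grothendieckTopology X) X.ringCatSheaf

/-- coproducts of injective modules are acyclic for the direct image along a qcqs morphism -/
theorem isZero_Rpush_sigma_of_injective {ι : Type u} (M : ι → X.Modules)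
    (hM : ∀ i, Injective (M i)) (q : ℕ) (hq : 0 < q) :
    IsZero (((Scheme.Modules.pushforward f).rightDerived q).obj (∐ M)) := by
  obtain ⟨q, rfl⟩ : ∃ k, q = k + 1 := ⟨q - 1, by omega⟩
  obtain ⟨e1⟩ := Groth.Agent.Lib.Helper23.ModAbBridge.nonempty_toAb_Rpush_iso f (∐ M) (q + 1)
  haveI h1 : PreservesColimitsOfShape (Discrete ι) (SheafOfModules.toSheaf.{u} X.ringCatSheaf) :=
    Groth.Agent.S0484.preservesColimitsOfShape_toSheaf (Opens.grothendieckTopology X)
      X.ringCatSheaf (Discrete ι)
  haveI := preservesColimitsOfShape_discrete_RpushAb f (q + 1) ι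
  let e2 : Coh.toAb (∐ M) ≅ ∐ (fun i => Coh.toAb (M i)) :=
    PreservesCoproduct.iso (SheafOfModules.toSheaf.{u} X.ringCatSheaf) M
  let e3 : (Coh.RpushAb f (q + 1)).obj (∐ (fun i => Coh.toAb (M i))) ≅
      ∐ (fun i => (Coh.RpushAb f (q + 1)).obj (Coh.toAb (M i))) :=
    PreservesCoproduct.iso (Coh.RpushAb f (q + 1)) _
  have hz : IsZero (∐ (fun i => (Coh.RpushAb f (q + 1)).obj (Coh.toAb (M i)))) :=
    isZero_sigma' _ (fun i =>
      haveI := hM i
      Groth.Agent.Lib.Helper23.ModAbBridge.isZero_RpushAb_of_injective f (M i) q)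
  have hz' : IsZero (Coh.toAb ((Coh.Rpush f (q + 1)).obj (∐ M))) :=
    IsZero.of_iso hz (e1 ≪≫ (Coh.RpushAb f (q + 1)).mapIso e2 ≪≫ e3)
  rw [IsZero.iff_id_eq_zero]
  apply (SheafOfModules.toSheaf.{u} S.ringCatSheaf).map_injective
  exact (CategoryTheory.Functor.map_id _ _).trans
    (((IsZero.iff_id_eq_zero _).1 hz').trans
      (Functor.map_zero (SheafOfModules.toSheaf.{u} S.ringCatSheaf) _ _).symm)

end Groth.Agent.Lib.T2H1.PushCoprod
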