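import Mathlib
import Groth.Agent.Lib.Helper17KInjD5
import Groth.Agent.Lib.Helper17KInj12
import Groth.Agent.Lib.Helper17DBrown2
import Groth.Agent.Lib.Helper23Leray
import Groth.Agent.S0996

set_option autoImplicit false
universe w w₁ w₂ v v' u u'
open CategoryTheory CategoryTheory.Limits

namespace Groth.Agent.Lib.T2H1.RDerCoprod

open Groth.Agent.Lib.Helper17.KInj Groth.Agent.S12229 Groth.Agent.Lib.Helper23Bridge
  Groth.Agent.Lib.Helper23Acyclic

section Leray

variable {A : Type u} [Category.{v} A] [Abelian A] [IsGrothendieckAbelian.{w} A]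
  [HasDerivedCategory.{w₁} A]
  {B : Type u'} [Category.{v'} B] [Abelian B] [HasDerivedCategory.{w₂} B]
  (G : A ⥤ B) [G.Additive] [PreservesFiniteLimits G]
  (RF : DerivedCategory A ⥤ DerivedCategory B)
  (β : G.mapHomologicalComplex (ComplexShape.up ℤ) ⋙ DerivedCategory.Q ⟶
    DerivedCategory.Q ⋙ RF)
  [RF.IsRightDerivedFunctor β (HomologicalComplex.quasiIso A (ComplexShape.up ℤ))]

/-- Leray's acyclicity lemma for the unbounded total right derived functor: the unit is an
isomorphism at a bounded below complex with acyclic terms. -/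
theorem isIso_app_of_acyclic (C : CochainComplex A ℤ) (d : ℤ) [C.IsStrictlyGE d]
    (hC : ∀ (m : ℤ) (i : ℕ), 0 < i → IsZero ((G.rightDerived i).obj (C.X m))) :
    IsIso (β.app C) := by
  haveI : EnoughInjectives A := inferInstance
  let K : CochainComplex.Plus A := ⟨C, d, inferInstance⟩
  have h1 := Groth.Agent.S0996.result G K hC
  rw [isIso_unit_iff_isIso_τ] at h1
  obtain ⟨J, a, ha, hJ, hJd⟩ :=
    CochainComplex.Plus.modelCategoryQuillen.exists_quasiIso_injective C d
  have h2 : QuasiIso ((G.mapHomologicalComplex (ComplexShape.up ℤ)).map a) :=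
    (isIso_τ_iff_quasiIso G J d hJd hJ (K := K) (ObjectProperty.homMk a) ha).1 h1
  haveI : J.IsKInjective := CochainComplex.isKInjective_of_injective J d
  haveI := isIso_app_of_isKInjective.{w} G RF β J
  haveI : IsIso (DerivedCategory.Q.map a) := by
    rw [DerivedCategory.isIso_Q_map_iff_quasiIso]; exact ha
  haveI : IsIso (DerivedCategory.Q.map ((G.mapHomologicalComplex (ComplexShape.up ℤ)).map a)) := by
    rw [DerivedCategory.isIso_Q_map_iff_quasiIso]; exact h2
  have nat := β.naturality a
  dsimp at nat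
  have h3 : β.app C = DerivedCategory.Q.map ((G.mapHomologicalComplex (ComplexShape.up ℤ)).map a) ≫
      β.app J ≫ inv (RF.map (DerivedCategory.Q.map a)) := by
    rw [← Category.assoc, IsIso.eq_comp_inv]
    exact nat.symm
  rw [h3]
  infer_instance

end Leray

section Coprod

open Groth.Agent.Lib.Helper17.DBrown

variable {A : Type u} [Category.{v} A] [Abelian A] [IsGrothendieckAbelian.{v} A]
  [HasDerivedCategory.{w₁} A]
  {B : Type u'} [Category.{v} B] [Abelian B] [IsGrothendieckAbelian.{v} B]
  [HasDerivedCategory.{w₂} B]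

/-- `Q` sends any coproduct cofan of complexes to a coproduct cofan. -/
noncomputable def isColimitQCofan {T : Type v} {X : T → CochainComplex B ℤ} (c : Cofan X)
    (hc : IsColimit c) :
    IsColimit (Cofan.mk ((DerivedCategory.Q : _ ⥤ DerivedCategory B).obj c.pt)
      (fun t => DerivedCategory.Q.map (c.inj t))) := by
  let e : ∐ X ≅ c.pt := IsColimit.coconePointUniqueUpToIso (coproductIsCoproduct X) hc
  refine IsColimit.ofIsoColimit (isColimitQSigma X)
    (Cofan.ext (DerivedCategory.Q.mapIso e) (fun t => ?_))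
  dsimp
  rw [← Functor.map_comp]
  congr 1
  exact IsColimit.comp_coconePointUniqueUpToIso_hom (coproductIsCoproduct X) hc ⟨t⟩

variable (G : A ⥤ B) [G.Additive] [PreservesFiniteLimits G]
  (RF : DerivedCategory A ⥤ DerivedCategory B)
  (β : G.mapHomologicalComplex (ComplexShape.up ℤ) ⋙ DerivedCategory.Q ⟶
    DerivedCategory.Q ⋙ RF)
  [RF.IsRightDerivedFunctor β (HomologicalComplex.quasiIso A (ComplexShape.up ℤ))]
  {ι : Type v} [PreservesColimitsOfShape (Discrete ι) G]

omit [HasDerivedCategory.{w₁} A] in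
lemma isZero_sigma (M : ι → A) (h : ∀ i, IsZero (M i)) : IsZero (∐ M) := by
  rw [IsZero.iff_id_eq_zero]
  exact Sigma.hom_ext _ _ (fun i => (h i).eq_of_src _ _)

/-- degreewise description of a coproduct of complexes -/
noncomputable def sigmaXIso (I : ι → CochainComplex A ℤ) (p : ℤ) :
    (∐ I).X p ≅ ∐ (fun i => (I i).X p) :=
  PreservesCoproduct.iso (HomologicalComplex.eval A (ComplexShape.up ℤ) p) I

omit [HasDerivedCategory.{w₁} A] in
lemma isStrictlyGE_sigma (I : ι → CochainComplex A ℤ) (n : ℤ) (h : ∀ i, (I i).IsStrictlyGE n) :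
    (∐ I).IsStrictlyGE n := by
  rw [CochainComplex.isStrictlyGE_iff]
  intro p hp
  exact IsZero.of_iso (isZero_sigma _ (fun i => (I i).isZero_of_isStrictlyGE n p hp))
    (sigmaXIso I p)

instance : PreservesColimitsOfShape (Discrete ι) (G.mapHomologicalComplex (ComplexShape.up ℤ)) :=
  HomologicalComplex.preservesColimitsOfShape_of_eval _ (fun p =>
    inferInstanceAs (PreservesColimitsOfShape (Discrete ι)
      (HomologicalComplex.eval A (ComplexShape.up ℤ) p ⋙ G)))

include β in
/-- the total right derived functor sends the coproduct (in `D(A)`) of a family of bounded below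
complexes of injectives to a coproduct, provided `G` preserves coproducts and coproducts of
injectives are `G`-acyclic. -/
theorem nonempty_isColimit_of_injective
    (hac : ∀ (M : ι → A), (∀ i, Injective (M i)) → ∀ q : ℕ, 0 < q →
      IsZero ((G.rightDerived q).obj (∐ M)))
    (I : ι → CochainComplex A ℤ) (n : ℤ) (hI : ∀ i, (I i).IsStrictlyGE n)
    (hinj : ∀ i p, Injective ((I i).X p)) :
    Nonempty (IsColimit (Cofan.mk (RF.obj (DerivedCategory.Q.obj (∐ I)))
      (fun i => RF.map (DerivedCategory.Q.map (Sigma.ι I i))))) := by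
  haveI := isStrictlyGE_sigma I n hI
  haveI hS : IsIso (β.app (∐ I)) := by
    refine isIso_app_of_acyclic.{v} G RF β (∐ I) n (fun m q hq => ?_)
    exact IsZero.of_iso (hac _ (fun i => hinj i m) q hq) ((G.rightDerived q).mapIso (sigmaXIso I m))
  haveI hi : ∀ i, IsIso (β.app (I i)) := fun i => by
    haveI := hI i
    haveI : (I i).IsKInjective :=
      haveI := hinj i
      CochainComplex.isKInjective_of_injective (I i) n
    exact isIso_app_of_isKInjective.{v} G RF β (I i)
  -- the coproduct of the `Q (G• I_i)`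
  have h₁ : IsColimit (Cofan.mk (DerivedCategory.Q.obj
      ((G.mapHomologicalComplex (ComplexShape.up ℤ)).obj (∐ I)))
      (fun i => DerivedCategory.Q.map
        ((G.mapHomologicalComplex (ComplexShape.up ℤ)).map (Sigma.ι I i)))) :=
    isColimitQCofan (Cofan.mk _ (fun i =>
      (G.mapHomologicalComplex (ComplexShape.up ℤ)).map (Sigma.ι I i)))
      (isColimitCofanMkObjOfIsColimit (G.mapHomologicalComplex (ComplexShape.up ℤ)) I _
        (coproductIsCoproduct I))
  have nat : ∀ i, DerivedCategory.Q.map
      ((G.mapHomologicalComplex (ComplexShape.up ℤ)).map (Sigma.ι I i)) ≫ β.app (∐ I) =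
      β.app (I i) ≫ RF.map (DerivedCategory.Q.map (Sigma.ι I i)) := fun i =>
    β.naturality (Sigma.ι I i)
  refine ⟨mkCofanColimit _
    (fun s => inv (β.app (∐ I)) ≫ Cofan.IsColimit.desc h₁ (fun i => β.app (I i) ≫ s.inj i))
    (fun s i => ?_) (fun s m hm => ?_)⟩
  · dsimp
    have h' : RF.map (DerivedCategory.Q.map (Sigma.ι I i)) ≫ inv (β.app (∐ I)) =
        inv (β.app (I i)) ≫ DerivedCategory.Q.map
          ((G.mapHomologicalComplex (ComplexShape.up ℤ)).map (Sigma.ι I i)) := by
      rw [IsIso.comp_inv_eq, Category.assoc, IsIso.eq_inv_comp]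
      exact (nat i).symm
    rw [reassoc_of% h']
    have hf := Cofan.IsColimit.fac h₁ (fun i => β.app (I i) ≫ s.inj i) i
    dsimp at hf
    rw [hf, IsIso.inv_hom_id_assoc]
  · dsimp
    rw [IsIso.eq_inv_comp]
    refine Cofan.IsColimit.hom_ext h₁ _ _ (fun i => ?_)
    have hf := Cofan.IsColimit.fac h₁ (fun i => β.app (I i) ≫ s.inj i) i
    dsimp at hf ⊢
    rw [hf, reassoc_of% (nat i)]
    congr 1
    exact hm i

include β in
/-- the total right derived functor commutes with coproducts of uniformly bounded below families,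
provided `G` preserves coproducts and coproducts of injectives are `G`-acyclic. -/
theorem preservesColimit_of_isGE
    (hac : ∀ (M : ι → A), (∀ i, Injective (M i)) → ∀ q : ℕ, 0 < q →
      IsZero ((G.rightDerived q).obj (∐ M)))
    (K : ι → DerivedCategory A) (n : ℤ) (hK : ∀ i, (K i).IsGE n) :
    PreservesColimit (Discrete.functor K) RF := by
  have h1 : ∀ i, ∃ (I : CochainComplex A ℤ), I.IsStrictlyGE n ∧ (∀ p, Injective (I.X p)) ∧
      Nonempty (K i ≅ DerivedCategory.Q.obj I) := fun i => by
    haveI := hK i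
    obtain ⟨L, hL, ⟨eL⟩⟩ := (K i).exists_iso_Q_obj_of_isGE n
    obtain ⟨I, a, ha, hI, hIn⟩ :=
      CochainComplex.Plus.modelCategoryQuillen.exists_quasiIso_injective L n
    haveI : IsIso (DerivedCategory.Q.map a) := by
      rw [DerivedCategory.isIso_Q_map_iff_quasiIso]; exact ha
    exact ⟨I, hIn, hI, ⟨eL ≪≫ asIso (DerivedCategory.Q.map a)⟩⟩
  choose I hI hinj e using h1
  obtain ⟨h₂⟩ := nonempty_isColimit_of_injective G RF β hac I n hI hinj
  haveI : PreservesColimit (Discrete.functor (fun i => DerivedCategory.Q.obj (I i))) RF :=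
    preservesColimit_of_preserves_colimit_cocone (isColimitQSigma I)
      ((isColimitMapCoconeCofanMkEquiv _ _ _).symm h₂)
  exact preservesColimit_of_iso_diagram RF
    (Discrete.natIso (F := Discrete.functor (fun i => DerivedCategory.Q.obj (I i)))
      (G := Discrete.functor K) (fun i => ((e i.as).some).symm))

include β in
theorem isIso_sigmaDesc_of_isGE
    (hac : ∀ (M : ι → A), (∀ i, Injective (M i)) → ∀ q : ℕ, 0 < q →
      IsZero ((G.rightDerived q).obj (∐ M)))
    (K : ι → DerivedCategory A) (n : ℤ) (hK : ∀ i, (K i).IsGE n)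
    [HasCoproduct K] [HasCoproduct (fun i => RF.obj (K i))] :
    IsIso (Sigma.desc (fun i => RF.map (Sigma.ι K i))) := by
  haveI := preservesColimit_of_isGE G RF β hac K n hK
  exact inferInstanceAs (IsIso (sigmaComparison RF K))

end Coprod

end Groth.Agent.Lib.T2H1.RDerCoprod
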