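import Mathlib
import Groth.Agent.Lib.Helper17KInjD5
import Groth.Agent.Lib.Helper17KInj12

/-!
# Total right derived functors on `D(A)`, `A` Grothendieck abelian, are triangulated (helper1)

* `KInjCat A`: the homotopy category of K-injective complexes; `Φ A : KInjCat A ⥤ D(A)` is a triangulated
  equivalence (`E A`), using helper17's K-injective resolutions.
* `R' G`: the triangulated model `D(A) ≌ K-inj(A) ⥤ K(A) ⥤ K(B) ⥤ D(B)` of the total right derived functor of
  an additive functor `G : A ⥤ B`.
* `isoR' G RF βK : R' G ≅ RF` for any total right derived functor `RF` with unit `βK`.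
* `commShift G RF βK : RF.CommShift ℤ`, `isTriangulated G RF βK : RF.IsTriangulated` (transported).
-/

set_option autoImplicit false
universe w w₁ w₂ v v' u u'
open CategoryTheory CategoryTheory.Limits CategoryTheory.Pretriangulated

namespace Groth.Agent.Lib.T2H1.RDerTri

open Groth.Agent.Lib.Helper17.KInj

section

variable (A : Type u) [Category.{v} A] [Abelian A]

/-- K-injective objects of the homotopy category. -/
abbrev KI : ObjectProperty (HomotopyCategory A (ComplexShape.up ℤ)) :=
  (HomotopyCategory.subcategoryAcyclic A).rightOrthogonal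

instance : (KI A).IsTriangulated := inferInstance

/-- the homotopy category of K-injective complexes -/
abbrev KInjCat := (KI A).FullSubcategory

variable {A} in
lemma isKInjective_as (X : KInjCat A) : CochainComplex.IsKInjective X.obj.as :=
  (CochainComplex.isKInjective_iff_rightOrthogonal X.obj.as).2 X.property

variable {A} in
/-- a K-injective complex as an object of `KInjCat A` -/
def KInjCat.of (I : CochainComplex A ℤ) [I.IsKInjective] : KInjCat A :=
  ⟨(HomotopyCategory.quotient A (ComplexShape.up ℤ)).obj I,
    (CochainComplex.isKInjective_iff_rightOrthogonal I).1 inferInstance⟩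

variable [HasDerivedCategory.{w₁} A]

/-- `K-inj(A) ⥤ D(A)` -/
noncomputable abbrev Φ : KInjCat A ⥤ DerivedCategory A := (KI A).ι ⋙ DerivedCategory.Qh

noncomputable instance : (Φ A).CommShift ℤ := inferInstance
instance : (Φ A).IsTriangulated := inferInstance

instance : (Φ A).Full where
  map_surjective {X Y} f := by
    haveI := isKInjective_as Y
    obtain ⟨g, hg⟩ := (CochainComplex.IsKInjective.Qh_map_bijective X.obj Y.obj.as).surjective f
    exact ⟨ObjectProperty.homMk g, hg⟩

instance : (Φ A).Faithful where
  map_injective {X Y} f g h := by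
    haveI := isKInjective_as Y
    apply ObjectProperty.hom_ext
    exact (CochainComplex.IsKInjective.Qh_map_bijective X.obj Y.obj.as).injective h

end

section

variable (A : Type u) [Category.{v} A] [Abelian A] [IsGrothendieckAbelian.{w} A]
  [HasDerivedCategory.{w₁} A]

instance : (Φ A).EssSurj where
  mem_essImage K := by
    let M := DerivedCategory.Q.objPreimage K
    obtain ⟨I, f, hI, hf, -, -⟩ := exists_kInjective_resolution.{w} A M
    haveI := hI
    haveI := hf
    haveI : IsIso (DerivedCategory.Q.map f) := by
      rw [DerivedCategory.isIso_Q_map_iff_quasiIso]; infer_instance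
    exact ⟨KInjCat.of I, ⟨(DerivedCategory.quotientCompQhIso A).app I ≪≫
      (asIso (DerivedCategory.Q.map f)).symm ≪≫ DerivedCategory.Q.objObjPreimageIso K⟩⟩

instance : (Φ A).IsEquivalence where

/-- the equivalence `K-inj(A) ≌ D(A)` -/
noncomputable def E : KInjCat A ≌ DerivedCategory A := (Φ A).asEquivalence

noncomputable instance : (E.{w} A).functor.CommShift ℤ := inferInstanceAs ((Φ A).CommShift ℤ)
instance : (E.{w} A).functor.IsTriangulated := inferInstanceAs (Φ A).IsTriangulated

noncomputable instance : (E.{w} A).inverse.CommShift ℤ := (E.{w} A).commShiftInverse ℤ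

instance : (E.{w} A).CommShift ℤ := (E.{w} A).commShift_of_functor ℤ

instance : (E.{w} A).inverse.IsTriangulated :=
  (E.{w} A).toAdjunction.isTriangulated_rightAdjoint

end

section

variable {A : Type u} [Category.{v} A] [Abelian A] [IsGrothendieckAbelian.{w} A]
  [HasDerivedCategory.{w₁} A]
  {B : Type u'} [Category.{v'} B] [Abelian B] [HasDerivedCategory.{w₂} B]
  (G : A ⥤ B) [G.Additive]

/-- the triangulated model of the total right derived functor of `G`:
resolve by a K-injective complex, apply `G` termwise, localize. -/
noncomputable def R' : DerivedCategory A ⥤ DerivedCategory B :=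
  (E.{w} A).inverse ⋙ (KI A).ι ⋙ G.mapHomotopyCategory (ComplexShape.up ℤ) ⋙ DerivedCategory.Qh

noncomputable instance : (R'.{w} G).CommShift ℤ := by
  unfold R'; infer_instance

instance : (R'.{w} G).IsTriangulated := by
  unfold R'; infer_instance

variable (RF : DerivedCategory A ⥤ DerivedCategory B)
  (βK : G.mapHomotopyCategory (ComplexShape.up ℤ) ⋙ DerivedCategory.Qh ⟶
    DerivedCategory.Qh ⋙ RF)
  [RF.IsRightDerivedFunctor βK (HomotopyCategory.quasiIso A (ComplexShape.up ℤ))]

include βK in
lemma isIso_app_quotient (I : CochainComplex A ℤ) [I.IsKInjective] :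
    IsIso (βK.app ((HomotopyCategory.quotient A (ComplexShape.up ℤ)).obj I)) := by
  have h : IsIso ((unitOfK G RF βK).app I) :=
    isIso_app_of_isKInjective.{w} G RF (unitOfK G RF βK) I
  have e : (unitOfK G RF βK).app I = (isoF₀ G).inv.app I ≫
      βK.app ((HomotopyCategory.quotient A (ComplexShape.up ℤ)).obj I) ≫
      RF.map ((DerivedCategory.quotientCompQhIso A).hom.app I) := by
    simp [unitOfK, γOfK]
  rw [e] at h
  haveI := h
  haveI : IsIso (βK.app ((HomotopyCategory.quotient A (ComplexShape.up ℤ)).obj I) ≫
      RF.map ((DerivedCategory.quotientCompQhIso A).hom.app I)) :=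
    IsIso.of_isIso_comp_left ((isoF₀ G).inv.app I) _
  exact IsIso.of_isIso_comp_right _ (RF.map ((DerivedCategory.quotientCompQhIso A).hom.app I))

include βK in
lemma isIso_app_KInj (X : KInjCat A) : IsIso (βK.app X.obj) := by
  haveI := isKInjective_as X
  exact isIso_app_quotient.{w} G RF βK X.obj.as

/-- the total right derived functor is isomorphic to its triangulated model. -/
noncomputable def isoR' : R'.{w} G ≅ RF :=
  NatIso.ofComponents (fun K =>
    (@asIso _ _ _ _ (βK.app ((E.{w} A).inverse.obj K).obj)
      (isIso_app_KInj.{w} G RF βK ((E.{w} A).inverse.obj K))) ≪≫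
      RF.mapIso ((E.{w} A).counitIso.app K))
    (fun {K K'} f => by
      dsimp [R']
      have h1 := βK.naturality ((KI A).ι.map ((E.{w} A).inverse.map f))
      have h2 := (E.{w} A).counitIso.hom.naturality f
      dsimp at h1 h2
      rw [reassoc_of% h1, Category.assoc, ← RF.map_comp, ← RF.map_comp]
      congr 2)

/-- the structure of functor commuting with shifts on a total right derived functor. -/
noncomputable def commShift : RF.CommShift ℤ :=
  Functor.CommShift.ofIso (isoR'.{w} G RF βK) ℤ

lemma commShift_isoR' :
    letI := commShift.{w} G RF βK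
    NatTrans.CommShift (isoR'.{w} G RF βK).hom ℤ :=
  Functor.CommShift.ofIso_compatibility (isoR'.{w} G RF βK) ℤ

/-- a total right derived functor (of a functor induced by an additive functor on a
Grothendieck abelian category) is a triangulated functor. -/
lemma isTriangulated :
    letI := commShift.{w} G RF βK
    RF.IsTriangulated := by
  letI := commShift.{w} G RF βK
  haveI := commShift_isoR'.{w} G RF βK
  exact Functor.isTriangulated_of_iso (isoR'.{w} G RF βK)

end

end Groth.Agent.Lib.T2H1.RDerTri
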