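import Mathlib

/-!
# The brutal truncation `σ_{≥ a}` of a cochain complex, with its inclusion

`sigmaGE K a` has `K.X i` in degrees `i ≥ a` and `0` below; `sigmaGEι K a : sigmaGE K a ⟶ K` is an
isomorphism on homology in degrees `> a` and an epimorphism on homology in degree `a`.
-/

set_option autoImplicit false
open CategoryTheory CategoryTheory.Limits ZeroObject

namespace Groth.Agent.Lib.T2H8.BrutalTrunc

variable {𝒜 : Type*} [Category 𝒜] [Abelian 𝒜] (K : CochainComplex 𝒜 ℤ) (a : ℤ)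

/-- the terms of the brutal truncation -/
noncomputable def sX (i : ℤ) : 𝒜 := if a ≤ i then K.X i else 0

/-- the inclusion in degree `i` -/
noncomputable def sι (i : ℤ) : sX K a i ⟶ K.X i :=
  if h : a ≤ i then eqToHom (if_pos h) else 0

/-- the projection in degree `i` -/
noncomputable def sπ (i : ℤ) : K.X i ⟶ sX K a i :=
  if h : a ≤ i then eqToHom (if_pos h).symm else 0

lemma isZero_sX (i : ℤ) (h : ¬ a ≤ i) : IsZero (sX K a i) := by
  unfold sX
  rw [if_neg h]
  exact isZero_zero _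

lemma sι_eq_zero (i : ℤ) (h : ¬ a ≤ i) : sι K a i = 0 := dif_neg h

@[reassoc (attr := simp)]
lemma sι_sπ (i : ℤ) : sι K a i ≫ sπ K a i = 𝟙 _ := by
  by_cases h : a ≤ i
  · simp [sι, sπ, h]
  · exact (isZero_sX K a i h).eq_of_src _ _

@[reassoc]
lemma sπ_sι (i : ℤ) (h : a ≤ i) : sπ K a i ≫ sι K a i = 𝟙 _ := by
  simp [sι, sπ, h]

lemma isIso_sι (i : ℤ) (h : a ≤ i) : IsIso (sι K a i) :=
  ⟨⟨sπ K a i, sι_sπ K a i, sπ_sι K a i h⟩⟩

/-- the brutal truncation `σ_{≥ a} K` -/
noncomputable def sigmaGE : CochainComplex 𝒜 ℤ where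
  X := sX K a
  d i j := sι K a i ≫ K.d i j ≫ sπ K a j
  shape i j hij := by rw [K.shape i j hij, zero_comp, comp_zero]
  d_comp_d' i j k _ _ := by
    by_cases h : a ≤ j
    · simp only [Category.assoc]
      rw [sπ_sι_assoc K a j h]
      simp
    · simp [sι_eq_zero K a j h]

/-- the inclusion `σ_{≥ a} K ⟶ K` -/
noncomputable def sigmaGEι : sigmaGE K a ⟶ K where
  f i := sι K a i
  comm' i j hij := by
    dsimp [sigmaGE]
    by_cases h : a ≤ j
    · simp [sπ_sι K a j h]
    · have hi : ¬ a ≤ i := by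
        have : i + 1 = j := hij
        omega
      simp [sι_eq_zero K a i hi]

lemma isZero_sigmaGE_X (i : ℤ) (h : i < a) : IsZero ((sigmaGE K a).X i) :=
  isZero_sX K a i (by omega)

/-- the terms of the truncation in degrees `≥ a` -/
noncomputable def sigmaGEXIso (i : ℤ) (h : a ≤ i) : (sigmaGE K a).X i ≅ K.X i where
  hom := sι K a i
  inv := sπ K a i
  hom_inv_id := sι_sπ K a i
  inv_hom_id := sπ_sι K a i h

lemma isIso_sigmaGEι_f (i : ℤ) (h : a ≤ i) : IsIso ((sigmaGEι K a).f i) := isIso_sι K a i h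

lemma quasiIsoAt_sigmaGEι (i : ℤ) (h : a < i) : QuasiIsoAt (sigmaGEι K a) i := by
  rw [quasiIsoAt_iff' (sigmaGEι K a) (i - 1) i (i + 1) (by simp) (by simp)]
  haveI : IsIso ((HomologicalComplex.shortComplexFunctor' 𝒜 (ComplexShape.up ℤ)
      (i - 1) i (i + 1)).map (sigmaGEι K a)).τ₁ := isIso_sι K a (i - 1) (by omega)
  haveI : IsIso ((HomologicalComplex.shortComplexFunctor' 𝒜 (ComplexShape.up ℤ)
      (i - 1) i (i + 1)).map (sigmaGEι K a)).τ₂ := isIso_sι K a i (by omega)
  haveI : IsIso ((HomologicalComplex.shortComplexFunctor' 𝒜 (ComplexShape.up ℤ)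
      (i - 1) i (i + 1)).map (sigmaGEι K a)).τ₃ := isIso_sι K a (i + 1) (by omega)
  haveI := ShortComplex.isIso_of_isIso ((HomologicalComplex.shortComplexFunctor' 𝒜
    (ComplexShape.up ℤ) (i - 1) i (i + 1)).map (sigmaGEι K a))
  infer_instance

lemma isIso_homologyMap_sigmaGEι (i : ℤ) (h : a < i) :
    IsIso (HomologicalComplex.homologyMap (sigmaGEι K a) i) :=
  (quasiIsoAt_iff_isIso_homologyMap _ _).1 (quasiIsoAt_sigmaGEι K a i h)

lemma epi_homologyMap_sigmaGEι : Epi (HomologicalComplex.homologyMap (sigmaGEι K a) a) := by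
  have h2 : IsIso ((HomologicalComplex.shortComplexFunctor 𝒜 (ComplexShape.up ℤ) a).map
      (sigmaGEι K a)).τ₂ := isIso_sι K a a le_rfl
  have h3 : Mono ((HomologicalComplex.shortComplexFunctor 𝒜 (ComplexShape.up ℤ) a).map
      (sigmaGEι K a)).τ₃ := by
    haveI : IsIso ((HomologicalComplex.shortComplexFunctor 𝒜 (ComplexShape.up ℤ) a).map
        (sigmaGEι K a)).τ₃ := isIso_sι K a _ (by simp)
    infer_instance
  haveI := ShortComplex.isIso_cyclesMap_of_isIso_of_mono' _ h2 h3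
  exact ShortComplex.epi_homologyMap_of_epi_cyclesMap' _ inferInstance

end Groth.Agent.Lib.T2H8.BrutalTrunc
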