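import Mathlib
import Groth.Agent.Lib.T2H8BrutalTrunc

/-!
# The sequence of brutal truncations `σ_{≥ -n} K` of a cochain complex and its colimit `K`
-/

set_option autoImplicit false
open CategoryTheory CategoryTheory.Limits

namespace Groth.Agent.Lib.T2H1.TruncSeq

open Groth.Agent.Lib.T2H8.BrutalTrunc

section EventuallyIso

variable {C : Type*} [Category C] {F : ℕ ⥤ C} (c : Cocone F)

/-- a cocone on a sequence whose legs are eventually isomorphisms is a colimit cocone. -/
noncomputable def isColimitOfEventuallyIso (N : ℕ) (h : ∀ n, N ≤ n → IsIso (c.ι.app n)) :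
    IsColimit c := by
  haveI := h N le_rfl
  have key : ∀ (s : Cocone F) (m : ℕ), N ≤ m → ∀ [IsIso (c.ι.app m)],
      inv (c.ι.app N) ≫ s.ι.app N = inv (c.ι.app m) ≫ s.ι.app m := by
    intro s m hm _
    rw [IsIso.inv_comp_eq, ← c.w (homOfLE hm), Category.assoc, IsIso.hom_inv_id_assoc, s.w]
  exact
  { desc := fun s => inv (c.ι.app N) ≫ s.ι.app N
    fac := fun s n => by
      haveI := h (max n N) (le_max_right _ _)
      rw [key s (max n N) (le_max_right _ _), ← c.w (homOfLE (le_max_left n N)), Category.assoc,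
        IsIso.hom_inv_id_assoc, s.w]
    uniq := fun s m hm => by
      rw [IsIso.eq_inv_comp, hm] }

end EventuallyIso

section Complexes

variable {𝒜 : Type*} [Category 𝒜] [Abelian 𝒜]

/-- a cocone on a sequence of complexes whose legs are eventually isomorphisms in each degree is a
colimit cocone. -/
noncomputable def isColimitOfEventuallyIsoF {F : ℕ ⥤ CochainComplex 𝒜 ℤ} (c : Cocone F)
    (h : ∀ i : ℤ, ∃ N : ℕ, ∀ n, N ≤ n → IsIso ((c.ι.app n).f i)) : IsColimit c :=
  HomologicalComplex.isColimitOfEval _ _ (fun i =>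
    isColimitOfEventuallyIso _ (h i).choose (fun n hn => (h i).choose_spec n hn))

variable (K : CochainComplex 𝒜 ℤ)

/-- a morphism to `K` from a complex which vanishes in degrees `< a` lifts to `σ_{≥ a} K`. -/
noncomputable def lift {M : CochainComplex 𝒜 ℤ} (a : ℤ) (φ : M ⟶ K)
    (hM : ∀ i, i < a → IsZero (M.X i)) : M ⟶ sigmaGE K a where
  f i := φ.f i ≫ sπ K a i
  comm' i j hij := by
    dsimp [sigmaGE]
    by_cases h : a ≤ i
    · rw [Category.assoc, sπ_sι_assoc K a i h, ← φ.comm_assoc]
    · exact (hM i (by omega)).eq_of_src _ _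

@[reassoc (attr := simp)]
lemma lift_ι {M : CochainComplex 𝒜 ℤ} (a : ℤ) (φ : M ⟶ K)
    (hM : ∀ i, i < a → IsZero (M.X i)) : lift K a φ hM ≫ sigmaGEι K a = φ := by
  ext i
  by_cases h : a ≤ i
  · show (φ.f i ≫ sπ K a i) ≫ sι K a i = φ.f i
    rw [Category.assoc, sπ_sι K a i h, Category.comp_id]
  · exact (hM i (by omega)).eq_of_src _ _

instance mono_sigmaGEι (a : ℤ) : Mono (sigmaGEι K a) :=
  HomologicalComplex.mono_of_mono_f _ (fun i => by
    haveI : IsSplitMono (sι K a i) := ⟨⟨⟨sπ K a i, sι_sπ K a i⟩⟩⟩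
    exact inferInstanceAs (Mono (sι K a i)))

/-- the sequence `σ_{≥ 0} K ⟶ σ_{≥ -1} K ⟶ σ_{≥ -2} K ⟶ ⋯` -/
noncomputable def truncSeq : ℕ ⥤ CochainComplex 𝒜 ℤ where
  obj n := sigmaGE K (-(n : ℤ))
  map {n m} f := lift K (-(m : ℤ)) (sigmaGEι K (-(n : ℤ))) (fun i hi =>
    isZero_sigmaGE_X K _ i (by have := leOfHom f; omega))
  map_id n := by rw [← cancel_mono (sigmaGEι K _), lift_ι, Category.id_comp]
  map_comp f g := by rw [← cancel_mono (sigmaGEι K _), Category.assoc, lift_ι, lift_ι, lift_ι]

/-- the cocone of the sequence of brutal truncations with vertex `K`. -/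
noncomputable def truncCocone : Cocone (truncSeq K) where
  pt := K
  ι :=
    { app := fun n => sigmaGEι K (-(n : ℤ))
      naturality := fun n m f => by
        dsimp [truncSeq]
        rw [Category.comp_id, lift_ι] }

lemma exists_isIso_truncCocone (i : ℤ) :
    ∃ N : ℕ, ∀ n, N ≤ n → IsIso (((truncCocone K).ι.app n).f i) :=
  ⟨(-i).toNat, fun n hn => isIso_sigmaGEι_f K _ i (by omega)⟩

/-- `K` is the colimit of its brutal truncations. -/
noncomputable def isColimitTruncCocone : IsColimit (truncCocone K) :=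
  isColimitOfEventuallyIsoF _ (exists_isIso_truncCocone K)

/-- the image of `K` under an additive functor is the colimit of the images of its brutal
truncations. -/
noncomputable def isColimitMapTruncCocone {ℬ : Type*} [Category ℬ] [Abelian ℬ] (G : 𝒜 ⥤ ℬ)
    [G.Additive] :
    IsColimit ((G.mapHomologicalComplex (ComplexShape.up ℤ)).mapCocone (truncCocone K)) :=
  isColimitOfEventuallyIsoF _ (fun i => by
    obtain ⟨N, hN⟩ := exists_isIso_truncCocone K i
    refine ⟨N, fun n hn => ?_⟩
    haveI := hN n hn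
    exact inferInstanceAs (IsIso (G.map (((truncCocone K).ι.app n).f i))))

instance isStrictlyGE_truncSeq (n : ℕ) : ((truncSeq K).obj n).IsStrictlyGE (-(n : ℤ)) := by
  rw [CochainComplex.isStrictlyGE_iff]
  intro i hi
  exact isZero_sigmaGE_X K _ i hi

/-- the terms of the truncations are zero or terms of `K`. -/
lemma truncSeq_X (n : ℕ) (i : ℤ) :
    IsZero (((truncSeq K).obj n).X i) ∨ Nonempty (((truncSeq K).obj n).X i ≅ K.X i) := by
  by_cases h : -(n : ℤ) ≤ i
  · exact Or.inr ⟨sigmaGEXIso K _ i h⟩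
  · exact Or.inl (isZero_sigmaGE_X K _ i (by omega))

end Complexes

end Groth.Agent.Lib.T2H1.TruncSeq
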