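import Mathlib
import Groth.Agent.Lib.T2H1TruncSeq
import Groth.Agent.Lib.T2H1HocolimHomology
import Groth.Agent.Lib.T2H1RDerTri
import Groth.Agent.Lib.T2H1RDerCoprod
import Groth.Agent.Lib.T2H1PushCoprod
import Groth.Agent.S0985

/-!
# The unit of a total right derived functor at an unbounded complex with acyclic terms
-/

set_option autoImplicit false
universe w₁ w₂ v u u'
open CategoryTheory CategoryTheory.Limits

namespace Groth.Agent.Lib.T2H1.AcyclicUnbdd

open Groth.Agent.Lib.T2H1.TruncSeq Groth.Agent.Lib.T2H1.HocolimHomology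
  Groth.Agent.Lib.Helper17.KInj Groth.Agent.Lib.T2H1.RDerTri Groth.Agent.Lib.T2H1.RDerCoprod
  Groth.Agent.Lib.T2H8.BrutalTrunc DerivedCategory

section

variable {A : Type u} [Category.{v} A] [Abelian A] [IsGrothendieckAbelian.{v} A]

lemma hasColimitsOfShape_discrete_nat : HasColimitsOfShape (Discrete ℕ) A :=
  hasColimitsOfShape_of_equivalence (Discrete.equivalence (Equiv.ulift.{v} (α := ℕ)))

end

variable {A : Type u} [Category.{v} A] [Abelian A] [IsGrothendieckAbelian.{v} A]
  [HasDerivedCategory.{w₁} A]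
  {B : Type u'} [Category.{v} B] [Abelian B] [IsGrothendieckAbelian.{v} B]
  [HasDerivedCategory.{w₂} B]
  (G : A ⥤ B) [G.Additive] [PreservesFiniteLimits G]
  (RF : DerivedCategory A ⥤ DerivedCategory B)
  (βK : G.mapHomotopyCategory (ComplexShape.up ℤ) ⋙ DerivedCategory.Qh ⟶
    DerivedCategory.Qh ⋙ RF)
  [RF.IsRightDerivedFunctor βK (HomotopyCategory.quasiIso A (ComplexShape.up ℤ))]

include βK in
/-- Leray for the truncations. -/
lemma isIso_unitOfK_app_truncSeq (K : CochainComplex A ℤ)
    (hK : ∀ (m : ℤ) (i : ℕ), 0 < i → IsZero ((G.rightDerived i).obj (K.X m))) (n : ℕ) :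
    IsIso ((unitOfK G RF βK).app ((truncSeq K).obj n)) := by
  refine isIso_app_of_acyclic.{v} G RF (unitOfK G RF βK) ((truncSeq K).obj n) (-(n : ℤ))
    (fun m i hi => ?_)
  haveI : (G.rightDerived i).Additive := Groth.Agent.Lib.T2H1.PushCoprod.rightDerived_additive G i
  rcases truncSeq_X K n m with h | ⟨⟨e⟩⟩
  · exact (G.rightDerived i).map_isZero h
  · exact (hK m i hi).of_iso ((G.rightDerived i).mapIso e)

/-- the unit of the total right derived functor is an isomorphism at an (unbounded) complex with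
acyclic terms, as soon as the derived functor commutes with the countable coproduct of the
brutal truncations of the complex (and of their shifts). -/
theorem isIso_unitOfK_app_of_acyclic (K : CochainComplex A ℤ)
    (hK : ∀ (m : ℤ) (i : ℕ), 0 < i → IsZero ((G.rightDerived i).obj (K.X m)))
    (h0 : PreservesColimit (Discrete.functor (fun n => (Q : _ ⥤ DerivedCategory A).obj
      ((truncSeq K).obj n))) RF)
    (h1 : PreservesColimit (Discrete.functor (fun n => ((Q : _ ⥤ DerivedCategory A).obj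
      ((truncSeq K).obj n))⟦(1 : ℤ)⟧)) RF) :
    IsIso ((unitOfK G RF βK).app K) := by
  haveI : HasColimitsOfShape ℕ A := Groth.Agent.Lib.Helper17.KInj.hasColimitsOfShape_nat.{v}
  haveI : HasExactColimitsOfShape ℕ A := Groth.Agent.Lib.Helper17.KInj.hasExactColimitsOfShape_nat.{v}
  haveI : HasColimitsOfShape ℕ B := Groth.Agent.Lib.Helper17.KInj.hasColimitsOfShape_nat.{v}
  haveI : HasExactColimitsOfShape ℕ B := Groth.Agent.Lib.Helper17.KInj.hasExactColimitsOfShape_nat.{v}
  haveI : HasColimitsOfShape (Discrete ℕ) A := hasColimitsOfShape_discrete_nat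
  haveI : HasColimitsOfShape (Discrete ℕ) B := hasColimitsOfShape_discrete_nat
  haveI := preservesColimitsOfShape_discrete_nat_Q (A := A)
  haveI := preservesColimitsOfShape_discrete_nat_Q (A := B)
  let L : ℕ ⥤ CochainComplex A ℤ := truncSeq K
  let L' : ℕ ⥤ CochainComplex B ℤ := L ⋙ G.mapHomologicalComplex (ComplexShape.up ℤ)
  haveI : HasCoproduct (fun n => (Q : _ ⥤ DerivedCategory A).obj (L.obj n)) :=
    Groth.Agent.Lib.Helper1.hasCoproduct_of_preserves Q L.obj
  haveI : HasCoproduct (fun n => (Q : _ ⥤ DerivedCategory B).obj (L'.obj n)) :=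
    Groth.Agent.Lib.Helper1.hasCoproduct_of_preserves Q L'.obj
  have hA := Groth.Agent.S0985.result L
  have hB := Groth.Agent.S0985.result L'
  let eA : colimit L ≅ K :=
    IsColimit.coconePointUniqueUpToIso (colimit.isColimit L) (isColimitTruncCocone K)
  have heA : ∀ n, colimit.ι L n ≫ eA.hom = sigmaGEι K (-(n : ℤ)) := fun n =>
    IsColimit.comp_coconePointUniqueUpToIso_hom (colimit.isColimit L) (isColimitTruncCocone K) n
  let eB : colimit L' ≅ (G.mapHomologicalComplex (ComplexShape.up ℤ)).obj K :=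
    IsColimit.coconePointUniqueUpToIso (colimit.isColimit L') (isColimitMapTruncCocone K G)
  have heB : ∀ n, colimit.ι L' n ≫ eB.hom =
      (G.mapHomologicalComplex (ComplexShape.up ℤ)).map (sigmaGEι K (-(n : ℤ))) := fun n =>
    IsColimit.comp_coconePointUniqueUpToIso_hom (colimit.isColimit L')
      (isColimitMapTruncCocone K G) n
  letI := commShift.{v} G RF βK
  haveI := isTriangulated.{v} G RF βK
  rw [DerivedCategory.isIso_iff]
  intro i
  let H := homologyFunctor B i
  haveI : PreservesColimitsOfShape (Discrete ℕ) H :=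
    preservesColimitsOfShape_discrete_nat_homologyFunctor i
  -- the `B`-side
  obtain ⟨e₁, he₁⟩ := exists_iso_colimit_of_isHocolim H
    (fun n => (Q : _ ⥤ DerivedCategory B).obj (L'.obj n))
    (fun n => Q.map (L'.map (homOfLE (Nat.le_succ n)))) _ _ hB
  -- the `A`-side
  haveI : PreservesColimit (Discrete.functor (fun n => (Q : _ ⥤ DerivedCategory A).obj
      (L.obj n))) RF := h0
  haveI h1' : PreservesColimit (Discrete.functor ((shiftFunctor (DerivedCategory A) (1 : ℤ)).obj ∘
      fun n => (Q : _ ⥤ DerivedCategory A).obj (L.obj n))) RF := h1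
  haveI : PreservesColimit (Discrete.functor (fun n => (Q : _ ⥤ DerivedCategory A).obj
      (L.obj n)) ⋙ shiftFunctor (DerivedCategory A) (1 : ℤ)) RF :=
    preservesColimit_of_iso_diagram _ (Discrete.compNatIsoDiscrete _ _).symm
  obtain ⟨e₂, he₂⟩ := exists_iso_colimit_of_isHocolim (RF ⋙ H)
    (fun n => (Q : _ ⥤ DerivedCategory A).obj (L.obj n))
    (fun n => Q.map (L.map (homOfLE (Nat.le_succ n)))) _ _ hA
  let β := unitOfK G RF βK
  let S₁ : ℕ ⥤ B := Functor.ofSequence
    (fun n => H.map ((Q : _ ⥤ DerivedCategory B).map (L'.map (homOfLE (Nat.le_succ n)))))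
  let S₂ : ℕ ⥤ B := Functor.ofSequence
    (fun n => (RF ⋙ H).map ((Q : _ ⥤ DerivedCategory A).map (L.map (homOfLE (Nat.le_succ n)))))
  let τ : S₁ ⟶ S₂ := NatTrans.ofSequence (fun n => H.map (β.app (L.obj n))) (fun n => by
    have nat := β.naturality (L.map (homOfLE (Nat.le_succ n)))
    have h2 : H.map (Q.map (L'.map (homOfLE (Nat.le_succ n)))) ≫ H.map (β.app (L.obj (n + 1))) =
        H.map (β.app (L.obj n)) ≫ H.map (RF.map (Q.map (L.map (homOfLE (Nat.le_succ n))))) := by
      rw [← H.map_comp, ← H.map_comp]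
      exact congrArg H.map nat
    dsimp only [S₁, S₂]
    rw [Functor.ofSequence_map_homOfLE_succ, Functor.ofSequence_map_homOfLE_succ]
    exact h2)
  haveI : ∀ n, IsIso (τ.app n) := fun n => by
    haveI := isIso_unitOfK_app_truncSeq G RF βK K hK n
    exact inferInstanceAs (IsIso (H.map (β.app (L.obj n))))
  haveI : IsIso τ := NatIso.isIso_of_isIso_app τ
  let w : S₁ ≅ S₂ := asIso τ
  have key : e₁.hom ≫ H.map (Q.map eB.hom) ≫ H.map (β.app K) =
      (HasColimit.isoOfNatIso w).hom ≫ e₂.hom ≫ H.map (RF.map (Q.map eA.hom)) := by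
    apply colimit.hom_ext
    intro n
    let ι₁ : H.obj (Q.obj (L'.obj n)) ⟶ colimit S₁ := colimit.ι S₁ n
    let ι₂ : H.obj (RF.obj (Q.obj (L.obj n))) ⟶ colimit S₂ := colimit.ι S₂ n
    have h₁ : ι₁ ≫ e₁.hom = H.map (Q.map (colimit.ι L' n)) := he₁ n
    have h₂ : ι₂ ≫ e₂.hom = H.map (RF.map (Q.map (colimit.ι L n))) := he₂ n
    have h₃ : ι₁ ≫ (HasColimit.isoOfNatIso w).hom = H.map (β.app (L.obj n)) ≫ ι₂ :=
      HasColimit.isoOfNatIso_ι_hom w n
    have nat := β.naturality (sigmaGEι K (-(n : ℤ)))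
    dsimp only [Functor.comp_map] at nat
    have e1 : H.map (Q.map (colimit.ι L' n)) ≫ H.map (Q.map eB.hom) ≫ H.map (β.app K) =
        H.map (β.app (L.obj n)) ≫ H.map (RF.map (Q.map (colimit.ι L n))) ≫
          H.map (RF.map (Q.map eA.hom)) := by
      rw [← H.map_comp_assoc, ← Q.map_comp, heB, ← H.map_comp, ← H.map_comp, ← RF.map_comp,
        ← Q.map_comp, heA, ← H.map_comp]
      exact congrArg H.map nat
    show ι₁ ≫ e₁.hom ≫ H.map (Q.map eB.hom) ≫ H.map (β.app K) =
      ι₁ ≫ (HasColimit.isoOfNatIso w).hom ≫ e₂.hom ≫ H.map (RF.map (Q.map eA.hom))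
    rw [reassoc_of% h₁, reassoc_of% h₃, reassoc_of% h₂]
    exact e1
  have hfin : H.map (β.app K) = inv (H.map (Q.map eB.hom)) ≫ e₁.inv ≫
      (HasColimit.isoOfNatIso w).hom ≫ e₂.hom ≫ H.map (RF.map (Q.map eA.hom)) := by
    rw [IsIso.eq_inv_comp, Iso.eq_inv_comp]
    exact key
  show IsIso (H.map (β.app K))
  rw [hfin]
  infer_instance

include βK in
/-- the same, for the unit on the level of homotopy categories. -/
theorem isIso_app_quotient_of_acyclic (K : CochainComplex A ℤ)
    (hK : ∀ (m : ℤ) (i : ℕ), 0 < i → IsZero ((G.rightDerived i).obj (K.X m)))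
    (h0 : PreservesColimit (Discrete.functor (fun n => (Q : _ ⥤ DerivedCategory A).obj
      ((truncSeq K).obj n))) RF)
    (h1 : PreservesColimit (Discrete.functor (fun n => ((Q : _ ⥤ DerivedCategory A).obj
      ((truncSeq K).obj n))⟦(1 : ℤ)⟧)) RF) :
    IsIso (βK.app ((HomotopyCategory.quotient A (ComplexShape.up ℤ)).obj K)) := by
  have h : IsIso ((unitOfK G RF βK).app K) := isIso_unitOfK_app_of_acyclic G RF βK K hK h0 h1
  have e : (unitOfK G RF βK).app K = (isoF₀ G).inv.app K ≫
      βK.app ((HomotopyCategory.quotient A (ComplexShape.up ℤ)).obj K) ≫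
      RF.map ((DerivedCategory.quotientCompQhIso A).hom.app K) := by
    simp [unitOfK, γOfK]
  rw [e] at h
  haveI := h
  haveI : IsIso (βK.app ((HomotopyCategory.quotient A (ComplexShape.up ℤ)).obj K) ≫
      RF.map ((DerivedCategory.quotientCompQhIso A).hom.app K)) :=
    IsIso.of_isIso_comp_left ((isoF₀ G).inv.app K) _
  exact IsIso.of_isIso_comp_right _ (RF.map ((DerivedCategory.quotientCompQhIso A).hom.app K))

end Groth.Agent.Lib.T2H1.AcyclicUnbdd
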