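import Mathlib
import Groth.Prelude.Def_AlgSpInf

/-!
# Gluing morphisms of fppf sheaves along covering families of charts (helper1)
-/

set_option autoImplicit false
universe w u
open CategoryTheory CategoryTheory.Limits AlgebraicGeometry Opposite
open AlgSp

namespace Groth.Agent.Lib.T2H1.Descend

variable {S : Scheme.{u}}

/-- maps from a representable sheaf agreeing on a covering sieve agree. -/
lemma hom_ext_of_sieve {X : AlgSp.Sp S} {Z : Over S} (x y : (AlgSp.yon S).obj Z ⟶ X)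
    (R : Sieve Z) (hR : R ∈ AlgSp.J S Z)
    (h : ∀ ⦃Z' : Over S⦄ (g : Z' ⟶ Z), R g → (AlgSp.yon S).map g ≫ x = (AlgSp.yon S).map g ≫ y) :
    x = y := by
  apply (AlgSp.J S).uliftYonedaEquiv.injective
  have hX : Presieve.IsSheaf (AlgSp.J S) X.obj := (isSheaf_iff_isSheaf_of_type _ _).1 X.property
  apply (hX R hR).isSeparatedFor.ext
  intro Z' g hg
  rw [(AlgSp.J S).uliftYonedaEquiv_naturality, (AlgSp.J S).uliftYonedaEquiv_naturality, h g hg]

/-- maps of sheaves agreeing on all scheme-valued points agree. -/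
lemma hom_ext_of_points {G X : AlgSp.Sp S} (l l' : G ⟶ X)
    (h : ∀ (Z : Over S) (t : (AlgSp.yon S).obj Z ⟶ G), t ≫ l = t ≫ l') : l = l' := by
  apply Sheaf.hom_ext
  ext Z s
  obtain ⟨Z⟩ := Z
  have := h Z ((AlgSp.J S).uliftYonedaEquiv.symm s)
  have h2 := congrArg (AlgSp.J S).uliftYonedaEquiv this
  rw [(AlgSp.J S).uliftYonedaEquiv_comp, (AlgSp.J S).uliftYonedaEquiv_comp,
    Equiv.apply_symm_apply] at h2
  exact h2

section Family

variable {G X : AlgSp.Sp S} {K : Type w} (V : K → Over S) (b : ∀ k, (AlgSp.yon S).obj (V k) ⟶ G)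

/-- the sieve of maps along which a point of `G` factors through one of the charts. -/
def chartSieve {Z : Over S} (t : (AlgSp.yon S).obj Z ⟶ G) : Sieve Z where
  arrows Z' g := ∃ (k : K) (v : Z' ⟶ V k), (AlgSp.yon S).map g ≫ t = (AlgSp.yon S).map v ≫ b k
  downward_closed := by
    rintro Z1 Z2 g ⟨k, v, h⟩ g'
    exact ⟨k, g' ≫ v, by
      rw [Functor.map_comp, Category.assoc, h, Functor.map_comp, Category.assoc]⟩

/-- the family of charts is a covering of `G`. -/
def IsCovFam : Prop :=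
  ∀ (Z : Over S) (t : (AlgSp.yon S).obj Z ⟶ G), chartSieve V b t ∈ AlgSp.J S Z

variable {V b}

lemma hom_ext_of_isCovFam (hc : IsCovFam V b) (l l' : G ⟶ X)
    (h : ∀ k, b k ≫ l = b k ≫ l') : l = l' := by
  refine hom_ext_of_points l l' (fun Z t => ?_)
  refine hom_ext_of_sieve _ _ _ (hc Z t) ?_
  rintro Z' g ⟨k, v, hv⟩
  rw [← Category.assoc, ← Category.assoc, hv, Category.assoc, Category.assoc, h k]


section Desc

variable (hc : IsCovFam V b) (l : ∀ k, (AlgSp.yon S).obj (V k) ⟶ X)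
  (hl : ∀ (Z : Over S) (k m : K) (v1 : Z ⟶ V k) (v2 : Z ⟶ V m),
    (AlgSp.yon S).map v1 ≫ b k = (AlgSp.yon S).map v2 ≫ b m →
      (AlgSp.yon S).map v1 ≫ l k = (AlgSp.yon S).map v2 ≫ l m)

/-- the local family attached to a point of `G`. -/
noncomputable def fam {Z : Over S} (t : (AlgSp.yon S).obj Z ⟶ G) :
    Presieve.FamilyOfElements X.obj (chartSieve V b t).arrows :=
  fun _ _ hg => (AlgSp.J S).uliftYonedaEquiv ((AlgSp.yon S).map hg.choose_spec.choose ≫ l hg.choose)

include hl in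
lemma fam_eq {Z : Over S} (t : (AlgSp.yon S).obj Z ⟶ G) {Z' : Over S} (g : Z' ⟶ Z)
    (hg : chartSieve V b t g) (k : K) (v : Z' ⟶ V k)
    (hv : (AlgSp.yon S).map g ≫ t = (AlgSp.yon S).map v ≫ b k) :
    fam (b := b) l t g hg = (AlgSp.J S).uliftYonedaEquiv ((AlgSp.yon S).map v ≫ l k) := by
  unfold fam
  congr 1
  exact hl _ _ _ _ _ (hg.choose_spec.choose_spec.symm.trans hv)

include hl in
lemma fam_compatible {Z : Over S} (t : (AlgSp.yon S).obj Z ⟶ G) : (fam (b := b) l t).Compatible := by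
  intro Y₁ Y₂ W g₁ g₂ f₁ f₂ h₁ h₂ e
  obtain ⟨k1, v1, hv1⟩ := h₁
  obtain ⟨k2, v2, hv2⟩ := h₂
  rw [fam_eq l hl t f₁ _ k1 v1 hv1, fam_eq l hl t f₂ _ k2 v2 hv2,
    (AlgSp.J S).uliftYonedaEquiv_naturality, (AlgSp.J S).uliftYonedaEquiv_naturality]
  congr 1
  rw [← Category.assoc, ← Category.assoc, ← Functor.map_comp, ← Functor.map_comp]
  apply hl
  rw [Functor.map_comp, Functor.map_comp, Category.assoc, Category.assoc, ← hv1, ← hv2,
    ← Category.assoc, ← Category.assoc, ← Functor.map_comp, ← Functor.map_comp, e]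

include hc hl in
/-- **descent of morphisms along a covering family of charts.** -/
theorem exists_desc_of_isCovFam : ∃ L : G ⟶ X, ∀ k, b k ≫ L = l k := by
  have hX : Presieve.IsSheaf (AlgSp.J S) X.obj := (isSheaf_iff_isSheaf_of_type _ _).1 X.property
  let am : ∀ {Z : Over S} (t : (AlgSp.yon S).obj Z ⟶ G), X.obj.obj (op Z) := fun {Z} t =>
    (hX _ (hc Z t)).amalgamate (fam (b := b) l t) (fam_compatible l hl t)
  have ham : ∀ {Z : Over S} (t : (AlgSp.yon S).obj Z ⟶ G) {Z' : Over S} (g : Z' ⟶ Z) (k : K)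
      (v : Z' ⟶ V k) (hv : (AlgSp.yon S).map g ≫ t = (AlgSp.yon S).map v ≫ b k),
      X.obj.map g.op (am t) = (AlgSp.J S).uliftYonedaEquiv ((AlgSp.yon S).map v ≫ l k) := by
    intro Z t Z' g k v hv
    have hg : chartSieve V b t g := ⟨k, v, hv⟩
    rw [← fam_eq l hl t g hg k v hv]
    exact (hX _ (hc Z t)).valid_glue (fam_compatible l hl t) g hg
  have hnat : ∀ {Z Z' : Over S} (φ : Z' ⟶ Z) (t : (AlgSp.yon S).obj Z ⟶ G),
      am ((AlgSp.yon S).map φ ≫ t) = X.obj.map φ.op (am t) := by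
    intro Z Z' φ t
    apply (hX _ (hc Z' ((AlgSp.yon S).map φ ≫ t))).isSeparatedFor.ext
    rintro W g ⟨k, v, hv⟩
    rw [ham _ g k v hv, ← FunctorToTypes.map_comp_apply, ← op_comp]
    rw [ham t (g ≫ φ) k v (by rw [Functor.map_comp, Category.assoc, hv])]
  let L : G ⟶ X := ⟨{
    app := fun Z => ↾fun s => am ((AlgSp.J S).uliftYonedaEquiv.symm s)
    naturality := by
      intro Z Z' φ
      ext s
      obtain ⟨Z⟩ := Z
      obtain ⟨Z'⟩ := Z'
      have := hnat φ.unop ((AlgSp.J S).uliftYonedaEquiv.symm s)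
      rw [(AlgSp.J S).uliftYonedaEquiv_symm_naturality_left] at this
      exact this }⟩
  refine ⟨L, fun k => ?_⟩
  apply (AlgSp.J S).uliftYonedaEquiv.injective
  rw [(AlgSp.J S).uliftYonedaEquiv_comp]
  change am ((AlgSp.J S).uliftYonedaEquiv.symm ((AlgSp.J S).uliftYonedaEquiv (b k))) = _
  rw [Equiv.symm_apply_apply]
  have := ham (b k) (𝟙 _) k (𝟙 _) rfl
  rw [op_id, FunctorToTypes.map_id_apply, CategoryTheory.Functor.map_id, Category.id_comp] at this
  exact this

end Desc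

end Family

end Groth.Agent.Lib.T2H1.Descend
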