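import Mathlib
import Groth.Prelude.Def_AlgSpInf
import Groth.Agent.Lib.T2H1Descend

/-!
# Affine étale charts of an algebraic space form a covering family (helper1)
-/

set_option autoImplicit false
universe u
open CategoryTheory CategoryTheory.Limits AlgebraicGeometry Opposite
open AlgSp

namespace Groth.Agent.Lib.T2H1.Descend

variable {S : Scheme.{u}}

/-- The sieve generated by a family whose underlying family of schemes is an fppf covering
is covering. -/
theorem generate_ofArrows_mem_J {U : Over S} {ι : Type u} (V : ι → Over S) (v : ∀ i, V i ⟶ U)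
    (hv : (Presieve.ofArrows (fun i ↦ (V i).left) fun i ↦ (v i).left) ∈
      Scheme.fppfPrecoverage U.left) :
    Sieve.generate (Presieve.ofArrows V v) ∈ AlgSp.J S U := by
  rw [GrothendieckTopology.mem_over_iff]
  refine GrothendieckTopology.superset_covering _ ?_
    (Precoverage.generate_mem_toGrothendieck hv)
  rintro W a ⟨W', a', b, ⟨i⟩, rfl⟩
  rw [Sieve.overEquiv_iff]
  refine ⟨V i, Over.homMk a' (by simp), v i, ⟨i⟩, ?_⟩
  apply Over.OverMorphism.ext
  simp

/-- an affine étale chart of a sheaf. -/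
structure AffChart (G : AlgSp.Sp S) where
  V : Over S
  β : (AlgSp.yon S).obj V ⟶ G
  aff : IsAffine V.left
  et : AlgSp.RepWith @Etale β

/-- the affine étale charts of an algebraic space cover it. -/
theorem isCovFam_affChart {G : AlgSp.Sp S} (hG : AlgSp.IsAlgSpace G) :
    IsCovFam (fun c : AffChart G => c.V) (fun c => c.β) := by
  intro Z t
  obtain ⟨U, p, hpe, hps⟩ := hG.atlas
  obtain ⟨Z', snd, fst', sq⟩ := hpe.1 t
  obtain ⟨fst, rfl⟩ := (AlgSp.yon S).map_surjective fst'
  haveI : Etale snd.left := hpe.2 _ _ snd sq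
  haveI : Surjective snd.left := hps.2 _ _ snd sq
  let 𝒰 := U.left.affineCover
  let 𝒲 := 𝒰.pullback₁ fst.left
  let W : 𝒲.I₀ → Over S := fun i => Over.mk (𝒲.f i ≫ snd.left ≫ Z.hom)
  let w : ∀ i, W i ⟶ Z := fun i => Over.homMk (𝒲.f i ≫ snd.left) (by simp [W])
  have hcov : Sieve.generate (Presieve.ofArrows W w) ∈ AlgSp.J S Z := by
    apply generate_ofArrows_mem_J
    exact (Scheme.Cover.mkOfCovers (P := @Flat ⊓ @LocallyOfFinitePresentation) 𝒲.I₀
      (fun i => 𝒲.X i) (fun i => 𝒲.f i ≫ snd.left) (fun z => by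
        obtain ⟨z', rfl⟩ := snd.left.surjective z
        obtain ⟨i, y, hy⟩ := Scheme.Cover.exists_eq 𝒲 z'
        exact ⟨i, y, by rw [Scheme.Hom.comp_apply, hy]⟩)
      (fun i => ⟨inferInstance, inferInstance⟩)).mem₀
  refine (AlgSp.J S).superset_covering ?_ hcov
  rw [Sieve.generate_le_iff]
  rintro _ _ ⟨i⟩
  let c : AffChart G :=
    { V := Over.mk (𝒰.f i ≫ U.hom)
      β := (AlgSp.yon S).map (Over.homMk (𝒰.f i) rfl : Over.mk (𝒰.f i ≫ U.hom) ⟶ U) ≫ p
      aff := inferInstanceAs (IsAffine (Spec _))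
      et := (AlgSp.RepWith @Etale).comp_mem _ _
        ((AlgSp.repWith_yon_map_iff @Etale _).2 (by
          change Etale (𝒰.f i)
          infer_instance)) hpe }
  refine ⟨c, Over.homMk (pullback.snd fst.left (𝒰.f i)) ?_, ?_⟩
  · change pullback.snd fst.left (𝒰.f i) ≫ 𝒰.f i ≫ U.hom = 𝒲.f i ≫ snd.left ≫ Z.hom
    rw [← Category.assoc, ← pullback.condition, Category.assoc, Over.w fst, ← Over.w snd]
    rfl
  · change (AlgSp.yon S).map (w i) ≫ t = _ ≫ (AlgSp.yon S).map _ ≫ p
    have hw : w i = (Over.homMk (𝒲.f i) (by simp [W]) : W i ⟶ Z') ≫ snd := by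
      apply Over.OverMorphism.ext
      simp [w]
    rw [hw, Functor.map_comp, Category.assoc, ← sq.w, ← Category.assoc, ← Category.assoc,
      ← Functor.map_comp, ← Functor.map_comp]
    congr 2
    apply Over.OverMorphism.ext
    simp only [Over.comp_left, Over.homMk_left]
    exact pullback.condition

end Groth.Agent.Lib.T2H1.Descend
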