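import Mathlib

/-!
# Flat descent of modules and algebras with a coaction (helper1)

For a flat `R`-algebra `R'`, an `R'`-module `N` with a counital coassociative coaction
`ρ : N → R' ⊗[R] N` is the base change of its submodule of invariants.
-/

set_option autoImplicit false
universe u

namespace Groth.Agent.Lib.T2H1.AffDescAlg

open TensorProduct

section Module

variable {R : Type*} [CommRing R] {R' : Type*} [CommRing R'] [Algebra R R'] [Module.Flat R R']
variable {N : Type*} [AddCommGroup N] [Module R N] [Module R' N] [IsScalarTower R R' N]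

/-- the difference of the coaction and the trivial coaction. -/
noncomputable def coDiff (ρ : N →ₗ[R'] R' ⊗[R] N) : N →ₗ[R] R' ⊗[R] N :=
  ρ.restrictScalars R - TensorProduct.mk R R' N 1

/-- the invariants of a coaction. -/
noncomputable def inv (ρ : N →ₗ[R'] R' ⊗[R] N) : Submodule R N := LinearMap.ker (coDiff ρ)

lemma mem_inv {ρ : N →ₗ[R'] R' ⊗[R] N} {n : N} : n ∈ inv ρ ↔ ρ n = 1 ⊗ₜ[R] n := by
  simp [inv, coDiff, sub_eq_zero]

/-- the canonical map from the base change of the invariants. -/
noncomputable def invMap (ρ : N →ₗ[R'] R' ⊗[R] N) : R' ⊗[R] inv ρ →ₗ[R'] N :=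
  (inv ρ).subtype.liftBaseChange R'

lemma invMap_tmul (ρ : N →ₗ[R'] R' ⊗[R] N) (r : R') (m : inv ρ) :
    invMap ρ (r ⊗ₜ m) = r • (m : N) := by
  simp [invMap]

lemma rho_invMap (ρ : N →ₗ[R'] R' ⊗[R] N) (y : R' ⊗[R] inv ρ) :
    ρ (invMap ρ y) = (inv ρ).subtype.lTensor R' y := by
  induction y using TensorProduct.induction_on with
  | zero => simp
  | tmul r m =>
    rw [invMap_tmul, map_smul, mem_inv.1 m.2, TensorProduct.smul_tmul', smul_eq_mul, mul_one]
    rfl
  | add a b ha hb => rw [map_add, map_add, ha, hb, map_add]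

theorem invMap_injective (ρ : N →ₗ[R'] R' ⊗[R] N) : Function.Injective (invMap ρ) := by
  have h1 : Function.Injective ((inv ρ).subtype.lTensor R') :=
    Module.Flat.lTensor_preserves_injective_linearMap _ (inv ρ).injective_subtype
  intro a b hab
  apply h1
  rw [← rho_invMap, ← rho_invMap, hab]

theorem invMap_surjective (ρ : N →ₗ[R'] R' ⊗[R] N)
    (hcounit : ∀ n, (LinearMap.id (R := R) (M := N)).liftBaseChange R' (ρ n) = n)
    (hcoassoc : ∀ n, (ρ.restrictScalars R).lTensor R' (ρ n) =
      (TensorProduct.mk R R' N 1).lTensor R' (ρ n)) :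
    Function.Surjective (invMap ρ) := by
  intro n
  have hex : Function.Exact ((inv ρ).subtype.lTensor R') ((coDiff ρ).lTensor R') :=
    Module.Flat.lTensor_exact R' (LinearMap.exact_subtype_ker_map (coDiff ρ))
  have h0 : (coDiff ρ).lTensor R' (ρ n) = 0 := by
    rw [coDiff, LinearMap.lTensor_sub, LinearMap.sub_apply, hcoassoc, sub_self]
  obtain ⟨y, hy⟩ := (hex (ρ n)).1 h0
  refine ⟨y, ?_⟩
  have h2 : ∀ z : R' ⊗[R] inv ρ, invMap ρ z =
      (LinearMap.id (R := R) (M := N)).liftBaseChange R' ((inv ρ).subtype.lTensor R' z) := by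
    intro z
    induction z using TensorProduct.induction_on with
    | zero => simp
    | tmul r m => simp [invMap_tmul]
    | add a b ha hb => rw [map_add, ha, hb, map_add, map_add]
  rw [h2, hy, hcounit]

theorem invMap_bijective (ρ : N →ₗ[R'] R' ⊗[R] N)
    (hcounit : ∀ n, (LinearMap.id (R := R) (M := N)).liftBaseChange R' (ρ n) = n)
    (hcoassoc : ∀ n, (ρ.restrictScalars R).lTensor R' (ρ n) =
      (TensorProduct.mk R R' N 1).lTensor R' (ρ n)) :
    Function.Bijective (invMap ρ) :=
  ⟨invMap_injective ρ, invMap_surjective ρ hcounit hcoassoc⟩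

end Module

section Alg

variable {R R' B' : Type u} [CommRing R] [CommRing R'] [CommRing B'] [Algebra R R']
  [Algebra R' B'] [Algebra R B'] [IsScalarTower R R' B'] [Module.Flat R R']

/-- the subalgebra of invariants of a coaction. -/
noncomputable def invAlg (ρ : B' →ₐ[R'] R' ⊗[R] B') : Subalgebra R B' :=
  AlgHom.equalizer (ρ.restrictScalars R) Algebra.TensorProduct.includeRight

lemma mem_invAlg {ρ : B' →ₐ[R'] R' ⊗[R] B'} {b : B'} : b ∈ invAlg ρ ↔ ρ b = 1 ⊗ₜ[R] b := by
  simp [invAlg, AlgHom.mem_equalizer]

/-- the base change of the invariants is the whole algebra. -/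
theorem isPushout_invAlg (ρ : B' →ₐ[R'] R' ⊗[R] B')
    (hcounit : ∀ b, Algebra.TensorProduct.productMap (IsScalarTower.toAlgHom R R' B')
      (AlgHom.id R B') (ρ b) = b)
    (hcoassoc : ∀ b, Algebra.TensorProduct.map (AlgHom.id R R') (ρ.restrictScalars R) (ρ b) =
      Algebra.TensorProduct.map (AlgHom.id R R') Algebra.TensorProduct.includeRight (ρ b)) :
    Algebra.IsPushout R R' (invAlg ρ) B' := by
  have hc1 : ∀ n, (LinearMap.id (R := R) (M := B')).liftBaseChange R' (ρ.toLinearMap n) = n := by
    intro n
    have hμ : ∀ z : R' ⊗[R] B', (LinearMap.id (R := R) (M := B')).liftBaseChange R' z =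
        Algebra.TensorProduct.productMap (IsScalarTower.toAlgHom R R' B') (AlgHom.id R B') z := by
      intro z
      induction z using TensorProduct.induction_on with
      | zero => simp
      | tmul r b => simp [Algebra.smul_def]
      | add a b ha hb => rw [map_add, ha, hb, map_add]
    rw [AlgHom.toLinearMap_apply, hμ, hcounit]
  have hc2 : ∀ n, (ρ.toLinearMap.restrictScalars R).lTensor R' (ρ.toLinearMap n) =
      (TensorProduct.mk R R' B' 1).lTensor R' (ρ.toLinearMap n) := by
    intro n
    have := hcoassoc n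
    have e1 : ∀ z, Algebra.TensorProduct.map (AlgHom.id R R') (ρ.restrictScalars R) z =
        (ρ.toLinearMap.restrictScalars R).lTensor R' z := by
      intro z
      induction z using TensorProduct.induction_on with
      | zero => simp
      | tmul r b => simp
      | add a b ha hb => rw [map_add, ha, hb, map_add]
    have e2 : ∀ z, Algebra.TensorProduct.map (AlgHom.id R R')
        (Algebra.TensorProduct.includeRight : B' →ₐ[R] R' ⊗[R] B') z =
        (TensorProduct.mk R R' B' 1).lTensor R' z := by
      intro z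
      induction z using TensorProduct.induction_on with
      | zero => simp
      | tmul r b => simp
      | add a b ha hb => rw [map_add, ha, hb, map_add]
    rw [AlgHom.toLinearMap_apply, ← e1, ← e2, this]
  have hbij := invMap_bijective ρ.toLinearMap hc1 hc2
  have hsame : (invAlg ρ : Set B') = (inv ρ.toLinearMap : Set B') := by
    ext b
    simp only [SetLike.mem_coe]
    rw [mem_invAlg, mem_inv]
    rfl
  constructor
  let ι : (invAlg ρ) →ₗ[R] inv ρ.toLinearMap :=
    { toFun := fun a => ⟨a.1, by
        have : a.1 ∈ (invAlg ρ : Set B') := a.2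
        rw [hsame] at this
        exact this⟩
      map_add' := fun _ _ => rfl
      map_smul' := fun _ _ => rfl }
  have hι : Function.Bijective ι := by
    constructor
    · intro a b hab
      exact Subtype.ext (congrArg (fun x : inv ρ.toLinearMap => (x : B')) hab)
    · intro m
      refine ⟨⟨m.1, ?_⟩, rfl⟩
      have : m.1 ∈ (inv ρ.toLinearMap : Set B') := m.2
      rw [← hsame] at this
      exact this
  let eι : (invAlg ρ) ≃ₗ[R] inv ρ.toLinearMap := LinearEquiv.ofBijective ι hι
  let e : R' ⊗[R] (invAlg ρ) ≃ₗ[R'] B' :=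
    (TensorProduct.AlgebraTensorModule.congr (LinearEquiv.refl R' R') eι).trans
      (LinearEquiv.ofBijective (invMap ρ.toLinearMap) hbij)
  refine IsBaseChange.of_equiv e (fun x => ?_)
  change invMap ρ.toLinearMap ((TensorProduct.AlgebraTensorModule.congr (LinearEquiv.refl R' R') eι)
    (1 ⊗ₜ x)) = _
  rw [TensorProduct.AlgebraTensorModule.congr_tmul]
  change invMap ρ.toLinearMap (1 ⊗ₜ ι x) = _
  rw [invMap_tmul, one_smul]
  rfl

end Alg

end Groth.Agent.Lib.T2H1.AffDescAlg
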