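import Mathlib
import Groth.Prelude.Def_AlgSp
import Groth.Agent.Lib.T2H1AffDescAlg

/-!
# Flat descent of affine morphisms: the affine core (helper1)
-/

set_option autoImplicit false
universe u
open CategoryTheory CategoryTheory.Limits AlgebraicGeometry Opposite TensorProduct
open AlgSp

namespace Groth.Agent.Lib.T2H1.AffDesc

open Groth.Agent.Lib.T2H1.AffDescAlg

variable {S : Scheme.{u}} {R : Type u} [CommRing R] (z : Spec (.of R) ⟶ S)

/-- the spectrum of an `R`-algebra as a scheme over `S`. -/
noncomputable abbrev ov (C : Type u) [CommRing C] [Algebra R C] : Over S :=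
  Over.mk (Spec.map (CommRingCat.ofHom (algebraMap R C)) ≫ z)

/-- the morphism over `S` induced by a homomorphism of `R`-algebras. -/
noncomputable def ovMap {C D : Type u} [CommRing C] [CommRing D] [Algebra R C] [Algebra R D]
    (g : C →ₐ[R] D) : ov z D ⟶ ov z C :=
  Over.homMk (Spec.map (CommRingCat.ofHom g.toRingHom)) (by
    change Spec.map _ ≫ Spec.map _ ≫ z = Spec.map _ ≫ z
    rw [← Category.assoc, ← Spec.map_comp, ← CommRingCat.ofHom_comp, AlgHom.toRingHom_eq_coe,
      AlgHom.comp_algebraMap])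

section Basic

variable {C D E : Type u} [CommRing C] [CommRing D] [CommRing E] [Algebra R C] [Algebra R D]
  [Algebra R E]

lemma ovMap_left (g : C →ₐ[R] D) :
    (ovMap z g).left = Spec.map (CommRingCat.ofHom g.toRingHom) := rfl

lemma ovMap_comp (g : C →ₐ[R] D) (h : D →ₐ[R] E) :
    ovMap z (h.comp g) = ovMap z h ≫ ovMap z g := by
  ext1
  change Spec.map _ = Spec.map _ ≫ Spec.map _
  rw [← Spec.map_comp, ← CommRingCat.ofHom_comp]
  rfl

lemma ovMap_id : ovMap z (AlgHom.id R C) = 𝟙 _ := by
  ext1
  change Spec.map _ = 𝟙 _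
  exact Spec.map_id _

lemma ovMap_injective {g h : C →ₐ[R] D} (e : ovMap z g = ovMap z h) : g = h := by
  have h1 := congrArg (fun m => m.left) e
  simp only [ovMap_left] at h1
  have h2 := Spec.map_injective h1
  have h3 : g.toRingHom = h.toRingHom := by
    have := congrArg CommRingCat.Hom.hom h2
    simpa using this
  exact AlgHom.ext (fun x => congrArg (fun f => f x) h3)

end Basic

section Core

variable {R' B' : Type u} [CommRing R'] [CommRing B'] [Algebra R R'] [Algebra R' B'] [Algebra R B']
  [IsScalarTower R R' B']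

/-- two homomorphisms of `R`-algebras out of `R` agree. -/
lemma algHom_self_ext {C : Type u} [CommRing C] [Algebra R C] (g h : R →ₐ[R] C) : g = h := by
  refine AlgHom.ext (fun r => ?_)
  have h1 := g.commutes r
  have h2 := h.commutes r
  rw [Algebra.algebraMap_self, RingHom.id_apply] at h1 h2
  exact h1.trans h2.symm

variable {F : AlgSp.Sp S} (ψ : F ⟶ (AlgSp.yon S).obj (ov z R))
  (a : (AlgSp.yon S).obj (ov z B') ⟶ F)
  (sq : IsPullback a ((AlgSp.yon S).map (ovMap z (IsScalarTower.toAlgHom R R' B'))) ψ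
    ((AlgSp.yon S).map (ovMap z (Algebra.ofId R R'))))

include sq in
/-- points of `Spec B'` are determined by their components in `F` and `Spec R'`. -/
lemma pt_ext {T : Over S} (m1 m2 : T ⟶ ov z B')
    (h1 : (AlgSp.yon S).map m1 ≫ a = (AlgSp.yon S).map m2 ≫ a)
    (h2 : m1 ≫ ovMap z (IsScalarTower.toAlgHom R R' B') =
      m2 ≫ ovMap z (IsScalarTower.toAlgHom R R' B')) : m1 = m2 := by
  apply (AlgSp.yon S).map_injective
  refine sq.hom_ext h1 ?_
  rw [← Functor.map_comp, ← Functor.map_comp, h2]

include sq in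
/-- the twisting coaction. -/
lemma exists_twist : ∃ ρ : B' →ₐ[R'] R' ⊗[R] B',
    (AlgSp.yon S).map (ovMap z (ρ.restrictScalars R)) ≫ a =
      (AlgSp.yon S).map (ovMap z (Algebra.TensorProduct.includeRight :
        B' →ₐ[R] R' ⊗[R] B')) ≫ a := by
  have hw : ((AlgSp.yon S).map (ovMap z (Algebra.TensorProduct.includeRight :
      B' →ₐ[R] R' ⊗[R] B')) ≫ a) ≫ ψ =
      (AlgSp.yon S).map (ovMap z (Algebra.TensorProduct.includeLeft :
        R' →ₐ[R] R' ⊗[R] B')) ≫ (AlgSp.yon S).map (ovMap z (Algebra.ofId R R')) := by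
    rw [Category.assoc, sq.w, ← Functor.map_comp, ← Functor.map_comp, ← Functor.map_comp,
      ← ovMap_comp, ← ovMap_comp, ← ovMap_comp]
    congr 2
    exact algHom_self_ext _ _
  obtain ⟨e, he⟩ := (AlgSp.yon S).map_surjective (sq.lift _ _ hw)
  have he1 : (AlgSp.yon S).map e ≫ a = (AlgSp.yon S).map (ovMap z
      (Algebra.TensorProduct.includeRight : B' →ₐ[R] R' ⊗[R] B')) ≫ a := by
    rw [he, sq.lift_fst]
  have he2 : e ≫ ovMap z (IsScalarTower.toAlgHom R R' B') =
      ovMap z (Algebra.TensorProduct.includeLeft : R' →ₐ[R] R' ⊗[R] B') := by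
    apply (AlgSp.yon S).map_injective
    rw [Functor.map_comp, he, sq.lift_snd]
  obtain ⟨ρ₀, hρ₀⟩ := Spec.map_surjective e.left
  have hcomm : ρ₀.hom.comp (algebraMap R' B') = algebraMap R' (R' ⊗[R] B') := by
    have h1 := congrArg (fun m => m.left) he2
    simp only [Over.comp_left] at h1
    rw [← hρ₀] at h1
    change Spec.map ρ₀ ≫ Spec.map _ = Spec.map _ at h1
    rw [← Spec.map_comp] at h1
    have h2 := congrArg CommRingCat.Hom.hom (Spec.map_injective h1)
    exact h2
  let ρ : B' →ₐ[R'] R' ⊗[R] B' :=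
    { ρ₀.hom with
      commutes' := fun r => congrArg (fun f => f r) hcomm }
  refine ⟨ρ, ?_⟩
  rw [← he1]
  congr 2
  ext1
  rw [← hρ₀]
  rfl

section Twist

variable (ρ : B' →ₐ[R'] R' ⊗[R] B')
  (hρ : (AlgSp.yon S).map (ovMap z (ρ.restrictScalars R)) ≫ a =
      (AlgSp.yon S).map (ovMap z (Algebra.TensorProduct.includeRight :
        B' →ₐ[R] R' ⊗[R] B')) ≫ a)

include hρ in
lemma twist_key {C : Type u} [CommRing C] [Algebra R C] (G : R' ⊗[R] B' →ₐ[R] C) :
    (AlgSp.yon S).map (ovMap z (G.comp (ρ.restrictScalars R))) ≫ a =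
      (AlgSp.yon S).map (ovMap z (G.comp (Algebra.TensorProduct.includeRight :
        B' →ₐ[R] R' ⊗[R] B'))) ≫ a := by
  rw [ovMap_comp, ovMap_comp, Functor.map_comp, Functor.map_comp, Category.assoc, Category.assoc,
    hρ]

lemma twist_comp_left :
    (ρ.restrictScalars R).comp (IsScalarTower.toAlgHom R R' B') =
      (Algebra.TensorProduct.includeLeft : R' →ₐ[R] R' ⊗[R] B') := by
  refine AlgHom.ext (fun r => ?_)
  have := ρ.commutes r
  simpa [Algebra.TensorProduct.algebraMap_apply] using this

include sq hρ in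
lemma twist_counit (b : B') :
    Algebra.TensorProduct.productMap (IsScalarTower.toAlgHom R R' B') (AlgHom.id R B') (ρ b) = b := by
  have h : (Algebra.TensorProduct.productMap (IsScalarTower.toAlgHom R R' B')
      (AlgHom.id R B')).comp (ρ.restrictScalars R) = AlgHom.id R B' := by
    apply ovMap_injective z
    refine pt_ext z ψ a sq _ _ ?_ ?_
    · rw [twist_key z a ρ hρ, Algebra.TensorProduct.productMap_right]
    · rw [← ovMap_comp, ← ovMap_comp, AlgHom.comp_assoc, twist_comp_left,
        Algebra.TensorProduct.productMap_left, AlgHom.id_comp]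
  exact congrArg (fun f => f b) h

include sq hρ in
lemma twist_coassoc (b : B') :
    Algebra.TensorProduct.map (AlgHom.id R R') (ρ.restrictScalars R) (ρ b) =
      Algebra.TensorProduct.map (AlgHom.id R R')
        (Algebra.TensorProduct.includeRight : B' →ₐ[R] R' ⊗[R] B') (ρ b) := by
  have e1 : (Algebra.TensorProduct.map (AlgHom.id R R') (ρ.restrictScalars R)).comp
      (Algebra.TensorProduct.includeRight : B' →ₐ[R] R' ⊗[R] B') =
      (Algebra.TensorProduct.includeRight : R' ⊗[R] B' →ₐ[R] R' ⊗[R] (R' ⊗[R] B')).comp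
        (ρ.restrictScalars R) := by
    refine AlgHom.ext (fun x => ?_)
    simp
  have e2 : (Algebra.TensorProduct.map (AlgHom.id R R')
      (Algebra.TensorProduct.includeRight : B' →ₐ[R] R' ⊗[R] B')).comp
      (Algebra.TensorProduct.includeRight : B' →ₐ[R] R' ⊗[R] B') =
      (Algebra.TensorProduct.includeRight : R' ⊗[R] B' →ₐ[R] R' ⊗[R] (R' ⊗[R] B')).comp
        (Algebra.TensorProduct.includeRight : B' →ₐ[R] R' ⊗[R] B') := by
    refine AlgHom.ext (fun x => ?_)
    simp
  have e3 : (Algebra.TensorProduct.map (AlgHom.id R R') (ρ.restrictScalars R)).comp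
      (Algebra.TensorProduct.includeLeft : R' →ₐ[R] R' ⊗[R] B') =
      (Algebra.TensorProduct.map (AlgHom.id R R')
        (Algebra.TensorProduct.includeRight : B' →ₐ[R] R' ⊗[R] B')).comp
      (Algebra.TensorProduct.includeLeft : R' →ₐ[R] R' ⊗[R] B') := by
    refine AlgHom.ext (fun x => ?_)
    simp
  have h : (Algebra.TensorProduct.map (AlgHom.id R R') (ρ.restrictScalars R)).comp
      (ρ.restrictScalars R) = (Algebra.TensorProduct.map (AlgHom.id R R')
        (Algebra.TensorProduct.includeRight : B' →ₐ[R] R' ⊗[R] B')).comp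
      (ρ.restrictScalars R) := by
    apply ovMap_injective z
    refine pt_ext z ψ a sq _ _ ?_ ?_
    · rw [twist_key z a ρ hρ, twist_key z a ρ hρ, e1, e2, twist_key z a ρ hρ]
    · rw [← ovMap_comp, ← ovMap_comp, AlgHom.comp_assoc, AlgHom.comp_assoc, twist_comp_left, e3]
  exact congrArg (fun f => f b) h

end Twist

include sq in
/-- **flat descent of an affine scheme, affine case**: the descended ring is the ring of
invariants of the twisting coaction. -/
theorem exists_subalgebra [Module.Flat R R'] :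
    ∃ A : Subalgebra R B',
      IsPullback (ovMap z A.val) (ovMap z (IsScalarTower.toAlgHom R R' B'))
        (ovMap z (Algebra.ofId R A)) (ovMap z (Algebra.ofId R R')) ∧
      ∀ (T : Over S) (v1 v2 : T ⟶ ov z B'),
        (AlgSp.yon S).map v1 ≫ a = (AlgSp.yon S).map v2 ≫ a →
          v1 ≫ ovMap z A.val = v2 ≫ ovMap z A.val := by
  obtain ⟨ρ, hρ⟩ := exists_twist z ψ a sq
  haveI hpo : Algebra.IsPushout R R' (invAlg ρ) B' :=
    isPushout_invAlg ρ (twist_counit z ψ a sq ρ hρ) (twist_coassoc z ψ a sq ρ hρ)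
  refine ⟨invAlg ρ, ?_, ?_⟩
  · have h1 := CommRingCat.isPushout_of_isPushout R R' (invAlg ρ) B'
    have h2 := (isPullback_SpecMap_of_isPushout _ _ _ _ h1).flip
    refine IsPullback.of_map (Over.forget S) ?_ h2
    ext1
    exact h2.w
  · intro T v1 v2 h
    have hT := isPullback_SpecMap_of_isPushout _ _ _ _
      (CommRingCat.isPushout_tensorProduct R R' B')
    have hwπ : ovMap z (IsScalarTower.toAlgHom R R' B') ≫ ovMap z (Algebra.ofId R R') =
        ovMap z (Algebra.ofId R B') := by
      rw [← ovMap_comp]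
      congr 1
      exact algHom_self_ext _ _
    have h3 : v1 ≫ ovMap z (Algebra.ofId R B') = v2 ≫ ovMap z (Algebra.ofId R B') := by
      apply (AlgSp.yon S).map_injective
      have h4 := congrArg (fun t => t ≫ ψ) h
      simp only [Category.assoc, sq.w] at h4
      rw [← hwπ, Functor.map_comp, Functor.map_comp, Functor.map_comp]
      exact h4
    have hcond : (v1 ≫ ovMap z (IsScalarTower.toAlgHom R R' B')).left ≫
        Spec.map (CommRingCat.ofHom (algebraMap R R')) =
        v2.left ≫ Spec.map (CommRingCat.ofHom (algebraMap R B')) := by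
      have h5 := congrArg (fun m => m.left) h3
      have h6 := congrArg (fun m => m.left) hwπ
      simp only [Over.comp_left] at h5 h6 ⊢
      rw [Category.assoc]
      change _ ≫ (ovMap z (IsScalarTower.toAlgHom R R' B')).left ≫
        (ovMap z (Algebra.ofId R R')).left = _
      rw [h6]
      exact h5
    let ml := hT.lift _ _ hcond
    have hml1 : ml ≫ Spec.map (CommRingCat.ofHom (Algebra.TensorProduct.includeLeft :
        R' →ₐ[R] R' ⊗[R] B').toRingHom) =
        (v1 ≫ ovMap z (IsScalarTower.toAlgHom R R' B')).left := hT.lift_fst _ _ hcond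
    have hml2 : ml ≫ Spec.map (CommRingCat.ofHom (Algebra.TensorProduct.includeRight :
        B' →ₐ[R] R' ⊗[R] B').toRingHom) = v2.left := hT.lift_snd _ _ hcond
    let m : T ⟶ ov z (R' ⊗[R] B') := Over.homMk ml (by
      have h7 := Over.w (ovMap z (Algebra.TensorProduct.includeRight : B' →ₐ[R] R' ⊗[R] B'))
      rw [← h7, ovMap_left, ← Category.assoc, hml2]
      exact Over.w v2)
    have hm1 : m ≫ ovMap z (Algebra.TensorProduct.includeLeft : R' →ₐ[R] R' ⊗[R] B') =
        v1 ≫ ovMap z (IsScalarTower.toAlgHom R R' B') := by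
      ext1
      exact hml1
    have hm2 : m ≫ ovMap z (Algebra.TensorProduct.includeRight : B' →ₐ[R] R' ⊗[R] B') = v2 := by
      ext1
      exact hml2
    have hm : m ≫ ovMap z (ρ.restrictScalars R) = v1 := by
      refine pt_ext z ψ a sq _ _ ?_ ?_
      · rw [Functor.map_comp, Category.assoc, hρ, ← Category.assoc, ← Functor.map_comp, hm2, h]
      · rw [Category.assoc, ← ovMap_comp, twist_comp_left, hm1]
    have heq : (ρ.restrictScalars R).comp (invAlg ρ).val =
        (Algebra.TensorProduct.includeRight : B' →ₐ[R] R' ⊗[R] B').comp (invAlg ρ).val := by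
      refine AlgHom.ext (fun x => ?_)
      exact mem_invAlg.1 x.2
    rw [← hm, Category.assoc, ← ovMap_comp, heq, ovMap_comp, ← Category.assoc, hm2]

end Core

end Groth.Agent.Lib.T2H1.AffDesc
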