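import Mathlib
import Groth.Prelude.Def_AlgSp
import Groth.Agent.Lib.Helper12MonoFactor

/-!
# Gluing factorizations through a monomorphism along fppf covering families (T2H1)
-/

set_option autoImplicit false
universe u
open CategoryTheory CategoryTheory.Limits AlgebraicGeometry Opposite
open AlgSp

namespace Groth.Agent.Lib.T2H1.MonoGlue

open Groth.Agent.S13210 Groth.Agent.Lib.Helper12.ZarGlue

variable {S : Scheme.{u}}

/-- a jointly surjective flat locally finitely presented family is a covering sieve. -/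
lemma ofArrows_mem {W : Over S} {κ : Type u} (Wk : κ → Over S) (c : ∀ k, Wk k ⟶ W)
    (hfl : ∀ k, Flat (c k).left) (hlfp : ∀ k, LocallyOfFinitePresentation (c k).left)
    (hsurj : ∀ w : W.left, ∃ k, w ∈ Set.range (c k).left) :
    Sieve.ofArrows Wk c ∈ AlgSp.J S W := by
  rw [GrothendieckTopology.mem_over_iff, Sieve.overEquiv_ofArrows]
  apply Precoverage.generate_mem_toGrothendieck
  rw [Scheme.fppfPrecoverage, Scheme.ofArrows_mem_precoverage_iff]
  exact ⟨hsurj, fun k => ⟨hfl k, hlfp k⟩⟩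

/-- factorizations through a monomorphism of sheaves glue along covering families of the
source. -/
theorem exists_factor_of_cover {G H : AlgSp.Sp S} (i : G ⟶ H) [Mono i] {W : Over S}
    (φ : (AlgSp.yon S).obj W ⟶ H) {κ : Type u} (Wk : κ → Over S) (c : ∀ k, Wk k ⟶ W)
    (hmem : Sieve.ofArrows Wk c ∈ AlgSp.J S W)
    (h : ∀ k, ∃ d : (AlgSp.yon S).obj (Wk k) ⟶ G, d ≫ i = (AlgSp.yon S).map (c k) ≫ φ) :
    ∃ d : (AlgSp.yon S).obj W ⟶ G, d ≫ i = φ := by
  choose d hd using h
  have hshG : Presieve.IsSheaf (AlgSp.J S) G.obj := (isSheaf_iff_isSheaf_of_type _ _).1 G.property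
  have hshH : Presieve.IsSheaf (AlgSp.J S) H.obj := (isSheaf_iff_isSheaf_of_type _ _).1 H.property
  have h1 := hshG.isSheafFor _ hmem
  rw [Presieve.isSheafFor_arrows_iff] at h1
  obtain ⟨t, ht, -⟩ := h1 (fun w => yEquiv _ G (d w)) (by
    intro w w' Z gi gj hg
    rw [map_yEquiv, map_yEquiv]
    congr 1
    rw [← cancel_mono i, Category.assoc, Category.assoc, hd, hd, ← Functor.map_comp_assoc,
      ← Functor.map_comp_assoc, hg])
  refine ⟨(yEquiv _ G).symm t, ?_⟩
  apply (yEquiv _ H).injective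
  refine (hshH.isSheafFor _ hmem).isSeparatedFor.ext ?_
  intro Y f hf
  obtain ⟨w⟩ := hf
  rw [map_yEquiv, map_yEquiv, ← hd, ← Category.assoc]
  congr 2
  apply (yEquiv _ G).injective
  rw [← map_yEquiv, Equiv.apply_symm_apply]
  exact ht w

/-- a morphism to an affine scheme whose ring map kills the kernel of a closed immersion factors
through it. -/
lemma exists_lift_of_ker_le {A B C : Scheme.{u}} (z : A ⟶ C) (q : B ⟶ C) [IsClosedImmersion z]
    [IsAffine C] (H : RingHom.ker z.appTop.hom ≤ RingHom.ker q.appTop.hom) :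
    ∃ l : B ⟶ A, l ≫ z = q := by
  have hle : z.ker ≤ q.ker := by
    rw [Scheme.ker_of_isAffine z, Scheme.ker_of_isAffine q]
    apply Scheme.IdealSheafData.le_of_isAffine
    simpa using H
  exact ⟨IsClosedImmersion.lift z q hle, IsClosedImmersion.lift_fac z q hle⟩

/-- a morphism of sheaves factors through a monomorphism as soon as all its `h_T`-points do. -/
theorem exists_factor_of_forall_yon {G H F : AlgSp.Sp S} (i : G ⟶ H) [Mono i] (φ : F ⟶ H)
    (h : ∀ (T : Over S) (t : (AlgSp.yon S).obj T ⟶ F),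
      ∃ d : (AlgSp.yon S).obj T ⟶ G, d ≫ i = t ≫ φ) : ∃ d : F ⟶ G, d ≫ i = φ := by
  have sq : IsPullback (pullback.fst φ i) (pullback.fst φ i) (𝟙 F) (𝟙 F) := by
    refine isPullback_of_yon rfl (fun T b c hbc => ?_)
    rw [Category.comp_id, Category.comp_id] at hbc
    subst hbc
    obtain ⟨d, hd⟩ := h T b
    refine ⟨pullback.lift b d hd.symm, ⟨pullback.lift_fst _ _ _, pullback.lift_fst _ _ _⟩, ?_⟩
    rintro a ⟨ha, -⟩
    rw [← cancel_mono (pullback.fst φ i), ha, pullback.lift_fst]
  haveI : IsIso (pullback.fst φ i) := sq.isIso_fst_of_isIso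
  refine ⟨inv (pullback.fst φ i) ≫ pullback.snd φ i, ?_⟩
  rw [Category.assoc, ← pullback.condition, IsIso.inv_hom_id_assoc]

end Groth.Agent.Lib.T2H1.MonoGlue
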