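import Mathlib
import Groth.Prelude.Def_AlgSp
import Groth.Agent.Lib.T2H1Descend
import Groth.Agent.Lib.T2H1MonoGlue

/-!
# fpqc descent of morphisms from an algebraic space to a scheme (helper1)

Let `F` be a sheaf with an etale atlas, and `a : h_{W''} ⟶ F` a base change of `h_π` for a flat
surjective quasi-compact morphism of schemes `π`.  Morphisms from `F` to a scheme are determined
by, and descend from, their composites with `a`.
-/

set_option autoImplicit false
universe u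
open CategoryTheory CategoryTheory.Limits AlgebraicGeometry Opposite
open AlgSp

namespace Groth.Agent.Lib.T2H1.FpqcMor

open Groth.Agent.Lib.T2H1.Descend

variable {S : Scheme.{u}}

/-- an etale surjective chart is a covering family. -/
theorem isCovFam_single {G : AlgSp.Sp S} {U : Over S} (p : (AlgSp.yon S).obj U ⟶ G)
    (hpe : AlgSp.RepWith @Etale p) (hps : AlgSp.RepWith @Surjective p) :
    IsCovFam (fun _ : PUnit.{u+1} => U) (fun _ => p) := by
  intro Z t
  obtain ⟨Z', snd, fst', sq⟩ := hpe.1 t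
  obtain ⟨fst, rfl⟩ := (AlgSp.yon S).map_surjective fst'
  haveI : Etale snd.left := hpe.2 _ _ snd sq
  haveI : Surjective snd.left := hps.2 _ _ snd sq
  have hcov : Sieve.ofArrows (fun _ : PUnit.{u+1} => Z') (fun _ => snd) ∈ AlgSp.J S Z :=
    Groth.Agent.Lib.T2H1.MonoGlue.ofArrows_mem _ _ (fun _ => inferInstance)
      (fun _ => inferInstance) (fun w => ⟨PUnit.unit, snd.left.surjective w⟩)
  refine (AlgSp.J S).superset_covering ?_ hcov
  rw [Sieve.ofArrows, Sieve.generate_le_iff]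
  rintro _ _ ⟨i⟩
  exact ⟨PUnit.unit, fst, sq.w.symm⟩

section

variable {F : AlgSp.Sp S} {Z Z'' W'' : Over S} (π : Z'' ⟶ Z)
  (w : W'' ⟶ Z'') (ψ : F ⟶ (AlgSp.yon S).obj Z) (a : (AlgSp.yon S).obj W'' ⟶ F)
  (sq : IsPullback a ((AlgSp.yon S).map w) ψ ((AlgSp.yon S).map π))

include sq in
/-- the base change of a chart of `F` along `a`. -/
lemma exists_chart_data (hfl : Flat π.left) (hs : Surjective π.left) (hqc : QuasiCompact π.left)
    {U : Over S} (u : (AlgSp.yon S).obj U ⟶ F) :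
    ∃ (U'' : Over S) (p₁ : U'' ⟶ U) (p₂ : U'' ⟶ W''), Flat p₁.left ∧ Surjective p₁.left ∧
      QuasiCompact p₁.left ∧
      IsPullback ((AlgSp.yon S).map p₂) ((AlgSp.yon S).map p₁) a u := by
  obtain ⟨t₀, ht₀⟩ := (AlgSp.yon S).map_surjective (u ≫ ψ)
  have sqU := IsPullback.of_hasPullback t₀ π
  have sqUl := sqU.map (Over.forget S)
  have hw : ((AlgSp.yon S).map (pullback.fst t₀ π) ≫ u) ≫ ψ =
      (AlgSp.yon S).map (pullback.snd t₀ π) ≫ (AlgSp.yon S).map π := by
    rw [Category.assoc, ← ht₀, ← Functor.map_comp, ← Functor.map_comp, pullback.condition]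
  obtain ⟨p₂, hp₂⟩ := (AlgSp.yon S).map_surjective (sq.lift _ _ hw)
  refine ⟨pullback t₀ π, pullback.fst t₀ π, p₂,
    MorphismProperty.of_isPullback (P := @Flat) sqUl.flip hfl,
    MorphismProperty.of_isPullback (P := @Surjective) sqUl.flip hs,
    MorphismProperty.of_isPullback (P := @QuasiCompact) sqUl.flip hqc, ?_⟩
  have h1 : (AlgSp.yon S).map p₂ ≫ a = (AlgSp.yon S).map (pullback.fst t₀ π) ≫ u := by
    rw [hp₂, sq.lift_fst]
  have h2 : (AlgSp.yon S).map p₂ ≫ (AlgSp.yon S).map w =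
      (AlgSp.yon S).map (pullback.snd t₀ π) := by
    rw [hp₂, sq.lift_snd]
  refine IsPullback.of_right ?_ h1 sq.flip
  rw [h2, ← ht₀]
  exact (sqU.map (AlgSp.yon S)).flip

include sq in
/-- **uniqueness**: morphisms to a scheme agreeing after `a` agree. -/
theorem hom_ext_of_fpqc (hF : AlgSp.IsAlgSpace F) (hfl : Flat π.left) (hs : Surjective π.left)
    (hqc : QuasiCompact π.left) {X : Over S} (l l' : F ⟶ (AlgSp.yon S).obj X)
    (h : a ≫ l = a ≫ l') : l = l' := by
  obtain ⟨U, u, hue, hus⟩ := hF.atlas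
  refine hom_ext_of_isCovFam (isCovFam_single u hue hus) l l' (fun _ => ?_)
  obtain ⟨U'', p₁, p₂, hp1, hp2, hp3, sqU⟩ := exists_chart_data π w ψ a sq hfl hs hqc u
  obtain ⟨d, hd⟩ := (AlgSp.yon S).map_surjective (u ≫ l)
  obtain ⟨d', hd'⟩ := (AlgSp.yon S).map_surjective (u ≫ l')
  change u ≫ l = u ≫ l'
  rw [← hd, ← hd']
  congr 1
  have h1 : p₁ ≫ d = p₁ ≫ d' := by
    apply (AlgSp.yon S).map_injective
    rw [Functor.map_comp, Functor.map_comp, hd, hd', ← Category.assoc, ← Category.assoc, ← sqU.w,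
      Category.assoc, Category.assoc, h]
  ext1
  have h2 := congrArg (fun m => m.left) h1
  simp only [Over.comp_left] at h2
  haveI := hp1
  haveI := hp2
  haveI := hp3
  exact (cancel_epi p₁.left).1 h2

include sq in
/-- **existence**: a morphism from `W''` to a scheme which is constant on the fibres of `a`
descends to `F`. -/
theorem exists_desc_of_fpqc (hF : AlgSp.IsAlgSpace F) (hfl : Flat π.left) (hs : Surjective π.left)
    (hqc : QuasiCompact π.left) {X : Over S} (c : W'' ⟶ X)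
    (hc : ∀ (T : Over S) (v1 v2 : T ⟶ W''),
      (AlgSp.yon S).map v1 ≫ a = (AlgSp.yon S).map v2 ≫ a → v1 ≫ c = v2 ≫ c) :
    ∃ l : F ⟶ (AlgSp.yon S).obj X, a ≫ l = (AlgSp.yon S).map c := by
  obtain ⟨U, u, hue, hus⟩ := hF.atlas
  obtain ⟨U'', p₁, p₂, hp1, hp2, hp3, sqU⟩ := exists_chart_data π w ψ a sq hfl hs hqc u
  haveI := hp1
  haveI := hp2
  haveI := hp3
  -- descend `p₂ ≫ c` along `p₁`
  have hdesc : ∀ {T : Scheme.{u}} (g₁ g₂ : T ⟶ U''.left), g₁ ≫ p₁.left = g₂ ≫ p₁.left →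
      g₁ ≫ (p₂ ≫ c).left = g₂ ≫ (p₂ ≫ c).left := by
    intro T g₁ g₂ hg
    let T' : Over S := Over.mk (g₁ ≫ U''.hom)
    let g₁' : T' ⟶ U'' := Over.homMk g₁ rfl
    have hg2 : g₂ ≫ U''.hom = g₁ ≫ U''.hom := by
      rw [← Over.w p₁, ← Category.assoc, ← hg, Category.assoc]
    let g₂' : T' ⟶ U'' := Over.homMk g₂ hg2
    have hg' : g₁' ≫ p₁ = g₂' ≫ p₁ := by
      ext1
      exact hg
    have h1 := hc T' (g₁' ≫ p₂) (g₂' ≫ p₂) (by
      rw [Functor.map_comp, Functor.map_comp, Category.assoc, Category.assoc, sqU.w,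
        ← Category.assoc, ← Category.assoc, ← Functor.map_comp, ← Functor.map_comp, hg'])
    have h2 := congrArg (fun m => m.left) h1
    simp only [Over.comp_left] at h2 ⊢
    exact h2
  let dl : U.left ⟶ X.left := EffectiveEpi.desc p₁.left (p₂ ≫ c).left hdesc
  have hdl : p₁.left ≫ dl = (p₂ ≫ c).left := EffectiveEpi.fac p₁.left _ hdesc
  have hdS : dl ≫ X.hom = U.hom := by
    rw [← cancel_epi p₁.left, ← Category.assoc, hdl, Over.w, Over.w]
  let d : U ⟶ X := Over.homMk dl hdS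
  have hd : p₁ ≫ d = p₂ ≫ c := by
    ext1
    exact hdl
  -- glue along the atlas
  have hcompat : ∀ (T : Over S) (k m : PUnit.{u+1}) (v1 v2 : T ⟶ U),
      (AlgSp.yon S).map v1 ≫ u = (AlgSp.yon S).map v2 ≫ u →
        (AlgSp.yon S).map v1 ≫ (AlgSp.yon S).map d = (AlgSp.yon S).map v2 ≫ (AlgSp.yon S).map d := by
    intro T _ _ v1 v2 hv
    obtain ⟨T'', r₁, r₂, hr1, hr2, hr3, sqT⟩ :=
      exists_chart_data π w ψ a sq hfl hs hqc ((AlgSp.yon S).map v1 ≫ u)
    haveI := hr1
    haveI := hr2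
    haveI := hr3
    -- the two lifts to `U''`
    obtain ⟨v1'', hv1⟩ := (AlgSp.yon S).map_surjective (sqU.lift ((AlgSp.yon S).map r₂)
      ((AlgSp.yon S).map (r₁ ≫ v1)) (by rw [sqT.w, Functor.map_comp, Category.assoc]))
    obtain ⟨v2'', hv2⟩ := (AlgSp.yon S).map_surjective (sqU.lift ((AlgSp.yon S).map r₂)
      ((AlgSp.yon S).map (r₁ ≫ v2)) (by rw [sqT.w, Functor.map_comp, Category.assoc, hv]))
    have e1 : v1'' ≫ p₁ = r₁ ≫ v1 := by
      apply (AlgSp.yon S).map_injective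
      rw [Functor.map_comp, hv1, sqU.lift_snd]
    have e2 : v2'' ≫ p₁ = r₁ ≫ v2 := by
      apply (AlgSp.yon S).map_injective
      rw [Functor.map_comp, hv2, sqU.lift_snd]
    have e3 : v1'' ≫ p₂ = r₂ := by
      apply (AlgSp.yon S).map_injective
      rw [Functor.map_comp, hv1, sqU.lift_fst]
    have e4 : v2'' ≫ p₂ = r₂ := by
      apply (AlgSp.yon S).map_injective
      rw [Functor.map_comp, hv2, sqU.lift_fst]
    have h1 : r₁ ≫ v1 ≫ d = r₁ ≫ v2 ≫ d := by
      rw [← Category.assoc, ← e1, ← Category.assoc, ← e2, Category.assoc, Category.assoc, hd,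
        ← Category.assoc, ← Category.assoc, e3, e4]
    rw [← Functor.map_comp, ← Functor.map_comp]
    congr 1
    ext1
    have h2 := congrArg (fun m => m.left) h1
    simp only [Over.comp_left] at h2 ⊢
    exact (cancel_epi r₁.left).1 h2
  obtain ⟨l, hl⟩ := exists_desc_of_isCovFam (X := (AlgSp.yon S).obj X)
    (isCovFam_single u hue hus) (fun _ => (AlgSp.yon S).map d) hcompat
  refine ⟨l, ?_⟩
  obtain ⟨m, hm⟩ := (AlgSp.yon S).map_surjective (a ≫ l)
  rw [← hm]
  congr 1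
  have h1 : p₂ ≫ m = p₂ ≫ c := by
    apply (AlgSp.yon S).map_injective
    rw [Functor.map_comp, hm, ← Category.assoc, sqU.w, Category.assoc, hl PUnit.unit,
      ← Functor.map_comp, hd]
  haveI : Etale p₂.left := hue.2 _ _ p₂ sqU.flip
  haveI : Surjective p₂.left := hus.2 _ _ p₂ sqU.flip
  ext1
  have h2 := congrArg (fun m => m.left) h1
  simp only [Over.comp_left] at h2
  exact (cancel_epi p₂.left).1 h2

end

end Groth.Agent.Lib.T2H1.FpqcMor
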