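import Mathlib
import Groth.Prelude.Def_AlgSpCov
import Groth.Agent.Lib.T2H1AffDesc
import Groth.Agent.Lib.T2H1FpqcMor
import Groth.Agent.S10532
import Groth.Agent.S10534

/-!
# Flat descent of affine morphisms to an algebraic space (helper1)
-/

set_option autoImplicit false
universe u
open CategoryTheory CategoryTheory.Limits AlgebraicGeometry Opposite TensorProduct
open AlgSp

namespace Groth.Agent.Lib.T2H1.AffDesc

open Groth.Agent.Lib.T2H1.FpqcMor

variable {S : Scheme.{u}}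

section Literal

variable {R : Type u} [CommRing R] (z : Spec (.of R) ⟶ S)
  {R' B' : Type u} [CommRing R'] [CommRing B'] [Algebra R R'] [Algebra R' B'] [Algebra R B']
  [IsScalarTower R R' B']
  {F : AlgSp.Sp S} (ψ : F ⟶ (AlgSp.yon S).obj (ov z R))
  (a : (AlgSp.yon S).obj (ov z B') ⟶ F)
  (sq : IsPullback a ((AlgSp.yon S).map (ovMap z (IsScalarTower.toAlgHom R R' B'))) ψ
    ((AlgSp.yon S).map (ovMap z (Algebra.ofId R R'))))

include sq in
/-- flat descent of an affine scheme over an algebraic space, literal spectra. -/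
theorem exists_iso_of_literal (hF : AlgSp.IsAlgSpace F) [Module.Flat R R']
    (hs : Surjective (Spec.map (CommRingCat.ofHom (algebraMap R R')))) :
    ∃ (A : Subalgebra R B') (q : F ≅ (AlgSp.yon S).obj (ov z A)),
      q.hom ≫ (AlgSp.yon S).map (ovMap z (Algebra.ofId R A)) = ψ ∧
      a ≫ q.hom = (AlgSp.yon S).map (ovMap z A.val) ∧
      IsPullback (ovMap z A.val) (ovMap z (IsScalarTower.toAlgHom R R' B'))
        (ovMap z (Algebra.ofId R A)) (ovMap z (Algebra.ofId R R')) := by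
  obtain ⟨A, hpb, hcoeq⟩ := exists_subalgebra z ψ a sq
  have hfl : Flat (ovMap z (Algebra.ofId R R')).left := by
    change Flat (Spec.map (CommRingCat.ofHom (algebraMap R R')))
    rw [HasRingHomProperty.Spec_iff (P := @Flat)]
    exact (RingHom.flat_algebraMap_iff).2 inferInstance
  have hsj : Surjective (ovMap z (Algebra.ofId R R')).left := hs
  have hqc : QuasiCompact (ovMap z (Algebra.ofId R R')).left := by
    change QuasiCompact (Spec.map (CommRingCat.ofHom (algebraMap R R')))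
    infer_instance
  obtain ⟨l, hl⟩ := exists_desc_of_fpqc _ _ ψ a sq hF hfl hsj hqc (ovMap z A.val) hcoeq
  have hlψ : l ≫ (AlgSp.yon S).map (ovMap z (Algebra.ofId R A)) = ψ := by
    refine hom_ext_of_fpqc _ _ ψ a sq hF hfl hsj hqc _ _ ?_
    rw [← Category.assoc, hl, ← Functor.map_comp, hpb.w, Functor.map_comp, sq.w]
  -- `l` is an isomorphism
  have hpbl := hpb.map (Over.forget S)
  have hcfl : Flat (ovMap z A.val).left :=
    MorphismProperty.of_isPullback (P := @Flat) hpbl.flip hfl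
  have hcsj : Surjective (ovMap z A.val).left :=
    MorphismProperty.of_isPullback (P := @Surjective) hpbl.flip hsj
  haveI : IsAffine (ov z B').left := inferInstanceAs (IsAffine (Spec _))
  haveI : IsAffine (ov z A).left := inferInstanceAs (IsAffine (Spec _))
  have hcov := Groth.Agent.S10534.isFpqcCover_single (ovMap z A.val) hcfl hcsj
  have sqtop : IsPullback a (𝟙 ((AlgSp.yon S).obj (ov z B'))) l
      ((AlgSp.yon S).map (ovMap z A.val)) := by
    refine IsPullback.of_bot ?_ (by rw [hl, Category.id_comp]) (hpb.map (AlgSp.yon S))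
    rw [Category.id_comp, hlψ]
    exact sq
  have hiso : IsIso l :=
    (Groth.Agent.S10532.result S (fun _ : PUnit.{u+1} => (AlgSp.yon S).obj (ov z B'))
      (fun _ => (AlgSp.yon S).map (ovMap z A.val)) (AlgSp.IsAlgSpace.yon_obj _)
      (fun _ => AlgSp.IsAlgSpace.yon_obj _) hcov l hF
      (fun _ => (AlgSp.yon S).obj (ov z B')) (fun _ => 𝟙 _) (fun _ => a)
      (fun _ => AlgSp.IsAlgSpace.yon_obj _) (fun _ => sqtop)).2
      (fun _ => (inferInstance : IsIso (𝟙 ((AlgSp.yon S).obj (ov z B')))))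
  exact ⟨A, asIso l, hlψ, hl, hpb⟩

include sq in
/-- flat descent of an affine scheme over an algebraic space, for schemes isomorphic to
spectra. -/
theorem exists_iso_of_specIso (hF : AlgSp.IsAlgSpace F) [Module.Flat R R']
    (hs : Surjective (Spec.map (CommRingCat.ofHom (algebraMap R R'))))
    {Z Z'' W'' : Over S} (eZ : Z ≅ ov z R) (eZ'' : Z'' ≅ ov z R') (eW'' : W'' ≅ ov z B')
    (π : Z'' ⟶ Z) (w : W'' ⟶ Z'')
    (hπ : π ≫ eZ.hom = eZ''.hom ≫ ovMap z (Algebra.ofId R R'))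
    (hw : w ≫ eZ''.hom = eW''.hom ≫ ovMap z (IsScalarTower.toAlgHom R R' B'))
    (ψ' : F ⟶ (AlgSp.yon S).obj Z) (a' : (AlgSp.yon S).obj W'' ⟶ F)
    (hψ : ψ = ψ' ≫ (AlgSp.yon S).map eZ.hom) (ha : a = (AlgSp.yon S).map eW''.inv ≫ a') :
    ∃ (W : Over S) (i : W ⟶ Z) (c : W'' ⟶ W) (q : F ≅ (AlgSp.yon S).obj W),
      IsAffine W.left ∧ q.hom ≫ (AlgSp.yon S).map i = ψ' ∧ a' ≫ q.hom = (AlgSp.yon S).map c ∧
        IsPullback c w i π := by
  obtain ⟨A, q, h1, h2, hpb⟩ := exists_iso_of_literal z ψ a sq hF hs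
  refine ⟨ov z A, ovMap z (Algebra.ofId R A) ≫ eZ.inv, eW''.hom ≫ ovMap z A.val, q,
    inferInstanceAs (IsAffine (Spec _)), ?_, ?_, ?_⟩
  · rw [Functor.map_comp, ← Category.assoc, h1, hψ, Category.assoc, ← Functor.map_comp,
      Iso.hom_inv_id, CategoryTheory.Functor.map_id, Category.comp_id]
  · rw [Functor.map_comp, ← h2, ha, ← Category.assoc, ← Category.assoc, ← Functor.map_comp,
      Iso.hom_inv_id, CategoryTheory.Functor.map_id, Category.id_comp]
  · refine IsPullback.of_iso hpb eW''.symm (Iso.refl _) eZ''.symm eZ.symm ?_ ?_ ?_ ?_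
    · simp
    · rw [Iso.symm_hom, Iso.symm_hom, Iso.comp_inv_eq, Category.assoc, hw, Iso.inv_hom_id_assoc]
    · simp
    · rw [Iso.symm_hom, Iso.symm_hom, Iso.comp_inv_eq, Category.assoc, hπ, Iso.inv_hom_id_assoc]

end Literal

section General

variable {F : AlgSp.Sp S} {Z Z'' W'' : Over S}

/-- flat descent of an affine scheme over an algebraic space, for schemes with chosen
isomorphisms to spectra. -/
theorem exists_iso_of_ringIso (hF : AlgSp.IsAlgSpace F) {R₀ R₀' B₀' : CommRingCat.{u}}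
    (φ : R₀ ⟶ R₀') (β : R₀' ⟶ B₀') (hφ : φ.hom.Flat) (hφs : Surjective (Spec.map φ))
    (π : Z'' ⟶ Z) (w : W'' ⟶ Z'')
    (eZ : Z.left ≅ Spec R₀) (eZ'' : Z''.left ≅ Spec R₀') (eW'' : W''.left ≅ Spec B₀')
    (hπ : π.left ≫ eZ.hom = eZ''.hom ≫ Spec.map φ)
    (hw : w.left ≫ eZ''.hom = eW''.hom ≫ Spec.map β)
    (ψ : F ⟶ (AlgSp.yon S).obj Z) (a : (AlgSp.yon S).obj W'' ⟶ F)
    (sq : IsPullback a ((AlgSp.yon S).map w) ψ ((AlgSp.yon S).map π)) :
    ∃ (W : Over S) (i : W ⟶ Z) (c : W'' ⟶ W) (q : F ≅ (AlgSp.yon S).obj W),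
      IsAffine W.left ∧ q.hom ≫ (AlgSp.yon S).map i = ψ ∧ a ≫ q.hom = (AlgSp.yon S).map c ∧
        IsPullback c w i π := by
  letI : Algebra R₀ R₀' := φ.hom.toAlgebra
  letI : Algebra R₀' B₀' := β.hom.toAlgebra
  letI : Algebra R₀ B₀' := (β.hom.comp φ.hom).toAlgebra
  haveI : IsScalarTower R₀ R₀' B₀' := IsScalarTower.of_algebraMap_eq (fun _ => rfl)
  haveI : Module.Flat R₀ R₀' := hφ
  let z : Spec (.of R₀) ⟶ S := eZ.inv ≫ Z.hom
  let eZo : Z ≅ ov z R₀ := Over.isoMk eZ (by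
    change eZ.hom ≫ Spec.map (CommRingCat.ofHom (RingHom.id _)) ≫ eZ.inv ≫ Z.hom = Z.hom
    rw [CommRingCat.ofHom_id, Spec.map_id]
    erw [Category.id_comp]
    rw [Iso.hom_inv_id_assoc])
  let eZ''o : Z'' ≅ ov z R₀' := Over.isoMk eZ'' (by
    change eZ''.hom ≫ Spec.map φ ≫ eZ.inv ≫ Z.hom = Z''.hom
    rw [← Category.assoc, ← hπ, Category.assoc, Iso.hom_inv_id_assoc]
    exact Over.w π)
  let eW''o : W'' ≅ ov z B₀' := Over.isoMk eW'' (by
    change eW''.hom ≫ Spec.map (φ ≫ β) ≫ eZ.inv ≫ Z.hom = W''.hom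
    rw [Spec.map_comp, Category.assoc, ← Category.assoc, ← hw, Category.assoc, ← Category.assoc,
      ← Category.assoc, Category.assoc w.left, ← hπ, Category.assoc, Category.assoc,
      Iso.hom_inv_id_assoc, Over.w π]
    exact Over.w w)
  have hπo : π ≫ eZo.hom = eZ''o.hom ≫ ovMap z (Algebra.ofId R₀ R₀') := by
    ext1
    exact hπ
  have hwo : w ≫ eZ''o.hom = eW''o.hom ≫ ovMap z (IsScalarTower.toAlgHom R₀ R₀' B₀') := by
    ext1
    exact hw
  have sq₀ : IsPullback ((AlgSp.yon S).map eW''o.inv ≫ a)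
      ((AlgSp.yon S).map (ovMap z (IsScalarTower.toAlgHom R₀ R₀' B₀')))
      (ψ ≫ (AlgSp.yon S).map eZo.hom) ((AlgSp.yon S).map (ovMap z (Algebra.ofId R₀ R₀'))) := by
    refine IsPullback.of_iso sq ((AlgSp.yon S).mapIso eW''o) (Iso.refl _)
      ((AlgSp.yon S).mapIso eZ''o) ((AlgSp.yon S).mapIso eZo) ?_ ?_ ?_ ?_
    · simp
    · simp only [Functor.mapIso_hom, ← Functor.map_comp, hwo]
    · simp
    · simp only [Functor.mapIso_hom, ← Functor.map_comp, hπo]
  exact exists_iso_of_specIso z _ _ sq₀ hF hφs eZo eZ''o eW''o π w hπo hwo ψ a rfl rfl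

/-- **flat descent of affine morphisms to an algebraic space**: if `F ⟶ h_Z` with `Z` affine
becomes an affine scheme after a flat surjective base change `Z'' ⟶ Z` of affine schemes, then `F`
is an affine scheme. -/
theorem exists_iso_of_affine (hF : AlgSp.IsAlgSpace F) (hZ : IsAffine Z.left)
    (hZ'' : IsAffine Z''.left) (hW'' : IsAffine W''.left)
    (π : Z'' ⟶ Z) (hfl : Flat π.left) (hs : Surjective π.left) (w : W'' ⟶ Z'')
    (ψ : F ⟶ (AlgSp.yon S).obj Z) (a : (AlgSp.yon S).obj W'' ⟶ F)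
    (sq : IsPullback a ((AlgSp.yon S).map w) ψ ((AlgSp.yon S).map π)) :
    ∃ (W : Over S) (i : W ⟶ Z) (c : W'' ⟶ W) (q : F ≅ (AlgSp.yon S).obj W),
      IsAffine W.left ∧ q.hom ≫ (AlgSp.yon S).map i = ψ ∧ a ≫ q.hom = (AlgSp.yon S).map c ∧
        IsPullback c w i π := by
  haveI := hZ
  haveI := hZ''
  haveI := hW''
  have hφ : (π.left.appTop).hom.Flat := (HasRingHomProperty.iff_of_isAffine (P := @Flat)).1 hfl
  have hnat := Scheme.isoSpec_hom_naturality π.left
  have hφs : Surjective (Spec.map π.left.appTop) := by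
    have e : Spec.map π.left.appTop = Z''.left.isoSpec.inv ≫ π.left ≫ Z.left.isoSpec.hom := by
      rw [← hnat, Iso.inv_hom_id_assoc]
    rw [e]
    infer_instance
  exact exists_iso_of_ringIso hF π.left.appTop w.left.appTop hφ hφs π w Z.left.isoSpec
    Z''.left.isoSpec W''.left.isoSpec hnat.symm (Scheme.isoSpec_hom_naturality w.left).symm ψ a sq

end General

end Groth.Agent.Lib.T2H1.AffDesc
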