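import Mathlib
import Groth.Prelude.Def_AlgSpCov
import Groth.Agent.Lib.T2H1AffDesc2
import Groth.Agent.Lib.Helper12ZarGlue

/-!
# Flat descent of affine morphisms along standard fpqc coverings (helper1)
-/

set_option autoImplicit false
universe u
open CategoryTheory CategoryTheory.Limits AlgebraicGeometry Opposite
open AlgSp

namespace Groth.Agent.Lib.T2H1.AffDesc

variable {S : Scheme.{u}}

/-- **fpqc descent of affine morphisms into an affine scheme**: a morphism from an algebraic space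
to an affine scheme which becomes an affine scheme after base change to the members of a standard
fpqc covering is an affine scheme; properties which are Zariski local on the target and descend
along fpqc morphisms descend as well. -/
theorem exists_affine_of_standard_cover
    {P₀ : AlgSp.Sp S} (hP₀ : AlgSp.IsAlgSpace P₀) {Z : Over S} (hZ : IsAffine Z.left)
    (snd : P₀ ⟶ (AlgSp.yon S).obj Z)
    {ι : Type u} [Finite ι] (Wj : ι → Over S) (c : ∀ j, Wj j ⟶ Z)
    (hWa : ∀ j, IsAffine (Wj j).left)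
    (hfl : ∀ j, Flat (c j).left) (hsurj : ∀ z : Z.left, ∃ j, z ∈ Set.range (c j).left)
    (V : ι → Over S) (v : ∀ j, V j ⟶ Wj j) (a : ∀ j, (AlgSp.yon S).obj (V j) ⟶ P₀)
    (sqa : ∀ j, IsPullback (a j) ((AlgSp.yon S).map (v j)) snd ((AlgSp.yon S).map (c j)))
    (hVa : ∀ j, IsAffine (V j).left) :
    ∃ (W₀ : Over S) (i : W₀ ⟶ Z) (q : P₀ ≅ (AlgSp.yon S).obj W₀),
      IsAffine W₀.left ∧ q.hom ≫ (AlgSp.yon S).map i = snd ∧
      ∀ (P : MorphismProperty Scheme.{u}) [IsZariskiLocalAtTarget P]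
        [P.DescendsAlong (@Surjective ⊓ @Flat ⊓ @QuasiCompact : MorphismProperty Scheme.{u})],
        (∀ j, P (v j).left) → P i.left := by
  haveI := hZ
  haveI := hWa
  -- the coproduct of the members of the covering
  let Wl : Scheme.{u} := ∐ fun j => (Wj j).left
  let πl : Wl ⟶ Z.left := Sigma.desc fun j => (c j).left
  let W : Over S := Over.mk (πl ≫ Z.hom)
  let π : W ⟶ Z := Over.homMk πl rfl
  let ιj : ∀ j, Wj j ⟶ W := fun j => Over.homMk (Sigma.ι (fun j => (Wj j).left) j) (by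
    show Sigma.ι _ j ≫ πl ≫ Z.hom = (Wj j).hom
    rw [← Category.assoc, Sigma.ι_desc]
    exact Over.w (c j))
  have hιπ : ∀ j, ιj j ≫ π = c j := fun j => by
    ext
    exact Sigma.ι_desc _ _
  haveI : ∀ j, IsOpenImmersion (ιj j).left := fun j =>
    inferInstanceAs (IsOpenImmersion (Sigma.ι (fun j => (Wj j).left) j))
  have hcovW : ∀ t : W.left, ∃ j, t ∈ Set.range (ιj j).left := fun t => by
    obtain ⟨j, y, hy⟩ := (sigmaOpenCover (fun j => (Wj j).left)).exists_eq t
    exact ⟨j, y, hy⟩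
  haveI hπfl : Flat πl := IsZariskiLocalAtSource.sigmaDesc (P := @Flat) hfl
  haveI hπs : Surjective πl := by
    refine ⟨fun z => ?_⟩
    obtain ⟨j, w, hw⟩ := hsurj z
    refine ⟨(Sigma.ι (fun j => (Wj j).left) j) w, ?_⟩
    rw [← Scheme.Hom.comp_apply, Sigma.ι_desc]
    exact hw
  haveI hWaff : IsAffine W.left := inferInstanceAs (IsAffine (∐ fun j => (Wj j).left))
  -- glue the local affine schemes
  have sqa' : ∀ j, IsPullback (a j) ((AlgSp.yon S).map (v j)) snd
      ((AlgSp.yon S).map (ιj j) ≫ (AlgSp.yon S).map π) := by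
    intro j
    rw [← Functor.map_comp, hιπ]
    exact sqa j
  obtain ⟨V₀, w₀, a₀, sq₀, hk⟩ := Groth.Agent.Lib.Helper12.ZarGlue.exists_rep_of_openCover snd
    ((AlgSp.yon S).map π) Wj ιj V v a sqa' hcovW
  choose k hk1 _ using hk
  have hv_aff : ∀ j, IsAffineHom (v j).left := fun j => by
    haveI := hVa j
    infer_instance
  haveI hw₀ : IsAffineHom w₀.left :=
    Groth.Agent.Lib.Helper12.ZarGlue.property_of_openCover @IsAffineHom w₀ Wj ιj hcovW V v k
      hk1 hv_aff
  have hV₀ : IsAffine V₀.left := isAffine_of_isAffineHom w₀.left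
  -- descend
  obtain ⟨W₀, i, c₀, q, hW₀, hq, -, hpb⟩ := exists_iso_of_affine hP₀ hZ hWaff hV₀ π hπfl hπs w₀
    snd a₀ sq₀
  refine ⟨W₀, i, q, hW₀, hq, ?_⟩
  intro P _ _ hP
  have hPw₀ : P w₀.left :=
    Groth.Agent.Lib.Helper12.ZarGlue.property_of_openCover P w₀ Wj ιj hcovW V v k hk1 hP
  have hpbl : IsPullback c₀.left w₀.left i.left π.left := hpb.map (Over.forget S)
  exact MorphismProperty.DescendsAlong.of_isPullback
    (Q := (@Surjective ⊓ @Flat ⊓ @QuasiCompact : MorphismProperty Scheme.{u})) hpbl.flip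
    ⟨⟨hπs, hπfl⟩, (inferInstance : QuasiCompact πl)⟩ hPw₀

end Groth.Agent.Lib.T2H1.AffDesc
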