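import Mathlib
import Groth.Prelude.Def_AlgSpCov
import Groth.Agent.S10505
import Groth.Agent.S9948
import Groth.Agent.S9874
import Groth.Agent.S10177
import Groth.Agent.Lib.Helper12OpenSub2

/-!
# From fpqc-local on the base to descent along an etale chart (helper1)
-/

set_option autoImplicit false
universe u
open CategoryTheory CategoryTheory.Limits AlgebraicGeometry Opposite
open AlgSp

namespace Groth.Agent.Lib.T2H1.AffDesc

variable {S : Scheme.{u}}

/-- an etale surjective chart of an algebraic space is an fpqc covering. -/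
theorem isFpqcCover_of_chart (Y : AlgSp.Space S) {V : Over S}
    (p : (AlgSp.yon S).obj V ⟶ Y.obj) (hp : AlgSp.RepWith @Etale p)
    (hps : AlgSp.RepWith @Surjective p) :
    AlgSp.IsFpqcCover (fun _ : PUnit.{u+1} => (AlgSp.yon S).obj V) (fun _ => p) := by
  let V' : AlgSp.Space S := ⟨(AlgSp.yon S).obj V, AlgSp.IsAlgSpace.yon_obj V⟩
  let p' : V' ⟶ Y := ObjectProperty.homMk p
  refine Groth.Agent.S10505.result Y (fun _ : PUnit.{u+1} => V') (fun _ => p') ⟨fun _ => ⟨?_, ?_⟩, ?_⟩
  · refine (Groth.Agent.S9948.result @Flat (.inr (.inr (.inl rfl))) p' hp.1).2 ?_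
    exact Groth.Agent.Lib.Helper12.OpenSub.repWith_mono
      (fun _ _ g hg => by haveI : Etale g := hg; infer_instance) hp
  · refine (Groth.Agent.S9948.result @LocallyOfFinitePresentation (.inr (.inl rfl)) p' hp.1).2 ?_
    exact Groth.Agent.Lib.Helper12.OpenSub.repWith_mono
      (fun _ _ g hg => by haveI : Etale g := hg; infer_instance) hp
  · intro x
    obtain ⟨v, hv⟩ := Groth.Agent.S10177.surjective_ofPt p hps x
    exact ⟨PUnit.unit, AlgSp.Points.ofScheme V v, by
      rw [← AlgSp.Points.ofPt_eq_map_ofScheme]; exact hv⟩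

/-- a property which is fpqc local on the base descends along an etale surjective chart. -/
theorem of_chart_of_isLocalOnBase {P : MorphismProperty (AlgSp.Sp S)}
    (hP : AlgSp.IsLocalOnBase (AlgSp.IsFpqcCover (S := S)) P)
    {X Y : AlgSp.Space S} (f : X ⟶ Y) (V : Over S)
    (p : (AlgSp.yon S).obj V ⟶ Y.obj) (hp : AlgSp.RepWith @Etale p)
    (hps : AlgSp.RepWith @Surjective p)
    {Pp : AlgSp.Sp S} (fst : Pp ⟶ X.obj) (snd : Pp ⟶ (AlgSp.yon S).obj V)
    (sq : IsPullback fst snd f.hom p) : P f.hom ↔ P snd := by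
  have hPp : AlgSp.IsAlgSpace Pp :=
    Groth.Agent.S9874.isAlgSpace_of_isPullback Y.property.diag X.property
      (AlgSp.IsAlgSpace.yon_obj V) sq
  have h := hP (fun _ : PUnit.{u+1} => (AlgSp.yon S).obj V) (fun _ => p) Y.property
    (fun _ => AlgSp.IsAlgSpace.yon_obj V) (isFpqcCover_of_chart Y p hp hps) f.hom X.property
    (fun _ => Pp) (fun _ => snd) (fun _ => fst) (fun _ => hPp) (fun _ => sq)
  exact h.trans ⟨fun H => H PUnit.unit, fun H _ => H⟩

end Groth.Agent.Lib.T2H1.AffDesc
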