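import Mathlib
import Groth.Prelude.Def_DTor2
import Groth.Agent.Lib.Helper1CI3
import Groth.Agent.Lib.Helper1CI8
import Groth.Agent.Lib.Helper1KBC5
import Groth.Agent.Lib.Helper1Sky3
import Groth.Agent.Lib.Helper23QCohLocal
set_option backward.isDefEq.respectTransparency.types false

/-!
# Tor amplitude can be tested on quasi-coherent modules (helper1, second team)

* `hasLTensorMod`: the derived tensor product with a module exists on any scheme.
* `stalkPushIso`: the stalks of a module on an open subscheme are those of its direct image.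
-/

set_option autoImplicit false
set_option linter.style.haveILetI false
universe u
open CategoryTheory CategoryTheory.Limits AlgebraicGeometry HomologicalComplex

attribute [local instance] HasDerivedCategory.standard

namespace Groth.Agent.Lib.T2H1.TorAmpQCoh

open Groth.Agent.Lib.Helper1.BKF Groth.Agent.Lib.Helper1.CI Groth.Agent.Lib.Helper1.Sky
  Groth.Agent.Lib.Helper1.KBC Groth.Agent.Lib.Helper1.StalkTensor

section Exist

variable {X : Scheme.{u}} (M : X.Modules)

/-- the derived tensor product with a module exists -/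
theorem hasLTensorMod : DCoh.HasLTensorMod M := by
  obtain ⟨ρ, ψ, h⟩ := exists_functorial_kflat_flat_resolution X.sheaf
  have hρ : ∀ E, (fun E : CochainComplex X.Modules ℤ => DCoh.IsKFlat E) (ρ.obj E) :=
    fun E => (h E).1
  have hπ : ∀ E, HomologicalComplex.quasiIso X.Modules (ComplexShape.up ℤ) (ψ.app E) :=
    fun E => (h E).2.2.1
  have hF : ∀ {E E' : CochainComplex X.Modules ℤ} (q : E ⟶ E'), DCoh.IsKFlat E →
      DCoh.IsKFlat E' → HomologicalComplex.quasiIso X.Modules (ComplexShape.up ℤ) q →
      IsIso ((FC M).map q) := by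
    intro E E' q hE hE' hq
    have : QuasiIso q := hq
    exact isIso_FC_map M q hE hE'
  have h1 := isLeftDerivedFunctor_res
    (HomologicalComplex.quasiIso X.Modules (ComplexShape.up ℤ))
    (HomotopyCategory.quotient X.Modules (ComplexShape.up ℤ) ⋙ DerivedCategory.Qh)
    (FC M) (fun E : CochainComplex X.Modules ℤ => DCoh.IsKFlat E) ρ ψ hρ hπ hF
  have h2 := isLeftDerivedFunctor_desc
    (HomologicalComplex.homotopyEquivalences X.Modules (ComplexShape.up ℤ))
    (HomotopyCategory.quasiIso X.Modules (ComplexShape.up ℤ))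
    (HomologicalComplex.quasiIso X.Modules (ComplexShape.up ℤ))
    (HomotopyCategory.quotient X.Modules (ComplexShape.up ℤ)) DerivedCategory.Qh
    (DCoh.tensorModKh M) _
    (resCounit (HomologicalComplex.quasiIso X.Modules (ComplexShape.up ℤ))
      (HomotopyCategory.quotient X.Modules (ComplexShape.up ℤ) ⋙ DerivedCategory.Qh)
      (FC M) (fun E : CochainComplex X.Modules ℤ => DCoh.IsKFlat E) ρ ψ hρ hπ hF)
  exact @Functor.HasLeftDerivedFunctor.mk' _ _ _ _ _ _ _ _ _ _ _ _ h2

end Exist

section StalkPush

variable {X U : Scheme.{u}} (j : U ⟶ X) [IsOpenImmersion j] (u : U)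

/-- `G_u ≅ O_{U,u} ⊗ (j_* G)_{j u}`, naturally in the module `G` on the open subscheme -/
noncomputable def stalkPushIso :
    stalkFun u ≅ Scheme.Modules.pushforward j ⋙ stalkFun (j u) ⋙
      ModuleCat.extendScalars.{u, u, u} (j.stalkMap u).hom :=
  (Functor.leftUnitor _).symm ≪≫
    Functor.isoWhiskerRight (asIso (Scheme.Modules.restrictAdjunction j).counit).symm
      (stalkFun u) ≪≫
    Functor.associator _ _ _ ≪≫
    Functor.isoWhiskerLeft (Scheme.Modules.pushforward j)
      (Functor.isoWhiskerRight (Scheme.Modules.restrictFunctorIsoPullback j) (stalkFun u) ≪≫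
        stalkPullbackIso j u)

end StalkPush

section Algebra

/-- extension of scalars along a bijective ring homomorphism is an equivalence -/
theorem isEquivalence_extendScalars_of_bijective {O O' : Type u} [CommRing O] [CommRing O']
    (φ : O →+* O') (hφ : Function.Bijective φ) :
    (ModuleCat.extendScalars.{u, u, u} φ).IsEquivalence := by
  let e : O ≃+* O' := RingEquiv.ofBijective φ hφ
  have he : e.toRingHom = φ := rfl
  haveI : (ModuleCat.restrictScalars.{u} φ).IsEquivalence := by
    rw [← he]; infer_instance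
  exact (ModuleCat.extendRestrictScalarsAdj.{u, u, u} φ).isEquivalence_left_of_isEquivalence_right

/-- for a localization `ψ : R → O'`, an `O'`-module is the base change of its restriction -/
theorem nonempty_extendScalars_restrictScalars_iso {R O' : Type u} [CommRing R] [CommRing O']
    (ψ : R →+* O') (S : Submonoid R)
    (hloc : letI := ψ.toAlgebra; IsLocalization S O') (N₁ : ModuleCat.{u} O') :
    Nonempty ((ModuleCat.extendScalars.{u, u, u} ψ).obj
      ((ModuleCat.restrictScalars.{u} ψ).obj N₁) ≅ N₁) := by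
  letI : Algebra R O' := ψ.toAlgebra
  haveI : IsLocalization S O' := hloc
  letI : Module R N₁ := Module.compHom N₁ ψ
  haveI : IsScalarTower R O' N₁ := ⟨fun r s n => by
    change (ψ r * s) • n = ψ r • (s • n)
    rw [mul_smul]⟩
  have hb : IsBaseChange O' (LinearMap.id : N₁ →ₗ[R] N₁) :=
    haveI := isLocalizedModule_id S N₁ O'
    IsLocalizedModule.isBaseChange S O' LinearMap.id
  exact ⟨LinearEquiv.toModuleIso hb.equiv⟩

end Algebra

section Realize

variable (R : CommRingCat.{u}) {X : Scheme.{u}} (j : Spec R ⟶ X) [IsOpenImmersion j] (p : Spec R)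

/-- every module over the local ring of `X` at a point of an affine open `Spec R ⊆ X` is the stalk
of the direct image of some `N~`. -/
theorem exists_stalk_push_tilde (N₀ : ModuleCat.{u} (Groth.Agent.Lib.Helper1.Sky.Ox (j p))) :
    ∃ N : ModuleCat.{u} R, Nonempty ((stalkFun (j p)).obj
      ((Scheme.Modules.pushforward j).obj ((tilde.functor R).obj N)) ≅ N₀) := by
  let φ : Groth.Agent.Lib.Helper1.Sky.Ox (j p) →+* Groth.Agent.Lib.Helper1.Sky.Ox p := (j.stalkMap p).hom
  have hφ : Function.Bijective φ := by
    have h := ConcreteCategory.bijective_of_isIso (j.stalkMap p)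
    exact h
  let ψ : R →+* Groth.Agent.Lib.Helper1.Sky.Ox p := toOx R p
  let N₁ : ModuleCat.{u} (Groth.Agent.Lib.Helper1.Sky.Ox p) := (ModuleCat.extendScalars.{u, u, u} φ).obj N₀
  let N : ModuleCat.{u} R := (ModuleCat.restrictScalars.{u} ψ).obj N₁
  refine ⟨N, ?_⟩
  let T := (stalkFun (j p)).obj ((Scheme.Modules.pushforward j).obj ((tilde.functor R).obj N))
  have e1 : (stalkFun p).obj ((tilde.functor R).obj N) ≅
      (ModuleCat.extendScalars.{u, u, u} φ).obj T :=
    (stalkPushIso j p).app ((tilde.functor R).obj N)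
  have e2 : (stalkFun p).obj ((tilde.functor R).obj N) ≅
      (ModuleCat.extendScalars.{u, u, u} ψ).obj N := (tildeStalkIso R p).app N
  have hloc : letI := ψ.toAlgebra; IsLocalization p.asIdeal.primeCompl (Groth.Agent.Lib.Helper1.Sky.Ox p) :=
    StructureSheaf.IsLocalization.to_stalk (R := R) p
  obtain ⟨e3⟩ := nonempty_extendScalars_restrictScalars_iso ψ p.asIdeal.primeCompl hloc N₁
  haveI := isEquivalence_extendScalars_of_bijective φ hφ
  exact ⟨(ModuleCat.extendScalars.{u, u, u} φ).preimageIso (e1.symm ≪≫ e2 ≪≫ e3)⟩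

end Realize

section StalkTransfer

open MonoidalCategory

variable {X : Scheme.{u}} (x : X) (P : CochainComplex X.Modules ℤ)

/-- the stalk of the termwise tensor product with a module -/
noncomputable def stalkTtwIso (F : X.Modules) :
    (stalkC x).obj ((Ttw F).obj P) ≅
      ((tensorRight ((stalkFun x).obj F)).mapHomologicalComplex (ComplexShape.up ℤ)).obj
        ((stalkC x).obj P) :=
  HomologicalComplex.Hom.isoOfComponents (fun n => stalkTensorApp x (P.X n) F) (fun n m _ =>
    (stalkTensor_naturality_left x (P.d n m) F).symm)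

/-- termwise tensor products with isomorphic modules -/
noncomputable def tenIso {N N' : ModuleCat.{u} (Groth.Agent.Lib.Helper1.Sky.Ox x)} (e : N ≅ N')
    (C : CochainComplex (ModuleCat.{u} (Groth.Agent.Lib.Helper1.Sky.Ox x)) ℤ) :
    ((tensorRight N).mapHomologicalComplex (ComplexShape.up ℤ)).obj C ≅
      ((tensorRight N').mapHomologicalComplex (ComplexShape.up ℤ)).obj C :=
  HomologicalComplex.Hom.isoOfComponents (fun n => whiskerLeftIso (C.X n) e) (fun n m _ =>
    whisker_exchange (C.d n m) e.hom)

/-- the stalks of the cohomology of `P ⊗ F` only depend on the stalk of `F` -/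
theorem isZero_stalk_homology_Ttw_of_iso (F F' : X.Modules)
    (e : (stalkFun x).obj F' ≅ (stalkFun x).obj F) (i : ℤ)
    (h : IsZero (((Ttw F').obj P).homology i)) :
    IsZero ((stalkFun x).obj (((Ttw F).obj P).homology i)) := by
  have h1 : IsZero (((stalkC x).obj ((Ttw F').obj P)).homology i) :=
    IsZero.of_iso ((stalkFun x).map_isZero h)
      ((((Ttw F').obj P).sc i).mapHomologyIso (stalkFun x))
  have eC : (stalkC x).obj ((Ttw F).obj P) ≅ (stalkC x).obj ((Ttw F').obj P) :=
    stalkTtwIso x P F ≪≫ (tenIso x e ((stalkC x).obj P)).symm ≪≫ (stalkTtwIso x P F').symm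
  have h2 : IsZero (((stalkC x).obj ((Ttw F).obj P)).homology i) :=
    IsZero.of_iso h1 ((HomologicalComplex.homologyFunctor _ _ i).mapIso eC)
  exact IsZero.of_iso h2 ((((Ttw F).obj P).sc i).mapHomologyIso (stalkFun x)).symm

end StalkTransfer

section Main

variable {X : Scheme.{u}} [QuasiSeparatedSpace X]

/-- vanishing of `H^i(E ⊗^L F)` for all `F` can be tested on quasi-coherent `F` -/
theorem isZero_HD_ltm_of_qcoh (E : DCoh.D X) (i : ℤ)
    (H : ∀ (F' : X.Modules), Coh.IsQCoh F' → ∀ [DCoh.HasLTensorMod F'],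
      IsZero (DCoh.HD ((DCoh.LTensorMod F').obj E) i))
    (F : X.Modules) [DCoh.HasLTensorMod F] :
    IsZero (DCoh.HD ((DCoh.LTensorMod F).obj E) i) := by
  -- a K-flat representative
  let F0 := (DerivedCategory.Q (C := X.Modules)).objPreimage E
  have e0 : DerivedCategory.Q.obj F0 ≅ E := (DerivedCategory.Q (C := X.Modules)).objObjPreimageIso E
  obtain ⟨P, q, hP, -, hq, -⟩ := exists_kflat_flat_resolution (O := X.sheaf) F0
  have hP' : DCoh.IsKFlat P := hP
  haveI : IsIso (DerivedCategory.Q.map q) := by
    rw [DerivedCategory.isIso_Q_map_iff_quasiIso]; exact hq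
  have eK : E ≅ DCoh.toD X P := e0.symm ≪≫ (asIso (DerivedCategory.Q.map q)).symm
  have key : ∀ (G : X.Modules) [DCoh.HasLTensorMod G],
      DCoh.HD ((DCoh.LTensorMod G).obj E) i ≅ ((Ttw G).obj P).homology i := fun G _ =>
    (DerivedCategory.homologyFunctor X.Modules i).mapIso ((DCoh.LTensorMod G).mapIso eK) ≪≫
      HDltmIso G P hP' i
  refine IsZero.of_iso ?_ (key F)
  apply isZero_of_forall_isZero_stalk
  intro x
  -- an affine open neighbourhood
  obtain ⟨_, ⟨U, hU, rfl⟩, hxU, -⟩ :=
    X.isBasis_affineOpens.exists_subset_of_mem_open (Set.mem_univ x) isOpen_univ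
  let p := hU.primeIdealOf ⟨x, hxU⟩
  have hp : hU.fromSpec p = x := hU.fromSpec_primeIdealOf ⟨x, hxU⟩
  clear_value p
  subst hp
  obtain ⟨N, ⟨eN⟩⟩ := exists_stalk_push_tilde Γ(X, U) hU.fromSpec p
    ((stalkFun (hU.fromSpec p)).obj F)
  let F' : X.Modules :=
    (Scheme.Modules.pushforward hU.fromSpec).obj ((tilde.functor Γ(X, U)).obj N)
  haveI : QuasiCompact hU.fromSpec := inferInstance
  haveI : QuasiSeparated hU.fromSpec := inferInstance
  haveI hqN : ((tilde.functor Γ(X, U)).obj N).IsQuasicoherent := inferInstance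
  have hq' : Coh.IsQCoh F' :=
    Groth.Agent.Lib.Helper23.QCohLocal.isQuasicoherent_pushforward hU.fromSpec
      ((tilde.functor Γ(X, U)).obj N)
  haveI : DCoh.HasLTensorMod F' := hasLTensorMod F'
  have h' : IsZero (((Ttw F').obj P).homology i) := IsZero.of_iso (H F' hq') (key F').symm
  exact isZero_stalk_homology_Ttw_of_iso _ P F F' eN i h'

end Main

end Groth.Agent.Lib.T2H1.TorAmpQCoh
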