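import Mathlib
import Groth.Prelude.Def_DerSch
import Groth.Prelude.Def_DTor2
import Groth.Agent.Lib.T2H1TorAmpQCoh
import Groth.Agent.Lib.Helper1CI7
import Groth.Agent.Lib.Helper1DT5
import Groth.Agent.Lib.Helper1KF12
set_option backward.isDefEq.respectTransparency.types false

/-!
# Absolute flat amplitude versus stalkwise tor amplitude (helper1, second team)
-/

set_option autoImplicit false
set_option linter.style.haveILetI false
universe u
open CategoryTheory CategoryTheory.Limits AlgebraicGeometry HomologicalComplex ZeroObject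
  MonoidalCategory

attribute [local instance] HasDerivedCategory.standard

namespace Groth.Agent.Lib.T2H1.StalkTorAmp

section Ring

open Groth.Agent.Lib.Helper1.KF Groth.Agent.Lib.Helper1.DT DerivedCategory

variable {R : Type u} [CommRing R]

open CochainComplex in
/-- `M ⊗ -` (termwise) preserves quasi-isomorphisms between K-flat complexes -/
lemma quasiIso_TCx_map_of_kflat {P K : Cx R} (π : P ⟶ K) [QuasiIso π] (hP : KFlat P)
    (hK : KFlat K) (M : ModuleCat.{u} R) :
    QuasiIso (((tensorLeft M).mapHomologicalComplex (ComplexShape.up ℤ)).map π) := by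
  apply quasiIso_of_acyc_cone
  have h1 : Acyc (mappingCone π) := acyc_cone_of_quasiIso π
  have h2 : KFlat (mappingCone π) := KFlat.cone π hP hK
  exact Acyc.of_iso (mappingCone.mapHomologicalComplexIso π (tensorLeft M))
    (acyc_TCx_of_kflat_of_acyc h2 h1 M)

/-- if a K-flat complex `C` has tor amplitude in `[a, b]` then `M ⊗ C` has no cohomology outside
`[a, b]` -/
theorem isZero_homology_TCx_of_hasTorAmplitudeIn (C : Cx R) (hC : KFlat C) (a b : ℤ)
    (h : DRing.HasTorAmplitudeIn R a b (Q.obj C)) (M : ModuleCat.{u} R) (i : ℤ)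
    (hi : i < a ∨ b < i) : IsZero ((TCx M C).homology i) := by
  obtain ⟨E, hE, hEf, ⟨e⟩⟩ := h
  have hEK : KFlat E := kflat_of_boundedAbove_flat E b (fun q hq => hE q (Or.inr hq)) hEf
  obtain ⟨P, π, hP, -, hπ, -⟩ := exists_kprojective_resolution C
  have hPK : KFlat P := kflat_of_isKProjective P
  have hπi : IsIso (Q.map π) := (DerivedCategory.isIso_Q_map_iff_quasiIso (φ := π)).2 hπ
  obtain ⟨g, hg⟩ := Q_map_surjective P E (Q.map π ≫ e.inv)
  have hgi : IsIso (Q.map g) := by rw [hg]; infer_instance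
  have hgq : QuasiIso g := (DerivedCategory.isIso_Q_map_iff_quasiIso (φ := g)).1 hgi
  have q1 := quasiIso_TCx_map_of_kflat π hPK hC M
  have q2 := quasiIso_TCx_map_of_kflat g hPK hEK M
  have hz : IsZero ((TCx M E).homology i) := by
    rw [← exactAt_iff_isZero_homology]
    exact ShortComplex.exact_of_isZero_X₂ _ ((tensorLeft M).map_isZero (hE i hi))
  have i1 : IsIso (homologyMap (((tensorLeft M).mapHomologicalComplex (ComplexShape.up ℤ)).map π) i) :=
    (quasiIsoAt_iff_isIso_homologyMap _ i).1 (q1.quasiIsoAt i)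
  have i2 : IsIso (homologyMap (((tensorLeft M).mapHomologicalComplex (ComplexShape.up ℤ)).map g) i) :=
    (quasiIsoAt_iff_isIso_homologyMap _ i).1 (q2.quasiIsoAt i)
  exact IsZero.of_iso hz
    ((asIso (homologyMap (((tensorLeft M).mapHomologicalComplex (ComplexShape.up ℤ)).map π) i)).symm ≪≫
      asIso (homologyMap (((tensorLeft M).mapHomologicalComplex (ComplexShape.up ℤ)).map g) i))

/-- `- ⊗ M` version -/
theorem isZero_homology_tensorRight_of_hasTorAmplitudeIn (C : Cx R) (hC : KFlat C) (a b : ℤ)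
    (h : DRing.HasTorAmplitudeIn R a b (Q.obj C)) (M : ModuleCat.{u} R) (i : ℤ)
    (hi : i < a ∨ b < i) :
    IsZero ((((tensorRight M).mapHomologicalComplex (ComplexShape.up ℤ)).obj C).homology i) :=
  IsZero.of_iso (isZero_homology_TCx_of_hasTorAmplitudeIn C hC a b h M i hi)
    ((HomologicalComplex.homologyFunctor _ _ i).mapIso
      ((NatIso.mapHomologicalComplex (BraidedCategory.tensorLeftIsoTensorRight M)
        (ComplexShape.up ℤ)).app C).symm)

end Ring

section Sch

open Groth.Agent.Lib.Helper1.BKF Groth.Agent.Lib.Helper1.CI Groth.Agent.Lib.Helper1.Sky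
  Groth.Agent.Lib.Helper1.KBC Groth.Agent.Lib.Helper1.StalkTensor
  Groth.Agent.Lib.T2H1.TorAmpQCoh

variable {X Y : Scheme.{u}}

instance preservesFiniteLimits_stalkFunctor (x : X) :
    PreservesFiniteLimits (DerSch.stalkFunctor X x) :=
  preservesFiniteLimits_of_natIso (stalkFunctorIso x).symm

instance preservesFiniteColimits_stalkFunctor (x : X) :
    PreservesFiniteColimits (DerSch.stalkFunctor X x) :=
  preservesFiniteColimits_of_natIso (stalkFunctorIso x).symm

/-- the stalk over the base is exact -/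
instance preservesFiniteLimits_stalkOver (f : X ⟶ Y) (x : X) :
    PreservesFiniteLimits (DerSch.stalkOver f x) := by
  haveI : PreservesFiniteLimits (ModuleCat.restrictScalars.{u} (f.stalkMap x).hom) := by
    haveI : (ModuleCat.restrictScalars.{u} (f.stalkMap x).hom).IsRightAdjoint := inferInstance
    infer_instance
  exact comp_preservesFiniteLimits _ _

instance preservesFiniteColimits_stalkOver (f : X ⟶ Y) (x : X) :
    PreservesFiniteColimits (DerSch.stalkOver f x) := by
  haveI : PreservesFiniteColimits (ModuleCat.restrictScalars.{u} (f.stalkMap x).hom) := by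
    haveI : (ModuleCat.restrictScalars.{u} (f.stalkMap x).hom).IsLeftAdjoint := inferInstance
    infer_instance
  exact comp_preservesFiniteColimits _ _

/-- isomorphic objects of `D(O_X)` have isomorphic complexes of stalks over the base -/
theorem nonempty_toD_stalkCxOver_iso (f : X ⟶ Y) (x : X) {E F : CochainComplex X.Modules ℤ}
    (e : DCoh.toD X E ≅ DCoh.toD X F) :
    Nonempty (DRing.toD ((DerSch.stalkCxOver f x).obj E) ≅
      DRing.toD ((DerSch.stalkCxOver f x).obj F)) :=
  ⟨((DerSch.stalkOver f x).mapDerivedCategoryFactors.app E).symm ≪≫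
    (DerSch.stalkOver f x).mapDerivedCategory.mapIso e ≪≫
    (DerSch.stalkOver f x).mapDerivedCategoryFactors.app F⟩

/-- absolute flat amplitude implies tor amplitude relative to a flat morphism -/
theorem hasTorAmplitude_of_hasFlatAmplitudeIn (f : X ⟶ Y) [Flat f]
    (F : CochainComplex X.Modules ℤ) (a b : ℤ)
    (h : DCoh.HasFlatAmplitudeIn a b (DCoh.toD X F)) : DerSch.HasTorAmplitude f a b F := by
  obtain ⟨E, hE, hEf, ⟨e⟩⟩ := h
  intro x
  refine ⟨(DerSch.stalkCxOver f x).obj E, ?_, ?_, nonempty_toD_stalkCxOver_iso f x e⟩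
  · intro i hi
    exact (DerSch.stalkOver f x).map_isZero (hE i hi)
  · intro i
    letI : Algebra (Y.presheaf.stalk (f.base x)) (X.presheaf.stalk x) :=
      (f.stalkMap x).hom.toAlgebra
    haveI : Module.Flat (Y.presheaf.stalk (f.base x)) (X.presheaf.stalk x) :=
      Flat.stalkMap f x
    haveI : Module.Flat (X.presheaf.stalk x) ((E.X i).presheaf.stalk x) := hEf i x
    letI : Module (Y.presheaf.stalk (f.base x)) ((E.X i).presheaf.stalk x) :=
      Module.compHom _ (f.stalkMap x).hom
    haveI : IsScalarTower (Y.presheaf.stalk (f.base x)) (X.presheaf.stalk x)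
        ((E.X i).presheaf.stalk x) := IsScalarTower.of_algebraMap_smul fun r m => rfl
    exact Module.Flat.trans (Y.presheaf.stalk (f.base x)) (X.presheaf.stalk x)
      ((E.X i).presheaf.stalk x)

/-- the stalk over the identity, retyped -/
noncomputable def stalkOverId (x : X) :
    X.Modules ⥤ ModuleCat.{u} (Groth.Agent.Lib.Helper1.Sky.Ox x) :=
  DerSch.stalkOver (𝟙 X) x

instance additive_stalkOverId (x : X) : (stalkOverId x).Additive :=
  (inferInstance : (DerSch.stalkOver (𝟙 X) x).Additive)

/-- the stalk over the identity is the stalk -/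
noncomputable def stalkOverIdIso (x : X) : stalkOverId x ≅ stalkFun x :=
  Functor.isoWhiskerLeft (DerSch.stalkFunctor X x)
    (ModuleCat.restrictScalarsId'.{u} ((𝟙 X : X ⟶ X).stalkMap x).hom (by
      rw [Scheme.Hom.stalkMap_id]; rfl)) ≪≫ Functor.rightUnitor _ ≪≫ stalkFunctorIso x

/-- tor amplitude relative to the identity, in terms of the stalk functor -/
theorem hasTorAmplitudeIn_stalkC_of_id (F : CochainComplex X.Modules ℤ) (a b : ℤ)
    (h : DerSch.HasTorAmplitude (𝟙 X) a b F) (x : X) :
    DRing.HasTorAmplitudeIn (Groth.Agent.Lib.Helper1.Sky.Ox x) a b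
      (DerivedCategory.Q.obj ((stalkC x).obj F)) := by
  have h' : DRing.HasTorAmplitudeIn (Groth.Agent.Lib.Helper1.Sky.Ox x) a b
      (DerivedCategory.Q.obj (((stalkOverId x).mapHomologicalComplex (ComplexShape.up ℤ)).obj F)) :=
    h x
  obtain ⟨E, hE, hEf, ⟨e⟩⟩ := h'
  exact ⟨E, hE, hEf, ⟨e ≪≫ DerivedCategory.Q.mapIso
    ((NatIso.mapHomologicalComplex (stalkOverIdIso x) (ComplexShape.up ℤ)).app F)⟩⟩

/-- tor amplitude relative to the identity, in terms of the stalk functor (converse) -/
theorem hasTorAmplitude_id_of_stalkC (F : CochainComplex X.Modules ℤ) (a b : ℤ)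
    (h : ∀ x : X, DRing.HasTorAmplitudeIn (Groth.Agent.Lib.Helper1.Sky.Ox x) a b
      (DerivedCategory.Q.obj ((stalkC x).obj F))) : DerSch.HasTorAmplitude (𝟙 X) a b F := by
  intro x
  obtain ⟨E, hE, hEf, ⟨e⟩⟩ := h x
  have h' : DRing.HasTorAmplitudeIn (Groth.Agent.Lib.Helper1.Sky.Ox x) a b
      (DerivedCategory.Q.obj (((stalkOverId x).mapHomologicalComplex (ComplexShape.up ℤ)).obj F)) :=
    ⟨E, hE, hEf, ⟨e ≪≫ DerivedCategory.Q.mapIso
      ((NatIso.mapHomologicalComplex (stalkOverIdIso x) (ComplexShape.up ℤ)).app F).symm⟩⟩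
  exact h'

/-- stalkwise tor amplitude of a K-flat complex kills the cohomology of `P ⊗ G` outside `[a, b]` -/
theorem isZero_homology_Ttw_of_stalk (P : CochainComplex X.Modules ℤ) (hP : DCoh.IsKFlat P)
    (a b : ℤ) (h : ∀ x : X, DRing.HasTorAmplitudeIn (Groth.Agent.Lib.Helper1.Sky.Ox x) a b
      (DerivedCategory.Q.obj ((stalkC x).obj P))) (G : X.Modules) (i : ℤ) (hi : i < a ∨ b < i) :
    IsZero (((Ttw G).obj P).homology i) := by
  apply isZero_of_forall_isZero_stalk
  intro x
  have h1 : IsZero ((((tensorRight ((stalkFun x).obj G)).mapHomologicalComplex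
      (ComplexShape.up ℤ)).obj ((stalkC x).obj P)).homology i) :=
    isZero_homology_tensorRight_of_hasTorAmplitudeIn _ (rKFlat_stalk_of_isKFlat x P hP) a b
      (h x) _ i hi
  have h2 : IsZero (((stalkC x).obj ((Ttw G).obj P)).homology i) :=
    IsZero.of_iso h1 ((HomologicalComplex.homologyFunctor _ _ i).mapIso (stalkTtwIso x P G))
  exact IsZero.of_iso h2 ((((Ttw G).obj P).sc i).mapHomologyIso (stalkFun x)).symm

/-- an acyclic complex is zero in the derived category -/
theorem nonempty_toD_zero_iso_of_acyc (F : CochainComplex X.Modules ℤ) (hF : Acyc F) :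
    Nonempty (DCoh.toD X (0 : CochainComplex X.Modules ℤ) ≅ DCoh.toD X F) := by
  have hq0 : QuasiIso (0 : (0 : CochainComplex X.Modules ℤ) ⟶ F) := by
    rw [quasiIso_iff]
    intro i
    rw [quasiIsoAt_iff_isIso_homologyMap]
    have h1 : IsZero ((0 : CochainComplex X.Modules ℤ).homology i) :=
      isZero_homology_of_isZero_X _ i
        ((HomologicalComplex.eval _ _ i).map_isZero (Limits.isZero_zero _))
    exact ⟨⟨0, h1.eq_of_src _ _, (hF i).eq_of_src _ _⟩⟩
  haveI : IsIso (DerivedCategory.Q.map (0 : (0 : CochainComplex X.Modules ℤ) ⟶ F)) := by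
    rw [DerivedCategory.isIso_Q_map_iff_quasiIso]; exact hq0
  exact ⟨asIso (DerivedCategory.Q.map (0 : (0 : CochainComplex X.Modules ℤ) ⟶ F))⟩

/-- stalkwise tor amplitude (relative to the identity) implies absolute flat amplitude -/
theorem hasFlatAmplitudeIn_of_hasTorAmplitude_id (F : CochainComplex X.Modules ℤ) (a b : ℤ)
    (h : DerSch.HasTorAmplitude (𝟙 X) a b F) : DCoh.HasFlatAmplitudeIn a b (DCoh.toD X F) := by
  have hst := hasTorAmplitudeIn_stalkC_of_id F a b h
  by_cases hab : a ≤ b
  · obtain ⟨P, q, hP', -, hq, -⟩ : ∃ (P : CochainComplex X.Modules ℤ) (q : P ⟶ F),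
        DCoh.IsKFlat P ∧ (∀ n : ℤ, ModSite.IsFlat (O := X.sheaf) (P.X n)) ∧ QuasiIso q ∧
          ∀ n : ℤ, Epi (q.f n) := exists_kflat_flat_resolution X.sheaf F
    haveI hqq : QuasiIso q := hq
    haveI hqi : IsIso (DerivedCategory.Q.map q) := by
      rw [DerivedCategory.isIso_Q_map_iff_quasiIso]; exact hq
    have eP : DCoh.toD X P ≅ DCoh.toD X F := asIso (DerivedCategory.Q.map q)
    have hstP : ∀ x : X, DRing.HasTorAmplitudeIn (Groth.Agent.Lib.Helper1.Sky.Ox x) a b
        (DerivedCategory.Q.obj ((stalkC x).obj P)) := by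
      intro x
      obtain ⟨E, hE, hEf, ⟨e⟩⟩ := hst x
      have hqx : QuasiIso ((stalkC x).map q) :=
        HomologicalComplex.quasiIso_map_of_preservesHomology q (stalkFun x)
      have hqxi : IsIso (DerivedCategory.Q.map ((stalkC x).map q)) := by
        rw [DerivedCategory.isIso_Q_map_iff_quasiIso]; exact hqx
      exact ⟨E, hE, hEf, ⟨e ≪≫ (@asIso _ _ _ _ (DerivedCategory.Q.map ((stalkC x).map q)) hqxi).symm⟩⟩
    refine hasFlatAmplitudeIn_of_hasTorAmplitudeIn _ a b hab (fun G => hasLTensorMod G) ?_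
    refine hasTorAmplitudeIn_of_iso eP a b ?_
    intro G _ i hi
    exact IsZero.of_iso (isZero_homology_Ttw_of_stalk P hP' a b hstP G i hi) (HDltmIso G P hP' i)
  · have hF : Acyc F := by
      apply acyc_of_forall_acyc_stalk
      intro x i
      obtain ⟨E, hE, -, ⟨e⟩⟩ := hst x
      have hz : IsZero (E.homology i) :=
        isZero_homology_of_isZero_X _ i (hE i (by omega))
      exact IsZero.of_iso hz
        (((DerivedCategory.homologyFunctorFactors _ i).app _).symm ≪≫
          (DerivedCategory.homologyFunctor _ i).mapIso e.symm ≪≫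
          (DerivedCategory.homologyFunctorFactors _ i).app _)
    obtain ⟨e0⟩ := nonempty_toD_zero_iso_of_acyc F hF
    have hz0 : ∀ i : ℤ, IsZero ((0 : CochainComplex X.Modules ℤ).X i) := fun i =>
      (HomologicalComplex.eval _ _ i).map_isZero (Limits.isZero_zero _)
    refine ⟨0, fun i _ => hz0 i, fun i x => ?_, ⟨e0⟩⟩
    have hz : IsZero ((stalkFun x).obj ((0 : CochainComplex X.Modules ℤ).X i)) :=
      (stalkFun x).map_isZero (hz0 i)
    haveI : Subsingleton (((0 : CochainComplex X.Modules ℤ).X i).presheaf.stalk x) :=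
      ModuleCat.subsingleton_of_isZero hz
    exact inferInstanceAs (Module.Flat (X.presheaf.stalk x)
      (((0 : CochainComplex X.Modules ℤ).X i).presheaf.stalk x))

/-- absolute flat amplitude is stalkwise tor amplitude -/
theorem hasFlatAmplitudeIn_iff_hasTorAmplitude_id (F : CochainComplex X.Modules ℤ) (a b : ℤ) :
    DCoh.HasFlatAmplitudeIn a b (DCoh.toD X F) ↔ DerSch.HasTorAmplitude (𝟙 X) a b F :=
  ⟨hasTorAmplitude_of_hasFlatAmplitudeIn (𝟙 X) F a b, hasFlatAmplitudeIn_of_hasTorAmplitude_id F a b⟩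

end Sch

end Groth.Agent.Lib.T2H1.StalkTorAmp
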