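import Mathlib
import Groth.Prelude.Def_DerSch
import Groth.Agent.Lib.Helper1TorDim
import Groth.Agent.Lib.Helper23UnitStalk

/-!
# Tor amplitude relative to a composite (helper2)
-/

set_option autoImplicit false
set_option linter.style.haveILetI false
universe u
open CategoryTheory CategoryTheory.Limits AlgebraicGeometry
attribute [local instance] HasDerivedCategory.standard

namespace Groth.Agent.Lib.T2H2.TorAmpComp

open Groth.Agent.Lib.Helper1.TorDim

variable {X Y Z : Scheme.{u}}

/-- the stalk of the unit complex, over the base local ring -/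
lemma hasTorAmp_inD_of_hasTorDimLE (g : Y ⟶ Z) (n : ℕ) (hg : DerSch.HasTorDimLE g n) (y : Y) :
    letI : Algebra (Z.presheaf.stalk (g.base y)) (Y.presheaf.stalk y) :=
      (g.stalkMap y).hom.toAlgebra
    DRing.HasTorAmplitudeIn (Z.presheaf.stalk (g.base y)) (-(n : ℤ)) 0
      (Dual.inD (Z.presheaf.stalk (g.base y)) (Y.presheaf.stalk y)) := by
  letI : Algebra (Z.presheaf.stalk (g.base y)) (Y.presheaf.stalk y) :=
    (g.stalkMap y).hom.toAlgebra
  have h := hg y
  refine Groth.Agent.Lib.Helper1.Tor.hasTorAmp_of_iso ?_ h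
  -- Q of the stalk complex of the unit complex
  let e1 : (DerSch.stalkCxOver g y).obj (DerSch.unitCx Y) ≅
      (HomologicalComplex.single _ (ComplexShape.up ℤ) 0).obj
        ((DerSch.stalkOver g y).obj (Coh.structureModule Y)) :=
    (HomologicalComplex.singleMapHomologicalComplex (DerSch.stalkOver g y) (ComplexShape.up ℤ) 0).app
      (Coh.structureModule Y)
  let e2 : (DerSch.stalkOver g y).obj (Coh.structureModule Y) ≅
      ModuleCat.of (Z.presheaf.stalk (g.base y)) (Y.presheaf.stalk y) :=
    (LinearEquiv.toModuleIso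
      (X₁ := ModuleCat.of (Z.presheaf.stalk (g.base y)) (Y.presheaf.stalk y))
      (X₂ := (DerSch.stalkOver g y).obj (Coh.structureModule Y))
      { toFun := fun b => Groth.Agent.Lib.Helper23.UnitStalk.unitStalkEquiv y b
        invFun := fun m => (Groth.Agent.Lib.Helper23.UnitStalk.unitStalkEquiv y).symm m
        left_inv := fun b => (Groth.Agent.Lib.Helper23.UnitStalk.unitStalkEquiv y).symm_apply_apply b
        right_inv := fun m => (Groth.Agent.Lib.Helper23.UnitStalk.unitStalkEquiv y).apply_symm_apply m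
        map_add' := fun b b' => map_add (Groth.Agent.Lib.Helper23.UnitStalk.unitStalkEquiv y) b b'
        map_smul' := fun r b => by
          show Groth.Agent.Lib.Helper23.UnitStalk.unitStalkEquiv y ((g.stalkMap y).hom r * b) =
            (g.stalkMap y).hom r • Groth.Agent.Lib.Helper23.UnitStalk.unitStalkEquiv y b
          rw [← smul_eq_mul, map_smul] }).symm
  exact DerivedCategory.Q.mapIso e1 ≪≫
    ((DerivedCategory.singleFunctorIsoCompQ (ModuleCat.{u} (Z.presheaf.stalk (g.base y))) 0).app
      _).symm ≪≫ (DerivedCategory.singleFunctor _ 0).mapIso e2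

/-- the stalk map of `g` at `f x`, with source written as the stalk at `(f ≫ g) x` -/
noncomputable def phi (f : X ⟶ Y) (g : Y ⟶ Z) (x : X) :
    Z.presheaf.stalk ((f ≫ g).base x) →+* Y.presheaf.stalk (f.base x) :=
  (g.stalkMap (f.base x)).hom

/-- the stalk functor over a composite -/
noncomputable def stalkOverCompIso (f : X ⟶ Y) (g : Y ⟶ Z) (x : X) :
    DerSch.stalkOver f x ⋙ ModuleCat.restrictScalars.{u} (phi f g x) ≅
      DerSch.stalkOver (f ≫ g) x :=
  Functor.associator _ _ _ ≪≫ Functor.isoWhiskerLeft (DerSch.stalkFunctor X x)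
    (ModuleCat.restrictScalarsComp'.{u} (phi f g x) (f.stalkMap x).hom
      ((f ≫ g).stalkMap x).hom (by
        rw [Scheme.Hom.stalkMap_comp]
        rfl)).symm

theorem hasTorAmplitude_comp (f : X ⟶ Y) (g : Y ⟶ Z) (n : ℕ) (hg : DerSch.HasTorDimLE g n)
    (F : CochainComplex X.Modules ℤ) (a b : ℤ) (hF : DerSch.HasTorAmplitude f a b F) :
    DerSch.HasTorAmplitude (f ≫ g) (a - n) b F := by
  intro x
  letI : Algebra (Z.presheaf.stalk ((f ≫ g).base x)) (Y.presheaf.stalk (f.base x)) :=
    (phi f g x).toAlgebra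
  have hB : DRing.HasTorAmplitudeIn (Z.presheaf.stalk ((f ≫ g).base x)) (-(n : ℤ)) 0
      (Dual.inD (Z.presheaf.stalk ((f ≫ g).base x)) (Y.presheaf.stalk (f.base x))) :=
    hasTorAmp_inD_of_hasTorDimLE g n hg (f.base x)
  have hK : DRing.HasTorAmplitudeIn (Y.presheaf.stalk (f.base x)) a b
      (DRing.toD ((DerSch.stalkCxOver f x).obj F)) := hF x
  have h1 := hasTorAmp_restrictD n hB _ a b hK
  refine Groth.Agent.Lib.Helper1.Tor.hasTorAmp_of_iso ?_ h1
  exact ((ModuleCat.restrictScalars.{u} (phi f g x)).mapDerivedCategoryFactors).app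
      ((DerSch.stalkCxOver f x).obj F) ≪≫
    DerivedCategory.Q.mapIso
      (((NatIso.mapHomologicalComplex (stalkOverCompIso f g x) (ComplexShape.up ℤ)).app F))

end Groth.Agent.Lib.T2H2.TorAmpComp
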