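import Mathlib
import Groth.Prelude.Def_DDual2
import Groth.Agent.Lib.Helper1CI8
import Groth.Agent.Lib.Helper1KF8
import Groth.Agent.Lib.Helper1DT2
set_option backward.isDefEq.respectTransparency.types false

/-!
# Existence of derived base change for rings (helper4)

* `exists_functorial_kprojective_resolution`: functorial K-projective resolutions of complexes of
  modules (small object argument).
* `hasLBaseChange φ : DRing.HasLBaseChange φ` for every ring map `φ`.
-/

set_option autoImplicit false
universe u
open CategoryTheory CategoryTheory.Limits HomologicalComplex MorphismProperty ZeroObject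
attribute [local instance] HasDerivedCategory.standard

namespace Groth.Agent.Lib.T2H4.LDerExist

open Groth.Agent.Lib.Helper1.KF Groth.Agent.Lib.Helper1.CI DerivedCategory
  Groth.Agent.Lib.Helper1.DT

section functorial

variable (R : Type u) [CommRing R]

/-- the functor `G ↦ (0 ⟶ G)` into arrows -/
noncomputable def zeroArrow : Cx R ⥤ Arrow (Cx R) where
  obj G := Arrow.mk (0 : (0 : Cx R) ⟶ G)
  map f := Arrow.homMk (𝟙 0) f (by simp)

/-- functorial K-projective resolutions of complexes of modules -/
theorem exists_functorial_kprojective_resolution :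
    ∃ (ρ : Cx R ⥤ Cx R) (π : ρ ⟶ 𝟭 (Cx R)),
      ∀ G : Cx R, (ρ.obj G).IsKProjective ∧ QuasiIso (π.app G) := by
  let data := functorialFactorizationData (genI R).rlp.llp (genI R).rlp
  refine ⟨zeroArrow R ⋙ data.Z,
    { app := fun G => (data.p.app ((zeroArrow R).obj G) :)
      naturality := fun G G' f => data.p.naturality ((zeroArrow R).map f) }, fun G => ⟨?_, ?_⟩⟩
  · have h := data.hi ((zeroArrow R).obj G)
    have h0 : data.i.app ((zeroArrow R).obj G) =
        (0 : (0 : Cx R) ⟶ data.Z.obj ((zeroArrow R).obj G)) :=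
      (isZero_zero (Cx R)).eq_of_src _ _
    have hc : Cofibrant (data.Z.obj ((zeroArrow R).obj G)) := by
      unfold Cofibrant
      rw [← h0]
      exact h
    exact hc.isKProjective
  · exact ((rlp_iff_surjQis _).1 (data.hp ((zeroArrow R).obj G))).1

end functorial

section LBC

variable {A B : Type u} [CommRing A] [CommRing B] (φ : A →+* B)

/-- `K(A) ⥤ D(B)` restricted to complexes -/
noncomputable abbrev bcFC : Cx A ⥤ Dual.D B :=
  HomotopyCategory.quotient _ _ ⋙ DRing.baseChangeKh φ

lemma isIso_quotient_map {E E' : Cx A} (q : E ⟶ E') [QuasiIso q] [E.IsKProjective]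
    [E'.IsKProjective] : IsIso ((HomotopyCategory.quotient _ _).map q) := by
  have h := (CochainComplex.IsKProjective.quasiIso_iff q).1 inferInstance
  rw [← HomotopyCategory.inverseImage_quotient_isomorphisms, MorphismProperty.inverseImage_iff,
    MorphismProperty.isomorphisms.iff] at h
  exact h

instance isLocalization_quotient_comp_Qh :
    (HomotopyCategory.quotient (ModuleCat.{u} A) (ComplexShape.up ℤ) ⋙
      DerivedCategory.Qh).IsLocalization
      (HomologicalComplex.quasiIso (ModuleCat.{u} A) (ComplexShape.up ℤ)) :=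
  Functor.IsLocalization.of_iso _ (DerivedCategory.quotientCompQhIso (ModuleCat.{u} A)).symm

/-- the total left derived functor of extension of scalars exists -/
theorem hasLBaseChange : DRing.HasLBaseChange φ := by
  obtain ⟨ρ, ψ, h⟩ := exists_functorial_kprojective_resolution A
  have hρ : ∀ G, (fun E : Cx A => E.IsKProjective) (ρ.obj G) := fun G => (h G).1
  have hπ : ∀ G, HomologicalComplex.quasiIso (ModuleCat.{u} A) (ComplexShape.up ℤ) (ψ.app G) :=
    fun G => (h G).2
  have hF : ∀ {E E' : Cx A} (q : E ⟶ E'), E.IsKProjective → E'.IsKProjective →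
      HomologicalComplex.quasiIso (ModuleCat.{u} A) (ComplexShape.up ℤ) q →
      IsIso ((bcFC φ).map q) := by
    intro E E' q hE hE' hq
    have : QuasiIso q := hq
    have : IsIso ((HomotopyCategory.quotient (ModuleCat.{u} A) (ComplexShape.up ℤ)).map q) :=
      isIso_quotient_map q
    exact Functor.map_isIso (DRing.baseChangeKh φ)
      ((HomotopyCategory.quotient (ModuleCat.{u} A) (ComplexShape.up ℤ)).map q)
  have h1 := isLeftDerivedFunctor_res
    (HomologicalComplex.quasiIso (ModuleCat.{u} A) (ComplexShape.up ℤ))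
    (HomotopyCategory.quotient (ModuleCat.{u} A) (ComplexShape.up ℤ) ⋙ DerivedCategory.Qh)
    (bcFC φ) (fun E : Cx A => E.IsKProjective) ρ ψ hρ hπ hF
  have h2 := isLeftDerivedFunctor_desc
    (HomologicalComplex.homotopyEquivalences (ModuleCat.{u} A) (ComplexShape.up ℤ))
    (HomotopyCategory.quasiIso (ModuleCat.{u} A) (ComplexShape.up ℤ))
    (HomologicalComplex.quasiIso (ModuleCat.{u} A) (ComplexShape.up ℤ))
    (HomotopyCategory.quotient (ModuleCat.{u} A) (ComplexShape.up ℤ)) DerivedCategory.Qh
    (DRing.baseChangeKh φ) _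
    (resCounit (HomologicalComplex.quasiIso (ModuleCat.{u} A) (ComplexShape.up ℤ))
      (HomotopyCategory.quotient (ModuleCat.{u} A) (ComplexShape.up ℤ) ⋙ DerivedCategory.Qh)
      (bcFC φ) (fun E : Cx A => E.IsKProjective) ρ ψ hρ hπ hF)
  exact @Functor.HasLeftDerivedFunctor.mk' _ _ _ _ _ _ _ _ _ _ _ _ h2

end LBC

end Groth.Agent.Lib.T2H4.LDerExist
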