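import Mathlib
import Groth.Prelude.Def_TotMap
import Groth.Prelude.Def_DTen6
import Groth.Agent.Lib.Helper1KBC1
import Groth.Agent.Lib.Helper1TorO
import Groth.Agent.Lib.Helper1DT5
import Groth.Agent.Lib.Helper1KF10
set_option backward.isDefEq.respectTransparency.types false

/-!
# Tor amplitude of restrictions of scalars: the mixed tensor criterion (helper4)

For `φ : R → A` and a complex `X` of `A`-modules, `res X ∈ D(R)` has tor amplitude in `[a, b]` iff
for every `R`-module `M` with K-flat resolution `F → M[0]`, the complex `X ⊗_A (F ⊗_R A)` is exact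
outside `[a, b]` (projection formula on complexes `pfCx`).  Application: faithfully flat descent of
tor amplitude of restrictions.
-/

set_option autoImplicit false
set_option linter.style.haveILetI false
universe u
open CategoryTheory CategoryTheory.Limits HomologicalComplex MonoidalCategory
attribute [local instance] HasDerivedCategory.standard

namespace Groth.Agent.Lib.T2H4.TorRes

open Groth.Agent.Lib.Helper1.BKF Groth.Agent.Lib.Helper1.KBC Groth.Agent.Lib.Helper1.KF
  Groth.Agent.Lib.Helper1.Tor Groth.Agent.Lib.Helper1.DT DTen DerivedCategory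
  Groth.Agent.Lib.Helper1.TorO

section pf

variable {R R' : Type u} [CommRing R] [CommRing R'] (φ : R →+* R')
variable (L : CochainComplex (ModuleCat.{u} R') ℤ) (K : CochainComplex (ModuleCat.{u} R) ℤ)

/-- the projection formula on complexes: `res L ⊗_R K ≅ res (L ⊗_{R'} ext K)` -/
noncomputable def pfCx :
    ((resCx φ).obj L ⊗ K : DRing.Cx R) ≅ (resCx φ).obj (L ⊗ (extCx φ).obj K) := by
  haveI h1 : ((TotMap.map₂ (res φ) (ComplexShape.up ℤ) (ComplexShape.up ℤ)).obj
      (B₁ φ L K)).HasTotal (ComplexShape.up ℤ) :=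
    TotMap.hasTotal_map₂ (res φ) (B₁ φ L K) (ComplexShape.up ℤ)
  let e₂ : (TotMap.map₂ (res φ) (ComplexShape.up ℤ) (ComplexShape.up ℤ)).obj (B₁ φ L K) ≅
      (((F₂ φ).mapBifunctorHomologicalComplex (ComplexShape.up ℤ)
        (ComplexShape.up ℤ)).obj L).obj K :=
    (TotMap.map₂ (res φ) (ComplexShape.up ℤ) (ComplexShape.up ℤ)).mapIso
        (precompIso₂ (curriedTensor (ModuleCat.{u} R')) (ext φ) L K) ≪≫
      (TotMap.mapBifunctorPostcompIso (F₁ φ) (res φ) L K).symm
  haveI h2 : HasMapBifunctor L K (F₂ φ) (ComplexShape.up ℤ) :=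
    HomologicalComplex₂.hasTotal_of_iso e₂ (ComplexShape.up ℤ)
  let e₄ : B₄ φ L K ≅ (((F₃ φ).mapBifunctorHomologicalComplex (ComplexShape.up ℤ)
        (ComplexShape.up ℤ)).obj L).obj K :=
    precompIso₁ (curriedTensor (ModuleCat.{u} R)) (res φ) L K
  haveI h3 : HasMapBifunctor L K (F₃ φ) (ComplexShape.up ℤ) :=
    HomologicalComplex₂.hasTotal_of_iso e₄ (ComplexShape.up ℤ)
  exact (TotMap.mapTotalIso (res φ) (B₁ φ L K) (ComplexShape.up ℤ) ≪≫
    HomologicalComplex₂.total.mapIso e₂ (ComplexShape.up ℤ) ≪≫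
    TotMap.mapBifunctorNatIso L K (ComplexShape.up ℤ) (pfIso φ).symm ≪≫
    (HomologicalComplex₂.total.mapIso e₄ (ComplexShape.up ℤ)).symm).symm

end pf

section basic

variable {R : Type u} [CommRing R]

lemma exactAt_iff_of_quasiIso {K L : Cx R} (f : K ⟶ L) [QuasiIso f] (i : ℤ) :
    K.ExactAt i ↔ L.ExactAt i := by
  rw [exactAt_iff_isZero_homology, exactAt_iff_isZero_homology]
  have : IsIso (homologyMap f i) :=
    (quasiIsoAt_iff_isIso_homologyMap f i).1 inferInstance
  exact ⟨fun h => h.of_iso (asIso (homologyMap f i)).symm,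
    fun h => h.of_iso (asIso (homologyMap f i))⟩

lemma exactAt_iff_of_iso {K L : Cx R} (e : K ≅ L) (i : ℤ) :
    K.ExactAt i ↔ L.ExactAt i :=
  exactAt_iff_of_quasiIso e.hom i

variable {A : Type u} [CommRing A] (φ : R →+* A)

lemma exactAt_resCx_iff (Y : Cx A) (i : ℤ) :
    ((resCx φ).obj Y).ExactAt i ↔ Y.ExactAt i := by
  rw [HomologicalComplex.exactAt_iff, HomologicalComplex.exactAt_iff]
  exact ShortComplex.exact_map_iff_of_faithful (Y.sc i) (ModuleCat.restrictScalars.{u} φ)

end basic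

section crit

variable {R A : Type u} [CommRing R] [CommRing A] (φ : R →+* A)

/-- the key comparison: for `G → res X` a quasi-isomorphism from a K-flat complex and `F → M[0]` a
K-flat resolution, `M ⊗_R G` and `X ⊗_A (F ⊗_R A)` have the same exactness. -/
theorem exactAt_TC_iff_mix (X : Cx A) (G : Cx R) (hG : KFlat G) (p : G ⟶ (resCx φ).obj X)
    [QuasiIso p] (M : ModuleCat.{u} R) (F : Cx R) (hF : KFlat F) (π : F ⟶ sgl M) [QuasiIso π]
    (i : ℤ) :
    ((TC M).obj G).ExactAt i ↔ (X ⊗ (extCx φ).obj F : Cx A).ExactAt i := by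
  have q1 : QuasiIso (π ▷ G) := quasiIso_whiskerRight_of_kflat π G hG
  have q2 : QuasiIso (F ◁ p) := quasiIso_whiskerLeft_of_kflatL p F hF.kflatL
  rw [← exactAt_resCx_iff φ, ← exactAt_iff_of_iso (pfCx φ X F),
    ← exactAt_iff_of_iso (swapIso F ((resCx φ).obj X)), ← exactAt_iff_of_quasiIso (F ◁ p),
    exactAt_iff_of_quasiIso (π ▷ G)]
  exact exactAt_iff_of_iso (singleTensorIso M G) i

/-- forward direction of the mixed criterion -/
theorem mix_of_hasTorAmp (X : Cx A) (a b : ℤ)
    (h : DRing.HasTorAmplitudeIn R a b ((DRing.restrictD φ).obj (Q.obj X)))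
    (M : ModuleCat.{u} R) (F : Cx R) (hF : KFlat F) (π : F ⟶ sgl M) [QuasiIso π]
    (i : ℤ) (hi : i < a ∨ b < i) :
    (X ⊗ (extCx φ).obj F : Cx A).ExactAt i := by
  obtain ⟨G, p, hGP, -, hp, -⟩ := exists_kprojective_resolution ((resCx φ).obj X)
  have hG : KFlat G := kflat_of_isKProjective G
  have hpi : IsIso (Q.map p) := (DerivedCategory.isIso_Q_map_iff_quasiIso (φ := p)).2 hp
  obtain ⟨E, hE, hEf, ⟨e⟩⟩ := h
  have e' : Q.obj E ≅ Q.obj G := e ≪≫ (resFactors φ).app X ≪≫ (asIso (Q.map p)).symm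
  have hv : TorVan G a b := torVan_of_iso_kflat G E hG a b hE hEf e'
  exact (exactAt_TC_iff_mix φ X G hG p M F hF π i).1 (hv M i hi)

/-- backward direction of the mixed criterion -/
theorem hasTorAmp_of_mix (X : Cx A) (a b : ℤ)
    (h : ∀ (M : ModuleCat.{u} R), ∃ (F : Cx R) (π : F ⟶ sgl M), KFlat F ∧ QuasiIso π ∧
      ∀ i : ℤ, (i < a ∨ b < i) → (X ⊗ (extCx φ).obj F : Cx A).ExactAt i) :
    DRing.HasTorAmplitudeIn R a b ((DRing.restrictD φ).obj (Q.obj X)) := by
  obtain ⟨G, p, hGP, -, hp, -⟩ := exists_kprojective_resolution ((resCx φ).obj X)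
  have hG : KFlat G := kflat_of_isKProjective G
  have hpi : IsIso (Q.map p) := (DerivedCategory.isIso_Q_map_iff_quasiIso (φ := p)).2 hp
  have e' : Q.obj G ≅ (DRing.restrictD φ).obj (Q.obj X) :=
    asIso (Q.map p) ≪≫ ((resFactors φ).app X).symm
  refine hasTorAmp_of_iso e' (hasTorAmp_of_torVan_kflat G hG a b ?_)
  intro M i hi
  obtain ⟨F, π, hF, hπ, hex⟩ := h M
  exact (exactAt_TC_iff_mix φ X G hG p M F hF π i).2 (hex i hi)

/-- K-flat resolutions of modules exist -/
lemma exists_kflat_resolution (M : ModuleCat.{u} R) :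
    ∃ (F : Cx R) (π : F ⟶ sgl M), KFlat F ∧ QuasiIso π := by
  obtain ⟨F, π, hFP, -, hπ, -⟩ := exists_kprojective_resolution (sgl M)
  exact ⟨F, π, kflat_of_isKProjective F, hπ⟩

end crit


section ff

variable {A B : Type u} [CommRing A] [CommRing B] [Algebra A B]

/-- `B` as an `A`-module via restriction of scalars is `B` with its algebra module structure -/
noncomputable def resAEquiv : B ≃ₗ[A] resA (algebraMap A B) where
  toFun x := x
  invFun x := x
  map_add' _ _ := rfl
  map_smul' r x := by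
    show r • x = (algebraMap A B) r * x
    rw [Algebra.smul_def]
  left_inv _ := rfl
  right_inv _ := rfl

lemma faithfullyFlat_resA [Module.FaithfullyFlat A B] :
    Module.FaithfullyFlat A (resA (algebraMap A B)) :=
  Module.FaithfullyFlat.of_linearEquiv A B (resAEquiv (A := A) (B := B)).symm

lemma flat_resA [Module.Flat A B] : Module.Flat A (resA (algebraMap A B)) :=
  Module.Flat.of_linearEquiv (resAEquiv (A := A) (B := B)).symm

lemma exactAt_extCx_iff_of_faithfullyFlat [Module.FaithfullyFlat A B] (Y : Cx A) (i : ℤ) :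
    ((extCx (algebraMap A B)).obj Y).ExactAt i ↔ Y.ExactAt i := by
  haveI := faithfullyFlat_resA (A := A) (B := B)
  rw [exactAt_extCx_iff, exactAt_TC_iff (resA (algebraMap A B)) Y (i - 1) i (i + 1) (by lia) rfl,
    exactAt_iff_fexact Y (i - 1) i (i + 1) (by lia) rfl]
  exact Module.FaithfullyFlat.lTensor_exact_iff_exact A _ _ _

lemma exactAt_extCx_of_flat [Module.Flat A B] (Y : Cx A) (i : ℤ) (h : Y.ExactAt i) :
    ((extCx (algebraMap A B)).obj Y).ExactAt i := by
  haveI := flat_resA (A := A) (B := B)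
  rw [exactAt_extCx_iff, exactAt_TC_iff (resA (algebraMap A B)) Y (i - 1) i (i + 1) (by lia) rfl]
  rw [exactAt_iff_fexact Y (i - 1) i (i + 1) (by lia) rfl] at h
  exact Module.Flat.lTensor_exact _ h

end ff

section S6951

variable {R A B : Type u} [CommRing R] [CommRing A] [CommRing B] (φ : R →+* A) (ψ : A →+* B)

/-- `(P ⊗_A B) ⊗_B (F ⊗_R B) ≅ (P ⊗_A (F ⊗_R A)) ⊗_A B` -/
noncomputable def extMixIso (P : Cx A) (F : Cx R) :
    ((extCx ψ).obj P ⊗ (extCx (ψ.comp φ)).obj F : Cx B) ≅
      (extCx ψ).obj (P ⊗ (extCx φ).obj F) :=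
  whiskerLeftIso ((extCx ψ).obj P) ((extCompCx φ ψ).app F).symm ≪≫
    (extTenCxIso ψ P ((extCx φ).obj F)).symm

theorem torAmp_restrict_iff_of_faithfullyFlat [Algebra A B] [Module.FaithfullyFlat A B]
    (φ' : R →+* B) (hφ : φ' = (algebraMap A B).comp φ) (P : Cx A) (a b : ℤ) :
    DRing.HasTorAmplitudeIn R a b ((DRing.restrictD φ).obj (Q.obj P)) ↔
      DRing.HasTorAmplitudeIn R a b
        ((DRing.restrictD φ').obj (Q.obj ((extCx (algebraMap A B)).obj P))) := by
  subst hφ
  constructor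
  · intro h
    apply hasTorAmp_of_mix
    intro M
    obtain ⟨F, π, hF, hπ⟩ := exists_kflat_resolution M
    refine ⟨F, π, hF, hπ, fun i hi => ?_⟩
    rw [exactAt_iff_of_iso (extMixIso φ (algebraMap A B) P F),
      exactAt_extCx_iff_of_faithfullyFlat]
    exact mix_of_hasTorAmp φ P a b h M F hF π i hi
  · intro h
    apply hasTorAmp_of_mix
    intro M
    obtain ⟨F, π, hF, hπ⟩ := exists_kflat_resolution M
    refine ⟨F, π, hF, hπ, fun i hi => ?_⟩
    rw [← exactAt_extCx_iff_of_faithfullyFlat (B := B),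
      ← exactAt_iff_of_iso (extMixIso φ (algebraMap A B) P F)]
    exact mix_of_hasTorAmp _ _ a b h M F hF π i hi

end S6951

end Groth.Agent.Lib.T2H4.TorRes
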