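import Mathlib
import Groth.Agent.Lib.T2H4TorRes
import Groth.Agent.Lib.Helper1TorK
set_option backward.isDefEq.respectTransparency.types false

/-!
# Tor amplitude of restrictions of scalars: localization (helper4)

Local-global principle for tor amplitude of `res_A K`, `K` a complex of `B`-modules, along the
localizations `A_p → B_m` at maximal ideals `m ⊂ B`.
-/

set_option autoImplicit false
set_option linter.style.haveILetI false
universe u
open CategoryTheory CategoryTheory.Limits HomologicalComplex MonoidalCategory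
attribute [local instance] HasDerivedCategory.standard

namespace Groth.Agent.Lib.T2H4.TorRes

open Groth.Agent.Lib.Helper1.BKF Groth.Agent.Lib.Helper1.KBC Groth.Agent.Lib.Helper1.KF
  Groth.Agent.Lib.Helper1.Tor Groth.Agent.Lib.Helper1.DT DTen DerivedCategory
  Groth.Agent.Lib.Helper1.TorO

section crit'

variable {R A : Type u} [CommRing R] [CommRing A] (φ : R →+* A)

theorem mix_of_hasTorAmp' (X : Cx A) (a b : ℤ)
    (h : DRing.HasTorAmplitudeIn R a b (Q.obj ((resCx φ).obj X)))
    (M : ModuleCat.{u} R) (F : Cx R) (hF : KFlat F) (π : F ⟶ sgl M) [QuasiIso π]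
    (i : ℤ) (hi : i < a ∨ b < i) :
    (X ⊗ (extCx φ).obj F : Cx A).ExactAt i :=
  mix_of_hasTorAmp φ X a b (hasTorAmp_of_iso ((resFactors φ).app X).symm h) M F hF π i hi

theorem hasTorAmp_of_mix' (X : Cx A) (a b : ℤ)
    (h : ∀ (M : ModuleCat.{u} R), ∃ (F : Cx R) (π : F ⟶ sgl M), KFlat F ∧ QuasiIso π ∧
      ∀ i : ℤ, (i < a ∨ b < i) → (X ⊗ (extCx φ).obj F : Cx A).ExactAt i) :
    DRing.HasTorAmplitudeIn R a b (Q.obj ((resCx φ).obj X)) :=
  hasTorAmp_of_iso ((resFactors φ).app X) (hasTorAmp_of_mix φ X a b h)

end crit'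

section kflatExt

variable {R R' : Type u} [CommRing R] [CommRing R'] (α : R →+* R')

/-- base change of a K-flat complex is K-flat -/
lemma kflat_extCx (F : Cx R) (hF : KFlat F) : KFlat ((extCx α).obj F) := by
  intro L hL
  exact acyc_mapBifunctor_ext α L F (fun L₀ hL₀ => hF L₀ hL₀) hL

end kflatExt

section flatExt

variable {R R' : Type u} [CommRing R] [CommRing R'] [Algebra R R'] [Module.Flat R R']

open Groth.Agent.Lib.Helper1.Extend in
/-- flat base change of a K-flat resolution of a module -/
lemma exists_ext_resolution (M : ModuleCat.{u} R) (F : Cx R) (π : F ⟶ sgl M) [QuasiIso π] :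
    ∃ π' : (extCx (algebraMap R R')).obj F ⟶
      sgl ((ModuleCat.extendScalars.{u, u, u} (algebraMap R R')).obj M), QuasiIso π' := by
  have h1 : QuasiIso ((extCx (algebraMap R R')).map π) :=
    HomologicalComplex.quasiIso_map_of_preservesHomology π (ext R R')
  refine ⟨(extCx (algebraMap R R')).map π ≫
    (HomologicalComplex.singleMapHomologicalComplex (ext R R') (ComplexShape.up ℤ) 0).hom.app M,
    inferInstance⟩

end flatExt

section localGlobal

variable {B : Type u} [CommRing B]

open Groth.Agent.Lib.Helper1.Extend in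
lemma exactAt_of_forall_maximal (Y : Cx B) (i : ℤ)
    (h : ∀ (m : Ideal B) [m.IsMaximal],
      ((extCx (algebraMap B (Localization.AtPrime m))).obj Y).ExactAt i) : Y.ExactAt i := by
  rw [exactAt_iff_isZero_homology]
  refine (descFam'_maximal (R := B)).isZero _ (fun m => ?_)
  have h1 := h m.asIdeal
  rw [exactAt_iff_isZero_homology] at h1
  exact h1.of_iso (homologyMapCxIso (ext B (Localization.AtPrime m.asIdeal)) Y i).symm

end localGlobal

section square

variable {A B C A' : Type u} [CommRing A] [CommRing B] [CommRing C] [CommRing A']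
  (φ : A →+* B) (γ : B →+* C) (α : A →+* A') (β : A' →+* C)

/-- `(K ⊗_B (F ⊗_A B)) ⊗_B C ≅ (K ⊗_B C) ⊗_C ((F ⊗_A A') ⊗_{A'} C)` for a commutative square -/
noncomputable def sqMixIso (h : γ.comp φ = β.comp α) (K : Cx B) (F : Cx A) :
    (extCx γ).obj (K ⊗ (extCx φ).obj F) ≅
      ((extCx γ).obj K ⊗ (extCx β).obj ((extCx α).obj F) : Cx C) :=
  extTenCxIso γ K ((extCx φ).obj F) ≪≫
    whiskerLeftIso ((extCx γ).obj K)
      ((extCompCx φ γ).app F ≪≫ eqToIso (by rw [h]) ≪≫ ((extCompCx α β).app F).symm)

end square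

section S12092

theorem hasTorAmp_of_local (A B : Type u) [CommRing A] [CommRing B] [Algebra A B] (K : Cx B)
    (a b : ℤ)
    (h3 : ∀ (m : Ideal B) [m.IsMaximal],
      DRing.HasTorAmplitudeIn (Localization.AtPrime (m.comap (algebraMap A B))) a b
        (Q.obj ((resCx (Localization.localRingHom (m.comap (algebraMap A B)) m
          (algebraMap A B) rfl)).obj
          ((extCx (algebraMap B (Localization.AtPrime m))).obj K)))) :
    DRing.HasTorAmplitudeIn A a b (Q.obj ((resCx (algebraMap A B)).obj K)) := by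
  apply hasTorAmp_of_mix'
  intro M
  obtain ⟨F, π, hF, hπ⟩ := exists_kflat_resolution M
  refine ⟨F, π, hF, hπ, fun i hi => ?_⟩
  apply exactAt_of_forall_maximal
  intro m _
  have hcomp : (algebraMap B (Localization.AtPrime m)).comp (algebraMap A B) =
      (Localization.localRingHom (m.comap (algebraMap A B)) m (algebraMap A B) rfl).comp
        (algebraMap A (Localization.AtPrime (m.comap (algebraMap A B)))) := by
    ext x
    simp [Localization.localRingHom_to_map]
  rw [exactAt_iff_of_iso (sqMixIso _ _ _ _ hcomp K F)]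
  obtain ⟨π', hπ'⟩ := exists_ext_resolution
    (R' := Localization.AtPrime (m.comap (algebraMap A B))) M F π
  exact mix_of_hasTorAmp' _ _ a b (h3 m) _ _
    (kflat_extCx (algebraMap A (Localization.AtPrime (m.comap (algebraMap A B)))) F hF) π' i hi

end S12092

end Groth.Agent.Lib.T2H4.TorRes
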