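import Mathlib
import Groth.Agent.Lib.T2H4TorRes2
import Groth.Agent.Lib.Helper1TorL
import Groth.Agent.Lib.Helper1DT2
import Groth.Prelude.Def_DRing4
set_option backward.isDefEq.respectTransparency.types false

/-!
# Tor amplitude of restrictions of scalars: derived tensor products (helper4)

If `K ∈ D(B)` has tor amplitude in `[a, b]` over `B` and `L|_A` has tor amplitude in `[c, d]` over
`A`, then `(K ⊗^L_B L)|_A` has tor amplitude in `[a + c, b + d]` over `A`.
-/

set_option autoImplicit false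
set_option linter.style.haveILetI false
universe u
open CategoryTheory CategoryTheory.Limits HomologicalComplex MonoidalCategory
attribute [local instance] HasDerivedCategory.standard

namespace Groth.Agent.Lib.T2H4.TorRes

open Groth.Agent.Lib.Helper1.BKF Groth.Agent.Lib.Helper1.KBC Groth.Agent.Lib.Helper1.KF
  Groth.Agent.Lib.Helper1.Tor Groth.Agent.Lib.Helper1.DT DTen DerivedCategory
  Groth.Agent.Lib.Helper1.TorO Groth.Agent.Lib.Helper1.TorL

section tensorBounds

variable {B : Type u} [CommRing B]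

/-- a quasi-isomorphism between K-flat complexes stays one after tensoring with any complex -/
lemma quasiIso_whiskerRight_of_kflat_kflat {P E : Cx B} (g : P ⟶ E) [QuasiIso g]
    (hP : KFlat P) (hE : KFlat E) (Y : Cx B) : QuasiIso (g ▷ Y) := by
  obtain ⟨L', π, hL'P, -, hπ, -⟩ := exists_kprojective_resolution Y
  have hL' : KFlat L' := kflat_of_isKProjective L'
  have h1 : QuasiIso (g ▷ L') := quasiIso_whiskerRight_of_kflat g L' hL'
  have h2 : QuasiIso (E ◁ π) := quasiIso_whiskerLeft_of_kflatL π E hE.kflatL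
  have h3 : QuasiIso (P ◁ π) := quasiIso_whiskerLeft_of_kflatL π P hP.kflatL
  have h4 : (P ◁ π) ≫ (g ▷ Y) = (g ▷ L') ≫ (E ◁ π) := whisker_exchange g π
  have h5 : QuasiIso ((P ◁ π) ≫ (g ▷ Y)) := by rw [h4]; infer_instance
  exact quasiIso_of_comp_left (P ◁ π) (g ▷ Y)

lemma isZero_tensor_X (E Y : Cx B) (n : ℤ)
    (h : ∀ p q : ℤ, p + q = n → IsZero (E.X p) ∨ IsZero (Y.X q)) : IsZero ((E ⊗ Y : Cx B).X n) := by
  rw [IsZero.iff_id_eq_zero]
  apply tensor_hom_ext
  intro p q hpq
  have hz : IsZero (E.X p ⊗ Y.X q : ModuleCat.{u} B) := by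
    rcases h p q hpq with h1 | h1
    · exact (tensorRight (Y.X q)).map_isZero h1
    · exact (tensorLeft (E.X p)).map_isZero h1
  exact hz.eq_of_src _ _

lemma exactAt_of_isZero_X' (K : Cx B) (n : ℤ) (h : IsZero (K.X n)) : K.ExactAt n :=
  ShortComplex.exact_of_isZero_X₂ _ h

/-- `E ⊗ Y` is exact outside `[a + c, b + d]` if `E` is a flat complex in `[a, b]` and `Y` is exact
outside `[c, d]` -/
theorem exactAt_tensor_of_bounds (E Y : Cx B) (a b c d : ℤ) (hE : DRing.VanishesOutside E a b)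
    (hEf : DRing.TermwiseFlat E) (hY : ∀ i : ℤ, (i < c ∨ d < i) → Y.ExactAt i) (n : ℤ)
    (hn : n < a + c ∨ b + d < n) : (E ⊗ Y : Cx B).ExactAt n := by
  have hEK : KFlat E := kflat_of_boundedAbove_flat E b (fun q hq => hE q (Or.inr hq)) hEf
  rcases hn with hn | hn
  · haveI : CochainComplex.IsGE Y c := (CochainComplex.isGE_iff Y c).2 (fun i hi => hY i (Or.inl hi))
    have q1 : QuasiIso (E ◁ CochainComplex.πTruncGE Y c) :=
      quasiIso_whiskerLeft_of_kflatL _ E hEK.kflatL
    rw [exactAt_iff_of_quasiIso (E ◁ CochainComplex.πTruncGE Y c)]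
    apply exactAt_of_isZero_X'
    apply isZero_tensor_X
    intro p q hpq
    by_cases hp : p < a
    · exact Or.inl (hE p (Or.inl hp))
    · exact Or.inr (CochainComplex.isZero_of_isStrictlyGE (CochainComplex.truncGE Y c) c q (by lia))
  · haveI : CochainComplex.IsLE Y d := (CochainComplex.isLE_iff Y d).2 (fun i hi => hY i (Or.inr hi))
    have q1 : QuasiIso (E ◁ CochainComplex.ιTruncLE Y d) :=
      quasiIso_whiskerLeft_of_kflatL _ E hEK.kflatL
    rw [← exactAt_iff_of_quasiIso (E ◁ CochainComplex.ιTruncLE Y d)]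
    apply exactAt_of_isZero_X'
    apply isZero_tensor_X
    intro p q hpq
    by_cases hp : b < p
    · exact Or.inl (hE p (Or.inr hp))
    · exact Or.inr (CochainComplex.isZero_of_isStrictlyLE (CochainComplex.truncLE Y d) d q (by lia))

end tensorBounds

section S6953

variable {A B : Type u} [CommRing A] [CommRing B] (φ : A →+* B)

theorem torAmp_restrict_LTensorCx (K : Dual.D B) (a b c d : ℤ)
    (hK : DRing.HasTorAmplitudeIn B a b K) (L : Cx B)
    (hL : DRing.HasTorAmplitudeIn A c d (Q.obj ((resCx φ).obj L))) [DRing.HasLTensorCx B L] :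
    DRing.HasTorAmplitudeIn A (a + c) (b + d)
      ((DRing.restrictD φ).obj ((DRing.LTensorCx B L).obj K)) := by
  obtain ⟨E, hE, hEf, ⟨e⟩⟩ := hK
  obtain ⟨P, hP, -, ⟨eP⟩⟩ := exists_kproj_iso K
  obtain ⟨g, hg⟩ := Q_map_surjective P E (eP.hom ≫ e.inv)
  have hgi : IsIso (Q.map g) := by rw [hg]; infer_instance
  have hgq : QuasiIso g := (DerivedCategory.isIso_Q_map_iff_quasiIso (φ := g)).1 hgi
  have hEK : KFlat E := kflat_of_boundedAbove_flat E b (fun q hq => hE q (Or.inr hq)) hEf
  have hPK : KFlat P := kflat_of_isKProjective P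
  have q1 : QuasiIso (g ▷ L) := quasiIso_whiskerRight_of_kflat_kflat g hPK hEK L
  have i1 : IsIso (Q.map (g ▷ L)) := (DerivedCategory.isIso_Q_map_iff_quasiIso (φ := g ▷ L)).2 q1
  have := isIso_counit_LTensorCx L P
  have iso : (DRing.LTensorCx B L).obj K ≅ Q.obj (E ⊗ L) :=
    (DRing.LTensorCx B L).mapIso eP.symm ≪≫
      asIso (((DRing.tensorCxQ B L).totalLeftDerivedCounit Q
        (HomologicalComplex.quasiIso (ModuleCat.{u} B) (ComplexShape.up ℤ))).app P) ≪≫
      asIso (Q.map (g ▷ L))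
  refine hasTorAmp_of_iso ((DRing.restrictD φ).mapIso iso.symm)
    (hasTorAmp_of_mix φ (E ⊗ L) _ _ ?_)
  intro M
  obtain ⟨F, π, hF, hπ⟩ := exists_kflat_resolution M
  refine ⟨F, π, hF, hπ, fun i hi => ?_⟩
  rw [exactAt_iff_of_iso (α_ E L ((extCx φ).obj F))]
  exact exactAt_tensor_of_bounds E (L ⊗ (extCx φ).obj F) a b c d hE hEf
    (fun j hj => mix_of_hasTorAmp' φ L c d hL M F hF π j hj) i hi

end S6953

end Groth.Agent.Lib.T2H4.TorRes
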