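import Mathlib
import Groth.Prelude.Def_DerSch
import Groth.Prelude.Def_DDual2
import Groth.Agent.Lib.T2H4TorRes3
import Groth.Agent.Lib.T2H4LDerExist
import Groth.Agent.Lib.Helper1CI8
import Groth.Agent.Lib.T2H2TorAmpComp
import Groth.Agent.Lib.T2H1StalkTorAmp
import Groth.Agent.Lib.Helper1KBC6
import Groth.Agent.Lib.Helper1Sky3
set_option backward.isDefEq.respectTransparency.types false

/-!
# Tor amplitude of a derived pullback relative to a composite (helper1, second team)
-/

set_option autoImplicit false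
set_option linter.style.haveILetI false
universe u
open CategoryTheory CategoryTheory.Limits AlgebraicGeometry HomologicalComplex MonoidalCategory

attribute [local instance] HasDerivedCategory.standard

namespace Groth.Agent.Lib.T2H1.LpullTorAmp

section Ring

open Groth.Agent.Lib.Helper1.KF Groth.Agent.Lib.Helper1.DT DerivedCategory DTen
  Groth.Agent.Lib.Helper1.CI Groth.Agent.Lib.T2H4.TorRes Groth.Agent.Lib.T2H4.LDerExist
  Groth.Agent.Lib.Helper1.TorL

variable {B : Type u} [CommRing B]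

/-- the derived tensor product with a complex of modules over a ring exists -/
theorem hasLTensorCx (E : Cx B) : DRing.HasLTensorCx B E := by
  obtain ⟨ρ, ψ, h⟩ := exists_functorial_kprojective_resolution B
  have hρ : ∀ G, (fun G : Cx B => G.IsKProjective) (ρ.obj G) := fun G => (h G).1
  have hπ : ∀ G, HomologicalComplex.quasiIso (ModuleCat.{u} B) (ComplexShape.up ℤ) (ψ.app G) :=
    fun G => (h G).2
  have hF : ∀ {G G' : Cx B} (q : G ⟶ G'), G.IsKProjective → G'.IsKProjective →
      HomologicalComplex.quasiIso (ModuleCat.{u} B) (ComplexShape.up ℤ) q →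
      IsIso ((DRing.tensorCxQ B E).map q) := by
    intro G G' q hG hG' hq
    haveI : QuasiIso q := hq
    have := quasiIso_whiskerRight_of_kflat_kflat q (kflat_of_isKProjective G)
      (kflat_of_isKProjective G') E
    exact (DerivedCategory.isIso_Q_map_iff_quasiIso (φ := q ▷ E)).2 this
  have h1 := isLeftDerivedFunctor_res
    (HomologicalComplex.quasiIso (ModuleCat.{u} B) (ComplexShape.up ℤ))
    (DerivedCategory.Q (C := ModuleCat.{u} B))
    (DRing.tensorCxQ B E) (fun G : Cx B => G.IsKProjective) ρ ψ hρ hπ hF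
  exact @Functor.HasLeftDerivedFunctor.mk' _ _ _ _ _ _ _ _ _ _ _ _ h1

variable {A C : Type u} [CommRing A] [CommRing C] (ψ : A →+* B) (φ : B →+* C)

/-- ring-level core: if `C` has tor amplitude in `[-m, 0]` over `B`, and `P` is a K-flat complex
of `B`-modules whose restriction to `A` has tor amplitude in `[c, d]`, then `C ⊗_B P`, restricted
to `A`, has tor amplitude in `[c - m, d]`. -/
theorem hasTorAmplitudeIn_resCx_TCx (m : ℕ)
    (hC : DRing.HasTorAmplitudeIn B (-(m : ℤ)) 0 (Q.obj (sgl (resA φ))))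
    (P : Cx B) (hP : KFlat P) (c d : ℤ)
    (hPA : DRing.HasTorAmplitudeIn A c d (Q.obj ((resCx ψ).obj P))) :
    DRing.HasTorAmplitudeIn A (c - m) d (Q.obj ((resCx ψ).obj (TCx (resA φ) P))) := by
  haveI := hasLTensorCx P
  have h1 := torAmp_restrict_LTensorCx ψ (Q.obj (sgl (resA φ))) (-(m : ℤ)) 0 c d hC P hPA
  obtain ⟨e⟩ := nonempty_iso_LTensorCx_single (K := P) P hP (Iso.refl _) (resA φ)
  have h2 : DRing.HasTorAmplitudeIn A (-(m : ℤ) + c) (0 + d)
      (Q.obj ((resCx ψ).obj (TCx (resA φ) P))) :=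
    Groth.Agent.Lib.Helper1.Tor.hasTorAmp_of_iso
      ((DRing.restrictD ψ).mapIso e ≪≫ (resFactors ψ).app _) h1
  have e1 : -(m : ℤ) + c = c - m := by ring
  have e2 : (0 : ℤ) + d = d := by ring
  rw [e1, e2] at h2
  exact h2

/-- `(C ⊗_B M)|_B ≅ C|_B ⊗_B M` -/
noncomputable def resExtIsoApp (M : ModuleCat.{u} B) :
    (ModuleCat.restrictScalars.{u} φ).obj ((ModuleCat.extendScalars.{u, u, u} φ).obj M) ≅
      (tensorLeft (resA φ)).obj M :=
  LinearEquiv.toModuleIso <|
    @AddEquiv.toLinearEquiv B _ _ _ _ _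
      (((ModuleCat.restrictScalars.{u} φ).obj
        ((ModuleCat.extendScalars.{u, u, u} φ).obj M)).isModule)
      (((tensorLeft (resA φ)).obj M).isModule) (AddEquiv.refl _) (fun b x => by
        induction x using TensorProduct.induction_on with
        | zero => rfl
        | tmul a m => rfl
        | add x y hx hy => rfl)

/-- `(C ⊗_B -)|_B ≅ C|_B ⊗_B -` -/
noncomputable def resExtIso :
    ModuleCat.extendScalars.{u, u, u} φ ⋙ ModuleCat.restrictScalars.{u} φ ≅
      tensorLeft (resA φ) :=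
  NatIso.ofComponents (fun M => resExtIsoApp φ M) (fun {M N} l => by
    apply ModuleCat.hom_ext
    apply LinearMap.ext
    intro x
    change ((ModuleCat.extendScalars.{u, u, u} φ).map l).hom x = (resA φ ◁ l).hom x
    exact extendScalars_map_apply φ l x)

end Ring

section Sch

open Groth.Agent.Lib.Helper1.KF Groth.Agent.Lib.Helper1.DT DerivedCategory DTen
  Groth.Agent.Lib.Helper1.Sky Groth.Agent.Lib.Helper1.KBC Groth.Agent.Lib.Helper1.BKF
  Groth.Agent.Lib.T2H2.TorAmpComp Groth.Agent.Lib.T2H1.StalkTorAmp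

variable {X Y Z : Scheme.{u}} (f : X ⟶ Y) (g : Y ⟶ Z) (x : X)

/-- the stalk map of `f` at `x` -/
noncomputable abbrev phiF : Groth.Agent.Lib.Helper1.Sky.Ox (f x) →+* Groth.Agent.Lib.Helper1.Sky.Ox x :=
  (f.stalkMap x).hom

/-- the stalk of a pullback, as a module over the local ring of `Z` -/
noncomputable def stalkOverPullbackIso :
    Scheme.Modules.pullback f ⋙ DerSch.stalkOver (f ≫ g) x ≅
      (stalkFun (f x) ⋙ tensorLeft (resA (phiF f x))) ⋙
        ModuleCat.restrictScalars.{u} (phi f g x) :=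
  Functor.isoWhiskerLeft (Scheme.Modules.pullback f) (stalkOverCompIso f g x).symm ≪≫
    (show Scheme.Modules.pullback f ⋙ (DerSch.stalkFunctor X x ⋙
        ModuleCat.restrictScalars.{u} (phiF f x)) ⋙ ModuleCat.restrictScalars.{u} (phi f g x) ≅
      ((Scheme.Modules.pullback f ⋙ stalkFun x) ⋙ ModuleCat.restrictScalars.{u} (phiF f x)) ⋙
        ModuleCat.restrictScalars.{u} (phi f g x) from
      (Functor.associator _ _ _).symm ≪≫
        Functor.isoWhiskerRight ((Functor.associator _ _ _).symm ≪≫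
          Functor.isoWhiskerRight (Functor.isoWhiskerLeft _ (stalkFunctorIso x)) _) _) ≪≫
    Functor.isoWhiskerRight (Functor.isoWhiskerRight (stalkPullbackIso f x) _ ≪≫
      Functor.associator _ _ _ ≪≫ Functor.isoWhiskerLeft _ (resExtIso (phiF f x))) _

/-- the local ring of `X` at `x` as a module over the local ring of `Y` at `f x`, two ways -/
noncomputable def algModIso :
    letI : Algebra (Y.presheaf.stalk (f.base x)) (X.presheaf.stalk x) :=
      (f.stalkMap x).hom.toAlgebra
    ModuleCat.of (Y.presheaf.stalk (f.base x)) (X.presheaf.stalk x) ≅ resA (phiF f x) :=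
  letI : Algebra (Y.presheaf.stalk (f.base x)) (X.presheaf.stalk x) :=
    (f.stalkMap x).hom.toAlgebra
  LinearEquiv.toModuleIso <|
    @AddEquiv.toLinearEquiv (Y.presheaf.stalk (f.base x)) _ _ _ _ _
      ((ModuleCat.of (Y.presheaf.stalk (f.base x)) (X.presheaf.stalk x)).isModule)
      ((resA (phiF f x)).isModule) (AddEquiv.refl _) (fun _ _ => rfl)

/-- S6188: tor amplitude of a derived pullback relative to a composite -/
theorem hasTorAmplitudeD_Lpull (m : ℕ) (hf : DerSch.HasTorDimLE f m) [DCoh.HasLpull f]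
    (G : CochainComplex Y.Modules ℤ) (c d : ℤ) (hG : DerSch.HasTorAmplitude g c d G) :
    DerSch.HasTorAmplitudeD (f ≫ g) (c - m) d ((DCoh.Lpull f).obj (DCoh.toD Y G)) := by
  rintro F' ⟨eF'⟩ x
  obtain ⟨P, q, hP, -, hq, -⟩ : ∃ (P : CochainComplex Y.Modules ℤ) (q : P ⟶ G),
      DCoh.IsKFlat P ∧ (∀ n : ℤ, ModSite.IsFlat (O := Y.sheaf) (P.X n)) ∧ QuasiIso q ∧
        ∀ n : ℤ, Epi (q.f n) := exists_kflat_flat_resolution Y.sheaf G
  haveI hqi : IsIso (DerivedCategory.Q.map q) := by
    rw [DerivedCategory.isIso_Q_map_iff_quasiIso]; exact hq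
  have eP : DCoh.toD Y P ≅ DCoh.toD Y G := asIso (DerivedCategory.Q.map q)
  have e1 : DCoh.toD X F' ≅ DCoh.toD X ((pullC f).obj P) :=
    eF' ≪≫ (DCoh.Lpull f).mapIso eP.symm ≪≫ lpullIsoK f P hP
  obtain ⟨e2⟩ := nonempty_toD_stalkCxOver_iso (f ≫ g) x e1
  -- the local ring of `X` over the local ring of `Y`
  have hC : DRing.HasTorAmplitudeIn (Groth.Agent.Lib.Helper1.Sky.Ox (f x)) (-(m : ℤ)) 0
      (Q.obj (sgl (resA (phiF f x)))) := by
    have h0 := hasTorAmp_inD_of_hasTorDimLE f m hf x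
    refine Groth.Agent.Lib.Helper1.Tor.hasTorAmp_of_iso ?_ h0
    exact (DerivedCategory.singleFunctor _ 0).mapIso (algModIso f x) ≪≫
      (DerivedCategory.singleFunctorIsoCompQ (ModuleCat.{u} (Groth.Agent.Lib.Helper1.Sky.Ox (f x))) 0).app
        (resA (phiF f x))
  have hPy : KFlat ((stalkC (f x)).obj P) := fun L hL => rKFlat_stalk_of_isKFlat (f x) P hP L hL
  -- the stalks of `P` over the local ring of `Z`
  obtain ⟨e3⟩ := nonempty_toD_stalkCxOver_iso g (f x) eP
  have hG1 : DRing.HasTorAmplitudeIn (Z.presheaf.stalk (g.base (f x))) c d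
      (DRing.toD ((DerSch.stalkCxOver g (f x)).obj P)) :=
    Groth.Agent.Lib.Helper1.Tor.hasTorAmp_of_iso e3.symm (hG (f x))
  have hG2 : DRing.HasTorAmplitudeIn (Z.presheaf.stalk ((f ≫ g).base x)) c d
      (Q.obj ((resCx (phi f g x)).obj
        (((DerSch.stalkFunctor Y (f x)).mapHomologicalComplex (ComplexShape.up ℤ)).obj P))) := hG1
  have hPA : DRing.HasTorAmplitudeIn (Z.presheaf.stalk ((f ≫ g).base x)) c d
      (Q.obj ((resCx (phi f g x)).obj ((stalkC (f x)).obj P))) :=
    Groth.Agent.Lib.Helper1.Tor.hasTorAmp_of_iso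
      (Q.mapIso ((resCx (phi f g x)).mapIso
        ((NatIso.mapHomologicalComplex (stalkFunctorIso (f x)) (ComplexShape.up ℤ)).app P))) hG2
  have h3 := hasTorAmplitudeIn_resCx_TCx (phi f g x) (phiF f x) m hC _ hPy c d hPA
  refine Groth.Agent.Lib.Helper1.Tor.hasTorAmp_of_iso ?_ h3
  exact Q.mapIso ((NatIso.mapHomologicalComplex (stalkOverPullbackIso f g x)
    (ComplexShape.up ℤ)).app P).symm ≪≫ e2.symm

end Sch

end Groth.Agent.Lib.T2H1.LpullTorAmp
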