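import Groth.Agent.Lib.T2H5CechPnTop

/-!
# Everywhere negative multidegrees and homogeneous polynomials (T2H5)

The functions with finite support on the multidegrees `e` with all `e j < 0` and `∑ e j = -(n+1+k)` form
a module isomorphic to the homogeneous polynomials of degree `k` in `n + 1` variables, by `e ↦ -1 - e`.
-/

set_option autoImplicit false
universe u

namespace Groth.Agent.Lib.T2H5.NegDeg

open Groth.Agent.Lib.T2H5.CechPn

variable {n : ℕ} {ι : Type u} (v : ι ≃ Fin (n + 1))

theorem mem_negDeg_iff (d : ℤ) (e : EE n) :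
    e ∈ negDeg (n := n) d v ↔ (∑ j, e j = d) ∧ ∀ j, e j < 0 := by
  constructor
  · rintro ⟨h1, h2⟩
    refine ⟨h1, fun j => ?_⟩
    have h3 : v.symm j ∈ negSet v e := by
      rw [h2]
      trivial
    have h4 : e (v (v.symm j)) < 0 := h3
    rwa [Equiv.apply_symm_apply] at h4
  · rintro ⟨h1, h2⟩
    exact ⟨h1, Set.eq_univ_of_forall fun i => h2 (v i)⟩

/-- `e ↦ -1 - e` from the everywhere negative multidegrees of total degree `-(n+1+k)` to the exponents
of total degree `k`. -/
noncomputable def negEquiv (k : ℕ) :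
    ↥(negDeg (n := n) (-((n : ℤ) + 1 + k)) v) ≃ ↥{a : Fin (n + 1) →₀ ℕ | a.degree = k} where
  toFun e := ⟨Finsupp.equivFunOnFinite.symm (fun j => (-1 - e.1 j).toNat), by
    obtain ⟨h1, h2⟩ := (mem_negDeg_iff v _ e.1).mp e.2
    change Finsupp.degree _ = k
    rw [Finsupp.degree_eq_sum]
    have h3 : ((∑ j, (Finsupp.equivFunOnFinite.symm (fun j => (-1 - e.1 j).toNat) :
        Fin (n + 1) →₀ ℕ) j : ℕ) : ℤ) = k := by
      push_cast
      have h4 : ∀ j, (((Finsupp.equivFunOnFinite.symm (fun j => (-1 - e.1 j).toNat) :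
          Fin (n + 1) →₀ ℕ) j : ℕ) : ℤ) = -1 - e.1 j := by
        intro j
        change (((-1 - e.1 j).toNat : ℕ) : ℤ) = _
        have := h2 j
        omega
      simp only [h4]
      rw [Finset.sum_sub_distrib, h1, Finset.sum_const, Finset.card_univ, Fintype.card_fin,
        nsmul_eq_mul]
      push_cast
      ring
    exact_mod_cast h3⟩
  invFun a := ⟨Finsupp.equivFunOnFinite.symm (fun j => -1 - (a.1 j : ℤ)), by
    rw [mem_negDeg_iff]
    have ha : a.1.degree = k := a.2
    rw [Finsupp.degree_eq_sum] at ha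
    constructor
    · change ∑ j, (-1 - (a.1 j : ℤ)) = _
      rw [Finset.sum_sub_distrib]
      have : (∑ j, (a.1 j : ℤ)) = k := by exact_mod_cast ha
      rw [this, Finset.sum_const, Finset.card_univ, Fintype.card_fin, nsmul_eq_mul]
      push_cast
      ring
    · intro j
      change -1 - (a.1 j : ℤ) < 0
      omega⟩
  left_inv e := by
    obtain ⟨h1, h2⟩ := (mem_negDeg_iff v _ e.1).mp e.2
    apply Subtype.ext
    apply Finsupp.ext
    intro j
    change -1 - (((-1 - e.1 j).toNat : ℕ) : ℤ) = e.1 j
    have := h2 j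
    omega
  right_inv a := by
    apply Subtype.ext
    apply Finsupp.ext
    intro j
    change (-1 - (-1 - (a.1 j : ℤ))).toNat = a.1 j
    omega

/-- the functions on the everywhere negative multidegrees of total degree `-(n+1+k)`, as homogeneous
polynomials of degree `k`. -/
theorem nonempty_linearEquiv_homogeneous (R : Type u) [CommRing R] (k : ℕ) :
    Nonempty (↥(Finsupp.supported R R (negDeg (n := n) (-((n : ℤ) + 1 + k)) v)) ≃ₗ[R]
      ↥(MvPolynomial.homogeneousSubmodule (Fin (n + 1)) R k)) := by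
  refine ⟨(Finsupp.supportedEquivFinsupp _).trans ((Finsupp.domLCongr (negEquiv v k)).trans
    ((AddMonoidAlgebra.supportedEquivFinsupp _).symm.trans (LinearEquiv.ofEq _ _
      (MvPolynomial.homogeneousSubmodule_eq_finsupp_supported (Fin (n + 1)) R k).symm)))⟩

end Groth.Agent.Lib.T2H5.NegDeg
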