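import Groth.Agent.Lib.T2H5PnTop
import Groth.Agent.Lib.T2H5NegDeg
import Groth.Agent.Lib.Helper27PnSections

/-!
# The Euler characteristic of `O(n)` on projective space over a field (T2H5)
-/

set_option autoImplicit false
universe u

namespace Groth.Agent.Lib.T2H5.EulerPn

open AlgebraicGeometry CategoryTheory

/-- the top cohomology of `O(-(n+1+k))` on projective `n`-space. -/
theorem nonempty_linearEquiv_top_homogeneous (R : Type u) [CommRing R] (n k : ℕ) :
    Nonempty (Coh.HH (CohB1.ProjSpace n R) (Twist.twistProjSpace n R (-((n : ℤ) + 1 + k))) n ≃ₗ[R]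
      ↥(MvPolynomial.homogeneousSubmodule (Fin (n + 1)) R k)) := by
  obtain ⟨e1⟩ := Groth.Agent.Lib.T2H5.PnTop.nonempty_linearEquiv_top n R (-((n : ℤ) + 1 + k))
    (by have h1 : (0 : ℤ) ≤ n := Int.natCast_nonneg n
        have h2 : (0 : ℤ) ≤ k := Int.natCast_nonneg k
        omega)
  obtain ⟨e2⟩ := Groth.Agent.Lib.T2H5.NegDeg.nonempty_linearEquiv_homogeneous
    (Groth.Agent.Lib.T2H5.PnVanish.idxEquiv.{u} n) R k
  exact ⟨e1.trans e2⟩

/-- the dimension of the space of homogeneous polynomials of degree `m` in `r + 1` variables. -/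
theorem finrank_homogeneousSubmodule (K : Type u) [Field K] (r m : ℕ) :
    Module.finrank K ↥(MvPolynomial.homogeneousSubmodule (Fin (r + 1)) K m) = (m + r).choose r := by
  classical
  rw [(LinearEquiv.ofEq _ _
    (MvPolynomial.homogeneousSubmodule_eq_finsupp_supported (Fin (r + 1)) K m)).finrank_eq]
  rw [(AddMonoidAlgebra.supportedEquivFinsupp (R := K) (S := K)
    {d : Fin (r + 1) →₀ ℕ | d.degree = m}).finrank_eq]
  have hset : {d : Fin (r + 1) →₀ ℕ | d.degree = m} =
      ↑((Finset.univ : Finset (Fin (r + 1))).finsuppAntidiag m) := by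
    ext d
    simp [Finsupp.degree_eq_sum]
  rw [hset, Module.finrank_finsupp_self, ← Nat.card_eq_fintype_card, Nat.card_coe_set_eq,
    Set.ncard_coe_finset, Finset.card_finsuppAntidiag_nat_eq_choose,
    Finset.card_univ, Fintype.card_fin]
  rw [show r + 1 + m - 1 = r + m by omega, Nat.add_comm r m, Nat.choose_symm_add]

theorem ring_choose_nonneg (r : ℕ) (n : ℕ) :
    Ring.choose ((n : ℤ) + r) r = ((n + r).choose r : ℤ) := by
  rw [← Nat.cast_add, Ring.choose_natCast]

theorem ring_choose_mid (r : ℕ) (n : ℤ) (h1 : n < 0) (h2 : -(r : ℤ) ≤ n) :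
    Ring.choose (n + r) r = 0 := by
  obtain ⟨m, hm⟩ := Int.eq_ofNat_of_zero_le (show 0 ≤ n + r by omega)
  rw [hm, Ring.choose_natCast, Nat.choose_eq_zero_of_lt (by omega)]
  rfl

theorem ring_choose_neg (r m : ℕ) :
    Ring.choose (-((r : ℤ) + 1 + m) + r) r = (-1) ^ r * ((m + r).choose r : ℤ) := by
  have h : -((r : ℤ) + 1 + m) + r = -((m + 1 : ℕ) : ℤ) := by push_cast; ring
  rw [h, Ring.choose_neg]
  have h2 : (((m + 1 : ℕ) : ℤ) + r - 1) = ((m + r : ℕ) : ℤ) := by push_cast; ring
  rw [h2, Ring.choose_natCast]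
  rw [Int.negOnePow_def, zpow_natCast, Units.smul_def, Units.val_pow_eq_pow_val, Units.val_neg,
    Units.val_one, smul_eq_mul]

/-- the Euler characteristic of `O(n)` on projective `r`-space over a field, `r > 0`. -/
theorem euler_char (k : Type u) [Field k] (r : ℕ) (hr : 0 < r) (n : ℤ) :
    ((Finset.range (r + 1)).sum fun j => (-1 : ℤ) ^ j *
        (Module.finrank k (Coh.HH (CohB1.ProjSpace r k) (Twist.twistProjSpace r k n) j) : ℤ)) =
      Ring.choose (n + r) r := by
  have hvan : ∀ j : ℕ, ¬ (j = 0 ∧ 0 ≤ n) → ¬ (j = r ∧ n ≤ -((r : ℤ) + 1)) →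
      Module.finrank k (Coh.HH (CohB1.ProjSpace r k) (Twist.twistProjSpace r k n) j) = 0 := by
    intro j h0 h1
    have := Groth.Agent.Lib.T2H5.PnVanish.subsingleton_HH_twist r k n j h0 h1
    exact Module.finrank_zero_of_subsingleton
  rw [Finset.sum_eq_add_of_mem 0 r (Finset.mem_range.mpr (by omega))
    (Finset.mem_range.mpr (by omega)) (by omega)
    (fun c _ hc => by
      rw [hvan c (fun h => hc.1 h.1) (fun h => hc.2 h.1)]
      simp)]
  rw [pow_zero, one_mul]
  by_cases hn0 : 0 ≤ n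
  · obtain ⟨m, rfl⟩ := Int.eq_ofNat_of_zero_le hn0
    rw [hvan r (fun h => by omega) (fun h => by omega)]
    obtain ⟨e⟩ := Groth.Agent.Lib.Helper27PnSections.nonempty_linearEquiv r k m
    rw [e.finrank_eq, finrank_homogeneousSubmodule, ring_choose_nonneg]
    simp
  · push Not at hn0
    rw [hvan 0 (fun h => by omega) (fun h => by omega)]
    by_cases hn1 : n ≤ -((r : ℤ) + 1)
    · obtain ⟨m, hm⟩ := Int.eq_ofNat_of_zero_le (show 0 ≤ -n - r - 1 by omega)
      have hn : n = -((r : ℤ) + 1 + m) := by omega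
      subst hn
      obtain ⟨e⟩ := nonempty_linearEquiv_top_homogeneous k r m
      rw [e.finrank_eq, finrank_homogeneousSubmodule, ring_choose_neg]
      simp
    · push Not at hn1
      rw [hvan r (fun h => by omega) (fun h => by omega), ring_choose_mid r n hn0 (by omega)]
      simp

end Groth.Agent.Lib.T2H5.EulerPn
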