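import Groth.Agent.Lib.T2H5HHLes
import Groth.Agent.Lib.T2H5CohSigma
import Groth.Agent.Lib.T2H5EulerPn
import Groth.Agent.Lib.Helper20ZClos20
import Groth.Agent.Lib.Helper27TwistGen2
import Groth.Agent.Lib.Helper23QCohAbelian
import Groth.Agent.S0846
import Groth.Agent.S0046
import Groth.Agent.S2357
import Groth.Agent.S0022

/-!
# Finiteness of the cohomology of coherent modules on projective space (T2H5)
-/

set_option autoImplicit false
universe u

namespace Groth.Agent.Lib.T2H5.PnFinite

open CategoryTheory CategoryTheory.Limits AlgebraicGeometry MvPolynomial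
open Groth.Agent.Lib.Helper27GrTildeSect Groth.Agent.Lib.Helper23.QCohLocal
open Groth.Agent.Lib.T2H5.PnVanish

/-- the dévissage step: finiteness of `H^i` of a quotient of a finite coproduct. -/
theorem finite_step {A : Type u} [CommRing A] [IsNoetherianRing A] {X : Scheme.{u}}
    [X.Over (Spec (CommRingCat.of A))] [IsLocallyNoetherian X] {r : ℕ} (E : Fin r → X.Modules)
    (hEc : ∀ j, Coh.IsCoh (E j)) (M : X.Modules) (hM : Coh.IsCoh M) (φ : (∐ E) ⟶ M) (hφ : Epi φ) (i : ℕ)
    (hE : ∀ j, Module.Finite A (Coh.HH X (E j) i))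
    (ih : ∀ K : X.Modules, Coh.IsCoh K → Module.Finite A (Coh.HH X K (i + 1))) :
    Module.Finite A (Coh.HH X M i) := by
  have hEq : ∀ j, (E j).IsQuasicoherent := fun j => (hEc j).1
  have hEs : Coh.IsCoh (∐ E) :=
    ⟨Groth.Agent.Lib.T2H5.CohSigma.isQuasicoherent_sigma _ hEq,
      Groth.Agent.Lib.T2H5.CohSigma.isFiniteType_sigma _ hEq (fun j => (hEc j).2)⟩
  have hKq : (kernel φ).IsQuasicoherent := @isQuasicoherent_kernel X _ _ hEs.1 hM.1 φ
  have hK : Coh.IsCoh (kernel φ) := Groth.Agent.S0046.result X _ _ (kernel.ι φ) hEs hKq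
  have hS : (ShortComplex.kernelSequence φ).ShortExact :=
    { exact := ShortComplex.kernelSequence_exact φ
      mono_f := inferInstance
      epi_g := hφ }
  exact Groth.Agent.Lib.T2H5.HHLes.finite_HH_X₃ (A := A) (ShortComplex.kernelSequence φ) hS i
    (Groth.Agent.Lib.T2H5.HHLes.finite_HH_sigma (A := A) E i hE) (ih _ hK)

variable (n : ℕ) (R : Type u) [CommRing R]

theorem exists_basicOpen (y : Proj (CohB1.polyGrading n R)) :
    ∃ f : CohB1.polyGrading n R 1, y ∈ Proj.basicOpen (CohB1.polyGrading n R)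
      (f : MvPolynomial (Fin (n + 1)) R) := by
  have h : y ∈ (⨆ i, stdU.{u, u} n R i) := by
    rw [iSup_stdU.{u, u}]
    trivial
  obtain ⟨i, hi⟩ := TopologicalSpace.Opens.mem_iSup.mp h
  exact ⟨⟨X i.down, isHomogeneous_X R i.down⟩, hi⟩

/-- `O(d)` is coherent. -/
theorem isCoh_twist (d : ℤ) : Coh.IsCoh (Twist.twistProjSpace n R d) := by
  rw [Groth.Agent.Lib.T2H5.PnTop.twist_eq]
  have hinv := isInvertible_tilde (CohB1.polyGrading n R) (exists_basicOpen n R) d
  exact ⟨isQuasicoherent_tilde (CohB1.polyGrading n R) (CohB1.polyGrading n R) d,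
    Groth.Agent.Lib.Helper20.ZClosLib.isFiniteType_of_isInvertible _ hinv⟩

/-- the cohomology of `O(d)` is finite. -/
theorem finite_HH_twist (d : ℤ) (i : ℕ) :
    Module.Finite R (Coh.HH (CohB1.ProjSpace n R) (Twist.twistProjSpace n R d) i) := by
  by_cases h0 : i = 0 ∧ 0 ≤ d
  · obtain ⟨rfl, hd⟩ := h0
    obtain ⟨m, rfl⟩ := Int.eq_ofNat_of_zero_le hd
    obtain ⟨e⟩ := Groth.Agent.Lib.Helper27PnSections.nonempty_linearEquiv n R m
    have : Module.Finite R ↥(homogeneousSubmodule (Fin (n + 1)) R m) :=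
      Module.Finite.iff_fg.mpr (homogeneousSubmodule_fg (Fin (n + 1)) R m)
    exact Module.Finite.equiv e.symm
  by_cases h1 : i = n ∧ d ≤ -((n : ℤ) + 1)
  · obtain ⟨rfl, hd⟩ := h1
    obtain ⟨m, hm⟩ := Int.eq_ofNat_of_zero_le (show 0 ≤ -d - i - 1 by omega)
    have hd' : d = -((i : ℤ) + 1 + m) := by omega
    subst hd'
    obtain ⟨e⟩ := Groth.Agent.Lib.T2H5.EulerPn.nonempty_linearEquiv_top_homogeneous R i m
    have : Module.Finite R ↥(homogeneousSubmodule (Fin (i + 1)) R m) :=
      Module.Finite.iff_fg.mpr (homogeneousSubmodule_fg (Fin (i + 1)) R m)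
    exact Module.Finite.equiv e.symm
  have := subsingleton_HH_twist n R d i h0 h1
  infer_instance

variable [IsNoetherianRing R]

/-- finiteness of the cohomology of coherent modules on projective space, by descending induction. -/
theorem finite_HH_aux : ∀ (k i : ℕ), n + 1 ≤ i + k → ∀ (M : (CohB1.ProjSpace n R).Modules),
    Coh.IsCoh M → Module.Finite R (Coh.HH (CohB1.ProjSpace n R) M i) := by
  intro k
  induction k with
  | zero =>
    intro i hi M hM
    have : Coh.IsQCoh M := hM.1
    have := Groth.Agent.S0022.result n R M i (by omega)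
    infer_instance
  | succ k ih =>
    intro i hi M hM
    obtain ⟨r, d, φ, hφ⟩ := Groth.Agent.S0846.result (CohB1.polyGrading n R) M hM
    have : IsNoetherianRing (MvPolynomial (Fin (n + 1)) R) := inferInstance
    have hN : IsNoetherian (Proj (CohB1.polyGrading n R)) :=
      Groth.Agent.S2357.result (CohB1.polyGrading n R)
    have hLN : IsLocallyNoetherian (CohB1.ProjSpace n R) := hN.toIsLocallyNoetherian
    exact finite_step (A := R) (X := CohB1.ProjSpace n R)
      (fun j : Fin r => Twist.twistProjSpace n R (d j)) (fun j => isCoh_twist n R (d j)) M hM φ hφ i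
      (fun j => finite_HH_twist n R (d j) i) (fun K hK => ih (i + 1) (by omega) K hK)

/-- finiteness of the cohomology of coherent modules on projective space over a Noetherian ring. -/
theorem finite_HH (M : (CohB1.ProjSpace n R).Modules) (hM : Coh.IsCoh M) (i : ℕ) :
    Module.Finite R (Coh.HH (CohB1.ProjSpace n R) M i) :=
  finite_HH_aux n R (n + 1) i (by omega) M hM

end Groth.Agent.Lib.T2H5.PnFinite
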