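import Groth.Agent.Lib.T2H5PnVanish

/-!
# The structure sheaf of projective space is `O(0)`; vanishing of its higher cohomology (T2H5)
-/

set_option autoImplicit false
universe u

open CategoryTheory CategoryTheory.Limits AlgebraicGeometry TopologicalSpace Opposite MvPolynomial

namespace Groth.Agent.Lib.T2H5.PnStruct

open Groth.Agent.Lib.Helper27GrTildeSect Groth.Agent.Lib.Helper20.ParaFLib

/-- cohomology only depends on the isomorphism class of the module. -/
theorem subsingleton_HH_of_iso {X : Scheme.{u}} {M M' : X.Modules} (ε : M ≅ M') (q : ℕ)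
    (h : Subsingleton (Coh.HH X M q)) : Subsingleton (Coh.HH X M' q) := by
  let f : Coh.toAb M ⟶ Coh.toAb M' := (SheafOfModules.toSheaf X.ringCatSheaf).map ε.hom
  let g : Coh.toAb M' ⟶ Coh.toAb M := (SheafOfModules.toSheaf X.ringCatSheaf).map ε.inv
  have hgf : g ≫ f = 𝟙 _ := ((SheafOfModules.toSheaf X.ringCatSheaf).mapIso ε).inv_hom_id
  refine ⟨fun x y => ?_⟩
  have hx : Sheaf.H.map f q (Sheaf.H.map g q x) = x := by
    rw [← Sheaf.H.map_comp_apply, hgf, Sheaf.H.map_id_apply]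
  have hy : Sheaf.H.map f q (Sheaf.H.map g q y) = y := by
    rw [← Sheaf.H.map_comp_apply, hgf, Sheaf.H.map_id_apply]
  rw [← hx, ← hy, Subsingleton.elim (Sheaf.H.map g q x) (Sheaf.H.map g q y)]

variable {R A : Type u} [CommRing R] [CommRing A] [Algebra R A] (𝒜 : ℕ → Submodule R A)
  [GradedAlgebra 𝒜]

/-- `O(0)` is the structure sheaf. -/
theorem nonempty_tilde_zero_iso :
    Nonempty (GrTilde.tilde 𝒜 𝒜 0 ≅ Coh.structureModule (Proj 𝒜)) := by
  apply nonempty_iso_of_triv_top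
  have h1 : (1 : A) ∈ 𝒜 0 := SetLike.GradedOne.one_mem
  have hW : ∀ y : (⊤ : (Proj 𝒜).Opens), (1 : A) ∉ y.1.asHomogeneousIdeal :=
    fun y => one_not_mem 𝒜 y.1
  exact ⟨fracSec 𝒜 0 ⊤ h1 h1 (by simp) hW, isGen_fracSec 𝒜 0 ⊤ h1 h1 (by simp) hW hW⟩

/-- `H^q(P^n_R, O) = 0` for `q > 0`. -/
theorem subsingleton_HH_structure (n : ℕ) (R : Type u) [CommRing R] (q : ℕ) (hq : 0 < q) :
    Subsingleton (Coh.HH (CohB1.ProjSpace n R) (Coh.structureModule (CohB1.ProjSpace n R)) q) := by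
  obtain ⟨ε⟩ := nonempty_tilde_zero_iso (CohB1.polyGrading n R)
  refine subsingleton_HH_of_iso (X := CohB1.ProjSpace n R) (M := Twist.twistProjSpace n R 0) ε q ?_
  refine Groth.Agent.Lib.T2H5.PnVanish.subsingleton_HH_twist n R 0 q (fun h => by omega) (fun h => ?_)
  have := h.2
  have h0 : (0 : ℤ) ≤ (n : ℤ) := Int.natCast_nonneg n
  omega

end Groth.Agent.Lib.T2H5.PnStruct
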