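import Mathlib
import Groth.Agent.Lib.T2H5PnFinite
import Groth.Agent.Lib.T2H5PnStruct
import Groth.Agent.Lib.Helper21ModTensor7
import Groth.Agent.Lib.Helper1StalkTensorB
import Groth.Agent.Lib.Helper1Sky9
import Groth.Agent.Lib.Helper18PBUnit2
import Groth.Agent.Lib.Helper27TwistGen2

/-!
# T2H5Twist: twisting by an invertible module is an exact autoequivalence (helper5)
-/

set_option autoImplicit false
universe u
open CategoryTheory CategoryTheory.Limits AlgebraicGeometry
open Groth.Agent.Lib.Helper21.ModTensor2 Groth.Agent.Lib.Helper21.ModTensor3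
  Groth.Agent.Lib.Helper21.ModTensor5 Groth.Agent.Lib.Helper21.ModTensor6
  Groth.Agent.Lib.Helper21.ModTensor7

namespace Groth.Agent.Lib.T2H5.Twist

section General

variable {X : Scheme.{u}}

/-- tensoring on the right with `N` -/
noncomputable abbrev tr (N : X.Modules) : X.Modules ⥤ X.Modules := tR X.sheaf N

theorem tr_obj (N M : X.Modules) : (tr N).obj M = CohB1.tensorMod M N := rfl

/-- an invertible module is flat in the sense of exactness of the tensor product -/
theorem modSite_isFlat_of_isInvertible {L : X.Modules} (h : PicF.IsInvertible L) :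
    ModSite.IsFlat (O := X.sheaf) L :=
  Groth.Agent.Lib.Helper1.StalkTensor.modSite_isFlat_of_isFlat L
    (Groth.Agent.Lib.Helper1.Sky.isFlat_of_isFinLocFree' L
      (Groth.Agent.Helper18PBUnit.isFinLocFree_of_isInvertible h))

theorem preservesFiniteLimits_tr {L : X.Modules} (h : PicF.IsInvertible L) :
    PreservesFiniteLimits (tr L) := (modSite_isFlat_of_isInvertible h).1

theorem preservesFiniteColimits_tr (L : X.Modules) :
    PreservesFiniteColimits (tr L) := tR_preservesFiniteColimits X.sheaf L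

instance additive_tr (L : X.Modules) : (tr L).Additive := tR_additive X.sheaf L

/-- twisting by an invertible module preserves short exact sequences -/
theorem shortExact_map_tr {L : X.Modules} (h : PicF.IsInvertible L)
    (S : ShortComplex X.Modules) (hS : S.ShortExact) : (S.map (tr L)).ShortExact := by
  haveI := preservesFiniteLimits_tr h
  haveI := preservesFiniteColimits_tr L
  exact hS.map_of_exact (tr L)

/-- `- ⊗ O ≅ 𝟭` -/
noncomputable def trUnitIso : tr (Coh.structureModule X) ≅ 𝟭 X.Modules :=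
  ((brd X.sheaf).app (ModSite.unit X.sheaf)).symm ≪≫ tLUnitIso X.sheaf

/-- `- ⊗ N ≅ - ⊗ N'` for `N ≅ N'` -/
noncomputable def trCongr {N N' : X.Modules} (e : N ≅ N') : tr N ≅ tr N' :=
  (ModSite.tensorBi X.sheaf).flip.mapIso e

/-- `(- ⊗ G) ⊗ F ≅ - ⊗ (G ⊗ F)` -/
noncomputable def trComp (G F : X.Modules) : tr G ⋙ tr F ≅ tr (CohB1.tensorMod G F) :=
  tRTensorIso X.sheaf G F

/-- if `G ⊗ F ≅ O` then twisting by `G` then by `F` is isomorphic to the identity -/
noncomputable def trCompIsoId {G F : X.Modules} (e : CohB1.tensorMod G F ≅ Coh.structureModule X) :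
    tr G ⋙ tr F ≅ 𝟭 X.Modules :=
  trComp G F ≪≫ trCongr e ≪≫ trUnitIso

/-- an autoequivalence from two mutually inverse twists -/
noncomputable def trEquiv {G F : X.Modules} (e : CohB1.tensorMod G F ≅ Coh.structureModule X)
    (e' : CohB1.tensorMod F G ≅ Coh.structureModule X) : X.Modules ≌ X.Modules :=
  CategoryTheory.Equivalence.mk (tr G) (tr F) (trCompIsoId e).symm (trCompIsoId e')

theorem trEquiv_functor {G F : X.Modules} (e : CohB1.tensorMod G F ≅ Coh.structureModule X)
    (e' : CohB1.tensorMod F G ≅ Coh.structureModule X) : (trEquiv e e').functor = tr G := rfl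

end General

section Pn

variable (n : ℕ) (R : Type u) [CommRing R]

open Groth.Agent.Lib.Helper27GrTildeSect Groth.Agent.Lib.T2H5.PnFinite in
theorem isInvertible_twist (d : ℤ) : PicF.IsInvertible (Twist.twistProjSpace n R d) := by
  rw [Groth.Agent.Lib.T2H5.PnTop.twist_eq]
  exact isInvertible_tilde (CohB1.polyGrading n R) (exists_basicOpen n R) d

open Groth.Agent.Lib.Helper27GrTildeSect Groth.Agent.Lib.T2H5.PnFinite in
theorem nonempty_twist_tensor_iso (a b c : ℤ) (h : a + b = c) :
    Nonempty (CohB1.tensorMod (Twist.twistProjSpace n R a) (Twist.twistProjSpace n R b) ≅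
      Twist.twistProjSpace n R c) := by
  subst h
  rw [Groth.Agent.Lib.T2H5.PnTop.twist_eq, Groth.Agent.Lib.T2H5.PnTop.twist_eq,
    Groth.Agent.Lib.T2H5.PnTop.twist_eq]
  exact nonempty_tensor_iso (CohB1.polyGrading n R) (exists_basicOpen n R) a b

theorem nonempty_twist_zero_iso :
    Nonempty (Twist.twistProjSpace n R 0 ≅ Coh.structureModule (CohB1.ProjSpace n R)) := by
  rw [Groth.Agent.Lib.T2H5.PnTop.twist_eq]
  exact Groth.Agent.Lib.T2H5.PnStruct.nonempty_tilde_zero_iso (CohB1.polyGrading n R)

/-- the twisting functor `F ↦ F(d)` on projective space -/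
noncomputable abbrev tw (d : ℤ) : (CohB1.ProjSpace n R).Modules ⥤ (CohB1.ProjSpace n R).Modules :=
  tr (X := CohB1.ProjSpace n R) (Twist.twistProjSpace n R d)

theorem tw_obj (d : ℤ) (F : (CohB1.ProjSpace n R).Modules) :
    (tw n R d).obj F = CohB1.tensorMod F (Twist.twistProjSpace n R d) := rfl

/-- `F(a)(b) ≅ F(c)` for `a + b = c`, naturally in `F` -/
noncomputable def twAdd (a b c : ℤ) (h : a + b = c) : tw n R a ⋙ tw n R b ≅ tw n R c :=
  trComp _ _ ≪≫ trCongr (nonempty_twist_tensor_iso n R a b c h).some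

/-- `F(0) ≅ F`, naturally in `F` -/
noncomputable def twZero : tw n R 0 ≅ 𝟭 _ :=
  trCongr (nonempty_twist_zero_iso n R).some ≪≫ trUnitIso

/-- `F(a)(b) ≅ F` for `a + b = 0`, naturally in `F` -/
noncomputable def twCancel (a b : ℤ) (h : a + b = 0) : tw n R a ⋙ tw n R b ≅ 𝟭 _ :=
  twAdd n R a b 0 h ≪≫ twZero n R

/-- twisting is an equivalence -/
noncomputable def twEquiv (d : ℤ) : (CohB1.ProjSpace n R).Modules ≌ (CohB1.ProjSpace n R).Modules :=
  CategoryTheory.Equivalence.mk (tw n R d) (tw n R (-d)) (twCancel n R d (-d) (by omega)).symm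
    (twCancel n R (-d) d (by omega))

theorem twEquiv_functor (d : ℤ) : (twEquiv n R d).functor = tw n R d := rfl

theorem shortExact_map_tw (d : ℤ) (S : ShortComplex (CohB1.ProjSpace n R).Modules)
    (hS : S.ShortExact) : (S.map (tw n R d)).ShortExact :=
  shortExact_map_tr (isInvertible_twist n R d) S hS

end Pn

end Groth.Agent.Lib.T2H5.Twist
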