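import Mathlib
import Groth.Agent.Lib.T2H5Twist
import Groth.Agent.Lib.Helper23RestrTensor
import Groth.Agent.Lib.Helper23PB

/-!
# T2H5ProjFormula: projection formula `f_*(M ⊗ f^*L) ≅ f_*M ⊗ L` for `L` with a tensor inverse (helper5)

Obtained from uniqueness of right adjoints and the monoidality of the pullback.
-/

set_option autoImplicit false
universe u
open CategoryTheory CategoryTheory.Limits AlgebraicGeometry

namespace Groth.Agent.Lib.T2H5.ProjFormula

open Groth.Agent.Lib.T2H5.Twist Groth.Agent.Lib.Helper23.RestrTensor Groth.Agent.Lib.Helper23.PB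
open Groth.Agent.Lib.Helper1.PT

variable {X Y : Scheme.{u}} (f : X ⟶ Y)

/-- `f^*(- ⊗ N) ≅ f^*(-) ⊗ f^*N`, naturally in the first variable -/
noncomputable def pullbackTrIso (N : Y.Modules) :
    tr N ⋙ Scheme.Modules.pullback f ≅
      Scheme.Modules.pullback f ⋙ tr ((Scheme.Modules.pullback f).obj N) :=
  NatIso.ofComponents (fun G => pullbackTensorIso G N f) (by
    intro G G' φ
    exact delta_naturality_left f φ N)

/-- the pullback of a tensor inverse pair is a tensor inverse pair -/
noncomputable def pullbackInvIso {L L' : Y.Modules}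
    (e : CohB1.tensorMod L L' ≅ Coh.structureModule Y) :
    CohB1.tensorMod ((Scheme.Modules.pullback f).obj L) ((Scheme.Modules.pullback f).obj L') ≅
      Coh.structureModule X :=
  (pullbackTensorIso L L' f).symm ≪≫ (Scheme.Modules.pullback f).mapIso e ≪≫ pullbackUnitIso f

/-- projection formula: `f_*(M ⊗ f^*L) ≅ f_*M ⊗ L`, naturally in `M` -/
noncomputable def projIso {L L' : Y.Modules}
    (e : CohB1.tensorMod L L' ≅ Coh.structureModule Y)
    (e' : CohB1.tensorMod L' L ≅ Coh.structureModule Y) :
    tr ((Scheme.Modules.pullback f).obj L) ⋙ Scheme.Modules.pushforward f ≅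
      Scheme.Modules.pushforward f ⋙ tr L :=
  let EY := trEquiv e e'
  let EX := trEquiv (pullbackInvIso f e) (pullbackInvIso f e')
  let adj1 : (Scheme.Modules.pullback f ⋙ tr ((Scheme.Modules.pullback f).obj L')) ⊣
      (tr ((Scheme.Modules.pullback f).obj L) ⋙ Scheme.Modules.pushforward f) :=
    (Scheme.Modules.pullbackPushforwardAdjunction f).comp EX.symm.toAdjunction
  let adj2 : (tr L' ⋙ Scheme.Modules.pullback f) ⊣ (Scheme.Modules.pushforward f ⋙ tr L) :=
    EY.symm.toAdjunction.comp (Scheme.Modules.pullbackPushforwardAdjunction f)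
  (adj1.ofNatIsoLeft (pullbackTrIso f L').symm).rightAdjointUniq adj2

end Groth.Agent.Lib.T2H5.ProjFormula
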