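import Mathlib
import Groth.Agent.Lib.Helper23LocGen

/-!
# T2H5GlobGen: descending generation by global sections along a surjective multiplication map
(helper5)
-/

set_option autoImplicit false
universe u
open CategoryTheory CategoryTheory.Limits AlgebraicGeometry TopologicalSpace Opposite

namespace Groth.Agent.Lib.T2H5.GlobGen

open Groth.Agent.Lib.Helper23.SecTw Groth.Agent.Lib.Helper23.GenLocus Groth.Agent.Lib.Helper6
open Groth.Agent.Lib.Helper23.LocGen

variable {X : Scheme.{u}}

/-- restrictions of global sections lie in the span of the global sections -/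
theorem res_top_mem_gspan (M : X.Modules) (m : Γ(M, ⊤)) (B : X.Opens) :
    res M (le_top : B ≤ ⊤) m ∈ gspan M B := by
  rw [← sv_secHom]
  exact sv_mem_gspan M _ B

/-- Let `g` be a global section of `L` generating `L` over `W`.  If `M ⊗ L` is generated by
global sections over `W` and every global section of `M ⊗ L` comes from the sectionwise tensor
product, then `M` is generated by global sections over `W`. -/
theorem locGen_of_tensor (M L : X.Modules) (W : X.Opens) (g : Γ(L, ⊤))
    (hgen : IsGen L W (res L le_top g))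
    (hsurj : ∀ t : Γ(CohB1.tensorMod M L, ⊤), ∃ p : PreSec M L ⊤, toT M L ⊤ p = t)
    (hT : LocGen (CohB1.tensorMod M L) W) : LocGen M W := by
  intro A hA a y hy
  obtain ⟨B, hB, hyB, hmem⟩ := hT A hA (tm M L A a (res L le_top g)) y hy
  refine ⟨B, hB, hyB, ?_⟩
  have hBW : B ≤ W := hB.trans hA
  -- the pure tensors
  have hp : ∀ p : PreSec M L ⊤, ∃ a' ∈ gspan M B,
      tm M L B a' (res L le_top g) = res (CohB1.tensorMod M L) le_top (toT M L ⊤ p) := by
    intro p
    have hzero : ∃ a' ∈ gspan M B, tm M L B a' (res L le_top g) =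
        res (CohB1.tensorMod M L) le_top (toT M L ⊤ (0 : PreSec M L ⊤)) := by
      refine ⟨0, zero_mem _, ?_⟩
      rw [tm_zero_left, toT_zero, res_zero]
    have htmul : ∀ (m : Γ(M, ⊤)) (n : Γ(L, ⊤)), ∃ a' ∈ gspan M B,
        tm M L B a' (res L le_top g) =
          res (CohB1.tensorMod M L) le_top (tm M L ⊤ m n) := by
      intro m n
      obtain ⟨c, hc⟩ := (hgen B hBW).2 (res L le_top n)
      have hc' : c • res L (le_top : B ≤ ⊤) g = res L le_top n := by
        have := hc
        simp only [res_res] at this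
        exact this
      refine ⟨c • res M le_top m, Submodule.smul_mem _ _ (res_top_mem_gspan M m B), ?_⟩
      rw [res_tm, ← hc', tm_smul_left, tm_smul_right]
    have hadd : ∀ p₁ p₂ : PreSec M L ⊤,
        (∃ a' ∈ gspan M B, tm M L B a' (res L le_top g) =
          res (CohB1.tensorMod M L) le_top (toT M L ⊤ p₁)) →
        (∃ a' ∈ gspan M B, tm M L B a' (res L le_top g) =
          res (CohB1.tensorMod M L) le_top (toT M L ⊤ p₂)) →
        ∃ a' ∈ gspan M B, tm M L B a' (res L le_top g) =
          res (CohB1.tensorMod M L) le_top (toT M L ⊤ (p₁ + p₂)) := by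
      rintro p₁ p₂ ⟨a₁, ha₁, h₁⟩ ⟨a₂, ha₂, h₂⟩
      refine ⟨a₁ + a₂, add_mem ha₁ ha₂, ?_⟩
      rw [tm_add_left, toT_add, res_add', h₁, h₂]
    exact pt_induction (CohB1.toPMod M) (CohB1.toPMod L) (op ⊤)
      (motive := fun p => ∃ a' ∈ gspan M B,
        tm M L B a' (res L le_top g) = res (CohB1.tensorMod M L) le_top (toT M L ⊤ p))
      hzero htmul hadd p
  have key : ∀ z ∈ gspan (CohB1.tensorMod M L) B, ∃ a' ∈ gspan M B,
      tm M L B a' (res L le_top g) = z := by
    intro z hz
    induction hz using Submodule.span_induction with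
    | mem z hz =>
      obtain ⟨σ, rfl⟩ := hz
      obtain ⟨p, hp'⟩ := hsurj (sv σ ⊤)
      obtain ⟨a', ha', h⟩ := hp p
      refine ⟨a', ha', ?_⟩
      rw [h, hp', res_sv]
    | zero => exact ⟨0, zero_mem _, tm_zero_left M L B _⟩
    | add z z' _ _ hz hz' =>
      obtain ⟨a₁, ha₁, h₁⟩ := hz
      obtain ⟨a₂, ha₂, h₂⟩ := hz'
      exact ⟨a₁ + a₂, add_mem ha₁ ha₂, by rw [tm_add_left, h₁, h₂]⟩
    | smul r z _ hz =>
      obtain ⟨a₁, ha₁, h₁⟩ := hz
      exact ⟨r • a₁, Submodule.smul_mem _ _ ha₁, by rw [tm_smul_left, h₁]⟩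
  obtain ⟨a', ha', h⟩ := key _ hmem
  rw [res_tm, res_res] at h
  have hinj := injective_tm_of_isGen M L W _ hgen B hBW
  have h' : tm M L B a' (res L hBW (res L le_top g)) =
      tm M L B (res M hB a) (res L hBW (res L le_top g)) := by
    rw [res_res]
    exact h
  rw [← hinj h']
  exact ha'

end Groth.Agent.Lib.T2H5.GlobGen
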