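import Mathlib
import Groth.Agent.Lib.Helper1StalkTensorB
import Groth.Agent.Lib.Helper21ModTensor7

/-!
# T2H5EtaTop: the unit of sheafification on presheaf tensor products, on sections (helper5)
-/

set_option autoImplicit false
universe u

open CategoryTheory CategoryTheory.Limits AlgebraicGeometry TopologicalSpace Opposite
  MonoidalCategory

namespace Groth.Agent.Lib.T2H5.EtaTop

open Groth.Agent.Lib.Helper1.StalkTensor
open Groth.Agent.Lib.Helper21.ModTensor2

variable {X : Scheme.{u}}

/-- the presheaf tensor product with a module isomorphic to the structure module is a sheaf -/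
theorem isSheaf_tensor_unit (M N : X.Modules) (ε : N ≅ Coh.structureModule X) :
    Presheaf.IsSheaf (Opens.grothendieckTopology X)
      (toPM M ⊗ toPM N : PMod X.presheaf).presheaf := by
  let φ : (toPM M ⊗ toPM N : PMod X.presheaf) ≅ toPM M :=
    whiskerLeftIso (toPM M) ((fgt X.sheaf).mapIso ε) ≪≫ ρ_ (toPM M)
  exact (Presheaf.isSheaf_of_iso_iff ((PresheafOfModules.toPresheaf _).mapIso φ)).2 M.isSheaf

/-- on such a tensor product, the unit of sheafification is bijective on sections -/
theorem bijective_toSheafify_tensor_unit (M N : X.Modules) (ε : N ≅ Coh.structureModule X)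
    (U : X.Opens) :
    Function.Bijective ((toSheafify (Opens.grothendieckTopology X)
      (toPM M ⊗ toPM N : PMod X.presheaf).presheaf).app (op U)) := by
  haveI := isIso_toSheafify (Opens.grothendieckTopology X) (isSheaf_tensor_unit M N ε)
  rw [← ConcreteCategory.isIso_iff_bijective]
  infer_instance

/-- naturality of the unit of sheafification on sections -/
theorem etaX_naturality_apply {T' T : PMod X.presheaf} (τ : T' ⟶ T) (U : X.Opens)
    (u : T'.obj (op U)) :
    (toPMMap (shX.map τ)).app (op U) ((etaX T').app (op U) u) =
      (etaX T).app (op U) (τ.app (op U) u) := by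
  have := congrArg (fun f => f.app (op U) u) (etaX_naturality τ)
  exact this.symm

/-- the unit of sheafification, as the map underlying `toSheafify` -/
theorem toPresheaf_map_etaX (T : PMod X.presheaf) :
    (PresheafOfModules.toPresheaf _).map (etaX T) =
      toSheafify (Opens.grothendieckTopology X) T.presheaf := rfl

end Groth.Agent.Lib.T2H5.EtaTop
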