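import Mathlib

/-!
# T2H5KosStage: iterated cones of commuting twisting operators (helper5)

An abstract Koszul construction.  A *stage* is a family of cochain complexes `X a •` (`a : ℤ`),
with commuting degree-raising operators `M j a : X a • ⟶ X (a + 1) •` which are chain maps.
`Stage.next S j₀` is the (shifted) cone of `M j₀`; on it `M j₀` is null-homotopic.
-/

set_option autoImplicit false
universe v u

open CategoryTheory CategoryTheory.Limits

noncomputable section

namespace Groth.Agent.Lib.T2H5.KosStage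

variable (𝒞 : Type u) [Category.{v} 𝒞] [Preadditive 𝒞] [HasZeroObject 𝒞] [HasBinaryBiproducts 𝒞]
variable (J : Type)

/-- a family of cochain complexes with commuting twisting operators -/
structure Stage where
  X : ℤ → ℕ → 𝒞
  d : ∀ a p, X a p ⟶ X a (p + 1)
  M : J → ∀ a p, X a p ⟶ X (a + 1) p
  dd : ∀ a p, d a p ≫ d a (p + 1) = 0
  Md : ∀ j a p, M j a p ≫ d (a + 1) p = d a p ≫ M j a (p + 1)
  MM : ∀ j k a p, M j a p ≫ M k (a + 1) p = M k a p ≫ M j (a + 1) p

variable {𝒞 J}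

open ZeroObject

/-- the sign `(-1)^p` -/
def sg (p : ℕ) : ℤ := (-1) ^ p

theorem sg_succ (p : ℕ) : sg (p + 1) = - sg p := by
  simp [sg, pow_succ]

theorem sg_mul_self (p : ℕ) : sg p * sg p = 1 := by
  unfold sg
  rw [← mul_pow]
  simp

section Base

variable (G : ℤ → 𝒞) (μ : J → ∀ a, G a ⟶ G (a + 1))

/-- the objects of the base stage -/
def baseX (a : ℤ) : ℕ → 𝒞
  | 0 => G a
  | _ + 1 => 0

/-- the operators of the base stage -/
def baseM (j : J) (a : ℤ) : ∀ p, baseX G a p ⟶ baseX G (a + 1) p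
  | 0 => μ j a
  | _ + 1 => 0

/-- the base stage: `G a` in degree `0` -/
def base (hμ : ∀ j k a, μ j a ≫ μ k (a + 1) = μ k a ≫ μ j (a + 1)) : Stage 𝒞 J where
  X := baseX G
  d _ _ := 0
  M := baseM G μ
  dd _ _ := zero_comp
  Md _ _ _ := by rw [comp_zero, zero_comp]
  MM j k a p := by
    cases p with
    | zero => exact hμ j k a
    | succ q => exact (zero_comp).trans (zero_comp).symm

end Base

section Next

variable (S : Stage 𝒞 J) (j₀ : J)

/-- the objects of the next stage -/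
def nextX (a : ℤ) : ℕ → 𝒞
  | 0 => S.X a 0
  | q + 1 => S.X a (q + 1) ⊞ S.X (a + 1) q

/-- the differential of the next stage -/
def nextd (a : ℤ) : ∀ p, nextX S a p ⟶ nextX S a (p + 1)
  | 0 => biprod.lift (S.d a 0) (S.M j₀ a 0)
  | q + 1 => biprod.desc (biprod.lift (S.d a (q + 1)) (sg (q + 1) • S.M j₀ a (q + 1)))
      (biprod.lift 0 (S.d (a + 1) q))

/-- the operators of the next stage -/
def nextM (j : J) (a : ℤ) : ∀ p, nextX S a p ⟶ nextX S (a + 1) p
  | 0 => S.M j a 0
  | q + 1 => biprod.map (S.M j a (q + 1)) (S.M j (a + 1) q)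

/-- the differential out of degree zero, explicitly -/
abbrev d0 (a : ℤ) : S.X a 0 ⟶ S.X a 1 ⊞ S.X (a + 1) 0 :=
  biprod.lift (S.d a 0) (S.M j₀ a 0)

/-- the differential out of positive degree, explicitly -/
abbrev d1 (a : ℤ) (q : ℕ) :
    S.X a (q + 1) ⊞ S.X (a + 1) q ⟶ S.X a (q + 2) ⊞ S.X (a + 1) (q + 1) :=
  biprod.desc (biprod.lift (S.d a (q + 1)) (sg (q + 1) • S.M j₀ a (q + 1)))
    (biprod.lift 0 (S.d (a + 1) q))

/-- the operators in positive degree, explicitly -/
abbrev M1 (j : J) (a : ℤ) (q : ℕ) :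
    S.X a (q + 1) ⊞ S.X (a + 1) q ⟶ S.X (a + 1) (q + 1) ⊞ S.X (a + 1 + 1) q :=
  biprod.map (S.M j a (q + 1)) (S.M j (a + 1) q)

theorem d0_d1 (a : ℤ) : d0 S j₀ a ≫ d1 S j₀ a 0 = 0 := by
  apply biprod.hom_ext
  · simp [biprod.lift_desc, S.dd]
  · simp [biprod.lift_desc, S.Md, sg]

theorem d1_d1 (a : ℤ) (q : ℕ) : d1 S j₀ a q ≫ d1 S j₀ a (q + 1) = 0 := by
  apply biprod.hom_ext'
  · apply biprod.hom_ext
    · simp [biprod.lift_desc, S.dd]
    · simp [biprod.lift_desc, S.Md, sg_succ]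
  · apply biprod.hom_ext
    · simp [biprod.lift_desc]
    · simp [biprod.lift_desc, S.dd]

theorem nextd_dd (a : ℤ) (p : ℕ) : nextd S j₀ a p ≫ nextd S j₀ a (p + 1) = 0 := by
  cases p with
  | zero => exact d0_d1 S j₀ a
  | succ q => exact d1_d1 S j₀ a q

theorem M0_d0 (j : J) (a : ℤ) : S.M j a 0 ≫ d0 S j₀ (a + 1) = d0 S j₀ a ≫ M1 S j a 0 := by
  apply biprod.hom_ext
  · simp [S.Md]
  · simp [S.MM]

theorem M1_d1 (j : J) (a : ℤ) (q : ℕ) :
    M1 S j a q ≫ d1 S j₀ (a + 1) q = d1 S j₀ a q ≫ M1 S j a (q + 1) := by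
  apply biprod.hom_ext'
  · apply biprod.hom_ext
    · simp [S.Md]
    · simp [S.MM]
  · apply biprod.hom_ext
    · simp
    · simp [S.Md]

theorem nextM_d (j : J) (a : ℤ) (p : ℕ) :
    nextM S j a p ≫ nextd S j₀ (a + 1) p = nextd S j₀ a p ≫ nextM S j a (p + 1) := by
  cases p with
  | zero => exact M0_d0 S j₀ j a
  | succ q => exact M1_d1 S j₀ j a q

theorem M1_M1 (j k : J) (a : ℤ) (q : ℕ) :
    M1 S j a q ≫ M1 S k (a + 1) q = M1 S k a q ≫ M1 S j (a + 1) q := by
  apply biprod.hom_ext'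
  · apply biprod.hom_ext
    · simp [S.MM j k a (q + 1)]
    · simp
  · apply biprod.hom_ext
    · simp
    · simp [S.MM j k (a + 1) q]

theorem nextM_M (j k : J) (a : ℤ) (p : ℕ) :
    nextM S j a p ≫ nextM S k (a + 1) p = nextM S k a p ≫ nextM S j (a + 1) p := by
  cases p with
  | zero => exact S.MM j k a 0
  | succ q => exact M1_M1 S j k a q

/-- the next stage: the shifted cone of `M j₀` -/
def next : Stage 𝒞 J where
  X := nextX S
  d := nextd S j₀
  M := nextM S
  dd := nextd_dd S j₀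
  Md := nextM_d S j₀
  MM := nextM_M S

theorem next_X_zero (a : ℤ) : (next S j₀).X a 0 = S.X a 0 := rfl

theorem next_X_succ (a : ℤ) (q : ℕ) :
    (next S j₀).X a (q + 1) = (S.X a (q + 1) ⊞ S.X (a + 1) q) := rfl

end Next

/-- a null-homotopy of the operator `M j`, commuting with all operators -/
structure Null (S : Stage 𝒞 J) (j : J) where
  h : ∀ a p, S.X a (p + 1) ⟶ S.X (a + 1) p
  h0 : ∀ a, S.M j a 0 = S.d a 0 ≫ h a 0
  hs : ∀ a p, S.M j a (p + 1) = S.d a (p + 1) ≫ h a (p + 1) + h a p ≫ S.d (a + 1) p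
  hM : ∀ k a p, h a p ≫ S.M k (a + 1) p = S.M k a (p + 1) ≫ h (a + 1) p

section NullSelf

variable (S : Stage 𝒞 J) (j₀ : J)

/-- the homotopy for the new operator -/
def selfh (a : ℤ) : ∀ p, nextX S a (p + 1) ⟶ nextX S (a + 1) p
  | 0 => biprod.snd
  | q + 1 => sg (q + 1) • (biprod.snd ≫ biprod.inl)

/-- explicit form in positive degree -/
abbrev selfh1 (a : ℤ) (q : ℕ) :
    S.X a (q + 2) ⊞ S.X (a + 1) (q + 1) ⟶ S.X (a + 1) (q + 1) ⊞ S.X (a + 1 + 1) q :=
  sg (q + 1) • (biprod.snd ≫ biprod.inl)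

theorem self_h0 (a : ℤ) : S.M j₀ a 0 = d0 S j₀ a ≫ (biprod.snd : S.X a 1 ⊞ S.X (a + 1) 0 ⟶ _) := by
  simp

theorem self_hs0 (a : ℤ) :
    M1 S j₀ a 0 = d1 S j₀ a 0 ≫ selfh1 S a 0 +
      (biprod.snd : S.X a 1 ⊞ S.X (a + 1) 0 ⟶ _) ≫ d0 S j₀ (a + 1) := by
  apply biprod.hom_ext'
  · apply biprod.hom_ext
    · simp [sg]
    · simp [sg]
  · apply biprod.hom_ext
    · simp [sg]
    · simp [sg]

theorem self_hs1 (a : ℤ) (q : ℕ) :
    M1 S j₀ a (q + 1) = d1 S j₀ a (q + 1) ≫ selfh1 S a (q + 1) +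
      selfh1 S a q ≫ d1 S j₀ (a + 1) q := by
  have e : sg (q + 1 + 1) * sg (q + 1 + 1) = 1 := sg_mul_self _
  have e' : sg (q + 1 + 1) = - sg (q + 1) := sg_succ _
  apply biprod.hom_ext'
  · apply biprod.hom_ext
    · simp [smul_smul, e]
    · simp [smul_smul, e]
  · apply biprod.hom_ext
    · simp [smul_smul, e']
    · simp [smul_smul, sg_mul_self]

theorem self_hM0 (k : J) (a : ℤ) :
    (biprod.snd : S.X a 1 ⊞ S.X (a + 1) 0 ⟶ _) ≫ S.M k (a + 1) 0 =
      M1 S k a 0 ≫ (biprod.snd : S.X (a + 1) 1 ⊞ S.X (a + 1 + 1) 0 ⟶ _) := by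
  simp

theorem self_hM1 (k : J) (a : ℤ) (q : ℕ) :
    selfh1 S a q ≫ M1 S k (a + 1) q = M1 S k a (q + 1) ≫ selfh1 S (a + 1) q := by
  simp

/-- on the cone of `M j₀`, the operator `M j₀` is null-homotopic -/
def Null.self : Null (next S j₀) j₀ where
  h := selfh S
  h0 := self_h0 S j₀
  hs a p := by
    cases p with
    | zero => exact self_hs0 S j₀ a
    | succ q => exact self_hs1 S j₀ a q
  hM k a p := by
    cases p with
    | zero => exact self_hM0 S k a
    | succ q => exact self_hM1 S k a q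

end NullSelf

section NullNext

variable {S : Stage 𝒞 J} {j : J} (N : Null S j) (j₀ : J)

/-- the induced homotopy on the next stage -/
def nexth (a : ℤ) : ∀ p, nextX S a (p + 1) ⟶ nextX S (a + 1) p
  | 0 => biprod.fst ≫ N.h a 0
  | q + 1 => biprod.map (N.h a (q + 1)) (N.h (a + 1) q)

/-- explicit form in positive degree -/
abbrev nexth1 (a : ℤ) (q : ℕ) :
    S.X a (q + 2) ⊞ S.X (a + 1) (q + 1) ⟶ S.X (a + 1) (q + 1) ⊞ S.X (a + 1 + 1) q :=
  biprod.map (N.h a (q + 1)) (N.h (a + 1) q)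

theorem next_h0 (a : ℤ) :
    S.M j a 0 = d0 S j₀ a ≫ (biprod.fst : S.X a 1 ⊞ S.X (a + 1) 0 ⟶ _) ≫ N.h a 0 := by
  simp [N.h0]

theorem next_hs0 (a : ℤ) :
    M1 S j a 0 = d1 S j₀ a 0 ≫ nexth1 N a 0 +
      ((biprod.fst : S.X a 1 ⊞ S.X (a + 1) 0 ⟶ _) ≫ N.h a 0) ≫ d0 S j₀ (a + 1) := by
  apply biprod.hom_ext'
  · apply biprod.hom_ext
    · simp [N.hs]
    · simp [N.hM, sg]
  · apply biprod.hom_ext
    · simp
    · simp [N.h0]

theorem next_hs1 (a : ℤ) (q : ℕ) :
    M1 S j a (q + 1) = d1 S j₀ a (q + 1) ≫ nexth1 N a (q + 1) +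
      nexth1 N a q ≫ d1 S j₀ (a + 1) q := by
  have e' : sg (q + 1 + 1) = - sg (q + 1) := sg_succ _
  apply biprod.hom_ext'
  · apply biprod.hom_ext
    · simp [N.hs]
    · simp [N.hM, e']
  · apply biprod.hom_ext
    · simp
    · simp [N.hs]

theorem next_hM0 (k : J) (a : ℤ) :
    ((biprod.fst : S.X a 1 ⊞ S.X (a + 1) 0 ⟶ _) ≫ N.h a 0) ≫ S.M k (a + 1) 0 =
      M1 S k a 0 ≫ (biprod.fst : S.X (a + 1) 1 ⊞ S.X (a + 1 + 1) 0 ⟶ _) ≫ N.h (a + 1) 0 := by
  simp [N.hM]

theorem next_hM1 (k : J) (a : ℤ) (q : ℕ) :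
    nexth1 N a q ≫ M1 S k (a + 1) q = M1 S k a (q + 1) ≫ nexth1 N (a + 1) q := by
  apply biprod.hom_ext'
  · apply biprod.hom_ext
    · simp [N.hM]
    · simp
  · apply biprod.hom_ext
    · simp
    · simp [N.hM]

/-- null-homotopies persist on the next stage -/
def Null.next : Null (next S j₀) j where
  h := nexth N
  h0 := next_h0 N j₀
  hs a p := by
    cases p with
    | zero => exact next_hs0 N j₀ a
    | succ q => exact next_hs1 N j₀ a q
  hM k a p := by
    cases p with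
    | zero => exact next_hM0 N k a
    | succ q => exact next_hM1 N k a q

end NullNext

/-- iterated cones -/
def iter (S : Stage 𝒞 J) : List J → Stage 𝒞 J
  | [] => S
  | j :: l => next (iter S l) j

theorem nonempty_null_iter (S : Stage 𝒞 J) (l : List J) (j : J) (hj : j ∈ l) :
    Nonempty (Null (iter S l) j) := by
  induction l with
  | nil => exact absurd hj (List.not_mem_nil)
  | cons j' l ih =>
    rcases List.mem_cons.1 hj with rfl | h
    · exact ⟨Null.self (iter S l) j⟩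
    · obtain ⟨N⟩ := ih h
      exact ⟨N.next j'⟩

section Props

variable (G : ℤ → 𝒞) (μ : J → ∀ a, G a ⟶ G (a + 1))
  (hμ : ∀ j k a, μ j a ≫ μ k (a + 1) = μ k a ≫ μ j (a + 1))

/-- a counted property of objects, closed under biproducts, propagates to the iterated cones -/
theorem iter_X_prop (P : ℕ → ℤ → 𝒞 → Prop) (hzero : ∀ b A, IsZero A → P 0 b A)
    (hbiprod : ∀ m m' b A B, P m b A → P m' b B → P (m + m') b (A ⊞ B))
    (hG : ∀ b, P 1 b (G b)) (l : List J) :
    ∀ (a : ℤ) (p : ℕ), P (Nat.choose l.length p) (a + p) ((iter (base G μ hμ) l).X a p) := by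
  induction l with
  | nil =>
    intro a p
    cases p with
    | zero =>
      have := hG a
      simpa [iter, base, baseX] using this
    | succ q =>
      have : IsZero ((iter (base G μ hμ) []).X a (q + 1)) := isZero_zero 𝒞
      simpa using hzero (a + (q + 1 : ℕ)) _ this
  | cons j l ih =>
    intro a p
    cases p with
    | zero =>
      have := ih a 0
      rw [List.length_cons, Nat.choose_zero_right]
      rw [Nat.choose_zero_right] at this
      exact this
    | succ q =>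
      have h1 := ih a (q + 1)
      have h2 := ih (a + 1) q
      have e : a + 1 + (q : ℤ) = a + ((q + 1 : ℕ) : ℤ) := by push_cast; ring
      rw [e] at h2
      have := hbiprod _ _ _ _ _ h1 h2
      rw [List.length_cons, Nat.choose_succ_succ, add_comm]
      exact this

/-- the terms of the iterated cone vanish above the number of steps -/
theorem isZero_iter_X (l : List J) (a : ℤ) (p : ℕ) (hp : l.length < p) :
    IsZero ((iter (base G μ hμ) l).X a p) := by
  have := iter_X_prop G μ hμ (fun m _ A => m = 0 → IsZero A) (fun _ _ h _ => h)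
    (fun m m' b A B hA hB hm => by
      have h1 : m = 0 := by omega
      have h2 : m' = 0 := by omega
      have hA' := hA h1
      have hB' := hB h2
      refine ⟨fun Z => ⟨⟨⟨0⟩, fun f => ?_⟩⟩, fun Z => ⟨⟨⟨0⟩, fun f => ?_⟩⟩⟩
      · apply biprod.hom_ext'
        · exact hA'.eq_of_src _ _
        · exact hB'.eq_of_src _ _
      · apply biprod.hom_ext
        · exact hA'.eq_of_tgt _ _
        · exact hB'.eq_of_tgt _ _)
    (fun b h => by omega) l a p
  exact this (Nat.choose_eq_zero_of_lt hp)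

end Props

section Exactness

variable {𝒟 : Type*} [Category 𝒟] [Abelian 𝒟]

/-- a complex on which an isomorphism is null-homotopic is exact -/
theorem exact_of_homotopy {A B C A' B' : 𝒟} (f : A ⟶ B) (g : B ⟶ C) (w : f ≫ g = 0)
    (mA : A ⟶ A') (mB : B ⟶ B') (f' : A' ⟶ B') (h : B ⟶ A') (h' : C ⟶ B')
    [IsIso mA] [IsIso mB] (comm : f ≫ mB = mA ≫ f') (hh : mB = h ≫ f' + g ≫ h') :
    (ShortComplex.mk f g w).Exact := by
  rw [ShortComplex.exact_iff_exact_up_to_refinements]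
  intro A₀ x₂ hx₂
  refine ⟨A₀, 𝟙 _, inferInstance, x₂ ≫ h ≫ inv mA, ?_⟩
  have e1 : inv mA ≫ f = f' ≫ inv mB := by
    rw [IsIso.inv_comp_eq, ← Category.assoc, ← comm, Category.assoc, IsIso.hom_inv_id,
      Category.comp_id]
  have e2 : x₂ ≫ h ≫ f' = x₂ ≫ mB := by
    rw [hh, Preadditive.comp_add, ← Category.assoc x₂ g, show x₂ ≫ g = 0 from hx₂, zero_comp,
      add_zero]
  dsimp
  rw [Category.id_comp, Category.assoc, Category.assoc, e1, ← Category.assoc h, ← Category.assoc,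
    e2, Category.assoc, IsIso.hom_inv_id, Category.comp_id]

/-- a map out of a zero object whose composite with a homotopy is an isomorphism is a mono -/
theorem mono_of_homotopy {B C B' : 𝒟} (g : B ⟶ C) (mB : B ⟶ B') (h' : C ⟶ B') [IsIso mB]
    (hh : mB = g ≫ h') : Mono g := by
  haveI : Mono (g ≫ h') := by rw [← hh]; infer_instance
  exact mono_of_mono g h'

variable (Φ : 𝒞 ⥤ 𝒟) [Φ.Additive]

theorem isIso_map_biprodMap {A B A' B' : 𝒞} (f : A ⟶ A') (g : B ⟶ B') [IsIso (Φ.map f)]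
    [IsIso (Φ.map g)] : IsIso (Φ.map (biprod.map f g)) := by
  refine ⟨Φ.map biprod.fst ≫ inv (Φ.map f) ≫ Φ.map biprod.inl +
    Φ.map biprod.snd ≫ inv (Φ.map g) ≫ Φ.map biprod.inr, ?_, ?_⟩
  · have e : biprod.map f g = biprod.fst ≫ f ≫ biprod.inl + biprod.snd ≫ g ≫ biprod.inr := by
      apply biprod.hom_ext' <;> apply biprod.hom_ext <;> simp
    rw [e, Φ.map_add, Functor.map_comp, Functor.map_comp, Functor.map_comp, Functor.map_comp]
    simp only [Preadditive.add_comp, Preadditive.comp_add, Category.assoc]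
    rw [← Functor.map_comp_assoc Φ biprod.inl biprod.fst, ← Functor.map_comp_assoc Φ biprod.inl biprod.snd,
      ← Functor.map_comp_assoc Φ biprod.inr biprod.fst, ← Functor.map_comp_assoc Φ biprod.inr biprod.snd]
    simp only [biprod.inl_fst, biprod.inl_snd, biprod.inr_fst, biprod.inr_snd,
      CategoryTheory.Functor.map_id, Functor.map_zero, zero_comp, comp_zero, add_zero, zero_add,
      Category.id_comp, IsIso.hom_inv_id_assoc]
    rw [← Functor.map_comp, ← Functor.map_comp, ← Φ.map_add, biprod.total,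
      CategoryTheory.Functor.map_id]
  · have e : biprod.map f g = biprod.fst ≫ f ≫ biprod.inl + biprod.snd ≫ g ≫ biprod.inr := by
      apply biprod.hom_ext' <;> apply biprod.hom_ext <;> simp
    rw [e, Φ.map_add, Functor.map_comp, Functor.map_comp, Functor.map_comp, Functor.map_comp]
    simp only [Preadditive.add_comp, Preadditive.comp_add, Category.assoc]
    rw [← Functor.map_comp_assoc Φ biprod.inl biprod.fst, ← Functor.map_comp_assoc Φ biprod.inl biprod.snd,
      ← Functor.map_comp_assoc Φ biprod.inr biprod.fst, ← Functor.map_comp_assoc Φ biprod.inr biprod.snd]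
    simp only [biprod.inl_fst, biprod.inl_snd, biprod.inr_fst, biprod.inr_snd,
      CategoryTheory.Functor.map_id, Functor.map_zero, zero_comp, comp_zero, add_zero, zero_add,
      Category.id_comp, IsIso.inv_hom_id_assoc]
    rw [← Functor.map_comp, ← Functor.map_comp, ← Φ.map_add, biprod.total,
      CategoryTheory.Functor.map_id]

/-- the operator `M j` of a stage becomes an isomorphism under `Φ` -/
def IsoUnder (S : Stage 𝒞 J) (j : J) : Prop := ∀ a p, IsIso (Φ.map (S.M j a p))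

theorem isoUnder_base (G : ℤ → 𝒞) (μ : J → ∀ a, G a ⟶ G (a + 1))
    (hμ : ∀ j k a, μ j a ≫ μ k (a + 1) = μ k a ≫ μ j (a + 1)) (j : J)
    (hiso : ∀ a, IsIso (Φ.map (μ j a))) : IsoUnder Φ (base G μ hμ) j := by
  intro a p
  cases p with
  | zero => exact hiso a
  | succ q =>
    have h0 : IsZero (Φ.obj ((base G μ hμ).X a (q + 1))) := Φ.map_isZero (isZero_zero 𝒞)
    have h1 : IsZero (Φ.obj ((base G μ hμ).X (a + 1) (q + 1))) := Φ.map_isZero (isZero_zero 𝒞)
    exact ⟨0, h0.eq_of_src _ _, h1.eq_of_src _ _⟩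

theorem IsoUnder.next {S : Stage 𝒞 J} {j : J} (h : IsoUnder Φ S j) (j₀ : J) :
    IsoUnder Φ (next S j₀) j := by
  intro a p
  cases p with
  | zero => exact h a 0
  | succ q =>
    haveI := h a (q + 1)
    haveI := h (a + 1) q
    exact isIso_map_biprodMap Φ (S.M j a (q + 1)) (S.M j (a + 1) q)

theorem isoUnder_iter {S : Stage 𝒞 J} {j : J} (h : IsoUnder Φ S j) (l : List J) :
    IsoUnder Φ (iter S l) j := by
  induction l with
  | nil => exact h
  | cons j' l ih => exact ih.next Φ j'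

theorem map_dd (S : Stage 𝒞 J) (a : ℤ) (p : ℕ) :
    Φ.map (S.d a p) ≫ Φ.map (S.d a (p + 1)) = 0 := by
  rw [← Φ.map_comp, S.dd, Φ.map_zero]

/-- exactness of the image of a stage under `Φ`, in positive degrees -/
theorem exact_map_of_null {S : Stage 𝒞 J} {j : J} (N : Null S j) (hiso : IsoUnder Φ S j)
    (a : ℤ) (p : ℕ) :
    (ShortComplex.mk (Φ.map (S.d a p)) (Φ.map (S.d a (p + 1))) (map_dd Φ S a p)).Exact := by
  haveI := hiso a p
  haveI := hiso a (p + 1)
  refine exact_of_homotopy _ _ _ (Φ.map (S.M j a p)) (Φ.map (S.M j a (p + 1)))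
    (Φ.map (S.d (a + 1) p)) (Φ.map (N.h a p)) (Φ.map (N.h a (p + 1))) ?_ ?_
  · rw [← Φ.map_comp, ← Φ.map_comp, S.Md]
  · rw [← Φ.map_comp, ← Φ.map_comp, ← Φ.map_add, N.hs]
    exact congrArg _ (add_comm _ _)

/-- injectivity of the first differential of the image of a stage under `Φ` -/
theorem mono_map_of_null {S : Stage 𝒞 J} {j : J} (N : Null S j) (hiso : IsoUnder Φ S j)
    (a : ℤ) : Mono (Φ.map (S.d a 0)) := by
  haveI := hiso a 0
  refine mono_of_homotopy _ (Φ.map (S.M j a 0)) (Φ.map (N.h a 0)) ?_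
  rw [← Φ.map_comp, N.h0]

end Exactness

end Groth.Agent.Lib.T2H5.KosStage

end
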