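import Mathlib
import Groth.Agent.Lib.T2H5KosStage
import Groth.Agent.Lib.T2H5StalkIso

/-!
# T2H5KosExact: exactness of the iterated cones on a scheme, checked on stalks (helper5)
-/

set_option autoImplicit false
universe u

open CategoryTheory CategoryTheory.Limits AlgebraicGeometry TopologicalSpace Opposite

namespace Groth.Agent.Lib.T2H5.KosExact

open Groth.Agent.Lib.T2H5.KosStage Groth.Agent.Lib.T2H5.StalkIso
  Groth.Agent.Lib.Helper1.Sky Groth.Agent.Lib.Helper1.KBC

variable {X : Scheme.{u}} {J : Type}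
variable (G : ℤ → X.Modules) (μ : J → ∀ a, G a ⟶ G (a + 1))
  (hμ : ∀ j k a, μ j a ≫ μ k (a + 1) = μ k a ≫ μ j (a + 1))
  (U : J → X.Opens) (hcov : ∀ x : X, ∃ j, x ∈ U j)
  (hiso : ∀ j (x : X), x ∈ U j → ∀ a, IsIso ((stalkFun x).map (μ j a)))

include hcov hiso in
/-- the iterated cone over all the operators is exact in positive degrees -/
theorem exact_iter (l : List J) (hl : ∀ j, j ∈ l) (a : ℤ) (p : ℕ) :
    (ShortComplex.mk ((iter (base G μ hμ) l).d a p) ((iter (base G μ hμ) l).d a (p + 1))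
      ((iter (base G μ hμ) l).dd a p)).Exact := by
  apply exact_of_forall_stalk
  intro x
  obtain ⟨j, hj⟩ := hcov x
  obtain ⟨N⟩ := nonempty_null_iter (base G μ hμ) l j (hl j)
  have hI : IsoUnder (stalkFun x) (iter (base G μ hμ) l) j :=
    isoUnder_iter (stalkFun x) (isoUnder_base (stalkFun x) G μ hμ j (hiso j x hj)) l
  exact exact_map_of_null (stalkFun x) N hI a p

include hcov hiso in
/-- the first differential of the iterated cone over all the operators is a monomorphism -/
theorem mono_iter (l : List J) (hl : ∀ j, j ∈ l) (a : ℤ) :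
    Mono ((iter (base G μ hμ) l).d a 0) := by
  apply mono_of_forall_stalk
  intro x
  obtain ⟨j, hj⟩ := hcov x
  obtain ⟨N⟩ := nonempty_null_iter (base G μ hμ) l j (hl j)
  have hI : IsoUnder (stalkFun x) (iter (base G μ hμ) l) j :=
    isoUnder_iter (stalkFun x) (isoUnder_base (stalkFun x) G μ hμ j (hiso j x hj)) l
  exact mono_map_of_null (stalkFun x) N hI a

/-- the iterated cone as a cochain complex -/
noncomputable def cx (l : List J) (a : ℤ) : CochainComplex X.Modules ℕ :=
  CochainComplex.of ((iter (base G μ hμ) l).X a) ((iter (base G μ hμ) l).d a)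
    ((iter (base G μ hμ) l).dd a)

theorem cx_d (l : List J) (a : ℤ) (p : ℕ) :
    (cx G μ hμ l a).d p (p + 1) = (iter (base G μ hμ) l).d a p :=
  CochainComplex.of_d _ _ p

include hcov hiso in
theorem cx_exactAt (l : List J) (hl : ∀ j, j ∈ l) (a : ℤ) (p : ℕ) :
    (cx G μ hμ l a).ExactAt p := by
  cases p with
  | zero =>
    rw [HomologicalComplex.exactAt_iff' _ 0 0 1 (by simp) (by simp)]
    have hm := mono_iter G μ hμ U hcov hiso l hl a
    have hf : ((cx G μ hμ l a).sc' 0 0 1).f = 0 := (cx G μ hμ l a).shape 0 0 (by simp)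
    rw [ShortComplex.exact_iff_mono _ hf]
    change Mono ((cx G μ hμ l a).d 0 1)
    rw [cx_d]
    exact hm
  | succ q =>
    rw [HomologicalComplex.exactAt_iff' _ q (q + 1) (q + 2) (by simp) (by simp)]
    have := exact_iter G μ hμ U hcov hiso l hl a q
    refine (ShortComplex.exact_iff_of_iso ?_).2 this
    refine ShortComplex.isoMk (Iso.refl _) (Iso.refl _) (Iso.refl _) ?_ ?_
    · change 𝟙 _ ≫ (iter (base G μ hμ) l).d a q = (cx G μ hμ l a).d q (q + 1) ≫ 𝟙 _
      rw [cx_d, Category.comp_id, Category.id_comp]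
    · change 𝟙 _ ≫ (iter (base G μ hμ) l).d a (q + 1) = (cx G μ hμ l a).d (q + 1) (q + 1 + 1) ≫ 𝟙 _
      rw [cx_d, Category.comp_id, Category.id_comp]

end Groth.Agent.Lib.T2H5.KosExact
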