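import Mathlib
import Groth.Agent.Lib.Helper27GrTildeMul2
import Groth.Agent.Lib.Helper27TwistAmple
import Groth.Agent.Lib.Helper23SecTw5

/-!
# T2H5KosNu: multiplication by a form of degree one on the twists `M(p)~` (helper5)
-/

set_option autoImplicit false
universe u

open CategoryTheory CategoryTheory.Limits AlgebraicGeometry TopologicalSpace Opposite

namespace Groth.Agent.Lib.T2H5.KosNu

open Groth.Agent.Lib.Helper27GrTildeSect Groth.Agent.Lib.Helper23.SecTw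
  Groth.Agent.Lib.Helper23.Extend

variable {R A : Type u} [CommRing R] [CommRing A] [Algebra R A] (𝒜 : ℕ → Submodule R A)
  [GradedAlgebra 𝒜]
variable {M : Type u} [AddCommGroup M] [Module R M] [Module A M] [IsScalarTower R A M]
  (ℳ : ℕ → Submodule R M) [DirectSum.Decomposition ℳ] [SetLike.GradedSMul 𝒜 ℳ]

/-- the section `b / 1` of `O(1)` -/
noncomputable def oneSec (W : (Proj 𝒜).Opens) {b : A} (hb : b ∈ 𝒜 1) :
    Γ(GrTilde.tilde 𝒜 𝒜 1, W) :=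
  fracSec 𝒜 1 W hb (SetLike.GradedOne.one_mem : (1 : A) ∈ 𝒜 0) (by simp)
    (fun y => one_not_mem 𝒜 y.1)

/-- multiplication by a form of degree one on sections -/
noncomputable def nuSec {b : A} (hb : b ∈ 𝒜 1) {p q : ℤ} (h : p + 1 = q) (W : (Proj 𝒜).Opens)
    (m : Γ(GrTilde.tilde 𝒜 ℳ p, W)) : Γ(GrTilde.tilde 𝒜 ℳ q, W) :=
  mulSec 𝒜 ℳ h W m (oneSec 𝒜 W hb)

theorem exists_nu {b : A} (hb : b ∈ 𝒜 1) {p q : ℤ} (h : p + 1 = q) :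
    ∃ Φ : GrTilde.tilde 𝒜 ℳ p ⟶ GrTilde.tilde 𝒜 ℳ q,
      ∀ (V : (Proj 𝒜).Opens) m, Φ.app V m = nuSec 𝒜 ℳ hb h V m :=
  exists_hom_of_sections (GrTilde.tilde 𝒜 ℳ p) (GrTilde.tilde 𝒜 ℳ q)
    (fun V m => nuSec 𝒜 ℳ hb h V m)
    (fun V m m' => mulSec_add_left 𝒜 ℳ h V m m' _)
    (fun V r m => mulSec_smul_left 𝒜 ℳ h V r m _)
    (fun U V hle m => mulSec_map 𝒜 ℳ h hle m _)

/-- multiplication by a form of degree one, as a morphism `M(p)~ ⟶ M(p+1)~` -/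
noncomputable def nu {b : A} (hb : b ∈ 𝒜 1) {p q : ℤ} (h : p + 1 = q) :
    GrTilde.tilde 𝒜 ℳ p ⟶ GrTilde.tilde 𝒜 ℳ q := (exists_nu 𝒜 ℳ hb h).choose

theorem nu_app {b : A} (hb : b ∈ 𝒜 1) {p q : ℤ} (h : p + 1 = q) (V : (Proj 𝒜).Opens)
    (m : Γ(GrTilde.tilde 𝒜 ℳ p, V)) : (nu 𝒜 ℳ hb h).app V m = nuSec 𝒜 ℳ hb h V m :=
  (exists_nu 𝒜 ℳ hb h).choose_spec V m

theorem nuSec_comm {b c : A} (hb : b ∈ 𝒜 1) (hc : c ∈ 𝒜 1) {p q r : ℤ} (h : p + 1 = q)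
    (h' : q + 1 = r) (W : (Proj 𝒜).Opens) (m : Γ(GrTilde.tilde 𝒜 ℳ p, W)) :
    nuSec 𝒜 ℳ hc h' W (nuSec 𝒜 ℳ hb h W m) = nuSec 𝒜 ℳ hb h' W (nuSec 𝒜 ℳ hc h W m) := by
  apply sec_ext
  intro y hy
  unfold nuSec
  rw [secVal_mulSec, secVal_mulSec, secVal_mulSec, secVal_mulSec]
  exact smul_comm _ _ _

/-- the multiplications by forms of degree one commute -/
theorem nu_comm {b c : A} (hb : b ∈ 𝒜 1) (hc : c ∈ 𝒜 1) {p q r : ℤ} (h : p + 1 = q)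
    (h' : q + 1 = r) :
    nu 𝒜 ℳ hb h ≫ nu 𝒜 ℳ hc h' = nu 𝒜 ℳ hc h ≫ nu 𝒜 ℳ hb h' := by
  apply Scheme.Modules.hom_ext
  intro U
  ext m
  rw [Scheme.Modules.Hom.comp_app, Scheme.Modules.Hom.comp_app]
  change (nu 𝒜 ℳ hc h').app U ((nu 𝒜 ℳ hb h).app U m) =
    (nu 𝒜 ℳ hb h').app U ((nu 𝒜 ℳ hc h).app U m)
  rw [nu_app, nu_app, nu_app, nu_app]
  exact nuSec_comm 𝒜 ℳ hb hc h h' U m

/-- multiplication by `b` is an isomorphism over the opens where `b` does not vanish -/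
theorem isoOn_nu {b : A} (hb : b ∈ 𝒜 1) {p q : ℤ} (h : p + 1 = q) :
    IsoOn (nu 𝒜 ℳ hb h) (Proj.basicOpen 𝒜 b) := by
  intro W' hle
  rw [ConcreteCategory.isIso_iff_bijective]
  have hW : ∀ y : W', b ∉ y.1.asHomogeneousIdeal := fun y =>
    (ProjectiveSpectrum.mem_basicOpen 𝒜 b y.1).mp (hle y.2)
  have := bijective_mulSec_fracSec 𝒜 ℳ h W' hb (SetLike.GradedOne.one_mem : (1 : A) ∈ 𝒜 0)
    (by simp) (fun y => one_not_mem 𝒜 y.1) hW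
  convert this using 1
  funext m
  exact nu_app 𝒜 ℳ hb h W' m

end Groth.Agent.Lib.T2H5.KosNu
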