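import Mathlib
import Groth.Agent.Lib.T2H5KosExact
import Groth.Agent.Lib.T2H5KosNu
import Groth.Agent.Lib.T2H5Twist
import Groth.Agent.Lib.T2H5HHSub
import Groth.Agent.Lib.Helper27PnSections
import Groth.Agent.Lib.Helper1StalkTensorB

/-!
# T2H5KosPn: the twisted Koszul complex on projective space and the cohomology chase (helper5)
-/

set_option autoImplicit false
universe u

open CategoryTheory CategoryTheory.Limits AlgebraicGeometry TopologicalSpace Opposite
  MonoidalCategory

namespace Groth.Agent.Lib.T2H5.KosPn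

open Groth.Agent.Lib.Helper1.StalkTensor Groth.Agent.Lib.Helper1.Sky
  Groth.Agent.Lib.T2H5.KosStage Groth.Agent.Lib.T2H5.KosExact Groth.Agent.Lib.T2H5.StalkIso
  Groth.Agent.Lib.T2H5.HHSub

section General

variable {X : Scheme.{u}}

/-- tensoring with a fixed module preserves stalkwise isomorphisms -/
theorem isIso_stalkFun_map_tensor (G : X.Modules) {A B : X.Modules} (ψ : A ⟶ B) (x : X)
    (h : IsIso ((stalkFun x).map ψ)) :
    IsIso ((stalkFun x).map ((DCoh.tensorBi.obj G).map ψ)) := by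
  rw [ConcreteCategory.isIso_iff_bijective] at h ⊢
  have h' : Function.Bijective (sm (toPMMap ψ) x) := h
  change Function.Bijective (sm (toPMMap ((DCoh.tensorBi.obj G).map ψ)) x)
  rw [tensorBi_obj_map]
  have hτ : Function.Bijective (sm (toPM G ◁ toPMMap ψ) x) := by
    let e : St (toPM A) x ≃ₗ[Rx X.presheaf x] St (toPM B) x :=
      LinearEquiv.ofBijective (smₗ (toPMMap ψ) x) h'
    have he : (e : St (toPM A) x →ₗ[Rx X.presheaf x] St (toPM B) x) = smₗ (toPMMap ψ) x := by
      ext a
      rfl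
    have hl : Function.Bijective
        (LinearMap.lTensor (St (toPM G) x) (smₗ (toPMMap ψ) x)) := by
      rw [← he, ← LinearEquiv.coe_lTensor]
      exact LinearEquiv.bijective _
    have hc : ∀ t, α (toPM G) (toPM B) x (sm (toPM G ◁ toPMMap ψ) x t) =
        LinearMap.lTensor (St (toPM G) x) (smₗ (toPMMap ψ) x) (α (toPM G) (toPM A) x t) :=
      fun t => α_nat_right _ _ t
    constructor
    · intro t t' htt
      have h1 := congrArg (α (toPM G) (toPM B) x) htt
      rw [hc, hc] at h1
      exact (α_bijective (P := toPM G) (Q := toPM A) (x := x)).1 (hl.1 h1)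
    · intro b
      obtain ⟨z, hz⟩ := hl.2 (α (toPM G) (toPM B) x b)
      obtain ⟨t, rfl⟩ := (α_bijective (P := toPM G) (Q := toPM A) (x := x)).2 z
      exact ⟨t, (α_bijective (P := toPM G) (Q := toPM B) (x := x)).1 ((hc t).trans hz)⟩
  let T' : PMod X.presheaf := toPM G ⊗ toPM A
  let T : PMod X.presheaf := toPM G ⊗ toPM B
  let τ : T' ⟶ T := toPM G ◁ toPMMap ψ
  constructor
  · intro a a' haa
    obtain ⟨a0, rfl⟩ := (sm_etaX_bijective T' x).2 a
    obtain ⟨a0', rfl⟩ := (sm_etaX_bijective T' x).2 a'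
    have h1 : sm (etaX T) x (sm τ x a0) = sm (etaX T) x (sm τ x a0') :=
      ((sm_etaX_naturality τ x a0).trans haa).trans (sm_etaX_naturality τ x a0').symm
    rw [hτ.1 ((sm_etaX_bijective T x).1 h1)]
  · intro b
    obtain ⟨b0, rfl⟩ := (sm_etaX_bijective T x).2 b
    obtain ⟨a0, rfl⟩ := hτ.2 b0
    exact ⟨sm (etaX T') x a0, (sm_etaX_naturality τ x a0).symm⟩

/-- the cohomology of a zero module vanishes -/
theorem subsingleton_HH_of_isZero {A : X.Modules} (hA : IsZero A) (i : ℕ) :
    Subsingleton (Coh.HH X A i) := by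
  have h0 : 𝟙 (Coh.toAb A) = 0 := by
    have e1 : 𝟙 (Coh.toAb A) = (SheafOfModules.toSheaf X.ringCatSheaf).map (𝟙 A) :=
      ((SheafOfModules.toSheaf X.ringCatSheaf).map_id A).symm
    rw [e1, hA.eq_of_src (𝟙 A) 0]
    exact Functor.map_zero _ _ _
  have key : ∀ z : Coh.HH X A i, z = 0 := by
    intro z
    have h1 := Sheaf.H.map_id_apply (F := Coh.toAb A) z
    rw [h0, Sheaf.H.map_apply, Abelian.Ext.mk₀_zero, Abelian.Ext.comp_zero] at h1
    exact h1.symm
  exact ⟨fun x y => (key x).trans (key y).symm⟩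

/-- the cohomology chase along an exact complex `0 → Y 0 → ⋯ → Y N → 0` -/
theorem subsingleton_HH_top (Y : ℕ → X.Modules) (d : ∀ p, Y p ⟶ Y (p + 1))
    (dd : ∀ p, d p ≫ d (p + 1) = 0)
    (hex : ∀ p, (ShortComplex.mk (d p) (d (p + 1)) (dd p)).Exact) (hmono : Mono (d 0))
    (N : ℕ) (hz : IsZero (Y (N + 1))) (i : ℕ)
    (hv : ∀ p j, p < N → j + p + 1 = i + N → Subsingleton (Coh.HH X (Y p) j)) :
    Subsingleton (Coh.HH X (Y N) i) := by
  have hZ : ∀ p j, p ≤ N → j + p = i + N → Subsingleton (Coh.HH X (kernel (d p)) j) := by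
    intro p
    induction p with
    | zero =>
      intro j _ _
      exact subsingleton_HH_of_isZero (isZero_kernel_of_mono (d 0)) j
    | succ p ih =>
      intro j hp hj
      have hepi : Epi (kernel.lift (d (p + 1)) (d p) (dd p)) :=
        (ShortComplex.exact_iff_epi_kernel_lift _).1 (hex p)
      have w : kernel.ι (d p) ≫ kernel.lift (d (p + 1)) (d p) (dd p) = 0 := by
        rw [← cancel_mono (kernel.ι (d (p + 1))), Category.assoc, kernel.lift_ι,
          kernel.condition, zero_comp]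
      let S : ShortComplex X.Modules :=
        ShortComplex.mk (kernel.ι (d p)) (kernel.lift (d (p + 1)) (d p) (dd p)) w
      let S' : ShortComplex X.Modules :=
        ShortComplex.mk (kernel.ι (d p)) (d p) (kernel.condition (d p))
      let φ : S ⟶ S' :=
        { τ₁ := 𝟙 _
          τ₂ := 𝟙 _
          τ₃ := kernel.ι (d (p + 1))
          comm₁₂ := by
            change 𝟙 _ ≫ kernel.ι (d p) = kernel.ι (d p) ≫ 𝟙 _
            rw [Category.id_comp, Category.comp_id]
          comm₂₃ := by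
            change 𝟙 _ ≫ d p = kernel.lift (d (p + 1)) (d p) (dd p) ≫ kernel.ι (d (p + 1))
            rw [Category.id_comp, kernel.lift_ι] }
      have : Epi φ.τ₁ := by
        change Epi (𝟙 _)
        infer_instance
      have : IsIso φ.τ₂ := by
        change IsIso (𝟙 _)
        infer_instance
      have : Mono φ.τ₃ := by
        change Mono (kernel.ι (d (p + 1)))
        infer_instance
      have hS : S.ShortExact :=
        { exact := (ShortComplex.exact_iff_of_epi_of_isIso_of_mono φ).2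
            (ShortComplex.exact_kernel (d p))
          mono_f := inferInstanceAs (Mono (kernel.ι (d p)))
          epi_g := hepi }
      exact subsingleton_X₃ S hS j (hv p j (by omega) (by omega)) (ih (j + 1) (by omega) (by omega))
  have hN := hZ N i le_rfl rfl
  have h0 : d N = 0 := hz.eq_of_tgt _ _
  have hiso : IsIso (kernel.ι (d N)) := by
    rw [h0]
    infer_instance
  exact Groth.Agent.Lib.T2H5.PnStruct.subsingleton_HH_of_iso (asIso (kernel.ι (d N))) i hN

/-- a biproduct of zero objects is zero -/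
theorem isZero_biprod' {A B : X.Modules} (hA : IsZero A) (hB : IsZero B) : IsZero (A ⊞ B) := by
  refine ⟨fun Z => ⟨⟨⟨0⟩, fun f => ?_⟩⟩, fun Z => ⟨⟨⟨0⟩, fun f => ?_⟩⟩⟩
  · apply biprod.hom_ext'
    · exact hA.eq_of_src _ _
    · exact hB.eq_of_src _ _
  · apply biprod.hom_ext
    · exact hA.eq_of_tgt _ _
    · exact hB.eq_of_tgt _ _

/-- `0 ⊞ B ≅ B` -/
noncomputable def biprodSndIso {A B : X.Modules} (hA : IsZero A) : A ⊞ B ≅ B where
  hom := biprod.snd
  inv := biprod.inr
  hom_inv_id := by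
    apply biprod.hom_ext'
    · exact hA.eq_of_src _ _
    · rw [biprod.inr_snd_assoc, Category.comp_id]
  inv_hom_id := biprod.inr_snd

/-- `A ⊞ 0 ≅ A` -/
noncomputable def biprodFstIso {A B : X.Modules} (hB : IsZero B) : A ⊞ B ≅ A where
  hom := biprod.fst
  inv := biprod.inl
  hom_inv_id := by
    apply biprod.hom_ext'
    · rw [biprod.inl_fst_assoc, Category.comp_id]
    · exact hB.eq_of_src _ _
  inv_hom_id := biprod.inl_fst

end General

section Pn

variable (n : ℕ) (R : Type u) [CommRing R]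

local notation "𝒫" => CohB1.polyGrading n R

/-- `O(a)` as a tilde module -/
noncomputable abbrev OO (a : ℤ) : (CohB1.ProjSpace n R).Modules := GrTilde.tilde 𝒫 𝒫 a

/-- multiplication by the coordinate `x_j` -/
noncomputable def xm (j : Fin (n + 1)) (a : ℤ) : OO n R a ⟶ OO n R (a + 1) :=
  Groth.Agent.Lib.T2H5.KosNu.nu 𝒫 𝒫 (Groth.Agent.Lib.Helper27ProjGamma.hX n R j) rfl

theorem xm_comm (j k : Fin (n + 1)) (a : ℤ) :
    xm n R j a ≫ xm n R k (a + 1) = xm n R k a ≫ xm n R j (a + 1) :=
  Groth.Agent.Lib.T2H5.KosNu.nu_comm 𝒫 𝒫 _ _ rfl rfl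

variable (F : (CohB1.ProjSpace n R).Modules)

/-- `F(a)` -/
noncomputable abbrev GF (a : ℤ) : (CohB1.ProjSpace n R).Modules :=
  (DCoh.tensorBi.obj F).obj (OO n R a)

theorem GF_eq (a : ℤ) : GF n R F a = CohB1.tensorMod F (Twist.twistProjSpace n R a) := rfl

/-- multiplication by `x_j` on `F(a)` -/
noncomputable def μF (j : Fin (n + 1)) (a : ℤ) : GF n R F a ⟶ GF n R F (a + 1) :=
  (DCoh.tensorBi.obj F).map (xm n R j a)

theorem μF_comm (j k : Fin (n + 1)) (a : ℤ) :
    μF n R F j a ≫ μF n R F k (a + 1) = μF n R F k a ≫ μF n R F j (a + 1) := by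
  unfold μF
  rw [← Functor.map_comp, ← Functor.map_comp, xm_comm]

/-- the standard opens -/
noncomputable def UU (j : Fin (n + 1)) : (CohB1.ProjSpace n R).Opens :=
  Proj.basicOpen 𝒫 (MvPolynomial.X j)

theorem cover (x : CohB1.ProjSpace n R) : ∃ j, x ∈ UU n R j := by
  obtain ⟨i, hi⟩ := Groth.Agent.Lib.Helper27PnSections.exists_X_not_mem n R x
  exact ⟨i, (ProjectiveSpectrum.mem_basicOpen 𝒫 _ x).2 hi⟩

theorem isIso_stalk_μF (j : Fin (n + 1)) (x : CohB1.ProjSpace n R) (hx : x ∈ UU n R j) (a : ℤ) :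
    IsIso ((stalkFun x).map (μF n R F j a)) :=
  isIso_stalkFun_map_tensor F _ x
    (isIso_stalkFun_map_of_isoOn _ _
      (Groth.Agent.Lib.T2H5.KosNu.isoOn_nu 𝒫 𝒫 (Groth.Agent.Lib.Helper27ProjGamma.hX n R j) rfl)
      x hx)

/-- the twisted Koszul stage -/
noncomputable def stage : Stage (CohB1.ProjSpace n R).Modules (Fin (n + 1)) :=
  iter (base (GF n R F) (μF n R F) (μF_comm n R F)) (List.finRange (n + 1))

theorem stage_exact (a : ℤ) (p : ℕ) :
    (ShortComplex.mk ((stage n R F).d a p) ((stage n R F).d a (p + 1))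
      ((stage n R F).dd a p)).Exact :=
  exact_iter (GF n R F) (μF n R F) (μF_comm n R F) (UU n R) (cover n R) (isIso_stalk_μF n R F)
    (List.finRange (n + 1)) (fun j => List.mem_finRange j) a p

theorem stage_mono (a : ℤ) : Mono ((stage n R F).d a 0) :=
  mono_iter (GF n R F) (μF n R F) (μF_comm n R F) (UU n R) (cover n R) (isIso_stalk_μF n R F)
    (List.finRange (n + 1)) (fun j => List.mem_finRange j) a

theorem stage_isZero (a : ℤ) (p : ℕ) (hp : n + 1 < p) : IsZero ((stage n R F).X a p) :=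
  isZero_iter_X (GF n R F) (μF n R F) (μF_comm n R F) (List.finRange (n + 1)) a p
    (by rw [List.length_finRange]; exact hp)

theorem stage_prop (a : ℤ) (p : ℕ) :
    (Nat.choose (n + 1) p = 0 → IsZero ((stage n R F).X a p)) ∧
    (∀ j, Subsingleton (Coh.HH (CohB1.ProjSpace n R) (GF n R F (a + p)) j) →
      Subsingleton (Coh.HH (CohB1.ProjSpace n R) ((stage n R F).X a p) j)) ∧
    (Nat.choose (n + 1) p = 1 → Nonempty ((stage n R F).X a p ≅ GF n R F (a + p))) := by
  have := iter_X_prop (GF n R F) (μF n R F) (μF_comm n R F)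
    (fun m b A => (m = 0 → IsZero A) ∧
      (∀ j, Subsingleton (Coh.HH (CohB1.ProjSpace n R) (GF n R F b) j) →
        Subsingleton (Coh.HH (CohB1.ProjSpace n R) A j)) ∧
      (m = 1 → Nonempty (A ≅ GF n R F b)))
    (fun b A hA => ⟨fun _ => hA, fun j _ => subsingleton_HH_of_isZero hA j, fun h => by omega⟩)
    (fun m m' b A B hA hB =>
      ⟨fun hm => isZero_biprod' (hA.1 (by omega)) (hB.1 (by omega)),
        fun j hj => subsingleton_X₂ _
          (ShortComplex.Splitting.ofHasBinaryBiproduct A B).shortExact j (hA.2.1 j hj)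
          (hB.2.1 j hj),
        fun hm => by
          rcases (by omega : (m = 0 ∧ m' = 1) ∨ (m = 1 ∧ m' = 0)) with ⟨h0, h1⟩ | ⟨h1, h0⟩
          · obtain ⟨e⟩ := hB.2.2 h1
            exact ⟨biprodSndIso (hA.1 h0) ≪≫ e⟩
          · obtain ⟨e⟩ := hA.2.2 h1
            exact ⟨biprodFstIso (hB.1 h0) ≪≫ e⟩⟩)
    (fun b => ⟨fun h => by omega, fun j hj => hj, fun _ => ⟨Iso.refl _⟩⟩)
    (List.finRange (n + 1)) a p
  rw [List.length_finRange] at this
  exact this

/-- Mumford's lemma: an `m`-regular module is `(m + 1)`-regular (all degrees) -/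
theorem regular_succ (m : ℤ)
    (h : ∀ i : ℕ, 1 ≤ i → Subsingleton (Coh.HH (CohB1.ProjSpace n R) (GF n R F (m - i)) i)) :
    ∀ i : ℕ, 1 ≤ i →
      Subsingleton (Coh.HH (CohB1.ProjSpace n R) (GF n R F (m + 1 - i)) i) := by
  intro i hi
  have key := subsingleton_HH_top (fun p => (stage n R F).X (m - i - n) p)
    (fun p => (stage n R F).d (m - i - n) p) (fun p => (stage n R F).dd (m - i - n) p)
    (stage_exact n R F (m - i - n)) (stage_mono n R F (m - i - n)) (n + 1)
    (stage_isZero n R F (m - i - n) (n + 1 + 1) (by omega)) i ?_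
  · obtain ⟨e⟩ := (stage_prop n R F (m - i - n) (n + 1)).2.2 (Nat.choose_self (n + 1))
    have h1 := Groth.Agent.Lib.T2H5.PnStruct.subsingleton_HH_of_iso e i key
    have hb : m - i - n + ((n + 1 : ℕ) : ℤ) = m + 1 - i := by push_cast; omega
    rw [hb] at h1
    exact h1
  · intro p j hp hj
    apply (stage_prop n R F (m - i - n) p).2.1
    have hb : m - i - n + (p : ℤ) = m - (j : ℤ) := by omega
    rw [hb]
    exact h j (by omega)

/-- an `m`-regular module is `(m + t)`-regular -/
theorem regular_add (m : ℤ)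
    (h : ∀ i : ℕ, 1 ≤ i → Subsingleton (Coh.HH (CohB1.ProjSpace n R) (GF n R F (m - i)) i))
    (t : ℕ) : ∀ i : ℕ, 1 ≤ i →
      Subsingleton (Coh.HH (CohB1.ProjSpace n R) (GF n R F (m + t - i)) i) := by
  induction t with
  | zero =>
    intro i hi
    have := h i hi
    simpa using this
  | succ t ih =>
    intro i hi
    have := regular_succ n R F (m + t) ih i hi
    have hb : m + (t : ℤ) + 1 - i = m + ((t + 1 : ℕ) : ℤ) - i := by push_cast; ring
    rw [hb] at this
    exact this

end Pn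

end Groth.Agent.Lib.T2H5.KosPn
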