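import Mathlib
import Groth.Agent.Lib.T2H5KosStage

/-!
# T2H5KosTop: the top term of the iterated cones and the image of the last differential (helper5)
-/

set_option autoImplicit false
universe v u

open CategoryTheory CategoryTheory.Limits

noncomputable section

namespace Groth.Agent.Lib.T2H5.KosTop

open Groth.Agent.Lib.T2H5.KosStage

variable {𝒞 : Type u} [Category.{v} 𝒞] [Preadditive 𝒞] [HasZeroObject 𝒞] [HasBinaryBiproducts 𝒞]
variable {J : Type}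

section Explicit

variable (S : Stage 𝒞 J) (j₀ : J)

theorem d0_snd (a : ℤ) :
    d0 S j₀ a ≫ (biprod.snd : S.X a 1 ⊞ S.X (a + 1) 0 ⟶ _) = S.M j₀ a 0 :=
  biprod.lift_snd _ _

theorem d1_snd (a : ℤ) (q : ℕ) :
    d1 S j₀ a q ≫ (biprod.snd : S.X a (q + 2) ⊞ S.X (a + 1) (q + 1) ⟶ _) =
      biprod.desc (sg (q + 1) • S.M j₀ a (q + 1)) (S.d (a + 1) q) := by
  apply biprod.hom_ext' <;> simp

theorem M1_snd (k : J) (a : ℤ) (q : ℕ) :
    M1 S k a q ≫ (biprod.snd : S.X (a + 1) (q + 1) ⊞ S.X (a + 1 + 1) q ⟶ _) =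
      biprod.snd ≫ S.M k (a + 1) q :=
  biprod.map_snd _ _

theorem isZero_biprod_of {A B : 𝒞} (hA : IsZero A) (hB : IsZero B) : IsZero (A ⊞ B) := by
  refine ⟨fun Z => ⟨⟨⟨0⟩, fun f => ?_⟩⟩, fun Z => ⟨⟨⟨0⟩, fun f => ?_⟩⟩⟩
  · apply biprod.hom_ext'
    · exact hA.eq_of_src _ _
    · exact hB.eq_of_src _ _
  · apply biprod.hom_ext
    · exact hA.eq_of_tgt _ _
    · exact hB.eq_of_tgt _ _

theorem isIso_snd_of {A B : 𝒞} (hA : IsZero A) : IsIso (biprod.snd : A ⊞ B ⟶ B) := by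
  refine ⟨⟨biprod.inr, ?_, biprod.inr_snd⟩⟩
  apply biprod.hom_ext'
  · exact hA.eq_of_src _ _
  · rw [biprod.inr_snd_assoc, Category.comp_id]

end Explicit

variable (G : ℤ → 𝒞) (μ : J → ∀ a, G a ⟶ G (a + 1))

/-- identification of the top term of a stage -/
structure Top (S : Stage 𝒞 J) (N : ℕ) where
  θ : ∀ a b : ℤ, b = a + N → (S.X a N ⟶ G b)
  iso : ∀ a b h, IsIso (θ a b h)
  zero : ∀ a p, N < p → IsZero (S.X a p)
  θM : ∀ (k : J) (a b : ℤ) (h : b = a + N) (h' : b + 1 = a + 1 + N),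
    S.M k a N ≫ θ (a + 1) (b + 1) h' = θ a b h ≫ μ k b

variable (hμ : ∀ j k a, μ j a ≫ μ k (a + 1) = μ k a ≫ μ j (a + 1))

theorem base_X_eq (a b : ℤ) (h : b = a + ((0 : ℕ) : ℤ)) : (base G μ hμ).X a 0 = G b := by
  have hb : b = a := by simpa using h
  subst hb
  rfl

/-- the top term of the base stage -/
def Top.base : Top G μ (base G μ hμ) 0 where
  θ a b h := eqToHom (base_X_eq G μ hμ a b h)
  iso a b h := inferInstance
  zero a p hp := by
    cases p with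
    | zero => omega
    | succ q => exact isZero_zero 𝒞
  θM k a b h h' := by
    have hb : b = a := by simpa using h
    subst hb
    change μ k b ≫ eqToHom _ = eqToHom _ ≫ μ k b
    rw [eqToHom_refl, eqToHom_refl, Category.comp_id, Category.id_comp]

variable {G μ}

/-- the top term of the next stage -/
def Top.next {S : Stage 𝒞 J} {N : ℕ} (T : Top G μ S N) (j₀ : J) : Top G μ (next S j₀) (N + 1) where
  θ a b h := (biprod.snd : S.X a (N + 1) ⊞ S.X (a + 1) N ⟶ S.X (a + 1) N) ≫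
    T.θ (a + 1) b (by rw [h]; push_cast; ring)
  iso a b h := by
    have h2 := T.iso (a + 1) b (by rw [h]; push_cast; ring)
    have h1 : IsIso (biprod.snd : S.X a (N + 1) ⊞ S.X (a + 1) N ⟶ S.X (a + 1) N) :=
      isIso_snd_of (T.zero a (N + 1) (Nat.lt_succ_self N))
    exact @IsIso.comp_isIso _ _ _ _ _ _ _ h1 h2
  zero a p hp := by
    cases p with
    | zero => omega
    | succ q =>
      exact isZero_biprod_of (T.zero a (q + 1) (by omega)) (T.zero (a + 1) q (by omega))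
  θM k a b h h' := by
    change M1 S k a N ≫ (biprod.snd : S.X (a + 1) (N + 1) ⊞ S.X (a + 1 + 1) N ⟶ _) ≫
        T.θ (a + 1 + 1) (b + 1) _ =
      ((biprod.snd : S.X a (N + 1) ⊞ S.X (a + 1) N ⟶ _) ≫ T.θ (a + 1) b _) ≫ μ k b
    rw [← Category.assoc, M1_snd, Category.assoc, Category.assoc,
      T.θM k (a + 1) b (by rw [h]; push_cast; ring) (by rw [h]; push_cast; ring)]

variable (G μ)

/-- the subgroup of morphisms generated by the multiples -/
def Spn (js : List J) (E : 𝒞) (b : ℤ) : AddSubgroup (E ⟶ G (b + 1)) :=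
  AddSubgroup.closure {f | ∃ j ∈ js, ∃ u : E ⟶ G b, f = u ≫ μ j b}

theorem Spn_mono {js js' : List J} (h : ∀ j ∈ js, j ∈ js') (E : 𝒞) (b : ℤ) :
    Spn G μ js E b ≤ Spn G μ js' E b :=
  AddSubgroup.closure_mono (fun _ ⟨j, hj, u, hu⟩ => ⟨j, h j hj, u, hu⟩)

/-- the image of the last differential is generated by the multiples -/
def SpanProp (S : Stage 𝒞 J) (N : ℕ) (T : Top G μ S (N + 1)) (js : List J) : Prop :=
  ∀ (E : 𝒞) (a b : ℤ) (h' : b + 1 = a + ((N + 1 : ℕ) : ℤ)) (s : E ⟶ S.X a N),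
    s ≫ S.d a N ≫ T.θ a (b + 1) h' ∈ Spn G μ js E b

theorem comp_desc_eq {E A B Z : 𝒞} (s : E ⟶ A ⊞ B) (f : A ⟶ Z) (g : B ⟶ Z) (n : ℤ) :
    s ≫ biprod.desc (n • f) g = n • ((s ≫ biprod.fst) ≫ f) + (s ≫ biprod.snd) ≫ g := by
  rw [biprod.desc_eq, Preadditive.comp_add, ← Category.assoc s biprod.fst,
    ← Category.assoc s biprod.snd, Preadditive.comp_zsmul]

theorem spanProp_zero {S : Stage 𝒞 J} (T₀ : Top G μ S 0) (j₀ : J) :
    SpanProp G μ (next S j₀) 0 (T₀.next j₀) [j₀] := by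
  intro E a b h' s
  have hb : b = a + ((0 : ℕ) : ℤ) := by
    push_cast at h' ⊢
    omega
  have hb1 : b + 1 = a + 1 + ((0 : ℕ) : ℤ) := by
    push_cast at h' ⊢
    omega
  have key : (next S j₀).d a 0 ≫ (T₀.next j₀).θ a (b + 1) h' = T₀.θ a b hb ≫ μ j₀ b := by
    change d0 S j₀ a ≫ (biprod.snd : S.X a 1 ⊞ S.X (a + 1) 0 ⟶ _) ≫
      T₀.θ (a + 1) (b + 1) _ = _
    rw [← Category.assoc, d0_snd, T₀.θM j₀ a b hb hb1]
  have e : s ≫ (next S j₀).d a 0 ≫ (T₀.next j₀).θ a (b + 1) h' =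
      (s ≫ T₀.θ a b hb) ≫ μ j₀ b :=
    (congrArg (fun φ => s ≫ φ) key).trans (Category.assoc _ _ _).symm
  rw [e]
  exact AddSubgroup.subset_closure ⟨j₀, List.mem_singleton_self j₀, s ≫ T₀.θ a b hb, rfl⟩

theorem spanProp_next {S : Stage 𝒞 J} {N : ℕ} (T : Top G μ S (N + 1)) {js : List J}
    (hT : SpanProp G μ S N T js) (j₀ : J) :
    SpanProp G μ (next S j₀) (N + 1) (T.next j₀) (j₀ :: js) := by
  intro E a b h' s
  have hb : b = a + ((N + 1 : ℕ) : ℤ) := by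
    push_cast at h' ⊢
    omega
  have hb1 : b + 1 = a + 1 + ((N + 1 : ℕ) : ℤ) := by
    push_cast at h' ⊢
    omega
  have key : (next S j₀).d a (N + 1) ≫ (T.next j₀).θ a (b + 1) h' =
      biprod.desc (sg (N + 1) • (T.θ a b hb ≫ μ j₀ b))
        (S.d (a + 1) N ≫ T.θ (a + 1) (b + 1) hb1) := by
    change d1 S j₀ a N ≫ (biprod.snd : S.X a (N + 2) ⊞ S.X (a + 1) (N + 1) ⟶ _) ≫
      T.θ (a + 1) (b + 1) _ = _
    rw [← Category.assoc, d1_snd]
    apply biprod.hom_ext'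
    · rw [biprod.inl_desc_assoc, biprod.inl_desc, Preadditive.zsmul_comp,
        T.θM j₀ a b hb hb1]
    · rw [biprod.inr_desc_assoc, biprod.inr_desc]
  have e : s ≫ (next S j₀).d a (N + 1) ≫ (T.next j₀).θ a (b + 1) h' =
      sg (N + 1) • (((s : E ⟶ S.X a (N + 1) ⊞ S.X (a + 1) N) ≫ biprod.fst) ≫
        (T.θ a b hb ≫ μ j₀ b)) +
      ((s : E ⟶ S.X a (N + 1) ⊞ S.X (a + 1) N) ≫ biprod.snd) ≫
        (S.d (a + 1) N ≫ T.θ (a + 1) (b + 1) hb1) :=
    (congrArg (fun φ => s ≫ φ) key).trans (comp_desc_eq s _ _ _)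
  rw [e]
  apply AddSubgroup.add_mem
  · apply AddSubgroup.zsmul_mem
    apply AddSubgroup.subset_closure
    exact ⟨j₀, List.mem_cons_self, ((s : E ⟶ S.X a (N + 1) ⊞ S.X (a + 1) N) ≫ biprod.fst) ≫
      T.θ a b hb, (Category.assoc _ _ _).symm⟩
  · exact Spn_mono G μ (fun j hj => List.mem_cons_of_mem _ hj) E b
      (hT E (a + 1) b hb1 ((s : E ⟶ S.X a (N + 1) ⊞ S.X (a + 1) N) ≫ biprod.snd))

/-- the top term of the iterated cones -/
def topIter : ∀ l : List J, Top G μ (iter (base G μ hμ) l) l.length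
  | [] => Top.base G μ hμ
  | j :: l => (topIter l).next j

theorem spanIter (j₀ : J) (l : List J) :
    SpanProp G μ (iter (base G μ hμ) (j₀ :: l)) l.length (topIter G μ hμ (j₀ :: l))
      (j₀ :: l) := by
  induction l generalizing j₀ with
  | nil => exact spanProp_zero G μ (Top.base G μ hμ) j₀
  | cons j₁ l₁ ih => exact spanProp_next G μ (topIter G μ hμ (j₁ :: l₁)) (ih j₁) j₀

end Groth.Agent.Lib.T2H5.KosTop
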