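import Mathlib
import Groth.Agent.Lib.T2H5Twist
import Groth.Agent.Lib.Helper23QCohExt
import Groth.Agent.Lib.Helper20ParaF4
import Groth.Agent.Lib.Helper21UnitHom

/-!
# T2H5Split: an extension of `O` by a module with vanishing `H¹` splits (helper5)
-/

set_option autoImplicit false
universe u
open CategoryTheory CategoryTheory.Limits AlgebraicGeometry

namespace Groth.Agent.Lib.T2H5.Split

open Groth.Agent.Lib.Helper23.AffVanish Groth.Agent.Lib.Helper23.QCohLocal
  Groth.Agent.Lib.Helper23.GenLocus Groth.Agent.Lib.Helper23.SecTw Groth.Agent.Lib.Helper20.ParaFLib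

variable {X : Scheme.{u}}

/-- a short exact sequence `0 → A → F → O → 0` with `H¹(A) = 0` has a section -/
theorem exists_section_unit (F A : X.Modules) (i : A ⟶ F) (p : F ⟶ Coh.structureModule X)
    (w : i ≫ p = 0) (hex : (ShortComplex.mk i p w).ShortExact)
    (hH : Subsingleton (Coh.HH X A 1)) :
    ∃ s : Coh.structureModule X ⟶ F, s ≫ p = 𝟙 _ := by
  have hE : Subsingleton (HE (ab' A) 1 ⊤) :=
    @Equiv.subsingleton _ _ (HETopEquivH X.carrier (ab' A) 1).toEquiv hH
  obtain ⟨t, ht⟩ := surjective_app_of_subsingleton_HE (ShortComplex.mk i p w) hex ⊤ hE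
    (toS ⊤ 1)
  refine ⟨secHom F t, ?_⟩
  apply (Groth.Agent.Lib.Helper21.UnitHom.unitHomAddEquiv
    (R := X.ringCatSheaf) (T := (⊤ : X.Opens))
    isTerminalTop (Coh.structureModule X)).injective
  change p.app ⊤ (sv (secHom F t) ⊤) = toS ⊤ 1
  rw [sv_top_secHom]
  exact ht

/-- a short exact sequence whose third term is isomorphic to `O` and whose first term has
vanishing `H¹` has a section -/
theorem exists_section (S : ShortComplex X.Modules) (hS : S.ShortExact)
    (e : S.X₃ ≅ Coh.structureModule X) (hH : Subsingleton (Coh.HH X S.X₁ 1)) :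
    ∃ s : S.X₃ ⟶ S.X₂, s ≫ S.g = 𝟙 _ := by
  have w : S.f ≫ S.g ≫ e.hom = 0 := by rw [← Category.assoc, S.zero, zero_comp]
  have hS' : (ShortComplex.mk S.f (S.g ≫ e.hom) w).ShortExact := by
    refine ShortComplex.shortExact_of_iso (S₁ := S)
      (ShortComplex.isoMk (Iso.refl _) (Iso.refl _) e (by simp) (by simp)) hS
  obtain ⟨s', hs'⟩ := exists_section_unit S.X₂ S.X₁ S.f (S.g ≫ e.hom) w hS' hH
  refine ⟨e.hom ≫ s', ?_⟩
  have h1 : s' ≫ S.g = e.inv := by
    rw [← cancel_mono e.hom, Category.assoc, hs', e.inv_hom_id]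
  rw [Category.assoc, h1, e.hom_inv_id]

end Groth.Agent.Lib.T2H5.Split
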