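import Mathlib
import Groth.Agent.Lib.T2H5KosPn
import Groth.Agent.Lib.T2H5KosTop
import Groth.Agent.Lib.T2H5EtaTop
import Groth.Agent.Lib.T2H5Split
import Groth.Agent.Lib.Helper23SecTw9

/-!
# T2H5KosSurj: global sections of `F(b+1)` are generated by the multiples `x_j · H⁰(F(b))`
when the relevant cohomology groups vanish (helper5)
-/

set_option autoImplicit false
universe u

open CategoryTheory CategoryTheory.Limits AlgebraicGeometry TopologicalSpace Opposite

namespace Groth.Agent.Lib.T2H5.KosSurj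

open Groth.Agent.Lib.Helper1.Sky
  Groth.Agent.Lib.T2H5.KosStage Groth.Agent.Lib.T2H5.KosExact Groth.Agent.Lib.T2H5.StalkIso
  Groth.Agent.Lib.T2H5.HHSub Groth.Agent.Lib.T2H5.KosPn Groth.Agent.Lib.T2H5.KosTop
open Groth.Agent.Lib.Helper23.AffVanish Groth.Agent.Lib.Helper23.QCohLocal
  Groth.Agent.Lib.Helper23.GenLocus Groth.Agent.Lib.Helper23.SecTw Groth.Agent.Lib.Helper20.ParaFLib

section General

variable {X : Scheme.{u}}

/-- the cohomology chase along an exact complex, for the kernels -/
theorem subsingleton_HH_kernel (Y : ℕ → X.Modules) (d : ∀ p, Y p ⟶ Y (p + 1))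
    (dd : ∀ p, d p ≫ d (p + 1) = 0)
    (hex : ∀ p, (ShortComplex.mk (d p) (d (p + 1)) (dd p)).Exact) (hmono : Mono (d 0))
    (p : ℕ) : ∀ (j : ℕ),
    (∀ p' j', p' < p → j' + p' + 1 = j + p → Subsingleton (Coh.HH X (Y p') j')) →
    Subsingleton (Coh.HH X (kernel (d p)) j) := by
  induction p with
  | zero =>
    intro j _
    exact subsingleton_HH_of_isZero (isZero_kernel_of_mono (d 0)) j
  | succ p ih =>
    intro j hv
    have hepi : Epi (kernel.lift (d (p + 1)) (d p) (dd p)) :=
      (ShortComplex.exact_iff_epi_kernel_lift _).1 (hex p)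
    have w : kernel.ι (d p) ≫ kernel.lift (d (p + 1)) (d p) (dd p) = 0 := by
      rw [← cancel_mono (kernel.ι (d (p + 1))), Category.assoc, kernel.lift_ι,
        kernel.condition, zero_comp]
    let S : ShortComplex X.Modules :=
      ShortComplex.mk (kernel.ι (d p)) (kernel.lift (d (p + 1)) (d p) (dd p)) w
    let S' : ShortComplex X.Modules :=
      ShortComplex.mk (kernel.ι (d p)) (d p) (kernel.condition (d p))
    let φ : S ⟶ S' :=
      { τ₁ := 𝟙 _
        τ₂ := 𝟙 _
        τ₃ := kernel.ι (d (p + 1))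
        comm₁₂ := by
          change 𝟙 _ ≫ kernel.ι (d p) = kernel.ι (d p) ≫ 𝟙 _
          rw [Category.id_comp, Category.comp_id]
        comm₂₃ := by
          change 𝟙 _ ≫ d p = kernel.lift (d (p + 1)) (d p) (dd p) ≫ kernel.ι (d (p + 1))
          rw [Category.id_comp, kernel.lift_ι] }
    have : Epi φ.τ₁ := by
      change Epi (𝟙 _)
      infer_instance
    have : IsIso φ.τ₂ := by
      change IsIso (𝟙 _)
      infer_instance
    have : Mono φ.τ₃ := by
      change Mono (kernel.ι (d (p + 1)))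
      infer_instance
    have hS : S.ShortExact :=
      { exact := (ShortComplex.exact_iff_of_epi_of_isIso_of_mono φ).2
          (ShortComplex.exact_kernel (d p))
        mono_f := inferInstanceAs (Mono (kernel.ι (d p)))
        epi_g := hepi }
    refine subsingleton_X₃ S hS j (hv p j (by omega) (by omega)) (ih (j + 1) ?_)
    intro p' j' hp' hj'
    exact hv p' j' (by omega) (by omega)

/-- evaluation of morphisms out of the structure module at the global unit section -/
noncomputable def svHom (M : X.Modules) : (Coh.structureModule X ⟶ M) →+ Γ(M, ⊤) :=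
  AddMonoidHom.mk' (fun σ => sv σ ⊤) (fun σ τ => sv_add σ τ ⊤)

theorem svHom_apply (M : X.Modules) (σ : Coh.structureModule X ⟶ M) : svHom M σ = sv σ ⊤ := rfl

/-- an epimorphism whose kernel has vanishing `H¹` is surjective on global sections -/
theorem surjective_app_top {A B : X.Modules} (f : A ⟶ B) [Epi f]
    (h : Subsingleton (Coh.HH X (kernel f) 1)) : Function.Surjective (f.app ⊤) := by
  have hS : (ShortComplex.mk (kernel.ι f) f (kernel.condition f)).ShortExact :=
    { exact := ShortComplex.exact_kernel f }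
  have hE : Subsingleton (HE (ab' (kernel f)) 1 ⊤) :=
    @Equiv.subsingleton _ _ (HETopEquivH X.carrier (ab' (kernel f)) 1).toEquiv h
  exact surjective_app_of_subsingleton_HE _ hS ⊤ hE

end General

section Pn

variable (n : ℕ) (R : Type u) [CommRing R] (F' : (CohB1.ProjSpace n R).Modules)

theorem iter_prop_HH (l : List (Fin (n + 1))) (a : ℤ) (p : ℕ) (j : ℕ)
    (h : Subsingleton (Coh.HH (CohB1.ProjSpace n R) (GF n R F' (a + p)) j)) :
    Subsingleton (Coh.HH (CohB1.ProjSpace n R)
      ((iter (base (GF n R F') (μF n R F') (μF_comm n R F')) l).X a p) j) := by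
  have := iter_X_prop (GF n R F') (μF n R F') (μF_comm n R F')
    (fun _ b A => ∀ j, Subsingleton (Coh.HH (CohB1.ProjSpace n R) (GF n R F' b) j) →
        Subsingleton (Coh.HH (CohB1.ProjSpace n R) A j))
    (fun b A hA j _ => subsingleton_HH_of_isZero hA j)
    (fun m m' b A B hA hB j hj => subsingleton_X₂ _
          (ShortComplex.Splitting.ofHasBinaryBiproduct A B).shortExact j (hA j hj) (hB j hj))
    (fun b j hj => hj) l a p
  exact this j h

/-- global sections of `F'(b+1)` are sums of multiples `x_j · u` when `H^j(F'(b-j)) = 0` for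
`1 ≤ j ≤ n` -/
theorem mem_closure_mul (b : ℤ)
    (hv : ∀ j : ℕ, 1 ≤ j → j ≤ n →
      Subsingleton (Coh.HH (CohB1.ProjSpace n R) (GF n R F' (b - j)) j))
    (t : Γ(GF n R F' (b + 1), ⊤)) :
    t ∈ AddSubgroup.closure {w : Γ(GF n R F' (b + 1), ⊤) |
      ∃ (j : Fin (n + 1)) (u : Γ(GF n R F' b, ⊤)), w = (μF n R F' j b).app ⊤ u} := by
  obtain ⟨l₀, hlen, hl⟩ : ∃ l₀ : List (Fin (n + 1)), l₀.length = n ∧
      ∀ j : Fin (n + 1), j ∈ (0 : Fin (n + 1)) :: l₀ := by
    refine ⟨(List.finRange n).map Fin.succ, by simp, fun j => ?_⟩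
    rw [← List.finRange_succ]
    exact List.mem_finRange j
  have h' : b + 1 = (b - n) + ((l₀.length + 1 : ℕ) : ℤ) := by
    rw [hlen]
    push_cast
    ring
  have hex := fun p => exact_iter (GF n R F') (μF n R F') (μF_comm n R F') (UU n R) (cover n R)
    (isIso_stalk_μF n R F') ((0 : Fin (n + 1)) :: l₀) hl (b - n) p
  have hmono := mono_iter (GF n R F') (μF n R F') (μF_comm n R F') (UU n R) (cover n R)
    (isIso_stalk_μF n R F') ((0 : Fin (n + 1)) :: l₀) hl (b - n)
  have hz : IsZero ((iter (base (GF n R F') (μF n R F') (μF_comm n R F'))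
      ((0 : Fin (n + 1)) :: l₀)).X (b - n) (l₀.length + 1 + 1)) :=
    (topIter (GF n R F') (μF n R F') (μF_comm n R F') ((0 : Fin (n + 1)) :: l₀)).zero (b - n) _
      (Nat.lt_succ_self _)
  have hepi : Epi ((iter (base (GF n R F') (μF n R F') (μF_comm n R F'))
      ((0 : Fin (n + 1)) :: l₀)).d (b - n) l₀.length) := by
    have h0 : (iter (base (GF n R F') (μF n R F') (μF_comm n R F'))
      ((0 : Fin (n + 1)) :: l₀)).d (b - n) (l₀.length + 1) = 0 := hz.eq_of_tgt _ _
    exact (ShortComplex.exact_iff_epi _ h0).1 (hex l₀.length)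
  have hK : Subsingleton (Coh.HH (CohB1.ProjSpace n R)
      (kernel ((iter (base (GF n R F') (μF n R F') (μF_comm n R F'))
        ((0 : Fin (n + 1)) :: l₀)).d (b - n) l₀.length)) 1) := by
    apply subsingleton_HH_kernel
      (fun p => (iter (base (GF n R F') (μF n R F') (μF_comm n R F'))
        ((0 : Fin (n + 1)) :: l₀)).X (b - n) p)
      (fun p => (iter (base (GF n R F') (μF n R F') (μF_comm n R F'))
        ((0 : Fin (n + 1)) :: l₀)).d (b - n) p)
      (fun p => (iter (base (GF n R F') (μF n R F') (μF_comm n R F'))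
        ((0 : Fin (n + 1)) :: l₀)).dd (b - n) p) hex hmono l₀.length 1
    intro p' j' hp' hj'
    apply iter_prop_HH
    have hb : b - (n : ℤ) + (p' : ℤ) = b - (j' : ℤ) := by omega
    rw [hb]
    exact hv j' (by omega) (by omega)
  have hsurj := surjective_app_top _ hK
  have hiso := (topIter (GF n R F') (μF n R F') (μF_comm n R F')
    ((0 : Fin (n + 1)) :: l₀)).iso (b - n) (b + 1) h'
  obtain ⟨y, hy⟩ := hsurj ((inv ((topIter (GF n R F') (μF n R F') (μF_comm n R F')
    ((0 : Fin (n + 1)) :: l₀)).θ (b - n) (b + 1) h')).app ⊤ t)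
  have hσ := spanIter (GF n R F') (μF n R F') (μF_comm n R F') 0 l₀
    (Coh.structureModule (CohB1.ProjSpace n R)) (b - n) b h' (secHom _ y)
  have hsv : svHom _ (secHom _ y ≫ (iter (base (GF n R F') (μF n R F') (μF_comm n R F'))
      ((0 : Fin (n + 1)) :: l₀)).d (b - n) l₀.length ≫
      (topIter (GF n R F') (μF n R F') (μF_comm n R F')
        ((0 : Fin (n + 1)) :: l₀)).θ (b - n) (b + 1) h') = t := by
    rw [svHom_apply, sv_comp, sv_top_secHom]
    change ((topIter (GF n R F') (μF n R F') (μF_comm n R F')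
        ((0 : Fin (n + 1)) :: l₀)).θ (b - n) (b + 1) h').app ⊤
      (((iter (base (GF n R F') (μF n R F') (μF_comm n R F'))
        ((0 : Fin (n + 1)) :: l₀)).d (b - n) l₀.length).app ⊤ y) = t
    rw [hy]
    have h1 : (inv ((topIter (GF n R F') (μF n R F') (μF_comm n R F')
        ((0 : Fin (n + 1)) :: l₀)).θ (b - n) (b + 1) h') ≫
        (topIter (GF n R F') (μF n R F') (μF_comm n R F')
        ((0 : Fin (n + 1)) :: l₀)).θ (b - n) (b + 1) h').app ⊤ t = t := by
      rw [IsIso.inv_hom_id]
      rfl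
    exact h1
  rw [← hsv]
  have hm := AddSubgroup.mem_map_of_mem (svHom (GF n R F' (b + 1))) hσ
  rw [Spn, AddMonoidHom.map_closure] at hm
  refine AddSubgroup.closure_mono ?_ hm
  rintro w ⟨f, ⟨j, _, u, rfl⟩, rfl⟩
  exact ⟨j, sv u ⊤, sv_comp u (μF n R F' j b) ⊤⟩

end Pn

end Groth.Agent.Lib.T2H5.KosSurj
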