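import Mathlib
import Groth.Agent.Lib.T2H5KosSurj

/-!
# T2H5KosSurj2: surjectivity of `H⁰(F') ⊗ H⁰(O(1)) → H⁰(F'(1))` in the `toSheafify` form (helper5)
-/

set_option autoImplicit false
universe u

open CategoryTheory CategoryTheory.Limits AlgebraicGeometry TopologicalSpace Opposite
  MonoidalCategory

namespace Groth.Agent.Lib.T2H5.KosSurj2

open Groth.Agent.Lib.Helper1.StalkTensor
  Groth.Agent.Lib.T2H5.KosPn Groth.Agent.Lib.T2H5.KosSurj Groth.Agent.Lib.T2H5.EtaTop

variable (n : ℕ) (R : Type u) [CommRing R] (F' : (CohB1.ProjSpace n R).Modules)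

/-- the multiples `x_j · u` lie in the image of the sectionwise tensor product -/
theorem mul_mem_range (b : ℤ) (ε : OO n R b ≅ Coh.structureModule (CohB1.ProjSpace n R))
    (j : Fin (n + 1)) (u : Γ(GF n R F' b, ⊤)) :
    ∃ x, (toSheafify (Opens.grothendieckTopology (CohB1.ProjSpace n R))
      (toPM F' ⊗ toPM (OO n R (b + 1)) : PMod (CohB1.ProjSpace n R).presheaf).presheaf).app
        (op ⊤) x = (μF n R F' j b).app ⊤ u := by
  obtain ⟨u₀, hu₀⟩ := (bijective_toSheafify_tensor_unit F' (OO n R b) ε ⊤).2 u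
  refine ⟨(toPM F' ◁ toPMMap (xm n R j b)).app (op ⊤) u₀, ?_⟩
  have h1 := etaX_naturality_apply (toPM F' ◁ toPMMap (xm n R j b)) ⊤ u₀
  rw [← hu₀]
  exact h1.symm

/-- if `H^j(F'(b - j)) = 0` for `1 ≤ j ≤ n` and `O(b) ≅ O`, the canonical map from the
sectionwise tensor product `F' ⊗ O(b+1)` to its sheafification is surjective on global sections -/
theorem surjective_toSheafify (b : ℤ)
    (ε : OO n R b ≅ Coh.structureModule (CohB1.ProjSpace n R))
    (hv : ∀ j : ℕ, 1 ≤ j → j ≤ n →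
      Subsingleton (Coh.HH (CohB1.ProjSpace n R) (GF n R F' (b - j)) j)) :
    Function.Surjective ((toSheafify (Opens.grothendieckTopology (CohB1.ProjSpace n R))
      (toPM F' ⊗ toPM (OO n R (b + 1)) : PMod (CohB1.ProjSpace n R).presheaf).presheaf).app
        (op ⊤)) := by
  intro t
  have ht := mem_closure_mul n R F' b hv t
  refine AddSubgroup.closure_induction (p := fun w _ => ∃ x,
    (toSheafify (Opens.grothendieckTopology (CohB1.ProjSpace n R))
      (toPM F' ⊗ toPM (OO n R (b + 1)) : PMod (CohB1.ProjSpace n R).presheaf).presheaf).app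
        (op ⊤) x = w) ?_ ?_ ?_ ?_ ht
  · rintro w ⟨j, u, rfl⟩
    exact mul_mem_range n R F' b ε j u
  · exact ⟨0, map_zero _⟩
  · rintro w w' _ _ ⟨x, rfl⟩ ⟨x', rfl⟩
    exact ⟨x + x', map_add _ _ _⟩
  · rintro w _ ⟨x, rfl⟩
    exact ⟨-x, map_neg _ _⟩

end Groth.Agent.Lib.T2H5.KosSurj2
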