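import Mathlib
import Groth.Agent.Lib.T2H5KosSurj2
import Groth.Agent.Lib.Helper23TensorQCoh
import Groth.Agent.S0022

/-!
# T2H5KosSurj3: surjectivity of `H⁰(F') ⊗ H⁰(O(e)) → H⁰(F'(e))` for regular `F'` (helper5)
-/

set_option autoImplicit false
universe u

open CategoryTheory CategoryTheory.Limits AlgebraicGeometry TopologicalSpace Opposite
  MonoidalCategory

namespace Groth.Agent.Lib.T2H5.KosSurj3

open Groth.Agent.Lib.Helper1.StalkTensor
  Groth.Agent.Lib.T2H5.KosPn Groth.Agent.Lib.T2H5.KosSurj Groth.Agent.Lib.T2H5.EtaTop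
  Groth.Agent.Lib.T2H5.KosSurj2

variable (n : ℕ) (R : Type u) [CommRing R] (F' : (CohB1.ProjSpace n R).Modules)

/-- `F(a)(b) ≅ F(c)` for `a + b = c`, in the tilde form -/
theorem nonempty_GF_GF_iso (a b c : ℤ) (h : a + b = c) :
    Nonempty (GF n R (GF n R F' a) b ≅ GF n R F' c) := by
  have h1 : Nonempty (CohB1.tensorMod (CohB1.tensorMod F' (Twist.twistProjSpace n R a))
      (Twist.twistProjSpace n R b) ≅ CohB1.tensorMod F' (Twist.twistProjSpace n R c)) :=
    ⟨(Groth.Agent.Lib.T2H5.Twist.twAdd n R a b c h).app F'⟩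
  rw [Groth.Agent.Lib.T2H5.PnTop.twist_eq n R a, Groth.Agent.Lib.T2H5.PnTop.twist_eq n R b,
    Groth.Agent.Lib.T2H5.PnTop.twist_eq n R c] at h1
  exact h1

/-- the multiples `x_j · u` lie in the image of the sectionwise tensor product, if this holds
one degree lower -/
theorem mul_mem_range' (b : ℤ)
    (hs : Function.Surjective ((toSheafify (Opens.grothendieckTopology (CohB1.ProjSpace n R))
      (toPM F' ⊗ toPM (OO n R b) : PMod (CohB1.ProjSpace n R).presheaf).presheaf).app (op ⊤)))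
    (j : Fin (n + 1)) (u : Γ(GF n R F' b, ⊤)) :
    ∃ x, (toSheafify (Opens.grothendieckTopology (CohB1.ProjSpace n R))
      (toPM F' ⊗ toPM (OO n R (b + 1)) : PMod (CohB1.ProjSpace n R).presheaf).presheaf).app
        (op ⊤) x = (μF n R F' j b).app ⊤ u := by
  obtain ⟨u₀, hu₀⟩ := hs u
  refine ⟨(toPM F' ◁ toPMMap (xm n R j b)).app (op ⊤) u₀, ?_⟩
  have h1 := etaX_naturality_apply (toPM F' ◁ toPMMap (xm n R j b)) ⊤ u₀
  rw [← hu₀]
  exact h1.symm

theorem surjective_toSheafify_succ (b : ℤ)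
    (hs : Function.Surjective ((toSheafify (Opens.grothendieckTopology (CohB1.ProjSpace n R))
      (toPM F' ⊗ toPM (OO n R b) : PMod (CohB1.ProjSpace n R).presheaf).presheaf).app (op ⊤)))
    (hv : ∀ j : ℕ, 1 ≤ j → j ≤ n →
      Subsingleton (Coh.HH (CohB1.ProjSpace n R) (GF n R F' (b - j)) j)) :
    Function.Surjective ((toSheafify (Opens.grothendieckTopology (CohB1.ProjSpace n R))
      (toPM F' ⊗ toPM (OO n R (b + 1)) : PMod (CohB1.ProjSpace n R).presheaf).presheaf).app
        (op ⊤)) := by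
  intro t
  have ht := mem_closure_mul n R F' b hv t
  refine AddSubgroup.closure_induction (p := fun w _ => ∃ x,
    (toSheafify (Opens.grothendieckTopology (CohB1.ProjSpace n R))
      (toPM F' ⊗ toPM (OO n R (b + 1)) : PMod (CohB1.ProjSpace n R).presheaf).presheaf).app
        (op ⊤) x = w) ?_ ?_ ?_ ?_ ht
  · rintro w ⟨j, u, rfl⟩
    exact mul_mem_range' n R F' b hs j u
  · exact ⟨0, map_zero _⟩
  · rintro w w' _ _ ⟨x, rfl⟩ ⟨x', rfl⟩
    exact ⟨x + x', map_add _ _ _⟩
  · rintro w _ ⟨x, rfl⟩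
    exact ⟨-x, map_neg _ _⟩

/-- for a `0`-regular module `F'`, the multiplication maps `H⁰(F') ⊗ H⁰(O(e)) → H⁰(F'(e))` are
surjective for all `e ≥ 0` -/
theorem surjective_toSheafify_nat
    (hq : ∀ i : ℕ, 1 ≤ i → Subsingleton (Coh.HH (CohB1.ProjSpace n R) (GF n R F' (0 - i)) i))
    (e : ℕ) :
    Function.Surjective ((toSheafify (Opens.grothendieckTopology (CohB1.ProjSpace n R))
      (toPM F' ⊗ toPM (OO n R (e : ℤ)) : PMod (CohB1.ProjSpace n R).presheaf).presheaf).app
        (op ⊤)) := by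
  induction e with
  | zero =>
    obtain ⟨ε⟩ := Groth.Agent.Lib.T2H5.PnStruct.nonempty_tilde_zero_iso (CohB1.polyGrading n R)
    rw [Nat.cast_zero]
    exact (bijective_toSheafify_tensor_unit F' (OO n R 0) ε ⊤).2
  | succ e ih =>
    rw [Nat.cast_succ]
    refine surjective_toSheafify_succ n R F' (e : ℤ) ih ?_
    intro j hj _
    have := regular_add n R F' 0 hq e j hj
    rw [zero_add] at this
    exact this

/-- `m`-regularity in all degrees, from the definition and Grothendieck vanishing -/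
theorem regular_of_isMRegular (k : Type u) [Field k] (F : (CohB1.ProjSpace n k).Modules)
    (hF : Coh.IsCoh F) (m : ℤ) (h : Curv2.IsMRegular k n F m) :
    ∀ i : ℕ, 1 ≤ i → Subsingleton (Coh.HH (CohB1.ProjSpace n k) (GF n k F (m - i)) i) := by
  intro i hi
  have h1 : Subsingleton (Coh.HH (CohB1.ProjSpace n k)
      (CohB1.tensorMod F (Twist.twistProjSpace n k (m - i))) i) := by
    by_cases hin : i ≤ n
    · exact h i hi hin
    · have : F.IsQuasicoherent := hF.1
      have : (Twist.twistProjSpace n k (m - i)).IsQuasicoherent :=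
        (Groth.Agent.Lib.T2H5.PnFinite.isCoh_twist n k (m - i)).1
      have : Coh.IsQCoh (CohB1.tensorMod F (Twist.twistProjSpace n k (m - i))) :=
        Groth.Agent.Lib.Helper23.TensorQCoh.isQuasicoherent_tensorMod _ _
      exact Groth.Agent.S0022.result n k
        (CohB1.tensorMod F (Twist.twistProjSpace n k (m - i))) i (by omega)
  rw [Groth.Agent.Lib.T2H5.PnTop.twist_eq] at h1
  exact h1

/-- for an `m`-regular `F` and `d ≥ m`, `F(d)` is `0`-regular -/
theorem regular_zero_of_regular (F : (CohB1.ProjSpace n R).Modules) (m d : ℤ) (hd : m ≤ d)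
    (hq : ∀ i : ℕ, 1 ≤ i → Subsingleton (Coh.HH (CohB1.ProjSpace n R) (GF n R F (m - i)) i)) :
    ∀ i : ℕ, 1 ≤ i →
      Subsingleton (Coh.HH (CohB1.ProjSpace n R) (GF n R (GF n R F d) (0 - i)) i) := by
  intro i hi
  obtain ⟨t, ht⟩ := Int.eq_ofNat_of_zero_le (by omega : 0 ≤ d - m)
  have h1 := regular_add n R F m hq t i hi
  have hb : m + (t : ℤ) - i = d - i := by omega
  rw [hb] at h1
  obtain ⟨e⟩ := nonempty_GF_GF_iso n R F d (0 - i) (d - i) (by ring)
  exact Groth.Agent.Lib.T2H5.PnStruct.subsingleton_HH_of_iso e.symm i h1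

end Groth.Agent.Lib.T2H5.KosSurj3
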