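import Mathlib
import Groth.Agent.Lib.T2H5GlobGen
import Groth.Agent.Lib.T2H5KosSurj3
import Groth.Agent.Lib.Helper27SerreGen4
import Groth.Agent.Lib.Helper27TwistAmple2

/-!
# T2H5GlobGenPn: a `0`-regular module on projective space is globally generated (helper5)
-/

set_option autoImplicit false
universe u
open CategoryTheory CategoryTheory.Limits AlgebraicGeometry TopologicalSpace Opposite
  MonoidalCategory

namespace Groth.Agent.Lib.T2H5.GlobGenPn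

open Groth.Agent.Lib.Helper23.SecTw Groth.Agent.Lib.Helper23.GenLocus Groth.Agent.Lib.Helper6
open Groth.Agent.Lib.Helper23.LocGen Groth.Agent.Lib.Helper27GrTildeSect
open Groth.Agent.Lib.T2H5.KosPn Groth.Agent.Lib.T2H5.GlobGen Groth.Agent.Lib.T2H5.Twist
open Groth.Agent.Lib.Helper1.StalkTensor

variable (n : ℕ) (R : Type u) [CommRing R]

local notation "𝒫" => CohB1.polyGrading n R

theorem hcovX (y : Proj 𝒫) : ∃ i : Fin (n + 1), (MvPolynomial.X i : MvPolynomial (Fin (n + 1)) R) ∉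
    (show ProjectiveSpectrum 𝒫 from y).asHomogeneousIdeal :=
  Groth.Agent.Lib.Helper27PnSections.exists_X_not_mem n R y

theorem compactSpace : CompactSpace (CohB1.ProjSpace n R) :=
  compactSpace_of_cover 𝒫 1 (fun j : Fin (n + 1) => (MvPolynomial.X j : MvPolynomial (Fin (n + 1)) R))
    (Groth.Agent.Lib.Helper27ProjGamma.hX n R) (hcovX n R) one_pos

/-- `O(1)^{⊗ N} ≅ O(N)` -/
theorem nonempty_tensorPow_iso (N : ℕ) :
    Nonempty (CohB1.tensorPow (GrTilde.tilde 𝒫 𝒫 ((1 : ℕ) : ℤ)) N ≅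
      GrTilde.tilde 𝒫 𝒫 (N : ℤ)) := by
  induction N with
  | zero =>
    obtain ⟨ε⟩ := Groth.Agent.Lib.T2H5.PnStruct.nonempty_tilde_zero_iso 𝒫
    rw [Nat.cast_zero]
    exact ⟨ε.symm⟩
  | succ N ih =>
    obtain ⟨e⟩ := ih
    obtain ⟨e2⟩ := nonempty_tensor_iso 𝒫 (Groth.Agent.Lib.T2H5.PnFinite.exists_basicOpen n R)
      (N : ℤ) ((1 : ℕ) : ℤ)
    rw [Nat.cast_add]
    exact ⟨(tr (X := Proj 𝒫) (GrTilde.tilde 𝒫 𝒫 ((1 : ℕ) : ℤ))).mapIso e ≪≫ e2⟩

variable (F : (CohB1.ProjSpace n R).Modules)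

/-- Serre: for `N ≫ 0` the twist `F(N)` is generated by global sections over `D₊(x_j)` -/
theorem exists_locGen_twist_nat (hF1 : F.IsQuasicoherent)
    (hF2 : SheafOfModules.IsFiniteType (R := (CohB1.ProjSpace n R).ringCatSheaf) F)
    (j : Fin (n + 1)) :
    ∃ N₀ : ℕ, ∀ N, N₀ ≤ N → LocGen (GF n R F (N : ℤ)) (UU n R j) := by
  have hc : CompactSpace (Proj 𝒫) := compactSpace n R
  have hq : QuasiSeparatedSpace (Proj 𝒫) :=
    quasiSeparatedSpace_of_quasiSeparated (Proj.toSpecZero 𝒫)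
  have hP : PicF.IsInvertible (GrTilde.tilde 𝒫 𝒫 ((1 : ℕ) : ℤ)) :=
    isInvertible_tilde 𝒫 (Groth.Agent.Lib.T2H5.PnFinite.exists_basicOpen n R) _
  have hloc := genLocus_secHom_gsec 𝒫 1
    (fun j : Fin (n + 1) => (MvPolynomial.X j : MvPolynomial (Fin (n + 1)) R))
    (Groth.Agent.Lib.Helper27ProjGamma.hX n R) (hcovX n R) j
  have haff : IsAffineOpen (CohB1.genLocus (GrTilde.tilde 𝒫 𝒫 ((1 : ℕ) : ℤ))
      (secHom (GrTilde.tilde 𝒫 𝒫 ((1 : ℕ) : ℤ))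
        (gsec 𝒫 1 ⊤ (Groth.Agent.Lib.Helper27ProjGamma.hX n R j)))) := by
    rw [hloc]
    exact Proj.isAffineOpen_basicOpen 𝒫 _ (Groth.Agent.Lib.Helper27ProjGamma.hX n R j) one_pos
  obtain ⟨N₀, hN₀⟩ := @exists_locGen_twist (Proj 𝒫) hc hq (GrTilde.tilde 𝒫 𝒫 ((1 : ℕ) : ℤ)) hP _
    haff F hF1 hF2
  refine ⟨N₀, fun N hN => ?_⟩
  have h1 := hN₀ N hN
  rw [hloc] at h1
  obtain ⟨e⟩ := nonempty_tensorPow_iso n R N
  exact LocGen.of_iso ((DCoh.tensorBi.obj F).mapIso e) h1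

/-- an `m`-regular module (all degrees) twisted by `m` is generated by its global sections -/
theorem isGloballyGenerated_of_regular (hF : Coh.IsCoh F) (m : ℤ)
    (hq : ∀ i : ℕ, 1 ≤ i → Subsingleton (Coh.HH (CohB1.ProjSpace n R) (GF n R F (m - i)) i)) :
    Curv2.IsGloballyGenerated (GF n R F m) := by
  choose N₀ hN₀ using exists_locGen_twist_nat n R F hF.1 hF.2
  obtain ⟨N, hN1, hN2⟩ : ∃ N : ℕ, (∀ j, N₀ j ≤ N) ∧ m ≤ (N : ℤ) :=
    ⟨max (Finset.univ.sup N₀) m.toNat,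
      fun j => (Finset.le_sup (Finset.mem_univ j)).trans (le_max_left _ _),
      (Int.self_le_toNat m).trans (by exact_mod_cast le_max_right _ _)⟩
  obtain ⟨e, he⟩ := Int.eq_ofNat_of_zero_le (by omega : 0 ≤ (N : ℤ) - m)
  have h0 := Groth.Agent.Lib.T2H5.KosSurj3.regular_zero_of_regular n R F m m le_rfl hq
  have hsurjT := Groth.Agent.Lib.T2H5.KosSurj3.surjective_toSheafify_nat n R (GF n R F m) h0 e
  apply isGloballyGenerated_of_locGen
  intro x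
  obtain ⟨j, hj⟩ := cover n R x
  refine ⟨UU n R j, hj, ?_⟩
  -- `F(m)(e) ≅ F(N)` is generated by global sections over `D₊(x_j)`
  obtain ⟨ε⟩ := Groth.Agent.Lib.T2H5.KosSurj3.nonempty_GF_GF_iso n R F m e N (by omega)
  have hT : LocGen (CohB1.tensorMod (GF n R F m) (GrTilde.tilde 𝒫 𝒫 (e : ℤ))) (UU n R j) :=
    LocGen.of_iso ε.symm (hN₀ j N (hN1 j))
  -- the generator `x_j ^ e`
  have hpow : (MvPolynomial.X j : MvPolynomial (Fin (n + 1)) R) ^ e ∈ CohB1.polyGrading n R e := by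
    have := SetLike.pow_mem_graded e (Groth.Agent.Lib.Helper27ProjGamma.hX n R j)
    simpa using this
  have hle : UU n R j ≤ Proj.basicOpen 𝒫 ((MvPolynomial.X j : MvPolynomial (Fin (n + 1)) R) ^ e) := by
    intro y hy
    have hy' := (ProjectiveSpectrum.mem_basicOpen 𝒫 _ y).1 hy
    exact (ProjectiveSpectrum.mem_basicOpen 𝒫 _ y).2
      (fun h => hy' (y.isPrime.mem_of_pow_mem e h))
  have hgen : IsGen (GrTilde.tilde 𝒫 𝒫 (e : ℤ)) (UU n R j)
      (res (GrTilde.tilde 𝒫 𝒫 (e : ℤ)) le_top (gsec 𝒫 e ⊤ hpow)) :=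
    (isGen_gsec 𝒫 e hpow).mono hle
  exact locGen_of_tensor (GF n R F m) (GrTilde.tilde 𝒫 𝒫 (e : ℤ)) (UU n R j) (gsec 𝒫 e ⊤ hpow)
    hgen (fun t => hsurjT t) hT

end Groth.Agent.Lib.T2H5.GlobGenPn
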