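import Groth.Agent.Lib.Helper23QCohExt
import Groth.Prelude.Def_Canon

/-!
# The long exact cohomology sequence of `O_X`-modules over an affine base, linearly (T2H5)

For `X` over `Spec A` and a short exact sequence `S` of `O_X`-modules:
* `gLin`, `δLin`: the `A`-linear maps `H^i(S.X₂) → H^i(S.X₃)`, `H^i(S.X₃) → H^{i+1}(S.X₁)`;
* `exact₃`: exactness at `H^i(S.X₃)`;
* `finite_HH_X₃`: over a Noetherian ring, `H^i(S.X₃)` is finite when `H^i(S.X₂)` and `H^{i+1}(S.X₁)` are;
* `finite_HH_sigma`: finiteness of the cohomology of a finite coproduct.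
-/

set_option autoImplicit false
universe u

namespace Groth.Agent.Lib.T2H5.HHLes

open CategoryTheory CategoryTheory.Limits AlgebraicGeometry Abelian
open Groth.Agent.Lib.Helper23.QCohLocal

variable (A : Type u) [CommRing A] {X : Scheme.{u}} [X.Over (Spec (CommRingCat.of A))]

theorem smul_HH_eq (M : X.Modules) (p : ℕ) (r : A) (x : Coh.HH X M p) :
    r • x = Sheaf.H.map (Coh.smulAb M (Coh.toGlobal (X ↘ Spec (CommRingCat.of A)) r)) p x := rfl

/-- multiplication by a global function, as an endomorphism of a short complex of abelian sheaves. -/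
noncomputable def smulHom (S : ShortComplex X.Modules) (s : Coh.Γtop X) :
    S.map (toAbF X) ⟶ S.map (toAbF X) where
  τ₁ := Coh.smulAb S.X₁ s
  τ₂ := Coh.smulAb S.X₂ s
  τ₃ := Coh.smulAb S.X₃ s
  comm₁₂ := (Canon.toSheaf_map_comp_smulAb S.f s).symm
  comm₂₃ := (Canon.toSheaf_map_comp_smulAb S.g s).symm

variable {A}

/-- the connecting homomorphism. -/
noncomputable def δLin (S : ShortComplex X.Modules) (hS : S.ShortExact) (i : ℕ) :
    Coh.HH X S.X₃ i →ₗ[A] Coh.HH X S.X₁ (i + 1) where
  toFun x := x.comp (shortExact_toAbF S hS).extClass rfl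
  map_add' x y := Ext.add_comp _ _ _ _
  map_smul' r x := by
    have h := ShortComplex.ShortExact.extClass_naturality (shortExact_toAbF S hS)
      (shortExact_toAbF S hS) (smulHom S (Coh.toGlobal (X ↘ Spec (CommRingCat.of A)) r))
    exact ((Ext.comp_assoc_of_second_deg_zero x
        (Ext.mk₀ (Coh.smulAb S.X₃ (Coh.toGlobal (X ↘ Spec (CommRingCat.of A)) r)))
        (shortExact_toAbF S hS).extClass rfl).trans
      ((congrArg (fun z => x.comp z rfl) h.symm).trans
        (Ext.comp_assoc_of_third_deg_zero x (shortExact_toAbF S hS).extClass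
          (Ext.mk₀ (Coh.smulAb S.X₁ (Coh.toGlobal (X ↘ Spec (CommRingCat.of A)) r))) rfl).symm))

theorem δLin_apply (S : ShortComplex X.Modules) (hS : S.ShortExact) (i : ℕ) (x : Coh.HH X S.X₃ i) :
    δLin (A := A) S hS i x = x.comp (shortExact_toAbF S hS).extClass rfl := rfl

/-- exactness at `H^i(S.X₃)`. -/
theorem exact₃ (S : ShortComplex X.Modules) (hS : S.ShortExact) (i : ℕ) :
    LinearMap.ker (δLin (A := A) S hS i) = LinearMap.range (Canon.HHlin A S.g i) := by
  ext x
  rw [LinearMap.mem_ker, LinearMap.mem_range]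
  constructor
  · intro hx
    obtain ⟨y, hy⟩ := Ext.covariant_sequence_exact₃ _ (shortExact_toAbF S hS) x rfl hx
    exact ⟨y, hy⟩
  · rintro ⟨y, rfl⟩
    change (y.comp (Ext.mk₀ ((toAbF X).map S.g)) (add_zero i)).comp
      (shortExact_toAbF S hS).extClass rfl = 0
    exact (Ext.comp_assoc_of_second_deg_zero y (Ext.mk₀ ((toAbF X).map S.g))
      (shortExact_toAbF S hS).extClass rfl).trans
      ((congrArg (fun z => y.comp z rfl) (shortExact_toAbF S hS).comp_extClass).trans
        (Ext.comp_zero y _ _ _ _))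

/-- over a Noetherian ring, `H^i(S.X₃)` is finite as soon as `H^i(S.X₂)` and `H^{i+1}(S.X₁)` are. -/
theorem finite_HH_X₃ [IsNoetherianRing A] (S : ShortComplex X.Modules) (hS : S.ShortExact) (i : ℕ)
    (h2 : Module.Finite A (Coh.HH X S.X₂ i)) (h1 : Module.Finite A (Coh.HH X S.X₁ (i + 1))) :
    Module.Finite A (Coh.HH X S.X₃ i) := by
  refine ⟨Submodule.fg_of_fg_map_of_fg_inf_ker (δLin (A := A) S hS i) ?_ ?_⟩
  · have : IsNoetherian A (Coh.HH X S.X₁ (i + 1)) := isNoetherian_of_isNoetherianRing_of_finite A _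
    exact IsNoetherian.noetherian _
  · rw [top_inf_eq, exact₃, LinearMap.range_eq_map]
    exact Submodule.FG.map _ h2.1

/-- the cohomology of a finite coproduct is finite as soon as that of the summands is. -/
theorem finite_HH_sigma {J : Type} [Finite J] (E : J → X.Modules) (i : ℕ)
    (h : ∀ j, Module.Finite A (Coh.HH X (E j) i)) : Module.Finite A (Coh.HH X (∐ E) i) := by
  classical
  have := Fintype.ofFinite J
  have hsum : ∑ j, Sigma.π E j ≫ Sigma.ι E j = 𝟙 (∐ E) := by
    apply Sigma.hom_ext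
    intro b
    rw [Preadditive.comp_sum, Category.comp_id]
    rw [Finset.sum_eq_single b]
    · rw [← Category.assoc, Sigma.ι_π_eq_id, Category.id_comp]
    · intro c _ hc
      rw [← Category.assoc, Sigma.ι_π_of_ne E (Ne.symm hc), zero_comp]
    · intro hb
      exact absurd (Finset.mem_univ b) hb
  have key : ∀ x : Coh.HH X (∐ E) i,
      x = ∑ j, Canon.HHlin A (Sigma.ι E j) i (Canon.HHlin A (Sigma.π E j) i x) := by
    intro x
    let Φ : ((toAbF X).obj (∐ E) ⟶ (toAbF X).obj (∐ E)) →+
        (Coh.HH X (∐ E) i →+ Coh.HH X (∐ E) i) :=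
      AddMonoidHom.mk' (fun f => Sheaf.H.map f i) (by
        intro f g
        ext x
        exact Sheaf.H.map_add_apply f g x)
    have h1 : ∀ j, Canon.HHlin A (Sigma.ι E j) i (Canon.HHlin A (Sigma.π E j) i x) =
        Φ ((toAbF X).map (Sigma.π E j ≫ Sigma.ι E j)) x := by
      intro j
      rw [CategoryTheory.Functor.map_comp]
      exact (Sheaf.H.map_comp_apply _ _ x).symm
    simp only [h1]
    rw [← AddMonoidHom.finsetSum_apply, ← map_sum, ← CategoryTheory.Functor.map_sum, hsum,
      CategoryTheory.Functor.map_id]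
    exact (Sheaf.H.map_id_apply x).symm
  refine ⟨?_⟩
  have hle : (⊤ : Submodule A (Coh.HH X (∐ E) i)) ≤
      ⨆ j, LinearMap.range (Canon.HHlin A (Sigma.ι E j) i) := by
    intro x _
    rw [key x]
    refine Submodule.sum_mem _ fun j _ => ?_
    exact Submodule.mem_iSup_of_mem j ⟨_, rfl⟩
  rw [← top_le_iff.mp hle]
  refine Submodule.fg_iSup _ fun j => ?_
  rw [LinearMap.range_eq_map]
  exact Submodule.FG.map _ (h j).1

end Groth.Agent.Lib.T2H5.HHLes
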