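import Mathlib
import Groth.Agent.Lib.T2H5HHSub
import Groth.Agent.Lib.T2H5HHLes
import Groth.Agent.Lib.Helper27PnSections
import Groth.Agent.Lib.Helper23LocGen
import Groth.Agent.Lib.Helper20ParaF4
import Groth.Agent.Lib.Helper21UnitHom
import Groth.Agent.Lib.Helper23Serre

/-!
# T2H5RegRes: generation by finitely many global sections; cohomological lemmas for resolutions
(helper5)
-/

set_option autoImplicit false
universe u
open CategoryTheory CategoryTheory.Limits AlgebraicGeometry TopologicalSpace Opposite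

namespace Groth.Agent.Lib.T2H5.RegRes

open Abelian
open Groth.Agent.Lib.Helper23.QCohLocal
open Groth.Agent.Lib.Helper23.SecTw Groth.Agent.Lib.Helper23.GenLocus Groth.Agent.Lib.Helper6
open Groth.Agent.Lib.Helper23.LocGen Groth.Agent.Lib.Helper20.ParaFLib

variable {X : Scheme.{u}}

/-- the cohomology of a finite coproduct vanishes if that of the summands does -/
theorem subsingleton_HH_sigma {J : Type} [Finite J] (E : J → X.Modules) (i : ℕ)
    (h : ∀ j, Subsingleton (Coh.HH X (E j) i)) : Subsingleton (Coh.HH X (∐ E) i) := by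
  classical
  have := Fintype.ofFinite J
  have hsum : ∑ j, Sigma.π E j ≫ Sigma.ι E j = 𝟙 (∐ E) := by
    apply Sigma.hom_ext
    intro b
    rw [Preadditive.comp_sum, Category.comp_id]
    rw [Finset.sum_eq_single b]
    · rw [← Category.assoc, Sigma.ι_π_eq_id, Category.id_comp]
    · intro c _ hc
      rw [← Category.assoc, Sigma.ι_π_of_ne E (Ne.symm hc), zero_comp]
    · intro hb
      exact absurd (Finset.mem_univ b) hb
  have key : ∀ x : Coh.HH X (∐ E) i, x = 0 := by
    intro x
    let Φ : ((toAbF X).obj (∐ E) ⟶ (toAbF X).obj (∐ E)) →+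
        (Coh.HH X (∐ E) i →+ Coh.HH X (∐ E) i) :=
      AddMonoidHom.mk' (fun f => Sheaf.H.map f i) (by
        intro f g
        ext x
        exact Sheaf.H.map_add_apply f g x)
    have h1 : ∀ j, Φ ((toAbF X).map (Sigma.π E j ≫ Sigma.ι E j)) x = 0 := by
      intro j
      have h0 : Sheaf.H.map ((toAbF X).map (Sigma.π E j)) i x = 0 :=
        @Subsingleton.elim _ (h j) _ _
      have h3 : Sheaf.H.map ((toAbF X).map (Sigma.π E j) ≫ (toAbF X).map (Sigma.ι E j)) i x =
          Sheaf.H.map ((toAbF X).map (Sigma.ι E j)) i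
            (Sheaf.H.map ((toAbF X).map (Sigma.π E j)) i x) :=
        Sheaf.H.map_comp_apply _ _ x
      have h4 : Φ ((toAbF X).map (Sigma.π E j ≫ Sigma.ι E j)) x =
          Sheaf.H.map ((toAbF X).map (Sigma.π E j) ≫ (toAbF X).map (Sigma.ι E j)) i x :=
        congrArg (fun f => Sheaf.H.map f i x) ((toAbF X).map_comp _ _)
      exact h4.trans (h3.trans ((congrArg (Sheaf.H.map ((toAbF X).map (Sigma.ι E j)) i) h0).trans
        (map_zero _)))
    have h2 : x = Φ ((toAbF X).map (𝟙 (∐ E))) x := by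
      rw [CategoryTheory.Functor.map_id]
      exact (Sheaf.H.map_id_apply x).symm
    rw [h2, ← hsum, CategoryTheory.Functor.map_sum, map_sum, AddMonoidHom.finsetSum_apply]
    exact Finset.sum_eq_zero (fun j _ => h1 j)
  exact ⟨fun a b => (key a).trans (key b).symm⟩

/-- if `S.g` is surjective on global sections and `H¹(X₂) = 0` then `H¹(X₁) = 0` -/
theorem subsingleton_H1_of_surjective (S : ShortComplex X.Modules) (hS : S.ShortExact)
    (hsurj : Function.Surjective (S.g.app ⊤)) (h2 : Subsingleton (Coh.HH X S.X₂ 1)) :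
    Subsingleton (Coh.HH X S.X₁ 1) := by
  have hS' := shortExact_toAbF S hS
  have key : ∀ x : Coh.HH X S.X₁ 1, x = 0 := by
    intro x
    obtain ⟨y, hy⟩ := Ext.covariant_sequence_exact₁ _ hS' x (@Subsingleton.elim _ h2 _ _) rfl
    obtain ⟨s, hs⟩ := hsurj (Sheaf.H.equiv₀ (Coh.toAb S.X₃) isTerminalTop y)
    have hy2 : Sheaf.H.map ((toAbF X).map S.g) 0
        ((Sheaf.H.equiv₀ (Coh.toAb S.X₂) isTerminalTop).symm s) = y := by
      have e1 := Sheaf.H.equiv₀_symm_naturality isTerminalTop ((toAbF X).map S.g) s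
      refine e1.trans ?_
      apply (Sheaf.H.equiv₀ (Coh.toAb S.X₃) isTerminalTop).injective
      exact ((Sheaf.H.equiv₀ (Coh.toAb S.X₃) isTerminalTop).apply_symm_apply _).trans hs
    have h0 : (Ext.mk₀ ((toAbF X).map S.g)).comp hS'.extClass (zero_add 1) = 0 :=
      hS'.comp_extClass
    have e2 : y = ((Sheaf.H.equiv₀ (Coh.toAb S.X₂) isTerminalTop).symm s).comp
        (Ext.mk₀ ((toAbF X).map S.g)) (add_zero 0) := hy2.symm
    have e3 : x = (((Sheaf.H.equiv₀ (Coh.toAb S.X₂) isTerminalTop).symm s).comp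
        (Ext.mk₀ ((toAbF X).map S.g)) (add_zero 0)).comp hS'.extClass (zero_add 1) :=
      hy.symm.trans (congrArg (fun z => Ext.comp z hS'.extClass (zero_add 1)) e2)
    refine e3.trans ?_
    refine (Ext.comp_assoc_of_second_deg_zero _ _ _ (zero_add 1)).trans ?_
    exact (congrArg (fun z => Ext.comp ((Sheaf.H.equiv₀ (Coh.toAb S.X₂) isTerminalTop).symm s) z
      (zero_add 1)) h0).trans (Ext.comp_zero _ _ _ _ _)
  exact ⟨fun a b => (key a).trans (key b).symm⟩

/-- a morphism through which every global section of the target factors, onto a module generated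
by its global sections near every point, is an epimorphism -/
theorem epi_of_factor {P N : X.Modules} (p : P ⟶ N)
    (hp : ∀ σ : Coh.structureModule X ⟶ N, ∃ ι : Coh.structureModule X ⟶ P, ι ≫ p = σ)
    (h : ∀ x : X, ∃ V : X.Opens, x ∈ V ∧ LocGen N V) : Epi p := by
  apply Groth.Agent.Lib.Helper23.Serre.epi_of_locally_surjective
  intro V t x hxV
  obtain ⟨V₀, hxV₀, hgen⟩ := h x
  obtain ⟨B, hB, hxB, hmem⟩ := hgen (V ⊓ V₀) inf_le_right (res N inf_le_left t) x ⟨hxV, hxV₀⟩
  refine ⟨B, hB.trans inf_le_left, hxB, ?_⟩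
  obtain ⟨a, ha⟩ := exists_app_eq_of_mem_gspan p hp hmem
  refine ⟨a, ?_⟩
  rw [ha, res_res]

/-- a morphism through which every global section of the target factors is surjective on global
sections -/
theorem surjective_app_top_of_factor {P N : X.Modules} (p : P ⟶ N)
    (hp : ∀ σ : Coh.structureModule X ⟶ N, ∃ ι : Coh.structureModule X ⟶ P, ι ≫ p = σ) :
    Function.Surjective (p.app ⊤) := by
  intro s
  obtain ⟨ι, hι⟩ := hp (secHom N s)
  refine ⟨sv ι ⊤, ?_⟩
  have h1 : p.app ⊤ (sv ι ⊤) = sv (ι ≫ p) ⊤ := rfl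
  rw [h1, hι, sv_top_secHom]

theorem sv_sum {L : X.Modules} {J : Type} (s : Finset J) (σ : J → (Coh.structureModule X ⟶ L))
    (W : X.Opens) : sv (∑ j ∈ s, σ j) W = ∑ j ∈ s, sv (σ j) W := by
  classical
  induction s using Finset.induction_on with
  | empty => rw [Finset.sum_empty, Finset.sum_empty]; exact sv_zero W
  | insert a s ha ih => rw [Finset.sum_insert ha, Finset.sum_insert ha, sv_add, ih]

/-- if the global sections `sv (t j) ⊤` span `Γ(N, ⊤)` over `Γ(X, ⊤)`, every `σ : O ⟶ N` factors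
through `Sigma.desc t` -/
theorem exists_factor_of_span {b : ℕ} {N : X.Modules} (t : Fin b → (Coh.structureModule X ⟶ N))
    (hspan : ∀ s : Γ(N, ⊤), ∃ r : Fin b → Γ(X, ⊤), s = ∑ j, r j • sv (t j) ⊤)
    (σ : Coh.structureModule X ⟶ N) :
    ∃ ι : Coh.structureModule X ⟶ ∐ fun _ : Fin b => Coh.structureModule X,
      ι ≫ Sigma.desc t = σ := by
  obtain ⟨r, hr⟩ := hspan (sv σ ⊤)
  refine ⟨∑ j, secHom (Coh.structureModule X) (toS ⊤ (r j)) ≫
    Sigma.ι (fun _ : Fin b => Coh.structureModule X) j, ?_⟩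
  rw [Preadditive.sum_comp]
  apply (Groth.Agent.Lib.Helper21.UnitHom.unitHomAddEquiv
    (R := X.ringCatSheaf) (T := (⊤ : X.Opens)) isTerminalTop N).injective
  change sv (∑ j, (secHom (Coh.structureModule X) (toS ⊤ (r j)) ≫
    Sigma.ι (fun _ : Fin b => Coh.structureModule X) j) ≫ Sigma.desc t) ⊤ = sv σ ⊤
  rw [sv_sum, hr]
  refine Finset.sum_congr rfl (fun j _ => ?_)
  rw [Category.assoc, Sigma.ι_desc, sv_comp, sv_top_secHom]
  have h1 : toS ⊤ (r j) = r j • toS (⊤ : X.Opens) (1 : Γ(X, ⊤)) := by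
    change r j = r j * 1
    rw [mul_one]
  rw [h1, Scheme.Modules.Hom.app_smul]
  rfl

end Groth.Agent.Lib.T2H5.RegRes
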