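import Mathlib
import Groth.Agent.Lib.T2H5RegRes
import Groth.Agent.Lib.T2H5PnFinite
import Groth.Agent.Lib.T2H5Twist
import Groth.Agent.Lib.T2H5GlobGenPn

/-!
# T2H5RegRes2: one step of the linear resolution of a regular module on projective space
(helper5)
-/

set_option autoImplicit false
universe u
open CategoryTheory CategoryTheory.Limits AlgebraicGeometry TopologicalSpace Opposite

namespace Groth.Agent.Lib.T2H5.RegRes

open Abelian
open Groth.Agent.Lib.Helper23.QCohLocal
open Groth.Agent.Lib.Helper23.SecTw Groth.Agent.Lib.Helper23.GenLocus Groth.Agent.Lib.Helper6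
open Groth.Agent.Lib.Helper23.LocGen Groth.Agent.Lib.Helper20.ParaFLib
open Groth.Agent.Lib.T2H5.Twist Groth.Agent.Lib.T2H5.HHSub

section Span

variable (n : ℕ) (R : Type u) [CommRing R] [IsNoetherianRing R]

/-- the global sections of a coherent module on projective space are spanned by finitely many of
them -/
theorem exists_span_sections (M : (CohB1.ProjSpace n R).Modules) (hM : Coh.IsCoh M) :
    ∃ (b : ℕ) (t : Fin b → (Coh.structureModule (CohB1.ProjSpace n R) ⟶ M)),
      ∀ s : Γ(M, ⊤), ∃ r : Fin b → Γ(CohB1.ProjSpace n R, ⊤), s = ∑ j, r j • sv (t j) ⊤ := by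
  have hfin := Groth.Agent.Lib.T2H5.PnFinite.finite_HH n R M hM 0
  obtain ⟨b, v, hv⟩ := Module.Finite.exists_fin (R := R) (M := Coh.HH (CohB1.ProjSpace n R) M 0)
  let e0 := Groth.Agent.Lib.Helper27PnSections.hh0Equiv (CohB1.ProjSpace n R) M
  let c : ↑((Coh.toAb M).obj.obj (op ⊤)) ≃+ Γ(M, ⊤) :=
    { toFun := fun x => x
      invFun := fun x => x
      left_inv := fun _ => rfl
      right_inv := fun _ => rfl
      map_add' := fun _ _ => rfl }
  let e := e0.trans c
  let g : R → Γ(CohB1.ProjSpace n R, ⊤) := fun a =>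
    Coh.toGlobal ((CohB1.ProjSpace n R) ↘ Spec (CommRingCat.of R)) a
  have he_smul : ∀ (a : R) (x : Coh.HH (CohB1.ProjSpace n R) M 0),
      e (a • x) = g a • e x := by
    intro a x
    have h1 := Groth.Agent.Lib.Helper27PnSections.hh0Equiv_smul (CohB1.ProjSpace n R) M
      (Coh.toGlobal ((CohB1.ProjSpace n R) ↘ Spec (CommRingCat.of R)) a) x
    rw [Coh.smulAb_app, Groth.Agent.Lib.Helper27PnSections.resTop_top] at h1
    exact h1
  refine ⟨b, fun j => secHom M (e (v j)), fun s => ?_⟩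
  have hmem : e.symm s ∈ Submodule.span R (Set.range v) := by rw [hv]; exact Submodule.mem_top
  obtain ⟨a, ha⟩ := (Submodule.mem_span_range_iff_exists_fun R).1 hmem
  refine ⟨fun j => g (a j), ?_⟩
  have h2 : s = e (∑ j, a j • v j) := by rw [ha, AddEquiv.apply_symm_apply]
  rw [h2, map_sum]
  refine Finset.sum_congr rfl (fun j _ => ?_)
  rw [he_smul, sv_top_secHom]

end Span

section Pn

variable (n : ℕ) (R : Type u) [CommRing R]

open Groth.Agent.Lib.T2H5.KosPn Groth.Agent.Lib.T2H5.GlobGen Groth.Agent.Lib.T2H5.GlobGenPn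
open Groth.Agent.Lib.Helper27GrTildeSect Groth.Agent.Lib.T2H5.PnStruct

local notation "𝒫" => CohB1.polyGrading n R

/-- `O ⊗ O(d) ≅ O(d)` -/
noncomputable def unitTwIso (d : ℤ) :
    (tw n R d).obj (Coh.structureModule (CohB1.ProjSpace n R)) ≅ Twist.twistProjSpace n R d :=
  (Groth.Agent.Lib.Helper21.ModTensor7.tLUnitIso (CohB1.ProjSpace n R).sheaf).app
    (Twist.twistProjSpace n R d)

/-- cohomology vanishing of a twisted finite coproduct -/
theorem subsingleton_HH_tw_sigma {b : ℕ} (E : Fin b → (CohB1.ProjSpace n R).Modules) (d : ℤ)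
    (i : ℕ) (h : ∀ j, Subsingleton (Coh.HH (CohB1.ProjSpace n R) ((tw n R d).obj (E j)) i)) :
    Subsingleton (Coh.HH (CohB1.ProjSpace n R) ((tw n R d).obj (∐ E)) i) := by
  haveI := preservesFiniteColimits_tr (X := CohB1.ProjSpace n R) (Twist.twistProjSpace n R d)
  let e := PreservesCoproduct.iso (tw n R d) E
  exact subsingleton_HH_of_iso e.symm i (subsingleton_HH_sigma _ i h)

variable (F : (CohB1.ProjSpace n R).Modules)

/-- an `m`-regular module (all degrees) twisted by `m` is generated by its global sections over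
each standard open -/
theorem locGen_of_regular (hF : Coh.IsCoh F) (m : ℤ)
    (hq : ∀ i : ℕ, 1 ≤ i → Subsingleton (Coh.HH (CohB1.ProjSpace n R) (GF n R F (m - i)) i))
    (j : Fin (n + 1)) : LocGen (GF n R F m) (UU n R j) := by
  choose N₀ hN₀ using exists_locGen_twist_nat n R F hF.1 hF.2
  obtain ⟨N, hN1, hN2⟩ : ∃ N : ℕ, (∀ j, N₀ j ≤ N) ∧ m ≤ (N : ℤ) :=
    ⟨max (Finset.univ.sup N₀) m.toNat,
      fun j => (Finset.le_sup (Finset.mem_univ j)).trans (le_max_left _ _),
      (Int.self_le_toNat m).trans (by exact_mod_cast le_max_right _ _)⟩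
  obtain ⟨e, he⟩ := Int.eq_ofNat_of_zero_le (by omega : 0 ≤ (N : ℤ) - m)
  have h0 := Groth.Agent.Lib.T2H5.KosSurj3.regular_zero_of_regular n R F m m le_rfl hq
  have hsurjT := Groth.Agent.Lib.T2H5.KosSurj3.surjective_toSheafify_nat n R (GF n R F m) h0 e
  obtain ⟨ε⟩ := Groth.Agent.Lib.T2H5.KosSurj3.nonempty_GF_GF_iso n R F m e N (by omega)
  have hT : LocGen (CohB1.tensorMod (GF n R F m) (GrTilde.tilde 𝒫 𝒫 (e : ℤ))) (UU n R j) :=
    LocGen.of_iso ε.symm (hN₀ j N (hN1 j))
  have hpow : (MvPolynomial.X j : MvPolynomial (Fin (n + 1)) R) ^ e ∈ CohB1.polyGrading n R e := by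
    have := SetLike.pow_mem_graded e (Groth.Agent.Lib.Helper27ProjGamma.hX n R j)
    simpa using this
  have hle : UU n R j ≤ Proj.basicOpen 𝒫 ((MvPolynomial.X j : MvPolynomial (Fin (n + 1)) R) ^ e) := by
    intro y hy
    have hy' := (ProjectiveSpectrum.mem_basicOpen 𝒫 _ y).1 hy
    exact (ProjectiveSpectrum.mem_basicOpen 𝒫 _ y).2
      (fun h => hy' (y.isPrime.mem_of_pow_mem e h))
  have hgen : IsGen (GrTilde.tilde 𝒫 𝒫 (e : ℤ)) (UU n R j)
      (res (GrTilde.tilde 𝒫 𝒫 (e : ℤ)) le_top (gsec 𝒫 e ⊤ hpow)) :=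
    (isGen_gsec 𝒫 e hpow).mono hle
  exact locGen_of_tensor (GF n R F m) (GrTilde.tilde 𝒫 𝒫 (e : ℤ)) (UU n R j) (gsec 𝒫 e ⊤ hpow)
    hgen (fun t => hsurjT t) hT

theorem locGen_of_regular' (hF : Coh.IsCoh F) (m : ℤ)
    (hq : ∀ i : ℕ, 1 ≤ i → Subsingleton (Coh.HH (CohB1.ProjSpace n R)
      (CohB1.tensorMod F (Twist.twistProjSpace n R (m - i))) i))
    (x : CohB1.ProjSpace n R) :
    ∃ V : (CohB1.ProjSpace n R).Opens, x ∈ V ∧
      LocGen (CohB1.tensorMod F (Twist.twistProjSpace n R m)) V := by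
  obtain ⟨j, hj⟩ := cover n R x
  refine ⟨UU n R j, hj, ?_⟩
  have hq' : ∀ i : ℕ, 1 ≤ i →
      Subsingleton (Coh.HH (CohB1.ProjSpace n R) (GF n R F (m - i)) i) := by
    intro i hi
    have h1 := hq i hi
    rw [Groth.Agent.Lib.T2H5.PnTop.twist_eq] at h1
    exact h1
  have key := locGen_of_regular n R F hF m hq' j
  rw [Groth.Agent.Lib.T2H5.PnTop.twist_eq]
  exact key

end Pn

section Core

variable (n : ℕ) (R : Type u) [CommRing R] [IsNoetherianRing R]
variable (F : (CohB1.ProjSpace n R).Modules)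

open Groth.Agent.Lib.T2H5.PnStruct

/-- the first step of the linear resolution, for the twist `F(m)` of an `m`-regular module: there
is an epimorphism `O^b → F(m)` whose kernel is `1`-regular -/
theorem exists_epi_unit_kernel_regular (hF : Coh.IsCoh F) (m : ℤ)
    (hq : ∀ i : ℕ, 1 ≤ i → Subsingleton (Coh.HH (CohB1.ProjSpace n R)
      (CohB1.tensorMod F (Twist.twistProjSpace n R (m - i))) i)) :
    ∃ (b : ℕ) (ψ : (∐ fun _ : Fin b => Coh.structureModule (CohB1.ProjSpace n R)) ⟶
        CohB1.tensorMod F (Twist.twistProjSpace n R m)),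
      Epi ψ ∧ ∀ i : ℕ, 1 ≤ i → i ≤ n → Subsingleton (Coh.HH (CohB1.ProjSpace n R)
        (CohB1.tensorMod (kernel ψ) (Twist.twistProjSpace n R (1 - i))) i) := by
  have hM : Coh.IsCoh (CohB1.tensorMod F (Twist.twistProjSpace n R m)) := by
    haveI : F.IsQuasicoherent := hF.1
    haveI : SheafOfModules.IsFiniteType (R := (CohB1.ProjSpace n R).ringCatSheaf) F := hF.2
    haveI : (Twist.twistProjSpace n R m).IsQuasicoherent :=
      (Groth.Agent.Lib.T2H5.PnFinite.isCoh_twist n R m).1
    haveI : SheafOfModules.IsFiniteType (R := (CohB1.ProjSpace n R).ringCatSheaf)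
        (Twist.twistProjSpace n R m) := (Groth.Agent.Lib.T2H5.PnFinite.isCoh_twist n R m).2
    exact ⟨Groth.Agent.Lib.Helper23.TensorQCoh.isQuasicoherent_tensorMod _ _,
      Groth.Agent.Lib.Helper23.TensorQCoh.isFiniteType_tensorMod _ _⟩
  obtain ⟨b, t, ht⟩ := exists_span_sections n R _ hM
  have hp := exists_factor_of_span t ht
  have hepi : Epi (Sigma.desc t) := epi_of_factor _ hp (locGen_of_regular' n R F hF m hq)
  refine ⟨b, Sigma.desc t, hepi, ?_⟩
  have hsurj := surjective_app_top_of_factor _ hp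
  intro i hi hin
  have hS : (ShortComplex.mk (kernel.ι (Sigma.desc t)) (Sigma.desc t)
      (kernel.condition (Sigma.desc t))).ShortExact :=
    { exact := ShortComplex.exact_kernel (Sigma.desc t) }
  rcases Nat.lt_or_ge i 2 with h2 | h2
  · obtain rfl : i = 1 := by omega
    let e : (tw n R (1 - (1 : ℕ))).obj (kernel (Sigma.desc t)) ≅ kernel (Sigma.desc t) :=
      eqToIso (by norm_num) ≪≫ (twZero n R).app (kernel (Sigma.desc t))
    refine subsingleton_HH_of_iso e.symm 1 ?_
    refine subsingleton_H1_of_surjective _ hS hsurj (subsingleton_HH_sigma _ 1 (fun _ => ?_))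
    exact subsingleton_HH_of_iso (nonempty_twist_zero_iso n R).some 1
      (Groth.Agent.Lib.T2H5.PnVanish.subsingleton_HH_twist n R 0 1 (by omega) (by omega))
  · obtain ⟨i', rfl⟩ : ∃ i', i = i' + 1 := ⟨i - 1, by omega⟩
    have hS' := shortExact_map_tw n R (1 - ((i' + 1 : ℕ) : ℤ)) _ hS
    refine subsingleton_X₁ _ hS' i' ?_ ?_
    · let e := (twAdd n R m (1 - ((i' + 1 : ℕ) : ℤ)) (m - (i' : ℕ)) (by push_cast; omega)).app F
      exact subsingleton_HH_of_iso e.symm i' (hq i' (by omega))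
    · refine subsingleton_HH_tw_sigma n R
        (fun _ : Fin b => Coh.structureModule (CohB1.ProjSpace n R)) (1 - ((i' + 1 : ℕ) : ℤ))
        (i' + 1) (fun _ => ?_)
      refine subsingleton_HH_of_iso (unitTwIso n R (1 - ((i' + 1 : ℕ) : ℤ))).symm (i' + 1) ?_
      exact Groth.Agent.Lib.T2H5.PnVanish.subsingleton_HH_twist n R (1 - ((i' + 1 : ℕ) : ℤ))
        (i' + 1) (by omega) (by
        push_cast
        omega)

end Core

section Main

variable (n : ℕ) (k : Type u) [Field k]
variable (F : (CohB1.ProjSpace n k).Modules)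

open Groth.Agent.Lib.T2H5.PnStruct

/-- all-degree form of `m`-regularity -/
theorem regular_all (hF : Coh.IsCoh F) (m : ℤ) (h : Curv2.IsMRegular k n F m) :
    ∀ i : ℕ, 1 ≤ i → Subsingleton (Coh.HH (CohB1.ProjSpace n k)
      (CohB1.tensorMod F (Twist.twistProjSpace n k (m - i))) i) := by
  intro i hi
  by_cases hin : i ≤ n
  · exact h i hi hin
  · have : F.IsQuasicoherent := hF.1
    have : (Twist.twistProjSpace n k (m - i)).IsQuasicoherent :=
      (Groth.Agent.Lib.T2H5.PnFinite.isCoh_twist n k (m - i)).1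
    have : Coh.IsQCoh (CohB1.tensorMod F (Twist.twistProjSpace n k (m - i))) :=
      Groth.Agent.Lib.Helper23.TensorQCoh.isQuasicoherent_tensorMod _ _
    exact Groth.Agent.S0022.result n k
      (CohB1.tensorMod F (Twist.twistProjSpace n k (m - i))) i (by omega)

/-- an `m`-regular coherent module is a quotient of `O(-m)^b` with `(m+1)`-regular kernel -/
theorem exists_epi_twists_kernel_regular (hF : Coh.IsCoh F) (m : ℤ)
    (h : Curv2.IsMRegular k n F m) :
    ∃ (b : ℕ) (φ : (∐ fun _ : Fin b => Twist.twistProjSpace n k (-m)) ⟶ F),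
      Epi φ ∧ Curv2.IsMRegular k n (kernel φ) (m + 1) := by
  obtain ⟨b, ψ, hψ, hK⟩ := exists_epi_unit_kernel_regular n k F hF m (regular_all n k F hF m h)
  have hcol := preservesFiniteColimits_tr (X := CohB1.ProjSpace n k) (Twist.twistProjSpace n k (-m))
  have hlim := preservesFiniteLimits_tr (isInvertible_twist n k (-m))
  let α : (tw n k (-m)).obj (∐ fun _ : Fin b => Coh.structureModule (CohB1.ProjSpace n k)) ≅
      ∐ fun _ : Fin b => Twist.twistProjSpace n k (-m) :=
    PreservesCoproduct.iso (tw n k (-m))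
      (fun _ : Fin b => Coh.structureModule (CohB1.ProjSpace n k)) ≪≫
      Sigma.mapIso (fun _ => unitTwIso n k (-m))
  let β : (tw n k (-m)).obj ((tw n k m).obj F) ≅ F := (twCancel n k m (-m) (by omega)).app F
  have hepi : Epi ((tw n k (-m)).map ψ) := (tw n k (-m)).map_epi ψ
  refine ⟨b, α.inv ≫ (tw n k (-m)).map ψ ≫ β.hom, ?_, ?_⟩
  · infer_instance
  · let ε : kernel (α.inv ≫ (tw n k (-m)).map ψ ≫ β.hom) ≅ (tw n k (-m)).obj (kernel ψ) :=
      kernelIsIsoComp α.inv ((tw n k (-m)).map ψ ≫ β.hom) ≪≫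
        kernelCompMono ((tw n k (-m)).map ψ) β.hom ≪≫ (PreservesKernel.iso (tw n k (-m)) ψ).symm
    intro i hi hin
    let e : (tw n k (m + 1 - i)).obj (kernel (α.inv ≫ (tw n k (-m)).map ψ ≫ β.hom)) ≅
        (tw n k (1 - i)).obj (kernel ψ) :=
      (tw n k (m + 1 - i)).mapIso ε ≪≫
        (twAdd n k (-m) (m + 1 - i) (1 - i) (by omega)).app (kernel ψ)
    exact subsingleton_HH_of_iso e.symm i (hK i hi hin)

/-- a quotient of `O(-m)^b` with `(m+1)`-regular kernel is `m`-regular -/
theorem isMRegular_of_epi_twists (m : ℤ) (b : ℕ)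
    (φ : (∐ fun _ : Fin b => Twist.twistProjSpace n k (-m)) ⟶ F) (hφ : Epi φ)
    (hK : Curv2.IsMRegular k n (kernel φ) (m + 1)) (hF : Coh.IsCoh F) :
    Curv2.IsMRegular k n F m := by
  intro i hi hin
  have hS : (ShortComplex.mk (kernel.ι φ) φ (kernel.condition φ)).ShortExact :=
    { exact := ShortComplex.exact_kernel φ }
  have hS' := shortExact_map_tw n k (m - i) _ hS
  refine subsingleton_X₃ _ hS' i ?_ ?_
  · refine subsingleton_HH_tw_sigma n k (fun _ : Fin b => Twist.twistProjSpace n k (-m)) (m - i) i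
      (fun _ => ?_)
    obtain ⟨e⟩ := nonempty_twist_tensor_iso n k (-m) (m - i) (-(i : ℤ)) (by omega)
    exact subsingleton_HH_of_iso e.symm i
      (Groth.Agent.Lib.T2H5.PnVanish.subsingleton_HH_twist n k (-(i : ℤ)) i (by omega) (by omega))
  · by_cases h : i + 1 ≤ n
    · have h1 := hK (i + 1) (by omega) h
      have e : m + 1 - ((i + 1 : ℕ) : ℤ) = m - i := by push_cast; ring
      rw [e] at h1
      exact h1
    · have hQ : ∀ _ : Fin b, (Twist.twistProjSpace n k (-m)).IsQuasicoherent := fun _ =>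
        (Groth.Agent.Lib.T2H5.PnFinite.isCoh_twist n k (-m)).1
      have : (∐ fun _ : Fin b => Twist.twistProjSpace n k (-m)).IsQuasicoherent :=
        Groth.Agent.Lib.T2H5.CohSigma.isQuasicoherent_sigma _ hQ
      have : F.IsQuasicoherent := hF.1
      have : (kernel φ).IsQuasicoherent :=
        isQuasicoherent_kernel φ
      have : (Twist.twistProjSpace n k (m - i)).IsQuasicoherent :=
        (Groth.Agent.Lib.T2H5.PnFinite.isCoh_twist n k (m - i)).1
      have : Coh.IsQCoh (CohB1.tensorMod (kernel φ) (Twist.twistProjSpace n k (m - i))) :=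
        Groth.Agent.Lib.Helper23.TensorQCoh.isQuasicoherent_tensorMod _ _
      exact Groth.Agent.S0022.result n k
        (CohB1.tensorMod (kernel φ) (Twist.twistProjSpace n k (m - i))) (i + 1) (by omega)

end Main

end Groth.Agent.Lib.T2H5.RegRes
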