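import Mathlib
import Groth.Agent.Lib.T2H5RegRes2

/-!
# T2H5SerrePn: Serre vanishing on projective space over a Noetherian ring (helper5)
-/

set_option autoImplicit false
universe u
open CategoryTheory CategoryTheory.Limits AlgebraicGeometry TopologicalSpace Opposite

namespace Groth.Agent.Lib.T2H5.SerrePn

open Groth.Agent.Lib.T2H5.Twist Groth.Agent.Lib.T2H5.HHSub Groth.Agent.Lib.T2H5.RegRes
open Groth.Agent.Lib.T2H5.PnStruct Groth.Agent.Lib.Helper23.QCohLocal

variable (n : ℕ) (R : Type u) [CommRing R]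

theorem isQCoh_tw (M : (CohB1.ProjSpace n R).Modules) (hM : M.IsQuasicoherent) (d : ℤ) :
    Coh.IsQCoh (CohB1.tensorMod M (Twist.twistProjSpace n R d)) := by
  haveI := hM
  haveI : (Twist.twistProjSpace n R d).IsQuasicoherent :=
    (Groth.Agent.Lib.T2H5.PnFinite.isCoh_twist n R d).1
  exact Groth.Agent.Lib.Helper23.TensorQCoh.isQuasicoherent_tensorMod _ _

variable [IsNoetherianRing R]

theorem serre_aux : ∀ (k i₀ : ℕ), 1 ≤ i₀ → n + 1 ≤ i₀ + k → ∀ (M : (CohB1.ProjSpace n R).Modules),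
    Coh.IsCoh M → ∃ d₀ : ℤ, ∀ d : ℤ, d₀ ≤ d → ∀ i : ℕ, i₀ ≤ i →
      Subsingleton (Coh.HH (CohB1.ProjSpace n R)
        (CohB1.tensorMod M (Twist.twistProjSpace n R d)) i) := by
  intro k
  induction k with
  | zero =>
    intro i₀ _ hi M hM
    refine ⟨0, fun d _ i hi' => ?_⟩
    haveI := isQCoh_tw n R M hM.1 d
    exact Groth.Agent.S0022.result n R _ i (by omega)
  | succ k ih =>
    intro i₀ h1 hi M hM
    obtain ⟨r, a, φ₀, hφ₀⟩ := Groth.Agent.S0846.result (CohB1.polyGrading n R) M hM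
    obtain ⟨φ, hφ⟩ : ∃ φ : (∐ fun j : Fin r => Twist.twistProjSpace n R (a j)) ⟶ M, Epi φ :=
      ⟨φ₀, hφ₀⟩
    have : IsNoetherianRing (MvPolynomial (Fin (n + 1)) R) := inferInstance
    have hN : IsNoetherian (Proj (CohB1.polyGrading n R)) :=
      Groth.Agent.S2357.result (CohB1.polyGrading n R)
    have hLN : IsLocallyNoetherian (CohB1.ProjSpace n R) := hN.toIsLocallyNoetherian
    have hEq : ∀ j : Fin r, (Twist.twistProjSpace n R (a j)).IsQuasicoherent := fun j =>
      (Groth.Agent.Lib.T2H5.PnFinite.isCoh_twist n R (a j)).1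
    have hEs : Coh.IsCoh (∐ fun j : Fin r => Twist.twistProjSpace n R (a j)) :=
      ⟨Groth.Agent.Lib.T2H5.CohSigma.isQuasicoherent_sigma _ hEq,
        Groth.Agent.Lib.T2H5.CohSigma.isFiniteType_sigma _ hEq
          (fun j => (Groth.Agent.Lib.T2H5.PnFinite.isCoh_twist n R (a j)).2)⟩
    have hKq : (kernel φ).IsQuasicoherent := @isQuasicoherent_kernel _ _ _ hEs.1 hM.1 φ
    have hK : Coh.IsCoh (kernel φ) :=
      Groth.Agent.S0046.result (CohB1.ProjSpace n R) _ _ (kernel.ι φ) hEs hKq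
    obtain ⟨d₁, hd₁⟩ := ih (i₀ + 1) (by omega) (by omega) (kernel φ) hK
    obtain ⟨A, hA⟩ := Finset.exists_le (Finset.univ.image (fun j : Fin r => -(a j)))
    have hA' : ∀ j, -(a j) ≤ A := fun j =>
      hA _ (Finset.mem_image.2 ⟨j, Finset.mem_univ j, rfl⟩)
    refine ⟨max d₁ A, fun d hd i hi' => ?_⟩
    have hS : (ShortComplex.mk (kernel.ι φ) φ (kernel.condition φ)).ShortExact :=
      { exact := ShortComplex.exact_kernel φ }
    have hS' := shortExact_map_tw n R d _ hS
    refine subsingleton_X₃ _ hS' i ?_ (hd₁ d ((le_max_left _ _).trans hd) (i + 1) (by omega))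
    refine subsingleton_HH_tw_sigma n R (fun j : Fin r => Twist.twistProjSpace n R (a j)) d i
      (fun j => ?_)
    obtain ⟨e⟩ := nonempty_twist_tensor_iso n R (a j) d (a j + d) rfl
    refine subsingleton_HH_of_iso e.symm i
      (Groth.Agent.Lib.T2H5.PnVanish.subsingleton_HH_twist n R (a j + d) i (by omega) ?_)
    have h2 := hA' j
    have h3 : A ≤ d := (le_max_right _ _).trans hd
    omega

/-- Serre vanishing on projective space: the higher cohomology of large twists vanishes -/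
theorem serre_vanishing (M : (CohB1.ProjSpace n R).Modules) (hM : Coh.IsCoh M) :
    ∃ d₀ : ℤ, ∀ d : ℤ, d₀ ≤ d → ∀ i : ℕ, 1 ≤ i →
      Subsingleton (Coh.HH (CohB1.ProjSpace n R)
        (CohB1.tensorMod M (Twist.twistProjSpace n R d)) i) :=
  serre_aux n R n 1 le_rfl (by omega) M hM

end Groth.Agent.Lib.T2H5.SerrePn
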