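import Mathlib
import Groth.Agent.Lib.T2H5ProjFormula
import Groth.Agent.Lib.T2H5SerrePn
import Groth.Agent.Lib.Helper2FinPushFP
import Groth.Agent.Lib.Helper2PullbackSec
import Groth.Agent.Lib.Helper23TensorQCoh
import Groth.Agent.S0012
import Groth.Agent.Lib.Helper16ClosedEmb

/-!
# T2H5ClosedTransfer: cohomology of twists on a closed subscheme of projective space (helper5)
-/

set_option autoImplicit false
set_option linter.style.haveILetI false
universe u
open CategoryTheory CategoryTheory.Limits AlgebraicGeometry

namespace Groth.Agent.Lib.T2H5.ClosedTransfer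

open Groth.Agent.Lib.T2H5.Twist Groth.Agent.Lib.T2H5.ProjFormula

section General

variable {X Y : Scheme.{u}} (f : X ⟶ Y)

/-- the direct image of a coherent module along a finite morphism is coherent -/
theorem isCoh_pushforward [IsFinite f] (F : X.Modules) (hF : Coh.IsCoh F) :
    Coh.IsCoh ((Scheme.Modules.pushforward f).obj F) := by
  haveI := hF.1
  haveI := hF.2
  exact ⟨Groth.Agent.Lib.Helper23.QCohLocal.isQuasicoherent_pushforward f F,
    (Groth.Agent.Lib.Helper2.FinPushFP.isFiniteType_pushforward_iff f F).1 hF.2⟩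

/-- `F ⊗ f^*L` is quasi-coherent -/
theorem isQCoh_tensor_pullback (F : X.Modules) (hF : F.IsQuasicoherent) (L : Y.Modules)
    (hL : L.IsQuasicoherent) :
    (CohB1.tensorMod F ((Scheme.Modules.pullback f).obj L)).IsQuasicoherent := by
  haveI := hF
  haveI := hL
  haveI := Groth.Agent.Lib.Helper2.PullbackSec.isQuasicoherent_pullback f L
  exact Groth.Agent.Lib.Helper23.TensorQCoh.isQuasicoherent_tensorMod _ _

/-- cohomology of `F ⊗ f^*L` on `X` vanishes iff that of `f_*F ⊗ L` on `Y` does (affine `f`) -/
theorem subsingleton_HH_iff [IsAffineHom f] (F : X.Modules) (hF : F.IsQuasicoherent)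
    {L L' : Y.Modules} (hL : L.IsQuasicoherent)
    (e : CohB1.tensorMod L L' ≅ Coh.structureModule Y)
    (e' : CohB1.tensorMod L' L ≅ Coh.structureModule Y) (q : ℕ) :
    Subsingleton (Coh.HH X (CohB1.tensorMod F ((Scheme.Modules.pullback f).obj L)) q) ↔
      Subsingleton (Coh.HH Y (CohB1.tensorMod ((Scheme.Modules.pushforward f).obj F) L) q) := by
  haveI : Coh.IsQCoh (CohB1.tensorMod F ((Scheme.Modules.pullback f).obj L)) :=
    isQCoh_tensor_pullback f F hF L hL
  obtain ⟨θ⟩ := Groth.Agent.S0012.result f (CohB1.tensorMod F ((Scheme.Modules.pullback f).obj L)) q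
  have ε : (Scheme.Modules.pushforward f).obj (CohB1.tensorMod F ((Scheme.Modules.pullback f).obj L)) ≅
      CohB1.tensorMod ((Scheme.Modules.pushforward f).obj F) L := (projIso f e e').app F
  constructor
  · intro h
    haveI := h
    have h1 : Subsingleton (Coh.HH Y ((Coh.push f).obj
        (CohB1.tensorMod F ((Scheme.Modules.pullback f).obj L))) q) := θ.symm.subsingleton
    exact Groth.Agent.Lib.T2H5.PnStruct.subsingleton_HH_of_iso ε q h1
  · intro h
    have h1 : Subsingleton (Coh.HH Y ((Coh.push f).obj
        (CohB1.tensorMod F ((Scheme.Modules.pullback f).obj L))) q) :=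
      Groth.Agent.Lib.T2H5.PnStruct.subsingleton_HH_of_iso ε.symm q h
    haveI := h1
    exact θ.subsingleton

/-- the direct image of modules along a closed embedding is faithful -/
theorem pushforward_faithful (hf : Topology.IsClosedEmbedding f.base) :
    (Scheme.Modules.pushforward f).Faithful := by
  constructor
  intro M M' φ ψ h
  haveI := Groth.Agent.Lib.Helper16.ClosedEmb.push_faithful f.base hf
  apply (SheafOfModules.toSheaf X.ringCatSheaf).map_injective
  apply (CohTop.push f.base).map_injective
  exact congrArg (fun t => (SheafOfModules.toSheaf Y.ringCatSheaf).map t) h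

set_option backward.isDefEq.respectTransparency.types false in
/-- pullback of a free module is free -/
noncomputable def pullbackFreeIso (I : Type u) :
    (Scheme.Modules.pullback f).obj (SheafOfModules.free (R := Y.ringCatSheaf) I) ≅
      SheafOfModules.free (R := X.ringCatSheaf) I :=
  SheafOfModules.pullbackObjFreeIso.{u} f.toRingCatSheafHom I

/-- global generation descends along the direct image of a closed immersion -/
theorem isGloballyGenerated_of_pushforward [IsClosedImmersion f] (M : X.Modules)
    (h : Curv2.IsGloballyGenerated ((Scheme.Modules.pushforward f).obj M)) :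
    Curv2.IsGloballyGenerated M := by
  obtain ⟨ι, p, hp⟩ := h
  haveI := pushforward_faithful f f.isClosedEmbedding
  haveI : Epi ((Scheme.Modules.pullbackPushforwardAdjunction f).counit.app M) :=
    (Scheme.Modules.pullbackPushforwardAdjunction f).counit_epi_of_R_faithful M
  have h1 : (Scheme.Modules.pullback f).PreservesEpimorphisms :=
    Functor.preservesEpimorphisms_of_adjunction (Scheme.Modules.pullbackPushforwardAdjunction f)
  have h2 : Epi ((Scheme.Modules.pullback f).map p) :=
    @Functor.map_epi _ _ _ _ (Scheme.Modules.pullback f) h1 _ _ p hp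
  exact ⟨ι, (pullbackFreeIso f ι).inv ≫ (Scheme.Modules.pullback f).map p ≫
    (Scheme.Modules.pullbackPushforwardAdjunction f).counit.app M,
    @epi_comp _ _ _ _ _ _ inferInstance _ (@epi_comp _ _ _ _ _ _ h2 _ inferInstance)⟩

end General

section Pn

variable (n : ℕ) (R : Type u) [CommRing R]

/-- `O(d) ⊗ O(-d) ≅ O` -/
noncomputable def twistInvIso (d : ℤ) :
    CohB1.tensorMod (Twist.twistProjSpace n R d) (Twist.twistProjSpace n R (-d)) ≅
      Coh.structureModule (CohB1.ProjSpace n R) :=
  (nonempty_twist_tensor_iso n R d (-d) 0 (by omega)).some ≪≫ (nonempty_twist_zero_iso n R).some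

/-- `O(-d) ⊗ O(d) ≅ O` -/
noncomputable def twistInvIso' (d : ℤ) :
    CohB1.tensorMod (Twist.twistProjSpace n R (-d)) (Twist.twistProjSpace n R d) ≅
      Coh.structureModule (CohB1.ProjSpace n R) :=
  (nonempty_twist_tensor_iso n R (-d) d 0 (by omega)).some ≪≫ (nonempty_twist_zero_iso n R).some

theorem isQCoh_twist (d : ℤ) : (Twist.twistProjSpace n R d).IsQuasicoherent :=
  (Groth.Agent.Lib.T2H5.PnFinite.isCoh_twist n R d).1

variable {X : Scheme.{u}} (i : X ⟶ CohB1.ProjSpace n R)

/-- projection formula for twists: `i_*(F ⊗ i^*O(d)) ≅ i_*F ⊗ O(d)`, naturally in `F` -/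
noncomputable def projTwistIso (d : ℤ) :
    tr ((Scheme.Modules.pullback i).obj (Twist.twistProjSpace n R d)) ⋙
        Scheme.Modules.pushforward i ≅
      Scheme.Modules.pushforward i ⋙ tr (Twist.twistProjSpace n R d) :=
  projIso i (twistInvIso n R d) (twistInvIso' n R d)

/-- transfer of vanishing for twists along an affine morphism to projective space -/
theorem subsingleton_HH_twist_iff [IsAffineHom i] (F : X.Modules) (hF : F.IsQuasicoherent)
    (d : ℤ) (q : ℕ) :
    Subsingleton (Coh.HH X (CohB1.tensorMod F
        ((Scheme.Modules.pullback i).obj (Twist.twistProjSpace n R d))) q) ↔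
      Subsingleton (Coh.HH (CohB1.ProjSpace n R)
        (CohB1.tensorMod ((Scheme.Modules.pushforward i).obj F) (Twist.twistProjSpace n R d)) q) := by
  exact subsingleton_HH_iff i F hF (isQCoh_twist n R d) (twistInvIso n R d) (twistInvIso' n R d) q

/-- Serre vanishing on a closed subscheme of projective space over a Noetherian ring -/
theorem serre_vanishing_closed [IsNoetherianRing R] [IsClosedImmersion i] (F : X.Modules)
    (hF : Coh.IsCoh F) :
    ∃ d₀ : ℤ, ∀ d : ℤ, d₀ ≤ d → ∀ q : ℕ, 1 ≤ q →
      Subsingleton (Coh.HH X (CohB1.tensorMod F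
        ((Scheme.Modules.pullback i).obj (Twist.twistProjSpace n R d))) q) := by
  obtain ⟨d₀, h⟩ := Groth.Agent.Lib.T2H5.SerrePn.serre_vanishing n R
    ((Scheme.Modules.pushforward i).obj F) (isCoh_pushforward i F hF)
  exact ⟨d₀, fun d hd q hq => (subsingleton_HH_twist_iff n R i F hF.1 d q).2 (h d hd q hq)⟩

end Pn

end Groth.Agent.Lib.T2H5.ClosedTransfer
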