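import Mathlib

/-!
# Elementwise criteria for the cohomology of cochain complexes of abelian groups (T2H5)

* `isZero_homology_succ`, `isZero_homology_zero`: vanishing of cohomology from "cocycles are
  coboundaries";
* `exists_addEquiv_homology`: a cohomology group is computed by an additive map `ρ` on cochains which
  kills the coboundaries, detects them among the cocycles, and is surjective on cocycles;
* `addEquiv_homology_natural`: compatibility of that identification with endomorphisms.
-/

set_option autoImplicit false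
universe u

open CategoryTheory CategoryTheory.Limits

namespace Groth.Agent.Lib.T2H5.CechCrit

variable (K : CochainComplex AddCommGrpCat.{u} ℕ)

theorem isZero_homology_succ (q : ℕ)
    (h : ∀ c : K.X (q + 1), K.d (q + 1) (q + 2) c = 0 → ∃ b : K.X q, K.d q (q + 1) b = c) :
    IsZero (K.homology (q + 1)) := by
  rw [← HomologicalComplex.exactAt_iff_isZero_homology,
    HomologicalComplex.exactAt_iff' K q (q + 1) (q + 2) (by simp) (by simp),
    ShortComplex.ab_exact_iff]
  exact h

theorem isZero_homology_zero (h : ∀ c : K.X 0, K.d 0 1 c = 0 → c = 0) :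
    IsZero (K.homology 0) := by
  rw [← HomologicalComplex.exactAt_iff_isZero_homology,
    HomologicalComplex.exactAt_iff' K 0 0 1 (by simp) (by simp), ShortComplex.ab_exact_iff]
  intro c hc
  exact ⟨0, ((h c hc).trans (map_zero _).symm).symm⟩

section Top

variable {K} (n i : ℕ) (hi : (ComplexShape.up ℕ).prev n = i) {A : Type u} [AddCommGroup A]
  (ρ : K.X n →+ A)

theorem homologyπ_surjective (x : K.homology n) : ∃ z : K.cycles n, K.homologyπ n z = x :=
  (AddCommGrpCat.epi_iff_surjective (K.homologyπ n)).mp inferInstance x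

theorem iCycles_injective : Function.Injective (K.iCycles n) :=
  (AddCommGrpCat.mono_iff_injective (K.iCycles n)).mp inferInstance

theorem exists_cycle (c : K.X n) (hc : K.d n (n + 1) c = 0) : ∃ z : K.cycles n, K.iCycles n z = c := by
  let Z : AddCommGrpCat.{u} := AddCommGrpCat.of (K.d n (n + 1)).hom.ker
  let k : Z ⟶ K.X n := AddCommGrpCat.ofHom (K.d n (n + 1)).hom.ker.subtype
  have hk : k ≫ K.d n (n + 1) = 0 := by
    ext z
    exact z.2
  refine ⟨K.liftCycles k (n + 1) (by simp) hk ⟨c, hc⟩, ?_⟩
  have := ConcreteCategory.congr_hom (K.liftCycles_i k (n + 1) (by simp) hk) ⟨c, hc⟩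
  exact this

theorem d_iCycles (z : K.cycles n) : K.d n (n + 1) (K.iCycles n z) = 0 :=
  ConcreteCategory.congr_hom (K.iCycles_d n (n + 1)) z

include hi in
theorem homologyπ_eq_zero_iff (z : K.cycles n) :
    K.homologyπ n z = 0 ↔ ∃ b : K.X i, K.d i n b = K.iCycles n z := by
  constructor
  · intro hz
    have hex : (ShortComplex.mk (K.toCycles i n) (K.homologyπ n)
        (K.toCycles_comp_homologyπ i n)).Exact :=
      ShortComplex.exact_of_g_is_cokernel _ (K.homologyIsCokernel i n hi)
    rw [ShortComplex.ab_exact_iff] at hex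
    obtain ⟨b, hb⟩ := hex z hz
    refine ⟨b, ?_⟩
    change K.toCycles i n b = z at hb
    rw [← hb]
    exact (ConcreteCategory.congr_hom (K.toCycles_i i n) b).symm
  · rintro ⟨b, hb⟩
    have h1 : K.toCycles i n b = z := by
      apply iCycles_injective n
      rw [← hb]
      exact ConcreteCategory.congr_hom (K.toCycles_i i n) b
    rw [← h1]
    exact ConcreteCategory.congr_hom (K.toCycles_comp_homologyπ i n) b

include hi in
/-- a cohomology group computed by an additive map on cochains. -/
theorem exists_addEquiv_homology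
    (h1 : ∀ b : K.X i, ρ (K.d i n b) = 0)
    (h2 : ∀ c : K.X n, K.d n (n + 1) c = 0 → ρ c = 0 → ∃ b : K.X i, K.d i n b = c)
    (h3 : ∀ a : A, ∃ c : K.X n, K.d n (n + 1) c = 0 ∧ ρ c = a) :
    ∃ Θ : K.homology n ≃+ A, ∀ z : K.cycles n, Θ (K.homologyπ n z) = ρ (K.iCycles n z) := by
  have hw : K.toCycles i n ≫ (K.iCycles n ≫ AddCommGrpCat.ofHom ρ) = 0 := by
    ext b
    change ρ (K.iCycles n (K.toCycles i n b)) = 0
    have := ConcreteCategory.congr_hom (K.toCycles_i i n) b
    rw [ConcreteCategory.comp_apply] at this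
    rw [this]
    exact h1 b
  let θ : K.homology n ⟶ AddCommGrpCat.of A :=
    (K.homologyIsCokernel i n hi).desc (CokernelCofork.ofπ _ hw)
  have hθ : K.homologyπ n ≫ θ = K.iCycles n ≫ AddCommGrpCat.ofHom ρ :=
    (K.homologyIsCokernel i n hi).fac (CokernelCofork.ofπ _ hw) WalkingParallelPair.one
  have hθ' : ∀ z : K.cycles n, θ (K.homologyπ n z) = ρ (K.iCycles n z) := fun z =>
    ConcreteCategory.congr_hom hθ z
  have hinj : Function.Injective θ := by
    rw [injective_iff_map_eq_zero]
    intro x hx
    obtain ⟨z, rfl⟩ := homologyπ_surjective n x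
    rw [hθ'] at hx
    obtain ⟨b, hb⟩ := h2 _ (d_iCycles n z) hx
    exact (homologyπ_eq_zero_iff n i hi z).mpr ⟨b, hb⟩
  have hsurj : Function.Surjective θ := by
    intro a
    obtain ⟨c, hc, hca⟩ := h3 a
    obtain ⟨z, hz⟩ := exists_cycle n c hc
    exact ⟨K.homologyπ n z, by rw [hθ', hz, hca]⟩
  exact ⟨AddEquiv.ofBijective θ.hom ⟨hinj, hsurj⟩, hθ'⟩

/-- compatibility with endomorphisms. -/
theorem addEquiv_homology_natural (Θ : K.homology n ≃+ A)
    (hΘ : ∀ z : K.cycles n, Θ (K.homologyπ n z) = ρ (K.iCycles n z))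
    (φ : K ⟶ K) (ψ : A →+ A) (hφ : ∀ c : K.X n, ρ (φ.f n c) = ψ (ρ c)) (x : K.homology n) :
    Θ (HomologicalComplex.homologyMap φ n x) = ψ (Θ x) := by
  obtain ⟨z, rfl⟩ := homologyπ_surjective n x
  have h1 : HomologicalComplex.homologyMap φ n (K.homologyπ n z) =
      K.homologyπ n (HomologicalComplex.cyclesMap φ n z) := by
    have := ConcreteCategory.congr_hom (HomologicalComplex.homologyπ_naturality φ n) z
    rw [ConcreteCategory.comp_apply, ConcreteCategory.comp_apply] at this
    exact this
  have h2 : K.iCycles n (HomologicalComplex.cyclesMap φ n z) = φ.f n (K.iCycles n z) :=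
    ConcreteCategory.congr_hom (HomologicalComplex.cyclesMap_i φ n) z
  rw [h1, hΘ, hΘ, h2, hφ]

end Top

end Groth.Agent.Lib.T2H5.CechCrit
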