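import Groth.Agent.Lib.T2H5CechComb

/-!
# Cochains with multigraded coefficients and support conditions (T2H5)

`E` is a type of "multidegrees", `neg e : Set ι` the set of indices at which `e` is negative and
`good e` a side condition (total degree).  Cochains have values in `E →₀ G`; the support condition
`LSupp` says that the value at a tuple `σ` only involves good multidegrees `e` with
`neg e ⊆ range σ`.  This is the shape of the Čech complex of `O(d)` on projective space for the
standard covering.

* `exists_cobound`: cocycles of positive degree are coboundaries, except for the part in top degree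
  coming from multidegrees that are negative everywhere;
* `eq_zero_of_cocycle_zero`: vanishing of degree zero cocycles when every good multidegree has a negative
  entry;
* `exists_cocycle_res`, `res_dd_eq_zero`: the top degree.
-/

set_option autoImplicit false
universe u v w

namespace Groth.Agent.Lib.T2H5.CechLaurent

open Groth.Agent.Lib.T2H5.CechComb

open scoped Classical

noncomputable section

variable {ι : Type u} {E : Type v} {G : Type w} [AddCommGroup G]
variable (neg : E → Set ι) (good : E → Prop)

/-- the support condition -/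
def LSupp {q : ℕ} (f : Coch ι (E →₀ G) q) : Prop :=
  ∀ σ e, f σ e ≠ 0 → good e ∧ neg e ⊆ Set.range σ

variable {neg good}

theorem dd_apply_apply (q : ℕ) (f : Coch ι (E →₀ G) q) (σ : Fin (q + 2) → ι) (e : E) :
    dd q f σ e = dd q (fun τ => f τ e) σ :=
  (congrFun (dd_map (Finsupp.applyAddHom e) q f) σ).symm

/-- the part of a cochain at the multidegrees satisfying `P` -/
noncomputable def part (P : E → Prop) {q : ℕ} (f : Coch ι (E →₀ G) q) : Coch ι (E →₀ G) q :=
  fun σ => (f σ).filter P

theorem dd_part (P : E → Prop) (q : ℕ) (f : Coch ι (E →₀ G) q) :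
    dd q (part P f) = part P (dd q f) :=
  dd_map (Finsupp.filterAddHom P) q f

theorem part_apply (P : E → Prop) {q : ℕ} (f : Coch ι (E →₀ G) q) (σ : Fin (q + 1) → ι) (e : E) :
    part P f σ e = if P e then f σ e else 0 :=
  Finsupp.filter_apply P (f σ) e

theorem part_add_part_not (P : E → Prop) {q : ℕ} (f : Coch ι (E →₀ G) q) :
    part P f + part (fun e => ¬ P e) f = f := by
  funext σ
  ext e
  change part P f σ e + part (fun e => ¬ P e) f σ e = f σ e
  rw [part_apply, part_apply]
  by_cases hP : P e
  · rw [if_pos hP, if_neg (not_not.mpr hP), add_zero]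
  · rw [if_neg hP, if_pos hP, zero_add]

theorem part_zero (P : E → Prop) {q : ℕ} : part P (0 : Coch ι (E →₀ G) q) = 0 := by
  funext σ
  exact Finsupp.filter_zero P

section Contract

variable [Fintype ι]

/-- the contraction on the part where some index is nonnegative: prepend an index outside `neg e`. -/
noncomputable def hR (sel : E → ι) (P : E → Prop) (q : ℕ) (f : Coch ι (E →₀ G) (q + 1)) :
    Coch ι (E →₀ G) q := fun τ =>
  Finsupp.onFinset (Finset.univ.biUnion fun j : ι => (f (Fin.cons j τ)).support)
    (fun e => if P e then 0 else f (Fin.cons (sel e) τ) e)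
    (by
      intro e he
      by_cases hP : P e
      · simp [hP] at he
      · simp only [hP, if_false] at he
        exact Finset.mem_biUnion.mpr ⟨sel e, Finset.mem_univ _, Finsupp.mem_support_iff.mpr he⟩)

theorem hR_apply (sel : E → ι) (P : E → Prop) (q : ℕ) (f : Coch ι (E →₀ G) (q + 1))
    (τ : Fin (q + 1) → ι) (e : E) :
    hR sel P q f τ e = if P e then 0 else f (Fin.cons (sel e) τ) e := rfl

theorem dd_hR (sel : E → ι) (P : E → Prop) (q : ℕ) (f : Coch ι (E →₀ G) (q + 1))
    (hcoc : dd (q + 1) f = 0) : dd q (hR sel P q f) = part (fun e => ¬ P e) f := by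
  funext σ
  ext e
  rw [dd_apply_apply, part_apply]
  by_cases hP : P e
  · have h0 : (fun τ => hR sel P q f τ e) = (0 : Coch ι G q) := by
      funext τ
      rw [hR_apply, if_pos hP]
      rfl
    rw [h0, dd_zero, if_neg (not_not.mpr hP)]
    rfl
  · rw [if_pos hP]
    have h1 : (fun τ => hR sel P q f τ e) = hc (sel e) q (fun σ' => f σ' e) := by
      funext τ
      rw [hR_apply, if_neg hP]
      rfl
    rw [h1]
    have h2 := hc_dd (sel e) q (fun σ' => f σ' e)
    have h3 : dd (q + 1) (fun σ' => f σ' e) = 0 := by
      funext ρ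
      rw [← dd_apply_apply, hcoc]
      rfl
    rw [h3] at h2
    have h4 : hc (sel e) (q + 1) (0 : Coch ι G (q + 2)) = 0 := rfl
    rw [h4] at h2
    have h5 := sub_eq_zero.mp h2.symm
    exact (congrFun h5 σ).symm

end Contract

section Main

variable [Fintype ι]

theorem lSupp_hR (sel : E → ι) (hsel : ∀ e, neg e ≠ Set.univ → sel e ∉ neg e)
    (q : ℕ) (f : Coch ι (E →₀ G) (q + 1)) (hs : LSupp neg good f) :
    LSupp neg good (hR sel (fun e => neg e = Set.univ) q f) := by
  intro τ e he
  rw [hR_apply] at he
  by_cases hP : neg e = Set.univ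
  · rw [if_pos hP] at he
    exact absurd rfl he
  · rw [if_neg hP] at he
    obtain ⟨hg, hsub⟩ := hs _ e he
    refine ⟨hg, fun i hi => ?_⟩
    obtain ⟨k, hk⟩ := hsub hi
    revert hk
    refine Fin.cases ?_ (fun k' => ?_) k
    · intro hk
      rw [Fin.cons_zero] at hk
      rw [← hk] at hi
      exact absurd hi (hsel e hP)
    · intro hk
      rw [Fin.cons_succ] at hk
      exact ⟨k', hk⟩

theorem exists_sel (hne : Nonempty ι) :
    ∃ sel : E → ι, ∀ e, neg e ≠ Set.univ → sel e ∉ neg e := by
  classical
  refine ⟨fun e => if h : ∃ j, j ∉ neg e then h.choose else hne.some, fun e he => ?_⟩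
  have h : ∃ j, j ∉ neg e := by
    by_contra hcon
    push Not at hcon
    exact he (Set.eq_univ_of_forall hcon)
  simp only [h, dif_pos]
  exact h.choose_spec

/-- cocycles of positive degree are coboundaries (away from the everywhere negative part in top
degree, where one needs the value at one injective tuple to vanish). -/
theorem exists_cobound {n : ℕ} (hcard : Fintype.card ι = n + 1) (q : ℕ)
    (f : Coch ι (E →₀ G) (q + 1)) (hs : LSupp neg good f) (hcoc : dd (q + 1) f = 0)
    (h : q + 1 ≠ n ∨ (∀ e, good e → neg e ≠ Set.univ) ∨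
      ∃ σ₀ : Fin (q + 2) → ι, Function.Injective σ₀ ∧
        part (fun e => neg e = Set.univ) f σ₀ = 0) :
    ∃ g : Coch ι (E →₀ G) q, LSupp neg good g ∧ dd q g = f := by
  classical
  have hne : Nonempty ι := by
    rw [← Fintype.card_pos_iff, hcard]
    omega
  obtain ⟨sel, hsel⟩ := exists_sel (neg := neg) hne
  set P : E → Prop := fun e => neg e = Set.univ with hP
  -- the everywhere negative part
  have hU : ∃ gU : Coch ι (E →₀ G) q, LSupp neg good gU ∧ dd q gU = part P f := by
    have hfU_s : SurjSupp (part P f) := by
      intro σ hσ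
      ext e
      rw [part_apply]
      by_cases hPe : P e
      · rw [if_pos hPe]
        by_contra hne0
        obtain ⟨-, hsub⟩ := hs σ e hne0
        apply hσ
        intro i
        have : i ∈ neg e := by
          rw [hPe]
          exact Set.mem_univ i
        exact hsub this
      · rw [if_neg hPe]
        rfl
    have hfU_c : dd (q + 1) (part P f) = 0 := by
      rw [dd_part, hcoc, part_zero]
    have hcase : (∀ e, good e → neg e ≠ Set.univ) ∨ (q + 1 ≠ n ∨
        ∃ σ₀ : Fin (q + 2) → ι, Function.Injective σ₀ ∧ part P f σ₀ = 0) := by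
      rcases h with h | h | h
      · exact Or.inr (Or.inl h)
      · exact Or.inl h
      · exact Or.inr (Or.inr h)
    rcases hcase with h1 | h2
    · refine ⟨0, fun σ e he => absurd rfl he, ?_⟩
      rw [dd_zero]
      funext σ
      ext e
      rw [part_apply]
      by_cases hPe : P e
      · rw [if_pos hPe]
        by_contra hne0
        exact h1 e (hs σ e (Ne.symm hne0)).1 hPe
      · rw [if_neg hPe]
        rfl
    · obtain ⟨g0, hg0_s, hg0⟩ := isCob_of_surjSupp n ι hcard (q + 1) (part P f) hfU_s hfU_c h2
      refine ⟨part (fun e => good e ∧ P e) g0, ?_, ?_⟩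
      · intro τ e he
        rw [part_apply] at he
        by_cases hge : good e ∧ P e
        · refine ⟨hge.1, fun i _ => ?_⟩
          have hsurj : Function.Surjective τ := by
            by_contra hns
            rw [if_pos hge, hg0_s τ hns] at he
            exact he rfl
          exact hsurj i
        · rw [if_neg hge] at he
          exact absurd rfl he
      · rw [dd_part, hg0]
        funext σ
        ext e
        rw [part_apply, part_apply]
        by_cases hPe : P e
        · by_cases hge : good e
          · rw [if_pos ⟨hge, hPe⟩]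
          · rw [if_neg (fun h => hge h.1), if_pos hPe]
            by_contra hne0
            exact hge (hs σ e (Ne.symm hne0)).1
        · rw [if_neg (fun h => hPe h.2), if_neg hPe]
  obtain ⟨gU, hgU_s, hgU⟩ := hU
  refine ⟨gU + hR sel P q f, ?_, ?_⟩
  · intro τ e he
    have : gU τ e ≠ 0 ∨ hR sel P q f τ e ≠ 0 := by
      by_contra hcon
      push Not at hcon
      apply he
      change gU τ e + hR sel P q f τ e = 0
      rw [hcon.1, hcon.2, add_zero]
    rcases this with h1 | h1
    · exact hgU_s τ e h1
    · exact lSupp_hR sel hsel q f hs τ e h1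
  · rw [dd_add, hgU, dd_hR sel P q f hcoc, part_add_part_not]

/-- vanishing of `H^0` when every good multidegree has a negative entry. -/
theorem eq_zero_of_cocycle_zero (hcard : 2 ≤ Fintype.card ι)
    (f : Coch ι (E →₀ G) 0) (hs : LSupp neg good f) (hcoc : dd 0 f = 0)
    (hneg : ∀ e, good e → (neg e).Nonempty) : f = 0 := by
  classical
  have hconst : ∀ i i' : ι, f (fun _ => i) = f (fun _ => i') := by
    intro i i'
    have h1 := congrFun hcoc (![i', i] : Fin 2 → ι)
    rw [dd_apply, Fin.sum_univ_two] at h1
    have e0 : (![i', i] : Fin 2 → ι) ∘ (0 : Fin 2).succAbove = fun _ => i := by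
      funext k
      fin_cases k
      rfl
    have e1 : (![i', i] : Fin 2 → ι) ∘ (1 : Fin 2).succAbove = fun _ => i' := by
      funext k
      fin_cases k
      rfl
    rw [e0, e1] at h1
    simp only [Fin.val_zero, pow_zero, one_smul, Fin.val_one, pow_one, neg_smul] at h1
    exact (sub_eq_zero.mp ((sub_eq_add_neg _ _).trans h1))
  funext σ
  ext e
  by_contra hne0
  have hσ : σ = fun _ => σ 0 := by
    funext k
    rw [Fin.fin_one_eq_zero k]
  obtain ⟨hg, hsub⟩ := hs σ e hne0
  obtain ⟨x, hx⟩ := hneg e hg
  obtain ⟨k, hk⟩ := hsub hx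
  obtain ⟨i', hi'⟩ : ∃ i' : ι, i' ≠ σ 0 := Fintype.exists_ne_of_one_lt_card (by omega) (σ 0)
  have h2 : f (fun _ => i') e ≠ 0 := by
    rw [hconst i' (σ 0), ← hσ]
    exact hne0
  obtain ⟨-, hsub'⟩ := hs _ e h2
  obtain ⟨k', hk'⟩ := hsub' hx
  apply hi'
  have e1 : σ k = σ 0 := by rw [Fin.fin_one_eq_zero k]
  change i' = x at hk'
  rw [hk', ← hk, e1]

/-- the residue at an injective tuple kills coboundaries. -/
theorem res_dd_eq_zero {n : ℕ} (hcard : Fintype.card ι = n + 2)
    (g : Coch ι (E →₀ G) n) (hs : LSupp neg good g) (σ₀ : Fin (n + 2) → ι) :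
    part (fun e => neg e = Set.univ) (dd n g) σ₀ = 0 := by
  ext e
  rw [part_apply]
  by_cases hPe : neg e = Set.univ
  · rw [if_pos hPe, dd_apply_apply, dd_apply]
    refine Finset.sum_eq_zero (fun i _ => ?_)
    have : g (σ₀ ∘ i.succAbove) e = 0 := by
      by_contra hne0
      obtain ⟨-, hsub⟩ := hs _ e hne0
      refine not_surjective_of_card hcard (σ₀ ∘ i.succAbove) (fun x => ?_)
      have : x ∈ neg e := by
        rw [hPe]
        exact Set.mem_univ x
      exact hsub this
    rw [this, smul_zero]
  · rw [if_neg hPe]
    rfl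

/-- every everywhere negative coefficient is the residue of a cocycle in top degree. -/
theorem exists_cocycle_res {n : ℕ} (hcard : Fintype.card ι = n + 1)
    (σ₀ : Fin (n + 1) → ι) (hinj : Function.Injective σ₀) (a : E →₀ G)
    (ha : ∀ e, a e ≠ 0 → good e ∧ neg e = Set.univ) :
    ∃ f : Coch ι (E →₀ G) n, LSupp neg good f ∧ dd n f = 0 ∧
      part (fun e => neg e = Set.univ) f σ₀ = a := by
  classical
  obtain ⟨f0, hf0_s, hf0_c, hf0_a⟩ := exists_cocycle (A := E →₀ G) n ι hcard σ₀ hinj a
  set Q : E → Prop := fun e => good e ∧ neg e = Set.univ with hQ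
  refine ⟨part Q f0, ?_, ?_, ?_⟩
  · intro σ e he
    rw [part_apply] at he
    by_cases hge : Q e
    · refine ⟨hge.1, fun i _ => ?_⟩
      have hsurj : Function.Surjective σ := by
        by_contra hns
        rw [if_pos hge, hf0_s σ hns] at he
        exact he rfl
      exact hsurj i
    · rw [if_neg hge] at he
      exact absurd rfl he
  · rw [dd_part, hf0_c, part_zero]
  · ext e
    rw [part_apply, part_apply, hf0_a]
    by_cases hae : a e = 0
    · rw [hae]
      simp
    · obtain ⟨h1, h2⟩ := ha e hae
      rw [if_pos h2, if_pos ⟨h1, h2⟩]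

end Main

end

end Groth.Agent.Lib.T2H5.CechLaurent
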