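import Mathlib

/-!
# Laurent polynomials in several variables and fractions with monomial denominators (T2H5)

`Λ σ R = R[σ →₀ ℤ]` is the ring of Laurent polynomials; `toΛ` embeds the polynomial ring.  For an
exponent vector `μ` (the monomial `x^μ` is the denominator) and a polynomial `m`,
`frac μ k m = m / (x^μ)^k ∈ Λ`.
-/

set_option autoImplicit false
universe u

open MvPolynomial

namespace Groth.Agent.Lib.T2H5.LaurentAlg

variable {σ : Type*} {R : Type*} [CommRing R]

/-- Laurent polynomials -/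
abbrev Λ (σ : Type*) (R : Type*) [CommRing R] := AddMonoidAlgebra R (σ →₀ ℤ)

/-- cast of exponents -/
noncomputable def castE : (σ →₀ ℕ) →+ (σ →₀ ℤ) := Finsupp.mapRange.addMonoidHom (Nat.castAddMonoidHom ℤ)

theorem castE_apply (a : σ →₀ ℕ) (i : σ) : castE a i = (a i : ℤ) := rfl

theorem castE_injective : Function.Injective (castE : (σ →₀ ℕ) → (σ →₀ ℤ)) := by
  intro a b h
  ext i
  have := DFunLike.congr_fun h i
  rw [castE_apply, castE_apply] at this
  exact_mod_cast this

/-- the embedding of polynomials into Laurent polynomials -/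
noncomputable def toΛ : MvPolynomial σ R →ₐ[R] Λ σ R := AddMonoidAlgebra.mapDomainAlgHom R R castE

theorem toΛ_apply (m : MvPolynomial σ R) : toΛ m = AddMonoidAlgebra.mapDomain castE m := rfl

theorem toΛ_injective : Function.Injective (toΛ : MvPolynomial σ R → Λ σ R) :=
  AddMonoidAlgebra.mapDomain_injective castE_injective

/-- the Laurent monomial `t^e` -/
noncomputable def T (e : σ →₀ ℤ) : Λ σ R := AddMonoidAlgebra.single e 1

theorem T_zero : (T 0 : Λ σ R) = 1 := rfl

theorem T_add (e e' : σ →₀ ℤ) : (T (e + e') : Λ σ R) = T e * T e' := by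
  unfold T
  rw [AddMonoidAlgebra.single_mul_single, one_mul]

theorem T_mul_T_neg (e : σ →₀ ℤ) : (T e : Λ σ R) * T (-e) = 1 := by
  rw [← T_add, add_neg_cancel, T_zero]

theorem toΛ_monomial (a : σ →₀ ℕ) (r : R) :
    toΛ (monomial a r) = AddMonoidAlgebra.single (castE a) r := by
  rw [toΛ_apply, ← single_eq_monomial, AddMonoidAlgebra.mapDomain_single]

theorem toΛ_monomial_one (a : σ →₀ ℕ) : toΛ (monomial a (1 : R)) = T (castE a) :=
  toΛ_monomial a 1

/-- `m / (x^μ)^k` -/
noncomputable def frac (μ : σ →₀ ℕ) (k : ℕ) (m : MvPolynomial σ R) : Λ σ R :=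
  toΛ m * T (-(k • castE μ))

theorem frac_add (μ : σ →₀ ℕ) (k : ℕ) (m m' : MvPolynomial σ R) :
    frac μ k (m + m') = frac μ k m + frac μ k m' := by
  unfold frac
  rw [map_add, add_mul]

theorem frac_zero (μ : σ →₀ ℕ) (k : ℕ) : frac μ k (0 : MvPolynomial σ R) = 0 := by
  unfold frac
  rw [map_zero, zero_mul]

theorem frac_smul (μ : σ →₀ ℕ) (k : ℕ) (r : R) (m : MvPolynomial σ R) :
    frac μ k (r • m) = r • frac μ k m := by
  unfold frac
  rw [map_smul, smul_mul_assoc]

theorem frac_injective (μ : σ →₀ ℕ) (k : ℕ) :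
    Function.Injective (frac μ k : MvPolynomial σ R → Λ σ R) := by
  intro m m' h
  apply toΛ_injective
  unfold frac at h
  have h2 := congrArg (fun z => z * T (k • castE μ)) h
  simp only [mul_assoc] at h2
  rw [mul_comm (T (-(k • castE μ))), T_mul_T_neg, mul_one, mul_one] at h2
  exact h2

/-- multiplying numerator and denominator by a monomial -/
theorem frac_monomial_mul (μ ν : σ →₀ ℕ) (k : ℕ) (m : MvPolynomial σ R) :
    frac (μ + ν) k (monomial (k • ν) 1 * m) = frac μ k m := by
  unfold frac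
  rw [map_mul, toΛ_monomial_one, map_add, smul_add, neg_add, T_add, map_nsmul]
  have h : (T (k • castE ν) : Λ σ R) * T (-(k • castE ν)) = 1 := T_mul_T_neg _
  calc T (k • castE ν) * toΛ m * (T (-(k • castE μ)) * T (-(k • castE ν)))
      = toΛ m * T (-(k • castE μ)) * (T (k • castE ν) * T (-(k • castE ν))) := by ring
    _ = toΛ m * T (-(k • castE μ)) := by rw [h, mul_one]

/-- change of the exponent of the denominator -/
theorem frac_pow_mul (μ : σ →₀ ℕ) (k j : ℕ) (m : MvPolynomial σ R) :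
    frac μ (k + j) (monomial μ 1 ^ j * m) = frac μ k m := by
  unfold frac
  rw [map_mul, map_pow, toΛ_monomial_one, add_smul, neg_add, T_add]
  have h1 : (T (castE μ) : Λ σ R) ^ j = T (j • castE μ) := by
    induction j with
    | zero => rw [pow_zero, zero_smul, T_zero]
    | succ j ih => rw [pow_succ, ih, succ_nsmul, T_add]
  rw [h1]
  have h : (T (j • castE μ) : Λ σ R) * T (-(j • castE μ)) = 1 := T_mul_T_neg _
  calc T (j • castE μ) * toΛ m * (T (-(k • castE μ)) * T (-(j • castE μ)))
      = toΛ m * T (-(k • castE μ)) * (T (j • castE μ) * T (-(j • castE μ))) := by ring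
    _ = toΛ m * T (-(k • castE μ)) := by rw [h, mul_one]

/-- two fractions agree if they agree after cross multiplication -/
theorem frac_eq_of_mul_eq (μ : σ →₀ ℕ) (k k' : ℕ) (m m' : MvPolynomial σ R)
    (h : monomial μ 1 ^ k' * m = monomial μ 1 ^ k * m') : frac μ k m = frac μ k' m' := by
  rw [← frac_pow_mul μ k k' m, h, add_comm, frac_pow_mul]

theorem mul_eq_of_frac_eq (μ : σ →₀ ℕ) (k k' : ℕ) (m m' : MvPolynomial σ R)
    (h : frac μ k m = frac μ k' m') : monomial μ 1 ^ k' * m = monomial μ 1 ^ k * m' := by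
  rw [← frac_pow_mul μ k k' m, ← frac_pow_mul μ k' k m', add_comm k' k] at h
  exact frac_injective μ (k + k') h

section Support

theorem coeff_frac (μ : σ →₀ ℕ) (k : ℕ) (m : MvPolynomial σ R) (e : σ →₀ ℤ) :
    (frac μ k m).coeff e = (toΛ m).coeff (e + k • castE μ) := by
  unfold frac T
  rw [AddMonoidAlgebra.coeff_mul_single_apply, mul_one, neg_neg]

theorem exists_of_coeff_toΛ_ne_zero (m : MvPolynomial σ R) (e : σ →₀ ℤ)
    (h : (toΛ m).coeff e ≠ 0) : ∃ a : σ →₀ ℕ, coeff a m ≠ 0 ∧ castE a = e := by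
  classical
  have h1 : e ∈ (Finsupp.mapDomain castE (AddMonoidAlgebra.coeff m)).support :=
    Finsupp.mem_support_iff.mpr h
  have h2 := Finsupp.mapDomain_support h1
  obtain ⟨a, ha, rfl⟩ := Finset.mem_image.mp h2
  exact ⟨a, Finsupp.mem_support_iff.mp ha, rfl⟩

theorem coeff_toΛ_castE (m : MvPolynomial σ R) (a : σ →₀ ℕ) :
    (toΛ m).coeff (castE a) = coeff a m :=
  Finsupp.mapDomain_apply castE_injective (AddMonoidAlgebra.coeff m) a

theorem exists_of_coeff_frac_ne_zero (μ : σ →₀ ℕ) (k : ℕ) (m : MvPolynomial σ R) (e : σ →₀ ℤ)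
    (h : (frac μ k m).coeff e ≠ 0) :
    ∃ a : σ →₀ ℕ, coeff a m ≠ 0 ∧ castE a = e + k • castE μ := by
  rw [coeff_frac] at h
  exact exists_of_coeff_toΛ_ne_zero m _ h

variable [Fintype σ]

/-- the total degree and the position of the negative exponents of the monomials of `m / (x^μ)^k`. -/
theorem degree_of_coeff_frac_ne_zero (μ : σ →₀ ℕ) (k i : ℕ) (d : ℤ) (m : MvPolynomial σ R)
    (hm : m ∈ homogeneousSubmodule σ R i) (hi : (i : ℤ) = k * (∑ j, (μ j : ℤ)) + d)
    (e : σ →₀ ℤ) (h : (frac μ k m).coeff e ≠ 0) :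
    ∑ j, e j = d ∧ ∀ j, e j < 0 → μ j ≠ 0 := by
  obtain ⟨a, ha, hae⟩ := exists_of_coeff_frac_ne_zero μ k m e h
  have hdeg : ∑ j, a j = i := by
    have h1 : Finsupp.weight (1 : σ → ℕ) a = i := hm ha
    have h0 : Finsupp.weight (1 : σ → ℕ) a = Finsupp.degree a := by
      rw [Finsupp.degree_eq_weight_one]
      rfl
    rw [h0, Finsupp.degree_eq_sum] at h1
    exact h1
  have hj : ∀ j, (a j : ℤ) = e j + k * (μ j : ℤ) := by
    intro j
    have := DFunLike.congr_fun hae j
    rw [castE_apply] at this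
    rw [this]
    simp [castE_apply]
  constructor
  · have h1 : ∑ j, (a j : ℤ) = ∑ j, e j + k * ∑ j, (μ j : ℤ) := by
      rw [Finset.mul_sum, ← Finset.sum_add_distrib]
      exact Finset.sum_congr rfl (fun j _ => hj j)
    have h2 : ∑ j, (a j : ℤ) = (i : ℤ) := by
      rw [← hdeg]
      push_cast
      rfl
    linarith
  · intro j hlt hμ
    have := hj j
    rw [hμ] at this
    simp only [Nat.cast_zero, mul_zero, add_zero] at this
    have h0 : (0 : ℤ) ≤ (a j : ℤ) := Int.natCast_nonneg _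
    omega

omit [Fintype σ] in
/-- the nonnegative part of an exponent vector -/
noncomputable def toNatE : (σ →₀ ℤ) → (σ →₀ ℕ) := Finsupp.mapRange Int.toNat Int.toNat_zero

omit [Fintype σ] in
theorem castE_toNatE (e : σ →₀ ℤ) (h : ∀ j, 0 ≤ e j) : castE (toNatE e) = e := by
  ext j
  rw [castE_apply]
  change ((e j).toNat : ℤ) = e j
  exact Int.toNat_of_nonneg (h j)

omit [Fintype σ] in
theorem frac_monomial (μ : σ →₀ ℕ) (k : ℕ) (a : σ →₀ ℕ) (r : R) :
    frac μ k (monomial a r) = AddMonoidAlgebra.single (castE a - k • castE μ) r := by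
  unfold frac T
  rw [toΛ_monomial, AddMonoidAlgebra.single_mul_single, mul_one, sub_eq_add_neg]

/-- every Laurent polynomial with the right degree and the right negative exponents is a fraction. -/
theorem exists_frac_eq (μ : σ →₀ ℕ) (hμ : 0 < ∑ j, μ j) (d : ℤ) (l : Λ σ R)
    (hl : ∀ e, l.coeff e ≠ 0 → ∑ j, e j = d ∧ ∀ j, e j < 0 → μ j ≠ 0) :
    ∃ (k i : ℕ) (m : MvPolynomial σ R), m ∈ homogeneousSubmodule σ R i ∧
      (i : ℤ) = k * (∑ j, (μ j : ℤ)) + d ∧ frac μ k m = l := by
  classical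
  let k : ℕ := l.coeff.support.sup (fun e => Finset.univ.sup (fun j => (e j).natAbs)) + d.natAbs
  have hk : ∀ e ∈ l.coeff.support, ∀ j, 0 ≤ e j + k * (μ j : ℤ) := by
    intro e he j
    by_cases hneg : e j < 0
    · have hμj : 1 ≤ μ j := Nat.one_le_iff_ne_zero.mpr ((hl e (Finsupp.mem_support_iff.mp he)).2 j hneg)
      have h1 : (e j).natAbs ≤ Finset.univ.sup (fun j => (e j).natAbs) :=
        Finset.le_sup (f := fun j => (e j).natAbs) (Finset.mem_univ j)
      have h2 : Finset.univ.sup (fun j => (e j).natAbs) ≤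
          l.coeff.support.sup (fun e => Finset.univ.sup (fun j => (e j).natAbs)) :=
        Finset.le_sup (f := fun e : σ →₀ ℤ => Finset.univ.sup (fun j => (e j).natAbs)) he
      have h3 : ((e j).natAbs : ℤ) ≤ (k : ℤ) := by
        have : (e j).natAbs ≤ k := by omega
        exact_mod_cast this
      have h4 : (k : ℤ) ≤ k * (μ j : ℤ) := by
        have : (1 : ℤ) ≤ (μ j : ℤ) := by exact_mod_cast hμj
        nlinarith [Int.natCast_nonneg k]
      have h5 : -(e j) ≤ ((e j).natAbs : ℤ) := by omega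
      linarith
    · push Not at hneg
      have : (0 : ℤ) ≤ k * (μ j : ℤ) := mul_nonneg (Int.natCast_nonneg _) (Int.natCast_nonneg _)
      linarith
  have hdk : (0 : ℤ) ≤ k * (∑ j, (μ j : ℤ)) + d := by
    have h1 : (1 : ℤ) ≤ ∑ j, (μ j : ℤ) := by
      have : (1 : ℕ) ≤ ∑ j, μ j := hμ
      exact_mod_cast this
    have h2 : (d.natAbs : ℤ) ≤ (k : ℤ) := by
      have : d.natAbs ≤ k := Nat.le_add_left _ _
      exact_mod_cast this
    have h3 : (k : ℤ) ≤ k * (∑ j, (μ j : ℤ)) := by nlinarith [Int.natCast_nonneg k]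
    have h4 : -d ≤ (d.natAbs : ℤ) := by omega
    linarith
  obtain ⟨i, hi⟩ := Int.eq_ofNat_of_zero_le hdk
  let sh : (σ →₀ ℤ) → (σ →₀ ℕ) := fun e => toNatE (e + k • castE μ)
  have hsh : ∀ e ∈ l.coeff.support, castE (sh e) = e + k • castE μ := by
    intro e he
    apply castE_toNatE
    intro j
    have := hk e he j
    simpa [castE_apply] using this
  refine ⟨k, i, ∑ e ∈ l.coeff.support, monomial (sh e) (l.coeff e), ?_, ?_, ?_⟩
  · refine Submodule.sum_mem _ (fun e he => ?_)
    apply isHomogeneous_monomial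
    have hj : ∀ j, ((sh e) j : ℤ) = e j + k * (μ j : ℤ) := by
      intro j
      have := DFunLike.congr_fun (hsh e he) j
      rw [castE_apply] at this
      rw [this]
      simp [castE_apply]
    have h2 : ((∑ j, (sh e) j : ℕ) : ℤ) = (i : ℤ) := by
      push_cast
      rw [Finset.sum_congr rfl (fun j _ => hj j), Finset.sum_add_distrib, ← Finset.mul_sum,
        (hl e (Finsupp.mem_support_iff.mp he)).1, ← hi]
      ring
    have h3 : ∑ j, (sh e) j = i := by exact_mod_cast h2
    rw [← h3, ← Finsupp.degree_eq_sum, Finsupp.degree_eq_weight_one]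
  · rw [← hi]
  · have hadd : ∀ (s : Finset (σ →₀ ℤ)) (g : (σ →₀ ℤ) → MvPolynomial σ R),
        frac μ k (∑ e ∈ s, g e) = ∑ e ∈ s, frac μ k (g e) := by
      intro s g
      induction s using Finset.induction_on with
      | empty => simp [frac_zero]
      | insert a s ha ih => rw [Finset.sum_insert ha, Finset.sum_insert ha, frac_add, ih]
    rw [hadd]
    have h1 : ∀ e ∈ l.coeff.support, frac μ k (monomial (sh e) (l.coeff e)) =
        AddMonoidAlgebra.single e (l.coeff e) := by
      intro e he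
      rw [frac_monomial, hsh e he, add_sub_cancel_right]
    rw [Finset.sum_congr rfl h1]
    exact AddMonoidAlgebra.sum_coeff_single l

end Support

end Groth.Agent.Lib.T2H5.LaurentAlg
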