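import Groth.Agent.Lib.Helper27PnSections
import Groth.Agent.Lib.Helper27GrTildeMul
import Groth.Agent.Lib.T2H5LaurentAlg

/-!
# Sections of `O(d)` on projective space over the loci `x^μ ≠ 0`, as Laurent polynomials (T2H5)

For an open `W` of `P^n_R` which is the non-vanishing locus of the monomial `x^μ` (`μ ≠ 0`), every
section of `O(d)` over `W` is one fraction `m / (x^μ)^k`; `secΛ` sends it to the Laurent polynomial
`m / (x^μ)^k`.  This map is additive, injective, compatible with restrictions, and its image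
consists of the Laurent polynomials all of whose monomials have total degree `d` and negative
exponents only at the variables dividing `x^μ`.
-/

set_option autoImplicit false
universe u

open CategoryTheory CategoryTheory.Limits AlgebraicGeometry TopologicalSpace Opposite
  HomogeneousLocalization MvPolynomial

namespace Groth.Agent.Lib.T2H5.TwistSect

open Groth.Agent.Lib.Helper27GrTildeSect Groth.Agent.Lib.Helper27PnSections
  Groth.Agent.Lib.T2H5.LaurentAlg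

variable (n : ℕ) (R : Type u) [CommRing R] (d : ℤ)

local notation "𝒫" => CohB1.polyGrading n R

/-- the total degree of an exponent vector -/
def tdeg (μ : Fin (n + 1) →₀ ℕ) : ℕ := ∑ j, μ j

theorem monomial_mem (μ : Fin (n + 1) →₀ ℕ) :
    (monomial μ (1 : R)) ∈ CohB1.polyGrading n R (tdeg n μ) := by
  apply isHomogeneous_monomial
  rw [tdeg, ← Finsupp.degree_eq_sum, Finsupp.degree_eq_weight_one]

theorem monomial_pow_mem (μ : Fin (n + 1) →₀ ℕ) (k : ℕ) :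
    (monomial μ (1 : R)) ^ k ∈ CohB1.polyGrading n R (k * tdeg n μ) := by
  have := SetLike.pow_mem_graded k (monomial_mem n R μ)
  simpa [smul_eq_mul] using this

theorem isRegular_monomial (μ : Fin (n + 1) →₀ ℕ) :
    IsRegular (monomial μ (1 : R)) := by
  have h : IsLeftRegular (monomial μ (1 : R)) := by
    intro p q hpq
    ext a
    have := congrArg (coeff (μ + a)) hpq
    simpa [coeff_monomial_mul] using this
  exact (Commute.isRegular_iff (fun b => Commute.all _ b)).mpr h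

/-- `W` is the non-vanishing locus of the monomial `x^μ`. -/
def IsLocus (W : (Proj 𝒫).Opens) (μ : Fin (n + 1) →₀ ℕ) : Prop :=
  ∀ y : ProjectiveSpectrum 𝒫, y ∈ W ↔ (monomial μ (1 : R)) ∉ y.asHomogeneousIdeal

variable {n R}

theorem pow_not_mem {μ : Fin (n + 1) →₀ ℕ} {y : ProjectiveSpectrum 𝒫}
    (h : (monomial μ (1 : R)) ∉ y.asHomogeneousIdeal) (k : ℕ) :
    (monomial μ (1 : R)) ^ k ∉ y.asHomogeneousIdeal :=
  fun h' => h (y.isPrime.mem_of_pow_mem k h')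

variable {d}

/-- `s = m / (x^μ)^k` on all of `W`. -/
structure IsRep (W : (Proj 𝒫).Opens) (μ : Fin (n + 1) →₀ ℕ) (s : Γ(GrTilde.tilde 𝒫 𝒫 d, W))
    (k i : ℕ) (m : MvPolynomial (Fin (n + 1)) R) : Prop where
  mem : m ∈ CohB1.polyGrading n R i
  deg : (i : ℤ) = k * (tdeg n μ : ℤ) + d
  val : ∀ (y : ProjectiveSpectrum 𝒫) (hy : y ∈ W)
    (hf : (monomial μ (1 : R)) ^ k ∉ y.asHomogeneousIdeal),
    (secVal 𝒫 𝒫 d W s y hy : Twist.Loc 𝒫 y) =
      Localization.mk m (⟨monomial μ 1 ^ k, hf⟩ : y.asHomogeneousIdeal.toIdeal.primeCompl)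

theorem exists_rep {W : (Proj 𝒫).Opens} {μ : Fin (n + 1) →₀ ℕ} (hW : IsLocus n R W μ)
    (hμ : 0 < tdeg n μ) (s : Γ(GrTilde.tilde 𝒫 𝒫 d, W)) :
    ∃ (k i : ℕ) (m : MvPolynomial (Fin (n + 1)) R), IsRep W μ s k i m := by
  have hVW : Proj.basicOpen 𝒫 (monomial μ (1 : R)) ≤ W := by
    intro y hy
    exact (hW y).mpr ((ProjectiveSpectrum.mem_basicOpen 𝒫 _ y).mp hy)
  let t : Γ(GrTilde.tilde 𝒫 𝒫 d, Proj.basicOpen 𝒫 (monomial μ (1 : R))) :=
    (GrTilde.tilde 𝒫 𝒫 d).presheaf.map (homOfLE hVW).op s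
  obtain ⟨K, i, ⟨m, hm⟩, hi, hval⟩ := exists_global (toSect 𝒫 𝒫 d _ t) hμ (monomial_mem n R μ)
  refine ⟨K, i, m, hm, hi, fun y hy hf => ?_⟩
  have hyV : y ∈ Proj.basicOpen 𝒫 (monomial μ (1 : R)) :=
    (ProjectiveSpectrum.mem_basicOpen 𝒫 _ y).mpr ((hW y).mp hy)
  have h1 := hval ⟨y, hyV⟩
  have h2 : secVal 𝒫 𝒫 d _ t y hyV = secVal 𝒫 𝒫 d W s y hy := secVal_map 𝒫 𝒫 d hVW s y hyV
  rw [← h2]
  exact h1

theorem rep_unique {W : (Proj 𝒫).Opens} {μ : Fin (n + 1) →₀ ℕ} (hW : IsLocus n R W μ)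
    (hμ : 0 < tdeg n μ) {s : Γ(GrTilde.tilde 𝒫 𝒫 d, W)} {k i k' i' : ℕ}
    {m m' : MvPolynomial (Fin (n + 1)) R} (h : IsRep W μ s k i m) (h' : IsRep W μ s k' i' m') :
    monomial μ (1 : R) ^ k' * m = monomial μ (1 : R) ^ k * m' := by
  have hdeg : k' * tdeg n μ + i = k * tdeg n μ + i' := by
    have h1 := h.deg
    have h2 := h'.deg
    have : ((k' * tdeg n μ + i : ℕ) : ℤ) = ((k * tdeg n μ + i' : ℕ) : ℤ) := by
      push_cast
      rw [h1, h2]
      ring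
    exact_mod_cast this
  have hm1 : monomial μ (1 : R) ^ k' * m ∈ CohB1.polyGrading n R (k' * tdeg n μ + i) :=
    SetLike.mul_mem_graded (monomial_pow_mem n R μ k') h.mem
  have hm2 : monomial μ (1 : R) ^ k * m' ∈ CohB1.polyGrading n R (k' * tdeg n μ + i) := by
    rw [hdeg]
    exact SetLike.mul_mem_graded (monomial_pow_mem n R μ k) h'.mem
  have h0 := eq_zero_of_local n R hμ (monomial_mem n R μ) (isRegular_monomial n R μ)
    (Submodule.sub_mem _ hm1 hm2) (fun y hy => by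
      have hyW : y ∈ W := (hW y).mpr hy
      have h3 := (h.val y hyW (pow_not_mem hy k)).symm.trans (h'.val y hyW (pow_not_mem hy k'))
      rw [Localization.mk_eq_mk_iff, Localization.r_iff_exists] at h3
      obtain ⟨c, hc⟩ := h3
      refine ⟨c.1, c.2, ?_⟩
      simp only at hc
      rw [mul_sub, hc, sub_self])
  exact sub_eq_zero.mp h0

/-- the Laurent polynomial of a section. -/
noncomputable def secΛ {W : (Proj 𝒫).Opens} {μ : Fin (n + 1) →₀ ℕ} (hW : IsLocus n R W μ)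
    (hμ : 0 < tdeg n μ) (s : Γ(GrTilde.tilde 𝒫 𝒫 d, W)) : Λ (Fin (n + 1)) R :=
  frac μ (exists_rep hW hμ s).choose (exists_rep hW hμ s).choose_spec.choose_spec.choose

theorem secΛ_eq {W : (Proj 𝒫).Opens} {μ : Fin (n + 1) →₀ ℕ} (hW : IsLocus n R W μ)
    (hμ : 0 < tdeg n μ) {s : Γ(GrTilde.tilde 𝒫 𝒫 d, W)} {k i : ℕ}
    {m : MvPolynomial (Fin (n + 1)) R} (h : IsRep W μ s k i m) :
    secΛ hW hμ s = frac μ k m := by
  unfold secΛ
  exact frac_eq_of_mul_eq μ _ _ _ _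
    (rep_unique hW hμ (exists_rep hW hμ s).choose_spec.choose_spec.choose_spec h)

theorem IsRep.add {W : (Proj 𝒫).Opens} {μ : Fin (n + 1) →₀ ℕ}
    {s s' : Γ(GrTilde.tilde 𝒫 𝒫 d, W)} {k i k' i' : ℕ}
    {m m' : MvPolynomial (Fin (n + 1)) R} (h : IsRep W μ s k i m) (h' : IsRep W μ s' k' i' m') :
    IsRep W μ (s + s') (k + k') (k' * tdeg n μ + i)
      (monomial μ (1 : R) ^ k' * m + monomial μ (1 : R) ^ k * m') := by
  have hdeg : k' * tdeg n μ + i = k * tdeg n μ + i' := by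
    have h1 := h.deg
    have h2 := h'.deg
    have : ((k' * tdeg n μ + i : ℕ) : ℤ) = ((k * tdeg n μ + i' : ℕ) : ℤ) := by
      push_cast
      rw [h1, h2]
      ring
    exact_mod_cast this
  refine ⟨?_, ?_, ?_⟩
  · refine Submodule.add_mem _ (SetLike.mul_mem_graded (monomial_pow_mem n R μ k') h.mem) ?_
    rw [hdeg]
    exact SetLike.mul_mem_graded (monomial_pow_mem n R μ k) h'.mem
  · have h1 := h.deg
    push_cast
    rw [h1]
    ring
  · intro y hy hf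
    have hk : monomial μ (1 : R) ^ k ∉ y.asHomogeneousIdeal := fun hcon => hf (by
      rw [pow_add]
      exact Ideal.mul_mem_right _ _ hcon)
    have hk' : monomial μ (1 : R) ^ k' ∉ y.asHomogeneousIdeal := fun hcon => hf (by
      rw [pow_add]
      exact Ideal.mul_mem_left _ _ hcon)
    rw [secVal_add]
    change (secVal 𝒫 𝒫 d W s y hy : Twist.Loc 𝒫 y) + (secVal 𝒫 𝒫 d W s' y hy : Twist.Loc 𝒫 y) = _
    rw [h.val y hy hk, h'.val y hy hk', Localization.add_mk,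
      Localization.mk_eq_mk_iff, Localization.r_iff_exists]
    refine ⟨1, ?_⟩
    simp only [OneMemClass.coe_one, one_mul, Submonoid.coe_mul]
    ring

theorem secΛ_add {W : (Proj 𝒫).Opens} {μ : Fin (n + 1) →₀ ℕ} (hW : IsLocus n R W μ)
    (hμ : 0 < tdeg n μ) (s s' : Γ(GrTilde.tilde 𝒫 𝒫 d, W)) :
    secΛ hW hμ (s + s') = secΛ hW hμ s + secΛ hW hμ s' := by
  obtain ⟨k, i, m, h⟩ := exists_rep hW hμ s
  obtain ⟨k', i', m', h'⟩ := exists_rep hW hμ s'
  rw [secΛ_eq hW hμ (h.add h'), secΛ_eq hW hμ h, secΛ_eq hW hμ h', frac_add, frac_pow_mul,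
    add_comm k k', frac_pow_mul]

theorem secΛ_injective {W : (Proj 𝒫).Opens} {μ : Fin (n + 1) →₀ ℕ} (hW : IsLocus n R W μ)
    (hμ : 0 < tdeg n μ) : Function.Injective (secΛ (d := d) hW hμ) := by
  intro s s' hss
  obtain ⟨k, i, m, h⟩ := exists_rep hW hμ s
  obtain ⟨k', i', m', h'⟩ := exists_rep hW hμ s'
  rw [secΛ_eq hW hμ h, secΛ_eq hW hμ h'] at hss
  have hmul := mul_eq_of_frac_eq μ k k' m m' hss
  apply sec_ext
  intro y hy
  have hfy : monomial μ (1 : R) ∉ y.asHomogeneousIdeal := (hW y).mp hy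
  change (secVal 𝒫 𝒫 d W s y hy : Twist.Loc 𝒫 y) = (secVal 𝒫 𝒫 d W s' y hy : Twist.Loc 𝒫 y)
  rw [h.val y hy (pow_not_mem hfy k), h'.val y hy (pow_not_mem hfy k'),
    Localization.mk_eq_mk_iff, Localization.r_iff_exists]
  refine ⟨1, ?_⟩
  simp only [OneMemClass.coe_one, one_mul]
  exact hmul

/-- the monomials of the Laurent polynomial of a section. -/
theorem coeff_secΛ_ne_zero {W : (Proj 𝒫).Opens} {μ : Fin (n + 1) →₀ ℕ} (hW : IsLocus n R W μ)
    (hμ : 0 < tdeg n μ) (s : Γ(GrTilde.tilde 𝒫 𝒫 d, W)) (e : Fin (n + 1) →₀ ℤ)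
    (he : (secΛ hW hμ s).coeff e ≠ 0) : ∑ j, e j = d ∧ ∀ j, e j < 0 → μ j ≠ 0 := by
  obtain ⟨k, i, m, h⟩ := exists_rep hW hμ s
  rw [secΛ_eq hW hμ h] at he
  refine degree_of_coeff_frac_ne_zero μ k i d m h.mem ?_ e he
  rw [h.deg, tdeg]
  push_cast
  rfl

/-- the image of `secΛ`. -/
theorem exists_secΛ_eq {W : (Proj 𝒫).Opens} {μ : Fin (n + 1) →₀ ℕ} (hW : IsLocus n R W μ)
    (hμ : 0 < tdeg n μ) (l : Λ (Fin (n + 1)) R)
    (hl : ∀ e, l.coeff e ≠ 0 → ∑ j, e j = d ∧ ∀ j, e j < 0 → μ j ≠ 0) :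
    ∃ s : Γ(GrTilde.tilde 𝒫 𝒫 d, W), secΛ hW hμ s = l := by
  obtain ⟨k, i, m, hm, hi, hfrac⟩ := exists_frac_eq μ hμ d l hl
  have hi' : (i : ℤ) = ((k * tdeg n μ : ℕ) : ℤ) + d := by
    rw [hi, tdeg]
    push_cast
    rfl
  have hWk : ∀ y : W, monomial μ (1 : R) ^ k ∉ y.1.asHomogeneousIdeal :=
    fun y => pow_not_mem ((hW y.1).mp y.2) k
  refine ⟨fracSec 𝒫 d W hm (monomial_pow_mem n R μ k) hi' hWk, ?_⟩
  have hrep : IsRep W μ (fracSec 𝒫 d W hm (monomial_pow_mem n R μ k) hi' hWk) k i m := by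
    refine ⟨hm, ?_, fun y hy hf => ?_⟩
    · rw [hi']
      push_cast
      rfl
    · rfl
  rw [secΛ_eq hW hμ hrep, hfrac]

/-- compatibility with restriction. -/
theorem secΛ_res {W W' : (Proj 𝒫).Opens} {μ μ' ν : Fin (n + 1) →₀ ℕ} (hW : IsLocus n R W μ)
    (hW' : IsLocus n R W' μ') (hμ : 0 < tdeg n μ) (hμ' : 0 < tdeg n μ') (hν : μ = μ' + ν)
    (hle : W ≤ W') (s : Γ(GrTilde.tilde 𝒫 𝒫 d, W')) :
    secΛ hW hμ ((GrTilde.tilde 𝒫 𝒫 d).presheaf.map (homOfLE hle).op s) = secΛ hW' hμ' s := by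
  obtain ⟨k, i, m, h⟩ := exists_rep hW' hμ' s
  have hpow : monomial μ (1 : R) ^ k = monomial (k • ν) (1 : R) * monomial μ' (1 : R) ^ k := by
    rw [hν, monomial_pow, monomial_pow, monomial_mul, one_pow, one_mul, smul_add,
      add_comm (k • μ') (k • ν)]
  have hrep : IsRep W μ ((GrTilde.tilde 𝒫 𝒫 d).presheaf.map (homOfLE hle).op s) k
      (tdeg n (k • ν) + i) (monomial (k • ν) (1 : R) * m) := by
    refine ⟨SetLike.mul_mem_graded (monomial_mem n R (k • ν)) h.mem, ?_, fun y hy hf => ?_⟩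
    · have h1 := h.deg
      have h2 : tdeg n μ = tdeg n μ' + tdeg n ν := by
        rw [hν, tdeg, tdeg, tdeg, ← Finset.sum_add_distrib]
        rfl
      have h3 : tdeg n (k • ν) = k * tdeg n ν := by
        rw [tdeg, tdeg, Finset.mul_sum]
        rfl
      push_cast
      rw [h1, h2, h3]
      push_cast
      ring
    · have hf' : monomial μ' (1 : R) ^ k ∉ y.asHomogeneousIdeal := fun hcon => hf (by
        rw [hpow]
        exact Ideal.mul_mem_left _ _ hcon)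
      rw [secVal_map 𝒫 𝒫 d hle s y hy]
      change (secVal 𝒫 𝒫 d W' s y (hle hy) : Twist.Loc 𝒫 y) = _
      rw [h.val y (hle hy) hf', Localization.mk_eq_mk_iff, Localization.r_iff_exists]
      refine ⟨1, ?_⟩
      simp only [OneMemClass.coe_one, one_mul]
      rw [hpow]
      ring
  rw [secΛ_eq hW hμ hrep, secΛ_eq hW' hμ' h, hν, frac_monomial_mul]

/-- the restriction to `W` of the constant function `r`. -/
noncomputable def constOn (W : (Proj 𝒫).Opens) (r : R) : Γ(Proj 𝒫, W) :=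
  (Proj 𝒫).presheaf.map (homOfLE (le_top : W ≤ ⊤)).op (constFun 𝒫 r)

theorem IsRep.smul {W : (Proj 𝒫).Opens} {μ : Fin (n + 1) →₀ ℕ} (hW : IsLocus n R W μ)
    (hμ : 0 < tdeg n μ) {s : Γ(GrTilde.tilde 𝒫 𝒫 d, W)} {k i : ℕ}
    {m : MvPolynomial (Fin (n + 1)) R} (h : IsRep W μ s k i m) (r : R) :
    IsRep W μ (constOn W r • s) k i (r • m) := by
  refine ⟨Submodule.smul_mem _ r h.mem, h.deg, fun y hy hf => ?_⟩
  have hfy : monomial μ (1 : R) ∉ y.asHomogeneousIdeal := (hW y).mp hy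
  rw [secVal_smul']
  have h1 : funVal 𝒫 W (constOn W r) y hy = funVal 𝒫 ⊤ (constFun 𝒫 r) y trivial :=
    funVal_map 𝒫 le_top _ y hy
  rw [h1, funVal_constFun_val 𝒫 (monomial_mem n R μ) hμ r y hfy, h.val y hy hf,
    Localization.mk_mul, Localization.mk_eq_mk_iff, Localization.r_iff_exists]
  refine ⟨1, ?_⟩
  simp only [OneMemClass.coe_one, one_mul, Submonoid.coe_mul]
  rw [Algebra.smul_def]

theorem secΛ_smul {W : (Proj 𝒫).Opens} {μ : Fin (n + 1) →₀ ℕ} (hW : IsLocus n R W μ)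
    (hμ : 0 < tdeg n μ) (s : Γ(GrTilde.tilde 𝒫 𝒫 d, W)) (r : R) :
    secΛ hW hμ (constOn W r • s) = r • secΛ hW hμ s := by
  obtain ⟨k, i, m, h⟩ := exists_rep hW hμ s
  rw [secΛ_eq hW hμ (h.smul hW hμ r), secΛ_eq hW hμ h, frac_smul]

end Groth.Agent.Lib.T2H5.TwistSect
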