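import Groth.Agent.Lib.Helper16CechH1
import Groth.Agent.Lib.T2H5TwistSect
import Groth.Agent.Lib.T2H5CechLaurent
import Groth.Agent.Lib.T2H5CechCrit

/-!
# The Čech complex of `O(d)` on projective space for the standard covering (T2H5)
-/

set_option autoImplicit false
universe u

open CategoryTheory CategoryTheory.Limits AlgebraicGeometry TopologicalSpace Opposite MvPolynomial

namespace Groth.Agent.Lib.T2H5.CechPn

open Groth.Agent.Lib.Helper27GrTildeSect Groth.Agent.Lib.T2H5.LaurentAlg
  Groth.Agent.Lib.T2H5.TwistSect Groth.Agent.Lib.T2H5.CechComb Groth.Agent.Lib.T2H5.CechLaurent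
  Groth.Agent.Lib.Helper16.CechLow Groth.Agent.Lib.Helper16.CechH1

variable (n : ℕ) (R : Type u) [CommRing R] (d : ℤ)

local notation "𝒫" => CohB1.polyGrading n R

variable {n R}
variable {ι : Type u} (W : ι → (Proj (CohB1.polyGrading n R)).Opens) (v : ι ≃ Fin (n + 1))

/-- the exponent vector of the product of the variables of a tuple -/
noncomputable def expo {q : ℕ} (x : Fin (q + 1) → ι) : Fin (n + 1) →₀ ℕ :=
  ∑ k, Finsupp.single (v (x k)) 1

theorem tdeg_expo {q : ℕ} (x : Fin (q + 1) → ι) : tdeg n (expo v x) = q + 1 := by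
  classical
  unfold tdeg expo
  have h : ∀ j : Fin (n + 1), (∑ k, Finsupp.single (v (x k)) 1 : Fin (n + 1) →₀ ℕ) j =
      ∑ k, (Finsupp.single (v (x k)) 1 : Fin (n + 1) →₀ ℕ) j := fun j => Finsupp.finsetSum_apply _ _ _
  simp only [h]
  rw [Finset.sum_comm]
  simp [Finsupp.single_apply]

theorem expo_pos {q : ℕ} (x : Fin (q + 1) → ι) : 0 < tdeg n (expo v x) := by
  rw [tdeg_expo]
  omega

theorem expo_apply_ne_zero {q : ℕ} (x : Fin (q + 1) → ι) (j : Fin (n + 1))
    (h : expo v x j ≠ 0) : ∃ k, v (x k) = j := by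
  classical
  by_contra hcon
  push Not at hcon
  apply h
  unfold expo
  rw [Finsupp.finsetSum_apply]
  refine Finset.sum_eq_zero (fun k _ => ?_)
  rw [Finsupp.single_apply, if_neg (hcon k)]

theorem monomial_expo {q : ℕ} (x : Fin (q + 1) → ι) :
    monomial (expo v x) (1 : R) = ∏ k, (X (v (x k)) : MvPolynomial (Fin (n + 1)) R) := by
  unfold expo
  rw [monomial_sum_one]
  rfl

theorem expo_succAbove {q : ℕ} (x : Fin (q + 2) → ι) (i : Fin (q + 2)) :
    expo v x = expo v (x ∘ i.succAbove) + Finsupp.single (v (x i)) 1 := by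
  unfold expo
  rw [Fin.sum_univ_succAbove _ i]
  exact add_comm _ _

variable (hW : ∀ i, W i = Proj.basicOpen (CohB1.polyGrading n R)
  (X (v i) : MvPolynomial (Fin (n + 1)) R))

include hW in
theorem isLocus_Ux {q : ℕ} (x : Fin (q + 1) → ι) :
    IsLocus n R (Ux W x) (expo v x) := by
  intro y
  rw [monomial_expo]
  constructor
  · intro hy hmem
    obtain ⟨k, -, hk⟩ := (Ideal.IsPrime.prod_mem_iff (hp := y.isPrime)).mp hmem
    have hle1 : Ux W x ≤ W (x k) := Ux_le (X := (Proj 𝒫).carrier) W x k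
    have h1 : y ∈ W (x k) := hle1 hy
    rw [hW] at h1
    exact (ProjectiveSpectrum.mem_basicOpen 𝒫 _ y).mp h1 hk
  · intro hy
    have hle : Proj.basicOpen 𝒫 (∏ k, (X (v (x k)) : MvPolynomial (Fin (n + 1)) R)) ≤ Ux W x := by
      refine le_Ux (X := (Proj 𝒫).carrier) W x _ (fun k => ?_)
      intro z hz
      rw [hW]
      apply (ProjectiveSpectrum.mem_basicOpen 𝒫 _ z).mpr
      intro hk
      exact (ProjectiveSpectrum.mem_basicOpen 𝒫 _ z).mp hz
        (Ideal.prod_mem _ (Finset.mem_univ k) hk)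
    exact hle ((ProjectiveSpectrum.mem_basicOpen 𝒫 _ y).mpr hy)

theorem expo_apply_self_ne_zero {q : ℕ} (x : Fin (q + 1) → ι) (k : Fin (q + 1)) :
    expo v x (v (x k)) ≠ 0 := by
  classical
  unfold expo
  rw [Finsupp.finsetSum_apply]
  have h1 : (Finsupp.single (v (x k)) 1 : Fin (n + 1) →₀ ℕ) (v (x k)) ≤
      ∑ k', (Finsupp.single (v (x k')) 1 : Fin (n + 1) →₀ ℕ) (v (x k)) :=
    Finset.single_le_sum (f := fun k' => (Finsupp.single (v (x k')) 1 : Fin (n + 1) →₀ ℕ) (v (x k)))
      (fun _ _ => Nat.zero_le _) (Finset.mem_univ k)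
  rw [Finsupp.single_eq_same] at h1
  omega

/-- the abelian presheaf underlying `O(d)` -/
noncomputable abbrev PP : (Opens ↥(Proj (CohB1.polyGrading n R)))ᵒᵖ ⥤ AddCommGrpCat.{u} :=
  (GrTilde.tilde (CohB1.polyGrading n R) (CohB1.polyGrading n R) d).presheaf

/-- multidegrees -/
abbrev EE (n : ℕ) : Type := Fin (n + 1) →₀ ℤ

/-- the coefficients of the Laurent polynomial of a section over `U_x`, as an additive map. -/
noncomputable def secC {q : ℕ} (x : Fin (q + 1) → ι) :
    (PP (n := n) (R := R) d).obj (op (Ux W x)) →+ (EE n →₀ R) :=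
  AddMonoidHom.mk' (fun s => (secΛ (d := d) (isLocus_Ux W v hW x) (expo_pos v x) s).coeff) (by
    intro a b
    rw [secΛ_add]
    rfl)

theorem secC_apply {q : ℕ} (x : Fin (q + 1) → ι) (s : (PP (n := n) (R := R) d).obj (op (Ux W x))) :
    secC d W v hW x s = (secΛ (d := d) (isLocus_Ux W v hW x) (expo_pos v x) s).coeff := rfl

theorem secC_injective {q : ℕ} (x : Fin (q + 1) → ι) : Function.Injective (secC d W v hW x) := by
  intro a b hab
  apply secΛ_injective (isLocus_Ux W v hW x) (expo_pos v x)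
  exact AddMonoidAlgebra.coeff_injective hab

theorem secC_face {q : ℕ} (x : Fin (q + 2) → ι) (i : Fin (q + 2))
    (s : (PP (n := n) (R := R) d).obj (op (Ux W (x ∘ i.succAbove)))) :
    secC d W v hW x ((PP (n := n) (R := R) d).map (face W x i).op s) =
      secC d W v hW (x ∘ i.succAbove) s := by
  have hle : Ux W x ≤ Ux W (x ∘ i.succAbove) := (face W x i).le
  rw [map_hom_eq (X := (Proj 𝒫).carrier) (PP (n := n) (R := R) d) (face W x i).op hle,
    secC_apply, secC_apply]
  congr 1
  exact secΛ_res (isLocus_Ux W v hW x) (isLocus_Ux W v hW (x ∘ i.succAbove)) (expo_pos v x)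
    (expo_pos v _) (expo_succAbove v x i) hle s

/-- the set of indices where a multidegree is negative -/
def negSet (e : EE n) : Set ι := {i | e (v i) < 0}

/-- the total degree condition -/
def goodDeg (e : EE n) : Prop := ∑ j, e j = d

theorem secC_supp {q : ℕ} (x : Fin (q + 1) → ι) (s : (PP (n := n) (R := R) d).obj (op (Ux W x)))
    (e : EE n) (he : secC d W v hW x s e ≠ 0) : goodDeg d e ∧ negSet v e ⊆ Set.range x := by
  obtain ⟨h1, h2⟩ := coeff_secΛ_ne_zero (isLocus_Ux W v hW x) (expo_pos v x) s e he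
  refine ⟨h1, fun i hi => ?_⟩
  obtain ⟨k, hk⟩ := expo_apply_ne_zero v x (v i) (h2 (v i) hi)
  exact ⟨k, v.injective hk⟩

theorem exists_secC_eq {q : ℕ} (x : Fin (q + 1) → ι) (l : EE n →₀ R)
    (hl : ∀ e, l e ≠ 0 → goodDeg d e ∧ negSet v e ⊆ Set.range x) :
    ∃ s : (PP (n := n) (R := R) d).obj (op (Ux W x)), secC d W v hW x s = l := by
  obtain ⟨s, hs⟩ := exists_secΛ_eq (d := d) (isLocus_Ux W v hW x) (expo_pos v x)
    (AddMonoidAlgebra.ofCoeff l) (fun e he => by
      obtain ⟨h1, h2⟩ := hl e he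
      refine ⟨h1, fun j hj => ?_⟩
      have hmem : v.symm j ∈ negSet v e := by
        change e (v (v.symm j)) < 0
        rw [Equiv.apply_symm_apply]
        exact hj
      obtain ⟨k, hk⟩ := h2 hmem
      have := expo_apply_self_ne_zero v x k
      rw [hk, Equiv.apply_symm_apply] at this
      exact this)
  exact ⟨s, by rw [secC_apply, hs]⟩

/-- the cochain attached to a Čech cochain -/
noncomputable def toCoch (q : ℕ) (c : (CK W (PP (n := n) (R := R) d)).X q) : Coch ι (EE n →₀ R) q :=
  fun x => secC d W v hW x (pr W (PP (n := n) (R := R) d) q x c)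

theorem toCoch_injective (q : ℕ) : Function.Injective (toCoch d W v hW q) := by
  intro c c' h
  apply elt_ext W (PP (n := n) (R := R) d) q
  intro x
  exact secC_injective d W v hW x (congrFun h x)

theorem toCoch_zero (q : ℕ) : toCoch d W v hW q 0 = 0 := by
  funext x
  change secC d W v hW x (pr W (PP (n := n) (R := R) d) q x 0) = 0
  rw [map_zero, map_zero]

theorem toCoch_d (q : ℕ) (c : (CK W (PP (n := n) (R := R) d)).X q) :
    toCoch d W v hW (q + 1) ((CK W (PP (n := n) (R := R) d)).d q (q + 1) c) =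
      dd q (toCoch d W v hW q c) := by
  funext x
  change secC d W v hW x (pr W (PP (n := n) (R := R) d) (q + 1) x _) = _
  rw [d_pr_apply, map_sum, dd_apply]
  refine Finset.sum_congr rfl (fun i _ => ?_)
  rw [map_zsmul, secC_face]
  rfl

theorem lSupp_toCoch (q : ℕ) (c : (CK W (PP (n := n) (R := R) d)).X q) :
    LSupp (negSet v) (goodDeg d) (toCoch d W v hW q c) := fun x e he =>
  secC_supp d W v hW x _ e he

theorem exists_toCoch_eq (q : ℕ) (g : Coch ι (EE n →₀ R) q)
    (hg : LSupp (negSet v) (goodDeg d) g) :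
    ∃ c : (CK W (PP (n := n) (R := R) d)).X q, toCoch d W v hW q c = g := by
  choose s hs using fun x => exists_secC_eq d W v hW x (g x) (fun e he => hg x e he)
  refine ⟨mkElt W (PP (n := n) (R := R) d) q s, ?_⟩
  funext x
  change secC d W v hW x (pr W (PP (n := n) (R := R) d) q x (mkElt W _ q s)) = g x
  rw [pr_mkElt, hs]

section Vanishing

variable [Fintype ι]

include v in
theorem card_eq : Fintype.card ι = n + 1 := by
  rw [Fintype.card_congr v, Fintype.card_fin]

omit [Fintype ι] in
/-- everywhere negative multidegrees have degree at most `-(n+1)`. -/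
theorem le_of_negSet_eq_univ (e : EE n) (hg : goodDeg d e) (hneg : negSet v e = Set.univ) :
    d ≤ -((n : ℤ) + 1) := by
  have h1 : ∀ j : Fin (n + 1), e j ≤ -1 := by
    intro j
    have : v.symm j ∈ negSet v e := by
      rw [hneg]
      exact Set.mem_univ _
    change e (v (v.symm j)) < 0 at this
    rw [Equiv.apply_symm_apply] at this
    omega
  have h2 : ∑ j, e j ≤ ∑ _j : Fin (n + 1), (-1 : ℤ) := Finset.sum_le_sum (fun j _ => h1 j)
  rw [Finset.sum_const, Finset.card_univ, Fintype.card_fin] at h2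
  rw [← hg]
  simp only [nsmul_eq_mul, Nat.cast_add, Nat.cast_one, mul_neg, mul_one] at h2
  exact h2

include v hW in
/-- vanishing of the Čech cohomology of `O(d)` in degrees `0 < q`, `q ≠ n` (or `q = n` and
`d > -(n+1)`). -/
theorem isZero_homology_succ (q : ℕ) (h : q + 1 ≠ n ∨ -((n : ℤ) + 1) < d) :
    IsZero ((CK W (PP (n := n) (R := R) d)).homology (q + 1)) := by
  apply Groth.Agent.Lib.T2H5.CechCrit.isZero_homology_succ
  intro c hc
  have hcoc : dd (q + 1) (toCoch d W v hW (q + 1) c) = 0 := by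
    rw [← toCoch_d, hc, toCoch_zero]
  have hcase : q + 1 ≠ n ∨ (∀ e, goodDeg d e → negSet v e ≠ Set.univ) ∨
      ∃ σ₀ : Fin (q + 2) → ι, Function.Injective σ₀ ∧
        part (fun e => negSet v e = Set.univ) (toCoch d W v hW (q + 1) c) σ₀ = 0 := by
    rcases h with h | h
    · exact Or.inl h
    · refine Or.inr (Or.inl (fun e hg hneg => ?_))
      have := le_of_negSet_eq_univ d v e hg hneg
      omega
  obtain ⟨g, hg_s, hg⟩ := exists_cobound (card_eq v) q (toCoch d W v hW (q + 1) c)
    (lSupp_toCoch d W v hW (q + 1) c) hcoc hcase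
  obtain ⟨b, hb⟩ := exists_toCoch_eq d W v hW q g hg_s
  refine ⟨b, toCoch_injective d W v hW (q + 1) ?_⟩
  rw [toCoch_d, hb, hg]

include v hW in
/-- vanishing of `Ȟ^0` of `O(d)` for `d < 0` (and `n ≥ 1`). -/
theorem isZero_homology_zero (hn : 1 ≤ n) (hd : d < 0) :
    IsZero ((CK W (PP (n := n) (R := R) d)).homology 0) := by
  apply Groth.Agent.Lib.T2H5.CechCrit.isZero_homology_zero
  intro c hc
  have hcoc : dd 0 (toCoch d W v hW 0 c) = 0 := by
    rw [← toCoch_d, hc, toCoch_zero]
  have h0 := eq_zero_of_cocycle_zero (by rw [card_eq v]; omega) (toCoch d W v hW 0 c)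
    (lSupp_toCoch d W v hW 0 c) hcoc (fun e hg => by
      by_contra hcon
      rw [Set.not_nonempty_iff_eq_empty] at hcon
      have h1 : ∀ j : Fin (n + 1), 0 ≤ e j := by
        intro j
        by_contra hj
        push Not at hj
        have : v.symm j ∈ negSet v e := by
          change e (v (v.symm j)) < 0
          rw [Equiv.apply_symm_apply]
          exact hj
        rw [hcon] at this
        exact this
      have h2 : (0 : ℤ) ≤ ∑ j, e j := Finset.sum_nonneg (fun j _ => h1 j)
      rw [hg] at h2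
      omega)
  apply toCoch_injective d W v hW 0
  rw [h0, toCoch_zero]

end Vanishing

end Groth.Agent.Lib.T2H5.CechPn
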