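import Groth.Agent.S0013
import Groth.Agent.S0022
import Groth.Agent.Lib.T2H5CechPn
import Groth.Agent.Lib.Helper27TwistAmple
import Groth.Agent.Lib.Helper20ParaF6

/-!
# Vanishing of the cohomology of `O(d)` on projective space (T2H5)
-/

set_option autoImplicit false
universe u

open CategoryTheory CategoryTheory.Limits AlgebraicGeometry TopologicalSpace Opposite MvPolynomial

namespace Groth.Agent.Lib.T2H5.PnVanish

open Groth.Agent.Lib.Helper27GrTildeSect Groth.Agent.Lib.T2H5.CechPn
  Groth.Agent.Lib.Helper16.CechLow

variable (n : ℕ) (R : Type u) [CommRing R]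

/-- the index type of the standard covering -/
abbrev Idx : Type u := ULift.{u} (Fin (n + 1))

/-- the standard covering of projective space -/
noncomputable def stdU : Idx n → (Proj (CohB1.polyGrading n R)).Opens :=
  fun i => Proj.basicOpen (CohB1.polyGrading n R) (X i.down : MvPolynomial (Fin (n + 1)) R)

/-- the bijection of the index type with `Fin (n + 1)` -/
def idxEquiv : Idx n ≃ Fin (n + 1) := Equiv.ulift

theorem stdU_eq (i : Idx n) : stdU n R i = Proj.basicOpen (CohB1.polyGrading n R)
    (X (idxEquiv n i) : MvPolynomial (Fin (n + 1)) R) := rfl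

theorem iSup_stdU : ⨆ i, stdU n R i = ⊤ := by
  have h := Proj.iSup_basicOpen_eq_top (CohB1.polyGrading n R)
    (fun k : Fin (n + 1) => (X k : MvPolynomial (Fin (n + 1)) R))
    (Groth.Agent.S0022.irrelevant_le n R)
  rw [eq_top_iff, ← h]
  exact iSup_le (fun k => le_iSup_of_le (⟨k⟩ : Idx n) le_rfl)

theorem isAffineOpen_stdU (i : Idx n) : IsAffineOpen (stdU n R i) :=
  Proj.isAffineOpen_basicOpen (CohB1.polyGrading n R) _ (isHomogeneous_X R i.down) Nat.one_pos

theorem isAffineOpen_iInf (s : Finset (Idx n)) (hs : s.Nonempty) :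
    IsAffineOpen (⨅ i ∈ s, stdU n R i) := by
  classical
  have hsep : IsAffineHom (Limits.pullback.diagonal
      (Limits.terminal.from (Proj (CohB1.polyGrading n R)))) := inferInstance
  induction hs using Finset.Nonempty.cons_induction with
  | singleton a =>
    simp only [Finset.mem_singleton, iInf_iInf_eq_left]
    exact isAffineOpen_stdU n R a
  | cons a s ha hs ih =>
    rw [Finset.cons_eq_insert, Finset.iInf_insert]
    exact @IsAffineOpen.inf (Proj (CohB1.polyGrading n R)) hsep _ _ (isAffineOpen_stdU n R a) ih

instance isQCoh_twist (d : ℤ) : Coh.IsQCoh (Twist.twistProjSpace n R d) :=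
  isQuasicoherent_tilde (CohB1.polyGrading n R) (CohB1.polyGrading n R) d

/-- Čech cohomology of the standard covering computes the cohomology of `O(d)`. -/
theorem nonempty_cech_equiv (d : ℤ) (q : ℕ) :
    Nonempty (↑((CK (stdU n R) (PP (n := n) (R := R) d)).homology q) ≃+
      Coh.HH (CohB1.ProjSpace n R) (Twist.twistProjSpace n R d) q) :=
  Groth.Agent.S0013.result (CohB1.ProjSpace n R) (stdU n R) (iSup_stdU n R) (isAffineOpen_iInf n R)
    (Twist.twistProjSpace n R d) q

/-- the cohomology of `O(d)` on projective space vanishes outside of the two known ranges. -/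
theorem subsingleton_HH_twist (d : ℤ) (q : ℕ)
    (h₀ : ¬ (q = 0 ∧ 0 ≤ d)) (hn : ¬ (q = n ∧ d ≤ -((n : ℤ) + 1))) :
    Subsingleton (Coh.HH (CohB1.ProjSpace n R) (Twist.twistProjSpace n R d) q) := by
  by_cases hqn : n < q
  · exact Groth.Agent.S0022.result n R (Twist.twistProjSpace n R d) q hqn
  obtain ⟨e⟩ := nonempty_cech_equiv n R d q
  suffices h : IsZero ((CK (stdU n R) (PP (n := n) (R := R) d)).homology q) by
    have := AddCommGrpCat.subsingleton_of_isZero h
    exact e.symm.injective.subsingleton
  cases q with
  | zero =>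
    have hd : d < 0 := by
      by_contra hcon
      push Not at hcon
      exact h₀ ⟨rfl, hcon⟩
    have hn1 : 1 ≤ n := by
      by_contra hcon
      have : n = 0 := by omega
      subst this
      exact hn ⟨rfl, by push_cast; omega⟩
    exact isZero_homology_zero d (stdU n R) (idxEquiv n) (stdU_eq n R) hn1 hd
  | succ q =>
    refine isZero_homology_succ d (stdU n R) (idxEquiv n) (stdU_eq n R) q ?_
    by_cases hq : q + 1 = n
    · right
      by_contra hcon
      push Not at hcon
      exact hn ⟨hq, hcon⟩
    · exact Or.inl hq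

end Groth.Agent.Lib.T2H5.PnVanish
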