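import Mathlib

/-!
# T2H5EulerAlg: lengths along exact sequences and finite differences (helper5)
-/

set_option autoImplicit false
set_option linter.style.haveILetI false
universe u v

namespace Groth.Agent.Lib.T2H5.EulerAlg

section Len

variable (A : Type u) [Ring A]

/-- the length of a module as an integer (zero when infinite) -/
noncomputable def lenZ (M : Type v) [AddCommGroup M] [Module A M] : ℤ :=
  ((Module.length A M).toNat : ℤ)

variable {A}

theorem lenZ_congr {M N : Type v} [AddCommGroup M] [Module A M] [AddCommGroup N] [Module A N]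
    (e : M ≃ₗ[A] N) : lenZ A M = lenZ A N := by
  unfold lenZ
  rw [e.length_eq]

theorem lenZ_of_subsingleton (M : Type v) [AddCommGroup M] [Module A M] [Subsingleton M] :
    lenZ A M = 0 := by
  unfold lenZ
  rw [Module.length_eq_zero]
  rfl

theorem lenZ_eq_ker_add_range {M N : Type v} [AddCommGroup M] [Module A M] [AddCommGroup N]
    [Module A N] (h : IsFiniteLength A M) (f : M →ₗ[A] N) :
    lenZ A M = lenZ A (LinearMap.ker f) + lenZ A (LinearMap.range f) := by
  have h1 := Module.length_eq_add_of_exact (LinearMap.ker f).subtype f.rangeRestrict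
    (Submodule.subtype_injective _) f.surjective_rangeRestrict
    (by
      rw [LinearMap.exact_iff]
      rw [LinearMap.ker_rangeRestrict, Submodule.range_subtype])
  have hM : Module.length A M ≠ ⊤ := Module.length_ne_top_iff.2 h
  have hK : Module.length A (LinearMap.ker f) ≠ ⊤ := by
    intro hh
    rw [hh, top_add] at h1
    exact hM h1
  have hR : Module.length A (LinearMap.range f) ≠ ⊤ := by
    intro hh
    rw [hh, add_top] at h1
    exact hM h1
  unfold lenZ
  rw [h1, ENat.toNat_add hK hR]
  push_cast
  rfl

theorem lenZ_eq_of_eq {M : Type v} [AddCommGroup M] [Module A M] {P Q : Submodule A M}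
    (h : P = Q) : lenZ A P = lenZ A Q := by
  subst h
  rfl

theorem lenZ_bot {M : Type v} [AddCommGroup M] [Module A M] :
    lenZ A (⊥ : Submodule A M) = 0 :=
  lenZ_of_subsingleton _

end Len

/-- the telescoping identity behind the additivity of Euler characteristics -/
theorem telescope (a b c x1 : ℕ → ℤ) (h0 : x1 0 = a 0) (h1 : ∀ i, x1 (i + 1) = c i + a (i + 1))
    (N : ℕ) :
    ∑ i ∈ Finset.range (N + 1), (-1 : ℤ) ^ i * ((a i + b i) - x1 i - (b i + c i)) =
      -((-1 : ℤ) ^ N * c N) := by
  induction N with
  | zero => simp [h0]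
  | succ N ih =>
    rw [Finset.sum_range_succ, ih, h1, pow_succ]
    ring

section Poly

open Polynomial

/-- every rational polynomial is a forward difference -/
theorem exists_antidifference (Q : ℚ[X]) :
    ∃ P : ℚ[X], ∀ x : ℚ, P.eval (1 + x) = P.eval x + Q.eval x := by
  induction Q using Polynomial.induction_on' with
  | add p q hp hq =>
    obtain ⟨P1, h1⟩ := hp
    obtain ⟨P2, h2⟩ := hq
    refine ⟨P1 + P2, fun x => ?_⟩
    rw [eval_add, eval_add, eval_add, h1, h2]
    ring
  | monomial k c =>
    refine ⟨C (c / ((k : ℚ) + 1)) * Polynomial.bernoulli (k + 1), fun x => ?_⟩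
    rw [eval_mul, eval_mul, eval_C, Polynomial.bernoulli_eval_one_add, eval_monomial]
    have hk : ((k : ℚ) + 1) ≠ 0 := by positivity
    push_cast
    rw [eval_C]
    field_simp

/-- a function on the integers with a vanishing iterated difference is a polynomial -/
theorem exists_polynomial_of_difference_eq_zero (N : ℕ) :
    ∀ (f : ℤ → ℚ), (∀ a : ℤ, ∑ p ∈ Finset.range (N + 1),
        (-1 : ℚ) ^ p * (N.choose p : ℚ) * f (a + p) = 0) →
      ∃ P : ℚ[X], ∀ n : ℤ, f n = P.eval (n : ℚ) := by
  induction N with
  | zero =>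
    intro f h
    refine ⟨0, fun n => ?_⟩
    have := h n
    simpa using this
  | succ N ih =>
    intro f h
    have hg : ∀ a : ℤ, ∑ p ∈ Finset.range (N + 1),
        (-1 : ℚ) ^ p * (N.choose p : ℚ) * (f (a + p + 1) - f (a + p)) = 0 := by
      intro a
      have h1 := h a
      rw [Finset.sum_range_succ'] at h1
      have h2 : ∑ p ∈ Finset.range (N + 1),
          (-1 : ℚ) ^ (p + 1) * ((N + 1).choose (p + 1) : ℚ) * f (a + ((p + 1 : ℕ) : ℤ)) =
          - ∑ p ∈ Finset.range (N + 1), (-1 : ℚ) ^ p * (N.choose p : ℚ) * f (a + p + 1)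
          + ∑ p ∈ Finset.range (N + 1),
            (-1 : ℚ) ^ (p + 1) * (N.choose (p + 1) : ℚ) * f (a + ((p + 1 : ℕ) : ℤ)) := by
        rw [← Finset.sum_neg_distrib, ← Finset.sum_add_distrib]
        apply Finset.sum_congr rfl
        intro p _
        rw [Nat.choose_succ_succ]
        push_cast
        rw [add_assoc]
        ring
      have h3 : ∑ p ∈ Finset.range (N + 1),
            (-1 : ℚ) ^ (p + 1) * (N.choose (p + 1) : ℚ) * f (a + ((p + 1 : ℕ) : ℤ)) + f a =
          ∑ p ∈ Finset.range (N + 1), (-1 : ℚ) ^ p * (N.choose p : ℚ) * f (a + p) := by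
        have h4 := Finset.sum_range_succ' (fun p => (-1 : ℚ) ^ p * (N.choose p : ℚ) * f (a + p))
          (N + 1)
        rw [Finset.sum_range_succ] at h4
        simp only [Nat.choose_succ_self, Nat.cast_zero, mul_zero, zero_mul, add_zero] at h4
        rw [h4]
        simp
      rw [h2] at h1
      simp only [Nat.choose_zero_right, Nat.cast_one, mul_one, pow_zero, one_mul, Nat.cast_zero,
        add_zero] at h1
      have h5 : ∑ p ∈ Finset.range (N + 1),
          (-1 : ℚ) ^ p * (N.choose p : ℚ) * (f (a + p + 1) - f (a + p)) =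
          ∑ p ∈ Finset.range (N + 1), (-1 : ℚ) ^ p * (N.choose p : ℚ) * f (a + p + 1) -
          ∑ p ∈ Finset.range (N + 1), (-1 : ℚ) ^ p * (N.choose p : ℚ) * f (a + p) := by
        rw [← Finset.sum_sub_distrib]
        apply Finset.sum_congr rfl
        intro p _
        ring
      rw [h5, ← h3]
      linarith
    obtain ⟨Q, hQ⟩ := ih (fun a => f (a + 1) - f a) (by
      intro a
      have := hg a
      convert this using 3)
    obtain ⟨P, hP⟩ := exists_antidifference Q
    -- `f - P` is constant
    have hstep : ∀ n : ℤ, f (n + 1) - P.eval ((n + 1 : ℤ) : ℚ) = f n - P.eval (n : ℚ) := by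
      intro n
      have h1 := hQ n
      have h2 := hP (n : ℚ)
      push_cast
      rw [add_comm (n : ℚ) 1, h2]
      linarith
    have hconst : ∀ n : ℤ, f n - P.eval (n : ℚ) = f 0 - P.eval ((0 : ℤ) : ℚ) := by
      intro n
      induction n using Int.induction_on with
      | zero => rfl
      | succ i hi => rw [hstep, hi]
      | pred i hi =>
        have := hstep (-(i : ℤ) - 1)
        rw [sub_add_cancel] at this
        rw [← this, hi]
    refine ⟨P + C (f 0 - P.eval ((0 : ℤ) : ℚ)), fun n => ?_⟩
    rw [eval_add, eval_C]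
    have := hconst n
    linarith

end Poly

end Groth.Agent.Lib.T2H5.EulerAlg
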