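import Mathlib
import Groth.Agent.Lib.T2H5HHLes
import Groth.Agent.Lib.Helper27PnSections

/-!
# T2H5HHLes2: more consequences of the long exact cohomology sequence, linearly (helper5)
-/

set_option autoImplicit false
universe u

namespace Groth.Agent.Lib.T2H5.HHLes

open CategoryTheory CategoryTheory.Limits AlgebraicGeometry Abelian TopologicalSpace Opposite
open Groth.Agent.Lib.Helper23.QCohLocal

variable (A : Type u) [CommRing A] {X : Scheme.{u}} [X.Over (Spec (CommRingCat.of A))]

theorem HHlin_apply {F G : X.Modules} (φ : F ⟶ G) (r : ℕ) (x : Coh.HH X F r) :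
    Canon.HHlin A φ r x = Ext.comp x (Ext.mk₀ ((toAbF X).map φ)) (add_zero r) := rfl

/-- if `H^i(X₃) = 0` then `H^i(X₁) → H^i(X₂)` is surjective -/
theorem surjective_f_of_subsingleton (S : ShortComplex X.Modules) (hS : S.ShortExact) (i : ℕ)
    (h3 : Subsingleton (Coh.HH X S.X₃ i)) : Function.Surjective (Canon.HHlin A S.f i) := by
  intro x
  obtain ⟨y, hy⟩ := Ext.covariant_sequence_exact₂ _ (shortExact_toAbF S hS) x
    (@Subsingleton.elim _ h3 _ _)
  exact ⟨y, hy⟩

/-- if `H^i(X₂) → H^i(X₃)` is surjective then `H^{i+1}(X₁) → H^{i+1}(X₂)` is injective -/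
theorem injective_f_succ_of_surjective_g (S : ShortComplex X.Modules) (hS : S.ShortExact) (i : ℕ)
    (hg : Function.Surjective (Canon.HHlin A S.g i)) :
    Function.Injective (Canon.HHlin A S.f (i + 1)) := by
  rw [← LinearMap.ker_eq_bot, LinearMap.ker_eq_bot']
  intro x hx
  obtain ⟨y, hy⟩ := Ext.covariant_sequence_exact₁ _ (shortExact_toAbF S hS) x hx rfl
  obtain ⟨z, rfl⟩ := hg y
  have h0 : δLin (A := A) S hS i (Canon.HHlin A S.g i z) = 0 := by
    have : Canon.HHlin A S.g i z ∈ LinearMap.ker (δLin (A := A) S hS i) := by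
      rw [exact₃]
      exact ⟨z, rfl⟩
    exact this
  exact hy.symm.trans h0

/-- if `H^{i+1}(X₁) → H^{i+1}(X₂)` is injective then `H^i(X₂) → H^i(X₃)` is surjective -/
theorem surjective_g_of_injective_f_succ (S : ShortComplex X.Modules) (hS : S.ShortExact) (i : ℕ)
    (hf : Function.Injective (Canon.HHlin A S.f (i + 1))) :
    Function.Surjective (Canon.HHlin A S.g i) := by
  intro y
  have h1 : Canon.HHlin A S.f (i + 1) (δLin (A := A) S hS i y) = 0 := by
    change (y.comp (shortExact_toAbF S hS).extClass rfl).comp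
      (Ext.mk₀ ((toAbF X).map S.f)) (add_zero (i + 1)) = 0
    exact (Ext.comp_assoc_of_third_deg_zero y (shortExact_toAbF S hS).extClass
      (Ext.mk₀ ((toAbF X).map S.f)) rfl).trans
      ((congrArg (fun z => y.comp z rfl) (shortExact_toAbF S hS).extClass_comp).trans
        (Ext.comp_zero y _ _ _ _))
  have h2 : δLin (A := A) S hS i y = 0 := hf (h1.trans (map_zero _).symm)
  have h3 : y ∈ LinearMap.range (Canon.HHlin A S.g i) := by
    rw [← exact₃]
    exact h2
  exact h3

/-- surjectivity on `H⁰` is surjectivity on global sections -/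
theorem surjective_HHlin_zero_iff {M N : X.Modules} (φ : M ⟶ N) :
    Function.Surjective (Canon.HHlin A φ 0) ↔ Function.Surjective (φ.app ⊤) := by
  have nat : ∀ x : Coh.HH X M 0,
      φ.app ⊤ (Sheaf.H.equiv₀ (Coh.toAb M) isTerminalTop x) =
        Sheaf.H.equiv₀ (Coh.toAb N) isTerminalTop (Canon.HHlin A φ 0 x) := fun x =>
    Sheaf.H.equiv₀_naturality isTerminalTop ((toAbF X).map φ) x
  constructor
  · intro h s
    obtain ⟨x, hx⟩ := h ((Sheaf.H.equiv₀ (Coh.toAb N) isTerminalTop).symm s)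
    refine ⟨Sheaf.H.equiv₀ (Coh.toAb M) isTerminalTop x, ?_⟩
    exact (nat x).trans ((congrArg _ hx).trans
      ((Sheaf.H.equiv₀ (Coh.toAb N) isTerminalTop).apply_symm_apply s))
  · intro h y
    obtain ⟨t, ht⟩ := h (Sheaf.H.equiv₀ (Coh.toAb N) isTerminalTop y)
    refine ⟨(Sheaf.H.equiv₀ (Coh.toAb M) isTerminalTop).symm t, ?_⟩
    apply (Sheaf.H.equiv₀ (Coh.toAb N) isTerminalTop).injective
    refine (nat _).symm.trans ?_
    exact (congrArg (φ.app ⊤)
      ((Sheaf.H.equiv₀ (Coh.toAb M) isTerminalTop).apply_symm_apply t)).trans ht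

end Groth.Agent.Lib.T2H5.HHLes
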