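import Mathlib
import Groth.Agent.Lib.T2H5EulerAlg
import Groth.Agent.Lib.T2H5HHLes2

/-!
# T2H5EulerLen: additivity of the length Euler characteristic (helper5)
-/

set_option autoImplicit false
set_option linter.style.haveILetI false
universe u

namespace Groth.Agent.Lib.T2H5.EulerLen

open CategoryTheory CategoryTheory.Limits AlgebraicGeometry Abelian
open Groth.Agent.Lib.Helper23.QCohLocal Groth.Agent.Lib.T2H5.HHLes Groth.Agent.Lib.T2H5.EulerAlg

variable {A : Type u} [CommRing A] {X : Scheme.{u}} [X.Over (Spec (CommRingCat.of A))]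

/-- exactness at `H^i(S.X₂)` -/
theorem exact₂ (S : ShortComplex X.Modules) (hS : S.ShortExact) (i : ℕ) :
    LinearMap.ker (Canon.HHlin A S.g i) = LinearMap.range (Canon.HHlin A S.f i) := by
  ext x
  rw [LinearMap.mem_ker, LinearMap.mem_range]
  constructor
  · intro hx
    obtain ⟨y, hy⟩ := Ext.covariant_sequence_exact₂ _ (shortExact_toAbF S hS) x hx
    exact ⟨y, hy⟩
  · rintro ⟨y, rfl⟩
    change (y.comp (Ext.mk₀ (S.map (toAbF X)).f) (add_zero i)).comp
      (Ext.mk₀ (S.map (toAbF X)).g) (add_zero i) = 0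
    have hz : (Ext.mk₀ (S.map (toAbF X)).f).comp (Ext.mk₀ (S.map (toAbF X)).g) (zero_add 0) = 0 := by
      rw [Ext.mk₀_comp_mk₀, (S.map (toAbF X)).zero, Ext.mk₀_zero]
    exact (Ext.comp_assoc_of_second_deg_zero y (Ext.mk₀ (S.map (toAbF X)).f)
      (Ext.mk₀ (S.map (toAbF X)).g) (add_zero i)).trans
      ((congrArg (fun z => y.comp z (add_zero i)) hz).trans (Ext.comp_zero y _ _ _ _))

/-- exactness at `H^{i+1}(S.X₁)` -/
theorem exact₁ (S : ShortComplex X.Modules) (hS : S.ShortExact) (i : ℕ) :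
    LinearMap.ker (Canon.HHlin A S.f (i + 1)) = LinearMap.range (δLin (A := A) S hS i) := by
  ext x
  rw [LinearMap.mem_ker, LinearMap.mem_range]
  constructor
  · intro hx
    obtain ⟨y, hy⟩ := Ext.covariant_sequence_exact₁ _ (shortExact_toAbF S hS) x hx rfl
    exact ⟨y, hy⟩
  · rintro ⟨y, rfl⟩
    change (y.comp (shortExact_toAbF S hS).extClass rfl).comp
      (Ext.mk₀ ((toAbF X).map S.f)) (add_zero (i + 1)) = 0
    exact (Ext.comp_assoc_of_third_deg_zero y (shortExact_toAbF S hS).extClass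
      (Ext.mk₀ ((toAbF X).map S.f)) rfl).trans
      ((congrArg (fun z => y.comp z rfl) (shortExact_toAbF S hS).extClass_comp).trans
        (Ext.comp_zero y _ _ _ _))

/-- injectivity on `H^0` -/
theorem ker_f_zero (S : ShortComplex X.Modules) (hS : S.ShortExact) :
    LinearMap.ker (Canon.HHlin A S.f 0) = ⊥ := by
  rw [LinearMap.ker_eq_bot]
  haveI : Mono ((toAbF X).map S.f) := (shortExact_toAbF S hS).mono_f
  exact Ext.postcomp_mk₀_injective_of_mono _ ((toAbF X).map S.f)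

variable (A X)

/-- the length Euler characteristic in degrees `≤ r` -/
noncomputable def chi (G : X.Modules) (r : ℕ) : ℤ :=
  ∑ j ∈ Finset.range (r + 1), (-1 : ℤ) ^ j * lenZ A (Coh.HH X G j)

variable {A X}

/-- additivity of the length Euler characteristic -/
theorem chi_additive (S : ShortComplex X.Modules) (hS : S.ShortExact) (r : ℕ)
    (h1 : ∀ j, IsFiniteLength A (Coh.HH X S.X₁ j)) (h2 : ∀ j, IsFiniteLength A (Coh.HH X S.X₂ j))
    (h3 : ∀ j, IsFiniteLength A (Coh.HH X S.X₃ j))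
    (hz : Subsingleton (Coh.HH X S.X₁ (r + 1))) :
    chi A X S.X₂ r = chi A X S.X₁ r + chi A X S.X₃ r := by
  let a : ℕ → ℤ := fun i => lenZ A (LinearMap.range (Canon.HHlin A S.f i))
  let b : ℕ → ℤ := fun i => lenZ A (LinearMap.range (Canon.HHlin A S.g i))
  let c : ℕ → ℤ := fun i => lenZ A (LinearMap.range (δLin (A := A) S hS i))
  let x1 : ℕ → ℤ := fun i => lenZ A (Coh.HH X S.X₁ i)
  have e2 : ∀ i, lenZ A (Coh.HH X S.X₂ i) = a i + b i := by
    intro i
    rw [lenZ_eq_ker_add_range (h2 i) (Canon.HHlin A S.g i), lenZ_eq_of_eq (exact₂ S hS i)]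
  have e3 : ∀ i, lenZ A (Coh.HH X S.X₃ i) = b i + c i := by
    intro i
    rw [lenZ_eq_ker_add_range (h3 i) (δLin (A := A) S hS i), lenZ_eq_of_eq (exact₃ S hS i)]
  have e10 : x1 0 = a 0 := by
    change lenZ A (Coh.HH X S.X₁ 0) = _
    rw [lenZ_eq_ker_add_range (h1 0) (Canon.HHlin A S.f 0), lenZ_eq_of_eq (ker_f_zero S hS),
      lenZ_bot, zero_add]
  have e1 : ∀ i, x1 (i + 1) = c i + a (i + 1) := by
    intro i
    change lenZ A (Coh.HH X S.X₁ (i + 1)) = _
    rw [lenZ_eq_ker_add_range (h1 (i + 1)) (Canon.HHlin A S.f (i + 1)),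
      lenZ_eq_of_eq (exact₁ S hS i)]
  have hc : c r = 0 := by
    haveI := hz
    exact lenZ_of_subsingleton _
  have key := telescope a b c x1 e10 e1 r
  rw [hc, mul_zero, neg_zero] at key
  unfold chi
  have : ∑ j ∈ Finset.range (r + 1), (-1 : ℤ) ^ j * lenZ A (Coh.HH X S.X₂ j) -
      (∑ j ∈ Finset.range (r + 1), (-1 : ℤ) ^ j * lenZ A (Coh.HH X S.X₁ j) +
        ∑ j ∈ Finset.range (r + 1), (-1 : ℤ) ^ j * lenZ A (Coh.HH X S.X₃ j)) = 0 := by
    rw [← Finset.sum_add_distrib, ← Finset.sum_sub_distrib, ← key]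
    apply Finset.sum_congr rfl
    intro j _
    rw [e2, e3]
    ring
  linarith

end Groth.Agent.Lib.T2H5.EulerLen
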