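import Mathlib
import Groth.Agent.Lib.Helper2RelTildeExact

/-!
# T2H5GrSyzLoc: exactness and functoriality of `M ↦ M(n)~` without decompositions (helper5)

The pieces `ℳ : ℕ → τ` are only assumed compatible with the grading of the ring; what is needed of
a decomposition is isolated in two hypotheses (homogeneous preimages, homogeneous annihilators).
-/

set_option autoImplicit false
set_option linter.style.haveILetI false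
set_option linter.unusedSectionVars false
universe u

open CategoryTheory CategoryTheory.Limits AlgebraicGeometry TopologicalSpace Opposite

namespace Groth.Agent.Lib.T2H5.GrSyzLoc

open Groth.Agent.Lib.Helper2GrModSect

variable {A σ : Type u} [CommRing A] [SetLike σ A] [AddSubgroupClass σ A] (𝒜 : ℕ → σ)
  [GradedRing 𝒜]
variable {M₁ τ₁ : Type u} [AddCommGroup M₁] [Module A M₁] [SetLike τ₁ M₁] [AddSubgroupClass τ₁ M₁]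
  (ℳ₁ : ℕ → τ₁) [SetLike.GradedSMul 𝒜 ℳ₁]
variable {M₂ τ₂ : Type u} [AddCommGroup M₂] [Module A M₂] [SetLike τ₂ M₂] [AddSubgroupClass τ₂ M₂]
  (ℳ₂ : ℕ → τ₂) [SetLike.GradedSMul 𝒜 ℳ₂]
variable {M₃ τ₃ : Type u} [AddCommGroup M₃] [Module A M₃] [SetLike τ₃ M₃] [AddSubgroupClass τ₃ M₃]
  (ℳ₃ : ℕ → τ₃) [SetLike.GradedSMul 𝒜 ℳ₃]

theorem sec_ext' (n : ℤ) (W : (Proj 𝒜).Opens) (s s' : Γ(GrMod.tilde 𝒜 ℳ₁ n, W))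
    (h : ∀ (y : ProjectiveSpectrum 𝒜) (hy : y ∈ W),
      secVal 𝒜 ℳ₁ n W s y hy = secVal 𝒜 ℳ₁ n W s' y hy) : s = s' := by
  have h1 : toSect 𝒜 ℳ₁ n W s = toSect 𝒜 ℳ₁ n W s' :=
    Subtype.ext (funext fun y => Subtype.ext (h y.1 y.2))
  exact h1

theorem secVal_map_app (u : M₁ →ₗ[A] M₂) (hu : ∀ (i : ℕ) (m : M₁), m ∈ ℳ₁ i → u m ∈ ℳ₂ i) (n : ℤ)
    (W : (Proj 𝒜).Opens) (s : Γ(GrMod.tilde 𝒜 ℳ₁ n, W)) (y : ProjectiveSpectrum 𝒜) (hy : y ∈ W) :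
    secVal 𝒜 ℳ₂ n W ((GrMod.map 𝒜 u hu n).app W s) y hy =
      GrMod.locMap u y (secVal 𝒜 ℳ₁ n W s y hy) := rfl

theorem secVal_zero' (n : ℤ) (W : (Proj 𝒜).Opens) (y : ProjectiveSpectrum 𝒜) (hy : y ∈ W) :
    secVal 𝒜 ℳ₁ n W 0 y hy = 0 := rfl

theorem secVal_add' (n : ℤ) (W : (Proj 𝒜).Opens) (s s' : Γ(GrMod.tilde 𝒜 ℳ₁ n, W))
    (y : ProjectiveSpectrum 𝒜) (hy : y ∈ W) :
    secVal 𝒜 ℳ₁ n W (s + s') y hy = secVal 𝒜 ℳ₁ n W s y hy + secVal 𝒜 ℳ₁ n W s' y hy := rfl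

/-- local exactness on sections of `M₁(n)~ → M₂(n)~ → M₃(n)~` -/
theorem map_locally_exact' (u : M₁ →ₗ[A] M₂) (hu : ∀ (i : ℕ) (m : M₁), m ∈ ℳ₁ i → u m ∈ ℳ₂ i)
    (v : M₂ →ₗ[A] M₃) (hv : ∀ (i : ℕ) (m : M₂), m ∈ ℳ₂ i → v m ∈ ℳ₃ i)
    (hex : Function.Exact u v)
    (H1 : ∀ (i : ℕ) (m : M₁), u m ∈ ℳ₂ i → ∃ m' ∈ ℳ₁ i, u m' = u m)
    (H3 : ∀ (y : ProjectiveSpectrum 𝒜) (i : ℕ) (m : M₂), m ∈ ℳ₂ i → ∀ c : A,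
      c ∉ y.asHomogeneousIdeal → c • v m = 0 →
        ∃ (e : ℕ) (c' : A), c' ∈ 𝒜 e ∧ c' ∉ y.asHomogeneousIdeal ∧ c' • v m = 0)
    (n : ℤ) (O : (Proj 𝒜).Opens) (s : Γ(GrMod.tilde 𝒜 ℳ₂ n, O))
    (hs : (GrMod.map 𝒜 v hv n).app O s = 0) (y : ProjectiveSpectrum 𝒜) (hy : y ∈ O) :
    ∃ (O' : (Proj 𝒜).Opens) (hO' : O' ≤ O), y ∈ O' ∧ ∃ t : Γ(GrMod.tilde 𝒜 ℳ₁ n, O'),
      (GrMod.map 𝒜 u hu n).app O' t = (GrMod.tilde 𝒜 ℳ₂ n).presheaf.map (homOfLE hO').op s := by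
  obtain ⟨O₁, hyO₁, iO₁, i, j, m, g, nin, hcond, hval⟩ := (toSect 𝒜 ℳ₂ n O s).2 ⟨y, hy⟩
  have hO₁O : O₁ ≤ O := iO₁.le
  rcases hcond with hdeg | hzero
  · have hsy : secVal 𝒜 ℳ₂ n O s y hy =
        LocalizedModule.mk (m : M₂) ⟨(g : A), nin ⟨y, hyO₁⟩⟩ := hval ⟨y, hyO₁⟩
    have h1 : GrMod.locMap v y (LocalizedModule.mk (m : M₂) ⟨(g : A), nin ⟨y, hyO₁⟩⟩) = 0 := by
      have h2 := congrArg (fun t => secVal 𝒜 ℳ₃ n O t y hy) hs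
      simp only at h2
      rw [secVal_map_app, secVal_zero', hsy] at h2
      exact h2
    rw [GrMod.locMap_mk, Groth.Agent.Lib.Helper2.RelTildeInj.mk_eq_zero_iff'] at h1
    obtain ⟨c, hc⟩ := h1
    obtain ⟨e, c', hc'e, hc'y, hc'0⟩ := H3 y i m m.2 c.1 c.2 hc
    have hv0 : v (c' • (m : M₂)) = 0 := by rw [map_smul]; exact hc'0
    obtain ⟨m₁, hm₁⟩ := (hex _).mp hv0
    have hmem : c' • (m : M₂) ∈ ℳ₂ (e + i) := SetLike.GradedSMul.smul_mem hc'e m.2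
    obtain ⟨m₁', hm₁', hum₁'⟩ := H1 (e + i) m₁ (by rw [hm₁]; exact hmem)
    have hO : O₁ ⊓ ProjectiveSpectrum.basicOpen 𝒜 c' ≤ O := inf_le_left.trans hO₁O
    have hs'' : c' * (g : A) ∈ 𝒜 (e + j) := SetLike.mul_mem_graded hc'e g.2
    have hij' : ((e + i : ℕ) : ℤ) = ((e + j : ℕ) : ℤ) + n := by
      push_cast; omega
    have hW : ∀ z : (O₁ ⊓ ProjectiveSpectrum.basicOpen 𝒜 c' : Opens (ProjectiveSpectrum.top 𝒜)),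
        c' * (g : A) ∉ z.1.asHomogeneousIdeal := by
      intro z h
      rcases z.1.isPrime.mem_or_mem h with h | h
      · exact (ProjectiveSpectrum.mem_basicOpen 𝒜 c' z.1).mp z.2.2 h
      · exact nin ⟨z.1, z.2.1⟩ h
    refine ⟨O₁ ⊓ ProjectiveSpectrum.basicOpen 𝒜 c', hO,
      ⟨hyO₁, (ProjectiveSpectrum.mem_basicOpen 𝒜 c' y).mpr hc'y⟩,
      ofSect 𝒜 ℳ₁ n _ (fracOn 𝒜 ℳ₁ n _ hm₁' hs'' hij' hW), ?_⟩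
    refine Subtype.ext (funext fun z => Subtype.ext ?_)
    have h1 : GrMod.val ((GrMod.map 𝒜 u hu n).app _
        (ofSect 𝒜 ℳ₁ n _ (fracOn 𝒜 ℳ₁ n _ hm₁' hs'' hij' hW))) z =
        GrMod.locMap u z.1 (LocalizedModule.mk m₁' ⟨c' * (g : A), hW z⟩) := rfl
    have h2 : GrMod.val ((GrMod.tilde 𝒜 ℳ₂ n).presheaf.map (homOfLE hO).op s) z =
        LocalizedModule.mk (m : M₂) ⟨(g : A), nin ⟨z.1, z.2.1⟩⟩ := hval ⟨z.1, z.2.1⟩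
    refine h1.trans (Eq.trans ?_ h2.symm)
    rw [GrMod.locMap_mk, hum₁', hm₁, LocalizedModule.mk_eq]
    refine ⟨1, ?_⟩
    simp only [one_smul]
    change (g : A) • c' • (m : M₂) = (c' * (g : A)) • (m : M₂)
    rw [smul_smul, mul_comm]
  · refine ⟨O₁, hO₁O, hyO₁, 0, ?_⟩
    rw [map_zero]
    refine Subtype.ext (funext fun z => Subtype.ext ?_)
    have h2 : GrMod.val ((GrMod.tilde 𝒜 ℳ₂ n).presheaf.map (homOfLE hO₁O).op s) z =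
        LocalizedModule.mk (m : M₂) ⟨(g : A), nin z⟩ := hval z
    refine Eq.trans ?_ h2.symm
    rw [hzero, LocalizedModule.zero_mk]
    rfl

/-- local surjectivity on sections of `M₁(n)~ → M₂(n)~` -/
theorem map_locally_surjective' (u : M₁ →ₗ[A] M₂)
    (hu : ∀ (i : ℕ) (m : M₁), m ∈ ℳ₁ i → u m ∈ ℳ₂ i)
    (hsurj : ∀ (i : ℕ) (m : M₂), m ∈ ℳ₂ i → ∃ m' ∈ ℳ₁ i, u m' = m)
    (n : ℤ) (V : (Proj 𝒜).Opens) (t : Γ(GrMod.tilde 𝒜 ℳ₂ n, V)) (y : ProjectiveSpectrum 𝒜)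
    (hy : y ∈ V) :
    ∃ (O : (Proj 𝒜).Opens) (hO : O ≤ V), y ∈ O ∧ ∃ σ' : Γ(GrMod.tilde 𝒜 ℳ₁ n, O),
      (GrMod.map 𝒜 u hu n).app O σ' = (GrMod.tilde 𝒜 ℳ₂ n).presheaf.map (homOfLE hO).op t := by
  obtain ⟨O₁, hyO₁, iO₁, i, j, m, g, nin, hcond, hval⟩ := (toSect 𝒜 ℳ₂ n V t).2 ⟨y, hy⟩
  have hO₁V : O₁ ≤ V := iO₁.le
  rcases hcond with hdeg | hzero
  · obtain ⟨m₁, hm₁, hum₁⟩ := hsurj i m m.2
    refine ⟨O₁, hO₁V, hyO₁, ofSect 𝒜 ℳ₁ n _ (fracOn 𝒜 ℳ₁ n _ hm₁ g.2 hdeg nin), ?_⟩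
    refine Subtype.ext (funext fun z => Subtype.ext ?_)
    have h1 : GrMod.val ((GrMod.map 𝒜 u hu n).app _
        (ofSect 𝒜 ℳ₁ n _ (fracOn 𝒜 ℳ₁ n _ hm₁ g.2 hdeg nin))) z =
        GrMod.locMap u z.1 (LocalizedModule.mk m₁ ⟨(g : A), nin z⟩) := rfl
    have h2 : GrMod.val ((GrMod.tilde 𝒜 ℳ₂ n).presheaf.map (homOfLE hO₁V).op t) z =
        LocalizedModule.mk (m : M₂) ⟨(g : A), nin z⟩ := hval z
    refine h1.trans (Eq.trans ?_ h2.symm)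
    rw [GrMod.locMap_mk, hum₁]
  · refine ⟨O₁, hO₁V, hyO₁, 0, ?_⟩
    rw [map_zero]
    refine Subtype.ext (funext fun z => Subtype.ext ?_)
    have h2 : GrMod.val ((GrMod.tilde 𝒜 ℳ₂ n).presheaf.map (homOfLE hO₁V).op t) z =
        LocalizedModule.mk (m : M₂) ⟨(g : A), nin z⟩ := hval z
    refine Eq.trans ?_ h2.symm
    rw [hzero, LocalizedModule.zero_mk]
    rfl

/-- `M₁(n)~ → M₂(n)~` is an epimorphism when `u` is onto on homogeneous elements -/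
theorem epi_map (u : M₁ →ₗ[A] M₂) (hu : ∀ (i : ℕ) (m : M₁), m ∈ ℳ₁ i → u m ∈ ℳ₂ i)
    (hsurj : ∀ (i : ℕ) (m : M₂), m ∈ ℳ₂ i → ∃ m' ∈ ℳ₁ i, u m' = m) (n : ℤ) :
    Epi (GrMod.map 𝒜 u hu n) :=
  Groth.Agent.Lib.Helper23.Serre.epi_of_locally_surjective _
    (fun V t x hx => map_locally_surjective' 𝒜 ℳ₁ ℳ₂ u hu hsurj n V t x hx)

/-! ### functoriality -/

theorem map_eq_of_eq (u u' : M₁ →ₗ[A] M₂) (hu : ∀ (i : ℕ) (m : M₁), m ∈ ℳ₁ i → u m ∈ ℳ₂ i)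
    (hu' : ∀ (i : ℕ) (m : M₁), m ∈ ℳ₁ i → u' m ∈ ℳ₂ i) (h : u = u') (n : ℤ) :
    GrMod.map 𝒜 u hu n = GrMod.map 𝒜 u' hu' n := by
  subst h
  rfl

theorem map_id' (n : ℤ) :
    GrMod.map 𝒜 (LinearMap.id : M₁ →ₗ[A] M₁) (fun _ _ h => h) n = 𝟙 (GrMod.tilde 𝒜 ℳ₁ n) := by
  apply Scheme.Modules.hom_ext
  intro U
  ext s
  apply sec_ext'
  intro y hy
  rw [secVal_map_app]
  change GrMod.locMap LinearMap.id y _ = secVal 𝒜 ℳ₁ n U s y hy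
  induction secVal 𝒜 ℳ₁ n U s y hy using LocalizedModule.induction_on with
  | h m t => rw [GrMod.locMap_mk]; rfl

theorem map_comp' (u : M₁ →ₗ[A] M₂) (hu : ∀ (i : ℕ) (m : M₁), m ∈ ℳ₁ i → u m ∈ ℳ₂ i)
    (v : M₂ →ₗ[A] M₃) (hv : ∀ (i : ℕ) (m : M₂), m ∈ ℳ₂ i → v m ∈ ℳ₃ i) (n : ℤ) :
    GrMod.map 𝒜 (v ∘ₗ u) (fun i m hm => hv i _ (hu i m hm)) n =
      GrMod.map 𝒜 u hu n ≫ GrMod.map 𝒜 v hv n := by
  apply Scheme.Modules.hom_ext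
  intro U
  ext s
  apply sec_ext'
  intro y hy
  rw [Scheme.Modules.Hom.comp_app]
  change secVal 𝒜 ℳ₃ n U _ y hy = secVal 𝒜 ℳ₃ n U
    ((GrMod.map 𝒜 v hv n).app U ((GrMod.map 𝒜 u hu n).app U s)) y hy
  rw [secVal_map_app, secVal_map_app, secVal_map_app]
  induction secVal 𝒜 ℳ₁ n U s y hy using LocalizedModule.induction_on with
  | h m t => rw [GrMod.locMap_mk, GrMod.locMap_mk, GrMod.locMap_mk]; rfl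

theorem map_zero' (h : ∀ (i : ℕ) (m : M₁), m ∈ ℳ₁ i → (0 : M₁ →ₗ[A] M₂) m ∈ ℳ₂ i) (n : ℤ) :
    GrMod.map 𝒜 (0 : M₁ →ₗ[A] M₂) h n = 0 := by
  apply Scheme.Modules.hom_ext
  intro U
  ext s
  apply sec_ext'
  intro y hy
  rw [secVal_map_app]
  change _ = (0 : GrMod.LocMod 𝒜 (M := M₂) y)
  induction secVal 𝒜 ℳ₁ n U s y hy using LocalizedModule.induction_on with
  | h m t => rw [GrMod.locMap_mk, LinearMap.zero_apply, LocalizedModule.zero_mk]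

theorem map_add' (u u' : M₁ →ₗ[A] M₂) (hu : ∀ (i : ℕ) (m : M₁), m ∈ ℳ₁ i → u m ∈ ℳ₂ i)
    (hu' : ∀ (i : ℕ) (m : M₁), m ∈ ℳ₁ i → u' m ∈ ℳ₂ i)
    (h : ∀ (i : ℕ) (m : M₁), m ∈ ℳ₁ i → (u + u') m ∈ ℳ₂ i) (n : ℤ) :
    GrMod.map 𝒜 (u + u') h n = GrMod.map 𝒜 u hu n + GrMod.map 𝒜 u' hu' n := by
  apply Scheme.Modules.hom_ext
  intro U
  ext s
  apply sec_ext'
  intro y hy
  rw [Scheme.Modules.Hom.add_app]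
  change secVal 𝒜 ℳ₂ n U _ y hy = secVal 𝒜 ℳ₂ n U
    ((GrMod.map 𝒜 u hu n).app U s + (GrMod.map 𝒜 u' hu' n).app U s) y hy
  rw [secVal_add', secVal_map_app, secVal_map_app, secVal_map_app]
  change (LocalizedModule.map _ (u + u')) _ =
    (LocalizedModule.map _ u) _ + (LocalizedModule.map _ u') _
  rw [map_add]
  rfl

theorem add_mem_of (u u' : M₁ →ₗ[A] M₂) (hu : ∀ (i : ℕ) (m : M₁), m ∈ ℳ₁ i → u m ∈ ℳ₂ i)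
    (hu' : ∀ (i : ℕ) (m : M₁), m ∈ ℳ₁ i → u' m ∈ ℳ₂ i) :
    ∀ (i : ℕ) (m : M₁), m ∈ ℳ₁ i → (u + u') m ∈ ℳ₂ i :=
  fun i m hm => by rw [LinearMap.add_apply]; exact add_mem (hu i m hm) (hu' i m hm)

theorem sum_mem_of {J : Type} (s : Finset J) (u : J → (M₁ →ₗ[A] M₂))
    (hu : ∀ j (i : ℕ) (m : M₁), m ∈ ℳ₁ i → u j m ∈ ℳ₂ i) :
    ∀ (i : ℕ) (m : M₁), m ∈ ℳ₁ i → (∑ j ∈ s, u j) m ∈ ℳ₂ i :=
  fun i m hm => by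
    rw [LinearMap.sum_apply]
    exact sum_mem (fun j _ => hu j i m hm)

theorem map_sum' {J : Type} (s : Finset J) (u : J → (M₁ →ₗ[A] M₂))
    (hu : ∀ j (i : ℕ) (m : M₁), m ∈ ℳ₁ i → u j m ∈ ℳ₂ i) (n : ℤ)
    (h : ∀ (i : ℕ) (m : M₁), m ∈ ℳ₁ i → (∑ j ∈ s, u j) m ∈ ℳ₂ i) :
    GrMod.map 𝒜 (∑ j ∈ s, u j) h n = ∑ j ∈ s, GrMod.map 𝒜 (u j) (hu j) n := by
  classical
  revert h
  induction s using Finset.induction_on with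
  | empty =>
    intro h
    exact (map_eq_of_eq 𝒜 ℳ₁ ℳ₂ _ 0 h (fun i m _ => by simp) Finset.sum_empty n).trans
      ((map_zero' 𝒜 ℳ₁ ℳ₂ _ n).trans Finset.sum_empty.symm)
  | insert a s ha ih =>
    intro h
    have h1 := map_eq_of_eq 𝒜 ℳ₁ ℳ₂ _ (u a + ∑ j ∈ s, u j) h
      (add_mem_of ℳ₁ ℳ₂ _ _ (hu a) (sum_mem_of ℳ₁ ℳ₂ s u hu)) (Finset.sum_insert ha) n
    have h2 := map_add' 𝒜 ℳ₁ ℳ₂ (u a) (∑ j ∈ s, u j) (hu a) (sum_mem_of ℳ₁ ℳ₂ s u hu)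
      (add_mem_of ℳ₁ ℳ₂ _ _ (hu a) (sum_mem_of ℳ₁ ℳ₂ s u hu)) n
    have h3 := ih (sum_mem_of ℳ₁ ℳ₂ s u hu)
    rw [h1, h2, h3, Finset.sum_insert ha]

theorem map_comp_eq_zero (u : M₁ →ₗ[A] M₂) (hu : ∀ (i : ℕ) (m : M₁), m ∈ ℳ₁ i → u m ∈ ℳ₂ i)
    (v : M₂ →ₗ[A] M₃) (hv : ∀ (i : ℕ) (m : M₂), m ∈ ℳ₂ i → v m ∈ ℳ₃ i)
    (huv : v ∘ₗ u = 0) (n : ℤ) : GrMod.map 𝒜 u hu n ≫ GrMod.map 𝒜 v hv n = 0 := by
  rw [← map_comp' 𝒜 ℳ₁ ℳ₂ ℳ₃ u hu v hv n]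
  exact (map_eq_of_eq 𝒜 ℳ₁ ℳ₃ _ 0 _ (fun i m _ => by simp) huv n).trans (map_zero' 𝒜 ℳ₁ ℳ₃ _ n)

/-- exactness of `M₁(n)~ → M₂(n)~ → M₃(n)~` -/
theorem exact_map (u : M₁ →ₗ[A] M₂) (hu : ∀ (i : ℕ) (m : M₁), m ∈ ℳ₁ i → u m ∈ ℳ₂ i)
    (v : M₂ →ₗ[A] M₃) (hv : ∀ (i : ℕ) (m : M₂), m ∈ ℳ₂ i → v m ∈ ℳ₃ i)
    (hex : Function.Exact u v)
    (H1 : ∀ (i : ℕ) (m : M₁), u m ∈ ℳ₂ i → ∃ m' ∈ ℳ₁ i, u m' = u m)
    (H3 : ∀ (y : ProjectiveSpectrum 𝒜) (i : ℕ) (m : M₂), m ∈ ℳ₂ i → ∀ c : A,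
      c ∉ y.asHomogeneousIdeal → c • v m = 0 →
        ∃ (e : ℕ) (c' : A), c' ∈ 𝒜 e ∧ c' ∉ y.asHomogeneousIdeal ∧ c' • v m = 0)
    (n : ℤ) (w : GrMod.map 𝒜 u hu n ≫ GrMod.map 𝒜 v hv n = 0) :
    (ShortComplex.mk (GrMod.map 𝒜 u hu n) (GrMod.map 𝒜 v hv n) w).Exact := by
  apply Groth.Agent.Lib.Helper2.RelTildeExact.exact_of_locally_exact
  intro V s hs x hx
  exact map_locally_exact' 𝒜 ℳ₁ ℳ₂ ℳ₃ u hu v hv hex H1 H3 n V s hs x hx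

end Groth.Agent.Lib.T2H5.GrSyzLoc
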