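import Mathlib
import Groth.Agent.Lib.T2H5GrSyzLoc

/-!
# T2H5GrSyzSame: two families of pieces on one module with the same fractions give isomorphic
modules on `Proj` (helper5)
-/

set_option autoImplicit false
set_option linter.style.haveILetI false
set_option linter.unusedSectionVars false
universe u

open CategoryTheory CategoryTheory.Limits AlgebraicGeometry TopologicalSpace Opposite

namespace Groth.Agent.Lib.T2H5.GrSyzSame

open Groth.Agent.Lib.Helper2GrModSect Groth.Agent.Lib.T2H5.GrSyzLoc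

variable {A σ : Type u} [CommRing A] [SetLike σ A] [AddSubgroupClass σ A] (𝒜 : ℕ → σ)
  [GradedRing 𝒜]
variable {M τ : Type u} [AddCommGroup M] [Module A M] [SetLike τ M] [AddSubgroupClass τ M]
  (ℳ : ℕ → τ) [SetLike.GradedSMul 𝒜 ℳ] (𝒩 : ℕ → τ) [SetLike.GradedSMul 𝒜 𝒩] (n n' : ℤ)

/-- every fraction of degree `n` for `ℳ` is a fraction of degree `n'` for `𝒩` -/
def FracLE : Prop :=
  ∀ (i j : ℕ) (m : M), m ∈ ℳ i → (i : ℤ) = j + n → ∃ i' : ℕ, m ∈ 𝒩 i' ∧ ((i' : ℤ) = j + n' ∨ m = 0)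

variable {𝒜 ℳ 𝒩 n n'}

theorem tildeAt_le (h : FracLE ℳ 𝒩 n n') (x : ProjectiveSpectrum 𝒜)
    {q : GrMod.LocMod 𝒜 (M := M) x} (hq : q ∈ GrMod.tildeAt 𝒜 ℳ n x) :
    q ∈ GrMod.tildeAt 𝒜 𝒩 n' x := by
  induction hq using Submodule.span_induction with
  | mem q hq =>
    obtain ⟨i, j, m, s, hs, hij, rfl⟩ := hq
    obtain ⟨i', hm', hc⟩ := h i j m m.2 hij
    rcases hc with hc | hc
    · exact Submodule.subset_span ⟨i', j, ⟨m, hm'⟩, s, hs, hc, rfl⟩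
    · rw [hc, LocalizedModule.zero_mk]
      exact zero_mem _
  | zero => exact zero_mem _
  | add q q' _ _ h1 h2 => exact add_mem h1 h2
  | smul c q _ h1 => exact Submodule.smul_mem _ c h1

variable (U : (Opens (ProjectiveSpectrum.top 𝒜))ᵒᵖ)

/-- the same dependent function, with values in the other fractions -/
def sameFn (h : FracLE ℳ 𝒩 n n') (f : ∀ x : U.unop, GrMod.tildeAt 𝒜 ℳ n x.1) (x : U.unop) :
    GrMod.tildeAt 𝒜 𝒩 n' x.1 :=
  ⟨(f x).1, tildeAt_le h x.1 (f x).2⟩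

theorem isLocFrac_sameFn (h : FracLE ℳ 𝒩 n n') (f : ∀ x : U.unop, GrMod.tildeAt 𝒜 ℳ n x.1)
    (hf : (GrMod.isLocFrac 𝒜 ℳ n).pred f) : (GrMod.isLocFrac 𝒜 𝒩 n').pred (sameFn U h f) := fun x => by
  rcases hf x with ⟨V, mV, iV, i, j, m, s, nin, c, w⟩
  rcases c with c | c
  · obtain ⟨i', hm', hc⟩ := h i j m m.2 c
    exact ⟨V, mV, iV, i', j, ⟨m, hm'⟩, s, nin, hc, fun y => w y⟩
  · refine ⟨V, mV, iV, 0, j, ⟨0, zero_mem _⟩, s, nin, Or.inr rfl, fun y => ?_⟩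
    change (f (iV y)).1 = _
    rw [w y, c]

/-- the map on sections -/
def sameApp (h : FracLE ℳ 𝒩 n n') : GrMod.sect 𝒜 ℳ n U →+ GrMod.sect 𝒜 𝒩 n' U where
  toFun f := ⟨sameFn U h f.1, isLocFrac_sameFn U h f.1 f.2⟩
  map_zero' := by
    refine Subtype.ext (funext fun x => Subtype.ext ?_)
    rfl
  map_add' f g := by
    refine Subtype.ext (funext fun x => Subtype.ext ?_)
    rfl

theorem sameApp_smul (h : FracLE ℳ 𝒩 n n') (r : GrTwist.O (𝒜 := 𝒜) U) (f : GrMod.sect 𝒜 ℳ n U) :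
    sameApp U h (r • f) = r • sameApp U h f := by
  refine Subtype.ext (funext fun x => Subtype.ext ?_)
  change (((r • f : GrMod.sect 𝒜 ℳ n U).1 x : GrMod.tildeAt 𝒜 ℳ n x.1) : GrMod.LocMod 𝒜 (M := M) x.1) =
    (((r • sameApp U h f : GrMod.sect 𝒜 𝒩 n' U).1 x : GrMod.tildeAt 𝒜 𝒩 n' x.1) : GrMod.LocMod 𝒜 (M := M) x.1)
  have h1 : (((r • f : GrMod.sect 𝒜 ℳ n U).1 x : GrMod.tildeAt 𝒜 ℳ n x.1) : GrMod.LocMod 𝒜 (M := M) x.1) =
      (r.1 x).val • ((f.1 x).1) := GrMod.coe_smul_val n x.1 (r.1 x) (f.1 x)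
  have h2 : (((r • sameApp U h f : GrMod.sect 𝒜 𝒩 n' U).1 x : GrMod.tildeAt 𝒜 𝒩 n' x.1) :
      GrMod.LocMod 𝒜 (M := M) x.1) = (r.1 x).val • ((f.1 x).1) :=
    GrMod.coe_smul_val n' x.1 (r.1 x) _
  rw [h1, h2]

variable (𝒜) in
/-- the value-preserving morphism -/
noncomputable def sameHom (h : FracLE ℳ 𝒩 n n') : GrMod.tilde 𝒜 ℳ n ⟶ GrMod.tilde 𝒜 𝒩 n' :=
  ⟨PresheafOfModules.homMk
    { app := fun U => AddCommGrpCat.ofHom (sameApp U h)
      naturality := fun _ _ _ => rfl }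
    fun U r s => sameApp_smul U h r s⟩

theorem secVal_sameHom (h : FracLE ℳ 𝒩 n n') (V : (Proj 𝒜).Opens) (s : Γ(GrMod.tilde 𝒜 ℳ n, V))
    (y : ProjectiveSpectrum 𝒜) (hy : y ∈ V) :
    secVal 𝒜 𝒩 n' V ((sameHom 𝒜 h).app V s) y hy = secVal 𝒜 ℳ n V s y hy := rfl

variable (𝒜) in
/-- two families with the same fractions give isomorphic modules -/
noncomputable def sameIso (h : FracLE ℳ 𝒩 n n') (h' : FracLE 𝒩 ℳ n' n) :
    GrMod.tilde 𝒜 ℳ n ≅ GrMod.tilde 𝒜 𝒩 n' where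
  hom := sameHom 𝒜 h
  inv := sameHom 𝒜 h'
  hom_inv_id := by
    apply Scheme.Modules.hom_ext
    intro V
    ext s
    apply sec_ext'
    intro y hy
    rfl
  inv_hom_id := by
    apply Scheme.Modules.hom_ext
    intro V
    ext s
    apply sec_ext'
    intro y hy
    rfl

end Groth.Agent.Lib.T2H5.GrSyzSame
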