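import Mathlib
import Groth.Agent.Lib.T2H5GrSyzSame
import Groth.Agent.Lib.Helper2GrModMap
import Groth.Prelude.Def_GrMod2

/-!
# T2H5GrAlpha: the comparison map `M_n → Γ(Proj, M(n)~)`, `m ↦ m/1` (helper5)

additivity, naturality in the module, and the torsion criterion for its kernel.
-/

set_option autoImplicit false
set_option linter.style.haveILetI false
set_option linter.unusedSectionVars false
universe u

open CategoryTheory CategoryTheory.Limits AlgebraicGeometry TopologicalSpace Opposite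

namespace Groth.Agent.Lib.T2H5.GrAlpha

open Groth.Agent.Lib.Helper2GrModSect Groth.Agent.Lib.T2H5.GrSyzLoc

variable {R A : Type u} [CommRing R] [CommRing A] [Algebra R A] (𝒜 : ℕ → Submodule R A)
  [GradedAlgebra 𝒜]
variable {M : Type u} [AddCommGroup M] [Module R M] [Module A M]
  (ℳ : ℕ → Submodule R M) [SetLike.GradedSMul 𝒜 ℳ]
variable {M' : Type u} [AddCommGroup M'] [Module R M'] [Module A M']
  (ℳ' : ℕ → Submodule R M') [SetLike.GradedSMul 𝒜 ℳ']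

/-- the comparison map `m ↦ m/1` -/
noncomputable def alpha (n : ℕ) (m : ℳ n) : Γ(GrMod.tilde 𝒜 ℳ (n : ℤ), ⊤) :=
  GrTilde.globalOf 𝒜 ℳ m

theorem secVal_alpha (n : ℕ) (m : ℳ n) (y : ProjectiveSpectrum 𝒜)
    (hy : y ∈ (⊤ : (Proj 𝒜).Opens)) :
    secVal 𝒜 ℳ n ⊤ (alpha 𝒜 ℳ n m) y hy =
      (LocalizedModule.mk m.1 1 : GrMod.LocMod 𝒜 (M := M) y) := rfl

theorem alpha_add (n : ℕ) (m m' : ℳ n) :
    alpha 𝒜 ℳ n (m + m') = alpha 𝒜 ℳ n m + alpha 𝒜 ℳ n m' := by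
  apply sec_ext'
  intro y hy
  rw [secVal_add', secVal_alpha, secVal_alpha, secVal_alpha, LocalizedModule.mk_add_mk]
  simp

theorem alpha_zero (n : ℕ) : alpha 𝒜 ℳ n 0 = 0 := by
  apply sec_ext'
  intro y hy
  rw [secVal_alpha, secVal_zero']
  exact LocalizedModule.zero_mk _

/-- the comparison map as an additive map -/
noncomputable def alphaHom (n : ℕ) : ℳ n →+ Γ(GrMod.tilde 𝒜 ℳ (n : ℤ), ⊤) where
  toFun := alpha 𝒜 ℳ n
  map_zero' := alpha_zero 𝒜 ℳ n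
  map_add' := alpha_add 𝒜 ℳ n

theorem alphaHom_apply (n : ℕ) (m : ℳ n) : alphaHom 𝒜 ℳ n m = alpha 𝒜 ℳ n m := rfl

/-- naturality of the comparison map -/
theorem map_alpha (u : M →ₗ[A] M') (hu : ∀ (i : ℕ) (m : M), m ∈ ℳ i → u m ∈ ℳ' i) (n : ℕ)
    (m : ℳ n) :
    (GrMod.map 𝒜 u hu (n : ℤ)).app ⊤ (alpha 𝒜 ℳ n m) =
      alpha 𝒜 ℳ' n ⟨u m.1, hu n m.1 m.2⟩ := by
  apply sec_ext'
  intro y hy
  rw [secVal_map_app, secVal_alpha, secVal_alpha, GrMod.locMap_mk]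

theorem exists_smul_eq_zero_of_alpha_eq_zero (n : ℕ) (m : ℳ n) (h : alpha 𝒜 ℳ n m = 0)
    (y : ProjectiveSpectrum 𝒜) : ∃ c : A, c ∉ y.asHomogeneousIdeal ∧ c • m.1 = 0 := by
  have h1 : secVal 𝒜 ℳ n ⊤ (alpha 𝒜 ℳ n m) y trivial = 0 := by
    rw [h]
    rfl
  rw [secVal_alpha, Groth.Agent.Lib.Helper2.RelTildeInj.mk_eq_zero_iff'] at h1
  obtain ⟨t, ht⟩ := h1
  exact ⟨t.1, t.2, ht⟩

variable [IsScalarTower R A M] [DirectSum.Decomposition ℳ]

/-- an element of the kernel of the comparison map is killed by the powers of every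
homogeneous element of positive degree -/
theorem exists_pow_smul_eq_zero_of_alpha_eq_zero {e : ℕ} (he : 0 < e) {g : A} (hg : g ∈ 𝒜 e)
    (n : ℕ) (m : ℳ n) (h : alpha 𝒜 ℳ n m = 0) :
    ∃ N : ℕ, ∀ K : ℕ, N ≤ K → g ^ K • m.1 = 0 :=
  Groth.Agent.Lib.Helper2GrModSect.exists_pow_smul_eq_zero 𝒜 ℳ he hg m.2
    (fun y _ => exists_smul_eq_zero_of_alpha_eq_zero 𝒜 ℳ n m h y)

end Groth.Agent.Lib.T2H5.GrAlpha
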