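import Mathlib

/-!
# T2H5GrFree: the graded free module with generators in prescribed degrees (helper5)

For a graded `R`-algebra `𝒜 : ℕ → Submodule R A` and degrees `a : Fin s → ℕ`, the module
`Fin s → A` graded by `freeFam 𝒜 a n = {f | ∀ j, f j ∈ 𝒜 (n - a j)}` (zero when `n < a j`),
with its decomposition and its compatibility with the grading of the ring.
-/

set_option autoImplicit false
set_option linter.style.haveILetI false
set_option linter.unusedSectionVars false
universe u

open DirectSum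

namespace Groth.Agent.Lib.T2H5.GrFree

variable {R A : Type u} [CommRing R] [CommRing A] [Algebra R A] (𝒜 : ℕ → Submodule R A)

/-- the degree-`n` piece of the ring with its generator placed in degree `a` -/
def piece (a n : ℕ) : Submodule R A := if a ≤ n then 𝒜 (n - a) else ⊥

theorem mem_piece_of_le {a n : ℕ} (h : a ≤ n) {x : A} : x ∈ piece 𝒜 a n ↔ x ∈ 𝒜 (n - a) := by
  unfold piece
  rw [if_pos h]

theorem mem_piece_of_lt {a n : ℕ} (h : n < a) {x : A} : x ∈ piece 𝒜 a n ↔ x = 0 := by
  unfold piece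
  rw [if_neg (by omega)]
  exact Submodule.mem_bot R

theorem mem_piece_add {a d : ℕ} {x : A} (hx : x ∈ 𝒜 d) : x ∈ piece 𝒜 a (d + a) :=
  (mem_piece_of_le 𝒜 (Nat.le_add_left a d)).2 (by rwa [Nat.add_sub_cancel])

variable {s : ℕ} (a : Fin s → ℕ)

/-- the pieces of the graded free module with generator degrees `a` -/
def freeFam (n : ℕ) : Submodule R (Fin s → A) where
  carrier := {f | ∀ j, f j ∈ piece 𝒜 (a j) n}
  add_mem' := fun hf hg j => (piece 𝒜 (a j) n).add_mem (hf j) (hg j)
  zero_mem' := fun j => (piece 𝒜 (a j) n).zero_mem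
  smul_mem' := fun r _ hf j => (piece 𝒜 (a j) n).smul_mem r (hf j)

theorem mem_freeFam {n : ℕ} {f : Fin s → A} :
    f ∈ freeFam 𝒜 a n ↔ ∀ j, f j ∈ piece 𝒜 (a j) n := Iff.rfl

theorem single_mem (j : Fin s) {n : ℕ} {x : A} (hx : x ∈ piece 𝒜 (a j) n) :
    Pi.single j x ∈ freeFam 𝒜 a n := by
  intro j'
  by_cases h : j' = j
  · subst h
    rw [Pi.single_eq_same]
    exact hx
  · rw [Pi.single_eq_of_ne h]
    exact Submodule.zero_mem _

theorem proj_mem (j : Fin s) {n : ℕ} {f : Fin s → A} (hf : f ∈ freeFam 𝒜 a n) :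
    f j ∈ piece 𝒜 (a j) n := hf j

variable [GradedAlgebra 𝒜]

instance gradedSMul_freeFam : SetLike.GradedSMul 𝒜 (freeFam 𝒜 a) where
  smul_mem := by
    intro i n c f hc hf j
    change c • f j ∈ piece 𝒜 (a j) (i + n)
    rw [smul_eq_mul]
    by_cases h : a j ≤ n
    · have h1 : f j ∈ 𝒜 (n - a j) := (mem_piece_of_le 𝒜 h).1 (hf j)
      rw [mem_piece_of_le 𝒜 (by omega : a j ≤ i + n)]
      have e : i + n - a j = i + (n - a j) := by omega
      rw [e]
      exact SetLike.mul_mem_graded hc h1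
    · have h1 : f j = 0 := (mem_piece_of_lt 𝒜 (by omega)).1 (hf j)
      rw [h1, mul_zero]
      exact Submodule.zero_mem _

instance gradedSMul_piece (c : ℕ) : SetLike.GradedSMul 𝒜 (piece 𝒜 c) where
  smul_mem := by
    intro i n x f hx hf
    change x • f ∈ piece 𝒜 c (i + n)
    rw [smul_eq_mul]
    by_cases h : c ≤ n
    · have h1 : f ∈ 𝒜 (n - c) := (mem_piece_of_le 𝒜 h).1 hf
      rw [mem_piece_of_le 𝒜 (by omega : c ≤ i + n)]
      have e : i + n - c = i + (n - c) := by omega
      rw [e]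
      exact SetLike.mul_mem_graded hx h1
    · have h1 : f = 0 := (mem_piece_of_lt 𝒜 (by omega)).1 hf
      rw [h1, mul_zero]
      exact Submodule.zero_mem _

/-- a homogeneous element placed in the `j`-th coordinate -/
def singleHom (j : Fin s) (d : ℕ) : 𝒜 d →+ freeFam 𝒜 a (d + a j) where
  toFun x := ⟨Pi.single j x.1, single_mem 𝒜 a j (mem_piece_add 𝒜 x.2)⟩
  map_zero' := by
    apply Subtype.ext
    change (Pi.single j (0 : A) : Fin s → A) = 0
    exact Pi.single_zero j
  map_add' x y := by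
    apply Subtype.ext
    change (Pi.single j (x.1 + y.1) : Fin s → A) = Pi.single j x.1 + Pi.single j y.1
    exact Pi.single_add (f := fun _ : Fin s => A) j x.1 y.1

/-- the decomposition of the ring placed in the `j`-th coordinate -/
def shiftHom (j : Fin s) : (⨁ d, 𝒜 d) →+ ⨁ n, freeFam 𝒜 a n :=
  DirectSum.toAddMonoid (fun d =>
    (DirectSum.of (fun n => freeFam 𝒜 a n) (d + a j)).comp (singleHom 𝒜 a j d))

theorem shiftHom_of (j : Fin s) (d : ℕ) (x : 𝒜 d) :
    shiftHom 𝒜 a j (DirectSum.of (fun d => 𝒜 d) d x) =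
      DirectSum.of (fun n => freeFam 𝒜 a n) (d + a j) (singleHom 𝒜 a j d x) := by
  unfold shiftHom
  rw [DirectSum.toAddMonoid_of]
  rfl

theorem coe_shiftHom (j : Fin s) (z : ⨁ d, 𝒜 d) :
    DirectSum.coeAddMonoidHom (freeFam 𝒜 a) (shiftHom 𝒜 a j z) =
      Pi.single j (DirectSum.coeAddMonoidHom 𝒜 z) := by
  induction z using DirectSum.induction_on with
  | zero => simp
  | of d x =>
    rw [shiftHom_of, DirectSum.coeAddMonoidHom_of, DirectSum.coeAddMonoidHom_of]
    rfl
  | add x y hx hy =>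
    rw [map_add, map_add, map_add, hx, hy, Pi.single_add]

/-- the decomposition map of the graded free module -/
def decomposeHom : (Fin s → A) →+ ⨁ n, freeFam 𝒜 a n :=
  ∑ j : Fin s, (shiftHom 𝒜 a j).comp
    ((DirectSum.decomposeAddEquiv 𝒜).toAddMonoidHom.comp (Pi.evalAddMonoidHom (fun _ => A) j))

theorem decomposeHom_apply (f : Fin s → A) :
    decomposeHom 𝒜 a f = ∑ j : Fin s, shiftHom 𝒜 a j (DirectSum.decompose 𝒜 (f j)) := by
  unfold decomposeHom
  rw [AddMonoidHom.finsetSum_apply]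
  rfl

theorem of_congr {n n' : ℕ} (h : n = n') (f : Fin s → A) (hf : f ∈ freeFam 𝒜 a n)
    (hf' : f ∈ freeFam 𝒜 a n') :
    DirectSum.of (fun n => freeFam 𝒜 a n) n ⟨f, hf⟩ =
      DirectSum.of (fun n => freeFam 𝒜 a n) n' ⟨f, hf'⟩ := by
  subst h
  rfl

theorem shiftHom_decompose (j : Fin s) {n : ℕ} {x : A} (hx : x ∈ piece 𝒜 (a j) n) :
    shiftHom 𝒜 a j (DirectSum.decompose 𝒜 x) =
      DirectSum.of (fun n => freeFam 𝒜 a n) n ⟨Pi.single j x, single_mem 𝒜 a j hx⟩ := by
  by_cases h : a j ≤ n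
  · have h1 : x ∈ 𝒜 (n - a j) := (mem_piece_of_le 𝒜 h).1 hx
    rw [DirectSum.decompose_of_mem 𝒜 h1, shiftHom_of]
    exact of_congr 𝒜 a (by omega) _ _ _
  · have h1 : x = 0 := (mem_piece_of_lt 𝒜 (by omega)).1 hx
    subst h1
    rw [DirectSum.decompose_zero, map_zero]
    have : (⟨Pi.single j (0 : A), single_mem 𝒜 a j hx⟩ : freeFam 𝒜 a n) = 0 := by
      apply Subtype.ext
      exact Pi.single_zero j
    rw [this, map_zero]

/-- the decomposition of the graded free module -/
instance decomposition_freeFam : DirectSum.Decomposition (freeFam 𝒜 a) :=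
  DirectSum.Decomposition.ofAddHom (freeFam 𝒜 a) (decomposeHom 𝒜 a)
    (by
      apply AddMonoidHom.ext
      intro f
      rw [AddMonoidHom.comp_apply, decomposeHom_apply, map_sum]
      simp only [coe_shiftHom]
      rw [AddMonoidHom.id_apply]
      have : ∀ j : Fin s, DirectSum.coeAddMonoidHom 𝒜 (DirectSum.decompose 𝒜 (f j)) = f j :=
        fun j => DirectSum.Decomposition.left_inv (ℳ := 𝒜) (f j)
      simp only [this]
      exact Finset.univ_sum_single f)
    (by
      apply DirectSum.addHom_ext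
      intro n f
      rw [AddMonoidHom.comp_apply, AddMonoidHom.id_apply, DirectSum.coeAddMonoidHom_of,
        decomposeHom_apply]
      have h1 : ∀ j : Fin s, shiftHom 𝒜 a j (DirectSum.decompose 𝒜 (f.1 j)) =
          DirectSum.of (fun n => freeFam 𝒜 a n) n
            ⟨Pi.single j (f.1 j), single_mem 𝒜 a j (f.2 j)⟩ :=
        fun j => shiftHom_decompose 𝒜 a j (f.2 j)
      simp only [h1]
      rw [← map_sum]
      congr 1
      apply Subtype.ext
      rw [AddSubmonoidClass.coe_finsetSum]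
      exact Finset.univ_sum_single f.1)

end Groth.Agent.Lib.T2H5.GrFree
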