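import Mathlib
import Groth.Agent.Lib.T2H5GrAlpha
import Groth.Agent.Lib.T2H5GrFree
import Groth.Agent.Lib.Helper27PnSections

/-!
# T2H5GrFreeSect: global sections of the twists of a graded free module on projective space
(helper5)

On `P^r_A`, for the graded free module `F` with generator degrees `a`, the comparison map
`F_n → Γ(F(n)~)` is injective, and surjective as soon as `n ≥ a j` for all `j`.
-/

set_option autoImplicit false
set_option linter.style.haveILetI false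
set_option linter.unusedSectionVars false
universe u

open CategoryTheory CategoryTheory.Limits AlgebraicGeometry TopologicalSpace Opposite MvPolynomial

namespace Groth.Agent.Lib.T2H5.GrFreeSect

open Groth.Agent.Lib.Helper2GrModSect Groth.Agent.Lib.T2H5.GrSyzLoc
  Groth.Agent.Lib.T2H5.GrSyzSame Groth.Agent.Lib.T2H5.GrFree Groth.Agent.Lib.T2H5.GrAlpha

variable (r : ℕ) (A : Type u) [CommRing A]

local notation "PP" => MvPolynomial (Fin (r + 1)) A
local notation "𝒢" => CohB1.polyGrading r A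

variable {s : ℕ} (a : Fin s → ℕ)

/-- the comparison map of a graded free module is injective -/
theorem alpha_free_injective (n : ℕ) (f : freeFam 𝒢 a n)
    (h : alpha 𝒢 (freeFam 𝒢 a) n f = 0) : f = 0 := by
  obtain ⟨N, hN⟩ := exists_pow_smul_eq_zero_of_alpha_eq_zero 𝒢 (freeFam 𝒢 a) Nat.one_pos
    (isHomogeneous_X A (0 : Fin (r + 1))) n f h
  have h1 := hN N le_rfl
  apply Subtype.ext
  funext j
  have h2 : (X (0 : Fin (r + 1)) : PP) ^ N * f.1 j = 0 := by
    have := congrFun h1 j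
    simpa using this
  exact ((isRegular_X (R := A) (n := (0 : Fin (r + 1)))).pow N).left
    (show (X (0 : Fin (r + 1)) : PP) ^ N * f.1 j = X 0 ^ N * 0 by rw [h2, mul_zero])

theorem fracLE_piece (c n : ℕ) (hc : c ≤ n) :
    FracLE (piece 𝒢 c) 𝒢 (n : ℤ) ((n - c : ℕ) : ℤ) := by
  intro i j m hm hij
  by_cases h : c ≤ i
  · refine ⟨i - c, (mem_piece_of_le 𝒢 h).1 hm, Or.inl ?_⟩
    omega
  · have h0 : m = 0 := (mem_piece_of_lt 𝒢 (by omega)).1 hm
    exact ⟨0, h0 ▸ zero_mem _, Or.inr h0⟩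

/-- the `j`-th coordinate of a section of `F(n)~`, as a section of `O(n - a j)` -/
noncomputable def coord (n : ℕ) (j : Fin s) (hj : a j ≤ n) :
    GrMod.tilde 𝒢 (freeFam 𝒢 a) (n : ℤ) ⟶ GrMod.tilde 𝒢 𝒢 ((n - a j : ℕ) : ℤ) :=
  GrMod.map 𝒢 (LinearMap.proj j : (Fin s → PP) →ₗ[PP] PP)
    (fun _ _ hf => proj_mem 𝒢 a j hf) (n : ℤ) ≫ sameHom 𝒢 (fracLE_piece r A (a j) n hj)

theorem secVal_coord (n : ℕ) (j : Fin s) (hj : a j ≤ n)
    (σ : Γ(GrMod.tilde 𝒢 (freeFam 𝒢 a) (n : ℤ), ⊤)) (y : ProjectiveSpectrum 𝒢)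
    (hy : y ∈ (⊤ : (Proj 𝒢).Opens)) :
    secVal 𝒢 𝒢 ((n - a j : ℕ) : ℤ) ⊤ ((coord r A a n j hj).app ⊤ σ) y hy =
      GrMod.locMap (LinearMap.proj j : (Fin s → PP) →ₗ[PP] PP) y
        (secVal 𝒢 (freeFam 𝒢 a) (n : ℤ) ⊤ σ y hy) := rfl

/-- an element of a localized finite product is determined by its coordinates -/
theorem eq_mk_of_coord {S : Submonoid PP} (q : LocalizedModule S (Fin s → PP)) (f : Fin s → PP)
    (h : ∀ j, LocalizedModule.map S (LinearMap.proj j : (Fin s → PP) →ₗ[PP] PP) q =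
      LocalizedModule.mk (f j) 1) : q = LocalizedModule.mk f 1 := by
  classical
  induction q using LocalizedModule.induction_on with
  | h v t =>
    have h1 : ∀ j, ∃ u : S, u • (1 : S) • v j = u • t • f j := by
      intro j
      have := h j
      rw [LocalizedModule.map_mk, LocalizedModule.mk_eq] at this
      exact this
    choose u hu using h1
    rw [LocalizedModule.mk_eq]
    refine ⟨∏ j, u j, ?_⟩
    funext j
    have h2 : (∏ j', u j') = (∏ j' ∈ Finset.univ.erase j, u j') * u j :=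
      (Finset.prod_erase_mul _ _ (Finset.mem_univ j)).symm
    have h3 := hu j
    simp only [Submonoid.smul_def, smul_eq_mul, Pi.smul_apply, OneMemClass.coe_one, one_mul]
      at h3 ⊢
    rw [h2, Submonoid.coe_mul, mul_assoc, mul_assoc, h3]

/-- the comparison map of a graded free module is surjective in degrees `≥` the generator
degrees -/
theorem alpha_free_surjective (n : ℕ) (hn : ∀ j, a j ≤ n)
    (σ : Γ(GrMod.tilde 𝒢 (freeFam 𝒢 a) (n : ℤ), ⊤)) :
    ∃ f : freeFam 𝒢 a n, alpha 𝒢 (freeFam 𝒢 a) n f = σ := by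
  have h1 : ∀ j, ∃ (b : PP) (hb : b ∈ 𝒢 (n - a j)),
      (show Γ(GrTilde.tilde 𝒢 𝒢 ((n - a j : ℕ) : ℤ), ⊤) from (coord r A a n j (hn j)).app ⊤ σ) =
        Groth.Agent.Lib.Helper27GrTildeSect.gsec 𝒢 (n - a j) ⊤ hb :=
    fun j => Groth.Agent.Lib.Helper27PnSections.exists_global_poly r A (n - a j) _
  choose b hb hσ using h1
  have hmem : b ∈ freeFam 𝒢 a n := fun j => (mem_piece_of_le 𝒢 (hn j)).2 (hb j)
  refine ⟨⟨b, hmem⟩, ?_⟩
  apply sec_ext'
  intro y hy
  rw [secVal_alpha]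
  symm
  apply eq_mk_of_coord
  intro j
  have h2 := secVal_coord r A a n j (hn j) σ y hy
  have h3 : secVal 𝒢 𝒢 ((n - a j : ℕ) : ℤ) ⊤ ((coord r A a n j (hn j)).app ⊤ σ) y hy =
      LocalizedModule.mk (b j) 1 := by
    have h4 := congrArg (fun t => Groth.Agent.Lib.Helper27GrTildeSect.secVal 𝒢 𝒢
      ((n - a j : ℕ) : ℤ) ⊤ t y hy) (hσ j)
    exact h4
  exact h2.symm.trans h3

end Groth.Agent.Lib.T2H5.GrFreeSect
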