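import Mathlib
import Groth.Agent.Lib.T2H5GrFree
import Groth.Agent.Lib.Helper13HomSub

/-!
# T2H5GrPres: a finitely generated graded module is a degree-preserving quotient of a graded free
module, with homogeneous kernel (helper5)
-/

set_option autoImplicit false
set_option linter.style.haveILetI false
set_option linter.unusedSectionVars false
universe u

open DirectSum

namespace Groth.Agent.Lib.T2H5.GrPres

open Groth.Agent.Lib.T2H5.GrFree Groth.Agent.Helper13HomSub

section Map

variable {R : Type u} [CommRing R]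
variable {M₁ : Type u} [AddCommGroup M₁] [Module R M₁] (ℳ₁ : ℕ → Submodule R M₁)
  [DirectSum.Decomposition ℳ₁]
variable {M₂ : Type u} [AddCommGroup M₂] [Module R M₂] (ℳ₂ : ℕ → Submodule R M₂)
  [DirectSum.Decomposition ℳ₂]

/-- a degree-preserving additive map commutes with taking homogeneous components -/
theorem decompose_map (u : M₁ →+ M₂) (hu : ∀ (i : ℕ) (m : M₁), m ∈ ℳ₁ i → u m ∈ ℳ₂ i)
    (x : M₁) (j : ℕ) :
    (DirectSum.decompose ℳ₂ (u x) j : M₂) = u (DirectSum.decompose ℳ₁ x j : M₁) := by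
  classical
  conv_lhs => rw [← DirectSum.sum_support_decompose ℳ₁ x, map_sum, DirectSum.decompose_sum,
    DFinsupp.finsetSum_apply, AddSubmonoidClass.coe_finsetSum]
  by_cases hj : j ∈ (DirectSum.decompose ℳ₁ x).support
  · rw [Finset.sum_eq_single j]
    · exact DirectSum.decompose_of_mem_same ℳ₂ (hu j _ (DirectSum.decompose ℳ₁ x j).2)
    · intro i _ hij
      exact DirectSum.decompose_of_mem_ne ℳ₂ (hu i _ (DirectSum.decompose ℳ₁ x i).2) hij
    · intro h
      exact (h hj).elim
  · have h0 : (DirectSum.decompose ℳ₁ x j : M₁) = 0 := by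
      have := DFinsupp.notMem_support_iff.mp hj
      rw [this]
      rfl
    rw [h0, map_zero]
    apply Finset.sum_eq_zero
    intro i hi
    have hij : i ≠ j := fun h => hj (h ▸ hi)
    exact DirectSum.decompose_of_mem_ne ℳ₂ (hu i _ (DirectSum.decompose ℳ₁ x i).2) hij

end Map

variable {R A : Type u} [CommRing R] [CommRing A] [Algebra R A] (𝒜 : ℕ → Submodule R A)
  [GradedAlgebra 𝒜]
variable {M : Type u} [AddCommGroup M] [Module R M] [Module A M] [IsScalarTower R A M]
  (ℳ : ℕ → Submodule R M) [DirectSum.Decomposition ℳ] [SetLike.GradedSMul 𝒜 ℳ]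

/-- a finitely generated graded module has a finite family of homogeneous generators -/
theorem exists_homogeneous_generators [Module.Finite A M] :
    ∃ (s : ℕ) (a : Fin s → ℕ) (μ : Fin s → M), (∀ j, μ j ∈ ℳ (a j)) ∧
      Submodule.span A (Set.range μ) = ⊤ := by
  classical
  obtain ⟨T, hT⟩ := (Module.Finite.fg_top : (⊤ : Submodule A M).FG)
  let S : Finset M :=
    T.biUnion fun t => (decompose ℳ t).support.image fun g => ((decompose ℳ t) g : M)
  have hS : ∀ x ∈ S, ∃ g, x ∈ ℳ g := by
    intro x hx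
    simp only [S, Finset.mem_biUnion, Finset.mem_image] at hx
    obtain ⟨t, -, g, -, rfl⟩ := hx
    exact ⟨g, SetLike.coe_mem _⟩
  have hspan : Submodule.span A (S : Set M) = ⊤ := by
    rw [eq_top_iff, ← hT, Submodule.span_le]
    intro t ht
    rw [SetLike.mem_coe, ← DirectSum.sum_support_decompose ℳ t]
    refine Submodule.sum_mem _ fun g hg => Submodule.subset_span ?_
    exact Finset.mem_coe.mpr
      (Finset.mem_biUnion.mpr ⟨t, ht, Finset.mem_image.mpr ⟨g, hg, rfl⟩⟩)
  let e := S.equivFin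
  refine ⟨S.card, fun j => (hS (e.symm j).1 (e.symm j).2).choose, fun j => (e.symm j).1,
    fun j => (hS (e.symm j).1 (e.symm j).2).choose_spec, ?_⟩
  have hr : Set.range (fun j => ((e.symm j).1 : M)) = (S : Set M) := by
    ext x
    constructor
    · rintro ⟨j, rfl⟩
      exact (e.symm j).2
    · intro hx
      exact ⟨e ⟨x, hx⟩, by simp⟩
  rw [hr, hspan]

variable {s : ℕ} (a : Fin s → ℕ) (μ : Fin s → M)

/-- the presentation map attached to a family of elements -/
noncomputable def pres : (Fin s → A) →ₗ[A] M := Fintype.linearCombination A μ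

theorem pres_apply (f : Fin s → A) : pres μ f = ∑ j, f j • μ j :=
  Fintype.linearCombination_apply A μ f

variable {a μ}

theorem pres_mem (hμ : ∀ j, μ j ∈ ℳ (a j)) (n : ℕ) (f : Fin s → A) (hf : f ∈ freeFam 𝒜 a n) :
    pres μ f ∈ ℳ n := by
  rw [pres_apply]
  refine Submodule.sum_mem _ fun j _ => ?_
  by_cases h : a j ≤ n
  · have h1 : f j ∈ 𝒜 (n - a j) := (mem_piece_of_le 𝒜 h).1 (hf j)
    have h2 : f j • μ j ∈ ℳ (n - a j + a j) := SetLike.GradedSMul.smul_mem h1 (hμ j)
    have e : n - a j + a j = n := by omega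
    rw [e] at h2
    exact h2
  · have h1 : f j = 0 := (mem_piece_of_lt 𝒜 (by omega)).1 (hf j)
    rw [h1, zero_smul]
    exact Submodule.zero_mem _

theorem pres_surjective (hspan : Submodule.span A (Set.range μ) = ⊤) :
    Function.Surjective (pres (A := A) μ) := by
  rw [← LinearMap.range_eq_top]
  unfold pres
  rw [Fintype.range_linearCombination, hspan]

theorem decompose_pres (hμ : ∀ j, μ j ∈ ℳ (a j)) (f : Fin s → A) (n : ℕ) :
    (decompose ℳ (pres μ f) n : M) = pres μ (decompose (freeFam 𝒜 a) f n : Fin s → A) :=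
  decompose_map (freeFam 𝒜 a) ℳ (pres (A := A) μ).toAddMonoidHom
    (fun i m hm => pres_mem 𝒜 ℳ hμ i m hm) f n

/-- homogeneous elements have homogeneous preimages -/
theorem exists_hom_preimage (hμ : ∀ j, μ j ∈ ℳ (a j))
    (hspan : Submodule.span A (Set.range μ) = ⊤) (n : ℕ) (m : M) (hm : m ∈ ℳ n) :
    ∃ f ∈ freeFam 𝒜 a n, pres μ f = m := by
  obtain ⟨f₀, hf₀⟩ := pres_surjective (A := A) hspan m
  refine ⟨(decompose (freeFam 𝒜 a) f₀ n : Fin s → A), SetLike.coe_mem _, ?_⟩
  rw [← decompose_pres 𝒜 ℳ hμ f₀ n, hf₀]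
  exact DirectSum.decompose_of_mem_same ℳ hm

/-- the kernel of the presentation is a homogeneous submodule -/
theorem isHomog_ker (hμ : ∀ j, μ j ∈ ℳ (a j)) :
    IsHomog (freeFam 𝒜 a) (LinearMap.ker (pres (A := A) μ)) := by
  intro x hx n
  rw [LinearMap.mem_ker] at hx ⊢
  rw [← decompose_pres 𝒜 ℳ hμ x n, hx, DirectSum.decompose_zero]
  rfl

end Groth.Agent.Lib.T2H5.GrPres
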