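import Mathlib
import Groth.Agent.Lib.T2H5SerrePn
import Groth.Agent.Lib.Helper13GrTildeFrac
import Groth.Agent.Lib.Helper27GrTildeMul2
import Groth.Agent.Lib.Helper27PnSections

/-!
# T2H5GrSerreVan: Serre vanishing for the twists `M(n)~` of a finitely generated graded module on
projective space over a Noetherian ring (helper5)
-/

set_option autoImplicit false
set_option linter.style.haveILetI false
set_option linter.unusedSectionVars false
universe u

open CategoryTheory CategoryTheory.Limits AlgebraicGeometry TopologicalSpace Opposite MvPolynomial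

namespace Groth.Agent.Lib.T2H5.GrSerreVan

variable (r : ℕ) (A : Type u) [CommRing A]

local notation "PP" => MvPolynomial (Fin (r + 1)) A
local notation "𝒢" => CohB1.polyGrading r A

variable {M : Type u} [AddCommGroup M] [Module A M] [Module (MvPolynomial (Fin (r + 1)) A) M]
  [IsScalarTower A (MvPolynomial (Fin (r + 1)) A) M]
  (ℳ : ℕ → Submodule A M) [DirectSum.Decomposition ℳ]
  [SetLike.GradedSMul (CohB1.polyGrading r A) ℳ]

/-- `M~ ⊗ O(n) ≅ M(n)~` on projective space, for `n ≥ 0` -/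
theorem isIso_mulHom (n : ℕ) (h0 : (0 : ℤ) + (n : ℤ) = (n : ℤ)) :
    IsIso (Groth.Agent.Lib.Helper27GrTildeSect.mulHom 𝒢 ℳ h0) := by
  rw [Scheme.Modules.Hom.isIso_iff_isIso_app]
  intro V
  rw [ConcreteCategory.isIso_iff_bijective]
  apply Groth.Agent.Lib.Helper23.SecTw.bijective_app_of_cover
  intro x _
  obtain ⟨i, hi⟩ := Groth.Agent.Lib.Helper27PnSections.exists_X_not_mem r A x
  refine ⟨Proj.basicOpen 𝒢 (X i), (ProjectiveSpectrum.mem_basicOpen 𝒢 (X i) x).mpr hi, ?_⟩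
  have hnum : (X i : PP) ^ n ∈ 𝒢 (n • 1) := SetLike.pow_mem_graded n (isHomogeneous_X A i)
  have hden : (1 : PP) ∈ 𝒢 0 := SetLike.GradedOne.one_mem
  have hdeg : ((n • 1 : ℕ) : ℤ) = ((0 : ℕ) : ℤ) + (n : ℤ) := by simp
  have hW1 : ∀ y : (Proj.basicOpen 𝒢 (X i : PP) : (Proj 𝒢).Opens),
      (1 : PP) ∉ y.1.asHomogeneousIdeal := fun y h =>
    y.1.isPrime.ne_top ((Ideal.eq_top_iff_one _).mpr h)
  have hWX : ∀ y : (Proj.basicOpen 𝒢 (X i : PP) : (Proj 𝒢).Opens),
      (X i : PP) ^ n ∉ y.1.asHomogeneousIdeal := fun y h =>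
    (ProjectiveSpectrum.mem_basicOpen 𝒢 (X i) y.1).mp y.2 (y.1.isPrime.mem_of_pow_mem _ h)
  exact Groth.Agent.Lib.Helper27GrTildeSect.isoOn_mulHom 𝒢 ℳ h0
    (Proj.basicOpen 𝒢 (X i)) hnum hden hdeg hW1 hWX

variable [IsNoetherianRing A] [Module.Finite (MvPolynomial (Fin (r + 1)) A) M]

/-- the module of a finitely generated graded module is coherent -/
theorem isCoh_tilde_zero : Coh.IsCoh (GrTilde.tilde 𝒢 ℳ 0) := by
  refine ⟨Groth.Agent.Lib.Helper27GrTildeSect.isQuasicoherent_tilde 𝒢 ℳ 0,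
    Groth.Agent.Helper13GrTildeFrac.isFiniteType_tilde_of_TF 𝒢 ℳ ?_ ⟨0, ?_⟩⟩
  · exact (inferInstance : IsNoetherianRing PP).noetherian _
  · have htop : Submodule.span PP (⋃ k ∈ Set.Ici (0 : ℕ), (ℳ k : Set M)) = ⊤ := by
      classical
      rw [eq_top_iff]
      intro m _
      rw [← DirectSum.sum_support_decompose ℳ m]
      refine Submodule.sum_mem _ fun k _ => Submodule.subset_span ?_
      simp only [Set.mem_iUnion]
      exact ⟨k, Set.mem_Ici.mpr (Nat.zero_le k), SetLike.coe_mem _⟩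
    rw [htop]
    exact Module.Finite.fg_top

/-- Serre vanishing for the twists of the module of a finitely generated graded module -/
theorem serre_tilde : ∃ N : ℕ, ∀ n : ℕ, N ≤ n → ∀ i : ℕ, 1 ≤ i →
    Subsingleton (Coh.HH (CohB1.ProjSpace r A) (GrTilde.tilde 𝒢 ℳ (n : ℤ)) i) := by
  obtain ⟨d₀, hd₀⟩ := Groth.Agent.Lib.T2H5.SerrePn.serre_vanishing r A (GrTilde.tilde 𝒢 ℳ 0)
    (isCoh_tilde_zero r A ℳ)
  refine ⟨d₀.toNat, fun n hn i hi => ?_⟩
  have h0 : (0 : ℤ) + (n : ℤ) = (n : ℤ) := zero_add _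
  haveI := isIso_mulHom r A ℳ n h0
  have h1 := hd₀ (n : ℤ) (by omega) i hi
  exact Groth.Agent.Lib.T2H5.PnStruct.subsingleton_HH_of_iso
    (asIso (Groth.Agent.Lib.Helper27GrTildeSect.mulHom 𝒢 ℳ h0)) i h1

end Groth.Agent.Lib.T2H5.GrSerreVan
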