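import Mathlib
import Groth.Agent.Lib.T2H5GrSerreVan
import Groth.Agent.Lib.T2H5GrFreeSect
import Groth.Agent.Lib.T2H5GrPres
import Groth.Agent.Lib.T2H5EulerLen
import Groth.Agent.Lib.Helper2RelTildeMonoEpi

/-!
# T2H5GrSerre: on projective space over a Noetherian ring, `M_n → Γ(M(n)~)` is bijective for
large `n`, for a finitely generated graded module `M` (helper5)
-/

set_option autoImplicit false
set_option linter.style.haveILetI false
set_option linter.unusedSectionVars false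
universe u

open CategoryTheory CategoryTheory.Limits AlgebraicGeometry TopologicalSpace Opposite MvPolynomial

namespace Groth.Agent.Lib.T2H5.GrSerre

open Groth.Agent.Lib.Helper2GrModSect Groth.Agent.Lib.T2H5.GrSyzLoc
  Groth.Agent.Lib.T2H5.GrFree Groth.Agent.Lib.T2H5.GrAlpha Groth.Agent.Lib.T2H5.GrPres
  Groth.Agent.Helper13HomSub Groth.Agent.Lib.T2H5.GrFreeSect
open Groth.Agent.Lib.Helper23.QCohLocal Groth.Agent.Lib.T2H5.HHLes

section General

/-- global sections of a short exact sequence: surjectivity when `H¹` of the kernel vanishes -/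
theorem surjective_app_top_of_subsingleton (A : Type u) [CommRing A] {X : Scheme.{u}}
    [X.Over (Spec (CommRingCat.of A))] (S : ShortComplex X.Modules) (hS : S.ShortExact)
    (h : Subsingleton (Coh.HH X S.X₁ 1)) : Function.Surjective (S.g.app ⊤) := by
  rw [← surjective_HHlin_zero_iff A S.g]
  apply surjective_g_of_injective_f_succ A S hS 0
  intro x y _
  exact @Subsingleton.elim _ h x y

/-- global sections of a short exact sequence: exactness in the middle -/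
theorem exists_of_app_top_eq_zero (A : Type u) [CommRing A] {X : Scheme.{u}}
    [X.Over (Spec (CommRingCat.of A))] (S : ShortComplex X.Modules) (hS : S.ShortExact)
    (t : Γ(S.X₂, ⊤)) (ht : S.g.app ⊤ t = 0) : ∃ τ : Γ(S.X₁, ⊤), S.f.app ⊤ τ = t := by
  have nat : ∀ {M N : X.Modules} (φ : M ⟶ N) (x : Coh.HH X M 0),
      φ.app ⊤ (Sheaf.H.equiv₀ (Coh.toAb M) isTerminalTop x) =
        Sheaf.H.equiv₀ (Coh.toAb N) isTerminalTop (Canon.HHlin A φ 0 x) := fun φ x =>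
    Sheaf.H.equiv₀_naturality isTerminalTop ((toAbF X).map φ) x
  set x := (Sheaf.H.equiv₀ (Coh.toAb S.X₂) isTerminalTop).symm t with hx
  have hxt : Sheaf.H.equiv₀ (Coh.toAb S.X₂) isTerminalTop x = t :=
    (Sheaf.H.equiv₀ (Coh.toAb S.X₂) isTerminalTop).apply_symm_apply t
  have h1 : Canon.HHlin A S.g 0 x = 0 := by
    apply (Sheaf.H.equiv₀ (Coh.toAb S.X₃) isTerminalTop).injective
    rw [← nat S.g x, hxt, map_zero]
    exact ht
  have h2 : x ∈ LinearMap.range (Canon.HHlin A S.f 0) := by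
    rw [← Groth.Agent.Lib.T2H5.EulerLen.exact₂ S hS 0]
    exact h1
  obtain ⟨y, hy⟩ := h2
  refine ⟨Sheaf.H.equiv₀ (Coh.toAb S.X₁) isTerminalTop y, ?_⟩
  rw [nat S.f y, hy]
  exact hxt

end General

variable (r : ℕ) (A : Type u) [CommRing A]

local notation "PP" => MvPolynomial (Fin (r + 1)) A
local notation "𝒢" => CohB1.polyGrading r A

variable {M : Type u} [AddCommGroup M] [Module A M] [Module (MvPolynomial (Fin (r + 1)) A) M]
  [IsScalarTower A (MvPolynomial (Fin (r + 1)) A) M]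
  (ℳ : ℕ → Submodule A M) [DirectSum.Decomposition ℳ]
  [SetLike.GradedSMul (CohB1.polyGrading r A) ℳ]

section Pres

variable {s : ℕ} (a : Fin s → ℕ) (μ : Fin s → M) (hμ : ∀ j, μ j ∈ ℳ (a j))
  (hspan : Submodule.span (MvPolynomial (Fin (r + 1)) A) (Set.range μ) = ⊤)

/-- the kernel of the presentation -/
noncomputable abbrev KK : Submodule PP (Fin s → PP) := LinearMap.ker (pres (A := PP) μ)

/-- the pieces of the kernel -/
noncomputable abbrev KKfam : ℕ → Submodule A (KK r A μ) := grN (freeFam 𝒢 a) (KK r A μ)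

theorem subtype_mem (i : ℕ) (k : KK r A μ) (hk : k ∈ KKfam r A a μ i) :
    (KK r A μ).subtype k ∈ freeFam 𝒢 a i := hk

/-- the inclusion of the module of the kernel -/
noncomputable def fK (n : ℤ) :
    GrMod.tilde 𝒢 (KKfam r A a μ) n ⟶ GrMod.tilde 𝒢 (freeFam 𝒢 a) n :=
  GrMod.map 𝒢 (KK r A μ).subtype (subtype_mem r A a μ) n

include hμ in
/-- the projection onto the module of `M` -/
noncomputable def gF (n : ℤ) : GrMod.tilde 𝒢 (freeFam 𝒢 a) n ⟶ GrMod.tilde 𝒢 ℳ n :=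
  GrMod.map 𝒢 (pres (A := PP) μ) (pres_mem 𝒢 ℳ hμ) n

theorem fK_gF (n : ℤ) : fK r A a μ n ≫ gF r A ℳ a μ hμ n = 0 :=
  map_comp_eq_zero 𝒢 _ _ _ _ (subtype_mem r A a μ) _ (pres_mem 𝒢 ℳ hμ)
    (by
      apply LinearMap.ext
      intro k
      exact k.2) n

include hspan in
theorem shortExact (n : ℤ) :
    (ShortComplex.mk (fK r A a μ n) (gF r A ℳ a μ hμ n) (fK_gF r A ℳ a μ hμ n)).ShortExact := by
  letI := decompositionGrN (freeFam 𝒢 a) (KK r A μ) (isHomog_ker 𝒢 ℳ hμ)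
  haveI : Mono (fK r A a μ n) :=
    Groth.Agent.Lib.Helper2.RelTildeMonoEpi.mono_of_app_injective _
      (Groth.Agent.Lib.Helper2.GrModMap.map_app_injective_of_TN 𝒢 (KKfam r A a μ)
        (freeFam 𝒢 a) (KK r A μ).subtype (subtype_mem r A a μ) n 0
        (fun _ _ m _ h0 => Subtype.ext h0))
  haveI : Epi (gF r A ℳ a μ hμ n) :=
    epi_map 𝒢 (freeFam 𝒢 a) ℳ (pres (A := PP) μ) (pres_mem 𝒢 ℳ hμ)
      (fun i m hm => exists_hom_preimage 𝒢 ℳ hμ hspan i m hm) n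
  exact
    { exact := exact_map 𝒢 (KKfam r A a μ) (freeFam 𝒢 a) ℳ (KK r A μ).subtype
        (subtype_mem r A a μ) (pres (A := PP) μ) (pres_mem 𝒢 ℳ hμ)
        (LinearMap.exact_subtype_ker_map _)
        (fun i m hm => ⟨m, hm, rfl⟩)
        (fun y i m hm c hc h0 =>
          Groth.Agent.Lib.Helper2.GrModMap.exists_homogeneous_not_mem_smul_eq_zero 𝒢 ℳ y
            (pres_mem 𝒢 ℳ hμ i m hm) c hc h0) n (fK_gF r A ℳ a μ hμ n) }

end Pres

variable [IsNoetherianRing A] [Module.Finite (MvPolynomial (Fin (r + 1)) A) M]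

/-- surjectivity of the comparison map in large degrees -/
theorem alpha_surjective_of_large :
    ∃ N : ℕ, ∀ n : ℕ, N ≤ n → Function.Surjective (alpha 𝒢 ℳ n) := by
  obtain ⟨s, a, μ, hμ, hspan⟩ := exists_homogeneous_generators (A := PP) ℳ
  letI := decompositionGrN (freeFam 𝒢 a) (KK r A μ) (isHomog_ker 𝒢 ℳ hμ)
  obtain ⟨N₁, hN₁⟩ := Groth.Agent.Lib.T2H5.GrSerreVan.serre_tilde r A (KKfam r A a μ)
  obtain ⟨N₂, hN₂⟩ : ∃ N₂ : ℕ, ∀ j, a j ≤ N₂ := by
    obtain ⟨N₂, h⟩ := Finset.exists_le (Finset.univ.image a)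
    exact ⟨N₂, fun j => h _ (Finset.mem_image.2 ⟨j, Finset.mem_univ j, rfl⟩)⟩
  refine ⟨max N₁ N₂, fun n hn σ => ?_⟩
  have hS := shortExact r A ℳ a μ hμ hspan (n : ℤ)
  have h1 : Subsingleton (Coh.HH (CohB1.ProjSpace r A)
      (GrMod.tilde 𝒢 (KKfam r A a μ) (n : ℤ)) 1) :=
    hN₁ n ((le_max_left _ _).trans hn) 1 le_rfl
  obtain ⟨τ, hτ⟩ := surjective_app_top_of_subsingleton A (X := CohB1.ProjSpace r A) _ hS h1 σ
  obtain ⟨f, hf⟩ := alpha_free_surjective r A a n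
    (fun j => (hN₂ j).trans ((le_max_right _ _).trans hn)) τ
  refine ⟨⟨pres μ f.1, pres_mem 𝒢 ℳ hμ n f.1 f.2⟩, ?_⟩
  rw [← map_alpha 𝒢 (freeFam 𝒢 a) ℳ (pres (A := PP) μ) (pres_mem 𝒢 ℳ hμ) n f, hf]
  exact hτ

/-- injectivity of the comparison map in large degrees -/
theorem alpha_injective_of_large :
    ∃ N : ℕ, ∀ n : ℕ, N ≤ n → ∀ m : ℳ n, alpha 𝒢 ℳ n m = 0 → m = 0 := by
  obtain ⟨s, a, μ, hμ, hspan⟩ := exists_homogeneous_generators (A := PP) ℳ
  letI := decompositionGrN (freeFam 𝒢 a) (KK r A μ) (isHomog_ker 𝒢 ℳ hμ)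
  obtain ⟨N, hN⟩ := alpha_surjective_of_large r A (KKfam r A a μ)
  refine ⟨N, fun n hn m hm => ?_⟩
  have hS := shortExact r A ℳ a μ hμ hspan (n : ℤ)
  obtain ⟨f, hf, hfm⟩ := exists_hom_preimage 𝒢 ℳ hμ hspan n m.1 m.2
  have h1 : (gF r A ℳ a μ hμ (n : ℤ)).app ⊤ (alpha 𝒢 (freeFam 𝒢 a) n ⟨f, hf⟩) = 0 := by
    have h2 := map_alpha 𝒢 (freeFam 𝒢 a) ℳ (pres (A := PP) μ) (pres_mem 𝒢 ℳ hμ) n ⟨f, hf⟩
    have h3 : (⟨pres μ f, pres_mem 𝒢 ℳ hμ n f hf⟩ : ℳ n) = m := Subtype.ext hfm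
    rw [h3, hm] at h2
    exact h2
  obtain ⟨τ, hτ⟩ := exists_of_app_top_eq_zero A (X := CohB1.ProjSpace r A) _ hS _ h1
  obtain ⟨k, hk⟩ := hN n hn τ
  have h4 : alpha 𝒢 (freeFam 𝒢 a) n ⟨k.1.1, k.2⟩ = alpha 𝒢 (freeFam 𝒢 a) n ⟨f, hf⟩ := by
    rw [← hτ, ← hk]
    exact (map_alpha 𝒢 (KKfam r A a μ) (freeFam 𝒢 a) (KK r A μ).subtype
      (subtype_mem r A a μ) n k).symm
  have h5 : (⟨k.1.1, k.2⟩ : freeFam 𝒢 a n) - ⟨f, hf⟩ = 0 := by
    apply alpha_free_injective r A a n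
    have := map_sub (alphaHom 𝒢 (freeFam 𝒢 a) n) ⟨k.1.1, k.2⟩ ⟨f, hf⟩
    rw [alphaHom_apply, alphaHom_apply, alphaHom_apply] at this
    rw [this, h4, sub_self]
  have h6 : f = k.1.1 := by
    have := congrArg Subtype.val (sub_eq_zero.mp h5)
    exact this.symm
  apply Subtype.ext
  rw [← hfm, h6]
  exact k.1.2

/-- bijectivity of the comparison map in large degrees, on projective space over a Noetherian
ring -/
theorem alpha_bijective_of_large :
    ∃ N : ℕ, ∀ n : ℕ, N ≤ n → Function.Bijective (alpha 𝒢 ℳ n) := by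
  obtain ⟨N₁, hN₁⟩ := alpha_surjective_of_large r A ℳ
  obtain ⟨N₂, hN₂⟩ := alpha_injective_of_large r A ℳ
  refine ⟨max N₁ N₂, fun n hn => ⟨?_, hN₁ n ((le_max_left _ _).trans hn)⟩⟩
  intro m m' hmm
  have h1 : alpha 𝒢 ℳ n (m - m') = 0 := by
    have := map_sub (alphaHom 𝒢 ℳ n) m m'
    rw [alphaHom_apply, alphaHom_apply, alphaHom_apply] at this
    rw [this, hmm, sub_self]
  exact sub_eq_zero.mp (hN₂ n ((le_max_right _ _).trans hn) _ h1)

end Groth.Agent.Lib.T2H5.GrSerre
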