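import Mathlib
import Groth.Agent.Lib.T2H5GrSerre
import Groth.Agent.Lib.Helper2GrModComapIso
import Groth.Agent.Lib.Helper13ProjQuotIdeal
import Groth.Agent.Lib.T2H5ClosedLin
import Groth.Agent.Lib.Helper27ProjClosed
import Groth.Agent.Lib.Helper27PnSections

/-!
# T2H5ProjTransfer: from projective space to `Proj` of a graded algebra generated by finitely
many elements of degree one (helper5)

A graded module over such an algebra `S` is a graded module over the polynomial ring, and its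
modules `M(n)~` on `Proj S` have the same sections as those on projective space.
-/

set_option autoImplicit false
set_option linter.style.haveILetI false
set_option linter.unusedSectionVars false
universe u

open CategoryTheory CategoryTheory.Limits AlgebraicGeometry TopologicalSpace Opposite MvPolynomial
open scoped HomogeneousIdeal

namespace Groth.Agent.Lib.T2H5.ProjTransfer

open Groth.Agent.Lib.Helper2GrModSect Groth.Agent.Lib.T2H5.GrAlpha

variable {A S : Type u} [CommRing A] [CommRing S] [Algebra A S] (𝒜 : ℕ → Submodule A S)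
  [GradedAlgebra 𝒜] (r : ℕ) (g : Fin (r + 1) → S) (hg1 : ∀ i, g i ∈ 𝒜 1)

local notation "PP" => MvPolynomial (Fin (r + 1)) A
local notation "𝒢" => CohB1.polyGrading r A

include hg1 in
theorem aeval_mem {p : MvPolynomial (Fin (r + 1)) A} {d : ℕ} (hp : p ∈ CohB1.polyGrading r A d) :
    aeval g p ∈ 𝒜 d := by
  classical
  rw [p.as_sum, map_sum]
  refine Submodule.sum_mem _ fun m hm => ?_
  rw [aeval_monomial, ← Algebra.smul_def]
  refine Submodule.smul_mem _ _ ?_
  have hdeg : Finsupp.weight 1 m = d := hp (mem_support_iff.mp hm)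
  have h1 := SetLike.prod_pow_mem_graded 𝒜 (fun _ : Fin (r + 1) => 1) g (fun i => m i)
    (F := m.support) (fun k _ => hg1 k)
  have h2 : (∑ k ∈ m.support, m k • 1) = d := by
    rw [← hdeg, Finsupp.weight_apply]
    rfl
  rw [h2] at h1
  exact h1

/-- the graded ring homomorphism from the polynomial ring -/
noncomputable def psi : CohB1.polyGrading r A →+*ᵍ 𝒜 where
  toRingHom := (aeval g : PP →ₐ[A] S).toRingHom
  map_mem := fun hx => aeval_mem 𝒜 r g hg1 hx

theorem psi_apply (p : MvPolynomial (Fin (r + 1)) A) : psi 𝒜 r g hg1 p = aeval g p := rfl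

theorem psi_surjective (hgen : Algebra.adjoin A (Set.range g) = ⊤) :
    Function.Surjective (psi 𝒜 r g hg1) := by
  intro x
  have hx : x ∈ (aeval g : PP →ₐ[A] S).range := by
    rw [← Algebra.adjoin_range_eq_range_aeval, hgen]
    exact Algebra.mem_top
  obtain ⟨p, hp⟩ := hx
  exact ⟨p, hp⟩

variable {M : Type u} [AddCommGroup M] [Module A M] [Module S M] [IsScalarTower A S M]
  (ℳ : ℕ → Submodule A M) [DirectSum.Decomposition ℳ] [SetLike.GradedSMul 𝒜 ℳ]

variable (A) in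
/-- restriction of scalars to the polynomial ring -/
@[reducible] noncomputable def polyModule (M : Type u) [AddCommGroup M] [Module S M] :
    Module (MvPolynomial (Fin (r + 1)) A) M :=
  Module.compHom M (aeval g : PP →ₐ[A] S).toRingHom

theorem poly_smul_def (p : MvPolynomial (Fin (r + 1)) A) (m : M) :
    letI := polyModule A r g M
    p • m = aeval g p • m := rfl

theorem isScalarTower_poly :
    letI := polyModule A r g M
    IsScalarTower A (MvPolynomial (Fin (r + 1)) A) M := by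
  letI := polyModule A r g M
  refine ⟨fun a p m => ?_⟩
  change aeval g (a • p) • m = a • (aeval g p • m)
  rw [map_smul, smul_assoc]

include hg1 in
theorem gradedSMul_poly :
    letI := polyModule A r g M
    SetLike.GradedSMul (CohB1.polyGrading r A) ℳ := by
  letI := polyModule A r g M
  refine ⟨fun {i j p m} hp hm => ?_⟩
  change aeval g p • m ∈ ℳ (i + j)
  exact SetLike.GradedSMul.smul_mem (aeval_mem 𝒜 r g hg1 hp) hm

theorem finite_poly (hgen : Algebra.adjoin A (Set.range g) = ⊤) [Module.Finite S M] :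
    letI := polyModule A r g M
    Module.Finite (MvPolynomial (Fin (r + 1)) A) M := by
  letI := polyModule A r g M
  obtain ⟨T, hT⟩ := (Module.Finite.fg_top : (⊤ : Submodule S M).FG)
  refine ⟨⟨T, ?_⟩⟩
  have key : ∀ m : M, m ∈ Submodule.span S (T : Set M) →
      m ∈ Submodule.span (MvPolynomial (Fin (r + 1)) A) (T : Set M) := by
    intro m hm
    induction hm using Submodule.span_induction with
    | mem x hx => exact Submodule.subset_span hx
    | zero => exact Submodule.zero_mem _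
    | add x y _ _ hx hy => exact Submodule.add_mem _ hx hy
    | smul c x _ hx =>
      have hc : c ∈ (aeval g : MvPolynomial (Fin (r + 1)) A →ₐ[A] S).range := by
        rw [← Algebra.adjoin_range_eq_range_aeval, hgen]
        exact Algebra.mem_top
      obtain ⟨p, rfl⟩ := hc
      exact Submodule.smul_mem _ p hx
  rw [eq_top_iff]
  intro m _
  exact key m (by rw [hT]; trivial)

/-- the cohomology of a module and of its direct image along a closed immersion -/
theorem nonempty_equiv_pushforward {X Y : Scheme.{u}} (i : X ⟶ Y) [IsClosedImmersion i]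
    (M : X.Modules) (p : ℕ) :
    Nonempty (Coh.HH X M p ≃ Coh.HH Y ((Scheme.Modules.pushforward i).obj M) p) := by
  obtain ⟨θ, hθ, _⟩ := Groth.Agent.Lib.T2H5.ClosedLin.exists_theta i.base i.isClosedEmbedding p
  exact ⟨Equiv.ofBijective (θ (Coh.toAb M)) (hθ (Coh.toAb M))⟩

section Comap

variable {R A' B : Type u} [CommRing R] [CommRing A'] [CommRing B] [Algebra R A'] [Algebra R B]
  (𝒜' : ℕ → Submodule R A') [GradedAlgebra 𝒜'] (ℬ : ℕ → Submodule R B) [GradedAlgebra ℬ]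
  (ψ : 𝒜' →+*ᵍ ℬ) (hψ : ℬ₊ ≤ (𝒜'₊).map ψ)
  {N : Type u} [AddCommGroup N] [Module R N] [Module A' N] [Module B N]
  (𝒩 : ℕ → Submodule R N) [DirectSum.Decomposition 𝒩] [SetLike.GradedSMul 𝒜' 𝒩]
  [SetLike.GradedSMul ℬ 𝒩] (hsm : ∀ (p : A') (m : N), p • m = ψ p • m)

variable {𝒜' ℬ} in
/-- the identity, semilinear over the homomorphism of graded rings -/
def idSemi : N →ₛₗ[ψ.toRingHom] N where
  toFun := id
  map_add' := fun _ _ => rfl
  map_smul' := hsm

include hψ hsm in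
/-- if the comparison map is bijective over the source ring, it is bijective over the target -/
theorem bijective_alpha_of_comap (n : ℕ) (h : Function.Bijective (alpha 𝒜' 𝒩 n)) :
    Function.Bijective (alpha ℬ 𝒩 n) := by
  have hv : ∀ (i : ℕ) (m : N), m ∈ 𝒩 i → idSemi ψ hsm m ∈ 𝒩 i := fun _ _ hm => hm
  haveI : IsIso (GrMod.comap ψ hψ (idSemi ψ hsm) hv (n : ℤ)) :=
    Groth.Agent.Lib.Helper2.GrModComapIso.isIso_comap ψ hψ 𝒩 𝒩 (idSemi ψ hsm) hv (n : ℤ)
      ⟨fun _ _ h => h, fun m => ⟨m, rfl⟩⟩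
  have hiso : IsIso ((GrMod.comap ψ hψ (idSemi ψ hsm) hv (n : ℤ)).app ⊤) :=
    Scheme.Modules.Hom.isIso_iff_isIso_app.1 inferInstance ⊤
  have hbij : Function.Bijective ((GrMod.comap ψ hψ (idSemi ψ hsm) hv (n : ℤ)).app ⊤) :=
    ConcreteCategory.bijective_of_isIso _
  let c : Γ(GrMod.tilde 𝒜' 𝒩 (n : ℤ), ⊤) → Γ(GrMod.tilde ℬ 𝒩 (n : ℤ), ⊤) :=
    fun σ => (GrMod.comap ψ hψ (idSemi ψ hsm) hv (n : ℤ)).app ⊤ σ
  have hc : Function.Bijective c := hbij
  have hcomp : alpha ℬ 𝒩 n = c ∘ alpha 𝒜' 𝒩 n := by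
    funext m
    apply Groth.Agent.Lib.T2H5.GrSyzLoc.sec_ext'
    intro y hy
    have h1 : secVal ℬ 𝒩 (n : ℤ) ⊤ (c (alpha 𝒜' 𝒩 n m)) y hy =
        GrMod.locModMap ψ hψ (idSemi ψ hsm) y
          (secVal 𝒜' 𝒩 (n : ℤ) ⊤ (alpha 𝒜' 𝒩 n m) (ProjectiveSpectrum.comap ψ hψ y) trivial) :=
      rfl
    rw [Function.comp_apply, h1, secVal_alpha, secVal_alpha]
    change _ = GrMod.locModMap ψ hψ (idSemi ψ hsm) y (LocalizedModule.mk m.1 1)
    rw [GrMod.locModMap_mk]
    congr 1
    apply Subtype.ext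
    exact (map_one ψ).symm
  rw [hcomp]
  exact hc.comp h

include hψ hsm in
/-- vanishing of cohomology passes from the source ring to the target, for a surjective
homomorphism of graded rings -/
theorem subsingleton_HH_of_comap (hsurj : Function.Surjective ψ) (n : ℤ) (j : ℕ)
    (h : Subsingleton (Coh.HH (Proj 𝒜') (GrMod.tilde 𝒜' 𝒩 n) j)) :
    Subsingleton (Coh.HH (Proj ℬ) (GrMod.tilde ℬ 𝒩 n) j) := by
  have hv : ∀ (i : ℕ) (m : N), m ∈ 𝒩 i → idSemi ψ hsm m ∈ 𝒩 i := fun _ _ hm => hm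
  haveI : IsIso (GrMod.comap ψ hψ (idSemi ψ hsm) hv n) :=
    Groth.Agent.Lib.Helper2.GrModComapIso.isIso_comap ψ hψ 𝒩 𝒩 (idSemi ψ hsm) hv n
      ⟨fun _ _ h => h, fun m => ⟨m, rfl⟩⟩
  haveI : IsClosedImmersion (Proj.map ψ hψ) :=
    Groth.Agent.Lib.Helper27ProjClosed.isClosedImmersion_map ψ hsurj hψ
  have h1 : Subsingleton (Coh.HH (Proj 𝒜')
      ((Scheme.Modules.pushforward (Proj.map ψ hψ)).obj (GrMod.tilde ℬ 𝒩 n)) j) :=
    Groth.Agent.Lib.T2H5.PnStruct.subsingleton_HH_of_iso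
      (asIso (GrMod.comap ψ hψ (idSemi ψ hsm) hv n)) j h
  obtain ⟨e⟩ := nonempty_equiv_pushforward (Proj.map ψ hψ) (GrMod.tilde ℬ 𝒩 n) j
  exact e.subsingleton

end Comap

include hg1 in
/-- the comparison map `M_n → Γ(Proj S, M(n)~)` is bijective for large `n` -/
theorem exists_bijective_alpha [IsNoetherianRing A] [Module.Finite S M]
    (hgen : Algebra.adjoin A (Set.range g) = ⊤) :
    ∃ N : ℕ, ∀ n : ℕ, N ≤ n → Function.Bijective (alpha 𝒜 ℳ n) := by
  letI := polyModule A r g M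
  haveI := isScalarTower_poly (A := A) r g (M := M)
  haveI := gradedSMul_poly 𝒜 r g hg1 ℳ
  haveI := finite_poly (A := A) r g hgen (M := M)
  obtain ⟨N, hN⟩ := Groth.Agent.Lib.T2H5.GrSerre.alpha_bijective_of_large r A ℳ
  refine ⟨N, fun n hn => ?_⟩
  exact bijective_alpha_of_comap 𝒢 𝒜 (psi 𝒜 r g hg1)
    (Groth.Agent.Helper13ProjQuotIdeal.irrelevant_le_map _ (psi_surjective 𝒜 r g hg1 hgen)) ℳ
    (fun _ _ => rfl) n (hN n hn)

include hg1 in
/-- Serre vanishing for the twists `M(n)~` on `Proj S` -/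
theorem exists_subsingleton_HH [IsNoetherianRing A] [Module.Finite S M]
    (hgen : Algebra.adjoin A (Set.range g) = ⊤) :
    ∃ N : ℕ, ∀ n : ℕ, N ≤ n → ∀ j : ℕ, 1 ≤ j →
      Subsingleton (Coh.HH (Proj 𝒜) (GrTilde.tilde 𝒜 ℳ (n : ℤ)) j) := by
  letI := polyModule A r g M
  haveI := isScalarTower_poly (A := A) r g (M := M)
  haveI := gradedSMul_poly 𝒜 r g hg1 ℳ
  haveI := finite_poly (A := A) r g hgen (M := M)
  obtain ⟨N, hN⟩ := Groth.Agent.Lib.T2H5.GrSerreVan.serre_tilde r A ℳ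
  refine ⟨N, fun n hn j hj => ?_⟩
  exact subsingleton_HH_of_comap 𝒢 𝒜 (psi 𝒜 r g hg1)
    (Groth.Agent.Helper13ProjQuotIdeal.irrelevant_le_map _ (psi_surjective 𝒜 r g hg1 hgen)) ℳ
    (fun _ _ => rfl) (psi_surjective 𝒜 r g hg1 hgen) (n : ℤ) j (hN n hn j hj)

section Linear

open Groth.Agent.Lib.Helper27PnSections

/-- the comparison map, with values in the sections of `GrTilde.tilde` -/
noncomputable def alphaT (n : ℕ) (m : ℳ n) : Γ(GrTilde.tilde 𝒜 ℳ (n : ℤ), ⊤) :=
  GrTilde.globalOf 𝒜 ℳ m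

theorem alphaT_add (n : ℕ) (m m' : ℳ n) :
    alphaT 𝒜 ℳ n (m + m') = alphaT 𝒜 ℳ n m + alphaT 𝒜 ℳ n m' := alpha_add 𝒜 ℳ n m m'

theorem bijective_alphaT (n : ℕ) (h : Function.Bijective (alpha 𝒜 ℳ n)) :
    Function.Bijective (alphaT 𝒜 ℳ n) := h

theorem alphaT_smul (n : ℕ) (c : A) (m : ℳ n) :
    alphaT 𝒜 ℳ n (c • m) =
      Groth.Agent.Lib.Helper27GrTildeSect.constFun 𝒜 c • alphaT 𝒜 ℳ n m := by
  apply Groth.Agent.Lib.Helper27GrTildeSect.sec_ext
  intro y hy
  obtain ⟨e, f, he, hf, hfy⟩ :=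
    Groth.Agent.Lib.Helper27GrTildeSect.exists_homogeneous_pos_not_mem 𝒜 y
  rw [Groth.Agent.Lib.Helper27GrTildeSect.secVal_smul, funVal_constFun_val 𝒜 hf he c y hfy]
  change (LocalizedModule.mk (c • m.1) 1 : GrTilde.LocMod 𝒜 (M := M) y) =
    (Localization.mk (algebraMap A S c) (1 : y.asHomogeneousIdeal.toIdeal.primeCompl)) •
      (LocalizedModule.mk m.1 1 : GrTilde.LocMod 𝒜 (M := M) y)
  rw [LocalizedModule.mk_smul_mk, one_mul, algebraMap_smul]

/-- when the comparison map is bijective, `H⁰(Proj S, M(n)~) ≅ M_n` linearly over the base -/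
theorem nonempty_linearEquiv_HH_zero (n : ℕ) (h : Function.Bijective (alpha 𝒜 ℳ n)) :
    Nonempty (Coh.HH (Proj 𝒜) (GrTilde.tilde 𝒜 ℳ (n : ℤ)) 0 ≃ₗ[A] ↥(ℳ n)) := by
  have h' := bijective_alphaT 𝒜 ℳ n h
  let e0 := hh0Equiv (Proj 𝒜) (GrTilde.tilde 𝒜 ℳ (n : ℤ))
  let c : Γ(GrTilde.tilde 𝒜 ℳ (n : ℤ), ⊤) ≃+
      ↑((Coh.toAb (GrTilde.tilde 𝒜 ℳ (n : ℤ))).obj.obj (op ⊤)) :=
    { toFun := fun x => x
      invFun := fun x => x
      left_inv := fun _ => rfl
      right_inv := fun _ => rfl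
      map_add' := fun _ _ => rfl }
  have hc_smul : ∀ (a : A) (s : Γ(GrTilde.tilde 𝒜 ℳ (n : ℤ), ⊤)),
      c (Groth.Agent.Lib.Helper27GrTildeSect.constFun 𝒜 a • s) =
        @HSMul.hSMul ((Proj 𝒜).ringCatSheaf.obj.obj (op ⊤))
          ((GrTilde.tilde 𝒜 ℳ (n : ℤ)).val.obj (op ⊤))
          ((GrTilde.tilde 𝒜 ℳ (n : ℤ)).val.obj (op ⊤)) _
          (Coh.toGlobal (Proj 𝒜 ↘ Spec (CommRingCat.of A)) a) (c s) :=
    fun _ _ => rfl
  let φ : ↥(ℳ n) →ₗ[A] Coh.HH (Proj 𝒜) (GrTilde.tilde 𝒜 ℳ (n : ℤ)) 0 :=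
    { toFun := fun b => e0.symm (c (alphaT 𝒜 ℳ n b))
      map_add' := fun b b' => by
        rw [alphaT_add, map_add c]
        exact map_add e0.symm _ _
      map_smul' := fun a b => by
        apply e0.injective
        rw [RingHom.id_apply, AddEquiv.apply_symm_apply]
        have h1 : e0 (a • e0.symm (c (alphaT 𝒜 ℳ n b))) =
            e0 ((Coh.toGlobal (Proj 𝒜 ↘ Spec (CommRingCat.of A)) a) •
              e0.symm (c (alphaT 𝒜 ℳ n b))) := rfl
        rw [h1, hh0Equiv_smul, Coh.smulAb_app, resTop_top, AddEquiv.apply_symm_apply,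
          alphaT_smul, hc_smul] }
  have hbij : Function.Bijective φ :=
    ⟨fun b b' hb => h'.1 (c.injective (e0.symm.injective hb)),
      fun x => by
        obtain ⟨b, hb⟩ := h'.2 (c.symm (e0 x))
        exact ⟨b, by
          change e0.symm (c (alphaT 𝒜 ℳ n b)) = x
          rw [hb, AddEquiv.apply_symm_apply, AddEquiv.symm_apply_apply]⟩⟩
  exact ⟨(LinearEquiv.ofBijective φ hbij).symm⟩

end Linear

end Groth.Agent.Lib.T2H5.ProjTransfer
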