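import Mathlib
import Groth.Agent.Lib.T2H5GrSerre
import Groth.Agent.Lib.T2H5Twist
import Groth.Agent.Lib.T2H5ProjTransfer
import Groth.Agent.Lib.T2H5ClosedTransfer
import Groth.Agent.Lib.Helper27ProjGamma2
import Groth.Agent.Lib.Helper23QCohAbelian
import Groth.Agent.S4403
import Groth.Agent.S0046
import Groth.Agent.S2357

/-!
# T2H5ProjExact: global sections of high twists of an exact sequence of coherent modules on
`Proj` of a graded algebra generated in degree one are exact (helper5)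
-/

set_option autoImplicit false
set_option linter.style.haveILetI false
set_option linter.unusedSectionVars false
universe u

open CategoryTheory CategoryTheory.Limits AlgebraicGeometry TopologicalSpace Opposite
open scoped HomogeneousIdeal

namespace Groth.Agent.Lib.T2H5.ProjExact

section General

variable (A : Type u) [CommRing A] {X : Scheme.{u}} [X.Over (Spec (CommRingCat.of A))]

instance isRightAdjoint_globalSectionsA :
    (CohIII.globalSectionsA A (X := X)).IsRightAdjoint := by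
  unfold CohIII.globalSectionsA
  haveI : (moduleSpecΓFunctor (R := CommRingCat.of A)).IsRightAdjoint :=
    (tilde.adjunction (R := CommRingCat.of A)).isRightAdjoint
  infer_instance

theorem hom_globalSectionsA_map {M N : X.Modules} (φ : M ⟶ N) (x : Γ(M, ⊤)) :
    ((CohIII.globalSectionsA A).map φ).hom x = φ.app ⊤ x := rfl

/-- global sections of an exact sequence `F → G → H` are exact when `H¹` of the kernel of
`F → G` vanishes -/
theorem exact_sections (C : ShortComplex X.Modules) (hC : C.Exact)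
    (hK : Subsingleton (Coh.HH X (kernel C.f) 1)) :
    Function.Exact ((CohIII.globalSectionsA A).map C.f).hom
      ((CohIII.globalSectionsA A).map C.g).hom := by
  -- the left exact part
  have hZ : ((ShortComplex.mk C.iCycles C.g C.iCycles_g).map (CohIII.globalSectionsA A)).Exact :=
    (ShortComplex.exact_of_f_is_kernel _ C.cyclesIsKernel).map_of_mono_of_preservesKernel
      (CohIII.globalSectionsA A) (by dsimp; infer_instance) inferInstance
  rw [ShortComplex.moduleCat_exact_iff] at hZ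
  -- the surjection
  haveI : Epi C.toCycles := hC.epi_toCycles
  let S₁ : ShortComplex X.Modules :=
    ShortComplex.mk (kernel.ι C.toCycles) C.toCycles (kernel.condition _)
  have hS₁ : S₁.ShortExact :=
    { exact := ShortComplex.exact_of_f_is_kernel _ (kernelIsKernel C.toCycles)
      mono_f := by dsimp [S₁]; infer_instance
      epi_g := by dsimp [S₁]; infer_instance }
  have e : kernel C.toCycles ≅ kernel C.f :=
    (kernelCompMono C.toCycles C.iCycles).symm ≪≫ kernelIsoOfEq C.toCycles_i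
  have hK' : Subsingleton (Coh.HH X S₁.X₁ 1) :=
    Groth.Agent.Lib.T2H5.PnStruct.subsingleton_HH_of_iso e.symm 1 hK
  have hsurj : Function.Surjective (C.toCycles.app ⊤) :=
    Groth.Agent.Lib.T2H5.GrSerre.surjective_app_top_of_subsingleton A S₁ hS₁ hK'
  intro y
  constructor
  · intro hy
    obtain ⟨z, hz⟩ := hZ y hy
    obtain ⟨x, hx⟩ := hsurj z
    refine ⟨x, ?_⟩
    rw [← hz]
    change ((CohIII.globalSectionsA A).map C.f).hom x =
      ((CohIII.globalSectionsA A).map C.iCycles).hom z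
    rw [← C.toCycles_i, Functor.map_comp]
    change ((CohIII.globalSectionsA A).map C.iCycles).hom (C.toCycles.app ⊤ x) = _
    rw [hx]
  · rintro ⟨x, rfl⟩
    have h0 : (CohIII.globalSectionsA A).map C.f ≫ (CohIII.globalSectionsA A).map C.g = 0 := by
      rw [← Functor.map_comp, C.zero, Functor.map_zero]
    exact congr($(h0).hom x)

open Groth.Agent.Lib.T2H5.Twist

theorem tensorRightMod_eq (L : X.Modules) : DCoh.tensorRightMod L = tr L := rfl

/-- the twisted version -/
theorem exact_sections_tr (C : ShortComplex X.Modules) (hC : C.Exact) {L : X.Modules}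
    (hL : PicF.IsInvertible L)
    (hK : Subsingleton (Coh.HH X (CohB1.tensorMod (kernel C.f) L) 1)) :
    Function.Exact ((DCoh.tensorRightMod L ⋙ CohIII.globalSectionsA A).map C.f).hom
      ((DCoh.tensorRightMod L ⋙ CohIII.globalSectionsA A).map C.g).hom := by
  haveI := preservesFiniteLimits_tr hL
  haveI := preservesFiniteColimits_tr L
  have hC' : (C.map (tr L)).Exact := hC.map (tr L)
  have e : (tr L).obj (kernel C.f) ≅ kernel ((tr L).map C.f) := PreservesKernel.iso (tr L) C.f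
  have hK' : Subsingleton (Coh.HH X (kernel (C.map (tr L)).f) 1) :=
    Groth.Agent.Lib.T2H5.PnStruct.subsingleton_HH_of_iso e 1 hK
  exact exact_sections A (C.map (tr L)) hC' hK'

end General

section Pull

variable {R A B : Type u} [CommRing R] [CommRing A] [Algebra R A] (𝒜 : ℕ → Submodule R A)
  [GradedAlgebra 𝒜] [CommRing B] [Algebra R B] (ℬ : ℕ → Submodule R B) [GradedAlgebra ℬ]
  (φ : 𝒜 →+*ᵍ ℬ) (hφ : ℬ₊ ≤ (𝒜₊).map φ)

include hφ in
theorem dom_eq_top : PCone.dom φ = ⊤ := by
  rw [eq_top_iff]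
  intro x _
  obtain ⟨s, y, hy⟩ := (Proj.mapAffineOpenCover φ hφ).openCover.exists_eq x
  have hx : x ∈ Proj.basicOpen ℬ (φ s.2.1) := by
    rw [← Proj.opensRange_awayι ℬ (φ s.2.1) (φ.2 s.2.2) s.1.2]
    exact ⟨y, hy⟩
  exact Opens.mem_iSup.mpr ⟨⟨s.2.1, s.1.1, s.1.2, s.2.2⟩, hx⟩

/-- an isomorphism of modules can be tested after restriction to the whole space -/
theorem nonempty_iso_of_restrict_top {X : Scheme.{u}} (U : X.Opens) (hU : U = ⊤)
    (M N : X.Modules)
    (e : (Scheme.Modules.pullback U.ι).obj M ≅ (Scheme.Modules.pullback U.ι).obj N) :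
    Nonempty (M ≅ N) := by
  haveI : IsIso U.ι := by
    subst hU
    exact (Scheme.topIso X).isIso_hom
  have c : Scheme.Modules.pullback U.ι ⋙ Scheme.Modules.pullback (inv U.ι) ≅ 𝟭 X.Modules :=
    Scheme.Modules.pullbackComp (inv U.ι) U.ι ≪≫
      Scheme.Modules.pullbackCongr (IsIso.inv_hom_id U.ι) ≪≫ Scheme.Modules.pullbackId X
  exact ⟨(c.app M).symm ≪≫ (Scheme.Modules.pullback (inv U.ι)).mapIso e ≪≫ c.app N⟩

include hφ in
/-- the pullback of `O(n)` along the morphism of `Proj` induced by a homomorphism of graded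
rings, when the source ring is generated in degree one -/
theorem nonempty_pullback_twist_iso
    (hgen : (HomogeneousIdeal.irrelevant 𝒜).toIdeal = Ideal.span (𝒜 1 : Set A)) (n : ℤ) :
    Nonempty ((Scheme.Modules.pullback (Proj.map φ hφ)).obj (Twist.twist 𝒜 n) ≅
      Twist.twist ℬ n) := by
  obtain ⟨e⟩ := Groth.Agent.S4403.result 𝒜 ℬ φ hgen ((PCone.dom φ).ι ≫ Proj.map φ hφ)
    (fun d f hd hf => by
      rw [← Category.assoc, PCone.chart, IsOpenImmersion.lift_fac]
      exact Proj.awayι_comp_map φ hφ hd f hf) n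
  refine nonempty_iso_of_restrict_top (PCone.dom φ) (dom_eq_top 𝒜 ℬ φ hφ) _ _ ?_
  exact (Scheme.Modules.pullbackComp (PCone.dom φ).ι (Proj.map φ hφ)).app _ ≪≫ e ≪≫
    (Scheme.Modules.restrictFunctorIsoPullback (PCone.dom φ).ι).app _

end Pull

open Groth.Agent.Lib.T2H5.Twist Groth.Agent.Lib.T2H5.ProjTransfer

section Cov

variable {R A B : Type u} [CommRing R] [CommRing A] [Algebra R A] (𝒜 : ℕ → Submodule R A)
  [GradedAlgebra 𝒜] [CommRing B] [Algebra R B] (ℬ : ℕ → Submodule R B) [GradedAlgebra ℬ]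
  (φ : 𝒜 →+*ᵍ ℬ) (hφ : ℬ₊ ≤ (𝒜₊).map φ)

include hφ in
theorem cover_of_map (hcov : ∀ y : Proj 𝒜, ∃ f : 𝒜 1, y ∈ Proj.basicOpen 𝒜 (f : A))
    (y : Proj ℬ) : ∃ f : ℬ 1, y ∈ Proj.basicOpen ℬ (f : B) := by
  obtain ⟨f, hf⟩ := hcov ((Proj.map φ hφ) y)
  exact ⟨⟨φ f.1, φ.2 f.2⟩, hf⟩

end Cov

section Main

variable {A S : Type u} [CommRing A] [CommRing S] [Algebra A S] (𝒜 : ℕ → Submodule A S)
  [GradedAlgebra 𝒜] (r : ℕ) (g : Fin (r + 1) → S) (hg1 : ∀ i, g i ∈ 𝒜 1)
  (hgen : Algebra.adjoin A (Set.range g) = ⊤)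

local notation "PP" => MvPolynomial (Fin (r + 1)) A
local notation "𝒢" => CohB1.polyGrading r A

variable (A) in
theorem irrelevant_poly_eq :
    (HomogeneousIdeal.irrelevant 𝒢).toIdeal = Ideal.span (𝒢 1 : Set PP) := by
  apply le_antisymm
  · refine (Groth.Agent.Lib.Helper27ProjGamma.irrelevant_le (n := r) (R := A)).trans
      (Ideal.span_mono ?_)
    rintro _ ⟨i, rfl⟩
    exact Groth.Agent.Lib.Helper27ProjGamma.hX r A i
  · rw [Ideal.span_le]
    intro x hx
    change _ ∈ (HomogeneousIdeal.irrelevant 𝒢)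
    rw [HomogeneousIdeal.mem_irrelevant_iff, GradedRing.proj_apply]
    exact DirectSum.decompose_of_mem_ne 𝒢 hx one_ne_zero

include hg1 hgen in
theorem isInvertible_twist (n : ℤ) : PicF.IsInvertible (Twist.twist 𝒜 n) := by
  have hψ := Groth.Agent.Helper13ProjQuotIdeal.irrelevant_le_map _ (psi_surjective 𝒜 r g hg1 hgen)
  exact Groth.Agent.Lib.Helper27GrTildeSect.isInvertible_tilde 𝒜
    (cover_of_map 𝒢 𝒜 (psi 𝒜 r g hg1) hψ (Groth.Agent.Lib.T2H5.PnFinite.exists_basicOpen r A)) n

include hg1 hgen in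
theorem exists_exact [IsNoetherianRing A] (C : ShortComplex (Proj 𝒜).Modules) (hC : C.Exact)
    (h1 : Coh.IsCoh C.X₁) (h2 : Coh.IsCoh C.X₂) :
    ∃ N : ℤ, ∀ n : ℤ, N ≤ n →
      Function.Exact
        ((DCoh.tensorRightMod (Twist.twist 𝒜 n) ⋙ CohIII.globalSectionsA A).map C.f).hom
        ((DCoh.tensorRightMod (Twist.twist 𝒜 n) ⋙ CohIII.globalSectionsA A).map C.g).hom := by
  have hsurj := psi_surjective 𝒜 r g hg1 hgen
  have hψ := Groth.Agent.Helper13ProjQuotIdeal.irrelevant_le_map _ hsurj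
  classical
  let i : Proj 𝒜 ⟶ CohB1.ProjSpace r A := Proj.map (psi 𝒜 r g hg1) hψ
  haveI : IsClosedImmersion i :=
    Groth.Agent.Lib.Helper27ProjClosed.isClosedImmersion_map _ hsurj hψ
  haveI : Algebra.FiniteType A S := ⟨⟨Finset.univ.image g, by
    rw [Finset.coe_image, Finset.coe_univ, Set.image_univ]; exact hgen⟩⟩
  haveI : IsNoetherianRing S := Algebra.FiniteType.isNoetherianRing A S
  haveI : IsNoetherian (Proj 𝒜) := Groth.Agent.S2357.result 𝒜
  haveI : C.X₁.IsQuasicoherent := h1.1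
  haveI : C.X₂.IsQuasicoherent := h2.1
  have hK : Coh.IsCoh (kernel C.f) :=
    Groth.Agent.S0046.result (Proj 𝒜) C.X₁ (kernel C.f) (kernel.ι C.f) h1
      (Groth.Agent.Lib.Helper23.QCohLocal.isQuasicoherent_kernel C.f)
  obtain ⟨d₀, hd₀⟩ := Groth.Agent.Lib.T2H5.ClosedTransfer.serre_vanishing_closed r A
    i (kernel C.f) hK
  refine ⟨d₀, fun n hn => exact_sections_tr A C hC (isInvertible_twist 𝒜 r g hg1 hgen n) ?_⟩
  obtain ⟨e⟩ := nonempty_pullback_twist_iso 𝒢 𝒜 (psi 𝒜 r g hg1) hψ (irrelevant_poly_eq A r) n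
  exact Groth.Agent.Lib.T2H5.PnStruct.subsingleton_HH_of_iso ((trCongr e).app (kernel C.f)) 1
    (hd₀ n hn 1 le_rfl)

end Main

end Groth.Agent.Lib.T2H5.ProjExact
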