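import Mathlib
import Groth.Agent.Lib.T2H5ProjExact
import Groth.Agent.Lib.T2H5PnVanish
import Groth.Agent.Lib.Helper2GrModComapIso

set_option autoImplicit false
set_option linter.style.haveILetI false
set_option linter.unusedSectionVars false
universe u
open CategoryTheory CategoryTheory.Limits AlgebraicGeometry TopologicalSpace Opposite
open scoped HomogeneousIdeal

namespace Groth.Agent.Lib.T2H5.PnOver

section RS

variable (R₀ : Type u) {A S : Type u} [CommRing R₀] [CommRing A] [CommRing S] [Algebra R₀ A]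
  [Algebra A S] [Algebra R₀ S] [IsScalarTower R₀ A S] (𝒜 : ℕ → Submodule A S) [GradedAlgebra 𝒜]

/-- the same grading, by submodules over a smaller ring -/
def rs : ℕ → Submodule R₀ S := fun i => (𝒜 i).restrictScalars R₀

theorem mem_rs {i : ℕ} {x : S} : x ∈ rs R₀ 𝒜 i ↔ x ∈ 𝒜 i := Iff.rfl

instance gradedMonoid_rs : SetLike.GradedMonoid (rs R₀ 𝒜) where
  one_mem := SetLike.GradedOne.one_mem (A := 𝒜)
  mul_mem := fun _ _ _ _ ha hb => SetLike.GradedMul.mul_mem (A := 𝒜) ha hb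

/-- the identity on the pieces -/
def toRs (i : ℕ) : 𝒜 i →+ rs R₀ 𝒜 i where
  toFun x := ⟨x.1, x.2⟩
  map_zero' := rfl
  map_add' _ _ := rfl

theorem coe_map_toRs (x : DirectSum ℕ fun i => 𝒜 i) :
    DirectSum.coeAddMonoidHom (rs R₀ 𝒜) (DirectSum.map (toRs R₀ 𝒜) x) =
      DirectSum.coeAddMonoidHom 𝒜 x := by
  classical
  induction x using DirectSum.induction_on with
  | zero => simp
  | of i x =>
    rw [DirectSum.map_of, DirectSum.coeAddMonoidHom_of, DirectSum.coeAddMonoidHom_of]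
    rfl
  | add x y hx hy => rw [map_add, map_add, map_add, hx, hy]

noncomputable instance decomposition_rs : DirectSum.Decomposition (rs R₀ 𝒜) := by
  classical
  exact DirectSum.Decomposition.ofAddHom (ℳ := rs R₀ 𝒜)
    ((DirectSum.map (toRs R₀ 𝒜)).comp (DirectSum.decomposeAddEquiv 𝒜).toAddMonoidHom)
    (by
      ext b
      change DirectSum.coeAddMonoidHom (rs R₀ 𝒜) (DirectSum.map (toRs R₀ 𝒜)
        (DirectSum.decompose 𝒜 b)) = b
      rw [coe_map_toRs]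
      exact DirectSum.Decomposition.left_inv b)
    (by
      refine DirectSum.addHom_ext fun i x => ?_
      change DirectSum.map (toRs R₀ 𝒜) (DirectSum.decompose 𝒜
        (DirectSum.coeAddMonoidHom (rs R₀ 𝒜) (DirectSum.of (fun i => rs R₀ 𝒜 i) i x))) =
        DirectSum.of (fun i => rs R₀ 𝒜 i) i x
      rw [DirectSum.coeAddMonoidHom_of, DirectSum.decompose_of_mem 𝒜 (i := i) x.2,
        DirectSum.map_of]
      rfl)

noncomputable instance gradedAlgebra_rs : GradedAlgebra (rs R₀ 𝒜) :=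
  { gradedMonoid_rs R₀ 𝒜, decomposition_rs R₀ 𝒜 with }

/-- the identity, as a homomorphism of graded rings -/
def idTo : 𝒜 →+*ᵍ rs R₀ 𝒜 where
  toRingHom := RingHom.id S
  map_mem := fun h => h

/-- the identity, as a homomorphism of graded rings -/
def idFrom : rs R₀ 𝒜 →+*ᵍ 𝒜 where
  toRingHom := RingHom.id S
  map_mem := fun h => h

theorem irr_to : (rs R₀ 𝒜)₊ ≤ (𝒜₊).map (idTo R₀ 𝒜) := by
  rw [HomogeneousIdeal.irrelevant_le]
  intro n hn a ha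
  change a ∈ Ideal.map (idTo R₀ 𝒜) (𝒜₊).toIdeal
  exact Ideal.mem_map_of_mem (idTo R₀ 𝒜) (HomogeneousIdeal.mem_irrelevant_of_mem 𝒜 hn ha)

theorem irr_from : 𝒜₊ ≤ ((rs R₀ 𝒜)₊).map (idFrom R₀ 𝒜) := by
  rw [HomogeneousIdeal.irrelevant_le]
  intro n hn a ha
  change a ∈ Ideal.map (idFrom R₀ 𝒜) ((rs R₀ 𝒜)₊).toIdeal
  exact Ideal.mem_map_of_mem (idFrom R₀ 𝒜)
    (HomogeneousIdeal.mem_irrelevant_of_mem (rs R₀ 𝒜) hn ha)

theorem isIso_map_idTo : IsIso (Proj.map (idTo R₀ 𝒜) (irr_to R₀ 𝒜)) := by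
  refine ⟨Proj.map (idFrom R₀ 𝒜) (irr_from R₀ 𝒜), ?_, ?_⟩
  · rw [← Proj.map_comp]
    exact Proj.map_id
  · rw [← Proj.map_comp]
    exact Proj.map_id

/-- the identity, semilinear over `idTo` -/
def idSemi : S →ₛₗ[(idTo R₀ 𝒜).toRingHom] S where
  toFun := id
  map_add' := fun _ _ => rfl
  map_smul' := fun _ _ => rfl

/-- vanishing of the cohomology of `O(n)` does not depend on the ring over which the pieces of
the grading are submodules -/
theorem subsingleton_HH_rs (n : ℤ) (j : ℕ)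
    (h : Subsingleton (Coh.HH (Proj 𝒜) (Twist.twist 𝒜 n) j)) :
    Subsingleton (Coh.HH (Proj (rs R₀ 𝒜)) (Twist.twist (rs R₀ 𝒜) n) j) := by
  have hv : ∀ (i : ℕ) (m : S), m ∈ 𝒜 i → idSemi R₀ 𝒜 m ∈ rs R₀ 𝒜 i := fun _ _ hm => hm
  haveI : IsIso (GrMod.comap (idTo R₀ 𝒜) (irr_to R₀ 𝒜) (idSemi R₀ 𝒜) hv n) :=
    Groth.Agent.Lib.Helper2.GrModComapIso.isIso_comap (idTo R₀ 𝒜) (irr_to R₀ 𝒜) 𝒜 (rs R₀ 𝒜)
      (idSemi R₀ 𝒜) hv n ⟨fun _ _ h => h, fun m => ⟨m, rfl⟩⟩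
  haveI := isIso_map_idTo R₀ 𝒜
  have h1 : Subsingleton (Coh.HH (Proj 𝒜)
      ((Scheme.Modules.pushforward (Proj.map (idTo R₀ 𝒜) (irr_to R₀ 𝒜))).obj
        (GrMod.tilde (rs R₀ 𝒜) (rs R₀ 𝒜) n)) j) :=
    Groth.Agent.Lib.T2H5.PnStruct.subsingleton_HH_of_iso
      (asIso (GrMod.comap (idTo R₀ 𝒜) (irr_to R₀ 𝒜) (idSemi R₀ 𝒜) hv n)) j h
  obtain ⟨e⟩ := Groth.Agent.Lib.T2H5.ProjTransfer.nonempty_equiv_pushforward
    (Proj.map (idTo R₀ 𝒜) (irr_to R₀ 𝒜)) (GrMod.tilde (rs R₀ 𝒜) (rs R₀ 𝒜) n) j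
  exact e.subsingleton

end RS


end Groth.Agent.Lib.T2H5.PnOver
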