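import Mathlib
import Groth.Agent.Lib.T2H5ProjExact
import Groth.Agent.Lib.T2H5PnVanish
import Groth.Agent.Lib.Helper13ProjBC2
import Groth.Agent.Lib.T2H5PnOverA

set_option autoImplicit false
set_option linter.style.haveILetI false
set_option linter.unusedSectionVars false
universe u
open CategoryTheory CategoryTheory.Limits AlgebraicGeometry TopologicalSpace Opposite
open scoped HomogeneousIdeal

namespace Groth.Agent.Lib.T2H5.PnOver

section BC

attribute [local instance] MvPolynomial.algebraMvPolynomial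

variable (R₀ A : Type u) [CommRing R₀] [CommRing A] [Algebra R₀ A] (r : ℕ)

/-- the grading of the polynomial ring over `A`, by `R₀`-submodules -/
noncomputable abbrev gA : ℕ → Submodule R₀ (MvPolynomial (Fin (r + 1)) A) :=
  rs R₀ (CohB1.polyGrading r A)

/-- the homomorphism of graded rings between polynomial rings induced by `R₀ → A` -/
noncomputable def phi : CohB1.polyGrading r R₀ →+*ᵍ gA R₀ A r where
  toRingHom := MvPolynomial.map (algebraMap R₀ A)
  map_mem := fun hx => MvPolynomial.IsHomogeneous.map hx (algebraMap R₀ A)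

/-- `A` maps to the degree zero part -/
noncomputable def zA : A →+* ↥(gA R₀ A r 0) where
  toFun a := ⟨algebraMap A (MvPolynomial (Fin (r + 1)) A) a,
    SetLike.algebraMap_mem_graded (CohB1.polyGrading r A) a⟩
  map_one' := Subtype.ext (map_one _)
  map_mul' := fun a b => Subtype.ext (map_mul _ a b)
  map_zero' := Subtype.ext (map_zero _)
  map_add' := fun a b => Subtype.ext (map_add _ a b)

theorem isPushout_poly :
    IsPushout (CommRingCat.ofHom (algebraMap R₀ A))
      (CommRingCat.ofHom (algebraMap R₀ (MvPolynomial (Fin (r + 1)) R₀)))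
      (CommRingCat.ofHom (algebraMap A (MvPolynomial (Fin (r + 1)) A)))
      (CommRingCat.ofHom (algebraMap (MvPolynomial (Fin (r + 1)) R₀)
        (MvPolynomial (Fin (r + 1)) A))) :=
  CommRingCat.isPushout_iff_isPushout.mpr inferInstance

theorem irr_phi : (gA R₀ A r)₊ ≤ ((CohB1.polyGrading r R₀)₊).map (phi R₀ A r) :=
  Groth.Agent.Helper13ProjBC.irrelevant_le_map_cat (isPushout_poly R₀ A r) (phi R₀ A r)
    (fun _ => rfl) (fun a => SetLike.algebraMap_mem_graded (CohB1.polyGrading r A) a)

/-- the structure morphism of the model of projective space over `A` -/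
noncomputable def toSpecA : Proj (gA R₀ A r) ⟶ Spec (CommRingCat.of A) :=
  Proj.toSpecZero (gA R₀ A r) ≫ Spec.map (CommRingCat.ofHom (zA R₀ A r))

theorem isPullback_phi :
    IsPullback (Proj.map (phi R₀ A r) (irr_phi R₀ A r)) (toSpecA R₀ A r)
      (CohB1.ProjSpace.toSpec r R₀) (Spec.map (CommRingCat.ofHom (algebraMap R₀ A))) :=
  Groth.Agent.Helper13ProjBC.isPullback_proj_cat (isPushout_poly R₀ A r) (phi R₀ A r)
    (fun _ => rfl) (irr_phi R₀ A r)
    (CommRingCat.ofHom (algebraMap R₀ (CohB1.polyGrading r R₀ 0))) (fun _ => rfl)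
    (CommRingCat.ofHom (zA R₀ A r)) (fun _ => rfl)

theorem nonempty_pullback_twist (d : ℤ) :
    Nonempty ((Scheme.Modules.pullback (Proj.map (phi R₀ A r) (irr_phi R₀ A r))).obj
      (Twist.twistProjSpace r R₀ d) ≅ Twist.twist (gA R₀ A r) d) :=
  Groth.Agent.Lib.T2H5.ProjExact.nonempty_pullback_twist_iso (CohB1.polyGrading r R₀)
    (gA R₀ A r) (phi R₀ A r) (irr_phi R₀ A r)
    (Groth.Agent.Lib.T2H5.ProjExact.irrelevant_poly_eq R₀ r) d

theorem subsingleton_HH_gA (d : ℤ) (q : ℕ)
    (h₀ : ¬ (q = 0 ∧ 0 ≤ d)) (hn : ¬ (q = r ∧ d ≤ -((r : ℤ) + 1))) :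
    Subsingleton (Coh.HH (Proj (gA R₀ A r)) (Twist.twist (gA R₀ A r) d) q) :=
  subsingleton_HH_rs R₀ (CohB1.polyGrading r A) d q
    (Groth.Agent.Lib.T2H5.PnVanish.subsingleton_HH_twist r A d q h₀ hn)

end BC


end Groth.Agent.Lib.T2H5.PnOver
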