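import Mathlib
import Groth.Agent.Lib.T2H5ProjExact
import Groth.Agent.Lib.T2H5PnVanish
import Groth.Agent.Lib.Helper13ProjBC2
import Groth.Agent.Lib.T2H5PnOverB
import Groth.Agent.Lib.Helper16Restr
import Groth.Agent.Lib.Helper23AffOpen2

set_option autoImplicit false
set_option linter.style.haveILetI false
set_option linter.unusedSectionVars false
universe u
open CategoryTheory CategoryTheory.Limits AlgebraicGeometry TopologicalSpace Opposite
open scoped HomogeneousIdeal

namespace Groth.Agent.Lib.T2H5.PnOver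

section Over

variable (R₀ A : Type u) [CommRing R₀] [CommRing A] [Algebra R₀ A] (r : ℕ)
variable {Y : Scheme.{u}} (tY : Y ⟶ Spec (CommRingCat.of R₀)) (j : Spec (CommRingCat.of A) ⟶ Y)
  (hj : j ≫ tY = Spec.map (CommRingCat.ofHom (algebraMap R₀ A)))

/-- the inclusion of projective space over `A` into projective space over `Y` -/
noncomputable def emb : Proj (gA R₀ A r) ⟶ pullback (CohB1.ProjSpace.toSpec r R₀) tY :=
  pullback.lift (Proj.map (phi R₀ A r) (irr_phi R₀ A r)) (toSpecA R₀ A r ≫ j) (by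
    rw [Category.assoc, hj]
    exact (isPullback_phi R₀ A r).w)

theorem emb_fst : emb R₀ A r tY j hj ≫ pullback.fst _ _ =
    Proj.map (phi R₀ A r) (irr_phi R₀ A r) := pullback.lift_fst _ _ _

theorem emb_snd : emb R₀ A r tY j hj ≫ pullback.snd _ _ = toSpecA R₀ A r ≫ j :=
  pullback.lift_snd _ _ _

theorem isPullback_emb :
    IsPullback (emb R₀ A r tY j hj) (toSpecA R₀ A r)
      (pullback.snd (CohB1.ProjSpace.toSpec r R₀) tY) j := by
  refine IsPullback.of_right ?_ (emb_snd R₀ A r tY j hj)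
    (IsPullback.of_hasPullback (CohB1.ProjSpace.toSpec r R₀) tY)
  rw [emb_fst, hj]
  exact isPullback_phi R₀ A r

variable [IsOpenImmersion j]

instance isOpenImmersion_emb : IsOpenImmersion (emb R₀ A r tY j hj) :=
  MorphismProperty.of_isPullback (P := @IsOpenImmersion) (isPullback_emb R₀ A r tY j hj).flip
    inferInstance

theorem range_emb : Set.range (emb R₀ A r tY j hj).base =
    (pullback.snd (CohB1.ProjSpace.toSpec r R₀) tY).base ⁻¹' Set.range j.base := by
  have h := isPullback_emb R₀ A r tY j hj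
  have e1 : emb R₀ A r tY j hj = h.isoPullback.hom ≫ pullback.fst _ _ := by simp
  rw [e1, Scheme.Hom.comp_base, TopCat.coe_comp, Set.range_comp,
    Set.range_eq_univ.mpr (by
      have : Function.Surjective h.isoPullback.hom.base := by
        exact (TopCat.homeoOfIso (Scheme.forgetToTop.mapIso h.isoPullback)).surjective
      exact this), Set.image_univ]
  exact Scheme.Pullback.range_fst _ _

theorem nonempty_pullback_emb_twist (d : ℤ) :
    Nonempty ((Scheme.Modules.pullback (emb R₀ A r tY j hj)).obj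
      ((Scheme.Modules.pullback (pullback.fst (CohB1.ProjSpace.toSpec r R₀) tY)).obj
        (Twist.twistProjSpace r R₀ d)) ≅ Twist.twist (gA R₀ A r) d) := by
  obtain ⟨ε⟩ := nonempty_pullback_twist R₀ A r d
  exact ⟨(Scheme.Modules.pullbackComp (emb R₀ A r tY j hj) (pullback.fst _ _)).app _ ≪≫
    (Scheme.Modules.pullbackCongr (emb_fst R₀ A r tY j hj)).app _ ≪≫ ε⟩

end Over




open Groth.Agent.Lib.Helper23.AffVanish

section Open

variable {P X : Scheme.{u}}

/-- the unit of the restriction adjunction along an isomorphism is an isomorphism -/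
theorem isIso_unit_of_isIso (ε : P ⟶ X) [IsIso ε] (G : X.Modules) :
    IsIso ((Scheme.Modules.restrictAdjunction ε).unit.app G) := by
  rw [Scheme.Modules.Hom.isIso_iff_isIso_app]
  intro W
  rw [Scheme.Modules.restrictAdjunction_unit_app_app]
  have heq : ε ''ᵁ (ε ⁻¹ᵁ W) = W := by
    apply le_antisymm (ε.image_preimage_le W)
    intro x hx
    obtain ⟨y, rfl⟩ := (inferInstance : Surjective ε).surj x
    exact ⟨y, hx, rfl⟩
  have h2 : homOfLE (ε.image_preimage_le W) = eqToHom heq := Subsingleton.elim _ _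
  rw [h2, eqToHom_op, eqToHom_map]
  exact instIsIsoEqToHom _

/-- cohomology over an open subset, computed on a scheme mapping isomorphically onto it -/
theorem subsingleton_HE_of_openImmersion (e : P ⟶ X) [IsOpenImmersion e] (U : X.Opens)
    (hU : Set.range e.base = (U : Set X)) (F : X.Modules) (q : ℕ)
    (h : Subsingleton (Coh.HH P ((Scheme.Modules.pullback e).obj F) q)) :
    Subsingleton (HE (ab' F) q U) := by
  obtain ⟨e1⟩ : Nonempty (HE (ab' F) q U ≃+ Coh.HHon X F U q) :=
    Groth.Agent.Lib.Helper16.Restr.nonempty_HU_equiv (X := X.carrier) U (Coh.toAb F) q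
  suffices h2 : Subsingleton (Coh.HH (↑U) (F.restrict U.ι) q) from e1.toEquiv.subsingleton
  let ε : P ≅ (↑U : Scheme.{u}) := IsOpenImmersion.isoOfRangeEq e U.ι (by
    rw [hU]; exact (Scheme.Opens.range_ι U).symm)
  have hε : ε.hom ≫ U.ι = e := IsOpenImmersion.isoOfRangeEq_hom_fac _ _ _
  let G : (↑U : Scheme.{u}).Modules := F.restrict U.ι
  let N : P.Modules := (Scheme.Modules.restrictFunctor ε.hom).obj G
  have iso1 : N ≅ (Scheme.Modules.pullback e).obj F :=
    ((Scheme.Modules.restrictFunctorComp ε.hom U.ι).app F).symm ≪≫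
      (Scheme.Modules.restrictFunctorCongr hε).app F ≪≫
      (Scheme.Modules.restrictFunctorIsoPullback e).app F
  have h3 : Subsingleton (Coh.HH P N q) :=
    Groth.Agent.Lib.T2H5.PnStruct.subsingleton_HH_of_iso iso1.symm q h
  obtain ⟨e2⟩ := Groth.Agent.Lib.T2H5.ProjTransfer.nonempty_equiv_pushforward ε.hom N q
  have h4 : Subsingleton (Coh.HH (↑U) ((Scheme.Modules.pushforward ε.hom).obj N) q) :=
    e2.symm.subsingleton
  haveI := isIso_unit_of_isIso ε.hom G
  exact Groth.Agent.Lib.T2H5.PnStruct.subsingleton_HH_of_iso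
    (asIso ((Scheme.Modules.restrictAdjunction ε.hom).unit.app G)).symm q h4

end Open


section Main

open Groth.Agent.Lib.Helper23.AffVanish

variable (Y : Scheme.{u}) (r : ℕ)

/-- the cohomology of `O(d)` over the preimage of an affine open of the base -/
theorem subsingleton_HE_twistOver {V : Y.Opens} (hV : IsAffineOpen V) (d : ℤ) (q : ℕ)
    (h₀ : ¬ (q = 0 ∧ 0 ≤ d)) (hn : ¬ (q = r ∧ d ≤ -((r : ℤ) + 1))) :
    Subsingleton (HE (ab' (Twist.twistOver r Y d)) q (CohB1.ProjSpaceOver.toBase r Y ⁻¹ᵁ V)) := by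
  let i : ULift.{u} ℤ →+* Γ(Y, V) :=
    (Int.castRingHom Γ(Y, V)).comp (ULift.ringEquiv : ULift.{u} ℤ ≃+* ℤ).toRingHom
  letI : Algebra (ULift.{u} ℤ) Γ(Y, V) := i.toAlgebra
  have hj : hV.fromSpec ≫ specULiftZIsTerminal.from Y =
      Spec.map (CommRingCat.ofHom (algebraMap (ULift.{u} ℤ) Γ(Y, V))) :=
    specULiftZIsTerminal.hom_ext _ _
  have hr := range_emb (ULift.{u} ℤ) Γ(Y, V) r (specULiftZIsTerminal.from Y) hV.fromSpec hj
  rw [hV.range_fromSpec] at hr
  obtain ⟨ε⟩ := nonempty_pullback_emb_twist (ULift.{u} ℤ) Γ(Y, V) r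
    (specULiftZIsTerminal.from Y) hV.fromSpec hj d
  refine subsingleton_HE_of_openImmersion
    (emb (ULift.{u} ℤ) Γ(Y, V) r (specULiftZIsTerminal.from Y) hV.fromSpec hj)
    (CohB1.ProjSpaceOver.toBase r Y ⁻¹ᵁ V) hr (Twist.twistOver r Y d) q ?_
  exact Groth.Agent.Lib.T2H5.PnStruct.subsingleton_HH_of_iso ε.symm q
    (subsingleton_HH_gA (ULift.{u} ℤ) Γ(Y, V) r d q h₀ hn)

end Main

end Groth.Agent.Lib.T2H5.PnOver
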