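import Mathlib
import Groth.Agent.Lib.Helper21DerPost
import Groth.Agent.Lib.Helper21DerAcycNat

/-!
# T2H5DerEndo: compatibility of the comparison isomorphisms of derived functors with natural endomorphisms (helper5)

* `postIsoRes_natTrans`: `Rⁿ(F ⋙ G) ≅ RⁿF ⋙ G` (for `G` exact) is compatible with natural endomorphisms of `G`.
* `compRes_endo`: `Rⁿ(E ⋙ G) ≅ E ⋙ RⁿG` (for `E` exact, injectives to acyclics) is compatible with natural
  endomorphisms of `E`.
* `bridge`, `bridge_comm`: the composite identification `G'(RⁿF M) ≅ RⁿG(E M)` for `F ⋙ G' ≅ E ⋙ G` and its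
  compatibility with natural endomorphisms.
-/

set_option autoImplicit false
set_option linter.style.haveILetI false
set_option linter.unusedSectionVars false
open CategoryTheory CategoryTheory.Limits

namespace Groth.Agent.Lib.T2H5.DerEndo

open Groth.Agent.Lib.Helper21 Groth.Agent.Lib.Helper21.DerPost Groth.Agent.Lib.Helper21.DerAcycNat

universe v v' v'' v''' u u' u'' u'''

theorem conj_aux {𝒞 : Type*} [Category 𝒞] {P Q Q' T : 𝒞} (a : P ≅ Q) (H : Q ⟶ Q) (m : Q ⟶ Q')
    (bH : Q' ⟶ Q') (Gi : Q' ⟶ T) (bR : T ⟶ T) (key : H ≫ m = m ≫ bH) (hb : Gi ≫ bR = bH ≫ Gi) :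
    (a.hom ≫ H ≫ a.inv) ≫ (a.hom ≫ m ≫ Gi) = (a.hom ≫ m ≫ Gi) ≫ bR := by
  simp only [Category.assoc, Iso.inv_hom_id_assoc]
  rw [reassoc_of% key, hb]

section Post

variable {C : Type u} [Category.{v} C] [Abelian C]
  {D : Type u'} [Category.{v'} D] [Abelian D]
  {E : Type u''} [Category.{v''} E] [Abelian E]
  [HasInjectiveResolutions C]
  (F : C ⥤ D) [F.Additive] (G : D ⥤ E) [G.Additive] [G.PreservesHomology]

theorem homologyMap_natTrans (b : G ⟶ G) (K : CochainComplex D ℕ) (n : ℕ) :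
    (HomologicalComplex.homologyFunctor E (ComplexShape.up ℕ) n).map
        ((NatTrans.mapHomologicalComplex b (ComplexShape.up ℕ)).app K) ≫
      ((mapHCHomologyIso (ComplexShape.up ℕ) G n).app K).hom =
    ((mapHCHomologyIso (ComplexShape.up ℕ) G n).app K).hom ≫ b.app (K.homology n) := by
  have h := ShortComplex.homologyMap_mapNatTrans (K.sc n) b
  have h' : ShortComplex.homologyMap ((K.sc n).mapNatTrans b) ≫ ((K.sc n).mapHomologyIso G).hom =
      ((K.sc n).mapHomologyIso G).hom ≫ b.app (K.sc n).homology := by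
    rw [h, Category.assoc, Category.assoc, Iso.inv_hom_id, Category.comp_id]
  exact h'

theorem postIsoRes_natTrans (b : G ⟶ G) {Z : C} (I : InjectiveResolution Z) (n : ℕ) :
    (NatTrans.rightDerived (Functor.whiskerLeft F b) n).app Z ≫ (postIsoRes F G I n).hom =
      (postIsoRes F G I n).hom ≫ b.app ((F.rightDerived n).obj Z) := by
  rw [InjectiveResolution.rightDerived_app_eq (Functor.whiskerLeft F b) I n]
  have key := homologyMap_natTrans G b ((F.mapHomologicalComplex _).obj I.cocomplex) n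
  have hb := b.naturality (I.isoRightDerivedObj F n).inv
  exact conj_aux (I.isoRightDerivedObj (F ⋙ G) n) _ _ _ _ _ key hb

theorem postIso_natTrans (b : G ⟶ G) (Z : C) (n : ℕ) :
    (NatTrans.rightDerived (Functor.whiskerLeft F b) n).app Z ≫ (postIso F G n).hom.app Z =
      (postIso F G n).hom.app Z ≫ b.app ((F.rightDerived n).obj Z) :=
  postIsoRes_natTrans F G b (injectiveResolution Z) n

end Post

section Comp

variable {𝒜 : Type u} [Category.{v} 𝒜] [Abelian 𝒜]
  {ℬ : Type u'} [Category.{v'} ℬ] [Abelian ℬ]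
  {𝒟 : Type u''} [Category.{v''} 𝒟] [Abelian 𝒟]
  (E : 𝒜 ⥤ ℬ) [E.Additive] [E.PreservesHomology]
  (G : ℬ ⥤ 𝒟) [G.Additive]
  [HasInjectiveResolutions 𝒜] [HasInjectiveResolutions ℬ]

theorem comp3_aux {𝒞 : Type*} [Category 𝒞] {A A' B C D : 𝒞} (i : A ⟶ B) (e : B ⟶ C) (p : C ⟶ D)
    (e' : A ⟶ A') (i' : A' ⟶ C) (j : A' ⟶ D) (h1 : i ≫ e = e' ≫ i') (h2 : i' ≫ p = j) :
    i ≫ e ≫ p = e' ≫ j := by
  rw [← Category.assoc, h1, Category.assoc, h2]

theorem compRes_endo (ε : E ⟶ E) {M : 𝒜} (I : InjectiveResolution M)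
    (J : InjectiveResolution (E.obj M)) (n : ℕ) :
    (NatTrans.rightDerived (Functor.whiskerRight ε G) n).app M ≫ compRes E G I J n =
      compRes E G I J n ≫ (G.rightDerived n).map (ε.app M) := by
  let εI : (E.mapHomologicalComplex _).obj I.cocomplex ⟶ (E.mapHomologicalComplex _).obj I.cocomplex :=
    (NatTrans.mapHomologicalComplex ε _).app I.cocomplex
  let φ' : J.cocomplex ⟶ J.cocomplex := InjectiveResolution.desc (ε.app M) J J
  have comm' : J.ι.f 0 ≫ φ'.f 0 = ε.app M ≫ J.ι.f 0 :=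
    InjectiveResolution.desc_commutes_zero (ε.app M) J J
  have h2 := InjectiveResolution.isoRightDerivedObj_inv_naturality (ε.app M) J J φ' comm' G n
  have H : Homotopy (εI ≫ ψ E I J) (ψ E I J ≫ φ') := by
    refine Res.descHomotopy (R := (Res.ofInj I).map E) (ε.app M) _ _ ?_ ?_
    · exact comp3_aux _ _ _ _ _ _ (ε.naturality (Res.ofInj I).ι₀) (ψ_comm E I J)
    · exact aux_h _ _ _ _ _ _ (ψ_comm E I J) comm'
  have h3 : HomologicalComplex.homologyMap ((G.mapHomologicalComplex _).map εI) n ≫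
      HomologicalComplex.homologyMap ((G.mapHomologicalComplex _).map (ψ E I J)) n =
      HomologicalComplex.homologyMap ((G.mapHomologicalComplex _).map (ψ E I J)) n ≫
      HomologicalComplex.homologyMap ((G.mapHomologicalComplex _).map φ') n := by
    rw [← HomologicalComplex.homologyMap_comp, ← HomologicalComplex.homologyMap_comp,
      ← Functor.map_comp, ← Functor.map_comp]
    exact (G.mapHomotopy H).homologyMap_eq n
  rw [InjectiveResolution.rightDerived_app_eq (Functor.whiskerRight ε G) I n]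
  exact conj_aux (I.isoRightDerivedObj (E ⋙ G) n) _ _ _ _ _ h3 h2

end Comp

section Bridge

variable {𝒜 : Type u} [Category.{v} 𝒜] [Abelian 𝒜]
  {𝒮 : Type u'} [Category.{v'} 𝒮] [Abelian 𝒮]
  {𝒯 : Type u''} [Category.{v''} 𝒯] [Abelian 𝒯]
  {ℬ : Type u'''} [Category.{v'''} ℬ] [Abelian ℬ]
  [HasInjectiveResolutions 𝒜] [EnoughInjectives ℬ]
  (F : 𝒜 ⥤ 𝒮) [F.Additive] (G' : 𝒮 ⥤ 𝒯) [G'.Additive] [G'.PreservesHomology]
  (E : 𝒜 ⥤ ℬ) [E.Additive] [E.PreservesHomology] (G : ℬ ⥤ 𝒯) [G.Additive] [PreservesFiniteLimits G]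
  (θ : F ⋙ G' ≅ E ⋙ G)
  (hE : ∀ I : 𝒜, Injective I → ∀ q : ℕ, 0 < q → IsZero ((G.rightDerived q).obj (E.obj I)))

/-- the identification `G'(RⁿF M) ≅ RⁿG(E M)` -/
noncomputable def bridge (M : 𝒜) (n : ℕ) :
    G'.obj ((F.rightDerived n).obj M) ≅ (G.rightDerived n).obj (E.obj M) :=
  ((postIso F G' n).app M).symm ≪≫ (natIsoRightDerived θ n).app M ≪≫ (compIso E G hE n).app M

theorem bridge_comm (b : G' ⟶ G') (ε : E ⟶ E)
    (h : Functor.whiskerLeft F b ≫ θ.hom = θ.hom ≫ Functor.whiskerRight ε G) (M : 𝒜) (n : ℕ) :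
    b.app ((F.rightDerived n).obj M) ≫ (bridge F G' E G θ hE M n).hom =
      (bridge F G' E G θ hE M n).hom ≫ (G.rightDerived n).map (ε.app M) := by
  have h1 := postIso_natTrans F G' b M n
  have h2 : (NatTrans.rightDerived (Functor.whiskerLeft F b) n).app M ≫
      (NatTrans.rightDerived θ.hom n).app M =
      (NatTrans.rightDerived θ.hom n).app M ≫
        (NatTrans.rightDerived (Functor.whiskerRight ε G) n).app M := by
    rw [← NatTrans.comp_app, ← NatTrans.comp_app, ← NatTrans.rightDerived_comp,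
      ← NatTrans.rightDerived_comp, h]
  have h3 : (NatTrans.rightDerived (Functor.whiskerRight ε G) n).app M ≫ (compIso E G hE n).hom.app M =
      (compIso E G hE n).hom.app M ≫ (G.rightDerived n).map (ε.app M) :=
    compRes_endo E G ε _ _ n
  have h1' : b.app ((F.rightDerived n).obj M) ≫ (postIso F G' n).inv.app M =
      (postIso F G' n).inv.app M ≫ (NatTrans.rightDerived (Functor.whiskerLeft F b) n).app M := by
    rw [← cancel_epi ((postIso F G' n).hom.app M), ← Category.assoc, ← h1, Category.assoc,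
      Iso.hom_inv_id_app, Category.comp_id, Iso.hom_inv_id_app_assoc]
  dsimp only [bridge, Iso.trans_hom, Iso.symm_hom, Iso.app_hom, Iso.app_inv, natIsoRightDerived]
  rw [reassoc_of% h1', reassoc_of% h2, h3]
  simp only [Category.assoc]

end Bridge

end Groth.Agent.Lib.T2H5.DerEndo
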