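import Mathlib
import Groth.Agent.Lib.Helper1PT2
set_option backward.isDefEq.respectTransparency.types false

/-!
# T2H5ProjFLF1: the projection morphism `E ⊗ f_* F ⟶ f_* (f^* E ⊗ F)` and its naturality (helper5)

Built on helper1's lax monoidal structure `nu` of the direct image.
-/

set_option autoImplicit false
set_option linter.style.haveILetI false
set_option linter.unusedSectionVars false
universe u
open CategoryTheory CategoryTheory.Limits AlgebraicGeometry TopologicalSpace Opposite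
  MonoidalCategory TensorProduct

namespace Groth.Agent.Lib.T2H5.ProjFLF

open Groth.Agent.Lib.Helper1.PT Groth.Agent.Lib.Helper1.Sky Groth.Agent.Lib.Helper1.StalkTensor
  Groth.Agent.Lib.Helper21.ModTensor2

variable {X Y : Scheme.{u}} (f : X ⟶ Y)

/-- the projection morphism, on presheaves over `Y` -/
noncomputable def aP (E : Y.Modules) (F : X.Modules) :
    toPM E ⊗ toPM ((psh f).obj F) ⟶ toPM ((psh f).obj (tens ((plb f).obj E) F)) :=
  (toPMMap (un f E) ▷ toPM ((psh f).obj F)) ≫ nu f ((plb f).obj E) F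

/-- the projection morphism `E ⊗ f_* F ⟶ f_* (f^* E ⊗ F)` -/
noncomputable def alpha (E : Y.Modules) (F : X.Modules) :
    tens E ((psh f).obj F) ⟶ (psh f).obj (tens ((plb f).obj E) F) :=
  ((adj Y.sheaf).homEquiv (toPM E ⊗ toPM ((psh f).obj F))
    ((psh f).obj (tens ((plb f).obj E) F))).symm (aP f E F)

lemma etaX_alpha (E : Y.Modules) (F : X.Modules) :
    etaX (toPM E ⊗ toPM ((psh f).obj F)) ≫ toPMMap (alpha f E F) = aP f E F := by
  have h := (adj Y.sheaf).homEquiv_unit (X := toPM E ⊗ toPM ((psh f).obj F))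
    (Y := (psh f).obj (tens ((plb f).obj E) F)) (f := alpha f E F)
  have h2 : (adj Y.sheaf).homEquiv _ _ (alpha f E F) = aP f E F :=
    Equiv.apply_symm_apply _ _
  exact h.symm.trans h2

lemma aP_naturality_left {E E' : Y.Modules} (φ : E ⟶ E') (F : X.Modules) :
    (toPMMap φ ▷ toPM ((psh f).obj F)) ≫ aP f E' F = aP f E F ≫
      toPMMap ((psh f).map ((DCoh.tensorBi.map ((plb f).map φ)).app F)) := by
  unfold aP
  rw [Category.assoc, ← nu_naturality_left, ← Category.assoc, ← Category.assoc,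
    ← comp_whiskerRight, ← comp_whiskerRight, toPMMap_un_naturality]

lemma aP_naturality_right (E : Y.Modules) {F F' : X.Modules} (φ : F ⟶ F') :
    (toPM E ◁ toPMMap ((psh f).map φ)) ≫ aP f E F' = aP f E F ≫
      toPMMap ((psh f).map ((DCoh.tensorBi.obj ((plb f).obj E)).map φ)) := by
  unfold aP
  rw [Category.assoc, ← nu_naturality_right, ← Category.assoc, ← Category.assoc,
    whisker_exchange]

lemma etaX_comp_left {E E' : Y.Modules} (φ : E ⟶ E') (G : Y.Modules) {H : Y.Modules}
    (β : tens E' G ⟶ H) :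
    etaX (toPM E ⊗ toPM G) ≫ toPMMap ((DCoh.tensorBi.map φ).app G ≫ β) =
      (toPMMap φ ▷ toPM G) ≫ etaX (toPM E' ⊗ toPM G) ≫ toPMMap β := by
  have e1 := etaX_naturality (toPMMap φ ▷ toPM G)
  calc etaX (toPM E ⊗ toPM G) ≫ toPMMap ((DCoh.tensorBi.map φ).app G ≫ β)
      = (etaX (toPM E ⊗ toPM G) ≫ toPMMap (shX.map (toPMMap φ ▷ toPM G))) ≫ toPMMap β :=
        (Category.assoc _ _ _).symm
    _ = ((toPMMap φ ▷ toPM G) ≫ etaX (toPM E' ⊗ toPM G)) ≫ toPMMap β := by rw [e1]
    _ = _ := Category.assoc _ _ _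

lemma etaX_comp_right (E : Y.Modules) {G G' : Y.Modules} (g : G ⟶ G') {H : Y.Modules}
    (β : tens E G' ⟶ H) :
    etaX (toPM E ⊗ toPM G) ≫ toPMMap ((DCoh.tensorBi.obj E).map g ≫ β) =
      (toPM E ◁ toPMMap g) ≫ etaX (toPM E ⊗ toPM G') ≫ toPMMap β := by
  have e1 := etaX_naturality (toPM E ◁ toPMMap g)
  calc etaX (toPM E ⊗ toPM G) ≫ toPMMap ((DCoh.tensorBi.obj E).map g ≫ β)
      = (etaX (toPM E ⊗ toPM G) ≫ toPMMap (shX.map (toPM E ◁ toPMMap g))) ≫ toPMMap β :=
        (Category.assoc _ _ _).symm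
    _ = ((toPM E ◁ toPMMap g) ≫ etaX (toPM E ⊗ toPM G')) ≫ toPMMap β := by rw [e1]
    _ = _ := Category.assoc _ _ _

lemma etaX_comp_post {T : PMod Y.presheaf} {G H : Y.Modules} (β : shX.obj T ⟶ G) (γ : G ⟶ H) :
    etaX T ≫ toPMMap (β ≫ γ) = (etaX T ≫ toPMMap β) ≫ toPMMap γ :=
  (Category.assoc _ _ _).symm

/-- naturality of the projection morphism in the first variable -/
lemma alpha_naturality_left {E E' : Y.Modules} (φ : E ⟶ E') (F : X.Modules) :
    (DCoh.tensorBi.map φ).app ((psh f).obj F) ≫ alpha f E' F = alpha f E F ≫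
      (psh f).map ((DCoh.tensorBi.map ((plb f).map φ)).app F) := by
  apply shX_hom_ext (T := toPM E ⊗ toPM ((psh f).obj F))
  have h1 := etaX_comp_left φ ((psh f).obj F) (alpha f E' F)
  rw [etaX_alpha] at h1
  have h2 := etaX_comp_post (T := toPM E ⊗ toPM ((psh f).obj F)) (alpha f E F) ((psh f).map ((DCoh.tensorBi.map ((plb f).map φ)).app F))
  rw [etaX_alpha] at h2
  exact h1.trans ((aP_naturality_left f φ F).trans h2.symm)

/-- naturality of the projection morphism in the second variable -/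
lemma alpha_naturality_right (E : Y.Modules) {F F' : X.Modules} (φ : F ⟶ F') :
    (DCoh.tensorBi.obj E).map ((psh f).map φ) ≫ alpha f E F' = alpha f E F ≫
      (psh f).map ((DCoh.tensorBi.obj ((plb f).obj E)).map φ) := by
  apply shX_hom_ext (T := toPM E ⊗ toPM ((psh f).obj F))
  have h1 := etaX_comp_right E ((psh f).map φ) (alpha f E F')
  rw [etaX_alpha] at h1
  have h2 := etaX_comp_post (T := toPM E ⊗ toPM ((psh f).obj F)) (alpha f E F) ((psh f).map ((DCoh.tensorBi.obj ((plb f).obj E)).map φ))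
  rw [etaX_alpha] at h2
  exact h1.trans ((aP_naturality_right f E φ).trans h2.symm)

/-- the projection morphism as a natural transformation in the second variable -/
noncomputable def alphaNat (E : Y.Modules) :
    psh f ⋙ DCoh.tensorBi.obj E ⟶ DCoh.tensorBi.obj ((plb f).obj E) ⋙ psh f where
  app F := alpha f E F
  naturality _ _ φ := alpha_naturality_right f E φ

end Groth.Agent.Lib.T2H5.ProjFLF
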