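import Mathlib
import Groth.Agent.Lib.T2H5ProjFLF1
import Groth.Agent.Lib.Helper21ModTensor7
import Groth.Agent.Lib.Helper23PB
set_option backward.isDefEq.respectTransparency.types false

/-!
# T2H5ProjFLF2: the projection morphism for the structure sheaf is an isomorphism (helper5)
-/

set_option autoImplicit false
set_option linter.style.haveILetI false
set_option linter.unusedSectionVars false
universe u
open CategoryTheory CategoryTheory.Limits AlgebraicGeometry TopologicalSpace Opposite
  MonoidalCategory TensorProduct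

namespace Groth.Agent.Lib.T2H5.ProjFLF

open Groth.Agent.Lib.Helper1.PT Groth.Agent.Lib.Helper1.Sky Groth.Agent.Lib.Helper1.StalkTensor
  Groth.Agent.Lib.Helper21.ModTensor2 Groth.Agent.Lib.Helper21.ModTensor3
  Groth.Agent.Lib.Helper21.ModTensor7 Groth.Agent.Lib.Helper23.PB

variable {X Y : Scheme.{u}} (f : X ⟶ Y)

/-- the left unitor of the tensor product of modules, on generators -/
lemma etaX_tLUnit (A : X.Modules) :
    etaX (toPM (Coh.structureModule X) ⊗ toPM A) ≫
      toPMMap ((tLUnitIso X.sheaf).hom.app A) = (λ_ (toPM A)).hom := by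
  have h0 : (tLUnitIso X.sheaf).hom.app A =
      shX.map (λ_ (toPM A)).hom ≫ (adj X.sheaf).counit.app A := rfl
  have h1 := etaX_naturality (λ_ (toPM A)).hom
  have h2 : etaX (toPM A) ≫ toPMMap ((adj X.sheaf).counit.app A) = 𝟙 _ :=
    (adj X.sheaf).right_triangle_components A
  calc etaX (toPM (Coh.structureModule X) ⊗ toPM A) ≫ toPMMap ((tLUnitIso X.sheaf).hom.app A)
      = (etaX (toPM (Coh.structureModule X) ⊗ toPM A) ≫ toPMMap (shX.map (λ_ (toPM A)).hom)) ≫
          toPMMap ((adj X.sheaf).counit.app A) := by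
        rw [h0]
        exact (Category.assoc _ _ _).symm
    _ = ((λ_ (toPM A)).hom ≫ etaX (toPM A)) ≫ toPMMap ((adj X.sheaf).counit.app A) :=
        congrArg (fun t => t ≫ toPMMap ((adj X.sheaf).counit.app A)) h1.symm
    _ = (λ_ (toPM A)).hom := by rw [Category.assoc, h2, Category.comp_id]

/-- the unit of the adjunction at the structure sheaf, followed by `f^* O_Y ≅ O_X` -/
lemma un_pullbackUnitHom :
    un f (Coh.structureModule Y) ≫ (psh f).map (pullbackUnitHom f) =
      SheafOfModules.unitToPushforwardObjUnit f.toRingCatSheafHom := by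
  have h := (ppAdj f).homEquiv_unit (X := Coh.structureModule Y) (Y := Coh.structureModule X)
    (f := pullbackUnitHom f)
  rw [← h]
  exact SheafOfModules.pullbackPushforwardAdjunction_homEquiv_pullbackObjUnitToUnit _

/-- the comparison `f^* O_Y ⊗ F ⟶ F` -/
noncomputable def psi (F : X.Modules) : tens ((plb f).obj (Coh.structureModule Y)) F ⟶ F :=
  (DCoh.tensorBi.map (pullbackUnitHom f)).app F ≫ (tLUnitIso X.sheaf).hom.app F

instance (F : X.Modules) : IsIso (psi f F) := by
  unfold psi
  have h1 : IsIso ((DCoh.tensorBi.map (pullbackUnitHom f)).app F) :=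
    inferInstanceAs (IsIso ((DCoh.tensorBi.mapIso (pullbackUnitIso f)).app F).hom)
  have h2 : IsIso ((tLUnitIso X.sheaf).hom.app F) :=
    inferInstanceAs (IsIso ((tLUnitIso X.sheaf).app F).hom)
  exact IsIso.comp_isIso' h1 h2

/-- the left unitor on sections -/
lemma lunit_app_tm (P : PMod X.presheaf) (U : X.Opens) (r : (toPM (Coh.structureModule X)).obj (op U))
    (p : P.obj (op U)) :
    ((λ_ P).hom.app (op U)).hom (tm (toPM (Coh.structureModule X)) P r p) =
      (show X.presheaf.obj (op U) from r) • p := by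
  rw [PresheafOfModules.leftUnitor_hom_app]
  exact ModuleCat.MonoidalCategory.leftUnitor_hom_apply _ _

/-- the unit section of `f^* O_Y` goes to the pulled back function -/
lemma pullbackUnitHom_un (V : Y.Opens) (r : (toPM (Coh.structureModule Y)).obj (op V)) :
    ((toPMMap (pullbackUnitHom f)).app (op (f ⁻¹ᵁ V))).hom
      (((toPMMap (un f (Coh.structureModule Y))).app (op V)).hom r) =
      (f.app V).hom (show Y.presheaf.obj (op V) from r) := by
  have h := un_pullbackUnitHom f
  have h2 := congrArg (fun φ => ((toPMMap φ).app (op V)).hom r) h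
  exact h2

/-- `aP` followed by `psi` on pure tensors -/
lemma aP_psi_app (F : X.Modules) (V : Y.Opens) (r : (toPM (Coh.structureModule Y)).obj (op V))
    (s : (toPM ((psh f).obj F)).obj (op V)) :
    ((toPMMap (psi f F)).app (op (f ⁻¹ᵁ V))).hom
      (((aP f (Coh.structureModule Y) F).app (op V)).hom
        (tm (toPM (Coh.structureModule Y)) (toPM ((psh f).obj F)) r s)) =
      (f.app V).hom (show Y.presheaf.obj (op V) from r) •
        (show (toPM F).obj (op (f ⁻¹ᵁ V)) from s) := by
  have e3 : ((toPMMap (psi f F)).app (op (f ⁻¹ᵁ V))).hom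
      (((aP f (Coh.structureModule Y) F).app (op V)).hom
        (tm (toPM (Coh.structureModule Y)) (toPM ((psh f).obj F)) r s)) =
      ((toPMMap ((tLUnitIso X.sheaf).hom.app F)).app (op (f ⁻¹ᵁ V))).hom
        ((toPMMap ((DCoh.tensorBi.map (pullbackUnitHom f)).app F)).app (op (f ⁻¹ᵁ V))
          ((etaX (toPM ((plb f).obj (Coh.structureModule Y)) ⊗ toPM F)).app (op (f ⁻¹ᵁ V))
            (tm _ _ (((toPMMap (un f (Coh.structureModule Y))).app (op V)).hom r) s))) := rfl
  refine e3.trans ?_
  have e3' := etaX_app_whiskerRight (pullbackUnitHom f) F (f ⁻¹ᵁ V)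
    (tm _ _ (((toPMMap (un f (Coh.structureModule Y))).app (op V)).hom r) s)
  refine (congrArg (fun t => ((toPMMap ((tLUnitIso X.sheaf).hom.app F)).app
    (op (f ⁻¹ᵁ V))).hom t) e3').trans ?_
  have e4 := congrArg (fun φ => (φ.app (op (f ⁻¹ᵁ V))).hom
    (tm (toPM (Coh.structureModule X)) (toPM F)
      ((toPMMap (pullbackUnitHom f)).app (op (f ⁻¹ᵁ V))
        (((toPMMap (un f (Coh.structureModule Y))).app (op V)).hom r)) s)) (etaX_tLUnit F)
  refine e4.trans ?_
  refine (lunit_app_tm (toPM F) (f ⁻¹ᵁ V) _ s).trans ?_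
  exact congrArg (fun t => (show X.presheaf.obj (op (f ⁻¹ᵁ V)) from t) •
    (show (toPM F).obj (op (f ⁻¹ᵁ V)) from s)) (pullbackUnitHom_un f V r)

lemma aP_psi (F : X.Modules) :
    aP f (Coh.structureModule Y) F ≫ toPMMap ((psh f).map (psi f F)) =
      (λ_ (toPM ((psh f).obj F))).hom := by
  apply PresheafOfModules.hom_ext
  intro V
  apply ModuleCat.MonoidalCategory.tensor_ext
  intro r s
  refine (aP_psi_app f F V.unop r s).trans ?_
  refine Eq.trans ?_ (lunit_app_tm (toPM ((psh f).obj F)) V.unop r s).symm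
  rfl

/-- the projection morphism for the structure sheaf, in terms of the unitors -/
theorem alpha_unit_comp (F : X.Modules) :
    alpha f (Coh.structureModule Y) F ≫ (psh f).map (psi f F) =
      (tLUnitIso Y.sheaf).hom.app ((psh f).obj F) := by
  apply shX_hom_ext (T := toPM (Coh.structureModule Y) ⊗ toPM ((psh f).obj F))
  have h2 := etaX_comp_post (T := toPM (Coh.structureModule Y) ⊗ toPM ((psh f).obj F))
    (alpha f (Coh.structureModule Y) F) ((psh f).map (psi f F))
  rw [etaX_alpha] at h2
  exact h2.trans ((aP_psi f F).trans (etaX_tLUnit ((psh f).obj F)).symm)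

/-- **The projection morphism for the structure sheaf is an isomorphism.** -/
theorem isIso_alpha_unit (F : X.Modules) : IsIso (alpha f (Coh.structureModule Y) F) := by
  have h := alpha_unit_comp f F
  haveI : IsIso ((psh f).map (psi f F)) := inferInstance
  have h2 : IsIso ((tLUnitIso Y.sheaf).hom.app ((psh f).obj F)) :=
    inferInstanceAs (IsIso ((tLUnitIso Y.sheaf).app ((psh f).obj F)).hom)
  haveI : IsIso (alpha f (Coh.structureModule Y) F ≫ (psh f).map (psi f F)) := by
    rw [h]; exact h2
  exact IsIso.of_isIso_comp_right (alpha f (Coh.structureModule Y) F) ((psh f).map (psi f F))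

end Groth.Agent.Lib.T2H5.ProjFLF
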