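import Mathlib
import Groth.Agent.Lib.T2H5ProjFLF2
import Groth.Agent.Lib.Helper21RetractFree
set_option backward.isDefEq.respectTransparency.types false

/-!
# T2H5ProjFLF3: the projection morphism for a free module of finite rank is an isomorphism (helper5)
-/

set_option autoImplicit false
set_option linter.style.haveILetI false
set_option linter.unusedSectionVars false
universe u
open CategoryTheory CategoryTheory.Limits AlgebraicGeometry TopologicalSpace Opposite
  MonoidalCategory TensorProduct

namespace Groth.Agent.Lib.T2H5.ProjFLF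

open Groth.Agent.Lib.Helper1.PT Groth.Agent.Lib.Helper1.Sky Groth.Agent.Lib.Helper1.StalkTensor
  Groth.Agent.Lib.Helper21.ModTensor2

section Abstract

universe v₁ v₂ u₁ u₂

variable {C : Type u₁} [Category.{v₁} C] [Preadditive C] {D : Type u₂} [Category.{v₂} D]
  [Preadditive D]

/-- a natural transformation of additive functors which is an isomorphism at `O` is an isomorphism at
every object which is a finite "sum of retracts" of `O` -/
theorem isIso_app_of_sum_retract (Φ Ψ : C ⥤ D) [Φ.Additive] [Ψ.Additive] (α : Φ ⟶ Ψ) (O A : C)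
    {n : ℕ} (ι : Fin n → (O ⟶ A)) (π : Fin n → (A ⟶ O)) (h : ∑ j, π j ≫ ι j = 𝟙 A)
    [IsIso (α.app O)] : IsIso (α.app A) := by
  refine ⟨⟨∑ j, Ψ.map (π j) ≫ inv (α.app O) ≫ Φ.map (ι j), ?_, ?_⟩⟩
  · rw [Preadditive.comp_sum]
    have key : ∀ j, α.app A ≫ Ψ.map (π j) ≫ inv (α.app O) ≫ Φ.map (ι j) = Φ.map (π j ≫ ι j) := by
      intro j
      rw [← Category.assoc, ← α.naturality, Category.assoc, IsIso.hom_inv_id_assoc, Φ.map_comp]
    rw [Finset.sum_congr rfl (fun j _ => key j), ← Functor.map_sum, h, Φ.map_id]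
  · rw [Preadditive.sum_comp]
    have key : ∀ j, (Ψ.map (π j) ≫ inv (α.app O) ≫ Φ.map (ι j)) ≫ α.app A = Ψ.map (π j ≫ ι j) := by
      intro j
      rw [Category.assoc, Category.assoc, α.naturality, IsIso.inv_hom_id_assoc, Ψ.map_comp]
    rw [Finset.sum_congr rfl (fun j _ => key j), ← Functor.map_sum, h, Ψ.map_id]

/-- an additive functor kills every object which is a finite "sum of retracts" of objects it kills -/
theorem isZero_obj_of_sum_retract (Φ : C ⥤ D) [Φ.Additive] (O A : C)
    {n : ℕ} (ι : Fin n → (O ⟶ A)) (π : Fin n → (A ⟶ O)) (h : ∑ j, π j ≫ ι j = 𝟙 A)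
    (hO : IsZero (Φ.obj O)) : IsZero (Φ.obj A) := by
  rw [IsZero.iff_id_eq_zero, ← Φ.map_id, ← h, Functor.map_sum]
  refine Finset.sum_eq_zero fun j _ => ?_
  rw [Φ.map_comp, hO.eq_of_src (Φ.map (ι j)) 0, comp_zero]

end Abstract

variable {X Y : Scheme.{u}} (f : X ⟶ Y)

/-- the functor `E ↦ E ⊗ f_* F` -/
noncomputable abbrev PhiE (F : X.Modules) : Y.Modules ⥤ Y.Modules :=
  DCoh.tensorBi.flip.obj ((psh f).obj F)

/-- the functor `E ↦ f_* (f^* E ⊗ F)` -/
noncomputable abbrev PsiE (F : X.Modules) : Y.Modules ⥤ Y.Modules :=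
  plb f ⋙ DCoh.tensorBi.flip.obj F ⋙ psh f

instance additive_flip_obj {Z : Scheme.{u}} (G : Z.Modules) :
    (DCoh.tensorBi.flip.obj G).Additive where
  map_add {A B φ ψ} := by
    change (DCoh.tensorBi.map (φ + ψ)).app G = (DCoh.tensorBi.map φ).app G + (DCoh.tensorBi.map ψ).app G
    rw [Functor.map_add]
    rfl

instance additive_plb : (plb f).Additive :=
  (ppAdj f).left_adjoint_additive

instance additive_psh : (psh f).Additive :=
  (ppAdj f).right_adjoint_additive

/-- the projection morphism as a natural transformation in the first variable -/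
noncomputable def alphaNatE (F : X.Modules) : PhiE f F ⟶ PsiE f F where
  app E := alpha f E F
  naturality _ _ φ := alpha_naturality_left f φ F

/-- **The projection morphism for a free module of finite rank is an isomorphism.** -/
theorem isIso_alpha_free (n : ℕ) (F : X.Modules) : IsIso (alpha f (FlatMod.freeMod Y n) F) := by
  haveI : IsIso ((alphaNatE f F).app (Coh.structureModule Y)) := isIso_alpha_unit f F
  exact isIso_app_of_sum_retract (PhiE f F) (PsiE f F) (alphaNatE f F) (Coh.structureModule Y)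
    (FlatMod.freeMod Y n) (Groth.Agent.Lib.Helper21.RetractFree.ι Y n)
    (Groth.Agent.Lib.Helper21.RetractFree.π Y n) (Groth.Agent.Lib.Helper21.RetractFree.sum_π_ι Y n)

end Groth.Agent.Lib.T2H5.ProjFLF
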