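import Mathlib
import Groth.Agent.Lib.Helper16Restr
import Groth.Agent.Lib.Helper23AffVanish1

/-!
# Cohomology of opens of an open subspace (helper5)

Namespace `Groth.Agent.Lib.T2H5.RestrOpen`.

For an open `U` of a space `X`, an abelian sheaf `F` on `X` and an open `W'` of `U`: the comparison
`eW U F n W' : H^n(img W', F) → H^n(W', F|_U)` is bijective and compatible with restrictions.
-/

set_option autoImplicit false
set_option linter.style.haveILetI false
set_option linter.unusedSectionVars false
universe u
open CategoryTheory CategoryTheory.Limits Opposite TopologicalSpace Abelian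

namespace Groth.Agent.Lib.T2H5.RestrOpen

open Groth.Agent.Lib.Helper16.ClosedEmb Groth.Agent.Lib.Helper16.ExtCompare
open Groth.Agent.Lib.Helper23.AffVanish

variable {X : TopCat.{u}} (U : Opens X)

/-- the comparison `ℤ_{W'} ⟶ (ℤ_{img W'})|_U` -/
noncomputable def wW (W' : Opens (TopCat.of U)) :
    ZU (X := TopCat.of U) W' ⟶ (CohTop.restrFunctor U).obj (ZU (X := X) (img U W')) :=
  CohFree.ofSect (J (TopCat.of U)) W' ((CohTop.restrFunctor U).obj (ZU (X := X) (img U W')))
    (CohFree.gen (J X) (img U W'))

theorem evalGen_wW_comp (W' : Opens (TopCat.of U)) {F : CohTop.Ab X} (φ : ZU (X := X) (img U W') ⟶ F) :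
    CohFree.evalGen (J (TopCat.of U)) W' ((CohTop.restrFunctor U).obj F)
        (wW U W' ≫ (CohTop.restrFunctor U).map φ) =
      CohFree.evalGen (J X) (img U W') F φ := by
  have h1 : CohFree.evalGen (J (TopCat.of U)) W' ((CohTop.restrFunctor U).obj F)
      (wW U W' ≫ (CohTop.restrFunctor U).map φ) =
      (((CohTop.restrFunctor U).map φ).hom.app (op W')).hom
        (CohFree.evalGen (J (TopCat.of U)) W' _ (wW U W')) := rfl
  rw [h1, wW, CohFree.evalGen_ofSect]
  rfl

theorem wW_bijective (W' : Opens (TopCat.of U)) (F : CohTop.Ab X) :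
    Function.Bijective (fun φ : ZU (X := X) (img U W') ⟶ F => wW U W' ≫ (CohTop.restrFunctor U).map φ) := by
  have h : ∀ φ : ZU (X := X) (img U W') ⟶ F,
      CohFree.homEquivSect (J (TopCat.of U)) W' ((CohTop.restrFunctor U).obj F)
        (wW U W' ≫ (CohTop.restrFunctor U).map φ) = CohFree.homEquivSect (J X) (img U W') F φ := by
    intro φ
    rw [CohFree.homEquivSect_apply, CohFree.homEquivSect_apply]
    exact evalGen_wW_comp U W' φ
  constructor
  · intro φ φ' hφ
    apply (CohFree.homEquivSect (J X) (img U W') F).injective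
    rw [← h φ, ← h φ']
    exact congrArg _ hφ
  · intro χ
    refine ⟨(CohFree.homEquivSect (J X) (img U W') F).symm
      (CohFree.homEquivSect (J (TopCat.of U)) W' ((CohTop.restrFunctor U).obj F) χ), ?_⟩
    apply (CohFree.homEquivSect (J (TopCat.of U)) W' ((CohTop.restrFunctor U).obj F)).injective
    change CohFree.homEquivSect (J (TopCat.of U)) W' ((CohTop.restrFunctor U).obj F) (wW U W' ≫ _) = _
    rw [h]
    exact (CohFree.homEquivSect (J X) (img U W') F).apply_symm_apply _

/-- the comparison `H^n(img W', F) → H^n(W', F|_U)` -/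
noncomputable def eW (F : CohTop.Ab X) (n : ℕ) (W' : Opens (TopCat.of U)) :
    HE F n (img U W') →+ HE ((CohTop.restrFunctor U).obj F) n W' :=
  haveI := Groth.Agent.Lib.Helper16.Restr.restr_preservesFiniteLimits U
  haveI := Groth.Agent.Lib.Helper16.Restr.restr_preservesFiniteColimits U
  cmp (CohTop.restrFunctor U) (wW U W') F n

theorem eW_bijective (F : CohTop.Ab X) (n : ℕ) (W' : Opens (TopCat.of U)) :
    Function.Bijective (eW U F n W') := by
  haveI := Groth.Agent.Lib.Helper16.Restr.restr_preservesFiniteLimits U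
  haveI := Groth.Agent.Lib.Helper16.Restr.restr_preservesFiniteColimits U
  exact cmp_bijective.{u, u} (CohTop.restrFunctor U) (wW U W') (wW_bijective U W') (fun I _ m => by
    haveI := Groth.Agent.Lib.Helper16.Flasque.injective_isFlasque I
    exact Groth.Agent.Lib.Helper16.Flasque.HU_subsingleton ((CohTop.restrFunctor U).obj I) W' m) n F

theorem wW_naturality {W' W'' : Opens (TopCat.of U)} (h : W'' ≤ W') :
    wW U W'' ≫ (CohTop.restrFunctor U).map (CohCx.freeSheafMap (J X)
        (homOfLE ((U.isOpenEmbedding.isOpenMap.functor).monotone h))) =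
      CohCx.freeSheafMap (J (TopCat.of U)) (homOfLE h) ≫ wW U W' := by
  apply (CohFree.homEquivSect (J (TopCat.of U)) W'' _).injective
  rw [CohFree.homEquivSect_apply, CohFree.homEquivSect_apply, evalGen_wW_comp,
    CohFree.evalGen_freeSheafMap_comp, wW, CohFree.evalGen_ofSect]
  exact CohFree.freeSheafMap_gen (J X) (homOfLE ((U.isOpenEmbedding.isOpenMap.functor).monotone h))

theorem eW_resE (F : CohTop.Ab X) (n : ℕ) {W' W'' : Opens (TopCat.of U)} (h : W'' ≤ W')
    (x : HE F n (img U W')) :
    eW U F n W'' (resE F n ((U.isOpenEmbedding.isOpenMap.functor).monotone h) x) =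
      resE ((CohTop.restrFunctor U).obj F) n h (eW U F n W' x) := by
  haveI := Groth.Agent.Lib.Helper16.Restr.restr_preservesFiniteLimits U
  haveI := Groth.Agent.Lib.Helper16.Restr.restr_preservesFiniteColimits U
  change cmp (CohTop.restrFunctor U) (wW U W'') F n _ = resE _ n h (cmp (CohTop.restrFunctor U) (wW U W') F n x)
  rw [cmp_apply, cmp_apply, resE_apply, resE_apply, Ext.mapExactFunctor_comp, Ext.mapExactFunctor_mk₀,
    ← Ext.comp_assoc _ _ _ (zero_add 0) (zero_add n) (by omega),
    ← Ext.comp_assoc _ _ _ (zero_add 0) (zero_add n) (by omega), Ext.mk₀_comp_mk₀, Ext.mk₀_comp_mk₀,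
    wW_naturality]

end Groth.Agent.Lib.T2H5.RestrOpen
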