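import Mathlib
import Groth.Prelude.Def_Coh
import Groth.Prelude.Def_Canon
import Groth.Agent.Lib.T2H5DerEndo
import Groth.Agent.Lib.Helper23ModAbBridge
import Groth.Agent.Lib.Helper23QCohAbelian
import Groth.Agent.Lib.T2H5RestrOpen

/-!
# T2H5RpushRestr: restriction of higher direct images of modules to an open of the base, on underlying abelian
sheaves, compatibly with multiplication by functions on the open (helper5)

For `f : X ⟶ S`, an open `V ⊆ S` with preimage `U`, and an `O_X`-module `M`, the abelian sheaf underlying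
`(R^p f_* M)|_V` is identified with `R^p (f|_V)_*` of the abelian sheaf underlying `M|_U`, and multiplication by
`g ∈ Γ(V, O)` on the former corresponds to the map induced by multiplication by `f^♯ g` on the latter.
-/

set_option autoImplicit false
set_option linter.style.haveILetI false
set_option linter.unusedSectionVars false
universe u
open CategoryTheory CategoryTheory.Limits Opposite TopologicalSpace AlgebraicGeometry Abelian

namespace Groth.Agent.Lib.T2H5.RpushRestr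

attribute [local instance] Groth.Agent.Lib.Helper23.QCohLocal.restrictFunctor_isRightAdjoint

section Functors

variable {S : Scheme.{u}} (V : S.Opens)

/-- restriction of modules to an open, typed on sheaves of modules -/
noncomputable def resMod : SheafOfModules.{u} S.ringCatSheaf ⥤ SheafOfModules.{u} (↑V : Scheme.{u}).ringCatSheaf :=
  Scheme.Modules.restrictFunctor V.ι

instance : (resMod V).Additive := inferInstanceAs ((Scheme.Modules.restrictFunctor V.ι).Additive)

instance : (resMod V).PreservesHomology :=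
  inferInstanceAs ((Scheme.Modules.restrictFunctor V.ι).PreservesHomology)

instance : PreservesFiniteLimits (resMod V) :=
  inferInstanceAs (PreservesFiniteLimits (Scheme.Modules.restrictFunctor V.ι))

instance : PreservesFiniteColimits (resMod V) :=
  inferInstanceAs (PreservesFiniteColimits (Scheme.Modules.restrictFunctor V.ι))

/-- restriction to an open followed by the underlying abelian sheaf -/
noncomputable abbrev resAb : SheafOfModules.{u} S.ringCatSheaf ⥤
    Sheaf (Opens.grothendieckTopology (↑V : Scheme.{u})) AddCommGrpCat.{u} :=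
  resMod V ⋙ SheafOfModules.toSheaf.{u} (↑V : Scheme.{u}).ringCatSheaf

instance : PreservesFiniteLimits (resAb V) := comp_preservesFiniteLimits _ _

instance : PreservesFiniteColimits (resAb V) := comp_preservesFiniteColimits _ _

instance : (resAb V).PreservesHomology := inferInstance

end Functors

variable {X S : Scheme.{u}} (f : X ⟶ S) (V : S.Opens)

/-- direct image, typed on sheaves of modules -/
noncomputable def pushMod : SheafOfModules.{u} X.ringCatSheaf ⥤ SheafOfModules.{u} S.ringCatSheaf :=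
  Scheme.Modules.pushforward f

instance : (pushMod f).Additive := inferInstanceAs (Coh.push f).Additive

theorem opens_eq (V' : (↑V : Scheme.{u}).Opens) :
    (f ⁻¹ᵁ V).ι ''ᵁ ((f ∣_ V) ⁻¹ᵁ V') = f ⁻¹ᵁ (V.ι ''ᵁ V') :=
  image_morphismRestrict_preimage f V V'

/-- the two functors on opens agree up to (unique) isomorphism -/
noncomputable def opensIso :
    (V.ι.opensFunctor ⋙ Opens.map f.base).op ≅
      (Opens.map (f ∣_ V).base ⋙ (f ⁻¹ᵁ V).ι.opensFunctor).op :=
  NatIso.ofComponents (fun V' => eqToIso (congrArg op (opens_eq f V V'.unop).symm))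
    (fun _ => Subsingleton.elim _ _)

/-- the comparison of the two restrictions, on presheaves -/
noncomputable def θpre (M : SheafOfModules.{u} X.ringCatSheaf) :
    ((pushMod f ⋙ resAb V).obj M).obj ≅ ((resAb (f ⁻¹ᵁ V) ⋙ Coh.pushAb (f ∣_ V)).obj M).obj :=
  Functor.isoWhiskerRight (opensIso f V) ((SheafOfModules.toSheaf.{u} X.ringCatSheaf).obj M).obj

/-- the comparison of the two restrictions, on sheaves -/
noncomputable def θobj (M : SheafOfModules.{u} X.ringCatSheaf) :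
    (pushMod f ⋙ resAb V).obj M ≅ (resAb (f ⁻¹ᵁ V) ⋙ Coh.pushAb (f ∣_ V)).obj M :=
  ObjectProperty.isoMk _ (θpre f V M)

theorem θobj_hom_app (M : SheafOfModules.{u} X.ringCatSheaf) (V' : (Opens (↑V : Scheme.{u}))ᵒᵖ) :
    (θobj f V M).hom.hom.app V' = ((SheafOfModules.toSheaf.{u} X.ringCatSheaf).obj M).obj.map
      (eqToHom (congrArg op (opens_eq f V V'.unop).symm)) := rfl

/-- the comparison of the two restrictions, as a natural isomorphism -/
noncomputable def θ : pushMod f ⋙ resAb V ≅ resAb (f ⁻¹ᵁ V) ⋙ Coh.pushAb (f ∣_ V) :=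
  NatIso.ofComponents (θobj f V) (by
    intro M M' φ
    apply Sheaf.hom_ext
    ext V' : 2
    exact (((SheafOfModules.toSheaf.{u} X.ringCatSheaf).map φ).hom.naturality
      (eqToHom (congrArg op (opens_eq f V V'.unop).symm))).symm)

section Scalars

variable {S' : Scheme.{u}} (W : S'.Opens) (g : Coh.Γtop (↑W : Scheme.{u}))

/-- multiplication by a function on the open, as a natural endomorphism of `resAb` -/
noncomputable def bEnd : resAb W ⟶ resAb W where
  app N := Coh.smulAb ((resMod W).obj N) g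
  naturality _ _ φ := Canon.toSheaf_map_comp_smulAb ((resMod W).map φ) g

theorem bEnd_app (N : SheafOfModules.{u} S'.ringCatSheaf) :
    (bEnd W g).app N = Coh.smulAb ((resMod W).obj N) g := rfl

end Scalars

section Compat

variable (g : Coh.Γtop (↑V : Scheme.{u}))

/-- the pulled back function on the preimage -/
noncomputable def pullFn : Coh.Γtop (↑(f ⁻¹ᵁ V) : Scheme.{u}) := (f ∣_ V).appTop.hom g

/-- the ring identity behind the compatibility -/
theorem ring_compat (V' : (↑V : Scheme.{u}).Opens) :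
    (X.presheaf.map (eqToHom (opens_eq f V V')).op).hom
        ((f.app (V.ι ''ᵁ V')).hom (((↑V : Scheme.{u}).presheaf.map (homOfLE (le_top : V' ≤ ⊤)).op).hom g)) =
      ((↑(f ⁻¹ᵁ V) : Scheme.{u}).presheaf.map (homOfLE (le_top : (f ∣_ V) ⁻¹ᵁ V' ≤ ⊤)).op).hom
        ((f ∣_ V).appTop.hom g) := by
  have h1 := morphismRestrict_app f V V'
  have h2 := (f ∣_ V).naturality (homOfLE (le_top : V' ≤ ⊤)).op
  have h3 : ((f ∣_ V).app V').hom (((↑V : Scheme.{u}).presheaf.map (homOfLE (le_top : V' ≤ ⊤)).op).hom g) =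
      ((↑(f ⁻¹ᵁ V) : Scheme.{u}).presheaf.map (homOfLE (le_top : (f ∣_ V) ⁻¹ᵁ V' ≤ ⊤)).op).hom
        ((f ∣_ V).appTop.hom g) := ConcreteCategory.congr_hom h2 g
  rw [← h3, h1]
  rfl

set_option backward.isDefEq.respectTransparency false in
theorem compat :
    Functor.whiskerLeft (pushMod f) (bEnd V g) ≫ (θ f V).hom =
      (θ f V).hom ≫ Functor.whiskerRight (bEnd (f ⁻¹ᵁ V) (pullFn f V g)) (Coh.pushAb (f ∣_ V)) := by
  ext M : 2
  apply Sheaf.hom_ext
  ext V' m
  obtain ⟨V'⟩ := V'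
  let W₁ : X.Opens := f ⁻¹ᵁ (V.ι ''ᵁ V')
  let W₂ : X.Opens := (f ⁻¹ᵁ V).ι ''ᵁ ((f ∣_ V) ⁻¹ᵁ V')
  let φ : (op W₁ : (Opens X)ᵒᵖ) ⟶ op W₂ := eqToHom (congrArg op (opens_eq f V V').symm)
  let r₁ : X.ringCatSheaf.obj.obj (op W₁) :=
    (f.app (V.ι ''ᵁ V')).hom (((↑V : Scheme.{u}).presheaf.map (homOfLE (le_top : V' ≤ ⊤)).op).hom g)
  let r₂ : X.ringCatSheaf.obj.obj (op W₂) :=
    ((↑(f ⁻¹ᵁ V) : Scheme.{u}).presheaf.map (homOfLE (le_top : (f ∣_ V) ⁻¹ᵁ V' ≤ ⊤)).op).hom
      ((f ∣_ V).appTop.hom g)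
  have e1 : (((pushMod f).whiskerLeft (bEnd V g) ≫ (θ f V).hom).app M).hom.app (op V') m =
      ((θobj f V M).hom.hom.app (op V'))
        ((Coh.smulAb ((resMod V).obj ((pushMod f).obj M)) g).hom.app (op V') m) := rfl
  have e2 : (((θ f V).hom ≫ Functor.whiskerRight (bEnd (f ⁻¹ᵁ V) (pullFn f V g))
      (Coh.pushAb (f ∣_ V))).app M).hom.app (op V') m =
      (Coh.smulAb ((resMod (f ⁻¹ᵁ V)).obj M) (pullFn f V g)).hom.app (op ((f ∣_ V) ⁻¹ᵁ V'))
        ((θobj f V M).hom.hom.app (op V') m) := rfl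
  have e3 : ∀ x, (θobj f V M).hom.hom.app (op V') x = (M.val.map φ).hom x := fun x => rfl
  let P : S.Modules := (Scheme.Modules.pushforward f).obj M
  let N : (↑V : Scheme.{u}).Modules := P.restrict V.ι
  let r₀ : (↑V : Scheme.{u}).ringCatSheaf.obj.obj (op V') := Coh.resTop (↑V : Scheme.{u}) (op V') g
  have e4a : (Coh.smulAb N g).hom.app (op V') m =
      @HSMul.hSMul ((↑V : Scheme.{u}).ringCatSheaf.obj.obj (op V')) (N.val.obj (op V')) (N.val.obj (op V')) _
        r₀ m := Coh.smulAb_app N g (op V') m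
  have e4b : @HSMul.hSMul ((↑V : Scheme.{u}).ringCatSheaf.obj.obj (op V')) (N.val.obj (op V'))
      (N.val.obj (op V')) _ r₀ m =
      @HSMul.hSMul (S.ringCatSheaf.obj.obj (op (V.ι ''ᵁ V'))) (P.val.obj (op (V.ι ''ᵁ V')))
        (P.val.obj (op (V.ι ''ᵁ V'))) _ ((V.ι.appIso V').inv.hom r₀) m := rfl
  have e4c : ∀ r' : S.ringCatSheaf.obj.obj (op (V.ι ''ᵁ V')),
      @HSMul.hSMul (S.ringCatSheaf.obj.obj (op (V.ι ''ᵁ V'))) (P.val.obj (op (V.ι ''ᵁ V')))
        (P.val.obj (op (V.ι ''ᵁ V'))) _ r' m =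
      @HSMul.hSMul (X.ringCatSheaf.obj.obj (op W₁)) (M.val.obj (op W₁)) (M.val.obj (op W₁)) _
        ((f.app (V.ι ''ᵁ V')).hom r') m := fun r' => rfl
  have e4d : (V.ι.appIso V').inv.hom r₀ =
      ((↑V : Scheme.{u}).presheaf.map (homOfLE (le_top : V' ≤ ⊤)).op).hom g := by
    rw [Scheme.Opens.ι_appIso]
    rfl
  let N' : (↑(f ⁻¹ᵁ V) : Scheme.{u}).Modules := Scheme.Modules.restrict M (f ⁻¹ᵁ V).ι
  let W' : (↑(f ⁻¹ᵁ V) : Scheme.{u}).Opens := (f ∣_ V) ⁻¹ᵁ V'
  let s₀ : (↑(f ⁻¹ᵁ V) : Scheme.{u}).ringCatSheaf.obj.obj (op W') :=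
    Coh.resTop (↑(f ⁻¹ᵁ V) : Scheme.{u}) (op W') (pullFn f V g)
  have e5a : ∀ y, (Coh.smulAb N' (pullFn f V g)).hom.app (op W') y =
      @HSMul.hSMul ((↑(f ⁻¹ᵁ V) : Scheme.{u}).ringCatSheaf.obj.obj (op W')) (N'.val.obj (op W'))
        (N'.val.obj (op W')) _ s₀ y := fun y => Coh.smulAb_app N' (pullFn f V g) (op W') y
  have e5b : ∀ y, @HSMul.hSMul ((↑(f ⁻¹ᵁ V) : Scheme.{u}).ringCatSheaf.obj.obj (op W')) (N'.val.obj (op W'))
      (N'.val.obj (op W')) _ s₀ y =
      @HSMul.hSMul (X.ringCatSheaf.obj.obj (op W₂)) (M.val.obj (op W₂)) (M.val.obj (op W₂)) _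
        (((f ⁻¹ᵁ V).ι.appIso W').inv.hom s₀) y := fun y => rfl
  have e5d : ((f ⁻¹ᵁ V).ι.appIso W').inv.hom s₀ = r₂ := by
    rw [Scheme.Opens.ι_appIso]
    rfl
  have e4 : (Coh.smulAb ((resMod V).obj ((pushMod f).obj M)) g).hom.app (op V') m =
      @HSMul.hSMul (X.ringCatSheaf.obj.obj (op W₁)) (M.val.obj (op W₁)) (M.val.obj (op W₁)) _ r₁ m := by
    refine e4a.trans (e4b.trans ((e4c _).trans ?_))
    rw [e4d]
  have e5 : ∀ y, (Coh.smulAb ((resMod (f ⁻¹ᵁ V)).obj M) (pullFn f V g)).hom.app (op ((f ∣_ V) ⁻¹ᵁ V')) y =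
      @HSMul.hSMul (X.ringCatSheaf.obj.obj (op W₂)) (M.val.obj (op W₂)) (M.val.obj (op W₂)) _ r₂ y := by
    intro y
    refine (e5a y).trans ((e5b y).trans ?_)
    rw [e5d]
  rw [e1, e2, e3, e3, e4, e5, M.val.map_smul φ r₁ m]
  congr 1
  have hφ : φ = (eqToHom (opens_eq f V V')).op := Subsingleton.elim _ _
  rw [hφ]
  exact ring_compat f V g V'

end Compat

section KT

open Groth.Agent.Lib.Helper23.AffVanish Groth.Agent.Lib.Helper23.ModAbBridge
open Groth.Agent.Lib.T2H5.RestrOpen Groth.Agent.Lib.Helper16.ClosedEmb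

theorem hE (I : SheafOfModules.{u} X.ringCatSheaf) (hI : Injective I) (q : ℕ) (hq : 0 < q) :
    IsZero (((Coh.pushAb (f ∣_ V)).rightDerived q).obj ((resAb (f ⁻¹ᵁ V)).obj I)) := by
  obtain ⟨q, rfl⟩ : ∃ k, q = k + 1 := ⟨q - 1, by omega⟩
  refine isZero_Rpush_of_basis (f ∣_ V).base Set.univ ?_ ((resAb (f ⁻¹ᵁ V)).obj I) ?_ q
  · rw [Opens.isBasis_iff_nbhd]
    intro U x hx
    exact ⟨U, trivial, hx, le_rfl⟩
  · intro V' _ i
    have hb := eW_bijective (X := X.carrier) (f ⁻¹ᵁ V) (Coh.toAb I) (i + 1)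
      ((Opens.map (f ∣_ V).base).obj V')
    haveI := @subsingleton_HE_of_injective X I hI
      (img (X := X.carrier) (f ⁻¹ᵁ V) ((Opens.map (f ∣_ V).base).obj V')) i
    exact hb.2.subsingleton

variable [HasInjectiveResolutions X.Modules]

/-- **Restriction of higher direct images to an open of the base**, on underlying abelian sheaves, compatibly
with multiplication by functions on the open. -/
theorem exists_iso_restrict (M : X.Modules) (p : ℕ) :
    ∃ Ξ : Coh.toAb (((Coh.Rpush f p).obj M).restrict V.ι) ≅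
        (Coh.RpushAb (f ∣_ V) p).obj (Coh.toAb (M.restrict (f ⁻¹ᵁ V).ι)),
      ∀ g : Coh.Γtop (↑V : Scheme.{u}),
        Coh.smulAb (((Coh.Rpush f p).obj M).restrict V.ι) g ≫ Ξ.hom =
          Ξ.hom ≫ (Coh.RpushAb (f ∣_ V) p).map
            (Coh.smulAb (M.restrict (f ⁻¹ᵁ V).ι) ((f ∣_ V).appTop.hom g)) := by
  haveI : HasInjectiveResolutions (SheafOfModules.{u} X.ringCatSheaf) := ‹HasInjectiveResolutions X.Modules›
  haveI : PreservesFiniteLimits (Coh.pushAb (f ∣_ V)) := push_preservesFiniteLimits (f ∣_ V).base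
  refine ⟨DerEndo.bridge (pushMod f) (resAb V) (resAb (f ⁻¹ᵁ V)) (Coh.pushAb (f ∣_ V)) (θ f V) (hE f V) M p,
    fun g => ?_⟩
  exact DerEndo.bridge_comm (pushMod f) (resAb V) (resAb (f ⁻¹ᵁ V)) (Coh.pushAb (f ∣_ V)) (θ f V) (hE f V)
    (bEnd V g) (bEnd (f ⁻¹ᵁ V) (pullFn f V g)) (compat f V g) M p

end KT


end Groth.Agent.Lib.T2H5.RpushRestr
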