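import Mathlib
import Groth.Agent.Lib.T2H5ProjFLF3
import Groth.Agent.Lib.T2H5RpushRestr
import Groth.Agent.Lib.Helper23ModLocal
import Groth.Agent.Lib.Helper20LocFree
import Groth.Agent.Lib.Helper1PT3
set_option backward.isDefEq.respectTransparency.types false

/-!
# T2H5ProjFLF4: the projection morphism for a finite locally free module is an isomorphism (helper5)

Localisation on the base: the class of `E` for which the restriction of the projection morphism to an open `V` of
`Y` is an isomorphism only depends on `E|_V`.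
-/

set_option autoImplicit false
set_option linter.style.haveILetI false
set_option linter.unusedSectionVars false
universe u
open CategoryTheory CategoryTheory.Limits AlgebraicGeometry TopologicalSpace Opposite
  MonoidalCategory TensorProduct

namespace Groth.Agent.Lib.T2H5.ProjFLF

open Groth.Agent.Lib.Helper1.PT Groth.Agent.Lib.Helper1.Sky Groth.Agent.Lib.Helper1.StalkTensor
  Groth.Agent.Lib.Helper21.ModTensor2

/-- restriction to an open -/
noncomputable abbrev Rs {Z : Scheme.{u}} (W : Z.Opens) : Z.Modules ⥤ (↑W : Scheme.{u}).Modules :=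
  Scheme.Modules.restrictFunctor W.ι

section OneScheme

variable {Z : Scheme.{u}} (W : Z.Opens)

lemma isIso_Rs_iff_plb {A B : Z.Modules} (φ : A ⟶ B) :
    IsIso ((Rs W).map φ) ↔ IsIso ((plb W.ι).map φ) :=
  NatIso.isIso_map_iff (Scheme.Modules.restrictFunctorIsoPullback W.ι) φ

/-- tensoring a morphism which is an isomorphism over `W` gives an isomorphism over `W` -/
lemma isIso_Rs_tensor_left {A A' : Z.Modules} (u : A ⟶ A') (G : Z.Modules)
    (h : IsIso ((Rs W).map u)) : IsIso ((Rs W).map ((DCoh.tensorBi.map u).app G)) := by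
  rw [isIso_Rs_iff_plb] at h ⊢
  have hn := delta_naturality_left W.ι u G
  haveI : IsIso ((DCoh.tensorBi.map ((plb W.ι).map u)).app ((plb W.ι).obj G)) :=
    inferInstanceAs (IsIso ((DCoh.tensorBi.mapIso (asIso ((plb W.ι).map u))).app
      ((plb W.ι).obj G)).hom)
  haveI : IsIso ((plb W.ι).map ((DCoh.tensorBi.map u).app G) ≫ delta W.ι A' G) := by
    rw [hn]
    exact IsIso.comp_isIso' (isIso_delta W.ι A G) inferInstance
  exact IsIso.of_isIso_comp_right _ (delta W.ι A' G)

/-- the unit of the adjunction between restriction and direct image is an isomorphism over `W` -/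
lemma isIso_Rs_unit (E : Z.Modules) :
    IsIso ((Rs W).map ((Scheme.Modules.restrictAdjunction W.ι).unit.app E)) := by
  have htri := (Scheme.Modules.restrictAdjunction W.ι).left_triangle_components E
  haveI : IsIso ((Scheme.Modules.restrictAdjunction W.ι).counit.app ((Rs W).obj E)) := inferInstance
  have : (Rs W).map ((Scheme.Modules.restrictAdjunction W.ι).unit.app E) =
      inv ((Scheme.Modules.restrictAdjunction W.ι).counit.app ((Rs W).obj E)) :=
    IsIso.eq_inv_of_inv_hom_id htri
  rw [this]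
  infer_instance

end OneScheme

variable {X Y : Scheme.{u}} (f : X ⟶ Y) (V : Y.Opens)

/-- restriction commutes with pullback -/
noncomputable def kappa :
    plb f ⋙ Rs (f ⁻¹ᵁ V) ≅ Rs V ⋙ plb (f ∣_ V) :=
  Functor.isoWhiskerLeft (plb f) (Scheme.Modules.restrictFunctorIsoPullback (f ⁻¹ᵁ V).ι) ≪≫
    Scheme.Modules.pullbackComp (f ⁻¹ᵁ V).ι f ≪≫
    Scheme.Modules.pullbackCongr (morphismRestrict_ι f V).symm ≪≫
    (Scheme.Modules.pullbackComp (f ∣_ V) V.ι).symm ≪≫
    Functor.isoWhiskerRight (Scheme.Modules.restrictFunctorIsoPullback V.ι).symm (plb (f ∣_ V))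

/-- pulling back a morphism which is an isomorphism over `V` gives an isomorphism over `f⁻¹ V` -/
lemma isIso_Rs_plb {E₁ E₂ : Y.Modules} (u : E₁ ⟶ E₂) (h : IsIso ((Rs V).map u)) :
    IsIso ((Rs (f ⁻¹ᵁ V)).map ((plb f).map u)) := by
  have h1 : IsIso ((plb f ⋙ Rs (f ⁻¹ᵁ V)).map u) ↔ IsIso ((Rs V ⋙ plb (f ∣_ V)).map u) :=
    NatIso.isIso_map_iff (kappa f V) u
  haveI := h
  exact h1.2 (inferInstanceAs (IsIso ((plb (f ∣_ V)).map ((Rs V).map u))))

/-- pushing forward a morphism which is an isomorphism over `f⁻¹ V` gives an isomorphism over `V` -/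
lemma isIso_Rs_psh {A B : X.Modules} (ψ : A ⟶ B) (h : IsIso ((Rs (f ⁻¹ᵁ V)).map ψ)) :
    IsIso ((Rs V).map ((psh f).map ψ)) := by
  have h1 := NatIso.isIso_map_iff (RpushRestr.θ f V) ψ
  haveI h2a : IsIso ((RpushRestr.resMod (f ⁻¹ᵁ V)).map ψ) := h
  have h2 : IsIso ((RpushRestr.resAb (f ⁻¹ᵁ V) ⋙ Coh.pushAb (f ∣_ V)).map ψ) := by
    change IsIso ((Coh.pushAb (f ∣_ V)).map
      ((SheafOfModules.toSheaf.{u} (↑(f ⁻¹ᵁ V) : Scheme.{u}).ringCatSheaf).map
        ((RpushRestr.resMod (f ⁻¹ᵁ V)).map ψ)))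
    infer_instance
  have h3 : IsIso ((RpushRestr.pushMod f ⋙ RpushRestr.resAb V).map ψ) := h1.2 h2
  have h4 : IsIso ((SheafOfModules.toSheaf.{u} (↑V : Scheme.{u}).ringCatSheaf).map
      ((RpushRestr.resMod V).map ((RpushRestr.pushMod f).map ψ))) := h3
  have h5 : IsIso ((RpushRestr.resMod V).map ((RpushRestr.pushMod f).map ψ)) := by
    haveI := h4
    haveI : (SheafOfModules.toSheaf.{u} (↑V : Scheme.{u}).ringCatSheaf).ReflectsIsomorphisms :=
      reflectsIsomorphisms_of_reflectsMonomorphisms_of_reflectsEpimorphisms _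
    exact isIso_of_reflects_iso ((RpushRestr.resMod V).map ((RpushRestr.pushMod f).map ψ))
      (SheafOfModules.toSheaf.{u} (↑V : Scheme.{u}).ringCatSheaf)
  exact h5

/-- the restriction to `V` of the projection morphism is an isomorphism for `E₁` iff it is for `E₂`, if `E₁ ⟶ E₂` is
an isomorphism over `V` -/
lemma isIso_Rs_alpha_iff {E₁ E₂ : Y.Modules} (u : E₁ ⟶ E₂) (h : IsIso ((Rs V).map u))
    (F : X.Modules) :
    IsIso ((Rs V).map (alpha f E₁ F)) ↔ IsIso ((Rs V).map (alpha f E₂ F)) := by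
  have hn := congrArg (fun t => (Rs V).map t) (alpha_naturality_left f u F)
  simp only [Functor.map_comp] at hn
  haveI ha : IsIso ((Rs V).map ((DCoh.tensorBi.map u).app ((psh f).obj F))) :=
    isIso_Rs_tensor_left V u _ h
  haveI hb : IsIso ((Rs V).map ((psh f).map ((DCoh.tensorBi.map ((plb f).map u)).app F))) :=
    isIso_Rs_psh f V _ (isIso_Rs_tensor_left (f ⁻¹ᵁ V) ((plb f).map u) F (isIso_Rs_plb f V u h))
  constructor
  · intro h1
    haveI := h1
    haveI : IsIso ((Rs V).map ((DCoh.tensorBi.map u).app ((psh f).obj F)) ≫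
        (Rs V).map (alpha f E₂ F)) := by
      rw [hn]
      infer_instance
    exact IsIso.of_isIso_comp_left ((Rs V).map ((DCoh.tensorBi.map u).app ((psh f).obj F))) _
  · intro h2
    haveI := h2
    haveI : IsIso ((Rs V).map (alpha f E₁ F) ≫
        (Rs V).map ((psh f).map ((DCoh.tensorBi.map ((plb f).map u)).app F))) := by
      rw [← hn]
      infer_instance
    exact IsIso.of_isIso_comp_right _
      ((Rs V).map ((psh f).map ((DCoh.tensorBi.map ((plb f).map u)).app F)))

/-- the restriction to `V` of the projection morphism only depends on `E|_V` -/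
lemma isIso_Rs_alpha_of_iso {E₁ E₂ : Y.Modules} (e : (Rs V).obj E₁ ≅ (Rs V).obj E₂)
    (F : X.Modules) (h : IsIso ((Rs V).map (alpha f E₁ F))) :
    IsIso ((Rs V).map (alpha f E₂ F)) := by
  have s1 := isIso_Rs_alpha_iff f V ((Scheme.Modules.restrictAdjunction V.ι).unit.app E₁)
    (isIso_Rs_unit V E₁) F
  have s2 := isIso_Rs_alpha_iff f V ((Scheme.Modules.pushforward V.ι).map e.hom)
    (inferInstance) F
  have s3 := isIso_Rs_alpha_iff f V ((Scheme.Modules.restrictAdjunction V.ι).unit.app E₂)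
    (isIso_Rs_unit V E₂) F
  exact s3.2 (s2.1 (s1.1 h))

/-- **The projection morphism for a finite locally free module is an isomorphism.** -/
theorem isIso_alpha_of_isFinLocFree (E : Y.Modules) (hE : FlatMod.IsFinLocFree E) (F : X.Modules) :
    IsIso (alpha f E F) := by
  choose V n hV e using hE
  refine Groth.Agent.Lib.Helper23.ModLocal.isIso_of_isIso_restrict (alpha f E F)
    (fun y : Y => (↑(V y) : Scheme.{u})) (fun y => (V y).ι) (fun y => ⟨y, ⟨y, hV y⟩, rfl⟩) ?_
  intro y
  obtain ⟨ey⟩ := e y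
  haveI := isIso_alpha_free f (n y) F
  exact isIso_Rs_alpha_of_iso f (V y)
    (Groth.Agent.Lib.Helper20.LocFree.restrictFreeMod (V y).ι (n y) ≪≫ ey.symm) F inferInstance

end Groth.Agent.Lib.T2H5.ProjFLF
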