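import Mathlib
import Groth.Agent.Lib.Helper16DimShift
import Groth.Agent.Lib.Helper16ClosedEmb
import Groth.Agent.Lib.Helper23AffVanish1

/-!
# Degenerate Leray, vanishing form (helper5)

Namespace `Groth.Agent.Lib.T2H5.LerayVan`.

`subsingleton_HE_of_push`: for a continuous map `g : X ⟶ Y` and an abelian sheaf `G` on `X` with `R^{n+1} g_* G = 0` for all
`n`, vanishing of `H^{p+1}(V, g_* G)` implies vanishing of `H^{p+1}(g⁻¹ V, G)` (and conversely).
-/

set_option autoImplicit false
set_option linter.style.haveILetI false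
set_option linter.unusedSectionVars false
universe w v u
open CategoryTheory CategoryTheory.Limits Opposite TopologicalSpace Abelian

namespace Groth.Agent.Lib.T2H5.LerayVan

open Groth.Agent.Lib.Helper16.DimShift Groth.Agent.Lib.Helper23.AffVanish

section General

variable {𝒜 : Type u} [Category.{v} 𝒜] [Abelian 𝒜]

lemma subsingleton_Q_iff (D : Data 𝒜) (A : 𝒜) (p : ℕ) :
    Subsingleton (D.Q A p) ↔ ∀ φ : A ⟶ D.Z (p + 1), ∃ ψ : A ⟶ D.J p, ψ ≫ D.g p = φ := by
  constructor
  · intro h φ
    have h1 : (QuotientAddGroup.mk φ : D.Q A p) = 0 := Subsingleton.elim _ _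
    rw [QuotientAddGroup.eq_zero_iff] at h1
    obtain ⟨ψ, hψ⟩ := h1
    exact ⟨ψ, hψ⟩
  · intro h
    refine ⟨fun a b => ?_⟩
    induction a using QuotientAddGroup.induction_on with
    | H a =>
      induction b using QuotientAddGroup.induction_on with
      | H b =>
        rw [QuotientAddGroup.eq]
        obtain ⟨ψ, hψ⟩ := h (-a + b)
        exact ⟨ψ, hψ⟩

end General

lemma lift_iff_sect {T : TopCat.{u}} (U : Opens T) {A B : CohTop.Ab T} (φ : A ⟶ B) :
    (∀ φ' : ZU U ⟶ B, ∃ ψ : ZU U ⟶ A, ψ ≫ φ = φ') ↔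
      Function.Surjective (φ.hom.app (op U)).hom := by
  constructor
  · intro h s
    obtain ⟨ψ, hψ⟩ := h (CohFree.ofSect (J T) U B s)
    refine ⟨CohFree.evalGen (J T) U A ψ, ?_⟩
    have h3 : (φ.hom.app (op U)).hom (CohFree.evalGen (J T) U A ψ) =
        CohFree.evalGen (J T) U B (ψ ≫ φ) := rfl
    rw [h3, hψ, CohFree.evalGen_ofSect]
  · intro h φ'
    obtain ⟨t, ht⟩ := h (CohFree.evalGen (J T) U B φ')
    refine ⟨CohFree.ofSect (J T) U A t, ?_⟩
    rw [← CohFree.ofSect_evalGen (J T) U B φ', ← CohFree.ofSect_evalGen (J T) U B (_ ≫ φ)]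
    congr 1
    have h3 : CohFree.evalGen (J T) U B (CohFree.ofSect (J T) U A t ≫ φ) =
        (φ.hom.app (op U)).hom (CohFree.evalGen (J T) U A (CohFree.ofSect (J T) U A t)) := rfl
    rw [h3, CohFree.evalGen_ofSect, ht]

variable {X Y : TopCat.{u}} (g : X ⟶ Y)

attribute [local instance] Ext.subsingleton_of_injective in
theorem subsingleton_HE_iff_push (G : CohTop.Ab X)
    (hR : ∀ n : ℕ, IsZero ((CohTop.Rpush g (n + 1)).obj G)) (V : Opens Y) (p : ℕ) :
    Subsingleton (HE G (p + 1) ((Opens.map g).obj V)) ↔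
      Subsingleton (HE ((CohTop.push g).obj G) (p + 1) V) := by
  haveI := Groth.Agent.Lib.Helper16.ClosedEmb.push_preservesFiniteLimits g
  haveI := Groth.Agent.Lib.Helper16.ClosedEmb.push_preservesInjectiveObjects g
  let I : InjectiveResolution G := Classical.choice (HasInjectiveResolutions.out G).out
  have hepi : ∀ k, Epi ((CohTop.push g).map ((ofResolution I).g k)) :=
    fun k => epi_map_gg I (CohTop.push g) hR k
  set W : Opens X := (Opens.map g).obj V with hW
  have hJ : ∀ k q, Subsingleton (Ext.{u} (ZU W) ((ofResolution I).J k) (q + 1)) := by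
    intro k q
    haveI : Injective ((ofResolution I).J k) := inferInstanceAs (Injective (I.cocomplex.X k))
    infer_instance
  have hJ' : ∀ k q, Subsingleton
      (Ext.{u} (ZU V) (((ofResolution I).mapOfEpi (CohTop.push g) hepi).J k) (q + 1)) := by
    intro k q
    haveI : Injective ((ofResolution I).J k) := inferInstanceAs (Injective (I.cocomplex.X k))
    haveI : Injective (((ofResolution I).mapOfEpi (CohTop.push g) hepi).J k) :=
      inferInstanceAs (Injective ((CohTop.push g).obj ((ofResolution I).J k)))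
    infer_instance
  obtain ⟨e⟩ := ds.{u} (ZU W) p (ofResolution I) hJ
  obtain ⟨e'⟩ := ds.{u} (ZU V) p ((ofResolution I).mapOfEpi (CohTop.push g) hepi) hJ'
  have h1 : Subsingleton (HE G (p + 1) W) ↔ Subsingleton ((ofResolution I).Q (ZU W) p) :=
    ⟨fun h => @Equiv.subsingleton _ _ e.symm.toEquiv h, fun h => @Equiv.subsingleton _ _ e.toEquiv h⟩
  have h2 : Subsingleton (HE ((CohTop.push g).obj G) (p + 1) V) ↔
      Subsingleton (((ofResolution I).mapOfEpi (CohTop.push g) hepi).Q (ZU V) p) :=
    ⟨fun h => @Equiv.subsingleton _ _ e'.symm.toEquiv h, fun h => @Equiv.subsingleton _ _ e'.toEquiv h⟩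
  rw [h1, h2, subsingleton_Q_iff, subsingleton_Q_iff]
  have h3 := lift_iff_sect W ((ofResolution I).g p)
  have h4 := lift_iff_sect V ((CohTop.push g).map ((ofResolution I).g p))
  exact h3.trans h4.symm

end Groth.Agent.Lib.T2H5.LerayVan
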