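import Mathlib
import Groth.Agent.S0484
import Groth.Agent.Lib.Helper23ModAbBridge
import Groth.Agent.Lib.T2H5LerayVan
import Groth.Agent.Lib.T2H5ClosedLin

/-!
# T2H5RpushClosed: higher direct images of a direct image along a closed immersion (helper5)

* `isZero_Rpush_pushforward_injective`: direct images of injective modules are acyclic for every direct image functor;
* `nonempty_Rpush_comp_iso`: `R^p (i ≫ f)_* G ≅ R^p f_* (i_* G)` for a closed immersion `i`.
-/

set_option autoImplicit false
set_option linter.style.haveILetI false
set_option linter.unusedSectionVars false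
universe u
open CategoryTheory CategoryTheory.Limits Opposite TopologicalSpace AlgebraicGeometry Abelian

namespace Groth.Agent.Lib.T2H5.RpushClosed

open Groth.Agent.Lib.Helper23.AffVanish Groth.Agent.Lib.Helper23.ModAbBridge Groth.Agent.Lib.Helper21

theorem enoughInjectives_modules (X : Scheme.{u}) : EnoughInjectives X.Modules := by
  have := Groth.Agent.S0484.result (Opens.grothendieckTopology X) X.ringCatSheaf
  exact inferInstanceAs (EnoughInjectives (SheafOfModules.{u} X.ringCatSheaf))

theorem hasInjectiveResolutions_modules (X : Scheme.{u}) : HasInjectiveResolutions X.Modules := by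
  haveI := enoughInjectives_modules X
  infer_instance

/-- a module whose underlying abelian sheaf is zero is zero -/
theorem isZero_of_isZero_toAb {X : Scheme.{u}} (M : X.Modules) (h : IsZero (Coh.toAb M)) : IsZero M := by
  rw [IsZero.iff_id_eq_zero]
  apply (SheafOfModules.toSheaf X.ringCatSheaf).map_injective
  refine ((SheafOfModules.toSheaf X.ringCatSheaf).map_id M).trans ?_
  refine ((IsZero.iff_id_eq_zero _).1 h).trans ?_
  exact ((SheafOfModules.toSheaf X.ringCatSheaf).map_zero _ _).symm

variable {Z X S : Scheme.{u}} (i : Z ⟶ X) (f : X ⟶ S)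

/-- the underlying abelian sheaf of the direct image of an injective module is acyclic on every open -/
theorem subsingleton_HE_pushforward_injective (I : Z.Modules) [Injective I] (W : X.Opens) (k : ℕ) :
    Subsingleton (HE (Coh.toAb ((Scheme.Modules.pushforward i).obj I)) (k + 1) W) := by
  have h1 := (Groth.Agent.Lib.T2H5.LerayVan.subsingleton_HE_iff_push i.base (Coh.toAb I)
    (fun n => isZero_RpushAb_of_injective i I n) W k).1 (subsingleton_HE_of_injective I _ k)
  exact h1

/-- direct images of injective modules are acyclic for direct images -/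
theorem isZero_Rpush_pushforward_injective [HasInjectiveResolutions X.Modules] (I : Z.Modules) [Injective I]
    (q : ℕ) : IsZero ((Coh.Rpush f (q + 1)).obj ((Scheme.Modules.pushforward i).obj I)) := by
  apply isZero_of_isZero_toAb
  obtain ⟨e⟩ := nonempty_toAb_Rpush_iso f ((Scheme.Modules.pushforward i).obj I) (q + 1)
  refine IsZero.of_iso ?_ e
  refine isZero_Rpush_of_basis f.base Set.univ ?_ _ ?_ q
  · rw [Opens.isBasis_iff_nbhd]
    intro U x hx
    exact ⟨U, trivial, hx, le_rfl⟩
  · intro V _ k
    exact subsingleton_HE_pushforward_injective i I _ k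

/-- **Higher direct images of a direct image along a closed immersion.** -/
theorem nonempty_Rpush_comp_iso [IsClosedImmersion i] [HasInjectiveResolutions X.Modules]
    [HasInjectiveResolutions Z.Modules] (G : Z.Modules) (p : ℕ) :
    Nonempty ((Coh.Rpush (i ≫ f) p).obj G ≅
      (Coh.Rpush f p).obj ((Scheme.Modules.pushforward i).obj G)) := by
  haveI := enoughInjectives_modules X
  haveI := enoughInjectives_modules Z
  haveI : (Scheme.Modules.pushforward i).Additive :=
    (Scheme.Modules.pullbackPushforwardAdjunction i).right_adjoint_additive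
  haveI : PreservesLimitsOfSize.{0, 0} (Scheme.Modules.pushforward i) :=
    (Scheme.Modules.pullbackPushforwardAdjunction i).rightAdjoint_preservesLimits
  haveI : PreservesFiniteLimits (Scheme.Modules.pushforward i) :=
    PreservesLimitsOfSize.preservesFiniteLimits _
  haveI : (Scheme.Modules.pushforward i).PreservesEpimorphisms :=
    ⟨fun g _ => Groth.Agent.Lib.T2H5.ClosedLin.epi_pushforward_map i g⟩
  haveI : (Scheme.Modules.pushforward i).PreservesHomology :=
    Functor.preservesHomology_of_preservesEpis_and_kernels _
  haveI : (Scheme.Modules.pushforward f).Additive :=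
    (Scheme.Modules.pullbackPushforwardAdjunction f).right_adjoint_additive
  haveI : PreservesLimitsOfSize.{0, 0} (Scheme.Modules.pushforward f) :=
    (Scheme.Modules.pullbackPushforwardAdjunction f).rightAdjoint_preservesLimits
  haveI : PreservesFiniteLimits (Scheme.Modules.pushforward f) :=
    PreservesLimitsOfSize.preservesFiniteLimits _
  have hE : ∀ I : Z.Modules, Injective I → ∀ q : ℕ, 0 < q →
      IsZero (((Scheme.Modules.pushforward f).rightDerived q).obj
        ((Scheme.Modules.pushforward i).obj I)) := by
    intro I hI q hq
    obtain ⟨q, rfl⟩ : ∃ k, q = k + 1 := ⟨q - 1, by omega⟩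
    exact @isZero_Rpush_pushforward_injective _ _ _ i f _ I hI q
  obtain ⟨e3⟩ := DerAcyc.nonempty_rightDerived_comp_iso (Scheme.Modules.pushforward i)
    (Scheme.Modules.pushforward f) hE G p
  haveI : (Scheme.Modules.pushforward (i ≫ f)).Additive :=
    (Scheme.Modules.pullbackPushforwardAdjunction (i ≫ f)).right_adjoint_additive
  let e2 := (DerPost.natIsoRightDerived (Scheme.Modules.pushforwardComp i f) p).app G
  exact ⟨e2.symm ≪≫ e3⟩

end Groth.Agent.Lib.T2H5.RpushClosed
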