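import Mathlib
import Groth.Agent.Lib.T2H5ProjFLF4
import Groth.Agent.Lib.T2H5DerEndo
import Groth.Agent.Lib.T2H5RpushClosed
import Groth.Agent.Lib.Helper23RestrTensor
import Groth.Agent.Lib.Helper23PB
import Groth.Agent.Lib.Helper1Sky9
import Groth.Agent.Lib.Helper21ModTensor7
set_option backward.isDefEq.respectTransparency.types false

/-!
# T2H5ProjFLF5: the projection formula for higher direct images and finite locally free modules (helper5)
-/

set_option autoImplicit false
set_option linter.style.haveILetI false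
set_option linter.unusedSectionVars false
universe u
open CategoryTheory CategoryTheory.Limits AlgebraicGeometry TopologicalSpace Opposite
  MonoidalCategory TensorProduct

namespace Groth.Agent.Lib.T2H5.ProjFLF

open Groth.Agent.Lib.Helper1.PT Groth.Agent.Lib.Helper1.Sky Groth.Agent.Lib.Helper1.StalkTensor
  Groth.Agent.Lib.Helper21.ModTensor2 Groth.Agent.Lib.Helper21.ModTensor3
  Groth.Agent.Lib.Helper21.ModTensor5 Groth.Agent.Lib.Helper21.ModTensor7
  Groth.Agent.Lib.Helper23.PB Groth.Agent.Lib.Helper23.RestrTensor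

section Exact

variable {Z : Scheme.{u}} (L : Z.Modules)

/-- tensoring with a finite locally free module is left exact -/
theorem preservesFiniteLimits_tensorBi_obj (hL : FlatMod.IsFinLocFree L) :
    PreservesFiniteLimits (DCoh.tensorBi.obj L) := by
  have h1 : ModSite.IsFlat (O := Z.sheaf) L :=
    modSite_isFlat_of_isFlat L (isFlat_of_isFinLocFree' L hL)
  have h2 : PreservesFiniteLimits (tR Z.sheaf L) := h1.1
  have e : tR Z.sheaf L ≅ tL Z.sheaf L := ((brd Z.sheaf).app L).symm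
  exact @preservesFiniteLimits_of_natIso _ _ _ _ _ _ e h2

/-- tensoring is right exact -/
theorem preservesFiniteColimits_tensorBi_obj : PreservesFiniteColimits (DCoh.tensorBi.obj L) :=
  tL_preservesFiniteColimits Z.sheaf L

end Exact

/-- the pullback of a free module is free -/
noncomputable def pullbackFreeMod {X Y : Scheme.{u}} (g : X ⟶ Y) (n : ℕ) :
    (plb g).obj (FlatMod.freeMod Y n) ≅ FlatMod.freeMod X n :=
  haveI : PreservesColimitsOfSize.{0, 0} (plb g) := (ppAdj g).leftAdjoint_preservesColimits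
  PreservesCoproduct.iso (plb g) (fun _ : Fin n => Coh.structureModule Y) ≪≫
    Sigma.mapIso (fun _ => pullbackUnitIso g)

/-- an additive functor killing `I` kills `O^n ⊗ I` -/
theorem isZero_obj_tensor_free {Z : Scheme.{u}} {D : Type*} [Category D] [Preadditive D]
    (Φ : Z.Modules ⥤ D) [Φ.Additive] (n : ℕ) (I : Z.Modules) (h : IsZero (Φ.obj I)) :
    IsZero (Φ.obj (tens (FlatMod.freeMod Z n) I)) := by
  have h0 : IsZero ((DCoh.tensorBi.flip.obj I ⋙ Φ).obj (Coh.structureModule Z)) :=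
    IsZero.of_iso h (Φ.mapIso ((tLUnitIso Z.sheaf).app I))
  exact isZero_obj_of_sum_retract (DCoh.tensorBi.flip.obj I ⋙ Φ) (Coh.structureModule Z)
    (FlatMod.freeMod Z n) (Groth.Agent.Lib.Helper21.RetractFree.ι Z n)
    (Groth.Agent.Lib.Helper21.RetractFree.π Z n) (Groth.Agent.Lib.Helper21.RetractFree.sum_π_ι Z n) h0

variable {X Y : Scheme.{u}} (f : X ⟶ Y)

open Groth.Agent.Lib.T2H5.RpushClosed in
/-- `f^* E ⊗ I` is acyclic for the direct image, for `E` finite locally free and `I` injective -/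
theorem isZero_Rpush_tensor_pullback [HasInjectiveResolutions X.Modules] (E : Y.Modules)
    (hE : FlatMod.IsFinLocFree E) (I : X.Modules) (hI : Injective I) (q : ℕ) (hq : 0 < q) :
    IsZero ((Coh.Rpush f q).obj (tens ((plb f).obj E) I)) := by
  choose V n hV e using hE
  refine Groth.Agent.Lib.Helper23.ModLocal.isZero_of_isZero_restrict
    (fun y : Y => (↑(V y) : Scheme.{u})) (fun y => (V y).ι) (fun y => ⟨y, ⟨y, hV y⟩, rfl⟩) ?_
  intro y
  obtain ⟨ey⟩ := e y
  apply isZero_of_isZero_toAb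
  obtain ⟨Ξ, -⟩ := RpushRestr.exists_iso_restrict f (V y) (tens ((plb f).obj E) I) q
  refine IsZero.of_iso ?_ Ξ
  let Φ : (↑(f ⁻¹ᵁ V y) : Scheme.{u}).Modules ⥤
      Sheaf (Opens.grothendieckTopology (↑(V y) : Scheme.{u})) AddCommGrpCat.{u} :=
    SheafOfModules.toSheaf.{u} (↑(f ⁻¹ᵁ V y) : Scheme.{u}).ringCatSheaf ⋙ Coh.RpushAb (f ∣_ V y) q
  let i1 : (tens ((plb f).obj E) I).restrict (f ⁻¹ᵁ V y).ι ≅
      tens (((plb f).obj E).restrict (f ⁻¹ᵁ V y).ι) (I.restrict (f ⁻¹ᵁ V y).ι) :=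
    restrictTensorIso _ _ (f ⁻¹ᵁ V y).ι
  let i2 : ((plb f).obj E).restrict (f ⁻¹ᵁ V y).ι ≅ FlatMod.freeMod (↑(f ⁻¹ᵁ V y) : Scheme.{u}) (n y) :=
    (kappa f (V y)).app E ≪≫ (plb (f ∣_ V y)).mapIso ey ≪≫ pullbackFreeMod (f ∣_ V y) (n y)
  let i3 : tens (((plb f).obj E).restrict (f ⁻¹ᵁ V y).ι) (I.restrict (f ⁻¹ᵁ V y).ι) ≅
      tens (FlatMod.freeMod (↑(f ⁻¹ᵁ V y) : Scheme.{u}) (n y)) (I.restrict (f ⁻¹ᵁ V y).ι) :=
    (DCoh.tensorBi.mapIso i2).app _
  haveI : Φ.Additive := inferInstanceAs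
    (SheafOfModules.toSheaf.{u} (↑(f ⁻¹ᵁ V y) : Scheme.{u}).ringCatSheaf ⋙
      Coh.RpushAb (f ∣_ V y) q).Additive
  have hz : IsZero (Φ.obj (tens (FlatMod.freeMod (↑(f ⁻¹ᵁ V y) : Scheme.{u}) (n y))
      (I.restrict (f ⁻¹ᵁ V y).ι))) :=
    isZero_obj_tensor_free Φ (n y) _ (RpushRestr.hE f (V y) I hI q hq)
  exact IsZero.of_iso hz (Φ.mapIso (i1 ≪≫ i3))

open Groth.Agent.Lib.T2H5.RpushClosed in
/-- **Projection formula** for higher direct images and finite locally free modules. -/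
theorem nonempty_projection_iso [HasInjectiveResolutions X.Modules] (F : X.Modules) (E : Y.Modules)
    (hE : FlatMod.IsFinLocFree E) (q : ℕ) :
    Nonempty (tens E ((Coh.Rpush f q).obj F) ≅ (Coh.Rpush f q).obj (tens ((plb f).obj E) F)) := by
  haveI := enoughInjectives_modules X
  have hL : FlatMod.IsFinLocFree ((plb f).obj E) := isFinLocFree_pullback f E hE
  haveI := preservesFiniteLimits_tensorBi_obj E hE
  haveI := preservesFiniteColimits_tensorBi_obj E
  haveI := preservesFiniteLimits_tensorBi_obj _ hL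
  haveI := preservesFiniteColimits_tensorBi_obj ((plb f).obj E)
  haveI : (DCoh.tensorBi.obj E).PreservesHomology := inferInstance
  haveI : (DCoh.tensorBi.obj ((plb f).obj E)).PreservesHomology := inferInstance
  haveI : PreservesLimitsOfSize.{0, 0} (psh f) := (ppAdj f).rightAdjoint_preservesLimits
  haveI : PreservesFiniteLimits (psh f) := PreservesLimitsOfSize.preservesFiniteLimits _
  let θ : psh f ⋙ DCoh.tensorBi.obj E ≅ DCoh.tensorBi.obj ((plb f).obj E) ⋙ psh f :=
    NatIso.ofComponents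
      (fun F => @asIso _ _ _ _ (alpha f E F) (isIso_alpha_of_isFinLocFree f E hE F))
      (fun φ => alpha_naturality_right f E φ)
  exact ⟨DerEndo.bridge (psh f) (DCoh.tensorBi.obj E) (DCoh.tensorBi.obj ((plb f).obj E)) (psh f) θ
    (fun I hI q hq => isZero_Rpush_tensor_pullback f E hE I hI q hq) F q⟩

end Groth.Agent.Lib.T2H5.ProjFLF
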