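import Mathlib
import Groth.Prelude.Def_CohPull
import Groth.Agent.Lib.Helper9ExtNat
import Groth.Agent.Lib.Helper9DimShiftBij
import Groth.Agent.Lib.Helper16ClosedEmb
import Groth.Agent.Lib.Helper23ModAbBridge
import Groth.Agent.S0028

/-!
# The edge map `H^p(Y, f_* G) → H^p(X, G)` is bijective when the higher direct images vanish (helper5)

Namespace `Groth.Agent.Lib.T2H5.PushEdge`.
-/

set_option autoImplicit false
set_option linter.style.haveILetI false
set_option linter.unusedSectionVars false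
universe u
open CategoryTheory CategoryTheory.Limits Opposite TopologicalSpace AlgebraicGeometry Abelian

namespace Groth.Agent.Lib.T2H5.PushEdge

open CohPull Groth.Agent.Lib.Helper16.ExtCompare Groth.Agent.Lib.Helper9.ExtNat
open Groth.Agent.Lib.Helper16.DimShift

section Top

variable {X Y : TopCat.{u}} (g : X ⟶ Y)

/-- the edge map for abelian sheaves -/
noncomputable def edgeAb (G : CohTop.Ab X) (n : ℕ) :
    Sheaf.H ((CohTop.push g).obj G) n →+ Sheaf.H G n :=
  (Sheaf.H.map ((invPushAdj g).counit.app G) n).comp (pullAb g ((CohTop.push g).obj G) n)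

lemma edgeAb_apply (G : CohTop.Ab X) (n : ℕ) (x : Sheaf.H ((CohTop.push g).obj G) n) :
    edgeAb g G n x =
      (cmp (inv g) (oneTo g) ((CohTop.push g).obj G) n x).comp
        (Ext.mk₀ ((invPushAdj g).counit.app G)) (add_zero n) := rfl

lemma cmp_comp_extClass' {S : ShortComplex (CohTop.Ab Y)} (hS : S.ShortExact)
    (n : ℕ) (x : Ext.{u} (CohTop.const Y (ULift.{u} ℤ)) S.X₃ n) :
    cmp (inv g) (oneTo g) S.X₁ (n + 1) (x.comp hS.extClass rfl) =
      (cmp (inv g) (oneTo g) S.X₃ n x).comp (hS.map_of_exact (inv g)).extClass rfl := by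
  rw [cmp_apply, cmp_apply, mapExactFunctor_comp_extClass (inv g) hS x]
  exact (Ext.comp_assoc _ _ _ _ _ (by omega)).symm

lemma edgeAb_nat {M N : CohTop.Ab X} (φ : M ⟶ N) (n : ℕ)
    (x : Ext.{u} (CohTop.const Y (ULift.{u} ℤ)) ((CohTop.push g).obj M) n) :
    edgeAb g N n (x.comp (Ext.mk₀ ((CohTop.push g).map φ)) (add_zero n)) =
      (edgeAb g M n x).comp (Ext.mk₀ φ) (add_zero n) := by
  rw [edgeAb_apply, edgeAb_apply, cmp_postcomp, Ext.comp_assoc_of_third_deg_zero,
    Ext.comp_assoc_of_third_deg_zero, Ext.mk₀_comp_mk₀, Ext.mk₀_comp_mk₀]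
  congr 2
  exact (invPushAdj g).counit.naturality φ

lemma edgeAb_δ (S : ShortComplex (CohTop.Ab X)) (hS : S.ShortExact)
    (hS' : (S.map (CohTop.push g)).ShortExact) (n : ℕ)
    (x : Ext.{u} (CohTop.const Y (ULift.{u} ℤ)) ((CohTop.push g).obj S.X₃) n) :
    edgeAb g S.X₁ (n + 1) (x.comp hS'.extClass rfl) =
      (edgeAb g S.X₃ n x).comp hS.extClass rfl := by
  have h1 := cmp_comp_extClass' g hS' n x
  let φ : (S.map (CohTop.push g)).map (inv g) ⟶ S :=
    { τ₁ := (invPushAdj g).counit.app S.X₁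
      τ₂ := (invPushAdj g).counit.app S.X₂
      τ₃ := (invPushAdj g).counit.app S.X₃
      comm₁₂ := ((invPushAdj g).counit.naturality S.f).symm
      comm₂₃ := ((invPushAdj g).counit.naturality S.g).symm }
  have h2 := ShortComplex.ShortExact.extClass_naturality (hS'.map_of_exact (inv g)) hS φ
  refine (edgeAb_apply g S.X₁ (n + 1) _).trans ?_
  refine Eq.trans ?_ (congrArg (fun t => t.comp hS.extClass rfl) (edgeAb_apply g S.X₃ n x)).symm
  refine (congrArg (fun t => t.comp (Ext.mk₀ ((invPushAdj g).counit.app S.X₁))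
    (add_zero (n + 1))) h1).trans ?_
  refine (Ext.comp_assoc_of_third_deg_zero _ _ _ _).trans ?_
  refine (congrArg (fun t => (cmp (inv g) (oneTo g)
    ((CohTop.push g).obj S.X₃) n x).comp t rfl) h2).trans ?_
  exact (Ext.comp_assoc_of_second_deg_zero _ _ _ _).symm

lemma edgeAb_mk₀ (M : CohTop.Ab X) (φ : CohTop.const Y (ULift.{u} ℤ) ⟶ (CohTop.push g).obj M) :
    edgeAb g M 0 (Ext.mk₀ φ) =
      Ext.mk₀ (oneTo g ≫ ((invPushAdj g).homEquiv _ _).symm φ) := by
  rw [edgeAb_apply, cmp_mk₀, Ext.mk₀_comp_mk₀, Adjunction.homEquiv_counit, Category.assoc]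

lemma homEquiv_oneTo_comp (M : CohTop.Ab X) (φ : CohTop.const Y (ULift.{u} ℤ) ⟶ (CohTop.push g).obj M) :
    (adjZ X).homEquiv _ _ (oneTo g ≫ ((invPushAdj g).homEquiv _ _).symm φ) =
      (adjZ Y).homEquiv _ _ φ := by
  have h0 := (adjZ X).homEquiv_naturality_right (oneTo g) (((invPushAdj g).homEquiv _ _).symm φ)
  have h1 : (adjZ X).homEquiv _ _ (oneTo g) =
      oneSec Y ≫ ((invPushAdj g).unit.app (CohTop.const Y (ULift.{u} ℤ))).hom.app (op ⊤) :=
    ((adjZ X).homEquiv _ _).apply_symm_apply _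
  have h2 : (adjZ Y).homEquiv _ _ φ = oneSec Y ≫
      ((sheafSections (Opens.grothendieckTopology Y) AddCommGrpCat.{u}).obj (op ⊤)).map φ := by
    have := (adjZ Y).homEquiv_naturality_right (𝟙 (CohTop.const Y (ULift.{u} ℤ))) φ
    rw [Category.id_comp] at this
    exact this
  have h3 : (invPushAdj g).unit.app (CohTop.const Y (ULift.{u} ℤ)) ≫
      (CohTop.push g).map (((invPushAdj g).homEquiv _ _).symm φ) = φ :=
    ((invPushAdj g).homEquiv_unit _ _ (((invPushAdj g).homEquiv _ _).symm φ)).symm.trans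
      (Equiv.apply_symm_apply _ φ)
  have h4 : (((invPushAdj g).unit.app (CohTop.const Y (ULift.{u} ℤ))).hom.app (op ⊤) ≫
      ((CohTop.push g).map (((invPushAdj g).homEquiv _ _).symm φ)).hom.app (op ⊤) :
        (CohTop.const Y (ULift.{u} ℤ)).obj.obj (op ⊤) ⟶ ((CohTop.push g).obj M).obj.obj (op ⊤)) =
      φ.hom.app (op ⊤) :=
    congrArg (fun ψ : CohTop.const Y (ULift.{u} ℤ) ⟶ (CohTop.push g).obj M => ψ.hom.app (op ⊤)) h3
  rw [h0, h1, h2]
  refine Eq.trans ?_ (congrArg (fun t => oneSec Y ≫ t) h4)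
  exact Category.assoc _ _ _

lemma edgeAb_zero_bijective (M : CohTop.Ab X) : Function.Bijective (edgeAb g M 0) := by
  let k : (CohTop.const Y (ULift.{u} ℤ) ⟶ (CohTop.push g).obj M) → (CohTop.const X (ULift.{u} ℤ) ⟶ M) :=
    fun φ => oneTo g ≫ ((invPushAdj g).homEquiv _ _).symm φ
  have hk : Function.Bijective k := by
    have h1 : (fun φ => (adjZ X).homEquiv _ _ (k φ)) = fun φ => (adjZ Y).homEquiv _ _ φ :=
      funext (homEquiv_oneTo_comp g M)
    have h2 : Function.Bijective (fun φ => (adjZ X).homEquiv _ _ (k φ)) := by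
      rw [h1]
      exact ((adjZ Y).homEquiv _ _).bijective
    exact (Function.Bijective.of_comp_iff' ((adjZ X).homEquiv _ _).bijective k).1 h2
  have h2 : (edgeAb g M 0) ∘ (Ext.mk₀ : _ → Ext.{u} _ _ 0) = Ext.mk₀ ∘ k :=
    funext (edgeAb_mk₀ g M)
  have h3 : Function.Bijective ((edgeAb g M 0) ∘ (Ext.mk₀ : _ → Ext.{u} _ _ 0)) := by
    rw [h2]
    exact (Ext.mk₀_bijective _ _).comp hk
  exact (Function.Bijective.of_comp_iff _ (Ext.mk₀_bijective _ _)).1 h3

/-- degenerate Leray: if `R^q g_* F = 0` for `q > 0` then `H^p(Y, g_* F) ≃ H^p(X, F)` via the edge map -/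
theorem edgeAb_bijective (F : CohTop.Ab X)
    (hR : ∀ q : ℕ, IsZero ((CohTop.Rpush g (q + 1)).obj F)) (p : ℕ) :
    Function.Bijective (edgeAb g F p) := by
  haveI := Groth.Agent.Lib.Helper16.ClosedEmb.push_preservesFiniteLimits g
  haveI := Groth.Agent.Lib.Helper16.ClosedEmb.push_preservesInjectiveObjects g
  let I : InjectiveResolution F := Classical.choice (HasInjectiveResolutions.out F).out
  have hepi : ∀ k, Epi ((CohTop.push g).map ((ofResolution I).g k)) :=
    epi_map_gg I (CohTop.push g) hR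
  have hinj : ∀ k, Injective ((ofResolution I).J k) := fun k => I.injective k
  have hJ : ∀ k q, Subsingleton (Ext.{u} (CohTop.const X (ULift.{u} ℤ)) ((ofResolution I).J k) (q + 1)) :=
    fun k q => by
      haveI := hinj k
      exact Ext.subsingleton_of_injective _ _ q
  have hJ' : ∀ k q, Subsingleton
      (Ext.{u} (CohTop.const Y (ULift.{u} ℤ)) ((CohTop.push g).obj ((ofResolution I).J k)) (q + 1)) :=
    fun k q => by
      haveI := hinj k
      haveI : Injective ((CohTop.push g).obj ((ofResolution I).J k)) := inferInstance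
      exact Ext.subsingleton_of_injective _ _ q
  exact Groth.Agent.Lib.Helper9.DimShiftBij.bijective_of_dimShift (CohTop.push g)
    (CohTop.const X (ULift.{u} ℤ)) (CohTop.const Y (ULift.{u} ℤ)) (fun M n => edgeAb g M n)
    (fun φ n x => edgeAb_nat g φ n x) (fun S hS hS' n x => edgeAb_δ g S hS hS' n x)
    (edgeAb_zero_bijective g) p (ofResolution I) hepi hJ hJ'

end Top

section Sch

variable {X Y : Scheme.{u}} (f : X ⟶ Y)

lemma theta_comp_counit (G : X.Modules) :
    theta f ((Scheme.Modules.pushforward f).obj G) ≫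
      (SheafOfModules.toSheaf X.ringCatSheaf).map
        ((Scheme.Modules.pullbackPushforwardAdjunction f).counit.app G) =
      (invPushAdj f.base).counit.app (Coh.toAb G) := by
  have h2 := (Scheme.Modules.pullbackPushforwardAdjunction f).right_triangle_components G
  have h1 : (SheafOfModules.toSheaf Y.ringCatSheaf).map
      ((Scheme.Modules.pullbackPushforwardAdjunction f).unit.app ((Scheme.Modules.pushforward f).obj G)) ≫
      (CohTop.push f.base).map ((SheafOfModules.toSheaf X.ringCatSheaf).map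
        ((Scheme.Modules.pullbackPushforwardAdjunction f).counit.app G)) =
      𝟙 ((CohTop.push f.base).obj (Coh.toAb G)) := by
    have h3 : (SheafOfModules.toSheaf Y.ringCatSheaf).map
        ((Scheme.Modules.pullbackPushforwardAdjunction f).unit.app ((Scheme.Modules.pushforward f).obj G)) ≫
        (SheafOfModules.toSheaf Y.ringCatSheaf).map ((Scheme.Modules.pushforward f).map
          ((Scheme.Modules.pullbackPushforwardAdjunction f).counit.app G)) =
        𝟙 ((SheafOfModules.toSheaf Y.ringCatSheaf).obj ((Scheme.Modules.pushforward f).obj G)) := by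
      refine ((SheafOfModules.toSheaf Y.ringCatSheaf).map_comp _ _).symm.trans ?_
      exact (congrArg (fun ψ => (SheafOfModules.toSheaf Y.ringCatSheaf).map ψ) h2).trans
        ((SheafOfModules.toSheaf Y.ringCatSheaf).map_id _)
    exact h3
  have e1 := (invPushAdj f.base).homEquiv_naturality_right_symm
    ((SheafOfModules.toSheaf Y.ringCatSheaf).map
      ((Scheme.Modules.pullbackPushforwardAdjunction f).unit.app ((Scheme.Modules.pushforward f).obj G)))
    ((SheafOfModules.toSheaf X.ringCatSheaf).map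
      ((Scheme.Modules.pullbackPushforwardAdjunction f).counit.app G))
  have e2 : ((invPushAdj f.base).homEquiv _ _).symm (𝟙 ((CohTop.push f.base).obj (Coh.toAb G))) =
      (invPushAdj f.base).counit.app (Coh.toAb G) := by
    refine ((invPushAdj f.base).homEquiv_counit _ _ _).trans ?_
    exact (congrArg (fun t => t ≫ (invPushAdj f.base).counit.app (Coh.toAb G))
      ((CohPull.inv f.base).map_id _)).trans (Category.id_comp _)
  refine Eq.trans ?_ e2
  refine e1.symm.trans ?_
  exact congrArg (fun t => ((invPushAdj f.base).homEquiv _ _).symm t) h1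

lemma H_map_comp {T : TopCat.{u}} {A B C : CohTop.Ab T} (a : A ⟶ B) (b : B ⟶ C) (p : ℕ) (x : Sheaf.H A p) :
    Sheaf.H.map b p (Sheaf.H.map a p x) = Sheaf.H.map (a ≫ b) p x := by
  change (x.comp (Ext.mk₀ a) (add_zero p)).comp (Ext.mk₀ b) (add_zero p) = x.comp (Ext.mk₀ (a ≫ b)) (add_zero p)
  rw [Ext.comp_assoc_of_third_deg_zero, Ext.mk₀_comp_mk₀]

lemma pushEdge_eq (G : X.Modules) (p : ℕ) : CohPull.pushEdge f G p = edgeAb f.base (Coh.toAb G) p := by
  ext x
  change Sheaf.H.map _ p (Sheaf.H.map (theta f ((Scheme.Modules.pushforward f).obj G)) p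
    (pullAb f.base (Coh.toAb ((Scheme.Modules.pushforward f).obj G)) p x)) =
    Sheaf.H.map ((invPushAdj f.base).counit.app (Coh.toAb G)) p
      (pullAb f.base ((CohTop.push f.base).obj (Coh.toAb G)) p x)
  rw [H_map_comp, theta_comp_counit]
  rfl

theorem pushEdge_bijective_of_RpushAb (G : X.Modules)
    (hG : ∀ q : ℕ, IsZero ((Coh.RpushAb f (q + 1)).obj (Coh.toAb G))) (p : ℕ) :
    Function.Bijective (CohPull.pushEdge f G p) := by
  rw [pushEdge_eq]
  exact edgeAb_bijective f.base (Coh.toAb G) hG p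

theorem pushEdge_bijective_of_Rpush [HasInjectiveResolutions X.Modules] (G : X.Modules)
    (hG : ∀ q : ℕ, 0 < q → IsZero ((Coh.Rpush f q).obj G)) (p : ℕ) :
    Function.Bijective (CohPull.pushEdge f G p) := by
  apply pushEdge_bijective_of_RpushAb
  intro q
  obtain ⟨e⟩ := Groth.Agent.Lib.Helper23.ModAbBridge.nonempty_toAb_Rpush_iso f G (q + 1)
  have hz : IsZero (Coh.toAb ((Coh.Rpush f (q + 1)).obj G)) :=
    (SheafOfModules.toSheaf Y.ringCatSheaf).map_isZero (hG (q + 1) (Nat.succ_pos q))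
  exact hz.of_iso e.symm

theorem pushEdge_bijective_of_isAffineHom [IsAffineHom f] (F : X.Modules) [F.IsQuasicoherent] (p : ℕ) :
    Function.Bijective (CohPull.pushEdge f F p) := by
  apply pushEdge_bijective_of_RpushAb
  intro q
  exact Groth.Agent.S0028.result f F (q + 1) (Nat.succ_pos q)

end Sch

end Groth.Agent.Lib.T2H5.PushEdge
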