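import Mathlib
import Groth.Agent.Lib.T2H5ProjFLF5
import Groth.Agent.Lib.T2H5PushEdge
import Groth.Agent.Lib.Helper18PBUnit2
set_option backward.isDefEq.respectTransparency.types false

/-!
# T2H5ProjFLF6: cohomology of the pullback of an invertible module when `Rf_* O_X = O_Y` (helper5)
-/

set_option autoImplicit false
set_option linter.style.haveILetI false
set_option linter.unusedSectionVars false
universe u
open CategoryTheory CategoryTheory.Limits AlgebraicGeometry TopologicalSpace Opposite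
  MonoidalCategory TensorProduct

namespace Groth.Agent.Lib.T2H5.ProjFLF

open Groth.Agent.Lib.Helper1.PT Groth.Agent.Lib.Helper1.Sky Groth.Agent.Lib.Helper1.StalkTensor
  Groth.Agent.Lib.Helper21.ModTensor2 Groth.Agent.Lib.Helper21.ModTensor3
  Groth.Agent.Lib.Helper21.ModTensor5 Groth.Agent.Lib.Helper21.ModTensor7

lemma H_map_hom_inv {T : TopCat.{u}} {A B : Sheaf (Opens.grothendieckTopology T) AddCommGrpCat.{u}}
    (e : A ≅ B) (p : ℕ) (x : Sheaf.H A p) : Sheaf.H.map e.inv p (Sheaf.H.map e.hom p x) = x := by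
  rw [← Sheaf.H.map_comp_apply, e.hom_inv_id, Sheaf.H.map_id_apply]

/-- cohomology of isomorphic modules -/
noncomputable def hhIso {X : Scheme.{u}} {M N : X.Modules} (e : M ≅ N) (p : ℕ) :
    Coh.HH X M p ≃+ Coh.HH X N p where
  toFun := CohPull.mapH e.hom p
  invFun := CohPull.mapH e.inv p
  left_inv x := H_map_hom_inv ((SheafOfModules.toSheaf X.ringCatSheaf).mapIso e) p x
  right_inv x := H_map_hom_inv ((SheafOfModules.toSheaf X.ringCatSheaf).mapIso e).symm p x
  map_add' := map_add _

/-- the right unit isomorphism of the tensor product -/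
noncomputable def tensUnitRight {Z : Scheme.{u}} (A : Z.Modules) :
    tens A (Coh.structureModule Z) ≅ A :=
  brdApp Z.sheaf A (Coh.structureModule Z) ≪≫ (tLUnitIso Z.sheaf).app A

variable {X Y : Scheme.{u}} (f : X ⟶ Y)

open Groth.Agent.Helper18PBUnit Groth.Agent.Lib.T2H5.PushEdge in
theorem cohomology_pullback_invertible [HasInjectiveResolutions X.Modules]
    (hR : ∀ i : ℕ, IsZero ((Coh.Rpush f (i + 1)).obj (Coh.structureModule X)))
    (h0 : Nonempty ((Coh.push f).obj (Coh.structureModule X) ≅ Coh.structureModule Y))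
    (L : Y.Modules) (hL : PicF.IsInvertible L) (p : ℕ) :
    Nonempty (Coh.HH X ((Scheme.Modules.pullback f).obj L) p ≃+ Coh.HH Y L p) := by
  obtain ⟨e0⟩ := h0
  have hLf : FlatMod.IsFinLocFree L := isFinLocFree_of_isInvertible hL
  have key : ∀ q : ℕ, Nonempty (tens L ((Coh.Rpush f q).obj (Coh.structureModule X)) ≅
      (Coh.Rpush f q).obj ((plb f).obj L)) := fun q => by
    obtain ⟨i⟩ := nonempty_projection_iso f (Coh.structureModule X) L hLf q
    exact ⟨i ≪≫ (Coh.Rpush f q).mapIso (tensUnitRight ((plb f).obj L))⟩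
  have hvan : ∀ q : ℕ, 0 < q → IsZero ((Coh.Rpush f q).obj ((plb f).obj L)) := by
    intro q hq
    obtain ⟨q, rfl⟩ := Nat.exists_eq_succ_of_ne_zero hq.ne'
    obtain ⟨i⟩ := key (q + 1)
    exact IsZero.of_iso ((DCoh.tensorBi.obj L).map_isZero (hR q)) i.symm
  have hb := pushEdge_bijective_of_Rpush f ((plb f).obj L) hvan p
  haveI : PreservesLimitsOfSize.{0, 0} (psh f) := (ppAdj f).rightAdjoint_preservesLimits
  haveI : PreservesFiniteLimits (psh f) := PreservesLimitsOfSize.preservesFiniteLimits _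
  let z : Coh.Rpush f 0 ≅ psh f := Functor.rightDerivedZeroIsoSelf (psh f)
  obtain ⟨i0⟩ := key 0
  let eL : (psh f).obj ((plb f).obj L) ≅ L :=
    (z.app ((plb f).obj L)).symm ≪≫ i0.symm ≪≫
      (DCoh.tensorBi.obj L).mapIso (z.app (Coh.structureModule X) ≪≫ e0) ≪≫ tensUnitRight L
  exact ⟨(AddEquiv.ofBijective (CohPull.pushEdge f ((plb f).obj L) p) hb).symm.trans (hhIso eL p)⟩

end Groth.Agent.Lib.T2H5.ProjFLF
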