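import Mathlib
import Groth.Prelude.Def_LocCohZ
import Groth.Agent.Lib.Helper16Flasque
import Groth.Agent.Lib.Helper16ClosedEmb
import Groth.Agent.Lib.Helper23AffVanish1
import Groth.Agent.Lib.Helper23PushAcyclic

/-!
# T2H5PushSingle: vanishing of one higher direct image from vanishing of the cohomology, in the
same degree, of the preimages of a basis (helper5)
-/

set_option autoImplicit false
set_option linter.style.haveILetI false
set_option linter.unusedSectionVars false
universe v v' u u'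
open CategoryTheory CategoryTheory.Limits Opposite TopologicalSpace Abelian

namespace Groth.Agent.Lib.T2H5.PushSingle

open Groth.Agent.Lib.Helper16.Flasque

section RD

variable {𝒜 : Type u} [Category.{v} 𝒜] [Abelian 𝒜]
variable [EnoughInjectives 𝒜] {ℬ : Type u'} [Category.{v'} ℬ] [Abelian ℬ]

/-- Dimension shifting for right derived functors, one degree at a time. -/
theorem rightDerived_vanish_single (G : 𝒜 ⥤ ℬ) [G.Additive] [PreservesFiniteLimits G]
    (P : ℕ → 𝒜 → Prop)
    (hinj : ∀ (k : ℕ) (I : 𝒜), Injective I → P k I)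
    (h23 : ∀ (k : ℕ) (S : ShortComplex 𝒜), S.ShortExact → P (k + 1) S.X₁ → P k S.X₂ → P k S.X₃)
    (hepi : ∀ S : ShortComplex 𝒜, S.ShortExact → P 0 S.X₁ → Epi (G.map S.g))
    (F : 𝒜) (n : ℕ) (hF : P n F) : IsZero ((G.rightDerived (n + 1)).obj F) := by
  let I : InjectiveResolution F := Classical.choice (HasInjectiveResolution.out)
  refine IsZero.of_iso ?_ (I.isoRightDerivedObj G (n + 1))
  set K := I.cocomplex with hK
  have hS' := shortExact_lift (I.ι.f 0) (K.d 0 1) (K.d 1 2) I.ι_f_zero_comp_complex_d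
    (K.d_comp_d 0 1 2) I.exact₀ (I.exact_succ 0)
  have hS : ∀ k : ℕ, (ShortComplex.mk (kernel.ι (K.d (k + 1) (k + 2)))
      (kernel.lift (K.d (k + 2) (k + 3)) (K.d (k + 1) (k + 2)) (K.d_comp_d _ _ _)) (by
        apply (cancel_mono (kernel.ι _)).1
        rw [Category.assoc, kernel.lift_ι, kernel.condition, zero_comp])).ShortExact := fun k =>
    shortExact_lift (kernel.ι (K.d (k + 1) (k + 2))) (K.d (k + 1) (k + 2)) (K.d (k + 2) (k + 3))
      (kernel.condition _) (K.d_comp_d _ _ _)
      (ShortComplex.exact_of_f_is_kernel _ (kernelIsKernel _)) (I.exact_succ (k + 1))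
  have hP : ∀ k : ℕ, k + 1 ≤ n → P (n - (k + 1)) (kernel (K.d (k + 1) (k + 2))) := by
    intro k
    induction k with
    | zero =>
      intro h1
      have e : n - (0 + 1) + 1 = n := by omega
      exact h23 _ _ hS' (by rw [e]; exact hF) (hinj _ _ (I.injective 0))
    | succ k ih =>
      intro h1
      have e : n - (k + 1 + 1) + 1 = n - (k + 1) := by omega
      exact h23 _ _ (hS k) (by rw [e]; exact ih (by omega)) (hinj _ _ (I.injective (k + 1)))
  have hE : Epi (G.map (kernel.lift (K.d (n + 1) (n + 2)) (K.d n (n + 1)) (K.d_comp_d _ _ _))) := by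
    cases n with
    | zero => exact hepi _ hS' hF
    | succ m =>
      have h0 : m + 1 - (m + 1) = 0 := by omega
      have := hP m le_rfl
      rw [h0] at this
      exact hepi _ (hS m) this
  change IsZero (((G.mapHomologicalComplex _).obj K).homology (n + 1))
  rw [← HomologicalComplex.exactAt_iff_isZero_homology,
    HomologicalComplex.exactAt_iff' _ n (n + 1) (n + 2) (by simp)
      (by simp only [CochainComplex.next]; rfl)]
  rw [ShortComplex.exact_iff_epi_kernel_lift]
  haveI : IsIso (kernelComparison (K.d (n + 1) (n + 2)) G) := by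
    rw [← PreservesKernel.iso_hom]; infer_instance
  have key : Epi (G.map (kernel.lift (K.d (n + 1) (n + 2)) (K.d n (n + 1)) (K.d_comp_d _ _ _)) ≫
      kernelComparison (K.d (n + 1) (n + 2)) G) := inferInstance
  rw [map_lift_kernelComparison] at key
  exact key

end RD

open Groth.Agent.Lib.Helper23.AffVanish

variable {X Y : TopCat.{u}} (g : X ⟶ Y)

/-- vanishing in one degree over the preimages of a family of opens -/
def VanishAt (B : Set (Opens Y)) (k : ℕ) (A : CohTop.Ab X) : Prop :=
  ∀ V ∈ B, Subsingleton (HE A (k + 1) ((Opens.map g).obj V))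

attribute [local instance] Ext.subsingleton_of_injective in
lemma vanishAt_of_injective (B : Set (Opens Y)) (k : ℕ) (I : CohTop.Ab X) [Injective I] :
    VanishAt g B k I :=
  fun _ _ => inferInstance

lemma vanishAt_X₃ (B : Set (Opens Y)) (k : ℕ) (S : ShortComplex (CohTop.Ab X)) (hS : S.ShortExact)
    (h₁ : VanishAt g B (k + 1) S.X₁) (h₂ : VanishAt g B k S.X₂) : VanishAt g B k S.X₃ := by
  intro V hV
  refine ⟨fun a b => ?_⟩
  have key : ∀ x₃ : HE S.X₃ (k + 1) ((Opens.map g).obj V), x₃ = 0 := by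
    intro x₃
    haveI := h₁ V hV
    haveI := h₂ V hV
    obtain ⟨x₂, hx₂⟩ := Ext.covariant_sequence_exact₃ (ZU ((Opens.map g).obj V)) hS x₃ rfl
      (Subsingleton.elim (α := HE S.X₁ (k + 1 + 1) ((Opens.map g).obj V)) _ _)
    have : x₂ = 0 := Subsingleton.elim (α := HE S.X₂ (k + 1) ((Opens.map g).obj V)) _ _
    rw [← hx₂, this, Ext.zero_comp]
  exact (key a).trans (key b).symm

lemma epi_push_map_of_vanishAt (B : Set (Opens Y)) (hB : Opens.IsBasis B)
    (S : ShortComplex (CohTop.Ab X)) (hS : S.ShortExact) (h₁ : VanishAt g B 0 S.X₁) :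
    Epi ((CohTop.push g).map S.g) := by
  rw [Groth.Agent.Lib.Helper16.ClosedEmb.locSurj_iff]
  intro V t y hy
  obtain ⟨V', hV'B, hyV', hV'V⟩ := (Opens.isBasis_iff_nbhd.1 hB) hy
  refine ⟨V', hV'V, ?_, hyV'⟩
  set W := (Opens.map g).obj V' with hW
  have hWle : W ≤ (Opens.map g).obj V := (Opens.map g).monotone hV'V
  let t' : S.X₃.obj.obj (op W) := S.X₃.obj.map (homOfLE hWle).op t
  haveI := h₁ V' hV'B
  obtain ⟨x₂, hx₂⟩ := Ext.covariant_sequence_exact₃ (ZU W) hS
    (Ext.mk₀ (CohFree.ofSect (J X) W S.X₃ t')) (zero_add 1)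
    (Subsingleton.elim (α := HE S.X₁ (0 + 1) W) _ _)
  obtain ⟨c, rfl⟩ := (Ext.mk₀_bijective _ _).2 x₂
  rw [Ext.mk₀_comp_mk₀] at hx₂
  have hc : c ≫ S.g = CohFree.ofSect (J X) W S.X₃ t' := (Ext.mk₀_bijective _ _).1 hx₂
  refine ⟨CohFree.evalGen (J X) W S.X₂ c, ?_⟩
  have h3 : (S.g.hom.app (op W)).hom (CohFree.evalGen (J X) W S.X₂ c) =
      CohFree.evalGen (J X) W S.X₃ (c ≫ S.g) := rfl
  have h4 := h3.trans (by rw [hc, CohFree.evalGen_ofSect])
  exact h4

/-- Vanishing of one higher direct image from vanishing of the cohomology, in the same degree, of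
the preimages of a basis. -/
theorem isZero_Rpush_succ_of_basis (B : Set (Opens Y)) (hB : Opens.IsBasis B) (G : CohTop.Ab X)
    (n : ℕ) (hG : ∀ V ∈ B, Subsingleton (HE G (n + 1) ((Opens.map g).obj V))) :
    IsZero ((CohTop.Rpush g (n + 1)).obj G) := by
  haveI := Groth.Agent.Lib.Helper16.ClosedEmb.push_preservesFiniteLimits g
  exact rightDerived_vanish_single (CohTop.push g) (VanishAt g B)
    (fun k I hI => vanishAt_of_injective g B k I)
    (fun k S hS h₁ h₂ => vanishAt_X₃ g B k S hS h₁ h₂)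
    (fun S hS h₁ => epi_push_map_of_vanishAt g B hB S hS h₁) G n hG

/-- sections of a sheaf whose sections over the preimages of a basis vanish -/
theorem subsingleton_sections_of_basis (B : Set (Opens Y)) (hB : Opens.IsBasis B) (G : CohTop.Ab X)
    (hG : ∀ V ∈ B, Subsingleton (HE G 0 ((Opens.map g).obj V))) (W : Opens Y) :
    Subsingleton (G.obj.obj (op ((Opens.map g).obj W))) := by
  refine ⟨fun s t => ?_⟩
  refine TopCat.Sheaf.eq_of_locally_eq' G
    (fun i : {V' : Opens Y // V' ∈ B ∧ V' ≤ W} => (Opens.map g).obj i.1) ((Opens.map g).obj W)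
    (fun i => homOfLE ((Opens.map g).monotone i.2.2)) ?_ s t ?_
  · intro x hx
    obtain ⟨V', hV'B, hxV', hV'W⟩ := (Opens.isBasis_iff_nbhd.1 hB) (show g x ∈ W from hx)
    exact Opens.mem_iSup.mpr ⟨⟨V', hV'B, hV'W⟩, hxV'⟩
  · intro i
    haveI := hG i.1 i.2.1
    exact (h0Equiv G ((Opens.map g).obj i.1)).symm.injective (Subsingleton.elim _ _)

/-- Vanishing of the direct image from vanishing of the sections over the preimages of a
basis. -/
theorem isZero_Rpush_zero_of_basis (B : Set (Opens Y)) (hB : Opens.IsBasis B) (G : CohTop.Ab X)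
    (hG : ∀ V ∈ B, Subsingleton (HE G 0 ((Opens.map g).obj V))) :
    IsZero ((CohTop.Rpush g 0).obj G) := by
  haveI := Groth.Agent.Lib.Helper16.ClosedEmb.push_preservesFiniteLimits g
  refine IsZero.of_iso ?_ ((CohTop.push g).rightDerivedZeroIsoSelf.app G)
  rw [IsZero.iff_id_eq_zero]
  apply Sheaf.hom_ext
  ext W s
  haveI := subsingleton_sections_of_basis g B hB G hG W.unop
  exact Subsingleton.elim (α := G.obj.obj (op ((Opens.map g).obj W.unop))) _ _

end Groth.Agent.Lib.T2H5.PushSingle
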