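import Mathlib
import Groth.Agent.Lib.Helper23FLoc

/-!
# Gluing elements of modules along localisations up to torsion (helper5)

Namespace `Groth.Agent.Lib.T2H5.GlueAlg`.
-/

set_option autoImplicit false
set_option linter.style.haveILetI false
set_option linter.unusedSectionVars false
open Groth.Agent.Lib.Helper23.FLoc

namespace Groth.Agent.Lib.T2H5.GlueAlg

variable {R : Type*} [CommRing R]

theorem injective_pow_smul {P : Type*} [AddCommGroup P] [Module R P] (c : R)
    (hc : Function.Injective fun x : P => c • x) (m : ℕ) : Function.Injective fun x : P => c ^ m • x := by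
  induction m with
  | zero => intro x y h; simpa using h
  | succ m ih =>
    intro x y h
    apply ih
    apply hc
    simpa [pow_succ', mul_smul] using h

/-- an element killed by all the maps `θ i` with `b i`-torsion kernels vanishes, if `c` is in the radical of the `b i`
and acts injectively. -/
theorem eq_zero_of_kerTors {ι : Type*} [Fintype ι] {P : Type*} [AddCommGroup P] [Module R P]
    {Q : ι → Type*} [∀ i, AddCommGroup (Q i)] [∀ i, Module R (Q i)]
    (c : R) (hc : Function.Injective fun x : P => c • x)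
    (b : ι → R) (hb : c ∈ (Ideal.span (Set.range b)).radical)
    (θ : ∀ i, P →ₗ[R] Q i) (hθ : ∀ i, KerTors (b i) (θ i))
    (x : P) (hx : ∀ i, θ i x = 0) : x = 0 := by
  classical
  have h1 : ∀ i, ∃ k : ℕ, b i ^ k • x = 0 := fun i => hθ i x (hx i)
  choose k hk using h1
  set K := Finset.univ.sup k with hK
  have hbK : ∀ i, b i ^ K • x = 0 := by
    intro i
    have hle : k i ≤ K := Finset.le_sup (Finset.mem_univ i)
    obtain ⟨d, hd⟩ := Nat.exists_eq_add_of_le hle
    rw [hd, pow_add, mul_comm, mul_smul, hk i, smul_zero]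
  have h2 : Ideal.span (Set.range b) ≤ (Ideal.span (Set.range fun i => b i ^ K)).radical := by
    rw [Ideal.span_le]
    rintro _ ⟨i, rfl⟩
    by_cases hK0 : K = 0
    · have : Ideal.span (Set.range fun i => b i ^ K) = ⊤ := by
        rw [Ideal.eq_top_iff_one]
        refine Ideal.subset_span ⟨i, ?_⟩
        simp [hK0]
      rw [this, Ideal.radical_top]
      trivial
    · exact ⟨K, Ideal.subset_span ⟨i, rfl⟩⟩
  have h3 : c ∈ (Ideal.span (Set.range fun i => b i ^ K)).radical := by
    have := Ideal.radical_mono h2 hb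
    rwa [Ideal.radical_idem] at this
  obtain ⟨m, hm⟩ := h3
  obtain ⟨r, hr⟩ := (Ideal.mem_span_range_iff_exists_fun).1 hm
  have h4 : c ^ m • x = 0 := by
    rw [← hr, Finset.sum_smul]
    refine Finset.sum_eq_zero fun i _ => ?_
    rw [mul_smul, hbK i, smul_zero]
  apply injective_pow_smul c hc m
  simpa using h4

/-- gluing a compatible family along maps which are localisations up to torsion. -/
theorem exists_glue {ι : Type*} [Fintype ι] {N : Type*} [AddCommGroup N] [Module R N]
    {P : ι → Type*} [∀ i, AddCommGroup (P i)] [∀ i, Module R (P i)]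
    {Q : ι → ι → Type*} [∀ i j, AddCommGroup (Q i j)] [∀ i j, Module R (Q i j)]
    (a : ι → R) (ha : Ideal.span (Set.range a) = ⊤)
    (θ : ∀ i, N →ₗ[R] P i) (ρ : ∀ i j, P i →ₗ[R] Q i j) (ρ' : ∀ i j, P j →ₗ[R] Q i j)
    (hcomm : ∀ i j x, ρ i j (θ i x) = ρ' i j (θ j x))
    (hinj : ∀ i, Function.Injective fun y : P i => a i • y)
    (hcok : ∀ i, CokerTors (a i) (θ i))
    (hker : ∀ i j, KerTors (a i * a j) ((ρ i j).comp (θ i)))
    (β : ∀ i, P i) (hβ : ∀ i j, ρ i j (β i) = ρ' i j (β j)) :
    ∃ x : N, ∀ i, θ i x = β i := by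
  classical
  -- uniform exponent for the cokernels
  have h1 : ∀ i, ∃ (k : ℕ) (p : N), θ i p = a i ^ k • β i := fun i => hcok i (β i)
  choose k₀ x₀ hx₀ using h1
  set k := Finset.univ.sup k₀ with hk
  have h2 : ∀ i, ∃ p : N, θ i p = a i ^ k • β i := by
    intro i
    have hle : k₀ i ≤ k := Finset.le_sup (Finset.mem_univ i)
    obtain ⟨d, hd⟩ := Nat.exists_eq_add_of_le hle
    refine ⟨a i ^ d • x₀ i, ?_⟩
    rw [map_smul, hx₀ i, hd, pow_add, mul_comm, mul_smul]
  choose x hx using h2
  -- the differences are torsion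
  have h3 : ∀ i j, ∃ m : ℕ, (a i * a j) ^ m • (a j ^ k • x i - a i ^ k • x j) = 0 := by
    intro i j
    apply hker i j
    have e1 : (ρ i j) (θ i (x i)) = a i ^ k • ρ i j (β i) := by rw [hx i, map_smul]
    have e2 : (ρ i j) (θ i (x j)) = a j ^ k • ρ i j (β i) := by
      rw [hcomm i j (x j), hx j, map_smul, hβ i j]
    rw [LinearMap.comp_apply, map_sub, map_sub, map_smul, map_smul, map_smul, map_smul, e1, e2, smul_smul,
      smul_smul, mul_comm, sub_self]
  choose m₀ hm₀ using h3
  set m := Finset.univ.sup fun i => Finset.univ.sup fun j => m₀ i j with hm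
  have h4 : ∀ i j, (a i * a j) ^ m • (a j ^ k • x i - a i ^ k • x j) = 0 := by
    intro i j
    have hle : m₀ i j ≤ m :=
      (Finset.le_sup (f := fun j => m₀ i j) (Finset.mem_univ j)).trans
        (Finset.le_sup (f := fun i => Finset.univ.sup fun j => m₀ i j) (Finset.mem_univ i))
    obtain ⟨d, hd⟩ := Nat.exists_eq_add_of_le hle
    rw [hd, pow_add, mul_comm, mul_smul, hm₀ i j, smul_zero]
  have h5 : ∀ i j, (a i ^ m * a j ^ (m + k)) • x i = (a i ^ (m + k) * a j ^ m) • x j := by
    intro i j
    have := h4 i j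
    rw [smul_sub, sub_eq_zero, smul_smul, smul_smul] at this
    have e1 : (a i * a j) ^ m * a j ^ k = a i ^ m * a j ^ (m + k) := by ring
    have e2 : (a i * a j) ^ m * a i ^ k = a i ^ (m + k) * a j ^ m := by ring
    rwa [e1, e2] at this
  -- partition of unity
  have h6 : Ideal.span (Set.range fun i => a i ^ (m + k)) = ⊤ := by
    have := Ideal.span_pow_eq_top (Set.range a) ha (m + k)
    rw [← this]
    congr 1
    ext y
    constructor
    · rintro ⟨i, rfl⟩
      exact ⟨a i, ⟨i, rfl⟩, rfl⟩
    · rintro ⟨_, ⟨i, rfl⟩, rfl⟩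
      exact ⟨i, rfl⟩
  obtain ⟨r, hr⟩ := (Ideal.mem_span_range_iff_exists_fun).1 ((Ideal.eq_top_iff_one _).1 h6)
  refine ⟨∑ i, (r i * a i ^ m) • x i, fun j => ?_⟩
  apply injective_pow_smul (a j) (hinj j) (m + k)
  change a j ^ (m + k) • θ j (∑ i, (r i * a i ^ m) • x i) = a j ^ (m + k) • β j
  rw [← map_smul, Finset.smul_sum]
  have h7 : ∀ i, a j ^ (m + k) • (r i * a i ^ m) • x i = (r i * a i ^ (m + k)) • (a j ^ m • x j) := by
    intro i
    calc a j ^ (m + k) • (r i * a i ^ m) • x i = r i • ((a i ^ m * a j ^ (m + k)) • x i) := by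
          rw [smul_smul, smul_smul]; congr 1; ring
      _ = r i • ((a i ^ (m + k) * a j ^ m) • x j) := by rw [h5 i j]
      _ = (r i * a i ^ (m + k)) • (a j ^ m • x j) := by
          rw [smul_smul, smul_smul]; congr 1; ring
  rw [Finset.sum_congr rfl fun i _ => h7 i, ← Finset.sum_smul, hr, one_smul, map_smul, hx j, smul_smul,
    ← pow_add]
end Groth.Agent.Lib.T2H5.GlueAlg
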