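import Mathlib
import Groth.Agent.Lib.Helper23FLoc3
import Groth.Agent.Lib.Helper23RelBound

/-!
# Localisation of cohomology on quasi-compact quasi-separated schemes (helper5)

Namespace `Groth.Agent.Lib.T2H5.LocQS`.

`good_of_isCompact`: for a quasi-coherent module `M` on a quasi-separated scheme `X`, a global function `f` and a
quasi-compact open `W`, the restriction `H^n(W, M) → H^n(W ∩ X_f, M)` has `f`-power torsion kernel and cokernel.
-/

set_option autoImplicit false
set_option linter.style.haveILetI false
set_option linter.unusedSectionVars false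
universe u
open CategoryTheory CategoryTheory.Limits Opposite TopologicalSpace AlgebraicGeometry Abelian

namespace Groth.Agent.Lib.T2H5.LocQS

open Groth.Agent.Lib.Helper23.FLoc Groth.Agent.Lib.Helper23.AffVanish Groth.Agent.Lib.Helper6
open Groth.Agent.Lib.Helper23.FLocSch

variable {X : Scheme.{u}} (M : X.Modules) (f : Γ(X, ⊤))

/-- `good_list` for a class of affine opens stable under intersection. -/
theorem good_list_of_class [QuasiSeparatedSpace X] (𝒞 : X.Opens → Prop)
    (haff : ∀ V, 𝒞 V → IsAffineOpen V) (hinf : ∀ V W, 𝒞 V → 𝒞 W → 𝒞 (V ⊓ W))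
    [M.IsQuasicoherent] :
    ∀ (l : List X.Opens), (∀ V ∈ l, 𝒞 V) → ∀ n : ℕ, Good M f (supList l) n := by
  suffices H : ∀ (k : ℕ) (l : List X.Opens), l.length = k → (∀ V ∈ l, 𝒞 V) → ∀ n : ℕ,
      Good M f (supList l) n from fun l hl n => H l.length l rfl hl n
  intro k
  induction k with
  | zero =>
    intro l hk _ n
    have : l = [] := List.length_eq_zero_iff.1 hk
    subst this
    refine good_of_subsingleton M f _ n ?_ ?_
    · exact ⟨fun a b => (HE_eq_zero_of_eq_bot _ n rfl a).trans (HE_eq_zero_of_eq_bot _ n rfl b).symm⟩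
    · have hb : supList ([] : List X.Opens) ⊓ X.basicOpen f = ⊥ := by simp
      exact ⟨fun a b => (HE_eq_zero_of_eq_bot _ n hb a).trans (HE_eq_zero_of_eq_bot _ n hb b).symm⟩
  | succ k ih =>
    intro l hk hl n
    obtain ⟨V, l, rfl⟩ : ∃ V l', l = V :: l' := by
      cases l with
      | nil => simp at hk
      | cons V l' => exact ⟨V, l', rfl⟩
    have hk' : l.length = k := by simpa using hk
    have hV : 𝒞 V := hl V List.mem_cons_self
    have hl' : ∀ W ∈ l, 𝒞 W := fun W hW => hl W (List.mem_cons_of_mem _ hW)
    have hlaff : ∀ W ∈ V :: l, IsAffineOpen W := fun W hW => haff W (hl W hW)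
    cases n with
    | zero => exact good_zero M f _ (isCompact_supList hlaff)
    | succ m =>
      have hI : ∀ j : ℕ, Good M f (V ⊓ supList l) j := by
        intro j
        refine good_congr M f (inf_supList V l).symm j ?_
        apply ih (l.map (V ⊓ ·)) (by simpa using hk')
        intro W hW
        obtain ⟨W', hW', rfl⟩ := List.mem_map.1 hW
        exact hinf V W' hV (hl' W' hW')
      exact good_mv M f V (supList l) m (good_affine M f (haff V hV) m) (ih l hk' hl' m) (hI m)
        (good_affine M f (haff V hV) (m + 1)) (ih l hk' hl' (m + 1)) (hI (m + 1))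

/-- a quasi-compact open is a finite union of affine opens contained in it -/
theorem exists_affine_list_of_isCompact (U : X.Opens) (hU : IsCompact (U : Set X)) :
    ∃ l : List X.Opens, (∀ V ∈ l, IsAffineOpen V ∧ V ≤ U) ∧ supList l = U := by
  have hloc : ∀ x : U, ∃ V : X.Opens, IsAffineOpen V ∧ (x : X) ∈ V ∧ V ≤ U := by
    intro x
    obtain ⟨V, hV, hxV, hVU⟩ := (Opens.isBasis_iff_nbhd.1 X.isBasis_affineOpens) x.2
    exact ⟨V, hV, hxV, hVU⟩
  choose V hVa hxV hVU using hloc
  obtain ⟨s, hs⟩ := hU.elim_finite_subcover (fun x : U => (V x : Set X))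
    (fun x => (V x).2) (fun y hy => Set.mem_iUnion.2 ⟨⟨y, hy⟩, hxV ⟨y, hy⟩⟩)
  refine ⟨s.toList.map V, ?_, ?_⟩
  · intro W hW
    obtain ⟨x, -, rfl⟩ := List.mem_map.1 hW
    exact ⟨hVa x, hVU x⟩
  · apply le_antisymm
    · have : ∀ l : List X.Opens, (∀ W ∈ l, W ≤ U) → supList l ≤ U := by
        intro l
        induction l with
        | nil => intro _; simp
        | cons W l ih =>
          intro h
          rw [supList_cons]
          exact sup_le (h W List.mem_cons_self) (ih fun W' hW' => h W' (List.mem_cons_of_mem _ hW'))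
      apply this
      intro W hW
      obtain ⟨x, -, rfl⟩ := List.mem_map.1 hW
      exact hVU x
    · intro y hy
      obtain ⟨x, hx⟩ := Set.mem_iUnion.1 (hs hy)
      obtain ⟨hxs, hyx⟩ := Set.mem_iUnion.1 hx
      exact le_supList_of_mem (List.mem_map.2 ⟨x, Finset.mem_toList.2 hxs, rfl⟩) hyx

/-- **Localisation of cohomology, quasi-separated case**, for finite unions of affine opens. -/
theorem good_list_qs [QuasiSeparatedSpace X] [M.IsQuasicoherent] :
    ∀ (l : List X.Opens), (∀ V ∈ l, IsAffineOpen V) → ∀ n : ℕ, Good M f (supList l) n := by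
  suffices H : ∀ (k : ℕ) (l : List X.Opens), l.length = k → (∀ V ∈ l, IsAffineOpen V) → ∀ n : ℕ,
      Good M f (supList l) n from fun l hl n => H l.length l rfl hl n
  intro k
  induction k with
  | zero =>
    intro l hk _ n
    have : l = [] := List.length_eq_zero_iff.1 hk
    subst this
    refine good_of_subsingleton M f _ n ?_ ?_
    · exact ⟨fun a b => (HE_eq_zero_of_eq_bot _ n rfl a).trans (HE_eq_zero_of_eq_bot _ n rfl b).symm⟩
    · have hb : supList ([] : List X.Opens) ⊓ X.basicOpen f = ⊥ := by simp
      exact ⟨fun a b => (HE_eq_zero_of_eq_bot _ n hb a).trans (HE_eq_zero_of_eq_bot _ n hb b).symm⟩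
  | succ k ih =>
    intro l hk hl n
    obtain ⟨V, l, rfl⟩ : ∃ V l', l = V :: l' := by
      cases l with
      | nil => simp at hk
      | cons V l' => exact ⟨V, l', rfl⟩
    have hk' : l.length = k := by simpa using hk
    have hV : IsAffineOpen V := hl V List.mem_cons_self
    have hl' : ∀ W ∈ l, IsAffineOpen W := fun W hW => hl W (List.mem_cons_of_mem _ hW)
    cases n with
    | zero => exact good_zero M f _ (isCompact_supList hl)
    | succ m =>
      have hI : ∀ j : ℕ, Good M f (V ⊓ supList l) j := by
        intro j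
        have hc : IsCompact ((V ⊓ supList l : X.Opens) : Set X) :=
          QuasiSeparatedSpace.inter_isCompact (V : Set X) (supList l : Set X) V.2 hV.isCompact (supList l).2
            (isCompact_supList hl')
        obtain ⟨l'', hl'', e⟩ := exists_affine_list_of_isCompact (V ⊓ supList l) hc
        refine good_congr M f e j ?_
        refine good_list_of_class M f (fun Z => IsAffineOpen Z ∧ Z ≤ V) (fun Z hZ => hZ.1) ?_ l'' ?_ j
        · rintro Z Z' ⟨hZ, hZV⟩ ⟨hZ', hZ'V⟩
          refine ⟨?_, inf_le_left.trans hZV⟩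
          have := isAffineOpen_inf_preimage (𝟙 X) hV hZ' hZ'V hZ (by simpa using hZV)
          simpa using this
        · intro Z hZ
          exact ⟨(hl'' Z hZ).1, (hl'' Z hZ).2.trans inf_le_left⟩
      exact good_mv M f V (supList l) m (good_affine M f hV m) (ih l hk' hl' m) (hI m)
        (good_affine M f hV (m + 1)) (ih l hk' hl' (m + 1)) (hI (m + 1))

/-- **Localisation of cohomology on quasi-compact opens of a quasi-separated scheme.** -/
theorem good_of_isCompact [QuasiSeparatedSpace X] [M.IsQuasicoherent] (W : X.Opens)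
    (hW : IsCompact (W : Set X)) (n : ℕ) : Good M f W n := by
  obtain ⟨l, hl, e⟩ := exists_affine_list_of_isCompact W hW
  exact good_congr M f e n (good_list_qs M f l (fun V hV => (hl V hV).1) n)

end Groth.Agent.Lib.T2H5.LocQS
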