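import Mathlib
import Groth.Agent.Lib.T2H5LocQS
import Groth.Agent.Lib.T2H5GlueAlg

/-!
# Sections of higher direct images over an affine base (helper5)

Namespace `Groth.Agent.Lib.T2H5.RpushSect`.
-/

set_option autoImplicit false
set_option linter.style.haveILetI false
set_option linter.unusedSectionVars false
universe u
open CategoryTheory CategoryTheory.Limits Opposite TopologicalSpace AlgebraicGeometry Abelian

namespace Groth.Agent.Lib.T2H5.RpushSect

open Groth.Agent.Lib.Helper23.FLoc Groth.Agent.Lib.Helper23.AffVanish Groth.Agent.Lib.Helper6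
open Groth.Agent.Lib.Helper23.FLocSch Groth.Agent.Lib.T2H5.LocQS Groth.Agent.Lib.T2H5.GlueAlg

section geometry

variable {S : Scheme.{u}} [IsAffine S]

/-- an element whose basic open is covered by basic opens is in the radical of the ideal they generate -/
theorem mem_radical_of_basicOpen_le (c₀ : Γ(S, ⊤)) {r : ℕ} (b : Fin r → Γ(S, ⊤))
    (h : S.basicOpen c₀ ≤ ⨆ k, S.basicOpen (b k)) : c₀ ∈ (Ideal.span (Set.range b)).radical := by
  rw [Ideal.radical_eq_sInf, Ideal.mem_sInf]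
  rintro p ⟨hp, hprime⟩
  by_contra hc
  have hS := isAffineOpen_top S
  let P : PrimeSpectrum Γ(S, ⊤) := ⟨p, hprime⟩
  have h1 : P ∈ hS.fromSpec ⁻¹ᵁ S.basicOpen c₀ := by
    rw [hS.fromSpec_preimage_basicOpen]
    exact hc
  have h2 : hS.fromSpec P ∈ ⨆ k, S.basicOpen (b k) := h h1
  rw [Opens.mem_iSup] at h2
  obtain ⟨k, hk⟩ := h2
  have h3 : P ∈ hS.fromSpec ⁻¹ᵁ S.basicOpen (b k) := hk
  rw [hS.fromSpec_preimage_basicOpen] at h3
  exact h3 (hp (Ideal.subset_span ⟨k, rfl⟩))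

/-- finite refinements by basic opens of a covering of a basic open of an affine scheme -/
theorem exists_finite_cover (c₀ : Γ(S, ⊤)) (𝒱 : S → S.Opens) (h𝒱 : ∀ y ∈ S.basicOpen c₀, y ∈ 𝒱 y) :
    ∃ (r : ℕ) (b : Fin r → Γ(S, ⊤)) (pt : Fin r → S), (∀ k, pt k ∈ S.basicOpen c₀) ∧
      (∀ k, S.basicOpen (b k) ≤ S.basicOpen c₀ ⊓ 𝒱 (pt k)) ∧
      (S.basicOpen c₀ ≤ ⨆ k, S.basicOpen (b k)) ∧ c₀ ∈ (Ideal.span (Set.range b)).radical := by
  have hS := isAffineOpen_top S
  have hloc : ∀ y : S.basicOpen c₀, ∃ a : Γ(S, ⊤), (y : S) ∈ S.basicOpen a ∧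
      S.basicOpen a ≤ S.basicOpen c₀ ⊓ 𝒱 y := by
    intro y
    obtain ⟨a, ha, hya⟩ := hS.exists_basicOpen_le (V := S.basicOpen c₀ ⊓ 𝒱 y)
      ⟨(y : S), ⟨y.2, h𝒱 y y.2⟩⟩ trivial
    exact ⟨a, hya, ha⟩
  choose a hya ha using hloc
  have hc : IsCompact ((S.basicOpen c₀ : S.Opens) : Set S) := (hS.basicOpen c₀).isCompact
  obtain ⟨s, hs⟩ := hc.elim_finite_subcover (fun y : S.basicOpen c₀ => ((S.basicOpen (a y) : S.Opens) : Set S))
    (fun y => (S.basicOpen (a y)).2) (fun y hy => Set.mem_iUnion.2 ⟨⟨y, hy⟩, hya ⟨y, hy⟩⟩)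
  let e := s.equivFin
  refine ⟨s.card, fun k => a (e.symm k).1, fun k => ((e.symm k).1 : S), fun k => (e.symm k).1.2,
    fun k => ha (e.symm k).1, ?_, ?_⟩
  · intro y hy
    obtain ⟨z, hz⟩ := Set.mem_iUnion.1 (hs hy)
    obtain ⟨hzs, hyz⟩ := Set.mem_iUnion.1 hz
    rw [Opens.mem_iSup]
    refine ⟨e ⟨z, hzs⟩, ?_⟩
    change y ∈ S.basicOpen (a (e.symm (e ⟨z, hzs⟩)).1)
    rw [Equiv.symm_apply_apply]
    exact hyz
  · apply mem_radical_of_basicOpen_le
    intro y hy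
    obtain ⟨z, hz⟩ := Set.mem_iUnion.1 (hs hy)
    obtain ⟨hzs, hyz⟩ := Set.mem_iUnion.1 hz
    rw [Opens.mem_iSup]
    refine ⟨e ⟨z, hzs⟩, ?_⟩
    change y ∈ S.basicOpen (a (e.symm (e ⟨z, hzs⟩)).1)
    rw [Equiv.symm_apply_apply]
    exact hyz

end geometry

theorem map_mem_radical_span {A B : Type*} [CommRing A] [CommRing B] (φ : A →+* B) {r : ℕ} (b : Fin r → A)
    (c₀ : A) (h : c₀ ∈ (Ideal.span (Set.range b)).radical) :
    φ c₀ ∈ (Ideal.span (Set.range fun k => φ (b k))).radical := by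
  obtain ⟨m, hm⟩ := h
  obtain ⟨t, ht⟩ := (Ideal.mem_span_range_iff_exists_fun).1 hm
  refine ⟨m, ?_⟩
  rw [← map_pow, ← ht, map_sum]
  refine Ideal.sum_mem _ fun k _ => ?_
  rw [map_mul]
  exact Ideal.mul_mem_left _ _ (Ideal.subset_span ⟨k, rfl⟩)

section main

variable {X S : Scheme.{u}} (f : X ⟶ S) [QuasiCompact f] [QuasiSeparated f] [IsAffine S]
  (M : X.Modules) [M.IsQuasicoherent] (q : ℕ)

theorem preimage_basicOpen_eq (a : Γ(S, ⊤)) : f ⁻¹ᵁ S.basicOpen a = X.basicOpen (f.appTop.hom a) :=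
  Scheme.preimage_basicOpen_top f a

include f in
theorem quasiSeparatedSpace_source : QuasiSeparatedSpace X :=
  (HasAffineProperty.iff_of_isAffine (P := @QuasiSeparated) (f := f)).1 inferInstance

theorem isCompact_preimage (V : S.Opens) (hV : IsCompact (V : Set S)) : IsCompact ((f ⁻¹ᵁ V : X.Opens) : Set X) :=
  QuasiCompact.isCompact_preimage (f := f) _ V.2 hV

theorem good_preimage (V : S.Opens) (hV : IsCompact (V : Set S)) (b : Γ(S, ⊤)) :
    Good M (f.appTop.hom b) (f ⁻¹ᵁ V) q := by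
  haveI := quasiSeparatedSpace_source f
  exact good_of_isCompact M _ _ (isCompact_preimage f V hV) q

theorem kerTors_res (V V' : S.Opens) (h : V' ≤ V) (hV : IsCompact (V : Set S)) (b : Γ(S, ⊤))
    (e : V' = V ⊓ S.basicOpen b) : KerTors (f.appTop.hom b) (rL M (f.preimage_mono h) q) := by
  have e' : f ⁻¹ᵁ V ⊓ X.basicOpen (f.appTop.hom b) = f ⁻¹ᵁ V' := by
    rw [e, ← preimage_basicOpen_eq]
    rfl
  exact kerTors_congr_small M _ e' inf_le_left (f.preimage_mono h) q (good_preimage f M q V hV b).1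

theorem cokerTors_res (V V' : S.Opens) (h : V' ≤ V) (hV : IsCompact (V : Set S)) (b : Γ(S, ⊤))
    (e : V' = V ⊓ S.basicOpen b) : CokerTors (f.appTop.hom b) (rL M (f.preimage_mono h) q) := by
  have e' : f ⁻¹ᵁ V ⊓ X.basicOpen (f.appTop.hom b) = f ⁻¹ᵁ V' := by
    rw [e, ← preimage_basicOpen_eq]
    rfl
  exact cokerTors_congr_small M _ e' inf_le_left (f.preimage_mono h) q (good_preimage f M q V hV b).2

/-- a class over the preimage of a basic open which vanishes locally on the base vanishes -/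
theorem sep (V₀ : S.Opens) (c₀ : Γ(S, ⊤)) (hV₀ : V₀ = S.basicOpen c₀)
    (α : HE (ab' M) q (f ⁻¹ᵁ V₀))
    (hloc : ∀ y ∈ V₀, ∃ (V' : S.Opens) (h : V' ≤ V₀), y ∈ V' ∧
      resE (ab' M) q (f.preimage_mono h) α = 0) : α = 0 := by
  subst hV₀
  have hloc' : ∀ y : S, ∃ V' : S.Opens, y ∈ S.basicOpen c₀ → ∃ (h : V' ≤ S.basicOpen c₀), y ∈ V' ∧
      resE (ab' M) q (f.preimage_mono h) α = 0 := by
    intro y
    by_cases hy : y ∈ S.basicOpen c₀
    · obtain ⟨V', h, hyV', hres⟩ := hloc y hy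
      exact ⟨V', fun _ => ⟨h, hyV', hres⟩⟩
    · exact ⟨⊥, fun h => absurd h hy⟩
  choose 𝒱 h𝒱 using hloc'
  obtain ⟨r, b, pt, hpt, hb, hcov, hrad⟩ := exists_finite_cover c₀ 𝒱 (fun y hy => (h𝒱 y hy).2.1)
  have hle : ∀ k, S.basicOpen (b k) ≤ S.basicOpen c₀ := fun k => (hb k).trans inf_le_left
  have hcomp : IsCompact ((S.basicOpen c₀ : S.Opens) : Set S) := ((isAffineOpen_top S).basicOpen c₀).isCompact
  refine eq_zero_of_kerTors (R := Γ(X, ⊤)) (P := HM M q (f ⁻¹ᵁ S.basicOpen c₀))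
    (Q := fun k => HM M q (f ⁻¹ᵁ S.basicOpen (b k))) (f.appTop.hom c₀) ?_ (fun k => f.appTop.hom (b k))
    (map_mem_radical_span _ b c₀ hrad) (fun k => rL M (f.preimage_mono (hle k)) q) ?_ α ?_
  · exact (bijective_smul_HM M _ _ (preimage_basicOpen_eq f c₀).le q).1
  · intro k
    exact kerTors_res f M q _ _ (hle k) hcomp (b k) (inf_eq_right.2 (hle k)).symm
  · intro k
    obtain ⟨h1, -, h2⟩ := h𝒱 (pt k) (hpt k)
    change resE (ab' M) q (f.preimage_mono (hle k)) α = 0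
    rw [← resE_resE (ab' M) q (f.preimage_mono h1) (f.preimage_mono ((hb k).trans inf_le_right)) α, h2, map_zero]

/-- **Sections of higher direct images over an affine base**: a natural, locally surjective and locally injective
comparison from the cohomology of preimages to the sections of an abelian sheaf on the affine base is bijective on
global sections. -/
theorem bijective_comparison (T : CohTop.Ab S.carrier)
    (c : ∀ V : S.Opens, HE (ab' M) q (f ⁻¹ᵁ V) →+ T.obj.obj (op V))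
    (hnat : ∀ (V V' : S.Opens) (h : V' ≤ V) (α : HE (ab' M) q (f ⁻¹ᵁ V)),
      c V' (resE (ab' M) q (f.preimage_mono h) α) = (T.obj.map (homOfLE h).op).hom (c V α))
    (hsurj : ∀ (V : S.Opens) (t : T.obj.obj (op V)) (y : S), y ∈ V →
      ∃ (V' : S.Opens) (h : V' ≤ V), y ∈ V' ∧ ∃ α : HE (ab' M) q (f ⁻¹ᵁ V'),
        c V' α = (T.obj.map (homOfLE h).op).hom t)
    (hinj : ∀ (V : S.Opens) (α : HE (ab' M) q (f ⁻¹ᵁ V)), c V α = 0 → ∀ y : S, y ∈ V →
      ∃ (V' : S.Opens) (h : V' ≤ V), y ∈ V' ∧ resE (ab' M) q (f.preimage_mono h) α = 0) :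
    Function.Bijective (c ⊤) := by
  have htop : S.basicOpen (1 : Γ(S, ⊤)) = ⊤ := Scheme.basicOpen_of_isUnit S isUnit_one
  have hmapmap : ∀ (V V' V'' : S.Opens) (h : V' ≤ V) (h' : V'' ≤ V') (t : T.obj.obj (op V)),
      (T.obj.map (homOfLE h').op).hom ((T.obj.map (homOfLE h).op).hom t) =
        (T.obj.map (homOfLE (h'.trans h)).op).hom t := by
    intro V V' V'' h h' t
    rw [← AddCommGrpCat.comp_apply, ← T.obj.map_comp]
    rfl
  constructor
  · rw [injective_iff_map_eq_zero]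
    intro α hα
    exact sep f M q ⊤ 1 htop.symm α (fun y hy => hinj ⊤ α hα y hy)
  · intro s
    have h1 : ∀ y : S, ∃ V' : S.Opens, y ∈ V' ∧ ∃ β : HE (ab' M) q (f ⁻¹ᵁ V'),
        c V' β = (T.obj.map (homOfLE (le_top : V' ≤ ⊤)).op).hom s := by
      intro y
      obtain ⟨V', h, hy, β, hβ⟩ := hsurj ⊤ s y trivial
      exact ⟨V', hy, β, hβ⟩
    choose 𝒱 hy𝒱 β₀ hβ₀ using h1
    obtain ⟨r, a, pt, -, ha, hcov, hrad⟩ := exists_finite_cover (1 : Γ(S, ⊤)) 𝒱 (fun y _ => hy𝒱 y)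
    have hspan : Ideal.span (Set.range fun k => f.appTop.hom (a k)) = ⊤ := by
      have := map_mem_radical_span f.appTop.hom a 1 hrad
      rw [map_one] at this
      exact (Ideal.radical_eq_top).1 ((Ideal.eq_top_iff_one _).2 this)
    obtain ⟨D, hD⟩ : ∃ D : Fin r → S.Opens, ∀ k, D k = S.basicOpen (a k) := ⟨_, fun _ => rfl⟩
    have hD𝒱 : ∀ k, D k ≤ 𝒱 (pt k) := fun k => by
      rw [hD k]
      exact (ha k).trans inf_le_right
    obtain ⟨β, hβdef⟩ : ∃ β : ∀ k, HE (ab' M) q (f ⁻¹ᵁ D k),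
        ∀ k, β k = resE (ab' M) q (f.preimage_mono (hD𝒱 k)) (β₀ (pt k)) := ⟨_, fun _ => rfl⟩
    have hcβ : ∀ k, c (D k) (β k) = (T.obj.map (homOfLE (le_top : D k ≤ ⊤)).op).hom s := by
      intro k
      rw [hβdef k, hnat _ _ (hD𝒱 k), hβ₀, hmapmap]
    have hDinf : ∀ k l, D k ⊓ D l = S.basicOpen (a k * a l) := by
      intro k l
      rw [hD k, hD l, Scheme.basicOpen_mul]
    -- compatibility on overlaps
    have hcompat : ∀ k l, resE (ab' M) q (f.preimage_mono (inf_le_left : D k ⊓ D l ≤ D k)) (β k) =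
        resE (ab' M) q (f.preimage_mono (inf_le_right : D k ⊓ D l ≤ D l)) (β l) := by
      intro k l
      rw [← sub_eq_zero]
      have hγ : c (D k ⊓ D l) (resE (ab' M) q (f.preimage_mono (inf_le_left : D k ⊓ D l ≤ D k)) (β k) -
          resE (ab' M) q (f.preimage_mono (inf_le_right : D k ⊓ D l ≤ D l)) (β l)) = 0 := by
        rw [map_sub, hnat (D k) (D k ⊓ D l) inf_le_left (β k), hnat (D l) (D k ⊓ D l) inf_le_right (β l),
          hcβ k, hcβ l, hmapmap, hmapmap, sub_self]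
      exact sep f M q (D k ⊓ D l) (a k * a l) (hDinf k l) _ (fun y hy => hinj _ _ hγ y hy)
    -- glue
    have hpre : ∀ k, f ⁻¹ᵁ D k ≤ X.basicOpen (f.appTop.hom (a k)) := by
      intro k
      rw [hD k]
      exact (preimage_basicOpen_eq f (a k)).le
    obtain ⟨x, hx⟩ := exists_glue (R := Γ(X, ⊤)) (N := HM M q (f ⁻¹ᵁ ⊤))
      (P := fun k => HM M q (f ⁻¹ᵁ D k)) (Q := fun k l => HM M q (f ⁻¹ᵁ (D k ⊓ D l)))
      (fun k => f.appTop.hom (a k)) hspan
      (fun k => rL M (f.preimage_mono (le_top : D k ≤ ⊤)) q)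
      (fun k l => rL M (f.preimage_mono (inf_le_left : D k ⊓ D l ≤ D k)) q)
      (fun k l => rL M (f.preimage_mono (inf_le_right : D k ⊓ D l ≤ D l)) q)
      (fun k l x => by
        change resE (ab' M) q _ (resE (ab' M) q _ x) = resE (ab' M) q _ (resE (ab' M) q _ x)
        rw [resE_resE, resE_resE])
      (fun k => (bijective_smul_HM M _ _ (hpre k) q).1)
      (fun k => cokerTors_res f M q ⊤ (D k) le_top isCompact_univ (a k) (by rw [top_inf_eq, hD k]))
      (fun k l => by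
        have h1 := kerTors_res f M q ⊤ (D k ⊓ D l) le_top isCompact_univ (a k * a l)
          (by rw [top_inf_eq, hDinf k l])
        rw [map_mul] at h1
        intro p hp
        apply h1 p
        rw [← hp]
        change resE (ab' M) q _ p = resE (ab' M) q _ (resE (ab' M) q _ p)
        rw [resE_resE])
      β hcompat
    refine ⟨x, ?_⟩
    refine TopCat.Sheaf.eq_of_locally_eq' T D ⊤ (fun k => homOfLE le_top) ?_ _ _ (fun k => ?_)
    · rw [← htop]
      refine hcov.trans (le_of_eq ?_)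
      congr 1
      funext k
      exact (hD k).symm
    · have h2 := hnat ⊤ (D k) le_top x
      have h3 : resE (ab' M) q (f.preimage_mono (le_top : D k ≤ ⊤)) x = β k := hx k
      rw [h3, hcβ k] at h2
      exact h2.symm

end main

end Groth.Agent.Lib.T2H5.RpushSect
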