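import Mathlib
import Groth.Agent.Lib.T2H5RestrOpen
import Groth.Agent.Lib.T2H5RpushSect

/-!
# Sections of higher direct images over affine opens of the base (helper5)

Namespace `Groth.Agent.Lib.T2H5.RpushAffine`.

`bijective_comparison_affineOpen`: for a quasi-compact quasi-separated morphism `f : X ⟶ S`, a quasi-coherent module
`M` on `X`, an abelian sheaf `T` on `S` and a natural, locally surjective, locally injective comparison
`c V : H^q(f⁻¹V, M) → T(V)`, the map `c V₀` is bijective for every affine open `V₀` of `S`.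
-/

set_option autoImplicit false
set_option linter.style.haveILetI false
set_option linter.unusedSectionVars false
universe u
open CategoryTheory CategoryTheory.Limits Opposite TopologicalSpace AlgebraicGeometry Abelian

namespace Groth.Agent.Lib.T2H5.RpushAffine

open Groth.Agent.Lib.Helper23.AffVanish Groth.Agent.Lib.Helper16.ClosedEmb
open Groth.Agent.Lib.T2H5.RestrOpen Groth.Agent.Lib.T2H5.RpushSect

section top

variable {Y : TopCat.{u}}

theorem resE_bijective_of_eq (F : CohTop.Ab Y) (n : ℕ) {W W' : Opens Y} (h : W' ≤ W) (e : W' = W) :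
    Function.Bijective (resE F n h) := by
  subst e
  have : (resE F n h : HE F n W' → HE F n W') = id := by
    funext x
    exact resE_self F n x
  rw [this]
  exact Function.bijective_id

theorem map_bijective_of_eq (T : CohTop.Ab Y) {W W' : Opens Y} (h : W' ≤ W) (e : W' = W) :
    Function.Bijective (T.obj.map (homOfLE h).op).hom := by
  subst e
  have : (homOfLE h : W' ⟶ W') = 𝟙 _ := Subsingleton.elim _ _
  rw [this]
  simp only [op_id, CategoryTheory.Functor.map_id]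
  exact Function.bijective_id

end top

variable {X S : Scheme.{u}} (f : X ⟶ S) [QuasiCompact f] [QuasiSeparated f]
  (M : X.Modules) [M.IsQuasicoherent] (q : ℕ)

section transport

variable (V₀ : S.Opens)

theorem img_preimage_eq (V' : (↑V₀ : Scheme.{u}).Opens) :
    img (X := X.carrier) (f ⁻¹ᵁ V₀) ((f ∣_ V₀) ⁻¹ᵁ V') = f ⁻¹ᵁ (img (X := S.carrier) V₀ V') :=
  image_morphismRestrict_preimage f V₀ V'

/-- the transport `H^q(f⁻¹(img V'), M) → H^q((f|_{V₀})⁻¹ V', M|)` -/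
noncomputable def ψ (V' : (↑V₀ : Scheme.{u}).Opens) :
    HE (ab' M) q (f ⁻¹ᵁ (img (X := S.carrier) V₀ V')) →+
      HE (ab' (M.restrict (f ⁻¹ᵁ V₀).ι)) q ((f ∣_ V₀) ⁻¹ᵁ V') :=
  (eW (X := X.carrier) (f ⁻¹ᵁ V₀) (ab' M) q ((f ∣_ V₀) ⁻¹ᵁ V')).comp
    (resE (ab' M) q (img_preimage_eq f V₀ V').le)

theorem ψ_bijective (V' : (↑V₀ : Scheme.{u}).Opens) : Function.Bijective (ψ f M q V₀ V') :=
  (eW_bijective (X := X.carrier) (f ⁻¹ᵁ V₀) (ab' M) q ((f ∣_ V₀) ⁻¹ᵁ V')).comp
    (resE_bijective_of_eq (ab' M) q _ (img_preimage_eq f V₀ V'))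

theorem ψ_resE {V' V'' : (↑V₀ : Scheme.{u}).Opens} (h : V'' ≤ V')
    (α : HE (ab' M) q (f ⁻¹ᵁ (img (X := S.carrier) V₀ V'))) :
    ψ f M q V₀ V'' (resE (ab' M) q
        (f.preimage_mono ((V₀.isOpenEmbedding.isOpenMap.functor).monotone h)) α) =
      resE (ab' (M.restrict (f ⁻¹ᵁ V₀).ι)) q ((f ∣_ V₀).preimage_mono h) (ψ f M q V₀ V' α) := by
  change eW (X := X.carrier) (f ⁻¹ᵁ V₀) (ab' M) q ((f ∣_ V₀) ⁻¹ᵁ V'') (resE (ab' M) q _ (resE (ab' M) q _ α)) =
    resE _ q _ (eW (X := X.carrier) (f ⁻¹ᵁ V₀) (ab' M) q ((f ∣_ V₀) ⁻¹ᵁ V') (resE (ab' M) q _ α))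
  rw [← eW_resE (X := X.carrier) (f ⁻¹ᵁ V₀) (ab' M) q ((f ∣_ V₀).preimage_mono h), resE_resE, resE_resE]

end transport

/-- **Sections of higher direct images over affine opens.** -/
theorem bijective_comparison_affineOpen (T : CohTop.Ab S.carrier)
    (c : ∀ V : S.Opens, HE (ab' M) q (f ⁻¹ᵁ V) →+ T.obj.obj (op V))
    (hnat : ∀ (V V' : S.Opens) (h : V' ≤ V) (α : HE (ab' M) q (f ⁻¹ᵁ V)),
      c V' (resE (ab' M) q (f.preimage_mono h) α) = (T.obj.map (homOfLE h).op).hom (c V α))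
    (hsurj : ∀ (V : S.Opens) (t : T.obj.obj (op V)) (y : S), y ∈ V →
      ∃ (V' : S.Opens) (h : V' ≤ V), y ∈ V' ∧ ∃ α : HE (ab' M) q (f ⁻¹ᵁ V'),
        c V' α = (T.obj.map (homOfLE h).op).hom t)
    (hinj : ∀ (V : S.Opens) (α : HE (ab' M) q (f ⁻¹ᵁ V)), c V α = 0 → ∀ y : S, y ∈ V →
      ∃ (V' : S.Opens) (h : V' ≤ V), y ∈ V' ∧ resE (ab' M) q (f.preimage_mono h) α = 0)
    (V₀ : S.Opens) (hV₀ : IsAffineOpen V₀) : Function.Bijective (c V₀) := by
  haveI : IsAffine (↑V₀ : Scheme.{u}) := hV₀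
  haveI : (M.restrict (f ⁻¹ᵁ V₀).ι).IsQuasicoherent :=
    Scheme.Modules.isQuasicoherent_restrictFunctor (f ⁻¹ᵁ V₀).ι M
  set T' : CohTop.Ab (↑V₀ : Scheme.{u}).carrier := (CohTop.restrFunctor (X := S.carrier) V₀).obj T with hT'
  -- the transported comparison
  let Ψ : ∀ V' : (↑V₀ : Scheme.{u}).Opens, HE (ab' M) q (f ⁻¹ᵁ (img (X := S.carrier) V₀ V')) ≃+
      HE (ab' (M.restrict (f ⁻¹ᵁ V₀).ι)) q ((f ∣_ V₀) ⁻¹ᵁ V') :=
    fun V' => AddEquiv.ofBijective (ψ f M q V₀ V') (ψ_bijective f M q V₀ V')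
  let c' : ∀ V' : (↑V₀ : Scheme.{u}).Opens, HE (ab' (M.restrict (f ⁻¹ᵁ V₀).ι)) q ((f ∣_ V₀) ⁻¹ᵁ V') →+
      T'.obj.obj (op V') := fun V' => (c (img (X := S.carrier) V₀ V')).comp (Ψ V').symm.toAddMonoidHom
  have hc' : ∀ V' (α : HE (ab' M) q (f ⁻¹ᵁ (img (X := S.carrier) V₀ V'))),
      c' V' (ψ f M q V₀ V' α) = c (img (X := S.carrier) V₀ V') α := by
    intro V' α
    change c (img (X := S.carrier) V₀ V') ((Ψ V').symm (Ψ V' α)) = _
    rw [AddEquiv.symm_apply_apply]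
  have hmapmap : ∀ (V V' V'' : S.Opens) (h : V' ≤ V) (h' : V'' ≤ V') (t : T.obj.obj (op V)),
      (T.obj.map (homOfLE h').op).hom ((T.obj.map (homOfLE h).op).hom t) =
        (T.obj.map (homOfLE (h'.trans h)).op).hom t := by
    intro V V' V'' h h' t
    rw [← AddCommGrpCat.comp_apply, ← T.obj.map_comp]
    rfl
  have hb' : Function.Bijective (c' ⊤) := by
    refine bijective_comparison (f ∣_ V₀) (M.restrict (f ⁻¹ᵁ V₀).ι) q T' c' ?_ ?_ ?_
    · -- naturality
      intro V' V'' h β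
      obtain ⟨α, rfl⟩ := (ψ_bijective f M q V₀ V').2 β
      rw [← ψ_resE f M q V₀ h α, hc', hc', hnat]
      rfl
    · -- local surjectivity
      intro V' t y hy
      obtain ⟨V₁, hV₁, hyV₁, α, hα⟩ := hsurj (img (X := S.carrier) V₀ V') t y.1 ⟨y, hy, rfl⟩
      let V'' : (↑V₀ : Scheme.{u}).Opens := (Opens.map (jU (X := S.carrier) V₀)).obj V₁
      have hV''V' : V'' ≤ V' := by
        intro z hz
        obtain ⟨z', hz', hzz'⟩ := hV₁ (show z.1 ∈ V₁ from hz)
        have : z' = z := Subtype.ext hzz'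
        rw [← this]
        exact hz'
      have himg : img (X := S.carrier) V₀ V'' ≤ V₁ := img_map_le V₀ V₁
      refine ⟨V'', hV''V', hyV₁, ψ f M q V₀ V'' (resE (ab' M) q (f.preimage_mono himg) α), ?_⟩
      rw [hc', hnat _ _ himg α, hα, hmapmap]
      rfl
    · -- local injectivity
      intro V' β hβ y hy
      obtain ⟨α, rfl⟩ := (ψ_bijective f M q V₀ V').2 β
      rw [hc'] at hβ
      obtain ⟨V₁, hV₁, hyV₁, hα⟩ := hinj (img (X := S.carrier) V₀ V') α hβ y.1 ⟨y, hy, rfl⟩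
      let V'' : (↑V₀ : Scheme.{u}).Opens := (Opens.map (jU (X := S.carrier) V₀)).obj V₁
      have hV''V' : V'' ≤ V' := by
        intro z hz
        obtain ⟨z', hz', hzz'⟩ := hV₁ (show z.1 ∈ V₁ from hz)
        have : z' = z := Subtype.ext hzz'
        rw [← this]
        exact hz'
      have himg : img (X := S.carrier) V₀ V'' ≤ V₁ := img_map_le V₀ V₁
      refine ⟨V'', hV''V', hyV₁, ?_⟩
      rw [← ψ_resE f M q V₀ hV''V' α,
        ← resE_resE (ab' M) q (f.preimage_mono hV₁) (f.preimage_mono himg) α, hα, map_zero, map_zero]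
  -- back to `V₀`
  have himgtop : img (X := S.carrier) V₀ ⊤ = V₀ := Groth.Agent.Lib.Helper16.Restr.img_top V₀
  have h1 : Function.Bijective (c (img (X := S.carrier) V₀ ⊤)) := by
    have h2 : (c (img (X := S.carrier) V₀ ⊤) : _ → _) = (c' ⊤) ∘ (ψ f M q V₀ ⊤) := by
      funext α
      exact (hc' ⊤ α).symm
    rw [h2]
    exact hb'.comp (ψ_bijective f M q V₀ ⊤)
  have h3 : ∀ α : HE (ab' M) q (f ⁻¹ᵁ V₀), c (img (X := S.carrier) V₀ ⊤)
      (resE (ab' M) q (f.preimage_mono himgtop.le) α) =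
      (T.obj.map (homOfLE himgtop.le).op).hom (c V₀ α) := fun α => hnat _ _ himgtop.le α
  have h4 : Function.Bijective ((T.obj.map (homOfLE himgtop.le).op).hom ∘ (c V₀)) := by
    have : ((T.obj.map (homOfLE himgtop.le).op).hom ∘ (c V₀) : _ → _) =
        (c (img (X := S.carrier) V₀ ⊤)) ∘ (resE (ab' M) q (f.preimage_mono himgtop.le)) := by
      funext α
      exact (h3 α).symm
    rw [this]
    exact h1.comp (resE_bijective_of_eq (ab' M) q _ (by rw [himgtop]))
  exact (Function.Bijective.of_comp_iff' (map_bijective_of_eq T himgtop.le himgtop) _).1 h4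

end Groth.Agent.Lib.T2H5.RpushAffine
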