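import Mathlib
import Groth.Agent.Lib.Helper23SerreRel
import Groth.Agent.Lib.Helper20OmegaAff
import Groth.Agent.Lib.Helper20IdealModSec
import Groth.Agent.Lib.T2H5LocQS

/-!
# The relative Serre criterion without quasi-compactness of the open immersion (helper5)

Namespace `Groth.Agent.Lib.T2H5.SerreRelGen`.

Let `U` be a quasi-compact open of a scheme `X` such that `H¹(U, I) = 0` for every quasi-coherent ideal `I` of
`O_X` (`HypU U`).  Then `U` is affine (`isAffineOpen_of_hypU`).  The proof only uses ideals of `O_X` itself (no extension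
of ideals from `U` to `X`): cover `U` by finitely many affine opens `W_j`, let `K_j` be the radical ideal of `X ∖ W_j`;
the sum map `⊕ K_j → O_X` is surjective over `U`, every quasi-coherent submodule of `⊕ K_j` has vanishing `H¹` over `U`,
so `1 = Σ s_j` with `s_j ∈ Γ(U, K_j)`, and `U_{s_j} ⊆ W_j` is affine.
-/

set_option autoImplicit false
set_option linter.style.haveILetI false
set_option linter.unusedSectionVars false
universe u
open CategoryTheory CategoryTheory.Limits Opposite TopologicalSpace AlgebraicGeometry Abelian ZeroObject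

namespace Groth.Agent.Lib.T2H5.SerreRelGen

open Groth.Agent.Lib.Helper23.AffVanish Groth.Agent.Lib.Helper23.QCohLocal
open Groth.Agent.Lib.Helper23.GenLocus Groth.Agent.Lib.Helper23.Serre
open Groth.Agent.Lib.Helper20.IdealModSec

variable {X : Scheme.{u}} (U : X.Opens)

/-- `H¹(U, I) = 0` for every quasi-coherent ideal `I` of `O_X`. -/
def HypU : Prop :=
  ∀ (I : X.Modules) (i : I ⟶ Coh.structureModule X), Mono i → I.IsQuasicoherent →
    Subsingleton (HE (ab' I) 1 U)

/-- every quasi-coherent subobject of `M` has vanishing `H¹` over `U` -/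
def SubVanishU (M : X.Modules) : Prop :=
  ∀ (K : X.Modules) (ι : K ⟶ M), Mono ι → K.IsQuasicoherent → Subsingleton (HE (ab' K) 1 U)

theorem subVanishU_of_mono (h : HypU U) (M : X.Modules) (i : M ⟶ Coh.structureModule X) [Mono i] :
    SubVanishU U M := by
  intro K ι hι hK
  exact h K (ι ≫ i) (mono_comp _ _) hK

theorem subVanishU_biprod (M N : X.Modules) [M.IsQuasicoherent] [N.IsQuasicoherent] (hM : SubVanishU U M)
    (hN : SubVanishU U N) : SubVanishU U (M ⊞ N) := by
  intro K ι hι hK
  let p : K ⟶ N := ι ≫ biprod.snd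
  let K' : X.Modules := kernel p
  let ι' : K' ⟶ K := kernel.ι p
  let C : X.Modules := cokernel p
  let π : N ⟶ C := cokernel.π p
  let K'' : X.Modules := kernel π
  let j : K'' ⟶ N := kernel.ι π
  let q : K ⟶ K'' := kernel.lift π p (cokernel.condition p)
  have hq : q = Abelian.factorThruImage p := rfl
  have hqe : Epi q := by rw [hq]; infer_instance
  have hqj : q ≫ j = p := kernel.lift_ι _ _ _
  have hK' : K'.IsQuasicoherent := isQuasicoherent_kernel p
  have hC : C.IsQuasicoherent := isQuasicoherent_cokernel p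
  have hK'' : K''.IsQuasicoherent := isQuasicoherent_kernel π
  have hmono : Mono (ι' ≫ ι ≫ biprod.fst) := by
    apply Preadditive.mono_of_cancel_zero
    intro P g hg
    have h2 : g ≫ ι' ≫ ι ≫ biprod.snd = 0 := by
      have : ι' ≫ p = 0 := kernel.condition p
      change g ≫ ι' ≫ p = 0
      rw [this, comp_zero]
    have h3 : (g ≫ ι') ≫ ι = 0 := by
      apply biprod.hom_ext
      · simpa using hg
      · simpa using h2
    have h4 : g ≫ ι' = 0 := by
      rw [← cancel_mono ι, h3, zero_comp]
    have hι' : Mono ι' := inferInstanceAs (Mono (kernel.ι p))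
    rw [← cancel_mono ι', h4, zero_comp]
  have v1 := hM K' (ι' ≫ ι ≫ biprod.fst) hmono hK'
  have hj : Mono j := inferInstanceAs (Mono (kernel.ι π))
  have v2 := hN K'' j hj hK''
  have hzero : ι' ≫ q = 0 := by
    rw [← cancel_mono j, Category.assoc, hqj, zero_comp]
    exact kernel.condition p
  let S : ShortComplex X.Modules := ShortComplex.mk ι' q hzero
  let S₀ : ShortComplex X.Modules := ShortComplex.mk ι' p (kernel.condition p)
  have hS₀ : S₀.Exact := ShortComplex.exact_kernel p
  let φ : S ⟶ S₀ := { τ₁ := 𝟙 _, τ₂ := 𝟙 _, τ₃ := j, comm₁₂ := by simp [S, S₀], comm₂₃ := by simp [S, S₀, hqj] }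
  have hSe : S.Exact := by
    have : Epi φ.τ₁ := inferInstanceAs (Epi (𝟙 _))
    have : IsIso φ.τ₂ := inferInstanceAs (IsIso (𝟙 _))
    have : Mono φ.τ₃ := hj
    exact (ShortComplex.exact_iff_of_epi_of_isIso_of_mono φ).2 hS₀
  have hS : S.ShortExact :=
    { exact := hSe
      mono_f := inferInstanceAs (Mono (kernel.ι p))
      epi_g := hqe }
  exact subsingleton_HE_of_shortExact S hS 1 U v1 v2

/-- the direct sum of the ideal modules of a list of ideal sheaves -/
noncomputable def Pn : List X.IdealSheafData → X.Modules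
  | [] => 0
  | J :: l => ClSub.idealMod J ⊞ Pn l

/-- the sum map `⊕ K_j → O_X` -/
noncomputable def psi : (l : List X.IdealSheafData) → (Pn l ⟶ Coh.structureModule X)
  | [] => 0
  | J :: l => biprod.desc (ClSub.idealModι J) (psi l)

theorem isQuasicoherent_zero : (0 : X.Modules).IsQuasicoherent := by
  have := isQuasicoherent_structureModule' X
  have h : (kernel (𝟙 (Coh.structureModule X))).IsQuasicoherent := isQuasicoherent_kernel _
  have hz : IsZero (kernel (𝟙 (Coh.structureModule X))) := by
    rw [IsZero.iff_id_eq_zero, ← cancel_mono (kernel.ι (𝟙 (Coh.structureModule X))), zero_comp,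
      Category.id_comp]
    have h1 := kernel.condition (𝟙 (Coh.structureModule X))
    rwa [Category.comp_id] at h1
  exact (SheafOfModules.isQuasicoherent X.ringCatSheaf).prop_of_iso (hz.iso (isZero_zero _)) h

theorem isQuasicoherent_Pn (l : List X.IdealSheafData) : (Pn l).IsQuasicoherent := by
  induction l with
  | nil => exact isQuasicoherent_zero
  | cons J l ih =>
    have := Groth.Agent.Lib.Helper20.OmegaAff.isQuasicoherent_idealMod J
    exact isQuasicoherent_biprod (ClSub.idealMod J) (Pn l)

theorem subVanishU_Pn (h : HypU U) (l : List X.IdealSheafData) : SubVanishU U (Pn l) := by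
  induction l with
  | nil =>
    have : Mono (0 : (0 : X.Modules) ⟶ Coh.structureModule X) := by
      apply Preadditive.mono_of_cancel_zero
      intro P g _
      exact (isZero_zero _).eq_of_tgt _ _
    exact subVanishU_of_mono U h (0 : X.Modules) 0
  | cons J l ih =>
    have := Groth.Agent.Lib.Helper20.OmegaAff.isQuasicoherent_idealMod J
    have := isQuasicoherent_Pn l
    exact subVanishU_biprod U (ClSub.idealMod J) (Pn l)
      (subVanishU_of_mono U h (ClSub.idealMod J) (ClSub.idealModι J)) ih

/-- the set of functions on `V` which are sections of one of the ideals of the list -/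
def gens (l : List X.IdealSheafData) (V : X.Opens) : Set Γ(X, V) :=
  {a | ∃ J ∈ l, ∃ s : Γ(ClSub.idealMod J, V), ofS V ((ClSub.idealModι J).app V s) = a}

theorem psi_app_mem (l : List X.IdealSheafData) (V : X.Opens) (s : Γ(Pn l, V)) :
    ofS V ((psi l).app V s) ∈ Ideal.span (gens l V) := by
  induction l with
  | nil =>
    have : (psi ([] : List X.IdealSheafData)).app V s = 0 := by
      change (0 : Pn ([] : List X.IdealSheafData) ⟶ Coh.structureModule X).app V s = 0
      rw [Scheme.Modules.Hom.zero_app]
      rfl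
    rw [this]
    exact Ideal.zero_mem _
  | cons J l ih =>
    let a : Γ(ClSub.idealMod J, V) := (biprod.fst : ClSub.idealMod J ⊞ Pn l ⟶ _).app V s
    let b : Γ(Pn l, V) := (biprod.snd : ClSub.idealMod J ⊞ Pn l ⟶ _).app V s
    have h1 : (psi (J :: l)).app V s = (ClSub.idealModι J).app V a + (psi l).app V b := by
      change (biprod.desc (ClSub.idealModι J) (psi l)).app V s = _
      rw [biprod.desc_eq, Scheme.Modules.Hom.add_app, Scheme.Modules.Hom.comp_app,
        Scheme.Modules.Hom.comp_app]
      rfl
    have h3 : ofS V ((psi (J :: l)).app V s) =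
        ofS V ((ClSub.idealModι J).app V a) + ofS V ((psi l).app V b) := by
      rw [h1]
      rfl
    rw [h3]
    apply Ideal.add_mem
    · exact Ideal.subset_span ⟨J, List.mem_cons_self, a, rfl⟩
    · refine Ideal.span_mono ?_ (ih b)
      rintro g ⟨J', hJ', s', hs'⟩
      exact ⟨J', List.mem_cons_of_mem J hJ', s', hs'⟩

/-- away from the support of `J`, every function is a section of the ideal module of `J` -/
theorem exists_ι_eq_of_disjoint (J : X.IdealSheafData) (V : X.Opens)
    (hV : ∀ x ∈ V, x ∉ J.support) (a : Γ(X, V)) :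
    ∃ s : Γ(ClSub.idealMod J, V), (ClSub.idealModι J).app V s = toS V a := by
  apply exists_eq_ι
  have hbot : J.subschemeι ⁻¹ᵁ V = ⊥ := by
    ext z
    simp only [Opens.coe_bot, Set.mem_empty_iff_false, iff_false]
    intro hz
    apply hV _ hz
    have : J.subschemeι z ∈ Set.range J.subschemeι := ⟨z, rfl⟩
    rw [J.range_subschemeι] at this
    exact this
  have hss : Subsingleton Γ(J.subscheme, J.subschemeι ⁻¹ᵁ V) := by
    rw [hbot]
    infer_instance
  change ((J.subschemeι.app V).hom a : Γ(J.subscheme, J.subschemeι ⁻¹ᵁ V)) = 0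
  exact Subsingleton.elim _ _

theorem psi_locally_one (l : List X.IdealSheafData) (y : X) (hy : ∃ J ∈ l, y ∉ J.support)
    (V : X.Opens) (hyV : y ∈ V) :
    ∃ (V' : X.Opens) (_ : V' ≤ V), y ∈ V' ∧ ∃ s : Γ(Pn l, V'), (psi l).app V' s = toS V' 1 := by
  induction l with
  | nil =>
    obtain ⟨J, hJ, -⟩ := hy
    exact absurd hJ (List.not_mem_nil)
  | cons J l ih =>
    by_cases hyJ : y ∉ J.support
    · let W : X.Opens := ⟨(J.support : Set X)ᶜ, J.support.isClosed.isOpen_compl⟩
      refine ⟨V ⊓ W, inf_le_left, ⟨hyV, hyJ⟩, ?_⟩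
      obtain ⟨s, hs⟩ := exists_ι_eq_of_disjoint J (V ⊓ W) (fun x hx => hx.2) 1
      refine ⟨(biprod.inl : _ ⟶ ClSub.idealMod J ⊞ Pn l).app _ s, ?_⟩
      have h0 : (biprod.inl : _ ⟶ ClSub.idealMod J ⊞ Pn l) ≫ psi (J :: l) = ClSub.idealModι J :=
        biprod.inl_desc _ _
      rw [← hs]
      exact congrArg (fun φ : ClSub.idealMod J ⟶ Coh.structureModule X => φ.app (V ⊓ W) s) h0
    · have hy' : ∃ J' ∈ l, y ∉ J'.support := by
        obtain ⟨J', hJ', hyJ'⟩ := hy
        rcases List.mem_cons.1 hJ' with rfl | hJ''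
        · exact absurd hyJ' hyJ
        · exact ⟨J', hJ'', hyJ'⟩
      obtain ⟨V', hle, hyV', s, hs⟩ := ih hy'
      refine ⟨V', hle, hyV', (biprod.inr : _ ⟶ ClSub.idealMod J ⊞ Pn l).app _ s, ?_⟩
      have h0 : (biprod.inr : _ ⟶ ClSub.idealMod J ⊞ Pn l) ≫ psi (J :: l) = psi l :=
        biprod.inr_desc _ _
      rw [← hs]
      exact congrArg (fun φ : Pn l ⟶ Coh.structureModule X => φ.app V' s) h0

theorem app_res {M N : X.Modules} (φ : M ⟶ N) {V V' : X.Opens} (h : V' ≤ V) (a : Γ(M, V)) :
    φ.app V' (M.presheaf.map (homOfLE h).op a) = N.presheaf.map (homOfLE h).op (φ.app V a) :=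
  congr($((Scheme.Modules.Hom.mapPresheaf φ).naturality (homOfLE h).op) a)

open Groth.Agent.Lib.Helper20.StalkExact in
/-- sections of a kernel are the sections killed by the morphism -/
theorem exists_kernel_section {M N : X.Modules} (φ : M ⟶ N) (V : X.Opens) (a : Γ(M, V))
    (ha : φ.app V a = 0) : ∃ j : Γ(kernel φ, V), (kernel.ι φ).app V j = a := by
  let E : ShortComplex X.Modules := ShortComplex.mk (kernel.ι φ) φ (kernel.condition _)
  have hE : E.Exact := ShortComplex.exact_of_f_is_kernel E (kernelIsKernel φ)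
  haveI : Mono E.f := inferInstanceAs (Mono (kernel.ι φ))
  haveI : (secF (X := X) V).PreservesZeroMorphisms := ⟨fun _ _ => rfl⟩
  have h1 : (E.map (secF V)).Exact :=
    hE.map_of_mono_of_preservesKernel (secF V) inferInstance inferInstance
  rw [ShortComplex.ab_exact_iff] at h1
  exact h1 a ha

/-- a section which vanishes locally vanishes -/
theorem eq_zero_of_locally (N : X.Modules) (V : X.Opens) (c : Γ(N, V))
    (h : ∀ y ∈ V, ∃ (V' : X.Opens) (hle : V' ≤ V), y ∈ V' ∧ N.presheaf.map (homOfLE hle).op c = 0) :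
    c = 0 := by
  choose V' hle hy hc using h
  refine TopCat.Sheaf.eq_of_locally_eq' ⟨N.presheaf, N.isSheaf⟩
    (fun y : V => V' y.1 y.2) V (fun y => homOfLE (hle y.1 y.2)) ?_ c 0 ?_
  · intro x hx
    exact Opens.mem_iSup.mpr ⟨⟨x, hx⟩, hy x hx⟩
  · intro y
    rw [map_zero]
    exact hc y.1 y.2

theorem exists_image_section (l : List X.IdealSheafData)
    (hl : ∀ y ∈ U, ∃ J ∈ l, y ∉ J.support) :
    ∃ t : Γ(Abelian.image (psi l), U), (Abelian.image.ι (psi l)).app U t = toS U 1 := by
  apply exists_kernel_section (cokernel.π (psi l)) U (toS U 1)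
  apply eq_zero_of_locally
  intro y hy
  obtain ⟨V', hle, hyV', s, hs⟩ := psi_locally_one l y (hl y hy) U hy
  refine ⟨V', hle, hyV', ?_⟩
  rw [← app_res, map_toS, map_one, ← hs]
  have h0 : psi l ≫ cokernel.π (psi l) = 0 := cokernel.condition _
  have h1 := congrArg (fun φ : Pn l ⟶ cokernel (psi l) => φ.app V' s) h0
  refine h1.trans ?_
  change (0 : Pn l ⟶ cokernel (psi l)).app V' s = 0
  rw [Scheme.Modules.Hom.zero_app]
  rfl

theorem one_mem_span (h : HypU U) (l : List X.IdealSheafData)
    (hl : ∀ y ∈ U, ∃ J ∈ l, y ∉ J.support) : (1 : Γ(X, U)) ∈ Ideal.span (gens l U) := by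
  obtain ⟨t, ht⟩ := exists_image_section U l hl
  have := isQuasicoherent_structureModule' X
  have := isQuasicoherent_Pn l
  let S : ShortComplex X.Modules :=
    ShortComplex.mk (kernel.ι (psi l)) (Abelian.factorThruImage (psi l)) (by
      rw [← cancel_mono (Abelian.image.ι (psi l)), Category.assoc, Abelian.image.fac, zero_comp]
      exact kernel.condition _)
  have hS : S.ShortExact :=
    { exact := by
        let S₀ : ShortComplex X.Modules :=
          ShortComplex.mk (kernel.ι (psi l)) (psi l) (kernel.condition (psi l))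
        have hS₀ : S₀.Exact := ShortComplex.exact_kernel (psi l)
        let φ : S ⟶ S₀ :=
          { τ₁ := 𝟙 _, τ₂ := 𝟙 _, τ₃ := Abelian.image.ι (psi l)
            comm₁₂ := by simp [S, S₀]
            comm₂₃ := by simp [S, S₀] }
        have : Epi φ.τ₁ := inferInstanceAs (Epi (𝟙 _))
        have : IsIso φ.τ₂ := inferInstanceAs (IsIso (𝟙 _))
        have : Mono φ.τ₃ := inferInstanceAs (Mono (Abelian.image.ι (psi l)))
        exact (ShortComplex.exact_iff_of_epi_of_isIso_of_mono φ).2 hS₀
      mono_f := inferInstanceAs (Mono (kernel.ι (psi l)))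
      epi_g := inferInstanceAs (Epi (Abelian.factorThruImage (psi l))) }
  have hK : (kernel (psi l)).IsQuasicoherent := isQuasicoherent_kernel (psi l)
  have hv : Subsingleton (HE (ab' (kernel (psi l))) 1 U) :=
    subVanishU_Pn U h l (kernel (psi l)) (kernel.ι (psi l)) inferInstance hK
  obtain ⟨s, hs⟩ := surjective_app_of_subsingleton_HE S hS U hv t
  have hs' : (psi l).app U s = toS U 1 := by
    rw [← ht]
    have h0 : Abelian.factorThruImage (psi l) ≫ Abelian.image.ι (psi l) = psi l := Abelian.image.fac _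
    have h1 : (Abelian.factorThruImage (psi l)).app U s = t := hs
    rw [← h1]
    exact (congrArg (fun φ : Pn l ⟶ Coh.structureModule X => φ.app U s) h0).symm
  have hmem := psi_app_mem l U s
  rw [hs'] at hmem
  exact hmem

theorem not_mem_support_of_mem_basicOpen (J : X.IdealSheafData) (V : X.Opens)
    (s : Γ(ClSub.idealMod J, V)) (x : X)
    (hx : x ∈ X.basicOpen (ofS V ((ClSub.idealModι J).app V s))) : x ∉ J.support := by
  intro hxs
  have hxr : x ∈ Set.range J.subschemeι := by
    rw [J.range_subschemeι]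
    exact hxs
  obtain ⟨z, rfl⟩ := hxr
  have h0 : (J.subschemeι.app V).hom (ofS V ((ClSub.idealModι J).app V s)) = 0 :=
    ι_toSubscheme J V s
  have hz : z ∈ J.subschemeι ⁻¹ᵁ (X.basicOpen (ofS V ((ClSub.idealModι J).app V s))) := hx
  rw [Scheme.preimage_basicOpen, h0, Scheme.basicOpen_zero] at hz
  exact hz

open Groth.Agent.Lib.T2H5.LocQS in
theorem exists_mem_of_mem_supList (l : List X.Opens) (y : X) (hy : y ∈ supList l) :
    ∃ V ∈ l, y ∈ V := by
  induction l with
  | nil => exact absurd hy (by simp)
  | cons V l ih =>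
    rw [supList_cons] at hy
    rcases hy with hy | hy
    · exact ⟨V, List.mem_cons_self, hy⟩
    · obtain ⟨V', hV', hyV'⟩ := ih hy
      exact ⟨V', List.mem_cons_of_mem V hV', hyV'⟩

/-- the radical ideal sheaf of the complement of an open -/
noncomputable def Jof (W : X.Opens) : X.IdealSheafData :=
  Scheme.IdealSheafData.vanishingIdeal ⟨(W : Set X)ᶜ, W.isOpen.isClosed_compl⟩

theorem mem_support_Jof (W : X.Opens) (x : X) : x ∈ (Jof W).support ↔ x ∉ W := by
  have h : ((Jof W).support : Set X) = (W : Set X)ᶜ :=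
    Scheme.IdealSheafData.coe_support_vanishingIdeal _
  rw [← SetLike.mem_coe, h]
  rfl

open Groth.Agent.Lib.T2H5.LocQS in
/-- **Serre's criterion for a quasi-compact open `U` of `X`, with ideals of `O_X`.** -/
theorem isAffineOpen_of_hypU (hU : IsCompact (U : Set X)) (h : HypU U) : IsAffineOpen U := by
  obtain ⟨lW, hlW, hsup⟩ := exists_affine_list_of_isCompact U hU
  have hl : ∀ y ∈ U, ∃ J ∈ lW.map Jof, y ∉ J.support := by
    intro y hy
    rw [← hsup] at hy
    obtain ⟨W, hW, hyW⟩ := exists_mem_of_mem_supList lW y hy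
    refine ⟨Jof W, List.mem_map.2 ⟨W, hW, rfl⟩, ?_⟩
    rw [mem_support_Jof]
    exact fun hn => hn hyW
  have h1 := one_mem_span U h (lW.map Jof) hl
  refine isAffineOpen_of_isAffineOpen_basicOpen U (gens (lW.map Jof) U)
    ((Ideal.eq_top_iff_one _).2 h1) ?_
  rintro a ⟨J, hJ, s, rfl⟩
  obtain ⟨W, hW, rfl⟩ := List.mem_map.1 hJ
  set a : Γ(X, U) := ofS U ((ClSub.idealModι (Jof W)).app U s) with ha
  have hle : X.basicOpen a ≤ W := by
    intro x hx
    by_contra hxW
    exact not_mem_support_of_mem_basicOpen (Jof W) U s x hx ((mem_support_Jof W x).2 hxW)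
  have hWU : W ≤ U := (hlW W hW).2
  have hres : X.basicOpen (X.presheaf.map (homOfLE hWU).op a) = X.basicOpen a := by
    rw [Scheme.basicOpen_res]
    exact inf_eq_right.2 hle
  rw [← hres]
  exact (hlW W hW).1.basicOpen _

open Groth.Agent.Lib.Helper23.SerreRel in
/-- **Relative Serre criterion**: a quasi-compact quasi-separated morphism with `R¹f_* I = 0` for all quasi-coherent
ideals `I` of `O_X` is affine. -/
theorem isAffineHom_of_hypRel {Y : Scheme.{u}} (f : X ⟶ Y) [QuasiCompact f] [QuasiSeparated f]
    (h : HypRel f) : IsAffineHom f := by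
  refine ⟨fun V hV => ?_⟩
  apply isAffineOpen_of_hypU
  · exact QuasiCompact.isCompact_preimage (f := f) _ V.isOpen hV.isCompact
  · intro I i hi hI
    exact subsingleton_HE_preimage_of_hypRel f h I i hV

/-! ### Variant: exactness of the direct image on quasi-coherent modules -/

theorem one_mem_span_of_surjective (l : List X.IdealSheafData)
    (hl : ∀ y ∈ U, ∃ J ∈ l, y ∉ J.support)
    (hsurj : Function.Surjective ((Abelian.factorThruImage (psi l)).app U)) :
    (1 : Γ(X, U)) ∈ Ideal.span (gens l U) := by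
  obtain ⟨t, ht⟩ := exists_image_section U l hl
  obtain ⟨s, hs⟩ := hsurj t
  have hs' : (psi l).app U s = toS U 1 := by
    rw [← ht]
    have h0 : Abelian.factorThruImage (psi l) ≫ Abelian.image.ι (psi l) = psi l := Abelian.image.fac _
    rw [← hs]
    exact (congrArg (fun φ : Pn l ⟶ Coh.structureModule X => φ.app U s) h0).symm
  have hmem := psi_app_mem l U s
  rw [hs'] at hmem
  exact hmem

open Groth.Agent.Lib.T2H5.LocQS in
theorem isAffineOpen_of_surjective (hU : IsCompact (U : Set X))
    (hsurj : ∀ l : List X.IdealSheafData,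
      Function.Surjective ((Abelian.factorThruImage (psi l)).app U)) : IsAffineOpen U := by
  obtain ⟨lW, hlW, hsup⟩ := exists_affine_list_of_isCompact U hU
  have hl : ∀ y ∈ U, ∃ J ∈ lW.map Jof, y ∉ J.support := by
    intro y hy
    rw [← hsup] at hy
    obtain ⟨W, hW, hyW⟩ := exists_mem_of_mem_supList lW y hy
    refine ⟨Jof W, List.mem_map.2 ⟨W, hW, rfl⟩, ?_⟩
    rw [mem_support_Jof]
    exact fun hn => hn hyW
  have h1 := one_mem_span_of_surjective U (lW.map Jof) hl (hsurj _)
  refine isAffineOpen_of_isAffineOpen_basicOpen U (gens (lW.map Jof) U)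
    ((Ideal.eq_top_iff_one _).2 h1) ?_
  rintro a ⟨J, hJ, s, rfl⟩
  obtain ⟨W, hW, rfl⟩ := List.mem_map.1 hJ
  set a : Γ(X, U) := ofS U ((ClSub.idealModι (Jof W)).app U s) with ha
  have hle : X.basicOpen a ≤ W := by
    intro x hx
    by_contra hxW
    exact not_mem_support_of_mem_basicOpen (Jof W) U s x hx ((mem_support_Jof W x).2 hxW)
  have hWU : W ≤ U := (hlW W hW).2
  have hres : X.basicOpen (X.presheaf.map (homOfLE hWU).op a) = X.basicOpen a := by
    rw [Scheme.basicOpen_res]
    exact inf_eq_right.2 hle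
  rw [← hres]
  exact (hlW W hW).1.basicOpen _

/-- an epimorphism of quasi-coherent modules is surjective on sections over affine opens -/
theorem surjective_app_of_epi_of_isAffineOpen {Y : Scheme.{u}} {P Q : Y.Modules} [P.IsQuasicoherent]
    [Q.IsQuasicoherent] (π : P ⟶ Q) [Epi π] {V : Y.Opens} (hV : IsAffineOpen V) :
    Function.Surjective (π.app V) := by
  let S : ShortComplex Y.Modules := ShortComplex.mk (kernel.ι π) π (kernel.condition π)
  have hS : S.ShortExact :=
    { exact := ShortComplex.exact_kernel π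
      mono_f := inferInstanceAs (Mono (kernel.ι π))
      epi_g := inferInstanceAs (Epi π) }
  have : (kernel π).IsQuasicoherent := isQuasicoherent_kernel π
  exact surjective_app_of_subsingleton_HE S hS V (subsingleton_HE_of_isAffineOpen hV (kernel π) 0)

/-- **(b) ⇒ (a)**: a quasi-compact quasi-separated morphism whose direct image preserves epimorphisms of
quasi-coherent modules is affine. -/
theorem isAffineHom_of_epi {Y : Scheme.{u}} (f : X ⟶ Y) [QuasiCompact f] [QuasiSeparated f]
    (h : ∀ (F F'' : X.Modules) (p : F ⟶ F''), F.IsQuasicoherent → F''.IsQuasicoherent → Epi p →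
      Epi ((Scheme.Modules.pushforward f).map p)) : IsAffineHom f := by
  refine ⟨fun V hV => ?_⟩
  apply isAffineOpen_of_surjective
  · exact QuasiCompact.isCompact_preimage (f := f) _ V.isOpen hV.isCompact
  · intro l
    have := isQuasicoherent_structureModule' X
    have hP := isQuasicoherent_Pn l
    have hC : (cokernel (psi l)).IsQuasicoherent := isQuasicoherent_cokernel (psi l)
    have hI : (Abelian.image (psi l)).IsQuasicoherent := isQuasicoherent_kernel (cokernel.π (psi l))
    have hepi := h (Pn l) (Abelian.image (psi l)) (Abelian.factorThruImage (psi l)) hP hI inferInstance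
    have h1 : ((Scheme.Modules.pushforward f).obj (Pn l)).IsQuasicoherent := isQuasicoherent_pushforward f _
    have h2 : ((Scheme.Modules.pushforward f).obj (Abelian.image (psi l))).IsQuasicoherent :=
      isQuasicoherent_pushforward f _
    exact surjective_app_of_epi_of_isAffineOpen
      ((Scheme.Modules.pushforward f).map (Abelian.factorThruImage (psi l))) hV

end Groth.Agent.Lib.T2H5.SerreRelGen
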