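import Mathlib
import Groth.Agent.Lib.T2H5LerayVan
import Groth.Agent.Lib.T2H5RpushAffine
import Groth.Agent.Lib.LeadRpushCmp
import Groth.Agent.Lib.Helper23PushBound
import Groth.Agent.Lib.Helper23Extend2
import Groth.Agent.Lib.Helper16Restr
import Groth.Agent.Lib.T2H5Chevalley
import Groth.Agent.Lib.T2H5SerreRelGen
import Groth.Agent.S0028

/-!
# Vanishing of higher direct images above a degree is stable under base change (helper5)

Namespace `Groth.Agent.Lib.T2H5.RpushBC`.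
-/

set_option autoImplicit false
set_option linter.style.haveILetI false
set_option linter.unusedSectionVars false
universe u
open CategoryTheory CategoryTheory.Limits Opposite TopologicalSpace AlgebraicGeometry Abelian ZeroObject

namespace Groth.Agent.Lib.T2H5.RpushBC

open Groth.Agent.Lib.Helper23.AffVanish Groth.Agent.Lib.Helper23.QCohLocal
open Groth.Agent.Lib.T2H5.RpushAffine Groth.Agent.Lib.T2H5.LerayVan

section Square

variable {X Y X' Y' : Scheme.{u}} (f : X ⟶ Y) (g : Y' ⟶ Y) (f' : X' ⟶ Y') (g' : X' ⟶ X)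

theorem exists_restricted_square (sq : IsPullback g' f' f g) (V : Y.Opens) (V' : Y'.Opens)
    (hle : V' ≤ g ⁻¹ᵁ V) :
    ∃ (h : (↑(f' ⁻¹ᵁ V') : Scheme.{u}) ⟶ ↑(f ⁻¹ᵁ V)) (gV : (↑V' : Scheme.{u}) ⟶ ↑V),
      h ≫ (f ⁻¹ᵁ V).ι = (f' ⁻¹ᵁ V').ι ≫ g' ∧ gV ≫ V.ι = V'.ι ≫ g ∧
        IsPullback h (f' ∣_ V') (f ∣_ V) gV := by
  have hr1 : Set.range (V'.ι ≫ g) ⊆ Set.range V.ι := by
    rintro _ ⟨y, rfl⟩
    rw [Scheme.Opens.range_ι]
    exact hle y.2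
  let gV : (↑V' : Scheme.{u}) ⟶ ↑V := IsOpenImmersion.lift V.ι (V'.ι ≫ g) hr1
  have hgV : gV ≫ V.ι = V'.ι ≫ g := IsOpenImmersion.lift_fac _ _ _
  have hr2 : Set.range ((f' ⁻¹ᵁ V').ι ≫ g') ⊆ Set.range (f ⁻¹ᵁ V).ι := by
    rintro _ ⟨x, rfl⟩
    rw [Scheme.Opens.range_ι]
    change f ((f' ⁻¹ᵁ V').ι ≫ g' |>.base x) ∈ V
    have h1 : f (g' x.1) = g (f' x.1) := by
      have := congrArg (fun φ : X' ⟶ Y => φ.base x.1) sq.w
      exact this
    have h2 : f' x.1 ∈ V' := x.2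
    have h3 : g (f' x.1) ∈ V := hle h2
    rw [← h1] at h3
    exact h3
  let h : (↑(f' ⁻¹ᵁ V') : Scheme.{u}) ⟶ ↑(f ⁻¹ᵁ V) :=
    IsOpenImmersion.lift (f ⁻¹ᵁ V).ι ((f' ⁻¹ᵁ V').ι ≫ g') hr2
  have hh : h ≫ (f ⁻¹ᵁ V).ι = (f' ⁻¹ᵁ V').ι ≫ g' := IsOpenImmersion.lift_fac _ _ _
  refine ⟨h, gV, hh, hgV, ?_⟩
  have s1 : IsPullback (f' ⁻¹ᵁ V').ι (f' ∣_ V') f' V'.ι := (isPullback_morphismRestrict f' V').flip
  have s2 : IsPullback ((f' ⁻¹ᵁ V').ι ≫ g') (f' ∣_ V') f (V'.ι ≫ g) := s1.paste_horiz sq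
  have t : IsPullback (f ⁻¹ᵁ V).ι (f ∣_ V) f V.ι := (isPullback_morphismRestrict f V).flip
  rw [← hh, ← hgV] at s2
  refine IsPullback.of_right s2 ?_ t
  have w1 : (f ∣_ V) ≫ V.ι = (f ⁻¹ᵁ V).ι ≫ f := (isPullback_morphismRestrict f V).w
  have w2 : (f' ∣_ V') ≫ V'.ι = (f' ⁻¹ᵁ V').ι ≫ f' := (isPullback_morphismRestrict f' V').w
  rw [← cancel_mono V.ι, Category.assoc, Category.assoc, hgV, w1, ← Category.assoc, hh, Category.assoc,
    sq.w, ← Category.assoc, ← w2, Category.assoc]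

theorem isAffineHom_of_restricted (V : Y.Opens) (V' : Y'.Opens) (hV : IsAffineOpen V) (hV' : IsAffineOpen V')
    (h : (↑(f' ⁻¹ᵁ V') : Scheme.{u}) ⟶ ↑(f ⁻¹ᵁ V)) (gV : (↑V' : Scheme.{u}) ⟶ ↑V)
    (pb : IsPullback h (f' ∣_ V') (f ∣_ V) gV) : IsAffineHom h := by
  have : IsAffine (↑V : Scheme.{u}) := hV
  have : IsAffine (↑V' : Scheme.{u}) := hV'
  have : IsAffineHom gV := inferInstance
  exact MorphismProperty.of_isPullback (P := @IsAffineHom) pb.flip inferInstance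

end Square

section Aux

variable {X : Scheme.{u}}

theorem subsingleton_HH_restrict_iff (U : X.Opens) (H : X.Modules) (n : ℕ) :
    Subsingleton (Coh.HH (↑U : Scheme.{u}) (H.restrict U.ι) n) ↔ Subsingleton (HE (ab' H) n U) := by
  obtain ⟨eq1⟩ := Groth.Agent.Lib.Helper16.Restr.nonempty_HU_equiv (X := X.carrier) U (ab' H) n
  constructor
  · intro h
    have h' : Subsingleton (CohTop.H (CohTop.restr (ab' H) U) n) := h
    have h2 : Subsingleton (CohTop.HU (X := X.carrier) (ab' H) n U) := @Equiv.subsingleton _ _ eq1.toEquiv h'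
    exact h2
  · intro h
    have h' : Subsingleton (CohTop.HU (X := X.carrier) (ab' H) n U) := h
    exact @Equiv.subsingleton _ _ eq1.symm.toEquiv h'

theorem subsingleton_HH_iff_HE_top (H : X.Modules) (n : ℕ) :
    Subsingleton (Coh.HH X H n) ↔ Subsingleton (HE (ab' H) n ⊤) :=
  ⟨fun h => @Equiv.subsingleton _ _ (HETopEquivH X.carrier (ab' H) n).toEquiv h,
    fun h => @Equiv.subsingleton _ _ (HETopEquivH X.carrier (ab' H) n).symm.toEquiv h⟩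

theorem subsingleton_sections_of_isZero {T : TopCat.{u}} (A : CohTop.Ab T) (hA : IsZero A) (V : Opens T) :
    Subsingleton (A.obj.obj (op V)) := by
  refine ⟨fun a b => ?_⟩
  have key : ∀ s : A.obj.obj (op V), s = 0 := by
    intro s
    have h1 : (𝟙 A : A ⟶ A) = 0 := hA.eq_of_src _ _
    have h2 : ((𝟙 A : A ⟶ A).hom.app (op V)).hom s = s := rfl
    rw [h1] at h2
    exact h2.symm
  rw [key a, key b]

theorem subsingleton_HE_preimage_of_isZero {Y : Scheme.{u}} (f : X ⟶ Y) [QuasiCompact f] [QuasiSeparated f]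
    (M : X.Modules) [M.IsQuasicoherent] (n : ℕ)
    (hz : IsZero ((Coh.RpushAb f (n + 1)).obj (Coh.toAb M))) {V : Y.Opens} (hV : IsAffineOpen V) :
    Subsingleton (HE (ab' M) (n + 1) (f ⁻¹ᵁ V)) := by
  obtain ⟨c, hnat, hsurj, hinj⟩ := Groth.Agent.Lib.Lead.RpushCmp.exists_comparison f.base (ab' M) n
  have hb := bijective_comparison_affineOpen f M (n + 1) ((CohTop.Rpush f.base (n + 1)).obj (ab' M))
    c hnat hsurj hinj V hV
  have ht : Subsingleton (((CohTop.Rpush f.base (n + 1)).obj (ab' M)).obj.obj (op V)) :=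
    subsingleton_sections_of_isZero _ hz V
  exact hb.1.subsingleton

end Aux

section Main

variable {X Y X' Y' : Scheme.{u}} (f : X ⟶ Y) (g : Y' ⟶ Y) (f' : X' ⟶ Y') (g' : X' ⟶ X)
  [CompactSpace X] [QuasiSeparatedSpace X] [CompactSpace Y] [QuasiSeparatedSpace Y]

open Groth.Agent.Lib.Helper23.Extend Groth.Agent.Lib.T2H5.Chevalley in
theorem subsingleton_HE_preimage_bc (sq : IsPullback g' f' f g) (d : ℕ)
    (hvan : ∀ (M : X.Modules) (i : ℕ), Coh.IsQCoh M → d < i →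
      Limits.IsZero ((Coh.RpushAb f i).obj (Coh.toAb M)))
    (M' : X'.Modules) [M'.IsQuasicoherent] {V : Y.Opens} {V' : Y'.Opens} (hV : IsAffineOpen V)
    (hV' : IsAffineOpen V') (hle : V' ≤ g ⁻¹ᵁ V) (n : ℕ) (hn : d ≤ n) :
    Subsingleton (HE (ab' M') (n + 1) (f' ⁻¹ᵁ V')) := by
  obtain ⟨h, gV, hh, hgV, pb⟩ := exists_restricted_square f g f' g' sq V V' hle
  haveI : IsAffineHom h := isAffineHom_of_restricted f f' V V' hV hV' h gV pb
  -- the modules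
  haveI hN : (M'.restrict (f' ⁻¹ᵁ V').ι).IsQuasicoherent :=
    Scheme.Modules.isQuasicoherent_restrictFunctor (f' ⁻¹ᵁ V').ι M'
  haveI hP : ((Scheme.Modules.pushforward h).obj (M'.restrict (f' ⁻¹ᵁ V').ι)).IsQuasicoherent :=
    isQuasicoherent_pushforward h _
  -- the open immersion of `f⁻¹V` is quasi-compact
  have hWc : IsCompact ((f ⁻¹ᵁ V : X.Opens) : Set X) :=
    QuasiCompact.isCompact_preimage (f := f) _ V.isOpen hV.isCompact
  haveI : CompactSpace (↑(f ⁻¹ᵁ V) : Scheme.{u}) := isCompact_iff_compactSpace.1 hWc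
  haveI : QuasiCompact (f ⁻¹ᵁ V).ι := inferInstance
  haveI : (0 : X.Modules).IsQuasicoherent := Groth.Agent.Lib.T2H5.SerreRelGen.isQuasicoherent_zero
  obtain ⟨H, ψ, e, hH, -⟩ := exists_extension' (f ⁻¹ᵁ V).ι (0 : X.Modules)
    ((Scheme.Modules.pushforward h).obj (M'.restrict (f' ⁻¹ᵁ V').ι)) 0
  haveI := hH
  have h1 : IsZero ((Coh.RpushAb f (n + 1)).obj (Coh.toAb H)) := hvan H (n + 1) hH (by omega)
  have h2 : Subsingleton (HE (ab' H) (n + 1) (f ⁻¹ᵁ V)) := subsingleton_HE_preimage_of_isZero f H n h1 hV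
  have h3 : Subsingleton (Coh.HH (↑(f ⁻¹ᵁ V) : Scheme.{u}) (H.restrict (f ⁻¹ᵁ V).ι) (n + 1)) :=
    (subsingleton_HH_restrict_iff (f ⁻¹ᵁ V) H (n + 1)).2 h2
  have h4 : Subsingleton (Coh.HH (↑(f ⁻¹ᵁ V) : Scheme.{u})
      ((Scheme.Modules.pushforward h).obj (M'.restrict (f' ⁻¹ᵁ V').ι)) (n + 1)) :=
    subsingleton_HH_of_iso e (n + 1) h3
  have h5 : Subsingleton (HE ((CohTop.push h.base).obj (ab' (M'.restrict (f' ⁻¹ᵁ V').ι))) (n + 1) ⊤) :=
    (subsingleton_HH_iff_HE_top _ (n + 1)).1 h4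
  have hR : ∀ m : ℕ, IsZero ((CohTop.Rpush h.base (m + 1)).obj (ab' (M'.restrict (f' ⁻¹ᵁ V').ι))) :=
    fun m => Groth.Agent.S0028.result h (M'.restrict (f' ⁻¹ᵁ V').ι) (m + 1) (Nat.succ_pos m)
  have h6 : Subsingleton (HE (ab' (M'.restrict (f' ⁻¹ᵁ V').ι)) (n + 1) ((Opens.map h.base).obj ⊤)) :=
    (subsingleton_HE_iff_push h.base (ab' (M'.restrict (f' ⁻¹ᵁ V').ι)) hR ⊤ n).2 h5
  have h7 : Subsingleton (Coh.HH (↑(f' ⁻¹ᵁ V') : Scheme.{u}) (M'.restrict (f' ⁻¹ᵁ V').ι) (n + 1)) :=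
    (subsingleton_HH_iff_HE_top _ (n + 1)).2 h6
  exact (subsingleton_HH_restrict_iff (f' ⁻¹ᵁ V') M' (n + 1)).1 h7

theorem isZero_RpushAb_bc (sq : IsPullback g' f' f g) (d : ℕ)
    (hvan : ∀ (M : X.Modules) (i : ℕ), Coh.IsQCoh M → d < i →
      Limits.IsZero ((Coh.RpushAb f i).obj (Coh.toAb M)))
    (M' : X'.Modules) [M'.IsQuasicoherent] (i : ℕ) (hi : d < i) :
    Limits.IsZero ((Coh.RpushAb f' i).obj (Coh.toAb M')) := by
  obtain ⟨n, rfl⟩ : ∃ n, i = n + 1 := ⟨i - 1, by omega⟩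
  let B : Set Y'.Opens := {V' | IsAffineOpen V' ∧ ∃ V : Y.Opens, IsAffineOpen V ∧ V' ≤ g ⁻¹ᵁ V}
  have hB : Opens.IsBasis B := by
    rw [Opens.isBasis_iff_nbhd]
    intro O y' hy'
    obtain ⟨V, hVaff, hyV, -⟩ := (Opens.isBasis_iff_nbhd.1 Y.isBasis_affineOpens)
      (show g y' ∈ (⊤ : Y.Opens) from trivial)
    obtain ⟨V', hV'aff, hyV', hV'le⟩ := (Opens.isBasis_iff_nbhd.1 Y'.isBasis_affineOpens)
      (show y' ∈ O ⊓ g ⁻¹ᵁ V from ⟨hy', hyV⟩)
    exact ⟨V', ⟨hV'aff, V, hVaff, hV'le.trans inf_le_right⟩, hyV', hV'le.trans inf_le_left⟩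
  refine Groth.Agent.Lib.Helper23.PushBound.isZero_Rpush_of_basis_bound f'.base B hB (ab' M') d ?_ n
    (by omega)
  rintro V' ⟨hV'aff, V, hVaff, hle⟩ i hi
  exact subsingleton_HE_preimage_bc f g f' g' sq d hvan M' hVaff hV'aff hle i hi

end Main

end Groth.Agent.Lib.T2H5.RpushBC
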