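import Mathlib
import Groth.Prelude.Def_CohB1
import Groth.Agent.Lib.Helper13ProjBC2
import Groth.Agent.Lib.Helper13RelProjA
import Groth.Agent.Lib.T2H5PnOverB

set_option autoImplicit false

/-!
# The standard charts `Proj A[T_0,…,T_n] ⟶ P^n_Y` over the affine opens of the base

Variant of `T2H5PnOverC.emb` with the grading of `A[T]` by `A`-submodules.
-/

namespace Groth.Agent.Lib.T2H6.PnChart

open CategoryTheory CategoryTheory.Limits AlgebraicGeometry Opposite TopologicalSpace
open scoped HomogeneousIdeal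

universe u

noncomputable section

attribute [local instance] MvPolynomial.algebraMvPolynomial

section Ring

variable (R₀ A : Type u) [CommRing R₀] [CommRing A] [Algebra R₀ A] (n : ℕ)

/-- the homomorphism of graded rings between polynomial rings induced by `R₀ → A` -/
def phiA : CohB1.polyGrading n R₀ →+*ᵍ CohB1.polyGrading n A where
  toRingHom := MvPolynomial.map (algebraMap R₀ A)
  map_mem := fun hx => MvPolynomial.IsHomogeneous.map hx (algebraMap R₀ A)

@[simp] theorem phiA_apply (p : MvPolynomial (Fin (n + 1)) R₀) :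
    phiA R₀ A n p = MvPolynomial.map (algebraMap R₀ A) p := rfl

theorem irr_phiA : (CohB1.polyGrading n A)₊ ≤ ((CohB1.polyGrading n R₀)₊).map (phiA R₀ A n) :=
  Groth.Agent.Helper13ProjBC.irrelevant_le_map_cat
    (Groth.Agent.Lib.T2H5.PnOver.isPushout_poly R₀ A n) (phiA R₀ A n)
    (fun _ => rfl) (fun a => SetLike.algebraMap_mem_graded (CohB1.polyGrading n A) a)

theorem isPullback_phiA :
    IsPullback (Proj.map (phiA R₀ A n) (irr_phiA R₀ A n)) (CohB1.ProjSpace.toSpec n A)
      (CohB1.ProjSpace.toSpec n R₀) (Spec.map (CommRingCat.ofHom (algebraMap R₀ A))) :=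
  Groth.Agent.Helper13ProjBC.isPullback_proj_cat
    (Groth.Agent.Lib.T2H5.PnOver.isPushout_poly R₀ A n) (phiA R₀ A n)
    (fun _ => rfl) (irr_phiA R₀ A n)
    (CommRingCat.ofHom (algebraMap R₀ (CohB1.polyGrading n R₀ 0))) (fun _ => rfl)
    (CommRingCat.ofHom (algebraMap A (CohB1.polyGrading n A 0))) (fun _ => rfl)

end Ring

section Over

variable (R₀ A : Type u) [CommRing R₀] [CommRing A] [Algebra R₀ A] (n : ℕ)
variable {Y : Scheme.{u}} (tY : Y ⟶ Spec (CommRingCat.of R₀)) (j : Spec (CommRingCat.of A) ⟶ Y)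
  (hj : j ≫ tY = Spec.map (CommRingCat.ofHom (algebraMap R₀ A)))

/-- the inclusion of projective space over `A` into projective space over `Y` -/
def emb : Proj (CohB1.polyGrading n A) ⟶ pullback (CohB1.ProjSpace.toSpec n R₀) tY :=
  pullback.lift (Proj.map (phiA R₀ A n) (irr_phiA R₀ A n)) (CohB1.ProjSpace.toSpec n A ≫ j) (by
    rw [Category.assoc, hj]
    exact (isPullback_phiA R₀ A n).w)

theorem emb_fst : emb R₀ A n tY j hj ≫ pullback.fst _ _ =
    Proj.map (phiA R₀ A n) (irr_phiA R₀ A n) := pullback.lift_fst _ _ _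

theorem emb_snd : emb R₀ A n tY j hj ≫ pullback.snd _ _ = CohB1.ProjSpace.toSpec n A ≫ j :=
  pullback.lift_snd _ _ _

theorem isPullback_emb :
    IsPullback (emb R₀ A n tY j hj) (CohB1.ProjSpace.toSpec n A)
      (pullback.snd (CohB1.ProjSpace.toSpec n R₀) tY) j := by
  refine IsPullback.of_right ?_ (emb_snd R₀ A n tY j hj)
    (IsPullback.of_hasPullback (CohB1.ProjSpace.toSpec n R₀) tY)
  rw [emb_fst, hj]
  exact isPullback_phiA R₀ A n

variable [IsOpenImmersion j]

instance isOpenImmersion_emb : IsOpenImmersion (emb R₀ A n tY j hj) :=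
  MorphismProperty.of_isPullback (P := @IsOpenImmersion) (isPullback_emb R₀ A n tY j hj).flip
    inferInstance

theorem range_emb : Set.range (emb R₀ A n tY j hj).base =
    (pullback.snd (CohB1.ProjSpace.toSpec n R₀) tY).base ⁻¹' Set.range j.base := by
  have h := isPullback_emb R₀ A n tY j hj
  have e1 : emb R₀ A n tY j hj = h.isoPullback.hom ≫ pullback.fst _ _ := by simp
  rw [e1, Scheme.Hom.comp_base, TopCat.coe_comp, Set.range_comp,
    Set.range_eq_univ.mpr (by
      have : Function.Surjective h.isoPullback.hom.base := by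
        exact (TopCat.homeoOfIso (Scheme.forgetToTop.mapIso h.isoPullback)).surjective
      exact this), Set.image_univ]
  exact Scheme.Pullback.range_fst _ _

end Over

section Funct

theorem projMap_congr {A B σ τ : Type u} [CommRing A] [SetLike σ A] [AddSubgroupClass σ A]
    [CommRing B] [SetLike τ B] [AddSubgroupClass τ B]
    {𝒜 : ℕ → σ} {ℬ : ℕ → τ} [GradedRing 𝒜] [GradedRing ℬ]
    {f f' : 𝒜 →+*ᵍ ℬ} (h : f = f') (hf : ℬ₊ ≤ 𝒜₊.map f) (hf' : ℬ₊ ≤ 𝒜₊.map f') :
    Proj.map f hf = Proj.map f' hf' := by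
  subst h; rfl

variable (R₀ A A' : Type u) [CommRing R₀] [CommRing A] [CommRing A'] [Algebra R₀ A] [Algebra A A']
  [Algebra R₀ A'] [IsScalarTower R₀ A A'] (n : ℕ)
variable {Y : Scheme.{u}} (tY : Y ⟶ Spec (CommRingCat.of R₀)) (j : Spec (CommRingCat.of A) ⟶ Y)
  (hj : j ≫ tY = Spec.map (CommRingCat.ofHom (algebraMap R₀ A)))
  (j' : Spec (CommRingCat.of A') ⟶ Y)
  (hj' : j' ≫ tY = Spec.map (CommRingCat.ofHom (algebraMap R₀ A')))

theorem phiA_comp : (phiA A A' n).comp (phiA R₀ A n) = phiA R₀ A' n := by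
  ext p : 1
  change MvPolynomial.map (algebraMap A A') (MvPolynomial.map (algebraMap R₀ A) p) =
    MvPolynomial.map (algebraMap R₀ A') p
  rw [MvPolynomial.map_map, ← IsScalarTower.algebraMap_eq]

set_option backward.isDefEq.respectTransparency false in
/-- compatibility of the charts with restriction of the coefficients -/
theorem map_phiA_emb (hjj' : j' = Spec.map (CommRingCat.ofHom (algebraMap A A')) ≫ j) :
    Proj.map (phiA A A' n) (irr_phiA A A' n) ≫ emb R₀ A n tY j hj = emb R₀ A' n tY j' hj' := by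
  apply pullback.hom_ext
  · rw [Category.assoc, emb_fst, emb_fst, ← Proj.map_comp]
    exact projMap_congr (phiA_comp R₀ A A' n) _ _
  · rw [Category.assoc, emb_snd, emb_snd, hjj', ← Category.assoc, ← Category.assoc]
    congr 1
    exact (isPullback_phiA A A' n).w

end Funct

end

end Groth.Agent.Lib.T2H6.PnChart
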